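import Groth.Statements.S0055
import Groth.Agent.S4474
import Groth.Agent.AmpleVan.Uniform
import Groth.Agent.CohBasic.RpushAbZero
import Groth.Agent.QCoh.RpushProper

set_option autoImplicit false
universe u
open Coherent

namespace Groth.Agent.S0055

open AlgebraicGeometry CategoryTheory in
theorem HH_iso {X : Scheme.{u}} {M N : X.Modules} (e : M ≅ N) (p : ℕ) (h : Subsingleton (Coh.HH X M p)) :
    Subsingleton (Coh.HH X N p) :=
  (Groth.Agent.QCoh.HHcongr (RingHom.id Γ(X, ⊤) : Γ(X, ⊤) →+* Coh.Γtop X) e p).toEquiv.symm.subsingleton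

open AlgebraicGeometry CategoryTheory in
/-- Let S be Noetherian, f : X → S proper, F coherent on X and L invertible on X, ample on f⁻¹(W) for
every affine open W of S (relatively ample). Then there is n₀ with R^p f_*(F ⊗ L^{⊗n}) = 0 for all n
≥ n₀ and p > 0. -/
theorem result {X S : Scheme.{u}} (f : X ⟶ S) [IsProper f]
    [IsNoetherian S] (L : X.Modules) (hL : PicF.IsInvertible L)
    (ha : ∀ W : S.Opens, IsAffineOpen W → CohB1.IsAmple (L.restrict (f ⁻¹ᵁ W).ι))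
    (M : X.Modules) (hM : Coh.IsCoh M) :
    ∃ n₀ : ℕ, ∀ n : ℕ, n₀ ≤ n → ∀ p : ℕ, 0 < p →
      Limits.IsZero ((Coh.RpushAb f p).obj (Coh.toAb (CohB1.tensorMod M (CohB1.tensorPow L n)))) := by
  classical
  obtain ⟨t, ht⟩ := isCompact_univ.elim_finite_subcover (fun V : S.affineOpens => (V.1 : Set S))
    (fun V => V.1.2) fun x _ => by
      obtain ⟨_, ⟨V, hV, rfl⟩, hxV, -⟩ := S.isBasis_affineOpens.exists_subset_of_mem_open
        (Set.mem_univ x) TopologicalSpace.isOpen_univ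
      exact Set.mem_iUnion.2 ⟨⟨V, hV⟩, hxV⟩
  have key : ∀ V : S.affineOpens, ∃ N, ∀ n, N ≤ n → ∀ q, Subsingleton (Coh.HH ((f ⁻¹ᵁ V.1 : X.Opens) : Scheme.{u})
      ((CohB1.tensorMod M (CohB1.tensorPow L n)).restrict (f ⁻¹ᵁ V.1).ι) (q + 1)) := fun V => by
    let W : X.Opens := f ⁻¹ᵁ V.1
    letI : (W : Scheme.{u}).Over (Spec (CommRingCat.of Γ(S, V.1))) := ⟨Groth.Agent.QCoh.overSpec f V.2⟩
    haveI : IsProper ((W : Scheme.{u}) ↘ Spec (CommRingCat.of Γ(S, V.1))) := by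
      show IsProper ((f ∣_ V.1) ≫ V.2.isoSpec.hom)
      infer_instance
    haveI : IsNoetherianRing Γ(S, V.1) := IsLocallyNoetherian.component_noetherian V
    obtain ⟨d, hd⟩ := Groth.Agent.AmpleVan.exists_vanishing (A := Γ(S, V.1)) (ha V.1 V.2)
      (Groth.Agent.QCoh.isCoh_restrict_open (U := W) hM)
    refine ⟨d, fun n hn q => ?_⟩
    obtain ⟨e⟩ := Groth.Agent.H23.PicMul.cl_eq_iff.1 (Groth.Agent.S4474.cl_restrict_twist W M L n)
    exact HH_iso e _ (hd n hn q)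
  choose N hN using key
  refine ⟨t.sup N, fun n hn p hp => ?_⟩
  obtain ⟨q, rfl⟩ := Nat.exists_eq_add_of_le' hp
  refine Groth.Agent.CohBasic.isZero_RpushAb_of_HH f
    (Groth.Agent.KFlatLib.isQCoh_tensor hM.1
      (Groth.Agent.ProjUPX.isQCoh_of_isInvertible (Groth.Agent.InvX.isInvertible_tensorPow hL n)))
    q (fun V : t => V.1.1) (fun V => V.1.2) (fun y => ?_) fun V => hN V.1 n ((Finset.le_sup V.2).trans hn) q
  obtain ⟨V, hV, hy⟩ := Set.mem_iUnion₂.1 (ht (Set.mem_univ y))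
  exact ⟨⟨V, hV⟩, hy⟩

end Groth.Agent.S0055
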