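import Groth.Statements.S9816
import Groth.Agent.AmpleX.BaseChange
import Groth.Agent.AmpleX.Separated
import Groth.Agent.AmpleX.Basis

set_option autoImplicit false
universe u
open CategoryTheory CategoryTheory.Limits AlgebraicGeometry TopologicalSpace
open Props

set_option backward.isDefEq.respectTransparency false
set_option backward.isDefEq.respectTransparency.types false

namespace Groth.Agent.S9816

/-- Over a quasi-separated base S, if X and Y carry ample invertible modules L and N, then the tensor
product of their pullbacks along the two projections is an ample invertible module on the fibre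
product of X and Y over S. -/
theorem result {X Y S : Scheme.{u}} [QuasiSeparatedSpace S]
    (f : X ⟶ S) (g : Y ⟶ S) (L : X.Modules) (N : Y.Modules) (hL : CohB1.IsAmple L) (hN : CohB1.IsAmple N) :
    CohB1.IsAmple (CohB1.tensorMod ((Scheme.Modules.pullback (pullback.fst f g)).obj L)
      ((Scheme.Modules.pullback (pullback.snd f g)).obj N)) := by
  have hXs := AmpleX.isSeparated_of_isAmple hL
  have hYs := AmpleX.isSeparated_of_isAmple hN
  haveI := hL.2.1
  haveI := hN.2.1
  have hi := InvX.isInvertible_tensorMod (PicClLib.isInvertible_pullback (pullback.fst f g) hL.1)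
    (PicClLib.isInvertible_pullback (pullback.snd f g) hN.1)
  haveI : QuasiCompact g := quasiCompact_of_compactSpace g
  haveI : CompactSpace ↥(pullback f g) := QuasiCompact.compactSpace_of_compactSpace (pullback.fst f g)
  refine AmpleX.isAmple_iff.2 ⟨hi, inferInstance, fun z => ?_⟩
  let p := pullback.fst f g
  let q := pullback.snd f g
  obtain ⟨U, hU, hzU, -⟩ := exists_isAffineOpen_mem_and_subset (x := f (p z)) (U := (⊤ : S.Opens)) trivial
  have hzU₂ : q z ∈ g ⁻¹ᵁ U := by
    show g (q z) ∈ U
    rw [← Scheme.Hom.comp_apply, ← pullback.condition, Scheme.Hom.comp_apply]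
    exact hzU
  obtain ⟨m, hm, s, hxs, hsU, hsa⟩ := AmpleX.exists_genLocus_le hL (show p z ∈ f ⁻¹ᵁ U from hzU)
  obtain ⟨k, hk, t, hyt, htU, hta⟩ := AmpleX.exists_genLocus_le hN hzU₂
  rw [AmpleX.genLocus_eq_locus] at hxs hsU hsa hyt htU hta
  obtain ⟨a, ha⟩ := AmpleX.exists_pull_section hL.1 p (InvX.one s)
  obtain ⟨b, hb⟩ := AmpleX.exists_pull_section hN.1 q (InvX.one t)
  obtain ⟨c, hc⟩ := AmpleX.exists_tensor_section (PicClLib.isInvertible_pullback p hL.1)
    (PicClLib.isInvertible_pullback q hN.1) (U := (⊤ : Scheme.Opens (pullback f g))) hm hk a b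
  refine ⟨m * k, Nat.mul_pos hm hk, InvX.ofSect c, ?_⟩
  rw [AmpleX.genLocus_eq_locus, InvX.one_ofSect, hc, ha, hb]
  exact ⟨⟨hxs, hyt⟩, AmpleX.isAffineOpen_fst_inf_snd f g hU hsa hta hsU htU⟩

end Groth.Agent.S9816
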