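import Groth.Statements.S17505
import Groth.Agent.AVEuler.Degenerate
-- import your own Groth.Agent.* helpers here

set_option autoImplicit false
set_option backward.isDefEq.respectTransparency false
set_option backward.isDefEq.respectTransparency.types false
set_option maxHeartbeats 800000
set_option linter.style.haveILetI false
universe u
open CategoryTheory CategoryTheory.Limits MonoidalCategory CartesianMonoidalCategory MonObj GrpObj AlgebraicGeometry
open AbVar

attribute [-instance] CategoryTheory.catToReflQuiver
open scoped Groth.Agent.H23.PicMul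

namespace Groth.Agent.S17505

open Groth.Agent.H23 Groth.Agent.H23.TrivBasic Groth.Agent.AVPair
open scoped Groth.Agent.H23.PicMul

/-- In the Riemann–Roch formula χ(L)² = deg φ_L the degree is 0 by convention when φ_L is not finite,
i.e. when L is degenerate; this is that case. Let k be an algebraically closed field, X an abelian
variety over k (a proper, geometrically integral k-group scheme) and L an invertible O_X-module
which is degenerate: infinitely many k-rational points x of X satisfy t_x^*L ≅ L, where t_x : X → X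
is translation by x (the product of the identity and the constant map x in the group of maps X → X).
Then χ(X, L) = 0. (Stated over an algebraically closed field, where degeneracy of L, i.e. K(L) not
finite, amounts to infinitely many rational points x with t_x^*L ≅ L.) -/
theorem result
    (k : Type u) [Field k] [IsAlgClosed k] (X : Over (Spec (CommRingCat.of k))) [GrpObj X] [IsProper X.hom] [GeometricallyIntegral X.hom]
    (L : X.left.Modules) (hL : PicF.IsInvertible L)
    (hdeg : Set.Infinite {x : 𝟙_ (Over (Spec (CommRingCat.of k))) ⟶ X |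
      Nonempty ((Scheme.Modules.pullback (𝟙 X * (toUnit X ≫ x)).left).obj L ≅ L)}) :
    @Curv2.euler k _ X.left ⟨X.hom⟩ L = 0 := by
  haveI : IsIntegral X.left := GeometricallyIntegral.isIntegral_of_subsingleton X.hom
  haveI : IsLocallyNoetherian X.left := LocallyOfFiniteType.isLocallyNoetherian X.hom
  haveI : CompactSpace X.left := QuasiCompact.compactSpace_of_compactSpace X.hom
  haveI : IsNoetherian X.left := {}
  let l : PicF.Cl X.left := PicF.cl L
  have hli : PicF.IsInvertibleCl l := ⟨L, rfl, hL⟩
  obtain ⟨d, hd, hcd⟩ := exists_inv (PicMul.isInvertibleCl_mul (isInv_pl (fst X X) hli) (isInv_pl (snd X X) hli))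
  obtain ⟨M, hMd, hM⟩ := PicMul.isInvertibleCl_mul (isInv_pl (fst X X * snd X X) hli) hd
  have slice : ∀ {T : Over (Spec (CommRingCat.of k))} (φ : T ⟶ X ⊗ X),
      pl ((φ ≫ fst X X) * (φ ≫ snd X X)) l = pl (φ ≫ fst X X) l * pl (φ ≫ snd X X) l ↔
        Triv ((Scheme.Modules.pullback φ.left).obj M) := by
    intro T φ
    have e : pl φ (PicF.cl M) = pl ((φ ≫ fst X X) * (φ ≫ snd X X)) l * pl φ d := by
      rw [hMd, map_mul, pl_pl, MonObj.comp_mul]
    have e' : pl (φ ≫ fst X X) l * pl (φ ≫ snd X X) l * pl φ d = 1 := by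
      have := congrArg (pl φ) hcd
      simpa only [map_mul, map_one, pl_pl] using this
    rw [triv_iff, e]
    exact ⟨fun h => by rw [h, e'], fun h => eq_of_mul_inv e' h⟩
  let f := (snd X X).left
  haveI : IsProper f := inferInstanceAs (IsProper (pullback.snd X.hom X.hom))
  haveI : Flat f := inferInstanceAs (Flat (pullback.snd X.hom X.hom))
  haveI : GeometricallyIntegral f := inferInstanceAs (GeometricallyIntegral (pullback.snd X.hom X.hom))
  have hE := SeesawGlobal.isClosed_fieldTriv f hM
  obtain ⟨S, hSfin, hSc, hSi, hSU⟩ :=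
    TopologicalSpace.NoetherianSpace.exists_finite_set_isClosed_irreducible hE
  have hEinf : Set.Infinite {w : X.left | SeesawGlobal.FieldTriv f M w} := by
    refine fun hfin => hdeg ((hfin.preimage
      (f := fun a : 𝟙_ (Over (Spec (CommRingCat.of k))) ⟶ X => a.left (IsLocalRing.closedPoint k)) ?_).subset
      fun a ha => ?_)
    · intro a _ b _ hab
      apply Over.OverMorphism.ext
      exact congrArg Subtype.val ((pointEquivClosedPoint X.hom).injective
        (a₁ := ⟨a.left, Over.w a⟩) (a₂ := ⟨b.left, Over.w b⟩) (Subtype.ext hab))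
    · refine CubeAb.fieldTriv_of_rational hM a ((slice _).1 ?_)
      rw [lift_fst, lift_snd, pl_id, show pl (toUnit X ≫ a) l = 1 from pl_const hli a, _root_.mul_one]
      exact (PicGrp.cl_eq_cl_iff _ _).2 ha
  obtain ⟨Z, hZS, hZinf⟩ : ∃ Z ∈ S, Set.Infinite Z := by
    by_contra hcon
    push_neg at hcon
    exact hEinf (hSU ▸ Set.Finite.sUnion hSfin fun t ht => hcon t ht)
  have hsub : Z ⊆ {w : X.left | SeesawGlobal.FieldTriv f M w} := hSU ▸ Set.subset_sUnion_of_mem hZS
  obtain ⟨V, w, hw, hr, hVp, _, hVi⟩ := EquidimFibres.exists_integral_sub (X := X) (hSc Z hZS) (hSi Z hZS)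
  have hW : Triv ((Scheme.Modules.pullback (X ◁ w).left).obj M) := by
    refine AVSeesaw.triv_of_slices X V _ (PicClLib.isInvertible_pullback _ hM) (fun z hz => ?_) 1 ?_
    · refine AVSeesaw.triv_fibre_of_points X V _ (fun a => ?_) z hz
      rw [triv_iff]
      show pl (lift (𝟙 X) (toUnit X ≫ a)) (pl (X ◁ w) (PicF.cl M)) = 1
      rw [pl_pl, lift_whiskerLeft, ← triv_iff]
      have hmem : (a ≫ w).left (IsLocalRing.closedPoint k) ∈ {w : X.left | SeesawGlobal.FieldTriv f M w} :=
        hsub (hr ▸ ⟨_, rfl⟩)
      refine SeesawGlobal.triv_of_factor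
        (pullback.lift (lift (𝟙 X) (toUnit X ≫ a ≫ w)).left X.hom ?_ :
          X.left ⟶ pullback f (a ≫ w).left) ?_ (hmem k (a ≫ w).left rfl)
      · show _ ≫ (snd X X).left = _
        rw [← Over.comp_left, lift_snd, Over.comp_left]
        rfl
      · rw [pullback.lift_fst, Category.assoc]
    · rw [triv_iff]
      show pl (lift (1 : V ⟶ X) (𝟙 V)) (pl (X ◁ w) (PicF.cl M)) = 1
      rw [pl_pl, lift_whiskerLeft, ← triv_iff, ← slice]
      simp only [lift_fst, lift_snd, _root_.one_mul, Category.id_comp]
      rw [show pl (1 : V ⟶ X) l = 1 from pl_const hli η, _root_.one_mul]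
  have hfix : CubeAb.F l (fst X V * (snd X V ≫ w)) =
      CubeAb.F l (fst X V) * CubeAb.F (CubeAb.F l w) (snd X V) := by
    have h := (slice (X ◁ w)).2 hW
    rw [whiskerLeft_fst, whiskerLeft_snd, ← pl_pl (snd X V) w l] at h
    exact h
  haveI : CompactSpace V.left := QuasiCompact.compactSpace_of_compactSpace V.hom
  haveI : IsLocallyNoetherian V.left := LocallyOfFiniteType.isLocallyNoetherian V.hom
  haveI : IsNoetherian V.left := {}
  obtain ⟨h, hh⟩ : ∃ h : ℕ, topologicalKrullDim V.left = h :=
    ⟨_, VarDim.topologicalKrullDim_eq_deg_genericPoint V.hom⟩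
  obtain ⟨g, hg⟩ : ∃ g : ℕ, topologicalKrullDim X.left = g :=
    ⟨_, VarDim.topologicalKrullDim_eq_deg_genericPoint X.hom⟩
  have hpos : h ≠ 0 := by
    rintro rfl
    haveI : Nonempty V.left := inferInstance
    have := ((S5794.result V.left).1 (by exact_mod_cast hh)).1
    exact hZinf (hr ▸ Set.finite_range w.left)
  exact AVEuler.chi_eq_zero_of_fixed hg hL w hh hpos hfix


end Groth.Agent.S17505
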