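import Groth.Statements.S1667
import Groth.Agent.PicGlue.AmpleDimOne
import Groth.Agent.PicGlue.ProjSpaceBC
import Groth.Agent.VeryAmple.Main

set_option autoImplicit false
universe u
open CategoryTheory CategoryTheory.Limits AlgebraicGeometry
open Variety

namespace Groth.Agent.S1667

/-- A separated scheme of finite type over k of dimension at most one is H-quasi-projective: it admits
an immersion into some P^n_k over k. -/
theorem result (k : Type u) [Field k] (X : Scheme.{u}) [X.Over (Spec (CommRingCat.of k))] [IsSeparated (X ↘ (Spec (CommRingCat.of k)))] [LocallyOfFiniteType (X ↘ (Spec (CommRingCat.of k)))] [QuasiCompact (X ↘ (Spec (CommRingCat.of k)))] (hdim : topologicalKrullDim X ≤ 1) :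
    ∃ (n : ℕ) (i : X ⟶ CohB1.ProjSpace n k), IsImmersion i ∧ i ≫ CohB1.ProjSpace.toSpec n k = X ↘ (Spec (CommRingCat.of k)) := by
  haveI : IsLocallyNoetherian X := LocallyOfFiniteType.isLocallyNoetherian (X ↘ (Spec (CommRingCat.of k)))
  haveI : CompactSpace X := QuasiCompact.compactSpace_of_compactSpace (X ↘ (Spec (CommRingCat.of k)))
  haveI : IsNoetherian X := {}
  haveI : X.IsSeparated := ⟨by
    rw [← Limits.terminal.comp_from (X ↘ (Spec (CommRingCat.of k)))]
    infer_instance⟩
  obtain ⟨L, hL⟩ := Groth.Agent.PicGlue.exists_isAmple_of_dim_le_one hdim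
  obtain ⟨n₀, h⟩ := Groth.Agent.VeryAmple.eventually_veryAmplePn (X ↘ (Spec (CommRingCat.of k))) hL
    (Groth.Agent.InvX.isInvertible_structureModule (X := X))
  obtain ⟨n, i, hi, hif, -⟩ := h n₀ le_rfl _ rfl
  obtain ⟨e, he⟩ := Groth.Agent.PicGlue.exists_projSpace_iso n k
  refine ⟨n, i ≫ e.inv, inferInstance, ?_⟩
  rw [Category.assoc, show e.inv ≫ CohB1.ProjSpace.toSpec n k = CohB1.ProjSpaceOver.toBase n _ by
    rw [← he, e.inv_hom_id_assoc]]
  exact hif

end Groth.Agent.S1667
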