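import Groth.Statements.S1625
import Groth.Agent.S1667
import Groth.Agent.PicGlue.Dim
import Groth.Agent.VarDim.Top
import Groth.Agent.PnCoh.Chow.Proper

set_option autoImplicit false
universe u
open CategoryTheory CategoryTheory.Limits AlgebraicGeometry
open Variety

namespace Groth.Agent.S1625

/-- Let X be separated of finite type over k with dim X ≤ 1. Then there are a closed subscheme Y of some
projective space P^d_k and an open immersion j : X → Y over k whose image is dense and
scheme-theoretically dense and whose complement is a finite set of closed points. -/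
theorem result (k : Type u) [Field k] (X : Scheme.{u}) [X.Over (Spec (CommRingCat.of k))] [IsSeparated (X ↘ (Spec (CommRingCat.of k)))] [LocallyOfFiniteType (X ↘ (Spec (CommRingCat.of k)))] [QuasiCompact (X ↘ (Spec (CommRingCat.of k)))] (hdim : topologicalKrullDim X ≤ 1) :
    ∃ (d : ℕ) (Y : Scheme.{u}) (c : Y ⟶ CohB1.ProjSpace d k) (j : X ⟶ Y), IsClosedImmersion c ∧ IsOpenImmersion j ∧
      j ≫ c ≫ CohB1.ProjSpace.toSpec d k = X ↘ (Spec (CommRingCat.of k)) ∧ Dense (Set.range j.base) ∧ IsSchemeTheoreticallyDominant j ∧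
      (Set.range j.base)ᶜ.Finite ∧ ∀ y ∈ (Set.range j.base)ᶜ, IsClosed ({y} : Set Y) := by
  obtain ⟨d, i, hi, hfac⟩ := Groth.Agent.S1667.result k X hdim
  haveI := hi
  haveI : IsLocallyNoetherian X := LocallyOfFiniteType.isLocallyNoetherian (X ↘ (Spec (CommRingCat.of k)))
  haveI : CompactSpace X := QuasiCompact.compactSpace_of_compactSpace (X ↘ (Spec (CommRingCat.of k)))
  haveI : IsNoetherian X := {}
  haveI : IsProper (CohB1.ProjSpace.toSpec d k) := Groth.Agent.PnCoh.Chow.isProper_toSpec d k
  haveI : QuasiCompact (i ≫ CohB1.ProjSpace.toSpec d k) := by rw [hfac]; infer_instance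
  haveI : QuasiCompact i := .of_comp i (CohB1.ProjSpace.toSpec d k)
  let Y := i.image
  let j : X ⟶ Y := i.toImage
  let g : Y ⟶ Spec (CommRingCat.of k) := i.imageι ≫ CohB1.ProjSpace.toSpec d k
  haveI : IsLocallyNoetherian Y := LocallyOfFiniteType.isLocallyNoetherian g
  haveI : CompactSpace Y := QuasiCompact.compactSpace_of_compactSpace g
  haveI : IsNoetherian Y := {}
  have hjf : j ≫ g = X ↘ (Spec (CommRingCat.of k)) := by
    rw [← hfac]; exact (Category.assoc _ _ _).symm.trans (by rw [Scheme.Hom.toImage_imageι])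
  have hdense : Dense (Set.range j.base) := j.denseRange
  let O : Y.Opens := j.opensRange
  have hgen : genericPoints Y ⊆ (O : Set Y) := Groth.Agent.PicGlue.genericPoints_subset_of_dense hdense
  have hdimY : topologicalKrullDim Y ≤ 1 := by
    rw [Groth.Agent.VarDim.topologicalKrullDim_eq_iSup_deg g]
    refine iSup_le fun z => ?_
    let η := genericPoints.ofComponent ⟨_, irreducibleComponent_mem_irreducibleComponents z⟩
    have hspec : (η : Y) ⤳ z := by
      refine (genericPoints.isGenericPoint η).specializes ?_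
      rw [genericPoints.component_ofComponent]
      exact mem_irreducibleComponent
    obtain ⟨x, hx⟩ := hgen η.2
    have h1 : Groth.Agent.VarDim.deg g z ≤ Groth.Agent.VarDim.deg g (η : Y) :=
      Groth.Agent.VarDim.deg_le_of_specializes g hspec
    rw [← hx, ← Groth.Agent.VarDim.deg_comp g j x] at h1
    rw [← hjf] at *
    refine le_trans ?_ hdim
    rw [Groth.Agent.VarDim.topologicalKrullDim_eq_iSup_deg (j ≫ g)]
    exact le_iSup_of_le x (by exact_mod_cast h1)
  obtain ⟨hfin, hcl⟩ := Groth.Agent.PicGlue.finite_compl hdimY O hgen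
  refine ⟨d, Y, i.imageι, j, inferInstance, inferInstance, hjf, hdense, ?_, hfin, hcl⟩
  rw [isSchemeTheoreticallyDominant_iff]
  refine Scheme.IdealSheafData.ext (funext fun U => ?_)
  rw [Scheme.Hom.ker_apply]
  exact (RingHom.injective_iff_ker_eq_bot _).1 (TopCat.Presheaf.app_injective_of_stalkFunctor_map_injective
    (F := Y.sheaf) i.toImage.c U.1 fun x _ => i.stalkFunctor_toImage_injective x)

end Groth.Agent.S1625
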