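import Groth.Statements.S14124
import Groth.Agent.AVEuler.Vanish
import Groth.Agent.Lib.AVDual
-- import your own Groth.Agent.* helpers here

set_option autoImplicit false
set_option backward.isDefEq.respectTransparency false
universe u
open CategoryTheory CategoryTheory.Limits MonoidalCategory CartesianMonoidalCategory MonObj GrpObj AlgebraicGeometry
open AbVar

attribute [-instance] CategoryTheory.catToReflQuiver
open scoped Groth.Agent.H23.PicMul

namespace Groth.Agent.S14124

/-- Let k be an algebraically closed field, A an abelian variety over k (a proper smooth k-group scheme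
with geometrically connected fibres) and L an ample invertible O_A-module. Then the cohomology
groups H^j(A, L) vanish for all j > 0, and H^0(A, L) is non-zero. -/
theorem result (k : Type u) [Field k] [IsAlgClosed k]
    (A : Over (Spec (CommRingCat.of k))) [GrpObj A] [IsProper A.hom] [Smooth A.hom] [GeometricallyConnected A.hom]
    (L : A.left.Modules) (hLa : CohB1.IsAmple L) :
    (∀ j : ℕ, 0 < j → Subsingleton (Coh.HH A.left L j)) ∧ Nontrivial (Coh.HH A.left L 0) := by
  haveI : GeometricallyIntegral A.hom := Groth.Agent.AVDual.geometricallyIntegral_of_smooth A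
  refine ⟨fun j hj => ?_, Groth.Agent.AVEuler.nontrivial_HH_zero_of_isAmple hLa⟩
  obtain ⟨i, rfl⟩ := Nat.exists_eq_add_of_le' hj
  exact Groth.Agent.AVEuler.subsingleton_HH_succ_of_isAmple hLa i


end Groth.Agent.S14124
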