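import Groth.Statements.S15655
import Groth.Agent.IsogLib.Field

set_option autoImplicit false
set_option linter.style.haveILetI false

universe u
open CategoryTheory MonoidalCategory CartesianMonoidalCategory MonObj GrpObj AlgebraicGeometry
open AbVar

namespace Groth.Agent.S15655

/-- Proof step: let A be a simple abelian variety over a field k — a proper, geometrically integral
commutative group scheme over k whose only abelian subvarieties over k (geometrically integral
closed subgroup schemes) are the trivial subgroup and A itself. Then every non-zero element of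
End⁰(A) = ℚ ⊗_ℤ End_k(A) (End_k(A) the ring of endomorphisms defined over k) is invertible: End⁰(A)
is a division algebra. (The published proposition is the semisimplicity of End⁰(A) for every abelian
variety; this row states the step of its proof for simple A.) -/
theorem result (k : Type u) [Field k]
    (A : Over (Spec (CommRingCat.of k)))
    [GrpObj A] [IsCommMonObj A] [IsProper A.hom] [GeometricallyIntegral A.hom]
    (hsimple : ∀ (B : Over (Spec (CommRingCat.of k))) [GrpObj B] [GeometricallyIntegral B.hom] (i : B ⟶ A) [IsMonHom i]
      [IsClosedImmersion i.left], Subsingleton B.left ∨ IsIso i) :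
    ∀ x : EndAV.End0 A, x ≠ 0 → IsUnit x := by
  intro x hx
  obtain ⟨q, f, rfl⟩ := IsogLib.exists_tmul_eq x
  have hq : q ≠ 0 := fun h => hx (by rw [h, TensorProduct.zero_tmul])
  have hf : f ≠ 0 := fun h => hx (by rw [h, TensorProduct.tmul_zero])
  obtain ⟨N, _, j, hj, hjc, hNp, hNi, hr⟩ := IsogLib.exists_image f.toHom
  haveI := hj
  haveI := hjc
  haveI := hNp
  haveI := hNi
  haveI : IsIntegral A.left := H23.MaxAbelian.isIntegral_of_geometricallyIntegral
  haveI : IsIntegral N.left := H23.MaxAbelian.isIntegral_of_geometricallyIntegral
  haveI : Surjective f.toHom.left := by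
    rcases hsimple N j with hN | hN
    · exfalso
      refine hf (EndAV.Hom.ext ?_)
      obtain ⟨g, hg⟩ := H23.RedSub.exists_lift_closed f.toHom.left j.left hr.symm.subset
      have hfj : (Over.homMk g (by
          rw [← Over.w j, ← Category.assoc, hg, Over.w]) : A ⟶ N) ≫ j = f.toHom := Over.OverMorphism.ext hg
      haveI : IsClosedImmersion η[N].left := by
        haveI : IsClosedImmersion (η[N].left ≫ N.hom) := by
          rw [Over.w]
          exact inferInstanceAs (IsClosedImmersion (𝟙 (Spec (CommRingCat.of k))))
        exact IsClosedImmersion.of_comp η[N].left N.hom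
      haveI : Surjective η[N].left := ⟨fun y => ⟨IsLocalRing.closedPoint k, Subsingleton.elim _ _⟩⟩
      haveI : IsIso η[N].left := isIso_of_isClosedImmersion_of_surjective η[N].left
      haveI : IsIso η[N] := by
        haveI : IsIso ((Over.forget _).map η[N]) := inferInstanceAs (IsIso η[N].left)
        exact isIso_of_reflects_iso η[N] (Over.forget _)
      have h1 : toUnit N ≫ η[N] = 𝟙 N := by
        rw [← cancel_epi η[N], ← Category.assoc, toUnit_unique (η[N] ≫ toUnit N) (𝟙 _), Category.id_comp,
          Category.comp_id]
      have hj1 : j = toUnit N ≫ η[A] := by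
        rw [← IsMonHom.one_hom j, ← Category.assoc, h1, Category.id_comp]
      refine hfj.symm.trans ((congrArg (_ ≫ ·) hj1).trans ?_)
      rw [EndAV.Hom.toHom_zero, ← Category.assoc, toUnit_unique (_ ≫ toUnit N) (toUnit A), MonObj.one_eq_one,
        MonObj.comp_one]
    · haveI := hN
      refine ⟨fun y => ?_⟩
      haveI : IsIso ((Over.forget _).map j) := inferInstance
      haveI : IsIso j.left := this
      haveI : Surjective j.left := inferInstance
      obtain ⟨z, hz⟩ := Scheme.Hom.surjective j.left y
      exact hr.subset ⟨z, hz⟩
  have hqf : q ⊗ₜ[ℤ] f = algebraMap ℚ (EndAV.End0 A) q * EndAV.toEnd0 f := by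
    rw [Algebra.TensorProduct.algebraMap_apply, EndAV.toEnd0_apply, Algebra.TensorProduct.tmul_mul_tmul]
    simp
  rw [hqf]
  exact ((Ne.isUnit hq).map (algebraMap ℚ (EndAV.End0 A))).mul (IsogLib.isUnit_toEnd0 f)

end Groth.Agent.S15655
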