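import Groth.Statements.S15651
import Groth.Agent.AVRosati.QuasiSection
import Groth.Agent.AVHomLib.TateIndep
-- import your own Groth.Agent.* helpers here

set_option autoImplicit false
set_option backward.isDefEq.respectTransparency false
set_option backward.isDefEq.respectTransparency.types false
universe u
open CategoryTheory MonoidalCategory CartesianMonoidalCategory MonObj GrpObj AlgebraicGeometry
open AbVar

namespace Groth.Agent.S15651

/-- The Jacobson radical contains no nonzero idempotent. -/
theorem eq_zero_of_mem_jacobson {R : Type*} [Ring R] (e : R) (he : e ∈ Ideal.jacobson (⊥ : Ideal R))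
    (h : e * e = e) : e = 0 := by
  obtain ⟨z, hz⟩ := Ideal.mem_jacobson_iff.1 he (-1)
  rw [Ideal.mem_bot, sub_eq_zero] at hz
  have := congrArg (fun t => t * e) hz
  simpa [add_mul, _root_.mul_assoc, h] using this.symm

/-- Let A be an abelian variety over a field k (a proper, geometrically integral commutative group
scheme over k). Then the rational endomorphism algebra End⁰(A) = ℚ ⊗_ℤ End_k(A), where End_k(A) is
the ring of endomorphisms of A defined over k (sum pointwise in the group law, product by
composition), is a semisimple ring. -/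
theorem result (k : Type u) [Field k]
    (A : Over (Spec (CommRingCat.of k)))
    [GrpObj A] [IsCommMonObj A] [IsProper A.hom] [GeometricallyIntegral A.hom] :
    IsSemisimpleRing (EndAV.End0 A) := by
  classical
  haveI : Module.Finite ℤ (EndAV.End A) := (Groth.Agent.AVHomLib.hom_free (A := A) (B := A)).1
  haveI : Module.Finite ℚ (EndAV.End0 A) := Module.Finite.base_change ℤ ℚ (EndAV.End A)
  haveI : IsArtinianRing (EndAV.End0 A) := IsArtinianRing.of_finite ℚ _
  rw [IsArtinianRing.isSemisimpleRing_iff_jacobson, eq_bot_iff]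
  intro x hx
  obtain ⟨q, m, rfl⟩ := Groth.Agent.IsogLib.exists_tmul_eq x
  obtain ⟨y, N, hN, hy, hreg⟩ := Groth.Agent.AVRosati.QuasiSection.exists_regular m.toHom
  have h1 : m * EndAV.End.of y * m = N • m := EndAV.End.ext (by
    rw [EndAV.End.toHom_mul, EndAV.End.toHom_mul, EndAV.End.toHom_of]
    exact hreg.trans (EndAV.Hom.toHom_nsmul N (m : EndAV.Hom A A)).symm)
  set X : EndAV.End0 A := q ⊗ₜ[ℤ] m with hX
  let Y : EndAV.End0 A := (q⁻¹ * (N : ℚ)⁻¹) ⊗ₜ[ℤ] EndAV.End.of y
  have h2 : X * Y * X = X := by
    simp only [hX, Y, Algebra.TensorProduct.tmul_mul_tmul, h1]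
    rw [← TensorProduct.smul_tmul, nsmul_eq_mul]
    congr 1
    have : (N : ℚ) ≠ 0 := by exact_mod_cast hN.ne'
    rcases eq_or_ne q 0 with rfl | hq
    · simp
    · field_simp
  have he : Y * X ∈ Ideal.jacobson (⊥ : Ideal (EndAV.End0 A)) := by
    rw [Ideal.jacobson_bot]
    exact Ideal.mul_mem_left _ Y hx
  have hidem : Y * X * (Y * X) = Y * X := by rw [_root_.mul_assoc, ← _root_.mul_assoc X Y X, h2]
  have h0 : Y * X = 0 := eq_zero_of_mem_jacobson (Y * X) he hidem
  rw [Submodule.mem_bot, ← h2, _root_.mul_assoc, h0, mul_zero]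

end Groth.Agent.S15651
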