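import Groth.Statements.S10606
import Groth.Agent.SpMonoIso.SchFppf
import Groth.Agent.AlgSpDec.Glue
import Groth.Agent.AlgSpLib.Rep
import Groth.Agent.AlgSpLib.LocalBaseTop
import Groth.Agent.S10180
import Mathlib.AlgebraicGeometry.GammaSpecAdjunction
-- import your own Groth.Agent.* helpers here

set_option autoImplicit false
universe u
open CategoryTheory CategoryTheory.Limits AlgebraicGeometry
open AlgSp

namespace Groth.Agent.S10606

set_option backward.isDefEq.respectTransparency false
set_option backward.isDefEq.respectTransparency.types false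
set_option linter.style.haveILetI false

open Groth.Agent.AlgSpLib Opposite

/-- A flat surjection is injective on global functions. -/
theorem appTop_injective_of_flat_surjective {X Y : Scheme.{u}} (f : X ⟶ Y) [Flat f] [Surjective f] :
    Function.Injective f.appTop := by
  intro s t hst
  have : Epi f := Flat.epi_of_flat_of_surjective f
  let ev : ↑Γ(Y, ⊤) → ((CommRingCat.of (Polynomial (ULift.{u} ℤ))) ⟶ Γ(Y, ⊤)) := fun s =>
    CommRingCat.ofHom (Polynomial.eval₂RingHom ((Int.castRingHom _).comp ULift.ringEquiv.toRingHom) s)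
  have hev : ∀ z, (ev z).hom Polynomial.X = z := fun z => Polynomial.eval₂_X _ _
  have h1 : ev s ≫ f.appTop = ev t ≫ f.appTop := by
    refine CommRingCat.hom_ext (Polynomial.ringHom_ext (fun a => ?_) ?_)
    · exact RingHom.congr_fun (Subsingleton.elim
        (((ev s ≫ f.appTop).hom.comp Polynomial.C).comp ULift.ringEquiv.symm.toRingHom)
        (((ev t ≫ f.appTop).hom.comp Polynomial.C).comp ULift.ringEquiv.symm.toRingHom)) a.down
    · simp only [CommRingCat.hom_comp, RingHom.comp_apply, hev]; exact hst
  have h2 : Y.toSpecΓ ≫ Spec.map (ev s) = Y.toSpecΓ ≫ Spec.map (ev t) := by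
    rw [← cancel_epi f, Scheme.toSpecΓ_naturality_assoc, Scheme.toSpecΓ_naturality_assoc,
      ← Spec.map_comp, ← Spec.map_comp, h1]
  have h3 : ev s = ev t := by
    have h := congrArg (fun g => g.appTop) h2
    simp only [Scheme.Hom.comp_appTop, Scheme.toSpecΓ_appTop, Scheme.ΓSpecIso_naturality] at h
    exact (cancel_epi _).1 h
  rw [← hev s, h3, hev t]

theorem isPullback_of_comp_mono {D : Type*} [Category D] {P X Y Z : D} {a b : P ⟶ X} {u : X ⟶ Y}
    {m : Y ⟶ Z} [Mono m] (sq : IsPullback a b (u ≫ m) (u ≫ m)) : IsPullback a b u u :=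
  ⟨⟨(cancel_mono m).1 (by simpa only [Category.assoc] using sq.w)⟩, ⟨PullbackCone.IsLimit.mk _
    (fun s => sq.lift s.fst s.snd (by rw [s.condition_assoc])) (fun _ => sq.lift_fst _ _ _)
    (fun _ => sq.lift_snd _ _ _)
    (fun s k h₁ h₂ => sq.hom_ext (by rw [sq.lift_fst, h₁]) (by rw [sq.lift_snd, h₂]))⟩⟩

/-- The key local statement: over an affine test scheme the morphism has a section fppf locally. -/
theorem exists_fppf_lift {S : Scheme.{u}} {X Y : AlgSp.Space S} (f : X ⟶ Y)
    (hqc : AlgSp.IsQuasiCompactMor f.hom) [Mono f.hom]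
    (hinj : ∀ (T : Over S) (g : (AlgSp.yon S).obj T ⟶ Y.obj) (P : AlgSp.Sp S) (fst : P ⟶ X.obj)
      (snd : P ⟶ (AlgSp.yon S).obj T), IsPullback fst snd f.hom g →
      ∀ s : Γ(T.left, ⊤),
        (∀ (W : Over S) (a : (AlgSp.yon S).obj W ⟶ P) (c : W ⟶ T),
          a ≫ snd = (AlgSp.yon S).map c → c.left.appTop s = 0) → s = 0)
    (T : Over S) [IsAffine T.left] (g : (yon S).obj T ⟶ Y.obj) :
    ∃ (U : Over S) (c : U ⟶ T) (l : (yon S).obj U ⟶ X.obj),
      fppf c.left ∧ l ≫ f.hom = (yon S).map c ≫ g := by
  have sq := IsPullback.of_hasPullback f.hom g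
  have hP : IsAlgSpace (pullback f.hom g) :=
    Groth.Agent.AlgSpLib.isAlgSpace_of_isPullback sq X.property (IsAlgSpace.yon_obj T) Y.property
  have hPc : IsQuasiCompactSp (pullback f.hom g) :=
    hqc (IsAlgSpace.yon_obj T) (isQuasiCompactSp_yon T) g _ _ sq
  obtain ⟨U, u, hU, hue, hus⟩ :=
    (Groth.Agent.S10180.result (S := S) ⟨pullback f.hom g, hP⟩).1 hPc
  obtain ⟨c, hc⟩ := (yon S).map_surjective (u ≫ pullback.snd f.hom g)
  refine ⟨U, c, u ≫ pullback.fst f.hom g, ?_, by rw [Category.assoc, sq.w, ← Category.assoc, hc]⟩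
  refine SpMonoIso.fppf_of_isAffine c.left ?_ ?_
  · have sqO := IsPullback.of_hasPullback c c
    have sqS : IsPullback (pullback.fst c c).left (pullback.snd c c).left c.left c.left :=
      sqO.map (Over.forget S)
    have sqY := sqO.map (yon S)
    rw [hc] at sqY
    have : Etale (pullback.fst c c).left :=
      hue.2 u _ (pullback.fst c c) (isPullback_of_comp_mono sqY).flip
    have : MorphismProperty.RespectsIso (C := Scheme.{u}) @Etale :=
      MorphismProperty.IsStableUnderBaseChange.respectsIso
    rw [← sqS.isoPullback_inv_fst, MorphismProperty.cancel_left_of_respectsIso @Etale]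
    assumption
  · intro A' b P₀ p q sq₀
    refine (injective_iff_map_eq_zero _).2 fun s hs => ?_
    let T' : Over S := Over.mk (b ≫ T.hom)
    let gb : T' ⟶ T := Over.homMk b
    refine hinj T' ((yon S).map gb ≫ g) _ _ _ (IsPullback.of_hasPullback _ _) s fun W a c' hac => ?_
    let m : pullback f.hom ((yon S).map gb ≫ g) ⟶ pullback f.hom g :=
      sq.lift (pullback.fst _ _) (pullback.snd _ _ ≫ (yon S).map gb)
        (by rw [pullback.condition, Category.assoc])
    obtain ⟨k, hk⟩ := (yon S).map_surjective (hue.rep.fst (a ≫ m))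
    let π := hue.rep.snd (a ≫ m)
    have hw : (yon S).map k ≫ u = (yon S).map π ≫ a ≫ m := by rw [hk]; exact hue.rep.w (a ≫ m)
    have hkc : k ≫ c = (π ≫ c') ≫ gb := by
      apply (yon S).map_injective
      have h' := hw =≫ pullback.snd f.hom g
      simp only [Category.assoc, m, IsPullback.lift_snd] at h'
      rw [Functor.map_comp, hc, Functor.map_comp, Functor.map_comp, h', reassoc_of% hac]
      simp only [Category.assoc]
    have hf : (π ≫ c').left = sq₀.lift k.left (π ≫ c').left (congrArg CommaMorphism.left hkc) ≫ q :=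
      (sq₀.lift_snd _ _ _).symm
    have h0 : (π ≫ c').left.appTop s = 0 := by
      rw [hf, Scheme.Hom.comp_appTop, CommRingCat.comp_apply]
      exact (congrArg _ hs).trans (map_zero _)
    have : Etale π.left := hue.property_snd (a ≫ m)
    have : Surjective π.left := hus.2 (a ≫ m) _ π (hue.rep.isPullback (a ≫ m))
    refine appTop_injective_of_flat_surjective π.left ?_
    rw [map_zero, ← CommRingCat.comp_apply, ← Scheme.Hom.comp_appTop]
    exact h0


/-- Let f : X ⟶ Y be a monomorphism of algebraic spaces over S that is quasi-compact, and suppose that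
for every T ⟶ Y the map from the structure sheaf of T to the direct image of the structure sheaf of
X ×_Y T is injective. Then f must be an isomorphism. The injectivity is spelled out on sections: for
every scheme T over S, every T ⟶ Y, every pullback square with corner P = X ×_Y T and every global
function s on T, if the pullback of s along every morphism from a scheme to P vanishes, then s = 0
(this is injectivity on global sections over every scheme etale over every base, which is the
sheaf-level injectivity). -/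
theorem result {S : Scheme.{u}} {X Y : AlgSp.Space S} (f : X ⟶ Y)
    (hqc : AlgSp.IsQuasiCompactMor f.hom) [Mono f.hom]
    (hinj : ∀ (T : Over S) (g : (AlgSp.yon S).obj T ⟶ Y.obj) (P : AlgSp.Sp S) (fst : P ⟶ X.obj)
      (snd : P ⟶ (AlgSp.yon S).obj T), IsPullback fst snd f.hom g →
      ∀ s : Γ(T.left, ⊤),
        (∀ (W : Over S) (a : (AlgSp.yon S).obj W ⟶ P) (c : W ⟶ T),
          a ≫ snd = (AlgSp.yon S).map c → c.left.appTop s = 0) → s = 0) :
    IsIso f.hom := by
  have : Sheaf.IsLocallySurjective f.hom := by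
    refine ⟨fun {T} s => ?_⟩
    let g : (yon S).obj T ⟶ Y.obj := (J S).uliftYonedaEquiv.symm s
    let 𝒰 := T.left.affineCover
    refine (J S).transitive (S := Sieve.ofArrows _
      fun i => Over.homMk (U := Over.mk (𝒰.f i ≫ T.hom)) (𝒰.f i) rfl)
      (Groth.Agent.AlgSpDec.mem_J_of_openCover 𝒰 _ fun i => Sieve.ofArrows_mk _ _ i) _ ?_
    intro W φ hφ
    obtain ⟨i, k, rfl⟩ := (Sieve.mem_ofArrows_iff _ _ φ).1 hφ
    rw [Sieve.pullback_comp]
    refine (J S).pullback_stable k ?_
    let V : Over S := Over.mk (𝒰.f i ≫ T.hom)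
    let v : V ⟶ T := Over.homMk (𝒰.f i) rfl
    haveI : IsAffine V.left := inferInstanceAs (IsAffine (𝒰.X i))
    obtain ⟨U, c, l, hc, hl⟩ := exists_fppf_lift f hqc hinj V ((yon S).map v ≫ g)
    refine mem_J_of_fppf c hc _ ⟨(J S).uliftYonedaEquiv l, ?_⟩
    have h1 := uliftYonedaEquiv_precomp (c ≫ v) g
    rw [Functor.map_comp, Category.assoc, ← hl, GrothendieckTopology.uliftYonedaEquiv_comp,
      Equiv.apply_symm_apply] at h1
    exact h1.symm
  exact isIso_of_mono_of_locallySurjective f.hom

end Groth.Agent.S10606
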