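import Groth.Statements.S19953
import Groth.Agent.AVTheta.Pull
import Groth.Agent.IsogLib.Kernel
import Groth.Agent.AVRosati.Factor
import Groth.Agent.AVRosati.KernelPoint
-- import your own Groth.Agent.* helpers here

set_option autoImplicit false
universe u
open CategoryTheory MonoidalCategory CartesianMonoidalCategory MonObj GrpObj AlgebraicGeometry
open ThetaGrp

set_option backward.isDefEq.respectTransparency false
set_option backward.isDefEq.respectTransparency.types false
set_option synthInstance.maxHeartbeats 400000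
set_option maxHeartbeats 1000000
set_option linter.style.haveILetI false

namespace Groth.Agent.S19953

/-- Let f : X → Y be a surjective homomorphism of abelian varieties over a field k (proper,
geometrically integral, commutative k-group schemes), i : N → X its kernel (a homomorphism forming a
cartesian square with the unit section of Y), L an invertible O_X-module, M an invertible O_Y-module
with f^*M ≅ L, and G a k-group scheme with a point u ∈ G(L)(G) representing the theta group of L
(every point of G(L)(T) is the base change of u along a unique T → G, multiplicatively). Then there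
is a level subgroup of G(L) whose image in K(L) is Ker(f): a homomorphism of group schemes j : N → G
that is an immersion, such that a point of N whose image lies over the identity translation is
trivial, and that lies over i (for every k-scheme T and T-valued point n of N, the base change of u
along j(n) lies over the translation by i(n)). -/
theorem result (k : Type u) [Field k]
    (A : Over (Spec (CommRingCat.of k))) [GrpObj A] [IsCommMonObj A] [IsProper A.hom] [GeometricallyIntegral A.hom]
    (B : Over (Spec (CommRingCat.of k))) [GrpObj B] [IsCommMonObj B] [IsProper B.hom] [GeometricallyIntegral B.hom]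
    (f : A ⟶ B) [IsMonHom f] (hf : Surjective f.left)
    (N : Over (Spec (CommRingCat.of k))) [GrpObj N] (i : N ⟶ A) [IsMonHom i] (hN : AlgGrp.IsKernel i f)
    (L : A.left.Modules) (hL : PicF.IsInvertible L)
    (M : B.left.Modules) (hM : PicF.IsInvertible M)
    (hLM : Nonempty ((Scheme.Modules.pullback f.left).obj M ≅ L))
    (G : Over (Spec (CommRingCat.of k))) [GrpObj G] (u : ThetaGrp.thetaPts A L G)
    (hG : ThetaGrp.IsThetaGrpSch A L G u) :
    ∃ j : N ⟶ G, IsMonHom j ∧ ThetaGrp.IsLevelSubgrp u j ∧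
      ∀ (T : Over (Spec (CommRingCat.of k))) (n : T ⟶ N) (β : ThetaGrp.thetaPts A L T),
        ThetaGrp.IsBaseChange β (n ≫ j) u → ThetaGrp.IsOverPt β (n ≫ i) := by
  open Groth.Agent.AVTheta in
  exact (by
  obtain ⟨e⟩ := hLM
  haveI : Mono i := IsogLib.mono_kernel f hN
  have hif : i ≫ f = 1 := IsogLib.kernel_comp f hN
  let F₀ : (⟨A.left, L⟩ : SM) ⟶ ⟨B.left, M⟩ := mkHom f.left e.inv
  let G' : ∀ T, ThetaGrp.thetaObj A L T ⟶ (⟨B.left, M⟩ : SM) := fun T => projObj A L T ≫ F₀
  have hG' : ∀ T, IsCart (G' T) := fun T => isCart_comp (isCart_projObj A L T) (isCart_mkHom _ _)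
  have hbase : ∀ (T : Over (Spec (CommRingCat.of k))) (n : T ⟶ N),
      (ThetaGrp.transl A (n ≫ i)).left ≫ (G' T).base = (G' T).base := by
    intro T n
    show (ThetaGrp.transl A (n ≫ i)).left ≫ (fst A T).left ≫ f.left = (fst A T).left ≫ f.left
    rw [← Over.comp_left, ← Over.comp_left, ← Category.assoc, ThetaGrp.transl_fst, MonObj.mul_comp, Category.assoc,
      Category.assoc, hif, MonObj.comp_one, MonObj.comp_one, _root_.mul_one]
  have hex : ∀ (T : Over (Spec (CommRingCat.of k))) (n : T ⟶ N), ∃! β : ThetaGrp.thetaPts A L T,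
      ThetaGrp.IsOverPt β (n ≫ i) ∧ β.1.hom ≫ G' T = G' T := by
    intro T n
    obtain ⟨p, ⟨hpb, hp⟩, huniq⟩ := existsUnique_lift (hG' T) (G' T) _ (hbase T n)
    obtain ⟨β, hβ, hβx⟩ := exists_pts_of_cart (n ≫ i) p (isCart_of_comp (hG' T) (by rw [hp]; exact hG' T)) hpb
    exact ⟨β, ⟨hβx, by rw [hβ, hp]⟩, fun β' h' => pts_ext (by rw [hβ]; exact huniq _ ⟨h'.1, h'.2⟩)⟩
  choose Bn hBn hBnu using hex
  have hnat : ∀ (T T' : Over (Spec (CommRingCat.of k))) (g : T' ⟶ T) (n : T ⟶ N),
      ThetaGrp.IsBaseChange (Bn T' (g ≫ n)) g (Bn T n) := by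
    intro T T' g n
    obtain ⟨β', hβ', -⟩ := existsUnique_bc g (Bn T n)
    suffices h : β' = Bn T' (g ≫ n) by rw [← h]; exact hβ'
    refine hBnu T' (g ≫ n) β' ⟨by rw [Category.assoc]; exact isOverPt_bc hβ' (hBn T n).1, ?_⟩
    have hg : G' T' = ThetaGrp.bcLift A L g ≫ G' T := by
      show _ ≫ _ = _ ≫ _ ≫ _
      rw [← Category.assoc, bcLift_proj]
    rw [hg, ← Category.assoc, show β'.1.hom ≫ ThetaGrp.bcLift A L g = _ from hβ', Category.assoc, (hBn T n).2]
  have hmul : ∀ (T : Over (Spec (CommRingCat.of k))) (n m : T ⟶ N), Bn T n * Bn T m = Bn T (n * m) := by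
    intro T n m
    refine hBnu T _ _ ⟨?_, ?_⟩
    · rw [MonObj.mul_comp, mul_comm]
      exact isOverPt_mul (hBn T n).1 (hBn T m).1
    · show ((Bn T m).1.hom ≫ (Bn T n).1.hom) ≫ G' T = G' T
      rw [Category.assoc, (hBn T n).2, (hBn T m).2]
  obtain ⟨j, hj, -⟩ := hG.univ N (Bn N (𝟙 N))
  have hju : ∀ (T : Over (Spec (CommRingCat.of k))) (n : T ⟶ N), ThetaGrp.IsBaseChange (Bn T n) (n ≫ j) u := by
    intro T n
    refine isBaseChange_comp hj ?_
    simpa using hnat N T n (𝟙 N)
  have hgu : ∀ (T : Over (Spec (CommRingCat.of k))) (β : ThetaGrp.thetaPts A L T) (g g' : T ⟶ G),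
      ThetaGrp.IsBaseChange β g u → ThetaGrp.IsBaseChange β g' u → g = g' := fun T β g g' h h' =>
    (hG.univ T β).unique h h'
  have hjmul : ∀ (T : Over (Spec (CommRingCat.of k))) (n m : T ⟶ N), (n * m) ≫ j = (n ≫ j) * (m ≫ j) := fun T n m =>
    hgu T _ _ _ (hju T (n * m)) (hmul T n m ▸ hG.mul T _ _ _ _ (hju T n) (hju T m))
  haveI hjm : IsMonHom j := by
    refine ⟨?_, ?_⟩
    · have h := hjmul (𝟙_ _) 1 1
      rw [_root_.mul_one, eq_comm, mul_eq_left] at h
      rwa [MonObj.one_eq_one, show (1 : 𝟙_ _ ⟶ N) = η[N] from (MonObj.one_eq_one (M := N)).symm] at *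
    · rw [show μ[N] = fst N N * snd N N by rw [Hom.mul_def, lift_fst_snd, Category.id_comp], hjmul, Hom.mul_def]
      congr 1
  have hover : ∀ (T : Over (Spec (CommRingCat.of k))) (n : T ⟶ N) (β : ThetaGrp.thetaPts A L T),
      ThetaGrp.IsBaseChange β (n ≫ j) u → ThetaGrp.IsOverPt β (n ≫ i) := by
    intro T n β hβ
    rw [(hG.exists_bc T (n ≫ j)).unique hβ (hju T n)]
    exact (hBn T n).1
  obtain ⟨xu, hxu⟩ := exists_pt u
  have hji : j ≫ xu = i := pt_unique (isOverPt_bc hj hxu) (by simpa using (hBn N (𝟙 N)).1)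
  refine ⟨j, hjm, ⟨?_, hjm, ?_⟩, hover⟩
  · haveI : IsClosedImmersion η[B].left := AVRosati.KernelPoint.isClosedImmersion_unit
    haveI : IsClosedImmersion i.left :=
      MorphismProperty.of_isPullback (P := @IsClosedImmersion) (hN.map (Over.forget _)).flip ‹IsClosedImmersion η[B].left›
    haveI : IsImmersion (j.left ≫ xu.left) := by rw [← Over.comp_left, hji]; infer_instance
    exact IsImmersion.of_comp j.left xu.left
  · intro T h β hβ h1
    have h2 := pt_unique (hover T h β hβ) h1
    rw [← cancel_mono i, h2, MonObj.one_comp])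


end Groth.Agent.S19953
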