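import Groth.Statements.S19948
import Groth.Agent.AVTheta.KerLift
import Groth.Agent.S19944
import Groth.Agent.S19953
import Groth.Agent.AVTheta.Quot
-- import your own Groth.Agent.* helpers here

set_option autoImplicit false
universe u
open CategoryTheory MonoidalCategory CartesianMonoidalCategory MonObj GrpObj AlgebraicGeometry
open ThetaGrp

set_option backward.isDefEq.respectTransparency false
set_option backward.isDefEq.respectTransparency.types false
set_option synthInstance.maxHeartbeats 400000
set_option maxHeartbeats 1000000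
set_option linter.style.haveILetI false
attribute [-instance] CategoryTheory.catToReflQuiver

namespace Groth.Agent.S19948

/-- Let k be an algebraically closed field, f : X → Y an isogeny of abelian varieties over k (X, Y
proper, geometrically integral, commutative k-group schemes; f a finite surjective homomorphism), i
: N → X the kernel of f (a homomorphism forming a cartesian square with the unit section of Y), L an
invertible O_X-module and i_K : K → X a closed immersion exhibiting K as K(L), the maximal closed
subscheme of X over which the Mumford bundle m^*L ⊗ p_1^*L⁻¹ ⊗ p_2^*L⁻¹, restricted to X ×_k K, is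
the inverse image of an invertible module on K, with its universal property. Then L is the inverse
image of an invertible O_Y-module (there is an invertible M on Y with f^*M ≅ L) if and only if the
kernel of f lies inside K(L) as a subgroup scheme and the commutator pairing e_L is trivial on it: i
factors through i_K, and for every k-scheme T any two points (x₁, φ₁), (x₂, φ₂) of G(L)(T) whose
translations are by points of N commute. (Algebraic closedness is used for the converse; over other
fields an isotropic kernel descends in general only after a finite extension of k.) -/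
theorem result (k : Type u) [Field k] [IsAlgClosed k]
    (A : Over (Spec (CommRingCat.of k))) [GrpObj A] [IsCommMonObj A] [IsProper A.hom] [GeometricallyIntegral A.hom]
    (B : Over (Spec (CommRingCat.of k))) [GrpObj B] [IsCommMonObj B] [IsProper B.hom] [GeometricallyIntegral B.hom]
    (f : A ⟶ B) [IsMonHom f] [IsFinite f.left] (hf : Surjective f.left)
    (N : Over (Spec (CommRingCat.of k))) [GrpObj N] (i : N ⟶ A) [IsMonHom i] (hN : AlgGrp.IsKernel i f)
    (L : A.left.Modules) (hL : PicF.IsInvertible L)
    (K : Over (Spec (CommRingCat.of k))) (iK : K ⟶ A) (hK : ThetaGrp.IsKL A L iK) :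
    (∃ M : B.left.Modules, PicF.IsInvertible M ∧ Nonempty ((Scheme.Modules.pullback f.left).obj M ≅ L)) ↔
      ((∃ y : N ⟶ K, y ≫ iK = i) ∧ ThetaGrp.IsIsotropic L i) := by
  open Groth.Agent.AVTheta in
  exact (by
  haveI := hf
  constructor
  · rintro ⟨M, hM, hLM⟩
    obtain ⟨G, iG, u, hG⟩ := Groth.Agent.S19944.result k A L hL
    obtain ⟨j, hj, -, hover⟩ := Groth.Agent.S19953.result k A B f hf N i hN L hL M hM hLM G u hG
    haveI := hj
    let Bn : ∀ {T : Over (Spec (CommRingCat.of k))}, (T ⟶ N) → ThetaGrp.thetaPts A L T := fun {T} n =>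
      (hG.exists_bc T (n ≫ j)).exists.choose
    have hBn : ∀ {T : Over (Spec (CommRingCat.of k))} (n : T ⟶ N), ThetaGrp.IsBaseChange (Bn n) (n ≫ j) u :=
      fun {T} n => (hG.exists_bc T (n ≫ j)).exists.choose_spec
    refine ⟨(hK.univ N i).1 (mumford_of_pts hL (by simpa using hover N (𝟙 N) _ (hBn (𝟙 N)))), fun T x y β₁ β₂ h₁ h₂ => ?_⟩
    haveI : Mono i := IsogLib.mono_kernel f hN
    haveI : IsCommMonObj N := ⟨by
      rw [← cancel_mono i, Category.assoc, IsMonHom.mul_hom, ← Category.assoc, ← BraidedCategory.braiding_naturality,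
        Category.assoc, IsCommMonObj.mul_comm A]⟩
    obtain ⟨c, hc⟩ := exists_scalar hL (hover T x _ (hBn x)) h₁
    obtain ⟨d, hd⟩ := exists_scalar hL (hover T y _ (hBn y)) h₂
    have hcomm : Bn x * Bn y = Bn y * Bn x := by
      have hm := hG.mul T _ _ _ _ (hBn x) (hBn y)
      have hm' := hG.mul T _ _ _ _ (hBn y) (hBn x)
      rw [← MonObj.mul_comp, mul_comm y x, MonObj.mul_comp] at hm'
      exact (hG.exists_bc T _).unique hm hm'
    exact (isComm_one_iff β₁ β₂).1 (isComm_congr hc hd ((isComm_one_iff _ _).2 hcomm))
  · rintro ⟨⟨y, hy⟩, hiso⟩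
    haveI : Mono i := IsogLib.mono_kernel f hN
    haveI : IsCommMonObj N := ⟨by
      rw [← cancel_mono i, Category.assoc, IsMonHom.mul_hom, ← Category.assoc, ← BraidedCategory.braiding_naturality,
        Category.assoc, IsCommMonObj.mul_comm A]⟩
    haveI : IsFinite N.hom :=
      MorphismProperty.of_isPullback (P := @IsFinite) (hN.map (Over.forget _)) ‹IsFinite f.left›
    haveI : IsAffine N.left := isAffine_of_isAffineHom N.hom
    obtain ⟨H, iH₁, iH₂, ⟨e⟩⟩ := GrpSchLib.AffineHopf.exists_hopf N
    letI := iH₁
    letI := iH₂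
    let eN : GrpSchLib.AffineHopf.sp k H ⟶ N := e.hom.hom.hom
    let eI : N ⟶ GrpSchLib.AffineHopf.sp k H := e.inv.hom.hom
    have h₁ : eN ≫ eI = 𝟙 _ := congrArg (fun z => z.hom.hom) e.hom_inv_id
    have h₂ : eI ≫ eN = 𝟙 _ := congrArg (fun z => z.hom.hom) e.inv_hom_id
    haveI : IsMonHom eN := e.hom.hom.isMonHom_hom
    haveI : IsMonHom eI := e.inv.hom.isMonHom_hom
    haveI : Mono eN := mono_of_mono_fac h₁
    haveI : IsCommMonObj (GrpSchLib.AffineHopf.sp k H) := ⟨by
      rw [← cancel_mono eN, Category.assoc, IsMonHom.mul_hom, ← Category.assoc, ← BraidedCategory.braiding_naturality,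
        Category.assoc, IsCommMonObj.mul_comm N]⟩
    haveI : IsIso eN.left := ⟨eI.left, by rw [← Over.comp_left, h₁]; rfl, by rw [← Over.comp_left, h₂]; rfl⟩
    haveI : Module.Finite k H := by
      have h : IsFinite (eN.left ≫ N.hom) := inferInstance
      rw [Over.w] at h
      exact RingHom.finite_algebraMap.1 ((IsFinite.SpecMap_iff _).1 h)
    have hx : ThetaGrp.IsMumfordTriv A L (eN ≫ i) :=
      (hK.univ _ _).2 ⟨eN ≫ y, by rw [Category.assoc, hy]⟩
    obtain ⟨Bn, hBx, hBnat, hBmul⟩ := exists_lifts_of_isotropic hL (eN ≫ i) hx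
      (fun T a b β₁ β₂ ha hb => hiso T (a ≫ eN) (b ≫ eN) β₁ β₂ (by rw [Category.assoc]; exact ha)
        (by rw [Category.assoc]; exact hb))
    refine exists_descent_of_action f i hN hL (fun {T} n => Bn (n ≫ eI)) (fun {T} n => ?_) (fun {T T'} g n => ?_)
      (fun {T} n m => ?_)
    · have h := hBx (n ≫ eI)
      rwa [Category.assoc, reassoc_of% h₂] at h
    · rw [Category.assoc]
      exact hBnat g (n ≫ eI)
    · rw [hBmul, MonObj.mul_comp])


end Groth.Agent.S19948
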