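import Groth.Statements.S19949
import Groth.Agent.AVTheta.Quot
-- import your own Groth.Agent.* helpers here

set_option autoImplicit false
universe u
open CategoryTheory MonoidalCategory CartesianMonoidalCategory MonObj GrpObj AlgebraicGeometry
open ThetaGrp

set_option backward.isDefEq.respectTransparency false
set_option backward.isDefEq.respectTransparency.types false
set_option synthInstance.maxHeartbeats 400000
set_option maxHeartbeats 1000000
set_option linter.style.haveILetI false

namespace Groth.Agent.S19949

/-- Let f : X → Y be a surjective homomorphism of abelian varieties over a field k (proper,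
geometrically integral, commutative k-group schemes), i : N → X its kernel (a homomorphism forming a
cartesian square with the unit section of Y), M an invertible O_Y-module and L = f^*M. Let i_L : K_L
→ X and i_M : K_M → Y be closed immersions exhibiting K_L as K(L) and K_M as K(M): the maximal
closed subschemes over which the Mumford bundles of L, resp. M, restricted to X ×_k K_L, resp. Y ×_k
K_M, are inverse images of invertible modules on K_L, resp. K_M, with their universal properties.
Then f⁻¹(K(M)) = Ker(f)^⊥ inside K(L): for a k-scheme T and a T-valued point x of X, the point f(x)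
factors through i_M if and only if x factors through i_L and x is orthogonal to N for the commutator
pairing e_L, meaning that after every base change T' → T every point of G(L)(T') lying over the
translation by x commutes with every point lying over the translation by a point of N. (In
particular every point x with f(x) in K(M) lies in K(f^*M). The source's further identifications of
G(M) with the centralizer of the level subgroup modulo it, and of K(M) with Ker(f)^⊥/Ker(f), are not
part of this statement.) -/
theorem result (k : Type u) [Field k]
    (A : Over (Spec (CommRingCat.of k))) [GrpObj A] [IsCommMonObj A] [IsProper A.hom] [GeometricallyIntegral A.hom]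
    (B : Over (Spec (CommRingCat.of k))) [GrpObj B] [IsCommMonObj B] [IsProper B.hom] [GeometricallyIntegral B.hom]
    (f : A ⟶ B) [IsMonHom f] (hf : Surjective f.left)
    (N : Over (Spec (CommRingCat.of k))) [GrpObj N] (i : N ⟶ A) [IsMonHom i] (hN : AlgGrp.IsKernel i f)
    (M : B.left.Modules) (hM : PicF.IsInvertible M)
    (KL : Over (Spec (CommRingCat.of k))) (iL : KL ⟶ A)
    (hKL : ThetaGrp.IsKL A ((Scheme.Modules.pullback f.left).obj M) iL)
    (KM : Over (Spec (CommRingCat.of k))) (iM : KM ⟶ B) (hKM : ThetaGrp.IsKL B M iM)
    (T : Over (Spec (CommRingCat.of k))) (x : T ⟶ A) :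
    (∃ y : T ⟶ KM, y ≫ iM = x ≫ f) ↔
      ((∃ y : T ⟶ KL, y ≫ iL = x) ∧ ThetaGrp.IsPerpPt ((Scheme.Modules.pullback f.left).obj M) i x) := by
  open Groth.Agent.AVTheta in
  exact (by
  haveI : IsClosedImmersion iL.left := hKL.closed
  haveI : IsClosedImmersion iM.left := hKM.closed
  have hif : i ≫ f = 1 := IsogLib.kernel_comp f hN
  constructor
  · intro h
    have hm := (hKM.univ T _).2 h
    refine ⟨exists_factor_local iL x fun t => ?_, isPerpPt_of_mumford f hM i hif x hm hKM⟩
    obtain ⟨U, ht, hU⟩ := mumford_pull_local f hM x hm t
    exact ⟨U, ht, (hKL.univ _ _).1 hU⟩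
  · rintro ⟨h, hperp⟩
    refine exists_factor_local iM (x ≫ f) fun t => ?_
    obtain ⟨U, ht, β, hβ⟩ := exists_local_pts (PicClLib.isInvertible_pullback f.left hM) x ((hKL.univ T x).2 h) t
    refine ⟨U, ht, (hKM.univ _ _).1 ?_⟩
    rw [← Category.assoc]
    refine mumford_of_isPerpPt f hM hN hβ fun T' g y β₁ β₂ h₁ h₂ =>
      hperp T' (g ≫ ovIncl T U) y β₁ β₂ (by simpa only [Category.assoc] using h₁) h₂)


end Groth.Agent.S19949
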