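import Groth.Statements.S8536
import Groth.Agent.EtMVLib.HpullApply
import Groth.Agent.EtFound.Stalk
import Groth.Agent.S8525

set_option autoImplicit false
universe u
open CategoryTheory CategoryTheory.Limits AlgebraicGeometry Opposite
open EtAcyc

namespace Groth.Agent.S8536

open CategoryTheory.Abelian

set_option backward.isDefEq.respectTransparency.types false

/-- A quotient of an `L`-torsion sheaf is `L`-torsion. -/
theorem isLTorsion_of_epi {X : Scheme.{u}} (L : Set ℕ) {F G : EtCoh.Ab X} (q : F ⟶ G) [Epi q]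
    (hF : EtAcyc.IsLTorsion L F) : EtAcyc.IsLTorsion L G := by
  rw [Groth.Agent.S8525.result] at hF ⊢
  intro Ω _ _ ξ t
  obtain ⟨s, rfl⟩ := (AddCommGrpCat.epi_iff_surjective ((EtCoh.stalk ξ).map q)).mp inferInstance t
  obtain ⟨m, hm, hms⟩ := hF Ω ξ s
  exact ⟨m, hm, by rw [← map_nsmul, hms, map_zero]⟩

variable {X Y : Scheme.{u}} (h : Y ⟶ X) [PreservesFiniteLimits (EtCoh.pull h)]

theorem Hpull_comp_mk₀ {F G : EtCoh.Ab X} (u : F ⟶ G) (n : ℕ) (e : EtCoh.H X F n) :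
    EtCore.Hpull h G n (e.comp (Ext.mk₀ u) (add_zero n)) =
      (EtCore.Hpull h F n e).comp (Ext.mk₀ ((EtCoh.pull h).map u)) (add_zero n) := by
  rw [EtMVLib.Hpull_apply, EtMVLib.Hpull_apply, Ext.mapExactFunctor_comp,
    Ext.mapExactFunctor_mk₀, Ext.comp_assoc_of_third_deg_zero]

theorem Hpull_comp_extClass {S : ShortComplex (EtCoh.Ab X)} (hS : S.ShortExact) (n : ℕ)
    (e : EtCoh.H X S.X₃ n) :
    EtCore.Hpull h S.X₁ (n + 1) (e.comp hS.extClass rfl) =
      (EtCore.Hpull h S.X₃ n e).comp (hS.map_of_exact (EtCoh.pull h)).extClass rfl := by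
  rw [EtMVLib.Hpull_apply, EtMVLib.Hpull_apply, Ext.mapExactFunctor_comp,
    Ext.mapExactFunctor_extClass]
  exact (Ext.comp_assoc _ _ _ (zero_add n) rfl (by omega)).symm

/-- The diagram chase. -/
theorem chase {L : Set ℕ} {n : ℕ} (hc : EtAcyc.CompN h L n) {S : ShortComplex (EtCoh.Ab X)}
    (hS : S.ShortExact) (h₁ : EtAcyc.IsLTorsion L S.X₂) (h₃ : EtAcyc.IsLTorsion L S.X₃)
    (ξ : EtCoh.H Y ((EtCoh.pull h).obj S.X₁) (n + 1)) (η : EtCoh.H X S.X₂ (n + 1))
    (hη : EtCore.Hpull h S.X₂ (n + 1) η =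
      ξ.comp (Ext.mk₀ ((EtCoh.pull h).map S.f)) (add_zero (n + 1))) :
    ξ ∈ Set.range (EtCore.Hpull h S.X₁ (n + 1)) := by
  have h0 : η.comp (Ext.mk₀ S.g) (add_zero (n + 1)) = 0 := by
    apply (hc S.X₃ h₃).2
    rw [map_zero, Hpull_comp_mk₀, hη, Ext.comp_assoc_of_third_deg_zero, Ext.mk₀_comp_mk₀,
      ← Functor.map_comp, S.zero, Functor.map_zero, Ext.mk₀_zero, Ext.comp_zero]
  obtain ⟨η', hη'⟩ := Ext.covariant_sequence_exact₂ _ hS η h0
  have h1 : (ξ - EtCore.Hpull h S.X₁ (n + 1) η').comp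
      (Ext.mk₀ ((EtCoh.pull h).map S.f)) (add_zero (n + 1)) = 0 := by
    rw [sub_eq_add_neg, Ext.add_comp, Ext.neg_comp, ← Hpull_comp_mk₀, hη', hη, add_neg_cancel]
  obtain ⟨ζ, hζ⟩ := Ext.covariant_sequence_exact₁ _ (hS.map_of_exact (EtCoh.pull h)) _ h1 rfl
  obtain ⟨ζ', rfl⟩ := ((hc S.X₃ h₃).1 n le_rfl).2 ζ
  refine ⟨η' + ζ'.comp hS.extClass rfl, ?_⟩
  rw [map_add, Hpull_comp_extClass]
  exact (congrArg (EtCore.Hpull h S.X₁ (n + 1) η' + ·) hζ).trans (add_sub_cancel _ _)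

/-- Let h : Y → X be a morphism of quasi-compact quasi-separated schemes, L a set of primes and n a
natural number, and suppose that for every abelian L-torsion sheaf on X the pullback map on etale
cohomology along h is bijective in degrees ≤ n and injective in degree n + 1. Let u : F → G be a
monomorphism of abelian L-torsion sheaves on X and ξ a class in H^{n+1}(Y, h⁻¹F) whose image in
H^{n+1}(Y, h⁻¹G) comes from H^{n+1}(X, G). Then ξ comes from H^{n+1}(X, F). -/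
theorem result {X Y : Scheme.{u}} [CompactSpace X] [QuasiSeparatedSpace X]
    [CompactSpace Y] [QuasiSeparatedSpace Y] (h : Y ⟶ X) (L : Set ℕ) (n : ℕ) (hc : EtAcyc.CompN h L n)
    [PreservesFiniteLimits (EtCoh.pull h)] {F G : EtCoh.Ab X} (u : F ⟶ G) [Mono u]
    (hF : EtAcyc.IsLTorsion L F) (hG : EtAcyc.IsLTorsion L G)
    (ξ : EtCoh.H Y ((EtCoh.pull h).obj F) (n + 1))
    (hξ : (EtCoh.HF Y (n + 1)).map ((EtCoh.pull h).map u) ξ ∈ Set.range (EtCore.Hpull h G (n + 1))) :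
    ξ ∈ Set.range (EtCore.Hpull h F (n + 1)) := by
  obtain ⟨η, hη⟩ := hξ
  let S := ShortComplex.mk u (cokernel.π u) (cokernel.condition u)
  have hS : S.ShortExact := { exact := ShortComplex.exact_cokernel u }
  exact chase h hc hS hG (isLTorsion_of_epi L (cokernel.π u) hG) ξ η hη

end Groth.Agent.S8536
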