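import Groth.Statements.S0625
import Groth.Agent.EtFound.SplitSep

set_option autoImplicit false
open CategoryTheory CategoryTheory.Limits AlgebraicGeometry Opposite
universe u
open EtCore

namespace Groth.Agent.S0625

/-- Let X be an affine integral normal scheme whose function field is separably closed and Z -> X a
closed immersion. Every surjective finite etale morphism V -> Z has a section. -/
theorem result {V Z X : Scheme.{u}} [IsAffine X] [IsIntegral X]
    (hN : ∀ x : X, IsIntegrallyClosed (X.presheaf.stalk x)) [IsSepClosed X.functionField]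
    (i : Z ⟶ X) [IsClosedImmersion i] (φ : V ⟶ Z) [AlgebraicGeometry.Etale φ] [IsFinite φ] [Surjective φ] :
    ∃ s : Z ⟶ V, s ≫ φ = 𝟙 Z := by
  classical
  haveI : IrreducibleSpace X := inferInstance
  have hS := fun s => Groth.Agent.S0090.result X hN s
  haveI : IsAffine Z := isAffine_of_isAffineHom i
  haveI : IsAffine V := isAffine_of_isAffineHom φ
  obtain ⟨ι, hι, C, hcov, hdisj, hC⟩ := Groth.Agent.EtFound.SplitSep.exists_split_closed hS i φ
  haveI := hC
  haveI := Fintype.ofFinite ι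
  let W : ι → Z.Opens := fun k => ((C k).ι ≫ φ).opensRange
  have hcl : ∀ k, IsClosed (W k : Set Z) := fun k => by
    have hCk : IsClosed (C k : Set V) := by
      rw [← isOpen_compl_iff]
      refine isOpen_iff_forall_mem_open.2 fun x hx => ?_
      obtain ⟨j, hj⟩ := TopologicalSpace.Opens.mem_iSup.1 (hcov.symm ▸ trivial : x ∈ ⨆ k, C k)
      refine ⟨C j, fun y hy hy' => ?_, (C j).2, hj⟩
      have h1 := (hdisj (show j ≠ k from fun h => hx (h ▸ hj))).eq_bot
      exact (h1.le ⟨hy, hy'⟩ : y ∈ (⊥ : V.Opens))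
    show IsClosed (Set.range ((C k).ι ≫ φ))
    rw [show Set.range ((C k).ι ≫ φ) = φ '' (C k : Set V) by
      rw [← Scheme.Opens.range_ι (C k)]
      exact Set.range_comp φ (C k).ι]
    exact φ.isClosedMap _ hCk
  let e := Fintype.equivFin ι
  let D : ι → Z.Opens := fun k => W k ⊓ ⟨(⋃ j ∈ Finset.univ.filter (fun j => e j < e k), (W j : Set Z))ᶜ,
    (isClosed_biUnion_finset fun j _ => hcl j).isOpen_compl⟩
  have hDcov : ∀ z : Z, ∃ k, z ∈ D k := fun z => by
    obtain ⟨v, rfl⟩ := φ.surjective z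
    obtain ⟨j, hj⟩ := TopologicalSpace.Opens.mem_iSup.1 (hcov.symm ▸ trivial : v ∈ ⨆ k, C k)
    have hne : (Finset.univ.filter fun k => φ v ∈ W k).Nonempty :=
      ⟨j, Finset.mem_filter.2 ⟨Finset.mem_univ j, ⟨(⟨v, hj⟩ : (C j).toScheme), rfl⟩⟩⟩
    obtain ⟨k, hk, hmin⟩ := Finset.exists_min_image _ e hne
    refine ⟨k, (Finset.mem_filter.1 hk).2, fun hm => ?_⟩
    obtain ⟨l, hl, hvl⟩ := Set.mem_iUnion₂.1 hm
    exact absurd (hmin l (Finset.mem_filter.2 ⟨Finset.mem_univ l, hvl⟩)) (not_le.2 (Finset.mem_filter.1 hl).2)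
  have hDdisj : ∀ a b, e a < e b → Disjoint (D a) (D b) := fun a b hab => by
    rw [disjoint_iff, eq_bot_iff]
    exact fun z hz => (hz.2.2 (Set.mem_iUnion₂.2 ⟨a, Finset.mem_filter.2 ⟨Finset.mem_univ a, hab⟩, hz.1.1⟩)).elim
  obtain ⟨hc⟩ := nonempty_isColimit_cofanMk_of (fun k => (D k).ι) (by
    rw [eq_top_iff]
    intro z _
    obtain ⟨k, hk⟩ := hDcov z
    exact TopologicalSpace.Opens.mem_iSup.2 ⟨k, by simpa using hk⟩) (fun a b hab => by
    show Disjoint (D a).ι.opensRange (D b).ι.opensRange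
    rw [Scheme.Opens.opensRange_ι, Scheme.Opens.opensRange_ι]
    rcases lt_or_gt_of_ne (fun h => hab (e.injective h)) with h | h
    exacts [hDdisj a b h, (hDdisj b a h).symm])
  let c : Cofan (fun k => (D k).toScheme) := Cofan.mk V fun k => Z.homOfLE inf_le_left ≫ ((C k).ι ≫ φ).isoOpensRange.inv ≫ (C k).ι
  refine ⟨hc.desc c, ?_⟩
  refine hc.hom_ext fun ⟨k⟩ => ?_
  refine (hc.fac_assoc c ⟨k⟩ φ).trans ((Eq.trans ?_ (Category.comp_id (D k).ι).symm))
  show (Z.homOfLE inf_le_left ≫ ((C k).ι ≫ φ).isoOpensRange.inv ≫ (C k).ι) ≫ φ = (D k).ι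
  rw [Category.assoc, Category.assoc, Scheme.Hom.isoOpensRange_inv_comp, Scheme.homOfLE_ι]

end Groth.Agent.S0625
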