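import Groth.Statements.S8537
import Groth.Agent.BcQCalc.CompPullback
-- import your own Groth.Agent.* helpers here

set_option autoImplicit false
universe u
open CategoryTheory CategoryTheory.Limits AlgebraicGeometry
open EtBC

namespace Groth.Agent.S8537

set_option linter.unusedSectionVars false
set_option linter.style.haveILetI false
set_option backward.isDefEq.respectTransparency false
set_option backward.isDefEq.respectTransparency.types false

open CategoryTheory.Abelian BcQCalc Opposite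

attribute [local instance] EtFound.pull_preservesFiniteLimits

variable {X Y Xb Yb : Scheme.{u}} (h : Y ⟶ X) (p : Xb ⟶ X) (hb : Yb ⟶ Xb) (pY : Yb ⟶ Y)

theorem isIso_baseChange0 (w : hb ≫ p = pY ≫ h) [PreservesFiniteLimits (EtCoh.pull hb)] (F : EtCoh.Ab Xb)
    (hiso : IsIso (EtBC.bcQ p h pY hb w 0 F)) : IsIso (EtCoh.baseChange0 p h pY hb w F) := by
  haveI : (EtCoh.push p).IsRightAdjoint := (EtCoh.pullPushAdj p).isRightAdjoint
  haveI : (EtCoh.push pY).IsRightAdjoint := (EtCoh.pullPushAdj pY).isRightAdjoint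
  have e := EtBC.bcQ_zero_compat p h pY hb w F
  haveI : IsIso (EtCoh.baseChange0 p h pY hb w F ≫
      (EtCoh.push pY).toRightDerivedZero.app ((EtCoh.pull hb).obj F)) := by
    rw [← e]; infer_instance
  exact IsIso.of_isIso_comp_right _ ((EtCoh.push pY).toRightDerivedZero.app ((EtCoh.pull hb).obj F))

theorem bij_congr {A B : Type*} {f g : A → B} (hf : Function.Bijective f) (e : ∀ x, g x = f x) :
    Function.Bijective g := (funext e : g = f).symm ▸ hf

theorem bijective_hom_app {P : Scheme.{u}} {M N : EtCoh.Ab P} (a : M ⟶ N) [IsIso a] (V : P.Etaleᵒᵖ) :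
    Function.Bijective (a.hom.app V).hom :=
  (ConcreteCategory.isIso_iff_bijective (a.hom.app V)).1
    (inferInstanceAs (IsIso ((sheafToPresheaf _ _ ⋙ (evaluation _ _).obj V).map a)))

theorem bijective_res_top {A B : Scheme.{u}} (f : A ⟶ B) (G : EtCoh.Ab A) :
    Function.Bijective (EtLim8.res f (𝟙 ((EtCoh.push f).obj G)) (V := EtCoh.top B)
      (W := EtCoh.top A) f (EtLim8.top_w f)) := by
  have hl : (EtCore.bcTopIso f).inv = EtLim8.liftBc f (V := EtCoh.top B) (W := EtCoh.top A) f (EtLim8.top_w f) :=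
    (EtCore.bcTopIsTerminal f).hom_ext _ _
  have := (ConcreteCategory.isIso_iff_bijective (G.obj.map (EtCore.bcTopIso f).inv.op)).1 inferInstance
  rw [hl] at this
  exact this

theorem res_square (w : hb ≫ p = pY ≫ h) (F : EtCoh.Ab Xb) (γ' : (EtCoh.push p).obj F ⟶ (EtCoh.push h).obj ((EtCoh.push pY).obj ((EtCoh.pull hb).obj F)))
    (hγ : γ' = (EtCoh.pullPushAdj h).homEquiv _ _ (EtCoh.baseChange0 p h pY hb w F))
    (d : EtCoh.top Xb ⟶ (EtCoh.bc p).obj (EtCoh.top X)) (s : F.obj.obj (op ((EtCoh.bc p).obj (EtCoh.top X)))) :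
    EtLim8.res pY (𝟙 ((EtCoh.push pY).obj ((EtCoh.pull hb).obj F))) (V := EtCoh.top Y) (W := EtCoh.top Yb) pY
        (EtLim8.top_w pY) (EtLim8.res h γ' (V := EtCoh.top X) (W := EtCoh.top Y) h (EtLim8.top_w h) s) =
      EtLim8.res hb ((EtCoh.pullPushAdj hb).unit.app F) (V := EtCoh.top Xb) (W := EtCoh.top Yb) hb
        (EtLim8.top_w hb) ((F.obj.map d.op).hom s) := by
  subst hγ
  let V' := (EtCoh.bc p).obj (EtCoh.top X)
  have hi : d.left ≫ V'.hom = 𝟙 Xb := MorphismProperty.Over.w d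
  have wc : (hb ≫ d.left) ≫ V'.hom = (EtCoh.top Yb).hom ≫ hb :=
    (Category.assoc _ _ _).trans ((congrArg (hb ≫ ·) hi).trans ((Category.comp_id hb).trans (Category.id_comp hb).symm))
  have hc : (hb ≫ d.left) ≫ EtLim8.bcFst p (EtCoh.top X) = pY ≫ h := by
    refine (Category.comp_id _).symm.trans ?_
    refine (Category.assoc _ _ _).trans ((congrArg ((hb ≫ d.left) ≫ ·) (EtLim8.bcFst_w p (EtCoh.top X))).trans ?_)
    refine (Category.assoc _ _ _).symm.trans ((congrArg (· ≫ p) wc).trans ?_)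
    exact (congrArg (· ≫ p) (Category.id_comp hb)).trans w
  refine (res_baseChange0 p h pY hb w F (V := EtCoh.top X) (W := EtCoh.top Y) (W' := EtCoh.top Yb) h
    (EtLim8.top_w h) pY (EtLim8.top_w pY) (hb ≫ d.left) wc hc s).trans ?_
  have key : ∀ (G : EtCoh.Ab Yb) (l : F ⟶ (EtCoh.push hb).obj G),
      EtLim8.res hb l (V := V') (W := EtCoh.top Yb) (hb ≫ d.left) wc s =
        EtLim8.res hb l (V := EtCoh.top Xb) (W := EtCoh.top Yb) hb (EtLim8.top_w hb) ((F.obj.map d.op).hom s) :=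
    fun G l => (@EtLim8.res_map_left _ _ hb F G l (EtCoh.top Xb) V' (EtCoh.top Yb) hb (EtLim8.top_w hb) d (hb ≫ d.left) rfl wc s).symm
  exact key _ _

theorem bijective_res_of_bijective (F : EtCoh.Ab X) (N : EtCoh.Ab Y)
    (γ : (EtCoh.pull h).obj F ⟶ N) [IsIso γ] (h0 : Function.Bijective (EtCore.Hpull h F 0)) :
    Function.Bijective (EtLim8.res h ((EtCoh.pullPushAdj h).homEquiv _ _ γ) (V := EtCoh.top X)
      (W := EtCoh.top Y) h (EtLim8.top_w h)) := by
  refine bij_congr (((bijective_hom_app γ (op (EtCoh.top Y))).comp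
      ((Sheaf.H.equiv₀ _ (EtCore.topIsTerminal Y)).bijective.comp h0)).comp
      (Sheaf.H.equiv₀ F (EtCore.topIsTerminal X)).symm.bijective) fun s => ?_
  obtain ⟨ξ, rfl⟩ := (Sheaf.H.equiv₀ F (EtCore.topIsTerminal X)).surjective s
  refine (EtLim8.equiv₀_HpullThen h F γ ξ).symm.trans ?_
  rw [EtLim8.HpullThen_apply]
  refine (Sheaf.H.equiv₀_naturality (EtCore.topIsTerminal Y) γ _).symm.trans ?_
  simp only [Function.comp_apply, AddEquiv.symm_apply_apply]

theorem bijective_Hpull_zero (w : hb ≫ p = pY ≫ h) [PreservesFiniteLimits (EtCoh.pull hb)] (F : EtCoh.Ab Xb)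
    (h0 : Function.Bijective (EtCore.Hpull h ((EtCoh.push p).obj F) 0))
    [IsIso (EtCoh.baseChange0 p h pY hb w F)] :
    Function.Bijective (EtCore.Hpull hb F 0) := by
  have e3 := bijective_res_of_bijective h _ _ (EtCoh.baseChange0 p h pY hb w F) h0
  have hd : Function.Bijective (F.obj.map (EtCore.bcTopIso p).inv.op).hom :=
    (ConcreteCategory.isIso_iff_bijective _).1 inferInstance
  have e4 : Function.Bijective (EtLim8.res hb ((EtCoh.pullPushAdj hb).unit.app F) (V := EtCoh.top Xb)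
      (W := EtCoh.top Yb) hb (EtLim8.top_w hb)) := by
    refine (Function.Bijective.of_comp_iff _ hd).1 ?_
    exact bij_congr ((bijective_res_top pY _).comp e3)
      fun s => (res_square h p hb pY w F _ rfl (EtCore.bcTopIso p).inv s).symm
  have e5 : ∀ ξ, Sheaf.H.equiv₀ ((EtCoh.pull hb).obj F) (EtCore.topIsTerminal Yb) (EtCore.Hpull hb F 0 ξ) =
      EtLim8.res hb ((EtCoh.pullPushAdj hb).unit.app F) (V := EtCoh.top Xb) (W := EtCoh.top Yb) hb
        (EtLim8.top_w hb) (Sheaf.H.equiv₀ F (EtCore.topIsTerminal Xb) ξ) := fun ξ => by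
    rw [← (EtCoh.pullPushAdj hb).homEquiv_id F]
    refine Eq.trans ?_ (EtLim8.equiv₀_HpullThen hb F (𝟙 ((EtCoh.pull hb).obj F)) ξ)
    rw [EtLim8.HpullThen_apply, Ext.comp_mk₀_id]
  refine (Function.Bijective.of_comp_iff'
    (Sheaf.H.equiv₀ ((EtCoh.pull hb).obj F) (EtCore.topIsTerminal Yb)).bijective _).1 ?_
  exact bij_congr (e4.comp (Sheaf.H.equiv₀ F (EtCore.topIsTerminal Xb)).bijective) e5

theorem subsingleton_pull_tor (w : hb ≫ p = pY ≫ h) [CompactSpace Xb] [QuasiSeparatedSpace Xb]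
    [QuasiCompact p] [QuasiSeparated p] [PreservesFiniteLimits (EtCoh.pull hb)]
    (L : Set ℕ) (n : ℕ) (hh : EtAcyc.CompN h L n) (I : EtCoh.Ab Xb) [Injective I]
    (hbc : ∀ i, i ≤ n → IsIso (EtBC.bcQ p h pY hb w i (tor L I))) (q : ℕ) (hq : q + 1 ≤ n) :
    Subsingleton (EtCoh.H Yb ((EtCoh.pull hb).obj (tor L I)) (q + 1)) := by
  let G := tor L I
  have hY : ∀ j, j ≤ q → IsZero ((EtCoh.Rpush pY (j + 1)).obj ((EtCoh.pull hb).obj G)) := fun j hj => by
    haveI := hbc (j + 1) (by omega)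
    exact ((EtCoh.pull h).map_isZero (isZero_Rpush_tor L I p j)).of_iso
      (asIso (EtBC.bcQ p h pY hb w (j + 1) G)).symm
  refine (subsingleton_H_push_iff pY q _ hY).2 ?_
  haveI := isIso_baseChange0 h p hb pY w G (hbc 0 (Nat.zero_le n))
  have hX : Subsingleton (EtCoh.H X ((EtCoh.push p).obj G) (q + 1)) :=
    (subsingleton_H_push_iff p q G fun j _ => isZero_Rpush_tor L I p j).1 (subsingleton_H_tor L I q)
  have hY' : Subsingleton (EtCoh.H Y ((EtCoh.pull h).obj ((EtCoh.push p).obj G)) (q + 1)) :=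
    ((hh _ (isLTorsion_push p L (isLTorsion_tor L I))).1 (q + 1) hq).2.subsingleton
  refine subsingleton_of_forall_eq 0 fun x => ?_
  let γ := EtCoh.baseChange0 p h pY hb w G
  have hx : x = (x.comp (Ext.mk₀ (inv γ)) (add_zero (q + 1))).comp (Ext.mk₀ γ) (add_zero (q + 1)) := by
    rw [Ext.comp_assoc_of_third_deg_zero, Ext.mk₀_comp_mk₀, IsIso.inv_hom_id, Ext.comp_mk₀_id]
  rw [hx, hY'.allEq (x.comp (Ext.mk₀ (inv γ)) (add_zero (q + 1))) 0, Ext.zero_comp]

theorem bijective_Hpull (w : hb ≫ p = pY ≫ h) [CompactSpace Xb] [QuasiSeparatedSpace Xb]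
    [QuasiCompact p] [QuasiSeparated p] [PreservesFiniteLimits (EtCoh.pull hb)]
    (L : Set ℕ) (n : ℕ) (hh : EtAcyc.CompN h L n)
    (hbc : ∀ F : EtCoh.Ab Xb, EtAcyc.IsLTorsion L F → ∀ i, i ≤ n → IsIso (EtBC.bcQ p h pY hb w i F)) :
    ∀ q : ℕ, ∀ F : EtCoh.Ab Xb, EtAcyc.IsLTorsion L F →
      (q ≤ n → Function.Bijective (EtCore.Hpull hb F q)) ∧
      (q ≤ n + 1 → Function.Injective (EtCore.Hpull hb F q)) := by
  intro q
  induction q with
  | zero =>
    intro F hF
    have hb0 : Function.Bijective (EtCore.Hpull hb F 0) := by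
      haveI := isIso_baseChange0 h p hb pY w F (hbc F hF 0 (Nat.zero_le n))
      exact bijective_Hpull_zero h p hb pY w F ((hh _ (isLTorsion_push p L hF)).1 0 (Nat.zero_le n))
    exact ⟨fun _ => hb0, fun _ => hb0.1⟩
  | succ q ih =>
    intro F hF
    obtain ⟨a, ha⟩ := exists_mono_tor L hF
    let G := tor L (Injective.under F)
    let S : ShortComplex (EtCoh.Ab Xb) := ShortComplex.mk a (cokernel.π a) (cokernel.condition a)
    have hS : S.ShortExact :=
      { exact := ShortComplex.exact_of_g_is_cokernel _ (cokernelIsCokernel a)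
        mono_f := ha
        epi_g := inferInstanceAs (Epi (cokernel.π a)) }
    have hG : EtAcyc.IsLTorsion L S.X₂ := isLTorsion_tor L _
    haveI : Epi S.g := hS.epi_g
    have hC : EtAcyc.IsLTorsion L S.X₃ := S8536.isLTorsion_of_epi L S.g hG
    have hinj : q + 1 ≤ n + 1 → Function.Injective (EtCore.Hpull hb F (q + 1)) := fun hq => by
      refine (injective_iff_map_eq_zero _).2 fun x hx => ?_
      obtain ⟨y, rfl⟩ := Ext.covariant_sequence_exact₁ _ hS x
        ((subsingleton_H_tor L (Injective.under F) q).allEq _ _) (rfl : q + 1 = q + 1)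
      have hy : (EtCore.Hpull hb S.X₃ q y).comp (hS.map_of_exact (EtCoh.pull hb)).extClass rfl = 0 :=
        (S8536.Hpull_comp_extClass hb hS q y).symm.trans hx
      obtain ⟨z, hz⟩ := Ext.covariant_sequence_exact₃ _ (hS.map_of_exact (EtCoh.pull hb)) _ _ hy
      obtain ⟨z', rfl⟩ := ((ih S.X₂ hG).1 (by omega)).2 z
      have hy' : z'.comp (Ext.mk₀ S.g) (add_zero q) = y :=
        ((ih S.X₃ hC).1 (by omega)).1 ((S8536.Hpull_comp_mk₀ hb S.g q z').trans hz)
      rw [← hy', Ext.comp_assoc_of_second_deg_zero, hS.comp_extClass, Ext.comp_zero]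
    refine ⟨fun hq => ⟨hinj (by omega), fun x => ?_⟩, hinj⟩
    obtain ⟨η, hη⟩ := Ext.covariant_sequence_exact₁ _ (hS.map_of_exact (EtCoh.pull hb)) x
      ((subsingleton_pull_tor h p hb pY w L n hh (Injective.under F) (hbc _ (isLTorsion_tor L _)) q hq).allEq _ _)
      (rfl : q + 1 = q + 1)
    obtain ⟨y, rfl⟩ := ((ih S.X₃ hC).1 (by omega)).2 η
    exact ⟨y.comp hS.extClass rfl, (S8536.Hpull_comp_extClass hb hS q y).trans hη⟩

/-- Let h : Y → X and p : X̄ → X be morphisms of schemes with X, Y, X̄ quasi-compact and quasi-separated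
(p need not be surjective), Ȳ = Y ×_X X̄ with projections h̄ : Ȳ → X̄ and p_Y : Ȳ → Y, L a set of
primes and n a natural number. Suppose that pullback along h is bijective on the etale cohomology of
every abelian L-torsion sheaf on X in degrees ≤ n and injective in degree n + 1, and that for every
abelian L-torsion sheaf F̄ on X̄ the degree-i base change morphism h⁻¹ R^i p_* F̄ → R^i p_{Y*} h̄⁻¹
F̄ is an isomorphism for i ≤ n and a monomorphism for i = n + 1. Then pullback along h̄ is bijective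
on the etale cohomology of every abelian L-torsion sheaf on X̄ in degrees ≤ n and injective in
degree n + 1. -/
theorem result {X Y Xb Yb : Scheme.{u}} [CompactSpace X] [QuasiSeparatedSpace X]
    [CompactSpace Y] [QuasiSeparatedSpace Y] [CompactSpace Xb] [QuasiSeparatedSpace Xb]
    (h : Y ⟶ X) (p : Xb ⟶ X) (hb : Yb ⟶ Xb) (pY : Yb ⟶ Y) (sq : IsPullback hb pY p h)
    (L : Set ℕ) (n : ℕ) (hh : EtAcyc.CompN h L n) [PreservesFiniteLimits (EtCoh.pull hb)]
    (hbc : ∀ Fb : EtCoh.Ab Xb, EtAcyc.IsLTorsion L Fb →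
      (∀ i : ℕ, i ≤ n → IsIso (EtBC.bcQ p h pY hb sq.w i Fb)) ∧ Mono (EtBC.bcQ p h pY hb sq.w (n + 1) Fb)) :
    EtAcyc.CompN hb L n := by
  haveI : QuasiSeparated p := by
    haveI : QuasiSeparated (p ≫ terminal.from X) := by
      rw [terminal.comp_from]; exact (quasiSeparatedSpace_iff_quasiSeparated Xb).1 inferInstance
    exact QuasiSeparated.of_comp p (terminal.from X)
  have key := bijective_Hpull h p hb pY sq.w L n hh fun F hF => (hbc F hF).1
  intro F hF _
  exact ⟨fun q hq => (key q F hF).1 hq, (key (n + 1) F hF).2 le_rfl⟩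

end Groth.Agent.S8537
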