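import Groth.Statements.S8551
import Groth.Agent.BcQCalc.HofPushInj
import Groth.Agent.BcQCalc.VComp
import Groth.Agent.S8536
import Groth.Agent.S8537
import Groth.Agent.S14622
-- import your own Groth.Agent.* helpers here

set_option autoImplicit false
universe u
open CategoryTheory CategoryTheory.Limits AlgebraicGeometry
open EtBC

namespace Groth.Agent.S8551

set_option linter.unusedSectionVars false
set_option linter.style.haveILetI false
set_option backward.isDefEq.respectTransparency false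
set_option backward.isDefEq.respectTransparency.types false

open CategoryTheory.Abelian BcQCalc Opposite EtLim8

attribute [local instance] EtFound.pull_preservesFiniteLimits

theorem iso_cancel {C D : Type*} [Category C] [Category D] {A B : C ⥤ D} (α : A ≅ B) (β : A ≅ A) {F : C}
    (hβ : β.hom.app F = 𝟙 _) {G : D} (t : B.obj F ⟶ G) :
    (α.symm ≪≫ β).hom.app F ≫ α.hom.app F ≫ t = t := by
  simp [hβ]

theorem eqToIso_app_eq {X Y : Scheme.{u}} (f : X ⟶ Y) (F : EtCoh.Ab Y) :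
    (EtCore.pullCongr (rfl : f = f)).hom.app F = 𝟙 _ := by
  simp [EtCore.pullCongr]

theorem pullCongr_cancel {X Y Z : Scheme.{u}} (f : X ⟶ Y) (g : Y ⟶ Z) (fg : X ⟶ Z) (w : f ≫ g = fg)
    (F : EtCoh.Ab Z) :
    ((EtCore.pullComp f g).symm ≪≫ EtCore.pullCongr w).hom.app F ≫
      (EtCore.pullCongr w.symm ≪≫ EtCore.pullComp f g).hom.app F = 𝟙 _ := by
  subst w
  simp [EtCore.pullCongr]

theorem HpullVia_eq {X Y Z : Scheme.{u}} (f : X ⟶ Y) (t : Y ⟶ Z) (f₀ : X ⟶ Z) (w : f ≫ t = f₀)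
    [PreservesFiniteLimits (EtCoh.pull f)] (G : EtCoh.Ab Z) (k : ℕ) (β : EtCoh.H Y ((EtCoh.pull t).obj G) k) :
    EtCore.HpullVia f t f₀ w G k β = (EtCore.Hpull f _ k β).comp
      (Ext.mk₀ (((EtCore.pullComp f t).symm ≪≫ EtCore.pullCongr w).hom.app G)) (add_zero k) := rfl

theorem HpullVia_Hpull_eq {X Y Z W : Scheme.{u}} (a : X ⟶ Y) (b : Y ⟶ Z) (c : X ⟶ W) (d : W ⟶ Z) (e : X ⟶ Z)
    (w₁ : a ≫ b = e) (w₂ : c ≫ d = e) [PreservesFiniteLimits (EtCoh.pull a)] [PreservesFiniteLimits (EtCoh.pull b)]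
    [PreservesFiniteLimits (EtCoh.pull c)] [PreservesFiniteLimits (EtCoh.pull d)] [PreservesFiniteLimits (EtCoh.pull e)]
    (G : EtCoh.Ab Z) (k : ℕ) (x : EtCoh.H Z G k) :
    EtCore.HpullVia a b e w₁ G k (EtCore.Hpull b G k x) = EtCore.HpullVia c d e w₂ G k (EtCore.Hpull d G k x) := by
  rw [HpullVia_eq, HpullVia_eq, EtAcycLib.Hpull_comp a b e w₁, EtAcycLib.Hpull_comp c d e w₂]

theorem HofPush_of_via {X Y Yb : Scheme.{u}} (pY : Yb ⟶ Y) (h : Y ⟶ X) (f₀ : Yb ⟶ X) (w : pY ≫ h = f₀)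
    [PreservesFiniteLimits (EtCoh.pull pY)] (F : EtCoh.Ab X) {N : EtCoh.Ab Yb}
    (k : (EtCoh.pull h).obj F ⟶ (EtCoh.push pY).obj N) (γ : (EtCoh.pull f₀).obj F ⟶ N)
    (hk : ((EtCoh.pullPushAdj pY).homEquiv _ _).symm k =
      ((EtCore.pullComp pY h).symm ≪≫ EtCore.pullCongr w).hom.app F ≫ γ)
    (n : ℕ) (ξ : EtCoh.H Y ((EtCoh.pull h).obj F) n) :
    EtLim.HofPush pY N n (ξ.comp (Ext.mk₀ k) (add_zero n)) =
      (EtCore.HpullVia pY h f₀ w F n ξ).comp (Ext.mk₀ γ) (add_zero n) := by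
  rw [← HpullThen_transpose, EtLim8.HpullThen_apply, hk, HpullVia_eq, ← Ext.mk₀_comp_mk₀,
    ← Ext.comp_assoc_of_third_deg_zero]

theorem via_cancel {X Y Z : Scheme.{u}} (f : X ⟶ Y) (t : Y ⟶ Z) (f₀ : X ⟶ Z) (w : f ≫ t = f₀)
    [PreservesFiniteLimits (EtCoh.pull f)] (G : EtCoh.Ab Z) (k : ℕ) (β : EtCoh.H Y ((EtCoh.pull t).obj G) k)
    (γ : (EtCoh.pull f₀).obj G ⟶ (EtCoh.pull f).obj ((EtCoh.pull t).obj G))
    (hγ : γ = (EtCore.pullCongr w.symm ≪≫ EtCore.pullComp f t).hom.app G) :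
    (EtCore.HpullVia f t f₀ w G k β).comp (Ext.mk₀ γ) (add_zero k) = EtCore.Hpull f _ k β := by
  have h0 : ((EtCore.pullComp f t).symm ≪≫ EtCore.pullCongr w).hom.app G ≫ γ = 𝟙 _ := by
    rw [hγ]; exact pullCongr_cancel f t f₀ w G
  rw [HpullVia_eq, Ext.comp_assoc_of_third_deg_zero, Ext.mk₀_comp_mk₀, h0]
  exact Ext.comp_mk₀_id _

theorem transpose_eq {X Y Yb : Scheme.{u}} (pY : Yb ⟶ Y) (h : Y ⟶ X) (F : EtCoh.Ab X) {N : EtCoh.Ab Yb}
    (T : (EtCoh.pull pY).obj ((EtCoh.pull h).obj F) ⟶ N) (γ : (EtCoh.pull (pY ≫ h)).obj F ⟶ N)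
    (e : (EtCore.pullComp pY h).hom.app F ≫ T = γ) :
    T = ((EtCore.pullComp pY h).symm ≪≫ EtCore.pullCongr rfl).hom.app F ≫ γ := by
  subst e
  exact (iso_cancel (EtCore.pullComp pY h) (EtCore.pullCongr rfl) (eqToIso_app_eq _ F) T).symm

variable {X Y Xb Yb : Scheme.{u}} (h : Y ⟶ X) (p : Xb ⟶ X) (hb : Yb ⟶ Xb) (pY : Yb ⟶ Y)

theorem mem_range_push (w : hb ≫ p = pY ≫ h) [CompactSpace Xb] [QuasiSeparatedSpace Xb]
    [QuasiCompact p] [QuasiSeparated p] [PreservesFiniteLimits (EtCoh.pull h)]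
    [PreservesFiniteLimits (EtCoh.pull hb)] [PreservesFiniteLimits (EtCoh.pull pY)]
    (L : Set ℕ) (n : ℕ) (hh : EtAcyc.CompN h L n)
    (hbc : ∀ F : EtCoh.Ab Xb, EtAcyc.IsLTorsion L F → ∀ i, i ≤ n → IsIso (EtBC.bcQ p h pY hb w i F))
    (M : EtCoh.Ab Xb) (hM : EtAcyc.IsLTorsion L M)
    (η : EtCoh.H Y ((EtCoh.pull h).obj ((EtCoh.push p).obj M)) (n + 1))
    (x : EtCoh.H Xb M (n + 1))
    (hx : EtLim.HofPush pY ((EtCoh.pull hb).obj M) (n + 1)
      (η.comp (Ext.mk₀ (EtCoh.baseChange0 p h pY hb w M)) (add_zero (n + 1))) = EtCore.Hpull hb M (n + 1) x) :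
    η ∈ Set.range (EtCore.Hpull h ((EtCoh.push p).obj M) (n + 1)) := by
  haveI : (EtCoh.push p).IsRightAdjoint := (EtCoh.pullPushAdj p).isRightAdjoint
  obtain ⟨a, ha⟩ := exists_mono_tor L hM
  let I := Injective.under M
  let G := tor L I
  let S : ShortComplex (EtCoh.Ab X) :=
    ShortComplex.mk ((EtCoh.push p).map a) (cokernel.π ((EtCoh.push p).map a)) (cokernel.condition _)
  have hS : S.ShortExact :=
    { exact := ShortComplex.exact_of_g_is_cokernel _ (cokernelIsCokernel _)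
      mono_f := inferInstanceAs (Mono ((EtCoh.push p).map a))
      epi_g := inferInstanceAs (Epi (cokernel.π _)) }
  haveI : Epi S.g := hS.epi_g
  have hK : EtAcyc.IsLTorsion L S.X₃ :=
    S8536.isLTorsion_of_epi L S.g (isLTorsion_push p L (isLTorsion_tor L I))
  haveI := S8537.isIso_baseChange0 h p hb pY w G (hbc G (isLTorsion_tor L I) 0 (Nat.zero_le n))
  have hR : ∀ j, j < n → IsZero ((EtCoh.Rpush pY (j + 1)).obj ((EtCoh.pull hb).obj G)) := fun j hj => by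
    haveI := hbc G (isLTorsion_tor L I) (j + 1) (by omega)
    exact ((EtCoh.pull h).map_isZero (isZero_Rpush_tor L I p j)).of_iso
      (asIso (EtBC.bcQ p h pY hb w (j + 1) G)).symm
  let γ := EtCoh.baseChange0 p h pY hb w G
  have h1 : (η.comp (Ext.mk₀ ((EtCoh.pull h).map S.f)) (add_zero (n + 1))).comp (Ext.mk₀ γ) (add_zero (n + 1)) = 0 := by
    refine (injective_iff_map_eq_zero _).1 (HofPush_injective_succ pY n _ hR) _ ?_
    rw [Ext.comp_assoc_of_third_deg_zero, Ext.mk₀_comp_mk₀]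
    refine (congrArg (fun r => EtLim.HofPush pY _ (n + 1) (η.comp (Ext.mk₀ r) (add_zero (n + 1))))
      (baseChange0_naturality p h pY hb w a)).trans ?_
    rw [← Ext.mk₀_comp_mk₀, ← Ext.comp_assoc_of_third_deg_zero, HofPush_natural, hx, ← S8536.Hpull_comp_mk₀,
      (subsingleton_H_tor L I n).allEq (x.comp (Ext.mk₀ a) (add_zero (n + 1))) 0, map_zero]
  have h2 : η.comp (Ext.mk₀ ((EtCoh.pull h).map S.f)) (add_zero (n + 1)) = 0 := by
    have := congrArg (fun r => Ext.comp r (Ext.mk₀ (inv γ)) (add_zero (n + 1))) h1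
    simpa only [Ext.comp_assoc_of_third_deg_zero, Ext.mk₀_comp_mk₀, Category.assoc, IsIso.hom_inv_id, Ext.comp_mk₀_id,
      Ext.zero_comp, Category.comp_id] using this
  obtain ⟨κ, hκ⟩ := Ext.covariant_sequence_exact₁ _ (hS.map_of_exact (EtCoh.pull h)) η h2 rfl
  obtain ⟨κ', rfl⟩ := ((hh S.X₃ hK).1 n le_rfl).2 κ
  exact ⟨κ'.comp hS.extClass rfl, (S8536.Hpull_comp_extClass h hS n κ').trans hκ⟩

theorem compat_unit_bc (w : hb ≫ p = pY ≫ h) (F : EtCoh.Ab X)
    (γ0 : (EtCoh.pull (pY ≫ h)).obj F ⟶ (EtCoh.pull hb).obj ((EtCoh.pull p).obj F))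
    (hγ0 : γ0 = (EtCore.pullCongr w.symm ≪≫ EtCore.pullComp hb p).hom.app F) :
    (EtCore.pullComp pY h).hom.app F ≫ ((EtCoh.pullPushAdj pY).homEquiv _ _).symm
      ((EtCoh.pull h).map ((EtCoh.pullPushAdj p).unit.app F) ≫
        EtCoh.baseChange0 p h pY hb w ((EtCoh.pull p).obj F)) = γ0 := by
  let M := (EtCoh.pull p).obj F
  let u : F ⟶ (EtCoh.push p).obj M := (EtCoh.pullPushAdj p).unit.app F
  let T' := (EtCoh.pull h).map u ≫ EtCoh.baseChange0 p h pY hb w M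
  let T := ((EtCoh.pullPushAdj pY).homEquiv _ _).symm T'
  have hL : Compat ((EtCoh.pullPushAdj p).homEquiv _ _ (𝟙 M)) ((EtCoh.pullPushAdj hb).homEquiv _ _ (𝟙 _))
      ((EtCoh.pullPushAdj (pY ≫ h)).homEquiv _ _ γ0) :=
    compat_of_pullComp w.symm _ _ γ0 (by
      rw [hγ0, CategoryTheory.Functor.map_id]
      exact ((congrArg (_ ≫ ·) (Category.id_comp _)).trans (Category.comp_id _)).symm)
  have hT : Compat ((EtCoh.pullPushAdj h).homEquiv _ _ (𝟙 ((EtCoh.pull h).obj F)))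
      ((EtCoh.pullPushAdj pY).homEquiv _ _ T)
      ((EtCoh.pullPushAdj (pY ≫ h)).homEquiv _ _ γ0) := by
    intro V W W' a wa b wb e we hbe s
    let c : W'.left ⟶ ((EtCoh.bc p).obj V).left := pullback.lift e (W'.hom ≫ hb) (by
      rw [we, Category.assoc, w])
    have wc : c ≫ ((EtCoh.bc p).obj V).hom = W'.hom ≫ hb := pullback.lift_snd _ _ _
    have hc : c ≫ bcFst p V = b ≫ a := (pullback.lift_fst _ _ _).trans hbe.symm
    have hT' : (EtCoh.pullPushAdj pY).homEquiv _ _ T = T' := Equiv.apply_symm_apply _ _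
    have e0 : res h ((EtCoh.pullPushAdj h).homEquiv _ _ T') a wa s =
        res h ((EtCoh.pullPushAdj h).homEquiv _ _ (EtCoh.baseChange0 p h pY hb w M)) a wa ((u.hom.app (op V)).hom s) := by
      refine (congrArg (fun r => res h r a wa s)
        ((EtCoh.pullPushAdj h).homEquiv_naturality_left u (EtCoh.baseChange0 p h pY hb w M))).trans ?_
      rfl
    have e1 : res pY T' b wb (res h ((EtCoh.pullPushAdj h).homEquiv _ _ (𝟙 ((EtCoh.pull h).obj F))) a wa s) =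
        res pY (𝟙 ((EtCoh.push pY).obj ((EtCoh.pull hb).obj M))) b wb
          (res h ((EtCoh.pullPushAdj h).homEquiv _ _ T') a wa s) := by
      rw [show (EtCoh.pullPushAdj h).homEquiv _ _ T' =
          (EtCoh.pullPushAdj h).homEquiv _ _ (𝟙 ((EtCoh.pull h).obj F)) ≫ (EtCoh.push h).map T' from
          (congrArg ((EtCoh.pullPushAdj h).homEquiv _ _) (Category.id_comp T').symm).trans ((EtCoh.pullPushAdj h).homEquiv_naturality_right (𝟙 _) T'),
        res_comp_push_map, ← res_comp_left, Category.comp_id]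
    rw [hT', e1, e0]
    refine (res_baseChange0 p h pY hb w M a wa b wb c wc hc _).trans ?_
    refine Eq.trans ?_ (hL V ((EtCoh.bc p).obj V) W' (bcFst p V) (bcFst_w p V) c wc e we (pullback.lift_fst _ _ _) s)
    rw [res_bcFst, Adjunction.homEquiv_id, Adjunction.homEquiv_id]
    rfl
  have hc := compat_of_pullComp (t₁ := h) (t₂ := pY) rfl (𝟙 ((EtCoh.pull h).obj F)) T
    ((EtCore.pullComp pY h).hom.app F ≫ T) (by simp [EtCore.pullCongr])
  exact ((EtCoh.pullPushAdj (pY ≫ h)).homEquiv _ _).injective (Compat.unique rfl hc hT)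

theorem backward (w : hb ≫ p = pY ≫ h) [CompactSpace X] [QuasiSeparatedSpace X] [CompactSpace Y]
    [QuasiSeparatedSpace Y] [CompactSpace Xb] [QuasiSeparatedSpace Xb]
    [QuasiCompact p] [QuasiSeparated p] [PreservesFiniteLimits (EtCoh.pull h)]
    [PreservesFiniteLimits (EtCoh.pull hb)] [PreservesFiniteLimits (EtCoh.pull pY)]
    (L : Set ℕ) (n : ℕ) (hh : EtAcyc.CompN h L n)
    (hbc : ∀ F : EtCoh.Ab Xb, EtAcyc.IsLTorsion L F → ∀ i, i ≤ n → IsIso (EtBC.bcQ p h pY hb w i F))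
    (F : EtCoh.Ab X) (hF : EtAcyc.IsLTorsion L F) [Mono ((EtCoh.pullPushAdj p).unit.app F)]
    (ξ : EtCoh.H Y ((EtCoh.pull h).obj F) (n + 1)) (x : EtCoh.H Xb ((EtCoh.pull p).obj F) (n + 1))
    (hx : EtCore.HpullVia hb p (pY ≫ h) w F (n + 1) x = EtCore.HpullVia pY h (pY ≫ h) rfl F (n + 1) ξ) :
    ξ ∈ Set.range (EtCore.Hpull h F (n + 1)) := by
  let u : F ⟶ (EtCoh.push p).obj ((EtCoh.pull p).obj F) := (EtCoh.pullPushAdj p).unit.app F
  have hM : EtAcyc.IsLTorsion L ((EtCoh.pull p).obj F) := EtAcycLib.isLTorsion_pull p hF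
  haveI : Mono u := ‹Mono ((EtCoh.pullPushAdj p).unit.app F)›
  refine S8536.result h L n hh u hF (isLTorsion_push p L hM) ξ ?_
  refine mem_range_push h p hb pY w L n hh hbc _ hM _ x ?_
  let γ0 := (EtCore.pullCongr w.symm ≪≫ EtCore.pullComp hb p).hom.app F
  have e := HofPush_of_via pY h (pY ≫ h) rfl F
    ((EtCoh.pull h).map u ≫ EtCoh.baseChange0 p h pY hb w ((EtCoh.pull p).obj F)) γ0
    (transpose_eq pY h F _ γ0 (compat_unit_bc h p hb pY w F γ0 rfl)) (n + 1) ξ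
  rw [EtLim8.HF_map_apply, Ext.comp_assoc_of_third_deg_zero, Ext.mk₀_comp_mk₀]
  refine e.trans ?_
  rw [← hx]
  exact via_cancel hb p (pY ≫ h) w F (n + 1) x γ0 rfl

/-- Let h : Y → X and p : X̄ → X be morphisms of schemes with X, Y, X̄ quasi-compact quasi-separated and
p surjective, Ȳ = Y ×_X X̄ with projections h̄ : Ȳ → X̄ and p_Y : Ȳ → Y, L a set of primes and n a
natural number. Assume that pullback along h is bijective on the etale cohomology of every abelian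
L-torsion sheaf on X in degrees ≤ n and injective in degree n + 1, and that for every abelian
L-torsion sheaf F̄ on X̄ the degree-i base change morphism h⁻¹ R^i p_* F̄ → R^i p_{Y*} h̄⁻¹ F̄ is an
isomorphism for i ≤ n and a monomorphism for i = n + 1. Let F be an abelian L-torsion sheaf on X and
ξ ∈ H^{n+1}(Y, h⁻¹F). Then ξ lies in the image of H^{n+1}(X, F) if and only if its pullback to
H^{n+1}(Ȳ, (p_Y ≫ h)⁻¹F) lies in the image of H^{n+1}(X̄, p⁻¹F) under pullback along h̄. -/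
theorem result {X Y Xb Yb : Scheme.{u}} [CompactSpace X]
    [QuasiSeparatedSpace X] [CompactSpace Y] [QuasiSeparatedSpace Y] [CompactSpace Xb] [QuasiSeparatedSpace Xb]
    (h : Y ⟶ X) (p : Xb ⟶ X) (hb : Yb ⟶ Xb) (pY : Yb ⟶ Y) (sq : IsPullback hb pY p h) (hp : Function.Surjective p.base)
    (L : Set ℕ) (n : ℕ) (hh : EtAcyc.CompN h L n)
    [PreservesFiniteLimits (EtCoh.pull h)] [PreservesFiniteLimits (EtCoh.pull hb)] [PreservesFiniteLimits (EtCoh.pull pY)]
    (hbc : ∀ Fb : EtCoh.Ab Xb, EtAcyc.IsLTorsion L Fb →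
      (∀ i : ℕ, i ≤ n → IsIso (EtBC.bcQ p h pY hb sq.w i Fb)) ∧ Mono (EtBC.bcQ p h pY hb sq.w (n + 1) Fb))
    (F : EtCoh.Ab X) (hF : EtAcyc.IsLTorsion L F) (ξ : EtCoh.H Y ((EtCoh.pull h).obj F) (n + 1)) :
    ξ ∈ Set.range (EtCore.Hpull h F (n + 1)) ↔
      EtCore.HpullVia pY h (pY ≫ h) rfl F (n + 1) ξ ∈
        Set.range (EtCore.HpullVia hb p (pY ≫ h) sq.w F (n + 1)) := by
  haveI : Surjective p := ⟨hp⟩
  haveI : QuasiSeparated p := by
    haveI : QuasiSeparated (p ≫ terminal.from X) := by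
      rw [terminal.comp_from]; exact (quasiSeparatedSpace_iff_quasiSeparated Xb).1 inferInstance
    exact QuasiSeparated.of_comp p (terminal.from X)
  haveI := EtFound.pull_preservesFiniteLimits p
  haveI := EtFound.pull_preservesFiniteLimits (pY ≫ h)
  constructor
  · rintro ⟨x, rfl⟩
    exact ⟨EtCore.Hpull p F (n + 1) x, HpullVia_Hpull_eq hb p pY h (pY ≫ h) sq.w rfl F (n + 1) x⟩
  rintro ⟨x, hx⟩
  haveI := S14622.result p F
  exact backward h p hb pY sq.w L n hh (fun G hG => (hbc G hG).1) F hF ξ x hx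

end Groth.Agent.S8551
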