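import Groth.Statements.S0646
import Groth.Agent.EtLim8.Const
import Groth.Agent.EtAcycLib.Compose

set_option autoImplicit false
open CategoryTheory CategoryTheory.Limits AlgebraicGeometry Opposite
universe u
open EtCore

namespace Groth.Agent.S0646

/-- For systems of sheaves pulled back from one stage: let ι be a directed preordered set, (X_i) an
inverse system of quasi-compact quasi-separated schemes indexed by ι with affine transition
morphisms, X a limit with projections f_i, i₀ an index and F₀ an abelian sheaf on the small etale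
site of X_{i₀}. Then H^p(X, f_{i₀}^{-1} F₀) is the colimit of the groups H^p(X_j, F₀|_{X_j}) over j
≥ i₀, in the concrete sense: every class on X is pulled back from some X_j, and a class on X_j that
pulls back to zero on X already pulls back to zero on some X_k, k ≥ j. (The source allows general
systems of sheaves (F_i, φ_{i'i}); only systems pulled back from a single stage are stated.)
(Exactness of pullback of abelian sheaves, which always holds, is carried as an instance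
hypothesis.) -/
theorem result {ι : Type u} [Preorder ι] [IsDirected ι (· ≤ ·)] (Xs : ιᵒᵖ ⥤ Scheme.{u})
    (haff : ∀ ⦃a b : ιᵒᵖ⦄ (h : a ⟶ b), IsAffineHom (Xs.map h))
    (hqc : ∀ a, CompactSpace ↥(Xs.obj a)) (hqs : ∀ a, QuasiSeparatedSpace ↥(Xs.obj a))
    (c : Cone Xs) (hc : IsLimit c) (i₀ : ι) (F₀ : EtCoh.Ab (Xs.obj (op i₀))) (p : ℕ)
    [∀ a, PreservesFiniteLimits (EtCoh.pull (c.π.app a))]
    [∀ ⦃a b : ιᵒᵖ⦄ (h : a ⟶ b), PreservesFiniteLimits (EtCoh.pull (Xs.map h))] :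
    (∀ ξ : EtCoh.H c.pt ((EtCoh.pull (c.π.app (op i₀))).obj F₀) p,
      ∃ (j : ι) (hj : i₀ ≤ j) (ξj : EtCoh.H (Xs.obj (op j)) ((EtCoh.pull (Xs.map (homOfLE hj).op)).obj F₀) p),
        EtCore.HpullVia (c.π.app (op j)) (Xs.map (homOfLE hj).op) (c.π.app (op i₀)) (c.w (homOfLE hj).op) F₀ p ξj = ξ) ∧
    (∀ (j : ι) (hj : i₀ ≤ j) (ξj : EtCoh.H (Xs.obj (op j)) ((EtCoh.pull (Xs.map (homOfLE hj).op)).obj F₀) p),
      EtCore.HpullVia (c.π.app (op j)) (Xs.map (homOfLE hj).op) (c.π.app (op i₀)) (c.w (homOfLE hj).op) F₀ p ξj = 0 →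
        ∃ (k : ι) (hk : j ≤ k), EtCore.Hpull (Xs.map (homOfLE hk).op) _ p ξj = 0) := by
  haveI : Nonempty ι := ⟨i₀⟩
  haveI : ∀ {a b : (Set.Ici i₀)ᵒᵖ} (h : a ⟶ b),
      IsAffineHom ((Groth.Agent.EtLim8.iciFunctor i₀ ⋙ Xs).map h) := fun {a b} h => haff _
  let S := Groth.Agent.EtLim8.constSys Xs i₀ F₀
  have hU := Groth.Agent.EtLim8.constSys_isUnital Xs i₀ F₀
  haveI := Groth.Agent.EtLim8.isIso_constColimHom i₀ F₀ c
  let e := asIso (Groth.Agent.EtLim8.constColimHom i₀ F₀ c)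
  have H : S.Comm (c := c.whisker (Groth.Agent.EtLim8.iciFunctor i₀)) hU p :=
    Groth.Agent.EtLim8.Sys.comm ((Functor.Initial.isLimitWhiskerEquiv _ c).symm hc)
      (fun a => hqc _) (fun a => hqs _) p S hU
  refine ⟨fun ξ => ?_, fun j hj ξj hξ => ?_⟩
  · obtain ⟨j, ξj, hξj⟩ := H.surj (ξ.comp (Abelian.Ext.mk₀ e.inv) (add_zero p))
    refine ⟨j.1, j.2, ξj, (Groth.Agent.EtLim8.colimH_constColimHom i₀ F₀ c j p ξj).symm.trans ?_⟩
    rw [hξj]
    simp [e]
  · have h0 : S.colimH (c.whisker (Groth.Agent.EtLim8.iciFunctor i₀)) hU ⟨j, hj⟩ p ξj = 0 := by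
      refine (Groth.Agent.EtAcycLib.bijective_comp_mk₀ e).1 ?_
      refine (Groth.Agent.EtLim8.colimH_constColimHom i₀ F₀ c ⟨j, hj⟩ p ξj).trans ?_
      exact hξ.trans (Abelian.Ext.zero_comp _ _ _ _ _).symm
    obtain ⟨k, hk, hk0⟩ := H.inj ⟨j, hj⟩ ξj h0
    refine ⟨k.1, hk, ?_⟩
    let θ := Groth.Agent.EtLim8.pullCmp (Xs.map (homOfLE hj).op) (Xs.map (homOfLE (show j ≤ k.1 from hk)).op)
      (Xs.map (homOfLE k.2).op) (Groth.Agent.EtLim8.tr_comp Xs hj hk) F₀
    refine (Groth.Agent.EtAcycLib.bijective_comp_mk₀ θ).1 (Eq.trans ?_ (Abelian.Ext.zero_comp _ _ _ _ _).symm)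
    refine (Groth.Agent.EtLim8.HpullThen_apply _ _ θ.hom p ξj).symm.trans (Eq.trans ?_ hk0)
    exact congrArg (fun r => EtLim.HpullThen (Xs.map (homOfLE (show j ≤ k.1 from hk)).op) _ r p ξj)
      (((EtCoh.pullPushAdj (Xs.map (homOfLE (show j ≤ k.1 from hk)).op)).homEquiv _ _).symm_apply_apply θ.hom).symm

end Groth.Agent.S0646
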