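import Groth.Statements.S18840
import Groth.Agent.Lib.CurveSSVanish
import Groth.Agent.Lib.CurveSection
import Groth.Agent.S1519

set_option autoImplicit false
set_option linter.style.haveILetI false
set_option linter.unusedSectionVars false
set_option backward.isDefEq.respectTransparency false
set_option backward.isDefEq.respectTransparency.types false
universe u
open CategoryTheory CategoryTheory.Limits AlgebraicGeometry Polynomial
open VBCurve

namespace Groth.Agent.S18840

open Groth.Agent.CurveBundle Groth.Agent.CurveSlope Groth.Agent.CurveStable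

section Helpers

/-- Powers of an invertible module. -/
theorem deg_tensorPow (k : Type u) [Field k] {X : Scheme.{u}} [X.Over (Spec (CommRingCat.of k))] [IsIntegral X]
    [IsProper (X ↘ Spec (CommRingCat.of k))] (hdim : topologicalKrullDim X = 1) {L : X.Modules}
    (hL : PicF.IsInvertible L) : ∀ n : ℕ, PicF.IsInvertible (CohB1.tensorPow L n) ∧
      Curv2.deg k X (CohB1.tensorPow L n) 1 = (n : ℤ) * Curv2.deg k X L 1
  | 0 => ⟨CurveDeg.isInvertible_structureModule, by
      show Curv2.deg k X (Coh.structureModule X) 1 = _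
      rw [CurveDeg.deg_structureModule]; simp⟩
  | n + 1 => by
    obtain ⟨h1, h2⟩ := deg_tensorPow k hdim hL n
    refine ⟨InvX.isInvertible_tensorMod h1 hL, ?_⟩
    rw [show Curv2.deg k X (CohB1.tensorPow L (n + 1)) 1 = _ from CurveRR.deg_tensor k hdim h1 hL, h2]
    push_cast
    ring

/-- An ample module on a proper curve has positive degree. -/
theorem deg_pos_of_ample (k : Type u) [Field k] {X : Scheme.{u}} [X.Over (Spec (CommRingCat.of k))] [IsIntegral X]
    [IsProper (X ↘ Spec (CommRingCat.of k))] (hdim : topologicalKrullDim X = 1) {L : X.Modules}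
    (hL : CohB1.IsAmple L) : 0 < Curv2.deg k X L 1 := by
  obtain ⟨hLi, -, hgen⟩ := hL
  obtain ⟨n, s, hx, haff⟩ := hgen (genericPoint X)
  obtain ⟨hPi, hPd⟩ := deg_tensorPow k hdim hLi (n + 1)
  have hne : ∃ y : X, y ∉ CohB1.genLocus _ s := by
    by_contra hall
    push Not at hall
    have htop : IsAffineOpen (⊤ : X.Opens) := by
      rwa [show CohB1.genLocus _ s = ⊤ from eq_top_iff.2 fun y _ => hall y] at haff
    have hF := isField_of_universallyClosed (K := k) (f := X ↘ Spec (CommRingCat.of k))
    letI := hF.toField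
    haveI : IsAffine X := IsAffine.of_isIso (X.topIso.inv) (h := htop)
    haveI : Subsingleton (Spec Γ(X, ⊤)) := inferInstanceAs (Subsingleton (PrimeSpectrum Γ(X, ⊤)))
    haveI : Subsingleton X := X.isoSpec.hom.homeomorph.toEquiv.subsingleton
    have h0 : topologicalKrullDim X ≤ 0 := topologicalKrullDim_zero_of_discreteTopology X
    rw [hdim] at h0
    exact absurd h0 (by norm_num)
  obtain ⟨y, hy⟩ := hne
  have hs : s ≠ 0 := fun h0 => by
    obtain ⟨U, hU, hxU⟩ : ∃ U : X.Opens, IsIso ((Scheme.Modules.restrictFunctor U.ι).map s) ∧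
        genericPoint X ∈ U := TopologicalSpace.Opens.mem_sSup.1 hx
    haveI : IsIso ((Scheme.Modules.restrictFunctor U.ι).map s) := hU
    have h1 := CurveBundle.rk_eq (InvEnd.isFinLocFreeOfRank_one (CurveDeg.isInvertible_structureModule (X := X)))
    have hz : IsZero ((DerSch.stalkFunctor X (genericPoint X)).obj (Coh.structureModule X)) := by
      haveI := KFlatLib.isIso_stalk_of_restrict s hxU hU
      rw [IsZero.iff_id_eq_zero, ← cancel_mono ((DerSch.stalkFunctor X (genericPoint X)).map s), h0,
        Functor.map_zero, Limits.comp_zero, Limits.comp_zero]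
    haveI : Subsingleton ((Coh.structureModule X).presheaf.stalk (genericPoint X)) :=
      ModuleCat.subsingleton_of_isZero hz
    letI := (CurveBundle.isField_stalk_generic (X := X)).toField
    have h2 : CurveBundle.rk (Coh.structureModule X) = 0 := Module.finrank_zero_of_subsingleton
    omega
  have h := S1519.result k X hdim _ hPi s hs y hy
  rw [hPd] at h
  exact pos_of_mul_pos_right h (Int.natCast_nonneg _)

variable {k : Type u} [Field k] {X : Scheme.{u}} [X.Over (Spec (CommRingCat.of k))] [IsIntegral X]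
  [IsProper (X ↘ Spec (CommRingCat.of k))] [Smooth (X ↘ Spec (CommRingCat.of k))]

/-- Bundles generated by sections have non-negative degree. -/
theorem dg_nonneg (hdim : topologicalKrullDim X = 1) (N : ℕ) :
    ∀ (n : ℕ) (Q : X.Modules), FlatMod.IsFinLocFree Q → rk Q = n →
      ∀ q : FlatMod.freeMod X N ⟶ Q, Epi q → 0 ≤ dg k Q := by
  haveI := CurveCohLib.isNoetherian_of_proper (k := k) (X := X)
  intro n
  induction n using Nat.strong_induction_on with
  | _ n ih =>
    intro Q hQ hr q hq
    haveI := hq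
    rcases Nat.eq_zero_or_pos n with h0 | h0
    · rw [dg_eq_zero_of_isZero k (isZero_of_rk_zero hQ (hr.trans h0))]
    obtain ⟨a, ha⟩ : ∃ a : Fin N, Sigma.ι (fun _ : Fin N => Coh.structureModule X) a ≫ q ≠ 0 := by
      by_contra hall
      push Not at hall
      have hq0 : q = 0 := Sigma.hom_ext _ _ fun b => by rw [hall b, Limits.comp_zero]
      have hz : IsZero Q := (IsZero.iff_id_eq_zero Q).2 (by rw [← cancel_epi q, hq0, Limits.zero_comp, Limits.zero_comp])
      rw [rk_eq_zero_of_isZero hz] at hr
      omega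
    have hO1 := InvEnd.isFinLocFreeOfRank_one (CurveDeg.isInvertible_structureModule (X := X))
    have hmono := CurveSection.mono_of_ne_zero k hdim.le (isFinLocFree_of_rank hO1) (rk_eq hO1) hQ _ ha
    obtain ⟨M, j, hj, hM, hrM, hmax⟩ := exists_max_sub k hdim.le hQ (a := 1)
      ⟨_, _, hmono, isFinLocFree_of_rank hO1, rk_eq hO1⟩
    haveI := hj
    have hMc := coh_of_free k hM
    have hQc := coh_of_free k hQ
    have hCc : Coh.IsCoh (cokernel j) := QCoh.isCoh_cokernel hMc.1 hQc j
    have hS := shortExact_cokernel_of_mono j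
    have hC := isFinLocFree_of_max k hdim.le j (cokernel.π j) _ hS hMc hQ hCc
      fun F g hg hF hrF => hmax F g hg hF (hrF.trans hrM)
    have h1 := rk_add_coh k _ _ _ hS hQc
    have h2 := dg_add k _ _ _ hS hMc hQc hCc
    have h3 := hmax _ _ hmono (isFinLocFree_of_rank hO1) (rk_eq hO1)
    rw [← deg_eq_dg k hO1, CurveDeg.deg_structureModule] at h3
    have h4 := ih (rk (cokernel j)) (by omega) _ hC rfl (q ≫ cokernel.π j) inferInstance
    omega

/-- Sections of bundles with bounded subsheaves: either non-special, or few. -/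
theorem finrank_h0_bound (hdim : topologicalKrullDim X = 1)
    (hO : Module.finrank k (Coh.HH X (Coh.structureModule X) 0) = 1) (D c : ℤ) (hD : 0 ≤ D)
    (hc : 2 * (Curv2.genus k X : ℤ) - 1 ≤ c) :
    ∀ (r : ℕ) (V : X.Modules), FlatMod.IsFinLocFree V → rk V = r →
      (∀ (W : X.Modules) (i : W ⟶ V), Mono i → FlatMod.IsFinLocFree W → dg k W ≤ D + (rk W : ℤ) * c) →
      (Module.finrank k (Coh.HH X V 0) : ℤ) ≤ D + (r : ℤ) * (c + 1 - Curv2.genus k X) ∧
      (Subsingleton (Coh.HH X V 1) ∨ (Module.finrank k (Coh.HH X V 0) : ℤ) ≤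
        D + ((r : ℤ) - 1) * (c + 1 - Curv2.genus k X) + Curv2.genus k X) := by
  haveI := CurveCohLib.isNoetherian_of_proper (k := k) (X := X)
  intro r
  induction r using Nat.strong_induction_on with
  | _ r ih =>
    intro V hV hr hW
    have hVc := coh_of_free k hV
    obtain ⟨ω, μ, hω⟩ := CurveDuality.exists_isDualizing k (X := X) hdim
    by_cases h1 : ∀ φ : V ⟶ ω, φ = 0
    · haveI := (CurveDuality.subsingleton_HH_one_iff k hω hdim hV).2 h1
      refine ⟨?_, Or.inl this⟩
      have h2 := CurveRR.euler_eq_h0_sub_h1 k hdim.le hVc.1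
      rw [Module.finrank_zero_of_subsingleton (M := Coh.HH X V 1)] at h2
      have h3 := hW V (𝟙 V) inferInstance hV
      unfold dg at h3
      rw [CurveDuality.euler_structure k hO hdim, hr] at h3
      push_cast at h2
      linarith
    · push Not at h1
      obtain ⟨φ, hφ⟩ := h1
      have hω1 := InvEnd.isFinLocFreeOfRank_one hω.inv
      obtain ⟨I, π, j, hj, hπ, hfac, hK, hI, hrk, -, hpos, hle⟩ :=
        exists_decomp k hdim.le hV (isFinLocFree_of_rank hω1) φ
      haveI := hj
      haveI := hπ
      rw [rk_eq hω1] at hle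
      have hp := hpos hφ
      obtain ⟨hK0, -⟩ := ih (rk (kernel φ)) (by omega) _ hK rfl fun W i hi hWf => by
        haveI := hi
        exact hW W (i ≫ kernel.ι φ) inferInstance hWf
      have hker : kernel.ι φ ≫ π = 0 := by
        rw [← cancel_mono j, Category.assoc, hfac, kernel.condition, Limits.zero_comp]
      haveI := S0002.result k X V hVc 0
      haveI := S0002.result k X ω (coh_of_free k (isFinLocFree_of_rank hω1)) 0
      haveI := S0002.result k X (kernel φ) (coh_of_free k hK) 0
      have h5 : Module.finrank k (Coh.HH X V 0) ≤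
          Module.finrank k (Coh.HH X (kernel φ) 0) + Module.finrank k (Coh.HH X ω 0) := by
        have hS := shortExact_cokernel_of_mono (kernel.ι φ)
        have hsum := LinearMap.finrank_range_add_finrank_ker (PnCoh.Finite.mapLin k φ 0)
        have hker : LinearMap.ker (PnCoh.Finite.mapLin k φ 0) ≤
            LinearMap.range (PnCoh.Finite.mapLin k (kernel.ι φ) 0) := fun v hv => by
          let m := Abelian.factorThruCoimage φ
          have hm : Abelian.coimage.π φ ≫ m = φ := Abelian.coimage.fac φ
          rw [LinearMap.mem_ker, ← hm, ← FFun.mapLin_comp] at hv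
          exact (CurveCohLib.ker_mapLin_g k hS 0).le (LinearMap.mem_ker.2
            (CurveCohLib.mapLin_f_zero_injective k (shortExact_cokernel_of_mono m) (hv.trans (map_zero _).symm)))
        have h6 := Submodule.finrank_le (LinearMap.range (PnCoh.Finite.mapLin k φ 0))
        have h7 := Submodule.finrank_mono hker
        have h8 := LinearMap.finrank_range_le (PnCoh.Finite.mapLin k (kernel.ι φ) 0)
        omega
      rw [(CurveDuality.canonical_invariants k hO hω hdim).1] at h5
      have hr' : (rk (kernel φ) : ℤ) = (r : ℤ) - 1 := by omega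
      rw [hr'] at hK0
      constructor
      · push_cast at h5 ⊢
        linarith
      · right
        push_cast at h5 ⊢
        linarith

end Helpers

/-- Let k be an algebraically closed field of characteristic zero, X a smooth projective integral curve
over k with an ample invertible sheaf L, N ≥ 0 and P a rational polynomial. There is an integer l,
depending only on X, L, N and P, such that for every vector bundle F of rank r ≥ 1 on X which is a
quotient of O_X^N with Hilbert polynomial P (with respect to L), F is slope-semistable if and only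
if dim H^0(X, F'(l)) / r' ≤ dim H^0(X, F(l)) / r for every sub-bundle (finite locally free
submodule) F' ⊂ F of rank r' ≥ 1; here G(l) = G ⊗ L^(⊗l). The source polarises X by a very ample
O_X(1); only the positivity of its degree enters, so an ample L is taken. -/
theorem result (k : Type u) [Field k] [IsAlgClosed k] [CharZero k]
    (X : Scheme.{u}) [X.Over (Spec (CommRingCat.of k))]
    [IsIntegral X] [IsProper (X ↘ Spec (CommRingCat.of k))] [Smooth (X ↘ Spec (CommRingCat.of k))]
    (hdim : topologicalKrullDim X = 1)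
    (L : X.Modules) (hLi : PicF.IsInvertible L) (hL : CohB1.IsAmple L)
    (N : ℕ) (P : ℚ[X]) :
    ∃ l : ℕ, ∀ (r : ℕ) (F : X.Modules) (q : FlatMod.freeMod X N ⟶ F),
      0 < r → FlatMod.IsFinLocFreeOfRank r F → Epi q → ShStab.IsHilbPoly k X L F P →
        (ModFun.IsSlopeSemistable k X F r ↔
          ∀ (F' : X.Modules) (r' : ℕ) (i : F' ⟶ F), Mono i → 0 < r' → FlatMod.IsFinLocFreeOfRank r' F' →
            (Module.finrank k (Coh.HH X (ShStab.twist X L F' l) 0) : ℚ) / (r' : ℚ) ≤
              (Module.finrank k (Coh.HH X (ShStab.twist X L F l) 0) : ℚ) / (r : ℚ)) := by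
  haveI := CurveCohLib.isNoetherian_of_proper (k := k) (X := X)
  have hO := CurveCohLib.finrank_h0_eq_one k X
  have hχ := CurveRR.euler_structureModule k (X := X) hdim.le
  have he := deg_pos_of_ample k hdim hL
  -- the twist of a bundle
  have key : ∀ (r : ℕ) (F : X.Modules), FlatMod.IsFinLocFreeOfRank r F → ∀ m : ℕ,
      FlatMod.IsFinLocFree (ShStab.twist X L F m) ∧ rk (ShStab.twist X L F m) = r ∧
      dg k (ShStab.twist X L F m) = Curv2.deg k X F r + (r : ℤ) * ((m : ℤ) * Curv2.deg k X L 1) ∧
      Curv2.euler k X (ShStab.twist X L F m) = Curv2.deg k X F r +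
        (r : ℤ) * ((m : ℤ) * Curv2.deg k X L 1 + 1 - Curv2.genus k X) := by
    intro r F hF m
    obtain ⟨hM, hMd⟩ := deg_tensorPow k hdim hLi m
    have hFf := isFinLocFree_of_rank hF
    obtain ⟨hr, hd⟩ := CurveDuality.dg_tensor_line k hdim hM hFf
    have ec := CurveTensor.commIso (CohB1.tensorPow L m) F
    have hr' : rk (ShStab.twist X L F m) = r := (rk_congr ec).symm.trans (hr.trans (rk_eq hF))
    have hd' : dg k (ShStab.twist X L F m) =
        Curv2.deg k X F r + (r : ℤ) * ((m : ℤ) * Curv2.deg k X L 1) := by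
      rw [show dg k (ShStab.twist X L F m) = _ from (dg_congr k ec).symm, hd, rk_eq hF, hMd, ← deg_eq_dg k hF]
    refine ⟨CurveHiggs.isFinLocFree_twist hM hFf, hr', hd', ?_⟩
    have h3 : Curv2.euler k X (ShStab.twist X L F m) =
        dg k (ShStab.twist X L F m) + (r : ℤ) * Curv2.euler k X (Coh.structureModule X) := by
      unfold dg
      rw [hr']
      ring
    rw [h3, hd', hχ]
    ring
  by_cases hex : ∃ (r : ℕ) (F : X.Modules) (q : FlatMod.freeMod X N ⟶ F),
      0 < r ∧ FlatMod.IsFinLocFreeOfRank r F ∧ Epi q ∧ ShStab.IsHilbPoly k X L F P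
  swap
  · exact ⟨0, fun r F q hr hF hq hP => absurd ⟨r, F, q, hr, hF, hq, hP⟩ hex⟩
  obtain ⟨r₀, F₀, q₀, hr₀, hF₀, hq₀, hP₀⟩ := hex
  obtain ⟨d₀, hd₀⟩ : ∃ d : ℕ, Curv2.deg k X F₀ r₀ ≤ d ∧ -Curv2.deg k X F₀ r₀ ≤ d :=
    ⟨(Curv2.deg k X F₀ r₀).natAbs, by omega, by omega⟩
  refine ⟨2 * d₀ + 2 * Curv2.genus k X, fun r F q hr hF hq hP => ?_⟩
  obtain ⟨hrr, hdd⟩ : (r : ℤ) = r₀ ∧ Curv2.deg k X F r = Curv2.deg k X F₀ r₀ := by
    have h1 : ∀ m : ℕ, Curv2.euler k X (ShStab.twist X L F m) = Curv2.euler k X (ShStab.twist X L F₀ m) :=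
      fun m => by exact_mod_cast (hP m).trans (hP₀ m).symm
    have a0 := h1 0
    have a1 := h1 1
    rw [(key r F hF 0).2.2.2, (key r₀ F₀ hF₀ 0).2.2.2] at a0
    rw [(key r F hF 1).2.2.2, (key r₀ F₀ hF₀ 1).2.2.2] at a1
    push_cast at a0 a1
    have h2 : (r : ℤ) = r₀ := mul_right_cancel₀ he.ne' (by linarith)
    exact ⟨h2, by rw [h2] at a0; linarith⟩
  have hFf := isFinLocFree_of_rank hF
  have hd0 : 0 ≤ Curv2.deg k X F r := deg_eq_dg k hF ▸ dg_nonneg hdim N _ F hFf rfl q hq
  have hsub : ∀ (W : X.Modules) (i : W ⟶ F), Mono i → FlatMod.IsFinLocFree W →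
      dg k W ≤ Curv2.deg k X F r := fun W i hi hW => by
    haveI := hi
    haveI := hq
    obtain ⟨Q, p, hp, hQ, -, hdg⟩ := exists_quot_bundle k hdim.le hFf hW i
    haveI := hp
    have := dg_nonneg (k := k) hdim N _ Q hQ rfl (q ≫ p) inferInstance
    rw [deg_eq_dg k hF]
    omega
  set l := 2 * d₀ + 2 * Curv2.genus k X with hl
  set c : ℤ := (l : ℤ) * Curv2.deg k X L 1 with hcdef
  have hc : 2 * (d₀ : ℤ) + 2 * (Curv2.genus k X : ℤ) ≤ c := by
    rw [show 2 * (d₀ : ℤ) + 2 * (Curv2.genus k X : ℤ) = (l : ℤ) by rw [hl]; push_cast; ring]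
    exact le_mul_of_one_le_right (Int.natCast_nonneg l) he
  have hnon : ∀ (n : ℕ) (G : X.Modules), FlatMod.IsFinLocFreeOfRank n G →
      Subsingleton (Coh.HH X (ShStab.twist X L G l) 1) →
      (Module.finrank k (Coh.HH X (ShStab.twist X L G l) 0) : ℤ) =
        Curv2.deg k X G n + (n : ℤ) * (c + 1 - Curv2.genus k X) := fun n G hG h => by
    obtain ⟨hGf, -, -, hGe⟩ := key n G hG l
    have h2 := CurveRR.euler_eq_h0_sub_h1 k hdim.le (coh_of_free k hGf).1
    rw [Module.finrank_zero_of_subsingleton (M := Coh.HH X (ShStab.twist X L G l) 1), hGe] at h2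
    rw [hcdef]
    push_cast at h2 ⊢
    linarith
  obtain ⟨hM, hMd⟩ := deg_tensorPow k hdim hLi l
  have hF1 := hnon r F hF (CurveDuality.subsingleton_HH_one_twist k hO hdim hFf hM fun K i hi hK _ => by
    have := hsub K i hi hK
    rw [← deg_eq_dg k hF, hMd]
    omega)
  have hlow : ∀ (n : ℕ) (G : X.Modules), FlatMod.IsFinLocFreeOfRank n G →
      Curv2.deg k X G n + (n : ℤ) * (c + 1 - Curv2.genus k X) ≤
        Module.finrank k (Coh.HH X (ShStab.twist X L G l) 0) := fun n G hG => by
    obtain ⟨hGf, -, -, hGe⟩ := key n G hG l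
    have h2 := euler_le_h0 k hdim.le (coh_of_free k hGf)
    rw [hGe] at h2
    rw [hcdef]
    exact h2
  have hrz : (0 : ℤ) < r := by exact_mod_cast hr
  constructor
  · intro hss F' r' i hi hr' hF'
    rw [div_le_div_iff₀ (by exact_mod_cast hr') (by exact_mod_cast hr)]
    suffices h : (Module.finrank k (Coh.HH X (ShStab.twist X L F' l) 0) : ℤ) * r ≤
        (Module.finrank k (Coh.HH X (ShStab.twist X L F l) 0) : ℤ) * r' by exact_mod_cast h
    rw [hF1]
    have hF'f := isFinLocFree_of_rank hF'
    obtain ⟨hGf, hGr, hGd, -⟩ := key r' F' hF' l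
    have hs := hss F' r' i hi hr' hF'
    have hbd := (finrank_h0_bound (k := k) hdim hO (Curv2.deg k X F r) c hd0 (by omega) r' _ hGf hGr
      fun W j hj hW => ?_).2
    · rcases hbd with h1 | h1
      · rw [hnon r' F' hF' h1]
        linarith
      · have h2 := mul_le_mul_of_nonneg_right h1 hrz.le
        have hr'z : (0 : ℤ) ≤ r' := Int.natCast_nonneg _
        have hdle : Curv2.deg k X F r ≤ d₀ := by rw [hdd]; exact hd₀.1
        have a1 := mul_le_mul_of_nonneg_right hdle hrz.le
        have a2 := mul_nonneg hd0 hr'z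
        have a3 := mul_nonneg hrz.le
          (show (0 : ℤ) ≤ c + 1 - 2 * (Curv2.genus k X : ℤ) - d₀ by omega)
        linarith
    · haveI := hi
      haveI := hj
      obtain ⟨A, hA, hdA, ⟨e₀⟩⟩ := CurveDuality.exists_inverse_deg k hdim hM
      have e : (DCoh.tensorBi.obj A).obj (CohB1.tensorPow L l) ≅ Coh.structureModule X :=
        CurveTensor.commIso A (CohB1.tensorPow L l) ≪≫ e₀
      have hAf := isFinLocFree_of_rank (InvEnd.isFinLocFreeOfRank_one hA)
      let j' : W ⟶ (DCoh.tensorBi.obj (CohB1.tensorPow L l)).obj F' :=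
        j ≫ (CurveTensor.commIso F' (CohB1.tensorPow L l)).hom
      haveI : Mono ((DCoh.tensorBi.obj A).map j') :=
        (CurveTensor.shortExact_tensor hAf _ _ _ (shortExact_cokernel_of_mono j')).mono_f
      obtain ⟨hrW, hdW⟩ := CurveDuality.dg_tensor_line k hdim hA hW
      have h2 := hsub _ ((DCoh.tensorBi.obj A).map j' ≫ (CurveRR.cancelIso e).hom.app F' ≫ i)
        inferInstance (KFlatLib.isFinLocFree_tensor hAf hW)
      rw [hdW, hdA, hMd] at h2
      linarith
  · intro h F' r' i hi hr' hF'
    have h1 := h F' r' i hi hr' hF'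
    rw [div_le_div_iff₀ (by exact_mod_cast hr') (by exact_mod_cast hr)] at h1
    have h1' : (Module.finrank k (Coh.HH X (ShStab.twist X L F' l) 0) : ℤ) * r ≤
        (Module.finrank k (Coh.HH X (ShStab.twist X L F l) 0) : ℤ) * r' := by exact_mod_cast h1
    rw [hF1] at h1'
    have h2 := mul_le_mul_of_nonneg_right (hlow r' F' hF') hrz.le
    linarith

end Groth.Agent.S18840
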