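import Groth.Statements.S1499
import Groth.Agent.AmpleX.BaseChange
import Groth.Agent.AmpleX.ExtendQS
import Groth.Agent.AmpleX.Rel
import Groth.Agent.AmpleX.Basis

set_option autoImplicit false
universe u
attribute [local instance] HasDerivedCategory.standard
open FlatMor

set_option backward.isDefEq.respectTransparency false
set_option backward.isDefEq.respectTransparency.types false

namespace Groth.Agent.S1499

open CategoryTheory AlgebraicGeometry in
theorem quasiSeparatedSpace_of_ampleFamily {Y : Scheme.{u}} (hY : MoreMor.HasAmpleFamily Y) :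
    QuasiSeparatedSpace Y := by
  obtain ⟨hc, hY⟩ := hY
  haveI := hc
  choose L m s hL hm hy hG using hY
  obtain ⟨S, hS⟩ := isCompact_univ.elim_finite_subcover
    (fun y : Y => (CohB1.genLocus _ (s y) : Set Y)) (fun y => (CohB1.genLocus _ (s y)).2)
    (fun y _ => Set.mem_iUnion.2 ⟨y, hy y⟩)
  rw [quasiSeparatedSpace_iff_forall_affineOpens]
  intro U V
  have h : (U.1 : Set Y) ∩ V.1 = ⋃ y ∈ S, ((U.1 ⊓ CohB1.genLocus _ (s y) : Y.Opens) : Set Y) ∩
      (V.1 ⊓ CohB1.genLocus _ (s y) : Y.Opens) := by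
    ext p
    simp only [Set.mem_inter_iff, Set.mem_iUnion, TopologicalSpace.Opens.coe_inf]
    refine ⟨fun h => ?_, fun ⟨y, _, h1, h2⟩ => ⟨h1.1, h2.1⟩⟩
    obtain ⟨y, hyS, hp⟩ := Set.mem_iUnion₂.1 (hS (Set.mem_univ p))
    exact ⟨y, hyS, ⟨h.1, hp⟩, ⟨h.2, hp⟩⟩
  rw [h]
  refine S.finite_toSet.isCompact_biUnion fun y _ => ?_
  have hi := InvX.isInvertible_tensorPow (hL y) (m y)
  have hU := AmpleX.isAffineOpen_inf_genLocus hi U.2 (s y)
  have hV := AmpleX.isAffineOpen_inf_genLocus hi V.2 (s y)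
  let G := CohB1.genLocus _ (s y)
  haveI : IsAffine (G : Scheme.{u}) := hG y
  have hU' : IsAffineOpen (G.ι ⁻¹ᵁ (U.1 ⊓ G)) := hU.preimage_of_isOpenImmersion G.ι (by simp [G])
  have hV' : IsAffineOpen (G.ι ⁻¹ᵁ (V.1 ⊓ G)) := hV.preimage_of_isOpenImmersion G.ι (by simp [G])
  have := (hU'.inf hV').isCompact.image G.ι.continuous
  convert this using 1
  ext p
  refine ⟨fun hp => ⟨⟨p, hp.1.2⟩, hp, rfl⟩, ?_⟩
  rintro ⟨q, hq, rfl⟩
  exact hq

open AlgebraicGeometry CategoryTheory Limits in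
open Groth.Agent.H23.PicMul in
/-- Let f : X → Y with Y having an ample family of invertible modules, and suppose some O_X-module is
ample relative to f. Then X has an ample family of invertible modules. -/
theorem result {X Y : Scheme.{u}} (f : X ⟶ Y)
    (hY : MoreMor.HasAmpleFamily Y) (L : X.Modules) (hL : RelAmple.IsRelAmple f L) :
    MoreMor.HasAmpleFamily X := by
  haveI := hL.1
  haveI := hY.1
  haveI := quasiSeparatedSpace_of_ampleFamily hY
  haveI : IsSeparated f := AmpleX.isSeparated_of_ampleOn fun x => AmpleX.ampleOn_of_isRelAmple hL (f x)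
  haveI : QuasiSeparatedSpace X := quasiSeparatedSpace_of_quasiSeparated f
  haveI : CompactSpace X := QuasiCompact.compactSpace_of_compactSpace f
  have hi := AmpleX.isInvertible_of_isRelAmple hL
  refine ⟨inferInstance, fun x => ?_⟩
  obtain ⟨M, k, s, hM, -, hxs, hsa⟩ := hY.2 (f x)
  obtain ⟨m, -, a, hxa, -, ha⟩ := AmpleX.exists_sections_of_isRelAmple hL hsa hxs (U := ⊤) trivial
  let N := (Scheme.Modules.pullback f).obj (CohB1.tensorPow M k)
  have hMk := InvX.isInvertible_tensorPow hM k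
  have hN : PicF.IsInvertible N := PicClLib.isInvertible_pullback f hMk
  let σ : Γ(N, ⊤) := InvX.pullElt f (InvX.one s)
  have hσ : AmpleX.locus σ = f ⁻¹ᵁ CohB1.genLocus _ s :=
    (AmpleX.locus_pullElt hMk f _).trans (by rw [AmpleX.genLocus_eq_locus])
  let s' := InvX.ofSect σ
  have hG : CohB1.genLocus N s' = f ⁻¹ᵁ CohB1.genLocus _ s := by
    rw [AmpleX.genLocus_eq_locus, InvX.one_ofSect, hσ]
  have hLm := InvX.isInvertible_tensorPow hi m
  obtain ⟨n₀, hn₀⟩ := AmpleX.exists_extend' (ProjUPX.isQCoh_of_isInvertible hLm) hN s'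
    (AModX.res _ hG.le a)
  obtain ⟨T, hT⟩ := hn₀ (n₀ + 1) (Nat.le_succ _)
  have hNn := InvX.isInvertible_tensorPow hN (n₀ + 1)
  have hP₀ := InvX.isInvertible_tensorMod hLm hNn
  let P := CohB1.tensorMod (CohB1.tensorMod (CohB1.tensorPow L m) (CohB1.tensorPow N (n₀ + 1))) N
  have hP : PicF.IsInvertible P := InvX.isInvertible_tensorMod hP₀ hN
  obtain ⟨b, hb⟩ := AmpleX.exists_locus_cl (N := CohB1.tensorPow P 1)
    (show PicF.cl P = _ by rw [cl_tensorPow, pow_one]) (InvX.tmul T σ)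
  have h1 : AmpleX.locus T ⊓ CohB1.genLocus N s' = AmpleX.locus a ⊓ CohB1.genLocus N s' := by
    rw [← AmpleX.locus_res T (le_top : CohB1.genLocus N s' ≤ ⊤), hT, AmpleX.locus_tmul hLm hNn,
      AmpleX.locus_powElt hN, AmpleX.locus_res, AmpleX.locus_res, ← AmpleX.genLocus_eq_locus s',
      inf_idem, inf_assoc, inf_idem]
  have key : AmpleX.locus b = AmpleX.locus a := by
    refine hb.trans ((AmpleX.locus_tmul hP₀ hN T σ).trans ?_)
    refine (congrArg (AmpleX.locus T ⊓ ·) (hσ.trans hG.symm)).trans (h1.trans ?_)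
    exact inf_eq_left.2 ((AmpleX.locus_le a).trans hG.ge)
  refine ⟨P, 1, InvX.ofSect b, hP, le_rfl, ?_, ?_⟩
  · rw [AmpleX.genLocus_eq_locus, InvX.one_ofSect, key]; exact hxa
  · rw [AmpleX.genLocus_eq_locus, InvX.one_ofSect, key]; exact ha

end Groth.Agent.S1499
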