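import Groth.Statements.S14140
import Groth.Agent.AVVanish.PhiSurj
import Groth.Agent.Lib.AVDual
import Groth.Agent.S12002
-- import your own Groth.Agent.* helpers here

set_option autoImplicit false
universe u
open CategoryTheory CategoryTheory.Limits MonoidalCategory CartesianMonoidalCategory MonObj GrpObj AlgebraicGeometry
open AbVar

set_option backward.isDefEq.respectTransparency false
attribute [-instance] CategoryTheory.catToReflQuiver
open scoped Groth.Agent.H23.PicMul

namespace Groth.Agent.S14140

/-- Let k be an algebraically closed field, A an abelian variety over k (a proper smooth k-group scheme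
with geometrically connected fibres), L an ample invertible O_A-module with an inverse L' (L ⊗ L' ≅
O_A), and M an invertible O_A-module in Pic⁰(A), meaning that t_x^*M ≅ M for every k-rational point
x of A, where t_x : A → A is the translation by x (the product of the identity and the constant map
x in the group Hom(A, A)). Then there is a k-rational point x of A with M ≅ t_x^*L ⊗ L'. -/
theorem result (k : Type u) [Field k] [IsAlgClosed k]
    (A : Over (Spec (CommRingCat.of k))) [GrpObj A] [IsProper A.hom] [Smooth A.hom] [GeometricallyConnected A.hom]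
    (L L' : A.left.Modules) (hLa : CohB1.IsAmple L) (hLL' : Nonempty (CohB1.tensorMod L L' ≅ Coh.structureModule A.left))
    (M : A.left.Modules) (hM : PicF.IsInvertible M)
    (hM0 : ∀ x : 𝟙_ (Over (Spec (CommRingCat.of k))) ⟶ A, Nonempty ((Scheme.Modules.pullback (𝟙 A * (toUnit A ≫ x)).left).obj M ≅ M)) :
    ∃ x : 𝟙_ (Over (Spec (CommRingCat.of k))) ⟶ A,
      Nonempty (M ≅ CohB1.tensorMod ((Scheme.Modules.pullback (𝟙 A * (toUnit A ≫ x)).left).obj L) L') := by
  haveI : GeometricallyIntegral A.hom := AVDual.geometricallyIntegral_of_smooth A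
  have hL : PicF.IsInvertible L := hLa.1
  obtain ⟨u, hu⟩ := AVVanish.exists_translate_eq A (c := PicF.cl L) (d := PicF.cl M) ⟨L, rfl, hL⟩ ⟨M, rfl, hM⟩
    ((S12002.result k A L hLa).subset fun a ha => H23.PicMul.cl_eq_iff.1 ha) (fun a => H23.PicMul.cl_eq_iff.2 (hM0 a))
  refine ⟨u, H23.PicMul.cl_eq_iff.1 ?_⟩
  show PicF.cl M = H23.CubeAb.F (PicF.cl L) (H23.CubeAb.tr u) * PicF.cl L'
  rw [hu]
  exact ((_root_.mul_assoc _ _ _).trans ((congrArg (PicF.cl M * ·)
    (show PicF.cl L * PicF.cl L' = 1 from H23.PicMul.cl_eq_iff.2 hLL')).trans (_root_.mul_one _))).symm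


end Groth.Agent.S14140
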