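import Groth.Statements.S2209
import Groth.Agent.S1297
import Groth.Agent.FlatMisc.SteinUC
import Groth.Agent.SteinLib.Conn
import Mathlib
-- import your own Groth.Agent.* helpers here

set_option autoImplicit false
set_option backward.isDefEq.respectTransparency false
universe u
open CategoryTheory AlgebraicGeometry
open Models

attribute [-instance] CategoryTheory.catToReflQuiver

namespace Groth.Agent.S2209

/-- Let R be a discrete valuation ring with fraction field K, C a smooth proper curve over K whose ring
of global functions is K (the map K -> H^0(C, O_C) is an isomorphism), and X a regular proper model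
of C over R. Then the special fibre of X is connected. -/
theorem result (R : Type u) [CommRing R] [IsDomain R]
    [IsDiscreteValuationRing R] (C X : Scheme.{u})
    (f : C ⟶ Spec (CommRingCat.of (FractionRing R))) (p : X ⟶ Spec (CommRingCat.of R))
    (hC : Curve.IsSmoothProperCurve (FractionRing R) C f) (hH0 : IsIso f.appTop)
    (hX : Models.IsRegularProperModel R X p C f) :
    ConnectedSpace ↥(Models.specialFibre R X p) := by
  obtain ⟨⟨hflat, hlft, hqc, g, hg⟩, hprop, -⟩ := hX
  haveI := hflat
  haveI := hprop
  let jK := Spec.map (CommRingCat.ofHom (algebraMap R (FractionRing R)))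
  haveI : QuasiCompact jK := inferInstance
  haveI : IsDominant jK := ⟨(PrimeSpectrum.denseRange_comap_iff_ker_le_nilRadical _).2 (by
    show RingHom.ker (algebraMap R (FractionRing R)) ≤ _
    rw [(RingHom.injective_iff_ker_eq_bot _).1 (IsFractionRing.injective R (FractionRing R))]
    exact bot_le)⟩
  haveI : IsSchemeTheoreticallyDominant jK := IsSchemeTheoreticallyDominant.of_isDominant jK
  haveI : IsSchemeTheoreticallyDominant g := IsSchemeTheoreticallyDominant.of_isPullback hg.flip
  haveI : QuasiCompact g := MorphismProperty.of_isPullback hg.flip inferInstance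
  have hinj : Function.Injective g.appTop := g.app_injective ⊤
  haveI : IsIntegrallyClosed R := inferInstance
  have hfin : p.appTop.hom.Finite := Groth.Agent.S1297.finite_appTop p
  have hbij : Function.Bijective p.appTop := by
    let eR := (Scheme.ΓSpecIso (CommRingCat.of R)).commRingCatIsoToRingEquiv
    let eK := (Scheme.ΓSpecIso (CommRingCat.of (FractionRing R))).commRingCatIsoToRingEquiv
    have hf : Function.Bijective f.appTop := (ConcreteCategory.isIso_iff_bijective _).1 hH0
    have hcomp : ∀ a, g.appTop (p.appTop a) = f.appTop (jK.appTop a) := fun a => by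
      rw [← CommRingCat.comp_apply, ← CommRingCat.comp_apply, ← Scheme.Hom.comp_appTop,
        ← Scheme.Hom.comp_appTop, hg.w]
    have hjK : ∀ a, eK (jK.appTop a) = algebraMap R (FractionRing R) (eR a) := fun a => by
      show (jK.appTop ≫ (Scheme.ΓSpecIso _).hom) a = ((Scheme.ΓSpecIso _).hom ≫ CommRingCat.ofHom _) a
      rw [Scheme.ΓSpecIso_naturality]
      rfl
    refine ⟨fun a b hab => ?_, fun x => ?_⟩
    · have h1 := congrArg g.appTop hab
      rw [hcomp, hcomp] at h1
      have h2 := congrArg eK (hf.1 h1)
      rw [hjK, hjK] at h2
      exact eR.injective (IsFractionRing.injective R (FractionRing R) h2)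
    · obtain ⟨y, hy⟩ := hf.2 (g.appTop x)
      obtain ⟨P, hP, hPx⟩ := hfin.to_isIntegral x
      have hint : _root_.IsIntegral R (eK y) := by
        refine ⟨P.map eR.toRingHom, hP.map _, ?_⟩
        apply eK.symm.injective
        apply hf.1
        rw [map_zero, map_zero, Polynomial.eval₂_map]
        show (f.appTop.hom.comp eK.symm.toRingHom) (Polynomial.eval₂ _ (eK y) P) = 0
        rw [Polynomial.hom_eval₂]
        have e1 : (f.appTop.hom.comp eK.symm.toRingHom).comp
            ((algebraMap R (FractionRing R)).comp eR.toRingHom) = g.appTop.hom.comp p.appTop.hom :=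
          RingHom.ext fun a => by
            show f.appTop (eK.symm (algebraMap R (FractionRing R) (eR a))) = g.appTop (p.appTop a)
            rw [← hjK, RingEquiv.symm_apply_apply, hcomp]
        rw [e1, show (f.appTop.hom.comp eK.symm.toRingHom) (eK y) = g.appTop x by
          show f.appTop (eK.symm (eK y)) = _
          rw [RingEquiv.symm_apply_apply, hy], ← Polynomial.hom_eval₂, hPx, map_zero]
      obtain ⟨r, hr⟩ := IsIntegrallyClosed.isIntegral_iff.1 hint
      refine ⟨eR.symm r, hinj ?_⟩
      rw [hcomp, ← hy]
      congr 1
      apply eK.injective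
      rw [hjK, RingEquiv.apply_symm_apply, hr]
  have happ : ∀ U : (Spec (CommRingCat.of R)).Opens, IsIso (p.app U) := fun U =>
    FlatMisc.isIso_app_of_bijective_affine p (fun z => ⟨⊤, isAffineOpen_top _, trivial, hbij⟩) U
  haveI := Groth.Agent.SteinLib.geometricallyConnected_of_isIso_app_noetherian p happ
  exact GeometricallyConnected.geometrically_connectedSpace (f := p)
    (Spec.map (CommRingCat.ofHom (algebraMap R (IsLocalRing.ResidueField R))))
    (Limits.pullback.fst _ _) (Limits.pullback.snd _ _) (IsPullback.of_hasPullback _ _)


end Groth.Agent.S2209
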