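import Groth.Statements.S14116
import Groth.Agent.LCZLib.DepthGlobal
import Groth.Agent.QCoh.LocFree
import Groth.Agent.FlatLoc6.NormFlat
import Groth.Agent.LCZLib.Local
-- import your own Groth.Agent.* helpers here

set_option autoImplicit false
universe u
open CategoryTheory CategoryTheory.Limits AlgebraicGeometry Opposite TopologicalSpace
open LocCohZ

namespace Groth.Agent.S14116

theorem depth_le_of_free (R : Type u) [CommRing R] [IsLocalRing R] [IsNoetherianRing R] (M : Type u) [AddCommGroup M]
    [Module R M] [Module.Free R M] [Module.Finite R M] : LocCoh.depth R R ≤ LocCoh.depth R M := by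
  rcases Nat.eq_zero_or_pos (Module.finrank R M) with h | h
  · haveI : Subsingleton M := (Module.finrank_eq_zero_iff_of_free R M).mp h
    have : LocCoh.depth R M = ⊤ := if_pos (Subsingleton.elim _ _)
    rw [this]; exact le_top
  · obtain ⟨k, hk⟩ : ∃ k, Module.finrank R M = k + 1 := ⟨_, (Nat.succ_pred_eq_of_pos h).symm⟩
    rw [Groth.Agent.Hensel.depth_congr ((Module.finBasisOfFinrankEq R M hk).equivFun),
      Groth.Agent.FlatLoc6.depth_pi]

noncomputable def hzCast {X : TopCat.{u}} (F : CohTop.Ab X) (i : ℕ) (U : Opens X) {W : Opens X} (e : W = U)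
    {h : W ≤ ⊤} : LocCohZ.HZ F i h ≃+ LocCohZ.HZc F i U := by
  subst e; exact AddEquiv.refl _

/-- Let X be a locally Noetherian scheme, U ⊆ X open with closed complement Y, d a natural number such
that the depth of O_X along Y is at least d (every local ring O_{X,y}, y ∈ Y, has depth at least d),
and M a finite locally free O_X-module. Then Γ(X, ℋ^d_Y(M)) is isomorphic to H^d_Y(X, M), where
ℋ^d_Y is the d-th right derived functor of the sheaf of sections with support in Y (applied to the
underlying abelian sheaf of M) and H^d_Y(X, M) is cohomology with support in Y. Existence of an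
additive isomorphism only; the published statement asserts a canonical functorial isomorphism that
is linear over the global functions Γ(X, O_X) (obtained in its proof as the edge map of the
local-to-global spectral sequence), and adds that U ↦ H^d_{Y∩U}(U, M), U ⊆ X open, is a sheaf; none
of this is part of this row. (The published statement assumes a flat morphism X → S with
Cohen–Macaulay fibres and relative codimension of Y at least d; these enter only through the depth
bound, which is the hypothesis of this row.) -/
theorem result (X : Scheme.{u}) [IsLocallyNoetherian X]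
    (U : X.Opens) (d : ℕ)
    (hdepth : ∀ x : ↥X, x ∉ (U : Set ↥X) → (d : ℕ∞) ≤ LocCoh.depth ↑(X.presheaf.stalk x) ↑(X.presheaf.stalk x))
    (M : X.Modules) (hM : FlatMod.IsFinLocFree M) :
    Nonempty (↑(((LocCohZ.HZsh (X := X.carrier) U d).obj (Coh.toAb M)).obj.obj (op ⊤)) ≃+ LocCohZ.HZM X M d U) := by
  have hcoh : Coh.IsCoh M := ⟨Groth.Agent.QCoh.isQCoh_of_isFinLocFree hM,
    Groth.Agent.QCoh.isFT_of_isFP (Groth.Agent.QCoh.isFP_of_isFinLocFree hM)⟩
  have hv : ∀ i, i < d → IsZero ((LocCohZ.HZsh (X := X.carrier) U i).obj (Coh.toAb M)) := by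
    refine (Groth.Agent.LCZLib.isZero_HZsh_iff_depth U M hcoh d).2 fun x hx => ?_
    haveI := Groth.Agent.QCoh.free_stalk_of_isFinLocFree hM x
    haveI := Groth.Agent.QCoh.finite_stalk_of_isFT hcoh.1 hcoh.2 x
    exact (hdepth x hx).trans (depth_le_of_free (X.presheaf.stalk x) (M.presheaf.stalk x))
  obtain ⟨e⟩ := Groth.Agent.LCZLib.local_global (X := X.carrier) U d (Coh.toAb M) hv ⊤
  exact ⟨e.trans (hzCast (X := X.carrier) (Coh.toAb M) d U (inf_top_eq _))⟩


end Groth.Agent.S14116
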