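import Groth.Statements.S2079
import Groth.Agent.Graft.Model
import Groth.Agent.Graft.SubLim
import Groth.Agent.Graft.EvProper
-- import your own Groth.Agent.* helpers here

set_option autoImplicit false
set_option linter.style.haveILetI false
universe u
open CategoryTheory AlgebraicGeometry
open Lim

attribute [-instance] CategoryTheory.catToReflQuiver

namespace Groth.Agent.S2079

/-- Let `f : X → S` be proper with `S` quasi-compact and quasi-separated. Then `X` is the limit of a
cofiltered diagram of `S`-schemes which are proper and of finite presentation over `S`, with all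
transition morphisms and all projections `X → X_i` closed immersions. -/
theorem result {X S : Scheme.{u}} (f : X ⟶ S) [IsProper f] [CompactSpace S]
    [QuasiSeparatedSpace S] :
    ∃ (I : Type u) (_ : SmallCategory I) (_ : IsCofiltered I) (D : I ⥤ Over S) (c : Limits.Cone D)
      (_ : Limits.IsLimit c) (e : c.pt ≅ Over.mk f),
      (∀ (i j : I) (a : i ⟶ j), IsClosedImmersion (D.map a).left) ∧
      (∀ i, IsClosedImmersion (c.π.app i).left ∧ IsProper (D.obj i).hom ∧
        LocallyOfFinitePresentation (D.obj i).hom) := by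
  open Groth.Agent.MorLib.IdealFG Limits in
  haveI : CompactSpace X := QuasiCompact.compactSpace_of_compactSpace f
  haveI : QuasiSeparatedSpace X := quasiSeparatedSpace_of_quasiSeparated f
  obtain ⟨P, p, k, hc, hq, hp, hk, hkp⟩ := Graft.exists_hasModel f
  haveI : IsProper (k.ker.subschemeι ≫ p) := by
    have e : k.ker.subschemeι ≫ p = inv k.toImage ≫ f := by
      rw [← hkp, IsIso.eq_inv_comp, Scheme.Hom.toImage_imageι_assoc]
    rw [e]; infer_instance
  obtain ⟨K₀, hK₀⟩ := Graft.exists_isSeparated p k.ker
  haveI := hK₀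
  let D := Graft.subD p k.ker
  let c := Graft.subC p k.ker
  let i₀ : (Sub k.ker)ᵒᵖ := Opposite.op K₀
  haveI : LocallyOfFinitePresentation K₀.1.subschemeι := lfp_subschemeι K₀.2.2
  haveI : CompactSpace K₀.1.subscheme :=
    QuasiCompact.compactSpace_of_compactSpace K₀.1.subschemeι
  have hci : ∀ K : (Sub k.ker)ᵒᵖ,
      IsClosedImmersion (Scheme.IdealSheafData.inclusion K.unop.2.1) := fun K => by
    haveI : IsClosedImmersion
        (Scheme.IdealSheafData.inclusion K.unop.2.1 ≫ K.unop.1.subschemeι) := by
      rw [Scheme.IdealSheafData.inclusion_subschemeι]; infer_instance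
    exact IsClosedImmersion.of_comp _ K.unop.1.subschemeι
  haveI : IsClosedImmersion (c.π.app i₀) := hci i₀
  let f₀ : K₀.1.subscheme ⟶ S := K₀.1.subschemeι ≫ p
  haveI : IsSeparated f₀ := hK₀
  haveI : QuasiCompact f₀ := quasiCompact_of_compactSpace f₀
  let a : D.obj i₀ ⟶ K₀.1.subscheme := 𝟙 _
  haveI : IsProper (c.π.app i₀ ≫ a ≫ f₀) := by
    show IsProper (Scheme.IdealSheafData.inclusion K₀.2.1 ≫ 𝟙 _ ≫ K₀.1.subschemeι ≫ p)
    rw [Category.id_comp, Scheme.IdealSheafData.inclusion_subschemeι_assoc]
    infer_instance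
  haveI : IsClosedImmersion a := inferInstanceAs (IsClosedImmersion (𝟙 K₀.1.subscheme))
  obtain ⟨j, hj⟩ := Graft.exists_isProper (Graft.isLimitSubC p k.ker) f₀ a
  have hj' : IsProper (j.left.unop.1.subschemeι ≫ p) := by
    have e : D.map j.hom ≫ a ≫ f₀ = j.left.unop.1.subschemeι ≫ p := by
      show Scheme.IdealSheafData.inclusion (show K₀.1 ≤ j.left.unop.1 from j.hom.unop.le) ≫
        𝟙 _ ≫ K₀.1.subschemeι ≫ p = _
      rw [Category.id_comp, Scheme.IdealSheafData.inclusion_subschemeι_assoc]
    exact e ▸ hj
  refine ⟨Over j.left, inferInstance, inferInstance, Over.forget j.left ⋙ subDiagram p k.ker,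
    (subCone p k.ker).whisker (Over.forget j.left),
    (Functor.Initial.isLimitWhiskerEquiv (Over.forget j.left) _).symm (isLimitSubCone p k.ker),
    Over.isoMk (asIso k.toImage).symm ?_, fun a b φ => isClosedImmersion_map p k.ker φ.left,
    fun n => ⟨hci n.left, ?_, ?_⟩⟩
  · show inv k.toImage ≫ f = k.ker.subschemeι ≫ p
    rw [← hkp, IsIso.inv_comp_eq, Scheme.Hom.toImage_imageι_assoc]
  · haveI := hj'
    haveI : IsClosedImmersion ((subDiagram p k.ker).map n.hom).left :=
      isClosedImmersion_map p k.ker n.hom
    have e : ((subDiagram p k.ker).map n.hom).left ≫ j.left.unop.1.subschemeι ≫ p =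
        n.left.unop.1.subschemeι ≫ p := Over.w ((subDiagram p k.ker).map n.hom)
    show IsProper (n.left.unop.1.subschemeι ≫ p)
    rw [← e]
    exact MorphismProperty.comp_mem _ _ _
      ((IsClosedImmersion.iff_isProper_and_mono _).1
        (isClosedImmersion_map p k.ker n.hom : IsClosedImmersion ((subDiagram p k.ker).map n.hom).left)).1 hj' 
  · haveI : LocallyOfFinitePresentation n.left.unop.1.subschemeι := lfp_subschemeι n.left.unop.2.2
    show LocallyOfFinitePresentation (n.left.unop.1.subschemeι ≫ p)
    infer_instance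

end Groth.Agent.S2079
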