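import Groth.Statements.S11489
import Groth.Agent.GGTriv.Basic
import Groth.Agent.PnCoh.Global
-- import your own Groth.Agent.* helpers here

set_option autoImplicit false
universe u
open VBPn

namespace Groth.Agent.S11489

open CategoryTheory CategoryTheory.Limits AlgebraicGeometry in
/-- Let k be a characteristic-zero algebraically closed field and E a finite locally free O-module of
rank r on P^n_k. If E is globally generated (there is an epimorphism O^N → E for some N) and its
first Chern class vanishes, in the sense that an r-th exterior power det E of E is isomorphic to O,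
then E ≅ O^r. -/
theorem result (k : Type u) [Field k] [IsAlgClosed k] [CharZero k]
    (n r : ℕ) (E : (CohB1.ProjSpace n k).Modules) (hE : FlatMod.IsFinLocFreeOfRank r E)
    (hgen : ∃ (N : ℕ) (φ : FlatMod.freeMod (CohB1.ProjSpace n k) N ⟶ E), Epi φ)
    (hdet : ∃ L : (CohB1.ProjSpace n k).Modules, ExtPow.IsExtPow r E L ∧
      Nonempty (L ≅ Coh.structureModule (CohB1.ProjSpace n k))) :
    Nonempty (E ≅ FlatMod.freeMod (CohB1.ProjSpace n k) r) := by
    obtain ⟨N, φ, hφ⟩ := hgen
    obtain ⟨L, hL, ⟨eL⟩⟩ := hdet
    have hb : Function.Bijective (CohB1.ProjSpace.toSpec n k).appTop.hom :=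
      Groth.Agent.PnCoh.bijective_toSpecR_appTop (ι := Fin (n + 1)) (R := k)
    let g : k →+* Γ(CohB1.ProjSpace n k, ⊤) :=
      (CohB1.ProjSpace.toSpec n k).appTop.hom.comp (Scheme.ΓSpecIso (CommRingCat.of k)).inv.hom
    have hg : Function.Bijective g :=
      hb.comp (ConcreteCategory.bijective_of_isIso (Scheme.ΓSpecIso (CommRingCat.of k)).inv)
    have hfield : IsField Γ(CohB1.ProjSpace n k, ⊤) :=
      MulEquiv.isField (Field.toIsField k) (RingEquiv.ofBijective g hg).symm.toMulEquiv
    haveI : Nonempty ↥(CohB1.ProjSpace n k) := by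
      by_contra hne
      haveI : IsEmpty ↥(CohB1.ProjSpace n k) := not_nonempty_iff.1 hne
      haveI : IsEmpty ↥(⊤ : (CohB1.ProjSpace n k).Opens) := ⟨fun x => isEmptyElim x.1⟩
      haveI : Subsingleton Γ(CohB1.ProjSpace n k, ⊤) := inferInstance
      exact zero_ne_one (hg.1 (Subsingleton.elim (g 0) (g 1)))
    exact Groth.Agent.GGTriv.nonempty_iso_freeMod hfield hE φ hL eL

end Groth.Agent.S11489
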