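import Groth.Statements.S18894
import Groth.Agent.CurveExt.Main
import Groth.Agent.H9FlatCl.Closure

set_option autoImplicit false
set_option linter.style.haveILetI false
set_option linter.unusedSectionVars false
set_option backward.isDefEq.respectTransparency false
set_option backward.isDefEq.respectTransparency.types false
set_option maxHeartbeats 1000000
universe u
open CategoryTheory CategoryTheory.Limits AlgebraicGeometry
open Curves

namespace Groth.Agent.S18894

open Groth.Agent


/-- Together with the accompanying claim: let R be a discrete valuation ring with fraction field K, η :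
Spec K → Spec R the generic point, and f : X → Spec R, g : Y → Spec R two smooth curves of genus n ≥
1 (proper and smooth, with geometrically connected fibres of dimension one and genus n). Then
restriction to the generic fibre is a bijection from R-isomorphisms X ≅ Y onto K-isomorphisms X_η ≅
Y_η: every isomorphism φ of the generic fibres over Spec K is induced by a unique morphism e : X → Y
compatible with the first projections, and this e is an isomorphism over Spec R. -/
theorem result {R : Type u} [CommRing R] [IsDomain R]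
    [IsDiscreteValuationRing R] {X Y : Scheme.{u}}
    (f : X ⟶ Spec (CommRingCat.of R)) (g : Y ⟶ Spec (CommRingCat.of R))
    [IsProper f] [Smooth f] [GeometricallyConnected f] [IsProper g] [Smooth g] [GeometricallyConnected g]
    (hXdim : ∀ s : ↥(Spec (CommRingCat.of R)), topologicalKrullDim ↥(f.fiber s) = 1)
    (hYdim : ∀ s : ↥(Spec (CommRingCat.of R)), topologicalKrullDim ↥(g.fiber s) = 1)
    (n : ℕ) (hn : 1 ≤ n)
    (hXgen : ∀ s : ↥(Spec (CommRingCat.of R)),
      letI : (f.fiber s).Over (Spec ((Spec (CommRingCat.of R)).residueField s)) := ⟨f.fiberToSpecResidueField s⟩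
      Curv2.genus ((Spec (CommRingCat.of R)).residueField s) (f.fiber s) = n)
    (hYgen : ∀ s : ↥(Spec (CommRingCat.of R)),
      letI : (g.fiber s).Over (Spec ((Spec (CommRingCat.of R)).residueField s)) := ⟨g.fiberToSpecResidueField s⟩
      Curv2.genus ((Spec (CommRingCat.of R)).residueField s) (g.fiber s) = n)
    (η : Spec (CommRingCat.of (FractionRing R)) ⟶ Spec (CommRingCat.of R))
    (hη : η = Spec.map (CommRingCat.ofHom (algebraMap R (FractionRing R))))
    (φ : pullback f η ≅ pullback g η) (hφ : φ.hom ≫ pullback.snd g η = pullback.snd f η) :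
    ∃ e : X ≅ Y, e.hom ≫ g = f ∧ pullback.fst f η ≫ e.hom = φ.hom ≫ pullback.fst g η ∧
      ∀ e' : X ⟶ Y, pullback.fst f η ≫ e' = φ.hom ≫ pullback.fst g η → e' = e.hom := by
  haveI : IsIntegral X := CurveExt.isIntegral f
  haveI : IsIntegral Y := CurveExt.isIntegral g
  haveI : IsOpenImmersion η := hη ▸ H9FlatCl.isOpenImmersion_generic R
  haveI : Subsingleton ↥(Spec (CommRingCat.of (FractionRing R))) :=
    inferInstanceAs (Subsingleton (PrimeSpectrum (FractionRing R)))
  haveI : Nonempty ↥(Spec (CommRingCat.of (FractionRing R))) :=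
    inferInstanceAs (Nonempty (PrimeSpectrum (FractionRing R)))
  have hrη : Set.range η = {CurveExt.sη R} := by
    obtain ⟨p⟩ := (inferInstance : Nonempty ↥(Spec (CommRingCat.of (FractionRing R))))
    refine Set.eq_singleton_iff_unique_mem.2 ?_
    have hp : η p = CurveExt.sη R := by
      subst hη
      refine PrimeSpectrum.ext ?_
      show Ideal.comap (algebraMap R (FractionRing R)) (p : PrimeSpectrum (FractionRing R)).asIdeal = ⊥
      rw [(Ideal.eq_bot_or_top (p : PrimeSpectrum (FractionRing R)).asIdeal).resolve_right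
        (p : PrimeSpectrum (FractionRing R)).2.ne_top]
      exact Ideal.comap_bot_of_injective _ (IsFractionRing.injective R (FractionRing R))
    exact ⟨⟨p, hp⟩, fun s ⟨q, hq⟩ => by rw [← hq, Subsingleton.elim q p, hp]⟩
  let j := pullback.fst f η
  let j' := pullback.fst g η
  have hrj : Set.range j = f ⁻¹' {CurveExt.sη R} := by rw [Scheme.Pullback.range_fst, hrη]
  have hrj' : Set.range j' = g ⁻¹' {CurveExt.sη R} := by rw [Scheme.Pullback.range_fst, hrη]
  have hsq : φ.hom ≫ j' ≫ g = j ≫ f := by
    rw [pullback.condition, ← Category.assoc, hφ, ← pullback.condition]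
  have hφ' : φ.inv ≫ pullback.snd f η = pullback.snd g η := by rw [← hφ, Iso.inv_hom_id_assoc]
  have hsq' : φ.inv ≫ j ≫ f = j' ≫ g := by
    rw [pullback.condition, ← Category.assoc, hφ', ← pullback.condition]
  obtain ⟨e, he, hej⟩ := CurveExt.exists_hom f g hXdim hYdim n hn (hXgen _) (hYgen _) j.opensRange
    (j.isoOpensRange.inv ≫ φ.hom ≫ j')
    (by
      rw [Category.assoc, Category.assoc, hsq, ← Category.assoc, Scheme.Hom.isoOpensRange_inv_comp])
    hrj (by
      rw [← hrj', ← Category.assoc, Scheme.Hom.comp_base, TopCat.coe_comp, Set.range_comp,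
        Set.range_eq_univ.2 (j.isoOpensRange.inv ≫ φ.hom).surjective, Set.image_univ])
  obtain ⟨e', he', hej'⟩ := CurveExt.exists_hom g f hYdim hXdim n hn (hYgen _) (hXgen _) j'.opensRange
    (j'.isoOpensRange.inv ≫ φ.inv ≫ j)
    (by
      rw [Category.assoc, Category.assoc, hsq', ← Category.assoc, Scheme.Hom.isoOpensRange_inv_comp])
    hrj' (by
      rw [← hrj, ← Category.assoc, Scheme.Hom.comp_base, TopCat.coe_comp, Set.range_comp,
        Set.range_eq_univ.2 (j'.isoOpensRange.inv ≫ φ.inv).surjective, Set.image_univ])
  have h1 : j ≫ e = φ.hom ≫ j' := by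
    rw [← j.isoOpensRange_hom_ι, Category.assoc, hej, Iso.hom_inv_id_assoc]
  have h2 : j' ≫ e' = φ.inv ≫ j := by
    rw [← j'.isoOpensRange_hom_ι, Category.assoc, hej', Iso.hom_inv_id_assoc]
  haveI : Nonempty ↥(pullback f η) := by
    obtain ⟨u, hu⟩ := hrj.ge (CurveExt.map_genericPoint f)
    exact ⟨u⟩
  haveI : Nonempty ↥(pullback g η) := by
    obtain ⟨u, hu⟩ := hrj'.ge (CurveExt.map_genericPoint g)
    exact ⟨u⟩
  refine ⟨⟨e, e', CurveExt.eq_of_eq_on_open f j (by rw [Category.assoc, he', he, Category.id_comp])
    (by rw [← Category.assoc, h1, Category.assoc, h2, Iso.hom_inv_id_assoc, Category.comp_id]),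
    CurveExt.eq_of_eq_on_open g j' (by rw [Category.assoc, he, he', Category.id_comp])
    (by rw [← Category.assoc, h2, Category.assoc, h1, Iso.inv_hom_id_assoc, Category.comp_id])⟩,
    he, h1, fun e'' he'' => ?_⟩
  haveI : IsSeparated (terminal.from Y) := by
    rw [← terminal.comp_from g]; infer_instance
  exact CurveExt.eq_of_eq_on_open (terminal.from Y) j (Subsingleton.elim _ _) (he''.trans h1.symm)

end Groth.Agent.S18894
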