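import Groth.Statements.S5284
import Groth.Agent.FreeDiag.Basic
import Groth.Agent.EtFound.Descent

set_option autoImplicit false
open CategoryTheory MonoidalCategory CartesianMonoidalCategory MonObj GrpObj AlgebraicGeometry
universe u
open SGA3x

namespace Groth.Agent.S5284

/-- Let G be an S-group of multiplicative type (fpqc-locally on S isomorphic, as a group, to
diagonalisable groups D(M), M allowed to vary and taken in Type 0) acting on an S-scheme X which is
affine over S, the action being free (a point g of G fixing a point x of X is the unit). Then the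
graph morphism G ×_S X ⟶ X ×_S X, (g, x) ↦ (g·x, x), is a closed immersion; and for every section σ
of X over S the orbit morphism G ⟶ X, g ↦ g·σ, is a closed immersion. -/
theorem result {S : Scheme.{u}} (G X : Over S) [GrpObj G]
    (hG : TwC.Locally S TwC.Topology.fpqc (fun S' f => ∃ (M : Type) (_ : AddCommGroup M), Nonempty (Grp.mk (Red.bc f G) ≅ Grp.mk (Red.DS S' M)))) (hX : IsAffineHom X.hom) (a : AlgGrp.Action G X)
    (hfree : ∀ (Y : Over S) (g : Y ⟶ G) (x : Y ⟶ X), lift g x ≫ a.act = x → g = 1) :
    IsClosedImmersion (lift a.act (snd G X)).left ∧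
      ∀ σ : 𝟙_ (Over S) ⟶ X, IsClosedImmersion (a.orbitMap σ).left := by
  haveI := hX
  obtain ⟨S', f, hflat, hsurj, hqc, hloc⟩ := hG
  have hcov : FpqcDescLib.Covers f :=
    FpqcDescLib.covers_of_hcov f ⟨S', f, 𝟙 _, Category.id_comp _, hsurj, hflat, hqc⟩
  haveI hci : IsClosedImmersion (lift a.act (snd G X)).left := by
    haveI := EtFound.fpqc_isClosedImmersion.{u}
    refine FreeDiag.of_charts @IsClosedImmersion _ hcov fun z => ?_
    obtain ⟨U, hzU, M, instM, ⟨e⟩⟩ := hloc z
    obtain ⟨W, hW, hzW, hWle⟩ := exists_isAffineOpen_mem_and_subset hzU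
    have hr : Set.range hW.fromSpec ⊆ Set.range U.ι := by
      rw [hW.range_fromSpec, Scheme.Opens.range_ι]
      exact hWle
    obtain ⟨χ, hnat, hmul, hbij⟩ := GrpSchLib.SubgroupFactor.exists_char (β := hW.fromSpec ≫ f) (U.ι ≫ f) e
      (IsOpenImmersion.lift U.ι _ hr) (by rw [IsOpenImmersion.lift_fac_assoc])
    exact ⟨_, hW.fromSpec, inferInstance, by rw [hW.range_fromSpec]; exact hzW,
      FreeDiag.piece (hW.fromSpec ≫ f) a χ hnat hmul hbij hfree⟩
  refine ⟨hci, fun σ => ?_⟩
  let j : G ⟶ G ⊗ X := lift (𝟙 G) (toUnit G ≫ σ)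
  let k : X ⟶ X ⊗ X := lift (𝟙 X) (toUnit X ≫ σ)
  haveI : IsClosedImmersion j.left := by
    haveI : IsSeparated (fst G X).left :=
      MorphismProperty.pullback_fst (P := @IsSeparated) G.hom X.hom inferInstance
    haveI : IsClosedImmersion (j.left ≫ (fst G X).left) := by
      rw [← Over.comp_left, lift_fst]
      exact inferInstanceAs (IsClosedImmersion (𝟙 _))
    exact IsClosedImmersion.of_comp j.left (fst G X).left
  haveI : IsSeparated k.left := by
    haveI : Mono k := mono_of_mono_fac (lift_fst (𝟙 X) (toUnit X ≫ σ))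
    haveI : Mono k.left := Over.mono_left_of_mono k
    infer_instance
  have e : a.orbitMap σ ≫ k = j ≫ lift a.act (snd G X) := by
    apply CartesianMonoidalCategory.hom_ext
    · rw [Category.assoc, lift_fst, Category.assoc, lift_fst, Category.comp_id]
      rfl
    · rw [Category.assoc, lift_snd, Category.assoc, lift_snd, lift_snd, ← Category.assoc, comp_toUnit]
  haveI : IsClosedImmersion ((a.orbitMap σ).left ≫ k.left) := by
    rw [← Over.comp_left, e, Over.comp_left]
    infer_instance
  exact IsClosedImmersion.of_comp _ k.left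

end Groth.Agent.S5284
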