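import Groth.Statements.S5430
import Groth.Agent.GrpSchLib.HomUnitLocus
import Groth.Agent.GrpSchLib.MultTypeBC
import Groth.Agent.GrpSchLib.MultTypeComm
import Groth.Agent.TransLib.MultEssFree
import Mathlib.AlgebraicGeometry.Morphisms.Flat


set_option autoImplicit false
set_option linter.style.haveILetI false
universe u
open CategoryTheory MonoidalCategory CartesianMonoidalCategory MonObj GrpObj AlgebraicGeometry CategoryTheory.Limits
open SGA3x

namespace Groth.Agent.S5430

theorem key {S : Scheme.{u}} (K H Q : Over S) [GrpObj K] [GrpObj H] [GrpObj Q]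
    (p : K ⟶ Q) [IsMonHom p] [Surjective p.left] [Flat p.left] [QuasiCompact p.left]
    (i : H ⟶ K) [IsMonHom i] [Mono i] (hker : AlgGrp.IsKernel i p) (hn : AlgGrp.IsNormalHom i)
    (hH : SGA3x.IsMultTypeFT H) (hQ : ∀ s : S, _root_.IsConnected (Q.hom.base ⁻¹' {s})) :
    ∀ (X : Over S) (k : X ⟶ K) (h : X ⟶ H), k * (h ≫ i) = (h ≫ i) * k := by
  classical
  have hcm : ∀ {Y : Over S} (a b : Y ⟶ H), a * b = b * a :=
    fun a b => Groth.Agent.GrpSchLib.MultTypeComm.points_comm hH a b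
  obtain ⟨c, hc⟩ := hn (H ⊗ K) (snd H K) (fst H K)
  let d : H ⊗ K ⟶ H := c * (fst H K)⁻¹
  have hci : ∀ {Y : Over S} (h : Y ⟶ H) (k : Y ⟶ K), k * (h ≫ i) * k⁻¹ = (lift h k ≫ c) ≫ i := by
    intro Y h k
    rw [Category.assoc, ← hc, MonObj.comp_mul, MonObj.comp_mul, GrpObj.comp_inv, lift_fst_assoc, lift_snd]
  have hd : ∀ {Y : Over S} (h : Y ⟶ H) (k : Y ⟶ K), lift h k ≫ d = (lift h k ≫ c) * h⁻¹ := by
    intro Y h k
    rw [show d = c * (fst H K)⁻¹ from rfl, MonObj.comp_mul, GrpObj.comp_inv, lift_fst]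
  have hdmul : ∀ {Y : Over S} (h h' : Y ⟶ H) (k : Y ⟶ K),
      lift (h * h') k ≫ d = (lift h k ≫ d) * (lift h' k ≫ d) := by
    intro Y h h' k
    have e1 : lift (h * h') k ≫ c = (lift h k ≫ c) * (lift h' k ≫ c) := by
      rw [← cancel_mono i, MonObj.mul_comp, ← hci, ← hci, ← hci, MonObj.mul_comp]
      group
    rw [hd, hd, hd, e1, _root_.mul_inv_rev, _root_.mul_assoc, _root_.mul_assoc]
    congr 1
    rw [hcm h'⁻¹ h⁻¹, ← _root_.mul_assoc, hcm (lift h' k ≫ c) h⁻¹, _root_.mul_assoc]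
  have hd1 : ∀ {Y : Over S} (h : Y ⟶ H), lift h (1 : Y ⟶ K) ≫ d = 1 := by
    intro Y h
    have e1 : lift h (1 : Y ⟶ K) ≫ c = h := by
      rw [← cancel_mono i, ← hci, _root_.one_mul, inv_one, _root_.mul_one]
    rw [hd, e1, mul_inv_cancel]
  -- the endomorphism of H over K
  have hHk : SGA3x.IsMultTypeFT (Red.bc K.hom H) := Groth.Agent.GrpSchLib.MultTypeBC.isMultTypeFT_bc K.hom hH
  haveI : IsAffineHom (Red.bc K.hom H).hom := (Groth.Agent.TransLib.multTypeFT_essFree hHk).1
  haveI : LocallyOfFiniteType (Red.bc K.hom H).hom := Groth.Agent.GrpSchLib.MultTypeLft.lft hHk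
  let kp : ∀ (Y : Over K.left), (Over.map K.hom).obj Y ⟶ K := fun Y => Over.homMk Y.hom rfl
  obtain ⟨w, hw⟩ := (Groth.Agent.DSPtsLib.theta_bijective (H := H) (Y := Red.bc K.hom H) K.hom).2
    (lift (Groth.Agent.DSPtsLib.theta K.hom (𝟙 _)) (kp _) ≫ d)
  have hwp : ∀ {Y : Over K.left} (a : Y ⟶ Red.bc K.hom H), Groth.Agent.DSPtsLib.theta K.hom (a ≫ w) =
      lift (Groth.Agent.DSPtsLib.theta K.hom a) (kp Y) ≫ d := by
    intro Y a
    have e1 : (Over.map K.hom).map a ≫ Groth.Agent.DSPtsLib.theta (H := H) K.hom (𝟙 _) =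
        Groth.Agent.DSPtsLib.theta K.hom a := by
      rw [← Groth.Agent.DSPtsLib.theta_comp, Category.comp_id]
    have e2 : (Over.map K.hom).map a ≫ kp (Red.bc K.hom H) = kp Y :=
      Over.OverMorphism.ext (Over.w a)
    rw [Groth.Agent.DSPtsLib.theta_comp, hw, comp_lift_assoc, e1, e2]
  have hwm : ∀ {Y : Over K.left} (a b : Y ⟶ Red.bc K.hom H), (a * b) ≫ w = (a ≫ w) * (b ≫ w) := by
    intro Y a b
    refine (Groth.Agent.DSPtsLib.theta_bijective K.hom).1 ?_
    rw [hwp, Groth.Agent.DSPtsLib.theta_mul, Groth.Agent.DSPtsLib.theta_mul, hdmul, hwp, hwp]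
  haveI : IsMonHom w := by
    constructor
    · have h := hwm (1 : 𝟙_ _ ⟶ Red.bc K.hom H) 1
      rw [_root_.one_mul, left_eq_mul] at h
      rwa [Hom.one_def, toUnit_unique (toUnit _) (𝟙 _), Category.id_comp] at h
    · have h := hwm (fst (Red.bc K.hom H) (Red.bc K.hom H)) (snd _ _)
      rw [Hom.mul_def, Hom.mul_def, lift_fst_snd, Category.id_comp] at h
      rw [h, ← lift_map, lift_fst_snd, Category.id_comp]
  obtain ⟨U, hU, hmem, htriv⟩ := Groth.Agent.GrpSchLib.HomUnitLocus.main (u := w) hHk (Or.inr inferInstance)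
  let e : S ⟶ K.left := η[K].left
  have he : e ≫ K.hom = 𝟙 S := Over.w η[K]
  have hte : Groth.Agent.GrpSchLib.HomUnitLocus.Triv w e := by
    intro Y q a
    refine (Groth.Agent.DSPtsLib.theta_bijective K.hom).1 ?_
    rw [hwp, Groth.Agent.GrpSchLib.HomUnitLocus.theta_one]
    have hk : kp Y = 1 := by
      rw [Hom.one_def]
      refine Over.OverMorphism.ext ?_
      show Y.hom = (toUnit ((Over.map K.hom).obj Y)).left ≫ e
      rw [← Over.w q, Over.toUnit_left]
      show q.left ≫ e = (Y.hom ≫ K.hom) ≫ e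
      rw [← Over.w q]
      show q.left ≫ e = ((q.left ≫ e) ≫ K.hom) ≫ e
      rw [Category.assoc q.left, he]
      exact congrArg (· ≫ e) (Category.comp_id q.left).symm
    rw [hk, hd1]
  have hunit : ∀ s : S, e s ∈ U := by
    intro s
    have hb : (S.fromSpecResidueField s ≫ e) (IsLocalRing.closedPoint (S.residueField s)) = e s := by
      rw [Scheme.Hom.comp_apply]
      exact congrArg (fun x => e x) (Scheme.fromSpecResidueField_apply s _)
    have h1 : Groth.Agent.GrpSchLib.HomUnitLocus.Triv w (S.fromSpecResidueField s ≫ e) := hte.comp _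
    rw [hmem, ← hb]
    exact (Groth.Agent.GrpSchLib.HomUnitLocus.triv_iff_of_field _).mp h1
  have hinv : ∀ z z' : K.left, p.left z = p.left z' → z ∈ U → z' ∈ U := by
    intro z z' hzz hz
    obtain ⟨w₀, hw₁, hw₂⟩ := Scheme.Pullback.exists_preimage_pullback z z' hzz
    let P := Limits.pullback p.left p.left
    let a := P.fromSpecResidueField w₀ ≫ Limits.pullback.fst p.left p.left
    let b := P.fromSpecResidueField w₀ ≫ Limits.pullback.snd p.left p.left
    have hpt : ∀ (m : P ⟶ K.left), (P.fromSpecResidueField w₀ ≫ m) (IsLocalRing.closedPoint _) = m w₀ := fun m => by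
      rw [Scheme.Hom.comp_apply]
      exact congrArg (fun x => m x) (Scheme.fromSpecResidueField_apply w₀ _)
    have hab : a ≫ p.left = b ≫ p.left := by simp only [a, b, Category.assoc, Limits.pullback.condition]
    have hKh : a ≫ K.hom = b ≫ K.hom := by
      rw [← Over.w p, ← Category.assoc, hab, Category.assoc]
    have ha : Groth.Agent.GrpSchLib.HomUnitLocus.Triv w a :=
      (Groth.Agent.GrpSchLib.HomUnitLocus.triv_iff_of_field a).mpr (by erw [hpt, hw₁]; exact (hmem z).mp hz)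
    have hb : Groth.Agent.GrpSchLib.HomUnitLocus.Triv w b := by
      intro Y q x
      refine (Groth.Agent.DSPtsLib.theta_bijective K.hom).1 ?_
      rw [hwp, Groth.Agent.GrpSchLib.HomUnitLocus.theta_one]
      let Ya : Over K.left := Over.mk (q.left ≫ a)
      have hw' : q.left ≫ a ≫ K.hom = Y.hom ≫ K.hom := by
        rw [hKh]
        exact (Category.assoc _ _ _).symm.trans (congrArg (· ≫ K.hom) (Over.w q))
      let m : (Over.map K.hom).obj Y ⟶ (Over.map K.hom).obj Ya :=
        Over.homMk (𝟙 _) ((Category.id_comp _).trans ((Category.assoc _ _ _).trans hw'))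
      let m' : (Over.map K.hom).obj Ya ⟶ (Over.map K.hom).obj Y :=
        Over.homMk (𝟙 _) ((Category.id_comp _).trans (hw'.symm.trans (Category.assoc _ _ _).symm))
      obtain ⟨x', hx'⟩ := (Groth.Agent.DSPtsLib.theta_bijective (H := H) (Y := Ya) K.hom).2
        (m' ≫ Groth.Agent.DSPtsLib.theta K.hom x)
      have h1 := congrArg (fun n => m ≫ Groth.Agent.DSPtsLib.theta (H := H) K.hom n)
        (ha Ya (Over.homMk q.left rfl) x')
      simp only [hwp, Groth.Agent.GrpSchLib.HomUnitLocus.theta_one, MonObj.comp_one, comp_lift_assoc, hx'] at h1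
      have hmm : m ≫ m' ≫ Groth.Agent.DSPtsLib.theta (H := H) K.hom x = Groth.Agent.DSPtsLib.theta K.hom x := by
        rw [← Category.assoc, show m ≫ m' = 𝟙 _ from Over.OverMorphism.ext (Category.id_comp _), Category.id_comp]
      rw [hmm] at h1
      have hp : (m ≫ kp Ya) ≫ p = kp Y ≫ p := by
        refine Over.OverMorphism.ext ?_
        show (𝟙 _ ≫ q.left ≫ a) ≫ p.left = Y.hom ≫ p.left
        rw [Category.id_comp, Category.assoc, hab, ← Category.assoc]
        exact congrArg (· ≫ p.left) (Over.w q)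
      obtain ⟨h₀, hh₀⟩ : ∃ h₀ : (Over.map K.hom).obj Y ⟶ H, h₀ ≫ i = kp Y * (m ≫ kp Ya)⁻¹ :=
        ⟨hker.lift (kp Y * (m ≫ kp Ya)⁻¹) (toUnit _) (by
          rw [MonObj.mul_comp, GrpObj.inv_comp, hp, mul_inv_cancel, Hom.one_def]), hker.lift_fst _ _ _⟩
      rw [hd] at h1 ⊢
      refine Eq.trans ?_ h1
      congr 1
      rw [← cancel_mono i, ← hci, ← hci,
        show kp Y = (h₀ ≫ i) * (m ≫ kp Ya) by rw [hh₀, inv_mul_cancel_right], _root_.mul_inv_rev]
      rw [show (h₀ ≫ i) * (m ≫ kp Ya) * (Groth.Agent.DSPtsLib.theta K.hom x ≫ i) * ((m ≫ kp Ya)⁻¹ * (h₀ ≫ i)⁻¹) =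
        (h₀ ≫ i) * ((m ≫ kp Ya) * (Groth.Agent.DSPtsLib.theta K.hom x ≫ i) * (m ≫ kp Ya)⁻¹) * (h₀ ≫ i)⁻¹ by group,
        hci, ← MonObj.mul_comp, hcm h₀, MonObj.mul_comp, mul_inv_cancel_right]
    rw [hmem, ← hw₂]
    erw [← hpt]
    exact (Groth.Agent.GrpSchLib.HomUnitLocus.triv_iff_of_field b).mp hb
  have hq : Topology.IsQuotientMap p.left := Flat.isQuotientMap_of_surjective p.left
  let V : Set Q.left := p.left '' (U : Set K.left)
  have hV : p.left ⁻¹' V = (U : Set K.left) :=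
    Set.Subset.antisymm (fun z' ⟨z, hz, e⟩ => hinv z z' e hz) (Set.subset_preimage_image _ _)
  have hVcl : IsClopen V := ⟨hq.isClosed_preimage.mp (hV ▸ hU), hq.isOpen_preimage.mp (hV ▸ U.2)⟩
  have hall : ∀ z : K.left, z ∈ U := by
    intro z
    let s := K.hom z
    have hpe : Q.hom (p.left z) = s := by rw [← Scheme.Hom.comp_apply, Over.w p]
    have he' : Q.hom (p.left (e s)) = s := by
      rw [← Scheme.Hom.comp_apply, Over.w p, ← Scheme.Hom.comp_apply, he]
      rfl
    have h2 := (hQ s).isPreconnected.subset_isClopen hVcl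
      ⟨p.left (e s), he', e s, hunit s, rfl⟩ (show p.left z ∈ Q.hom.base ⁻¹' {s} from hpe)
    exact (Set.ext_iff.mp hV z).mp h2
  have hid : Groth.Agent.GrpSchLib.HomUnitLocus.Triv w (𝟙 K.left) := by
    have hr : Set.range (𝟙 K.left : K.left ⟶ K.left) ⊆ Set.range U.ι := by
      rw [Scheme.Opens.range_ι]
      exact fun x _ => hall x
    have h := htriv.comp (IsOpenImmersion.lift U.ι (𝟙 K.left) hr)
    rwa [IsOpenImmersion.lift_fac] at h
  intro X k h
  let Y : Over K.left := Over.mk k.left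
  let j : X ⟶ (Over.map K.hom).obj Y := Over.homMk (𝟙 _) (by
    show 𝟙 _ ≫ k.left ≫ K.hom = X.hom
    rw [Category.id_comp]; exact Over.w k)
  let j' : (Over.map K.hom).obj Y ⟶ X := Over.homMk (𝟙 _) (by
    show 𝟙 _ ≫ X.hom = k.left ≫ K.hom
    rw [Category.id_comp]; exact (Over.w k).symm)
  have hjj : j ≫ j' = 𝟙 _ := Over.OverMorphism.ext (Category.id_comp _)
  obtain ⟨a, ha⟩ := (Groth.Agent.DSPtsLib.theta_bijective (H := H) (Y := Y) K.hom).2 (j' ≫ h)
  have h1 := hid Y (Over.homMk k.left (Category.comp_id _)) a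
  have h2 := congrArg (fun m => j ≫ Groth.Agent.DSPtsLib.theta (H := H) K.hom m) h1
  simp only [hwp, Groth.Agent.GrpSchLib.HomUnitLocus.theta_one, MonObj.comp_one, comp_lift_assoc, ha] at h2
  have hk : j ≫ kp Y = k := Over.OverMorphism.ext (Category.id_comp _)
  rw [hk, reassoc_of% hjj, hd, mul_inv_eq_one] at h2
  have h3 := hci h k
  rw [h2, mul_inv_eq_iff_eq_mul] at h3
  exact h3


/-- Let S be a scheme and E an S-group scheme which is an extension of an S-group scheme U with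
connected fibres by an S-group H of multiplicative type and of finite type: p : E → U is a
homomorphism which is surjective, flat and quasi-compact (U is the fpqc quotient E/H) and i : H → E
is its kernel. Then the extension is central: every point of H commutes with every point of E. -/
theorem result (S : Scheme.{u}) (E H U : Over S) [GrpObj E] [GrpObj H] [GrpObj U]
    (p : E ⟶ U) [IsMonHom p] [Surjective p.left] [Flat p.left] [QuasiCompact p.left]
    (i : H ⟶ E) [IsMonHom i] (hker : AlgGrp.IsKernel i p) (hH : SGA3x.IsMultTypeFT H)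
    (hU : ∀ s : S, _root_.IsConnected (U.hom.base ⁻¹' {s})) :
    ∀ (X : Over S) (h : X ⟶ H) (e : X ⟶ E), (h ≫ i) * e = e * (h ≫ i) := by
  haveI : Mono (η[U] : 𝟙_ (Over S) ⟶ U) := ⟨fun a b _ => toUnit_unique a b⟩
  haveI : Mono i := ⟨fun a b h => hker.hom_ext h (toUnit_unique _ _)⟩
  have hn : AlgGrp.IsNormalHom i := by
    intro T g n
    refine ⟨hker.lift (g * (n ≫ i) * g⁻¹) (toUnit T) ?_, (hker.lift_fst _ _ _).symm⟩
    rw [MonObj.mul_comp, MonObj.mul_comp, GrpObj.inv_comp, Category.assoc, hker.w, ← Category.assoc,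
      toUnit_unique (n ≫ toUnit H) (toUnit T), ← Hom.one_def, _root_.mul_one, mul_inv_cancel]
  intro X h e
  exact (key E H U p i hker hn hH hU X e h).symm

end Groth.Agent.S5430
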