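import Groth.Statements.S8976
import Groth.Agent.SubtrRef.HTop

set_option linter.style.haveILetI false
set_option backward.isDefEq.respectTransparency false
set_option backward.isDefEq.respectTransparency.types false


set_option autoImplicit false
universe w u
open HTop

namespace Groth.Agent.S8976

open CategoryTheory CategoryTheory.Limits AlgebraicGeometry in
/-- For a family of morphisms of schemes with fixed target all of whose members are locally of finite
presentation, being a ph covering is equivalent to being a V covering. -/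
theorem result {X : Scheme.{u}} (E : PreZeroHypercover.{w} X) (hE : ∀ i, LocallyOfFinitePresentation (E.f i)) : HTop.IsPhCover E ↔ HTop.IsVCover E := by
  refine ⟨fun h U => ?_, fun h => ⟨fun i => ?_, fun U => ?_⟩⟩
  · obtain ⟨F, hF, hr⟩ := h.2 U
    exact ⟨F, Groth.Agent.HTopCov.standardV_of_standardPh F hF, hr⟩
  · haveI := hE i
    infer_instance
  · haveI : IsAffine ((U : X.Opens) : Scheme.{u}) := U.2
    obtain ⟨Y, g, n, V, hg, hs, -, hV, hcov, hfac⟩ := Groth.Agent.SubtrRef.exists_proper_refinement
      (E.pullback₁ (U : X.Opens).ι) (fun i => MorphismProperty.pullback_fst _ _ (hE i))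
      (Groth.Agent.HTopCov.isVCover_pullback₁ _ E h)
    choose i l hl using hfac
    refine ⟨⟨Fin n, fun j => (V j : Scheme.{u}), fun j => (V j).ι ≫ g⟩,
      ⟨inferInstance, inferInstanceAs (Finite (Fin n)), hV, Y, g, fun j => (V j).ι, hg, hs,
        fun j => inferInstanceAs (IsOpenImmersion (V j).ι), fun j => rfl, fun x => ?_⟩,
      fun j => ⟨i j, l j ≫ pullback.snd _ _, ?_⟩⟩
    · obtain ⟨j, hj⟩ := TopologicalSpace.Opens.mem_iSup.1 (hcov.ge (show x ∈ (⊤ : Y.Opens) from trivial))
      exact ⟨j, ⟨x, hj⟩, rfl⟩
    · change (l j ≫ pullback.snd (U : X.Opens).ι (E.f (i j))) ≫ E.f (i j) = ((V j).ι ≫ g) ≫ (U : X.Opens).ι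
      rw [Category.assoc, ← pullback.condition, ← Category.assoc]
      exact congrArg (· ≫ (U : X.Opens).ι) (hl j)
end Groth.Agent.S8976
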