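import Groth.Statements.S4466
import Groth.Agent.S0843
import Groth.Agent.S0844
import Groth.Agent.S0845
import Groth.Agent.ComodLib.GradedAug

set_option autoImplicit false
universe u
open Coherent

namespace Groth.Agent.S4466

open AlgebraicGeometry CategoryTheory in
theorem finrank_hom (k : Type u) [Field k] (r d : ℕ) :
    (Module.finrank k (MvPolynomial.homogeneousSubmodule (Fin (r + 1)) k d) : ℤ) =
      Ring.choose ((d : ℤ) + r) r := by
  rw [(Groth.Agent.ComodLib.GradedAug.finrank_homogeneous (k := k) (r + 1) d).2, ← Nat.cast_add, Ring.choose_natCast,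
    show r + 1 + d - 1 = r + d by omega, ← Nat.choose_symm (by omega : d ≤ r + d), Nat.add_sub_cancel,
    Nat.add_comm r d]

open AlgebraicGeometry CategoryTheory in
/-- Let k be a field, r > 0 and n any integer. Then the Euler characteristic of the twisting sheaf O(n)
on projective r-space over k, namely the alternating sum of the dimensions of H^j(P^r_k, O(n)) for 0
≤ j ≤ r, equals the binomial coefficient C(n+r, r), understood as the binomial polynomial evaluated
at the integer n+r (so that it makes sense and is correct for negative n too). -/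
theorem result (k : Type u) [Field k] (r : ℕ) (hr : 0 < r)
    (n : ℤ) :
    ((Finset.range (r + 1)).sum fun j => (-1 : ℤ) ^ j *
        (Module.finrank k (Coh.HH (CohB1.ProjSpace r k) (Twist.twistProjSpace r k n) j) : ℤ)) =
      Ring.choose (n + r) r := by
  classical
  let h : ℕ → ℤ := fun j => (Module.finrank k (Coh.HH (CohB1.ProjSpace r k) (Twist.twistProjSpace r k n) j) : ℤ)
  have hz : ∀ j, ¬ (j = 0 ∧ 0 ≤ n) → ¬ (j = r ∧ n ≤ -((r : ℤ) + 1)) → h j = 0 := fun j h₀ h₁ => by
    haveI := Groth.Agent.S0844.result k r n j h₀ h₁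
    show ((Module.finrank k _ : ℕ) : ℤ) = 0
    rw [Module.finrank_zero_of_subsingleton, Nat.cast_zero]
  show (∑ j ∈ Finset.range (r + 1), (-1 : ℤ) ^ j * h j) = _
  by_cases hn : 0 ≤ n
  · obtain ⟨d, rfl⟩ := Int.eq_ofNat_of_zero_le hn
    rw [Finset.sum_eq_single 0 (fun j _ hj => by rw [hz j (fun c => hj c.1) (fun c => by omega), mul_zero])
      (fun c => absurd (Finset.mem_range.2 (Nat.succ_pos r)) c), pow_zero, one_mul]
    obtain ⟨e⟩ := Groth.Agent.S0843.result k r d
    show ((Module.finrank k _ : ℕ) : ℤ) = _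
    rw [e.finrank_eq]
    exact finrank_hom k r d
  by_cases hn' : n ≤ -((r : ℤ) + 1)
  · obtain ⟨d, hd⟩ : ∃ d : ℕ, n = -((r : ℤ) + 1 + d) := ⟨(-n - ((r : ℤ) + 1)).toNat, by omega⟩
    subst hd
    rw [Finset.sum_eq_single r (fun j _ hj => by rw [hz j (fun c => hn c.2) (fun c => hj c.1), mul_zero])
      (fun c => absurd (Finset.mem_range.2 (Nat.lt_succ_self r)) c)]
    obtain ⟨e⟩ := Groth.Agent.S0845.result k r d
    show (-1 : ℤ) ^ r * ((Module.finrank k _ : ℕ) : ℤ) = _
    rw [e.finrank_eq, finrank_hom k r d,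
      show -((r : ℤ) + 1 + d) + r = -((d : ℤ) + 1) by ring, Ring.choose_neg,
      show (d : ℤ) + 1 + r - 1 = d + r by ring, Int.negOnePow_def, Units.smul_def, smul_eq_mul]
    simp
  rw [Finset.sum_eq_zero (fun j _ => by rw [hz j (fun c => hn c.2) (fun c => hn' c.2), mul_zero])]
  obtain ⟨a, ha⟩ : ∃ a : ℕ, n + r = (a : ℤ) := ⟨(n + r).toNat, by omega⟩
  rw [ha, Ring.choose_natCast, Nat.choose_eq_zero_of_lt (by omega), Nat.cast_zero]

end Groth.Agent.S4466
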