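import Groth.Statements.S9239
import Groth.Agent.BrnchLib.ComplMin
import Groth.Agent.BrnchLib.HenzStrict
import Groth.Agent.S0736
import Groth.Agent.S12237
import Groth.Agent.S0537
import Groth.Agent.S0506
import Groth.Agent.FormalFib6.Cplt

set_option autoImplicit false
universe u
open Brnch

namespace Groth.Agent.S9239

open IsLocalRing

/-- A module algebra flat over the base is flat over a weakly étale algebra in between. -/
theorem flat_of_weaklyEtale (R S T : Type u) [CommRing R] [CommRing S] [CommRing T] [Algebra R S]
    [Algebra R T] [Algebra S T] [IsScalarTower R S T] [Algebra.WeaklyEtale R S] [Module.Flat R T] :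
    Module.Flat S T := by
  have h1 : (Algebra.TensorProduct.includeLeftRingHom : S →+* TensorProduct R S T).Flat :=
    (RingHom.flat_algebraMap_iff (R := S) (S := TensorProduct R S T)).2 inferInstance
  have h2 := (Algebra.WeaklyEtale.flat_lmul' R S).mapOfCompatibleSMul S T
  have h3 : ((Algebra.TensorProduct.lid S T : TensorProduct S S T ≃ₐ[S] T).toRingEquiv.toRingHom).Flat :=
    RingHom.Flat.of_bijective (Algebra.TensorProduct.lid S T).bijective
  rw [← RingHom.flat_algebraMap_iff (R := S)]
  convert (h1.comp h2).comp h3 using 1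
  ext s
  simp [Algebra.smul_def]

/-- A surjection on minimal primes bounds their number. -/
theorem card_le_of_faithfullyFlat {S T : Type u} [CommRing S] [CommRing T] (ψ : S →+* T)
    (hψ : letI := ψ.toAlgebra; Module.FaithfullyFlat S T) :
    ENat.card (minimalPrimes S) ≤ ENat.card (minimalPrimes T) := by
  let f : minimalPrimes T → minimalPrimes S := fun P =>
    ⟨P.1.comap ψ, Groth.Agent.BrnchLib.comap_mem_minimalPrimes ψ hψ P.2⟩
  have hf : Function.Surjective f := fun q => by
    obtain ⟨P, hP, h⟩ := Groth.Agent.BrnchLib.surjOn_minimalPrimes ψ hψ q.2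
    exact ⟨⟨P, hP⟩, Subtype.ext h⟩
  exact ENat.card_le_card_of_injective (Function.injective_surjInv hf)

/-- Geometric branches increase along flat local homomorphisms. -/
theorem numGeomBranches_le (A T : Type u) [CommRing A] [IsLocalRing A] [CommRing T] [IsLocalRing T]
    [Algebra A T] [IsLocalHom (algebraMap A T)] [Module.Flat A T] :
    Brnch.numGeomBranches A ≤ Brnch.numGeomBranches T := by
  obtain ⟨S', _, _, _, _, hS'⟩ := Groth.Agent.S0537.result A
  obtain ⟨S'', _, _, _, _, hS''⟩ := Groth.Agent.S0537.result T
  letI : Algebra A S'' := ((algebraMap T S'').comp (algebraMap A T)).toAlgebra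
  haveI : IsScalarTower A T S'' := IsScalarTower.of_algebraMap_eq' rfl
  haveI : IsLocalHom (algebraMap A S'') := RingHom.isLocalHom_comp (algebraMap T S'') (algebraMap A T)
  haveI : HenselianLocalRing S'' := hS''.henselian
  haveI : Algebra.WeaklyEtale T S'' := Groth.Agent.S0736.result _ _ (Groth.Agent.S12237.result _ S'')
  haveI : Algebra.WeaklyEtale A S' := Groth.Agent.S0736.result _ _ (Groth.Agent.S12237.result _ S')
  haveI : Module.Flat A S'' := Module.Flat.trans A T S''
  haveI := hS'.isSepClosure.separable
  haveI := hS''.isSepClosure.sep_closed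
  let τ : ResidueField S' →ₐ[ResidueField A] ResidueField S'' := IsSepClosed.lift
  obtain ⟨g, ⟨hg, hgτ⟩, -⟩ := hS'.universal S'' (algebraMap A S'') τ.toRingHom τ.comp_algebraMap
  letI := g.toAlgebra
  haveI : IsScalarTower A S' S'' := IsScalarTower.of_algebraMap_eq' hg.symm
  haveI : IsLocalHom (algebraMap S' S'') := ⟨fun x hx => by
    rw [← residue_ne_zero_iff_isUnit] at hx ⊢
    intro h0
    exact hx ((hgτ x).trans (by rw [h0, map_zero]))⟩
  haveI := flat_of_weaklyEtale A S' S''
  have hff : Module.FaithfullyFlat S' S'' := Module.FaithfullyFlat.of_flat_of_isLocalHom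
  rw [← Groth.Agent.BrnchLib.card_minimalPrimes_strictHenselization A S',
    ← Groth.Agent.BrnchLib.card_minimalPrimes_strictHenselization T S'']
  exact card_le_of_faithfullyFlat g hff

/-- For a Noetherian local ring A with completion A^ at its maximal ideal, A^ has at least as many
branches as A, and at least as many geometric branches as A. -/
theorem result (A : Type u) [CommRing A] [IsLocalRing A] [IsNoetherianRing A] :
    Brnch.numBranches A ≤ Brnch.numBranches (AdicCompletion (IsLocalRing.maximalIdeal A) A) ∧
      Brnch.numGeomBranches A ≤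
        Brnch.numGeomBranches (AdicCompletion (IsLocalRing.maximalIdeal A) A) := by
  haveI : IsNoetherianRing (AdicCompletion (maximalIdeal A) A) :=
    Groth.Agent.FormalFib6.isNoetherianRing_adicCompletion A _
  haveI hT := Groth.Agent.BrnchLib.henselianLocalRing_completion A
  haveI hl : IsLocalHom (algebraMap (AdicCompletion (maximalIdeal A) A) (AdicCompletion (maximalIdeal A) A)) := ⟨fun _ hu => hu⟩
  haveI := Groth.Agent.Hensel.isHenselization_self (AdicCompletion (maximalIdeal A) A) hT
  haveI : IsLocalHom (algebraMap A (AdicCompletion (maximalIdeal A) A)) := inferInstance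
  refine ⟨?_, numGeomBranches_le A _⟩
  obtain ⟨S, _, _, _, _, hS⟩ := Groth.Agent.S0506.result A
  obtain ⟨ψ, hψ, -⟩ := hS.universal (AdicCompletion (maximalIdeal A) A) (algebraMap A _) inferInstance
  rw [← Groth.Agent.BrnchLib.card_minimalPrimes_henselization A S,
    ← Groth.Agent.BrnchLib.card_minimalPrimes_henselization (AdicCompletion (maximalIdeal A) A) (AdicCompletion (maximalIdeal A) A)]
  exact card_le_of_faithfullyFlat ψ (Groth.Agent.BrnchLib.faithfullyFlat_psi A S ψ hψ)

end Groth.Agent.S9239
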