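import Groth.Statements.S9241
import Groth.Agent.BrnchLib.DimOne
import Groth.Agent.BrnchLib.HenzStrict
import Groth.Agent.S9239
import Groth.Agent.CILib.Basic
import Groth.Agent.S0540
import Groth.Agent.S0541
import Groth.Agent.S0547

set_option autoImplicit false
universe u
open Brnch

namespace Groth.Agent.S9241

open IsLocalRing

theorem krullDimLE_one {T : Type u} [CommRing T] (h : ringKrullDim T = 1) : Ring.KrullDimLE 1 T :=
  Ring.krullDimLE_iff.2 (by rw [h]; simp)

theorem numGeomBranches_eq (A T : Type u) [CommRing A] [IsLocalRing A] [CommRing T] [IsLocalRing T]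
    [IsNoetherianRing T]
    [Algebra A T] [IsLocalHom (algebraMap A T)] [Module.Flat A T]
    (hm : (maximalIdeal A).map (algebraMap A T) = maximalIdeal T)
    (hres : Function.Bijective (ResidueField.map (algebraMap A T))) (hdim : ringKrullDim T = 1) :
    Brnch.numGeomBranches T = Brnch.numGeomBranches A := by
  obtain ⟨S', _, _, _, _, hS'⟩ := Groth.Agent.S0537.result A
  obtain ⟨S'', _, _, _, _, hS''⟩ := Groth.Agent.S0537.result T
  haveI := hS'; haveI := hS''
  letI : Algebra A S'' := ((algebraMap T S'').comp (algebraMap A T)).toAlgebra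
  haveI : IsScalarTower A T S'' := IsScalarTower.of_algebraMap_eq' rfl
  haveI : IsLocalHom (algebraMap A S'') := RingHom.isLocalHom_comp (algebraMap T S'') (algebraMap A T)
  haveI : HenselianLocalRing S'' := hS''.henselian
  haveI : HenselianLocalRing S' := hS'.henselian
  haveI : Algebra.WeaklyEtale T S'' := Groth.Agent.S0736.result _ _ (Groth.Agent.S12237.result _ S'')
  haveI : Algebra.WeaklyEtale A S' := Groth.Agent.S0736.result _ _ (Groth.Agent.S12237.result _ S')
  haveI : Module.Flat A S'' := Module.Flat.trans A T S''
  haveI := hS'.isSepClosure.separable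
  haveI := hS''.isSepClosure.separable
  haveI := hS''.isSepClosure.sep_closed
  haveI : IsScalarTower (ResidueField A) (ResidueField T) (ResidueField S'') :=
    IsScalarTower.of_algebraMap_eq fun x => by
      obtain ⟨a, rfl⟩ := residue_surjective x
      rfl
  haveI : Algebra.IsSeparable (ResidueField A) (ResidueField T) := ⟨fun x => by
    obtain ⟨y, rfl⟩ := hres.2 x
    exact isSeparable_algebraMap y⟩
  haveI : IsSepClosure (ResidueField A) (ResidueField S'') :=
    ⟨inferInstance, Algebra.IsSeparable.trans (ResidueField A) (ResidueField T) (ResidueField S'')⟩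
  haveI := hS'.isSepClosure
  let τ : ResidueField S' ≃ₐ[ResidueField A] ResidueField S'' := IsSepClosure.equiv _ _ _
  obtain ⟨g, ⟨hg, hgτ⟩, -⟩ :=
    hS'.universal S'' (algebraMap A S'') τ.toAlgHom.toRingHom τ.toAlgHom.comp_algebraMap
  letI := g.toAlgebra
  haveI : IsScalarTower A S' S'' := IsScalarTower.of_algebraMap_eq' hg.symm
  haveI : IsLocalHom (algebraMap S' S'') := ⟨fun x hx => by
    rw [← residue_ne_zero_iff_isUnit] at hx ⊢
    intro h0
    exact hx ((hgτ x).trans (by rw [h0, map_zero]))⟩
  haveI := Groth.Agent.S9239.flat_of_weaklyEtale A S' S''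
  have hff : Module.FaithfullyFlat S' S'' := Module.FaithfullyFlat.of_flat_of_isLocalHom
  haveI : IsNoetherianRing S'' := (Groth.Agent.S0540.result T S'').1 inferInstance
  haveI := krullDimLE_one ((Groth.Agent.S0541.result T S'').trans hdim)
  rw [← Groth.Agent.BrnchLib.card_minimalPrimes_strictHenselization A S',
    ← Groth.Agent.BrnchLib.card_minimalPrimes_strictHenselization T S'']
  refine Groth.Agent.BrnchLib.card_minimalPrimes_eq hff ?_ fun t => ?_
  · rw [← Groth.Agent.Hensel.map_maximalIdeal_of_isStrictHenselization A S', Ideal.map_map,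
      ← IsScalarTower.algebraMap_eq A S' S'', IsScalarTower.algebraMap_eq A T S'', ← Ideal.map_map, hm,
      Groth.Agent.Hensel.map_maximalIdeal_of_isStrictHenselization T S'']
  · obtain ⟨s, hs⟩ := residue_surjective (τ.symm (residue S'' t))
    refine ⟨s, Ideal.Quotient.eq.1 ?_⟩
    change residue S'' t = residue S'' (g s)
    exact (τ.apply_symm_apply (residue S'' t)).symm.trans ((congrArg τ hs).symm.trans (hgτ s).symm)

/-- For a Noetherian local ring A of dimension 1, A and its completion A^ have the same number of
branches and the same number of geometric branches. -/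
theorem result (A : Type u) [CommRing A] [IsLocalRing A]
    [IsNoetherianRing A] (hA : ringKrullDim A = 1) :
    Brnch.numBranches (AdicCompletion (IsLocalRing.maximalIdeal A) A) = Brnch.numBranches A ∧
      Brnch.numGeomBranches (AdicCompletion (IsLocalRing.maximalIdeal A) A) =
        Brnch.numGeomBranches A := by
  haveI : IsNoetherianRing (AdicCompletion (maximalIdeal A) A) :=
    Groth.Agent.FormalFib6.isNoetherianRing_adicCompletion A _
  haveI hT := Groth.Agent.BrnchLib.henselianLocalRing_completion A
  haveI hl : IsLocalHom (algebraMap (AdicCompletion (maximalIdeal A) A) (AdicCompletion (maximalIdeal A) A)) := ⟨fun _ hu => hu⟩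
  haveI := Groth.Agent.Hensel.isHenselization_self (AdicCompletion (maximalIdeal A) A) hT
  have hdim : ringKrullDim (AdicCompletion (maximalIdeal A) A) = 1 :=
    (Groth.Agent.S0547.result A).trans hA
  haveI := krullDimLE_one hdim
  have hm := (AdicCompletion.maximalIdeal_eq_map (R := A)).symm
  have hres := AdicCompletion.residueField_map_bijective A
  refine ⟨?_, numGeomBranches_eq A _ hm hres hdim⟩
  obtain ⟨S, _, _, _, _, hS⟩ := Groth.Agent.S0506.result A
  haveI := hS
  haveI : HenselianLocalRing S := hS.henselian
  obtain ⟨ψ, hψ, -⟩ := hS.universal (AdicCompletion (maximalIdeal A) A) (algebraMap A _) inferInstance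
  rw [← Groth.Agent.BrnchLib.card_minimalPrimes_henselization A S,
    ← Groth.Agent.BrnchLib.card_minimalPrimes_henselization (AdicCompletion (maximalIdeal A) A) (AdicCompletion (maximalIdeal A) A)]
  letI := ψ.toAlgebra
  refine Groth.Agent.BrnchLib.card_minimalPrimes_eq (Groth.Agent.BrnchLib.faithfullyFlat_psi A S ψ hψ) ?_ fun t => ?_
  · rw [← Groth.Agent.Hensel.map_maximalIdeal_of_isHenselization A S, Ideal.map_map]
    exact (congrArg (fun f => Ideal.map f (maximalIdeal A)) hψ).trans hm
  · obtain ⟨x, hx⟩ := hres.2 (residue _ t)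
    obtain ⟨a, rfl⟩ := residue_surjective x
    refine ⟨algebraMap A S a, Ideal.Quotient.eq.1 ?_⟩
    change residue _ t = residue _ ((ψ.comp (algebraMap A S)) a)
    rw [hψ, ← hx, ResidueField.map_residue]

end Groth.Agent.S9241
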