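import Groth.Statements.S2135
import Groth.Agent.S9238
import Groth.Agent.BrnchLib.Unibranch

set_option autoImplicit false
universe u
open CAlg

namespace Groth.Agent.S2135

/-- A local ring `A` is geometrically unibranch if and only if a strict henselization of `A` has a
unique minimal prime ideal. -/
theorem result {A Ash : Type u} [CommRing A] [IsLocalRing A]
    [CommRing Ash] [IsLocalRing Ash] [Algebra A Ash] [IsLocalHom (algebraMap A Ash)]
    [Hensel.IsStrictHenselization A Ash] :
    CAlg2.IsGeomUnibranch A ↔ CAlgX.HasUniqueMinimalPrime Ash := by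
  rw [← Groth.Agent.BrnchLib.isGeomUnibranch_iff, ← Groth.Agent.S9238.result A Ash, ENat.card_eq_one_iff_unique]
  constructor
  · rintro ⟨h⟩
    exact ⟨h.default.1, h.default.2, fun p hp => congrArg Subtype.val (h.uniq ⟨p, hp⟩)⟩
  · rintro ⟨p, hp, hu⟩
    exact ⟨⟨⟨⟨p, hp⟩⟩, fun q => Subtype.ext (hu q.1 q.2)⟩⟩

end Groth.Agent.S2135
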