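import Groth.Statements.S15351
import Groth.Agent.GeomLoci.SectNhdFlat
import Groth.Agent.DescLib.Reduced
-- import your own Groth.Agent.* helpers here

set_option autoImplicit false
set_option backward.isDefEq.respectTransparency false
set_option backward.isDefEq.respectTransparency.types false
set_option linter.style.haveILetI false
universe u
open CategoryTheory CategoryTheory.Limits AlgebraicGeometry
open MoreMor

namespace Groth.Agent.S15351

/-- Let f : X ⟶ S be a smooth morphism of schemes, X quasi-separated, with a section e : S ⟶ X, and let
X⁰ ⊆ X be the union over the points s of S of the connected component of e(s) in the fibre f⁻¹(s)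
with its subspace topology. Then X⁰ is open in X; no quasi-compactness is assumed. (The published
statement is for an algebraic space X smooth over S; this row is the case of a scheme.) -/
theorem result {S X : Scheme.{u}} [QuasiSeparatedSpace ↥X] (f : X ⟶ S) [Smooth f]
    (e : S ⟶ X) (he : e ≫ f = 𝟙 S) :
    IsOpen (MoreMor.sectionComponents f e) := by
  rw [← interior_eq_iff_isOpen]
  refine interior_subset.antisymm fun x hx => ?_
  refine GeomLoci.subset_interior_sectionComponents_flat f e he (y := f x) (fun v _ => ?_) hx
  intro K _ _ x' _
  haveI : AlgebraicGeometry.Smooth (f.fiberToSpecResidueField (f v)) :=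
    inferInstanceAs (AlgebraicGeometry.Smooth (Limits.pullback.snd f (S.fromSpecResidueField (f v))))
  haveI : AlgebraicGeometry.IsReduced (FBase.bc (f.fiberToSpecResidueField (f v)) K) :=
    haveI : AlgebraicGeometry.Smooth (FBase.bcStr (f.fiberToSpecResidueField (f v)) K) :=
      inferInstanceAs (AlgebraicGeometry.Smooth (CategoryTheory.Limits.pullback.snd (f.fiberToSpecResidueField (f v)) _))
    DescLib.isReduced_of_smooth_of_isReduced (FBase.bcStr (f.fiberToSpecResidueField (f v)) K)
  infer_instance

end Groth.Agent.S15351
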