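import Groth.Statements.S2107
import Groth.Agent.EssFPDescent.Syzygy
import Groth.Agent.FlatMisc.RingPullback
-- import your own Groth.Agent.* helpers here

set_option autoImplicit false
universe u
open CAlg

namespace Groth.Agent.S2107


open TensorProduct

section Lemmas

variable {R : Type u} (S : Type u) [CommRing R] [CommRing S] [Algebra R S]
  {P : Type u} [AddCommGroup P] [Module S P] [Module R P] [IsScalarTower R S P]

/-- The image of `I ⊗ P` in `P`. -/
def toP (I : Ideal R) : P ⊗[R] I →ₗ[R] P := (TensorProduct.rid R P).toLinearMap ∘ₗ I.subtype.lTensor P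

omit [CommRing S] in
theorem toP_tmul (I : Ideal R) (p : P) (r : I) : toP I (p ⊗ₜ[R] r) = (r : R) • p := rfl

theorem toP_mem (I : Ideal R) (z : P ⊗[R] I) : toP I z ∈ I.map (algebraMap R S) • (⊤ : Submodule S P) := by
  induction z using TensorProduct.induction_on with
  | zero => rw [map_zero]; exact zero_mem _
  | tmul p r =>
    rw [toP_tmul, ← algebraMap_smul S (r : R) p]
    exact Submodule.smul_mem_smul (Ideal.mem_map_of_mem _ r.2) trivial
  | add x y hx hy => rw [map_add]; exact add_mem hx hy

theorem exists_toP (I : Ideal R) {x : P} (hx : x ∈ I.map (algebraMap R S) • (⊤ : Submodule S P)) :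
    ∃ z : P ⊗[R] I, toP I z = x := by
  refine Submodule.smul_induction_on hx (fun s hs p _ => ?_) (fun x y hx hy => ?_)
  · have : ∀ p : P, ∃ z : P ⊗[R] I, toP I z = s • p := by
      refine Submodule.span_induction ?_ ?_ ?_ ?_ hs
      · rintro _ ⟨r, hr, rfl⟩ p
        exact ⟨p ⊗ₜ ⟨r, hr⟩, by rw [toP_tmul, algebraMap_smul]⟩
      · exact fun p => ⟨0, by rw [map_zero, zero_smul]⟩
      · intro a b _ _ ha hb p
        obtain ⟨z, hz⟩ := ha p
        obtain ⟨z', hz'⟩ := hb p
        exact ⟨z + z', by rw [map_add, hz, hz', add_smul]⟩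
      · intro c a _ ha p
        obtain ⟨z, hz⟩ := ha (c • p)
        exact ⟨z, by rw [hz, smul_eq_mul, mul_smul, smul_comm]⟩
    exact this p
  · obtain ⟨z, hz⟩ := hx
    obtain ⟨z', hz'⟩ := hy
    exact ⟨z + z', by rw [map_add, hz, hz']⟩

end Lemmas

theorem toP_natural {R : Type u} [CommRing R] {P Q : Type u} [AddCommGroup P] [Module R P] [AddCommGroup Q]
    [Module R Q] (f : P →ₗ[R] Q) (I : Ideal R) (z : P ⊗[R] I) : toP I (f.rTensor I z) = f (toP I z) := by
  induction z using TensorProduct.induction_on with
  | zero => simp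
  | tmul p r => rw [LinearMap.rTensor_tmul, toP_tmul, toP_tmul, map_smul]
  | add x y hx hy => simp only [map_add, hx, hy]

theorem toP_injective {R : Type u} [CommRing R] {P : Type u} [AddCommGroup P] [Module R P] [Module.Flat R P]
    (I : Ideal R) : Function.Injective (toP (P := P) I) :=
  (TensorProduct.rid R P).injective.comp
    (Module.Flat.lTensor_preserves_injective_linearMap _ (Submodule.injective_subtype I))

/-- Let `R → S` be a local homomorphism of local rings with `S` essentially of finite presentation over
`R`, `M`, `N` finitely presented `S`-modules with `N` flat over `R`, and `u : M → N` an `S`-linear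
map which is injective modulo `𝔪_R`. Then `u` is injective and its cokernel is flat over `R`. -/
theorem result {R S M N : Type u} [CommRing R] [CommRing S] [IsLocalRing R]
    [IsLocalRing S] [Algebra R S] [IsLocalHom (algebraMap R S)] (hS : CAlgX.IsEssFinitePresentation R S)
    [AddCommGroup M] [Module S M] [Module R M] [IsScalarTower R S M] [Module.FinitePresentation S M]
    [AddCommGroup N] [Module S N] [Module R N] [IsScalarTower R S N] [Module.FinitePresentation S N] [Module.Flat R N]
    (u : M →ₗ[S] N)
    (hu : ∀ x : M, u x ∈ (IsLocalRing.maximalIdeal R).map (algebraMap R S) • (⊤ : Submodule S N) →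
      x ∈ (IsLocalRing.maximalIdeal R).map (algebraMap R S) • (⊤ : Submodule S M)) :
    Function.Injective u ∧ Module.Flat R (N ⧸ LinearMap.range u) := by
  classical
  let m := IsLocalRing.maximalIdeal R
  let U := u.restrictScalars R
  haveI : Module.FinitePresentation S (N ⧸ LinearMap.range u) :=
    Module.finitePresentation_of_surjective (LinearMap.range u).mkQ (Submodule.mkQ_surjective _)
      (by rw [Submodule.ker_mkQ, LinearMap.range_eq_map]; exact Module.Finite.fg_top.map _)
  let q : N →ₗ[R] N ⧸ LinearMap.range u := (LinearMap.range u).mkQ.restrictScalars R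
  haveI hC : Module.Flat R (N ⧸ LinearMap.range u) := by
    refine Groth.Agent.EssFPDescent.flat_of_essFP hS _ fun y hy => ?_
    obtain ⟨yt, rfl⟩ := LinearMap.rTensor_surjective m (g := q) (Submodule.mkQ_surjective _) y
    have h0 : q (toP m yt) = 0 := by
      rw [← toP_natural q m yt]
      show (TensorProduct.rid R _) (m.subtype.lTensor _ _) = 0
      rw [hy, map_zero]
    obtain ⟨x, hx⟩ : toP m yt ∈ LinearMap.range u := (Submodule.Quotient.mk_eq_zero _).1 h0
    obtain ⟨z, hz⟩ := exists_toP S m (hu x (hx ▸ toP_mem S m yt))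
    have h1 : yt = U.rTensor m z := toP_injective m (by rw [toP_natural, hz]; exact hx.symm)
    rw [h1, ← LinearMap.comp_apply, ← LinearMap.rTensor_comp]
    have : q ∘ₗ U = 0 := LinearMap.ext fun x => (Submodule.Quotient.mk_eq_zero _).2 ⟨x, rfl⟩
    rw [this, LinearMap.rTensor_zero, LinearMap.zero_apply]
  refine ⟨?_, hC⟩
  haveI : Module.Flat R (LinearMap.range u) :=
    FlatMisc.flat_of_exact ((LinearMap.range u).subtype.restrictScalars R) q (Submodule.injective_subtype _)
      (Submodule.mkQ_surjective _) (LinearMap.exact_subtype_mkQ _)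
  obtain ⟨a, π, hπ⟩ := Module.Finite.exists_fin' S N
  let π'' := (LinearMap.range u).mkQ ∘ₗ π
  haveI := Groth.Agent.EssFPDescent.fp_ker_essFP hS π'' ((Submodule.mkQ_surjective _).comp hπ)
  haveI : Module.FinitePresentation S (LinearMap.range u) := by
    let r : LinearMap.ker π'' →ₗ[S] LinearMap.range u :=
      (π ∘ₗ (LinearMap.ker π'').subtype).codRestrict _ fun v => (Submodule.Quotient.mk_eq_zero _).1 v.2
    refine Module.finitePresentation_of_surjective r (fun y => ?_) ?_
    · obtain ⟨v, hv⟩ := hπ y.1
      exact ⟨⟨v, (Submodule.Quotient.mk_eq_zero _).2 (hv ▸ y.2)⟩, Subtype.ext hv⟩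
    · refine Submodule.fg_of_fg_map_injective _ (Submodule.injective_subtype _) ?_
      suffices h : (LinearMap.ker r).map (LinearMap.ker π'').subtype = LinearMap.ker π from
        h ▸ Module.FinitePresentation.fg_ker π hπ
      ext v
      constructor
      · rintro ⟨w, hw, rfl⟩
        exact congrArg Subtype.val hw
      · intro hv
        exact ⟨⟨v, by show (LinearMap.range u).mkQ (π v) = 0; rw [LinearMap.mem_ker.1 hv, map_zero]⟩,
          Subtype.ext hv, rfl⟩
  let u' := u.rangeRestrict
  have hLfg : (LinearMap.ker u').FG := Module.FinitePresentation.fg_ker u' u.surjective_rangeRestrict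
  rw [← LinearMap.ker_eq_bot, ← LinearMap.ker_rangeRestrict]
  refine Submodule.eq_bot_of_le_smul_of_le_jacobson_bot (m.map (algebraMap R S)) _ hLfg ?_ ?_
  · intro x hx
    have hx0 : u x = 0 := congrArg Subtype.val (LinearMap.mem_ker.1 hx)
    obtain ⟨z, hz⟩ := exists_toP S m (hu x (by rw [hx0]; exact zero_mem _))
    have h2 : (u'.restrictScalars R).rTensor m z = 0 := toP_injective m (by
      rw [toP_natural, hz, map_zero]; exact Subtype.ext hx0)
    obtain ⟨w, hw⟩ := (rTensor_exact m (f := (LinearMap.ker u').subtype.restrictScalars R)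
      (g := u'.restrictScalars R) (LinearMap.exact_subtype_ker_map u') u.surjective_rangeRestrict z).1 h2
    have h3 := toP_mem S m w
    have h4 : ((LinearMap.ker u').subtype) (toP m w) ∈
        (m.map (algebraMap R S) • (⊤ : Submodule S (LinearMap.ker u'))).map (LinearMap.ker u').subtype :=
      Submodule.mem_map_of_mem h3
    rw [Submodule.map_smul'', Submodule.map_subtype_top] at h4
    have h5 : (LinearMap.ker u').subtype (toP m w) = x := by
      rw [← hz, ← hw, toP_natural]; rfl
    exact h5 ▸ h4
  · refine le_trans ?_ (IsLocalRing.maximalIdeal_le_jacobson _)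
    exact Ideal.map_le_iff_le_comap.2 fun r hr => map_nonunit (algebraMap R S) r hr

end Groth.Agent.S2107
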