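import Groth.Statements.S6225
import Groth.Agent.PushAmp.ChartFlat
import Mathlib.AlgebraicGeometry.Morphisms.FinitePresentation

set_option autoImplicit false
universe u
open CategoryTheory CategoryTheory.Limits AlgebraicGeometry
attribute [local instance] HasDerivedCategory.standard
open KSix

namespace Groth.Agent.S6225

/-- Last assertion: a morphism f : X ⟶ Y locally of finite type is (-1)-pseudo-coherent (O_X placed in
degree 0 is (-1)-pseudo-coherent relative to f, in chart form) if and only if f is locally of finite
presentation. -/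
theorem result {X Y : Scheme.{u}} (f : X ⟶ Y) [LocallyOfFiniteType f] :
    DerSch.IsNPseudoCoherent f (-1) ↔ LocallyOfFinitePresentation f := by
  constructor
  · intro h
    refine (HasRingHomProperty.iff_exists_appLE (P := @LocallyOfFinitePresentation)
      (RingHom.finitePresentation_stableUnderComposition.stableUnderCompositionWithLocalizationAway
        RingHom.finitePresentation_holdsForLocalizationAway).left).2 fun x => ?_
    obtain ⟨V, U, e, n, φ, hx, hc, hPC⟩ := Groth.Agent.PushAmp.exists_chart_unit f h x
    refine ⟨V, U, hx, e, ?_⟩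
    letI := φ.toAlgebra
    haveI := Groth.Agent.H9Misc.DRingPC.finitePresentation_of_pc hPC
    have hfg : (RingHom.ker φ).FG := by
      have := Module.FinitePresentation.fg_ker
        (Algebra.linearMap (MvPolynomial (Fin n) Γ(Y, (V : Y.Opens))) Γ(X, (U : X.Opens))) hc.1
      exact this
    letI := (f.appLE (V : Y.Opens) (U : X.Opens) e).hom.toAlgebra
    let ψ : MvPolynomial (Fin n) Γ(Y, (V : Y.Opens)) →ₐ[Γ(Y, (V : Y.Opens))] Γ(X, (U : X.Opens)) :=
      { φ with commutes' := fun r => RingHom.congr_fun hc.2 r }
    exact Algebra.FinitePresentation.of_surjective (f := ψ) hc.1 hfg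
  · intro hlfp
    refine Groth.Agent.PushAmp.relPC_unit_of_charts f (-1) fun V U e => ?_
    have hfp := f.finitePresentation_appLE V.2 U.2 e
    letI := (f.appLE (V : Y.Opens) (U : X.Opens) e).hom.toAlgebra
    haveI : Algebra.FinitePresentation Γ(Y, (V : Y.Opens)) Γ(X, (U : X.Opens)) := hfp
    obtain ⟨n, ψ, hψ⟩ := (Algebra.FiniteType.iff_quotient_mvPolynomial'' (R := Γ(Y, (V : Y.Opens)))
      (S := Γ(X, (U : X.Opens)))).1 inferInstance
    refine ⟨n, ψ.toRingHom, ⟨hψ, RingHom.ext fun r => ψ.commutes r⟩, ?_⟩
    letI := ψ.toRingHom.toAlgebra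
    haveI : Module.FinitePresentation (MvPolynomial (Fin n) Γ(Y, (V : Y.Opens))) Γ(X, (U : X.Opens)) :=
      Module.finitePresentation_of_surjective (Algebra.linearMap _ _) hψ
        (Algebra.FinitePresentation.ker_fG_of_surjective ψ hψ)
    exact Groth.Agent.H9Misc.DRingPC.pc_neg_one_of_finitePresentation _

end Groth.Agent.S6225
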