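import Groth.Statements.S6214
import Groth.Agent.S6225
import Groth.Agent.PerfMor.Scheme
import Groth.Agent.FibFlatMod.Morph
import Groth.Agent.PushAmp.Adjoint

set_option autoImplicit false
universe u
open CategoryTheory CategoryTheory.Limits AlgebraicGeometry
attribute [local instance] HasDerivedCategory.standard
open KSix

namespace Groth.Agent.S6214

/-- A morphism f : X ⟶ Y locally of finite type has perfect dimension at most 0 (O_X placed in degree 0
is pseudo-coherent relative to f in chart form and has stalkwise tor amplitude in [0, 0] over the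
local rings of Y) if and only if f is flat and locally of finite presentation. -/
theorem result {X Y : Scheme.{u}} (f : X ⟶ Y) [LocallyOfFiniteType f] :
    DerSch.HasPerfDimLE f 0 ↔ (Flat f ∧ LocallyOfFinitePresentation f) := by
  constructor
  · rintro ⟨hpc, htor⟩
    refine ⟨?_, (Groth.Agent.S6225.result f).1 (hpc (-1))⟩
    refine (AlgebraicGeometry.Flat.iff_flat_stalkMap f).2 fun x => ?_
    refine (Groth.Agent.FibFlatMod.isFlatOverAt_structure_iff f x).1 ?_
    obtain ⟨E, hv, hflat, ⟨e⟩⟩ := htor x
    have hv' : ∀ i : ℤ, i ≠ 0 → IsZero (E.X i) := fun i hi => hv i (by simpa using Int.lt_or_gt_of_ne hi)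
    let K := (DerSch.stalkCxOver f x).obj (DerSch.unitCx X)
    let H := DerivedCategory.homologyFunctor (ModuleCat.{u} (Y.presheaf.stalk (f.base x))) 0
    have hd₁ : (E.sc 0).f = 0 := (hv' _ (by simp)).eq_of_src _ _
    have hd₂ : (E.sc 0).g = 0 := (hv' _ (by simp)).eq_of_tgt _ _
    let eE : E.homology 0 ≅ E.X 0 := (ShortComplex.HomologyData.ofZeros (E.sc 0) hd₁ hd₂).left.homologyIso
    let eK : K.homology 0 ≅ (DerSch.stalkOver f x).obj (Coh.structureModule X) :=
      (HomologicalComplex.homologyFunctor _ _ 0).mapIso
        ((HomologicalComplex.singleMapHomologicalComplex (DerSch.stalkOver f x) (ComplexShape.up ℤ) 0).app _) ≪≫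
        HomologicalComplex.singleObjHomologySelfIso (ComplexShape.up ℤ) 0 _
    let eEK : E.homology 0 ≅ K.homology 0 :=
      ((DerivedCategory.homologyFunctorFactors _ 0).app E).symm ≪≫ H.mapIso e ≪≫
        (DerivedCategory.homologyFunctorFactors _ 0).app K
    change Module.Flat (Y.presheaf.stalk (f.base x)) ((DerSch.stalkOver f x).obj (Coh.structureModule X))
    haveI : Module.Flat (Y.presheaf.stalk (f.base x)) (E.X 0) := hflat 0
    exact Module.Flat.of_linearEquiv (eE.symm ≪≫ eEK ≪≫ eK).toLinearEquiv.symm
  · rintro ⟨hF, hlfp⟩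
    refine ⟨fun m => ?_, ?_⟩
    · refine Groth.Agent.PushAmp.relPC_unit_of_charts f m fun V U e => ?_
      obtain ⟨n, φ, hc, hs, hp⟩ := (Groth.Agent.PerfMor.pq_of_flat_fp
        (HasRingHomProperty.appLE @Flat f hF V U e)
        (HasRingHomProperty.appLE @LocallyOfFinitePresentation f hlfp V U e)).1
      refine ⟨n, φ, ⟨hs, hc⟩, ?_⟩
      letI := φ.toAlgebra
      exact (Groth.Agent.H9Misc.DRingPC.pc'_iff _).1 (Groth.Agent.PCMor.pcHom_iff.1 hp) m
    · refine Groth.Agent.PushAmp.hasTorAmplitude_of_flatOver f (fun i hi => ?_) fun i => ?_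
      · exact HomologicalComplex.isZero_single_obj_X _ _ _ _ (by simp only [Nat.cast_zero, neg_zero] at hi; omega)
      · rcases eq_or_ne i 0 with rfl | hi
        · intro x
          change Module.Flat (Y.presheaf.stalk (f.base x)) ((DerSch.stalkOver f x).obj ((DerSch.unitCx X).X 0))
          haveI : Module.Flat (Y.presheaf.stalk (f.base x)) ((DerSch.stalkOver f x).obj (Coh.structureModule X)) :=
            Groth.Agent.PushAmp.isFlatOver_structureModule f x
          exact Module.Flat.of_linearEquiv ((DerSch.stalkOver f x).mapIso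
            (HomologicalComplex.singleObjXSelf (ComplexShape.up ℤ) 0 (Coh.structureModule X))).toLinearEquiv
        · intro x
          change Module.Flat (Y.presheaf.stalk (f.base x)) ((DerSch.stalkOver f x).obj ((DerSch.unitCx X).X i))
          haveI := ModuleCat.subsingleton_of_isZero ((DerSch.stalkOver f x).map_isZero
            (HomologicalComplex.isZero_single_obj_X (ComplexShape.up ℤ) 0 (Coh.structureModule X) i hi))
          exact (inferInstance : Module.Flat (Y.presheaf.stalk (f.base x))
            ((DerSch.stalkOver f x).obj ((DerSch.unitCx X).X i)))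

end Groth.Agent.S6214
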