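import Groth.Prelude.Def_Wider
import Mathlib.AlgebraicGeometry.Modules.Tilde
import Mathlib.RingTheory.Noetherian.Basic

/-! Torsion in the kernel and cokernel of restriction to a punctured open, for `tilde M`. -/

set_option autoImplicit false
universe u

open AlgebraicGeometry CategoryTheory TopologicalSpace Opposite

namespace Groth.Agent.TildeTorsion

variable {A : CommRingCat.{u}} [IsNoetherianRing A] (M : ModuleCat.{u} A)

noncomputable abbrev P : TopCat.Presheaf (ModuleCat.{u} A) (Spec A) := (modulesSpecToSheaf.obj (tilde M)).presheaf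

/-- The basic open, typed as an open of the scheme `Spec A`. -/
noncomputable def D (f : A) : (Spec A).Opens := PrimeSpectrum.basicOpen f

instance (f : A) : IsLocalizedModule.Away f (tilde.toOpen M (D f)).hom :=
  inferInstanceAs (IsLocalizedModule.Away f (tilde.toOpen M (PrimeSpectrum.basicOpen f)).hom)

variable {M}

theorem res_res {U V W : (Spec A).Opens} (i : U ≤ V) (j : V ≤ W) (z : (P M).obj (op W)) :
    ((P M).map (homOfLE i).op).hom (((P M).map (homOfLE j).op).hom z) =
      ((P M).map (homOfLE (i.trans j)).op).hom z := by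
  rw [show (homOfLE (i.trans j)).op = (homOfLE j).op ≫ (homOfLE i).op from Subsingleton.elim _ _,
    Functor.map_comp]
  rfl

theorem res_toOpen {U V : (Spec A).Opens} (i : U ≤ V) (m : M) :
    ((P M).map (homOfLE i).op).hom ((tilde.toOpen M V).hom m) = (tilde.toOpen M U).hom m :=
  congrArg (fun ψ : M ⟶ _ => ψ.hom m) (tilde.toOpen_res M V U (homOfLE i))

theorem eq_zero_of_cover {W : (Spec A).Opens} (z : (P M).obj (op W))
    (h : ∀ x ∈ W, ∃ (V : (Spec A).Opens) (i : V ≤ W), x ∈ V ∧ ((P M).map (homOfLE i).op).hom z = 0) :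
    z = 0 := by
  choose V i hx hz using h
  refine (modulesSpecToSheaf.obj (tilde M)).eq_of_locally_eq' (fun x : W => V x.1 x.2) W
    (fun x => homOfLE (i x.1 x.2)) (fun x hxW => Opens.mem_iSup.2 ⟨⟨x, hxW⟩, hx x hxW⟩) z 0
    fun x => ?_
  exact (hz x.1 x.2).trans (map_zero _).symm

theorem smul_injective {U : (Spec A).Opens} {f : A} (hf : U ≤ D f)
    {z : (P M).obj (op U)} (h : f • z = 0) : z = 0 :=
  (Scheme.Modules.isSMulRegular_of_le_basicOpen (M := tilde M) hf)
    (show f • z = f • (0 : (P M).obj (op U)) by rw [h, smul_zero])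

theorem pow_smul_injective {U : (Spec A).Opens} {f : A} (hf : U ≤ D f)
    {z : (P M).obj (op U)} (n : ℕ) (h : f ^ n • z = 0) : z = 0 := by
  induction n with
  | zero => simpa using h
  | succ n ih => exact ih (smul_injective hf (by rw [← mul_smul, ← pow_succ']; exact h))

/-- A section killed on `W ⊓ D(f)` is killed by a power of `f`. -/
theorem exists_pow_smul_eq_zero {W : (Spec A).Opens} (f : A) (z : (P M).obj (op W))
    (h : ((P M).map (homOfLE (inf_le_left : W ⊓ D f ≤ W)).op).hom z = 0) :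
    ∃ n : ℕ, f ^ n • z = 0 := by
  classical
  have hloc : ∀ x : W, ∃ (g : A) (hg : D g ≤ W) (n : ℕ),
      x.1 ∈ D g ∧ f ^ n • ((P M).map (homOfLE hg).op).hom z = 0 := by
    intro x
    obtain ⟨_, ⟨_, ⟨g, rfl⟩, rfl⟩, hxg, hgW⟩ :=
      PrimeSpectrum.isBasis_basic_opens.exists_subset_of_mem_open x.2 W.2
    replace hgW : D g ≤ W := hgW
    replace hxg : x.1 ∈ D g := hxg
    obtain ⟨⟨m, ⟨_, k, rfl⟩⟩, hk⟩ := IsLocalizedModule.surj (Submonoid.powers g)
      (tilde.toOpen M (D g)).hom (((P M).map (homOfLE hgW).op).hom z)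
    have hle1 : D (g * f) ≤ D g :=
      PrimeSpectrum.basicOpen_mul_le_left g f
    have hle2 : D (g * f) ≤ W ⊓ D f :=
      le_inf (hle1.trans hgW) (PrimeSpectrum.basicOpen_mul_le_right g f)
    have h0 : (tilde.toOpen M (D (g * f))).hom m = 0 := by
      rw [← res_toOpen hle1 m, ← hk, Submonoid.smul_def, map_smul, res_res hle1 hgW,
        ← res_res hle2 inf_le_left, h, map_zero, smul_zero]
    obtain ⟨⟨_, n, rfl⟩, hn⟩ := (IsLocalizedModule.eq_zero_iff (Submonoid.powers (g * f))
      (tilde.toOpen M (D (g * f))).hom).1 h0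
    refine ⟨g, hgW, n, hxg, pow_smul_injective (le_refl _) (n + k) ?_⟩
    have h1 : (g * f) ^ n • (tilde.toOpen M (D g)).hom m = 0 := by
      rw [← map_smul]
      exact (congrArg _ hn).trans (map_zero _)
    rw [← hk, Submonoid.smul_def, ← mul_smul, mul_pow] at h1
    rw [← mul_smul, pow_add, mul_right_comm]
    exact h1
  choose g hg n hx hn using hloc
  obtain ⟨s, hs⟩ := (haveI : NoetherianSpace (Spec A) := inferInstanceAs (NoetherianSpace (PrimeSpectrum A)); NoetherianSpace.isCompact (W : Set (Spec A))).elim_finite_subcover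
    (fun x : W => ((D (g x)) : Set (Spec A)))
    (fun x => (D (g x)).2) fun x hxW => Set.mem_iUnion.2 ⟨⟨x, hxW⟩, hx _⟩
  refine ⟨s.sup n, eq_zero_of_cover _ fun x hxW => ?_⟩
  obtain ⟨y, hys, hxy⟩ := Set.mem_iUnion₂.1 (hs hxW)
  refine ⟨_, hg y, hxy, ?_⟩
  obtain ⟨d, hd⟩ := Nat.exists_eq_add_of_le (Finset.le_sup (f := n) hys)
  rw [map_smul, hd, add_comm, pow_add, mul_smul, hn y, smul_zero]

/-- Sections over an open missing `V(a)` have no `a`-power torsion. -/
theorem eq_zero_of_torsion {a : Ideal A} {V : (Spec A).Opens} (hV : V ≤ LocCoh.puncturedOpen A a)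
    (z : (P M).obj (op V)) {n : ℕ} (h : ∀ c ∈ a ^ n, c • z = 0) : z = 0 := by
  refine eq_zero_of_cover z fun x hxV => ?_
  obtain ⟨f, hfa, hfx⟩ := Set.not_subset.1 (hV hxV)
  refine ⟨V ⊓ D f, inf_le_left, ⟨hxV, hfx⟩,
    pow_smul_injective inf_le_right n ?_⟩
  rw [← map_smul, h _ (Ideal.pow_mem_pow hfa n), map_zero]

theorem basicOpen_le_puncturedOpen {a : Ideal A} {f : A} (hf : f ∈ a) :
    D f ≤ LocCoh.puncturedOpen A a :=
  fun _ hx hmem => hx (hmem hf)

theorem exists_pow_le {R : Type u} [CommRing R] [IsNoetherianRing R] {a : Ideal R} {N : Type u}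
    [AddCommGroup N] [Module R N] (z : N)
    (h : ∀ f ∈ a, ∃ n : ℕ, f ^ n • z = 0) : ∃ n : ℕ, ∀ c ∈ a ^ n, c • z = 0 := by
  obtain ⟨n, hn⟩ := Ideal.exists_pow_le_of_le_radical_of_fg
    (I := a) (J := LinearMap.ker (LinearMap.toSpanSingleton R N z))
    (fun f hf => by
      obtain ⟨n, hn⟩ := h f hf
      exact ⟨n, by simpa using hn⟩)
    (IsNoetherian.noetherian _)
  exact ⟨n, fun c hc => by simpa using hn hc⟩

theorem mem_iSup_torsionBy_iff {R : Type u} [CommRing R] {a : Ideal R} {N : Type u}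
    [AddCommGroup N] [Module R N] (z : N) :
    z ∈ ⨆ n : ℕ, LocCoh.torsionBy (a ^ n) N ↔ ∃ n : ℕ, ∀ c ∈ a ^ n, c • z = 0 := by
  rw [Submodule.mem_iSup_of_directed]
  · simp [Submodule.mem_torsionBySet_iff]
  · intro i j
    refine ⟨i + j, fun z hz => (Submodule.mem_torsionBySet_iff _ _).2 fun c => ?_,
      fun z hz => (Submodule.mem_torsionBySet_iff _ _).2 fun c => ?_⟩
    · exact (Submodule.mem_torsionBySet_iff _ _).1 hz ⟨c, Ideal.pow_le_pow_right (Nat.le_add_right _ _) c.2⟩
    · exact (Submodule.mem_torsionBySet_iff _ _).1 hz ⟨c, Ideal.pow_le_pow_right (Nat.le_add_left _ _) c.2⟩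

theorem torsion_of_res_eq_zero {a : Ideal A} {W : (Spec A).Opens} (hW : LocCoh.puncturedOpen A a ≤ W)
    (z : (P M).obj (op W)) (h : ((P M).map (homOfLE hW).op).hom z = 0) :
    ∃ n : ℕ, ∀ c ∈ a ^ n, c • z = 0 := by
  refine exists_pow_le z fun f hf => exists_pow_smul_eq_zero f z ?_
  rw [← res_res (inf_le_right.trans (basicOpen_le_puncturedOpen hf)) hW, h, map_zero]

theorem res_eq_zero_of_torsion {a : Ideal A} {W : (Spec A).Opens} (hW : LocCoh.puncturedOpen A a ≤ W)
    (z : (P M).obj (op W)) {n : ℕ} (h : ∀ c ∈ a ^ n, c • z = 0) :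
    ((P M).map (homOfLE hW).op).hom z = 0 :=
  eq_zero_of_torsion le_rfl _ (n := n) fun c hc => by rw [← map_smul, h c hc, map_zero]

/-- The cokernel of `M → Γ(U, M~)` is `a`-power torsion. -/
theorem exists_pow_smul_mem_range {a : Ideal A} (z : (P M).obj (op (LocCoh.puncturedOpen A a)))
    {f : A} (hf : f ∈ a) :
    ∃ (n : ℕ) (m : M), (tilde.toOpen M (LocCoh.puncturedOpen A a)).hom m = f ^ n • z := by
  have hle := basicOpen_le_puncturedOpen (a := a) hf
  obtain ⟨⟨m, ⟨_, k, rfl⟩⟩, hk⟩ := IsLocalizedModule.surj (Submonoid.powers f)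
    (tilde.toOpen M (D f)).hom (((P M).map (homOfLE hle).op).hom z)
  obtain ⟨n, hn⟩ := exists_pow_smul_eq_zero f
    ((tilde.toOpen M (LocCoh.puncturedOpen A a)).hom m - f ^ k • z) (by
      have h0 : ((P M).map (homOfLE hle).op).hom
          ((tilde.toOpen M (LocCoh.puncturedOpen A a)).hom m - f ^ k • z) = 0 := by
        rw [map_sub, map_smul, res_toOpen hle, sub_eq_zero]
        exact hk.symm
      rw [← res_res (U := LocCoh.puncturedOpen A a ⊓ D f) inf_le_right hle,
        h0, map_zero])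
  refine ⟨n + k, f ^ n • m, ?_⟩
  rw [map_smul, pow_add, mul_smul, ← sub_eq_zero, ← smul_sub]
  exact hn

end Groth.Agent.TildeTorsion
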