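import Groth.Agent.LC.TopDim
import Groth.Agent.LC.Finiteness
import Groth.Agent.PnCoh.Finite.HHLin
import Groth.Agent.FFun.Basic
import Groth.Agent.QCoh.CechLoc
import Groth.Agent.QCoh.CechStd
import Groth.Agent.QCoh.Support
import Groth.Agent.QCoh.Sections
import Groth.Agent.TildeTorsion
import Groth.Prelude.Def_Wider
import Groth.Prelude.Def_Formal

/-!
# Positive degree cohomology of coherent modules on a punctured local spectrum is Artinian
-/

set_option autoImplicit false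
set_option backward.isDefEq.respectTransparency.types false

universe u

open CategoryTheory CategoryTheory.Limits AlgebraicGeometry TopologicalSpace Opposite IsLocalRing
open Groth.Agent.PnCoh.Finite (mapLin deltaLin)

namespace Groth.Agent.PuncArt6

variable (A : Type u) [CommRing A] [IsNoetherianRing A] [IsLocalRing A]

local notation "𝔪" => IsLocalRing.maximalIdeal A

/-- The punctured spectrum, as an open. -/
abbrev U : (Spec (CommRingCat.of A)).Opens := LocCoh.puncturedOpen A 𝔪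

/-- The punctured spectrum. -/
noncomputable abbrev X : Scheme.{u} := (U A : Scheme.{u})

theorem isNoetherian_X : IsNoetherian (X A) := by
  haveI : IsLocallyNoetherian (X A) := isLocallyNoetherian_of_isOpenImmersion (U A).ι
  haveI : CompactSpace (X A) :=
    isCompact_iff_compactSpace.1 (NoetherianSpace.isCompact (U A : Set (Spec (CommRingCat.of A))))
  exact {}

theorem isQuasiAffine_X : (X A).IsQuasiAffine := by
  haveI := isNoetherian_X A
  haveI : QuasiCompact (U A).ι := inferInstance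
  exact Scheme.IsQuasiAffine.of_isImmersion (U A).ι

variable {A}

/-- A scalar as a global function. -/
noncomputable def g (a : A) : Γ(X A, ⊤) :=
  Coh.resTop (X A) (op ⊤) (Coh.toGlobal ((X A) ↘ Spec (CommRingCat.of A)) a)

theorem g_eq (a : A) :
    g a = (U A).ι.appTop ((Scheme.ΓSpecIso (CommRingCat.of A)).inv a) := by
  show ((X A).presheaf.map (homOfLE (le_top : (⊤ : (X A).Opens) ≤ ⊤)).op).hom _ = _
  rw [show homOfLE (le_top : (⊤ : (X A).Opens) ≤ ⊤) = 𝟙 _ from Subsingleton.elim _ _, op_id,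
    CategoryTheory.Functor.map_id]
  rfl

theorem preimage_D (a : A) :
    (U A).ι ⁻¹ᵁ (Spec (CommRingCat.of A)).basicOpen ((Scheme.ΓSpecIso (CommRingCat.of A)).inv a) =
      (X A).basicOpen (g a) := by
  rw [g_eq, Scheme.preimage_basicOpen]
  rfl

theorem mem_basicOpen_g (a : A) (y : X A) :
    y ∈ (X A).basicOpen (g a) ↔ a ∉ (show PrimeSpectrum A from (U A).ι y).asIdeal := by
  rw [← preimage_D, basicOpen_eq_of_affine]
  rfl

theorem le_U {a : A} (ha : a ∈ 𝔪) :
    (Spec (CommRingCat.of A)).basicOpen ((Scheme.ΓSpecIso (CommRingCat.of A)).inv a) ≤ U A := by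
  rw [basicOpen_eq_of_affine]
  exact fun x hx hmem => hx (hmem ha)

theorem isAffineOpen_basicOpen {a : A} (ha : a ∈ 𝔪) : IsAffineOpen ((X A).basicOpen (g a)) := by
  rw [← preimage_D, ← Scheme.Hom.isAffineOpen_iff_of_isOpenImmersion (U A).ι,
    Scheme.Hom.image_preimage_eq_opensRange_inf, Scheme.Opens.opensRange_ι, inf_eq_right.2 (le_U ha)]
  exact (isAffineOpen_top _).basicOpen _

theorem exists_basicOpen_le {W : (X A).Opens} {y : X A} (hy : y ∈ W) :
    ∃ a ∈ 𝔪, y ∈ (X A).basicOpen (g a) ∧ (X A).basicOpen (g a) ≤ W := by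
  obtain ⟨_, ⟨f, rfl⟩, hyf, hle⟩ :=
    PrimeSpectrum.isTopologicalBasis_basic_opens.exists_subset_of_mem_open
      (show ((U A).ι y : PrimeSpectrum A) ∈ ((U A).ι ''ᵁ W : (Spec (CommRingCat.of A)).Opens) from ⟨y, hy, rfl⟩)
      ((U A).ι ''ᵁ W).2
  refine ⟨f, ?_, (mem_basicOpen_g f y).2 hyf, fun z hz => ?_⟩
  · by_contra hf
    have hm : (⟨𝔪, inferInstance⟩ : PrimeSpectrum A) ∈ (PrimeSpectrum.basicOpen f : Set _) := hf
    obtain ⟨z, -, hz⟩ := hle hm
    have h2 : ((U A).ι z : Spec (CommRingCat.of A)) ∈ U A := z.2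
    have hz' : (show PrimeSpectrum A from (U A).ι z) = ⟨𝔪, inferInstance⟩ := hz
    have h2' : ¬ ((𝔪 : Ideal A) : Set A) ⊆ (show PrimeSpectrum A from (U A).ι z).asIdeal := h2
    rw [hz'] at h2'
    exact h2' le_rfl
  · obtain ⟨w, hw, e⟩ := hle ((mem_basicOpen_g f z).1 hz)
    exact (U A).ι.isOpenEmbedding.injective e ▸ hw

theorem isUnit_res_g (a : A) {W : (X A).Opens} (hW : W ≤ (X A).basicOpen (g a)) :
    IsUnit ((X A).presheaf.map (homOfLE (le_top : W ≤ ⊤)).op (g a)) := by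
  have h := (RingedSpace.isUnit_res_basicOpen (X A).toRingedSpace (g a)).map
    ((X A).presheaf.map (homOfLE hW).op).hom
  change IsUnit (((X A).presheaf.map (homOfLE hW).op) _) at h
  have h' : IsUnit ((X A).presheaf.map (homOfLE hW).op
      ((X A).presheaf.map (homOfLE ((X A).basicOpen_le (g a))).op (g a))) := h
  rwa [QCoh.ringMap_map] at h' 

/-- Functions on a basic open are fractions. -/
theorem exists_fraction {a : A} (ha : a ∈ 𝔪) (r : Γ(X A, (X A).basicOpen (g a))) :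
    ∃ (n : ℕ) (b : A), (X A).presheaf.map (homOfLE ((X A).basicOpen_le (g a))).op (g a) ^ n * r =
      (X A).presheaf.map (homOfLE ((X A).basicOpen_le (g a))).op (g b) := by
  suffices h : ∀ (W : (X A).Opens) (_ : W = (U A).ι ⁻¹ᵁ
      (Spec (CommRingCat.of A)).basicOpen ((Scheme.ΓSpecIso (CommRingCat.of A)).inv a))
      (r : Γ(X A, W)), ∃ (n : ℕ) (b : A),
      (X A).presheaf.map (homOfLE (le_top : W ≤ ⊤)).op (g a) ^ n * r =
        (X A).presheaf.map (homOfLE (le_top : W ≤ ⊤)).op (g b) from h _ (preimage_D a).symm r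
  rintro W rfl r
  let D := (Spec (CommRingCat.of A)).basicOpen ((Scheme.ΓSpecIso (CommRingCat.of A)).inv a)
  haveI : IsIso ((U A).ι.app D) :=
    (U A).ι.isIso_app D (by rw [Scheme.Opens.opensRange_ι]; exact le_U ha)
  obtain ⟨r₀, rfl⟩ := (ConcreteCategory.bijective_of_isIso ((U A).ι.app D)).2 r
  haveI := (isAffineOpen_top (Spec (CommRingCat.of A))).isLocalization_basicOpen
    ((Scheme.ΓSpecIso (CommRingCat.of A)).inv a)
  obtain ⟨⟨x, ⟨_, n, rfl⟩⟩, hx⟩ := IsLocalization.surj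
    (Submonoid.powers ((Scheme.ΓSpecIso (CommRingCat.of A)).inv a)) r₀
  obtain ⟨b, rfl⟩ := (ConcreteCategory.bijective_of_isIso (Scheme.ΓSpecIso (CommRingCat.of A)).inv).2 x
  have hnat : ∀ y, (U A).ι.app D ((Spec (CommRingCat.of A)).presheaf.map (homOfLE le_top).op y) =
      (X A).presheaf.map (homOfLE (le_top : (U A).ι ⁻¹ᵁ D ≤ ⊤)).op ((U A).ι.appTop y) := fun y =>
    ConcreteCategory.congr_hom ((U A).ι.naturality (homOfLE (le_top : D ≤ ⊤)).op) y
  refine ⟨n, b, ?_⟩
  have h2 := congrArg ((U A).ι.app D) hx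
  rw [map_mul] at h2
  change (U A).ι.app D r₀ * (U A).ι.app D ((Spec (CommRingCat.of A)).presheaf.map (homOfLE le_top).op
      (_ ^ n)) = (U A).ι.app D ((Spec (CommRingCat.of A)).presheaf.map (homOfLE le_top).op _) at h2
  rw [hnat, hnat, map_pow, map_pow, ← g_eq, ← g_eq] at h2
  rw [mul_comm, h2]

variable (F : (X A).Modules)

/-- Degree zero cohomology is the group of sections. -/
noncomputable def e₀ : Coh.HH (X A) F 0 ≃+ Γ(F, ⊤) :=
  Sheaf.H.equiv₀ (Coh.toAb F) isTerminalTop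

theorem e₀_smul (a : A) (z : Coh.HH (X A) F 0) : e₀ F (a • z) = g a • e₀ F z :=
  (Sheaf.H.equiv₀_naturality isTerminalTop
    (Coh.smulAb F (Coh.toGlobal ((X A) ↘ Spec (CommRingCat.of A)) a)) z).symm

theorem g_pow (a : A) (n : ℕ) : g (a ^ n) = g a ^ n := by
  rw [g_eq, g_eq, map_pow, map_pow]

theorem g_one : g (1 : A) = 1 := by rw [g_eq, map_one, map_one]

theorem mapLin_smul (a : A) (p : ℕ) (x : Coh.HH (X A) F p) :
    mapLin A (Formal.smulMod A F a) p x = a • x := rfl

variable {F}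

/-- Sections killed by the maximal ideal vanish. -/
theorem eq_zero_of_smul (z : Coh.HH (X A) F 0) (h : ∀ a ∈ 𝔪, a • z = 0) : z = 0 := by
  apply (e₀ F).injective
  rw [map_zero]
  choose a ha hy hle using fun y : X A => exists_basicOpen_le (W := ⊤) (y := y) trivial
  refine (TopCat.Sheaf.eq_of_locally_eq' (QCoh.abSheaf F)) (fun y : X A => (X A).basicOpen (g (a y))) ⊤
    (fun _ => homOfLE le_top) (fun y _ => Opens.mem_iSup.2 ⟨y, hy y⟩) _ _ fun y => ?_
  rw [map_zero]
  have h1 : g (a y) • e₀ F z = 0 := by rw [← e₀_smul, h _ (ha y), map_zero]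
  apply (isUnit_res_g (a y) le_rfl).smul_eq_zero.1
  show (X A).presheaf.map _ (g (a y)) • F.presheaf.map _ (e₀ F z) = 0
  rw [← QCoh.map_smul', h1, map_zero]

theorem eq_zero_of_pow_smul (z : Coh.HH (X A) F 0) (n : ℕ)
    (h : ∀ a ∈ 𝔪 ^ n, a • z = 0) : z = 0 := by
  induction n with
  | zero => simpa using h 1 (by simp)
  | succ n ih =>
    refine ih fun a ha => eq_zero_of_smul _ fun b hb => ?_
    rw [← mul_smul, h]
    rw [pow_succ']
    exact Ideal.mul_mem_mul hb ha

/-- Every element of positive degree is killed by a power of the maximal ideal. -/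
theorem exists_pow_smul_HH (hF : Coh.IsQCoh F) (i : ℕ) (x : Coh.HH (X A) F (i + 1)) :
    ∃ n : ℕ, ∀ a ∈ 𝔪 ^ n, a • x = 0 := by
  haveI := isNoetherian_X A
  haveI := isQuasiAffine_X A
  refine TildeTorsion.exists_pow_le x fun f hf => ?_
  letI := QCoh.modHH (QCoh.idTop (X A)) F (i + 1)
  haveI : IsAffine ((X A).basicOpen (g f)).toScheme := isAffineOpen_basicOpen hf
  obtain ⟨e⟩ := QCoh.HH_localization (g f) hF (i + 1)
  haveI : Subsingleton (Coh.HHon (X A) F ((X A).basicOpen (g f)) (i + 1)) :=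
    QCoh.subsingleton_HH_of_isAffine (QCoh.isQCoh_restrict _ hF) i
  haveI := e.symm.toEquiv.subsingleton
  have h0 : (TensorProduct.mk Γ(X A, ⊤) (Localization.Away (g f)) (Coh.HH (X A) F (i + 1)) 1) x = 0 :=
    Subsingleton.elim _ _
  obtain ⟨⟨_, n, rfl⟩, hn⟩ :=
    (IsLocalizedModule.eq_zero_iff (Submonoid.powers (g f))
      (TensorProduct.mk Γ(X A, ⊤) (Localization.Away (g f)) (Coh.HH (X A) F (i + 1)) 1)).1 h0
  refine ⟨n, ?_⟩
  change (g f ^ n) • x = 0 at hn
  rw [← g_pow] at hn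
  exact hn

/-- A finite submodule of global sections with torsion cokernel. -/
theorem exists_core (hF : Coh.IsCoh F) :
    ∃ N : Submodule A (Coh.HH (X A) F 0), N.FG ∧ ∀ z, ∃ n : ℕ, ∀ a ∈ 𝔪 ^ n, a • z ∈ N := by
  classical
  haveI := isNoetherian_X A
  haveI := isQuasiAffine_X A
  let ρ : ∀ W : (X A).Opens, Γ(F, ⊤) →+ Γ(F, W) := fun W =>
    (F.presheaf.map (homOfLE (le_top : W ≤ ⊤)).op).hom
  let σ : ∀ W : (X A).Opens, A → Γ(X A, W) := fun W a =>
    (X A).presheaf.map (homOfLE (le_top : W ≤ ⊤)).op (g a)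
  have hρ : ∀ W (a : A) (z : Coh.HH (X A) F 0), ρ W (e₀ F (a • z)) = σ W a • ρ W (e₀ F z) := by
    intro W a z
    rw [e₀_smul]
    exact QCoh.map_smul' _ _ _
  have hσ : ∀ W (a : A) (n : ℕ), σ W (a ^ n) = σ W a ^ n := fun W a n => by
    show (X A).presheaf.map _ (g (a ^ n)) = (X A).presheaf.map _ (g a) ^ n
    rw [g_pow, map_pow]
  have hgen : ∀ a : (𝔪 : Ideal A), ∃ S : Finset Γ(F, (X A).basicOpen (g (a : A))),
      Submodule.span Γ(X A, (X A).basicOpen (g (a : A))) (S : Set Γ(F, (X A).basicOpen (g (a : A)))) = ⊤ :=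
    fun a => (QCoh.finite_sections hF (isAffineOpen_basicOpen a.2)).fg_top
  choose S hS using hgen
  choose m T hT using fun (a : (𝔪 : Ideal A)) (t : Γ(F, (X A).basicOpen (g (a : A)))) =>
    QCoh.exists_pow_smul_eq_map_of_isQuasiSeparated hF.1 isCompact_univ isQuasiSeparated_univ (g (a : A)) t
  have hT' : ∀ a t, ρ _ (T a t) = σ _ (a : A) ^ m a t • t := fun a t => hT a t
  obtain ⟨G, hG⟩ := (IsNoetherian.noetherian (maximalIdeal A) : (maximalIdeal A).FG)
  have hGm : ∀ a ∈ G, a ∈ maximalIdeal A := fun a ha => hG.le (Submodule.subset_span ha)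
  let gens : Finset ↥(maximalIdeal A) := G.attach.image fun a => (⟨a.1, hGm a.1 a.2⟩ : ↥(maximalIdeal A))
  let L : Finset (Coh.HH (X A) F 0) := gens.biUnion fun a => (S a).image fun t => (e₀ F).symm (T a t)
  refine ⟨Submodule.span A (L : Set _), ⟨L, rfl⟩, fun z => ?_⟩
  set N := Submodule.span A (L : Set (Coh.HH (X A) F 0))
  suffices h : ∀ a ∈ gens, ∃ n : ℕ, (a : A) ^ n • z ∈ N by
    let R : Ideal A :=
      { carrier := {c | c • z ∈ N}
        zero_mem' := by simp
        add_mem' := fun {c d} hc hd => by simpa [add_smul] using N.add_mem hc hd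
        smul_mem' := fun r c hc => by simpa [smul_smul] using N.smul_mem r hc }
    obtain ⟨n, hn⟩ := Ideal.exists_pow_le_of_le_radical_of_fg (I := 𝔪) (J := R) (by
      rw [← hG]
      refine Submodule.span_le.2 fun b hb => ?_
      exact h ⟨b, hGm b hb⟩ (Finset.mem_image.2 ⟨⟨b, hb⟩, Finset.mem_attach _ _, rfl⟩))
      (IsNoetherian.noetherian _)
    exact ⟨n, fun c hc => hn hc⟩
  intro a hag
  let D := (X A).basicOpen (g (a : A))
  -- every section on the basic open is, up to a power, the restriction of an element of `N`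
  have key : ∀ s : Γ(F, D), ∃ (n : ℕ) (w : Coh.HH (X A) F 0), w ∈ N ∧
      ρ D (e₀ F w) = σ D (a : A) ^ n • s := by
    intro s
    have hs : s ∈ Submodule.span Γ(X A, D) (S a : Set Γ(F, D)) := by rw [hS a]; trivial
    induction hs using Submodule.span_induction with
    | mem t ht =>
      refine ⟨m a t, (e₀ F).symm (T a t), Submodule.subset_span ?_, ?_⟩
      · exact Finset.mem_biUnion.2 ⟨a, hag, Finset.mem_image.2 ⟨t, ht, rfl⟩⟩
      · rw [AddEquiv.apply_symm_apply]; exact hT' a t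
    | zero => exact ⟨0, 0, N.zero_mem, by rw [map_zero, map_zero, smul_zero]⟩
    | add s₁ s₂ _ _ h₁ h₂ =>
      obtain ⟨n₁, w₁, hw₁, h₁⟩ := h₁
      obtain ⟨n₂, w₂, hw₂, h₂⟩ := h₂
      refine ⟨n₁ + n₂, (a : A) ^ n₂ • w₁ + (a : A) ^ n₁ • w₂,
        N.add_mem (N.smul_mem _ hw₁) (N.smul_mem _ hw₂), ?_⟩
      rw [map_add, map_add, hρ, hρ, hσ, hσ, h₁, h₂, smul_add, ← mul_smul, ← mul_smul, ← pow_add,
        ← pow_add, add_comm n₂ n₁]
    | smul r s _ hs =>
      obtain ⟨n, w, hw, hs⟩ := hs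
      obtain ⟨k, b, hb⟩ := exists_fraction a.2 r
      refine ⟨k + n, b • w, N.smul_mem _ hw, ?_⟩
      rw [hρ, hs, show σ D b = σ D (a : A) ^ k * r from hb.symm, ← mul_smul, ← mul_smul, pow_add]
      congr 1
      ring
  obtain ⟨n, w, hw, h⟩ := key (ρ D (e₀ F z))
  have h0 : ρ D (e₀ F ((a : A) ^ n • z - w)) = 0 := by
    rw [map_sub, map_sub, hρ, hσ, h, sub_self]
  obtain ⟨k, hk⟩ := QCoh.exists_pow_smul_eq_zero_of_isCompact hF.1 isCompact_univ (g (a : A)) _ h0
  refine ⟨k + n, ?_⟩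
  rw [← g_pow, ← e₀_smul, (e₀ F).map_eq_zero_iff, smul_sub, sub_eq_zero, ← mul_smul, ← pow_add] at hk
  rw [hk]
  exact N.smul_mem _ hw

/-- An element of the maximal ideal regular on a module without sections killed by it. -/
theorem exists_regular (hF : Coh.IsCoh F) :
    ∃ y ∈ 𝔪, IsSMulRegular (Coh.HH (X A) F 0) y := by
  obtain ⟨N, hN, hN'⟩ := exists_core hF
  haveI : Module.Finite A N := Module.Finite.iff_fg.2 hN
  obtain ⟨y, hy, hreg⟩ := LC.exists_regular_of_torsionFree (I := 𝔪) N <| by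
    refine (Submodule.eq_bot_iff _).2 fun z hz => ?_
    obtain ⟨n, hn⟩ := hz
    exact Subtype.ext (eq_zero_of_pow_smul (z : Coh.HH (X A) F 0) n fun a ha => congrArg Subtype.val (hn a ha))
  refine ⟨y, hy, isSMulRegular_iff_right_eq_zero_of_smul.2 fun z hz => ?_⟩
  obtain ⟨n, hn⟩ := hN' z
  refine eq_zero_of_pow_smul z n fun a ha => ?_
  have : y • (⟨a • z, hn a ha⟩ : N) = 0 := Subtype.ext (by
    show y • a • z = 0
    rw [smul_comm, hz, smul_zero])
  exact congrArg Subtype.val (hreg.right_eq_zero_of_smul this)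

/-- Sections modulo a finite submodule with torsion cokernel form an Artinian module. -/
theorem isArtinian_quotient (hF : Coh.IsCoh F) (N : Submodule A (Coh.HH (X A) F 0)) (hN : N.FG)
    (hN' : ∀ z, ∃ n : ℕ, ∀ a ∈ 𝔪 ^ n, a • z ∈ N) : IsArtinian A (Coh.HH (X A) F 0 ⧸ N) := by
  obtain ⟨y, hy, hreg⟩ := exists_regular hF
  haveI : Module.Finite A N := Module.Finite.iff_fg.2 hN
  let S : Submodule A (Coh.HH (X A) F 0) := (LocCoh.torsionBy 𝔪 (Coh.HH (X A) F 0 ⧸ N)).comap N.mkQ
  have hmem : ∀ s : S, y • (s : Coh.HH (X A) F 0) ∈ N := fun s =>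
    (Submodule.Quotient.mk_eq_zero N).1 ((Submodule.mem_torsionBySet_iff _ _).1 s.2 ⟨y, hy⟩)
  let f : S →ₗ[A] N :=
    { toFun := fun s => ⟨y • (s : Coh.HH (X A) F 0), hmem s⟩
      map_add' := fun s t => Subtype.ext (smul_add _ _ _)
      map_smul' := fun c s => Subtype.ext (smul_comm _ _ _) }
  haveI : Module.Finite A S := Module.Finite.of_injective f fun s t h =>
    Subtype.ext (hreg (congrArg Subtype.val h))
  let p : S →ₗ[A] LocCoh.torsionBy 𝔪 (Coh.HH (X A) F 0 ⧸ N) :=
    (N.mkQ.comp S.subtype).codRestrict _ fun s => s.2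
  haveI : Module.Finite A (LocCoh.torsionBy 𝔪 (Coh.HH (X A) F 0 ⧸ N)) :=
    Module.Finite.of_surjective p fun q => by
      obtain ⟨z, hz⟩ := Submodule.Quotient.mk_surjective N q.1
      exact ⟨⟨z, show Submodule.Quotient.mk z ∈ LocCoh.torsionBy 𝔪 _ from hz ▸ q.2⟩, Subtype.ext hz⟩
  refine LC.isArtinian_of_isArtinian_torsionBy 𝔪 (IsNoetherian.noetherian _) (fun q => ?_)
    (LC.isArtinian_of_kill 𝔪 _ fun a ha q =>
      Subtype.ext ((Submodule.mem_torsionBySet_iff _ _).1 q.2 ⟨a, ha⟩))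
  obtain ⟨z, rfl⟩ := Submodule.Quotient.mk_surjective _ q
  obtain ⟨n, hn⟩ := hN' z
  exact ⟨n, fun a ha => by rw [← Submodule.Quotient.mk_smul, Submodule.Quotient.mk_eq_zero]; exact hn a ha⟩

theorem mono_smulMod (hF : Coh.IsCoh F) {y : A} (hreg : IsSMulRegular (Coh.HH (X A) F 0) y) :
    Mono (Formal.smulMod A F y) := by
  haveI := isNoetherian_X A
  haveI := isQuasiAffine_X A
  refine QCoh.mono_of_app_injective _ fun V => (injective_iff_map_eq_zero _).2 fun s hs => ?_
  choose a ha hmem hle using fun p : V => exists_basicOpen_le (W := V) (y := p.1) p.2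
  refine (TopCat.Sheaf.eq_of_locally_eq' (QCoh.abSheaf F)) (fun p : V => (X A).basicOpen (g (a p))) V
    (fun p => homOfLE (hle p)) (fun p hp => Opens.mem_iSup.2 ⟨⟨p, hp⟩, hmem ⟨p, hp⟩⟩) _ _ fun p => ?_
  rw [map_zero]
  set f := g (a p) with hf
  let D := (X A).basicOpen f
  let s' : Γ(F, D) := F.presheaf.map (homOfLE (hle p)).op s
  show s' = 0
  obtain ⟨n, T, hT⟩ := QCoh.exists_pow_smul_eq_map_of_isQuasiSeparated hF.1 isCompact_univ
    isQuasiSeparated_univ f s'
  have hys : (Formal.smulMod A F y).app D s' = 0 := by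
    show (Formal.smulMod A F y).app D (F.presheaf.map (homOfLE (hle p)).op s) = 0
    rw [QCoh.map_app_comm, hs, map_zero]
  let w := (e₀ F).symm T
  have hw : F.presheaf.map (homOfLE ((X A).basicOpen_le f)).op (e₀ F (y • w)) = 0 := by
    rw [show e₀ F (y • w) = (Formal.smulMod A F y).app ⊤ (e₀ F w) from e₀_smul F y w,
      AddEquiv.apply_symm_apply, ← QCoh.map_app_comm]
    rw [show F.presheaf.map (homOfLE ((X A).basicOpen_le f)).op T = _ from hT,
      Scheme.Modules.Hom.app_smul, hys, smul_zero]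
  obtain ⟨k, hk⟩ := QCoh.exists_pow_smul_eq_zero_of_isCompact hF.1 isCompact_univ f _ hw
  rw [hf, ← g_pow, ← e₀_smul, (e₀ F).map_eq_zero_iff, smul_comm] at hk
  have hk0 : a p ^ k • w = 0 := hreg.right_eq_zero_of_smul hk
  have h2 : g (a p ^ k) • T = 0 := by
    rw [← (e₀ F).apply_symm_apply T, ← e₀_smul, show a p ^ k • (e₀ F).symm T = 0 from hk0, map_zero]
  have h3 := congrArg (F.presheaf.map (homOfLE ((X A).basicOpen_le f)).op) h2
  rw [QCoh.map_smul', map_zero, g_pow, map_pow,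
    show F.presheaf.map (homOfLE ((X A).basicOpen_le f)).op T = _ from hT] at h3
  have hu : IsUnit ((X A).presheaf.map (homOfLE ((X A).basicOpen_le f)).op f) := isUnit_res_g (a p) le_rfl
  rw [← mul_smul] at h3
  exact ((hu.pow k).mul (hu.pow n)).smul_eq_zero.1 h3

theorem exists_connecting_eq {Y : TopCat.{u}} {T : ShortComplex (CohTop.Ab Y)} (hT : T.ShortExact)
    (n : ℕ) (x : CohTop.H T.X₁ (n + 1)) (hx : Sheaf.H.map T.f (n + 1) x = 0) :
    ∃ c, QCoh.Ab.connecting hT n c = x :=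
  Abelian.Ext.covariant_sequence_exact₁ _ hT x hx rfl

section General

variable {R : Type u} [CommRing R] [IsNoetherianRing R] (I : Ideal R) {Y : Scheme.{u}}
  [Y.Over (Spec (CommRingCat.of R))] {S : ShortComplex Y.Modules} (hS : S.ShortExact)

/-- A power torsion module whose socle comes from an Artinian module through the connecting map. -/
theorem isArtinian_of_delta (i : ℕ) {y : R} (hy : y ∈ I)
    (hf : ∀ x : Coh.HH Y S.X₁ (i + 1), y • x = 0 → mapLin R S.f (i + 1) x = 0)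
    (htor : LocCoh.IsPowerTorsion I (Coh.HH Y S.X₁ (i + 1)))
    (K : Submodule R (Coh.HH Y S.X₃ i)) (hK : K ≤ LinearMap.ker (deltaLin R hS i))
    (hart : IsArtinian R (Coh.HH Y S.X₃ i ⧸ K)) : IsArtinian R (Coh.HH Y S.X₁ (i + 1)) := by
  let q := K.liftQ (deltaLin R hS i) hK
  haveI : IsArtinian R (LinearMap.range q) := isArtinian_of_surjective _ q.rangeRestrict q.surjective_rangeRestrict
  have hle : LocCoh.torsionBy I (Coh.HH Y S.X₁ (i + 1)) ≤ LinearMap.range q := fun x hx => by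
    obtain ⟨c, hc⟩ := exists_connecting_eq (Y := Y.toPresheafedSpace.carrier) (QCoh.toAb_shortExact hS) i x
      (show mapLin R S.f (i + 1) x = 0 from hf x ((Submodule.mem_torsionBySet_iff _ _).1 hx ⟨y, hy⟩))
    exact ⟨Submodule.Quotient.mk c, hc⟩
  exact LC.isArtinian_of_isArtinian_torsionBy I (IsNoetherian.noetherian _) htor
    (isArtinian_of_injective (Submodule.inclusion hle) (Submodule.inclusion_injective hle))

/-- The image of `H⁰` of the middle term is killed by the connecting map, with torsion cokernel when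
the target is torsion. -/
theorem core_quotient (htor : LocCoh.IsPowerTorsion I (Coh.HH Y S.X₁ 1))
    (N : Submodule R (Coh.HH Y S.X₂ 0)) (hN : ∀ z, ∃ n : ℕ, ∀ a ∈ I ^ n, a • z ∈ N) :
    N.map (mapLin R S.g 0) ≤ LinearMap.ker (deltaLin R hS 0) ∧
      ∀ c, ∃ n : ℕ, ∀ a ∈ I ^ n, a • c ∈ N.map (mapLin R S.g 0) := by
  refine ⟨?_, fun c => ?_⟩
  · rintro _ ⟨z, -, rfl⟩
    exact (QCoh.Ab.connecting_eq_zero_iff (X := Y.toPresheafedSpace.carrier)
      (QCoh.toAb_shortExact hS) 0 _).2 ⟨z, rfl⟩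
  · refine (TildeTorsion.exists_pow_le (a := I)
      (Submodule.Quotient.mk (p := N.map (mapLin R S.g 0)) c) fun b hb => ?_).imp fun n hn a ha => by
        have := hn a ha
        rwa [← Submodule.Quotient.mk_smul, Submodule.Quotient.mk_eq_zero] at this
    obtain ⟨n, hn⟩ := htor (deltaLin R hS 0 c)
    obtain ⟨z, hz⟩ := PnCoh.Finite.exists_of_deltaLin_eq_zero R hS 0 (x := b ^ n • c)
      (by rw [map_smul, hn _ (Ideal.pow_mem_pow hb n)])
    obtain ⟨k, hk⟩ := hN z
    refine ⟨k + n, ?_⟩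
    rw [← Submodule.Quotient.mk_smul, Submodule.Quotient.mk_eq_zero, pow_add, mul_smul, ← hz]
    exact ⟨b ^ k • z, hk _ (Ideal.pow_mem_pow hb k), map_smul _ _ _⟩

end General

variable (A) in
/-- The short complex of multiplication by a scalar. -/
noncomputable abbrev smulSC (F : (X A).Modules) (y : A) : ShortComplex (X A).Modules :=
  ShortComplex.mk (Formal.smulMod A F y) (cokernel.π (Formal.smulMod A F y)) (cokernel.condition _)

theorem smulSC_shortExact {F : (X A).Modules} (y : A) [Mono (Formal.smulMod A F y)] :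
    (smulSC A F y).ShortExact :=
  { exact := ShortComplex.exact_cokernel _ }

theorem isArtinian_HH_one (F : (X A).Modules) (hF : Coh.IsCoh F) : IsArtinian A (Coh.HH (X A) F 1) := by
  haveI := isNoetherian_X A
  obtain ⟨y, hy, hreg⟩ := exists_regular hF
  haveI := mono_smulMod hF hreg
  obtain ⟨N, hN, hN'⟩ := exists_core hF
  have htor : LocCoh.IsPowerTorsion 𝔪 (Coh.HH (X A) F 1) := exists_pow_smul_HH hF.1 0
  obtain ⟨h₁, h₂⟩ := core_quotient 𝔪 (smulSC_shortExact y) htor N hN'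
  exact isArtinian_of_delta 𝔪 (smulSC_shortExact y) 0 hy (fun x hx => hx) htor _ h₁
    (isArtinian_quotient (QCoh.isCoh_cokernel hF.1 hF (Formal.smulMod A F y)) _ (hN.map _) h₂)

theorem isArtinian_HH_step (i : ℕ)
    (ih : ∀ (F : (X A).Modules), Coh.IsCoh F → IsArtinian A (Coh.HH (X A) F (i + 1)))
    (F : (X A).Modules) (hF : Coh.IsCoh F) : IsArtinian A (Coh.HH (X A) F (i + 1 + 1)) := by
  haveI := isNoetherian_X A
  obtain ⟨y, hy, hreg⟩ := exists_regular hF
  haveI := mono_smulMod hF hreg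
  haveI := ih _ (QCoh.isCoh_cokernel hF.1 hF (Formal.smulMod A F y))
  exact isArtinian_of_delta 𝔪 (smulSC_shortExact y) (i + 1) hy (fun x hx => hx)
    (exists_pow_smul_HH hF.1 (i + 1)) ⊥ bot_le
    (isArtinian_of_surjective _ (⊥ : Submodule A _).mkQ (Submodule.mkQ_surjective _))

theorem isArtinian_HH (i : ℕ) : ∀ (F : (X A).Modules), Coh.IsCoh F →
    IsArtinian A (Coh.HH (X A) F (i + 1)) := by
  induction i with
  | zero => exact isArtinian_HH_one
  | succ i ih => exact isArtinian_HH_step i ih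

end Groth.Agent.PuncArt6
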