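import Groth.Statements.S0825
import Groth.Agent.LC.CohDT

set_option autoImplicit false
universe u
open scoped BigOperators
open LocCoh

namespace Groth.Agent.S0825

/-- Let A be a Noetherian ring and I the ideal generated by f_1, …, f_r, with cohomological dimension
exactly 1. Then there are c ≥ 1 and A-linear maps φ_j : I^c → A such that x = Σ_j f_j φ_j(x) for
every x ∈ I^c. -/
theorem result (A : Type u) [CommRing A] [IsNoetherianRing A] (r : ℕ) (f : Fin r → A)
    (h₁ : LocCoh.CdLE A (Ideal.span (Set.range f)) 1) (h₀ : ¬ LocCoh.CdLE A (Ideal.span (Set.range f)) 0) :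
    ∃ (c : ℕ) (φ : Fin r → (↥(Ideal.span (Set.range f) ^ (c + 1)) →ₗ[A] A)),
      ∀ x : ↥(Ideal.span (Set.range f) ^ (c + 1)), (x : A) = ∑ j, f j * φ j x := by
  classical
  have _ := h₀
  set I := Ideal.span (Set.range f) with hI
  have hmem : ∀ x : Fin r → A, (∑ j, f j * x j) ∈ I ^ 1 := fun x => by
    rw [pow_one]
    exact Ideal.sum_mem _ fun j _ => Ideal.mul_mem_right _ _ (Ideal.subset_span ⟨j, rfl⟩)
  let g : (Fin r → A) →ₗ[A] ↥(I ^ 1) :=
    (∑ j, f j • LinearMap.proj (R := A) (φ := fun _ : Fin r => A) j).codRestrict (I ^ 1) fun x => by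
      simpa [LinearMap.sum_apply] using hmem x
  have hg : ∀ x, ((g x : ↥(I ^ 1)) : A) = ∑ j, f j * x j := fun x => by
    simp [g, LinearMap.sum_apply]
  have hgs : Function.Surjective g := fun y => by
    have hy : (y : A) ∈ I := by simpa using y.2
    obtain ⟨c, hc⟩ := Ideal.mem_span_range_iff_exists_fun.1 hy
    refine ⟨c, Subtype.ext ?_⟩
    rw [hg, ← hc]
    exact Finset.sum_congr rfl fun j _ => mul_comm _ _
  have hS := LinearMap.shortExact_shortComplexKer hgs
  let S := LinearMap.shortComplexKer g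
  let η : CategoryTheory.Abelian.Ext (Groth.Agent.LC.qObj I 1) S.X₁ 2 :=
    (Groth.Agent.LC.qCls I 1).comp hS.extClass (by omega)
  obtain ⟨m, hm1, hη⟩ := (Groth.Agent.LC.toH_eq_zero_iff I 2 η).1
    (@Subsingleton.elim _ (h₁ _ 2 (by omega)) _ _)
  have hz : (CategoryTheory.Abelian.Ext.mk₀ (Groth.Agent.LC.pMap I hm1)).comp hS.extClass (zero_add 1) = 0 := by
    have h2 : (Groth.Agent.LC.qCls I m).comp
        ((CategoryTheory.Abelian.Ext.mk₀ (Groth.Agent.LC.pMap I hm1)).comp hS.extClass (zero_add 1)) (show 1 + 1 = 2 from rfl) = 0 := by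
      rw [← CategoryTheory.Abelian.Ext.comp_assoc _ _ _ (add_zero 1) (zero_add 1) (by omega), Groth.Agent.LC.qCls_res,
        CategoryTheory.Abelian.Ext.comp_assoc _ _ _ (zero_add 1) (show 1 + 1 = 2 from rfl) (by omega)]
      rw [Groth.Agent.LC.res_apply] at hη
      exact hη
    obtain ⟨y, hy⟩ := CategoryTheory.Abelian.Ext.contravariant_sequence_exact₁ (Groth.Agent.LC.quotSeq_shortExact I m) _
      _ (show 1 + 1 = 2 from rfl) h2
    rw [← hy, show y = 0 from CategoryTheory.Abelian.Ext.eq_zero_of_projective y, CategoryTheory.Abelian.Ext.comp_zero]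
  obtain ⟨y, hy⟩ := CategoryTheory.Abelian.Ext.covariant_sequence_exact₃ _ hS
    (CategoryTheory.Abelian.Ext.mk₀ (Groth.Agent.LC.pMap I hm1)) rfl hz
  obtain ⟨ψ, rfl⟩ := (CategoryTheory.Abelian.Ext.mk₀_bijective _ _).2 y
  rw [CategoryTheory.Abelian.Ext.mk₀_comp_mk₀] at hy
  have hψ := (CategoryTheory.Abelian.Ext.mk₀_bijective _ _).1 hy
  refine ⟨m, fun j => (LinearMap.proj j).comp (ψ.hom.comp (Submodule.inclusion (Ideal.pow_le_pow_right (Nat.le_succ m)))),
    fun x => ?_⟩
  have h := congrArg Subtype.val (CategoryTheory.ConcreteCategory.congr_hom hψ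
    (Submodule.inclusion (Ideal.pow_le_pow_right (Nat.le_succ m)) x))
  exact h.symm.trans (hg _)

end Groth.Agent.S0825
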