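import Groth.Statements.S7395
import Groth.Agent.Graft.Model
import Groth.Agent.Graft.SubLim
-- import your own Groth.Agent.* helpers here

set_option autoImplicit false
set_option linter.style.haveILetI false
universe u
open CategoryTheory AlgebraicGeometry
open Lim

attribute [-instance] CategoryTheory.catToReflQuiver

namespace Groth.Agent.S7395

/-- Let `f : X → S` be separated and of finite type with `S` quasi-compact and quasi-separated. Then
there are a separated morphism `f' : X' → S` of finite presentation and a closed immersion `X → X'`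
over `S`. -/
theorem result {X S : Scheme.{u}} (f : X ⟶ S) [IsSeparated f]
    [LocallyOfFiniteType f] [QuasiCompact f] [CompactSpace S] [QuasiSeparatedSpace S] :
    ∃ (X' : Scheme.{u}) (f' : X' ⟶ S) (j : X ⟶ X'), IsSeparated f' ∧ LocallyOfFinitePresentation f' ∧
      QuasiCompact f' ∧ IsClosedImmersion j ∧ j ≫ f' = f := by
  haveI : CompactSpace X := QuasiCompact.compactSpace_of_compactSpace f
  haveI : QuasiSeparatedSpace X := quasiSeparatedSpace_of_quasiSeparated f
  obtain ⟨P, p, k, hc, hq, hp, hk, hkp⟩ := Graft.exists_hasModel f
  haveI : IsSeparated (k.ker.subschemeι ≫ p) := by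
    have e : k.ker.subschemeι ≫ p = inv k.toImage ≫ f := by
      rw [← hkp, IsIso.eq_inv_comp, Scheme.Hom.toImage_imageι_assoc]
    rw [e]; infer_instance
  obtain ⟨K, hK⟩ := Graft.exists_isSeparated p k.ker
  haveI : LocallyOfFinitePresentation K.1.subschemeι := MorLib.IdealFG.lfp_subschemeι K.2.2
  haveI : CompactSpace K.1.subscheme :=
    QuasiCompact.compactSpace_of_compactSpace K.1.subschemeι
  let j : X ⟶ K.1.subscheme := IsClosedImmersion.lift K.1.subschemeι k
    (K.1.ker_subschemeι.le.trans K.2.1)
  have hj : j ≫ K.1.subschemeι = k := IsClosedImmersion.lift_fac _ _ _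
  haveI : IsClosedImmersion j := by
    haveI : IsClosedImmersion (j ≫ K.1.subschemeι) := by rw [hj]; infer_instance
    exact IsClosedImmersion.of_comp j K.1.subschemeι
  exact ⟨_, K.1.subschemeι ≫ p, j, hK, inferInstance, quasiCompact_of_compactSpace _, inferInstance,
    by rw [reassoc_of% hj, hkp]⟩

end Groth.Agent.S7395
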