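import Groth.Statements.S3626
import Groth.Agent.GorFib.Mor
-- import your own Groth.Agent.* helpers here

set_option autoImplicit false
universe u
open CategoryTheory CategoryTheory.Limits AlgebraicGeometry
attribute [local instance] HasDerivedCategory.standard
open Dual3

namespace Groth.Agent.S3626

section

set_option backward.isDefEq.respectTransparency false

open IsLocalRing TensorProduct Groth.Agent Groth.Agent.GorFib Groth.Agent.Triage.CMMor

variable {X S : Scheme.{u}}
variable {X' T : Scheme.{u}} {f : X ⟶ S} {f' : X' ⟶ T} {g' : X' ⟶ X} {g : T ⟶ S}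

/-- The local rings of a fibre of the base change by a finitely generated field extension. -/
theorem gor_stalk_of_field_pullback' {k K L : Type u} [Field k] [Field K] [Field L] [Algebra k K]
    [Algebra k L] [Algebra.EssFiniteType k K] {G : Scheme.{u}} {a : G ⟶ Spec (CommRingCat.of K)}
    {b : G ⟶ Spec (CommRingCat.of L)}
    (h : IsPullback a b (Spec.map (CommRingCat.ofHom (algebraMap k K))) (Spec.map (CommRingCat.ofHom (algebraMap k L))))
    (w : G) : LocCoh.IsGorensteinLocalRing (G.presheaf.stalk w) := by
  haveI : LocCoh.IsGorensteinRing L := LC.gorensteinRing_of_isRegularRing L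
  haveI : LocCoh.IsGorensteinRing (K ⊗[k] L) := LC.gorensteinRing_field_tensor k L K
  let e : G ⟶ Spec (CommRingCat.of (K ⊗[k] L)) := (h.isoPullback ≪≫ pullbackSpecIso k K L).hom
  let v := e w
  refine gor_of_equiv ((asIso (e.stalkMap w)).commRingCatIsoToRingEquiv) ?_
  exact gor_of_equiv (Spec.stalkIso (CommRingCat.of (K ⊗[k] L)) v).symm.commRingCatIsoToRingEquiv
    (LocCoh.IsGorensteinRing.isGorensteinLocalRing_localization v.asIdeal)

/-- Gorensteinness of the local rings of the fibres along a base change. -/
theorem gor_fibre_iff' (hc : IsPullback g' f' f g) [LocallyOfFiniteType f] (x' : X') :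
    LocCoh.IsGorensteinLocalRing
        (↑(X'.presheaf.stalk x') ⧸ (maximalIdeal (T.presheaf.stalk (f' x'))).map (FibFlat.sm f' x' (f' x') rfl)) ↔
      LocCoh.IsGorensteinLocalRing
        (↑(X.presheaf.stalk (g' x')) ⧸
          (maximalIdeal (S.presheaf.stalk (f (g' x')))).map (FibFlat.sm f (g' x') (f (g' x')) rfl)) := by
  have hy : f (g' x') = g (f' x') := by rw [← Scheme.Hom.comp_apply, hc.w, Scheme.Hom.comp_apply]
  have hI : LocCoh.IsGorensteinLocalRing
        (↑(X.presheaf.stalk (g' x')) ⧸
          (maximalIdeal (S.presheaf.stalk (f (g' x')))).map (FibFlat.sm f (g' x') (f (g' x')) rfl)) ↔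
      LocCoh.IsGorensteinLocalRing
        (↑(X.presheaf.stalk (g' x')) ⧸
          (maximalIdeal (S.presheaf.stalk (g (f' x')))).map (FibFlat.sm f (g' x') (g (f' x')) hy)) :=
    gor_congr (Ideal.quotEquivOfEq (FibFlat.map_max_sm f (g' x') _ hy))
  rw [hI]
  obtain ⟨e, he, hι⟩ := ConsPropLib.exists_fibre_pullback hc (f' x')
  let z' := f'.asFiber x'
  have hz' : f'.fiberι (f' x') z' = x' := f'.fiberι_asFiber x'
  have hz : f.fiberι (g (f' x')) (e z') = g' x' := by
    rw [← Scheme.Hom.comp_apply, hι, Scheme.Hom.comp_apply, hz']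
  obtain ⟨E'⟩ := Triage.CMMor.exists_equiv_fibre_stalk_aux f' x' (f' x') rfl z' hz'
  obtain ⟨E⟩ := Triage.CMMor.exists_equiv_fibre_stalk_aux f (g' x') (g (f' x')) hy (e z') hz
  haveI : LocallyOfFiniteType f' := MorphismProperty.of_isPullback (P := @LocallyOfFiniteType) hc inferInstance
  haveI : IsLocallyNoetherian (f'.fiber (f' x')) :=
    LocallyOfFiniteType.isLocallyNoetherian (f'.fiberToSpecResidueField (f' x'))
  haveI : IsLocallyNoetherian (f.fiber (g (f' x'))) :=
    LocallyOfFiniteType.isLocallyNoetherian (f.fiberToSpecResidueField (g (f' x')))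
  haveI := Triage.CMMor.isNoetherianRing_fibre_stalk_sm f' x' (f' x') rfl inferInstance
  haveI : IsNoetherianRing ((f'.fiber (f' x')).presheaf.stalk z') := isNoetherianRing_of_ringEquiv _ E'
  rw [gor_congr E', gor_congr E]
  haveI : Flat e := by
    have h1 : Flat (Spec.map (g.residueFieldMap (f' x'))) := by
      rw [Flat.SpecMap_iff]
      let := (g.residueFieldMap (f' x')).hom.toAlgebra
      exact RingHom.flat_algebraMap_iff.2 inferInstance
    exact MorphismProperty.of_isPullback (P := (@Flat : MorphismProperty Scheme.{u})) he.flip h1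
  letI : Algebra ((f.fiber (g (f' x'))).presheaf.stalk (e z')) ((f'.fiber (f' x')).presheaf.stalk z') :=
    (e.stalkMap z').hom.toAlgebra
  haveI : IsLocalHom (algebraMap ((f.fiber (g (f' x'))).presheaf.stalk (e z')) ((f'.fiber (f' x')).presheaf.stalk z')) :=
    inferInstanceAs (IsLocalHom (e.stalkMap z').hom)
  haveI : Module.Flat ((f.fiber (g (f' x'))).presheaf.stalk (e z')) ((f'.fiber (f' x')).presheaf.stalk z') :=
    Flat.stalkMap e z'
  rw [gor_iff ((f.fiber (g (f' x'))).presheaf.stalk (e z')) ((f'.fiber (f' x')).presheaf.stalk z')]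
  refine ⟨And.left, fun h => ⟨h, ?_⟩⟩
  refine (gor_congr (Triage.CMMor.exists_equiv_fibre_stalk e z').some).2 ?_
  -- the fibre of `e` is the base change of a field extension
  let F := f.fiber (g (f' x'))
  let k := S.residueField (g (f' x'))
  obtain ⟨φ, hφ⟩ := Spec.map_surjective (F.fromSpecResidueField (e z') ≫ f.fiberToSpecResidueField (g (f' x')))
  letI : Field k := inferInstance
  letI : Algebra k (F.residueField (e z')) := φ.hom.toAlgebra
  letI : Algebra k (T.residueField (f' x')) := (g.residueFieldMap (f' x')).hom.toAlgebra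
  haveI : Algebra.EssFiniteType k (F.residueField (e z')) := by
    let h := f.fiberToSpecResidueField (g (f' x'))
    haveI : IsClosedImmersion ((Spec k).fromSpecResidueField (h (e z'))) := by
      refine IsClosedImmersion.of_isPreimmersion _ ?_
      rw [Scheme.range_fromSpecResidueField]
      convert isClosed_univ
      exact Set.eq_univ_of_forall fun z => Subsingleton.elim (α := PrimeSpectrum k) _ _
    obtain ⟨ψ, hψ⟩ := Spec.map_surjective ((Spec k).fromSpecResidueField (h (e z')))
    haveI : IsClosedImmersion (Spec.map ψ) := hψ ▸ inferInstance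
    have hs : ψ.hom.FiniteType := (HasRingHomProperty.Spec_iff (P := @LocallyOfFiniteType)).1 inferInstance
    have he : φ = ψ ≫ h.residueFieldMap (e z') := by
      apply Spec.map_injective
      rw [Spec.map_comp, hφ, hψ]
      exact (h.SpecMap_residueFieldMap_fromSpecResidueField (e z')).symm
    show φ.hom.EssFiniteType
    rw [he]
    exact (RingHom.FiniteType.essFiniteType hs).comp
      (Triage.CMBC.essFiniteType_residueFieldMap h (e z'))
  refine gor_stalk_of_field_pullback' (k := k) (K := F.residueField (e z')) (L := T.residueField (f' x'))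
    (a := pullback.snd e (F.fromSpecResidueField (e z')))
    (b := pullback.fst e (F.fromSpecResidueField (e z')) ≫ f'.fiberToSpecResidueField (f' x')) ?_ _
  show IsPullback _ _ (Spec.map φ) (Spec.map (g.residueFieldMap (f' x')))
  rw [hφ]
  exact (IsPullback.of_hasPullback e (F.fromSpecResidueField (e z'))).flip.paste_vert he

end

/-- Let f : X → Y be flat and locally of finite type, g : Y' → Y any morphism and X' = Y' ×_Y X with
projections f' : X' → Y', g' : X' → X. Then for every point x' of X', f' is Gorenstein at x' if and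
only if f is Gorenstein at g'(x'): formation of the Gorenstein locus commutes with base change. -/
theorem result (X Y X' Y' : Scheme.{u}) (f : X ⟶ Y) [Flat f] [LocallyOfFiniteType f] (g : Y' ⟶ Y) (f' : X' ⟶ Y') (g' : X' ⟶ X) (hsq : IsPullback g' f' f g) (x' : X') : Dual3.IsGorensteinAt f' x' ↔ Dual3.IsGorensteinAt f (g' x') := by
  rw [GorFib.gorAt_iff_sm f (g' x') (f (g' x')) rfl, GorFib.gorAt_iff_sm f' x' (f' x') rfl]
  haveI : Flat f' := MorphismProperty.of_isPullback (P := (@Flat : MorphismProperty Scheme.{u})) hsq inferInstance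
  exact ⟨fun h => ⟨(FibFlat.sm_flat_iff f (g' x') (f (g' x')) rfl).2 (Flat.stalkMap f _),
      (gor_fibre_iff' hsq x').1 h.2⟩,
    fun h => ⟨(FibFlat.sm_flat_iff f' x' (f' x') rfl).2 (Flat.stalkMap f' _),
      (gor_fibre_iff' hsq x').2 h.2⟩⟩

end Groth.Agent.S3626
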