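import Groth.Statements.S0469
import Groth.Agent.TopVanish.Godement
import Groth.Agent.SiteBase.Top

set_option autoImplicit false
universe u
open CategoryTheory
open CohTop

namespace Groth.Agent.S0469

/-- If X is a spectral space of Krull dimension at most d, then H^p(X, F) = 0 for every abelian sheaf F
and every p > d. -/
theorem result {X : TopCat.{u}} [SpectralSpace X] (d : ℕ) (hd : topologicalKrullDim X ≤ d)
    (F : CohTop.Ab X) (p : ℕ) (hp : d < p) : Subsingleton (CohTop.H F p) := by
  haveI := Groth.Agent.TopVanish.van_spectral hd (d + 1) 0 (by omega) F Groth.Agent.TopVanish.cls_zero p hp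
  exact (SiteBase.huTerminalEquiv CategoryTheory.Limits.isTerminalTop F p).toEquiv.symm.subsingleton

end Groth.Agent.S0469
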