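import Groth.Statements.S0236
import Groth.Agent.EtGmH1.Compare
import Groth.Agent.H23.PicMul
-- import your own Groth.Agent.* helpers here

set_option autoImplicit false
universe u
open CategoryTheory CategoryTheory.Limits AlgebraicGeometry
open Curves

namespace Groth.Agent.S0236

/-- For any scheme X, the first étale cohomology of G_m (small site) vanishes exactly when every
invertible O_X-module is isomorphic to the structure sheaf — the part of the identification
H^1_et(X, G_m) = Pic(X) that can be stated without a group structure on Pic. -/
theorem result (X : Scheme.{u}) :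
    Subsingleton (EtCoh.H X (EtCoh.Gm X) 1) ↔
      ∀ L : X.Modules, PicF.IsInvertible L → Nonempty (L ≅ Coh.structureModule X) := by
  letI := Groth.Agent.H23.PicMul.law X
  obtain ⟨e⟩ := Groth.Agent.EtGmH1.nonempty_addEquiv X
  refine ⟨fun h L hL => ?_, fun h => ?_⟩
  · have h1 : (e (Additive.ofMul (PicGrp.cls L hL))) = e (Additive.ofMul 1) := Subsingleton.elim _ _
    have h2 : PicGrp.cls L hL = PicLoc.unitPicSet X := (Additive.ofMul.injective (e.injective h1)).trans PicGrp.Law.one_eq
    exact (PicGrp.cl_eq_cl_iff _ _).1 (congrArg Subtype.val h2)
  · haveI : Subsingleton (PicLoc.PicSet X) := subsingleton_of_forall_eq (PicLoc.unitPicSet X) fun a => by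
      obtain ⟨L, hL, rfl⟩ := PicGrp.exists_eq_cls a
      exact Subtype.ext ((PicGrp.cl_eq_cl_iff _ _).2 (h L hL))
    haveI : Subsingleton (Additive (PicLoc.PicSet X)) := Additive.toMul.injective.subsingleton
    exact e.symm.injective.subsingleton

end Groth.Agent.S0236
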