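import Groth.Statements.S14449
import Groth.Agent.EtFound.AbRecollement
-- import your own Groth.Agent.* helpers here

set_option autoImplicit false
universe u
open CategoryTheory CategoryTheory.Limits AlgebraicGeometry
open EtCore


namespace Groth.Agent.S14449

open Groth.Agent.EtFound Opposite

set_option backward.isDefEq.respectTransparency.types false

variable {X Z U : Scheme.{u}}

/-- cartesian squares of abelian etale sheaves are detected by stalks -/
theorem isPullback_of_stalks {P A B C : EtCoh.Ab X} {p : P ⟶ A} {q : P ⟶ B} {f : A ⟶ C} {g : B ⟶ C}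
    (w : p ≫ f = q ≫ g) (h : ∀ (Ω : Type u) [Field Ω] [IsSepClosed Ω] (ξ : Spec (CommRingCat.of Ω) ⟶ X),
      IsPullback ((EtCoh.stalk ξ).map p) ((EtCoh.stalk ξ).map q) ((EtCoh.stalk ξ).map f) ((EtCoh.stalk ξ).map g)) :
    IsPullback p q f g := by
  have : IsIso (pullback.lift p q w) := by
    refine (isIso_iff_stalks _).2 fun Ω _ _ ξ => ?_
    have h' := (IsPullback.of_hasPullback f g).map (EtCoh.stalk ξ)
    have e : (EtCoh.stalk ξ).map (pullback.lift p q w) = ((h Ω ξ).isoIsPullback _ _ h').hom :=
      h'.hom_ext ((((EtCoh.stalk ξ).map_comp _ _).symm.trans (congrArg _ (pullback.lift_fst _ _ _))).trans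
          ((h Ω ξ).isoIsPullback_hom_fst _ _ h').symm)
        ((((EtCoh.stalk ξ).map_comp _ _).symm.trans (congrArg _ (pullback.lift_snd _ _ _))).trans
          ((h Ω ξ).isoIsPullback_hom_snd _ _ h').symm)
    rw [e]
    infer_instance
  exact IsPullback.of_iso_pullback ⟨w⟩ (asIso (pullback.lift p q w)) (pullback.lift_fst _ _ _) (pullback.lift_snd _ _ _)

variable (i : Z ⟶ X) [IsClosedImmersion i] (j : U ⟶ X) [IsOpenImmersion j]

theorem isIso_stalk_unit_open (F : EtCoh.Ab X) {Ω : Type u} [Field Ω] [IsSepClosed Ω]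
    (ξ : Spec (CommRingCat.of Ω) ⟶ X) (hξ : ξ.base (default : Spec (CommRingCat.of Ω)) ∈ Set.range j.base) :
    IsIso ((EtCoh.stalk ξ).map ((EtCoh.pullPushAdj j).unit.app F)) := by
  refine isIso_stalk_of_lift j _ ξ hξ fun k _ _ z => ?_
  refine (NatIso.isIso_map_iff (sheafFiberPullIso (A := AddCommGrpCat.{u + 1}) j z) _).1 ?_
  have := counit_isIso (A := AddCommGrpCat.{u + 1}) j (liftable_of_isOpenImmersion j) ((EtCoh.pull j).obj F)
  have : IsIso ((EtCoh.pull j).map ((EtCoh.pullPushAdj j).unit.app F)) :=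
    @IsIso.of_isIso_fac_right _ _ _ _ _ _ _ _ this (IsIso.id _) ((EtCoh.pullPushAdj j).left_triangle_components F)
  exact inferInstanceAs (IsIso ((EtCoh.stalk z).map ((EtCoh.pull j).map ((EtCoh.pullPushAdj j).unit.app F))))

/-- the gluing square of a sheaf -/
theorem isPullback_recoll (hZU : Set.range j.base = (Set.range i.base)ᶜ) (F : EtCoh.Ab X) :
    IsPullback ((EtCoh.pullPushAdj j).unit.app F) ((EtCoh.pullPushAdj i).unit.app F)
      ((EtCoh.pullPushAdj i).unit.app ((EtCoh.push j).obj ((EtCoh.pull j).obj F)))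
      ((EtCoh.push i).map ((EtCoh.pull i).map ((EtCoh.pullPushAdj j).unit.app F))) := by
  have w := (EtCoh.pullPushAdj i).unit.naturality ((EtCoh.pullPushAdj j).unit.app F)
  refine isPullback_of_stalks w fun Ω _ _ ξ => ?_
  have w' := ((EtCoh.stalk ξ).map_comp _ _).symm.trans ((congrArg (EtCoh.stalk ξ).map w).trans ((EtCoh.stalk ξ).map_comp _ _))
  by_cases h : ξ.base (default : Spec (CommRingCat.of Ω)) ∈ Set.range i.base
  · have h1 := isIso_stalk_unit_closed i F ξ h
    have h2 := isIso_stalk_unit_closed i ((EtCoh.push j).obj ((EtCoh.pull j).obj F)) ξ h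
    exact @IsPullback.of_vert_isIso _ _ _ _ _ _ _ _ _ _ h1 h2 ⟨w'⟩
  · have h1 := isIso_stalk_unit_open j F ξ (hZU.ge h)
    have h2 := (isZero_stalk_push_closed i ((EtCoh.pull i).obj F) ξ h).isIso
      (isZero_stalk_push_closed i ((EtCoh.pull i).obj ((EtCoh.push j).obj ((EtCoh.pull j).obj F))) ξ h)
      ((EtCoh.stalk ξ).map ((EtCoh.push i).map ((EtCoh.pull i).map ((EtCoh.pullPushAdj j).unit.app F))))
    exact @IsPullback.of_horiz_isIso _ _ _ _ _ _ _ _ _ _ h1 h2 ⟨w'⟩

theorem isEquivalence (hZU : Set.range j.base = (Set.range i.base)ᶜ) :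
    (EtCore.recollTriple i j).IsEquivalence := by
  let ai := EtCoh.pullPushAdj i
  let aj := EtCoh.pullPushAdj j
  have faith : (EtCore.recollTriple i j).Faithful := ⟨fun {F G f g} e => by
    have e1 : (EtCoh.pull i).map f = (EtCoh.pull i).map g := congrArg CommaMorphism.left e
    have e2 : (EtCoh.pull j).map f = (EtCoh.pull j).map g := congrArg CommaMorphism.right e
    refine (isPullback_recoll i j hZU G).hom_ext ?_ ?_
    · exact (aj.unit.naturality f).trans ((congrArg (fun a => aj.unit.app F ≫ (EtCoh.push j).map a) e2).trans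
        (aj.unit.naturality g).symm)
    · exact (ai.unit.naturality f).trans ((congrArg (fun a => ai.unit.app F ≫ (EtCoh.push i).map a) e1).trans
        (ai.unit.naturality g).symm)⟩
  have full : (EtCore.recollTriple i j).Full := ⟨fun {F G} φ => by
    have hw : φ.left ≫ (EtCoh.pull i).map (aj.unit.app G) =
        (EtCoh.pull i).map (aj.unit.app F) ≫ (EtCoh.pull i).map ((EtCoh.push j).map φ.right) := φ.w
    let S := isPullback_recoll i j hZU G
    let c1 := aj.unit.app F ≫ (EtCoh.push j).map φ.right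
    let c2 := ai.unit.app F ≫ (EtCoh.push i).map φ.left
    have hc : c1 ≫ ai.unit.app ((EtCoh.push j).obj ((EtCoh.pull j).obj G)) =
        c2 ≫ (EtCoh.push i).map ((EtCoh.pull i).map (aj.unit.app G)) := by
      refine (ai.unit.naturality c1).trans ?_
      refine Eq.trans ?_ (Category.assoc _ _ _).symm
      refine congrArg (ai.unit.app F ≫ ·) ?_
      refine Eq.trans ?_ ((EtCoh.push i).map_comp _ _)
      exact congrArg (EtCoh.push i).map (((EtCoh.pull i).map_comp _ _).trans hw.symm)
    refine ⟨S.lift c1 c2 hc, CommaMorphism.ext ?_ ?_⟩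
    · exact (ai.homEquiv _ _).injective ((ai.homEquiv_unit ..).trans (((ai.unit.naturality _).symm.trans
        (S.lift_snd c1 c2 hc)).trans (ai.homEquiv_unit ..).symm))
    · exact (aj.homEquiv _ _).injective ((aj.homEquiv_unit ..).trans (((aj.unit.naturality _).symm.trans
        (S.lift_fst c1 c2 hc)).trans (aj.homEquiv_unit ..).symm))⟩
  have ess : (EtCore.recollTriple i j).EssSurj := ⟨fun T => by
    let η := ai.unit.app ((EtCoh.push j).obj T.right)
    let p1 := pullback.fst η ((EtCoh.push i).map T.hom)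
    let p2 := pullback.snd η ((EtCoh.push i).map T.hom)
    have hsq := fun {Ω : Type u} [Field Ω] [IsSepClosed Ω] (ξ : Spec (CommRingCat.of Ω) ⟶ X) =>
      (IsPullback.of_hasPullback η ((EtCoh.push i).map T.hom)).map (EtCoh.stalk ξ)
    have hi2 : IsIso ((EtCoh.pull i).map p2) := by
      refine (isIso_iff_stalks _).2 fun Ω _ _ z => ?_
      refine (NatIso.isIso_map_iff (sheafFiberPullIso (A := AddCommGrpCat.{u + 1}) i z) p2).2 ?_
      have h := isIso_stalk_unit_closed i ((EtCoh.push j).obj T.right) (z ≫ i)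
        ⟨_, (Scheme.Hom.comp_apply _ _ _).symm⟩
      exact @IsPullback.isIso_snd_of_isIso _ _ _ _ _ _ _ _ _ _ (hsq (z ≫ i)) h
    have hj1 : IsIso ((EtCoh.pull j).map p1) := by
      refine (isIso_iff_stalks _).2 fun Ω _ _ z => ?_
      refine (NatIso.isIso_map_iff (sheafFiberPullIso (A := AddCommGrpCat.{u + 1}) j z) p1).2 ?_
      have hne : (z ≫ j).base (default : Spec (CommRingCat.of Ω)) ∉ Set.range i.base :=
        hZU.le ⟨_, (Scheme.Hom.comp_apply _ _ _).symm⟩
      have h := (isZero_stalk_push_closed i T.left (z ≫ j) hne).isIso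
        (isZero_stalk_push_closed i ((EtCoh.pull i).obj ((EtCoh.push j).obj T.right)) (z ≫ j) hne)
        ((EtCoh.stalk (z ≫ j)).map ((EtCoh.push i).map T.hom))
      exact @IsPullback.isIso_fst_of_isIso _ _ _ _ _ _ _ _ _ _ (hsq (z ≫ j)) h
    haveI : IsIso (ai.counit.app T.left) :=
      counit_isIso (A := AddCommGrpCat.{u + 1}) i (liftable_of_isClosedImmersion i) T.left
    haveI : IsIso (aj.counit.app T.right) :=
      counit_isIso (A := AddCommGrpCat.{u + 1}) j (liftable_of_isOpenImmersion j) T.right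
    refine ⟨pullback η ((EtCoh.push i).map T.hom), ⟨Comma.isoMk
      ((@asIso _ _ _ _ ((EtCoh.pull i).map p2) hi2) ≪≫ asIso (ai.counit.app T.left))
      ((@asIso _ _ _ _ ((EtCoh.pull j).map p1) hj1) ≪≫ asIso (aj.counit.app T.right)) ?_⟩⟩
    have e1 : aj.unit.app (pullback η ((EtCoh.push i).map T.hom)) ≫
        (EtCoh.push j).map ((EtCoh.pull j).map p1 ≫ aj.counit.app T.right) = p1 :=
      (aj.homEquiv_unit ..).symm.trans ((congrArg (aj.homEquiv _ _) (aj.homEquiv_counit ..).symm).trans
        (Equiv.apply_symm_apply _ _))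
    have e2 : ((EtCoh.pull i).map p2 ≫ ai.counit.app T.left) ≫ T.hom = (EtCoh.pull i).map p1 :=
      (Category.assoc _ _ _).trans ((congrArg (_ ≫ ·) (ai.counit.naturality T.hom).symm).trans
        (((Category.assoc _ _ _).symm.trans (congrArg (· ≫ _) (((EtCoh.pull i).map_comp _ _).symm.trans
          ((congrArg (EtCoh.pull i).map pullback.condition.symm).trans ((EtCoh.pull i).map_comp _ _))))).trans
          ((Category.assoc _ _ _).trans ((congrArg (_ ≫ ·) (ai.left_triangle_components _)).trans
            (Category.comp_id _)))))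
    exact e2.trans ((congrArg (EtCoh.pull i).map e1).symm.trans ((EtCoh.pull i).map_comp _ _))⟩
  exact { }

/-- Let X be a scheme, i : Z ⟶ X a closed immersion and j : U ⟶ X an open immersion whose image is the
complement of the image of i. Then the functor from abelian sheaves on the small étale site of X to
the category of triples (G on Z, H on U, φ : G ⟶ i⁻¹ j_* H), sending F to (i⁻¹ F, j⁻¹ F, i⁻¹ of the
unit F ⟶ j_* j⁻¹ F), is an equivalence of categories. The category of triples is the comma category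
of the identity functor of Ab(Z) over j_* ⋙ i⁻¹. -/
theorem result {X Z U : Scheme.{u}}
    (i : Z ⟶ X) [IsClosedImmersion i] (j : U ⟶ X) [IsOpenImmersion j]
    (hZU : Set.range j.base = (Set.range i.base)ᶜ) :
    (EtCore.recollTriple i j).IsEquivalence := by
  exact isEquivalence i j hZU

end Groth.Agent.S14449
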