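import Groth.Statements.S16491
import Groth.Agent.Ref1X.Big

set_option autoImplicit false
universe u
open CategoryTheory CategoryTheory.Limits AlgebraicGeometry TopologicalSpace
open VBPn

namespace Groth.Agent.S16491

/-- Let X be an integral locally Noetherian scheme all of whose local rings are regular, and F a
coherent O_X-module which is reflexive (the canonical map F → F^** is an isomorphism) and of rank 1
(F restricts to an invertible module on some dense open subset of X). Then F is invertible: every
point has an open neighbourhood on which F is isomorphic to the structure sheaf. The published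
statement is for reflexive coherent analytic sheaves of rank 1 on a complex manifold; this row is
its statement on a regular integral locally Noetherian scheme, whose local rings are factorial as
the argument requires. -/
theorem result (X : Scheme.{u}) [IsIntegral X] [IsLocallyNoetherian X]
    (hreg : ∀ x : X, IsRegularLocalRing (X.presheaf.stalk x)) (F : X.Modules) (hF : Coh.IsCoh F)
    (hrefl : RefHull.IsReflexive F) (hrk : RefHull.GenInvertible F) :
    PicF.IsInvertible F := by
  refine Groth.Agent.InvX.isInvertible_of_frames fun x => ?_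
  haveI := hreg x
  obtain ⟨_, _⟩ := Groth.Agent.RegUFD.ufd (X.presheaf.stalk x)
  haveI := Groth.Agent.QCoh.finite_stalk_of_isFT hF.1 hF.2 x
  haveI : Module.IsReflexive (X.presheaf.stalk x) (F.presheaf.stalk x) :=
    (Groth.Agent.RefX.isReflexive_iff hF).1 hrefl x
  obtain ⟨g, hg⟩ := Groth.Agent.Ref1X.exists_gen_eta hrk
  have hinj := Groth.Agent.Ref1X.gsp_injective hF hrefl x
  obtain ⟨a, ha, m₀, hm₀⟩ := Groth.Agent.Ref1X.exists_smul_eq_gsp hF.1 x g
  have hne : m₀ ≠ 0 := fun h0 => by
    rw [h0, map_zero] at hm₀
    exact ha (Groth.Agent.Ref1X.spR_injective x ((hg.1 (hm₀.trans (zero_smul _ g).symm)).trans (map_zero _).symm))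
  obtain ⟨t, ht⟩ := Groth.Agent.Ref1X.exists_gen_of_ufd (R := X.presheaf.stalk x) hne fun m => by
    obtain ⟨c, hc⟩ := hg.2 (Groth.Agent.Ref1X.gsp F x m)
    obtain ⟨p, q, hq, hpq⟩ := IsFractionRing.div_surjective (A := X.presheaf.stalk x) (K := X.functionField) c
    refine ⟨a * q, p, mul_ne_zero ha (nonZeroDivisors.ne_zero hq), hinj ?_⟩
    dsimp only at hc
    rw [Groth.Agent.Ref1X.sp_smul, Groth.Agent.Ref1X.sp_smul, ← hm₀, ← hc, ← mul_smul, ← mul_smul]
    refine congrArg (· • g) ?_
    rw [map_mul, ← hpq]
    simp only [Groth.Agent.Ref1X.spR_eq_algebraMap]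
    have hq0 : algebraMap (X.presheaf.stalk x) X.functionField q ≠ 0 :=
      IsFractionRing.to_map_ne_zero_of_mem_nonZeroDivisors hq
    field_simp
  obtain ⟨U, hxU, e, he, -⟩ := Groth.Agent.Ref1X.exists_frame_of_gen hF (t := t) ht
  exact ⟨U, hxU, e, he⟩

end Groth.Agent.S16491
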