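import Groth.Statements.S3884
import Groth.Agent.EtLim8.PushSys
import Groth.Agent.EtAcycLib.Compose

set_option autoImplicit false
open CategoryTheory CategoryTheory.Limits AlgebraicGeometry Opposite
universe u
open EtLim

namespace Groth.Agent.S3884

/-- Let ι be a nonempty directed preordered set, (X_i) an inverse system of quasi-compact
quasi-separated schemes indexed by ι with affine transition morphisms, X a limit with projections
u_i : X -> X_i, and F an abelian sheaf on the small etale site of X. Then the canonical maps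
H^n(X_i, u_{i*} F) -> H^n(X, F) (pull back along u_i, then apply the counit u_i^{-1} u_{i*} F -> F)
identify H^n(X, F) with the directed colimit of the H^n(X_i, u_{i*} F), in the concrete sense: every
class on X comes from some stage, and a class at stage j mapping to zero on X already maps to zero
at some stage k ≥ j under the transition map. (Exactness of pullback of abelian sheaves, which
always holds, is carried as an instance hypothesis.) -/
theorem result {ι : Type u} [Preorder ι] [Nonempty ι] [IsDirected ι (· ≤ ·)] (Xs : ιᵒᵖ ⥤ Scheme.{u})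
    (haff : ∀ ⦃a b : ιᵒᵖ⦄ (h : a ⟶ b), IsAffineHom (Xs.map h))
    (hqc : ∀ a, CompactSpace ↥(Xs.obj a)) (hqs : ∀ a, QuasiSeparatedSpace ↥(Xs.obj a))
    (c : Cone Xs) (hc : IsLimit c) (F : EtCoh.Ab c.pt) (n : ℕ)
    [∀ a, PreservesFiniteLimits (EtCoh.pull (c.π.app a))]
    [∀ ⦃a b : ιᵒᵖ⦄ (h : a ⟶ b), PreservesFiniteLimits (EtCoh.pull (Xs.map h))] :
    (∀ ξ : EtCoh.H c.pt F n,
      ∃ (j : ι) (ξj : EtCoh.H (Xs.obj (op j)) ((EtCoh.push (c.π.app (op j))).obj F) n),
        EtLim.HofPush (c.π.app (op j)) F n ξj = ξ) ∧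
    (∀ (j : ι) (ξj : EtCoh.H (Xs.obj (op j)) ((EtCoh.push (c.π.app (op j))).obj F) n),
      EtLim.HofPush (c.π.app (op j)) F n ξj = 0 →
        ∃ (k : ι) (hk : j ≤ k),
          EtLim.HpushTrans (Xs.map (homOfLE hk).op) (c.π.app (op k)) (c.π.app (op j))
            (c.w (homOfLE hk).op) F n ξj = 0) := by
  haveI : ∀ {a b : ιᵒᵖ} (h : a ⟶ b), IsAffineHom (Xs.map h) := fun {a b} h => haff h
  let S := Groth.Agent.EtLim8.pushSys c F
  have hU := Groth.Agent.EtLim8.pushSys_isUnital c F
  let T := Groth.Agent.EtLim8.pushTarget c F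
  have he : ∀ ⦃i j : ι⦄ (h : i ≤ j), Groth.Agent.EtLim8.Compat (S.l h)
      ((EtCoh.pullPushAdj (Groth.Agent.EtLim8.pr c j)).homEquiv _ _
        (((EtCoh.pullPushAdj (Groth.Agent.EtLim8.pr c j)).homEquiv _ _).symm (T.g j)))
      ((EtCoh.pullPushAdj (Groth.Agent.EtLim8.pr c i)).homEquiv _ _
        (((EtCoh.pullPushAdj (Groth.Agent.EtLim8.pr c i)).homEquiv _ _).symm (T.g i))) := fun i j h => by
    rw [Equiv.apply_symm_apply, Equiv.apply_symm_apply]; exact T.comp h
  haveI := Groth.Agent.EtLim8.isIso_descColim_of_isColim S hU T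
    (Groth.Agent.EtLim8.pushTarget_isColim c F hc hqc hqs)
  let e := asIso (Groth.Agent.EtLim8.Sys.descColim S (c := c) hU
    (fun j => ((EtCoh.pullPushAdj (Groth.Agent.EtLim8.pr c j)).homEquiv _ _).symm (T.g j))
    he)
  have H := Groth.Agent.EtLim8.Sys.comm hc hqc hqs n S hU
  have key : ∀ (j : ι) (ξ : EtCoh.H (Xs.obj (op j)) ((EtCoh.push (c.π.app (op j))).obj F) n),
      (S.colimH c hU j n ξ).comp (Abelian.Ext.mk₀ e.hom) (add_zero n) = EtLim.HofPush (c.π.app (op j)) F n ξ := by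
    intro j ξ
    refine (Groth.Agent.EtLim8.Sys.colimH_descColim S hU _ he j n ξ).trans ?_
    refine congrArg (fun r => EtLim.HpullThen (c.π.app (op j)) _ r n ξ) ?_
    exact ((EtCoh.pullPushAdj (c.π.app (op j))).homEquiv_counit _ _ _).trans
      ((congrArg (· ≫ _) ((EtCoh.pull (c.π.app (op j))).map_id _)).trans (Category.id_comp _))
  refine ⟨fun ξ => ?_, fun j ξj hξ => ?_⟩
  · obtain ⟨j, ξj, hξj⟩ := H.surj (ξ.comp (Abelian.Ext.mk₀ e.inv) (add_zero n))
    refine ⟨j, ξj, (key j ξj).symm.trans ?_⟩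
    rw [hξj, Abelian.Ext.comp_assoc_of_third_deg_zero]
    refine (congrArg (fun r => Abelian.Ext.comp ξ r (add_zero n))
      ((Abelian.Ext.mk₀_comp_mk₀ e.inv e.hom).trans (congrArg _ e.inv_hom_id))).trans ?_
    exact Abelian.Ext.comp_mk₀_id ξ
  · have h0 : S.colimH c hU j n ξj = 0 := by
      refine (Groth.Agent.EtAcycLib.bijective_comp_mk₀ e).1 ?_
      exact (key j ξj).trans (hξ.trans (Abelian.Ext.zero_comp _ _ _ _ _).symm)
    obtain ⟨k, hk, hk0⟩ := H.inj j ξj h0
    refine ⟨k, hk, Eq.trans ?_ hk0⟩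
    let θ := ((EtCoh.pushCongr (c.w (homOfLE hk).op).symm).app F).hom ≫
      (EtCoh.pushComp (Xs.map (homOfLE hk).op) (c.π.app (op k))).inv.app F
    have hθ : θ = S.l hk := Groth.Agent.EtLim8.pushCongr_pushComp_inv _ _ _ _ F
    refine (Groth.Agent.EtLim8.HpullThen_mk₀ (Xs.map (homOfLE hk).op) θ _ n ξj).trans ?_
    refine congrArg (fun r => EtLim.HpullThen (Xs.map (homOfLE hk).op) _ r n ξj) ?_
    rw [← hθ]
    exact ((EtCoh.pullPushAdj (Xs.map (homOfLE hk).op)).homEquiv_counit _ _ _).symm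

end Groth.Agent.S3884
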