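import Groth.Statements.S0229
import Groth.Agent.CurveCd.FieldGm
-- import your own Groth.Agent.* helpers here

set_option autoImplicit false
universe u
open CategoryTheory CategoryTheory.Limits AlgebraicGeometry
open Curves

namespace Groth.Agent.S0229

/-- For a field K of transcendence degree one over an algebraically closed field, G_m on the small étale
site of Spec K has no cohomology in positive degrees. -/
theorem result (k : Type u) [Field k] [IsAlgClosed k] (K : Type u) [Field K] [Algebra k K]
    (hK : Algebra.trdeg k K = 1) (q : ℕ) (hq : 1 ≤ q) :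
    Subsingleton (EtCoh.H (Spec (CommRingCat.of K)) (EtCoh.Gm (Spec (CommRingCat.of K))) q) := by
  refine Groth.Agent.CurveCd.subsingleton_H_Gm_field K (fun E L _ _ _ _ _ _ _ _ _ _ => ?_) q hq
  refine Groth.Agent.GalCohMisc.norm_surjective_of_isCr (Groth.Agent.TsenLib.isCr_one_of_finite (K := K) ?_)
  exact Groth.Agent.TsenLib.isCr_one_of_isCi (Groth.Agent.TsenLib.tsen_lang (k := k) (by simpa using hK))

end Groth.Agent.S0229
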