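import Groth.Statements.S17018
import Groth.Agent.H23.GysinPb
import Mathlib.AlgebraicGeometry.FunctionField
-- import your own Groth.Agent.* helpers here

set_option autoImplicit false
universe u
open CategoryTheory CategoryTheory.Limits AlgebraicGeometry
open scoped TensorProduct
open Models

set_option backward.isDefEq.respectTransparency false

namespace Groth.Agent.S17018

/-- Let R be a discrete valuation ring with algebraically closed residue field and f : X → Spec R a
proper flat morphism whose generic fibre (base change to the fraction field of R) is smooth of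
relative dimension 1 and connected and whose special fibre (base change to the residue field) is
connected and reduced; let ξ be the generic point of an irreducible component of the special fibre
and B a discrete valuation ring given with an isomorphism from the local ring of X at ξ under which
R → B is the map induced by f. Then the maximal ideal of B is the extension of the maximal ideal of
R: a uniformizer of R maps to a uniformizer of B. (The published setting takes everything
essentially of finite type over a field of characteristic zero; the printed argument does not use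
this and it is not imposed here.) -/
theorem result
    (R : Type u) [CommRing R] [IsDomain R] [IsDiscreteValuationRing R]
    [IsAlgClosed (IsLocalRing.ResidueField R)]
    (X : Scheme.{u}) (f : X ⟶ Spec (CommRingCat.of R)) [IsProper f] [Flat f]
    (XK : Scheme.{u}) (gK : XK ⟶ X) (fK : XK ⟶ Spec (CommRingCat.of (FractionRing R)))
    (hK : IsPullback gK fK f (Spec.map (CommRingCat.ofHom (algebraMap R (FractionRing R)))))
    [SmoothOfRelativeDimension 1 fK] [ConnectedSpace XK]
    (Xs : Scheme.{u}) (gs : Xs ⟶ X) (fs : Xs ⟶ Spec (CommRingCat.of (IsLocalRing.ResidueField R)))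
    (hs : IsPullback gs fs f (Spec.map (CommRingCat.ofHom (IsLocalRing.residue R))))
    [ConnectedSpace Xs] [IsReduced Xs]
    (ξ : Xs) (hξ : closure ({ξ} : Set Xs) ∈ irreducibleComponents Xs)
    (B : Type u) [CommRing B] [IsDomain B] [IsDiscreteValuationRing B] [Algebra R B]
    (e : X.presheaf.stalk (gs.base ξ) ≅ CommRingCat.of B)
    (he : e.hom.hom.comp ((X.presheaf.germ ⊤ (gs.base ξ) trivial).hom.comp (Coh.toGlobal f)) =
      algebraMap R B) :
    IsLocalRing.maximalIdeal B = Ideal.map (algebraMap R B) (IsLocalRing.maximalIdeal R) := by
  let i : Spec (CommRingCat.of (IsLocalRing.ResidueField R)) ⟶ Spec (CommRingCat.of R) :=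
    Spec.map (CommRingCat.ofHom (IsLocalRing.residue R))
  haveI : IsClosedImmersion i := IsClosedImmersion.spec_of_surjective _ IsLocalRing.residue_surjective
  haveI : IsClosedImmersion gs := MorphismProperty.of_isPullback (P := @IsClosedImmersion) hs.flip inferInstance
  have hξK : IsField (Xs.presheaf.stalk ξ) := isField_stalk_of_closure_mem_irreducibleComponents Xs ξ hξ
  -- the kernel is the maximal ideal
  have h1 : IsLocalRing.maximalIdeal (X.presheaf.stalk (gs.base ξ)) = RingHom.ker (gs.stalkMap ξ).hom := by
    refine (IsLocalRing.eq_maximalIdeal ?_).symm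
    letI := hξK.toField
    exact RingHom.ker_isMaximal_of_surjective _ (gs.stalkMap_surjective ξ)
  let z : (pullback f i : Scheme.{u}) := hs.isoPullback.hom ξ
  have hz : pullback.fst f i z = gs.base ξ := by
    show (hs.isoPullback.hom ≫ pullback.fst f i) ξ = _
    rw [hs.isoPullback_hom_fst]
  -- transport to the canonical fibre product
  have h2 : RingHom.ker ((hs.isoPullback.hom ≫ pullback.fst f i).stalkMap ξ).hom =
      RingHom.ker ((pullback.fst f i).stalkMap z).hom := by
    rw [Scheme.Hom.stalkMap_comp, CommRingCat.hom_comp]
    exact RingHom.ker_comp_of_injective _ (ConcreteCategory.bijective_of_isIso _).1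
  let s := pullback.snd f i z
  have h3 : RingHom.ker (i.stalkMap s).hom = IsLocalRing.maximalIdeal ((Spec (CommRingCat.of R)).presheaf.stalk (i s)) := by
    refine le_antisymm (IsLocalRing.le_maximalIdeal (RingHom.ker_ne_top _)) fun a ha => ?_
    have hsf : IsField ((Spec (CommRingCat.of (IsLocalRing.ResidueField R))).presheaf.stalk s) :=
      isField_stalk_of_closure_mem_irreducibleComponents _ s (by
        haveI : Subsingleton ↥(Spec (CommRingCat.of (IsLocalRing.ResidueField R))) := inferInstanceAs (Subsingleton (PrimeSpectrum (IsLocalRing.ResidueField R)))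
        rw [show closure ({s} : Set _) = Set.univ from Set.eq_univ_of_forall fun t => subset_closure (Subsingleton.elim t s)]
        rw [irreducibleComponents_eq_singleton]
        rfl)
    letI := hsf.toField
    by_contra hne
    exact ha (IsUnit.of_map (i.stalkMap s).hom a (IsUnit.mk0 _ hne))
  -- transport along the equality of points
  have key : ∀ (x : X) (hx : x = gs.base ξ) (T : Ideal (X.presheaf.stalk x)), T = (IsLocalRing.maximalIdeal R).map
      ((X.presheaf.germ ⊤ x trivial).hom.comp (Coh.toGlobal f)) → T = IsLocalRing.maximalIdeal _ →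
      IsLocalRing.maximalIdeal (X.presheaf.stalk (gs.base ξ)) = (IsLocalRing.maximalIdeal R).map
        ((X.presheaf.germ ⊤ (gs.base ξ) trivial).hom.comp (Coh.toGlobal f)) := by
    rintro _ rfl T hT hT'
    exact hT'.symm.trans hT
  have h4 : (IsLocalRing.maximalIdeal ((Spec (CommRingCat.of R)).presheaf.stalk (i s))).map
      (Groth.Agent.H23.GysinPb.baseMap f i z).hom = (IsLocalRing.maximalIdeal R).map
        ((X.presheaf.germ ⊤ (pullback.fst f i z) trivial).hom.comp (Coh.toGlobal f)) := by
    have his : i s = IsLocalRing.closedPoint R := by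
      apply PrimeSpectrum.ext
      show Ideal.comap (IsLocalRing.residue R) s.asIdeal = IsLocalRing.maximalIdeal R
      rw [show s.asIdeal = ⊥ from (Ideal.eq_bot_of_prime s.asIdeal), ← RingHom.ker_eq_comap_bot, IsLocalRing.ker_residue]
    letI : Algebra R ((Spec (CommRingCat.of R)).presheaf.stalk (i s)) := StructureSheaf.stalkAlgebra R (i s)
    haveI : IsLocalization.AtPrime ((Spec (CommRingCat.of R)).presheaf.stalk (i s)) (i s).asIdeal :=
      StructureSheaf.IsLocalization.to_stalk (CommRingCat.of R) (i s)
    have halg : (algebraMap R ((Spec (CommRingCat.of R)).presheaf.stalk (i s))) =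
        ((Scheme.ΓSpecIso (CommRingCat.of R)).inv ≫ (Spec (CommRingCat.of R)).presheaf.germ ⊤ (i s) trivial).hom := rfl
    rw [← IsLocalization.AtPrime.map_eq_maximalIdeal (i s).asIdeal, Ideal.map_map,
      show (i s).asIdeal = IsLocalRing.maximalIdeal R from by rw [his]; rfl]
    congr 1
    rw [halg]
    show (((Scheme.ΓSpecIso (CommRingCat.of R)).inv ≫ (Spec (CommRingCat.of R)).presheaf.germ ⊤ (i s) trivial) ≫
      (Spec (CommRingCat.of R)).presheaf.stalkSpecializes _ ≫ f.stalkMap (pullback.fst f i z)).hom = _
    rw [Category.assoc, TopCat.Presheaf.germ_stalkSpecializes_assoc, Scheme.Hom.germ_stalkMap]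
    rfl
  have h5 : IsLocalRing.maximalIdeal (X.presheaf.stalk (gs.base ξ)) = (IsLocalRing.maximalIdeal R).map
      ((X.presheaf.germ ⊤ (gs.base ξ) trivial).hom.comp (Coh.toGlobal f)) := by
    refine key _ hz (RingHom.ker ((pullback.fst f i).stalkMap z).hom) ?_ ?_
    · rw [Groth.Agent.H23.GysinPb.ker_stalkMap_fst, h3, h4]
    · rw [← h2]
      refine IsLocalRing.eq_maximalIdeal ?_
      letI := hξK.toField
      exact RingHom.ker_isMaximal_of_surjective _ ((hs.isoPullback.hom ≫ pullback.fst f i).stalkMap_surjective ξ)
  let E : X.presheaf.stalk (gs.base ξ) ≃+* B := e.commRingCatIsoToRingEquiv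
  have h6 : IsLocalRing.maximalIdeal B = (IsLocalRing.maximalIdeal (X.presheaf.stalk (gs.base ξ))).map E.toRingHom := by
    refine (IsLocalRing.eq_maximalIdeal ?_).symm
    exact Ideal.map_isMaximal_of_equiv E
  rw [h6, h5, Ideal.map_map, ← he]
  rfl


end Groth.Agent.S17018
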