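import Groth.Statements.S11332
import Groth.Agent.CurveBC.Etale
import Groth.Agent.CurveBC.Main
import Groth.Agent.CurveCohLib.Clifford
import Groth.Agent.DimFormula.DedekindFlat
import Groth.Agent.S1535
import Groth.Agent.Synt29.OmegaBase
import Groth.Agent.Synt29.StalkFormal
import Groth.Agent.SchTop.Closed
import Groth.Agent.CurveHurwitz.Seq
import Groth.Agent.CurveHurwitz.Degree
import Groth.Agent.CurveCohLib.RegularCurve
import Groth.Agent.Lib.CurveDualPrep

set_option linter.style.haveILetI false
set_option backward.isDefEq.respectTransparency false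
set_option backward.isDefEq.respectTransparency.types false
set_option autoImplicit false
universe u
open CategoryTheory CategoryTheory.Limits AlgebraicGeometry
open Curves

namespace Groth.Agent.S11332

/-- Let f : X → Y be a finite morphism over k of curves over an algebraically closed field k (integral,
proper over k, of dimension one, all local rings regular), sending the generic point of X to that of
Y, such that the function field extension K(X)/K(Y) is separable; let n = [K(X) : K(Y)] be its
degree. Then 2 g(X) - 2 = n (2 g(Y) - 2) + deg R, where g denotes the genus dim_k H^1(O) and the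
degree of the ramification divisor R = Σ_P length(Ω_{X/Y,P}) · P is written as dim_k H^0(X,
Ω_{X/Y}), Ω_{X/Y} being the (torsion) sheaf of relative differentials of f. -/
theorem result (k : Type u) [Field k] [IsAlgClosed k] (X : Scheme.{u}) [X.Over (Spec (CommRingCat.of k))]
    [IsIntegral X] [IsProper (X ↘ (Spec (CommRingCat.of k)))] (hdimX : topologicalKrullDim X = 1)
    (hregX : ∀ x : X, IsRegularLocalRing (X.presheaf.stalk x))
    (Y : Scheme.{u}) [Y.Over (Spec (CommRingCat.of k))]
    [IsIntegral Y] [IsProper (Y ↘ (Spec (CommRingCat.of k)))] (hdimY : topologicalKrullDim Y = 1)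
    (hregY : ∀ x : Y, IsRegularLocalRing (Y.presheaf.stalk x))
    (f : X ⟶ Y) [IsFinite f] (hf : f ≫ (Y ↘ (Spec (CommRingCat.of k))) = X ↘ (Spec (CommRingCat.of k)))
    (e : f (genericPoint X) = genericPoint Y) :
    letI := ((Y.presheaf.stalkSpecializes (specializes_of_eq e) ≫ f.stalkMap (genericPoint X)).hom).toAlgebra
    Algebra.IsSeparable Y.functionField X.functionField →
      2 * (Curv2.genus k X : ℤ) - 2 =
        (f.residueDegree (genericPoint X) : ℤ) * (2 * (Curv2.genus k Y : ℤ) - 2) +
          (Module.finrank k (Coh.HH X (Omega.sheaf f) 0) : ℤ) := by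
  intro hsep
  haveI : Smooth (X ↘ Spec (CommRingCat.of k)) :=
    Groth.Agent.CurveCohLib.RegularCurve.smooth_of_regular k fun x _ => hregX x
  haveI : Smooth (Y ↘ Spec (CommRingCat.of k)) :=
    Groth.Agent.CurveCohLib.RegularCurve.smooth_of_regular k fun x _ => hregY x
  letI := ((Y.presheaf.stalkSpecializes (specializes_of_eq e) ≫ f.stalkMap (genericPoint X)).hom).toAlgebra
  haveI := Groth.Agent.CurveCohLib.isNoetherian_of_proper (k := k) (X := X)
  haveI := Groth.Agent.CurveCohLib.isNoetherian_of_proper (k := k) (X := Y)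
  haveI : Flat f := Groth.Agent.DimFormula.flat_of_regular_dim_le_one
    (fun y => ⟨Groth.Agent.S1535.result k Y y, (Groth.Agent.SchTop.ringKrullDim_stalk_le y).trans hdimY.le⟩) f
    (fun η hη => by
      rw [← hη _ (genericPoint_specializes η)]
      exact e)
  haveI : LocallyOfFinitePresentation f := inferInstance
  have hX0 := Groth.Agent.CurveCohLib.Clifford.finrank_h0_structure k (X := X)
  have hY0 := Groth.Agent.CurveCohLib.Clifford.finrank_h0_structure k (X := Y)
  let pY := Y ↘ Spec (CommRingCat.of k)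
  let pX := f ≫ pY
  obtain ⟨c, hc, -⟩ := Groth.Agent.S9370.result pY pX f (𝟙 _)
    (by rw [Category.comp_id]) _ _ (Groth.Agent.OmegaUniv.isUniversal_dOmega _) _ _
    (Groth.Agent.OmegaUniv.isUniversal_dOmega _)
  let x := genericPoint X
  let σ := Y.presheaf.stalkCongr (.of_eq e)
  have het : (f.stalkMap x).hom.FormallyUnramified ∧ (f.stalkMap x).hom.FormallySmooth := by
    haveI : Algebra.FormallyEtale Y.functionField X.functionField :=
      Algebra.FormallyEtale.of_isSeparable _ _
    have hb : Function.Bijective σ.hom := ConcreteCategory.bijective_of_isIso _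
    have h2 : σ.hom ≫ (Y.presheaf.stalkSpecializes (specializes_of_eq e) ≫ f.stalkMap x) = f.stalkMap x :=
      Iso.hom_inv_id_assoc σ _
    have hu : ((Y.presheaf.stalkSpecializes (specializes_of_eq e) ≫ f.stalkMap x).hom).FormallyUnramified :=
      (inferInstance : Algebra.FormallyUnramified Y.functionField X.functionField)
    have hs : ((Y.presheaf.stalkSpecializes (specializes_of_eq e) ≫ f.stalkMap x).hom).FormallySmooth :=
      (inferInstance : Algebra.FormallySmooth Y.functionField X.functionField)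
    rw [← h2]
    exact ⟨RingHom.FormallyUnramified.comp (RingHom.FormallyUnramified.of_surjective hb.2) hu,
      RingHom.FormallySmooth.comp (RingHom.FormallySmooth.of_bijective hb) hs⟩
  obtain ⟨i₁, i₂, hi⟩ := Groth.Agent.Synt29.OmegaStalk.exists_stalk_square
    (Groth.Agent.OmegaUniv.isUniversal_dOmega pY) (Groth.Agent.OmegaUniv.isUniversal_dOmega pX) c hc x
    (pY.stalkMap (f x)) rfl (pY.stalkMap (f x) ≫ f.stalkMap x) (Scheme.Hom.stalkMap_comp f pY x).symm
  have hγ := hi _ (Groth.Agent.Synt29.OmegaStalk.baseMap_unit (pY.stalkMap (f x)) (f.stalkMap x))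
  have hiso : IsIso ((DerSch.stalkFunctor X x).map c) := by
    rw [ConcreteCategory.isIso_iff_bijective]
    exact ⟨(Groth.Agent.Synt29.OmegaStalk.stalk_iff i₁ i₂ hγ).1.2
      (Groth.Agent.Synt29.OmegaStalk.baseMap_injective _ _ het.2),
      (Groth.Agent.Synt29.OmegaStalk.stalk_iff i₁ i₂ hγ).2.2
      ((Groth.Agent.Synt29.OmegaStalk.baseMap_surjective_iff _ _).2 het.1)⟩
  have hΩY := Groth.Agent.CurveBC.isInvertible_omega k Y hdimY hY0
  have hΩX := Groth.Agent.CurveBC.isInvertible_omega k X hdimX hX0
  have hP := Groth.Agent.PicClLib.isInvertible_pullback f hΩY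
  have hc0 : c ≠ 0 := fun h0 => by
    rw [h0, Functor.map_zero] at hiso
    haveI := hiso
    have hz : IsZero ((DerSch.stalkFunctor X x).obj ((Scheme.Modules.pullback f).obj (Omega.sheaf pY))) := by
      rw [IsZero.iff_id_eq_zero, ← cancel_mono (0 : (DerSch.stalkFunctor X x).obj _ ⟶ (DerSch.stalkFunctor X x).obj (Omega.sheaf pX))]
      simp
    haveI : Subsingleton (((Scheme.Modules.pullback f).obj (Omega.sheaf pY)).presheaf.stalk x) := ModuleCat.subsingleton_of_isZero hz
    letI := (Groth.Agent.CurveBundle.isField_stalk_generic (X := X)).toField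
    have h1 := Groth.Agent.CurveBundle.rk_eq (Groth.Agent.InvEnd.isFinLocFreeOfRank_one hP)
    unfold Groth.Agent.CurveBundle.rk at h1
    rw [Module.finrank_zero_of_subsingleton] at h1
    omega
  have hΩX0 : PicF.IsInvertible (Omega.sheaf (f ≫ pY)) := (congrArg (fun t : X ⟶ _ => PicF.IsInvertible (Omega.sheaf t)) hf).mpr hΩX
  haveI : Mono c := Groth.Agent.InvEnd.mono_of_ne_zero hP hΩX0 c hc0
  obtain ⟨π, w, hπ, hex⟩ := Groth.Agent.CurveHurwitz.exists_sequence f pY _ (OmegaSh.dOmega pY)
    (Groth.Agent.OmegaUniv.isUniversal_dOmega pY) _ (OmegaSh.dOmega (f ≫ pY))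
    (Groth.Agent.OmegaUniv.isUniversal_dOmega (f ≫ pY)) _ (OmegaSh.dOmega f)
    (Groth.Agent.OmegaUniv.isUniversal_dOmega f) c hc
  haveI := hπ
  have hS : (ShortComplex.mk c π w).ShortExact := { exact := hex }
  let T := cokernel c
  let eT : T ≅ Omega.sheaf f := (cokernelIsCokernel c).coconePointUniqueUpToIso hex.gIsCokernel
  have hPc := Groth.Agent.CurveDeg.isCoh_of_isInvertible hP
  have hΩc := Groth.Agent.CurveDeg.isCoh_of_isInvertible hΩX0
  have hTc : Coh.IsCoh T := QCoh.isCoh_cokernel hPc.1 hΩc c
  have hrk : Groth.Agent.CurveBundle.rk T = 0 := by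
    have : Groth.Agent.CurveBundle.rk (Omega.sheaf (f ≫ pY)) =
        Groth.Agent.CurveBundle.rk ((Scheme.Modules.pullback f).obj (Omega.sheaf pY)) +
          Groth.Agent.CurveBundle.rk T :=
      Groth.Agent.CurveSlope.rk_add_coh k _ _ _ (Groth.Agent.CurveSlope.shortExact_cokernel_of_mono c) hΩc
    rw [Groth.Agent.CurveBundle.rk_eq (Groth.Agent.InvEnd.isFinLocFreeOfRank_one hP),
      Groth.Agent.CurveBundle.rk_eq (Groth.Agent.InvEnd.isFinLocFreeOfRank_one hΩX0)] at this
    omega
  have hadd : Curv2.euler k X (Omega.sheaf (f ≫ pY)) =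
      Curv2.euler k X ((Scheme.Modules.pullback f).obj (Omega.sheaf pY)) + Curv2.euler k X T :=
    Groth.Agent.CurveBundle.euler_add' k _ _ _ (Groth.Agent.CurveSlope.shortExact_cokernel_of_mono c) hPc hΩc hTc
  have hχ := Groth.Agent.CurveRR.euler_eq_h0_sub_h1 k hdimX.le hTc.1
  haveI := Groth.Agent.CurveDuality.subsingleton_HH_of_rk_zero k hdimX hTc hrk 0
  rw [Module.finrank_zero_of_subsingleton (R := k) (M := Coh.HH X T 1),
    (Groth.Agent.CurveCohLib.hhEquiv (k := k) eT 0).finrank_eq] at hχ
  have hd1 := Groth.Agent.CurveBC.deg_pullback k f hdimY hf hΩY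
  rw [(Groth.Agent.CurveBC.canonical_invariants k Y hdimY hY0).2] at hd1
  have hd2 : Curv2.deg k X (Omega.sheaf (f ≫ pY)) 1 = 2 * (Curv2.genus k X : ℤ) - 2 :=
    (congrArg (fun t : X ⟶ _ => Curv2.deg k X (Omega.sheaf t) 1) hf).trans
      (Groth.Agent.CurveBC.canonical_invariants k X hdimX hX0).2
  rw [Groth.Agent.CurveHurwitz.residueDegree_genericPoint f e (Groth.Agent.CurveBC.isFinLocFreeOfRank_push f)]
  unfold Curv2.deg at hd1 hd2
  push_cast at hd1 hd2 hχ
  linarith

end Groth.Agent.S11332
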