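import Groth.Statements.S13633
import Groth.Agent.Deform.QuotDescent
import Groth.Agent.GrpSchLib.FrobKernel
import Groth.Agent.GrpSchLib.HomFinite
import Groth.Agent.GrpSchLib.KernelGrp
import Groth.Agent.GrpSchLib.Cartier
import Groth.Agent.GrpSchLib.SmoothReduced
import Groth.Agent.GrpSchLib.Shear
import Groth.Agent.GrpSchLib.Coincidence

set_option autoImplicit false
universe u
open CategoryTheory CategoryTheory.Limits MonoidalCategory CartesianMonoidalCategory MonObj AlgebraicGeometry
open GrpSch

namespace Groth.Agent.S13633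
open Topology

attribute [local instance] CategoryTheory.Hom.monoid CategoryTheory.Hom.group
set_option linter.style.haveILetI false

theorem flat_over_field {k : Type u} [Field k] {W : Scheme.{u}} (g : W ⟶ Spec (CommRingCat.of k)) : Flat g := by
  have : Subsingleton ↥(Spec (CommRingCat.of k)) := inferInstanceAs (Subsingleton (PrimeSpectrum k))
  infer_instance

/-- Every nonempty locally closed subset contains the image of a geometric point. -/
theorem exists_pt {k : Type u} [Field k] {K : Type u} [Field K] [Algebra k K] [IsAlgClosed K]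
    (X : Over (Spec (CommRingCat.of k))) [LocallyOfFiniteType X.hom] (Z : Set X.left) (hZ : Z.Nonempty)
    (hZ' : IsLocallyClosed Z) :
    ∃ p : Over.mk (Spec.map (CommRingCat.ofHom (algebraMap k K))) ⟶ X, p.left (IsLocalRing.closedPoint K) ∈ Z := by
  let σ : Spec (CommRingCat.of K) ⟶ Spec (CommRingCat.of k) := Spec.map (CommRingCat.ofHom (algebraMap k K))
  haveI : Surjective σ :=
    ⟨Function.surjective_to_subsingleton (α := Spec (CommRingCat.of K)) (β := Spec (CommRingCat.of k)) _⟩
  let q := pullback.snd X.hom σ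
  haveI : JacobsonSpace (pullback X.hom σ : Scheme.{u}) := LocallyOfFiniteType.jacobsonSpace q
  obtain ⟨z, hz⟩ := hZ
  obtain ⟨w, hw⟩ := (pullback.fst X.hom σ).surjective z
  obtain ⟨c, hc, hcl⟩ := nonempty_inter_closedPoints (Z := (pullback.fst X.hom σ) ⁻¹' Z)
    ⟨w, by show _ ∈ Z; rw [hw]; exact hz⟩ (hZ'.preimage (pullback.fst X.hom σ).continuous)
  let s := (pointEquivClosedPoint q).symm ⟨c, hcl⟩
  have hs : s.1 (IsLocalRing.closedPoint K) = c :=
    congrArg Subtype.val ((pointEquivClosedPoint q).apply_symm_apply ⟨c, hcl⟩)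
  refine ⟨Over.homMk (s.1 ≫ pullback.fst X.hom σ) ?_, ?_⟩
  · show (s.1 ≫ pullback.fst X.hom σ) ≫ X.hom = σ
    rw [Category.assoc, pullback.condition, ← Category.assoc, s.2]
    exact Category.id_comp σ
  · show pullback.fst X.hom σ (s.1 (IsLocalRing.closedPoint K)) ∈ Z
    rw [hs]
    exact hc

theorem isFinite_of_subsingleton {k : Type u} [Field k] (X : Over (Spec (CommRingCat.of k))) [IsAffine X.left]
    [LocallyOfFiniteType X.hom] [Subsingleton X.left] : IsFinite X.hom := by
  haveI : LocallyQuasiFinite X.hom := .of_injective (Function.injective_of_subsingleton _)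
  exact IsFinite.of_locallyQuasiFinite X.hom

theorem commMonObj_of_mono {S : Scheme.{u}} {N G : Over S} [GrpObj N] [GrpObj G] [IsCommMonObj G] (i : N ⟶ G)
    [IsMonHom i] [Mono i] : IsCommMonObj N :=
  ⟨by rw [← cancel_mono i, Category.assoc, IsMonHom.mul_hom, ← Category.assoc, ← BraidedCategory.braiding_naturality,
    Category.assoc, IsCommMonObj.mul_comm]⟩

open GrpSchLib GrpSchLib.Adjoint GrpSchLib.LineGroups GrpSchLib.Kunneth in
/-- A closed immersion of groups which is surjective on geometric points and through which all finite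
subgroups of the target factor is an isomorphism. -/
theorem isIso_of_nbhds {k : Type u} [Field k] (K : Type u) [Field K] [Algebra k K] [IsAlgClosed K] (p : ℕ)
    [ExpChar k p] (hp : 1 < p) {G H : Over (Spec (CommRingCat.of k))} [GrpObj G] [GrpObj H] [IsCommMonObj H]
    [LocallyOfFiniteType G.hom] [LocallyOfFiniteType H.hom] (ψ : G ⟶ H) [IsMonHom ψ] [IsClosedImmersion ψ.left]
    (hpts : Function.Surjective fun x : Over.mk (Spec.map (CommRingCat.ofHom (algebraMap k K))) ⟶ G => x ≫ ψ)
    (hfin : ∀ (I : Over (Spec (CommRingCat.of k))) [GrpObj I] [IsCommMonObj I] [IsFinite I.hom] (h : I ⟶ H)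
      [IsMonHom h], ∃ f : I ⟶ G, f ≫ ψ = h) : IsIso ψ.left := by
  classical
  obtain ⟨D⟩ := exists_nbhds H η[H]
  have hN : ∀ n, ∃ g : D.N n ⟶ G, g ≫ ψ = D.j n ≫ D.uι := fun n => by
    obtain ⟨Km, hK, κ, hκ, _, _, _, _, -, -, hfac⟩ := FrobKernel.exists_kernel p (n + 1) H D
    haveI := hκ
    haveI : IsCommMonObj Km := commMonObj_of_mono κ
    haveI : IsFinite Km.hom := isFinite_of_subsingleton Km
    obtain ⟨g, hg⟩ := hfac n (Nat.lt_pow_self hp).le
    obtain ⟨f, hf⟩ := hfin Km κ
    exact ⟨g ≫ f, by rw [Category.assoc, hf, hg]⟩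
  -- the homomorphism has a section over a neighbourhood of the unit
  let π := pullback.snd ψ.left D.uι.left
  haveI : IsIso π := by
    refine IsClosedImmersion.isIso_of_injective_of_isAffine ?_
    refine (injective_iff_map_eq_zero π.appTop.hom).2 fun w hw => D.dense w fun n => ?_
    obtain ⟨g, hg⟩ := hN n
    have e : (D.j n).left = pullback.lift g.left (D.j n).left (congrArg CommaMorphism.left hg) ≫ π :=
      (pullback.lift_snd _ _ _).symm
    rw [ev_apply, e, Scheme.Hom.comp_appTop, CommRingCat.comp_apply]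
    exact (congrArg _ hw).trans (map_zero _)
  let s : D.U ⟶ G := Over.homMk (inv π ≫ pullback.fst ψ.left D.uι.left) (by
    rw [← Over.w ψ, Category.assoc, pullback.condition_assoc]
    erw [IsIso.inv_hom_id_assoc]
    exact Over.w D.uι)
  have hs : s ≫ ψ = D.uι := Over.OverMorphism.ext (by
    show (inv π ≫ pullback.fst ψ.left D.uι.left) ≫ ψ.left = D.uι.left
    rw [Category.assoc, pullback.condition]
    exact IsIso.inv_hom_id_assoc _ _)
  let t : G ⊗ D.U ⟶ G := fst G D.U * (snd G D.U ≫ s)
  let θ : G ⊗ D.U ⟶ H := (G ◁ D.uι) ≫ ψ ▷ H ≫ μ[H]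
  have hθ : t ≫ ψ = θ := by
    simp [t, θ, MonObj.mul_comp, MonObj.mul_eq_mul, MonObj.comp_mul, hs]
  haveI : Flat G.hom := flat_over_field _
  haveI : Flat (ψ ▷ H ≫ μ[H]).left := flat_whiskerRight_mul ψ
  haveI : IsOpenImmersion (G ◁ D.uι).left :=
    MorphismProperty.of_isPullback (isPullback_whiskerLeft (W := G) D.uι).flip D.openι
  haveI : Flat θ.left := by
    rw [show θ.left = (G ◁ D.uι).left ≫ (ψ ▷ H ≫ μ[H]).left from rfl]
    infer_instance
  haveI : LocallyOfFiniteType (G ⊗ D.U).hom := by
    haveI : LocallyOfFiniteType D.U.hom := by rw [← Over.w D.uι]; infer_instance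
    exact inferInstanceAs (LocallyOfFiniteType (pullback.fst G.hom D.U.hom ≫ G.hom))
  haveI : IsLocallyNoetherian H.left := LocallyOfFiniteType.isLocallyNoetherian H.hom
  haveI : LocallyOfFiniteType θ.left := by
    haveI : LocallyOfFiniteType (θ.left ≫ H.hom) := by rw [Over.w]; infer_instance
    exact locallyOfFiniteType_of_comp θ.left H.hom
  haveI : Surjective θ.left := ⟨fun x => by
    by_contra h
    obtain ⟨y, hy⟩ := exists_pt (K := K) H ((Set.range θ.left)ᶜ : Set H.left) ⟨x, h⟩
      θ.left.isOpenMap.isOpen_range.isClosed_compl.isLocallyClosed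
    obtain ⟨g, rfl⟩ := hpts y
    refine hy ⟨(lift g (toUnit _ ≫ D.u₀)).left (IsLocalRing.closedPoint K), ?_⟩
    have e : lift g (toUnit _ ≫ D.u₀) ≫ θ = g ≫ ψ := by
      simp [θ, MonObj.mul_eq_mul, MonObj.comp_mul, D.u₀_fac, MonObj.one_eq_one, MonObj.comp_one]
    rw [← Scheme.Hom.comp_apply, ← Over.comp_left, e]⟩
  haveI : Mono ψ.left := inferInstance
  haveI : Mono ψ := (Over.forget _).mono_of_mono_map (inferInstanceAs (Mono ψ.left))
  obtain ⟨r, hr⟩ := Deform.QuotDescent.exists_descOver θ t fun T x y h => by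
    rw [← cancel_mono ψ, Category.assoc, Category.assoc, hθ, h]
  haveI := Deform.QuotDescent.epi_of_fppf θ
  have hrψ : r ≫ ψ = 𝟙 H := by rw [← cancel_epi θ, ← Category.assoc, hr, hθ, Category.comp_id]
  haveI : IsIso ψ := ⟨r, by rw [← cancel_mono ψ, Category.assoc, hrψ, Category.comp_id, Category.id_comp], hrψ⟩
  exact inferInstanceAs (IsIso ((Over.forget _).map ψ))
/-- Let k be a field, K an algebraic closure of k, and ψ : G → H a homomorphism of commutative affine
group schemes of finite type over k. Assume that for every finite commutative group scheme I over k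
the map Hom(I, G) → Hom(I, H), f ↦ f ≫ ψ, on group-scheme homomorphisms is bijective, and that ψ
induces a bijection G(K) → H(K) on K-valued points. Then ψ is an isomorphism. (All group schemes are
commutative by the standing convention.) -/
theorem result
    {k : Type u} [Field k] (K : Type u) [Field K] [Algebra k K] [IsAlgClosure k K]
    (G H : Over (Spec (CommRingCat.of k)))
    [GrpObj G] [IsCommMonObj G] [GrpObj H] [IsCommMonObj H]
    [IsAffine G.left] [IsAffine H.left] [LocallyOfFiniteType G.hom] [LocallyOfFiniteType H.hom]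
    (ψ : G ⟶ H) [IsMonHom ψ]
    (hinj : ∀ (I : Over (Spec (CommRingCat.of k))) [GrpObj I] [IsCommMonObj I] [IsFinite I.hom]
      (f g : I ⟶ G) [IsMonHom f] [IsMonHom g], f ≫ ψ = g ≫ ψ → f = g)
    (hsurj : ∀ (I : Over (Spec (CommRingCat.of k))) [GrpObj I] [IsCommMonObj I] [IsFinite I.hom]
      (h : I ⟶ H) [IsMonHom h], ∃ f : I ⟶ G, IsMonHom f ∧ f ≫ ψ = h)
    (hpts : Function.Bijective fun x : Over.mk (Spec.map (CommRingCat.ofHom (algebraMap k K))) ⟶ G => x ≫ ψ) :
    IsIso ψ := by
  classical
  haveI : IsAlgClosed K := IsAlgClosure.isAlgClosed k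
  haveI : Flat (Spec.map (CommRingCat.ofHom (algebraMap k K))) := flat_over_field _
  haveI : Surjective (Spec.map (CommRingCat.ofHom (algebraMap k K))) :=
    ⟨Function.surjective_to_subsingleton (α := Spec (CommRingCat.of K)) (β := Spec (CommRingCat.of k)) _⟩
  let P : Over (Spec (CommRingCat.of k)) := Over.mk (Spec.map (CommRingCat.ofHom (algebraMap k K)))
  let cp : P.left := IsLocalRing.closedPoint K
  haveI : IsAffineHom ψ.left := inferInstance
  haveI : QuasiCompact ψ.left := inferInstance
  -- the kernel is trivial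
  obtain ⟨N, hN, i, hi, hci, -, hker⟩ := GrpSchLib.exists_kernel ψ
  haveI := hi
  haveI : Mono i := ⟨fun a b h => hker.hom_ext h (toUnit_unique _ _)⟩
  haveI : IsCommMonObj N := commMonObj_of_mono i
  haveI : IsAffine N.left := isAffine_of_isAffineHom i.left
  haveI : LocallyOfFiniteType N.hom := by rw [← Over.w i]; infer_instance
  haveI : Subsingleton (𝟙_ (Over (Spec (CommRingCat.of k)))).left := inferInstanceAs (Subsingleton (PrimeSpectrum k))
  let e₀ : N.left := η[N].left (IsLocalRing.closedPoint k)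
  have he₀ : ∀ p : P ⟶ N, p.left cp = e₀ := fun p => by
    have h1 : p ≫ i = (1 : P ⟶ N) ≫ i := by
      refine hpts.1 ?_
      show (p ≫ i) ≫ ψ = ((1 : P ⟶ N) ≫ i) ≫ ψ
      rw [MonObj.one_comp, MonObj.one_comp, Category.assoc, hker.w, MonObj.one_eq_one, ← Category.assoc, comp_toUnit]
      simp [MonObj.one_eq_one, MonObj.comp_one]
    rw [(cancel_mono i).1 h1]
    show (toUnit P ≫ η[N]).left cp = e₀
    rw [Over.comp_left, Scheme.Hom.comp_apply]
    exact congrArg η[N].left (Subsingleton.elim _ _)
  haveI : Subsingleton N.left := by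
    haveI : IsClosedImmersion (η[N].left ≫ N.hom) := by rw [Over.w η[N]]; exact inferInstanceAs (IsClosedImmersion (𝟙 _))
    haveI : IsClosedImmersion η[N].left := IsClosedImmersion.of_comp η[N].left N.hom
    have hcl : IsClosed ({e₀} : Set N.left) := by
      convert η[N].left.isClosedEmbedding.isClosed_range using 1
      ext x
      exact ⟨fun h => ⟨_, h.symm⟩, fun ⟨s, hs⟩ => hs ▸ congrArg η[N].left (Subsingleton.elim _ _)⟩
    refine ⟨fun a b => ?_⟩
    suffices h : ∀ x : N.left, x = e₀ from (h a).trans (h b).symm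
    by_contra h
    push Not at h
    obtain ⟨p, hp⟩ := exists_pt (K := K) N ({e₀}ᶜ : Set N.left) h hcl.isOpen_compl.isLocallyClosed
    exact hp (he₀ p)
  haveI : IsFinite N.hom := isFinite_of_subsingleton N
  have hi1 : i = 1 := hinj N i 1 (by rw [MonObj.one_comp, hker.w]; simp [MonObj.one_eq_one])
  haveI : Mono ψ := ⟨fun {T} a b h => by
    have h1 : (a * b⁻¹) ≫ ψ = 1 := by rw [MonObj.mul_comp, GrpObj.inv_comp, h, mul_inv_cancel]
    have h2 := hker.lift_fst (a * b⁻¹) (toUnit T) (h1.trans (MonObj.one_eq_one (M := H) ▸ by simp [MonObj.one_eq_one, MonObj.comp_one]))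
    exact mul_inv_eq_one.1 (h2.symm.trans ((congrArg (_ ≫ ·) hi1).trans (MonObj.comp_one _)))⟩
  haveI : Mono ψ.left := inferInstanceAs (Mono ((Over.forget _).map ψ))
  haveI : LocallyOfFiniteType ψ.left := by
    haveI : LocallyOfFiniteType (ψ.left ≫ H.hom) := by rw [Over.w]; infer_instance
    exact locallyOfFiniteType_of_comp ψ.left H.hom
  haveI : LocallyQuasiFinite ψ.left := inferInstance
  haveI : IsClosedImmersion ψ.left :=
    (IsClosedImmersion.iff_isFinite_and_mono _).2 ⟨GrpSchLib.HomFinite.isFinite ψ, inferInstance⟩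
  haveI : Surjective ψ.left := ⟨fun x => by
    by_contra h
    obtain ⟨p, hp⟩ := exists_pt (K := K) H ((Set.range ψ.left)ᶜ : Set H.left) ⟨x, h⟩
      ψ.left.isClosedEmbedding.isClosed_range.isOpen_compl.isLocallyClosed
    obtain ⟨g, rfl⟩ := hpts.2 p
    exact hp ⟨g.left cp, (Scheme.Hom.comp_apply g.left ψ.left cp).symm⟩⟩
  haveI : IsIso ψ.left := by
    obtain ⟨p, hp⟩ := ExpChar.exists k
    cases hp with
    | zero =>
      haveI := GrpSchLib.smooth_of_charZero H
      haveI : IsReduced H.left := GrpSchLib.isReduced_of_smooth_field H.hom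
      exact isIso_of_isClosedImmersion_of_surjective _
    | prime hp =>
      haveI : Fact p.Prime := ⟨hp⟩
      refine isIso_of_nbhds K p hp.one_lt ψ hpts.2 fun I _ _ _ h _ => ?_
      obtain ⟨f, -, hf⟩ := hsurj I h
      exact ⟨f, hf⟩
  haveI : IsIso ((Over.forget _).map ψ) := ‹IsIso ψ.left›
  exact isIso_of_reflects_iso ψ (Over.forget _)

end Groth.Agent.S13633
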