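import Groth.Statements.S14751
import Groth.Agent.GrpSchLib.AntiAffineHom
import Groth.Agent.H23.RigidGamma
import Groth.Agent.H23.GeomConn
import Mathlib.AlgebraicGeometry.Morphisms.Proper


set_option autoImplicit false
universe u
open CategoryTheory CategoryTheory.Limits MonoidalCategory CartesianMonoidalCategory MonObj GrpObj AlgebraicGeometry
open AlgGrp

namespace Groth.Agent.S14751
set_option linter.style.haveILetI false

open CategoryTheory CategoryTheory.Limits MonoidalCategory CartesianMonoidalCategory MonObj GrpObj AlgebraicGeometry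

attribute [local instance] CategoryTheory.Hom.monoid CategoryTheory.Hom.group

/-- An abelian variety has only constant functions. -/
theorem bijective_appTop_proper {k : Type u} [Field k] (A : Over (Spec (CommRingCat.of k))) [GrpObj A] [Smooth A.hom]
    [ConnectedSpace ↥A.left] [IsProper A.hom] : Function.Bijective A.hom.appTop := by
  haveI : GeometricallyReduced A.hom := H23.RigidGamma.geometricallyReduced_of_smooth A.hom
  haveI : GeometricallyConnected A.hom := H23.GeomConn.of_point k A.hom η[A].left (Over.w η[A])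
  haveI : ConnectedSpace ↥(pullback A.hom (Spec.map (CommRingCat.ofHom (algebraMap k (AlgebraicClosure k))))) :=
    GeometricallyConnected.geometrically_connectedSpace (f := A.hom) _ _ _ (.of_hasPullback _ _)
  haveI : IsReduced (pullback A.hom (Spec.map (CommRingCat.ofHom (algebraMap k (AlgebraicClosure k))))) :=
    GeometricallyReduced.geometrically_isReduced (f := A.hom) _ _ _ (.of_hasPullback _ _)
  exact H23.RigidGamma.bijective_appTop_of_algClosure A.hom


/-- Over an algebraically closed field k let G be a group variety (smooth connected k-group scheme of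
finite type), i : N → G an affine closed subgroup scheme which is the kernel of a flat surjective
homomorphism π : G → Q, and j : A → G an abelian subvariety (a smooth connected proper closed
subgroup scheme) with A · N = G, that is, the multiplication A × N → G is surjective. Then the
multiplication A × N → G is a homomorphism and an isogeny (surjective with finite kernel), and so is
the composite A → G → Q. (In the published statement N is the largest connected affine normal
subgroup variety and Q = G/N the Albanese quotient; only the listed properties are used.) -/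
theorem result (k : Type u) [Field k] [IsAlgClosed k]
    (G N A Q : Over (Spec (CommRingCat.of k))) [GrpObj G] [GrpObj N] [GrpObj A] [GrpObj Q]
    [Smooth G.hom] [QuasiCompact G.hom] [ConnectedSpace ↥G.left]
    (i : N ⟶ G) [IsMonHom i] [IsClosedImmersion i.left] [IsAffine N.left]
    (π : G ⟶ Q) [IsMonHom π] [Flat π.left] [Surjective π.left] (hker : AlgGrp.IsKernel i π)
    (j : A ⟶ G) [IsMonHom j] [IsClosedImmersion j.left] [Smooth A.hom] [ConnectedSpace ↥A.left] [IsProper A.hom]
    (hsurj : Surjective ((j ⊗ₘ i) ≫ μ[G]).left) :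
    IsMonHom ((j ⊗ₘ i) ≫ μ[G]) ∧ SGA7.IsIsogenyOver ((j ⊗ₘ i) ≫ μ[G]) ∧ SGA7.IsIsogenyOver (j ≫ π) := by
  haveI := GrpSchLib.AntiAffine.isSeparated_grp G
  have hA := bijective_appTop_proper A
  have hjone : η[A] ≫ j = 1 := by rw [IsMonHom.one_hom, MonObj.one_eq_one]
  have hcomm : ∀ {T : Over (Spec (CommRingCat.of k))} (a : T ⟶ A) (b : T ⟶ G), (a ≫ j) * b = b * (a ≫ j) :=
    fun a b => GrpSchLib.AntiAffine.commute hA j hjone a b
  let m : A ⊗ N ⟶ G := (j ⊗ₘ i) ≫ μ[G]
  have hm : ∀ {T : Over (Spec (CommRingCat.of k))} (z : T ⟶ A ⊗ N),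
      z ≫ m = (z ≫ fst A N ≫ j) * (z ≫ snd A N ≫ i) := fun z => by
    show z ≫ (j ⊗ₘ i) ≫ μ[G] = _
    rw [Hom.mul_def, ← Category.assoc]
    congr 1
    apply CartesianMonoidalCategory.hom_ext <;> simp
  haveI hmh : IsMonHom m := by
    have hwm : ∀ {T : Over (Spec (CommRingCat.of k))} (a b : T ⟶ A ⊗ N), (a * b) ≫ m = (a ≫ m) * (b ≫ m) := by
      intro T a b
      have h1 : ∀ (c : T ⟶ A ⊗ N), c ≫ fst A N ≫ j = (c ≫ fst A N) ≫ j := fun c => (Category.assoc _ _ _).symm
      haveI : IsMonHom (fst A N) := inferInstance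
      haveI : IsMonHom (snd A N) := inferInstance
      rw [hm, hm, hm, MonObj.mul_comp, MonObj.mul_comp]
      have h2 := hcomm (b ≫ fst A N) (a ≫ snd A N ≫ i)
      simp only [Category.assoc] at h2
      calc (a ≫ fst A N ≫ j) * (b ≫ fst A N ≫ j) * ((a ≫ snd A N ≫ i) * (b ≫ snd A N ≫ i))
          = (a ≫ fst A N ≫ j) * ((b ≫ fst A N ≫ j) * (a ≫ snd A N ≫ i)) * (b ≫ snd A N ≫ i) := by group
        _ = (a ≫ fst A N ≫ j) * ((a ≫ snd A N ≫ i) * (b ≫ fst A N ≫ j)) * (b ≫ snd A N ≫ i) := by rw [h2]
        _ = _ := by group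
    constructor
    · have h1 := hwm (1 : 𝟙_ _ ⟶ A ⊗ N) 1
      rw [_root_.one_mul, left_eq_mul] at h1
      rwa [Hom.one_def, Hom.one_def, toUnit_unique (toUnit _) (𝟙 _), Category.id_comp, Category.id_comp] at h1
    · have h1 := hwm (fst (A ⊗ N) (A ⊗ N)) (snd _ _)
      rw [Hom.mul_def, Hom.mul_def, lift_fst_snd, Category.id_comp] at h1
      rw [h1, ← lift_map, lift_fst_snd, Category.id_comp]
  have hker' : IsPullback i (toUnit N) π η[Q] := hker
  -- the kernel of `j ≫ π` is finite
  have hfin : ∀ (P : Over (Spec (CommRingCat.of k))) (ι₀ : P ⟶ A), AlgGrp.IsKernel ι₀ (j ≫ π) → IsFinite P.hom := by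
    intro P ι₀ hP
    have hP' : IsPullback ι₀ (toUnit P) (j ≫ π) η[Q] := hP
    haveI := GrpSchLib.AntiAffine.isSeparated_grp Q
    haveI : IsClosedImmersion η[Q].left := by
      haveI : IsClosedImmersion (η[Q].left ≫ Q.hom) := by
        rw [Over.w η[Q]]; exact inferInstanceAs (IsClosedImmersion (𝟙 _))
      exact IsClosedImmersion.of_comp η[Q].left Q.hom
    haveI : IsClosedImmersion ι₀.left :=
      MorphismProperty.of_isPullback (P := @IsClosedImmersion) (hP'.map (Over.forget _)).flip
        (inferInstanceAs (IsClosedImmersion η[Q].left))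
    haveI : IsProper P.hom := by rw [← Over.w ι₀]; infer_instance
    let l : P ⟶ N := hker'.lift (ι₀ ≫ j) (toUnit P) (by rw [Category.assoc]; exact hP'.w)
    have hl : l ≫ i = ι₀ ≫ j := hker'.lift_fst _ _ _
    haveI : IsClosedImmersion (l.left ≫ i.left) := by
      rw [← Over.comp_left, hl, Over.comp_left]; infer_instance
    haveI : IsClosedImmersion l.left := IsClosedImmersion.of_comp l.left i.left
    haveI : IsAffine P.left := isAffine_of_isAffineHom l.left
    rw [IsFinite.iff_isProper_and_isAffineHom]
    exact ⟨inferInstance, isAffineHom_of_isAffine _⟩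
  refine ⟨hmh, ⟨hsurj, fun P ι₀ hP => ?_⟩, ⟨?_, hfin⟩⟩
  · have hP' : IsPullback ι₀ (toUnit P) m η[G] := hP
    -- the kernel is that of `j ≫ π`
    have hz : ∀ {T : Over (Spec (CommRingCat.of k))} (z : T ⟶ A ⊗ N), z ≫ m = 1 →
        z ≫ snd A N ≫ i = (z ≫ fst A N ≫ j)⁻¹ := fun z h => by
      rw [hm] at h
      exact eq_inv_of_mul_eq_one_right h
    have hker1 : (ι₀ ≫ fst A N) ≫ j ≫ π = 1 := by
      have h := hz ι₀ hP'.w
      have h2 : (ι₀ ≫ snd A N ≫ i) ≫ π = 1 := by
        simp only [Category.assoc]
        rw [hker'.w, ← Category.assoc, ← Category.assoc, toUnit_unique ((ι₀ ≫ snd A N) ≫ toUnit N) (toUnit P),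
          ← Hom.one_def]
      rw [h, GrpObj.inv_comp, inv_eq_one] at h2
      simpa only [Category.assoc] using h2
    let P₂ : Over (Spec (CommRingCat.of k)) := Over.mk (pullback.fst (j ≫ π).left η[Q].left ≫ A.hom)
    let ι₂ : P₂ ⟶ A := Over.homMk (pullback.fst (j ≫ π).left η[Q].left) rfl
    have hP₂ : AlgGrp.IsKernel ι₂ (j ≫ π) := by
      have hN : P₂.hom = pullback.snd (j ≫ π).left η[Q].left := by
        show pullback.fst _ _ ≫ A.hom = _
        rw [← Over.w (j ≫ π), pullback.condition_assoc, Over.w η[Q]]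
        exact Category.comp_id _
      refine IsPullback.of_map (Over.forget _) (Over.OverMorphism.ext ?_) ?_
      · show pullback.fst _ _ ≫ (j ≫ π).left = (toUnit P₂).left ≫ η[Q].left
        rw [show (toUnit P₂).left = P₂.hom from rfl, hN, pullback.condition]
      · refine (IsPullback.of_hasPullback (j ≫ π).left η[Q].left).of_iso (Iso.refl _) (Iso.refl _) (Iso.refl _)
          (Iso.refl _) ?_ ?_ ?_ ?_
        · exact (Category.comp_id _).trans (Category.id_comp _).symm
        · refine (Category.comp_id _).trans ?_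
          show _ = 𝟙 _ ≫ (toUnit P₂).left
          rw [Category.id_comp]
          exact hN.symm
        · exact (Category.comp_id _).trans (Category.id_comp _).symm
        · exact (Category.comp_id _).trans (Category.id_comp _).symm
    have hP₂' : IsPullback ι₂ (toUnit P₂) (j ≫ π) η[Q] := hP₂
    let a : P ⟶ P₂ := hP₂'.lift (ι₀ ≫ fst A N) (toUnit P) (hker1.trans Hom.one_def)
    let n : P₂ ⟶ N := hker'.lift (ι₂ ≫ j)⁻¹ (toUnit P₂) (by
      rw [GrpObj.inv_comp, Category.assoc, hP₂'.w, ← Hom.one_def, inv_one])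
    let b : P₂ ⟶ P := hP'.lift (lift ι₂ n) (toUnit P₂) (by
      rw [hm, lift_fst_assoc, lift_snd_assoc, hker'.lift_fst, mul_inv_cancel]
      exact Hom.one_def)
    haveI : Mono i := (Over.forget _).mono_of_mono_map (inferInstanceAs (Mono i.left))
    have hab : a ≫ b = 𝟙 P := by
      refine hP'.hom_ext ?_ (toUnit_unique _ _)
      rw [Category.assoc, hP'.lift_fst, Category.id_comp]
      refine CartesianMonoidalCategory.hom_ext _ _ ?_ ?_
      · rw [Category.assoc, lift_fst, hP₂'.lift_fst]
      · rw [Category.assoc, lift_snd, ← cancel_mono i, Category.assoc, Category.assoc, hker'.lift_fst,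
          GrpObj.comp_inv, ← Category.assoc, hP₂'.lift_fst, hz ι₀ hP'.w, Category.assoc]
    have hba : b ≫ a = 𝟙 P₂ := by
      refine hP₂'.hom_ext ?_ (toUnit_unique _ _)
      rw [Category.assoc, hP₂'.lift_fst, Category.id_comp, ← Category.assoc, hP'.lift_fst, lift_fst]
    haveI : IsIso a.left := ((Over.forget _).mapIso ⟨a, b, hab, hba⟩).isIso_hom
    haveI := hfin P₂ ι₂ hP₂
    rw [← Over.w a]
    infer_instance
  · haveI := hsurj
    haveI : Surjective (m ≫ π).left := by rw [Over.comp_left]; infer_instance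
    have hmp : m ≫ π = fst A N ≫ j ≫ π := by
      have h := congrArg (· ≫ π) (hm (𝟙 (A ⊗ N)))
      simp only [Category.id_comp, MonObj.mul_comp, Category.assoc] at h
      rw [h, hker'.w, ← Category.assoc (snd A N), toUnit_unique (snd A N ≫ toUnit N) (toUnit (A ⊗ N)), ← Hom.one_def,
        _root_.mul_one]
    haveI : Surjective ((fst A N).left ≫ (j ≫ π).left) := by rw [← Over.comp_left, ← hmp]; infer_instance
    exact Surjective.of_comp (fst A N).left (j ≫ π).left

end Groth.Agent.S14751
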