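import Groth.Statements.S16611
import Groth.Agent.MultTypeFlat.Basic
import Groth.Agent.Deform.MultHopf
import Groth.Agent.Deform.Transporter
import Groth.Agent.S1386
import Mathlib.AlgebraicGeometry.Morphisms.FlatMono


set_option autoImplicit false
set_option linter.style.haveILetI false
open CategoryTheory MonoidalCategory CartesianMonoidalCategory MonObj GrpObj AlgebraicGeometry
universe u
open SGA3x

namespace Groth.Agent.S16611

open Limits in
/-- A surjective endomorphism of a Noetherian ring is injective. -/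
theorem injective_endo {A : Type u} [CommRing A] [IsNoetherianRing A] (φ : A →+* A) (h : Function.Surjective φ) :
    Function.Injective φ := by
  let K : ℕ →o Ideal A :=
    { toFun := fun n => RingHom.ker (φ ^ n)
      monotone' := monotone_nat_of_le_succ fun n x hx => by
        rw [RingHom.mem_ker] at hx ⊢
        rw [pow_succ', RingHom.mul_def, RingHom.comp_apply, hx, map_zero] }
  obtain ⟨N, hN⟩ := monotone_stabilizes_iff_noetherian.mpr ‹IsNoetherianRing A› K
  have hsurj : Function.Surjective (φ ^ N) := by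
    rw [RingHom.coe_pow]
    exact h.iterate N
  rw [injective_iff_map_eq_zero]
  intro x hx
  obtain ⟨y, rfl⟩ := hsurj x
  have h1 : y ∈ K (N + 1) := by
    change y ∈ RingHom.ker (φ ^ (N + 1))
    rw [RingHom.mem_ker, pow_succ', RingHom.mul_def, RingHom.comp_apply, hx]
  rw [← hN (N + 1) (Nat.le_succ N)] at h1
  exact h1

/-- A closed immersion between isomorphic Noetherian affine schemes is an isomorphism. -/
theorem isIso_of_isClosedImmersion {X Y : Scheme.{u}} [IsAffine Y] [IsLocallyNoetherian Y] (e : X ≅ Y) (g : X ⟶ Y)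
    [IsClosedImmersion g] : IsIso g := by
  haveI : IsNoetherianRing Γ(Y, ⊤) := IsLocallyNoetherian.component_noetherian ⟨⊤, isAffineOpen_top Y⟩
  have hs : Function.Surjective (e.inv ≫ g).appTop.hom :=
    ((HasAffineProperty.iff_of_isAffine (P := @IsClosedImmersion)).mp
      (inferInstance : IsClosedImmersion (e.inv ≫ g))).2
  haveI : IsIso (e.inv ≫ g).appTop :=
    (ConcreteCategory.isIso_iff_bijective _).mpr ⟨injective_endo _ hs, hs⟩
  haveI : IsIso (e.inv ≫ g) :=
    ((MorphismProperty.isomorphisms Scheme.{u}).arrow_mk_iso_iff (arrowIsoSpecΓOfIsAffine (e.inv ≫ g))).mpr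
      (inferInstance : IsIso (Spec.map (e.inv ≫ g).appTop))
  exact IsIso.of_isIso_comp_left e.inv g

open Limits in
theorem isIso_fiberMap {S X Y : Scheme.{u}} (f : X ⟶ Y) (g : Y ⟶ S) (s : S) {Z : Scheme.{u}}
    (p : Z ⟶ Spec (S.residueField s)) [Flat p] [Surjective p] [QuasiCompact p]
    (h : IsIso (pullback.snd f (pullback.fst g (p ≫ S.fromSpecResidueField s)))) :
    IsIso (MoreMor.fiberMap f g s) := by
  have H1 : IsPullback ((f ≫ g).fiberι s) (MoreMor.fiberMap f g s) f (g.fiberι s) := by
    refine IsPullback.of_bot (h₂₁ := g.fiberι s) (v₂₁ := g.fiberToSpecResidueField s) (v₂₂ := g) (h₃₁ := S.fromSpecResidueField s) ?_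
      (pullback.lift_fst _ _ _).symm (IsPullback.of_hasPullback g (S.fromSpecResidueField s))
    have e : MoreMor.fiberMap f g s ≫ g.fiberToSpecResidueField s = (f ≫ g).fiberToSpecResidueField s :=
      pullback.lift_snd _ _ _
    rw [e]
    exact IsPullback.of_hasPullback (f ≫ g) (S.fromSpecResidueField s)
  set q : pullback g (p ≫ S.fromSpecResidueField s) ⟶ g.fiber s :=
    pullback.map g (p ≫ S.fromSpecResidueField s) g (S.fromSpecResidueField s) (𝟙 _) p (𝟙 _)
      (by simp) (by simp) with hq
  have e1 : q ≫ g.fiberι s = pullback.fst g (p ≫ S.fromSpecResidueField s) :=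
    (pullback.lift_fst _ _ _).trans (Category.comp_id _)
  have e2 : q ≫ g.fiberToSpecResidueField s = pullback.snd g (p ≫ S.fromSpecResidueField s) ≫ p :=
    pullback.lift_snd _ _ _
  have H0 : IsPullback (q ≫ g.fiberι s) (pullback.snd g (p ≫ S.fromSpecResidueField s)) g
      (p ≫ S.fromSpecResidueField s) := by
    rw [e1]
    exact IsPullback.of_hasPullback _ _
  have H2 : IsPullback q (pullback.snd g (p ≫ S.fromSpecResidueField s)) (g.fiberToSpecResidueField s) p :=
    IsPullback.of_right H0 e2 (IsPullback.of_hasPullback g (S.fromSpecResidueField s))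
  have hQ : (@Surjective ⊓ @Flat ⊓ @QuasiCompact : MorphismProperty Scheme.{u}) q :=
    ⟨⟨MorphismProperty.of_isPullback (P := @Surjective) H2.flip ‹_›,
      MorphismProperty.of_isPullback (P := @Flat) H2.flip ‹_›⟩,
      MorphismProperty.of_isPullback (P := @QuasiCompact) H2.flip ‹_›⟩
  have H3 := (IsPullback.of_hasPullback (MoreMor.fiberMap f g s) q).paste_horiz H1
  rw [e1] at H3
  refine MorphismProperty.of_pullback_snd_of_descendsAlong (P := MorphismProperty.isomorphisms Scheme.{u})
    (Q := @Surjective ⊓ @Flat ⊓ @QuasiCompact) hQ ?_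
  show IsIso _
  rw [← H3.isoPullback_hom_snd]
  infer_instance

theorem isMultTypeFT {S : Scheme.{u}} {T : Over S} [GrpObj T] (hT : Red.IsTorus T) : SGA3x.IsMultTypeFT T := by
  obtain ⟨S', f, hflat, hsurj, hcov, hloc⟩ := hT
  exact ⟨S', f, hflat, hsurj, hcov, fun s' =>
    let ⟨U, hU, r, h⟩ := hloc s'
    ⟨U, hU, Fin r → ℤ, inferInstance, Module.Finite.iff_addGroup_fg.mp inferInstance, h⟩⟩

open Limits in
theorem isIso_geom {S : Scheme.{u}} {T T' : Over S} [GrpObj T] [GrpObj T'] (f : T ⟶ T') [IsClosedImmersion f.left]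
    (hrk : ∀ s : ↥S, ∃ r : ℕ, Red.IsSplitTorusWith (Fin r → ℤ) (Red.geomFibre s T) ∧
      Red.IsSplitTorusWith (Fin r → ℤ) (Red.geomFibre s T')) (s : S) :
    IsIso (pullback.snd f.left (pullback.fst T'.hom (Red.geomPt s))) := by
  obtain ⟨r, ⟨e⟩, ⟨e'⟩⟩ := hrk s
  set K := AlgebraicClosure (S.residueField s)
  have H : IsPullback (pullback.fst T.hom (Red.geomPt s)) ((Over.pullback (Red.geomPt s)).map f).left f.left
      (pullback.fst T'.hom (Red.geomPt s)) := by
    refine IsPullback.of_bot (h₂₁ := pullback.fst T'.hom (Red.geomPt s)) (v₂₁ := pullback.snd T'.hom (Red.geomPt s)) (v₂₂ := T'.hom) (h₃₁ := Red.geomPt s) ?_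
      (pullback.lift_fst _ _ _).symm (IsPullback.of_hasPullback _ _)
    have h1 : ((Over.pullback (Red.geomPt s)).map f).left ≫ pullback.snd T'.hom (Red.geomPt s) =
        pullback.snd T.hom (Red.geomPt s) := pullback.lift_snd _ _ _
    rw [h1, Over.w f]
    exact IsPullback.of_hasPullback _ _
  haveI : IsClosedImmersion ((Over.pullback (Red.geomPt s)).map f).left :=
    MorphismProperty.of_isPullback (P := @IsClosedImmersion) H ‹_›
  have E : ∀ {A B : Grp (Over (Spec (CommRingCat.of K)))}, (A ≅ B) → (A.X.left ≅ B.X.left) := fun i =>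
    ((Grp.forget _ ⋙ Over.forget _).mapIso i)
  haveI : AddGroup.FG (Fin r → ℤ) := Module.Finite.iff_addGroup_fg.mp inferInstance
  haveI : IsLocallyNoetherian (Red.DS (Spec (CommRingCat.of K)) (Fin r → ℤ)).left :=
    haveI := MultTypeFlat.lfp_DS (Spec (CommRingCat.of K)) (Fin r → ℤ)
    LocallyOfFiniteType.isLocallyNoetherian (Red.DS (Spec (CommRingCat.of K)) (Fin r → ℤ)).hom
  haveI : IsAffine (Red.DS (Spec (CommRingCat.of K)) (Fin r → ℤ)).left := by
    haveI : IsAffine (Red.diag (ULift.{u} ℤ) (Fin r → ℤ)).left :=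
      inferInstanceAs (IsAffine (Spec (CommRingCat.of (MonoidAlgebra (ULift.{u} ℤ) (Multiplicative (Fin r → ℤ))))))
    haveI : IsAffineHom (Red.DS (Spec (CommRingCat.of K)) (Fin r → ℤ)).hom :=
      MorphismProperty.pullback_snd (P := @IsAffineHom) _ _ (isAffineHom_of_isAffine _)
    exact isAffine_of_isAffineHom (Red.DS (Spec (CommRingCat.of K)) (Fin r → ℤ)).hom
  haveI h2 := isIso_of_isClosedImmersion (E e) (((Over.pullback (Red.geomPt s)).map f).left ≫ (E e').hom)
  haveI : IsIso ((Over.pullback (Red.geomPt s)).map f).left :=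
    IsIso.of_isIso_comp_right _ (E e').hom
  rw [← H.isoPullback_inv_snd]
  infer_instance

/-- Over an arbitrary scheme S, a monomorphism f : T ⟶ T' of S-tori with the same rank function (at
every point of S the geometric fibres of T and T' are split tori of the same rank) is an
isomorphism. -/
theorem result {S : Scheme.{u}} {T T' : Over S} [GrpObj T] [GrpObj T']
    (hT : Red.IsTorus T) (hT' : Red.IsTorus T') (f : T ⟶ T') [IsMonHom f] [Mono f]
    (hrk : ∀ s : ↥S, ∃ r : ℕ, Red.IsSplitTorusWith (Fin r → ℤ) (Red.geomFibre s T) ∧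
      Red.IsSplitTorusWith (Fin r → ℤ) (Red.geomFibre s T')) : IsIso f := by
  have hH := isMultTypeFT hT
  haveI : IsAffineHom T'.hom := Deform.isAffineHom (Deform.isMultType_of_ft (isMultTypeFT hT'))
  haveI : IsClosedImmersion f.left :=
    Deform.isClosedImmersion_of_mono (Deform.isMultType_of_ft hH) f
  haveI := MultTypeFlat.flat hH
  haveI := MultTypeFlat.lfp hH
  haveI := MultTypeFlat.lfp (isMultTypeFT hT')
  haveI : Flat (f.left ≫ T'.hom) := by rw [Over.w f]; infer_instance
  haveI : LocallyOfFinitePresentation (f.left ≫ T'.hom) := by rw [Over.w f]; infer_instance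
  have hfib : ∀ s : S, IsIso (MoreMor.fiberMap f.left T'.hom s) := fun s => by
    refine isIso_fiberMap f.left T'.hom s
      (Spec.map (CommRingCat.ofHom (algebraMap (S.residueField s) (AlgebraicClosure (S.residueField s)))))
      ?_
    exact isIso_geom f hrk s
  haveI : Flat f.left := (Flat.iff_flat_stalkMap f.left).mpr fun x => by
    haveI := hfib (T'.hom (f.left x))
    exact (((S1386.result f.left T'.hom).1 x).mp
      ⟨Flat.stalkMap (f.left ≫ T'.hom) x, Flat.stalkMap _ _⟩).2
  haveI : Surjective f.left := ⟨fun y => by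
    haveI := hfib (T'.hom y)
    obtain ⟨z, hz⟩ := (MoreMor.fiberMap f.left T'.hom (T'.hom y)).surjective (T'.hom.asFiber y)
    refine ⟨(f.left ≫ T'.hom).fiberι (T'.hom y) z, ?_⟩
    have e : MoreMor.fiberMap f.left T'.hom (T'.hom y) ≫ T'.hom.fiberι (T'.hom y) =
        (f.left ≫ T'.hom).fiberι (T'.hom y) ≫ f.left := Limits.pullback.lift_fst _ _ _
    rw [← Scheme.Hom.comp_apply, ← e, Scheme.Hom.comp_apply, hz, Scheme.Hom.fiberι_asFiber]⟩
  haveI : LocallyOfFinitePresentation f.left := AlgSpPts.locallyOfFinitePresentation_of_comp f.left T'.hom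
  haveI := IsOpenImmersion.of_flat_of_mono f.left
  haveI : IsIso f.left := by
    haveI := (TopCat.epi_iff_surjective _).mpr (Scheme.Hom.surjective f.left)
    exact (isIso_iff_isOpenImmersion_and_epi_base f.left).mpr ⟨inferInstance, inferInstance⟩
  haveI : IsIso ((Over.forget S).map f) := ‹IsIso f.left›
  exact isIso_of_reflects_iso f (Over.forget S)

end Groth.Agent.S16611
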