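import Groth.Statements.S8395
import Groth.Agent.GrpSchLib.PowEtale

set_option autoImplicit false
universe u
open CategoryTheory MonoidalCategory CartesianMonoidalCategory MonObj GrpObj AlgebraicGeometry
open SGA3x

namespace Groth.Agent.S8395
open MonoidalCategory CartesianMonoidalCategory MonObj
set_option linter.style.haveILetI false

attribute [local instance] CategoryTheory.Hom.monoid CategoryTheory.Hom.group


/-- Let k be a field, G a k-group scheme locally of finite type, n an integer invertible in k, and u : G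
→ G the n-th power morphism. Then u is etale at every point of G lying in the centre of G; here
stated at a k-rational point g of G which is central (commutes with all points of G): u is etale on
some open neighbourhood of g. (The published statement is for any point of the centre; its proof
reduces to rational points by extending the base field.) -/
theorem result (k : Type u) [Field k]
    (G : Over (Spec (CommRingCat.of k))) [GrpObj G] [LocallyOfFiniteType G.hom] (n : ℕ) (hn : (n : k) ≠ 0)
    (g : 𝟙_ (Over (Spec (CommRingCat.of k))) ⟶ G)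
    (hg : ∀ (X : Over (Spec (CommRingCat.of k))) (x : X ⟶ G), (toUnit X ≫ g) * x = x * (toUnit X ≫ g)) :
    ∃ U : G.left.Opens, Set.range g.left.base ⊆ (U : Set ↥G.left) ∧
      Etale (U.ι ≫ ((𝟙 G : G ⟶ G) ^ n).left) := by
  obtain ⟨U₀, he, hU₀⟩ := Groth.Agent.GrpSchLib.PowEtale.loc_etale (X := G) n hn
  let u : G ⟶ G := (𝟙 G) ^ n
  let a : G ⟶ G := toUnit G ≫ g
  have hinv : ∀ b : G ⟶ G, ∀ c : 𝟙_ (Over (Spec (CommRingCat.of k))) ⟶ G, b ≫ toUnit G ≫ c = toUnit G ≫ c :=
    fun b c => by rw [← Category.assoc, toUnit_unique (b ≫ toUnit G) (toUnit G)]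
  let L : (𝟙_ (Over (Spec (CommRingCat.of k))) ⟶ G) → (G ⟶ G) := fun c => (toUnit G ≫ c) * 𝟙 G
  have hL : ∀ c d, L c ≫ L d = L (d * c) := fun c d => by
    simp only [L, MonObj.comp_mul, hinv, Category.comp_id, _root_.mul_assoc]
  have hL1 : L 1 = 𝟙 G := by simp [L, MonObj.comp_one]
  haveI : ∀ c, IsIso (L c) := fun c => ⟨L c⁻¹, by rw [hL, inv_mul_cancel, hL1], by rw [hL, mul_inv_cancel, hL1]⟩
  haveI hI : ∀ c, IsIso (L c).left := fun c => inferInstanceAs (IsIso ((Over.forget _).map (L c)))
  have hcomm : L g ≫ u = u ≫ L (g ^ n) := by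
    have h : Commute a (𝟙 G) := hg G (𝟙 G)
    calc L g ≫ u = (L g) ^ n := by rw [MonObj.comp_pow, Category.comp_id]
      _ = a ^ n * u := h.mul_pow n
      _ = _ := by
        simp only [L, MonObj.comp_mul, hinv, Category.comp_id, MonObj.comp_pow, u, a]
  haveI := hI g⁻¹
  haveI := hI (g ^ n)
  refine ⟨(L g⁻¹).left ⁻¹ᵁ U₀, ?_, ?_⟩
  · rintro _ ⟨p, rfl⟩
    show (L g⁻¹).left.base (g.left.base p) ∈ U₀
    have e : g ≫ L g⁻¹ = η[G] := by
      simp only [L, MonObj.comp_mul, Category.comp_id, ← Category.assoc,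
        toUnit_unique (g ≫ toUnit G) (𝟙 _), Category.id_comp, inv_mul_cancel]
      rw [Hom.one_def, toUnit_unique (toUnit (𝟙_ _)) (𝟙 _), Category.id_comp]
    rw [← Scheme.Hom.comp_apply, ← Over.comp_left, e]
    convert he using 2
    exact Subsingleton.elim (α := PrimeSpectrum k) _ _
  · have e : (𝟙 G ^ n : G ⟶ G) = L g⁻¹ ≫ u ≫ L (g ^ n) := by
      rw [← hcomm, ← Category.assoc, hL, mul_inv_cancel, hL1, Category.id_comp]
    rw [e, Over.comp_left, Over.comp_left, ← Category.assoc, ← morphismRestrict_ι, Category.assoc,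
      ← Category.assoc U₀.ι]
    haveI : IsIso ((L g⁻¹).left ∣_ U₀) := inferInstance
    exact (MorphismProperty.cancel_left_of_respectsIso @Etale _ _).mpr
      ((MorphismProperty.cancel_right_of_respectsIso @Etale _ _).mpr hU₀)

end Groth.Agent.S8395
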