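import Groth.Statements.S8393
import Groth.Agent.Deform.MultUnipHom
import Groth.Agent.Deform.MultConst
import Groth.Agent.S14691
import Groth.Agent.S5356
import Groth.Agent.IsogLib.Kernel
import Groth.Agent.TransLib.Universal
import Groth.Agent.GrpSchLib.SimpleFinite


set_option autoImplicit false
universe u
open CategoryTheory MonoidalCategory CartesianMonoidalCategory MonObj GrpObj AlgebraicGeometry
open SGA3x

namespace Groth.Agent.S8393
set_option linter.style.haveILetI false

open CategoryTheory CategoryTheory.Limits MonoidalCategory CartesianMonoidalCategory MonObj GrpObj AlgebraicGeometry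
open Groth.Agent.Deform
open scoped TensorProduct
open GrpSchLib.AffineHopf (sp spIso spMap exists_hopf isMonHom_spMap)
open GrpSchLib.HomUnitLocus (theta_one theta_comp_map)

attribute [local instance] CategoryTheory.Hom.monoid CategoryTheory.Hom.group

set_option maxHeartbeats 1000000 in
/-- The centre of an affine group over a field. -/
theorem exists_centre {k : Type u} [Field k] (G : Over (Spec (CommRingCat.of k))) [GrpObj G] [IsAffine G.left]
    [LocallyOfFiniteType G.hom] :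
    ∃ (T : Over (Spec (CommRingCat.of k))) (_ : GrpObj T) (j : T ⟶ G), IsMonHom j ∧ Mono j ∧ IsClosedImmersion j.left ∧
      IsCommMonObj T ∧ ∀ (X : Over (Spec (CommRingCat.of k))) (g : X ⟶ G), (∃ z : X ⟶ T, z ≫ j = g) ↔
        ∀ (X' : Over (Spec (CommRingCat.of k))) (a : X' ⟶ X) (h : X' ⟶ G), (a ≫ g) * h = h * (a ≫ g) := by
  haveI : IsAffineHom G.hom := inferInstance
  haveI : IsClosedImmersion η[G].left := by
    haveI : IsClosedImmersion (η[G].left ≫ G.hom) := by
      rw [Over.w η[G]]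
      exact inferInstanceAs (IsClosedImmersion (𝟙 (Spec (CommRingCat.of k))))
    exact IsClosedImmersion.of_comp η[G].left G.hom
  let W : G ⊗ G ⟶ G := (fst G G * snd G G) * (snd G G * fst G G)⁻¹
  obtain ⟨T, j, hj, -, hT⟩ := TransLib.exists_closed_universal_essFree (X := G)
    ((S5356.result).2.2.1 k G.left G.hom) W η[G]
  haveI := hj
  haveI : Mono j := (Over.forget _).mono_of_mono_map (inferInstanceAs (Mono j.left))
  have hW : ∀ {Y : Over (Spec (CommRingCat.of k))} (a b : Y ⟶ G), lift a b ≫ W = (a * b) * (b * a)⁻¹ := fun a b => by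
    rw [MonObj.comp_mul, GrpObj.comp_inv, MonObj.comp_mul, MonObj.comp_mul, lift_fst, lift_snd]
  have hchar : ∀ (X : Over (Spec (CommRingCat.of k))) (g : X ⟶ G), (∃ z : X ⟶ T, z ≫ j = g) ↔
      ∀ (X' : Over (Spec (CommRingCat.of k))) (a : X' ⟶ X) (h : X' ⟶ G), (a ≫ g) * h = h * (a ≫ g) := by
    intro X g
    rw [hT g]
    constructor
    · rintro ⟨l, hl⟩ X' a h
      have h1 : lift h (a ≫ g) ≫ W = 1 := by
        rw [← lift_whiskerLeft, Category.assoc, ← hl, ← Category.assoc,
          show lift h a ≫ l = toUnit X' from toUnit_unique _ _, MonObj.one_eq_one, MonObj.comp_one]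
      rw [hW, mul_inv_eq_one] at h1
      exact h1.symm
    · intro hc
      refine ⟨toUnit _, ?_⟩
      have h2 := hc (G ⊗ X) (snd G X) (fst G X)
      have h3 : (G ◁ g) = lift (fst G X) (snd G X ≫ g) := by ext <;> simp
      rw [h3, hW, h2, mul_inv_cancel, Hom.one_def]
  have hmem : ∀ {X : Over (Spec (CommRingCat.of k))} (z : X ⟶ T) (X' : Over (Spec (CommRingCat.of k)))
      (a : X' ⟶ X) (h : X' ⟶ G), (a ≫ z ≫ j) * h = h * (a ≫ z ≫ j) := fun z => (hchar _ _).mp ⟨z, rfl⟩
  have hcomm : ∀ {X : Over (Spec (CommRingCat.of k))} (z : X ⟶ T) (h : X ⟶ G), (z ≫ j) * h = h * (z ≫ j) :=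
    fun z h => by simpa using hmem z _ (𝟙 _) h
  obtain ⟨iT, hjm⟩ := IsogLib.exists_grpObj_of_mono j
    ((hchar _ _).mpr fun X' a h => by
      rw [MonObj.one_eq_one, MonObj.comp_one, _root_.one_mul, _root_.mul_one])
    ((hchar _ _).mpr fun X' a h => by
      rw [MonObj.comp_mul, _root_.mul_assoc, hmem (snd T T) X' a h, ← _root_.mul_assoc, hmem (fst T T) X' a h,
        _root_.mul_assoc])
    ((hchar _ _).mpr fun X' a h => by
      rw [GrpObj.comp_inv]
      have h2 : (a ≫ j) * h = h * (a ≫ j) := by simpa using hmem (𝟙 T) X' a h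
      exact (Commute.inv_left h2).eq)
  letI := iT
  haveI := hjm
  refine ⟨T, iT, j, hjm, inferInstance, hj, ⟨?_⟩, hchar⟩
  have hμ : μ[T] ≫ j = (fst T T ≫ j) * (snd T T ≫ j) := by
    rw [IsMonHom.mul_hom, Hom.mul_def]
    congr 1
  rw [← cancel_mono j, Category.assoc, hμ, MonObj.comp_mul, braiding_hom_fst_assoc, braiding_hom_snd_assoc,
    hcomm]

/-- Let G be an affine algebraic group over a field k (an affine k-group scheme of finite type). Then G
admits a reductive centre: a subgroup scheme Z of G which is central and of multiplicative type, and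
such that for every k-scheme S′ and every central homomorphism v : H → G ×_k S′ from an S′-group H
of multiplicative type and of finite type, v factors through Z ×_k S′. -/
theorem result (k : Type u) [Field k]
    (G : Over (Spec (CommRingCat.of k))) [GrpObj G] [IsAffine G.left] [QuasiCompact G.hom] [LocallyOfFiniteType G.hom] :
    ∃ (Z : Over (Spec (CommRingCat.of k))) (_ : GrpObj Z) (z : Z ⟶ G), IsMonHom z ∧ Mono z ∧ SGA3x.IsMultTypeFT Z ∧
      (∀ (X : Over (Spec (CommRingCat.of k))) (x : X ⟶ Z) (g : X ⟶ G), (x ≫ z) * g = g * (x ≫ z)) ∧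
      ∀ (S' : Scheme.{u}) (f : S' ⟶ (Spec (CommRingCat.of k))) (H : Over S') [GrpObj H] (v : H ⟶ Red.bc f G) [IsMonHom v],
        SGA3x.IsMultTypeFT H →
        (∀ (X : Over S') (x : X ⟶ H) (g : X ⟶ Red.bc f G), (x ≫ v) * g = g * (x ≫ v)) →
        ∃ w : H ⟶ Red.bc f Z, w ≫ (Over.pullback f).map z = v := by
  classical
  obtain ⟨T, _, jT, hjT, hjTm, hjTc, hTcomm, hchar⟩ := exists_centre G
  haveI := hjT; haveI := hjTm; haveI := hjTc; haveI := hTcomm
  haveI : IsAffine T.left := isAffine_of_isAffineHom jT.left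
  haveI : LocallyOfFiniteType T.hom := by rw [← Over.w jT]; infer_instance
  obtain ⟨C, _, _, ⟨eT⟩⟩ := exists_hopf T
  haveI : IsMonHom eT.hom.hom.hom := eT.hom.hom.isMonHom_hom
  haveI : IsMonHom eT.inv.hom.hom := eT.inv.hom.isMonHom_hom
  haveI : IsIso eT.hom.hom.hom := ((Grp.forget _).mapIso eT).isIso_hom
  haveI : Coalgebra.IsCocomm k C := S14691.isCocomm_of_iso eT.hom.hom.hom
  haveI : Algebra.FiniteType k C := QuasiIsotrivial.finiteType_sp eT
  obtain ⟨J, hJi, hJm, -, B, _, _, φ, hφ, hJeq, hB⟩ := UnipComp.exists_max_multType k C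
  haveI := hJi
  let qJ : C →ₐc[k] C ⧸ J := Bialgebra.Quotient.mkBialgHom J
  haveI : IsMonHom (spMap (qJ : C →ₐ[k] C ⧸ J)) := isMonHom_spMap qJ
  haveI : IsMonHom (spMap (φ : B →ₐ[k] C)) := isMonHom_spMap φ
  haveI : IsClosedImmersion (spMap (qJ : C →ₐ[k] C ⧸ J)).left :=
    IsClosedImmersion.spec_of_surjective (CommRingCat.ofHom (qJ : C →ₐ[k] C ⧸ J).toRingHom) Ideal.Quotient.mk_surjective
  haveI : Mono (spMap (qJ : C →ₐ[k] C ⧸ J)) :=
    (Over.forget _).mono_of_mono_map (inferInstanceAs (Mono (spMap (qJ : C →ₐ[k] C ⧸ J)).left))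
  let z : sp k (C ⧸ J) ⟶ G := spMap (qJ : C →ₐ[k] C ⧸ J) ≫ eT.hom.hom.hom ≫ jT
  have hcen : ∀ {X : Over (Spec (CommRingCat.of k))} (x : X ⟶ T) (g : X ⟶ G), (x ≫ jT) * g = g * (x ≫ jT) :=
    fun x g => by simpa using (hchar _ _).mp ⟨x, rfl⟩ _ (𝟙 _) g
  refine ⟨sp k (C ⧸ J), inferInstance, z,
    inferInstanceAs (IsMonHom (spMap (qJ : C →ₐ[k] C ⧸ J) ≫ eT.hom.hom.hom ≫ jT)),
    inferInstanceAs (Mono (spMap (qJ : C →ₐ[k] C ⧸ J) ≫ eT.hom.hom.hom ≫ jT)),
    MultConst.isMultTypeFT_of_const hJm, fun X x g => ?_, fun S' f H _ v _ hH hcv => ?_⟩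
  · have h1 := hcen (x ≫ spMap (qJ : C →ₐ[k] C ⧸ J) ≫ eT.hom.hom.hom) g
    simpa [z] using h1
  · -- into the centre
    obtain ⟨l₀, hl₀⟩ := (hchar _ (DSPtsLib.theta f v)).mpr fun Y a g => by
      let Y' : Over S' := Over.mk (a.left ≫ H.hom)
      let d : Y ⟶ (Over.map f).obj Y' := Over.homMk (𝟙 Y.left) (by
        show 𝟙 _ ≫ (a.left ≫ H.hom) ≫ f = Y.hom
        rw [Category.id_comp, Category.assoc]
        exact Over.w a)
      let u : (Over.map f).obj Y' ⟶ Y := Over.homMk (𝟙 Y.left) (by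
        show 𝟙 _ ≫ Y.hom = (a.left ≫ H.hom) ≫ f
        rw [Category.id_comp, Category.assoc]
        exact (Over.w a).symm)
      have hdu : d ≫ u = 𝟙 Y := Over.OverMorphism.ext (Category.id_comp _)
      let x' : Y' ⟶ H := Over.homMk a.left rfl
      obtain ⟨g', hg'⟩ := (DSPtsLib.theta_bijective (H := G) (Y := Y') f).2 (u ≫ g)
      have h1 := congrArg (DSPtsLib.theta f) (hcv Y' x' g')
      rw [DSPtsLib.theta_mul, DSPtsLib.theta_mul, DSPtsLib.theta_comp, hg'] at h1
      have hx' : (Over.map f).map x' = u ≫ a := Over.OverMorphism.ext (Category.id_comp _).symm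
      rw [hx', Category.assoc] at h1
      have h2 := congrArg (d ≫ ·) h1
      simp only [MonObj.comp_mul, reassoc_of% hdu] at h2
      exact h2
    let eC : T ⟶ sp k C := eT.inv.hom.hom
    have he : eC ≫ eT.hom.hom.hom = 𝟙 T := congrArg (fun m => m.hom.hom) eT.inv_hom_id
    obtain ⟨l, hl⟩ := (DSPtsLib.theta_bijective (H := sp k C) (Y := H) f).2 (l₀ ≫ eC)
    have hlv : l ≫ (Over.pullback f).map (eT.hom.hom.hom ≫ jT) = v := by
      refine (DSPtsLib.theta_bijective f).1 ?_
      rw [theta_comp_map, hl, Category.assoc, reassoc_of% he, hl₀]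
    haveI : Mono ((Over.pullback f).map (eT.hom.hom.hom ≫ jT)) := inferInstance
    haveI : IsMonHom l := by
      let m := (Over.pullback f).map (eT.hom.hom.hom ≫ jT)
      haveI : IsMonHom m := inferInstanceAs (IsMonHom ((Over.pullback f).map (eT.hom.hom.hom ≫ jT)))
      refine ⟨?_, ?_⟩
      · rw [← cancel_mono m, Category.assoc, hlv, IsMonHom.one_hom, IsMonHom.one_hom]
      · rw [← cancel_mono m, Category.assoc, hlv, IsMonHom.mul_hom, Category.assoc, IsMonHom.mul_hom,
          MonoidalCategory.tensorHom_comp_tensorHom_assoc, hlv]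
    haveI : IsMonHom ((Over.pullback f).map (spMap (φ : B →ₐ[k] C))) :=
      inferInstanceAs (IsMonHom ((Over.pullback f).map (spMap (φ : B →ₐ[k] C))))
    haveI : IsMonHom (l ≫ (Over.pullback f).map (spMap (φ : B →ₐ[k] C))) :=
      inferInstanceAs (IsMonHom (l ≫ (Over.pullback f).map (spMap (φ : B →ₐ[k] C))))
    have h1 := MultUnipHom.eq_one_of_multType hB f hH (l ≫ (Over.pullback f).map (spMap (φ : B →ₐ[k] C)))
    have h2 : DSPtsLib.theta f l ≫ spMap (φ : B →ₐ[k] C) = 1 := by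
      rw [← theta_comp_map, h1]
      exact theta_one f _
    -- the kernel of `φ` is `sp (C / J)`
    let ε : B →+* k := (Bialgebra.counitAlgHom k B).toRingHom
    have hk : (RingHom.ker ε).map (φ : B →+* C) = J := hJeq.symm
    let i : k →+* C ⧸ (RingHom.ker ε).map (φ : B →+* C) := algebraMap k _
    have sq := isPullback_SpecMap_of_isPushout _ _ _ _ (MultConst.isPushout_of_surjective ε (φ : B →+* C)
      (fun r => ⟨algebraMap k B r, (Bialgebra.counitAlgHom k B).commutes r⟩) i (fun b => by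
        show algebraMap k (C ⧸ (RingHom.ker ε).map (φ : B →+* C)) (Coalgebra.counit b) = Ideal.Quotient.mk _ (φ b)
        rw [eq_comm, ← Ideal.Quotient.mk_algebraMap, Ideal.Quotient.eq, ← AlgHomClass.commutes φ, ← map_sub]
        refine Ideal.mem_map_of_mem (φ : B →+* C) ?_
        simp [ε, RingHom.mem_ker]))
    obtain ⟨z₀, hz₀⟩ : ∃ z₀ : ((Over.map f).obj H).left ⟶ Spec (CommRingCat.of (C ⧸ J)),
        z₀ ≫ (spMap (qJ : C →ₐ[k] C ⧸ J)).left = (DSPtsLib.theta f l).left := by
      have h3 : ((Over.map f).obj H).hom ≫ η[sp k B].left = (DSPtsLib.theta f l).left ≫ (spMap (φ : B →ₐ[k] C)).left := by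
        rw [← Over.comp_left, h2, Hom.one_def]
        rfl
      refine ⟨sq.lift _ _ h3 ≫ Spec.map (CommRingCat.ofHom (Ideal.quotEquivOfEq hk).symm.toRingHom), ?_⟩
      rw [Category.assoc]
      refine Eq.trans ?_ (sq.lift_snd _ _ h3)
      congr 1
      show Spec.map _ ≫ Spec.map _ = Spec.map _
      rw [← Spec.map_comp]
      congr 1
    obtain ⟨w, hw⟩ := (DSPtsLib.theta_bijective (H := sp k (C ⧸ J)) (Y := H) f).2
      (Over.homMk z₀ ((congrArg (z₀ ≫ ·) (Over.w (spMap (qJ : C →ₐ[k] C ⧸ J)))).symm.trans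
        ((Category.assoc _ _ _).symm.trans ((congrArg (· ≫ (sp k C).hom) hz₀).trans (Over.w _)))))
    refine ⟨w, (DSPtsLib.theta_bijective f).1 ?_⟩
    rw [theta_comp_map, hw, ← hlv, theta_comp_map]
    show Over.homMk z₀ _ ≫ spMap (qJ : C →ₐ[k] C ⧸ J) ≫ eT.hom.hom.hom ≫ jT = _
    rw [← Category.assoc]
    congr 1
    exact Over.OverMorphism.ext hz₀

end Groth.Agent.S8393
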