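import Groth.Statements.S4149
import Groth.Agent.S8393
import Groth.Agent.GrpSchLib.CentralDescent
import Groth.Agent.S3036
import Groth.Agent.H23.GeomConn
import Groth.Agent.VarGeom.OpenMap


set_option autoImplicit false
universe u
open CategoryTheory MonoidalCategory CartesianMonoidalCategory MonObj GrpObj AlgebraicGeometry CategoryTheory.Limits
open SGA3x

namespace Groth.Agent.S4149
set_option linter.style.haveILetI false

open CategoryTheory CategoryTheory.Limits MonoidalCategory CartesianMonoidalCategory MonObj GrpObj AlgebraicGeometry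
open GrpSchLib.HomUnitLocus (theta_one theta_comp_map)

open scoped commutatorElement

attribute [local instance] CategoryTheory.Hom.monoid CategoryTheory.Hom.group

variable {k : Type u} [Field k] (G : Over (Spec (CommRingCat.of k)))

/-- The domain of the iterated commutator word. -/
noncomputable def Pw : ℕ → Over (Spec (CommRingCat.of k))
  | 0 => G
  | i + 1 => G ⊗ Pw i

theorem connected_Pw [GrpObj G] [ConnectedSpace ↥G.left] : ∀ i : ℕ, ConnectedSpace ↥(Pw G i).left
  | 0 => inferInstanceAs (ConnectedSpace ↥G.left)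
  | i + 1 => by
      haveI := connected_Pw i
      haveI : GeometricallyConnected G.hom := H23.GeomConn.of_point k G.hom η[G].left (Over.w η[G])
      haveI : UniversallyOpen G.hom := VarGeom.universallyOpen_of_field G.hom
      exact inferInstanceAs (ConnectedSpace ↥(pullback G.hom (Pw G i).hom))

variable [GrpObj G]

/-- The iterated commutator word. -/
noncomputable def wd : ∀ i : ℕ, Pw G i ⟶ G
  | 0 => 𝟙 G
  | i + 1 => (snd G (Pw G i) ≫ wd i) * fst G (Pw G i) * (snd G (Pw G i) ≫ wd i)⁻¹ * (fst G (Pw G i))⁻¹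

/-- The origin of the domain of the word. -/
noncomputable def org : ∀ i : ℕ, 𝟙_ (Over (Spec (CommRingCat.of k))) ⟶ Pw G i
  | 0 => (1 : 𝟙_ (Over (Spec (CommRingCat.of k))) ⟶ G)
  | i + 1 => lift (1 : 𝟙_ (Over (Spec (CommRingCat.of k))) ⟶ G) (org i)

variable {G}

theorem lift_wd {X : Over (Spec (CommRingCat.of k))} (i : ℕ) (g : X ⟶ G) (σ : X ⟶ Pw G i) :
    lift g σ ≫ wd G (i + 1) = ⁅σ ≫ wd G i, g⁆ := by
  rw [wd, MonObj.comp_mul, MonObj.comp_mul, MonObj.comp_mul, GrpObj.comp_inv, GrpObj.comp_inv, lift_fst,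
    lift_snd_assoc, commutatorElement_def]

theorem org_wd : ∀ i : ℕ, org G i ≫ wd G i = 1
  | 0 => Category.comp_id (1 : 𝟙_ (Over (Spec (CommRingCat.of k))) ⟶ G)
  | i + 1 => (lift_wd i 1 (org G i)).trans (by rw [org_wd i, commutatorElement_one_left])

/-- Precomposition. -/
noncomputable def pre {X X' : Over (Spec (CommRingCat.of k))} (a : X' ⟶ X) : (X ⟶ G) →* (X' ⟶ G) where
  toFun g := a ≫ g
  map_one' := MonObj.comp_one a
  map_mul' := MonObj.comp_mul a

theorem comp_mem {X X' : Over (Spec (CommRingCat.of k))} (a : X' ⟶ X) {i : ℕ} {g : X ⟶ G}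
    (hg : g ∈ (⊤ : Subgroup (X ⟶ G)).lowerCentralSeries i) :
    a ≫ g ∈ (⊤ : Subgroup (X' ⟶ G)).lowerCentralSeries i := by
  have h := Subgroup.mem_map_of_mem (pre a) hg
  rw [Subgroup.map_lowerCentralSeries] at h
  exact lcs_mono le_top i h
where
  lcs_mono {H : Type u} [Group H] {A B : Subgroup H} (hAB : A ≤ B) : ∀ i : ℕ,
      A.lowerCentralSeries i ≤ B.lowerCentralSeries i
    | 0 => hAB
    | i + 1 => Subgroup.commutator_mono (lcs_mono hAB i) hAB

theorem wd_mem : ∀ (i : ℕ), wd G i ∈ (⊤ : Subgroup (Pw G i ⟶ G)).lowerCentralSeries i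
  | 0 => trivial
  | i + 1 => by
      have h : wd G (i + 1) = ⁅snd G (Pw G i) ≫ wd G i, fst G (Pw G i)⁆ := rfl
      rw [h]
      exact Subgroup.commutator_mem_commutator (comp_mem _ (wd_mem i)) trivial

theorem le_closure {X : Over (Spec (CommRingCat.of k))} : ∀ i : ℕ,
    (⊤ : Subgroup (X ⟶ G)).lowerCentralSeries i ≤
      Subgroup.closure (Set.range fun σ : X ⟶ Pw G i => σ ≫ wd G i) ⊔
        (⊤ : Subgroup (X ⟶ G)).lowerCentralSeries (i + 1) := by
  intro i
  induction i with
  | zero =>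
      intro g _
      refine Subgroup.mem_sup_left (Subgroup.subset_closure ⟨g, ?_⟩)
      exact Category.comp_id g
  | succ i ih =>
      let K : Subgroup (X ⟶ G) := Subgroup.closure (Set.range fun σ : X ⟶ Pw G (i + 1) => σ ≫ wd G (i + 1)) ⊔
        (⊤ : Subgroup (X ⟶ G)).lowerCentralSeries (i + 2)
      have hcomm : ∀ a x : X ⟶ G, x ∈ (⊤ : Subgroup (X ⟶ G)).lowerCentralSeries (i + 1) → ⁅a, x⁆ ∈ K := by
        intro a x hx
        rw [← commutatorElement_inv]
        exact K.inv_mem (Subgroup.mem_sup_right (Subgroup.commutator_mem_commutator hx trivial))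
      let D : Subgroup (X ⟶ G) :=
        { carrier := {c | c ∈ (⊤ : Subgroup (X ⟶ G)).lowerCentralSeries i ∧ ∀ g, ⁅c, g⁆ ∈ K}
          one_mem' := ⟨one_mem _, fun g => by rw [commutatorElement_one_left]; exact one_mem _⟩
          mul_mem' := by
            rintro a b ⟨ha, ha'⟩ ⟨hb, hb'⟩
            refine ⟨mul_mem ha hb, fun g => ?_⟩
            rw [show ⁅a * b, g⁆ = ⁅a, ⁅b, g⁆⁆ * ⁅b, g⁆ * ⁅a, g⁆ by simp only [commutatorElement_def]; group]
            exact mul_mem (mul_mem (hcomm _ _ (Subgroup.commutator_mem_commutator hb trivial)) (hb' g)) (ha' g)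
          inv_mem' := by
            rintro a ⟨ha, ha'⟩
            refine ⟨inv_mem ha, fun g => ?_⟩
            rw [show ⁅a⁻¹, g⁆ = ⁅a⁻¹, ⁅a, g⁆⁻¹⁆ * ⁅a, g⁆⁻¹ by simp only [commutatorElement_def]; group]
            exact mul_mem (hcomm _ _ (inv_mem (Subgroup.commutator_mem_commutator ha trivial)))
              (inv_mem (ha' g)) }
      have hle : Subgroup.closure (Set.range fun σ : X ⟶ Pw G i => σ ≫ wd G i) ⊔
          (⊤ : Subgroup (X ⟶ G)).lowerCentralSeries (i + 1) ≤ D := by
        refine sup_le ((Subgroup.closure_le D).2 ?_) fun c hc => ?_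
        · rintro _ ⟨σ, rfl⟩
          refine ⟨comp_mem σ (wd_mem i), fun g => Subgroup.mem_sup_left (Subgroup.subset_closure ⟨lift g σ, ?_⟩)⟩
          exact lift_wd i g σ
        · exact ⟨Subgroup.lowerCentralSeries_antitone _ (Nat.le_succ i) hc,
            fun g => Subgroup.mem_sup_right (Subgroup.commutator_mem_commutator hc trivial)⟩
      exact Subgroup.commutator_le.2 fun p hp g _ => (hle (ih hp)).2 g

/-- The values of the word commute with a group of multiplicative type. -/
theorem commute_wd [IsAffine G.left] [LocallyOfFiniteType G.hom] [ConnectedSpace ↥G.left]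
    {M' : Over (Spec (CommRingCat.of k))} [GrpObj M'] (m' : M' ⟶ G) [IsMonHom m'] (hM : SGA3x.IsMultTypeFT M') (i : ℕ)
    (hP : ∀ (X : Over (Spec (CommRingCat.of k))) (x : X ⟶ M') (c : X ⟶ G),
      c ∈ (⊤ : Subgroup (X ⟶ G)).lowerCentralSeries (i + 1) → Commute (x ≫ m') c)
    (X : Over (Spec (CommRingCat.of k))) (x : X ⟶ M') (σ : X ⟶ Pw G i) : Commute (σ ≫ wd G i) (x ≫ m') := by
  let q := (Pw G i).hom
  let pr : ∀ Z : Over (Pw G i).left, (Over.map q).obj Z ⟶ Pw G i := fun Z => Over.homMk Z.hom rfl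
  obtain ⟨u, hu⟩ := (DSPtsLib.theta_bijective (H := G) (Y := Red.bc q M') q).2
    ⁅pr (Red.bc q M') ≫ wd G i, DSPtsLib.theta q (𝟙 (Red.bc q M')) ≫ m'⁆
  have hwp : ∀ {Z : Over (Pw G i).left} (a : Z ⟶ Red.bc q M'),
      DSPtsLib.theta q (a ≫ u) = ⁅pr Z ≫ wd G i, DSPtsLib.theta q a ≫ m'⁆ := by
    intro Z a
    have e0 : (Over.map q).map a ≫ DSPtsLib.theta (H := M') q (𝟙 _) = DSPtsLib.theta q a := by
      rw [← DSPtsLib.theta_comp, Category.comp_id]
    have e1 : (Over.map q).map a ≫ pr (Red.bc q M') = pr Z := Over.OverMorphism.ext (Over.w a)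
    rw [DSPtsLib.theta_comp, hu, show ((Over.map q).map a ≫ ⁅pr (Red.bc q M') ≫ wd G i,
        DSPtsLib.theta q (𝟙 (Red.bc q M')) ≫ m'⁆) = pre ((Over.map q).map a) ⁅pr (Red.bc q M') ≫ wd G i,
        DSPtsLib.theta q (𝟙 (Red.bc q M')) ≫ m'⁆ from rfl, map_commutatorElement]
    show ⁅(Over.map q).map a ≫ pr (Red.bc q M') ≫ wd G i,
      (Over.map q).map a ≫ DSPtsLib.theta q (𝟙 (Red.bc q M')) ≫ m'⁆ = _
    rw [reassoc_of% e1, reassoc_of% e0]
  have hwm : ∀ {Z : Over (Pw G i).left} (a b : Z ⟶ Red.bc q M'), (a * b) ≫ u = (a ≫ u) * (b ≫ u) := by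
    intro Z a b
    refine (DSPtsLib.theta_bijective q).1 ?_
    rw [hwp, DSPtsLib.theta_mul, DSPtsLib.theta_mul, hwp, hwp, MonObj.mul_comp]
    have hc : Commute (DSPtsLib.theta q a ≫ m') ⁅pr Z ≫ wd G i, DSPtsLib.theta q b ≫ m'⁆ :=
      hP _ _ _ (Subgroup.commutator_mem_commutator (comp_mem _ (wd_mem i)) trivial)
    generalize pr Z ≫ wd G i = c at hc ⊢
    generalize DSPtsLib.theta q a ≫ m' = s at hc ⊢
    generalize DSPtsLib.theta q b ≫ m' = t at hc ⊢
    calc ⁅c, s * t⁆ = ⁅c, s⁆ * (s * ⁅c, t⁆ * s⁻¹) := by simp only [commutatorElement_def]; group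
      _ = ⁅c, s⁆ * ⁅c, t⁆ := by rw [hc.eq, _root_.mul_assoc, mul_inv_cancel, _root_.mul_one]
  haveI : IsMonHom u := by
    constructor
    · have h1 := hwm (1 : 𝟙_ _ ⟶ Red.bc q M') 1
      rw [_root_.one_mul, left_eq_mul] at h1
      rwa [Hom.one_def, Hom.one_def, toUnit_unique (toUnit _) (𝟙 _), Category.id_comp, Category.id_comp] at h1
    · have h1 := hwm (fst (Red.bc q M') (Red.bc q M')) (snd _ _)
      rw [Hom.mul_def, Hom.mul_def, lift_fst_snd, Category.id_comp] at h1
      rw [h1, ← lift_map, lift_fst_snd, Category.id_comp]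
  haveI : IsAffineHom G.hom := isAffineHom_of_isAffine _
  haveI : IsSeparated (Red.bc q G).hom := inferInstanceAs (IsSeparated (pullback.snd G.hom q))
  haveI : LocallyOfFiniteType (Red.bc q G).hom := inferInstanceAs (LocallyOfFiniteType (pullback.snd G.hom q))
  obtain ⟨U, hU, hmem, htriv⟩ := GrpSchLib.HomUnitLocus.main (u := u)
    (GrpSchLib.MultTypeBC.isMultTypeFT_bc q hM) (Or.inr inferInstance)
  have hδ : GrpSchLib.HomUnitLocus.Triv u (org G i).left := by
    intro Z r a
    refine (DSPtsLib.theta_bijective q).1 ?_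
    rw [hwp, theta_one]
    have hpr : pr Z = toUnit _ ≫ org G i := by
      let t : (Over.map q).obj Z ⟶ 𝟙_ (Over (Spec (CommRingCat.of k))) := Over.homMk r.left (by
        show r.left ≫ 𝟙 _ = Z.hom ≫ q
        rw [← Over.w r]
        show r.left ≫ 𝟙 _ = (r.left ≫ (org G i).left) ≫ q
        rw [Category.assoc]
        exact congrArg (r.left ≫ ·) (Over.w (org G i)).symm)
      rw [show toUnit ((Over.map q).obj Z) = t from toUnit_unique _ _]
      exact Over.OverMorphism.ext (Over.w r).symm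
    rw [hpr, Category.assoc, org_wd, MonObj.comp_one, commutatorElement_one_left]
  haveI := connected_Pw G i
  have hall : ∀ z : (Pw G i).left, z ∈ U := by
    let b : Spec (CommRingCat.of k) ⟶ (Pw G i).left := (org G i).left
    have h0 : b (IsLocalRing.closedPoint k) ∈ U :=
      (hmem _).2 ((GrpSchLib.HomUnitLocus.triv_iff_of_field b).1 hδ)
    intro z
    exact (IsClopen.eq_univ (⟨hU, U.2⟩ : IsClopen (U : Set (Pw G i).left)) ⟨_, h0⟩).ge (Set.mem_univ z)
  let Y' : Over (Pw G i).left := Over.mk σ.left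
  let dn : X ⟶ (Over.map q).obj Y' := Over.homMk (𝟙 X.left) ((Category.id_comp _).trans (Over.w σ))
  let up : (Over.map q).obj Y' ⟶ X := Over.homMk (𝟙 X.left) ((Category.id_comp _).trans (Over.w σ).symm)
  have hdu : dn ≫ up = 𝟙 X := Over.OverMorphism.ext (Category.id_comp _)
  have hdp : dn ≫ pr Y' = σ := Over.OverMorphism.ext (Category.id_comp _)
  obtain ⟨a, ha⟩ := (DSPtsLib.theta_bijective (H := M') (Y := Y') q).2 (up ≫ x)
  have hr : Set.range σ.left ⊆ Set.range U.ι := by
    rw [Scheme.Opens.range_ι]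
    exact fun z _ => hall z
  have h1 := htriv Y' (Over.homMk (IsOpenImmersion.lift U.ι σ.left hr) (IsOpenImmersion.lift_fac _ _ _)) a
  have h2 := congrArg (fun m => pre dn (DSPtsLib.theta (H := G) q m)) h1
  simp only [hwp, theta_one, map_one, ha] at h2
  rw [map_commutatorElement] at h2
  change ⁅dn ≫ pr Y' ≫ wd G i, dn ≫ (up ≫ x) ≫ m'⁆ = 1 at h2
  rw [reassoc_of% hdp, Category.assoc, reassoc_of% hdu] at h2
  exact commutatorElement_eq_one_iff_commute.1 h2

/-- A group of multiplicative type is central. -/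
theorem central [IsAffine G.left] [LocallyOfFiniteType G.hom] [ConnectedSpace ↥G.left]
    (hnil : ∃ n : ℕ, ∀ X : Over (Spec (CommRingCat.of k)), (⊤ : Subgroup (X ⟶ G)).lowerCentralSeries n = ⊥)
    {M' : Over (Spec (CommRingCat.of k))} [GrpObj M'] (m' : M' ⟶ G) [IsMonHom m'] (hM : SGA3x.IsMultTypeFT M')
    (X : Over (Spec (CommRingCat.of k))) (x : X ⟶ M') (g : X ⟶ G) : Commute (x ≫ m') g := by
  obtain ⟨n, hn⟩ := hnil
  suffices H : ∀ j i : ℕ, i + j = n → ∀ (X : Over (Spec (CommRingCat.of k))) (x : X ⟶ M') (c : X ⟶ G),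
      c ∈ (⊤ : Subgroup (X ⟶ G)).lowerCentralSeries i → Commute (x ≫ m') c from
    H n 0 (Nat.zero_add n) X x g trivial
  intro j
  induction j with
  | zero =>
      intro i hi X x c hc
      rw [show i = n from hi, hn X, Subgroup.mem_bot] at hc
      rw [hc]
      exact Commute.one_right _
  | succ j ih =>
      intro i hi X x c hc
      have hle : Subgroup.closure (Set.range fun σ : X ⟶ Pw G i => σ ≫ wd G i) ⊔
          (⊤ : Subgroup (X ⟶ G)).lowerCentralSeries (i + 1) ≤ Subgroup.centralizer {x ≫ m'} := by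
        refine sup_le ((Subgroup.closure_le _).2 ?_) fun c hc => ?_
        · rintro _ ⟨σ, rfl⟩
          rw [SetLike.mem_coe, Subgroup.mem_centralizer_singleton_iff]
          exact commute_wd m' hM i (ih (i + 1) (by omega)) X x σ
        · rw [Subgroup.mem_centralizer_singleton_iff]
          exact (ih (i + 1) (by omega) X x c hc).symm
      have h := Subgroup.mem_centralizer_singleton_iff.1 (hle (le_closure i hc))
      exact h.symm


/-- Let G be an affine, connected algebraic group over a field k which is nilpotent (for some n the n-th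
term of the lower central series of G(X) is trivial for every k-scheme X). Then G has a largest
subgroup of multiplicative type M — a closed subgroup scheme of multiplicative type and of finite
type through which every such subgroup factors — and M is central in G. (The source adds that M is
characteristic and G/M unipotent.) -/
theorem result (k : Type u) [Field k] (G : Over (Spec (CommRingCat.of k)))
    [GrpObj G] [IsAffine G.left] [LocallyOfFiniteType G.hom] [ConnectedSpace ↥G.left]
    (hnil : ∃ n : ℕ, ∀ X : Over (Spec (CommRingCat.of k)), (⊤ : Subgroup (X ⟶ G)).lowerCentralSeries n = ⊥) :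
    ∃ (M : Over (Spec (CommRingCat.of k))) (_ : GrpObj M) (m : M ⟶ G), IsMonHom m ∧ IsClosedImmersion m.left ∧
      SGA3x.IsMultTypeFT M ∧
      (∀ (M' : Over (Spec (CommRingCat.of k))) [GrpObj M'] (m' : M' ⟶ G) [IsMonHom m'] [Mono m'],
        SGA3x.IsMultTypeFT M' → ∃ f : M' ⟶ M, f ≫ m = m') ∧
      ∀ (X : Over (Spec (CommRingCat.of k))) (x : X ⟶ M) (g : X ⟶ G), (x ≫ m) * g = g * (x ≫ m) := by
  haveI : IsAffineHom G.hom := isAffineHom_of_isAffine _
  obtain ⟨Z, iZ, z, hz, hzm, hZ, hzc, huniv⟩ := S8393.result k G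
  letI := iZ
  haveI := hz
  haveI := hzm
  haveI : LocallyOfFiniteType Z.hom := GrpSchLib.MultTypeLft.lft hZ
  haveI : IsAffineHom Z.hom := (TransLib.multTypeFT_essFree hZ).1
  haveI : QuasiCompact z.left := by
    haveI : QuasiCompact (z.left ≫ G.hom) := by rw [Over.w z]; infer_instance
    exact QuasiCompact.of_comp z.left G.hom
  refine ⟨Z, iZ, z, hz, S3036.result k Z G z, hZ, fun M' _ m' _ _ hM' => ?_, hzc⟩
  let f := 𝟙 (Spec (CommRingCat.of k))
  haveI : IsMonHom ((Over.pullback f).map m') := inferInstance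
  have hcv : ∀ (X : Over (Spec (CommRingCat.of k))) (x : X ⟶ Red.bc f M') (g : X ⟶ Red.bc f G),
      (x ≫ (Over.pullback f).map m') * g = g * (x ≫ (Over.pullback f).map m') := by
    intro X x g
    refine (DSPtsLib.theta_bijective f).1 ?_
    rw [DSPtsLib.theta_mul, DSPtsLib.theta_mul, theta_comp_map]
    exact (central hnil m' hM' _ _ _).eq
  obtain ⟨w, hw⟩ := huniv (Spec (CommRingCat.of k)) f (Red.bc f M') ((Over.pullback f).map m')
    (GrpSchLib.MultTypeBC.isMultTypeFT_bc f hM') hcv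
  let s : M' ⟶ (Over.map f).obj (Red.bc f M') :=
    Over.homMk (pullback.lift (𝟙 _) M'.hom (by rw [Category.id_comp, Category.comp_id]))
      (by
        show pullback.lift _ _ _ ≫ pullback.snd _ _ ≫ f = M'.hom
        rw [pullback.lift_snd_assoc, Category.comp_id])
  refine ⟨s ≫ DSPtsLib.theta f w, ?_⟩
  have h1 : s ≫ DSPtsLib.theta f (𝟙 (Red.bc f M')) = 𝟙 M' := by
    refine Over.OverMorphism.ext ?_
    rw [Over.comp_left, DSPtsLib.theta_left]
    show pullback.lift _ _ _ ≫ 𝟙 _ ≫ pullback.fst _ _ = 𝟙 _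
    exact (congrArg (pullback.lift _ _ _ ≫ ·) (Category.id_comp _)).trans (pullback.lift_fst _ _ _)
  have h2 := congrArg (DSPtsLib.theta f) hw
  rw [theta_comp_map, ← Category.id_comp ((Over.pullback f).map m'), theta_comp_map] at h2
  rw [Category.assoc, h2, reassoc_of% h1]

end Groth.Agent.S4149
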