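import Groth.Statements.S4956
import Groth.Agent.SectDimFP.Basic
import Groth.Agent.FibDim.Top
import Groth.Agent.FibDim.Comp
-- import your own Groth.Agent.* helpers here

set_option autoImplicit false
open CategoryTheory AlgebraicGeometry
universe u v w
open EGA43

namespace Groth.Agent.S4956

/-- Let f : X ⟶ Y be a morphism of finite presentation with a section g, X_y^0 the connected component
of f⁻¹(y) containing g y, every X_y^0 geometrically irreducible over κ(y), and y₀ a point of Y such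
that f is universally open at the generic point of X_{y₀}^0. Suppose moreover that either (α) the
fibre over y₀ is geometrically reduced at g y₀ and the local ring O_{Y,y₀} is Noetherian, or (β) dim
X_{y'} = dim X_{y'}^0 for the generic point y' of every irreducible component of Y containing y₀.
Then y ↦ dim X_y^0 is constant on a neighbourhood of y₀. -/
theorem result {X Y : Scheme.{u}} (f : X ⟶ Y)
    [LocallyOfFinitePresentation f] [QuasiCompact f] [QuasiSeparated f] (g : Y ⟶ X) (hg : g ≫ f = 𝟙 Y)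
    (hirr : ∀ y : Y, (∀ (K : Type u) [Field K] [Algebra (IsLocalRing.ResidueField (Y.presheaf.stalk y)) K],
        IsIrreducible ((FBase.bcπ (f.fiberToSpecResidueField y) K ≫ f.fiberι y).base ⁻¹' connectedComponentIn (f.base ⁻¹' {y}) (g.base y))))
    (y₀ : Y) (hopen : ∀ ξ ∈ connectedComponentIn (f.base ⁻¹' {y₀}) (g.base y₀), connectedComponentIn (f.base ⁻¹' {y₀}) (g.base y₀) ⊆ closure {ξ} → EGA43.IsUnivOpenAt f ξ)
    (hαβ : (FBase.IsGeomReducedAt (f.fiberToSpecResidueField (f.base (g.base y₀))) (f.asFiber (g.base y₀)) ∧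
        IsNoetherianRing (Y.presheaf.stalk y₀)) ∨
      (∀ y' : Y, y₀ ∈ closure {y'} → closure {y'} ∈ irreducibleComponents (Y : Type u) →
        topologicalKrullDim ↥(f.fiber y') = topologicalKrullDim ↥(connectedComponentIn (f.base ⁻¹' {y'}) (g.base y')))) :
    ∃ V ∈ nhds y₀, ∀ z ∈ V, topologicalKrullDim ↥(connectedComponentIn (f.base ⁻¹' {z}) (g.base z)) = topologicalKrullDim ↥(connectedComponentIn (f.base ⁻¹' {y₀}) (g.base y₀)) := by
  have hir := UnivOpen.irreducible_of_geomIrreducible f hirr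
  have hsec := UnivOpen.apply_section hg
  obtain ⟨ξ, hfξ, hξg, hξm, hC, hξv, hdC⟩ := UnivOpen.exists_component_generic f (hsec y₀) (hir y₀)
  have hmem : ξ ∈ connectedComponentIn (f.base ⁻¹' {y₀}) (g.base y₀) := by rw [hC]; exact ⟨subset_closure rfl, hfξ⟩
  have hsub : connectedComponentIn (f.base ⁻¹' {y₀}) (g.base y₀) ⊆ closure {ξ} := by rw [hC]; exact Set.inter_subset_left
  have hd₀ : topologicalKrullDim ↥(connectedComponentIn (f.base ⁻¹' {y₀}) (g.base y₀)) = ((FibDim.rd f ξ : ℕ∞) : WithBot ℕ∞) :=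
    (UnivOpen.dim_component f (hsec _) (hir _)).trans hdC
  let E : Set Y := g.base ⁻¹' {x | ((FibDim.rd f ξ : ℕ) : WithBot ℕ∞) ≤ FlatMor.fibreDimAt f x}
  have hEc : IsClosed E := (FibDim.isClosed_le_fibreDimAt f _).preimage g.continuous
  have hEiff : ∀ y, y ∈ E ↔ topologicalKrullDim ↥(connectedComponentIn (f.base ⁻¹' {y₀}) (g.base y₀)) ≤
      topologicalKrullDim ↥(connectedComponentIn (f.base ⁻¹' {y}) (g.base y)) := fun y => by
    rw [hd₀, UnivOpen.dim_component f (hsec _) (hir _)]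
    rfl
  have hgen : ∀ y', y' ⤳ y₀ → (∀ y'', y'' ⤳ y' → y'' = y') → y' ∈ E := by
    intro y' hy hmax
    rw [hEiff]
    by_cases hne : y₀ = y'
    · subst hne; exact le_rfl
    rcases hαβ with ⟨hα, hN⟩ | hβ
    · haveI := hN
      have : ∀ y, y = f (g y₀) → ∃ a : ↥(f.fiber y), f.fiberι y a = g y₀ ∧
          FBase.IsGeomReducedAt (f.fiberToSpecResidueField y) a := by
        rintro y rfl
        exact ⟨_, f.fiberι_asFiber _, hα⟩
      obtain ⟨a, ha, har⟩ := this y₀ (hsec y₀).symm
      exact SectDimFP.dim_le_of_geomReduced' f hg hirr hy hne hopen a ha har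
    · have hc : closure {y'} ∈ irreducibleComponents (Y : Type u) := by
        refine ⟨isIrreducible_singleton.closure, fun T hT hsub => ?_⟩
        have hη := hT.isGenericPoint_genericPoint_closure
        have := hmax hT.genericPoint (hη.specializes (subset_closure (hsub (subset_closure rfl))))
        intro t ht
        rw [← this]
        exact hη.specializes (subset_closure ht) |> specializes_iff_mem_closure.1
      obtain ⟨z, -, hfz, hz⟩ := FibDim.exists_rd_ge_of_univOpenAt f (hopen ξ hmem hsub) ⊤ trivial (y' := y')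
        (by rw [hfξ]; exact hy)
      rw [hd₀, ← hβ y' (specializes_iff_mem_closure.1 hy) hc]
      exact (FibDim.le_topologicalKrullDim_fiber_iff f y' _).2 ⟨z, hfz, hz⟩
  obtain ⟨W, hW, hE⟩ : ∃ W : Y.Opens, y₀ ∈ W ∧ ∀ z ∈ W, z ∈ E := by
    have hgE : ∀ z, z ⤳ y₀ → z ∈ E := fun z hz => by
      obtain ⟨η', hη', hη'max⟩ := FibDim.exists_maximal_generization z
      exact hη'.mem_closed hEc (hgen η' (hη'.trans hz) hη'max)
    obtain hd | ⟨m, hm⟩ : FibDim.rd f ξ = 0 ∨ ∃ m, FibDim.rd f ξ = m + 1 := by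
      rcases FibDim.rd f ξ with _ | m <;> simp
    · refine ⟨⊤, trivial, fun z _ => ?_⟩
      obtain ⟨v, -, -, he, -⟩ := FibDim.exists_fibreDimAt_eq f (g z)
      show ((FibDim.rd f ξ : ℕ) : WithBot ℕ∞) ≤ FlatMor.fibreDimAt f (g z)
      rw [hd, he]
      exact_mod_cast Nat.zero_le _
    · have hiff : ∀ z, z ∈ g ⁻¹' {x | FlatMor.fibreDimAt f x ≤ m} ↔ z ∉ E := fun z => by
        obtain ⟨v, -, -, he, -⟩ := FibDim.exists_fibreDimAt_eq f (g z)
        show FlatMor.fibreDimAt f (g z) ≤ m ↔ ¬ ((FibDim.rd f ξ : ℕ) : WithBot ℕ∞) ≤ FlatMor.fibreDimAt f (g z)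
        rw [he, hm]
        simp only [not_le, ← WithBot.coe_natCast, WithBot.coe_le_coe, WithBot.coe_lt_coe, Nat.cast_le, Nat.cast_lt]
        omega
      obtain ⟨W, hW, hWD⟩ := SectDimFP.exists_nhd_disjoint
        ((FibDim.isOpen_fibreDimAt_le f m).preimage g.continuous)
        (fun V hV => SectDimFP.isCompact_preimage_section f hg m V hV) y₀
        (fun z hz hzD => (hiff z).1 hzD (hgE z hz))
      exact ⟨W, hW, fun z hz => by_contra fun h => hWD z hz ((hiff z).2 h)⟩
  obtain ⟨W', hW', hW'd⟩ := FibDim.exists_nhd_rd_le f (g y₀) (FibDim.rd f ξ) hdC.le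
  refine ⟨↑(W ⊓ g ⁻¹ᵁ W'), (W ⊓ g ⁻¹ᵁ W').isOpen.mem_nhds ⟨hW, hW'⟩, fun z hz => le_antisymm ?_ ((hEiff z).1 (hE z hz.1))⟩
  rw [hd₀, UnivOpen.dim_component f (hsec _) (hir _)]
  obtain ⟨v, hv, -, -, hvd⟩ := FibDim.exists_fibMax_generization f (g z)
  rw [hvd]
  exact_mod_cast hW'd v (hv.mem_open W'.isOpen hz.2)

end Groth.Agent.S4956
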