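import Groth.Statements.S4148
import Groth.Agent.Deform.GreatestTorus


set_option autoImplicit false
universe u
open CategoryTheory MonoidalCategory CartesianMonoidalCategory MonObj GrpObj AlgebraicGeometry CategoryTheory.Limits
open SGA3x

namespace Groth.Agent.S4148
set_option linter.style.haveILetI false
open Groth.Agent

/-- Let H be an S-group scheme of multiplicative type and of finite type (fpqc-locally, then
Zariski-locally, of the form D_S(M) with M finitely generated). Then H has a maximal torus T and
every subtorus of H is contained in T; in particular T is the unique maximal torus. -/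
theorem result (S : Scheme.{u}) (H : Over S) [GrpObj H] (hH : SGA3x.IsMultTypeFT H) :
    ∃ (T : Over S) (_ : GrpObj T) (i : T ⟶ H), Red.IsMaximalTorus i ∧
      ∀ (R : Over S) [GrpObj R] (j : R ⟶ H) [IsMonHom j] [Mono j], Red.IsTorus R → ∃ f : R ⟶ T, f ≫ i = j := by
  obtain ⟨T, iT, i, hi, hmono, hT, hgr, hU⟩ := Deform.GreatestTorus.exists_greatest hH
  haveI := hi
  haveI := hmono
  refine ⟨T, iT, i, ⟨hi, hmono, hT, fun s T' _ j' _ _ f hT' hf => ?_⟩, fun R _ j _ _ hR => hgr R j hR⟩
  obtain ⟨w, hw⟩ := hU (Red.geomPt s) T' j' hT'
  exact ⟨w, by rw [← cancel_mono ((Over.pullback (Red.geomPt s)).map i), Category.assoc, hw, hf, Category.id_comp],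
    by rw [← cancel_mono j', Category.assoc, hf, hw, Category.id_comp]⟩

end Groth.Agent.S4148
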