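import Groth.Statements.S3034
import Groth.Agent.Deform.QuotArtin
import Groth.Agent.GrpSchLib.KernelGrp

set_option autoImplicit false
universe u
open CategoryTheory MonoidalCategory CartesianMonoidalCategory MonObj GrpObj AlgebraicGeometry TensorProduct
open SGA3

namespace Groth.Agent.S3034

/-- Let A be a local artinian ring and u : G → H a quasi-compact homomorphism between group schemes
locally of finite type over A, with G flat over A and the kernel of u flat over A. Then u factors as
a homomorphism p : G → C which is faithfully flat and locally of finite presentation followed by a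
homomorphism i : C → H which is a closed immersion. (Stated here for G flat over A; the published
statement also covers non-flat G.) -/
theorem result (A : Type u) [CommRing A] [IsArtinianRing A] [IsLocalRing A]
    (G H : Over (Spec (CommRingCat.of A))) [GrpObj G] [GrpObj H] [LocallyOfFiniteType G.hom] [LocallyOfFiniteType H.hom]
    [Flat G.hom] (u : G ⟶ H) [IsMonHom u] [QuasiCompact u.left]
    (hN : Flat (Limits.pullback.snd u.left (η[H] : 𝟙_ (Over (Spec (CommRingCat.of A))) ⟶ H).left)) :
    ∃ (C : Over (Spec (CommRingCat.of A))) (_ : GrpObj C) (p : G ⟶ C) (i : C ⟶ H), IsMonHom p ∧ IsMonHom i ∧ p ≫ i = u ∧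
      Flat p.left ∧ Surjective p.left ∧ LocallyOfFinitePresentation p.left ∧ IsClosedImmersion i.left := by
  haveI := GrpSchLib.HomFinite.isSeparated H
  obtain ⟨N, gN, ν, hνm, hνc, hνn, hk⟩ := GrpSchLib.exists_kernel u
  haveI := hνm; haveI := hνc
  haveI : Flat N.hom := by
    have sqL := hk.map (Over.forget _)
    have e : (toUnit N).left = N.hom := rfl
    have h2 : Flat ((Over.forget _).map (toUnit N)) := by
      rw [← sqL.isoPullback_hom_snd]
      exact (MorphismProperty.cancel_left_of_respectsIso @Flat sqL.isoPullback.hom _).2 hN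
    exact h2
  haveI : Mono ν := (Over.forget _).mono_of_mono_map (inferInstanceAs (Mono ν.left))
  haveI : LocallyOfFiniteType N.hom := by rw [← Over.w ν]; infer_instance
  obtain ⟨C, p, hf, hs, hl, sq, hsep, hlfp, hflat, -⟩ := Deform.QuotArtin.exists_quot ν
  haveI := hf; haveI := hs; haveI := hl; haveI := hlfp
  haveI := hflat ‹_›
  obtain ⟨gC, hp, -⟩ := Deform.QuotGroup.exists_grpObj ν p sq hνn
  haveI := hp
  have hrel : ∀ (T : Over (Spec (CommRingCat.of A))) (a b : T ⟶ G), a ≫ p = b ≫ p ↔ a ≫ u = b ≫ u := by
    intro T a b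
    rw [Deform.QuotGroup.comp_eq_iff ν p sq]
    constructor
    · rintro ⟨f, rfl⟩
      rw [MonObj.mul_comp, Category.assoc, hk.w, ← Category.assoc, comp_toUnit]
      show (toUnit T ≫ η[H]) * (b ≫ u) = _
      rw [← Hom.one_def, _root_.one_mul]
    · intro h
      have h1 : (a * b⁻¹) ≫ u = toUnit T ≫ η[H] := by
        rw [MonObj.mul_comp, GrpObj.inv_comp, h, mul_inv_cancel, ← Hom.one_def]
      exact ⟨hk.lift _ _ h1, by rw [hk.lift_fst, inv_mul_cancel_right]⟩
  obtain ⟨i, hi⟩ := Deform.QuotDescent.exists_descOver p u fun T x y h => (hrel T x y).1 h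
  obtain ⟨_, _, _⟩ := Deform.QuotGroup.fppf_tensor p p
  haveI := Deform.QuotDescent.epi_of_fppf (p ⊗ₘ p)
  haveI : IsMonHom i :=
    { one_hom := by rw [← IsMonHom.one_hom p, Category.assoc, hi, IsMonHom.one_hom u]
      mul_hom := by
        rw [← cancel_epi (p ⊗ₘ p), ← IsMonHom.mul_hom_assoc, hi, IsMonHom.mul_hom u,
          MonoidalCategory.tensorHom_comp_tensorHom_assoc, hi] }
  haveI : Mono i := ⟨fun {T} a b h => by
    have hcov : ∀ (T : Over (Spec (CommRingCat.of A))) (a : T ⟶ C), ∃ (T' : Over (Spec (CommRingCat.of A)))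
        (π : T' ⟶ T) (a' : T' ⟶ G), Epi π ∧ a' ≫ p = π ≫ a := by
      intro T a
      let T' : Over (Spec (CommRingCat.of A)) := Over.mk (Limits.pullback.fst a.left p.left ≫ T.hom)
      let π : T' ⟶ T := Over.homMk (Limits.pullback.fst a.left p.left) rfl
      haveI : Flat π.left := inferInstanceAs (Flat (Limits.pullback.fst a.left p.left))
      haveI : Surjective π.left := inferInstanceAs (Surjective (Limits.pullback.fst a.left p.left))
      haveI : LocallyOfFinitePresentation π.left :=
        inferInstanceAs (LocallyOfFinitePresentation (Limits.pullback.fst a.left p.left))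
      exact ⟨T', π, Over.homMk (Limits.pullback.snd a.left p.left) (by
        rw [← Over.w p, ← Limits.pullback.condition_assoc, Over.w a]; rfl), Deform.QuotDescent.epi_of_fppf π,
        Over.OverMorphism.ext Limits.pullback.condition.symm⟩
    obtain ⟨T₁, π₁, a', _, ha⟩ := hcov T a
    obtain ⟨T₂, π₂, b', _, hb⟩ := hcov T₁ (π₁ ≫ b)
    have h3 : (π₂ ≫ a') ≫ p = b' ≫ p := (hrel T₂ _ _).2 (by
      rw [← hi, Category.assoc, reassoc_of% ha, h, reassoc_of% hb])
    rw [Category.assoc, ha, hb] at h3
    rwa [cancel_epi, cancel_epi] at h3⟩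
  haveI : QuasiCompact i.left := by
    refine (quasiCompact_iff _).2 fun V hV hV' => ?_
    have h : i.left ⁻¹' V = p.left '' (u.left ⁻¹' V) := by
      rw [← hi, Over.comp_left, Scheme.Hom.comp_base, TopCat.coe_comp, Set.preimage_comp,
        Set.image_preimage_eq _ p.left.surjective]
    rw [h]
    exact (QuasiCompact.isCompact_preimage (f := u.left) V hV hV').image p.left.continuous
  exact ⟨C, gC, p, i, hp, inferInstance, hi, hf, hs, hl, Deform.QuotArtin.isClosedImmersion_hom i⟩

end Groth.Agent.S3034
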