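import Groth.Statements.S16121
import Groth.Agent.Deform.Rational.Main


set_option autoImplicit false
universe u
open CategoryTheory MonoidalCategory CartesianMonoidalCategory MonObj GrpObj AlgebraicGeometry CategoryTheory.Limits
open AlgGrp

namespace Groth.Agent.S16121
attribute [local instance] CategoryTheory.Hom.monoid CategoryTheory.Hom.group
set_option linter.style.haveILetI false
set_option maxHeartbeats 2000000
open Groth.Agent

/-- Over an algebraically closed field k, a connected linear algebraic group G (an affine, smooth,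
connected k-group scheme) is a rational variety: there are a nonempty open subscheme U of G, an n,
an open subscheme V of the affine space 𝔸ⁿ_k and an isomorphism U ≅ V compatible with the structure
morphisms to Spec k. -/
theorem result (k : Type u) [Field k] [IsAlgClosed k]
    (G : Over (Spec (CommRingCat.of k))) [GrpObj G] [IsAffine G.left] [Smooth G.hom] [ConnectedSpace ↥G.left] :
    ∃ (U : G.left.Opens) (n : ℕ) (V : (𝔸(ULift.{u} (Fin n); Spec (CommRingCat.of k))).Opens)
      (e : (U : Scheme.{u}) ≅ (V : Scheme.{u})), (U : Set ↥G.left).Nonempty ∧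
        e.hom ≫ V.ι ≫ (𝔸(ULift.{u} (Fin n); Spec (CommRingCat.of k)) ↘ Spec (CommRingCat.of k)) = U.ι ≫ G.hom := by
  obtain ⟨n, W, f, g, hf, hg, hne⟩ := Deform.Rational.ratVar_of_connected G
  haveI := hf; haveI := hg
  let ρ : MvPolynomial (Fin n) k ≃ₐ[k] MvPolynomial (ULift.{u} (Fin n)) k := MvPolynomial.renameEquiv k Equiv.ulift.symm
  let a := Deform.Rational.spEquiv ρ.symm
  haveI : IsOpenImmersion a.hom.left := Deform.Rational.isOpenImmersion_iso a
  let s := AffineSpace.SpecIso (ULift.{u} (Fin n)) (CommRingCat.of k)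
  let h : W.left ⟶ 𝔸(ULift.{u} (Fin n); Spec (CommRingCat.of k)) := g.left ≫ a.hom.left ≫ s.inv
  haveI : IsOpenImmersion h := inferInstanceAs (IsOpenImmersion (g.left ≫ a.hom.left ≫ s.inv))
  refine ⟨f.left.opensRange, n, h.opensRange, (Scheme.Hom.isoOpensRange f.left).symm ≪≫ Scheme.Hom.isoOpensRange h, ?_, ?_⟩
  · obtain ⟨w⟩ := hne
    exact ⟨f.left w, w, rfl⟩
  rw [← cancel_epi (Scheme.Hom.isoOpensRange f.left).hom]
  simp only [Iso.trans_hom, Iso.symm_hom, Category.assoc, Iso.hom_inv_id_assoc, Scheme.Hom.isoOpensRange_hom_ι_assoc]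
  show (g.left ≫ a.hom.left ≫ s.inv) ≫ _ = _
  have e1 : s.inv ≫ 𝔸(ULift.{u} (Fin n); Spec (CommRingCat.of k)) ↘ Spec (CommRingCat.of k) =
      (Groth.Agent.GrpSchLib.AffineHopf.sp k (MvPolynomial (ULift.{u} (Fin n)) k)).hom := AffineSpace.SpecIso_inv_over _
  have e2 : g.left ≫ a.hom.left ≫ (Groth.Agent.GrpSchLib.AffineHopf.sp k (MvPolynomial (ULift.{u} (Fin n)) k)).hom =
      f.left ≫ G.hom := by rw [Over.w a.hom, Over.w g, Over.w f]
  rw [Category.assoc, Category.assoc]
  exact (congrArg (fun m => g.left ≫ a.hom.left ≫ m) e1).trans e2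

end Groth.Agent.S16121
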