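import Groth.Statements.S8429
import Groth.Agent.Deform.Luna.CentralBij

set_option autoImplicit false
universe u
open CategoryTheory MonoidalCategory CartesianMonoidalCategory MonObj GrpObj AlgebraicGeometry
open SGA3x

namespace Groth.Agent.S8429
attribute [local instance] CategoryTheory.Hom.monoid CategoryTheory.Hom.group
open CategoryTheory.Limits
set_option linter.style.haveILetI false

/-- Let G, G′ be S-group schemes, smooth, separated and of finite type over S, G admitting a maximal
torus locally for the fpqc topology, and u : G → G′ a homomorphism surjective on every geometric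
fibre whose kernel is a central subgroup of G. Then T ↦ u(T) is a bijection from the maximal tori of
G onto those of G′: every maximal torus T′ of G′ is the image of a maximal torus T of G (there is a
surjective flat homomorphism T → T′ over u), and two maximal tori of G whose images in G′ coincide
are equal as subgroups of G. (The published item f) makes the same assertion for Cartan subgroups
when G′ has connected fibres; this row states the assertion on maximal tori.) -/
theorem result (S : Scheme.{u}) (G G' : Over S) [GrpObj G] [GrpObj G']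
    [Smooth G.hom] [IsSeparated G.hom] [QuasiCompact G.hom] [Smooth G'.hom] [IsSeparated G'.hom] [QuasiCompact G'.hom]
    (hG : SGA3x.HasMaxTorusFpqcLocally G) (u : G ⟶ G') [IsMonHom u]
    (hu : ∀ s : S, Surjective ((Over.pullback (Red.geomPt s)).map u).left)
    (hker : ∀ (X : Over S) (z : X ⟶ G), z ≫ u = 1 → ∀ (X' : Over S) (x : X' ⟶ X) (g : X' ⟶ G),
      (x ≫ z) * g = g * (x ≫ z)) :
    (∀ (T' : Over S) [GrpObj T'] (i' : T' ⟶ G'), Red.IsMaximalTorus i' →
      ∃ (T : Over S) (_ : GrpObj T) (i : T ⟶ G) (v : T ⟶ T'), Red.IsMaximalTorus i ∧ IsMonHom v ∧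
        v ≫ i' = i ≫ u ∧ Surjective v.left ∧ Flat v.left) ∧
    (∀ (T₁ T₂ T' : Over S) [GrpObj T₁] [GrpObj T₂] [GrpObj T'] (i₁ : T₁ ⟶ G) (i₂ : T₂ ⟶ G) (i' : T' ⟶ G')
      (v₁ : T₁ ⟶ T') (v₂ : T₂ ⟶ T'), Red.IsMaximalTorus i₁ → Red.IsMaximalTorus i₂ → Red.IsMaximalTorus i' →
      v₁ ≫ i' = i₁ ≫ u → v₂ ≫ i' = i₂ ≫ u → Surjective v₁.left → Surjective v₂.left →
      ∃ φ : T₁ ≅ T₂, φ.hom ≫ i₂ = i₁) := by
  have hk : Deform.Luna.CentralKer u := fun X z hz g => by simpa using hker X z hz X (𝟙 X) g
  haveI : Surjective u.left := Deform.Luna.surjective_of_geom u hu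
  refine ⟨fun T' _ i' hT' => ?_, fun T₁ T₂ T' _ _ _ i₁ i₂ i' v₁ v₂ h₁ h₂ h' e₁ e₂ hs₁ hs₂ => ?_⟩
  · obtain ⟨S', f, hfl, hsu, hcov, T₀, iT₀, i₀, h₀⟩ := hG
    haveI := hfl; haveI := hsu
    let F := Over.pullback f
    haveI : Smooth (Red.bc f G).hom := inferInstanceAs (Smooth (pullback.snd G.hom f))
    haveI : IsSeparated (Red.bc f G).hom := inferInstanceAs (IsSeparated (pullback.snd G.hom f))
    haveI : QuasiCompact (Red.bc f G).hom := inferInstanceAs (QuasiCompact (pullback.snd G.hom f))
    haveI : Smooth (Red.bc f G').hom := inferInstanceAs (Smooth (pullback.snd G'.hom f))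
    haveI : IsSeparated (Red.bc f G').hom := inferInstanceAs (IsSeparated (pullback.snd G'.hom f))
    haveI : QuasiCompact (Red.bc f G').hom := inferInstanceAs (QuasiCompact (pullback.snd G'.hom f))
    haveI : IsMonHom (F.map u) := inferInstanceAs (IsMonHom ((Over.pullback f).map u))
    haveI : Surjective (F.map u).left := MorphismProperty.overPullbackMap (P := @Surjective) f u ‹_›
    obtain ⟨P, iP, jP, v₀, hP, -, e₀, hv₀, -⟩ := S4147.result S' (Red.bc f G) (Red.bc f G')
      ⟨S', 𝟙 S', inferInstance, inferInstance, fun V hV => ⟨V, hV.isCompact, by simp⟩, _, _, _,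
        Deform.Luna.isMaximalTorus_bc (𝟙 S') h₀⟩ (F.map u)
      (fun s => MorphismProperty.overPullbackMap (P := @Surjective) _ (F.map u) ‹_›) T₀ i₀ h₀
    haveI := hv₀
    obtain ⟨W, c, hc, hL⟩ := Deform.Luna.exists_lift_conj (F.map u) h₀ hP v₀ e₀
      (Deform.Luna.isMaximalTorus_bc f hT')
    exact Deform.Luna.exists_lift_torus hk hT' (c ≫ f)
      (hc.comp (FpqcDescLib.isCovering_of_flat f hcov)) hL.comp
  · haveI := h₁.1; haveI := h₁.2.1; haveI := h₂.1; haveI := h₂.2.1; haveI := h'.1; haveI := h'.2.1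
    obtain ⟨f, hf⟩ := Deform.Luna.factor_of_same_image hk h₁ i₂ h₂.2.2.1 i' h'.2.2.1 v₁ e₁ v₂ e₂
    obtain ⟨f', hf'⟩ := Deform.Luna.factor_of_same_image hk h₂ i₁ h₁.2.2.1 i' h'.2.2.1 v₂ e₂ v₁ e₁
    exact ⟨{ hom := f', inv := f, hom_inv_id := by rw [← cancel_mono i₁, Category.assoc, hf, hf', Category.id_comp]
             inv_hom_id := by rw [← cancel_mono i₂, Category.assoc, hf', hf, Category.id_comp] }, hf'⟩

end Groth.Agent.S8429
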