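import Groth.Statements.S14762
import Groth.Agent.Deform.Luna.RuImage

set_option autoImplicit false
universe u
open CategoryTheory CategoryTheory.Limits MonoidalCategory CartesianMonoidalCategory MonObj GrpObj AlgebraicGeometry
open Red

namespace Groth.Agent.S14762
attribute [local instance] CategoryTheory.Hom.monoid CategoryTheory.Hom.group
/-- Over an algebraically closed field k, every quotient of a reductive group variety is reductive: if G
is a reductive k-group (affine, smooth, connected, with trivial unipotent radical) and π : G → H is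
a flat surjective homomorphism onto a k-group scheme of finite type H, then H is reductive. (The
published lemma also covers the properties complete, semisimple and solvable.) -/
theorem result (k : Type u) [Field k] [IsAlgClosed k]
    (G H : Over (Spec (CommRingCat.of k))) [GrpObj G] [GrpObj H] (hG : Red.IsReductiveOver k G)
    [QuasiCompact H.hom] [LocallyOfFiniteType H.hom]
    (π : G ⟶ H) [IsMonHom π] [Flat π.left] [Surjective π.left] :
    Red.IsReductiveOver k H := by
  haveI := hG.1; haveI := hG.2.1; haveI := hG.2.2.1
  haveI : IsAffineHom G.hom := isAffineHom_of_isAffine _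
  haveI : QuasiCompact G.hom := inferInstance
  haveI : IsReduced G.left := Agent.GrpSchLib.isReduced_of_smooth_field G.hom
  haveI := Agent.GrpSchLib.AntiAffine.isSeparated_grp H
  haveI : QuasiCompact (π.left ≫ H.hom) := by rw [Over.w π]; infer_instance
  haveI : QuasiCompact π.left := QuasiCompact.of_comp π.left H.hom
  haveI : IsReduced H.left := Agent.FBaseLib.isReduced_of_flat_surjective π.left
  haveI : Smooth H.hom := Agent.GrpSchLib.smooth_of_isReduced_of_isAlgClosed H
  haveI : ConnectedSpace H.left := π.left.surjective.connectedSpace π.left.continuous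
  obtain ⟨N, gN, iN, K, gK, κ, hiN, hiNc, hNs, hNc, hNa, -, -, -, -, -, -, -, hlift, -⟩ :=
    Deform.Borel.exists_affine_mul_central (G := H)
  haveI := hiNc; haveI := hNa
  obtain ⟨π', hπ'⟩ := hlift G π
  haveI : Surjective iN.left := ⟨fun z => by
    obtain ⟨x, hx⟩ := π.left.surjective z
    exact ⟨π'.left x, by rw [← hx, ← hπ']; rfl⟩⟩
  haveI : IsIso iN.left := isIso_of_isClosedImmersion_of_surjective iN.left
  haveI : IsAffine H.left := IsAffine.of_isIso (inv iN.left)
  refine ⟨inferInstance, inferInstance, inferInstance, fun U _ i _ hic hUs hUc hn hU => ?_⟩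
  haveI := hic; haveI := hUs; haveI := hUc
  haveI : IsAffine U.left := isAffine_of_isAffineHom i.left
  haveI : IsAffineHom U.hom := isAffineHom_of_isAffine _
  haveI : QuasiCompact U.hom := inferInstance
  haveI : IsReduced U.left := Agent.GrpSchLib.isReduced_of_smooth_field U.hom
  haveI : Mono i := (Over.forget _).mono_of_mono_map (inferInstanceAs (Mono i.left))
  obtain ⟨W, gW, w, hwm, hwc, hWs, hWc, hWn, hW, hsur⟩ := Deform.Luna.exists_noSubtorus_over π i hn hU
  haveI := hwm
  have hWt := hG.2.2.2 W w hwc hWs hWc hWn hW
  refine Deform.Borel.isTrivialGrp_of_pts fun y => ?_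
  obtain ⟨x, hx⟩ := hsur y
  rw [Deform.Borel.pts_eq_one_of_isTrivialGrp hWt x, MonObj.one_comp, MonObj.one_comp] at hx
  rw [← cancel_mono i, MonObj.one_comp, ← hx]

end Groth.Agent.S14762
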