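import Groth.Statements.S16791
import Groth.Agent.Deform.TorusAlg
import Mathlib.AlgebraicGeometry.Morphisms.FlatDescent


set_option autoImplicit false
set_option linter.style.haveILetI false
open CategoryTheory MonoidalCategory CartesianMonoidalCategory MonObj GrpObj AlgebraicGeometry
universe u
open Red

namespace Groth.Agent.S16791

open Deform (MaxAt ext)

/-- Comparison of iterated base changes. -/
noncomputable def pcH {S U U' : Scheme.{u}} (t : U' ⟶ U) (g : U ⟶ S) (H : Over S) :
    Red.bc (t ≫ g) H ⟶ Red.bc t (Red.bc g H) := (Over.pullbackComp t g).hom.app H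

/-- Its inverse. -/
noncomputable def pcI {S U U' : Scheme.{u}} (t : U' ⟶ U) (g : U ⟶ S) (H : Over S) :
    Red.bc t (Red.bc g H) ⟶ Red.bc (t ≫ g) H := (Over.pullbackComp t g).inv.app H

theorem pc_hom_inv {S U U' : Scheme.{u}} (t : U' ⟶ U) (g : U ⟶ S) (H : Over S) : pcH t g H ≫ pcI t g H = 𝟙 _ :=
  (Over.pullbackComp t g).hom_inv_id_app H

theorem pc_inv_hom {S U U' : Scheme.{u}} (t : U' ⟶ U) (g : U ⟶ S) (H : Over S) : pcI t g H ≫ pcH t g H = 𝟙 _ :=
  (Over.pullbackComp t g).inv_hom_id_app H

theorem pc_nat {S U U' : Scheme.{u}} (t : U' ⟶ U) (g : U ⟶ S) {H H' : Over S} (i : H ⟶ H') :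
    pcH t g H ≫ (Over.pullback t).map ((Over.pullback g).map i) = (Over.pullback (t ≫ g)).map i ≫ pcH t g H' :=
  ((Over.pullbackComp t g).hom.naturality i).symm

theorem isMonHom_pc {S U U' : Scheme.{u}} (t : U' ⟶ U) (g : U ⟶ S) (H : Over S) [GrpObj H] :
    IsMonHom (pcH t g H) := by
  have h := ((Functor.mapGrpNatIso (Over.pullbackComp t g) ≪≫ Functor.mapGrpCompIso).app (Grp.mk H)).hom.hom.isMonHom_hom
  have e : ((Functor.mapGrpNatIso (Over.pullbackComp t g) ≪≫ Functor.mapGrpCompIso).app (Grp.mk H)).hom.hom.hom =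
      pcH t g H := Category.comp_id _
  exact e ▸ h

/-- Maximality does not depend on the presentation of the base change. -/
theorem maxAt_congr {S : Scheme.{u}} {k : Type u} [Field k] {T G : Over S} [GrpObj T] [GrpObj G] (i : T ⟶ G)
    [IsMonHom i] {g g' : Spec (CommRingCat.of k) ⟶ S} (h : g = g') :
    MaxAt ((Over.pullback g).map i) ↔ MaxAt ((Over.pullback g').map i) := by
  subst h
  exact Iff.rfl

theorem maxAt_comp {S U : Scheme.{u}} {k : Type u} [Field k] {T G : Over S} [GrpObj T] [GrpObj G] (i : T ⟶ G)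
    [IsMonHom i] (t : Spec (CommRingCat.of k) ⟶ U) (g : U ⟶ S) :
    MaxAt ((Over.pullback (t ≫ g)).map i) ↔ MaxAt ((Over.pullback t).map ((Over.pullback g).map i)) := by
  haveI := isMonHom_pc t g T
  haveI := isMonHom_pc t g G
  haveI : IsIso (pcH t g T) := ⟨pcI t g T, pc_hom_inv t g T, pc_inv_hom t g T⟩
  haveI : IsIso (pcH t g G) := ⟨pcI t g G, pc_hom_inv t g G, pc_inv_hom t g G⟩
  haveI : IsIso (pcI t g T) := ⟨pcH t g T, pc_inv_hom t g T, pc_hom_inv t g T⟩
  haveI : IsIso (pcI t g G) := ⟨pcH t g G, pc_inv_hom t g G, pc_hom_inv t g G⟩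
  haveI : IsMonHom (pcI t g G) :=
    Deform.isMonHom_of_comp _ (pcH t g G) (i := 𝟙 (Red.bc t (Red.bc g G))) (pc_inv_hom t g G)
  constructor
  · intro hm T' _ j _ _ f hT' hf
    haveI : IsIso (pcH t g T ≫ f) := hm T' (j ≫ pcI t g G) (pcH t g T ≫ f) hT' (by
      rw [Category.assoc, ← Category.assoc f, hf, ← Category.assoc, pc_nat, Category.assoc, pc_hom_inv,
        Category.comp_id])
    exact IsIso.of_isIso_comp_left (pcH t g T) f
  · intro hm T' _ j _ _ f hT' hf
    haveI : IsIso (pcI t g T ≫ f) := hm T' (j ≫ pcH t g G) (pcI t g T ≫ f) hT' (by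
      rw [Category.assoc, ← Category.assoc f, hf, ← pc_nat, ← Category.assoc, pc_inv_hom, Category.id_comp])
    exact IsIso.of_isIso_comp_left (pcI t g T) f

/-- A geometric fibre of a base change is an extension of a geometric fibre. -/
theorem exists_geom {S S' : Scheme.{u}} (f : S' ⟶ S) (s' : S') :
    ∃ (_ : Algebra (AlgebraicClosure (S.residueField (f s'))) (AlgebraicClosure (S'.residueField s'))),
      Red.geomPt s' ≫ f =
        ext (AlgebraicClosure (S.residueField (f s'))) (AlgebraicClosure (S'.residueField s')) ≫ Red.geomPt (f s') := by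
  let φ₀ : S.residueField (f s') →+* AlgebraicClosure (S'.residueField s') :=
    (algebraMap (S'.residueField s') (AlgebraicClosure (S'.residueField s'))).comp (f.residueFieldMap s').hom
  letI : Algebra (S.residueField (f s')) (AlgebraicClosure (S'.residueField s')) := φ₀.toAlgebra
  let σ₀ : AlgebraicClosure (S.residueField (f s')) →ₐ[S.residueField (f s')]
      AlgebraicClosure (S'.residueField s') := IsAlgClosed.lift
  refine ⟨σ₀.toRingHom.toAlgebra, ?_⟩
  rw [Category.assoc, ← Scheme.Hom.SpecMap_residueFieldMap_fromSpecResidueField, ← Category.assoc, ← Category.assoc]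
  congr 1
  rw [← Spec.map_comp, ← Spec.map_comp]
  congr 1
  ext x
  exact (σ₀.commutes x).symm

theorem maxAt_descend {K L : Type u} [Field K] [IsAlgClosed K] [Field L] [Algebra K L]
    {T G : Over (Spec (CommRingCat.of K))} [GrpObj T] [GrpObj G] (i : T ⟶ G) [IsMonHom i]
    (h : MaxAt ((Over.pullback (ext K L)).map i)) : MaxAt i := by
  intro T' _ j _ _ f hT' hf
  haveI : Mono ((Over.pullback (ext K L)).map j) := inferInstance
  haveI := h (Red.bc (ext K L) T') ((Over.pullback (ext K L)).map j) ((Over.pullback (ext K L)).map f)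
    (Deform.isTorus_bc _ hT') (by rw [← Functor.map_comp, hf])
  haveI : IsIso f.left := by
    have H : IsPullback (Limits.pullback.fst T.hom (ext K L)) ((Over.pullback (ext K L)).map f).left f.left
        (Limits.pullback.fst T'.hom (ext K L)) := by
      refine IsPullback.of_bot (h₂₁ := Limits.pullback.fst T'.hom (ext K L))
        (v₂₁ := Limits.pullback.snd T'.hom (ext K L)) (v₂₂ := T'.hom) (h₃₁ := ext K L) ?_
        (Limits.pullback.lift_fst _ _ _).symm (IsPullback.of_hasPullback _ _)
      have h1 : ((Over.pullback (ext K L)).map f).left ≫ Limits.pullback.snd T'.hom (ext K L) =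
          Limits.pullback.snd T.hom (ext K L) := Limits.pullback.lift_snd _ _ _
      rw [h1, Over.w f]
      exact IsPullback.of_hasPullback _ _
    haveI : Flat (ext K L) := (HasRingHomProperty.Spec_iff (P := @Flat)).mpr
      (RingHom.flat_algebraMap_iff.mpr inferInstance)
    haveI : Surjective (ext K L) := ⟨fun x => ⟨Classical.arbitrary _, Subsingleton.elim _ _⟩⟩
    refine MorphismProperty.of_isPullback_of_descendsAlong (P := MorphismProperty.isomorphisms Scheme.{u})
      (Q := @Surjective ⊓ @Flat ⊓ @QuasiCompact) H.flip.flip.flip ⟨⟨?_, ?_⟩, ?_⟩ ?_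
    · exact MorphismProperty.pullback_fst (P := @Surjective) _ _ ‹_›
    · exact MorphismProperty.pullback_fst (P := @Flat) _ _ ‹_›
    · exact MorphismProperty.pullback_fst (P := @QuasiCompact) _ _ inferInstance
    · show IsIso ((Over.forget _).map ((Over.pullback (ext K L)).map f))
      infer_instance
  haveI : IsIso ((Over.forget _).map f) := ‹IsIso f.left›
  exact isIso_of_reflects_iso f (Over.forget _)

/-- For a smooth affine group scheme G over a scheme S, a subtorus T ⊆ G and a surjective morphism S' →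
S, T is a maximal torus of G (geometric fibres maximal) if and only if T_{S'} is a maximal torus of
G_{S'}. -/
theorem result {S S' : Scheme.{u}} {G T : Over S} [GrpObj G] [GrpObj T]
    (hG : Smooth G.hom) (hGa : IsAffineHom G.hom) (i : T ⟶ G) [IsMonHom i] [Mono i] (hT : Red.IsTorus T)
    (f : S' ⟶ S) (hf : Surjective f) :
    Red.IsMaximalTorus i ↔ Red.IsMaximalTorus ((Over.pullback f).map i) := by
  haveI := hG
  haveI := hGa
  haveI := hf
  have hT' := Deform.isTorus_bc f hT
  have key : ∀ s' : S', MaxAt ((Over.pullback (Red.geomPt s')).map ((Over.pullback f).map i)) ↔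
      MaxAt ((Over.pullback (Red.geomPt (f s'))).map i) := by
    intro s'
    obtain ⟨_, he⟩ := exists_geom f s'
    rw [← maxAt_comp, maxAt_congr i he, maxAt_comp]
    refine ⟨maxAt_descend _, fun h => ?_⟩
    haveI : IsAffine (Red.bc (Red.geomPt (f s')) G).left :=
      haveI : IsAffineHom (Red.bc (Red.geomPt (f s')) G).hom :=
        inferInstanceAs (IsAffineHom (Limits.pullback.snd G.hom _))
      isAffine_of_isAffineHom (Red.bc (Red.geomPt (f s')) G).hom
    haveI : LocallyOfFiniteType (Red.bc (Red.geomPt (f s')) G).hom :=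
      inferInstanceAs (LocallyOfFiniteType (Limits.pullback.snd G.hom _))
    exact Deform.maxAt_bc (GrpSchLib.MultTypeBC.isMultTypeFT_bc _ (Deform.isMultTypeFT_of_isTorus hT)) _ h
  constructor
  · rintro ⟨-, -, -, h⟩
    exact ⟨inferInstance, inferInstance, hT', fun s' => (key s').mpr (h (f s'))⟩
  · rintro ⟨-, -, -, h⟩
    refine ⟨inferInstance, inferInstance, hT, fun s => ?_⟩
    obtain ⟨s', rfl⟩ := f.surjective s
    exact (key s').mp (h s')

end Groth.Agent.S16791
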