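import Groth.Statements.S8431
import Groth.Agent.Deform.TorusAlg
import Groth.Agent.Deform.QuotGroup
import Groth.Agent.GrpSchLib.HomUnitLocus
import Groth.Agent.GrpSchLib.AntiAffine
import Groth.Agent.GrpSchLib.MultTypeComm

set_option autoImplicit false
universe u
open CategoryTheory MonoidalCategory CartesianMonoidalCategory MonObj GrpObj AlgebraicGeometry
open SGA3x

namespace Groth.Agent.S8431
open CategoryTheory.Limits
set_option linter.style.haveILetI false
set_option backward.isDefEq.respectTransparency false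
set_option backward.isDefEq.respectTransparency.types false

attribute [local instance] CategoryTheory.Hom.monoid CategoryTheory.Hom.group

theorem comm_of_central {M : Type*} [Group M] (a b v w : M) (hv : ∀ r, v * r = r * v) (hw : ∀ r, w * r = r * w) :
    a * v * (b * w) * (a * v)⁻¹ * (b * w)⁻¹ = a * b * a⁻¹ * b⁻¹ := by
  have e : a * v * (b * w) = (a * b) * (v * w) := by rw [mul_assoc a v, ← mul_assoc v b, hv b]; group
  rw [e, _root_.mul_inv_rev, _root_.mul_inv_rev]
  have h : (a * b) * (v * w) * (v⁻¹ * a⁻¹) = a * b * (w * a⁻¹) := by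
    rw [hv w]; group
  rw [h, hw a⁻¹]
  group

theorem comm_mul_left {M : Type*} [Group M] (a a' b : M)
    (h : ∀ r, (a' * b * a'⁻¹ * b⁻¹) * r = r * (a' * b * a'⁻¹ * b⁻¹)) :
    a * a' * b * (a * a')⁻¹ * b⁻¹ = (a * b * a⁻¹ * b⁻¹) * (a' * b * a'⁻¹ * b⁻¹) := by
  calc a * a' * b * (a * a')⁻¹ * b⁻¹
      = a * ((a' * b * a'⁻¹ * b⁻¹) * (b * a⁻¹ * b⁻¹)) := by group
    _ = (a * b * a⁻¹ * b⁻¹) * (a' * b * a'⁻¹ * b⁻¹) := by rw [h]; group

theorem connectedSpace_torus {k : Type u} [Field k] {T : Over (Spec (CommRingCat.of k))} [GrpObj T]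
    (hT : Red.IsTorus T) : ConnectedSpace T.left := by
  let K := AlgebraicClosure k
  let t : Spec (CommRingCat.of K) ⟶ Spec (CommRingCat.of k) := Spec.map (CommRingCat.ofHom (algebraMap k K))
  obtain ⟨r, ⟨e⟩⟩ := Groth.Agent.Deform.exists_split (Red.bc t T) (Groth.Agent.Deform.isTorus_bc t hT)
  obtain ⟨d⟩ := Groth.Agent.GrpSchLib.AffineHopf.nonempty_DS_iso K (Fin r → ℤ)
  let i := (d ≪≫ e.symm)
  let f := i.hom.hom.hom.left ≫ pullback.fst T.hom t
  haveI : Surjective t := ⟨fun x => ⟨IsLocalRing.closedPoint K, Subsingleton.elim (α := PrimeSpectrum k) _ _⟩⟩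
  haveI : IsIso i.hom.hom.hom.left :=
    inferInstanceAs (IsIso ((Over.forget _).map ((Grp.forget _).map i.hom)))
  haveI : Surjective f := inferInstanceAs (Surjective (i.hom.hom.hom.left ≫ pullback.fst T.hom t))
  haveI : IsDomain (MonoidAlgebra K (Multiplicative (Fin r → ℤ))) := NoZeroDivisors.to_isDomain _
  haveI : ConnectedSpace ↥(Groth.Agent.GrpSchLib.AffineHopf.sp K (MonoidAlgebra K (Multiplicative (Fin r → ℤ)))).left :=
    inferInstanceAs (ConnectedSpace (PrimeSpectrum (MonoidAlgebra K (Multiplicative (Fin r → ℤ)))))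
  exact f.surjective.connectedSpace f.continuous


/-- Let G be an algebraic group over a field k and Z a central algebraic subgroup such that G′ = G/Z is
a torus. Then G is commutative. Here q : G → G′ is a homomorphism representing the fppf quotient of
G by Z, and G′ is a k-torus. -/
theorem result (k : Type u) [Field k]
    (G : Over (Spec (CommRingCat.of k))) [GrpObj G] [QuasiCompact G.hom] [LocallyOfFiniteType G.hom]
    (Z : Over (Spec (CommRingCat.of k))) [GrpObj Z] (z : Z ⟶ G) [IsMonHom z] [Mono z]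
    (hz : ∀ (X : Over (Spec (CommRingCat.of k))) (x : X ⟶ Z) (g : X ⟶ G), (x ≫ z) * g = g * (x ≫ z))
    (G' : Over (Spec (CommRingCat.of k))) [GrpObj G'] (q : G ⟶ G') [IsMonHom q] (hq : RedSub.IsQuotient z q) (hT : Red.IsTorus G') :
    ∀ (X : Over (Spec (CommRingCat.of k))) (g h : X ⟶ G), g * h = h * g := by
  obtain ⟨hs, hf, hlfp, hpb⟩ := hq
  haveI := hs
  haveI := hf
  haveI := hlfp
  have hMT : SGA3x.IsMultTypeFT G' := Groth.Agent.Deform.isMultTypeFT_of_isTorus hT
  haveI : IsSeparated G.hom := Groth.Agent.GrpSchLib.AntiAffine.isSeparated_grp G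
  have hzq : ∀ (X : Over (Spec (CommRingCat.of k))) (w : X ⟶ Z), (w ≫ z) ≫ q = 1 := fun X w => by
    have h1 := congrArg (lift (1 : X ⟶ G) w ≫ ·) hpb.w
    simp only [lift_fst_assoc] at h1
    rw [← Category.assoc (lift (1 : X ⟶ G) w), lift_whiskerLeft_assoc, ← Hom.mul_def,
      _root_.one_mul, MonObj.one_comp] at h1
    exact h1.symm
  have hker : ∀ (X : Over (Spec (CommRingCat.of k))) (a b : X ⟶ G), a ≫ q = b ≫ q →
      ∃ w : X ⟶ Z, b = a * (w ≫ z) := fun X a b h => by
    obtain ⟨r, h1, h2⟩ := hpb.exists_lift a b h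
    refine ⟨r ≫ snd G Z, ?_⟩
    rw [← h2, ← h1, Hom.mul_def, ← Category.assoc r (G ◁ z) μ[G]]
    congr 1
    apply CartesianMonoidalCategory.hom_ext <;> simp
  have hcomm : ∀ (X : Over (Spec (CommRingCat.of k))) (a b : X ⟶ G'), a * b = b * a :=
    fun X a b => Groth.Agent.GrpSchLib.MultTypeComm.points_comm hMT a b
  -- commutators lie in `Z`, hence are central
  have hcen : ∀ (X : Over (Spec (CommRingCat.of k))) (a b r : X ⟶ G),
      (a * b * a⁻¹ * b⁻¹) * r = r * (a * b * a⁻¹ * b⁻¹) := fun X a b r => by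
    have h1 : (1 : X ⟶ G) ≫ q = (a * b * a⁻¹ * b⁻¹) ≫ q := by
      simp only [MonObj.one_comp, MonObj.mul_comp, GrpObj.inv_comp, hcomm X (a ≫ q) (b ≫ q)]
      group
    obtain ⟨w, hw⟩ := hker X _ _ h1
    rw [hw, _root_.one_mul]
    exact hz X w r
  let c : G ⊗ G ⟶ G := fst G G * snd G G * (fst G G)⁻¹ * (snd G G)⁻¹
  have hc : ∀ (X : Over (Spec (CommRingCat.of k))) (a b : X ⟶ G), lift a b ≫ c = a * b * a⁻¹ * b⁻¹ := fun X a b => by
    simp [c, MonObj.comp_mul, GrpObj.comp_inv]
  obtain ⟨_, _, _⟩ := Groth.Agent.Deform.QuotGroup.fppf_tensor q q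
  obtain ⟨c', hc'⟩ := Groth.Agent.Deform.QuotDescent.exists_descOver (q ⊗ₘ q) c fun X x y h => by
    have ha := congrArg (· ≫ fst G' G') h
    have hb := congrArg (· ≫ snd G' G') h
    simp only [Category.assoc, tensorHom_fst, tensorHom_snd] at ha hb
    rw [← Category.assoc, ← Category.assoc] at ha hb
    obtain ⟨v, hv⟩ := hker X _ _ ha
    obtain ⟨w, hw⟩ := hker X _ _ hb
    have ex : x = lift (x ≫ fst G G) (x ≫ snd G G) := by apply CartesianMonoidalCategory.hom_ext <;> simp
    have ey : y = lift (y ≫ fst G G) (y ≫ snd G G) := by apply CartesianMonoidalCategory.hom_ext <;> simp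
    rw [ex, ey, hc, hc, hv, hw]
    exact (comm_of_central (x ≫ fst G G) (x ≫ snd G G) (v ≫ z) (w ≫ z) (fun r => hz X v r) (fun r => hz X w r)).symm
  have hcq : ∀ (X : Over (Spec (CommRingCat.of k))) (a b : X ⟶ G),
      lift (a ≫ q) (b ≫ q) ≫ c' = a * b * a⁻¹ * b⁻¹ := fun X a b => by
    rw [show lift (a ≫ q) (b ≫ q) = lift a b ≫ (q ⊗ₘ q) from (lift_map a b q q).symm, Category.assoc, hc', hc]
  -- linearity in the first variable
  obtain ⟨_, _, _⟩ := Groth.Agent.Deform.QuotGroup.fppf_tensor (q ⊗ₘ q) q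
  haveI := Groth.Agent.Deform.QuotDescent.epi_of_fppf ((q ⊗ₘ q) ⊗ₘ q)
  have hlin₀ : lift (fst (G' ⊗ G') G' ≫ fst G' G' * fst (G' ⊗ G') G' ≫ snd G' G') (snd (G' ⊗ G') G') ≫ c'
      = lift (fst (G' ⊗ G') G' ≫ fst G' G') (snd (G' ⊗ G') G') ≫ c' *
        lift (fst (G' ⊗ G') G' ≫ snd G' G') (snd (G' ⊗ G') G') ≫ c' := by
    rw [← cancel_epi ((q ⊗ₘ q) ⊗ₘ q)]
    simp only [← Category.assoc, comp_lift, MonObj.comp_mul, tensorHom_fst, tensorHom_snd]
    simp only [Category.assoc, tensorHom_fst, tensorHom_snd]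
    simp only [← Category.assoc]
    rw [← MonObj.mul_comp, hcq, hcq, hcq]
    exact comm_mul_left _ _ _ (hcen _ _ _)
  have hlin : ∀ (X : Over (Spec (CommRingCat.of k))) (x x' y : X ⟶ G'),
      lift (x * x') y ≫ c' = lift x y ≫ c' * lift x' y ≫ c' := fun X x x' y => by
    have h := congrArg (lift (lift x x') y ≫ ·) hlin₀
    simp only [MonObj.comp_mul, comp_lift_assoc, lift_fst, lift_snd, lift_fst_assoc] at h
    exact h
  have hone : lift (𝟙 G') (1 : G' ⟶ G') ≫ c' = 1 := by
    haveI := Groth.Agent.Deform.QuotDescent.epi_of_fppf q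
    rw [← cancel_epi q, ← Category.assoc, comp_lift, Category.comp_id, MonObj.comp_one, MonObj.comp_one]
    calc lift q 1 ≫ c' = lift (𝟙 G ≫ q) ((1 : G ⟶ G) ≫ q) ≫ c' := by rw [Category.id_comp, MonObj.one_comp]
      _ = _ := by rw [hcq]; group
  -- the family of homomorphisms `x ↦ c' (x, y)` parametrised by `y`
  let g : G'.left ⟶ Spec (CommRingCat.of k) := G'.hom
  let u : Red.bc g G' ⟶ Red.bc g G := Over.homMk
    (pullback.lift c'.left (pullback.snd G'.hom g) ((Over.w c').trans pullback.condition)) (pullback.lift_snd _ _ _)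
  let pt : ∀ Y : Over G'.left, (Over.map g).obj Y ⟶ G' := fun Y => Over.homMk Y.hom rfl
  have hθ : ∀ (Y : Over G'.left) (a : Y ⟶ Red.bc g G'),
      DSPtsLib.theta g (a ≫ u) = lift (DSPtsLib.theta g a) (pt Y) ≫ c' := fun Y a => by
    apply Over.OverMorphism.ext
    have e : a.left = (lift (DSPtsLib.theta g a) (pt Y)).left := by
      apply pullback.hom_ext
      · exact (congrArg CommaMorphism.left (lift_fst (DSPtsLib.theta g a) (pt Y))).symm
      · exact (Over.w a).trans (congrArg CommaMorphism.left (lift_snd (DSPtsLib.theta g a) (pt Y))).symm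
    rw [DSPtsLib.theta_left, Over.comp_left, Category.assoc]
    show a.left ≫ pullback.lift c'.left _ _ ≫ pullback.fst _ _ = _
    rw [pullback.lift_fst, e]
    rfl
  have humul : ∀ (Y : Over G'.left) (a b : Y ⟶ Red.bc g G'), (a * b) ≫ u = a ≫ u * b ≫ u := fun Y a b => by
    apply (DSPtsLib.theta_bijective g).1
    rw [DSPtsLib.theta_mul, hθ, hθ, hθ, DSPtsLib.theta_mul, hlin]
  haveI : IsMonHom u :=
    { one_hom := by
        have h := humul (𝟙_ (Over G'.left)) 1 1
        rw [_root_.one_mul] at h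
        have h1 := left_eq_mul.mp h
        simpa [MonObj.one_eq_one] using h1
      mul_hom := by
        rw [MonObj.mul_eq_mul, humul, Hom.mul_def]
        congr 1 }
  haveI : IsSeparated (Red.bc g G).hom := inferInstanceAs (IsSeparated (pullback.snd G.hom g))
  haveI : LocallyOfFiniteType (Red.bc g G).hom := inferInstanceAs (LocallyOfFiniteType (pullback.snd G.hom g))
  obtain ⟨U, hUc, hU, hUt⟩ := Groth.Agent.GrpSchLib.HomUnitLocus.main (u := u)
    (Groth.Agent.GrpSchLib.MultTypeBC.isMultTypeFT_bc g hMT) (Or.inr inferInstance)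
  let e₀ : Spec (CommRingCat.of k) ⟶ G'.left := η[G'].left
  have he : e₀ (IsLocalRing.closedPoint k) ∈ U := by
    rw [hU, ← Groth.Agent.GrpSchLib.HomUnitLocus.triv_iff_of_field (u := u) e₀]
    intro Y q₀ a
    apply (DSPtsLib.theta_bijective g).1
    rw [hθ, Groth.Agent.GrpSchLib.HomUnitLocus.theta_one]
    have e : pt Y = 1 := by
      apply Over.OverMorphism.ext
      rw [show (1 : (Over.map g).obj Y ⟶ G') = toUnit _ ≫ η[G'] from rfl, Over.comp_left]
      show Y.hom = (toUnit ((Over.map g).obj Y)).left ≫ η[G'].left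
      have : (toUnit ((Over.map g).obj Y)).left = q₀.left := by
        have h1 := Over.w (toUnit ((Over.map g).obj Y))
        have h2 := Over.w q₀
        simp only [Over.map_obj_hom, Functor.id_obj] at h1
        change _ ≫ 𝟙 _ = _ at h1
        rw [Category.comp_id] at h1
        rw [h1]
        change Y.hom ≫ g = _
        rw [← h2]
        show (q₀.left ≫ e₀) ≫ G'.hom = q₀.left
        rw [Category.assoc, show e₀ ≫ G'.hom = 𝟙 _ from Over.w η[G']]
        exact Category.comp_id _
      rw [this]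
      exact (Over.w q₀).symm
    rw [e]
    have := congrArg (DSPtsLib.theta g a ≫ ·) hone
    simpa only [comp_lift_assoc, Category.comp_id, MonObj.comp_one] using this
  haveI := connectedSpace_torus hT
  have htop : (U : Set G'.left) = Set.univ := (IsClopen.eq_univ ⟨hUc, U.2⟩ ⟨_, he⟩)
  have hu1 : u = 1 := by
    have h1 := hUt (Red.bc g G') (Over.homMk (IsOpenImmersion.lift U.ι (Red.bc g G').hom (by
      intro x _
      exact ⟨⟨x, show x ∈ (U : Set G'.left) by rw [htop]; trivial⟩, rfl⟩)) (IsOpenImmersion.lift_fac _ _ _)) (𝟙 _)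
    simpa using h1
  have hc1 : c' = 1 := by
    have h1 := hθ _ (𝟙 (Red.bc g G'))
    rw [Category.id_comp, hu1, Groth.Agent.GrpSchLib.HomUnitLocus.theta_one] at h1
    let e : G' ⊗ G' ⟶ (Over.map g).obj (Red.bc g G') := Over.homMk (𝟙 _) (by
      show 𝟙 _ ≫ pullback.snd G'.hom g ≫ g = (G' ⊗ G').hom
      rw [Category.id_comp, Over.tensorObj_hom]
      exact pullback.condition.symm)
    have e1 : e ≫ lift (DSPtsLib.theta g (𝟙 (Red.bc g G'))) (pt _) = 𝟙 _ := by
      apply CartesianMonoidalCategory.hom_ext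
      · rw [Category.assoc, lift_fst, Category.id_comp]
        apply Over.OverMorphism.ext
        simp [e, DSPtsLib.theta_left]
        rfl
      · rw [Category.assoc, lift_snd, Category.id_comp]
        apply Over.OverMorphism.ext
        simp [e, pt]
        rfl
    have h2 := congrArg (e ≫ ·) h1.symm
    simpa only [← Category.assoc, e1, Category.id_comp, MonObj.comp_one] using h2
  intro X a b
  have h := hcq X a b
  rw [hc1, MonObj.comp_one] at h
  have h2 : a * b * a⁻¹ * b⁻¹ = 1 := h.symm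
  rw [mul_inv_eq_one, mul_inv_eq_iff_eq_mul] at h2
  exact h2

end Groth.Agent.S8431
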