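import Groth.Statements.S1223
import Groth.Agent.H4RG.FiberTools
-- import your own Groth.Agent.* helpers here

set_option autoImplicit false
set_option backward.isDefEq.respectTransparency.types false
set_option linter.style.haveILetI false
universe u
open FlatMor

open scoped TensorProduct
attribute [local instance] Algebra.TensorProduct.rightAlgebra
namespace Groth.Agent.S1223

open AlgebraicGeometry CategoryTheory Limits in
/-- A base change to a field of an algebra with geometrically integral fibres is a domain. -/
theorem isDomain_tensor {A B : Type u} [CommRing A] [CommRing B] [Algebra A B]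
    (h : FlatCA.GeomIntegralFibres A B) (K : Type u) [Field K] [Algebra A K] : IsDomain (B ⊗[A] K) := by
  haveI := h
  haveI : IsIntegral (pullback (Spec.map (CommRingCat.ofHom (algebraMap A B))) (Spec.map (CommRingCat.ofHom (algebraMap A K)))) :=
    pullback_of_geometrically GeometricallyIntegral.geometrically_isIntegral K _
  haveI : Nonempty (Spec (.of (B ⊗[A] K))) := ⟨(pullbackSpecIso A B K).hom (Nonempty.some inferInstance)⟩
  haveI : IsIntegral (Spec (.of (B ⊗[A] K))) := isIntegral_of_isOpenImmersion (pullbackSpecIso A B K).inv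
  exact (affine_isIntegral_iff (CommRingCat.of (B ⊗[A] K))).1 inferInstance



/-- Ring form, X = Spec B affine: a finite type, flat A-algebra B with geometrically integral fibres is
universally pure relative to Spec A. -/
theorem result {A B : Type u} [CommRing A] [CommRing B] [Algebra A B] [Algebra.FiniteType A B] [Module.Flat A B]
    (h : FlatCA.GeomIntegralFibres A B) : FlatCA.IsUnivPure A B B := by
  intro p hp A' B' N' _ _ _ _ _ _ _ _ _ _ _ _ _ _ f t' t _ _ P _ ⟨hpush, hbc, hle, _, hPt, hass, hno⟩
  haveI := hpush
  haveI : Algebra.IsPushout A A' B B' := Algebra.IsPushout.symm inferInstance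
  haveI : Module.Flat A' B' :=
    Module.Flat.of_linearEquiv (Algebra.IsPushout.equiv A A' B B').toLinearEquiv.symm
  have hdom : ∀ (T : Ideal A') [T.IsPrime], IsDomain (T.Fiber B') := fun T _ => by
    haveI := isDomain_tensor h T.ResidueField
    exact (((Algebra.TensorProduct.congr (AlgEquiv.refl : T.ResidueField ≃ₐ[T.ResidueField] T.ResidueField) (Algebra.IsPushout.equiv A A' B B').symm).toRingEquiv.trans
      (Algebra.TensorProduct.cancelBaseChange A A' T.ResidueField T.ResidueField B).toRingEquiv).trans
      (Algebra.TensorProduct.comm A T.ResidueField B).toRingEquiv).toMulEquiv.isDomain _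
  -- the only associated point of an integral fibre is the generic one
  haveI := hdom t'
  let eN : N' ≃ₗ[B'] B' := hbc.equiv.symm.trans (TensorProduct.AlgebraTensorModule.rid B B' B')
  let eF : FlatCA.fiberMod t' B' N' ≃ₗ[t'.Fiber B'] t'.Fiber B' :=
    (TensorProduct.AlgebraTensorModule.congr (LinearEquiv.refl _ _) eN).trans
      (TensorProduct.AlgebraTensorModule.rid B' (t'.Fiber B') (t'.Fiber B'))
  have hbot : ∀ x ∈ P, Algebra.TensorProduct.includeRight (R := A') (A := t'.ResidueField) (B := B') x = 0 := by
    intro x hx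
    obtain ⟨m, hm0, hm⟩ := H4RG.exists_smul_eq_zero_of_mem_assoc hass (Ideal.mem_map_of_mem _ hx)
    have : Algebra.TensorProduct.includeRight (R := A') (A := t'.ResidueField) (B := B') x • eF m = 0 := by
      rw [← map_smul]; exact (congrArg eF hm).trans (map_zero eF)
    exact (mul_eq_zero.1 this).resolve_right fun h0 => hm0 (eF.injective (h0.trans (map_zero eF).symm))
  -- going down from the fibre over `t`
  haveI := hdom t
  obtain ⟨z⟩ : Nonempty (PrimeSpectrum (t.Fiber B')) := inferInstance
  let Q := z.asIdeal.comap (algebraMap B' (t.Fiber B'))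
  haveI : Q.IsPrime := Ideal.comap_isPrime _ _
  have hfib : ∀ (T : Ideal A') [T.IsPrime] (Z : Ideal (T.Fiber B')) [Z.IsPrime],
      (Z.comap (algebraMap B' (T.Fiber B'))).comap (algebraMap A' B') = T := fun T _ Z hZ => by
    rw [Ideal.comap_comap, ← IsScalarTower.algebraMap_eq, IsScalarTower.algebraMap_eq A' T.ResidueField (T.Fiber B'),
      ← Ideal.comap_comap, show Z.comap (algebraMap T.ResidueField (T.Fiber B')) = ⊥ from
        (Ideal.eq_bot_or_top _).resolve_right (Ideal.comap_ne_top _ hZ.ne_top), ← RingHom.ker_eq_comap_bot,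
      Ideal.ker_algebraMap_residueField]
  haveI : Q.LiesOver t := ⟨(hfib t z.asIdeal).symm⟩
  obtain ⟨P'', hle', hP'', hP''o⟩ := Ideal.exists_ideal_le_liesOver_of_le (p := t') (q := t) Q hle
  obtain ⟨z', hz'⟩ := (PrimeSpectrum.preimageEquivFiber A' B' ⟨t', inferInstance⟩).symm.surjective ⟨⟨P'', hP''⟩, PrimeSpectrum.ext hP''o.over.symm⟩
  refine hno Q (le_trans (fun x hx => ?_) hle') inferInstance
  have : x ∈ z'.asIdeal.comap (algebraMap B' (t'.Fiber B')) := by
    rw [Ideal.mem_comap, show algebraMap B' (t'.Fiber B') x = 0 from hbot x hx]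
    exact zero_mem _
  have h2 := congrArg (fun w => w.1.asIdeal) hz'
  rwa [show z'.asIdeal.comap (algebraMap B' (t'.Fiber B')) = P'' from h2] at this

end Groth.Agent.S1223
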