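import Groth.Statements.S8933
import Groth.Agent.RGammaI.Basic
-- import your own Groth.Agent.* helpers here

set_option autoImplicit false
universe u
open CategoryTheory CategoryTheory.Limits
attribute [local instance] HasDerivedCategory.standard
open LocCoh

namespace Groth.Agent.S8933

/-- For a ring A, a finitely generated ideal I and a complex K of A-modules such that multiplication by
some f ∈ I is bijective on every term of K, the object RΓ_I(K) of D(A) is zero; here RΓ_I is the
right derived functor of the I-power torsion functor, assumed to exist. -/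
theorem result (A : Type u) [CommRing A] (I : Ideal A) (hI : I.FG) [DRing.HasRgammaI I] (K : CochainComplex (ModuleCat.{u} A) ℤ) (f : A) (hf : f ∈ I) (hK : ∀ n : ℤ, Function.Bijective (fun x : K.X n => f • x)) : IsZero ((DRing.RgammaI I).obj (DerivedCategory.Q.obj K)) := by
  obtain ⟨J, i, hJ, hi, -, -⟩ := TriCat.exists_kInjective_resolution'.{u} K
  haveI := hJ
  haveI := hi
  haveI : IsIso (DerivedCategory.Q.map i) := (DerivedCategory.isIso_Q_map_iff_quasiIso _ _).2 hi
  haveI : ∀ n, IsIso ((f • 𝟙 K : K ⟶ K).f n) := fun n => by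
    rw [ConcreteCategory.isIso_iff_bijective]
    exact hK n
  haveI : IsIso (f • 𝟙 K : K ⟶ K) := HomologicalComplex.Hom.isIso_of_components _
  haveI : QuasiIso (f • 𝟙 J : J ⟶ J) := by
    rw [← DerivedCategory.isIso_Q_map_iff_quasiIso]
    have e : DerivedCategory.Q.map (f • 𝟙 J) =
        inv (DerivedCategory.Q.map i) ≫ DerivedCategory.Q.map (f • 𝟙 K) ≫ DerivedCategory.Q.map i := by
      rw [IsIso.eq_inv_comp, ← DerivedCategory.Q.map_comp, ← DerivedCategory.Q.map_comp]
      simp
    rw [e]
    infer_instance
  haveI := RGammaI.quasiIso_map_of_isKInjective (DRing.gammaI I) (f • 𝟙 J)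
  let G := ((DRing.gammaI I).mapHomologicalComplex (ComplexShape.up ℤ)).obj J
  have hG : ∀ n, IsZero (G.homology n) := fun n => by
    have e : HomologicalComplex.homologyMap
        (((DRing.gammaI I).mapHomologicalComplex (ComplexShape.up ℤ)).map (f • 𝟙 J)) n =
          f • 𝟙 (G.homology n) := by
      rw [Functor.map_smul, CategoryTheory.Functor.map_id]
      have h' : (HomologicalComplex.shortComplexFunctor (ModuleCat.{u} A) (ComplexShape.up ℤ) n).map (f • 𝟙 G) =
          f • 𝟙 (G.sc n) := by
        ext <;> simp <;> rfl
      change ShortComplex.homologyMap ((HomologicalComplex.shortComplexFunctor (ModuleCat.{u} A) (ComplexShape.up ℤ) n).map (f • 𝟙 G)) = _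
      rw [h', ShortComplex.homologyMap_smul, ShortComplex.homologyMap_id]
      rfl
    have hinj : Function.Injective (fun x : G.homology n => f • x) := by
      have h : IsIso (HomologicalComplex.homologyMap
          (((DRing.gammaI I).mapHomologicalComplex (ComplexShape.up ℤ)).map (f • 𝟙 J)) n) := inferInstance
      rw [e] at h
      exact ((ConcreteCategory.isIso_iff_bijective _).1 h).1
    have hkill : ∀ (k : ℕ) (x : G.homology n), f ^ k • x = 0 → x = 0 := fun k => by
      induction k with
      | zero => exact fun x hx => by rwa [pow_zero, one_smul] at hx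
      | succ k ih => exact fun x hx => ih x (hinj (by
          show f • (f ^ k • x) = f • (0 : G.homology n)
          rw [smul_smul, ← pow_succ', hx, smul_zero]))
    haveI : Subsingleton (G.homology n) := ⟨fun x y => by
      obtain ⟨z, hz⟩ := (ModuleCat.epi_iff_surjective (G.homologyπ n)).1 inferInstance (x - y)
      obtain ⟨k, hk⟩ := ((G.iCycles n) z : DRing.torsionSub I (J.X n)).2
      have hzk : f ^ k • z = 0 := by
        apply (ModuleCat.mono_iff_injective (G.iCycles n)).1 inferInstance
        rw [map_smul, map_zero]
        exact Subtype.ext (hk _ (Ideal.pow_mem_pow hf k))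
      refine sub_eq_zero.1 (hkill k _ ?_)
      rw [← hz, ← map_smul, hzk, map_zero]⟩
    exact ModuleCat.isZero_of_subsingleton _
  have hQ : IsZero (DerivedCategory.Q.obj G) := by
    haveI : QuasiIso (0 : G ⟶ G) := ⟨fun n => by
      rw [quasiIsoAt_iff_isIso_homologyMap]
      exact ⟨0, (hG n).eq_of_src _ _, (hG n).eq_of_src _ _⟩⟩
    haveI : IsIso (DerivedCategory.Q.map (0 : G ⟶ G)) :=
      (DerivedCategory.isIso_Q_map_iff_quasiIso _ _).2 inferInstance
    rw [IsZero.iff_id_eq_zero, ← cancel_epi (DerivedCategory.Q.map (0 : G ⟶ G))]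
    simp
  exact (hQ.of_iso (RGammaI.isoOfKInjective I J).symm).of_iso
    ((DRing.RgammaI I).mapIso (asIso (DerivedCategory.Q.map i)))


end Groth.Agent.S8933
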