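import Groth.Statements.S1786
import Groth.Agent.RGammaI.GorLocus
import Groth.Agent.KFlatLib.Ring.RelDualizing
import Groth.Agent.KFlatLib.Ring.DualizingFibre
import Groth.Agent.H9Misc.DRingMinimal
-- import your own Groth.Agent.* helpers here

set_option autoImplicit false
universe u
open CategoryTheory
attribute [local instance] HasDerivedCategory.standard
open scoped TensorProduct
open Dual2

namespace Groth.Agent.S1786

open CategoryTheory.Limits Groth.Agent.KFlatLib

set_option linter.style.haveILetI false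
set_option backward.isDefEq.respectTransparency false
set_option maxHeartbeats 1000000

lemma nonempty_LBase_inD_shift {A B : Type u} [CommRing A] [CommRing B] (φ : A →+* B) [DTen.HasLBase φ] (m : ℤ) :
    Nonempty ((DTen.LBase φ).obj ((Dual.inD A A)⟦m⟧) ≅ (Dual.inD B B)⟦m⟧) := by
  obtain ⟨s⟩ := nonempty_LBase_shift φ m
  obtain ⟨u⟩ := nonempty_LBase_unit φ
  exact ⟨s.app _ ≪≫ (shiftFunctor (Dual.D B) m).mapIso
    ((DTen.LBase φ).mapIso ((DerivedCategory.singleFunctorIsoCompQ (ModuleCat.{u} A) 0).app (ModuleCat.of A A)) ≪≫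
      u ≪≫ ((DerivedCategory.singleFunctorIsoCompQ (ModuleCat.{u} B) 0).app (ModuleCat.of B B)).symm)⟩

/-- A complex over a Noetherian local ring with one dimensional reduction is a shifted free module. -/
lemma exists_hd_of_residue_iso {B : Type u} [CommRing B] [IsLocalRing B] [IsNoetherianRing B]
    (X : Dual.D B) (b : ℤ) [X.IsLE b] (hX : ∀ i, Module.Finite B (Dual.HD B X i)) (m : ℤ)
    [DTen.HasLBase (IsLocalRing.residue B)]
    (e : (DTen.LBase (IsLocalRing.residue B)).obj X ≅
      (Dual.inD (IsLocalRing.ResidueField B) (IsLocalRing.ResidueField B))⟦m⟧) :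
    (∀ i, i ≠ -m → Subsingleton (Dual.HD B X i)) ∧ Nonempty (Dual.HD B X (-m) ≃ₗ[B] B) := by
  let k := IsLocalRing.ResidueField B
  haveI : DRing.HasLBaseChange (IsLocalRing.residue B) := H9Misc.DRingLBase.hasLBaseChange _
  obtain ⟨c⟩ := nonempty_LBaseChange_iso (IsLocalRing.residue B)
  let e' := c.app X ≪≫ e
  have h0 : ∀ i, i ≠ -m → Subsingleton (Dual.HD k ((DRing.LBaseChange (IsLocalRing.residue B)).obj X) i) := fun i hi => by
    haveI : Subsingleton (Dual.HD k (Dual.inD k k) (m + i)) :=
      Groth.Agent.H9Misc.DRingTel.subsingleton_homology_inD (A := k) k (by omega)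
    let c' : Dual.HD k ((DRing.LBaseChange (IsLocalRing.residue B)).obj X) i ≃ₗ[k] Dual.HD k (Dual.inD k k) (m + i) :=
        ((DerivedCategory.homologyFunctor (ModuleCat.{u} k) i).mapIso e' ≪≫
          (((DerivedCategory.homologyFunctor (ModuleCat.{u} k) 0).shiftIso m i (m + i) rfl).app _)).toLinearEquiv
    exact c'.toEquiv.subsingleton
  have h1 : Module.finrank k (Dual.HD k ((DRing.LBaseChange (IsLocalRing.residue B)).obj X) (-m)) = 1 := by
    let c' : Dual.HD k ((DRing.LBaseChange (IsLocalRing.residue B)).obj X) (-m) ≃ₗ[k] k :=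
        ((DerivedCategory.homologyFunctor (ModuleCat.{u} k) (-m)).mapIso e' ≪≫
          (((DerivedCategory.homologyFunctor (ModuleCat.{u} k) 0).shiftIso m (-m) 0 (by omega)).app _) ≪≫
            (DerivedCategory.singleFunctorCompHomologyFunctorIso (ModuleCat.{u} k) 0).app (ModuleCat.of k k)).toLinearEquiv
    exact c'.finrank_eq.trans (Module.finrank_self k)
  haveI := hasLTen B
  haveI := hasRHom (A := B)
  obtain ⟨-, -, P, -, hP, ⟨eP⟩⟩ := H9Misc.DRingMinimal.exists_minimal (pc'_of_finite_hd X b hX)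
  have hz : ∀ i, i ≠ -m → IsZero (P.X i) := fun i hi => by
    haveI := (hP i).1
    haveI := (hP i).2.1
    haveI := h0 i hi
    have : Module.finrank B (P.X i) = 0 := (hP i).2.2.trans Module.finrank_zero_of_subsingleton
    exact @ModuleCat.isZero_of_subsingleton _ _ _ (LinearEquiv.ofFinrankEq (R := B) (P.X i) PUnit.{u+1}
      (this.trans Module.finrank_zero_of_subsingleton.symm)).toEquiv.subsingleton
  have eh : ∀ i, Nonempty (P.homology i ≅ (DerivedCategory.homologyFunctor (ModuleCat.{u} B) i).obj X) := fun i =>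
    ⟨((DerivedCategory.homologyFunctorFactors (ModuleCat.{u} B) i).app P).symm ≪≫
      (DerivedCategory.homologyFunctor (ModuleCat.{u} B) i).mapIso eP⟩
  refine ⟨fun i hi => ?_, ?_⟩
  · obtain ⟨u⟩ := eh i
    exact ModuleCat.subsingleton_of_isZero
      ((ShortComplex.isZero_homology_of_isZero_X₂ (P.sc i) (hz i hi)).of_iso u.symm)
  · obtain ⟨u⟩ := eh (-m)
    have hf : (P.sc (-m)).f = 0 := (hz _ (by simp)).eq_of_src _ _
    have hg : (P.sc (-m)).g = 0 := (hz _ (by simp)).eq_of_tgt _ _
    haveI := (hP (-m)).1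
    haveI := (hP (-m)).2.1
    let r := LinearEquiv.ofFinrankEq (R := B) (P.X (-m)) B
      (((hP (-m)).2.2.trans h1).trans (Module.finrank_self B).symm)
    exact ⟨(u.symm ≪≫ (ShortComplex.HomologyData.ofZeros _ hf hg).left.homologyIso).toLinearEquiv.trans r⟩

/-- A generator at a prime. -/
lemma exists_bijective_of_stalk {A : Type u} [CommRing A] (q : Ideal A) [q.IsPrime] (M : Type u) [AddCommGroup M]
    [Module A M] (g : Localization.AtPrime q ≃ₗ[Localization.AtPrime q] LocalizedModule q.primeCompl M) :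
    ∃ x : M, Function.Bijective (LocalizedModule.map q.primeCompl (LinearMap.toSpanSingleton A M x)) := by
  let B := Localization.AtPrime q
  obtain ⟨⟨x, t⟩, hxt⟩ := IsLocalizedModule.surj q.primeCompl (LocalizedModule.mkLinearMap q.primeCompl M) (g 1)
  refine ⟨x, ?_⟩
  have hkey : ∀ b : B, LocalizedModule.map q.primeCompl (LinearMap.toSpanSingleton A M x) b =
      g (algebraMap A B (t : A) * b) := fun b => by
    refine congrFun (congrArg DFunLike.coe (?_ :
      (LocalizedModule.map q.primeCompl (LinearMap.toSpanSingleton A M x)) =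
        g.toLinearMap ∘ₗ LinearMap.mulLeft B (algebraMap A B (t : A)))) b
    refine LinearMap.ext fun z => ?_
    induction z using LocalizedModule.induction_on with
    | h a s =>
      rw [LocalizedModule.map_mk, LinearMap.toSpanSingleton_apply, LinearMap.comp_apply, LinearMap.mulLeft_apply,
        LinearEquiv.coe_coe, ← smul_eq_mul, map_smul, ← LocalizedModule.smul'_mk]
      change _ = algebraMap A B (t : A) • g (LocalizedModule.mk a s)
      rw [show (LocalizedModule.mk a s : B) = (LocalizedModule.mk a s : B) • (1 : B) from (mul_one _).symm,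
        map_smul, smul_comm, algebraMap_smul]
      have hxt' : t • g 1 = LocalizedModule.mk x 1 := hxt
      change _ = (LocalizedModule.mk a s : B) • (t • g 1)
      rw [hxt', LocalizedModule.smul'_mk]
      exact (congrArg (LocalizedModule.mk (a • x)) (mul_one s)).symm.trans (LocalizedModule.mk_smul_mk a x s 1).symm
  have ht : IsUnit (algebraMap A B (t : A)) := IsLocalization.map_units B t
  rw [show ⇑(LocalizedModule.map q.primeCompl (LinearMap.toSpanSingleton A M x)) =
    g ∘ fun b => algebraMap A B (t : A) * b from funext hkey]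
  exact g.bijective.comp (ht.unit.mulLeft_bijective)

lemma exists_smul_eq_zero {A : Type u} [CommRing A] (q : Ideal A) [q.IsPrime] (M : Type u) [AddCommGroup M]
    [Module A M] [Module.Finite A M] (h : Subsingleton (LocalizedModule q.primeCompl M)) :
    ∃ c : A, c ∉ q ∧ ∀ x : M, c • x = 0 := by
  have hq : (⟨q, inferInstance⟩ : PrimeSpectrum A) ∉ Module.support A M := Module.notMem_support_iff.2 h
  rw [Module.support_eq_zeroLocus, PrimeSpectrum.mem_zeroLocus, Set.not_subset] at hq
  obtain ⟨c, hc, hcq⟩ := hq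
  exact ⟨c, hcq, fun x => Module.mem_annihilator.1 hc x⟩

/-- Spreading out: near a point where the stalk is a shifted free module of rank one. -/
lemma exists_spread {A : Type u} [CommRing A] [IsNoetherianRing A] (X : Dual.D A) (a b s : ℤ)
    (hb : ∀ i, (i < a ∨ b < i) → Subsingleton (Dual.HD A X i)) (hfin : ∀ i, Module.Finite A (Dual.HD A X i))
    (q : Ideal A) [q.IsPrime] (h0 : ∀ i, i ≠ s → Subsingleton (LocalizedModule q.primeCompl (Dual.HD A X i)))
    (x : Dual.HD A X s)
    (hx : Function.Bijective (LocalizedModule.map q.primeCompl (LinearMap.toSpanSingleton A (Dual.HD A X s) x))) :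
    ∃ (f : A) (_ : f ∉ q), ∀ [DTen.HasLBase (algebraMap A (Localization.Away f))], Nonempty
      ((DTen.LBase (algebraMap A (Localization.Away f))).obj X ≅
        (Dual.inD (Localization.Away f) (Localization.Away f))⟦-s⟧) := by
  haveI := hfin
  let g := LinearMap.toSpanSingleton A (Dual.HD A X s) x
  obtain ⟨c₁, hc₁, hc₁'⟩ := exists_smul_eq_zero q (LinearMap.ker g)
    (RGammaI.isOpen_gorenstein_locus.subsingleton_ker_of_injective g hx.1)
  obtain ⟨c₂, hc₂, hc₂'⟩ := exists_smul_eq_zero q (Dual.HD A X s ⧸ LinearMap.range g)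
    (RGammaI.isOpen_gorenstein_locus.subsingleton_coker_of_surjective g hx.2)
  have hex : ∀ i : ℤ, ∃ c : A, c ∉ q ∧ (i ≠ s → ∀ y : Dual.HD A X i, c • y = 0) := fun i => by
    by_cases hi : i = s
    · exact ⟨1, (Ideal.ne_top_iff_one q).1 Ideal.IsPrime.ne_top', fun h => (h hi).elim⟩
    · obtain ⟨c, hc, hc'⟩ := exists_smul_eq_zero q (Dual.HD A X i) (h0 i hi)
      exact ⟨c, hc, fun _ => hc'⟩
  choose c hc hc' using hex
  let f := c₁ * c₂ * ∏ i ∈ Finset.Icc a b, c i
  refine ⟨f, fun hf => ?_, ?_⟩
  · rcases Ideal.IsPrime.mem_or_mem ‹q.IsPrime› hf with h | h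
    · rcases Ideal.IsPrime.mem_or_mem ‹q.IsPrime› h with h | h
      · exact hc₁ h
      · exact hc₂ h
    · obtain ⟨i, -, hi⟩ := (Ideal.IsPrime.prod_mem_iff (hp := ‹q.IsPrime›)).1 h
      exact hc i hi
  · intro _
    let S := Submonoid.powers f
    let C := Localization.Away f
    haveI : IsNoetherianRing C := IsLocalization.isNoetherianRing S C inferInstance
    haveI : Module.Flat A C := IsLocalization.flat _ S
    have hS : ∀ {M : Type u} [AddCommGroup M] [Module A M] (d : A), (∃ e, f = e * d) → (∀ y : M, d • y = 0) →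
        Subsingleton (LocalizedModule S M) := fun d ⟨e, he⟩ hd => LocalizedModule.subsingleton_iff.2 fun y =>
      ⟨f, Submonoid.mem_powers f, by rw [he, mul_smul, hd, smul_zero]⟩
    have eH : ∀ i, Nonempty (Dual.HD C ((DTen.LBase (algebraMap A C)).obj X) i ≃ₗ[C]
        LocalizedModule S (Dual.HD A X i)) := fun i => by
      obtain ⟨e⟩ := exists_hdLBaseLEquiv (B := C) X i
      exact ⟨e.trans (IsLocalizedModule.isBaseChange S C
        (LocalizedModule.mkLinearMap S (Dual.HD A X i))).equiv⟩
    obtain ⟨e⟩ := eH s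
    have hk : Subsingleton (LocalizedModule S (LinearMap.ker g)) :=
      hS c₁ ⟨c₂ * ∏ i ∈ Finset.Icc a b, c i, by simp only [f]; ring⟩ hc₁'
    have hcok : Subsingleton (LocalizedModule S (Dual.HD A X s ⧸ LinearMap.range g)) :=
      hS c₂ ⟨c₁ * ∏ i ∈ Finset.Icc a b, c i, by simp only [f]; ring⟩ hc₂'
    refine RGammaI.nonempty_iso_of_single _ s (fun i hi => ?_)
      (e.trans (LinearEquiv.ofBijective _ (RGammaI.isOpen_gorenstein_locus.bijective_map_of_ker_coker g hk hcok)).symm)
    obtain ⟨e'⟩ := eH i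
    haveI : Subsingleton (LocalizedModule S (Dual.HD A X i)) := by
      by_cases hr : i ∈ Finset.Icc a b
      · refine hS (c i) ⟨c₁ * c₂ * ∏ j ∈ (Finset.Icc a b).erase i, c j, ?_⟩ (hc' i hi)
        simp only [f]
        rw [← Finset.mul_prod_erase _ _ hr]
        ring
      · haveI := hb i (by rw [Finset.mem_Icc] at hr; omega)
        exact LocalizedModule.subsingleton_iff.2 fun y => ⟨1, one_mem _, Subsingleton.elim _ _⟩
    exact e'.toEquiv.subsingleton

/-- The restriction of the relative dualizing complex to a local ring of a fibre is dualizing. -/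
lemma isDualizing_fibre_local {R A : Type u} [CommRing R] [CommRing A] [IsNoetherianRing R] [IsNoetherianRing A]
    [Algebra R A] [Module.Flat R A] (n : ℕ) (ψ : MvPolynomial (Fin n) R →+* A) (hψ : Function.Surjective ψ)
    (hR : ψ.comp MvPolynomial.C = algebraMap R A) {Rψ : Dual.D (MvPolynomial (Fin n) R) ⥤ Dual.D A}
    (a : DRing.restrictD ψ ⊣ Rψ) (k : Type u) [Field k] [Algebra R k] (P : Ideal (A ⊗[R] k)) [P.IsPrime]
    (χ : A →+* Localization.AtPrime P) (hχ : (algebraMap (A ⊗[R] k) (Localization.AtPrime P)).comp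
      (Algebra.TensorProduct.includeLeftRingHom : A →+* A ⊗[R] k) = χ) [DTen.HasLBase χ] :
    IsNoetherianRing (Localization.AtPrime P) ∧
      Dual.IsDualizing (Localization.AtPrime P) ((DTen.LBase χ).obj ((Rψ.obj (DTen.unit _))⟦(n : ℤ)⟧)) := by
  let F := A ⊗[R] k
  let F' := k ⊗[R] A
  let G := Localization.AtPrime P
  haveI := hasLBase (incRight R k A)
  have h' := isDualizing_fibre_shriek_unit ψ hψ hR a k
  haveI : IsNoetherianRing F' := h'.isNoetherianRing
  let σ : F' →+* F := (Algebra.TensorProduct.comm R k A).toRingEquiv.toRingHom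
  have hσ : Function.Bijective σ := (Algebra.TensorProduct.comm R k A).bijective
  haveI : IsNoetherianRing F := isNoetherianRing_of_surjective F' F σ hσ.2
  letI : Algebra F' F := σ.toAlgebra
  haveI : Module.Flat F' F := RingHom.flat_algebraMap_iff.1
    (RingHom.Flat.of_bijective (f := algebraMap F' F) hσ)
  haveI := hasLBase (algebraMap F' F)
  haveI := hasLBase (algebraMap F G)
  haveI : Module.Flat F G := IsLocalization.flat _ P.primeCompl
  have h1 : Dual.IsDualizing F ((DTen.LBase (algebraMap F' F)).obj _) := isDualizing_LBase h' fun m _ =>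
    ⟨m.comap (algebraMap F' F), Ideal.map_comap_of_surjective _ hσ.2 m⟩
  have h2 : Dual.IsDualizing G ((DTen.LBase (algebraMap F G)).obj _) := isDualizing_LBase h1 fun m _ =>
    ⟨m.comap (algebraMap F G), IsLocalization.map_comap P.primeCompl _ m⟩
  haveI := hasLBase ((algebraMap F' F).comp (incRight R k A))
  obtain ⟨l₁⟩ := nonempty_LBase_comp (incRight R k A) (algebraMap F' F) _ rfl
  obtain ⟨l₂⟩ := nonempty_LBase_comp ((algebraMap F' F).comp (incRight R k A)) (algebraMap F G) χ (by
    rw [← hχ]
    refine congrArg (RingHom.comp _) (RingHom.ext fun x => ?_)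
    change (Algebra.TensorProduct.comm R k A) ((1 : k) ⊗ₜ[R] x) = x ⊗ₜ[R] (1 : k)
    exact Algebra.TensorProduct.comm_tmul ..)
  exact ⟨inferInstance, isDualizing_of_iso ((DTen.LBase _).mapIso (l₁.app _) ≪≫ l₂.app _) h2⟩

/-- Let R → A be a ring map between Noetherian rings which is flat and of finite type, presented as a
surjection ψ : P = R[x_1, …, x_n] → A. For K in D(R) form φ^!(K) = RHom_P(A, K ⊗^L_R P)[n], where
the derived base change D(R) → D(P) is assumed to exist and RHom_P(A, −) : D(P) → D(A) is taken to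
be a right adjoint of restriction of scalars along ψ, and put ω_{A/R} = φ^!(R); assume also that the
derived base change functors D(A) → D(A_f) exist for all f ∈ A. Then all fibre rings A ⊗_R κ(p), for
p a prime of R, are Gorenstein if and only if ω_{A/R} is invertible in the following sense: for
every prime q of A there are f ∈ A with f ∉ q and an integer m such that ω_{A/R} ⊗^L_A A_f ≅ A_f[m]
in D(A_f). -/
theorem result (R A : Type u) [CommRing R] [CommRing A] [IsNoetherianRing R] [IsNoetherianRing A] [Algebra R A] (n : ℕ) (ψ : MvPolynomial (Fin n) R →ₐ[R] A) (hψ : Function.Surjective ψ) [DRing.HasLBaseChange (algebraMap R (MvPolynomial (Fin n) R))] (Rψ : Dual.D (MvPolynomial (Fin n) R) ⥤ Dual.D A) (adj : DRing.restrictD ψ.toRingHom ⊣ Rψ) [Module.Flat R A] [hL : ∀ f : A, DRing.HasLBaseChange (algebraMap A (Localization.Away f))] : (∀ p : PrimeSpectrum R, LocCoh.IsGorensteinRing (A ⊗[R] p.asIdeal.ResidueField)) ↔ (∀ q : PrimeSpectrum A, ∃ (f : A) (_ : f ∉ q.asIdeal) (m : ℤ), Nonempty ((DRing.LBaseChange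 (algebraMap A (Localization.Away f))).obj (Dual2.shriekVia n Rψ (Dual.inD R R)) ≅ (Dual.inD (Localization.Away f) (Localization.Away f))⟦m⟧)) := by
  haveI := hasLBase (algebraMap R (MvPolynomial (Fin n) R))
  obtain ⟨e₁⟩ := nonempty_LBaseChange_iso (algebraMap R (MvPolynomial (Fin n) R))
  obtain ⟨u⟩ := nonempty_LBase_unit (algebraMap R (MvPolynomial (Fin n) R))
  let e : (Rψ.obj (DTen.unit _))⟦(n : ℤ)⟧ ≅ Dual2.shriekVia n Rψ (Dual.inD R R) :=
    ((shiftFunctor _ (n : ℤ)).mapIso (Rψ.mapIso (e₁.app _ ≪≫ (DTen.LBase (algebraMap R _)).mapIso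
      ((DerivedCategory.singleFunctorIsoCompQ (ModuleCat R) 0).app (ModuleCat.of R R)) ≪≫ u))).symm
  have hR : ψ.toRingHom.comp MvPolynomial.C = algebraMap R A := RingHom.ext fun r => ψ.commutes r
  obtain ⟨⟨a, b, hab⟩, hfin⟩ := bounded_finite_shriek_unit ψ.toRingHom hψ hR adj
  let W : Dual.D A := (Rψ.obj (DTen.unit _))⟦(n : ℤ)⟧
  constructor
  · intro hF q
    let p : PrimeSpectrum R := PrimeSpectrum.comap (algebraMap R A) q
    let k := p.asIdeal.ResidueField
    let K := q.asIdeal.ResidueField
    let ρ : A ⊗[R] k →ₐ[R] K := Algebra.TensorProduct.lift (IsScalarTower.toAlgHom R A K)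
      (Ideal.ResidueField.mapₐ p.asIdeal q.asIdeal (Algebra.ofId R A) rfl) (fun _ _ => Commute.all _ _)
    let P : Ideal (A ⊗[R] k) := RingHom.ker ρ.toRingHom
    haveI : P.IsPrime := RingHom.ker_isPrime _
    let G := Localization.AtPrime P
    let ρ' : G →+* K := IsLocalization.lift (M := P.primeCompl) (g := ρ.toRingHom) fun y =>
      isUnit_iff_ne_zero.2 fun h => y.2 h
    let χ : A →+* G := (algebraMap (A ⊗[R] k) G).comp Algebra.TensorProduct.includeLeftRingHom
    haveI := hasLBase χ
    haveI := hasLBase ρ'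
    haveI := hasLBase (algebraMap A K)
    obtain ⟨_, hd⟩ := isDualizing_fibre_local n ψ.toRingHom hψ hR adj k P χ rfl
    haveI : LocCoh.IsGorensteinLocalRing G := (hF p).isGorensteinLocalRing_localization P
    haveI := hasLTen G
    haveI := hasRHom (A := G)
    obtain ⟨m, ⟨v⟩⟩ := exists_iso_shift_of_isDualizing
      ((Groth.Agent.LC.gorenstein_iff_isDualizing G).1 inferInstance) hd
    let B := Localization.AtPrime q.asIdeal
    haveI := hasLBase (algebraMap A B)
    haveI := hasLBase (IsLocalRing.residue B)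
    obtain ⟨l₁⟩ := nonempty_LBase_comp χ ρ' (algebraMap A K) (RingHom.ext fun x => by
      simp only [χ, ρ', RingHom.comp_apply]
      rw [IsLocalization.lift_eq]
      change ρ (x ⊗ₜ[R] (1 : k)) = _
      simp only [ρ, Algebra.TensorProduct.lift_tmul, map_one, mul_one]
      rfl)
    obtain ⟨l₂⟩ := nonempty_LBase_comp (algebraMap A B) (IsLocalRing.residue B) (algebraMap A K)
      (IsScalarTower.algebraMap_eq A B K).symm
    obtain ⟨t⟩ := nonempty_LBase_inD_shift ρ' m
    let eK : (DTen.LBase (IsLocalRing.residue B)).obj ((DTen.LBase (algebraMap A B)).obj W) ≅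
        (Dual.inD K K)⟦m⟧ := l₂.app W ≪≫ (l₁.app W).symm ≪≫ (DTen.LBase ρ').mapIso v ≪≫ t
    haveI : Module.Flat A B := IsLocalization.flat _ q.asIdeal.primeCompl
    have eH : ∀ i, Nonempty (Dual.HD B ((DTen.LBase (algebraMap A B)).obj W) i ≃ₗ[B]
        LocalizedModule q.asIdeal.primeCompl (Dual.HD A W i)) := fun i => by
      obtain ⟨ee⟩ := exists_hdLBaseLEquiv (B := B) W i
      exact ⟨ee.trans (IsLocalizedModule.isBaseChange q.asIdeal.primeCompl B
        (LocalizedModule.mkLinearMap q.asIdeal.primeCompl (Dual.HD A W i))).equiv⟩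
    haveI : ((DTen.LBase (algebraMap A B)).obj W).IsLE b := (DerivedCategory.isLE_iff _ _).2 fun i hi => by
      obtain ⟨ee⟩ := exists_hdLBaseLEquiv (B := B) W i
      haveI : Subsingleton (Dual.HD A W i) := hab i (Or.inr hi)
      exact @ModuleCat.isZero_of_subsingleton _ _ _ ee.injective.subsingleton
    obtain ⟨h0, ⟨g⟩⟩ := exists_hd_of_residue_iso ((DTen.LBase (algebraMap A B)).obj W) b
      (fun i => finite_hd_LBase (B := B) W i (hfin i)) m eK
    obtain ⟨es⟩ := eH (-m)
    obtain ⟨x, hx⟩ := exists_bijective_of_stalk q.asIdeal _ (g.symm.trans es)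
    obtain ⟨f, hf, hf'⟩ := exists_spread W a b (-m) hab hfin q.asIdeal (fun i hi => by
      obtain ⟨ee⟩ := eH i
      haveI := h0 i hi
      exact ee.symm.toEquiv.subsingleton) x hx
    haveI := hasLBase (algebraMap A (Localization.Away f))
    obtain ⟨t'⟩ := hf'
    obtain ⟨c⟩ := nonempty_LBaseChange_iso (algebraMap A (Localization.Away f))
    exact ⟨f, hf, - -m, ⟨(DRing.LBaseChange _).mapIso e.symm ≪≫ c.app W ≪≫ t'⟩⟩
  · intro H p
    let k := p.asIdeal.ResidueField
    let F := A ⊗[R] k
    haveI : IsNoetherianRing F := by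
      haveI : Algebra.FiniteType R A := Algebra.FiniteType.of_surjective ψ hψ
      haveI : Algebra.FiniteType k (k ⊗[R] A) := inferInstance
      haveI : IsNoetherianRing (k ⊗[R] A) := Algebra.FiniteType.isNoetherianRing k _
      exact isNoetherianRing_of_ringEquiv _ (Algebra.TensorProduct.comm R k A).toRingEquiv
    refine { isGorensteinLocalRing_localization := fun P _ => ?_ }
    let q : PrimeSpectrum A := ⟨P.comap (Algebra.TensorProduct.includeLeftRingHom : A →+* F), inferInstance⟩
    obtain ⟨f, hf, m, ⟨v⟩⟩ := H q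
    let G := Localization.AtPrime P
    let χ : A →+* G := (algebraMap F G).comp Algebra.TensorProduct.includeLeftRingHom
    let τ : Localization.Away f →+* G := IsLocalization.Away.lift f (g := χ)
      (IsLocalization.map_units G (⟨_, hf⟩ : P.primeCompl))
    haveI := hasLBase χ
    haveI := hasLBase τ
    haveI := hasLBase (algebraMap A (Localization.Away f))
    obtain ⟨_, hd⟩ := isDualizing_fibre_local n ψ.toRingHom hψ hR adj k P χ rfl
    obtain ⟨l⟩ := nonempty_LBase_comp (algebraMap A (Localization.Away f)) τ χ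
      (IsLocalization.Away.lift_comp f _)
    obtain ⟨c⟩ := nonempty_LBaseChange_iso (algebraMap A (Localization.Away f))
    obtain ⟨t⟩ := nonempty_LBase_inD_shift τ m
    have hG := isDualizing_of_iso ((l.app W).symm ≪≫ (DTen.LBase τ).mapIso
      ((c.app W).symm ≪≫ (DRing.LBaseChange _).mapIso e ≪≫ v) ≪≫ t) hd
    exact (Groth.Agent.LC.gorenstein_iff_isDualizing G).2 (isDualizing_of_iso
      ((shiftFunctorCompIsoId (Dual.D G) m (-m) (by omega)).app _) (isDualizing_shift hG (-m)))


end Groth.Agent.S1786
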