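import Groth.Statements.S1828
import Groth.Agent.RGammaI.GorLocus
import Groth.Agent.KFlatLib.Ring.RelDualizing
import Groth.Agent.KFlatLib.Ring.DualizingFibre
import Groth.Agent.GrLib8.BassShift
import Groth.Agent.KRegLib.Closed
import Groth.Agent.KRegLib.Perfect
import Groth.Agent.H9Misc.DRingRegular
-- import your own Groth.Agent.* helpers here

set_option autoImplicit false
universe u
open CategoryTheory
attribute [local instance] HasDerivedCategory.standard
open Dual2

namespace Groth.Agent.S1828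

open CategoryTheory.Limits Groth.Agent.KFlatLib

set_option linter.style.haveILetI false
set_option backward.isDefEq.respectTransparency false
set_option maxHeartbeats 1000000

lemma exists_smul_eq_zero {A : Type u} [CommRing A] (q : Ideal A) [q.IsPrime] (M : Type u) [AddCommGroup M]
    [Module A M] [Module.Finite A M] (h : Subsingleton (LocalizedModule q.primeCompl M)) :
    ∃ c : A, c ∉ q ∧ ∀ x : M, c • x = 0 := by
  have hq : (⟨q, inferInstance⟩ : PrimeSpectrum A) ∉ Module.support A M := Module.notMem_support_iff.2 h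
  rw [Module.support_eq_zeroLocus, PrimeSpectrum.mem_zeroLocus, Set.not_subset] at hq
  obtain ⟨c, hc, hcq⟩ := hq
  exact ⟨c, hcq, fun x => Module.mem_annihilator.1 hc x⟩

/-- Spreading out: near a point where the stalk is a shifted free module of rank one. -/
lemma exists_spread {A : Type u} [CommRing A] [IsNoetherianRing A] (X : Dual.D A) (a b s : ℤ)
    (hb : ∀ i, (i < a ∨ b < i) → Subsingleton (Dual.HD A X i)) (hfin : ∀ i, Module.Finite A (Dual.HD A X i))
    (q : Ideal A) [q.IsPrime] (h0 : ∀ i, i ≠ s → Subsingleton (LocalizedModule q.primeCompl (Dual.HD A X i)))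
    (x : Dual.HD A X s)
    (hx : Function.Bijective (LocalizedModule.map q.primeCompl (LinearMap.toSpanSingleton A (Dual.HD A X s) x))) :
    ∃ (f : A) (_ : f ∉ q), ∀ [DTen.HasLBase (algebraMap A (Localization.Away f))], Nonempty
      ((DTen.LBase (algebraMap A (Localization.Away f))).obj X ≅
        (Dual.inD (Localization.Away f) (Localization.Away f))⟦-s⟧) := by
  haveI := hfin
  let g := LinearMap.toSpanSingleton A (Dual.HD A X s) x
  obtain ⟨c₁, hc₁, hc₁'⟩ := exists_smul_eq_zero q (LinearMap.ker g)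
    (RGammaI.isOpen_gorenstein_locus.subsingleton_ker_of_injective g hx.1)
  obtain ⟨c₂, hc₂, hc₂'⟩ := exists_smul_eq_zero q (Dual.HD A X s ⧸ LinearMap.range g)
    (RGammaI.isOpen_gorenstein_locus.subsingleton_coker_of_surjective g hx.2)
  have hex : ∀ i : ℤ, ∃ c : A, c ∉ q ∧ (i ≠ s → ∀ y : Dual.HD A X i, c • y = 0) := fun i => by
    by_cases hi : i = s
    · exact ⟨1, (Ideal.ne_top_iff_one q).1 Ideal.IsPrime.ne_top', fun h => (h hi).elim⟩
    · obtain ⟨c, hc, hc'⟩ := exists_smul_eq_zero q (Dual.HD A X i) (h0 i hi)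
      exact ⟨c, hc, fun _ => hc'⟩
  choose c hc hc' using hex
  let f := c₁ * c₂ * ∏ i ∈ Finset.Icc a b, c i
  refine ⟨f, fun hf => ?_, ?_⟩
  · rcases Ideal.IsPrime.mem_or_mem ‹q.IsPrime› hf with h | h
    · rcases Ideal.IsPrime.mem_or_mem ‹q.IsPrime› h with h | h
      · exact hc₁ h
      · exact hc₂ h
    · obtain ⟨i, -, hi⟩ := (Ideal.IsPrime.prod_mem_iff (hp := ‹q.IsPrime›)).1 h
      exact hc i hi
  · intro _
    let S := Submonoid.powers f
    let C := Localization.Away f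
    haveI : IsNoetherianRing C := IsLocalization.isNoetherianRing S C inferInstance
    haveI : Module.Flat A C := IsLocalization.flat _ S
    have hS : ∀ {M : Type u} [AddCommGroup M] [Module A M] (d : A), (∃ e, f = e * d) → (∀ y : M, d • y = 0) →
        Subsingleton (LocalizedModule S M) := fun d ⟨e, he⟩ hd => LocalizedModule.subsingleton_iff.2 fun y =>
      ⟨f, Submonoid.mem_powers f, by rw [he, mul_smul, hd, smul_zero]⟩
    have eH : ∀ i, Nonempty (Dual.HD C ((DTen.LBase (algebraMap A C)).obj X) i ≃ₗ[C]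
        LocalizedModule S (Dual.HD A X i)) := fun i => by
      obtain ⟨e⟩ := exists_hdLBaseLEquiv (B := C) X i
      exact ⟨e.trans (IsLocalizedModule.isBaseChange S C
        (LocalizedModule.mkLinearMap S (Dual.HD A X i))).equiv⟩
    obtain ⟨e⟩ := eH s
    have hk : Subsingleton (LocalizedModule S (LinearMap.ker g)) :=
      hS c₁ ⟨c₂ * ∏ i ∈ Finset.Icc a b, c i, by simp only [f]; ring⟩ hc₁'
    have hcok : Subsingleton (LocalizedModule S (Dual.HD A X s ⧸ LinearMap.range g)) :=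
      hS c₂ ⟨c₁ * ∏ i ∈ Finset.Icc a b, c i, by simp only [f]; ring⟩ hc₂'
    refine RGammaI.nonempty_iso_of_single _ s (fun i hi => ?_)
      (e.trans (LinearEquiv.ofBijective _ (RGammaI.isOpen_gorenstein_locus.bijective_map_of_ker_coker g hk hcok)).symm)
    obtain ⟨e'⟩ := eH i
    haveI : Subsingleton (LocalizedModule S (Dual.HD A X i)) := by
      by_cases hr : i ∈ Finset.Icc a b
      · refine hS (c i) ⟨c₁ * c₂ * ∏ j ∈ (Finset.Icc a b).erase i, c j, ?_⟩ (hc' i hi)
        simp only [f]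
        rw [← Finset.mul_prod_erase _ _ hr]
        ring
      · haveI := hb i (by rw [Finset.mem_Icc] at hr; omega)
        exact LocalizedModule.subsingleton_iff.2 fun y => ⟨1, one_mem _, Subsingleton.elim _ _⟩
    exact e'.toEquiv.subsingleton

/-- Ext of a complete intersection at a prime. -/
lemma exists_ext_atPrime {P : Type u} [CommRing P] [IsNoetherianRing P] (I : Ideal P)
    (hI : LCI.IsKoszulRegularIdeal I) (Q : Ideal P) [Q.IsPrime] (hIQ : I ≤ Q) :
    ∃ c : ℕ, (∀ j : ℤ, j ≠ c → Subsingleton (LocalizedModule Q.primeCompl (Dual.inD P (P ⧸ I) ⟶ (Dual.inD P P)⟦j⟧))) ∧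
      Nonempty (LocalizedModule Q.primeCompl (Dual.inD P (P ⧸ I) ⟶ (Dual.inD P P)⟦(c : ℤ)⟧) ≃ₗ[Localization.AtPrime Q]
        (Localization.AtPrime Q ⧸ I.map (algebraMap P (Localization.AtPrime Q)))) := by
  let B := Localization.AtPrime Q
  haveI : Module.Flat P B := IsLocalization.flat B Q.primeCompl
  haveI := hasLBase (algebraMap P B)
  obtain ⟨g, hg, hon⟩ := ((KRegLib.isKoszulRegularIdeal_iff I).1 hI Q inferInstance hIQ).exists_on
  obtain ⟨c, f, hf, hIf⟩ := hon B (IsLocalization.map_units B (⟨g, hg⟩ : Q.primeCompl))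
  have hreg := KRegLib.isWeaklyRegular_of_isExact_local f (fun i => by
    rw [← IsLocalization.AtPrime.map_eq_maximalIdeal Q B]
    exact Ideal.map_mono hIQ (hIf ▸ Ideal.subset_span ⟨i, rfl⟩)) hf
  let q0 : (B ⧸ (⊥ : Ideal B)) ≃ₗ[B] B := Submodule.quotEquivOfEqBot ⊥ rfl
  have hchain := GrLib8.regChain_of_isWeaklyRegular (List.ofFn f) ⊥ ((q0.isWeaklyRegular_congr _).2 hreg)
  let β : ℕ → Type u := fun i => match i with
    | 0 => PUnit
    | _ + 1 => PEmpty
  have e0 : ∀ i, Nonempty (Abelian.Ext.{u} (ModuleCat.of B (B ⧸ (⊥ : Ideal B))) (ModuleCat.of B B) i ≃ₗ[B]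
      (β i →₀ B ⧸ (⊥ : Ideal B))) := by
    rintro (_ | i)
    · exact ⟨((GrLib8.extCongrFst q0.symm (ModuleCat.of B B) 0).trans ((Abelian.Ext.linearEquiv₀ (R := B)).trans
        ((ModuleCat.homLinearEquiv (S := B)).trans (LinearMap.ringLmapEquivSelf B B B)))).trans
          (q0.symm.trans (Finsupp.LinearEquiv.finsuppUnique B (B ⧸ (⊥ : Ideal B)) PUnit.{u+1}).symm)⟩
    · haveI hs : Subsingleton (Abelian.Ext.{u} (ModuleCat.of B (B ⧸ (⊥ : Ideal B))) (ModuleCat.of B B) (i + 1)) :=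
        haveI : Module.Projective B (B ⧸ (⊥ : Ideal B)) := Module.Projective.of_equiv q0.symm
        haveI : Projective (ModuleCat.of B (B ⧸ (⊥ : Ideal B))) :=
          (IsProjective.iff_projective (R := B) (B ⧸ (⊥ : Ideal B))).1 inferInstance
        subsingleton_of_forall_eq 0 fun x => Abelian.Ext.eq_zero_of_projective x
      haveI : Subsingleton (β (i + 1) →₀ B ⧸ (⊥ : Ideal B)) :=
        ⟨fun a b => Finsupp.ext fun j => (show PEmpty from j).elim⟩
      exact ⟨LinearEquiv.ofSubsingleton _ _⟩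
  obtain ⟨hlt, hge⟩ := GrLib8.ext_chain (List.ofFn f) ⊥ hchain (ModuleCat.of B B) β e0
  have hJ : (⊥ : Ideal B) ⊔ Ideal.ofList (List.ofFn f) = I.map (algebraMap P B) := by
    rw [bot_sup_eq, hIf, Ideal.ofList]
    congr 1
    ext x
    simp [List.mem_ofFn]
  rw [hJ, List.length_ofFn] at hlt hge
  obtain ⟨c₁⟩ := nonempty_LBase_inD_quotient (B := B) I
  obtain ⟨u⟩ := nonempty_LBase_unit (algebraMap P B)
  let c₃ : (DTen.LBase (algebraMap P B)).obj (Dual.inD P P) ≅ Dual.inD B B :=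
    (DTen.LBase _).mapIso ((DerivedCategory.singleFunctorIsoCompQ (ModuleCat.{u} P) 0).app (ModuleCat.of P P)) ≪≫
      u ≪≫ ((DerivedCategory.singleFunctorIsoCompQ (ModuleCat.{u} B) 0).app (ModuleCat.of B B)).symm
  have key : ∀ j : ℤ, Nonempty (LocalizedModule Q.primeCompl (Dual.inD P (P ⧸ I) ⟶ (Dual.inD P P)⟦j⟧) ≃ₗ[B]
      (Dual.inD B (B ⧸ I.map (algebraMap P B)) ⟶ (Dual.inD B B)⟦j⟧)) := fun j => by
    obtain ⟨e⟩ := exists_homBaseChangeLEquiv (B := B) (X := Dual.inD P (P ⧸ I)) (Y := Dual.inD P P)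
      ((Groth.Agent.S6942.result P 0 (Dual.inD P P) (P ⧸ I)).2.2 inferInstance) 0 j
    exact ⟨(IsLocalizedModule.isBaseChange Q.primeCompl B (LocalizedModule.mkLinearMap Q.primeCompl _)).equiv.symm.trans
      (e.symm.trans (Linear.homCongr B c₁ ((shiftFunctor (Dual.D B) j).mapIso c₃)))⟩
  refine ⟨c, fun j hj => ?_, ?_⟩
  · obtain ⟨k⟩ := key j
    suffices Subsingleton (Dual.inD B (B ⧸ I.map (algebraMap P B)) ⟶ (Dual.inD B B)⟦j⟧) from k.toEquiv.subsingleton
    by_cases hj0 : j < 0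
    · exact LC.subsingleton_hom_shift_neg B _ _ j hj0
    obtain ⟨m, rfl⟩ := Int.eq_ofNat_of_zero_le (not_lt.1 hj0)
    rw [LC.subsingleton_hom_shift_nat_iff]
    rcases lt_or_gt_of_ne (show m ≠ c from fun h => hj (by rw [h])) with h | h
    · exact hlt m h
    · obtain ⟨e⟩ := hge (m - c)
      rw [show m - c + c = m by omega] at e
      obtain ⟨i, hi⟩ : ∃ i, m - c = i + 1 := ⟨m - c - 1, by omega⟩
      haveI : Subsingleton (β (m - c) →₀ B ⧸ I.map (algebraMap P B)) := by
        rw [hi]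
        exact ⟨fun a b => Finsupp.ext fun j => (show PEmpty from j).elim⟩
      exact e.toEquiv.subsingleton
  · obtain ⟨k⟩ := key c
    obtain ⟨e⟩ := hge 0
    rw [Nat.zero_add] at e
    let h' : Abelian.Ext.{u} (ModuleCat.of B (B ⧸ I.map (algebraMap P B))) (ModuleCat.of B B) c ≃ₗ[B]
        (Dual.inD B (B ⧸ I.map (algebraMap P B)) ⟶ (Dual.inD B B)⟦(c : ℤ)⟧) := Abelian.Ext.homLinearEquiv
    exact ⟨k.trans (h'.symm.trans (e.trans (Finsupp.LinearEquiv.finsuppUnique B _ PUnit.{u+1})))⟩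

/-- Let R and A be Noetherian rings and R → A a homomorphism that is a local complete intersection,
presented by a surjection ψ : P = R[x_1, …, x_n] → A. For K in D(R) set φ^!(K) = RHom_P(A, K ⊗^L_R
P)[n], where the derived base change D(R) → D(P) is assumed to exist and RHom_P(A, −) : D(P) → D(A)
means a right adjoint of restriction of scalars along ψ, and set ω_{A/R} = φ^!(R); also assume that
the derived base change functors D(A) → D(A_f) exist for every f ∈ A. Then ω_{A/R} is invertible: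
for each prime q of A there exist f ∈ A not in q and an integer m with ω_{A/R} ⊗^L_A A_f ≅ A_f[m] in
D(A_f). (The published statement makes one more assertion, which is not included here.) -/
theorem result (R A : Type u) [CommRing R] [CommRing A] [IsNoetherianRing R] [IsNoetherianRing A] [Algebra R A] (hl : LCI.IsLCI R A) (n : ℕ) (ψ : MvPolynomial (Fin n) R →ₐ[R] A) (hψ : Function.Surjective ψ) [DRing.HasLBaseChange (algebraMap R (MvPolynomial (Fin n) R))] (Rψ : Dual.D (MvPolynomial (Fin n) R) ⥤ Dual.D A) (adj : DRing.restrictD ψ.toRingHom ⊣ Rψ) [hL : ∀ f : A, DRing.HasLBaseChange (algebraMap A (Localization.Away f))] (q : PrimeSpectrum A) : ∃ (f : A) (_ : f ∉ q.asIdeal) (m : ℤ), Nonempty ((DRing.LBaseChange (algebraMap A (Localization.Away f))).obj (Dual2.shriekVia n Rψ (Dual.inD R R)) ≅ (Dual.inD (Localization.Away f) (Localization.Away f))⟦m⟧) := by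
  obtain ⟨-, N, f₀, hf₀, hK⟩ := hl
  let P := MvPolynomial (Fin N) R
  let ψ₀ : P →+* A := f₀.toRingHom
  let I := RingHom.ker ψ₀
  obtain ⟨R₀, ⟨a₀⟩⟩ := exists_shriek ψ₀
  haveI := hasLBase (algebraMap R (MvPolynomial (Fin n) R))
  haveI := hasLBase (algebraMap R P)
  obtain ⟨e₁⟩ := nonempty_LBaseChange_iso (algebraMap R (MvPolynomial (Fin n) R))
  obtain ⟨u₀⟩ := nonempty_LBase_unit (algebraMap R P)
  obtain ⟨ind⟩ := nonempty_shriek_independent N n ψ₀ hf₀ ψ.toRingHom hψ
    (RingHom.ext fun r => (f₀.commutes r).trans (ψ.commutes r).symm)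
    (algebraMap R P) rfl (algebraMap R (MvPolynomial (Fin n) R)) rfl a₀ adj
  let W₀ := R₀.obj (DTen.unit P)
  let W := W₀⟦(N : ℤ)⟧
  let iR : Dual.inD R R ≅ DTen.unit R := (DerivedCategory.singleFunctorIsoCompQ (ModuleCat R) 0).app (ModuleCat.of R R)
  let eW : W ≅ Dual2.shriekVia n Rψ (Dual.inD R R) :=
    (shiftFunctor _ (N : ℤ)).mapIso (R₀.mapIso ((DTen.LBase _).mapIso iR ≪≫ u₀).symm) ≪≫ ind.app (Dual.inD R R) ≪≫
      ((shiftFunctor _ (n : ℤ)).mapIso (Rψ.mapIso (e₁.app _))).symm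
  let Q := q.asIdeal.comap ψ₀
  let B := Localization.AtPrime Q
  obtain ⟨c, hvan, ⟨ec⟩⟩ := exists_ext_atPrime I hK Q fun x hx => by
    show ψ₀ x ∈ q.asIdeal
    rw [RingHom.mem_ker.1 hx]
    exact zero_mem _
  let θ : ((ModuleCat.restrictScalars ψ₀).obj (ModuleCat.of A A) : Type u) ≃ₗ[P] (P ⧸ I) :=
    { (RingHom.quotientKerEquivOfSurjective hf₀).symm.toAddEquiv with
      map_smul' := fun r (x : A) => by
        refine (RingHom.quotientKerEquivOfSurjective hf₀).injective ?_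
        change (RingHom.quotientKerEquivOfSurjective hf₀) ((RingHom.quotientKerEquivOfSurjective hf₀).symm (ψ₀ r * x)) =
          (RingHom.quotientKerEquivOfSurjective hf₀) (Ideal.Quotient.mk I r * (RingHom.quotientKerEquivOfSurjective hf₀).symm x)
        rw [map_mul (RingHom.quotientKerEquivOfSurjective hf₀), RingEquiv.apply_symm_apply, RingEquiv.apply_symm_apply]
        rfl }
  let uP : DTen.unit P ≅ Dual.inD P P :=
    ((DerivedCategory.singleFunctorIsoCompQ (ModuleCat.{u} P) 0).app (ModuleCat.of P P)).symm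
  let cX : (DRing.restrictD ψ₀).obj (Dual.inD A A) ≅ Dual.inD P (P ⧸ I) :=
    H9Misc.DRingRestrict.restrictInDIso ψ₀ (ModuleCat.of A A) ≪≫
      (DerivedCategory.singleFunctor (ModuleCat.{u} P) 0).mapIso θ.toModuleIso
  have key : ∀ i : ℤ, ∃ g : Dual.HD A W i → (Dual.inD P (P ⧸ I) ⟶ (Dual.inD P P)⟦(N : ℤ) + i⟧),
      Function.Bijective g ∧ (∀ (r : P) z, g (ψ₀ r • z) = r • g z) ∧ g 0 = 0 ∧ ∀ z z', g (z + z') = g z + g z' := fun i => by
    let j : ℤ := (N : ℤ) + i
    obtain ⟨h₁⟩ := exists_homRingLEquiv W₀ j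
    obtain ⟨h₂, hadd, hsmul⟩ := exists_shriekHomEquiv ψ₀ R₀ a₀ (Dual.inD A A) (DTen.unit P) j
    let g₃ := Linear.homCongr P cX ((shiftFunctor (Dual.D P) j).mapIso uP)
    let g₀ : Dual.HD A W i ≃ₗ[A] Dual.HD A W₀ j :=
      (((DerivedCategory.homologyFunctor (ModuleCat.{u} A) 0).shiftIso (N : ℤ) i j rfl).app W₀).toLinearEquiv
    refine ⟨fun z => g₃ (h₂ (h₁.symm (g₀ z))),
      g₃.bijective.comp (h₂.bijective.comp (h₁.symm.bijective.comp g₀.bijective)), fun r z => ?_, ?_, fun z z' => ?_⟩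
    · show g₃ (h₂ (h₁.symm (g₀ (ψ₀ r • z)))) = r • g₃ (h₂ (h₁.symm (g₀ z)))
      rw [map_smul g₀, map_smul h₁.symm, hsmul, map_smul g₃]
    · have h0 : h₂ 0 = 0 := by
        have := hadd 0 0
        rwa [add_zero, left_eq_add] at this
      show g₃ (h₂ (h₁.symm (g₀ 0))) = 0
      rw [map_zero g₀, map_zero h₁.symm, h0, map_zero g₃]
    · show g₃ (h₂ (h₁.symm (g₀ (z + z')))) = g₃ (h₂ (h₁.symm (g₀ z))) + g₃ (h₂ (h₁.symm (g₀ z')))
      rw [map_add g₀, map_add h₁.symm, hadd, map_add g₃]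
  let s : ℤ := (c : ℤ) - N
  obtain ⟨gs, hgs, hgsl, hgs0, -⟩ := key s
  have hj : (N : ℤ) + s = (c : ℤ) := by omega
  have h0 : ∀ i, i ≠ s → Subsingleton (LocalizedModule q.asIdeal.primeCompl (Dual.HD A W i)) := fun i hi => by
    obtain ⟨g, hg, hgl, hg0, -⟩ := key i
    refine LocalizedModule.subsingleton_iff.2 fun z => ?_
    obtain ⟨r, hr, hr0⟩ := LocalizedModule.subsingleton_iff.1 (hvan _ (by omega)) (g z)
    exact ⟨ψ₀ r, hr, hg.1 (by rw [hgl, hr0, hg0])⟩
  obtain ⟨y, t, hyt, hgen⟩ : ∃ (y : Dual.inD P (P ⧸ I) ⟶ (Dual.inD P P)⟦(N : ℤ) + s⟧) (t : Q.primeCompl),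
      (∀ r : P, (∃ d ∈ Q.primeCompl, d • r • y = 0) → ∃ d ∈ Q.primeCompl, d * r ∈ I) ∧
        ∀ v, ∃ b : B, b • (LocalizedModule.mk y 1 : LocalizedModule Q.primeCompl _) = v := by
    rw [hj]
    obtain ⟨⟨y, t⟩, hyt⟩ := IsLocalizedModule.surj Q.primeCompl (LocalizedModule.mkLinearMap Q.primeCompl
      (Dual.inD P (P ⧸ I) ⟶ (Dual.inD P P)⟦(c : ℤ)⟧)) (ec.symm 1)
    refine ⟨y, t, fun r ⟨d, hd, hd0⟩ => ?_, fun v => ?_⟩
    swap
    · obtain ⟨b₀, hb₀⟩ := Ideal.Quotient.mk_surjective (ec v)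
      refine ⟨b₀ * IsLocalization.mk' B 1 t, ec.injective ?_⟩
      have h2 : ec (LocalizedModule.mk y 1) = algebraMap P B (t : P) • (1 : B ⧸ I.map (algebraMap P B)) := by
        rw [← ec.apply_symm_apply (1 : B ⧸ I.map (algebraMap P B)), ← map_smul, algebraMap_smul]
        exact (congrArg ec hyt).symm
      rw [map_smul, h2, smul_smul, mul_assoc, IsLocalization.mk'_spec, map_one, mul_one, ← Algebra.algebraMap_eq_smul_one]
      exact hb₀
    have h1 : algebraMap P B (d * r * (t : P)) • ec.symm 1 = 0 := by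
      rw [algebraMap_smul, mul_smul, show (t : P) • ec.symm 1 = LocalizedModule.mkLinearMap Q.primeCompl _ y from hyt,
        ← map_smul, mul_smul, hd0, map_zero]
    rw [← map_smul, map_eq_zero_iff _ ec.symm.injective, ← Algebra.algebraMap_eq_smul_one,
      Ideal.Quotient.algebraMap_eq, Ideal.Quotient.eq_zero_iff_mem,
      IsLocalization.algebraMap_mem_map_algebraMap_iff Q.primeCompl] at h1
    obtain ⟨e, he, he'⟩ := h1
    exact ⟨e * d * t, mul_mem (mul_mem he hd) t.2, by convert he' using 1; ring⟩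
  obtain ⟨x, hx⟩ := hgs.2 y
  have hbij : Function.Bijective (LocalizedModule.map q.asIdeal.primeCompl (LinearMap.toSpanSingleton A (Dual.HD A W s) x)) := by
    refine RGammaI.isOpen_gorenstein_locus.bijective_map_of_ker_coker _
      (LocalizedModule.subsingleton_iff.2 fun z => ?_) (LocalizedModule.subsingleton_iff.2 fun z => ?_)
    · obtain ⟨r, hr⟩ := hf₀ z.1
      have hz : r • y = 0 := by
        rw [← hx, ← hgsl, show ψ₀ r = z.1 from hr, show z.1 • x = 0 from z.2, hgs0]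
      obtain ⟨d, hd, hdr⟩ := hyt r ⟨1, one_mem _, by rw [hz, smul_zero]⟩
      refine ⟨ψ₀ d, hd, Subtype.ext ?_⟩
      show ψ₀ d * z.1 = 0
      rw [← show ψ₀ r = z.1 from hr, ← map_mul]
      exact RingHom.mem_ker.1 hdr
    · obtain ⟨w, rfl⟩ := Submodule.Quotient.mk_surjective _ z
      obtain ⟨d, hd, r, hdr⟩ : ∃ d ∈ Q.primeCompl, ∃ r : P, d • gs w = r • y := by
        have hsurj : ∀ v : LocalizedModule Q.primeCompl (Dual.inD P (P ⧸ I) ⟶ (Dual.inD P P)⟦(N : ℤ) + s⟧),
            ∃ b : B, b • LocalizedModule.mk y 1 = v := hgen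
        obtain ⟨b, hb⟩ := hsurj (LocalizedModule.mk (gs w) 1)
        obtain ⟨r, u', rfl⟩ := IsLocalization.exists_mk'_eq Q.primeCompl b
        rw [← Localization.mk_eq_mk', LocalizedModule.mk_smul_mk, LocalizedModule.mk_eq] at hb
        obtain ⟨v, hv⟩ := hb
        refine ⟨(v : P) * (u' : P), mul_mem v.2 u'.2, (v : P) * r, ?_⟩
        simpa [Submonoid.smul_def, mul_smul] using hv.symm
      refine ⟨ψ₀ d, hd, ?_⟩
      rw [← Submodule.Quotient.mk_smul, Submodule.Quotient.mk_eq_zero]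
      exact ⟨ψ₀ r, hgs.1 (by rw [LinearMap.toSpanSingleton_apply, hgsl, hgsl, hx, hdr])⟩
  obtain ⟨⟨p', q', hpq⟩, hfin⟩ : (∃ p' q' : ℤ, ∀ i, (i < p' ∨ q' < i) → Subsingleton (Dual.HD A W i)) ∧
      ∀ i, Module.Finite A (Dual.HD A W i) := by
    haveI := hasLTen P
    haveI := hasRHom (A := P)
    obtain ⟨⟨p', q', hpq⟩, hfinP⟩ := H9Misc.DRingRegular.finite_homology_of_isPerfect
      (isPerfect_dual (show DRing.IsPerfect P (Dual.inD P (P ⧸ I)) from KRegLib.isPerfectModule_quotient I hK))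
    have key' : ∀ j : ℤ, Nonempty (Dual.HD P ((DTen.RHomR P (Dual.inD P (P ⧸ I))).obj (DTen.unit P)) j ≃ₗ[P]
        (Dual.inD P (P ⧸ I) ⟶ (Dual.inD P P)⟦j⟧)) := fun j => by
      obtain ⟨l⟩ := exists_hdRHomShiftLEquiv (Dual.inD P (P ⧸ I)) (DTen.unit P) j
      exact ⟨l.trans (Linear.homCongr P (Iso.refl _) ((shiftFunctor (Dual.D P) j).mapIso uP))⟩
    refine ⟨⟨p' - N, q' - N, fun i hi => ?_⟩, fun i => ?_⟩
    · obtain ⟨g, hg, -, -, -⟩ := key i
      obtain ⟨l⟩ := key' ((N : ℤ) + i)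
      haveI := hpq ((N : ℤ) + i) (by omega)
      haveI := l.symm.toEquiv.subsingleton
      exact hg.1.subsingleton
    · obtain ⟨g, hg, hgl, hg0, hgadd⟩ := key i
      obtain ⟨l⟩ := key' ((N : ℤ) + i)
      haveI := hfinP ((N : ℤ) + i)
      obtain ⟨S, hS⟩ := (Module.Finite.equiv l).fg_top
      classical
      refine ⟨⟨S.image (Function.surjInv hg.2), top_unique fun z _ => ?_⟩⟩
      suffices ∀ w ∈ Submodule.span P (S : Set (Dual.inD P (P ⧸ I) ⟶ (Dual.inD P P)⟦(N : ℤ) + i⟧)),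
          Function.surjInv hg.2 w ∈ Submodule.span A (↑(S.image (Function.surjInv hg.2)) : Set (Dual.HD A W i)) by
        have h := this (g z) (hS ▸ Submodule.mem_top)
        rwa [hg.1 (Function.surjInv_eq hg.2 (g z))] at h
      intro w hw
      induction hw using Submodule.span_induction with
      | mem w hw => exact Submodule.subset_span (Finset.mem_image_of_mem _ hw)
      | zero =>
        rw [show Function.surjInv hg.2 0 = 0 from hg.1 ((Function.surjInv_eq hg.2 _).trans hg0.symm)]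
        exact zero_mem _
      | add w w' _ _ h h' =>
        rw [show Function.surjInv hg.2 (w + w') = Function.surjInv hg.2 w + Function.surjInv hg.2 w' from hg.1 (by
          rw [Function.surjInv_eq hg.2, hgadd, Function.surjInv_eq hg.2, Function.surjInv_eq hg.2])]
        exact add_mem h h'
      | smul r w _ h =>
        rw [show Function.surjInv hg.2 (r • w) = ψ₀ r • Function.surjInv hg.2 w from hg.1 (by
          rw [Function.surjInv_eq hg.2, hgl, Function.surjInv_eq hg.2])]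
        exact Submodule.smul_mem _ _ h
  obtain ⟨f, hf, hf'⟩ := exists_spread W p' q' s hpq hfin q.asIdeal h0 x hbij
  haveI := hasLBase (algebraMap A (Localization.Away f))
  obtain ⟨t'⟩ := hf'
  obtain ⟨cc⟩ := nonempty_LBaseChange_iso (algebraMap A (Localization.Away f))
  exact ⟨f, hf, -s, ⟨(DRing.LBaseChange _).mapIso eW.symm ≪≫ cc.app W ≪≫ t'⟩⟩


end Groth.Agent.S1828
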