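import Groth.Statements.S12440
import Groth.Agent.KFlatLib.Ring.InvertibleTwist
import Groth.Agent.RGammaI.ShriekDual
import Groth.Agent.InvMod.Local
import Mathlib.RingTheory.Spectrum.Prime.FreeLocus
-- import your own Groth.Agent.* helpers here

set_option autoImplicit false
universe u
open CategoryTheory
attribute [local instance] HasDerivedCategory.standard
open Dual

namespace Groth.Agent.S12440

open Groth.Agent.KFlatLib TensorProduct in
/-- Maps between two dualizing complexes, localised at a prime. -/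
lemma exists_localized_hom {A : Type u} [CommRing A] [IsNoetherianRing A] {ω ω' : Dual.D A}
    (hω : Dual.IsDualizing A ω) (hω' : Dual.IsDualizing A ω') (p : PrimeSpectrum A) :
    ∃ n : ℤ, ∀ i : ℤ,
      (i ≠ n → Subsingleton (Localization.AtPrime p.asIdeal ⊗[A] (ω ⟶ ω'⟦i⟧))) ∧
      (i = n → Nonempty (Localization.AtPrime p.asIdeal ⊗[A] (ω ⟶ ω'⟦i⟧)
        ≃ₗ[Localization.AtPrime p.asIdeal] Localization.AtPrime p.asIdeal)) := by
  let B := Localization.AtPrime p.asIdeal
  haveI := KFlatLib.hasLBase (algebraMap A B)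
  haveI : Module.Flat A B := IsLocalization.flat B p.asIdeal.primeCompl
  haveI : IsNoetherianRing B := IsLocalization.isNoetherianRing p.asIdeal.primeCompl B inferInstance
  haveI := hasLTen A
  haveI := hasRHom (A := A)
  haveI := hasLTen B
  haveI := hasRHom (A := B)
  have hmax : ∀ n : Ideal B, n.IsMaximal → ∃ I : Ideal A, I.map (algebraMap A B) = n := fun n _ =>
    ⟨n.comap (algebraMap A B), IsLocalization.map_comap p.asIdeal.primeCompl B n⟩
  have hW := isDualizing_LBase (B := B) hω hmax
  let W := (DTen.LBase (algebraMap A B)).obj ω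
  obtain ⟨m, ⟨e⟩⟩ := exists_iso_shift_of_isDualizing hW (isDualizing_LBase (B := B) hω' hmax)
  obtain ⟨-, b, -, -, hLE⟩ := exists_bounds_of_isDualizing hω
  obtain ⟨a', -, -, hGE, -⟩ := exists_bounds_of_isDualizing hω'
  haveI := hLE
  haveI := hGE
  refine ⟨-m, fun i => ?_⟩
  obtain ⟨c⟩ := exists_homBaseChangeLEquiv (B := B) (Y := ω') (pc'_of_finite_hd ω b hω.finite_cohomology) a' i
  let f : B ⊗[A] (ω ⟶ ω'⟦i⟧) ≃ₗ[B] (W ⟶ W⟦m + i⟧) :=
    c.symm.trans (Linear.homCongr B (Iso.refl W)
      ((shiftFunctor (Dual.D B) i).mapIso e ≪≫ ((shiftFunctorAdd (Dual.D B) m i).app W).symm))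
  refine ⟨fun hi => ?_, fun hi => ?_⟩
  · haveI := hW.ext_self_subsingleton (m + i) (by omega)
    exact f.injective.subsingleton
  · subst hi
    let t : B →ₗ[B] (W ⟶ W) :=
      { toFun := fun x => x • 𝟙 W
        map_add' := fun x y => add_smul x y _
        map_smul' := fun x y => mul_smul x y _ }
    exact ⟨f.trans ((Linear.homCongr B (Iso.refl W)
      (eqToIso (by rw [add_neg_cancel]) ≪≫ (shiftFunctorZero (Dual.D B) ℤ).app W)).trans
      (LinearEquiv.ofBijective t hW.toEnd_bijective).symm)⟩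

/-- A finite module free of rank one at every prime is invertible. -/
lemma invertible_of_atPrime {A : Type u} [CommRing A] [IsNoetherianRing A] (M : Type u) [AddCommGroup M]
    [Module A M] [Module.Finite A M]
    (h : ∀ p : PrimeSpectrum A, Nonempty (LocalizedModule p.asIdeal.primeCompl M
      ≃ₗ[Localization.AtPrime p.asIdeal] Localization.AtPrime p.asIdeal)) : Module.Invertible A M := by
  haveI : Module.FinitePresentation A M := Module.finitePresentation_of_finite A M
  refine Groth.Agent.InvMod.invertible_of_locally_free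
    {r : A | Nonempty (LocalizedModule.Away r M ≃ₗ[Localization.Away r] Localization.Away r)} ?_ fun r hr => hr
  by_contra hne
  obtain ⟨q, hq, hle⟩ := Ideal.exists_le_maximal _ hne
  obtain ⟨l⟩ := h ⟨q, hq.isPrime⟩
  obtain ⟨r, hr, l', -⟩ := Module.FinitePresentation.exists_lift_equiv_of_isLocalizedModule q.primeCompl
    (LocalizedModule.mkLinearMap q.primeCompl M) (Algebra.linearMap A (Localization.AtPrime q))
    (l.restrictScalars A)
  exact hr (hle (Ideal.subset_span ⟨l'.trans
    ((IsLocalizedModule.iso (Submonoid.powers r) (Algebra.linearMap A (Localization.Away r))).extendScalarsOfIsLocalization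
      (Submonoid.powers r) (Localization.Away r))⟩))

/-- Let A be a Noetherian ring whose prime spectrum is connected, and let ω and ω′ be dualizing
complexes for A. Then there exist an invertible A-module P (finite locally free of rank one) and an
integer n such that ω′ ≅ (ω ⊗^L_A P)[n] in D(A); here the total left derived functor − ⊗^L_A P is
assumed to exist (a true statement carried as a hypothesis). The published statement is for a
connected locally Noetherian scheme; the affine case is stated. -/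
theorem result (A : Type u) [CommRing A] [IsNoetherianRing A]
    [ConnectedSpace (PrimeSpectrum A)] (ω ω' : Dual.D A) (hω : Dual.IsDualizing A ω) (hω' : Dual.IsDualizing A ω') :
    ∃ (P : ModuleCat.{u} A) (_ : Module.Invertible A P) (n : ℤ),
      ∀ [DRing.HasLTensor A P], Nonempty (ω' ≅ ((DRing.LTensor A P).obj ω)⟦n⟧) := by
  haveI := KFlatLib.hasLTen A
  haveI := KFlatLib.hasRHom (A := A)
  haveI := KFlatLib.hasLTen₃ A
  haveI := KFlatLib.isSymMonoidal A
  obtain ⟨a, b, hab, hGE, hLE⟩ := KFlatLib.exists_bounds_of_isDualizing hω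
  obtain ⟨a', b', hab', hGE', -⟩ := KFlatLib.exists_bounds_of_isDualizing hω'
  haveI := hGE
  haveI := hLE
  haveI := hGE'
  let P := (DTen.RHomR A ω).obj ω'
  let Q := (DTen.RHomR A ω').obj ω
  let H := fun i => (DerivedCategory.homologyFunctor (ModuleCat.{u} A) i).obj P
  haveI hPLE : P.IsLE (b' - a) := KFlatLib.isLE_RHomR ω ω' a a' b' hab'
  haveI hPGE : P.IsGE (a' - b) := KFlatLib.isGE_RHomR ω ω' b a'
  have hfin : ∀ i, Module.Finite A (H i) := fun i =>
    KFlatLib.finite_hd_RHom_of_finite_hd hω.finite_cohomology hω'.finite_cohomology ⟨a', b', hab'⟩ i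
  let S : ℤ → Set (PrimeSpectrum A) := fun i => Module.support A (H i)
  choose n hn using exists_localized_hom hω hω'
  have hloc : ∀ (p : PrimeSpectrum A) (i : ℤ),
      (i ≠ n p → Subsingleton (LocalizedModule p.asIdeal.primeCompl (H i))) ∧
      (i = n p → Nonempty (LocalizedModule p.asIdeal.primeCompl (H i)
        ≃ₗ[Localization.AtPrime p.asIdeal] Localization.AtPrime p.asIdeal)) := fun p i => by
    obtain ⟨e⟩ := KFlatLib.exists_hdRHomShiftLEquiv ω ω' i
    let f := (LocalizedModule.equivTensorProduct p.asIdeal.primeCompl (H i)).trans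
      (TensorProduct.AlgebraTensorModule.congr (LinearEquiv.refl (Localization.AtPrime p.asIdeal)
        (Localization.AtPrime p.asIdeal)) e)
    refine ⟨fun hi => ?_, fun hi => ?_⟩
    · haveI := (hn p i).1 hi
      exact f.injective.subsingleton
    · obtain ⟨g⟩ := (hn p i).2 hi
      exact ⟨f.trans g⟩
  have hmem : ∀ p i, p ∈ S i ↔ i = n p := fun p i => by
    rw [Module.mem_support_iff]
    refine ⟨fun h => ?_, fun h => ?_⟩
    · by_contra hi
      haveI := (hloc p i).1 hi
      exact not_nontrivial _ h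
    · obtain ⟨g⟩ := (hloc p i).2 h
      exact g.toEquiv.nontrivial
  have hclosed : ∀ i, IsClosed (S i) := fun i =>
    haveI := hfin i
    Module.isClosed_support
  have hrange : ∀ p, n p ∈ Set.Icc (a' - b) (b' - a) := fun p => by
    by_contra hout
    have hz : Subsingleton (H (n p)) := by
      refine ModuleCat.subsingleton_of_isZero ?_
      rcases not_and_or.1 hout with h | h
      · exact DerivedCategory.isZero_of_isGE P (a' - b) _ (by omega)
      · exact DerivedCategory.isZero_of_isLE P (b' - a) _ (by omega)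
    obtain ⟨g⟩ := (hloc p (n p)).2 rfl
    haveI : Subsingleton (LocalizedModule p.asIdeal.primeCompl (H (n p))) := inferInstance
    exact not_subsingleton (Localization.AtPrime p.asIdeal) g.symm.injective.subsingleton
  obtain ⟨p₀⟩ := (inferInstance : Nonempty (PrimeSpectrum A))
  let i₀ := n p₀
  have hcl : IsClopen (S i₀) := by
    refine ⟨hclosed i₀, isClosed_compl_iff.1 ?_⟩
    have : (S i₀)ᶜ = ⋃ i ∈ Set.Icc (a' - b) (b' - a) \ {i₀}, S i := by
      ext p
      simp only [Set.mem_compl_iff, hmem, Set.mem_iUnion, exists_prop, Set.mem_sdiff, Set.mem_singleton_iff]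
      exact ⟨fun h => ⟨n p, ⟨hrange p, fun e => h e.symm⟩, rfl⟩, fun ⟨i, ⟨_, hi⟩, hip⟩ h => hi (hip.trans h.symm)⟩
    rw [this]
    exact ((Set.finite_Icc _ _).subset Set.sdiff_subset).isClosed_biUnion fun i _ => hclosed i
  have hall : ∀ p, i₀ = n p := fun p =>
    (hmem p i₀).1 ((hcl.eq_univ ⟨p₀, (hmem p₀ i₀).2 rfl⟩).symm ▸ Set.mem_univ p)
  have hzero : ∀ i, i ≠ i₀ → CategoryTheory.Limits.IsZero (H i) := fun i hi => by
    haveI : Subsingleton (H i) := (Module.support_eq_empty_iff (R := A) (M := H i)).1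
      (Set.eq_empty_of_forall_notMem fun p hp => hi (((hmem p i).1 hp).trans (hall p).symm))
    exact ModuleCat.isZero_of_subsingleton _
  haveI : P.IsLE i₀ := (DerivedCategory.isLE_iff _ _).2 fun i hi => hzero i (by omega)
  haveI : P.IsGE i₀ := (DerivedCategory.isGE_iff _ _).2 fun i hi => hzero i (by omega)
  obtain ⟨e₁⟩ := H9Misc.nonempty_iso_single_homology i₀ P
  haveI := hfin i₀
  haveI hinv : Module.Invertible A (H i₀) :=
    invertible_of_atPrime (H i₀) fun p => (hloc p i₀).2 (hall p)
  refine ⟨H i₀, hinv, -i₀, fun {_} => ?_⟩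
  haveI := KFlatLib.preservesFiniteLimits_tensorRight (H i₀)
  let Z := Dual.inD A (H i₀)
  let eP : P ≅ Z⟦-i₀⟧ := e₁ ≪≫
    (((DerivedCategory.singleFunctors (ModuleCat.{u} A)).shiftIso (-i₀) i₀ 0 (by omega)).app (H i₀)).symm
  obtain ⟨h⟩ := KFlatLib.nonempty_ten_RHom_iso_unit hω hω'
  obtain ⟨t₀⟩ := KFlatLib.nonempty_tensorRight_shift (B := A) 0
    ((shiftFunctorZero (Dual.D A) ℤ).app (DTen.unit A)).symm
  let u : DTen.tensorRightD A (DTen.unit A) ≅ 𝟭 (Dual.D A) := t₀ ≪≫ shiftFunctorZero (Dual.D A) ℤ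
  let E : Dual.D A ≌ Dual.D A := CategoryTheory.Equivalence.mk (DTen.tensorRightD A Q) (DTen.tensorRightD A P)
    (RGammaI.ShriekDual.tensorRightComp Q P ≪≫
      (DTen.LTen A).flip.mapIso (DTen.braiding P Q ≪≫ h) ≪≫ u).symm
    (RGammaI.ShriekDual.tensorRightComp P Q ≪≫ (DTen.LTen A).flip.mapIso h ≪≫ u)
  let r : DTen.RHomR A Q ≅ DTen.tensorRightD A P := Adjunction.rightAdjointUniq (DTen.rhomAdj A Q) E.toAdjunction
  obtain ⟨eb⟩ := KFlatLib.nonempty_biduality hω hω'.finite_cohomology
  let U := (DTen.unit A)⟦-i₀⟧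
  obtain ⟨t⟩ := KFlatLib.nonempty_tensorRight_shift (B := A) (-i₀) (Iso.refl U)
  obtain ⟨w⟩ := KFlatLib.nonempty_twist_LTen (H i₀) ω
  obtain ⟨v⟩ := KFlatLib.nonempty_LTensor_twist (H i₀) ω
  exact ⟨eb.symm ≪≫ r.app ω ≪≫ (DTen.LTen₂ A).mapIso (Iso.prod (Iso.refl ω) (eP ≪≫ (t.app Z).symm)) ≪≫
    (DTen.associator ω Z U).symm ≪≫ t.app ((DTen.LTen₂ A).obj (ω, Z)) ≪≫
    (shiftFunctor (Dual.D A) (-i₀)).mapIso (w.symm ≪≫ v.symm)⟩


end Groth.Agent.S12440
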