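import Groth.Statements.S3621
import Groth.Agent.RGammaI.GorLocus
import Groth.Agent.LC.GorFlat
-- import your own Groth.Agent.* helpers here

set_option autoImplicit false
universe u
open CategoryTheory CategoryTheory.Limits AlgebraicGeometry
attribute [local instance] HasDerivedCategory.standard
open Dual3

namespace Groth.Agent.S3621

open AlgebraicGeometry CategoryTheory.Limits

/-- The stalk at a point of an affine open is the localisation. -/
lemma point_iff (X : Scheme.{u}) (A : Type u) [CommRing A] [IsNoetherianRing A] (j : Spec (CommRingCat.of A) ⟶ X)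
    [IsOpenImmersion j] (p : PrimeSpectrum A) :
    LocCoh.IsGorensteinLocalRing (X.presheaf.stalk (j.base p)) ↔
      LocCoh.IsGorensteinLocalRing (Localization.AtPrime p.asIdeal) := by
  letI : Algebra A ((Spec (CommRingCat.of A)).presheaf.stalk p) := StructureSheaf.stalkAlgebra A p
  haveI : IsLocalization.AtPrime ((Spec (CommRingCat.of A)).presheaf.stalk p) p.asIdeal :=
    inferInstanceAs (IsLocalization.AtPrime ((Spec.structureSheaf A).presheaf.stalk p) p.asIdeal)
  let e₁ : X.presheaf.stalk (j.base p) ≃+* (Spec (CommRingCat.of A)).presheaf.stalk p :=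
    (asIso (j.stalkMap p)).commRingCatIsoToRingEquiv
  let e₂ : (Spec (CommRingCat.of A)).presheaf.stalk p ≃+* Localization.AtPrime p.asIdeal :=
    (IsLocalization.algEquiv p.asIdeal.primeCompl _ _).toRingEquiv
  let e₃ := e₁.trans e₂
  haveI : IsNoetherianRing (X.presheaf.stalk (j.base p)) := isNoetherianRing_of_ringEquiv _ e₃.symm
  exact ⟨fun h => Groth.Agent.LC.gorenstein_of_ringEquiv e₃, fun h => Groth.Agent.LC.gorenstein_of_ringEquiv e₃.symm⟩

/-- Let X be a locally Noetherian scheme which has a dualizing complex (exactness instances as in the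
definition of dualizing complexes on schemes). Then the set of points x of X whose local ring
O_{X,x} is Gorenstein is open. -/
theorem result (X : Scheme.{u}) [IsLocallyNoetherian X] [∀ (U V : Scheme.{u}) (j : U ⟶ V) [IsOpenImmersion j], PreservesFiniteLimits (Scheme.Modules.restrictFunctor j)] [∀ (R : CommRingCat.{u}), PreservesFiniteLimits (tilde.functor R)] (K : DCoh.D X) (hK : Dual2.IsDualizingSch X K) : IsOpen {x : X | LocCoh.IsGorensteinLocalRing (X.presheaf.stalk x)} := by
  refine isOpen_iff_forall_mem_open.2 fun x hx => ?_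
  obtain ⟨_, ⟨U, hU, rfl⟩, hxU, -⟩ := X.isBasis_affineOpens.exists_subset_of_mem_open (Set.mem_univ x) isOpen_univ
  haveI : IsNoetherianRing Γ(X, U) := IsLocallyNoetherian.component_noetherian ⟨U, hU⟩
  let j : Spec (CommRingCat.of Γ(X, U)) ⟶ X := IsAffineOpen.fromSpec hU
  haveI : IsOpenImmersion j := inferInstanceAs (IsOpenImmersion (IsAffineOpen.fromSpec hU))
  obtain ⟨p, rfl⟩ : x ∈ Set.range j.base := by
    show x ∈ Set.range (IsAffineOpen.fromSpec hU).base
    rw [IsAffineOpen.range_fromSpec hU]; exact hxU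
  obtain ⟨ωA, hωA, -⟩ := hK Γ(X, U) j
  refine ⟨j.base '' {q | LocCoh.IsGorensteinLocalRing (Localization.AtPrime q.asIdeal)}, ?_,
    j.isOpenEmbedding.isOpenMap _ (Groth.Agent.RGammaI.isOpen_gorenstein_locus ωA hωA),
    p, (point_iff X Γ(X, U) j p).1 hx, rfl⟩
  rintro _ ⟨q, hq, rfl⟩
  exact (point_iff X Γ(X, U) j q).2 hq


end Groth.Agent.S3621
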