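import Groth.Statements.S5674
import Groth.Agent.ExtShX.LocalGlobal
import Groth.Agent.AlgSpDec.SmoothLocDim
import Groth.Agent.DimFormula.FlatFibres
import Groth.Agent.WeilExt.Extend
import Groth.Agent.GrpSchLib.SmoothRegular

set_option autoImplicit false
universe u
open CategoryTheory CategoryTheory.Limits AlgebraicGeometry
open ProjDual

namespace Groth.Agent.S5674

set_option linter.style.haveILetI false
set_option backward.isDefEq.respectTransparency false
set_option backward.isDefEq.respectTransparency.types false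
set_option maxHeartbeats 1000000

open CategoryTheory CategoryTheory.Limits AlgebraicGeometry TopologicalSpace Groth.Agent

theorem le_stalk_dim {k : Type u} [Field k] {X : Scheme.{u}} (f : X ⟶ Spec (CommRingCat.of k)) (n : ℕ)
    [SmoothOfRelativeDimension n f] (x : X) :
    ∃ b : ℕ, ringKrullDim (X.presheaf.stalk x) = b ∧ n ≤ VarDim.deg f x + b := by
  haveI : Smooth f := SmoothOfRelativeDimension.smooth n f
  haveI : LocallyOfFiniteType f := inferInstance
  obtain ⟨b, hb, -, hle⟩ := VarDim.exists_deg_add_stalk f x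
  obtain ⟨g, hg, hmax⟩ := WeilExt.exists_maximal_generization x
  refine ⟨b, hb, le_trans (le_of_eq ?_) (hle g hg)⟩
  have hrd : FibDim.rd f g = n :=
    (CycLib.hasRelDim_iff f).1 (AlgSpDec.SmoothLocDim.hasRelDim_of_smoothOfRelativeDimension n f) g
      (FibDim.fibMax_of_maximal f hmax)
  rw [VarDim.deg_eq_add f (𝟙 (Spec (CommRingCat.of k))) (Category.comp_id f) g, ← DimFormula.rd_eq_fdeg, hrd,
    VarDim.deg, VarDim.tdeg_id]
  simp

theorem depth_ge {k : Type u} [Field k] {X : Scheme.{u}} (f : X ⟶ Spec (CommRingCat.of k)) (n : ℕ)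
    [SmoothOfRelativeDimension n f] [IsLocallyNoetherian X] {L : X.Modules} (hL : FlatMod.IsFinLocFree L)
    {S : Set X} (hS : IsClosed S) {p : ℕ} (hsupp : topologicalKrullDim S + (p : WithBot ℕ∞) ≤ (n : WithBot ℕ∞))
    {y : X} (hy : y ∈ S) :
    (p : ℕ∞) ≤ LocCoh.depth (X.presheaf.stalk y) (L.presheaf.stalk y) := by
  haveI : Smooth f := SmoothOfRelativeDimension.smooth n f
  haveI : IsRegularLocalRing (X.presheaf.stalk y) := GrpSchLib.isRegularLocalRing_stalk_of_smooth f y
  haveI := LC.gorenstein_of_isRegularLocalRing (R := X.presheaf.stalk y)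
  haveI := LC.isCohenMacaulayLocalRing_of_gorenstein (R := X.presheaf.stalk y)
  haveI := QCoh.free_stalk_of_isFinLocFree hL y
  haveI := QCoh.finite_stalk_of_isFT (QCoh.isQCoh_of_isFinLocFree hL) (QCoh.isFT_of_isFP (QCoh.isFP_of_isFinLocFree hL)) y
  obtain ⟨b, hb, hn⟩ := le_stalk_dim f n y
  have hsub : closure ({y} : Set X) ⊆ S := hS.closure_subset_iff.2 (Set.singleton_subset_iff.2 hy)
  have h1 : ((VarDim.deg f y : ℕ∞) : WithBot ℕ∞) ≤ topologicalKrullDim S := by
    rw [← VarDim.topologicalKrullDim_closure_singleton f y]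
    exact (Topology.IsEmbedding.inclusion hsub).isInducing.topologicalKrullDim_le
  have h2 : ((VarDim.deg f y + p : ℕ) : WithBot ℕ∞) ≤ (n : WithBot ℕ∞) := by
    refine le_trans ?_ hsupp
    push_cast
    exact add_le_add h1 le_rfl
  have h3 : VarDim.deg f y + p ≤ n := by exact_mod_cast h2
  refine le_trans ?_ (S14116.depth_le_of_free _ _)
  have hd := LocCoh.IsCohenMacaulayLocalRing.supportDim_eq_depth (R := X.presheaf.stalk y)
  rw [Module.supportDim_self_eq_ringKrullDim, hb] at hd
  have h4 : ((b : ℕ) : ℕ∞) = LocCoh.depth (X.presheaf.stalk y) (X.presheaf.stalk y) := WithBot.coe_inj.1 hd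
  rw [← h4]
  exact_mod_cast (by omega : p ≤ b)

/-- Let `k` be an algebraically closed field, `X` a nonsingular algebraic set of dimension `n` over `k`
— here: a quasi-compact `k`-scheme smooth of relative dimension `n` over `k` — `F` a coherent
`O_X`-module whose support has dimension at most `n - p`, and `L` a finite locally free
`O_X`-module. Then the (global) groups `Ext^i_{O_X}(F, L)` vanish for `i < p`. (All components of
`X` have dimension `n`; for a nonsingular algebraic set with a component of smaller dimension the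
conclusion fails. The Ext instance on the category of `O_X`-modules is taken as a hypothesis; it
holds since that category is Grothendieck abelian.) -/
theorem result (k : Type u) [Field k] [IsAlgClosed k] (n : ℕ) (X : Scheme.{u}) [X.Over (Spec (CommRingCat.of k))] [SmoothOfRelativeDimension n (X ↘ Spec (CommRingCat.of k))] [CompactSpace X] [HasExt.{u} X.Modules] (F : X.Modules) (hF : Coh.IsCoh F) (L : X.Modules) (hL : FlatMod.IsFinLocFree L) (p : ℕ) (hsupp : topologicalKrullDim ↥(CohB1.support F) + p ≤ n) (i : ℕ) (hi : i < p) : Subsingleton (Abelian.Ext F L i) := by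
  haveI : Smooth (X ↘ Spec (CommRingCat.of k)) := SmoothOfRelativeDimension.smooth n _
  haveI : IsLocallyNoetherian X := LocallyOfFiniteType.isLocallyNoetherian (X ↘ Spec (CommRingCat.of k))
  have hLc : Coh.IsCoh L := Groth.Agent.QCoh.isCoh_iff_isFP.2 (Groth.Agent.QCoh.isFP_of_isFinLocFree hL)
  exact Groth.Agent.ExtShX.subsingleton_ext_of_isZero_E F L
    (fun j hj => Groth.Agent.ExtShX.isZero_E_of_depth hF hLc (fun y hy =>
      depth_ge (X ↘ Spec (CommRingCat.of k)) n hL (Groth.Agent.QCoh.isClosed_support_of_isFT hF.1 hF.2) hsupp hy) hj) hi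

end Groth.Agent.S5674
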