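import Groth.Statements.S3510
import Groth.Agent.EtAcycLib.UnitRpush
-- import your own Groth.Agent.* helpers here

set_option autoImplicit false
universe u
open CategoryTheory CategoryTheory.Limits AlgebraicGeometry Opposite
open EtAcyc

namespace Groth.Agent.S3510

open Groth.Agent.EtAcycLib.UnitRpush in
theorem bijective_comp_aux {A W : Scheme.{u}} (f : A ⟶ W) [PreservesFiniteLimits (EtCoh.pull f)]
    {M N : EtCoh.Ab W} {K : EtCoh.Ab A} (φ : M ⟶ N) (β : N ⟶ (EtCoh.push f).obj K) [IsIso β]
    (h : Function.Bijective (fun x : EtCoh.H W M 0 =>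
      EtLim.HofPush f K 0 (x.comp (Abelian.Ext.mk₀ (φ ≫ β)) (add_zero 0)))) :
    Function.Bijective (fun x : EtCoh.H W M 0 => x.comp (Abelian.Ext.mk₀ φ) (add_zero 0)) := by
  have hβ : Function.Bijective (fun z : EtCoh.H W N 0 => z.comp (Abelian.Ext.mk₀ β) (add_zero 0)) :=
    Function.bijective_iff_has_inverse.2 ⟨fun z => z.comp (Abelian.Ext.mk₀ (inv β)) (add_zero 0),
      fun z => by simp [Abelian.Ext.comp_assoc_of_third_deg_zero],
      fun z => by simp [Abelian.Ext.comp_assoc_of_third_deg_zero]⟩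
  refine (Function.Bijective.of_comp_iff' ((Groth.Agent.BcQCalc.HofPush_bijective_zero f K).comp hβ) _).1 ?_
  refine (congrArg Function.Bijective (funext fun x => ?_)).mp h
  show EtLim.HofPush f K 0 _ = EtLim.HofPush f K 0 _
  refine congrArg _ ?_
  dsimp only
  rw [← Abelian.Ext.mk₀_comp_mk₀, Abelian.Ext.comp_assoc_of_third_deg_zero]

/-- (i) ⇔ (ii): let g : X → Y be a morphism of schemes, L a set of primes and n a natural number. Then g
is n-acyclic for L (form (ii): for every etale V → Y with projection g' : X ×_Y V → V and every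
abelian L-torsion sheaf F on V, H^q(V, F) → H^q(X ×_Y V, g'⁻¹F) is bijective for q ≤ n and injective
for q = n + 1) if and only if (form (i)) for every such V and F the unit F → g'_* g'⁻¹ F is an
isomorphism and R^q g'_* (g'⁻¹ F) = 0 for 1 ≤ q ≤ n. -/
theorem result {X Y : Scheme.{u}} (g : X ⟶ Y) (L : Set ℕ) (n : ℕ) :
    EtAcyc.IsAcyclicN g L n ↔
      ∀ (V : Y.Etale) (F : EtCoh.Ab V.left), EtAcyc.IsLTorsion L F →
        IsIso ((EtCoh.pullPushAdj (EtAcyc.prj g V)).unit.app F) ∧
          ∀ q : ℕ, 1 ≤ q → q ≤ n →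
            IsZero ((EtCoh.Rpush (EtAcyc.prj g V) q).obj ((EtCoh.pull (EtAcyc.prj g V)).obj F)) := by
  open Groth.Agent.EtAcycLib.UnitRpush in
  constructor
  · intro h V F hF
    let p := EtAcyc.prj g V
    let G := (EtCoh.pull p).obj F
    have hb : ∀ (U : V.left.Etale) (q : ℕ), q ≤ n → ∀ [PreservesFiniteLimits (EtCoh.pull (EtAcyc.prj g (comp V U)))],
        haveI : AlgebraicGeometry.Etale U.hom := U.prop
        Function.Bijective (fun x : EtCoh.H U.left ((EtCoh.pull U.hom).obj F) q =>
          EtLim.HofPush (EtAcyc.prj g (comp V U)) ((EtCoh.pull (lift g V U)).obj G) q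
            (x.comp (Abelian.Ext.mk₀ ((EtCoh.pull U.hom).map ((EtCoh.pullPushAdj p).unit.app F) ≫
              EtCoh.baseChange0 p U.hom (EtAcyc.prj g (comp V U)) (lift g V U) (isPullback g V U).w G))
              (add_zero q))) := fun U q hq inst => by
      haveI := inst
      haveI : AlgebraicGeometry.Etale U.hom := U.prop
      exact bijective_HofPush_unit p U.hom _ _ (isPullback g V U) F q
        ((h (comp V U) ((EtCoh.pull U.hom).obj F) (Groth.Agent.EtAcycLib.isLTorsion_pull U.hom hF)).1 q hq)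
    have hu : IsIso ((EtCoh.pullPushAdj p).unit.app F) := by
      refine isIso_of_H0 _ fun U => ?_
      haveI : AlgebraicGeometry.Etale U.hom := U.prop
      haveI := Groth.Agent.EtFound.pull_preservesFiniteLimits (EtAcyc.prj g (comp V U))
      haveI : IsIso (EtCoh.baseChange0 p U.hom (EtAcyc.prj g (comp V U)) (lift g V U) (isPullback g V U).w G) :=
        Groth.Agent.BcQCalc.isIso_baseChange0_of_etale U.hom p _ _ (isPullback g V U) G
      exact @bijective_comp_aux _ _ (EtAcyc.prj g (comp V U)) _ _ _ _ ((EtCoh.pull U.hom).map ((EtCoh.pullPushAdj p).unit.app F))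
        (EtCoh.baseChange0 p U.hom (EtAcyc.prj g (comp V U)) (lift g V U) (isPullback g V U).w G)
        (Groth.Agent.BcQCalc.isIso_baseChange0_of_etale U.hom p _ _ (isPullback g V U) G) (hb U 0 (Nat.zero_le n))
    refine ⟨hu, fun q hq1 hqn => ?_⟩
    have H : ∀ q : ℕ, q < n → IsZero ((EtCoh.Rpush p (q + 1)).obj G) := by
      intro q
      induction q using Nat.strong_induction_on with
      | _ q ih =>
        intro hqn
        refine isZero_Rpush_succ g V q G (fun j hj => ih j hj (by omega)) fun U _ z => ?_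
        obtain ⟨x, hx⟩ := (hb U (q + 1) hqn).2 z
        exact ⟨_, hx⟩
    obtain ⟨k, rfl⟩ := Nat.exists_eq_add_of_le hq1
    exact (add_comm 1 k) ▸ H k (by omega)
  · intro h V F hF _
    obtain ⟨hu, hR⟩ := h V F hF
    have hR' : ∀ j, j < n → IsZero ((EtCoh.Rpush (EtAcyc.prj g V) (j + 1)).obj
        ((EtCoh.pull (EtAcyc.prj g V)).obj F)) := fun j hj => hR (j + 1) (by omega) (by omega)
    let u := (EtCoh.pullPushAdj (EtAcyc.prj g V)).unit.app F
    have hc : ∀ q : ℕ, Function.Bijective (fun x : EtCoh.H V.left F q => x.comp (Abelian.Ext.mk₀ u) (add_zero q)) :=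
      fun q => Function.bijective_iff_has_inverse.2 ⟨fun z => z.comp (Abelian.Ext.mk₀ (inv u)) (add_zero q),
        fun z => by simp [Abelian.Ext.comp_assoc_of_third_deg_zero],
        fun z => by simp [Abelian.Ext.comp_assoc_of_third_deg_zero]⟩
    constructor
    · intro q hq
      rw [show ⇑(EtCore.Hpull (EtAcyc.prj g V) F q) = EtLim.HofPush (EtAcyc.prj g V) _ q ∘
        (fun x : EtCoh.H V.left F q => x.comp (Abelian.Ext.mk₀ u) (add_zero q)) from
          funext (Hpull_eq_HofPush _ F q)]
      exact (HofPush_bijective _ q _ fun j hj => hR' j (by omega)).comp (hc q)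
    · rw [show ⇑(EtCore.Hpull (EtAcyc.prj g V) F (n + 1)) = EtLim.HofPush (EtAcyc.prj g V) _ (n + 1) ∘
        (fun x : EtCoh.H V.left F (n + 1) => x.comp (Abelian.Ext.mk₀ u) (add_zero (n + 1))) from
          funext (Hpull_eq_HofPush _ F (n + 1))]
      exact (Groth.Agent.BcQCalc.HofPush_injective_succ _ n _ hR').comp (hc (n + 1)).1

end Groth.Agent.S3510
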