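import Groth.Statements.S14381
import Groth.Agent.EtFound.FLCTorsor
import Groth.Agent.EtFound.Presentation

set_option autoImplicit false
open CategoryTheory CategoryTheory.Limits AlgebraicGeometry Opposite
universe u
open EtCoh

namespace Groth.Agent.S14381

/-- Let Y be a quasi-compact quasi-separated scheme with finitely many connected components, F an
abelian sheaf on the small étale site of Y which is finite locally constant and killed by some
integer n ≥ 1, and ζ a class in H^1(Y_ét, F). Then there is a finite étale surjective morphism g :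
Y' → Y such that the pullback of ζ to H^1(Y'_ét, g⁻¹F) vanishes. (Degree-one classes are always
killed by finite étale covers, so the defining condition of a K(π,1) scheme holds in degree 1 for
every such Y.) (Exactness of pullback of abelian sheaves, which always holds, is carried as an
instance hypothesis.) -/
theorem result (Y : Scheme.{u}) [CompactSpace ↥Y]
    [QuasiSeparatedSpace ↥Y] (hconn : Finite (_root_.ConnectedComponents ↥Y))
    (F : EtCoh.Ab Y) (hF : EtCoh.IsFiniteLocallyConstant F)
    (htor : ∃ n : ℕ, 0 < n ∧ EtCoh.KilledBy n F) (ζ : EtCoh.H Y F 1) :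
    ∃ (Y' : Scheme.{u}) (g : Y' ⟶ Y), IsFinite g ∧ Etale g ∧ Surjective g ∧
      ∀ [PreservesFiniteLimits (EtCoh.pull g)], EtCore.Hpull g F 1 ζ = 0 := by
  obtain ⟨n, hn, hk⟩ := htor
  obtain ⟨S, hS, φ, z, V, t, hVf, hVs, rfl, ht⟩ := Groth.Agent.EtFound.FLCTorsor.exists_cover_lift F hF n hn
    ((Groth.Agent.EtFound.killedBy_iff_nsmul n F).1 hk) ζ
  haveI : AlgebraicGeometry.Etale V.hom := V.prop
  refine ⟨V.left, V.hom, hVf, V.prop, hVs, ?_⟩
  intro hp
  let d : (EtCoh.bc V.hom).obj (EtCoh.top Y) ⟶ (EtCoh.bc V.hom).obj V :=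
    MorphismProperty.Over.homMk (pullback.lift (pullback.snd (EtCoh.top Y).hom V.hom) (pullback.snd (EtCoh.top Y).hom V.hom) rfl)
      (pullback.lift_snd _ _ _) trivial
  exact @Groth.Agent.EtFound.FLCTorsor.Hpull_eq_zero_of_lift Y F V.left V.hom hp V d S φ hS z t ht

end Groth.Agent.S14381
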