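import Groth.Statements.S14010
import Groth.Agent.EtModLib.LimitAdic
import Groth.Agent.EtModLib.ConstrOps
-- import your own Groth.Agent.* helpers here

set_option autoImplicit false
open CategoryTheory CategoryTheory.Limits AlgebraicGeometry Opposite
universe u
open EtModW


namespace Groth.Agent.S14010

/-- Let X be a scheme, Λ a commutative ring, I a finitely generated ideal of Λ and F a sheaf of
Λ-modules on the small pro-étale site of X. Call F an I-adic pro-étale sheaf when there is a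
compatible tower of quotient maps F ⟶ Q_n modulo I^(n+1) (Q_n = F/I^(n+1)F) such that every Q_n is
isomorphic to the pro-étale pullback ε⁻¹ of a constructible sheaf of Λ-modules on the small étale
site and the canonical map F ⟶ lim_n Q_n is an isomorphism. Then F is an I-adic pro-étale sheaf if
and only if F is isomorphic to lim_n ε⁻¹G_n for some I-adic inverse system (G_n) of constructible
étale sheaves of Λ-modules (I^(n+1) G_n = 0, transition maps quotient maps modulo I^(n+1)).
(Continuity of the inclusion of the étale site into the pro-étale site is carried as a binder.) -/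
theorem result
    (Λ : Type (u + 1)) [CommRing Λ] (I : Ideal Λ) (hI : I.FG)
    (X : Scheme.{u}) [ProEtS.EpsCont X] (F : EtModW.ModP Λ X) :
    (∃ (Q : ℕᵒᵖ ⥤ EtModW.ModP Λ X) (p : (Functor.const ℕᵒᵖ).obj F ⟶ Q),
        (∀ n : ℕ, ARSys.IsQuot (I ^ (n + 1)) (p.app (op n))) ∧
        (∀ n : ℕ, ∃ E : EtModW.Mod Λ X, EtModW.IsConstructible Λ E ∧
          Nonempty ((EtModW.epsPullMod Λ X).obj E ≅ Q.obj (op n))) ∧
        IsIso (limit.lift Q (Cone.mk F p))) ↔
      ∃ G : ARSys.PS (EtModW.Mod Λ X), ARSys.IsAdic I G ∧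
        (∀ n : ℕ, EtModW.IsConstructible Λ (G.obj (op n))) ∧
        Nonempty (limit (G ⋙ EtModW.epsPullMod Λ X) ≅ F) := by
  refine ⟨fun ⟨Q, p, hQ, hc, hl⟩ => ?_, fun ⟨G, hG, hc, ⟨e⟩⟩ => ?_⟩
  · obtain ⟨hA, hE, hi⟩ := EtModLib.exists_adic_of_tower Λ p hQ hc
    refine ⟨Q ⋙ EtModLib.epsPushMod Λ, hA, fun n => ?_, ?_⟩
    · obtain ⟨E, hEc, ⟨e⟩⟩ := hE n
      exact EtModLib.isConstructible_of_iso e hEc
    haveI := hl
    haveI : IsIso (Functor.whiskerLeft Q (EtModLib.epsModAdj Λ).counit) := by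
      haveI : ∀ n, IsIso ((Functor.whiskerLeft Q (EtModLib.epsModAdj Λ).counit).app n) := fun n => hi n.unop
      exact NatIso.isIso_of_isIso_app _
    exact ⟨lim.mapIso (asIso (Functor.whiskerLeft Q (EtModLib.epsModAdj Λ).counit) ≪≫ Functor.rightUnitor Q) ≪≫
      (asIso (limit.lift Q (Cone.mk F p))).symm⟩
  · let D := G ⋙ EtModW.epsPullMod Λ X
    refine ⟨D, { app := fun n => e.inv ≫ limit.π D n, naturality := fun a b f => ?_ }, fun n => ?_, fun n => ?_, ?_⟩
    · exact (Category.id_comp _).trans ((congrArg (e.inv ≫ ·) (limit.w D f).symm).trans (Category.assoc _ _ _).symm)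
    · have h := EtModLib.isQuot_limit_π I hI G hG n
      refine ⟨h.1, fun Y φ hφ => ?_⟩
      obtain ⟨ψ, hψ, hu⟩ := h.2 Y (e.hom ≫ φ) (ARLib.killed_comp_left hφ e.hom)
      refine ⟨ψ, ?_, fun ψ' hψ' => hu ψ' ?_⟩
      · exact (Category.assoc _ _ _).trans ((congrArg (e.inv ≫ ·) hψ).trans (e.inv_hom_id_assoc φ))
      · refine Eq.trans ?_ (congrArg (e.hom ≫ ·) hψ')
        show limit.π D (op n) ≫ ψ' = e.hom ≫ (e.inv ≫ limit.π D (op n)) ≫ ψ'
        exact ((congrArg (e.hom ≫ ·) (Category.assoc _ _ _)).trans (e.hom_inv_id_assoc _)).symm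
    · exact ⟨_, hc n, ⟨Iso.refl _⟩⟩
    · refine (congrArg IsIso ?_).mp (inferInstance : IsIso e.inv)
      refine limit.hom_ext fun n => ?_
      exact (limit.lift_π (Cone.mk F ({ app := fun n => e.inv ≫ limit.π D n, naturality := fun a b f => (Category.id_comp _).trans ((congrArg (e.inv ≫ ·) (limit.w D f).symm).trans (Category.assoc _ _ _).symm) } : (Functor.const ℕᵒᵖ).obj F ⟶ D)) n).symm

end Groth.Agent.S14010
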