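import Groth.Statements.S14011
import Groth.Agent.EtModLib.LimitAdic
-- import your own Groth.Agent.* helpers here

set_option autoImplicit false
open CategoryTheory CategoryTheory.Limits AlgebraicGeometry Opposite
universe u
open EtModW


namespace Groth.Agent.S14011

/-- Let X be a scheme, Λ a commutative ring and I a finitely generated ideal of Λ. The functor which
sends an inverse system (G_n) of sheaves of Λ-modules on the small étale site of X to the pro-étale
sheaf lim_n ε⁻¹G_n is full and faithful on the full subcategory of I-adic systems (I^(n+1) G_n = 0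
and every transition map is a quotient map modulo I^(n+1)). Constructibility of the members is not
needed for this part. (Continuity of the inclusion of the étale site into the pro-étale site is
carried as a binder.) -/
theorem result
    (Λ : Type (u + 1)) [CommRing Λ] (I : Ideal Λ) (hI : I.FG)
    (X : Scheme.{u}) [ProEtS.EpsCont X] :
    (ObjectProperty.ι (fun G : ARSys.PS (EtModW.Mod Λ X) => ARSys.IsAdic I G) ⋙
        ((Functor.whiskeringRight ℕᵒᵖ (EtModW.Mod Λ X) (EtModW.ModP Λ X)).obj (EtModW.epsPullMod Λ X) ⋙ lim)).Full ∧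
    (ObjectProperty.ι (fun G : ARSys.PS (EtModW.Mod Λ X) => ARSys.IsAdic I G) ⋙
        ((Functor.whiskeringRight ℕᵒᵖ (EtModW.Mod Λ X) (EtModW.ModP Λ X)).obj (EtModW.epsPullMod Λ X) ⋙ lim)).Faithful := by
  haveI : ∀ M : EtModW.Mod Λ X, IsIso ((EtModLib.epsModAdj Λ).unit.app M) := fun M => (EtModLib.isIso_unit_mod M).1
  haveI : IsIso (EtModLib.epsModAdj Λ (X := X)).unit := NatIso.isIso_of_isIso_app _
  let hff := (EtModLib.epsModAdj Λ (X := X)).fullyFaithfulLOfIsIsoUnit
  haveI := hff.faithful
  haveI : (EtModLib.epsPushMod Λ (X := X)).Additive := ⟨rfl⟩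
  have hq := fun (G : ObjectProperty.FullSubcategory (fun G : ARSys.PS (EtModW.Mod Λ X) => ARSys.IsAdic I G)) (n : ℕ) =>
    EtModLib.isQuot_limit_π I hI G.obj G.property n
  have hkill : ∀ (G : ObjectProperty.FullSubcategory (fun G : ARSys.PS (EtModW.Mod Λ X) => ARSys.IsAdic I G)) (n : ℕ)
      (T : EtModW.ModP Λ X) (f : T ⟶ (G.obj ⋙ EtModW.epsPullMod Λ X).obj (op n)),
      ARSys.HomKilledBy (I ^ (n + 1)) f := fun G n T f => ARLib.homKilledBy_of_tgt (hq G n).1 f
  refine ⟨⟨fun {G G'} f => ?_⟩, ⟨fun {G G'} a b hab => ?_⟩⟩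
  · let D := G.obj ⋙ EtModW.epsPullMod Λ X
    let D' := G'.obj ⋙ EtModW.epsPullMod Λ X
    let f' : limit D ⟶ limit D' := f
    choose ψ hψ using fun n : ℕ => ((hq G n).2 _ (f' ≫ limit.π D' (op n)) (hkill G' n _ _)).exists
    have hnat : ∀ {i j : ℕᵒᵖ} (g : i ⟶ j), G.obj.map g ≫ hff.preimage (ψ j.unop) = hff.preimage (ψ i.unop) ≫ G'.obj.map g := by
      intro i j g
      apply hff.map_injective
      rw [Functor.map_comp, Functor.map_comp, hff.map_preimage, hff.map_preimage]
      haveI : Epi (limit.π D i) := ARLib.IsQuot.epi (hq G i.unop)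
      refine (cancel_epi (limit.π D i)).1 ?_
      have hw : limit.π D i ≫ (EtModW.epsPullMod Λ X).map (G.obj.map g) = limit.π D j := limit.w D g
      have hw' : limit.π D' i ≫ (EtModW.epsPullMod Λ X).map (G'.obj.map g) = limit.π D' j := limit.w D' g
      refine ((Category.assoc _ _ _).symm.trans ((congrArg (· ≫ ψ j.unop) hw).trans ((hψ j.unop).trans ?_)))
      refine Eq.trans ?_ ((congrArg (· ≫ (EtModW.epsPullMod Λ X).map (G'.obj.map g)) (hψ i.unop)).symm.trans (Category.assoc _ _ _))
      exact (congrArg (f' ≫ ·) hw').symm.trans (Category.assoc _ _ _).symm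
    refine ⟨ObjectProperty.homMk { app := fun i => hff.preimage (ψ i.unop), naturality := fun i j g => hnat g }, ?_⟩
    refine limit.hom_ext fun i => ?_
    refine (limMap_π _ _).trans ?_
    refine Eq.trans ?_ (hψ i.unop)
    exact congrArg (limit.π D i ≫ ·) (hff.map_preimage _)
  · refine ObjectProperty.hom_ext _ (NatTrans.ext (funext fun i => (EtModW.epsPullMod Λ X).map_injective ?_))
    haveI : Epi (limit.π (G.obj ⋙ EtModW.epsPullMod Λ X) i) := ARLib.IsQuot.epi (hq G i.unop)
    refine (cancel_epi (limit.π (G.obj ⋙ EtModW.epsPullMod Λ X) i)).1 ?_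
    exact (limMap_π _ _).symm.trans ((congrArg (· ≫ limit.π _ i) hab).trans (limMap_π _ _))

end Groth.Agent.S14011
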