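import Groth.Statements.S5123
import Groth.Agent.EtRep9.Basic

set_option linter.style.haveILetI false
set_option backward.isDefEq.respectTransparency false
set_option backward.isDefEq.respectTransparency.types false


set_option autoImplicit false
universe u
open SGA1

namespace Groth.Agent.S5123

open AlgebraicGeometry CategoryTheory CategoryTheory.Limits in
/-- Let g : S' ⟶ S be universally submersive, D a descent datum relative to g (functor-of-points form,
for the one-member family g) whose underlying S'-scheme is etale over S', and (S_i)_{i ∈ ι} a cover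
of S by open subschemes. Then D is effective in the fibred category of etale schemes (isomorphic to
the canonical datum of some etale S-scheme) if and only if for every i the descent datum obtained by
base change along S_i ⟶ S, relative to S' ×_S S_i ⟶ S_i, is the canonical datum of some etale
S_i-scheme. -/
theorem result {S S' : Scheme.{u}} (g : S' ⟶ S) (hg : SGA1.UnivSubmersive g)
    (D : Desc.SchDDFam (fun _ : PUnit.{1} => g)) [Etale (D.obj PUnit.unit).hom]
    {ι : Type u} (V : ι → S.Opens) (hV : ⨆ i, V i = ⊤) :
    (∃ U : Over S, Etale U.hom ∧ Nonempty ((Desc.toDDFam (fun _ : PUnit.{1} => g)).obj U ≅ D)) ↔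
      ∀ i : ι, (∃ U : Over (V i : Scheme.{u}), Etale U.hom ∧
        Nonempty ((Desc.toDDFam (fun _ : PUnit.{1} => pullback.snd g (V i).ι)).obj U ≅
          (Desc.pullDDFam (f := fun _ : PUnit.{1} => g) (f' := fun _ : PUnit.{1} => pullback.snd g (V i).ι)
        (α := id) (p := (V i).ι) (p' := fun _ => pullback.fst g (V i).ι) (fun _ => pullback.condition)).obj D)) := by

  open Groth.Agent.EtRep9 Groth.Agent.DescLib in
  constructor
  · rintro ⟨U, hU, ⟨I⟩⟩ i
    haveI := hU
    exact ⟨Over.mk (pullback.snd U.hom (V i).ι),
      (MorphismProperty.pullback_snd _ _ hU : Etale (pullback.snd U.hom (V i).ι)),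
      iso_of_isRep (isRep_bc (isRep_of_iso I (isRep_canonical hg U)))⟩
  · intro h
    choose U hU hI using h
    haveI : SGA1.UnivSubmersive.{u}.IsStableUnderBaseChange := by
      unfold SGA1.UnivSubmersive; infer_instance
    have hgV : ∀ i, SGA1.UnivSubmersive (pullback.snd g (V i).ι) := fun i =>
      MorphismProperty.pullback_snd _ _ hg
    have hrep : ∀ i, IsRep (Dj (V i).ι D) (U i) := fun i => by
      haveI := hU i
      exact isRep_of_iso (hI i).some (isRep_canonical (hgV i) (U i))
    have hcov : ∀ x : S, ∃ i, x ∈ V i := fun x =>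
      TopologicalSpace.Opens.mem_iSup.mp (hV.ge (Set.mem_univ x))
    obtain ⟨W, hW⟩ := rep_of_local D V hcov fun i => ⟨U i, repOn_of_isRep (hrep i)⟩
    have hW' : ∀ i, Etale (pullback.snd W.hom (V i).ι) := fun i => by
      obtain ⟨φ⟩ := exists_iso_of_isRep (isRep_bc (j := (V i).ι) (U := W) hW) (hrep i)
      haveI := hU i
      have := Over.w φ.hom
      change φ.hom.left ≫ (U i).hom = pullback.snd W.hom (V i).ι at this
      rw [← this]
      infer_instance
    refine ⟨W, ?_, iso_of_isRep hW⟩
    refine IsZariskiLocalAtTarget.of_openCover (P := @Etale) (S.openCoverOfIsOpenCover V hV) fun i => ?_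
    exact hW' i
end Groth.Agent.S5123
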