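import Groth.Statements.S5127
import Groth.Agent.EtRep9.Cover
import Groth.Agent.RegFS6.Lift

set_option linter.style.haveILetI false
set_option backward.isDefEq.respectTransparency false
set_option backward.isDefEq.respectTransparency.types false


set_option autoImplicit false
universe u
open SGA1

namespace Groth.Agent.S5127

open AlgebraicGeometry CategoryTheory CategoryTheory.Limits in
/-- Let S be locally Noetherian, g : S' ⟶ S universally submersive and of finite presentation, and D a
descent datum relative to g (functor-of-points form, for the one-member family g) whose underlying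
S'-scheme is etale, separated and of finite presentation over S'. Then D is the canonical datum of
some etale S-scheme if and only if, for every complete Noetherian local ring B with algebraically
closed residue field and every morphism q : Spec B ⟶ S, the descent datum induced over Spec B
(relative to S' ×_S Spec B ⟶ Spec B) is the canonical datum of some etale B-scheme. -/
theorem result {S S' : Scheme.{u}} [IsLocallyNoetherian S]
    (g : S' ⟶ S) (hg : SGA1.UnivSubmersive g) [LocallyOfFinitePresentation g] [QuasiCompact g] [QuasiSeparated g]
    (D : Desc.SchDDFam (fun _ : PUnit.{1} => g)) [Etale (D.obj PUnit.unit).hom]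
    [QuasiCompact (D.obj PUnit.unit).hom] [IsSeparated (D.obj PUnit.unit).hom] :
    (∃ U : Over S, Etale U.hom ∧ Nonempty ((Desc.toDDFam (fun _ : PUnit.{1} => g)).obj U ≅ D)) ↔ ∀ (B : Type u) [CommRing B] [IsNoetherianRing B] [IsLocalRing B]
      [IsAdicComplete (IsLocalRing.maximalIdeal B) B] [IsAlgClosed (IsLocalRing.ResidueField B)]
      (q : Spec (CommRingCat.of B) ⟶ S), (∃ U : Over (Spec (CommRingCat.of B)), Etale U.hom ∧
        Nonempty ((Desc.toDDFam (fun _ : PUnit.{1} => pullback.snd g q)).obj U ≅
          (Desc.pullDDFam (f := fun _ : PUnit.{1} => g) (f' := fun _ : PUnit.{1} => pullback.snd g q)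
        (α := id) (p := q) (p' := fun _ => pullback.fst g q) (fun _ => pullback.condition)).obj D)) := by
  open Groth.Agent.EtRep9 in
  exact (by
    haveI : QuasiSeparated (D.obj PUnit.unit).hom := inferInstance
    refine ⟨fun H B _ _ _ _ _ q => exists_bc hg q H, fun H => exists_descent_of_stalks hg D fun a => ?_⟩
    let R := S.presheaf.stalk a
    let k := AlgebraicClosure (IsLocalRing.ResidueField R)
    haveI : IsAdicComplete (IsLocalRing.maximalIdeal k) k := by
      rw [IsLocalRing.maximalIdeal_eq_bot]; infer_instance
    obtain ⟨C, _, _, _, _, _, ρ, hc, hflat, hρ, -, -⟩ := Groth.Agent.RegFS6.exists_flat_complete_lift R k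
    haveI := hc
    haveI := hflat
    haveI : Module.FaithfullyFlat R C := Module.FaithfullyFlat.of_flat_of_isLocalHom
    haveI : IsAlgClosed (IsLocalRing.ResidueField C) := IsAlgClosed.of_ringEquiv k _
      ((RingHom.quotientKerEquivOfSurjective hρ).symm.trans (Ideal.quotEquivOfEq
        (IsLocalRing.eq_maximalIdeal (RingHom.ker_isMaximal_of_surjective ρ hρ))))
    obtain ⟨U, hU, ⟨I⟩⟩ := H C (Spec.map (CommRingCat.ofHom (algebraMap R C)) ≫ S.fromSpecStalk a)
    haveI := hU
    exact exists_isRepOn_of_flat_cover hg _
      (RingHom.faithfullyFlat_algebraMap_iff.2 inferInstance)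
      (S.fromSpecStalk a)
      (isRepOn_of_isRep (isRep_of_iso I (isRep_canonical (univSubmersive_snd hg _) U))))
end Groth.Agent.S5127
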