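import Groth.Statements.S2906
import Groth.Agent.DescLib.IndQAEff
import Groth.Agent.EtFound.Descent
import Groth.Agent.AlgSpLib.EtLocalInst
import Mathlib.AlgebraicGeometry.Morphisms.LocalFlatDescent

set_option backward.isDefEq.respectTransparency false
set_option backward.isDefEq.respectTransparency.types false

set_option autoImplicit false
open CategoryTheory CategoryTheory.Limits AlgebraicGeometry Opposite
universe u
open SGA1

namespace Groth.Agent.S2906

/-- Let g : S' ⟶ S be flat, surjective and quasi-compact. Then every descent datum relative to g whose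
underlying scheme is etale, separated and quasi-compact over S' is isomorphic to the canonical
descent datum of a scheme etale, separated and quasi-compact over S. (Descent data relative to g are
taken in functor-of-points form.) -/
theorem result {S' S : Scheme.{u}} (g : S' ⟶ S) [Flat g] [Surjective g] [QuasiCompact g]
    (D : Desc.SchDD g) [QuasiCompact D.obj.hom] [IsSeparated D.obj.hom] [Etale D.obj.hom] :
    ∃ U : Over S, QuasiCompact U.hom ∧ IsSeparated U.hom ∧ Etale U.hom ∧ Nonempty ((Desc.toDD g).obj U ≅ D) := by
  obtain ⟨U, ⟨e⟩⟩ := Groth.Agent.DescLib.effective_single Groth.Agent.DescLib.IndQA.indQA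
    (fun _ _ p _ _ _ _ D h => Groth.Agent.DescLib.IndQA.effective_indQA_hom p D h) g D
    (Groth.Agent.MorLib.IQA.indQA_of_locallyQuasiFinite D.obj.hom)
  let eo : ((Desc.toDD g).obj U).obj ≅ D.obj :=
    { hom := e.hom.hom
      inv := e.inv.hom
      hom_inv_id := congrArg Desc.SchDD.Hom.hom e.hom_inv_id
      inv_hom_id := congrArg Desc.SchDD.Hom.hom e.inv_hom_id }
  have hg : (@Surjective ⊓ @Flat ⊓ @QuasiCompact : MorphismProperty Scheme.{u}) g :=
    ⟨⟨inferInstance, inferInstance⟩, inferInstance⟩
  have key : ∀ (P : MorphismProperty Scheme.{u}) [P.RespectsIso]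
      [P.DescendsAlong (@Surjective ⊓ @Flat ⊓ @QuasiCompact : MorphismProperty Scheme.{u})],
      P D.obj.hom → P U.hom := fun P _ _ h => by
    refine MorphismProperty.of_pullback_fst_of_descendsAlong (f := g) hg ?_
    exact (P.arrow_mk_iso_iff (Arrow.isoMk ((Over.forget _).mapIso eo) (Iso.refl _)
      ((Over.w eo.hom).trans (Category.comp_id _).symm))).2 h
  haveI := Groth.Agent.EtFound.fpqc_quasiCompact.{u}
  haveI := Groth.Agent.EtFound.fpqc_isSeparated.{u}
  exact ⟨U, key @QuasiCompact inferInstance, key @IsSeparated inferInstance, key @Etale inferInstance, ⟨e⟩⟩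

end Groth.Agent.S2906
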