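import Groth.Statements.S12903
import Groth.Statements.S12903
import Groth.Agent.QCoh.Qcqs
import Groth.Agent.QCoh.DevissageSum

set_option backward.isDefEq.respectTransparency false
set_option backward.isDefEq.respectTransparency.types false

set_option autoImplicit false
universe u
open CategoryTheory CategoryTheory.Limits AlgebraicGeometry Opposite
open Coherent

namespace Groth.Agent.S12903

/-- Let X be a scheme, j : U → X a quasi-compact open immersion with closed complement Z, F a
quasi-coherent O_X-module, V an affine open of X and I a finitely generated ideal of Γ(V, O_X)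
cutting out Z ∩ V (a point of V lies outside U if and only if it lies in no basic open X_f with f ∈
I). Then a section s of F over V belongs to the subsheaf Γ_Z(F) of sections supported in Z (the
kernel of F → j_*(F|_U)) if and only if I^n s = 0 for some n. -/
theorem result {U X : Scheme.{u}} (j : U ⟶ X) [IsOpenImmersion j] [QuasiCompact j]
    (F : X.Modules) (hF : Coh.IsQCoh F) (V : X.Opens) (hV : IsAffineOpen V)
    (I : Ideal (X.ringCatSheaf.obj.obj (op V))) (hI : I.FG)
    (hZ : ∀ x : X, x ∈ V → (x ∉ Set.range j.base ↔ ∀ f ∈ I, x ∉ X.basicOpen (f : Γ(X, V))))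
    (s : F.val.obj (op V)) :
    s ∈ Set.range ((((CxOX.gammaZι j).app F).val.app (op V)).hom) ↔ ∃ n : ℕ, ∀ a ∈ I ^ n, a • s = 0 := by
  let η := (Scheme.Modules.restrictAdjunction j).unit.app F
  let t : Γ(F, V) := s
  let J : Ideal Γ(X, V) := I
  let W : X.Opens := j ''ᵁ (j ⁻¹ᵁ V)
  have hWV : W ≤ V := j.image_preimage_le V
  have hW : ∀ x, x ∈ W ↔ x ∈ V ∧ x ∈ Set.range j.base := fun x => by
    refine ⟨fun h => ⟨hWV h, ?_⟩, fun ⟨h1, z, hz⟩ => ⟨z, ?_, hz⟩⟩
    · obtain ⟨z, -, hz⟩ := h
      exact ⟨z, hz⟩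
    · show j z ∈ V
      rwa [show j z = x from hz]
  have hη : η.app V t = F.presheaf.map (homOfLE hWV).op t := by
    show (Scheme.Modules.Hom.app ((Scheme.Modules.restrictAdjunction j).unit.app F) V) t = _
    rw [Scheme.Modules.restrictAdjunction_unit_app_app]
    rfl
  have h1 : s ∈ Set.range ((((CxOX.gammaZι j).app F).val.app (Opposite.op V)).hom) ↔ η.app V t = 0 := by
    constructor
    · rintro ⟨w, hw⟩
      show η.app V t = 0
      rw [show t = (kernel.ι η).app V w from hw.symm]
      exact congrArg (fun φ => Scheme.Modules.Hom.app φ V w) (kernel.condition η)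
    · intro h
      obtain ⟨w, hw⟩ := Groth.Agent.QCoh.exists_kernel_lift η V t h
      exact ⟨w, hw⟩
  have hIf : ∀ f ∈ J, X.basicOpen f ≤ W := fun f hf x hx => by
    refine (hW x).2 ⟨X.basicOpen_le _ hx, ?_⟩
    by_contra h
    exact (hZ x (X.basicOpen_le _ hx)).1 h f hf hx
  rw [h1, hη]
  constructor
  · intro h
    have hrad : J ≤ Ideal.radical (LinearMap.ker (LinearMap.toSpanSingleton Γ(X, V) Γ(F, V) t) : Ideal Γ(X, V)) := fun f hf => by
      obtain ⟨n, hn⟩ := QCoh.exists_pow_smul_eq_zero hF hV f t (by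
        have := congrArg (F.presheaf.map (homOfLE (hIf f hf)).op) h
        rw [map_zero, ← CategoryTheory.comp_apply, ← Functor.map_comp] at this
        exact this)
      exact ⟨n, by simpa [LinearMap.mem_ker] using hn⟩
    obtain ⟨n, hn⟩ := Ideal.exists_pow_le_of_le_radical_of_fg hrad (show J.FG from hI)
    exact ⟨n, fun a ha => hn ha⟩
  · rintro ⟨n, hn⟩
    refine QCoh.eq_zero_of_locally W _ fun x hx => ?_
    obtain ⟨hxV, hxr⟩ := (hW x).1 hx
    obtain ⟨f, hf, hxf⟩ : ∃ f ∈ J, x ∈ X.basicOpen f := by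
      by_contra h
      push_neg at h
      exact (hZ x hxV).2 h hxr
    refine ⟨X.basicOpen f, homOfLE (hIf f hf), hxf, ?_⟩
    rw [← CategoryTheory.comp_apply, ← Functor.map_comp]
    show F.presheaf.map (homOfLE (X.basicOpen_le f)).op t = 0
    have h0 : F.presheaf.map (homOfLE (X.basicOpen_le f)).op ((f ^ n : Γ(X, V)) • t) = 0 := by
      rw [show (f ^ n : Γ(X, V)) • t = 0 from hn _ (Ideal.pow_mem_pow hf n), map_zero]
    rw [QCoh.map_smul', map_pow] at h0
    exact ((show IsUnit (X.presheaf.map (homOfLE (X.basicOpen_le f)).op f) from X.toRingedSpace.isUnit_res_basicOpen f).pow n).smul_eq_zero.1 h0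

end Groth.Agent.S12903
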