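import Groth.Statements.S19542
import Groth.Agent.H9FCoh.Ind

set_option backward.isDefEq.respectTransparency false
set_option backward.isDefEq.respectTransparency.types false

set_option autoImplicit false
open CategoryTheory CategoryTheory.Limits
universe u
open FSch

namespace Groth.Agent.S19542

/-- Let 𝔛 be a locally Noetherian formal scheme (an adic system of thickenings with locally Noetherian
levels) and F an O_𝔛-module which is a small filtered colimit of coherent O_𝔛-modules. Then F has a
colimit presentation by a small filtered diagram of coherent O_𝔛-modules all of whose structure maps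
to F are monomorphisms; that is, F is a directed union of coherent submodules. (The published
statement says F is the direct limit of the directed set of all its coherent submodules; this row
asserts the existence of such a presentation by coherent submodules.) -/
theorem result (𝔛 : FSch.Sys.{u}) (h𝔛 : 𝔛.IsLocNoethFormal)
    (𝔉 : FSch.ModF 𝔛 h𝔛.1)
    (h𝔉 : (ObjectProperty.ind.{u} fun 𝔊 : FSch.ModF 𝔛 h𝔛.1 => FSch.IsCohF 𝔛 h𝔛.1 𝔊) 𝔉) :
    ∃ (J : Type u) (_ : SmallCategory J) (_ : IsFiltered J) (pres : ColimitPresentation J 𝔉),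
      (∀ j : J, FSch.IsCohF 𝔛 h𝔛.1 (pres.diag.obj j)) ∧ ∀ j : J, Mono (pres.ι.app j) := by
  have hqc := H9FCoh.isQC_ind h𝔛 𝔉 h𝔉
  obtain ⟨J, hJ, hJf, pres, hP⟩ := h𝔉
  let I : J → FSch.ModF 𝔛 h𝔛.1 := fun j => Abelian.image (pres.ι.app j)
  let e : ∀ j, pres.diag.obj j ⟶ I j := fun j => Abelian.factorThruImage (pres.ι.app j)
  let m : ∀ j, I j ⟶ 𝔉 := fun j => Abelian.image.ι (pres.ι.app j)
  have hem : ∀ j, e j ≫ m j = pres.ι.app j := fun j => Abelian.image.fac _
  have hlift : ∀ {i j : J} (g : i ⟶ j), ∃ a : I i ⟶ I j, a ≫ m j = m i := fun {i j} g =>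
    ⟨kernel.lift _ (m i) ((cancel_epi (e i)).1 (by
      rw [comp_zero, ← Category.assoc, hem, ← pres.w g, Category.assoc, cokernel.condition, comp_zero])),
      kernel.lift_ι _ _ _⟩
  choose a ha using @hlift
  let D : J ⥤ FSch.ModF 𝔛 h𝔛.1 :=
    { obj := I
      map := fun g => a g
      map_id := fun i => (cancel_mono (m i)).1 ((ha _).trans (Category.id_comp _).symm)
      map_comp := fun {i j k} g g' => (cancel_mono (m k)).1 (by rw [Category.assoc, ha, ha, ha]) }
  let κ : D ⟶ (Functor.const J).obj 𝔉 :=
    { app := m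
      naturality := fun i j g => (ha g).trans (Category.comp_id _).symm }
  have he : ∀ {i j : J} (g : i ⟶ j), pres.diag.map g ≫ e j = e i ≫ D.map g := fun {i j} g =>
    (cancel_mono (m j)).1 (by
      rw [Category.assoc, hem, pres.w g, Category.assoc, show D.map g = a g from rfl, ha, hem])
  let push : Cocone D → Cocone pres.diag := fun s => Cocone.mk s.pt
    { app := fun j => e j ≫ s.ι.app j
      naturality := fun i j g => by
        rw [← Category.assoc, he g, Category.assoc, s.w g]
        exact (Category.comp_id _).symm }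
  have hc : IsColimit (Cocone.mk 𝔉 κ) :=
    { desc := fun s => pres.isColimit.desc (push s)
      fac := fun s j => (cancel_epi (e j)).1 (by
        rw [← Category.assoc]
        exact (congrArg (· ≫ _) (hem j)).trans (pres.isColimit.fac (push s) j))
      uniq := fun s φ hφ => pres.isColimit.uniq (push s) φ fun j => by
        show pres.ι.app j ≫ φ = e j ≫ s.ι.app j
        rw [← hφ j, ← Category.assoc]
        exact (congrArg (· ≫ φ) (hem j)).symm }
  refine ⟨J, hJ, hJf, ⟨D, κ, hc⟩, fun j => ?_, fun j => show Mono (m j) from inferInstance⟩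
  exact H9FCoh.isFP_of_epi (H9FCoh.good h𝔛) (hP j)
    (H9FCoh.isQC_image (H9FCoh.good h𝔛) (H9FCoh.isQC_of_isFP (hP j)) hqc _) (e j)

end Groth.Agent.S19542
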