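import Groth.Agent.FibVan.Basic
import Groth.Agent.QCoh.CechComparison
import Groth.Agent.QCoh.CechMod
import Groth.Agent.QCoh.ExtendFT
import Groth.Agent.QCoh.DevissageSum
import Groth.Agent.QCoh.AffineCohom
import Groth.Agent.QCoh.Qcqs
import Groth.Agent.QCoh.Support
import Groth.Agent.KZ.OpenExt
import Groth.Agent.QCoh.RpushProper
import Groth.Agent.S2079
import Groth.Agent.S4784
import Groth.Agent.LimSm.Model
import Groth.Agent.ConsPropLib.CoreProper
import Groth.Agent.FibDim.BaseChange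
import Groth.Agent.FibDim.Semicont
import Groth.Agent.FibDim.Comp

/-!
Cohomology of quasi-coherent modules vanishes above the dimension of the fibres of a proper morphism.
-/

set_option linter.style.haveILetI false
set_option backward.isDefEq.respectTransparency false
set_option backward.isDefEq.respectTransparency.types false
set_option autoImplicit false

universe u

open CategoryTheory CategoryTheory.Limits AlgebraicGeometry TopologicalSpace Opposite

noncomputable section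

namespace Groth.Agent.FibVanQCohH4

open Groth.Agent Groth.Agent.QCoh

variable {X : Scheme.{u}}

/-- Exactness of natural cochains in one degree. -/
theorem exactAt_natCx_iff {T : TopCat.{u}} {ι : Type u} (U : ι → Opens T)
    (P : TopCat.Presheaf AddCommGrpCat.{u} T) (q : ℕ) :
    (Ab.natCx P U).ExactAt (q + 1) ↔ ∀ c : Ab.Cochain P U (q + 2), Ab.IsNatural c → Ab.d c = 0 →
      ∃ b : Ab.Cochain P U (q + 1), Ab.IsNatural b ∧ Ab.d b = c := by
  rw [HomologicalComplex.exactAt_iff' _ q (q + 1) (q + 2) (by simp) (by simp), ShortComplex.ab_exact_iff]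
  simp only [HomologicalComplex.sc', HomologicalComplex.shortComplexFunctor'_obj_f,
    HomologicalComplex.shortComplexFunctor'_obj_g, Ab.natCx_d]
  constructor
  · intro h c hc hd
    obtain ⟨b, hb⟩ := h ⟨c, hc⟩ (Subtype.ext hd)
    exact ⟨b.1, b.2, congrArg Subtype.val hb⟩
  · intro h c hd
    obtain ⟨b, hbn, hb⟩ := h c.1 c.2 (congrArg Subtype.val hd)
    exact ⟨⟨b, hbn⟩, Subtype.ext hb⟩

theorem subsingleton_HH_iff_exactAt {ι : Type u} {U : ι → X.Opens} (hcov : ⨆ i, U i = ⊤)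
    (hU : ∀ {p : ℕ} (σ : Fin (p + 1) → ι), IsAffineOpen (⨅ a, U (σ a)))
    {M : X.Modules} (hM : Coh.IsQCoh M) (p : ℕ) :
    Subsingleton (Coh.HH X M p) ↔ (Ab.natCx (X := X.toPresheafedSpace.carrier) M.presheaf U).ExactAt p := by
  obtain ⟨e⟩ := Ab.natCx_H_equiv (X := X.toPresheafedSpace.carrier) hcov
    (stdCovers_sectionClass hU) (abSheaf M) (stdCovers_acyclic hM) p
  rw [HomologicalComplex.exactAt_iff_isZero_homology]
  constructor
  · intro h
    haveI : Subsingleton (CohTop.H (abSheaf M) p) := h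
    exact @AddCommGrpCat.isZero_of_subsingleton _ e.toEquiv.subsingleton
  · intro h
    haveI := AddCommGrpCat.subsingleton_of_isZero h
    exact e.symm.toEquiv.subsingleton

/-- Finitely many sections of a quasi-coherent module lie in a coherent submodule. -/
theorem exists_coh_contains [IsNoetherian X] {M : X.Modules} (hM : Coh.IsQCoh M) {κ : Type*}
    (V : κ → X.Opens) (hV : ∀ k, IsAffineOpen (V k)) (s : ∀ k, Γ(M, V k)) (T : Finset κ) :
    ∃ (G : X.Modules) (φ : G ⟶ M), Mono φ ∧ Coh.IsCoh G ∧ ∀ k ∈ T, ∃ t, φ.app (V k) t = s k := by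
  classical
  have one : ∀ {W : X.Opens}, IsAffineOpen W → ∀ S : Set Γ(M, W), S.Finite →
      ∃ N : SubMod M, Coh.IsCoh N.toModules ∧ S ⊆ N.mem W := by
    intro W hW S hS
    obtain ⟨N, hN, hs⟩ := exists_ftOn_contains hM hW
      (extStep_noetherian (fun x => ⟨⊤, trivial, inferInstance⟩) W) S hS
    exact ⟨N, ⟨isQCoh_of_ftOn hM hN, isFT_of_ftOn hM hN⟩, hs⟩
  induction T using Finset.induction with
  | empty =>
    obtain ⟨N, hN, -⟩ := one (isAffineOpen_bot X) ∅ Set.finite_empty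
    exact ⟨N.toModules, N.ι, inferInstance, hN, by simp⟩
  | insert k T hk ih =>
    obtain ⟨G, φ, _, hG, hGs⟩ := ih
    obtain ⟨N, hN, hNs⟩ := one (hV k) {s k} (Set.finite_singleton _)
    obtain ⟨t, ht⟩ := N.exists_app_eq (hNs rfl)
    let ψ : G ⊞ N.toModules ⟶ M := biprod.desc φ N.ι
    have hI : Coh.IsQCoh (Abelian.image ψ) := isQCoh_kernel hM
      (isQCoh_cokernel (KZ.isCoh_biprod hG hN).1 hM ψ) _
    have hfac : ∀ {H : X.Modules} (a : H ⟶ G ⊞ N.toModules) (W : X.Opens) (z : Γ(H, W)),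
        (Abelian.image.ι ψ).app W ((a ≫ Abelian.factorThruImage ψ).app W z) = (a ≫ ψ).app W z := by
      intro H a W z
      conv_rhs => rw [← Abelian.image.fac ψ]
      rfl
    refine ⟨Abelian.image ψ, Abelian.image.ι ψ, inferInstance,
      QCoh.isCoh_of_epi (Abelian.factorThruImage ψ) (KZ.isCoh_biprod hG hN) hI, ?_⟩
    intro j hj
    rcases Finset.mem_insert.1 hj with rfl | hj
    · exact ⟨(biprod.inr ≫ Abelian.factorThruImage ψ).app _ t,
        (hfac biprod.inr _ t).trans (by rw [biprod.inr_desc]; exact ht)⟩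
    · obtain ⟨z, hz⟩ := hGs j hj
      exact ⟨(biprod.inl ≫ Abelian.factorThruImage ψ).app _ z,
        (hfac biprod.inl _ z).trans (by rw [biprod.inl_desc]; exact hz)⟩

/-- Vanishing for quasi-coherent modules over a Noetherian base. -/
theorem subsingleton_HH_qcoh {A : Type u} [CommRing A] [IsNoetherianRing A]
    [X.Over (Spec (CommRingCat.of A))] [IsProper (X ↘ Spec (CommRingCat.of A))]
    {M : X.Modules} (hM : Coh.IsQCoh M) {d q : ℕ} (hq : d < q + 1)
    (hd : ∀ z : Spec (CommRingCat.of A), IsClosed ({z} : Set _) →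
      topologicalKrullDim ↥((X ↘ Spec (CommRingCat.of A)) ⁻¹' {z}) ≤ d) :
    Subsingleton (Coh.HH X M (q + 1)) := by
  classical
  haveI : CompactSpace X := QuasiCompact.compactSpace_of_compactSpace (X ↘ Spec (CommRingCat.of A))
  haveI : IsLocallyNoetherian X := LocallyOfFiniteType.isLocallyNoetherian (X ↘ Spec (CommRingCat.of A))
  haveI : IsNoetherian X := { __ := ‹IsLocallyNoetherian X›, __ := ‹CompactSpace X› }
  haveI : X.IsSeparated := ⟨by
    rw [← terminal.comp_from (X ↘ Spec (CommRingCat.of A))]; infer_instance⟩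
  obtain ⟨s, hs, hcov⟩ := isCompact_iff_finite_and_eq_biUnion_affineOpens.mp
    (show IsCompact ((⊤ : X.Opens) : Set X) from isCompact_univ)
  haveI : Finite s := hs.to_subtype
  let U : s → X.Opens := fun i => i.1.1
  have hU : ∀ {p : ℕ} (σ : Fin (p + 1) → s), IsAffineOpen (⨅ a, U (σ a)) := fun σ =>
    IsAffineOpen.iInf fun a => (σ a).1.2
  have hcov' : ⨆ i, U i = ⊤ := by
    refine top_unique fun x _ => ?_
    have : x ∈ (⊤ : X.Opens) := trivial
    rw [hcov] at this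
    obtain ⟨i, hx⟩ := Opens.mem_iSup.1 this
    obtain ⟨hi, hx⟩ := Opens.mem_iSup.1 hx
    exact Opens.mem_iSup.2 ⟨⟨i, hi⟩, hx⟩
  rw [subsingleton_HH_iff_exactAt hcov' hU hM, exactAt_natCx_iff]
  intro c hc hd0
  haveI : Fintype (Fin (q + 2) → s) := Fintype.ofFinite _
  let V : (Fin (q + 2) → s) → X.Opens := fun σ => ⨅ a, U (σ a)
  have hle : ∀ σ, Ab.Le (X := X.toPresheafedSpace.carrier) U σ (V σ) := fun σ a => iInf_le _ a
  obtain ⟨G, φ, _, hG, hGs⟩ := exists_coh_contains hM V (fun σ => hU σ) (fun σ => c σ ⟨V σ, hle σ⟩)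
    Finset.univ
  choose t ht using fun σ => hGs σ (Finset.mem_univ σ)
  let φ' : G.presheaf ⟶ M.presheaf := (Scheme.Modules.toPresheaf X).map φ
  let c' : Ab.Cochain (X := X.toPresheafedSpace.carrier) G.presheaf U (q + 2) := fun σ W =>
    G.presheaf.map (homOfLE (le_iInf W.2 : W.1 ≤ V σ)).op (t σ)
  have hc' : Ab.IsNatural c' := fun σ W W' h h' i => Ab.map_map'' G.presheaf _ i _ _
  have hpush : Ab.push φ' c' = c := by
    funext σ W
    refine Eq.trans (congr($(φ'.naturality (homOfLE (le_iInf W.2 : W.1 ≤ V σ)).op) (t σ))) ?_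
    refine Eq.trans (congrArg (M.presheaf.map _) (ht σ)) ?_
    exact hc σ (V σ) W.1 (hle σ) W.2 _
  have hd' : Ab.d c' = 0 := by
    funext σ W
    apply app_injective φ W.1
    have e : Ab.push φ' (Ab.d c') σ W = (Ab.d c) σ W := by rw [← Ab.d_push, hpush]
    rw [hd0] at e
    exact e.trans (map_zero _).symm
  have hGex := (exactAt_natCx_iff U G.presheaf q).1 ((subsingleton_HH_iff_exactAt hcov' hU hG.1 _).1
    (FibVan.subsingleton_HH_of_closed_fibre_dim (A := A) hG hq hd))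
  obtain ⟨b, hb, hdb⟩ := hGex c' hc' hd'
  exact ⟨Ab.push φ' b, Ab.push_natural φ' hb, by rw [Ab.d_push, hdb, hpush]⟩

/-- A proper morphism to an affine scheme maps, near a given fibre, affinely to a proper morphism
over a Noetherian affine scheme with the same bound on the fibres. -/
theorem exists_basicOpen_vanishing {A : Type u} [CommRing A] {X : Scheme.{u}}
    (f : X ⟶ Spec (CommRingCat.of A)) [IsProper f] (y : Spec (CommRingCat.of A)) (d : ℕ)
    (hd : topologicalKrullDim ↥(f.fiber y) ≤ d) :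
    ∃ a : A, y ∈ (PrimeSpectrum.basicOpen a : Set (PrimeSpectrum A)) ∧
      ∀ (Z : Scheme.{u}) (j : Z ⟶ X) [IsOpenImmersion j],
        Set.range j = f ⁻¹' (PrimeSpectrum.basicOpen a : Set (PrimeSpectrum A)) →
        ∀ M : Z.Modules, Coh.IsQCoh M → ∀ i, d < i → Subsingleton (Coh.HH Z M i) := by
  classical
  obtain ⟨I, _, _, D, c, hc, e, hcl, hobj⟩ := Groth.Agent.S2079.result f
  haveI : IsConnected I := IsCofiltered.isConnected I
  let S := Spec (CommRingCat.of A)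
  let D' : I ⥤ Scheme.{u} := D ⋙ Over.forget S
  haveI : ∀ (i j : I) (φ : i ⟶ j), IsAffineHom (D'.map φ) := fun i j φ => by
    haveI : IsClosedImmersion (D'.map φ) := hcl i j φ
    infer_instance
  let c' : Cone D' := (Over.forget S).mapCone c
  have hc' : IsLimit c' := isLimitOfPreserves (Over.forget S) hc
  obtain ⟨i₀⟩ := (IsCofiltered.nonempty : Nonempty I)
  haveI := (hobj i₀).2.1
  let f₀ : (D.obj i₀).left ⟶ S := (D.obj i₀).hom
  let F : Set (D.obj i₀).left := f₀ ⁻¹' {y}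
  haveI : NoetherianSpace ↥F := by
    haveI : IsLocallyNoetherian (f₀.fiber y) :=
      LocallyOfFiniteType.isLocallyNoetherian (f₀.fiberToSpecResidueField y)
    haveI : CompactSpace ↥(f₀.fiber y) :=
      QuasiCompact.compactSpace_of_compactSpace (f₀.fiberToSpecResidueField y)
    haveI : IsNoetherian (f₀.fiber y) :=
      { __ := ‹IsLocallyNoetherian _›, __ := ‹CompactSpace ↥(f₀.fiber y)› }
    exact (f₀.fiberHomeo y).symm.isEmbedding.isInducing.noetherianSpace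
  let C : (Σ j : I, (j ⟶ i₀)) → Closeds ↥F := fun jφ =>
    ⟨Subtype.val ⁻¹' Set.range (D'.map jφ.2), by
      haveI : IsClosedImmersion (D'.map jφ.2) := hcl _ _ _
      exact (D'.map jφ.2).isClosedEmbedding.isClosed_range.preimage continuous_subtype_val⟩
  obtain ⟨m, ⟨⟨j, φ⟩, rfl⟩, hmin⟩ := (wellFounded_lt (α := Closeds ↥F)).has_min (Set.range C)
    ⟨_, ⟨⟨i₀, 𝟙 i₀⟩, rfl⟩⟩
  have hfib : ∀ x : (D.obj j).left, (D.obj j).hom x = y → x ∈ Set.range (c'.π.app j) := by
    intro x hx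
    rw [Groth.Agent.S4784.result D' c' hc' j]
    simp only [Set.mem_iInter]
    intro k ψ
    have hle : C ⟨k, ψ ≫ φ⟩ ≤ C ⟨j, φ⟩ := by
      intro z hz
      obtain ⟨w, hw⟩ := hz
      exact ⟨D'.map ψ w, by rw [← hw, D'.map_comp]; rfl⟩
    have heq : C ⟨k, ψ ≫ φ⟩ = C ⟨j, φ⟩ :=
      hle.eq_of_not_lt (hmin _ ⟨_, rfl⟩)
    have hxF : D'.map φ x ∈ F := by
      show ((D.map φ).left ≫ (D.obj i₀).hom) x = y
      rw [Over.w (D.map φ)]
      exact hx
    have : (⟨D'.map φ x, hxF⟩ : ↥F) ∈ C ⟨k, ψ ≫ φ⟩ := heq.symm ▸ ⟨x, rfl⟩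
    obtain ⟨w, hw⟩ := this
    haveI : IsClosedImmersion (D'.map φ) := hcl _ _ _
    refine ⟨w, (D'.map φ).isClosedEmbedding.injective ?_⟩
    rw [D'.map_comp] at hw
    exact hw
  haveI := (hobj j).2.1
  haveI := (hobj j).2.2
  haveI : IsClosedImmersion (c.π.app j).left := (hobj j).1
  let p : X ⟶ (D.obj j).left := e.inv.left ≫ (c.π.app j).left
  haveI : IsIso e.inv.left := inferInstanceAs (IsIso ((Over.forget S).map e.inv))
  haveI : IsClosedImmersion p := inferInstanceAs (IsClosedImmersion (_ ≫ _))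
  let fj : (D.obj j).left ⟶ S := (D.obj j).hom
  have hpf : p ≫ fj = f := by
    show (e.inv.left ≫ (c.π.app j).left) ≫ (D.obj j).hom = f
    rw [Category.assoc, Over.w]
    exact Over.w e.inv
  have hdim : ∀ z, fj z = y → FibDim.rd fj z ≤ d := by
    intro z hz
    obtain ⟨x', hx'⟩ := hfib z hz
    let x : X := e.hom.left x'
    have hx : p x = z := by
      rw [← hx']
      show ((e.hom.left ≫ e.inv.left) ≫ (c.π.app j).left) x' = (c.π.app j).left x'
      rw [← Over.comp_left, e.hom_inv_id, Over.id_left, Category.id_comp]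
      rfl
    have h1 : FibDim.rd f x ≤ d := (FibDim.topologicalKrullDim_fiber_le_iff f y d).1 hd x (by
      rw [← hpf]; show fj (p x) = y; rw [hx, hz])
    have h2 : FibDim.rd f x = FibDim.rd fj (p x) + FibDim.rd p x := by
      rw [← FibDim.rd_comp]; congr 1; exact hpf.symm
    rw [hx] at h2
    exact le_self_add.trans (h2 ▸ h1)
  obtain ⟨A₀, hA₀, X₀, g₀, g, hP, -, hlfp, hqc, -, hpb⟩ :=
    LimSm.exists_model_over_fg (P := @IsProper) (P' := @IsProper)
      (Q := @LocallyOfFinitePresentation) (Q' := @LocallyOfFinitePresentation)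
      ConsPropLib.core_isProper ConsPropLib.core_isProper (fun _ h => h) (fun _ h => h) A fj
      inferInstance inferInstance
  haveI := hP
  haveI : Algebra.FiniteType ℤ ↥A₀ := ⟨(Subalgebra.fg_top A₀).mpr hA₀⟩
  haveI : IsNoetherianRing ↥A₀ := Algebra.FiniteType.isNoetherianRing ℤ _
  let π := Spec.map (CommRingCat.ofHom (algebraMap (↥A₀) A))
  haveI : IsAffineHom π := isAffineHom_of_isAffine _
  haveI : IsAffineHom g := MorphismProperty.of_isPullback hpb.flip ‹IsAffineHom π›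
  let B : Set (Spec (CommRingCat.of ↥A₀)) := g₀ '' {x | FlatMor.fibreDimAt g₀ x ≤ (d : ℕ)}ᶜ
  have hB : IsClosed B := g₀.isClosedMap _ (FibDim.isOpen_fibreDimAt_le g₀ d).isClosed_compl
  have hyB : π y ∉ B := by
    rintro ⟨x, hx, hxy⟩
    refine hx ((FibDim.fibreDimAt_le_iff g₀ x d).2 fun z _ hz => ?_)
    obtain ⟨z', -, hz', hrd⟩ := FibDim.exists_rd_baseChange_eq hpb z y (hz.trans hxy)
    rw [← hrd]
    exact hdim z' hz'
  obtain ⟨_, ⟨_, ⟨h, rfl⟩, rfl⟩, hyh, hhB⟩ :=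
    PrimeSpectrum.isBasis_basic_opens.exists_subset_of_mem_open (show π y ∈ Bᶜ from hyB) hB.isOpen_compl
  let W : (Spec (CommRingCat.of ↥A₀)).Opens := PrimeSpectrum.basicOpen h
  have hW : IsAffineOpen W := IsAffineOpen.Spec_basicOpen h
  refine ⟨algebraMap (↥A₀) A h, hyh, fun Z jz _ hjz M hM i hi => ?_⟩
  let U₀ : X₀.Opens := g₀ ⁻¹ᵁ W
  have hcomm : (p ≫ g) ≫ g₀ = f ≫ π := by rw [Category.assoc, hpb.w, ← Category.assoc, hpf]
  have hrange : Set.range jz = Set.range ((p ≫ g) ⁻¹ᵁ U₀).ι := by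
    rw [hjz, Scheme.Opens.range_ι]
    ext x
    show π (f x) ∈ W ↔ g₀ ((p ≫ g) x) ∈ W
    rw [← Scheme.Hom.comp_apply, ← hcomm, Scheme.Hom.comp_apply]
  let k : Z ⟶ (U₀ : Scheme.{u}) := (IsOpenImmersion.isoOfRangeEq jz ((p ≫ g) ⁻¹ᵁ U₀).ι hrange).hom ≫
    ((p ≫ g) ∣_ U₀)
  haveI : IsAffineHom ((p ≫ g) ∣_ U₀) := IsZariskiLocalAtTarget.restrict (P := @IsAffineHom) inferInstance U₀
  haveI : IsAffineHom k := inferInstanceAs (IsAffineHom (_ ≫ _))
  obtain ⟨e'⟩ := HH_push_of_isAffineHom k hM i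
  have hpush : Coh.IsQCoh ((Coh.push k).obj M) := isQCoh_pushforward k hM
  obtain ⟨q, rfl⟩ := Nat.exists_eq_add_of_le' (Nat.lt_of_le_of_lt (Nat.zero_le d) hi)
  letI : ((g₀ ⁻¹ᵁ W : X₀.Opens) : Scheme.{u}).Over (Spec (CommRingCat.of Γ(Spec (CommRingCat.of ↥A₀), W))) :=
    ⟨overSpec g₀ hW⟩
  haveI : IsProper (((g₀ ⁻¹ᵁ W : X₀.Opens) : Scheme.{u}) ↘ Spec (CommRingCat.of Γ(Spec (CommRingCat.of ↥A₀), W))) := by
    show IsProper ((g₀ ∣_ W) ≫ hW.isoSpec.hom)
    infer_instance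
  haveI : IsNoetherianRing Γ(Spec (CommRingCat.of ↥A₀), W) :=
    IsLocallyNoetherian.component_noetherian ⟨W, hW⟩
  haveI := subsingleton_HH_qcoh (A := Γ(Spec (CommRingCat.of ↥A₀), W)) (X := (U₀ : Scheme.{u})) hpush hi
    (fun z _ => by
      let w := hW.fromSpec z
      have hw : w ∈ W := by
        have : w ∈ hW.fromSpec.opensRange := ⟨z, rfl⟩
        rwa [hW.opensRange_fromSpec] at this
      have hc2 : ∀ v : ((g₀ ⁻¹ᵁ W : X₀.Opens) : Scheme.{u}),
          overSpec g₀ hW v = z → g₀ ((g₀ ⁻¹ᵁ W).ι v) = w := fun v hv => by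
        show ((g₀ ⁻¹ᵁ W).ι ≫ g₀) v = w
        rw [← overSpec_fromSpec g₀ hW]
        show hW.fromSpec (overSpec g₀ hW v) = w
        rw [hv]
      let g' : ↥((((g₀ ⁻¹ᵁ W : X₀.Opens) : Scheme.{u}) ↘ Spec (CommRingCat.of Γ(Spec (CommRingCat.of ↥A₀), W))) ⁻¹' {z})
          → ↥(g₀ ⁻¹' {w}) := fun v => ⟨(g₀ ⁻¹ᵁ W).ι v.1, hc2 v.1 v.2⟩
      have hg : Topology.IsInducing g' :=
        (Topology.IsInducing.subtypeVal.of_comp_iff).1
          (((g₀ ⁻¹ᵁ W).ι.isOpenEmbedding.isInducing).comp Topology.IsInducing.subtypeVal)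
      refine hg.topologicalKrullDim_le.trans ?_
      rw [← (g₀.fiberHomeo w).isHomeomorph.topologicalKrullDim_eq, FibDim.topologicalKrullDim_fiber g₀ w]
      refine iSup_le fun v => ?_
      have hv : FlatMor.fibreDimAt g₀ v.1 ≤ (d : ℕ) := by
        by_contra hn
        exact hhB hw ⟨v.1, hn, v.2⟩
      exact_mod_cast (FibDim.fibreDimAt_le_iff g₀ v.1 d).1 hv v.1 (specializes_refl v.1) rfl)
  exact e'.toEquiv.subsingleton

/-- The affine neighbourhood on which higher cohomology vanishes. -/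
theorem exists_affine_nhd {X Y : Scheme.{u}} (f : X ⟶ Y) [IsProper f] (y : Y) (d : ℕ)
    (hd : topologicalKrullDim ↥(f.fiber y) ≤ d) :
    ∃ V : Y.Opens, y ∈ V ∧ IsAffineOpen V ∧ ∀ (Z : Scheme.{u}) (j : Z ⟶ X) [IsOpenImmersion j],
      Set.range j = f ⁻¹' (V : Set Y) → ∀ M : Z.Modules, Coh.IsQCoh M → ∀ i, d < i →
        Subsingleton (Coh.HH Z M i) := by
  obtain ⟨_, ⟨W, hW, rfl⟩, hyW, -⟩ :=
    Y.isBasis_affineOpens.exists_subset_of_mem_open (Set.mem_univ y) isOpen_univ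
  let z : Spec (CommRingCat.of Γ(Y, W)) := hW.isoSpec.hom ⟨y, hyW⟩
  have hz : hW.fromSpec z = y := by
    show (hW.isoSpec.hom ≫ hW.isoSpec.inv ≫ Scheme.Opens.ι (W : Y.Opens)) ⟨y, hyW⟩ = y
    rw [Iso.hom_inv_id_assoc]
    rfl
  let fW := overSpec f hW
  haveI : IsProper fW := by
    show IsProper ((f ∣_ W) ≫ hW.isoSpec.hom)
    infer_instance
  have hcomm : ∀ v, hW.fromSpec (fW v) = f ((f ⁻¹ᵁ W).ι v) := fun v => by
    show (overSpec f hW ≫ hW.fromSpec) v = ((f ⁻¹ᵁ W).ι ≫ f) v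
    rw [overSpec_fromSpec f hW]
  have hdW : topologicalKrullDim ↥(fW.fiber z) ≤ d := by
    let g' : ↥(fW ⁻¹' {z}) → ↥(f ⁻¹' {y}) := fun v => ⟨(f ⁻¹ᵁ W).ι v.1, by
      show f ((f ⁻¹ᵁ W).ι v.1) = y
      rw [← hcomm, show fW v.1 = z from v.2, hz]⟩
    have hg : Topology.IsInducing g' :=
      (Topology.IsInducing.subtypeVal.of_comp_iff).1
        (((f ⁻¹ᵁ W).ι.isOpenEmbedding.isInducing).comp Topology.IsInducing.subtypeVal)
    rw [(fW.fiberHomeo z).isHomeomorph.topologicalKrullDim_eq]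
    refine hg.topologicalKrullDim_le.trans ?_
    rwa [← (f.fiberHomeo y).isHomeomorph.topologicalKrullDim_eq]
  obtain ⟨a, hza, ha⟩ := exists_basicOpen_vanishing fW z d hdW
  have hV : ∀ w : Spec (CommRingCat.of Γ(Y, W)),
      hW.fromSpec w ∈ Y.basicOpen a ↔ w ∈ (PrimeSpectrum.basicOpen a : Set (PrimeSpectrum Γ(Y, W))) := fun w => by
    show w ∈ hW.fromSpec ⁻¹ᵁ Y.basicOpen a ↔ _
    rw [hW.fromSpec_preimage_basicOpen]
    rfl
  refine ⟨Y.basicOpen a, hz ▸ (hV z).2 hza, hW.basicOpen a, fun Z j _ hj M hM i hi => ?_⟩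
  have hjW : Set.range j ⊆ Set.range (f ⁻¹ᵁ W).ι := by
    rw [hj, Scheme.Opens.range_ι]
    exact fun x hx => Y.basicOpen_le a hx
  let j' : Z ⟶ ((f ⁻¹ᵁ W : X.Opens) : Scheme.{u}) := IsOpenImmersion.lift (f ⁻¹ᵁ W).ι j hjW
  have hj' : j' ≫ (f ⁻¹ᵁ W).ι = j := IsOpenImmersion.lift_fac _ _ _
  haveI : IsOpenImmersion (j' ≫ (f ⁻¹ᵁ W).ι) := hj'.symm ▸ ‹IsOpenImmersion j›
  haveI : IsOpenImmersion j' := IsOpenImmersion.of_comp j' (f ⁻¹ᵁ W).ι
  refine ha Z j' ?_ M hM i hi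
  have e1 : Set.range j = (f ⁻¹ᵁ W).ι '' Set.range j' := by
    rw [← Set.range_comp, ← hj']; rfl
  have e2 : Set.range j' = (f ⁻¹ᵁ W).ι ⁻¹' Set.range j := by
    rw [e1, (f ⁻¹ᵁ W).ι.isOpenEmbedding.injective.preimage_image]
  rw [e2, hj]
  ext v
  show f ((f ⁻¹ᵁ W).ι v) ∈ Y.basicOpen a ↔ _
  rw [← hcomm, hV]
  rfl

end Groth.Agent.FibVanQCohH4
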