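import Groth.Statements.S4867
import Groth.Agent.FibFlatMod.StageGlobal
import Groth.Agent.FibFlatMod.Constr
import Groth.Agent.FibFlatMod.CritMain

set_option linter.style.haveILetI false
set_option backward.isDefEq.respectTransparency false
set_option backward.isDefEq.respectTransparency.types false

set_option autoImplicit false
universe u
open CategoryTheory AlgebraicGeometry
open EGA43

namespace Groth.Agent.S4867
open Groth.Agent AlgebraicGeometry CategoryTheory Limits Groth.Agent.ConsPropLib Groth.Agent.SpecLib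

theorem result_aux {A : CommRingCat.{u}} {X : Scheme.{u}} (f : X ⟶ Spec A)
    [LocallyOfFinitePresentation f] [QuasiCompact f] [QuasiSeparated f] (F : X.Modules) (hF : CohB1.IsFP F) :
    ∃ (i : (Finset A)ᵒᵖ) (X₁ : Scheme.{u}) (u₁ : X₁ ⟶ (NoethApprox.diagram A).obj i) (q : X ⟶ X₁)
      (_ : LocallyOfFinitePresentation u₁) (_ : QuasiCompact u₁) (F₁ : X₁.Modules),
      IsPullback q f u₁ ((NoethApprox.cone A).π.app i) ∧ CohB1.IsFP F₁ ∧
        Nonempty (F ≅ (Scheme.Modules.pullback q).obj F₁) := by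
  let D := NoethApprox.diagram A
  let c := NoethApprox.cone A
  have hc : IsLimit c := NoethApprox.isLimit A
  haveI : ∀ {i j : (Finset A)ᵒᵖ} (t : i ⟶ j), IsAffineHom (D.map t) := fun t => NoethApprox.isAffineHom_map A t
  haveI : ∀ (i j : (Finset A)ᵒᵖ) (t : i ⟶ j), IsAffineHom (D.map t) := fun _ _ t => inferInstance
  haveI : ∀ i, IsAffine (D.obj i) := fun i => NoethApprox.isAffine_obj A i
  let f' : X ⟶ c.pt := f
  haveI : LocallyOfFinitePresentation f' := ‹LocallyOfFinitePresentation f›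
  haveI : QuasiCompact f' := ‹QuasiCompact f›
  haveI : QuasiSeparated f' := ‹QuasiSeparated f›
  obtain ⟨i, X₁, u₁, g₁, hX⟩ := hasModel hc f'
  haveI := hX.lfp; haveI := hX.qc; haveI := hX.qs
  haveI := hX.compactSpace; haveI := hX.quasiSeparatedSpace
  haveI : ∀ (a b : Over i) (t : a ⟶ b), IsAffineHom ((MorLib.BC.diag D u₁).map t) := fun a b t => inferInstance
  let o : Over i := Over.mk (𝟙 i)
  haveI : CompactSpace ((MorLib.BC.diag D u₁).obj o) := MorLib.BC.compactSpace_obj D u₁ o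
  haveI : QuasiSeparatedSpace ((MorLib.BC.diag D u₁).obj o) := MorLib.BC.quasiSeparatedSpace_obj D u₁ o
  obtain ⟨m, -, Fm, hFm, ⟨θ⟩⟩ := LimMod.exists_module_descend (MorLib.BC.diag D u₁)
    (MorLib.BC.cone D u₁ hX.sq) (MorLib.BC.isLimitCone D u₁ hX.sq hc) (i := o) (F := F) hF
  exact ⟨m.left, pullback u₁ (D.map m.hom), pullback.snd _ _, MorLib.BC.proj D u₁ hX.sq m, inferInstance,
    inferInstance, Fm, MorLib.BC.isPullback_proj D u₁ hX.sq m, hFm, ⟨θ.symm⟩⟩

/-- From a stage of the limit to a finitely generated subring. -/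
theorem finish {A : Type u} [CommRing A] {X : Scheme.{u}} (f : X ⟶ Spec (CommRingCat.of A)) (F : X.Modules) (x : X)
    {i k : (Finset A)ᵒᵖ} {φ : k ⟶ i} {X₁ Xk Yk : Scheme.{u}} (fk : Xk ⟶ Yk)
    (gk : Yk ⟶ (NoethApprox.diagram (CommRingCat.of A)).obj k)
    (pY : Yk ⟶ (NoethApprox.diagram (CommRingCat.of A)).obj i) (pX : Xk ⟶ X₁)
    (vY : Spec (CommRingCat.of A) ⟶ Yk) (vX : X ⟶ Xk)
    (u₁ : X₁ ⟶ (NoethApprox.diagram (CommRingCat.of A)).obj i)
    [LocallyOfFinitePresentation u₁] [QuasiCompact u₁]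
    (q₁ : X ⟶ X₁) (F₁ : X₁.Modules) (hF₁ : CohB1.IsFP F₁) (θ : F ≅ (Scheme.Modules.pullback q₁).obj F₁)
    (hYk : IsPullback pY gk (𝟙 _) ((NoethApprox.diagram (CommRingCat.of A)).map φ))
    (hXk : IsPullback pX fk u₁ pY)
    (hvYg : vY ≫ gk = (NoethApprox.cone (CommRingCat.of A)).π.app k) (hvX : vX ≫ pX = q₁)
    (hsq : IsPullback vX f fk vY) :
    ∃ (A₀ : Subalgebra ℤ A) (_ : A₀.FG) (X₀ : Scheme.{u}) (f₀ : X₀ ⟶ Spec (CommRingCat.of ↥A₀))
      (_ : LocallyOfFiniteType f₀) (_ : QuasiCompact f₀) (F₀ : X₀.Modules) (_ : Coh.IsCoh F₀) (q : X ⟶ X₀)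
      (_ : IsPullback q f f₀ (Spec.map (CommRingCat.ofHom A₀.val.toRingHom)))
      (_ : (Scheme.Modules.pullback q).obj F₀ ≅ F),
      (FlatMod.IsFlatOverAt fk ((Scheme.Modules.pullback pX).obj F₁) (vX x) → FlatMod.IsFlatOverAt f₀ F₀ (q x)) ∧
      (FlatMod.IsFlatOver fk ((Scheme.Modules.pullback pX).obj F₁) → FlatMod.IsFlatOver f₀ F₀) := by
  haveI : IsIso gk := hYk.isIso_snd_of_isIso
  let Sk := (NoethApprox.diagram (CommRingCat.of A)).obj k
  haveI : IsNoetherian Sk := NoethApprox.isNoetherian_obj (CommRingCat.of A) k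
  haveI : LocallyOfFinitePresentation fk := MorphismProperty.of_isPullback hXk inferInstance
  haveI : QuasiCompact fk := MorphismProperty.of_isPullback hXk inferInstance
  let f₀ : Xk ⟶ Sk := fk ≫ gk
  haveI : LocallyOfFiniteType f₀ := inferInstance
  haveI : QuasiCompact f₀ := inferInstance
  haveI : IsLocallyNoetherian Xk := LocallyOfFiniteType.isLocallyNoetherian f₀
  have key : ∀ z, FlatMod.IsFlatOverAt fk ((Scheme.Modules.pullback pX).obj F₁) z →
      FlatMod.IsFlatOverAt f₀ ((Scheme.Modules.pullback pX).obj F₁) z := fun z hz =>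
    (FibFlatMod.flatAt_openImmersion (f := f₀) (f' := fk) (jX := 𝟙 Xk) (jY := gk) (by simp [f₀]) _ z).1
      (GrFlat5.isFlatOverAt_of_iso fk ((Scheme.Modules.pullbackId Xk).app _).symm z hz)
  refine ⟨Algebra.adjoin ℤ ((k.unop : Finset A) : Set A), Subalgebra.fg_adjoin_finset _, Xk, f₀,
    inferInstance, inferInstance, (Scheme.Modules.pullback pX).obj F₁,
    QCoh.isCoh_iff_isFP.2 (ModStLib.isFP_pullback pX hF₁), vX, ?_,
    (Scheme.Modules.pullbackComp vX pX).app F₁ ≪≫ (Scheme.Modules.pullbackCongr hvX).app F₁ ≪≫ θ.symm,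
    key _, fun h z => key z (h z)⟩
  have h1 : IsPullback vY (𝟙 (Spec (CommRingCat.of A))) gk ((NoethApprox.cone (CommRingCat.of A)).π.app k) :=
    IsPullback.of_vert_isIso ⟨hvYg.trans (Category.id_comp _).symm⟩
  have h2 := hsq.paste_vert h1
  rw [Category.comp_id] at h2
  exact h2

/-- Let A be a commutative ring, f : X ⟶ Spec A a morphism of finite presentation, F a quasi-coherent
O_X-module of finite presentation and x a point of X. If F is f-flat at x, then there are a finitely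
generated subring A₀ of A, a morphism of finite type f₀ : X₀ ⟶ Spec A₀, a coherent O_{X₀}-module F₀
and a cartesian square q : X ⟶ X₀ over Spec A ⟶ Spec A₀ together with an isomorphism q^*F₀ ≅ F, such
that F₀ is f₀-flat at q x; and if F is f-flat, F₀ can be chosen f₀-flat. -/
theorem result {A : Type u} [CommRing A] {X : Scheme.{u}}
    (f : X ⟶ Spec (CommRingCat.of A)) [LocallyOfFinitePresentation f] [QuasiCompact f] [QuasiSeparated f]
    (F : X.Modules) [Coh.IsQCoh F] (hF : CohB1.IsFP F) (x : X) :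
    (FlatMod.IsFlatOverAt f F x →
      ∃ (A₀ : Subalgebra ℤ A) (_ : A₀.FG) (X₀ : Scheme.{u}) (f₀ : X₀ ⟶ Spec (CommRingCat.of ↥A₀))
        (_ : LocallyOfFiniteType f₀) (_ : QuasiCompact f₀) (F₀ : X₀.Modules) (_ : Coh.IsCoh F₀) (q : X ⟶ X₀)
        (_ : IsPullback q f f₀ (Spec.map (CommRingCat.ofHom A₀.val.toRingHom)))
        (_ : (Scheme.Modules.pullback q).obj F₀ ≅ F),
        FlatMod.IsFlatOverAt f₀ F₀ (q x)) ∧
    (FlatMod.IsFlatOver f F →
      ∃ (A₀ : Subalgebra ℤ A) (_ : A₀.FG) (X₀ : Scheme.{u}) (f₀ : X₀ ⟶ Spec (CommRingCat.of ↥A₀))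
        (_ : LocallyOfFiniteType f₀) (_ : QuasiCompact f₀) (F₀ : X₀.Modules) (_ : Coh.IsCoh F₀) (q : X ⟶ X₀)
        (_ : IsPullback q f f₀ (Spec.map (CommRingCat.ofHom A₀.val.toRingHom)))
        (_ : (Scheme.Modules.pullback q).obj F₀ ≅ F),
        FlatMod.IsFlatOver f₀ F₀) := by
  obtain ⟨i, X₁, u₁, q₁, hlfp, hqc, F₁, hq, hF₁, ⟨θ⟩⟩ := result_aux f F hF
  haveI := hlfp; haveI := hqc
  let D := NoethApprox.diagram (CommRingCat.of A)
  let c := NoethApprox.cone (CommRingCat.of A)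
  have hc : IsLimit c := NoethApprox.isLimit _
  haveI : ∀ (i j : (Finset A)ᵒᵖ) (t : i ⟶ j), IsAffineHom (D.map t) := fun _ _ t => NoethApprox.isAffineHom_map _ t
  haveI : IsAffine (D.obj i) := NoethApprox.isAffine_obj _ i
  haveI : CompactSpace X₁ := QuasiCompact.compactSpace_of_compactSpace u₁
  let Sp : Scheme.{u} := c.pt
  have hY : IsPullback (c.π.app i) (𝟙 c.pt) (𝟙 (D.obj i)) (c.π.app i) := IsPullback.id_vert _
  haveI : LocallyOfFinitePresentation (𝟙 (D.obj i)) := inferInstance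
  constructor
  · intro hx
    obtain ⟨k, φ, Xk, Yk, fk, gk, pY, pX, vY, vX, hYk, hXk, hvY, hvYg, hvX, hvXf, hflat⟩ :=
      FibFlatMod.exists_stage_flatAt D c hc i u₁ (𝟙 _) hF₁ f (𝟙 c.pt) (c.π.app i) q₁ hY hq x
        (GrFlat5.isFlatOverAt_of_iso f θ x hx)
    obtain ⟨A₀, hA₀, X₀, f₀, h1, h2, F₀, h3, q, h4, h5, h6, -⟩ :=
      finish (A := A) f F x fk gk pY pX vY vX u₁ q₁ F₁ hF₁ θ hYk hXk (hvYg.trans (Category.id_comp _)) hvX
        (IsPullback.of_right (by rw [hvX, hvY]; exact hq) hvXf hXk)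
    exact ⟨A₀, hA₀, X₀, f₀, h1, h2, F₀, h3, q, h4, h5, h6 hflat⟩
  · intro hX
    obtain ⟨k, hflat⟩ := FibFlatMod.exists_stage_flat_all D c hc i u₁ (𝟙 _) hF₁ f (𝟙 c.pt) (c.π.app i) q₁ hY hq
      fun z => GrFlat5.isFlatOverAt_of_iso f θ z (hX z)
    let Yk := pullback (𝟙 (D.obj i)) (D.map k.hom)
    let vY : c.pt ⟶ Yk := pullback.lift (c.π.app i) (c.π.app k.left) (by rw [Category.comp_id, c.w])
    let pY : Yk ⟶ D.obj i := pullback.fst _ _
    let vX : X ⟶ pullback u₁ pY := pullback.lift q₁ (f ≫ vY) (by rw [Category.assoc, pullback.lift_fst]; exact hq.w)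
    obtain ⟨A₀, hA₀, X₀, f₀, h1, h2, F₀, h3, q, h4, h5, -, h7⟩ :=
      finish (A := A) f F x (pullback.snd u₁ pY) (pullback.snd _ _) pY (pullback.fst u₁ pY) vY vX u₁ q₁ F₁ hF₁ θ
        (IsPullback.of_hasPullback _ _) (IsPullback.of_hasPullback _ _) (pullback.lift_snd _ _ _)
        (pullback.lift_fst _ _ _)
        (IsPullback.of_right (by rw [pullback.lift_fst, pullback.lift_fst]; exact hq) (pullback.lift_snd _ _ _)
          (IsPullback.of_hasPullback u₁ pY))
    exact ⟨A₀, hA₀, X₀, f₀, h1, h2, F₀, h3, q, h4, h5, h7 hflat⟩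

end Groth.Agent.S4867
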