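import Groth.Statements.S4854
import Groth.Agent.FlatProper.Limit
import Groth.Agent.S4863
-- import your own Groth.Agent.* helpers here

set_option autoImplicit false
set_option linter.style.haveILetI false
set_option backward.isDefEq.respectTransparency false
set_option backward.isDefEq.respectTransparency.types false
universe u
open CategoryTheory AlgebraicGeometry
open EGA43

namespace Groth.Agent.S4854

open IsLocalRing CategoryTheory.Limits in
/-- The injectivity hypothesis passes to the local ring. -/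
theorem appTop_eq_zero {Y Y' : Scheme.{u}} (g : Y' ⟶ Y) [IsProper g] (y : Y)
    (hinj : ∀ (V : Y.Opens) (s : Γ(Y, V)), y ∈ V → g.app V s = 0 →
      ∃ W : Y.Opens, y ∈ W ∧ ∃ hWV : W ≤ V, Y.presheaf.map (homOfLE hWV).op s = 0)
    (s : Γ(Spec (Y.presheaf.stalk y), ⊤)) (hs : (pullback.snd g (Y.fromSpecStalk y)).appTop s = 0) : s = 0 := by
  have hflat := H23.RatExtend.flat_fromSpecStalk Y y
  obtain ⟨V, hyV, t, ht⟩ := TopCat.Presheaf.germ_exist Y.presheaf ((Scheme.ΓSpecIso (Y.presheaf.stalk y)).hom s)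
  let P := pullback g (Y.fromSpecStalk y)
  let C : Set Y' := closure {z | ∃ h : g z ∈ V, Y'.presheaf.germ (g ⁻¹ᵁ V) z h (g.app V t) ≠ 0}
  have hC : ∀ (z : Y') (h : g z ∈ V), Y'.presheaf.germ (g ⁻¹ᵁ V) z h (g.app V t) = 0 → z ∉ C := by
    intro z h hz hzC
    obtain ⟨N, hzN, i, i', he⟩ := TopCat.Presheaf.germ_eq Y'.presheaf (U := g ⁻¹ᵁ V) (V := g ⁻¹ᵁ V) z h h
      (g.app V t) 0 (hz.trans (map_zero _).symm)
    obtain ⟨w, hwN, hw, hne⟩ := mem_closure_iff.1 hzC N N.2 hzN
    refine hne ?_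
    rw [← Y'.presheaf.germ_res_apply i w hwN (g.app V t), he, map_zero, map_zero]
  let W : Y.Opens := ⟨(V : Set Y) ∩ (g '' C)ᶜ, V.2.inter (g.isClosedMap _ isClosed_closure).isOpen_compl⟩
  have hfib : ∀ z : Y', g z = y → ∃ h : g z ∈ V, Y'.presheaf.germ (g ⁻¹ᵁ V) z h (g.app V t) = 0 := by
    intro z hz
    refine ⟨hz.symm ▸ hyV, ?_⟩
    obtain ⟨w, hw₁, hw₂⟩ := Scheme.Pullback.exists_preimage_pullback (f := g) (g := Y.fromSpecStalk y) z
      (closedPoint (Y.presheaf.stalk y)) (hz.trans Scheme.fromSpecStalk_closedPoint.symm)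
    subst hw₁
    haveI := NmpLocalize.isIso_stalkMap_of_flat_preimmersion (pullback.fst g (Y.fromSpecStalk y)) w
    apply (ConcreteCategory.bijective_of_isIso ((pullback.fst g (Y.fromSpecStalk y)).stalkMap w)).1
    rw [map_zero, Scheme.Hom.germ_stalkMap_apply]
    have hw : w ∈ pullback.fst g (Y.fromSpecStalk y) ⁻¹ᵁ g ⁻¹ᵁ V := by
      show g (pullback.fst g (Y.fromSpecStalk y) w) ∈ V
      exact hz.symm ▸ hyV
    have h1 : (pullback.fst g (Y.fromSpecStalk y)).app (g ⁻¹ᵁ V) (g.app V t) =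
        P.presheaf.map (homOfLE (le_top : pullback.fst g (Y.fromSpecStalk y) ⁻¹ᵁ g ⁻¹ᵁ V ≤ ⊤)).op
          ((pullback.snd g (Y.fromSpecStalk y)).appTop s) := by
      have hs' : s = (Scheme.ΓSpecIso (Y.presheaf.stalk y)).inv (Y.presheaf.germ V y hyV t) := by
        rw [ht, ← CommRingCat.comp_apply, Iso.hom_inv_id]; rfl
      rw [hs']
      show (g.app V ≫ (pullback.fst g (Y.fromSpecStalk y)).app (g ⁻¹ᵁ V)) t = _
      rw [← Scheme.Hom.comp_app]
      have hV : Y.fromSpecStalk y ⁻¹ᵁ V = ⊤ :=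
        IsLocalRing.closed_point_mem_iff.mp (show Y.fromSpecStalk y (closedPoint _) ∈ V by
          rw [Scheme.fromSpecStalk_closedPoint]; exact hyV)
      have happ := Scheme.fromSpecStalk_app (X := Y) hyV
      have : (Scheme.ΓSpecIso (Y.presheaf.stalk y)).inv (Y.presheaf.germ V y hyV t) =
          (Spec (Y.presheaf.stalk y)).presheaf.map (eqToHom hV.symm).op ((Y.fromSpecStalk y).app V t) := by
        rw [happ]
        simp only [← CommRingCat.comp_apply, Category.assoc, ← Functor.map_comp]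
        rw [show ((homOfLE (le_top : Y.fromSpecStalk y ⁻¹ᵁ V ≤ ⊤)).op ≫ (eqToHom hV.symm).op) = 𝟙 _ from
          Subsingleton.elim _ _, CategoryTheory.Functor.map_id, Category.comp_id]
      rw [this]
      show _ = ((Y.fromSpecStalk y).app V ≫ (Spec (Y.presheaf.stalk y)).presheaf.map (eqToHom hV.symm).op ≫
        (pullback.snd g (Y.fromSpecStalk y)).appTop ≫ P.presheaf.map _) t
      congr 2
      simp only [Scheme.Hom.appTop, Scheme.Hom.naturality_assoc, ← Functor.map_comp,
        Scheme.Hom.congr_app pullback.condition, Category.assoc]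
      simp only [Scheme.Hom.comp_app, Category.assoc]
      congr 2
      exact congrArg P.presheaf.map (Subsingleton.elim _ _) |>.trans (P.presheaf.map_comp _ _)
    rw [h1, hs, map_zero, map_zero]
  have hyW : y ∈ W := by
    refine ⟨hyV, ?_⟩
    rintro ⟨z, hzC, hz⟩
    obtain ⟨h, hz0⟩ := hfib z hz
    exact hC z h hz0 hzC
  have hzero : g.app W (Y.presheaf.map (homOfLE (show W ≤ V from fun _ h => h.1)).op t) = 0 := by
    refine TopCat.Presheaf.section_ext Y'.sheaf (g ⁻¹ᵁ W) _ _ fun z hz => ?_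
    rw [← CommRingCat.comp_apply, Scheme.Hom.naturality, CommRingCat.comp_apply, map_zero]
    refine (Y'.presheaf.germ_res_apply _ z hz _).trans ?_
    by_contra hne
    exact hz.2 ⟨z, subset_closure ⟨hz.1, hne⟩, rfl⟩
  obtain ⟨W', hyW', hle, h0⟩ := hinj W _ hyW hzero
  have : (Scheme.ΓSpecIso (Y.presheaf.stalk y)).hom s = 0 := by
    rw [← ht, ← Y.presheaf.germ_res_apply (homOfLE (show W ≤ V from fun _ h => h.1)) y hyW,
      ← Y.presheaf.germ_res_apply (homOfLE hle) y hyW', h0, map_zero]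
  exact (ConcreteCategory.bijective_of_isIso (Scheme.ΓSpecIso (Y.presheaf.stalk y)).hom).1 (this.trans (map_zero _).symm)

open CategoryTheory.Limits in
/-- Let f : X ⟶ Y be locally of finite presentation, F a quasi-coherent O_X-module of finite
presentation, x a point of X with y = f x, and g : Y' ⟶ Y a proper morphism of finite presentation.
Assume (i) the map O_{Y,y} → (g_* O_{Y'})_y is injective, i.e. a section of O_Y on a neighbourhood
of y whose pullback to Y' vanishes is zero on some neighbourhood of y, and (ii) the pullback F' of F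
to X' = X ×_Y Y' is flat over Y' at every point of X' above x. Then F is f-flat at x. -/
theorem result {X Y Y' : Scheme.{u}} (f : X ⟶ Y)
    [LocallyOfFinitePresentation f] (F : X.Modules) [Coh.IsQCoh F] (hF : CohB1.IsFP F) (x : X)
    (g : Y' ⟶ Y) [IsProper g] [LocallyOfFinitePresentation g]
    (hinj : ∀ (V : Y.Opens) (s : Γ(Y, V)), f x ∈ V → g.app V s = 0 →
      ∃ W : Y.Opens, f x ∈ W ∧ ∃ hWV : W ≤ V, Y.presheaf.map (homOfLE hWV).op s = 0)
    (hflat : ∀ x' : ↥(pullback f g), pullback.fst f g x' = x →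
      FlatMod.IsFlatOverAt (pullback.snd f g) ((Scheme.Modules.pullback (pullback.fst f g)).obj F) x') :
    FlatMod.IsFlatOverAt f F x := by
  have hfl := H23.RatExtend.flat_fromSpecStalk Y (f x)
  let j := Y.fromSpecStalk (f x)
  let f₀ : pullback f j ⟶ Spec (Y.presheaf.stalk (f x)) := pullback.snd f j
  let g₀ : pullback g j ⟶ Spec (Y.presheaf.stalk (f x)) := pullback.snd g j
  let F₀ := (Scheme.Modules.pullback (pullback.fst f j)).obj F
  have hF₀ : CohB1.IsFP F₀ := ModStLib.isFP_pullback _ hF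
  obtain ⟨x₀, hx₁, hx₂⟩ := Scheme.Pullback.exists_preimage_pullback (f := f) (g := j) x
    (IsLocalRing.closedPoint (Y.presheaf.stalk (f x))) Scheme.fromSpecStalk_closedPoint.symm
  let q : pullback f₀ g₀ ⟶ pullback f g :=
    pullback.lift (pullback.fst f₀ g₀ ≫ pullback.fst f j) (pullback.snd f₀ g₀ ≫ pullback.fst g j) (by
      simp only [Category.assoc, pullback.condition]
      exact pullback.condition_assoc (f := f₀) (g := g₀) j)
  have hq : IsPullback q (pullback.snd f₀ g₀) (pullback.snd f g) (pullback.fst g j) := by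
    refine IsPullback.of_right ?_ (pullback.lift_snd _ _ _) (IsPullback.of_hasPullback f g)
    rw [pullback.lift_fst, show pullback.fst g j ≫ g = g₀ ≫ j from pullback.condition]
    exact (IsPullback.of_hasPullback f₀ g₀).paste_horiz (IsPullback.of_hasPullback f j)
  let P₀ := (Scheme.Modules.pullback (pullback.fst f₀ g₀)).obj F₀
  haveI : Coh.IsQCoh P₀ := QCoh.isQCoh_of_isFP (ModStLib.isFP_pullback _ hF₀)
  have hO : IsOpen {w | FlatMod.IsFlatOverAt (pullback.snd f₀ g₀) P₀ w} :=
    S4863.result (pullback.snd f₀ g₀) P₀ (ModStLib.isFP_pullback _ hF₀)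
  have hx₀O : ∀ w, pullback.fst f₀ g₀ w = x₀ → FlatMod.IsFlatOverAt (pullback.snd f₀ g₀) P₀ w := fun w hw => by
    refine GrFlat5.isFlatOverAt_of_iso _ ?_ w
      (MorLib.FlatBC.isFlatOverAt_baseChange _ _ q (pullback.fst g j) hq _ w (hflat (q w) ?_))
    · exact (Scheme.Modules.pullbackComp q (pullback.fst f g)).app F ≪≫
        (Scheme.Modules.pullbackCongr (pullback.lift_fst _ _ _ : q ≫ pullback.fst f g = _)).app F ≪≫
        ((Scheme.Modules.pullbackComp (pullback.fst f₀ g₀) (pullback.fst f j)).app F).symm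
    · rw [← Scheme.Hom.comp_apply, pullback.lift_fst, Scheme.Hom.comp_apply, hw, hx₁]
  let U₁ : (pullback f j).Opens := ⟨_, ((pullback.fst f₀ g₀).isClosedMap _ hO.isClosed_compl).isOpen_compl⟩
  have hxU₁ : x₀ ∈ U₁ := fun ⟨w, hw, hwx⟩ => hw (hx₀O w hwx)
  obtain ⟨U, hU, hxU, hUU₁⟩ := exists_isAffineOpen_mem_and_subset (x := x₀) (U := U₁) hxU₁
  haveI : IsAffine (U : Scheme.{u}) := hU
  let q' : pullback (U.ι ≫ f₀) g₀ ⟶ pullback f₀ g₀ :=
    pullback.map (U.ι ≫ f₀) g₀ f₀ g₀ U.ι (𝟙 _) (𝟙 _) (Category.comp_id _) (by simp)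
  have hq' : IsPullback q' (pullback.fst (U.ι ≫ f₀) g₀) (pullback.fst f₀ g₀) U.ι := by
    refine (IsPullback.of_bot ?_ (pullback.lift_fst _ _ _).symm (IsPullback.of_hasPullback f₀ g₀)).flip
    rw [pullback.lift_snd, Category.comp_id]
    exact IsPullback.of_hasPullback (U.ι ≫ f₀) g₀
  haveI : IsOpenImmersion q' := MorphismProperty.of_isPullback hq'.flip inferInstance
  have h := FlatProper.flatAt_of_proper (U.ι ≫ f₀) ((Scheme.Modules.pullback U.ι).obj F₀)
    (ModStLib.isFP_pullback _ hF₀) ⟨x₀, hxU⟩ hx₂ g₀ (appTop_eq_zero g (f x) hinj) fun w => by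
      refine GrFlat5.isFlatOverAt_of_iso _ ?_ w
        ((FlatProper.flatAt_flatPreimmersion (f := pullback.snd f₀ g₀) (f' := pullback.snd (U.ι ≫ f₀) g₀) (jX := q')
          (jY := 𝟙 _) (by simp [q']) P₀ w).2 ?_)
      · exact (Scheme.Modules.pullbackComp q' (pullback.fst f₀ g₀)).app F₀ ≪≫
          (Scheme.Modules.pullbackCongr (pullback.lift_fst _ _ _ : q' ≫ pullback.fst f₀ g₀ = _)).app F₀ ≪≫
          ((Scheme.Modules.pullbackComp (pullback.fst (U.ι ≫ f₀) g₀) U.ι).app F₀).symm
      · by_contra hne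
        refine hUU₁ (pullback.fst (U.ι ≫ f₀) g₀ w).2 ⟨q' w, hne, ?_⟩
        rw [← Scheme.Hom.comp_apply, pullback.lift_fst]
        rfl
  have h' := (FlatProper.flatAt_flatPreimmersion (f := f₀) (f' := U.ι ≫ f₀) (jX := U.ι) (jY := 𝟙 _)
    (Category.comp_id _) F₀ ⟨x₀, hxU⟩).1 h
  have h'' := (FlatProper.flatAt_flatPreimmersion (f := f) (f' := f₀) (jX := pullback.fst f j) (jY := j)
    pullback.condition.symm F x₀).1 h'
  rwa [hx₁] at h''

end Groth.Agent.S4854
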