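import Groth.Statements.S2564
import Groth.Agent.S4854
import Groth.Agent.FibFlatMod.Morph
import Groth.Agent.FibFlatMod.StageGlobal
import Groth.Agent.PopescuLib.FPColim

set_option autoImplicit false
set_option linter.style.haveILetI false
set_option backward.isDefEq.respectTransparency false
set_option backward.isDefEq.respectTransparency.types false
open CategoryTheory AlgebraicGeometry
universe u
open EGA43

namespace Groth.Agent.S2564

/-- A morphism of affine schemes injective on global functions is injective on functions near every point. -/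
theorem hinj_affine {S T : Scheme.{u}} [IsAffine S] [IsAffine T] (g : T ⟶ S) (hg : Function.Injective g.appTop)
    (V : S.Opens) (s : Γ(S, V)) (y : S) (hy : y ∈ V) (hs : g.app V s = 0) :
    ∃ W : S.Opens, y ∈ W ∧ ∃ hWV : W ≤ V, S.presheaf.map (homOfLE hWV).op s = 0 := by
  obtain ⟨a, haV, hya⟩ := (isAffineOpen_top S).exists_basicOpen_le ⟨y, hy⟩ trivial
  refine ⟨S.basicOpen a, hya, haV, ?_⟩
  let W := S.basicOpen a
  let s' : Γ(S, W) := S.presheaf.map (homOfLE haV).op s
  obtain ⟨n, b, hb⟩ := exists_eq_pow_mul_of_isCompact_of_isQuasiSeparated S ⊤ CompactSpace.isCompact_univ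
    (isAffineOpen_top S).isQuasiSeparated a s'
  have hs' : g.app W s' = 0 := by
    show (S.presheaf.map (homOfLE haV).op ≫ g.app W) s = 0
    rw [Scheme.Hom.naturality, CommRingCat.comp_apply, hs, map_zero]
  have hb' : g.app W (S.presheaf.map (homOfLE (le_top : W ≤ ⊤)).op b) = 0 := by
    refine (congrArg (g.app W) hb).trans ?_
    rw [map_mul, hs', mul_zero]
  have hle : T.basicOpen (g.appTop a) ≤ g ⁻¹ᵁ W := (Scheme.preimage_basicOpen g a).ge
  have h1 : T.presheaf.map (homOfLE (le_top : T.basicOpen (g.appTop a) ≤ ⊤)).op (g.appTop b) = 0 := by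
    have := congrArg (T.presheaf.map (homOfLE hle).op) hb'
    rw [map_zero, ← CommRingCat.comp_apply, ← CommRingCat.comp_apply, Scheme.Hom.naturality_assoc,
      ← Functor.map_comp] at this
    exact this
  obtain ⟨m, hm⟩ := exists_pow_mul_eq_zero_of_res_basicOpen_eq_zero_of_isCompact T (U := ⊤)
    CompactSpace.isCompact_univ (g.appTop b) (g.appTop a) h1
  have h2 : a ^ m * b = 0 := hg (by rw [map_mul, map_pow, map_zero]; exact hm)
  have h3 := congrArg (S.presheaf.map (homOfLE (le_top : W ≤ ⊤)).op) h2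
  rw [map_mul, map_pow, map_zero] at h3
  have hu : IsUnit (S.presheaf.map (homOfLE (le_top : W ≤ ⊤)).op a) :=
    RingedSpace.isUnit_res_basicOpen _ a
  have h4 : S.presheaf.map (homOfLE (le_top : W ≤ ⊤)).op b = 0 := (hu.pow m).mul_right_eq_zero.1 h3
  exact (hu.pow n).mul_right_eq_zero.1 (hb.symm.trans h4)

theorem appTop_injective_spec {A C : CommRingCat.{u}} (φ : A ⟶ C) (hφ : Function.Injective φ) :
    Function.Injective (Spec.map φ).appTop := by
  intro a b hab
  have h := congrArg (Scheme.ΓSpecIso C).hom hab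
  rw [← CommRingCat.comp_apply, ← CommRingCat.comp_apply, Scheme.ΓSpecIso_naturality, CommRingCat.comp_apply,
    CommRingCat.comp_apply] at h
  exact (ConcreteCategory.bijective_of_isIso (Scheme.ΓSpecIso A).hom).1 (hφ h)

/-- An algebra of finite presentation maps, over an integral one, to a finite one. -/
theorem exists_finite_of_integral {A M B : Type u} [CommRing A] [CommRing M] [Algebra A M] [CommRing B] [Algebra A B]
    [Algebra.IsIntegral A B] [Algebra.FinitePresentation A M] (φ : M →ₐ[A] B) :
    ∃ (C : Type u) (_ : CommRing C) (_ : Algebra A C) (α : M →ₐ[A] C) (β : C →ₐ[A] B),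
      Module.Finite A C ∧ Algebra.FinitePresentation A C ∧ β.comp α = φ := by
  classical
  obtain ⟨s, hs⟩ := Algebra.FiniteType.out (R := A) (A := M)
  choose p hpm hp using fun i : M => Algebra.IsIntegral.isIntegral (R := A) (φ i)
  let t : Finset M := s.image fun i => Polynomial.aeval i (p i)
  let K : Ideal M := Ideal.span (t : Set M)
  have hK : K ≤ RingHom.ker φ := Ideal.span_le.2 fun a ha => by
    obtain ⟨i, -, rfl⟩ := Finset.mem_image.1 (Finset.mem_coe.1 ha)
    rw [SetLike.mem_coe, RingHom.mem_ker, ← Polynomial.aeval_algHom_apply]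
    exact hp i
  let β : (M ⧸ K) →ₐ[A] B := Ideal.Quotient.liftₐ K φ fun a ha => hK ha
  refine ⟨M ⧸ K, inferInstance, inferInstance, Ideal.Quotient.mkₐ A K, β, ?_,
    Algebra.FinitePresentation.quotient ⟨t, rfl⟩, rfl⟩
  have hadj : Algebra.adjoin A (Ideal.Quotient.mkₐ A K '' (s : Set M)) = ⊤ := by
    rw [← AlgHom.map_adjoin, hs, Algebra.map_top, AlgHom.range_eq_top]
    exact Ideal.Quotient.mk_surjective
  have hfg : (Algebra.adjoin A (Ideal.Quotient.mkₐ A K '' (s : Set M))).toSubmodule.FG := by
    refine fg_adjoin_of_finite (s.finite_toSet.image _) ?_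
    rintro _ ⟨i, hi, rfl⟩
    refine ⟨p i, hpm i, ?_⟩
    show Polynomial.aeval (Ideal.Quotient.mkₐ A K i) (p i) = 0
    rw [Polynomial.aeval_algHom_apply]
    exact Ideal.Quotient.eq_zero_iff_mem.2 (Ideal.subset_span (Finset.mem_image_of_mem _ hi))
  rw [hadj, Algebra.top_toSubmodule] at hfg
  exact ⟨hfg⟩

open CategoryTheory.Limits PopescuLib in
/-- Flatness over an integral extension is defined over a finite, finitely presented one. -/
theorem exists_flat_stage {A B : Type u} [CommRing A] [CommRing B] [Algebra A B] [Algebra.IsIntegral A B]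
    {X : Scheme.{u}} [CompactSpace X] (f : X ⟶ Spec (CommRingCat.of A)) [LocallyOfFinitePresentation f]
    (h : Flat (pullback.snd f (Spec.map (CommRingCat.ofHom (algebraMap A B))))) :
    ∃ (C : Type u) (_ : CommRing C) (_ : Algebra A C) (β : C →ₐ[A] B),
      Module.Finite A C ∧ Algebra.FinitePresentation A C ∧
        Flat (pullback.snd f (Spec.map (CommRingCat.ofHom (algebraMap A C)))) := by
  haveI : IsConnected (FPModel A B) := IsFiltered.isConnected _
  let D : (FPModel A B)ᵒᵖ ⥤ Scheme.{u} := (fpDiagram A B ⋙ Under.forget _).op ⋙ Scheme.Spec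
  let c : Cone D := Scheme.Spec.mapCone ((Under.forget _).mapCocone (fpCocone A B)).op
  have hc : IsLimit c :=
    isLimitOfPreserves Scheme.Spec (isColimitOfPreserves (Under.forget _) (fpIsColimit A B)).op
  haveI : ∀ (i j : (FPModel A B)ᵒᵖ) (t : i ⟶ j), IsAffineHom (D.map t) := fun i j t =>
    inferInstanceAs (IsAffineHom (Spec.map _))
  obtain ⟨M₀⟩ : Nonempty (FPModel A B) := IsFiltered.nonempty
  let i₀ : (FPModel A B)ᵒᵖ := Opposite.op M₀
  let j₀ : D.obj i₀ ⟶ Spec (CommRingCat.of A) := Spec.map (CommRingCat.ofHom (algebraMap A M₀.Alg))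
  let g := Spec.map (CommRingCat.ofHom (algebraMap A B))
  have hj₀ : c.π.app i₀ ≫ j₀ = g := by
    show Spec.map (CommRingCat.ofHom M₀.toB.toRingHom) ≫ Spec.map (CommRingCat.ofHom (algebraMap A M₀.Alg)) = _
    rw [← Spec.map_comp]
    exact congrArg Spec.map (CommRingCat.hom_ext (M₀.toB.comp_algebraMap))
  let X₀ := pullback f j₀
  let f₀ : X₀ ⟶ D.obj i₀ := pullback.snd f j₀
  let qX : pullback f g ⟶ X₀ := pullback.lift (pullback.fst f g) (pullback.snd f g ≫ c.π.app i₀) (by
    rw [Category.assoc, hj₀]; exact pullback.condition)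
  have hX : IsPullback qX (pullback.snd f g) f₀ (c.π.app i₀) := by
    refine IsPullback.of_right ?_ (pullback.lift_snd _ _ _) (IsPullback.of_hasPullback f j₀)
    rw [pullback.lift_fst, hj₀]
    exact IsPullback.of_hasPullback f g
  haveI : QuasiCompact f := inferInstance
  haveI : IsAffine (D.obj i₀) := inferInstanceAs (IsAffine (Spec _))
  haveI : CompactSpace ↥X₀ := QuasiCompact.compactSpace_of_compactSpace f₀
  haveI : IsIso (SheafOfModules.pullbackObjUnitToUnit qX.toRingCatSheafHom) := inferInstance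
  let θ : (Scheme.Modules.pullback qX).obj (Coh.structureModule X₀) ≅ Coh.structureModule _ :=
    asIso (SheafOfModules.pullbackObjUnitToUnit qX.toRingCatSheafHom)
  obtain ⟨k, hk⟩ := FibFlatMod.exists_stage_flat_all D c hc i₀ f₀ (𝟙 (D.obj i₀))
    (F₀ := Coh.structureModule X₀) AssDimLoci.isFP_structureModule (pullback.snd f g) (𝟙 c.pt) (c.π.app i₀) qX
    (IsPullback.id_vert (c.π.app i₀)) hX
    (fun z => GrFlat5.isFlatOverAt_of_iso _ θ.symm z
      ((FibFlatMod.isFlatOverAt_structure_iff _ z).2 ((Flat.iff_flat_stalkMap _).1 h z)))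
  let w := pullback.fst (𝟙 (D.obj i₀)) (D.map k.hom)
  haveI : IsIso (SheafOfModules.pullbackObjUnitToUnit (pullback.fst f₀ w).toRingCatSheafHom) := inferInstance
  let θ' : (Scheme.Modules.pullback (pullback.fst f₀ w)).obj (Coh.structureModule X₀) ≅ Coh.structureModule _ :=
    asIso (SheafOfModules.pullbackObjUnitToUnit (pullback.fst f₀ w).toRingCatSheafHom)
  have hflat : Flat (pullback.snd f₀ w) := (Flat.iff_flat_stalkMap _).2 fun z =>
    (FibFlatMod.isFlatOverAt_structure_iff _ z).1 (GrFlat5.isFlatOverAt_of_iso _ θ' z (hk z))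
  obtain ⟨C, _, _, α, β, hfin, hfp, hαβ⟩ := exists_finite_of_integral k.left.unop.toB
  refine ⟨C, inferInstance, inferInstance, β, hfin, hfp, ?_⟩
  let a : Spec (CommRingCat.of C) ⟶ D.obj k.left := Spec.map (CommRingCat.ofHom α.toRingHom)
  let t : Spec (CommRingCat.of C) ⟶ pullback (𝟙 (D.obj i₀)) (D.map k.hom) :=
    pullback.lift (a ≫ D.map k.hom) a (Category.comp_id _)
  have ht : (t ≫ w) ≫ j₀ = Spec.map (CommRingCat.ofHom (algebraMap A C)) := by
    rw [pullback.lift_fst, Category.assoc]
    show Spec.map _ ≫ Spec.map (CommRingCat.ofHom k.hom.unop.1.toRingHom) ≫ Spec.map _ = _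
    rw [← Spec.map_comp, ← Spec.map_comp]
    refine congrArg Spec.map (CommRingCat.hom_ext (RingHom.ext fun r => ?_))
    exact ((α.comp k.hom.unop.1).commutes r)
  have hP : IsPullback (pullback.fst (pullback.snd f₀ w) t ≫ pullback.fst f₀ w ≫ pullback.fst f j₀)
      (pullback.snd (pullback.snd f₀ w) t) f (Spec.map (CommRingCat.ofHom (algebraMap A C))) := by
    rw [← ht, Category.assoc]
    exact (IsPullback.of_hasPullback (pullback.snd f₀ w) t).paste_horiz
      ((IsPullback.of_hasPullback f₀ w).paste_horiz (IsPullback.of_hasPullback f j₀))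
  rw [← hP.isoPullback_inv_snd]
  infer_instance

open CategoryTheory.Limits in
/-- Let A ⟶ A' be an injective ring homomorphism making A' integral over A, f : X ⟶ Spec A locally of
finite presentation, x a point of X, and X' = X ×_{Spec A} Spec A'. If X' ⟶ Spec A' is flat at every
point of X' lying over x, then f is flat at x. -/
theorem result {A A' : Type u} [CommRing A] [CommRing A']
    [Algebra A A'] [Algebra.IsIntegral A A'] (hinj : Function.Injective (algebraMap A A'))
    {X : Scheme.{u}} (f : X ⟶ Spec (CommRingCat.of A)) [LocallyOfFinitePresentation f] (x : X)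
    (h : ∀ x' : ↥(pullback f (Spec.map (CommRingCat.ofHom (algebraMap A A')))),
      (pullback.fst f _).base x' = x →
      ((pullback.snd f (Spec.map (CommRingCat.ofHom (algebraMap A A')))).stalkMap x').hom.Flat) :
    (f.stalkMap x).hom.Flat := by
  classical
  let g := Spec.map (CommRingCat.ofHom (algebraMap A A'))
  haveI : IsIntegralHom g := IsIntegralHom.SpecMap_iff.2 (algebraMap_isIntegral_iff.2 inferInstance)
  let O : Set ↥(pullback f g) := {z | FlatMod.IsFlatOverAt (pullback.snd f g) (Coh.structureModule _) z}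
  haveI : Coh.IsQCoh (Coh.structureModule (pullback f g)) := QCoh.isQCoh_structureModule
  have hO : IsOpen O := S4863.result (pullback.snd f g) _ AssDimLoci.isFP_structureModule
  let U₁ : X.Opens := ⟨_, ((pullback.fst f g).isClosedMap _ hO.isClosed_compl).isOpen_compl⟩
  have hxU₁ : x ∈ U₁ := fun ⟨w, hw, hwx⟩ => hw ((FibFlatMod.isFlatOverAt_structure_iff _ w).2 (h w hwx))
  obtain ⟨U, hU, hxU, hUU₁⟩ := exists_isAffineOpen_mem_and_subset (x := x) (U := U₁) hxU₁
  haveI : IsAffine (U : Scheme.{u}) := hU
  let q : pullback (U.ι ≫ f) g ⟶ pullback f g :=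
    pullback.map (U.ι ≫ f) g f g U.ι (𝟙 _) (𝟙 _) (Category.comp_id _) (by simp)
  have hq : IsPullback q (pullback.fst (U.ι ≫ f) g) (pullback.fst f g) U.ι := by
    refine (IsPullback.of_bot ?_ (pullback.lift_fst _ _ _).symm (IsPullback.of_hasPullback f g)).flip
    rw [pullback.lift_snd, Category.comp_id]
    exact IsPullback.of_hasPullback (U.ι ≫ f) g
  haveI : IsOpenImmersion q := MorphismProperty.of_isPullback hq.flip inferInstance
  have hfl : Flat (pullback.snd (U.ι ≫ f) g) := by
    rw [Flat.iff_flat_stalkMap]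
    intro w
    have h1 : FlatMod.IsFlatOverAt (pullback.snd f g) (Coh.structureModule _) (q w) := by
      by_contra hne
      refine hUU₁ (pullback.fst (U.ι ≫ f) g w).2 ⟨q w, hne, ?_⟩
      rw [← Scheme.Hom.comp_apply, pullback.lift_fst]
      rfl
    rw [FibFlatMod.isFlatOverAt_structure_iff] at h1
    have hs : q ≫ pullback.snd f g = pullback.snd (U.ι ≫ f) g := (pullback.lift_snd _ _ _).trans (Category.comp_id _)
    rw [← hs, Scheme.Hom.stalkMap_comp]
    exact RingHom.Flat.comp h1 (RingHom.Flat.of_bijective (ConcreteCategory.bijective_of_isIso (q.stalkMap w)))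
  obtain ⟨C, _, _, β, hfin, hfp, hflC⟩ := exists_flat_stage (U.ι ≫ f) hfl
  let gC := Spec.map (CommRingCat.ofHom (algebraMap A C))
  haveI : IsFinite gC := (IsFinite.SpecMap_iff _).2 (RingHom.finite_algebraMap.2 hfin)
  haveI : LocallyOfFinitePresentation gC :=
    (HasRingHomProperty.Spec_iff (P := @LocallyOfFinitePresentation)).2 (RingHom.finitePresentation_algebraMap.2 hfp)
  have hinjC : Function.Injective (algebraMap A C) := fun a b e => hinj (by
    simpa using congrArg β e)
  haveI : Coh.IsQCoh (Coh.structureModule (U : Scheme.{u})) := QCoh.isQCoh_structureModule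
  have hU' := S4854.result (U.ι ≫ f) (Coh.structureModule _) AssDimLoci.isFP_structureModule ⟨x, hxU⟩ gC
    (fun V s hV hs => hinj_affine gC (appTop_injective_spec _ hinjC) V s _ hV hs) fun x' _ => by
      haveI : IsIso (SheafOfModules.pullbackObjUnitToUnit (pullback.fst (U.ι ≫ f) gC).toRingCatSheafHom) := inferInstance
      let θ : (Scheme.Modules.pullback (pullback.fst (U.ι ≫ f) gC)).obj (Coh.structureModule _) ≅ Coh.structureModule _ :=
        asIso (SheafOfModules.pullbackObjUnitToUnit (pullback.fst (U.ι ≫ f) gC).toRingCatSheafHom)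
      exact GrFlat5.isFlatOverAt_of_iso _ θ.symm x'
        ((FibFlatMod.isFlatOverAt_structure_iff _ x').2 ((Flat.iff_flat_stalkMap _).1 hflC x'))
  rw [FibFlatMod.isFlatOverAt_structure_iff, Scheme.Hom.stalkMap_comp] at hU'
  haveI := (inferInstance : IsIso (U.ι.stalkMap ⟨x, hxU⟩))
  have := RingHom.Flat.comp hU' (RingHom.Flat.of_bijective
    (ConcreteCategory.bijective_of_isIso (inv (U.ι.stalkMap ⟨x, hxU⟩))))
  rw [← CommRingCat.hom_comp, Category.assoc, IsIso.hom_inv_id, Category.comp_id] at this
  exact this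

end Groth.Agent.S2564
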