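import Groth.Statements.S17778
import Groth.Agent.RGammaI.KoszulInf
-- import your own Groth.Agent.* helpers here

set_option autoImplicit false
universe u
open CategoryTheory CategoryTheory.Limits
attribute [local instance] HasDerivedCategory.standard
open LocCoh

namespace Groth.Agent.S17778

/-- Let R be a Noetherian commutative ring, x_1, …, x_n a finite list of elements of R and E an
injective R-module. Then the cohomology of the extended Čech complex of E on x_1, …, x_n vanishes in
every positive degree. -/
theorem result (R : Type u) [CommRing R] [IsNoetherianRing R] (fs : List R) (E : Type u) [AddCommGroup E] [Module R E] [Module.Injective R E] (q : ℤ) (hq : 1 ≤ q) : IsZero (DerCA.extCechH fs (ModuleCat.of R E) q) := by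
  obtain ⟨i, rfl⟩ : ∃ i : ℕ, q = ((i + 1 : ℕ) : ℤ) := ⟨(q - 1).toNat, by omega⟩
  obtain ⟨e⟩ := Groth.Agent.RGammaI.nonempty_H_equiv_extCechH (ModuleCat.of R E) fs (i + 1)
  haveI : CategoryTheory.Injective (ModuleCat.of R E) := Module.injective_object_of_injective_module R E
  haveI := Groth.Agent.LC.subsingleton_of_injective (Groth.Agent.RGammaI.idl fs) (ModuleCat.of R E) i
  haveI : Subsingleton (DerCA.extCechH fs (ModuleCat.of R E) ((i + 1 : ℕ) : ℤ)) := e.toEquiv.symm.subsingleton
  exact ModuleCat.isZero_of_subsingleton _


end Groth.Agent.S17778
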