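import Groth.Prelude.Def_Omega3
import Groth.Prelude.Def_Frob
import Mathlib.AlgebraicGeometry.Morphisms.Affine

/-!
# Derivations kill the image of the relative Frobenius
-/

set_option autoImplicit false
set_option linter.style.haveILetI false

universe u

open CategoryTheory CategoryTheory.Limits AlgebraicGeometry TopologicalSpace Opposite

namespace Groth.Agent.FrobDer

variable {X S T : Scheme.{u}}

section

variable {f : X ⟶ S} {Ω : X.Modules} (D : OmegaSh.Der f Ω)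

theorem app_mul (U : X.Opens) (a b : Γ(X, U)) : D.app U (a * b) = a • D.app U b + b • D.app U a :=
  D.d_mul a b

theorem app_res {U V : X.Opens} (h : V ≤ U) (s : Γ(X, U)) :
    D.app V (X.presheaf.map (homOfLE h).op s) = Ω.presheaf.map (homOfLE h).op (D.app U s) :=
  D.d_map (homOfLE h).op s

theorem app_appLE (U : S.Opens) (W : X.Opens) (e : W ≤ f ⁻¹ᵁ U) (b : Γ(S, U)) :
    D.app W (f.appLE U W e b) = 0 := by
  have h : f.appLE U W e b = X.presheaf.map (homOfLE e).op (f.app U b) := rfl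
  rw [h, app_res D e]
  have h0 : D.app (f ⁻¹ᵁ U) (f.app U b) = 0 := D.d_app (X := op U) b
  rw [h0, map_zero]

theorem app_one (U : X.Opens) : D.app U (1 : Γ(X, U)) = 0 := by
  have h := app_mul D U 1 1
  rw [one_mul, one_smul] at h
  exact left_eq_add.mp h

theorem app_pow (U : X.Opens) (s : Γ(X, U)) (n : ℕ) :
    D.app U (s ^ (n + 1)) = ((n + 1 : ℕ) : Γ(X, U)) • (s ^ n • D.app U s) := by
  induction n with
  | zero => simp
  | succ n ih =>
    rw [pow_succ s (n + 1), app_mul, ih, Nat.cast_succ (n + 1), add_smul, one_smul, smul_smul, smul_smul,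
      smul_smul]
    rw [show s * ((n + 1 : ℕ) : Γ(X, U)) * s ^ n = ((n + 1 : ℕ) : Γ(X, U)) * s ^ (n + 1) by ring]
    exact add_comm _ _

theorem app_pow_char (p : ℕ) (hp : 0 < p) (U : X.Opens) (h0 : (p : Γ(X, U)) = 0) (s : Γ(X, U)) :
    D.app U (s ^ p) = 0 := by
  obtain ⟨n, rfl⟩ : ∃ n, p = n + 1 := ⟨p - 1, by omega⟩
  rw [app_pow, h0, zero_smul]

/-- The sections of `T` killed by the derivation after pulling back along `r`. -/
def killed (r : X ⟶ T) (P : T.Opens) (W : X.Opens) (e : W ≤ r ⁻¹ᵁ P) : Subring Γ(T, P) where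
  carrier := {c | D.app W (r.appLE P W e c) = 0}
  zero_mem' := by simp
  one_mem' := by simp only [Set.mem_setOf_eq, map_one, app_one]
  add_mem' {a b} ha hb := by simp only [Set.mem_setOf_eq, map_add] at *; rw [ha, hb, add_zero]
  neg_mem' {a} ha := by simp only [Set.mem_setOf_eq, map_neg] at *; rw [ha, neg_zero]
  mul_mem' {a b} ha hb := by
    simp only [Set.mem_setOf_eq, map_mul, app_mul] at *
    rw [ha, hb, smul_zero, smul_zero, add_zero]

end

theorem appLE_congr_hom {f g : X ⟶ S} (h : f = g) (U : S.Opens) (W : X.Opens) (e : W ≤ f ⁻¹ᵁ U)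
    (e' : W ≤ g ⁻¹ᵁ U) : f.appLE U W e = g.appLE U W e' := by
  subst h; rfl

theorem mem_of_isPushout {A B C P : CommRingCat.{u}} {f : A ⟶ B} {g : A ⟶ C} {inl : B ⟶ P} {inr : C ⟶ P}
    (h : IsPushout f g inl inr) (K : Subring P) (hl : ∀ b, inl b ∈ K) (hr : ∀ c, inr c ∈ K) (x : P) :
    x ∈ K := by
  let l : B ⟶ CommRingCat.of K := CommRingCat.ofHom (inl.hom.codRestrict K hl)
  let r : C ⟶ CommRingCat.of K := CommRingCat.ofHom (inr.hom.codRestrict K hr)
  have w : f ≫ l = g ≫ r := by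
    ext a
    exact congr($(h.w).hom a)
  have hu : h.desc l r w ≫ CommRingCat.ofHom K.subtype = 𝟙 P := by
    refine h.hom_ext ?_ ?_
    · rw [h.inl_desc_assoc, Category.comp_id]; rfl
    · rw [h.inr_desc_assoc, Category.comp_id]; rfl
  have := congr($hu x)
  rw [show x = (h.desc l r w x).1 from this.symm]
  exact (h.desc l r w x).2

variable (p : ℕ) [Fact p.Prime] [FrobSch.IsCharP S p] (f : X ⟶ S) {Ω : X.Modules} (D : OmegaSh.Der f Ω)

theorem kill_chart {W : X.Opens} (hW : IsAffineOpen W) {U : S.Opens} (hU : IsAffineOpen U) (hWU : W ≤ f ⁻¹ᵁ U)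
    (P : (FrobSch.frobTwist f p).Opens)
    (hP : P = pullback.fst f (FrobSch.frob S p) ⁻¹ᵁ W ⊓ pullback.snd f (FrobSch.frob S p) ⁻¹ᵁ U)
    (e : W ≤ FrobSch.relFrob f p ⁻¹ᵁ P) (c : Γ(FrobSch.frobTwist f p, P)) :
    D.app W ((FrobSch.relFrob f p).appLE P W e c) = 0 := by
  haveI : FrobSch.IsCharP X p := FrobSch.IsCharP.of_hom f p
  have hc := IsPullback.of_hasPullback f (FrobSch.frob S p)
  have hUU : U ≤ FrobSch.frob S p ⁻¹ᵁ U := le_rfl
  have hpo := (isIso_pushoutSection_iff hc hUU hWU (UY := P) hP).mp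
    (isIso_pushoutSection_of_isAffineOpen hc hUU hWU hP hU hU hW)
  refine mem_of_isPushout hpo (killed D (FrobSch.relFrob f p) P W e) (fun b => ?_) (fun b => ?_) c
  · show D.app W ((FrobSch.relFrob f p).appLE P W e ((pullback.fst f (FrobSch.frob S p)).appLE W P _ b)) = 0
    rw [← CommRingCat.comp_apply, Scheme.Hom.appLE_comp_appLE,
      appLE_congr_hom (FrobSch.relFrob_fst f p) W W _ le_rfl]
    have h1 : (FrobSch.frob X p).appLE W W le_rfl b = b ^ p := by
      show X.presheaf.map (homOfLE le_rfl).op ((FrobSch.frob X p).app W b) = b ^ p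
      rw [FrobSch.frob_app]
      simp
      rfl
    rw [h1]
    exact app_pow_char D p (Fact.out : p.Prime).pos W (FrobSch.natCast_eq_zero_app X p W) b
  · show D.app W ((FrobSch.relFrob f p).appLE P W e ((pullback.snd f (FrobSch.frob S p)).appLE U P _ b)) = 0
    rw [← CommRingCat.comp_apply, Scheme.Hom.appLE_comp_appLE, appLE_congr_hom (FrobSch.relFrob_snd f p) U W _ hWU]
    exact app_appLE D U W hWU b

theorem kill_basic {W : X.Opens} (hW : IsAffineOpen W) {U : S.Opens} (hU : IsAffineOpen U) (hWU : W ≤ f ⁻¹ᵁ U)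
    (P : (FrobSch.frobTwist f p).Opens)
    (hP : P = pullback.fst f (FrobSch.frob S p) ⁻¹ᵁ W ⊓ pullback.snd f (FrobSch.frob S p) ⁻¹ᵁ U)
    (e : W ≤ FrobSch.relFrob f p ⁻¹ᵁ P) (hPa : IsAffineOpen P) (h : Γ(FrobSch.frobTwist f p, P))
    (W' : X.Opens) (hW' : W' ≤ W) (e' : W' ≤ FrobSch.relFrob f p ⁻¹ᵁ (FrobSch.frobTwist f p).basicOpen h)
    (c : Γ(FrobSch.frobTwist f p, (FrobSch.frobTwist f p).basicOpen h)) :
    D.app W' ((FrobSch.relFrob f p).appLE _ W' e' c) = 0 := by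
  haveI := hPa.isLocalization_basicOpen h
  obtain ⟨⟨a, ⟨_, n, rfl⟩⟩, hs⟩ := IsLocalization.surj (Submonoid.powers h) c
  have key : ∀ b, D.app W' ((FrobSch.relFrob f p).appLE _ W' e'
      (algebraMap Γ(FrobSch.frobTwist f p, P) Γ(FrobSch.frobTwist f p, (FrobSch.frobTwist f p).basicOpen h) b)) = 0 := by
    intro b
    have h2 : (FrobSch.relFrob f p).appLE _ W' e'
        (algebraMap Γ(FrobSch.frobTwist f p, P) Γ(FrobSch.frobTwist f p, (FrobSch.frobTwist f p).basicOpen h) b) =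
        X.presheaf.map (homOfLE hW').op ((FrobSch.relFrob f p).appLE P W e b) := by
      rw [← CommRingCat.comp_apply, Scheme.Hom.appLE_map]
      show ((FrobSch.frobTwist f p).presheaf.map _ ≫ (FrobSch.relFrob f p).appLE _ W' e') b = _
      rw [Scheme.Hom.map_appLE]
    rw [h2, app_res D hW', kill_chart p f D hW hU hWU P hP e b, map_zero]
  have hu : IsUnit ((FrobSch.relFrob f p).appLE _ W' e'
      (algebraMap Γ(FrobSch.frobTwist f p, P) Γ(FrobSch.frobTwist f p, (FrobSch.frobTwist f p).basicOpen h) (h ^ n))) :=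
    (IsLocalization.map_units _ (⟨h ^ n, n, rfl⟩ : Submonoid.powers h)).map _
  have h3 := key a
  rw [← hs, map_mul, app_mul, key, smul_zero, zero_add] at h3
  exact (IsUnit.smul_eq_zero hu).mp h3

/-- A derivation relative to `f` vanishes on sections coming from the Frobenius twist. -/
theorem kill (V : (FrobSch.frobTwist f p).Opens) (c : Γ(FrobSch.frobTwist f p, V)) :
    D.app (FrobSch.relFrob f p ⁻¹ᵁ V) ((FrobSch.relFrob f p).app V c) = 0 := by
  haveI : FrobSch.IsCharP X p := FrobSch.IsCharP.of_hom f p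
  have hloc : ∀ x : ↥(FrobSch.relFrob f p ⁻¹ᵁ V), ∃ (W' : X.Opens) (le : W' ≤ FrobSch.relFrob f p ⁻¹ᵁ V),
      x.1 ∈ W' ∧ Ω.presheaf.map (homOfLE le).op (D.app (FrobSch.relFrob f p ⁻¹ᵁ V) ((FrobSch.relFrob f p).app V c)) = 0 := by
    intro x
    obtain ⟨U, hU, hxU, -⟩ := exists_isAffineOpen_mem_and_subset (x := f x.1) (U := (⊤ : S.Opens)) trivial
    obtain ⟨W, hW, hxW, hWU⟩ := exists_isAffineOpen_mem_and_subset (x := x.1) (U := f ⁻¹ᵁ U) hxU
    obtain ⟨P, hP⟩ : ∃ P : (FrobSch.frobTwist f p).Opens,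
      P = pullback.fst f (FrobSch.frob S p) ⁻¹ᵁ W ⊓ pullback.snd f (FrobSch.frob S p) ⁻¹ᵁ U := ⟨_, rfl⟩
    have hPa : IsAffineOpen P := by
      haveI : IsAffine _ := hU
      haveI : IsAffine _ := hW
      exact .of_isIso (Scheme.Hom.isPullback_resLE (IsPullback.of_hasPullback f (FrobSch.frob S p))
        (le_rfl : U ≤ FrobSch.frob S p ⁻¹ᵁ U) hWU (UY := P) hP).isoPullback.hom
    have e : W ≤ FrobSch.relFrob f p ⁻¹ᵁ P := by
      rw [hP, Scheme.Hom.preimage_inf]
      refine le_inf ?_ ?_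
      · rw [← Scheme.Hom.comp_preimage, FrobSch.relFrob_fst, FrobSch.frob_preimage]
      · rw [← Scheme.Hom.comp_preimage, FrobSch.relFrob_snd]; exact hWU
    obtain ⟨h, hle, hxh⟩ := hPa.exists_basicOpen_le (V := V) ⟨FrobSch.relFrob f p x.1, x.2⟩ (e hxW)
    refine ⟨W ⊓ FrobSch.relFrob f p ⁻¹ᵁ (FrobSch.frobTwist f p).basicOpen h,
      inf_le_right.trans (Scheme.Hom.preimage_mono _ hle), ⟨hxW, hxh⟩, ?_⟩
    rw [← app_res D]
    have h2 := kill_basic p f D hW hU hWU P hP e hPa h _ inf_le_left inf_le_right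
      ((FrobSch.frobTwist f p).presheaf.map (homOfLE hle).op c)
    rw [← CommRingCat.comp_apply, Scheme.Hom.map_appLE] at h2
    exact h2
  choose W' le hx h0 using hloc
  refine TopCat.Sheaf.eq_of_locally_eq' ⟨Ω.presheaf, Ω.isSheaf⟩ W' _ (fun x => homOfLE (le x))
    (fun y hy => Opens.mem_iSup.2 ⟨⟨y, hy⟩, hx ⟨y, hy⟩⟩) _ _ fun x => ?_
  rw [map_zero]
  exact h0 x

theorem app_of_fac {r : X ⟶ T} {g : T ⟶ S} {F : X.Modules} (E : OmegaSh.Der r F) {f' : X ⟶ S} (h : r ≫ g = f')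
    (U : S.Opens) (a : Γ(S, U)) : E.app (f' ⁻¹ᵁ U) (f'.app U a) = 0 := by
  subst h
  exact E.d_app (X := op (g ⁻¹ᵁ U)) (g.app U a)

end Groth.Agent.FrobDer
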