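import Groth.Statements.S0093
import Groth.Agent.EtFound.ConstAcyclic

set_option autoImplicit false
open CategoryTheory CategoryTheory.Limits AlgebraicGeometry Opposite
universe u
open EtBase

namespace Groth.Agent.S0093

theorem surj (P B : Type u) [CommRing P] [CommRing B] [IsDomain B] [Algebra P B] [Algebra.IsIntegral P B]
    (p : PrimeSpectrum P) (hinj : ∀ x, algebraMap P B x = 0 → x = 0) :
    ∃ Q : PrimeSpectrum B, PrimeSpectrum.comap (algebraMap P B) Q = p := by
  obtain ⟨Q, hQ⟩ := Ideal.exists_ideal_over_prime_of_isIntegral_of_isDomain (S := B) p.asIdeal (by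
    intro x hx
    rw [hinj x hx]
    exact p.asIdeal.zero_mem)
  exact ⟨⟨Q, hQ.1⟩, PrimeSpectrum.ext hQ.2⟩

set_option backward.isDefEq.respectTransparency false in
set_option backward.isDefEq.respectTransparency.types false in
theorem normal_sepClosed (R : CommRingCat.{u}) [IsDomain R] [IsIntegrallyClosed R] (K : Type u) [Field K]
    [Algebra R K] [IsFractionRing R K] [IsSepClosed K] :
    (∀ x : Spec R, IsIntegrallyClosed ((Spec R).presheaf.stalk x)) ∧ IsSepClosed (Spec R).functionField := by
  refine ⟨fun x => ?_, ?_⟩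
  · let y : PrimeSpectrum R := x
    haveI : IsIntegrallyClosed (Localization.AtPrime y.asIdeal) :=
      isIntegrallyClosed_of_isLocalization _ y.asIdeal.primeCompl y.asIdeal.primeCompl_le_nonZeroDivisors
    exact IsIntegrallyClosed.of_equiv (StructureSheaf.stalkIso R y).toRingEquiv
  · exact Groth.Agent.AlgSpDec.EtStalkProps.isSepClosed_of_ringEquiv' (k := K)
      (IsLocalization.algEquiv (nonZeroDivisors R) K (Spec R).functionField).toRingEquiv

/-- Part (1) — every affine scheme admits an integral surjective morphism from a scheme all of whose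
closed subschemes have vanishing positive-degree étale cohomology with finite constant coefficients. -/
theorem result (X : Scheme.{u}) [IsAffine X] :
    ∃ (X' : Scheme.{u}) (π : X' ⟶ X) (_ : IsIntegralHom π) (_ : Surjective π),
      ∀ (Z' : Scheme.{u}) (i : Z' ⟶ X') (_ : IsClosedImmersion i)
        (M : Type) (_ : AddCommGroup M) (_ : Finite M) (q : ℕ), 1 ≤ q →
        Subsingleton (EtCoh.H Z' (EtCoh.const Z' M) q) := by
  let A : Type u := Γ(X, ⊤)
  let P : Type u := MvPolynomial A ℤ
  let π₀ : P →+* A := MvPolynomial.eval₂Hom (Int.castRingHom A) id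
  have hπ₀ : Function.Surjective π₀ := fun a => ⟨MvPolynomial.X a, MvPolynomial.eval₂Hom_X' _ _ a⟩
  let K : Type u := FractionRing P
  let Kb : Type u := AlgebraicClosure K
  let B : Type u := integralClosure P Kb
  haveI : Algebra.IsAlgebraic P Kb := (IsFractionRing.comap_isAlgebraic_iff (A := P) (K := K) (C := Kb)).2 inferInstance
  haveI hPK : Function.Injective (algebraMap P Kb) := (algebraMap K Kb).injective.comp (IsFractionRing.injective P K)
  haveI : IsFractionRing B Kb := IsIntegralClosure.isFractionRing_of_algebraic (A := P) (C := B) (fun x hx => hPK (hx.trans (map_zero _).symm))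
  haveI : IsIntegrallyClosed B := by
    rw [isIntegrallyClosed_iff Kb]
    intro x hx
    haveI : Algebra.IsIntegral P B := IsIntegralClosure.isIntegral_algebra P Kb
    exact ⟨⟨x, isIntegral_trans (R := P) x hx⟩, rfl⟩
  let g : Spec (CommRingCat.of B) ⟶ Spec (CommRingCat.of P) := Spec.map (CommRingCat.ofHom (algebraMap P B))
  let h : X ⟶ Spec (CommRingCat.of P) := X.isoSpec.hom ≫ Spec.map (CommRingCat.ofHom π₀)
  haveI : IsClosedImmersion (Spec.map (CommRingCat.ofHom π₀)) := IsClosedImmersion.spec_of_surjective _ hπ₀
  haveI : IsIntegralHom g := by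
    rw [IsIntegralHom.SpecMap_iff]
    exact fun b => IsIntegralClosure.isIntegral P Kb b
  haveI : Surjective g := ⟨fun p => surj P B p
    (fun x hx => hPK ((congrArg Subtype.val hx).trans (map_zero (algebraMap P Kb)).symm))⟩
  refine ⟨pullback g h, pullback.snd g h, inferInstance, inferInstance, fun Z' i hi M _ _ q hq => ?_⟩
  haveI := hi
  haveI : IsIntegral (Spec (CommRingCat.of B)) := inferInstance
  obtain ⟨hN, hK⟩ := normal_sepClosed (CommRingCat.of B) Kb
  haveI := hK
  obtain ⟨n, rfl⟩ := Nat.exists_eq_add_of_le' hq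
  exact Groth.Agent.EtFound.ConstAcyclic.subsingleton_H_const M n hN (i ≫ pullback.fst g h)

end Groth.Agent.S0093
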