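import Groth.Statements.S15549
import Groth.Agent.GrModX.Sections
import Mathlib.RingTheory.Noetherian.Basic


set_option autoImplicit false
universe u
open CategoryTheory AlgebraicGeometry
open LocCoh

namespace Groth.Agent.S15549

/-- Let R be a Noetherian commutative ring, positively graded by additive subgroups R_d, with irrelevant
ideal R_+ and X = Proj R, and let M be a graded R-module which is the direct sum of its pieces M_i,
i ≥ 0 (non-negatively graded here). For every i and every m ∈ M_i, the global section of M(i)~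
defined by m (the value m/1 at every point) is zero if and only if some power of R_+ annihilates m.
Equivalently, degree by degree, the kernel of the canonical map from M to the direct sum over all n
of Γ(X, M(n)~) is the R_+-power-torsion submodule H^0_{R_+}(M). -/
theorem result {R σ : Type u} [CommRing R] [IsNoetherianRing R] [SetLike σ R] [AddSubgroupClass σ R]
    (𝒜 : ℕ → σ) [GradedRing 𝒜] {M τ : Type u} [AddCommGroup M] [Module R M] [SetLike τ M] [AddSubgroupClass τ M]
    (ℳ : ℕ → τ) [SetLike.GradedSMul 𝒜 ℳ] [DirectSum.Decomposition ℳ]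
    (i : ℕ) (m : ℳ i) :
    GrMod.alpha 𝒜 ℳ i m = 0 ↔
      ∃ k : ℕ, ∀ r : R, r ∈ (HomogeneousIdeal.irrelevant 𝒜).toIdeal ^ k → r • (m : M) = 0 := by
  constructor
  · intro h
    let J : Ideal R := Submodule.colon (⊥ : Submodule R M) {(m : M)}
    have hJ : ∀ r : R, r ∈ J ↔ r • (m : M) = 0 := fun r => by simp [J, Submodule.mem_colon_singleton]
    have hle : (HomogeneousIdeal.irrelevant 𝒜).toIdeal ≤ J.radical := by
      classical
      intro r hr
      rw [← DirectSum.sum_support_decompose 𝒜 r]
      refine Ideal.sum_mem _ fun d hd => ?_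
      rcases Nat.eq_zero_or_pos d with rfl | hd'
      · have : (DirectSum.decompose 𝒜 r 0 : R) = 0 := by
          simpa [HomogeneousIdeal.mem_irrelevant_iff, GradedRing.proj_apply] using
            (HomogeneousIdeal.mem_irrelevant_iff 𝒜 r).1 hr
        rw [this]; exact zero_mem _
      · obtain ⟨N, hN⟩ := Groth.Agent.GrModX.exists_pow_smul_eq_zero_of_mk (ℳ := ℳ) 𝒜 hd'
          (DirectSum.decompose 𝒜 r d).2 (z := (i : ℤ)) (m := (m : M)) (Or.inr ⟨i, rfl, m.2⟩)
          (fun x _ => ⟨1, by
            have := congr_arg (fun s => GrMod.val s (⟨x, trivial⟩ : (⊤ : (Proj 𝒜).Opens))) h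
            exact this⟩)
        exact ⟨N, (hJ _).2 hN⟩
    obtain ⟨k, hk⟩ := Ideal.exists_pow_le_of_le_radical_of_fg hle
      (IsNoetherian.noetherian _)
    exact ⟨k, fun r hr => (hJ r).1 (hk hr)⟩
  · rintro ⟨k, hk⟩
    refine Groth.Agent.GrModX.ext_val 𝒜 ℳ fun y => ?_
    change LocalizedModule.mk (m : M) 1 = (0 : GrMod.LocMod 𝒜 (M := M) y.1)
    obtain ⟨r, hr, hry⟩ := SetLike.not_le_iff_exists.1 y.1.not_irrelevant_le
    rw [← LocalizedModule.zero_mk (S := y.1.asHomogeneousIdeal.toIdeal.primeCompl) 1, LocalizedModule.mk_eq]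
    refine ⟨⟨r ^ k, fun h' => hry (y.1.isPrime.mem_of_pow_mem k h')⟩, ?_⟩
    change r ^ k • (1 : R) • (m : M) = r ^ k • (1 : R) • (0 : M)
    rw [one_smul, smul_zero, smul_zero]
    exact hk _ (Ideal.pow_mem_pow hr k)

end Groth.Agent.S15549
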