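import Groth.Statements.S2476
import Groth.Agent.S2469
import Groth.Agent.S4571
import Groth.Agent.RegFS6.Field
import Groth.Agent.S4537
import Groth.Agent.S4540
import Groth.Agent.RegFS6.PrimeField
import Groth.Agent.CoeffField.Smooth
import Groth.Agent.AdicLib.Basic

set_option autoImplicit false
universe u
open EGA41

namespace Groth.Agent.S2476


open IsLocalRing TensorProduct KaehlerDifferential in
/-- The conormal map into absolute differentials is injective for the residue field of a local algebra
over a field. -/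
theorem injective_kerCotangentToTensor_int (k A : Type u) [Field k] [CommRing A] [IsLocalRing A] [Algebra k A] :
    Function.Injective (kerCotangentToTensor ℤ A (ResidueField A)) := by
  obtain ⟨P, _, _, hP, -⟩ := RegFS6.exists_primeField k
  let : Algebra P A := ((algebraMap k A).comp (algebraMap P k)).toAlgebra
  let : Algebra P (ResidueField A) := ((algebraMap A (ResidueField A)).comp (algebraMap P A)).toAlgebra
  have : IsScalarTower P A (ResidueField A) := IsScalarTower.of_algebraMap_eq fun _ => rfl
  have := CoeffField.formallySmooth_of_perfectField P (ResidueField A)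
  have hsurj : Function.Surjective (algebraMap A (ResidueField A)) := residue_surjective
  obtain ⟨g, hg⟩ : ∃ g : ResidueField A →ₐ[P] A ⧸ RingHom.ker (IsScalarTower.toAlgHom P A (ResidueField A)).toRingHom ^ 2,
      (IsScalarTower.toAlgHom P A (ResidueField A)).kerSquareLift.comp g = AlgHom.id _ _ := by
    have h1 : Function.Surjective (IsScalarTower.toAlgHom P A (ResidueField A)).kerSquareLift :=
      fun y => ⟨Ideal.Quotient.mk _ (hsurj y).choose, (hsurj y).choose_spec⟩
    have h2 : IsNilpotent (RingHom.ker (IsScalarTower.toAlgHom P A (ResidueField A)).kerSquareLift.toRingHom) := by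
      refine ⟨2, ?_⟩
      show RingHom.ker (IsScalarTower.toAlgHom P A (ResidueField A)).kerSquareLift.toRingHom ^ 2 = 0
      rw [AlgHom.ker_kerSquareLift, Ideal.cotangentIdeal_square, Ideal.zero_eq_bot]
    exact ⟨Algebra.FormallySmooth.liftOfSurjective (AlgHom.id _ _) _ h1 h2,
      Algebra.FormallySmooth.comp_liftOfSurjective _ _ h1 h2⟩
  obtain ⟨l, hl⟩ :=
    (retractionKerCotangentToTensorEquivSection (R := P) (P := A) (S := ResidueField A) hsurj).symm ⟨g, hg⟩
  have hinj : Function.Injective (kerCotangentToTensor P A (ResidueField A)) :=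
    Function.LeftInverse.injective (g := l) (LinearMap.congr_fun hl)
  have hcomp : ∀ x, (KaehlerDifferential.map ℤ P A A).baseChange (ResidueField A)
      (kerCotangentToTensor ℤ A (ResidueField A) x) = kerCotangentToTensor P A (ResidueField A) x := by
    intro x
    obtain ⟨y, rfl⟩ := Ideal.toCotangent_surjective _ x
    rw [kerCotangentToTensor_toCotangent, kerCotangentToTensor_toCotangent, LinearMap.baseChange_tmul, map_D]
    rfl
  exact fun x y h => hinj (by rw [← hcomp, ← hcomp, h])

open IsLocalRing TensorProduct KaehlerDifferential in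
/-- The rank of the differentials of a formally smooth local algebra at the closed point. -/
theorem finite_and_finrank_residue {k A : Type u} [Field k] [CommRing A] [IsLocalRing A] [IsNoetherianRing A]
    [Algebra k A] (hfs : CAlgX.IsAdicFormallySmooth k A (maximalIdeal A)) [Algebra.EssFiniteType k (ResidueField A)] :
    Module.Finite (ResidueField A) (ResidueField A ⊗[A] Ω[A⁄k]) ∧
      (Module.finrank (ResidueField A) (ResidueField A ⊗[A] Ω[A⁄k]) : WithBot ℕ∞) =
        ringKrullDim A + (Cardinal.toNat (Algebra.trdeg k (ResidueField A)) : WithBot ℕ∞) := by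
  obtain ⟨-, hi⟩ := S4571.result.1 hfs
  have hreg : IsRegularLocalRing A := by
    haveI := FlatLoc6.isRegularRing_of_geometricallyRegular (RegFS6.geometricallyRegular_of_fs hfs)
    exact IsRegularLocalRing.of_isRegularRing_of_isLocalRing A
  let m := maximalIdeal A
  have hsurj : Function.Surjective (algebraMap A (ResidueField A)) := residue_surjective
  obtain ⟨_, _, hdeg⟩ := S2469.result (K := k) (L := ResidueField A)
  let T := (ResidueField A) ⊗[A] Ω[A⁄ℤ]
  let i : (ResidueField A) ⊗[k] Ω[k⁄ℤ] →ₗ[(ResidueField A)] T :=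
    ((mapBaseChange ℤ k A).baseChange (ResidueField A)) ∘ₗ (AlgebraTensorModule.cancelBaseChange k A (ResidueField A) (ResidueField A) (Ω[k⁄ℤ])).symm.toLinearMap
  have hiinj : Function.Injective i := by
    have : Function.Injective ((mapBaseChange ℤ k A).baseChange (ResidueField A)) := hi
    exact this.comp (LinearEquiv.injective _)
  let q : T →ₗ[(ResidueField A)] (ResidueField A) ⊗[A] Ω[A⁄k] := (KaehlerDifferential.map ℤ k A A).baseChange (ResidueField A)
  have hq : Function.Surjective q := LinearMap.lTensor_surjective _ (KaehlerDifferential.map_surjective ℤ k A)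
  have hiq : ∀ z, q z = 0 ↔ ∃ w, i w = z := by
    intro z
    refine ((lTensor_exact (ResidueField A) (exact_mapBaseChange_map ℤ k A) (KaehlerDifferential.map_surjective ℤ k A)) z).trans ?_
    constructor
    · rintro ⟨w, hw⟩
      exact ⟨AlgebraTensorModule.cancelBaseChange k A (ResidueField A) (ResidueField A) (Ω[k⁄ℤ]) w, by simp [i]; exact hw⟩
    · rintro ⟨w, hw⟩
      exact ⟨(AlgebraTensorModule.cancelBaseChange k A (ResidueField A) (ResidueField A) (Ω[k⁄ℤ])).symm w, hw⟩
  let r : T →ₗ[(ResidueField A)] Ω[(ResidueField A)⁄ℤ] := mapBaseChange ℤ A (ResidueField A)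
  let p : (ResidueField A) ⊗[A] Ω[A⁄k] →ₗ[(ResidueField A)] Ω[(ResidueField A)⁄k] := mapBaseChange k A (ResidueField A)
  have hri : r ∘ₗ i = mapBaseChange ℤ k (ResidueField A) := by
    refine TensorProduct.AlgebraTensorModule.ext fun a x => ?_
    rw [LinearMap.comp_apply, LinearMap.comp_apply, mapBaseChange_tmul]
    rw [LinearEquiv.coe_coe, AlgebraTensorModule.cancelBaseChange_symm_tmul]
    rw [show ∀ (z : A ⊗[k] Ω[k⁄ℤ]), (mapBaseChange ℤ k A).baseChange (ResidueField A) (a ⊗ₜ[A] z) =
      a ⊗ₜ[A] mapBaseChange ℤ k A z from fun z => rfl]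
    show mapBaseChange ℤ A (ResidueField A) (a ⊗ₜ[A] mapBaseChange ℤ k A ((1 : A) ⊗ₜ[k] x)) = _
    rw [mapBaseChange_tmul, mapBaseChange_tmul, one_smul]
    congr 1
    refine LinearMap.congr_fun (?_ : ((KaehlerDifferential.map ℤ ℤ A (ResidueField A)).restrictScalars k).comp
      (KaehlerDifferential.map ℤ ℤ k A) = KaehlerDifferential.map ℤ ℤ k (ResidueField A)) x
    refine Derivation.liftKaehlerDifferential_unique _ _ ?_
    ext c
    simp
    rw [IsScalarTower.algebraMap_apply k A (ResidueField A)]
    rfl
  -- the kernel of `r` is the cotangent space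
  have hker : RingHom.ker (algebraMap A (ResidueField A)) = m := ker_residue
  let j : CotangentSpace A →ₗ[A] T :=
    kerCotangentToTensor ℤ A (ResidueField A) ∘ₗ Ideal.mapCotangent m _ (AlgHom.id A A) (fun x hx => hker ▸ hx)
  have hj : ∀ (x : A) (hx : x ∈ m), j (Ideal.toCotangent m ⟨x, hx⟩) = (1 : (ResidueField A)) ⊗ₜ[A] KaehlerDifferential.D ℤ A x :=
    fun x hx => rfl
  have hjr : ∀ x, r (j x) = 0 := fun x => by
    obtain ⟨⟨x, hx⟩, rfl⟩ := Ideal.toCotangent_surjective _ x
    rw [hj, show r ((1 : (ResidueField A)) ⊗ₜ[A] KaehlerDifferential.D ℤ A x) = (1 : (ResidueField A)) • _ from mapBaseChange_tmul ℤ A (ResidueField A) _ _, map_D,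
      show algebraMap A (ResidueField A) x = 0 from (residue_eq_zero_iff x).2 hx, map_zero, smul_zero]
  have hjinj : Function.Injective j := by
    rw [injective_iff_map_eq_zero]
    intro x hx
    obtain ⟨⟨y, hy⟩, rfl⟩ := Ideal.toCotangent_surjective _ x
    have := injective_kerCotangentToTensor_int k A
      (a₁ := Ideal.mapCotangent m (RingHom.ker (algebraMap A (ResidueField A))) (AlgHom.id A A) (fun x hx => hker ▸ hx)
        (Ideal.toCotangent m ⟨y, hy⟩)) (a₂ := 0) (by rw [map_zero]; exact hx)
    erw [Ideal.mapCotangent_toCotangent, Ideal.toCotangent_eq_zero] at this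
    rw [Ideal.toCotangent_eq_zero]
    have h2 : y ∈ RingHom.ker (algebraMap A (ResidueField A)) ^ 2 := this
    show y ∈ m ^ 2
    rwa [hker] at h2
  let jK : CotangentSpace A →ₗ[(ResidueField A)] LinearMap.ker r :=
    LinearMap.codRestrict _ (j.extendScalarsOfSurjective hsurj) hjr
  have hjK : Function.Bijective jK := by
    refine ⟨fun x y h => hjinj (congrArg Subtype.val h), fun ⟨z, hz⟩ => ?_⟩
    obtain ⟨w, hw⟩ := (exact_kerCotangentToTensor_mapBaseChange ℤ A (ResidueField A) hsurj z).1 hz
    obtain ⟨⟨y, hy⟩, rfl⟩ := Ideal.toCotangent_surjective _ w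
    exact ⟨Ideal.toCotangent m ⟨y, hker ▸ hy⟩, Subtype.ext ((hj y (hker ▸ hy)).trans hw)⟩
  let e := LinearEquiv.ofBijective jK hjK
  have : Module.Finite (ResidueField A) (LinearMap.ker r) := Module.Finite.equiv e
  -- comparison with the kernel of `p`
  have hpq : ∀ z, p (q z) = KaehlerDifferential.map ℤ k (ResidueField A) (ResidueField A) (r z) := by
    intro z
    refine LinearMap.congr_fun (?_ : p ∘ₗ q = (KaehlerDifferential.map ℤ k (ResidueField A) (ResidueField A)) ∘ₗ r) z
    refine TensorProduct.AlgebraTensorModule.ext fun a x => ?_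
    simp only [LinearMap.comp_apply, p, q, r, LinearMap.baseChange_tmul, mapBaseChange_tmul, map_smul]
    congr 1
    refine LinearMap.congr_fun (?_ : (KaehlerDifferential.map k k A (ResidueField A)).comp (KaehlerDifferential.map ℤ k A A) =
      ((KaehlerDifferential.map ℤ k (ResidueField A) (ResidueField A)).restrictScalars A).comp (KaehlerDifferential.map ℤ ℤ A (ResidueField A))) x
    refine Derivation.liftKaehlerDifferential_unique _ _ ?_
    ext c
    simp
  let φ : LinearMap.ker r →ₗ[(ResidueField A)] LinearMap.ker p :=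
    LinearMap.codRestrict _ (q ∘ₗ (LinearMap.ker r).subtype) fun z => by
      rw [LinearMap.mem_ker]
      show p (q z.1) = 0
      rw [hpq, z.2, map_zero]
  have hφ : Function.Surjective φ := by
    rintro ⟨z, hz⟩
    obtain ⟨t, rfl⟩ := hq z
    obtain ⟨w, hw⟩ := (exact_mapBaseChange_map ℤ k (ResidueField A) (r t)).1 ((hpq t).symm.trans hz)
    have hq0 : q (i w) = 0 := (hiq _).2 ⟨w, rfl⟩
    refine ⟨⟨t - i w, ?_⟩, Subtype.ext ?_⟩
    · rw [LinearMap.mem_ker, map_sub, ← LinearMap.comp_apply r i, hri, hw, sub_self]
    · show q (t - i w) = q t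
      rw [map_sub, hq0, sub_zero]
  let ψ : EGA41.imperfection ℤ k (ResidueField A) →ₗ[(ResidueField A)] LinearMap.ker φ :=
    LinearMap.codRestrict _ (LinearMap.codRestrict _ (i ∘ₗ (EGA41.imperfection ℤ k (ResidueField A)).subtype) fun z => by
      rw [LinearMap.mem_ker, ← LinearMap.comp_apply r, ← LinearMap.comp_assoc, hri]
      exact z.2) fun z => Subtype.ext ((hiq _).2 ⟨z.1, rfl⟩)
  have hψ : Function.Bijective ψ := by
    refine ⟨fun x y h => Subtype.ext (hiinj (congrArg (fun z => z.1.1) h)), fun ⟨⟨z, hz⟩, hz'⟩ => ?_⟩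
    obtain ⟨w, rfl⟩ := (hiq z).1 (congrArg Subtype.val hz')
    refine ⟨⟨w, ?_⟩, rfl⟩
    show mapBaseChange ℤ k (ResidueField A) w = 0
    rw [← hri]
    exact hz
  have h1 : Module.finrank (ResidueField A) (LinearMap.ker r) =
      Module.finrank (ResidueField A) (LinearMap.ker p) + Module.finrank (ResidueField A) (EGA41.imperfection ℤ k (ResidueField A)) := by
    have := Submodule.finrank_quotient_add_finrank (R := ResidueField A) (M := LinearMap.ker r) (LinearMap.ker φ)
    rw [LinearEquiv.finrank_eq (LinearMap.quotKerEquivOfSurjective (R := ResidueField A) (M := LinearMap.ker r) (M₂ := LinearMap.ker p) φ hφ)] at this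
    rw [← this, (LinearEquiv.ofBijective ψ hψ).finrank_eq]
  have : Module.Finite (ResidueField A) (LinearMap.ker p) := Module.Finite.of_surjective φ hφ
  have hp : Function.Surjective p := mapBaseChange_surjective k A (ResidueField A) hsurj
  have : Module.Finite (ResidueField A) ((ResidueField A) ⊗[A] Ω[A⁄k]) := by
    refine ⟨Submodule.fg_of_fg_map_of_fg_inf_ker p ?_ ?_⟩
    · rw [Submodule.map_top, LinearMap.range_eq_top.2 hp]; exact Module.Finite.fg_top
    · rw [top_inf_eq, Submodule.fg_iff_finiteDimensional]; infer_instance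
  refine ⟨inferInstance, ?_⟩
  have h2 := LinearMap.finrank_range_add_finrank_ker p
  rw [LinearMap.range_eq_top.2 hp, finrank_top] at h2
  have h3 : Module.finrank (ResidueField A) (LinearMap.ker r) = Module.finrank (ResidueField A) (CotangentSpace A) := e.finrank_eq.symm
  have h4 := (IsRegularLocalRing.iff_finrank_cotangentSpace (R := A)).1 hreg
  rw [← h4]
  norm_cast
  have hdeg' : (Module.finrank (ResidueField A) (Ω[ResidueField A⁄k]) : ℤ) -
      Module.finrank (ResidueField A) (EGA41.imperfection ℤ k (ResidueField A)) =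
      Cardinal.toNat (Algebra.trdeg k (ResidueField A)) := hdeg
  omega

open IsLocalRing TensorProduct in
/-- Let k₀ be a field and A a complete Noetherian local k₀-algebra, formally smooth over k₀ for the adic
topology, whose residue field K is a finitely generated extension of k₀. Then the 𝔪-adic completion
Ω̂_{A/k₀} of Ω_{A/k₀} is a free A-module of rank dim A + trdeg_{k₀} K. -/
theorem result {k₀ A : Type u} [Field k₀] [CommRing A] [IsLocalRing A] [IsNoetherianRing A] [Algebra k₀ A]
    [IsAdicComplete (maximalIdeal A) A] (hfs : CAlgX.IsAdicFormallySmooth k₀ A (maximalIdeal A))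
    [Algebra.EssFiniteType k₀ (ResidueField A)] :
    Module.Finite A (AdicCompletion (maximalIdeal A) (Ω[A⁄k₀])) ∧ Module.Free A (AdicCompletion (maximalIdeal A) (Ω[A⁄k₀])) ∧
      (Module.finrank A (AdicCompletion (maximalIdeal A) (Ω[A⁄k₀])) : WithBot ℕ∞) =
        ringKrullDim A + (Cardinal.toNat (Algebra.trdeg k₀ (ResidueField A)) : WithBot ℕ∞) := by
  obtain ⟨_, hrank⟩ := finite_and_finrank_residue hfs
  let M₀ := Ω[A⁄k₀]
  let m := maximalIdeal A
  let d := Module.finrank (ResidueField A) (ResidueField A ⊗[A] M₀)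
  let v := Module.finBasis (ResidueField A) (ResidueField A ⊗[A] M₀)
  have hsurj : Function.Surjective (fun x : M₀ => (1 : ResidueField A) ⊗ₜ[A] x) := by
    intro z
    induction z using TensorProduct.induction_on with
    | zero => exact ⟨0, TensorProduct.tmul_zero _ _⟩
    | tmul c x =>
      obtain ⟨a, rfl⟩ := residue_surjective c
      refine ⟨a • x, ?_⟩
      show (1 : ResidueField A) ⊗ₜ[A] (a • x) = _
      rw [TensorProduct.tmul_smul, TensorProduct.smul_tmul', Algebra.smul_def, mul_one]
      rfl
    | add z w hz hw =>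
      obtain ⟨x, rfl⟩ := hz
      obtain ⟨y, rfl⟩ := hw
      exact ⟨x + y, TensorProduct.tmul_add _ _ _⟩
  choose ω hω' using fun i => hsurj (v i)
  have hω : ∀ i, (1 : ResidueField A) ⊗ₜ[A] ω i = v i := hω'
  let f : (Fin d → A) →ₗ[A] M₀ := Fintype.linearCombination A ω
  have hgen : LinearMap.range f ⊔ m • ⊤ = ⊤ := by
    refine top_unique fun x _ => ?_
    have hx := v.sum_repr ((1 : ResidueField A) ⊗ₜ[A] x)
    choose c hc using fun i => residue_surjective (v.repr ((1 : ResidueField A) ⊗ₜ[A] x) i)
    have h0 : (1 : ResidueField A) ⊗ₜ[A] (x - f c) = 0 := by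
      rw [TensorProduct.tmul_sub, sub_eq_zero]
      refine hx.symm.trans ?_
      rw [Fintype.linearCombination_apply, TensorProduct.tmul_sum]
      refine Finset.sum_congr rfl fun i _ => ?_
      rw [TensorProduct.tmul_smul, hω, ← hc, ← algebraMap_smul (ResidueField A) (c i)]
      rfl
    have h1 : x - f c ∈ (m • ⊤ : Submodule A M₀) := by
      rw [← Submodule.Quotient.mk_eq_zero]
      apply (TensorProduct.quotTensorEquivQuotSMul M₀ m).symm.injective
      rw [LinearEquiv.map_zero, TensorProduct.quotTensorEquivQuotSMul_symm_mk]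
      exact h0
    exact Submodule.mem_sup.2 ⟨f c, ⟨c, rfl⟩, _, h1, add_sub_cancel _ _⟩
  have hgen' : ∀ n : ℕ, LinearMap.range f ⊔ m ^ n • ⊤ = ⊤ := by
    intro n
    induction n with
    | zero => simp
    | succ n ih =>
      refine top_unique ?_
      conv_lhs => rw [← ih]
      refine sup_le le_sup_left ?_
      conv_lhs => rw [← hgen]
      rw [Submodule.smul_sup, ← Submodule.mul_smul, ← pow_succ]
      exact sup_le_sup_right Submodule.smul_le_right _
  have hbij : ∀ n : ℕ, Function.Bijective (f.reduceModIdeal (m ^ n)) := by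
    intro n
    have hs : Function.Surjective (f.reduceModIdeal (m ^ n)) := by
      intro z
      obtain ⟨x, rfl⟩ := Submodule.Quotient.mk_surjective _ z
      obtain ⟨_, ⟨c, rfl⟩, y, hy, rfl⟩ := Submodule.mem_sup.1 ((hgen' n).ge (Submodule.mem_top (x := x)))
      refine ⟨Submodule.Quotient.mk c, ?_⟩
      exact ((Submodule.Quotient.eq _).2 (by simpa using (Submodule.neg_mem_iff _).2 hy))
    refine ⟨?_, hs⟩
    rcases n with _ | n
    · intro x y _
      obtain ⟨x, rfl⟩ := Submodule.Quotient.mk_surjective _ x
      obtain ⟨y, rfl⟩ := Submodule.Quotient.mk_surjective _ y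
      refine (Submodule.Quotient.eq _).2 ?_
      rw [pow_zero, Ideal.one_eq_top, Submodule.top_smul]
      trivial
    let R := A ⧸ m ^ (n + 1)
    have hle : m ^ (n + 1) ≤ m := Ideal.pow_le_self n.succ_ne_zero
    have : Nontrivial R :=
      Ideal.Quotient.nontrivial_iff.2 (ne_top_of_le_ne_top (maximalIdeal.isMaximal A).ne_top hle)
    have : IsLocalHom (algebraMap k₀ A) := inferInstance
    have hA := (S4537.result (A := k₀) (B := A) m).1 hfs
    have hfree : Module.Free R (R ⊗[A] M₀) := S4540.result (A := k₀) (B := A)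
      (by rwa [show maximalIdeal k₀ = ⊥ from IsLocalRing.isField_iff_maximalIdeal_eq.1 (Field.toIsField k₀)])
      (m ^ (n + 1)) hle ⟨n + 1, le_rfl⟩
    let g : (Fin d → R) →ₗ[R] R ⊗[A] M₀ := Fintype.linearCombination R fun i => (1 : R) ⊗ₜ[A] ω i
    have hg : Function.Surjective g := by
      intro z
      induction z using TensorProduct.induction_on with
      | zero => exact ⟨0, map_zero _⟩
      | add z w hz hw =>
        obtain ⟨x, rfl⟩ := hz
        obtain ⟨y, rfl⟩ := hw
        exact ⟨x + y, map_add _ _ _⟩
      | tmul a x =>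
        obtain ⟨a, rfl⟩ := Ideal.Quotient.mk_surjective a
        obtain ⟨_, ⟨c, rfl⟩, y, hy, rfl⟩ := Submodule.mem_sup.1 ((hgen' (n + 1)).ge (Submodule.mem_top (x := x)))
        have h0 : ∀ b : R, b ⊗ₜ[A] y = 0 := fun b => by
          induction hy using Submodule.smul_induction_on' with
          | smul t ht z _ =>
            rw [← TensorProduct.smul_tmul, Algebra.smul_def,
              show algebraMap A R t = 0 from Ideal.Quotient.eq_zero_iff_mem.2 ht, zero_mul, TensorProduct.zero_tmul]
          | add z _ w _ hz hw => rw [TensorProduct.tmul_add, hz, hw, add_zero]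
        refine ⟨fun i => Ideal.Quotient.mk _ (a * c i), ?_⟩
        rw [TensorProduct.tmul_add, h0, add_zero, Fintype.linearCombination_apply, Fintype.linearCombination_apply,
          TensorProduct.tmul_sum]
        refine Finset.sum_congr rfl fun i _ => ?_
        rw [TensorProduct.tmul_smul, TensorProduct.smul_tmul', TensorProduct.smul_tmul', smul_eq_mul, mul_one,
          Algebra.smul_def, mul_comm a, map_mul]
        rfl
    have : Module.Finite R (R ⊗[A] M₀) := Module.Finite.of_surjective g hg
    have hd : Module.finrank R (R ⊗[A] M₀) = d := by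
      let : Algebra R (ResidueField A) := (Ideal.Quotient.factor hle).toAlgebra
      have : IsScalarTower A R (ResidueField A) := IsScalarTower.of_algebraMap_eq fun _ => rfl
      rw [← Module.finrank_baseChange (R := ResidueField A) (S := R) (M' := R ⊗[A] M₀)]
      exact (TensorProduct.AlgebraTensorModule.cancelBaseChange A R (ResidueField A) (ResidueField A) M₀).finrank_eq
    let b := (Module.finBasisOfFinrankEq R (R ⊗[A] M₀) hd).equivFun
    have hinj : Function.Injective g := by
      have := OrzechProperty.injective_of_surjective_endomorphism (b.toLinearMap ∘ₗ g) (b.surjective.comp hg)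
      exact fun x y h => this (congrArg b h)
    intro x y hxy
    obtain ⟨x, rfl⟩ := Submodule.Quotient.mk_surjective _ x
    obtain ⟨y, rfl⟩ := Submodule.Quotient.mk_surjective _ y
    have hxy' := congrArg (TensorProduct.quotTensorEquivQuotSMul M₀ (m ^ (n + 1))).symm hxy
    have hgc : ∀ c : Fin d → A, g (fun i => Ideal.Quotient.mk _ (c i)) = (1 : R) ⊗ₜ[A] f c := fun c => by
      rw [Fintype.linearCombination_apply, Fintype.linearCombination_apply, TensorProduct.tmul_sum]
      refine Finset.sum_congr rfl fun i _ => ?_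
      rw [TensorProduct.tmul_smul, ← algebraMap_smul R (c i)]
      rfl
    have h2 : (1 : R) ⊗ₜ[A] f x = (1 : R) ⊗ₜ[A] f y := hxy'
    rw [← hgc, ← hgc] at h2
    refine (Submodule.Quotient.eq _).2 ?_
    rw [← Finset.univ_sum_single (x - y)]
    refine Submodule.sum_mem _ fun i _ => ?_
    rw [show (Pi.single i ((x - y) i) : Fin d → A) = ((x - y) i) • Pi.single i 1 by
      rw [← Pi.single_smul', smul_eq_mul, mul_one]]
    exact Submodule.smul_mem_smul (Ideal.Quotient.eq.1 (congrFun (hinj h2) i)) Submodule.mem_top
  have := AdicLib.isAdicComplete_of_finite m (Fin d → A)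
  let F : (Fin d → A) →ₗ[A] AdicCompletion m M₀ :=
    ((AdicCompletion.map m f).restrictScalars A).comp (AdicCompletion.of m (Fin d → A))
  have hF : Function.Bijective F := by
    refine Function.Bijective.comp (g := AdicCompletion.map m f) ⟨?_, ?_⟩ (AdicCompletion.ofLinearEquiv m _).bijective
    · intro x y h
      refine AdicCompletion.ext fun n => (hbij n).1 ?_
      rw [← AdicCompletion.map_val_apply, ← AdicCompletion.map_val_apply, h]
    · refine AdicCompletion.map_surjective_of_mkQ_comp_surjective ?_
      rw [← LinearMap.range_eq_top, LinearMap.range_comp, Submodule.map_mkQ_eq_top, sup_comm]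
      exact hgen
  let e := LinearEquiv.ofBijective F hF
  refine ⟨Module.Finite.equiv e, Module.Free.of_equiv e, ?_⟩
  rw [← e.finrank_eq, Module.finrank_fin_fun]
  exact hrank

end Groth.Agent.S2476
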