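import Groth.Statements.S5785
import Groth.Agent.S0564
import Groth.Agent.FormalFib6.Cplt
import Groth.Agent.H23.Isogeny
import Mathlib.RingTheory.AdicCompletion.AsTensorProduct
import Mathlib.RingTheory.AdicCompletion.LocalRing

set_option autoImplicit false
universe u
open EGA41

namespace Groth.Agent.S5785

/-- A ring whose local rings at maximal ideals are regular is regular. -/
theorem isRegularRing_of_maximal (R : Type u) [CommRing R] [IsNoetherianRing R]
    (h : ∀ (n : Ideal R) [n.IsMaximal], IsRegularLocalRing (Localization.AtPrime n)) : IsRegularRing R := by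
  rw [isRegularRing_iff]
  intro p hp
  obtain ⟨n, hn, hpn⟩ := Ideal.exists_le_maximal p hp.ne_top
  haveI := h n
  have hd : Disjoint (n.primeCompl : Set R) p := Set.disjoint_left.mpr fun x hx hxp => hx (hpn hxp)
  let q := p.map (algebraMap R (Localization.AtPrime n))
  haveI : q.IsPrime := IsLocalization.isPrime_of_isPrime_disjoint n.primeCompl _ p hp hd
  have hq : q.comap (algebraMap R _) = p :=
    IsLocalization.comap_map_of_isPrime_disjoint n.primeCompl _ hp hd
  haveI := Groth.Agent.S0564.result (Localization.AtPrime n) q
  let e := (IsLocalization.localizationLocalizationAtPrimeIsoLocalization n.primeCompl q).toRingEquiv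
  haveI : IsRegularLocalRing (Localization.AtPrime (q.comap (algebraMap R (Localization.AtPrime n)))) :=
    IsRegularLocalRing.of_ringEquiv e.symm
  revert this
  intro _
  have : ∀ (q' : Ideal R) [q'.IsPrime], q' = p → IsRegularLocalRing (Localization.AtPrime q') →
      IsRegularLocalRing (Localization.AtPrime p) := by rintro q' _ rfl h; exact h
  exact this _ hq inferInstance

/-- Let A be a regular ring and J an ideal of A. Then the separated completion of A for the J-adic
topology is a regular ring. -/
theorem result (A : Type u) [CommRing A] [IsRegularRing A] (J : Ideal A) :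
    IsRegularRing (AdicCompletion J A) := by
  have : IsNoetherianRing (AdicCompletion J A) :=
    Groth.Agent.FormalFib6.isNoetherianRing_adicCompletion A J
  refine isRegularRing_of_maximal _ fun M hM => ?_
  have hfg : J.FG := IsNoetherian.noetherian J
  have := AdicCompletion.isAdicComplete_self J hfg
  have hJM : J.map (algebraMap A (AdicCompletion J A)) ≤ M :=
    (IsAdicComplete.le_jacobson_bot _).trans (sInf_le ⟨bot_le, hM⟩)
  let m := M.comap (algebraMap A (AdicCompletion J A))
  have hJm : J ≤ m := Ideal.map_le_iff_le_comap.1 hJM
  have hsurj : Function.Surjective ((Ideal.Quotient.mk M).comp (algebraMap A (AdicCompletion J A))) := by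
    intro z
    obtain ⟨x, rfl⟩ := Ideal.Quotient.mk_surjective z
    obtain ⟨a, ha⟩ := Ideal.Quotient.mk_surjective (AdicCompletion.evalOneₐ J x)
    refine ⟨a, Ideal.Quotient.eq.2 (hJM ?_)⟩
    rw [← AdicCompletion.ker_evalOneₐ_eq_map J hfg, RingHom.mem_ker, map_sub, sub_eq_zero]
    exact ((AdicCompletion.evalOneₐ J).commutes a).trans ha
  have hmax : m.IsMaximal := by
    letI := Ideal.Quotient.field M
    have := RingHom.ker_isMaximal_of_surjective _ hsurj
    rwa [← RingHom.comap_ker, Ideal.mk_ker] at this
  have hmap : m.map (algebraMap A (AdicCompletion J A)) = M :=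
    (AdicCompletion.isMaximal_map_of_le J m hJm hfg).eq_of_le hM.ne_top (Ideal.map_le_iff_le_comap.2 le_rfl)
  let R := Localization.AtPrime m
  let S := Localization.AtPrime M
  let φ : R →+* S := Localization.localRingHom m M (algebraMap A (AdicCompletion J A)) rfl
  have : IsLocalHom φ := Localization.isLocalHom_localRingHom _ _ _ _
  have hflat : φ.Flat := RingHom.Flat.localRingHom
    (show (algebraMap A (AdicCompletion J A)).Flat from RingHom.flat_algebraMap_iff.2 inferInstance) M m rfl
  have hle := Groth.Agent.H23.Isogeny.ringKrullDim_le_of_flat φ hflat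
  have hMS : IsLocalRing.maximalIdeal S = (IsLocalRing.maximalIdeal R).map φ := by
    have h1 : IsLocalRing.maximalIdeal S = M.map (algebraMap (AdicCompletion J A) S) :=
      (Localization.AtPrime.map_eq_maximalIdeal).symm
    have h2 : IsLocalRing.maximalIdeal R = m.map (algebraMap A R) :=
      (Localization.AtPrime.map_eq_maximalIdeal).symm
    rw [h1, h2, Ideal.map_map,
      show φ.comp (algebraMap A R) = (algebraMap (AdicCompletion J A) S).comp (algebraMap A _) from
        RingHom.ext fun a => Localization.localRingHom_to_map m M _ rfl a,
      ← Ideal.map_map, hmap]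
  have : IsRegularLocalRing S := by
    refine IsRegularLocalRing.of_spanFinrank_maximalIdeal_le S ?_
    rw [hMS]
    refine le_trans ?_ hle
    rw [← IsRegularLocalRing.spanFinrank_maximalIdeal (R := R)]
    exact_mod_cast Ideal.spanFinrank_map_le_of_fg φ (IsNoetherian.noetherian _)
  exact this

end Groth.Agent.S5785
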