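import Groth.Statements.S4551
-- import your own Groth.Agent.* helpers here
import Mathlib

set_option autoImplicit false
universe u
open EGA41

namespace Groth.Agent.S4551

open scoped TensorProduct

open MvPowerSeries in
/-- For any field extension `L / k` the ring `L ⊗ k((T))` embeds in `L((T))`. -/
lemma exists_injective_to_fractionRing (k L : Type u) [Field k] [Field L] [Algebra k L] (r : ℕ) :
    ∃ Φ : L ⊗[k] FractionRing (MvPowerSeries (Fin r) k) →ₐ[k] FractionRing (MvPowerSeries (Fin r) L),
      Function.Injective Φ := by
  classical
  let P := MvPowerSeries (Fin r) k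
  let P' := MvPowerSeries (Fin r) L
  let F' := FractionRing P'
  let K := FractionRing P
  let μ : P →+* P' := MvPowerSeries.map (algebraMap k L)
  have hμinj : Function.Injective μ := fun a b h => by
    ext e
    have := congr(coeff e $h)
    rw [MvPowerSeries.coeff_map, MvPowerSeries.coeff_map] at this
    exact (algebraMap k L).injective this
  let ψ : P →ₐ[k] F' :=
    { (algebraMap P' F').comp μ with
      commutes' := fun c => by
        show algebraMap P' F' (μ (algebraMap k P c)) = algebraMap k F' c
        rw [show μ (algebraMap k P c) = algebraMap k P' c from ?_,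
          ← IsScalarTower.algebraMap_apply k P' F']
        ext e
        rw [MvPowerSeries.coeff_map, MvPowerSeries.algebraMap_apply, MvPowerSeries.algebraMap_apply, MvPowerSeries.coeff_C, MvPowerSeries.coeff_C]
        simp [apply_ite (algebraMap k L)] }
  have hψ : Function.Injective ψ := (IsFractionRing.injective P' F').comp hμinj
  let φ : K →ₐ[k] F' := IsFractionRing.liftAlgHom hψ
  have hφ : ∀ a : P, φ (algebraMap P K a) = algebraMap P' F' (μ a) := fun a =>
    IsFractionRing.lift_algebraMap (g := (ψ : P →+* F')) hψ a
  let Φ : L ⊗[k] K →ₐ[k] F' := Algebra.TensorProduct.lift (IsScalarTower.toAlgHom k L F') φ (fun _ _ => Commute.all _ _)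
  refine ⟨Φ, (injective_iff_map_eq_zero Φ).mpr fun z hz => ?_⟩
  let b := Module.Basis.ofVectorSpace k L
  obtain ⟨c, rfl⟩ : ∃ c, (TensorProduct.equivFinsuppOfBasisLeft b).symm c = z :=
    ⟨_, LinearEquiv.symm_apply_apply _ _⟩
  obtain ⟨d, hd⟩ := IsLocalization.exist_integer_multiples (nonZeroDivisors P) c.support (fun i => c i)
  choose! a ha using hd
  rw [TensorProduct.equivFinsuppOfBasisLeft_symm_apply, Finsupp.sum, map_sum] at hz
  have h1 : algebraMap P' F' (∑ i ∈ c.support, algebraMap L P' (b i) * μ (a i)) = 0 := by
    calc _ = φ (algebraMap P K d) * ∑ i ∈ c.support, Φ (b i ⊗ₜ c i) := by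
          rw [Finset.mul_sum, map_sum]
          refine Finset.sum_congr rfl fun i hi => ?_
          rw [map_mul, ← hφ, ha i hi, Algebra.smul_def, map_mul, Algebra.TensorProduct.lift_tmul,
            IsScalarTower.coe_toAlgHom', IsScalarTower.algebraMap_apply L P' F']
          ring
      _ = 0 := by rw [hz, mul_zero]
  have h2 := (map_eq_zero_iff _ (IsFractionRing.injective P' F')).mp h1
  have h3 : ∀ i ∈ c.support, a i = 0 := by
    intro i hi
    ext e
    have h4 := congr(coeff e $h2)
    simp only [map_sum, map_zero, MvPowerSeries.algebraMap_apply, Algebra.algebraMap_self,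
      RingHom.id_apply, coeff_C_mul, μ, MvPowerSeries.coeff_map] at h4
    rw [map_zero]
    refine linearIndependent_iff'.mp b.linearIndependent c.support (fun i => coeff e (a i)) ?_ i hi
    rw [← h4]
    exact Finset.sum_congr rfl fun j _ => by
      rw [Algebra.smul_def, mul_comm]
      show _ = coeff e (algebraMap L (MvPowerSeries (Fin r) L) (b j) * _)
      rw [MvPowerSeries.algebraMap_apply, Algebra.algebraMap_self_apply, MvPowerSeries.coeff_C_mul, MvPowerSeries.coeff_map]
  rw [show c = 0 from ?_, map_zero]
  ext i
  by_contra hne
  have hi : i ∈ c.support := Finsupp.mem_support_iff.mpr hne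
  have := ha i hi
  rw [h3 i hi, map_zero, Algebra.smul_def, eq_comm, mul_eq_zero] at this
  exact this.elim (fun h => nonZeroDivisors.coe_ne_zero d ((map_eq_zero_iff _ (IsFractionRing.injective P K)).mp h)) hne

/-- For every field k (any characteristic) the field of fractions k((T_1, …, T_r)) of the power series
ring k[[T_1, …, T_r]] is a separable extension of k, i.e. it is geometrically reduced over k. -/
theorem result (k : Type u) [Field k] (r : ℕ) :
    Algebra.IsGeometricallyReduced k (FractionRing (MvPowerSeries (Fin r) k)) := by
  rw [Algebra.isGeometricallyReduced_field_iff]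
  obtain ⟨Φ, hΦ⟩ := exists_injective_to_fractionRing k (AlgebraicClosure k) r
  exact isReduced_of_injective Φ hΦ

end Groth.Agent.S4551
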