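import Groth.Statements.S5767
import Mathlib.RingTheory.KrullDimension.Regular
import Mathlib.RingTheory.Ideal.KrullsHeightTheorem
import Mathlib.RingTheory.Ideal.Height

set_option autoImplicit false
universe u
open EGA41

namespace Groth.Agent.S5767

theorem coheight_eq {A : Type u} [CommRing A] (p : PrimeSpectrum A) :
    ((Order.coheight p : ℕ∞) : WithBot ℕ∞) = ringKrullDim (A ⧸ p.asIdeal) := by
  rw [Order.coheight_eq_krullDim_Ici, ringKrullDim_quotient]
  congr 1

theorem coheight_sub_le {A : Type u} [CommRing A] (S : Set (PrimeSpectrum A)) (q : S) :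
    Order.coheight q ≤ Order.coheight q.1 :=
  Order.coheight_le_coheight_apply_of_strictMono Subtype.val (fun _ _ h => h) q

theorem dim_ne_top {A : Type u} [CommRing A] [IsNoetherianRing A] [Finite (MaximalSpectrum A)] :
    ∃ N : ℕ, ringKrullDim A ≤ (N : WithBot ℕ∞) := by
  haveI := Fintype.ofFinite (MaximalSpectrum A)
  refine ⟨Finset.univ.sup fun m : MaximalSpectrum A => m.asIdeal.height.toNat,
    (ringKrullDim_le_iff_isMaximal_height_le _).2 fun I hI => ?_⟩
  have h1 := Finset.le_sup (f := fun m : MaximalSpectrum A => m.asIdeal.height.toNat) (Finset.mem_univ ⟨I, hI⟩)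
  have h2 : I.height ≤ ((Finset.univ.sup fun m : MaximalSpectrum A => m.asIdeal.height.toNat : ℕ) : ℕ∞) := by
    rw [← ENat.natCast_toNat (Ideal.height_ne_top hI.ne_top)]
    exact Nat.cast_le.2 h1
  exact WithBot.coe_le_coe.2 h2

/-- Let A be a semi-local Noetherian ring, M a finitely generated A-module and x an element of the
Jacobson radical of A. One always has dim(M/xM) ≥ dim(M) - 1; equality dim(M/xM) = dim(M) - 1 holds
if and only if x belongs to none of the prime ideals p of Supp(M) with dim(A/p) = dim(M). Stated as: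
dim(M/xM) + 1 = dim(M) iff x avoids those primes. -/
theorem result (A : Type u) [CommRing A] [IsNoetherianRing A]
    [Finite (MaximalSpectrum A)] (M : Type u) [AddCommGroup M] [Module A M] [Module.Finite A M] (x : A)
    (hx : x ∈ Ring.jacobson A) :
    Module.supportDim A (QuotSMulTop x M) + 1 = Module.supportDim A M ↔
      ∀ p : PrimeSpectrum A, p ∈ Module.support A M →
        ringKrullDim (A ⧸ p.asIdeal) = Module.supportDim A M → x ∉ p.asIdeal := by
  have hxj : x ∈ (Module.annihilator A M).jacobson := (Module.annihilator A M).ringJacobson_le_jacobson hx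
  have hge := Module.supportDim_le_supportDim_quotSMulTop_succ_of_mem_jacobson (M := M) hxj
  obtain ⟨N, hN⟩ := dim_ne_top (A := A)
  have hDN : Module.supportDim A M ≤ (N : WithBot ℕ∞) := (Module.supportDim_le_ringKrullDim A M).trans hN
  have hsupp : ∀ q : PrimeSpectrum A, q ∈ Module.support A (QuotSMulTop x M) ↔
      q ∈ Module.support A M ∧ x ∈ q.asIdeal := fun q => by
    rw [Module.support_quotSMulTop, Set.mem_inter_iff, PrimeSpectrum.mem_zeroLocus, Set.singleton_subset_iff]; rfl
  have hcoh : ∀ (M' : Type u) [AddCommGroup M'] [Module A M'] [Module.Finite A M'] (q : PrimeSpectrum A),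
      q ∈ Module.support A M' → ringKrullDim (A ⧸ q.asIdeal) ≤ Module.supportDim A M' := by
    intro M' _ _ _ q hq
    rw [← coheight_eq, Order.coheight_eq_krullDim_Ici]
    refine Order.krullDim_le_of_strictMono (fun y : Set.Ici q => (⟨y.1, ?_⟩ : Module.support A M')) fun _ _ h => h
    rw [Module.support_eq_zeroLocus] at hq ⊢
    exact fun a ha => y.2 (hq ha)
  have hfin : ∀ q ∈ Module.support A M, ∃ k : ℕ, Module.supportDim A M = (k : WithBot ℕ∞) := by
    intro q hq
    have h0 := hcoh M q hq
    rw [← coheight_eq] at h0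
    obtain ⟨e, he⟩ := WithBot.ne_bot_iff_exists.1 (ne_bot_of_le_ne_bot WithBot.coe_ne_bot h0)
    rw [← he] at hDN ⊢
    have he' : e ≠ ⊤ := fun e' => absurd (e' ▸ WithBot.coe_le_coe.1 hDN) (by simp)
    obtain ⟨k, rfl⟩ := ENat.ne_top_iff_exists.1 he'
    exact ⟨k, rfl⟩
  constructor
  · intro heq p hp hpD hxp
    have h1 := hcoh (QuotSMulTop x M) p ((hsupp p).2 ⟨hp, hxp⟩)
    rw [hpD] at h1
    have h2 : Module.supportDim A M + 1 ≤ Module.supportDim A M := le_trans (add_le_add h1 le_rfl) heq.le
    obtain ⟨k, hk⟩ := hfin p hp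
    rw [hk] at h2
    have : k + 1 ≤ k := by exact_mod_cast h2
    omega
  · intro h
    refine le_antisymm ?_ hge
    rcases isEmpty_or_nonempty (Module.support A (QuotSMulTop x M)) with he | hne
    · rw [Module.supportDim, Order.krullDim_eq_bot, WithBot.bot_add]
      exact bot_le
    rw [Module.supportDim, Order.krullDim_eq_iSup_coheight_of_nonempty]
    obtain ⟨q₁⟩ := hne
    obtain ⟨k, hk⟩ := hfin q₁.1 ((hsupp _).1 q₁.2).1
    rw [hk]
    have hb : ∀ q : Module.support A (QuotSMulTop x M), Order.coheight q + 1 ≤ (k : ℕ∞) := fun q => by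
      obtain ⟨hqM, hxq⟩ := (hsupp _).1 q.2
      have h1 : ringKrullDim (A ⧸ q.1.asIdeal) < (k : WithBot ℕ∞) := by
        rw [← hk]
        exact lt_of_le_of_ne (hcoh M q.1 hqM) fun e => h q.1 hqM e hxq
      rw [← coheight_eq] at h1
      exact ENat.add_one_le_iff (ne_top_of_lt (lt_of_le_of_lt (coheight_sub_le _ q) (WithBot.coe_lt_coe.1 h1))) |>.2
        (lt_of_le_of_lt (coheight_sub_le _ q) (WithBot.coe_lt_coe.1 h1))
    haveI : Nonempty (Module.support A (QuotSMulTop x M)) := ⟨q₁⟩
    have h3 : (⨆ q : Module.support A (QuotSMulTop x M), Order.coheight q) + 1 ≤ (k : ℕ∞) := by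
      rw [ENat.iSup_add]; exact iSup_le hb
    exact WithBot.coe_le_coe.2 h3

end Groth.Agent.S5767
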