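import Groth.Statements.S1216
import Groth.Agent.H4RG.Content
-- import your own Groth.Agent.* helpers here

set_option autoImplicit false
universe u
open FlatMor TensorProduct IsLocalRing Groth.Agent.H4RG

namespace Groth.Agent.S1216

/-- Let A → B be a local homomorphism of local rings which is essentially of finite type, with A a
valuation ring, and N a finite B-module flat over A. Then every element x of N has a content ideal,
that is a smallest ideal I of A with x ∈ IN, and this ideal is principal. -/
theorem result {A B : Type u} [CommRing A] [IsDomain A] [ValuationRing A] [CommRing B] [IsLocalRing B] [Algebra A B]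
    [IsLocalHom (algebraMap A B)] [Algebra.EssFiniteType A B]
    (N : Type u) [AddCommGroup N] [Module B N] [Module A N] [IsScalarTower A B N] [Module.Finite B N] [Module.Flat A N] (x : N) :
    ∃ I : Ideal A, I.IsPrincipal ∧ x ∈ I • (⊤ : Submodule A N) ∧ ∀ J : Ideal A, x ∈ J • (⊤ : Submodule A N) → I ≤ J := by
  classical
  -- a finite type model of the algebra and of the module
  let T := Algebra.EssFiniteType.subalgebra A B
  let M := Algebra.EssFiniteType.submonoid A B
  letI : Module T N := Module.compHom N (algebraMap T B)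
  haveI : IsScalarTower T B N := IsScalarTower.of_algebraMap_smul fun _ _ => rfl
  haveI : IsScalarTower A T N := IsScalarTower.of_algebraMap_smul fun a n => by
    show algebraMap T B (algebraMap A T a) • n = a • n
    rw [← IsScalarTower.algebraMap_apply, algebraMap_smul]
  obtain ⟨c, g, hg⟩ := Module.Finite.exists_fin (R := B) (M := N)
  let N0 : Submodule T N := Submodule.span T (Set.range g)
  haveI : Module.Finite T N0 := Module.Finite.span_of_finite T (Set.finite_range g)
  let Pb : Ideal T := (maximalIdeal B).comap (algebraMap T B)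
  have hu : ∀ t : Pb.primeCompl, IsUnit (algebraMap T B t) := fun t => by
    by_contra h
    exact t.2 ((IsLocalRing.mem_maximalIdeal _).2 h)
  have hMP : ∀ t : M, (t : T) ∈ Pb.primeCompl := fun t h =>
    (IsLocalRing.mem_maximalIdeal _).1 h (IsLocalization.map_units B t)
  haveI : IsLocalizedModule Pb.primeCompl N0.subtype := by
    refine ⟨fun t => ?_, fun n => ?_, fun {a b} h => ⟨1, by rw [Submodule.injective_subtype N0 h]⟩⟩
    · refine (Module.End.isUnit_iff _).2 ⟨fun a b hab => ?_, fun n => ?_⟩
      · exact (hu t).smul_left_cancel.1 hab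
      · refine ⟨(↑(hu t).unit⁻¹ : B) • n, ?_⟩
        show algebraMap T B t • ((↑(hu t).unit⁻¹ : B) • n) = n
        rw [smul_smul, (hu t).mul_val_inv, one_smul]
    · have hn : n ∈ Submodule.span B (Set.range g) := hg ▸ Submodule.mem_top
      suffices ∃ y : N0, ∃ t : Pb.primeCompl, t • n = N0.subtype y from
        let ⟨y, t, h⟩ := this
        ⟨⟨y, t⟩, h⟩
      induction hn using Submodule.span_induction with
      | mem v hv => exact ⟨⟨v, Submodule.subset_span hv⟩, 1, one_smul _ _⟩
      | zero => exact ⟨0, 1, by simp⟩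
      | add v w _ _ hv hw =>
        obtain ⟨y, t, h⟩ := hv
        obtain ⟨y', t', h'⟩ := hw
        refine ⟨(t' : T) • y + (t : T) • y', t * t', ?_⟩
        simp only [Submonoid.smul_def, Submonoid.coe_mul, map_add, map_smul] at h h' ⊢
        rw [← h, ← h', smul_add, smul_smul, smul_smul, mul_comm (t' : T) (t : T)]
      | smul r v _ hv =>
        obtain ⟨y, t, h⟩ := hv
        obtain ⟨⟨r0, s⟩, hr⟩ := IsLocalization.surj M r
        refine ⟨r0 • y, ⟨s, hMP s⟩ * t, ?_⟩
        simp only [Submonoid.smul_def, Submonoid.coe_mul, map_smul] at h ⊢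
        rw [← h, ← IsScalarTower.algebraMap_smul B ((s : T) * t), ← IsScalarTower.algebraMap_smul B r0,
          ← IsScalarTower.algebraMap_smul B (t : T), smul_smul, smul_smul, map_mul, ← hr]
        congr 1
        ring
  letI : Module A N0 := Module.compHom N0 (algebraMap A T)
  haveI : IsScalarTower A T N0 := IsScalarTower.of_algebraMap_smul fun _ _ => rfl
  let e : LocalizedModule Pb.primeCompl N0 ≃ₗ[A] N :=
    let e0 := IsLocalizedModule.iso Pb.primeCompl N0.subtype
    { e0 with
      map_smul' := fun a z => by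
        show e0 (a • z) = a • e0 z
        rw [← algebraMap_smul T a z, map_smul]
        show algebraMap T B (algebraMap A T a) • e0 z = a • e0 z
        rw [← IsScalarTower.algebraMap_apply, algebraMap_smul] }
  haveI : Module.Flat A (LocalizedModule Pb.primeCompl N0) := Module.Flat.of_linearEquiv e
  have hPb : Pb.comap (algebraMap A T) = maximalIdeal A := by
    rw [Ideal.comap_comap, ← IsScalarTower.algebraMap_eq]
    exact ((IsLocalRing.local_hom_TFAE (algebraMap A B)).out 0 4).mp ‹_›
  obtain ⟨n, φ, hφ⟩ := Algebra.FiniteType.iff_quotient_mvPolynomial''.1 (inferInstance : Algebra.FiniteType A T)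
  letI : Algebra (MvPolynomial (Fin n) A) T := φ.toRingHom.toAlgebra
  haveI : IsScalarTower A (MvPolynomial (Fin n) A) T := IsScalarTower.of_algebraMap_eq fun r => (φ.commutes r).symm
  haveI : Module.Finite (MvPolynomial (Fin n) A) T := Module.Finite.of_surjective (Algebra.linearMap _ T) hφ
  obtain ⟨a, ha⟩ := content_step (contentAt n) Pb hPb N0 inferInstance (e.symm x)
  have hiff : ∀ b : A, (∃ y : N, b • y = x) ↔ b ∣ a := fun b => by
    refine ⟨fun ⟨y, hy⟩ => (ha b).1 ⟨e.symm y, by rw [← hy, map_smul]⟩, fun hb => ?_⟩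
    obtain ⟨y, hy⟩ := (ha b).2 hb
    exact ⟨e y, by rw [← map_smul, hy, e.apply_symm_apply]⟩
  refine ⟨Ideal.span {a}, ⟨⟨a, rfl⟩⟩, ?_, fun J hJ => ?_⟩
  · obtain ⟨y, hy⟩ := (hiff a).2 dvd_rfl
    exact hy ▸ Submodule.smul_mem_smul (Ideal.mem_span_singleton_self a) Submodule.mem_top
  · have key : ∀ z ∈ J • (⊤ : Submodule A N), ∃ j ∈ J, ∃ y : N, j • y = z := by
      intro z hz
      refine Submodule.smul_induction_on hz (fun r hr v _ => ⟨r, hr, v, rfl⟩) ?_
      intro v w hv hw
      obtain ⟨j, hj, y, rfl⟩ := hv
      obtain ⟨j', hj', y', rfl⟩ := hw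
      rcases ValuationRing.dvd_total j j' with ⟨k, rfl⟩ | ⟨k, rfl⟩
      · exact ⟨j, hj, y + k • y', by rw [smul_add, smul_smul]⟩
      · exact ⟨j', hj', k • y + y', by rw [smul_add, smul_smul]⟩
    obtain ⟨j, hj, hy⟩ := key x hJ
    exact (Ideal.span_singleton_le_iff_mem _).2 (J.mem_of_dvd ((hiff j).1 hy) hj)

end Groth.Agent.S1216
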