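import Groth.Statements.S9005
import Groth.Agent.H4RG.UnivPure
-- import your own Groth.Agent.* helpers here

set_option autoImplicit false
set_option backward.isDefEq.respectTransparency.types false
set_option linter.style.haveILetI false
universe u
open FlatMor

open scoped TensorProduct
attribute [local instance] Algebra.TensorProduct.rightAlgebra
namespace Groth.Agent.S9005

/-- For an affine finite type morphism Spec B → Spec A: a finite B-module which is projective as an
A-module is universally pure over Spec A. (The published statement allows any base scheme S and asks
the direct image to be locally projective; over an affine base a projective module gives such a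
direct image, so this row is that case.) -/
theorem result {A B : Type u} [CommRing A] [CommRing B] [Algebra A B] [Algebra.FiniteType A B] (N : Type u) [AddCommGroup N] [Module B N] [Module A N] [IsScalarTower A B N] [Module.Finite B N] [Module.Projective A N] : FlatCA.IsUnivPure A B N := by
  intro p hp A' B' N' _ _ _ _ _ _ _ _ _ _ _ _ _ _ f t' t _ _ P _ ⟨hpush, hbc, hle, _, _, hass, hno⟩
  haveI := hpush
  haveI : Algebra.IsPushout A A' B B' := Algebra.IsPushout.symm inferInstance
  let e : A' ⊗[A] N ≃ₗ[A'] N' :=
    (Algebra.IsPushout.cancelBaseChange A A' B B' N).symm.trans (hbc.equiv.restrictScalars A')
  haveI : Module.Projective A' N' := Module.Projective.of_equiv e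
  obtain ⟨P', hP', hle', hc⟩ := H4RG.exists_specialization_of_projective N' t' t hle P hass
  exact hno P' hle' ⟨hc.symm⟩

end Groth.Agent.S9005
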