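import Groth.Statements.S1219
import Groth.Agent.S9005
import Groth.Agent.H4RG.PureProj
import Groth.Agent.H4RG.PiProj
import Groth.Agent.CAlgUI.DescentProj
-- import your own Groth.Agent.* helpers here

set_option autoImplicit false
set_option backward.isDefEq.respectTransparency.types false
set_option linter.style.haveILetI false
universe u
open FlatMor
open scoped TensorProduct
attribute [local instance] Algebra.TensorProduct.rightAlgebra

namespace Groth.Agent.S1219

/-- For a finitely presented A-algebra B and a finitely presented B-module N flat over A, projectivity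
of N over A is equivalent to purity of N, viewed on Spec B, over Spec A. -/
theorem result {A B : Type u} [CommRing A] [CommRing B] [Algebra A B] [Algebra.FinitePresentation A B]
    (N : Type u) [AddCommGroup N] [Module B N] [Module A N] [IsScalarTower A B N] [Module.FinitePresentation B N] [Module.Flat A N] :
    Module.Projective A N ↔ FlatCA.IsPure A B N := by
  classical
  refine ⟨fun hP p _ A' B' N' _ _ _ _ _ _ _ _ _ _ _ _ _ _ f t' t _ _ P _ _ himp =>
    S9005.result N p A' B' N' f t' t P himp, fun hpure => ?_⟩
  choose R hR hA het ε hproj using fun x : PrimeSpectrum A =>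
    H4RG.exists_projective_stage N x.asIdeal (hpure x.asIdeal)
  haveI : ∀ x, Module.Flat A (R x) := fun x => by haveI := het x; exact Algebra.Smooth.flat A (R x)
  let U : PrimeSpectrum A → Set (PrimeSpectrum A) := fun x => Set.range (PrimeSpectrum.comap (algebraMap A (R x)))
  have hU : ∀ x, IsOpen (U x) := fun x => by
    haveI := het x
    exact PrimeSpectrum.isOpenMap_comap_of_hasGoingDown_of_finitePresentation.isOpen_range
  have hmem : ∀ x : PrimeSpectrum A, x ∈ U x := fun x => by
    refine ⟨⟨RingHom.ker (ε x), RingHom.ker_isPrime _⟩, PrimeSpectrum.ext ?_⟩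
    ext a
    show ε x (algebraMap A (R x) a) = 0 ↔ _
    rw [AlgHom.commutes, Ideal.algebraMap_residueField_eq_zero]
  obtain ⟨s, hs⟩ := CompactSpace.elim_nhds_subcover U fun x => (hU x).mem_nhds (hmem x)
  let P := ∀ i : s, R i
  haveI : Module.Flat A P := H4RG.flat_pi_ring (fun i : s => R i)
  haveI : Module.FaithfullyFlat A P := Module.FaithfullyFlat.of_comap_surjective fun x => by
    have hx : x ∈ ⋃ y ∈ s, U y := hs ▸ Set.mem_univ x
    obtain ⟨y, hy, z, rfl⟩ := Set.mem_iUnion₂.1 hx
    exact ⟨PrimeSpectrum.comap (Pi.evalRingHom (fun i : s => R i) ⟨y, hy⟩) z, rfl⟩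
  haveI : Module.Projective P (P ⊗[A] N) := H4RG.projective_pi_tensor (fun i : s => R i) N
  exact CAlgUI.projective_descent (S := P)

end Groth.Agent.S1219
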