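import Groth.Statements.S1356
-- import your own Groth.Agent.* helpers here
import Groth.Agent.H4RG.GeomConnFibre

set_option backward.isDefEq.respectTransparency.types false

set_option autoImplicit false
universe u
open FlatMor

namespace Groth.Agent.S1356

open AlgebraicGeometry CategoryTheory Limits in
/-- Let h : Y → S be flat and of finite presentation with all fibres geometrically reduced, let s be a
point of S and T an open of the fibre over s which is geometrically connected over the residue field
of s. Then there are an affine elementary étale neighbourhood (S', s') of (S, s) and a quasi-compact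
open V of the base change of Y to S', with every fibre of V → S' geometrically connected, whose
points over s' are exactly the points of the base change over s' whose image in Y lies in T. -/
theorem result {Y S : Scheme.{u}} (h : Y ⟶ S) [Flat h] [LocallyOfFinitePresentation h] [QuasiCompact h] [QuasiSeparated h]
    [GeometricallyReduced h] (s : S) (T : (h.fiber s).Opens) (hT : GeometricallyConnected (T.ι ≫ h.fiberToSpecResidueField s)) :
    ∃ (S' : Scheme.{u}) (g : S' ⟶ S) (s' : S'), IsAffine S' ∧ Hens2.IsEtaleNbhd g s' s ∧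
      ∃ V : (pullback h g).Opens, IsCompact (V : Set ↑(pullback h g)) ∧ GeometricallyConnected (V.ι ≫ pullback.snd h g) ∧
        ∀ y' : ↑(pullback h g), pullback.snd h g y' = s' → (y' ∈ V ↔ pullback.fst h g y' ∈ (h.fiberι s) '' (T : Set ↑(h.fiber s))) := by
  classical
  obtain ⟨S₀, hS₀, hsS₀, -⟩ := exists_isAffineOpen_mem_and_subset (x := s) (U := (⊤ : S.Opens)) trivial
  haveI : IsAffine (S₀ : Scheme.{u}) := hS₀
  let p := h.fiberToSpecResidueField s
  haveI : LocallyOfFinitePresentation p := MorphismProperty.pullback_snd h (S.fromSpecResidueField s) inferInstance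
  haveI : QuasiCompact p := MorphismProperty.pullback_snd h (S.fromSpecResidueField s) inferInstance
  haveI : CompactSpace (h.fiber s) := QuasiCompact.compactSpace_of_compactSpace p
  haveI : IsLocallyNoetherian (h.fiber s) := LocallyOfFiniteType.isLocallyNoetherian p
  haveI : IsNoetherian (h.fiber s) := { }
  have hTc : IsCompact (T : Set ↑(h.fiber s)) := TopologicalSpace.NoetherianSpace.isCompact _
  obtain ⟨O', hO', hO'T⟩ := (h.fiberι s).isEmbedding.isInducing.isOpen_iff.1 T.isOpen
  have hTimage : (h.fiberι s) '' (T : Set ↑(h.fiber s)) ⊆ O' ∩ h ⁻¹' (S₀ : Set S) := by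
    rintro _ ⟨z, hz, rfl⟩
    refine ⟨hO'T.ge hz, ?_⟩
    have hfs : h (h.fiberι s z) = s := (h.range_fiberι s).le ⟨z, rfl⟩
    show h (h.fiberι s z) ∈ S₀
    rw [hfs]
    exact hsS₀
  obtain ⟨O, hOc, hTO, hOsub⟩ := Groth.Agent.H4RG.exists_compact_open_between
    (hTc.image (h.fiberι s).continuous) (hO'.inter (S₀.isOpen.preimage h.continuous)) hTimage
  have hpre : (h.fiberι s) ⁻¹' (O : Set Y) = (T : Set ↑(h.fiber s)) := Set.ext fun z =>
    ⟨fun hz => hO'T.le (hOsub hz).1, fun hz => hTO ⟨z, hz, rfl⟩⟩
  have hle : O ≤ h ⁻¹ᵁ S₀ := fun y hy => (hOsub hy).2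
  let f : (O : Scheme.{u}) ⟶ (S₀ : Scheme.{u}) := h.resLE S₀ O hle
  haveI : Flat f := IsZariskiLocalAtSource.resLE hle ‹Flat h›
  haveI : LocallyOfFinitePresentation f := IsZariskiLocalAtSource.resLE hle ‹LocallyOfFinitePresentation h›
  haveI : CompactSpace (O : Scheme.{u}) := isCompact_iff_compactSpace.mp hOc
  haveI : QuasiCompact f := inferInstance
  haveI : QuasiSeparated f := by
    show QuasiSeparated (Y.homOfLE hle ≫ h ∣_ S₀)
    infer_instance
  haveI : GeometricallyReduced f := by
    show GeometricallyReduced (Y.homOfLE hle ≫ h ∣_ S₀)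
    exact Groth.Agent.H0FBC.geometricallyReduced_etale_comp _ _
  obtain ⟨s₀, rfl⟩ : ∃ s₀ : (S₀ : Scheme.{u}), S₀.ι s₀ = s := ⟨⟨s, hsS₀⟩, rfl⟩
  haveI : GeometricallyConnected (f.fiberToSpecResidueField s₀) :=
    Groth.Agent.H4RG.geometricallyConnected_fiber_resLE h S₀ O hle s₀ T hT hpre
  obtain ⟨S', g, s', hS', hg, V, hVc, hVg, hVfib⟩ := Groth.Agent.H4RG.exists_geomConnected_spread f s₀
  haveI := hg.etale
  let g' : S' ⟶ S := g ≫ S₀.ι
  let j : pullback f g ⟶ pullback h g' := pullback.map f g h g' O.ι (𝟙 S') S₀.ι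
    (Scheme.Hom.resLE_comp_ι h hle) (by rw [Category.id_comp])
  have hj : IsPullback j (pullback.fst f g) (pullback.fst h g') O.ι := by
    refine (IsPullback.of_right (h₁₂ := pullback.snd h g') (h₂₂ := h) (v₁₃ := g') ?_ (pullback.lift_fst _ _ _)
      (IsPullback.of_hasPullback h g').flip).flip.flip
    rw [show j ≫ pullback.snd h g' = pullback.snd f g from (pullback.lift_snd _ _ _).trans (Category.comp_id _),
      ← Scheme.Hom.resLE_comp_ι h hle]
    exact Groth.Agent.H4RG.isPullback_comp_mono S₀.ι (IsPullback.of_hasPullback f g).flip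
  haveI : IsOpenImmersion j := MorphismProperty.of_isPullback hj.flip inferInstance
  refine ⟨S', g', s', hS', ⟨inferInstance, ?_, ?_⟩, j ''ᵁ V, ?_, ?_, fun y hy => ?_⟩
  · show S₀.ι (g s') = S₀.ι s₀
    rw [show g s' = s₀ from hg.base_eq]
  · exact Groth.Agent.MorLib.EEF.bijective_rfm_comp g S₀.ι s' hg.residue_bijective
      (Groth.Agent.MorLib.EEF.bijective_rfm_isOpenImmersion S₀.ι (g s'))
  · exact hVc.image j.continuous
  · have e : (V : Scheme.{u}) ≅ (j ''ᵁ V : Scheme.{u}) := (j.isoImage V)
    have he : (j.isoImage V).hom ≫ (j ''ᵁ V).ι ≫ pullback.snd h g' = V.ι ≫ pullback.snd f g := by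
      rw [Scheme.Hom.isoImage_hom_ι_assoc, show j ≫ pullback.snd h g' = pullback.snd f g from
        (pullback.lift_snd _ _ _).trans (Category.comp_id _)]
    rw [← MorphismProperty.cancel_left_of_respectsIso @GeometricallyConnected (j.isoImage V).hom, he]
    exact hVg
  · have hys : h (pullback.fst h g' y) = S₀.ι s₀ := by
      rw [← Scheme.Hom.comp_apply, pullback.condition, Scheme.Hom.comp_apply, hy]
      show S₀.ι (g s') = _
      rw [show g s' = s₀ from hg.base_eq]
    obtain ⟨z, hz⟩ : pullback.fst h g' y ∈ Set.range (h.fiberι (S₀.ι s₀)) := (h.range_fiberι _).ge hys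
    refine ⟨?_, fun hyT => ?_⟩
    · rintro ⟨x, -, rfl⟩
      refine ⟨z, hpre.le ?_, hz⟩
      show h.fiberι (S₀.ι s₀) z ∈ O
      rw [hz]
      show pullback.fst h g' (j x) ∈ O
      rw [← Scheme.Hom.comp_apply, hj.w, Scheme.Hom.comp_apply]
      exact (pullback.fst f g x).2
    · obtain ⟨z', hz', hzz⟩ := hyT
      have hyO : pullback.fst h g' y ∈ O := by
        rw [← hzz]
        exact hpre.ge hz'
      obtain ⟨x, rfl⟩ : y ∈ Set.range j := by
        rw [← hj.isoPullback_hom_fst, Scheme.Hom.comp_base, TopCat.coe_comp,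
          Function.Surjective.range_comp hj.isoPullback.hom.surjective, Scheme.Pullback.range_fst, Scheme.Opens.range_ι]
        exact hyO
      refine ⟨x, hVfib x ?_, rfl⟩
      rw [← hy]
      show pullback.snd f g x = pullback.snd h g' (j x)
      rw [← Scheme.Hom.comp_apply, show j ≫ pullback.snd h g' = pullback.snd f g from
        (pullback.lift_snd _ _ _).trans (Category.comp_id _)]

end Groth.Agent.S1356
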