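import Groth.Statements.S1254
-- import your own Groth.Agent.* helpers here
import Groth.Agent.H4RG.DevissageChain
import Groth.Agent.H4RG.ElemDev
import Groth.Agent.H4RG.PureProj

set_option backward.isDefEq.respectTransparency.types false

set_option autoImplicit false
universe u
open FlatMor

namespace Groth.Agent.S1254

open TensorProduct

/-- Let S be a finitely presented R-algebra, N a finitely presented S-module which is flat over R, and 𝔯
a prime of R such that N/S/R admits a complete dévissage over 𝔯. Then for some f ∈ R outside 𝔯 the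
localization N_f is projective over R_f, and is R_f-isomorphic to a finite product of free modules
B_i^{r_i} over smooth R_f-algebras B_i whose fibres are geometrically irreducible. -/
theorem result {R S : Type u} [CommRing R] [CommRing S] [Algebra R S] [Algebra.FinitePresentation R S]
    (N : Type u) [AddCommGroup N] [Module S N] [Module R N] [IsScalarTower R S N] [Module.FinitePresentation S N] [Module.Flat R N]
    (rr : Ideal R) [rr.IsPrime] (D : FlatCA.CompleteDevissage R S N rr) :
    ∃ f : R, f ∉ rr ∧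
      Module.Projective (Localization.Away f) (LocalizedModule (Submonoid.powers f) N) ∧
      ∃ (k : ℕ) (B : Fin k → Type u) (_ : ∀ i, CommRing (B i)) (_ : ∀ i, Algebra (Localization.Away f) (B i)) (r : Fin k → ℕ),
        (∀ i, Algebra.Smooth (Localization.Away f) (B i) ∧ FlatCA.GeomIrredFibres (Localization.Away f) (B i)) ∧
        Nonempty (LocalizedModule (Submonoid.powers f) N ≃ₗ[Localization.Away f] (∀ i, Fin (r i) → B i)) := by
  classical
  haveI htA : ∀ i, IsScalarTower R (D.A i) (D.M i) := Groth.Agent.H4RG.tower_A D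
  haveI htS : ∀ i, IsScalarTower R (D.B i) (D.M (i + 1)) := Groth.Agent.H4RG.tower_step D
  haveI := Groth.Agent.H4RG.tower_zero D
  haveI hArfp : ∀ i, i < D.n → Algebra.FinitePresentation R (D.A i) := by
    intro i
    cases i with
    | zero =>
      intro _
      haveI := D.fpSA
      exact Algebra.FinitePresentation.trans R S (D.A 0)
    | succ i =>
      intro hi
      haveI := D.fpBA' i hi
      haveI := D.smooth i (by omega)
      exact Algebra.FinitePresentation.trans R (D.B i) (D.A (i + 1))
  have hfpB : ∀ i, i < D.n → Module.FinitePresentation (D.A i) (D.M i) → Module.FinitePresentation (D.B i) (D.M i) :=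
    fun i hi h => by
      haveI := D.finiteBA i hi
      haveI := hArfp i hi
      haveI := D.smooth i hi
      haveI : Algebra.FinitePresentation (D.B i) (D.A i) :=
        Algebra.FinitePresentation.of_restrict_scalars_finitePresentation R (D.B i) (D.A i)
      haveI : Module.FinitePresentation (D.B i) (D.A i) := Module.FinitePresentation.of_finite_of_finitePresentation _ _
      haveI := h
      exact Module.FinitePresentation.trans (D.B i) (D.M i) (D.A i)
  have htoB : ∀ (f : R) (i : ℕ), i < D.n → (∀ (Z : Ideal (D.A i)) [Z.IsPrime], algebraMap R (D.A i) f ∉ Z → FlatCA.FlatAt R Z (D.M i)) →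
      ∀ (Q : Ideal (D.B i)) [Q.IsPrime], algebraMap R (D.B i) f ∉ Q → FlatCA.FlatAt R Q (D.M i) := fun f i hi h Q _ hQ => by
    haveI := D.finiteBA i hi
    haveI : Algebra.IsIntegral (D.B i) (D.A i) := Algebra.IsIntegral.of_finite (D.B i) (D.A i)
    exact (Groth.Agent.H4RG.flatAt_iff_forall_over (R := R) (T := D.B i) (C := D.A i) Q).2 fun Z _ hZ =>
      h Z fun hm => hQ (by rw [← hZ, Ideal.mem_comap, ← IsScalarTower.algebraMap_apply]; exact hm)
  have hflatS : ∀ (Q : Ideal S) [Q.IsPrime], FlatCA.FlatAt R Q N := fun Q _ =>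
    Groth.Agent.H4RG.flat_localized_of_flat (R := R) (S := S) N Q
  have hzero : Module.FinitePresentation (D.B 0) (D.M 0) ∧
      ∀ (Q : Ideal (D.B 0)) [Q.IsPrime], algebraMap R (D.B 0) 1 ∉ Q → FlatCA.FlatAt R Q (D.M 0) := by
    haveI : Module.FinitePresentation S (D.M 0) := Module.FinitePresentation.of_equiv D.isoN
    haveI : Module.Finite S (D.A 0) := Module.Finite.of_surjective (Algebra.linearMap S (D.A 0)) D.surjSA
    haveI : Algebra.IsIntegral S (D.A 0) := Algebra.IsIntegral.of_finite S (D.A 0)
    refine ⟨hfpB 0 D.pos (Groth.Agent.H4RG.fp_of_surjective_algebraMap (C := S) D.surjSA), htoB 1 0 D.pos fun Z _ _ => ?_⟩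
    exact (Groth.Agent.H4RG.flatAt_iff_forall_over (R := R) (T := S) (C := D.A 0) (Z.comap (algebraMap S (D.A 0)))).1
      ((Groth.Agent.H4RG.flatAt_congr_equiv D.isoN (Z.comap (algebraMap S (D.A 0)))).1 (hflatS _)) Z rfl
  have hstep : ∀ (f : R) (i : ℕ), i < D.n → f ∉ rr → Module.FinitePresentation (D.B i) (D.M i) →
      (∀ (Q : Ideal (D.B i)) [Q.IsPrime], algebraMap R (D.B i) f ∉ Q → FlatCA.FlatAt R Q (D.M i)) →
      ∃ g : R, g ∉ rr ∧ Groth.Agent.H4RG.Kills R (Submonoid.powers (algebraMap R (D.B i) (f * g))) (D.α i) ∧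
        (i + 1 < D.n → Module.FinitePresentation (D.B (i + 1)) (D.M (i + 1)) ∧
          ∀ (Q : Ideal (D.B (i + 1))) [Q.IsPrime], algebraMap R (D.B (i + 1)) (f * g) ∉ Q →
            FlatCA.FlatAt R Q (D.M (i + 1))) := fun f i hi hf hfp hflat => by
    haveI := hfp
    haveI := D.smooth i hi
    haveI : Module.Flat R (D.B i) := Algebra.Smooth.flat R (D.B i)
    haveI := D.hp i
    obtain ⟨Q0, hQ0, hQ0r⟩ := Groth.Agent.H4RG.exists_prime_over (D.geomIrred i hi) rr
    obtain ⟨-, hP⟩ := Groth.Agent.H4RG.comap_generic D i Q0 hQ0r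
    have hb := Groth.Agent.H4RG.bijective_map_of_flatAt rr _ rfl
      (hflat (rr.map (algebraMap R (D.B i))) fun hm => hf (hP.le hm)) (D.α i) (D.fibreIso i hi)
    obtain ⟨g, hg, hk⟩ := Groth.Agent.H4RG.exists_kills_away
      (Groth.Agent.H4RG.geomIntegralFibres_of_smooth (D.geomIrred i hi)) rr _ hP (D.α i) hb
    have hk' := hk.mul f
    rw [mul_comm g f] at hk'
    refine ⟨g, hg, hk', fun hi' => ?_⟩
    haveI : Module.Finite (D.B i) (D.A (i + 1)) :=
      Module.Finite.of_surjective (Algebra.linearMap (D.B i) (D.A (i + 1))) (D.surjBA' i hi')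
    haveI : Algebra.IsIntegral (D.B i) (D.A (i + 1)) := Algebra.IsIntegral.of_finite (D.B i) (D.A (i + 1))
    haveI : Module.FinitePresentation (D.B i) (D.M (i + 1)) :=
      Module.finitePresentation_of_surjective (Groth.Agent.H4RG.next D i hi')
        (Groth.Agent.H4RG.next_surjective D i hi') (by
          rw [(Groth.Agent.H4RG.next_exact D i hi').linearMap_ker_eq]
          exact Module.Finite.iff_fg.1 inferInstance)
    refine ⟨hfpB (i + 1) hi' (Groth.Agent.H4RG.fp_of_surjective_algebraMap (C := D.B i) (D.surjBA' i hi')),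
      htoB (f * g) (i + 1) hi' fun Z _ hZ => ?_⟩
    let Y := Z.comap (algebraMap (D.B i) (D.A (i + 1)))
    have hY : algebraMap R (D.B i) (f * g) ∉ Y := fun hm => hZ (by
      rw [IsScalarTower.algebraMap_apply R (D.B i) (D.A (i + 1))]; exact hm)
    exact (Groth.Agent.H4RG.flatAt_iff_forall_over (R := R) (T := D.B i) (C := D.A (i + 1)) Y).1
      ((Groth.Agent.H4RG.flatAt_congr_equiv (D.isoCoker i hi') Y).1
        (Groth.Agent.H4RG.flatAt_coker _ Y (Submonoid.powers_le.2 hY) (D.α i) hk'
          (hflat Y fun hm => hY (by rw [map_mul]; exact Y.mul_mem_right _ hm)))) Z rfl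
  have hmain : ∀ i, i < D.n → ∃ f : R, f ∉ rr ∧
      (∀ j, j ≤ i → Groth.Agent.H4RG.Kills R (Submonoid.powers (algebraMap R (D.B j) f)) (D.α j)) ∧
      (i + 1 < D.n → Module.FinitePresentation (D.B (i + 1)) (D.M (i + 1)) ∧
        ∀ (Q : Ideal (D.B (i + 1))) [Q.IsPrime], algebraMap R (D.B (i + 1)) f ∉ Q → FlatCA.FlatAt R Q (D.M (i + 1))) := by
    intro i
    induction i with
    | zero =>
      intro hi
      have h1 : (1 : R) ∉ rr := (Ideal.ne_top_iff_one rr).1 (Ideal.IsPrime.ne_top ‹_›)
      obtain ⟨g, hg, hk, hnext⟩ := hstep 1 0 hi h1 hzero.1 hzero.2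
      rw [one_mul] at hk hnext
      exact ⟨g, hg, fun j hj => by obtain rfl : j = 0 := (by omega); exact hk, hnext⟩
    | succ i ih =>
      intro hi
      obtain ⟨f, hf, hk, hnext⟩ := ih (by omega)
      obtain ⟨g, hg, hk', hnext'⟩ := hstep f (i + 1) hi hf (hnext hi).1 (hnext hi).2
      refine ⟨f * g, fun hm => ((‹rr.IsPrime›.mem_or_mem hm).elim hf hg), fun j hj => ?_, hnext'⟩
      rcases Nat.lt_or_eq_of_le hj with hlt | rfl
      · exact (hk j (by omega)).mul g
      · exact hk'
  obtain ⟨f, hf, hk, -⟩ := hmain (D.n - 1) (Nat.sub_one_lt (Nat.pos_iff_ne_zero.1 D.pos))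
  have hn : D.n - 1 + 1 = D.n := Nat.succ_pred_eq_of_pos D.pos
  let W := Submonoid.powers f
  let Rf := Localization.Away f
  let bR : ∀ i, D.M i →ₗ[R] D.M (i + 1) := fun i =>
    if hi : i + 1 < D.n then (Groth.Agent.H4RG.next D i hi).restrictScalars R else 0
  have hinjR : ∀ i, i ≤ D.n - 1 → Function.Injective (LocalizedModule.map W ((D.α i).restrictScalars R)) := fun i hi =>
    (Groth.Agent.H4RG.injective_map_iff (S := R) W ((D.α i).restrictScalars R)).2 fun m hm => by
      obtain ⟨_, ⟨k, rfl⟩, hu⟩ := (Groth.Agent.H4RG.injective_map_iff (Submonoid.powers (algebraMap R (D.B i) f)) (D.α i)).1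
        (hk i hi).injective_map m hm
      refine ⟨f ^ k, ⟨k, rfl⟩, ?_⟩
      rw [← algebraMap_smul (D.B i) (f ^ k) m, map_pow]
      exact hu
  obtain ⟨hproj, ⟨e⟩⟩ := Groth.Agent.H4RG.projective_chain (R := Rf) (D.n - 1)
    (fun i => LocalizedModule W (Fin (D.r i) → D.B i)) (fun i => LocalizedModule W (D.M i))
    (fun i => LocalizedModule.map W ((D.α i).restrictScalars R)) (fun i => LocalizedModule.map W (bR i))
    (fun i hi => by
      haveI := D.smooth i (by omega)
      haveI := Groth.Agent.H4RG.projective_of_smooth (D.geomIrred i (by omega))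
      haveI := Groth.Agent.H4RG.projective_fin R (D.B i) (D.r i)
      infer_instance)
    hinjR
    (fun i hi => by
      refine LocalizedModule.map_exact W ((D.α i).restrictScalars R) (bR i) ?_
      simp only [bR, dif_pos (show i + 1 < D.n by omega)]
      exact Groth.Agent.H4RG.next_exact D i (by omega))
    (fun i hi => by
      refine IsLocalizedModule.map_surjective W (LocalizedModule.mkLinearMap W (D.M i))
        (LocalizedModule.mkLinearMap W (D.M (i + 1))) (bR i) ?_
      simp only [bR, dif_pos (show i + 1 < D.n by omega)]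
      exact Groth.Agent.H4RG.next_surjective D i (by omega))
    (IsLocalizedModule.map_surjective W (LocalizedModule.mkLinearMap W _) (LocalizedModule.mkLinearMap W _)
      ((D.α (D.n - 1)).restrictScalars R) D.cokerLast)
  haveI := IsLocalizedModule.of_linearEquiv_right W (LocalizedModule.mkLinearMap W (D.M 0)) (Groth.Agent.H4RG.isoR D)
  let eN : LocalizedModule W N ≃ₗ[Rf] LocalizedModule W (D.M 0) :=
    (IsLocalizedModule.linearEquiv W (LocalizedModule.mkLinearMap W N)
      ((LocalizedModule.mkLinearMap W (D.M 0)) ∘ₗ (Groth.Agent.H4RG.isoR D).toLinearMap)).extendScalarsOfIsLocalization W Rf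
  let eB : ∀ i : Fin D.n, LocalizedModule W (Fin (D.r i) → D.B i) ≃ₗ[Rf] (Fin (D.r i) → Rf ⊗[R] D.B i) := fun i =>
    (IsLocalizedModule.isBaseChange W Rf (LocalizedModule.mkLinearMap W (Fin (D.r i) → D.B i))).equiv.symm.trans
      (TensorProduct.piRight R Rf Rf (fun _ : Fin (D.r i) => D.B i))
  refine ⟨f, hf, ?_, D.n, fun i => Rf ⊗[R] D.B i, fun i => inferInstance, fun i => inferInstance, fun i => D.r i,
    fun i => ?_, ⟨((eN.trans e).trans (LinearEquiv.piCongrLeft Rf
      (fun i : Fin D.n => LocalizedModule W (Fin (D.r i) → D.B i)) (finCongr hn))).trans (LinearEquiv.piCongrRight eB)⟩⟩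
  · haveI := hproj
    exact Module.Projective.of_equiv eN.symm
  · haveI := D.smooth i i.2
    exact ⟨inferInstance, Groth.Agent.H4RG.geomIrredFibres_baseChange (D.geomIrred i i.2) Rf⟩

end Groth.Agent.S1254
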