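import Groth.Statements.S1217
import Groth.Agent.H4RG.ImpurityBC
import Groth.Agent.H4RG.SpreadGen
-- import your own Groth.Agent.* helpers here

set_option autoImplicit false
set_option backward.isDefEq.respectTransparency.types false
set_option linter.style.haveILetI false
universe u
open FlatMor
open scoped TensorProduct
attribute [local instance] Algebra.TensorProduct.rightAlgebra

namespace Groth.Agent.S1217

/-- Ring form, X = Spec B affine: let B be a finite type A-algebra, N a finite B-module, p a prime of A,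
and A' an A-algebra with a prime p' over p such that the local ring of A' at p' is flat over A. Let
B', N' be the base changes of B, N to A'. If N' is pure along the fibre over p' then N is pure along
the fibre over p, and likewise for universal purity. -/
theorem result {A B : Type u} [CommRing A] [CommRing B] [Algebra A B] [Algebra.FiniteType A B]
    (N : Type u) [AddCommGroup N] [Module B N] [Module.Finite B N] (p : Ideal A) [p.IsPrime]
    (A' B' N' : Type u) [CommRing A'] [CommRing B'] [Algebra A A'] [Algebra B B'] [Algebra A' B'] [Algebra A B']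
    [IsScalarTower A B B'] [IsScalarTower A A' B'] [Algebra.IsPushout A B A' B']
    [AddCommGroup N'] [Module B' N'] [Module B N'] [IsScalarTower B B' N'] (f : N →ₗ[B] N') (hf : IsBaseChange B' f)
    (p' : Ideal A') [p'.IsPrime] [p'.LiesOver p] [Module.Flat A (Localization.AtPrime p')] :
    (FlatCA.IsPureAlong A' B' N' p' → FlatCA.IsPureAlong A B N p) ∧
    (FlatCA.IsUnivPureAlong A' B' N' p' → FlatCA.IsUnivPureAlong A B N p) := by
  refine ⟨fun hpure => ?_, fun hpure => ?_⟩
  · intro A1 B1 N1 _ _ _ _ _ _ _ _ _ _ _ _ _ _ f1 t' t _ _ P _ ⟨het, ho, hbij⟩ himp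
    haveI := het
    let L := Localization.AtPrime p'
    let C := L ⊗[A] A1
    let A2 := A' ⊗[A] A1
    haveI : Module.Flat A1 C := H4RG.flat_tensor_right
    let ρ := Ideal.ResidueField.mapₐ p t (Algebra.ofId A A1) ho.over
    let φ1 : A1 →ₐ[A] p.ResidueField :=
      (AlgEquiv.ofBijective ρ hbij).symm.toAlgHom.comp (IsScalarTower.toAlgHom A A1 t.ResidueField)
    let κ' : p.ResidueField →ₐ[A] p'.ResidueField :=
      Ideal.ResidueField.mapₐ p p' (Algebra.ofId A A') ((p'.over_def p))
    let θ : L →ₐ[A] p'.ResidueField := (IsScalarTower.toAlgHom A L p'.ResidueField)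
    let ψ : C →ₐ[A] p'.ResidueField := Algebra.TensorProduct.lift θ (κ'.comp φ1) fun _ _ => .all _ _
    let T := RingHom.ker ψ
    haveI : T.IsPrime := RingHom.ker_isPrime _
    have hφ : ∀ a, φ1 a = 0 ↔ a ∈ t := fun a => by
      show (AlgEquiv.ofBijective ρ hbij).symm (algebraMap A1 t.ResidueField a) = 0 ↔ _
      rw [map_eq_zero_iff _ (AlgEquiv.ofBijective ρ hbij).symm.injective, Ideal.algebraMap_residueField_eq_zero]
    have hT : T.comap (algebraMap A1 C) = t := by
      ext a
      show ψ ((1 : L) ⊗ₜ[A] a) = 0 ↔ _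
      rw [Algebra.TensorProduct.lift_tmul, map_one, one_mul, AlgHom.comp_apply,
        show κ' (φ1 a) = 0 ↔ φ1 a = 0 from map_eq_zero_iff _ κ'.toRingHom.injective, hφ]
    haveI : T.LiesOver t := ⟨hT.symm⟩
    obtain ⟨T3, hle, _, hT3⟩ := Ideal.exists_ideal_le_liesOver_of_le (p := t') (q := t) T himp.2.2.1
    let ι : A2 →ₐ[A] C := Algebra.TensorProduct.map (IsScalarTower.toAlgHom A A' L) (AlgHom.id A A1)
    let t2 := T.comap ι.toRingHom
    let t3 := T3.comap ι.toRingHom
    have hι : ι.toRingHom.comp (algebraMap A1 A2) = algebraMap A1 C := RingHom.ext fun a => by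
      show ι ((1 : A') ⊗ₜ[A] a) = (1 : L) ⊗ₜ[A] a
      rw [Algebra.TensorProduct.map_tmul, map_one]
      rfl
    obtain ⟨P2, _, himp2⟩ := H4RG.exists_impurity_baseChange himp A2 t3 t2 (Ideal.comap_mono hle)
      (by rw [Ideal.comap_comap, hι, hT]) (by rw [Ideal.comap_comap, hι]; exact hT3.over.symm)
    let φ : A2 →ₐ[A'] p'.ResidueField :=
      Algebra.TensorProduct.lift (Algebra.ofId A' p'.ResidueField) (κ'.comp φ1) fun _ _ => .all _ _
    have hker : t2 = RingHom.ker φ := by
      have hc : ψ.toRingHom.comp ι.toRingHom = φ.toRingHom := by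
        refine congrArg AlgHom.toRingHom (Algebra.TensorProduct.ext (f := ψ.comp ι) (g := φ.restrictScalars A)
          (AlgHom.ext fun a => ?_) (AlgHom.ext fun a => ?_))
        · show ψ (ι (a ⊗ₜ[A] 1)) = φ (a ⊗ₜ[A] 1)
          rw [Algebra.TensorProduct.map_tmul, Algebra.TensorProduct.lift_tmul, Algebra.TensorProduct.lift_tmul,
            AlgHom.id_apply]
          show algebraMap L p'.ResidueField (algebraMap A' L a) * _ = algebraMap A' p'.ResidueField a * _
          rw [← IsScalarTower.algebraMap_apply]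
        · show ψ (ι (1 ⊗ₜ[A] a)) = φ (1 ⊗ₜ[A] a)
          rw [Algebra.TensorProduct.map_tmul, Algebra.TensorProduct.lift_tmul, Algebra.TensorProduct.lift_tmul, map_one,
            map_one, map_one, AlgHom.id_apply]
      exact (RingHom.comap_ker ψ.toRingHom ι.toRingHom).trans (congrArg RingHom.ker hc)
    have hnhd : FlatCA.IsEtaleNhd A' A2 p' t2 := by
      haveI : Algebra.Etale A' A2 := inferInstance
      exact H4RG.isEtaleNhd_of_point p' φ t2 hker.symm
    have h2 : t2.comap (algebraMap A' A2) = p' := by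
      rw [hker]
      ext a
      show φ (algebraMap A' A2 a) = 0 ↔ _
      rw [AlgHom.commutes, Ideal.algebraMap_residueField_eq_zero]
    obtain ⟨X, Y, Z, _, _, _, _, _, _, _, _, _, _, _, _, _, _, g, u', u, _, _, P3, _, himp3, hu⟩ :=
      H4RG.exists_impurity_of_baseChange A' B' N' f hf p' A2 t3 t2 h2 P2 himp2
        (fun X _ _ I => ∀ (_ : I.IsPrime), FlatCA.IsEtaleNhd A' X p' I) (fun _ => hnhd)
    exact hpure X Y Z g u' u P3 (hu inferInstance) himp3
  · intro A1 B1 N1 _ _ _ _ _ _ _ _ _ _ _ _ _ _ f1 t' t _ _ P _ himp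
    let L := Localization.AtPrime p'
    let C := L ⊗[A] A1
    haveI : Module.Flat A1 C := H4RG.flat_tensor_right
    have hm : (IsLocalRing.maximalIdeal L).comap (algebraMap A' L) = p' :=
      IsLocalization.AtPrime.under_maximalIdeal L p'
    obtain ⟨T, _, hTL, hT⟩ := H4RG.exists_prime_over_pair (A := A) (IsLocalRing.maximalIdeal L) t (by
      rw [IsScalarTower.algebraMap_eq A A' L, ← Ideal.comap_comap, hm]
      exact ((p'.over_def p).symm).trans himp.2.2.2.1.over)
    haveI : T.LiesOver t := ⟨hT.symm⟩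
    obtain ⟨T3, hle, _, hT3⟩ := Ideal.exists_ideal_le_liesOver_of_le (p := t') (q := t) T himp.2.2.1
    obtain ⟨P2, _, himp2⟩ := H4RG.exists_impurity_baseChange himp C T3 T hle hT hT3.over.symm
    obtain ⟨X, Y, Z, _, _, _, _, _, _, _, _, _, _, _, _, _, _, g, u', u, _, _, P3, _, himp3, -⟩ :=
      H4RG.exists_impurity_of_baseChange A' B' N' f hf p' C T3 T
        (by rw [IsScalarTower.algebraMap_eq A' L C, ← Ideal.comap_comap, hTL, hm]) P2 himp2 (fun _ _ _ _ => True) trivial
    exact hpure X Y Z g u' u P3 himp3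

end Groth.Agent.S1217
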