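import Groth.Statements.S1220
import Groth.Agent.H4RG.ImpurityBC
import Groth.Agent.H4RG.PureProj
-- import your own Groth.Agent.* helpers here

set_option autoImplicit false
set_option backward.isDefEq.respectTransparency.types false
set_option linter.style.haveILetI false
universe u
open FlatMor
open scoped TensorProduct
attribute [local instance] Algebra.TensorProduct.rightAlgebra

namespace Groth.Agent.S1220

/-- Ring form, X = Spec B affine: let B be a finitely presented A-algebra and N a finitely presented
B-module flat over A. Then the set of points p of Spec A such that N is pure along the fibre over p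
is open. -/
theorem result {A B : Type u} [CommRing A] [CommRing B] [Algebra A B] [Algebra.FinitePresentation A B]
    (N : Type u) [AddCommGroup N] [Module B N] [Module A N] [IsScalarTower A B N] [Module.FinitePresentation B N] [Module.Flat A N] :
    IsOpen {p : PrimeSpectrum A | FlatCA.IsPureAlong A B N p.asIdeal} := by
  refine isOpen_iff_forall_mem_open.2 fun x hx => ?_
  obtain ⟨R, _, _, het, ε, hproj⟩ := H4RG.exists_projective_stage N x.asIdeal hx
  haveI : Module.Flat A R := Algebra.Smooth.flat A R
  refine ⟨Set.range (PrimeSpectrum.comap (algebraMap A R)), ?_,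
    PrimeSpectrum.isOpenMap_comap_of_hasGoingDown_of_finitePresentation.isOpen_range, ?_⟩
  · rintro _ ⟨z, rfl⟩ A' B' N' _ _ _ _ _ _ _ _ _ _ _ _ _ _ f t' t _ _ P _ - himp
    exact H4RG.isUnivPureAlong_of_projective N R z.asIdeal _ rfl A' B' N' f t' t P himp
  · refine ⟨⟨RingHom.ker ε, RingHom.ker_isPrime _⟩, PrimeSpectrum.ext ?_⟩
    ext a
    show ε (algebraMap A R a) = 0 ↔ _
    rw [AlgHom.commutes, Ideal.algebraMap_residueField_eq_zero]

end Groth.Agent.S1220
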