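import Groth.Statements.S9325
import Mathlib

set_option autoImplicit false
universe u
open CAlg

namespace Groth.Agent.S9325

theorem exists_alternating {L : Type u} [CommRing L] {c : ℕ} (f v : Fin c → L)
    (h : v ∈ Submodule.span L {v : Fin c → L | ∃ i j : Fin c, v = Pi.single i (f j) - Pi.single j (f i)}) :
    ∃ C : Fin c → Fin c → L, (∀ i, C i i = 0) ∧ (∀ i j, C i j = - C j i) ∧ ∀ i, v i = ∑ j, C i j * f j := by
  classical
  induction h using Submodule.span_induction with
  | mem x hx =>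
    obtain ⟨i, j, rfl⟩ := hx
    refine ⟨fun a b => (if a = i ∧ b = j then 1 else 0) - (if a = j ∧ b = i then 1 else 0), fun a => ?_,
      fun a b => ?_, fun a => ?_⟩
    · simp [and_comm]
    · simp [and_comm]
    · simp only [Pi.sub_apply, Pi.single_apply, sub_mul, Finset.sum_sub_distrib, ite_mul, one_mul, zero_mul, ite_and]
      by_cases h1 : a = i <;> by_cases h2 : a = j <;> simp [h1, h2]
  | zero => exact ⟨fun _ _ => 0, by simp, by simp, by simp⟩
  | add x y _ _ hx hy =>
    obtain ⟨C, a1, a2, a3⟩ := hx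
    obtain ⟨D, b1, b2, b3⟩ := hy
    exact ⟨fun i j => C i j + D i j, fun i => by simp [a1, b1], fun i j => by simp only; rw [a2 i j, b2 i j]; ring,
      fun i => by simp [a3, b3, add_mul, Finset.sum_add_distrib]⟩
  | smul r x _ hx =>
    obtain ⟨C, a1, a2, a3⟩ := hx
    exact ⟨fun i j => r * C i j, fun i => by simp [a1], fun i j => by simp only; rw [a2 i j]; ring,
      fun i => by simp [a3, Finset.mul_sum, mul_assoc]⟩

theorem sum_alternating {L : Type u} [CommRing L] {c : ℕ} (C : Fin c → Fin c → L) (F : Fin c → L)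
    (h0 : ∀ i, C i i = 0) (h1 : ∀ i j, C i j = - C j i) : ∑ i, (∑ j, C i j * F j) * F i = 0 := by
  simp only [Finset.sum_mul]
  rw [← Finset.sum_product']
  refine Finset.sum_involution (fun p _ => (p.2, p.1)) (fun p _ => ?_) (fun p _ hp he => hp ?_) (fun _ _ => Finset.mem_univ _)
    (fun _ _ => rfl)
  · simp only
    rw [h1 p.1 p.2]
    ring
  · have : p.1 = p.2 := (congrArg Prod.fst he).symm
    rw [this, h0]
    ring

theorem key {A : Type u} [CommRing A] (I J : Ideal A) (hIJ : I ≤ J) (G : A) (c : ℕ)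
    (f : Fin c → Localization.Away (Ideal.Quotient.mk I G)) (hreg : CAlgX.IsH1Regular f)
    (hspan : Ideal.span (Set.range f) = (J.map (Ideal.Quotient.mk I)).map (algebraMap (A ⧸ I) _))
    (x : A) (hxI : x ∈ I) (hxJ : x ∈ J * J) : ∃ N : ℕ, G ^ N * x ∈ I * J := by
  classical
  let g := Ideal.Quotient.mk I G
  let L := Localization.Away g
  let φ : A →+* L := (algebraMap (A ⧸ I) L).comp (Ideal.Quotient.mk I)
  have hu : ∀ n : ℕ, IsUnit (φ (G ^ n)) := fun n => by
    rw [map_pow]; exact (IsLocalization.Away.algebraMap_isUnit g).pow n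
  have hker : ∀ z, φ z = 0 → ∃ M : ℕ, G ^ M * z ∈ I := by
    intro z hz
    obtain ⟨⟨_, M, rfl⟩, hm⟩ := (IsLocalization.map_eq_zero_iff (Submonoid.powers g) L _).1 hz
    exact ⟨M, Ideal.Quotient.eq_zero_iff_mem.1 (by rw [map_mul, map_pow]; exact hm)⟩
  have hnum : ∀ z : L, ∃ (n : ℕ) (y : A), z * φ (G ^ n) = φ y := by
    intro z
    obtain ⟨n, y, hy⟩ := IsLocalization.Away.surj g z
    obtain ⟨y, rfl⟩ := Ideal.Quotient.mk_surjective y
    exact ⟨n, y, by rw [map_pow]; exact hy⟩
  -- numerators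
  have hF : ∀ i, ∃ (n : ℕ) (F : A), F ∈ J ∧ f i * φ (G ^ n) = φ F := by
    intro i
    have hi : f i ∈ (J.map (Ideal.Quotient.mk I)).map (algebraMap (A ⧸ I) L) := hspan ▸ Ideal.subset_span ⟨i, rfl⟩
    obtain ⟨⟨⟨y, hy⟩, ⟨_, n, rfl⟩⟩, hm⟩ := (IsLocalization.mem_map_algebraMap_iff (Submonoid.powers g) L).1 hi
    obtain ⟨F, hF, rfl⟩ := (Ideal.mem_map_iff_of_surjective _ Ideal.Quotient.mk_surjective).1 hy
    exact ⟨n, F, hF, by
      show f i * algebraMap (A ⧸ I) L (Ideal.Quotient.mk I (G ^ n)) = _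
      rw [map_pow]; exact hm⟩
  choose n F hFJ hfF using hF
  let u : Fin c → Lˣ := fun i => (hu (n i)).unit
  have hfu : ∀ i, φ (F i) = f i * (u i : L) := fun i => (hfF i).symm
  -- relations
  have hrel : ∀ b : Fin c → A, ∑ i, b i * F i ∈ I → ∃ N : ℕ, G ^ N * ∑ i, b i * F i ∈ I * J := by
    intro b hb
    have h0 : ∑ i, (φ (b i) * (u i : L)) * f i = 0 := by
      refine Eq.trans ?_ (show φ (∑ i, b i * F i) = 0 by
        show algebraMap (A ⧸ I) L (Ideal.Quotient.mk I _) = 0
        rw [Ideal.Quotient.eq_zero_iff_mem.2 hb, map_zero])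
      rw [map_sum]
      exact Finset.sum_congr rfl fun i _ => by rw [map_mul, hfu]; ring
    obtain ⟨C, hC0, hC1, hC2⟩ := exists_alternating f _ (hreg _ h0)
    let d : Fin c → Fin c → L := fun i j => C i j * ((u i)⁻¹ : Lˣ) * ((u j)⁻¹ : Lˣ)
    have hd : ∀ i, φ (b i) = ∑ j, d i j * φ (F j) := by
      intro i
      calc φ (b i) = φ (b i) * (u i : L) * ((u i)⁻¹ : Lˣ) := by rw [mul_assoc, Units.mul_inv, mul_one]
        _ = ∑ j, d i j * φ (F j) := by
          rw [hC2, Finset.sum_mul]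
          refine Finset.sum_congr rfl fun j _ => ?_
          rw [hfu]
          simp only [d]
          calc C i j * f j * ((u i)⁻¹ : Lˣ) = C i j * f j * ((u i)⁻¹ : Lˣ) * (((u j)⁻¹ : Lˣ) * (u j : L)) := by
                rw [Units.inv_mul, mul_one]
            _ = _ := by ring
    choose m D hD using fun p : Fin c × Fin c => hnum (d p.1 p.2)
    let N := Finset.univ.sup m
    let E : Fin c → Fin c → A := fun i j =>
      if i < j then G ^ (N - m (i, j)) * D (i, j) else if j < i then -(G ^ (N - m (j, i)) * D (j, i)) else 0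
    have hE0 : ∀ i, E i i = 0 := fun i => by simp [E]
    have hE1 : ∀ i j, E i j = - E j i := by
      intro i j
      rcases lt_trichotomy i j with h | h | h <;> simp [E, h, not_lt.2 h.le]
    have hE : ∀ i j, φ (E i j) = d i j * φ (G ^ N) := by
      have hlt : ∀ i j, φ (G ^ (N - m (i, j)) * D (i, j)) = d i j * φ (G ^ N) := by
        intro i j
        rw [map_mul, ← hD (i, j), mul_left_comm, ← map_mul, ← pow_add,
          Nat.sub_add_cancel (Finset.le_sup (f := m) (Finset.mem_univ _))]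
      intro i j
      rcases lt_trichotomy i j with h | h | h
      · simp only [E, h, if_true]; exact hlt i j
      · subst h; simp [E, d, hC0]
      · simp only [E, not_lt.2 h.le, if_false, h, if_true, map_neg, hlt]
        simp only [d]
        rw [hC1 i j]; ring
    have hz : ∀ i, φ (G ^ N * b i - ∑ j, E i j * F j) = 0 := by
      intro i
      rw [map_sub, map_sum, map_mul, hd i, Finset.mul_sum, sub_eq_zero]
      exact Finset.sum_congr rfl fun j _ => by rw [map_mul, hE]; ring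
    choose M hM using fun i => hker _ (hz i)
    let K := Finset.univ.sup M
    refine ⟨K + N, ?_⟩
    have e : G ^ (K + N) * ∑ i, b i * F i = (∑ i, G ^ K * (G ^ N * b i - ∑ j, E i j * F j) * F i) +
        G ^ K * ∑ i, (∑ j, E i j * F j) * F i := by
      rw [Finset.mul_sum, Finset.mul_sum, ← Finset.sum_add_distrib, pow_add]
      exact Finset.sum_congr rfl fun i _ => by ring
    rw [e, sum_alternating E F hE0 hE1, mul_zero, add_zero]
    refine Ideal.sum_mem _ fun i _ => Ideal.mul_mem_mul ?_ (hFJ i)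
    have hle : M i ≤ K := Finset.le_sup (Finset.mem_univ i)
    rw [← Nat.sub_add_cancel hle, pow_add, mul_assoc]
    exact I.mul_mem_left _ (hM i)
  -- `J` is generated by `I` and the numerators
  have hJ : ∀ y ∈ J, ∃ N : ℕ, G ^ N * y ∈ Ideal.span (Set.range F) ⊔ I := by
    intro y hy
    have h1 : φ y ∈ Ideal.span (Set.range f) := hspan ▸ Ideal.mem_map_of_mem _ (Ideal.mem_map_of_mem _ hy)
    obtain ⟨a, ha⟩ := Ideal.mem_span_range_iff_exists_fun.1 h1
    choose m D hD using fun i => hnum (a i * ((u i)⁻¹ : Lˣ))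
    let N := Finset.univ.sup m
    have hz : φ (G ^ N * y - ∑ i, G ^ (N - m i) * D i * F i) = 0 := by
      rw [map_sub, map_sum, sub_eq_zero, map_mul, ← ha, Finset.mul_sum]
      refine Finset.sum_congr rfl fun i _ => ?_
      rw [map_mul, map_mul, ← hD i, hfu, ← Nat.sub_add_cancel (show m i ≤ N from Finset.le_sup (Finset.mem_univ i)),
        pow_add, map_mul, Nat.add_sub_cancel]
      calc φ (G ^ (N - m i)) * φ (G ^ m i) * (a i * f i) =
            φ (G ^ (N - m i)) * φ (G ^ m i) * (a i * f i) * (((u i)⁻¹ : Lˣ) * (u i : L)) := by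
              rw [Units.inv_mul, mul_one]
        _ = _ := by ring
    obtain ⟨M, hM⟩ := hker _ hz
    refine ⟨M + N, ?_⟩
    rw [show G ^ (M + N) * y = G ^ M * ∑ i, G ^ (N - m i) * D i * F i + G ^ M * (G ^ N * y - ∑ i, G ^ (N - m i) * D i * F i) by
      rw [pow_add]; ring]
    exact add_mem (Submodule.mem_sup_left (Ideal.mul_mem_left _ _ (Ideal.sum_mem _ fun i _ =>
      Ideal.mul_mem_left _ _ (Ideal.subset_span ⟨i, rfl⟩)))) (Submodule.mem_sup_right hM)
  obtain ⟨N, hN⟩ : ∃ N : ℕ, G ^ N * x ∈ Ideal.span (Set.range F) ⊔ I * J := by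
    clear hxI
    refine Submodule.mul_induction_on hxJ (fun y hy z hz => ?_) ?_
    · obtain ⟨N, hN⟩ := hJ y hy
      obtain ⟨p, hp, q, hq, hpq⟩ := Submodule.mem_sup.1 hN
      refine ⟨N, ?_⟩
      rw [← mul_assoc, ← hpq, add_mul]
      exact add_mem (Submodule.mem_sup_left (Ideal.mul_mem_right _ _ hp)) (Submodule.mem_sup_right (Ideal.mul_mem_mul hq hz))
    · rintro a b ⟨N, hN⟩ ⟨M, hM⟩
      refine ⟨N + M, ?_⟩
      rw [show G ^ (N + M) * (a + b) = G ^ M * (G ^ N * a) + G ^ N * (G ^ M * b) by ring]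
      exact add_mem (Ideal.mul_mem_left _ _ hN) (Ideal.mul_mem_left _ _ hM)
  obtain ⟨p, hp, q, hq, hpq⟩ := Submodule.mem_sup.1 hN
  obtain ⟨b, rfl⟩ := Ideal.mem_span_range_iff_exists_fun.1 hp
  have hbI : ∑ i, b i * F i ∈ I := by
    rw [show ∑ i, b i * F i = G ^ N * x - q by rw [← hpq]; ring]
    exact sub_mem (I.mul_mem_left _ hxI) (Ideal.mul_le_left hq)
  obtain ⟨M, hM⟩ := hrel b hbI
  refine ⟨M + N, ?_⟩
  rw [pow_add, mul_assoc, ← hpq, mul_add]
  exact add_mem hM (Ideal.mul_mem_left _ _ hq)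

/-- Let `A` be a ring and `I ⊆ J` ideals of `A` such that the ideal `J/I` of `A/I` is `H_1`-regular: for
every prime `𝔮` of `A/I` containing `J/I` there is `g ∉ 𝔮` such that the extension of `J/I` to
`(A/I)_g` is generated by an `H_1`-regular sequence (a finite sequence all of whose linear relations
are combinations of the trivial ones). Then `I ∩ J² = I J`. -/
theorem result {A : Type u} [CommRing A] (I J : Ideal A)
    (hIJ : I ≤ J)
    (h : ∀ (𝔮 : Ideal (A ⧸ I)) [𝔮.IsPrime], J.map (Ideal.Quotient.mk I) ≤ 𝔮 →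
      ∃ g : A ⧸ I, g ∉ 𝔮 ∧ ∃ (c : ℕ) (f : Fin c → Localization.Away g),
        CAlgX.IsH1Regular f ∧
          Ideal.span (Set.range f) =
            (J.map (Ideal.Quotient.mk I)).map (algebraMap (A ⧸ I) (Localization.Away g))) :
    I ⊓ J ^ 2 = I * J := by
  classical
  refine le_antisymm ?_ (le_inf Ideal.mul_le_left (by rw [pow_two]; exact Ideal.mul_mono hIJ le_rfl))
  rintro x ⟨hxI, hxJ⟩
  have hxJ' : x ∈ J * J := by rw [← pow_two]; exact hxJ
  let K : Ideal A := (I * J).colon {x}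
  have hK : ∀ s, s ∈ K ↔ s * x ∈ I * J := fun s => Submodule.mem_colon_singleton
  suffices hKt : K = ⊤ by
    have := (hK 1).1 (hKt ▸ Submodule.mem_top)
    rwa [one_mul] at this
  by_contra hne
  obtain ⟨Q, hQ, hKQ⟩ := Ideal.exists_le_maximal K hne
  by_cases hJQ : J ≤ Q
  · haveI : Q.IsPrime := hQ.isPrime
    haveI : (Q.map (Ideal.Quotient.mk I)).IsPrime :=
      Ideal.map_isPrime_of_surjective Ideal.Quotient.mk_surjective (by rw [Ideal.mk_ker]; exact hIJ.trans hJQ)
    obtain ⟨g, hg, c, f, hreg, hspan⟩ := h (Q.map (Ideal.Quotient.mk I)) (Ideal.map_mono hJQ)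
    obtain ⟨G, rfl⟩ := Ideal.Quotient.mk_surjective g
    obtain ⟨N, hN⟩ := key I J hIJ G c f hreg hspan x hxI hxJ'
    exact hg (Ideal.mem_map_of_mem _ (hQ.isPrime.mem_of_pow_mem N (hKQ ((hK _).2 hN))))
  · obtain ⟨s, hs, hsQ⟩ := SetLike.not_le_iff_exists.1 hJQ
    refine hsQ (hKQ ((hK s).2 ?_))
    rw [mul_comm s x]
    exact Ideal.mul_mem_mul hxI hs

end Groth.Agent.S9325
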