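import Groth.Statements.S1009
import Groth.Agent.QCoh.ExtendFT
import Groth.Agent.QCoh.ClosedPush
import Groth.Agent.MorLib.ProjSections
import Groth.Agent.QCoh.LocFree
import Groth.Agent.SheafHomX.Local
import Groth.Agent.CohGabLib.SerreClass
open CategoryTheory CategoryTheory.Limits AlgebraicGeometry TopologicalSpace Opposite

set_option backward.isDefEq.respectTransparency false
set_option synthInstance.maxHeartbeats 200000

namespace Groth.Agent.S1009
open Groth.Agent.QCoh

theorem finite_projective_sections.{w} {W : Scheme.{w}} {Q : W.Modules} (hQ : FlatMod.IsFinLocFree Q)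
    {U : W.Opens} (hU : IsAffineOpen U) : Module.Finite Γ(W, U) Γ(Q, U) ∧ Module.Projective Γ(W, U) Γ(Q, U) := by
  refine ⟨finite_of_isFT (isQCoh_of_isFinLocFree hQ)
    (isFT_of_isFP (isFP_of_isFinLocFree hQ)) hU, ?_⟩
  choose V n hx he using hQ
  choose A hA hxA hle using fun x : W => exists_isAffineOpen_mem_and_subset (hx x)
  refine MorLib.projective_sections_of_cover (isQCoh_of_isFinLocFree fun x => ⟨V x, n x, hx x, he x⟩) A
    (top_le_iff.1 fun x _ => Opens.mem_iSup.2 ⟨x, hxA x⟩) hA (fun x => ?_) hU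
  obtain ⟨e⟩ := he x
  obtain ⟨l⟩ := free_sections (hA x) (hle x) e
  exact Module.Projective.of_equiv l.symm

theorem isFinLocFree_restrict.{w} {X Z : Scheme.{w}} (j : Z ⟶ X) [IsOpenImmersion j] {M : X.Modules}
    (h : FlatMod.IsFinLocFree M) : FlatMod.IsFinLocFree (M.restrict j) := fun z => by
  obtain ⟨U, n, hx, ⟨i⟩⟩ := h (j z)
  refine ⟨j ⁻¹ᵁ U, n, hx, ⟨restrictRestrict M _ j ≪≫
    (Scheme.Modules.restrictFunctorCongr (morphismRestrict_ι j U).symm).app M ≪≫
    (restrictRestrict M _ U.ι).symm ≪≫ (Scheme.Modules.restrictFunctor _).mapIso i ≪≫ freeModRestrict _ n⟩⟩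

/-- On an affine scheme: a form on a projective module with a splitting on `D`. -/
theorem isAffineOpen_of_split.{w} {Y : Scheme.{w}} [IsAffine Y] {E : Y.Modules} (hE : FlatMod.IsFinLocFree E)
    (α : E ⟶ Coh.structureModule Y) (D : Y.Opens) (s : Γ(E, D))
    (hs : α.app D s = (1 : Γ(Y, D)))
    (hvan : ∀ m : Γ(E, ⊤), Y.basicOpen (show Γ(Y, ⊤) from α.app ⊤ m) ≤ D) : IsAffineOpen D := by
  classical
  have hEq : Coh.IsQCoh E := isQCoh_of_isFinLocFree hE
  obtain ⟨hf, hp⟩ := finite_projective_sections hE (isAffineOpen_top Y)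
  haveI := hf
  haveI := hp
  obtain ⟨n, p, l, -, -, hpl⟩ := Module.Finite.exists_comp_eq_id_of_projective Γ(Y, ⊤) Γ(E, ⊤)
  let m : Fin n → Γ(E, ⊤) := fun k => p (Pi.single k 1)
  let c : Fin n → Γ(Y, ⊤) := fun k => α.app ⊤ (m k)
  have hdec : ∀ x, x = ∑ k, l x k • m k := fun x => by
    conv_lhs => rw [← show p (l x) = x from LinearMap.congr_fun hpl x, pi_eq_sum_univ' (l x), map_sum]
    exact Finset.sum_congr rfl fun k _ => map_smul p _ _
  have hex : ∀ k, ∃ L : E ⟶ Coh.structureModule Y, ∀ x, L.app ⊤ x = l x k := fun k =>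
    OmegaLib.exists_hom_of_affine (P := Y) (F := Coh.structureModule Y) (SheafHomX.globLocalized hEq)
      ((LinearMap.proj k).comp l).toAddMonoidHom fun r x => ((LinearMap.proj k).comp l).map_smul r x
  choose L hL using hex
  let res : Γ(Y, ⊤) → Γ(Y, D) := fun a => Y.presheaf.map (homOfLE le_top).op a
  let g : Fin n → Γ(Y, D) := fun k => (L k).app D s
  have hsum : ∑ k, g k * res (c k) = 1 := by
    refine sub_eq_zero.1 (eq_zero_of_locally (M := Coh.structureModule Y) D (show Γ(Y, D) from ∑ k, g k * res (c k) - 1) fun y hy => ?_)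
    obtain ⟨f, hfD, hyf⟩ := (isAffineOpen_top Y).exists_basicOpen_le ⟨y, hy⟩ trivial
    refine ⟨_, homOfLE hfD, hyf, ?_⟩
    let ρ : Γ(Y, D) →+* Γ(Y, Y.basicOpen f) := (Y.presheaf.map (homOfLE hfD).op).hom
    show ρ (∑ k, g k * res (c k) - 1) = 0
    let s' := E.presheaf.map (homOfLE hfD).op s
    let F : Γ(Y, Y.basicOpen f) := Y.presheaf.map (homOfLE (Y.basicOpen_le f)).op f
    obtain ⟨N, t, ht⟩ := exists_pow_smul_eq_map hEq (isAffineOpen_top Y) f s'
    have hu : IsUnit (F ^ N) := (RingedSpace.isUnit_res_basicOpen Y.toRingedSpace f).pow N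
    refine hu.mul_right_eq_zero.1 ?_
    rw [map_sub, map_sum, map_one, mul_sub, mul_one, Finset.mul_sum, sub_eq_zero]
    let r : Γ(Y, ⊤) →+* Γ(Y, Y.basicOpen f) := (Y.presheaf.map (homOfLE (Y.basicOpen_le f)).op).hom
    have h1 : ∀ k, F ^ N * ρ (g k) = r (l t k) := fun k => by
      have hg : ρ (g k) = (L k).app _ s' := (map_app_comm (L k) (homOfLE hfD) s).symm
      rw [hg, ← hL k t]
      refine ((L k).app_smul (F ^ N) s').symm.trans ?_
      rw [← ht]
      exact map_app_comm (L k) (homOfLE (Y.basicOpen_le f)) t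
    have h2 : r (show Γ(Y, ⊤) from α.app ⊤ t) = F ^ N := by
      refine (map_app_comm α (homOfLE (Y.basicOpen_le f)) t).symm.trans ?_
      rw [ht]
      refine (α.app_smul (F ^ N) s').trans ?_
      show F ^ N * (show Γ(Y, Y.basicOpen f) from α.app _ s') = F ^ N
      rw [show (α.app _ s' : Γ(Y, Y.basicOpen f)) = ρ (α.app D s) from map_app_comm α (homOfLE hfD) s, hs,
        map_one, mul_one]
    have h3 : (show Γ(Y, ⊤) from α.app ⊤ t) = ∑ k, l t k * c k := by
      conv_lhs => rw [hdec t, map_sum]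
      exact Finset.sum_congr rfl fun k _ => α.app_smul _ _
    conv_rhs => rw [← h2, h3, map_sum]
    refine Finset.sum_congr rfl fun k _ => ?_
    rw [map_mul, map_mul, ← mul_assoc, h1 k]
    congr 1
    show ρ (res (c k)) = r (c k)
    exact QCoh.ringMap_map (X := Y) _ _ _
  refine isAffineOpen_of_isAffineOpen_basicOpen D (Set.range fun k => res (c k)) ?_ ?_
  · rw [Ideal.eq_top_iff_one, ← hsum]
    exact Ideal.sum_mem _ fun k _ => Ideal.mul_mem_left _ _ (Ideal.subset_span ⟨k, rfl⟩)
  · rintro _ ⟨k, rfl⟩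
    show IsAffineOpen (Y.basicOpen (Y.presheaf.map _ (c k)))
    rw [Scheme.basicOpen_res, inf_eq_right.2 (hvan (m k))]
    exact (isAffineOpen_top Y).basicOpen _

end Groth.Agent.S1009

set_option autoImplicit false
universe u
open CategoryTheory CategoryTheory.Limits AlgebraicGeometry
attribute [local instance] HasDerivedCategory.standard
open Perf

namespace Groth.Agent.S1009

/-- Let the scheme X be quasi-compact and quasi-separated with the resolution property (every
finite-type quasi-coherent O_X-module is a quotient of a finite locally free one). Then X has affine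
diagonal: the intersection of any two affine opens of X is affine. -/
theorem result (X : Scheme.{u}) [CompactSpace ↥X] [QuasiSeparatedSpace ↥X] (hX : PerfAux.HasResolutionProperty X)
    (U V : X.Opens) (hU : IsAffineOpen U) (hV : IsAffineOpen V) : IsAffineOpen (U ⊓ V) := by
  classical
  let J := Scheme.IdealSheafData.vanishingIdeal (⟨(U : Set X)ᶜ, U.2.isClosed_compl⟩ : Closeds X)
  let η := (Scheme.Modules.pullbackPushforwardAdjunction J.subschemeι).unit.app (Coh.structureModule X)
  let G := kernel η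
  have hO : Coh.IsQCoh (Coh.structureModule X) := QCoh.isQCoh_structureModule
  have hT : Coh.IsQCoh ((Scheme.Modules.pullback J.subschemeι ⋙ Scheme.Modules.pushforward J.subschemeι).obj
      (Coh.structureModule X)) :=
    QCoh.isQCoh_pushforward J.subschemeι (QCoh.isQCoh_pullback J.subschemeι hO)
  have hG : Coh.IsQCoh G := QCoh.isQCoh_kernel hO hT η
  have hJ : ∀ (W : X.affineOpens) (a : Γ(X, W.1)), η.app W.1 a = 0 ↔ a ∈ J.ideal W := fun W a => by
    rw [(QCoh.unit_app_closed J.subschemeι hO W.2).2 a]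
    simp only [Scheme.IdealSheafData.ker_subschemeι]
    refine ⟨fun h => Submodule.smul_induction_on (p := fun z => (show Γ(X, W.1) from z) ∈ J.ideal W) h
      (fun r hr m _ => Ideal.mul_mem_right _ _ hr) fun _ _ => add_mem, fun h => ?_⟩
    have := Submodule.smul_mem_smul h (Submodule.mem_top (R := Γ(X, W.1)) (x := (show Γ(Coh.structureModule X, W.1) from (1 : Γ(X, W.1)))))
    rwa [show a • (show Γ(Coh.structureModule X, W.1) from (1 : Γ(X, W.1))) = a from mul_one a] at this
  have h1 : η.app U (1 : Γ(X, U)) = 0 := (hJ ⟨U, hU⟩ 1).2 (by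
    rw [Scheme.IdealSheafData.vanishingIdeal_ideal, PrimeSpectrum.mem_vanishingIdeal]
    intro p hp
    exact absurd (hU.range_fromSpec.le (Set.mem_range_self p)) hp)
  have hSE : (ShortComplex.mk (kernel.ι η) η (kernel.condition η)).Exact := ShortComplex.exact_kernel η
  obtain ⟨a₁, ha₁⟩ : ∃ a : Γ(G, U), (kernel.ι η).app U a = (1 : Γ(X, U)) := by
    haveI := CohGabLib.epi_unit_closed J.subschemeι hO
    exact QCoh.exists_app_f_eq (S := ShortComplex.mk (kernel.ι η) η (kernel.condition η))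
      { exact := hSE, mono_f := inferInstance, epi_g := ‹_› } U _ h1
  obtain ⟨N, hN, haN⟩ := QCoh.exists_ftOn_contains hG hU (QCoh.extStep_qcqs hU.isCompact) {a₁}
    (Set.finite_singleton a₁)
  obtain ⟨b, hb⟩ := N.exists_app_eq (haN rfl)
  have hNq := QCoh.isQCoh_of_ftOn hG hN
  obtain ⟨E, π, hE, hπ⟩ := hX N.toModules hNq (QCoh.isFT_of_ftOn hG hN)
  haveI := hπ
  let α : E ⟶ Coh.structureModule X := π ≫ N.ι ≫ kernel.ι η
  obtain ⟨s, hs⟩ := QCoh.app_surjective_of_epi (QCoh.isQCoh_of_isFinLocFree hE) hNq π hU b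
  have hs1 : α.app U s = (1 : Γ(X, U)) := by
    show (kernel.ι η).app U (N.ι.app U (π.app U s)) = _
    rw [hs, hb, ha₁]
  haveI : IsAffine V.toScheme := hV
  let j := V.ι
  let D : V.toScheme.Opens := j ⁻¹ᵁ U
  have hD : j ''ᵁ D = U ⊓ V := by
    rw [Scheme.Hom.image_preimage_eq_opensRange_inf, Scheme.Opens.opensRange_ι, inf_comm]
  have hle : j ''ᵁ D ≤ U := j.image_preimage_le U
  rw [← hD]
  refine IsAffineOpen.image_of_isOpenImmersion ?_ j
  let α' : E.restrict j ⟶ Coh.structureModule V.toScheme :=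
    (Scheme.Modules.restrictFunctor j).map α ≫ (Scheme.Modules.restrictUnitIso j).hom
  refine isAffineOpen_of_split (isFinLocFree_restrict j hE) α' D (E.presheaf.map (homOfLE hle).op s) ?_ ?_
  · show (j.appIso D).hom (α.app (j ''ᵁ D) (E.presheaf.map (homOfLE hle).op s)) = _
    rw [QCoh.map_app_comm α (homOfLE hle) s, hs1]
    show (j.appIso D).hom ((X.presheaf.map (homOfLE hle).op) 1) = 1
    rw [map_one, map_one]
  · intro m y hy
    let a : Γ(X, j ''ᵁ ⊤) := α.app (j ''ᵁ ⊤) m
    have hya : j y ∈ X.basicOpen a := by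
      have : y ∈ V.toScheme.basicOpen ((j.appIso ⊤).hom a) := hy
      have h := Scheme.image_basicOpen j ((j.appIso ⊤).hom a)
      rw [Iso.hom_inv_id_apply] at h
      exact h ▸ ⟨y, this, rfl⟩
    have hW : IsAffineOpen (j ''ᵁ ⊤) := (isAffineOpen_top V.toScheme).image_of_isOpenImmersion j
    have ha : a ∈ J.ideal ⟨_, hW⟩ := (hJ ⟨_, hW⟩ a).1 (by
      show η.app _ ((kernel.ι η).app _ (N.ι.app _ (π.app _ m))) = 0
      exact congr(($(kernel.condition η)).app _ (N.ι.app _ (π.app _ m))))
    show j y ∈ U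
    by_contra hyU
    rw [Scheme.IdealSheafData.vanishingIdeal_ideal, PrimeSpectrum.mem_vanishingIdeal] at ha
    have hyW : j y ∈ j ''ᵁ ⊤ := ⟨y, trivial, rfl⟩
    exact (QCoh.mem_basicOpen_iff_notMem hW hyW a).1 hya (ha _ (by
      show hW.fromSpec _ ∉ U
      rw [hW.fromSpec_primeIdealOf]; exact hyU))

end Groth.Agent.S1009
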