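import Groth.Statements.S6496
import Groth.Agent.H9Cyc.LimCyc

set_option linter.style.haveILetI false
set_option backward.isDefEq.respectTransparency false
set_option backward.isDefEq.respectTransparency.types false
open CategoryTheory.Limits


set_option autoImplicit false
universe u
open CategoryTheory AlgebraicGeometry
open Cyc

namespace Groth.Agent.S6496

/-- Injectivity of colim Z_k(X_i) → Z_k(X'): if a k-cycle α on X_i pulls back to the zero cycle on X',
then it pulls back to zero on some stage X_j above X_i. Setting: a directed inverse system (X_i) of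
quasi-compact schemes with affine flat transition morphisms and limit X' (a limit cone), each X_i
and X' carrying a dimension function with Cyc.IsSetup, and every transition map and every projection
X' → X_i shifting the dimension functions by c = 0 at generic points of fibres, so that the
base-change pullbacks g^* are Cyc.pullFun with shift 0. (The published statement takes X_i and X′ to
be the base changes of one quasi-compact scheme of finite type over a base S along S_i → S and lim
S_i → S; this row allows any such inverse system.) -/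
theorem result (I : Type u) [Preorder I] [IsDirected I (fun a b => a ≤ b)] [Nonempty I] (D : Iᵒᵖ ⥤ Scheme.{u}) (c : Limits.Cone D) (hc : Limits.IsLimit c) (haff : ∀ (i j : Iᵒᵖ) (f : i ⟶ j), IsAffineHom (D.map f)) (hflat : ∀ (i j : Iᵒᵖ) (f : i ⟶ j), Flat (D.map f)) (hqc : ∀ i, CompactSpace ↥(D.obj i)) (δ : (i : Iᵒᵖ) → ↥(D.obj i) → ℤ) (δ' : ↥c.pt → ℤ) (hset : ∀ i, Cyc.IsSetup (D.obj i) (δ i)) (hset' : Cyc.IsSetup c.pt δ') (hshift : ∀ (i j : Iᵒᵖ) (f : i ⟶ j) (x : ↥(D.obj i)), (∀ y, D.map f y = D.map f x → y ⤳ x → y = x) → δ i x = δ j (D.map f x)) (hflat' : ∀ i, Flat (c.π.app i)) (hshift' : ∀ (i : Iᵒᵖ) (x : ↥c.pt), (∀ y, c.π.app i y = c.π.app i x → y ⤳ x → y = x) → δ' x = δ i (c.π.app i x)) (k : ℤ) (i : Iᵒᵖ) (α : AlgebraicCycle (D.obj i) ℤ) (hα : α ∈ Cyc.Zk (D.obj i) (δ i) k) (h0 : Cyc.pullFun (c.π.app i) δ' (δ i) 0 ⇑α = 0) : ∃ (j : Iᵒᵖ) (f : j ⟶ i), Cyc.pullFun (D.map f) (δ j) (δ i) 0 ⇑α = 0 := by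
  classical
  haveI : ∀ {i j : Iᵒᵖ} (f : i ⟶ j), IsAffineHom (D.map f) := fun f => haff _ _ f
  haveI : ∀ i, CompactSpace (D.obj i) := hqc
  haveI : IsLocallyNoetherian c.pt := hset'.1
  haveI : ∀ i, IsLocallyNoetherian (D.obj i) := fun i => (hset i).1
  have hfin : (Function.support ⇑α).Finite := by
    choose t ht htf using fun z : D.obj i => α.supportLocallyFiniteWithinDomain' z trivial
    obtain ⟨s, -, hs⟩ := (isCompact_univ (X := D.obj i)).elim_nhds_subcover t (fun z _ => ht z)
    refine (s.finite_toSet.biUnion fun z _ => htf z).subset fun y hy => ?_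
    obtain ⟨z, hz, hyz⟩ := Set.mem_iUnion₂.mp (hs (Set.mem_univ y))
    exact Set.mem_iUnion₂.mpr ⟨z, hz, hyz, hy⟩
  have hempty : ∀ z : Function.support ⇑α, ∃ (j : Iᵒᵖ) (f : j ⟶ i), z.1 ∉ Set.range (D.map f) := by
    intro z
    by_contra hc'
    push Not at hc'
    obtain ⟨x, hx⟩ := H9Cyc.Lim.exists_preimage_point D c hc z.1 hc'
    let π : c.pt ⟶ D.obj i := c.π.app i
    obtain ⟨x₀, h1, -, h3⟩ := H9Cyc.Lim.exists_minInFibre π x
    have hlen := H9Cyc.Lim.length_fibre_of_min π h3
    have := congrFun h0 x₀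
    simp only [Cyc.pullFun, Pi.zero_apply] at this
    rw [if_pos (by rw [add_zero]; exact hshift' i x₀ h3)] at this
    rcases mul_eq_zero.1 this with h | h
    · exact z.2 ((congrArg α (h1.trans hx)).symm.trans h)
    · exact hlen (by exact_mod_cast h)
  haveI := hfin.to_subtype
  haveI := Fintype.ofFinite (Function.support ⇑α)
  choose j f hj using hempty
  obtain ⟨k, T, hT⟩ := IsCofiltered.inf_exists (insert i (Finset.univ.image j))
    (Finset.univ.image fun b => (⟨j b, i, by simp, by simp, f b⟩ :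
      Σ' (X Y : Iᵒᵖ) (_ : X ∈ insert i (Finset.univ.image j)) (_ : Y ∈ insert i (Finset.univ.image j)), X ⟶ Y))
  refine ⟨k, T (by simp), funext fun y => ?_⟩
  simp only [Cyc.pullFun, Pi.zero_apply]
  split_ifs with h
  · have hz : α (D.map (T (by simp)) y) = 0 := by
      by_contra hne
      let z : Function.support ⇑α := ⟨_, hne⟩
      have hcomp : T (X := j z) (by simp) ≫ f z = T (X := i) (by simp) :=
        hT (by simp) (by simp) (Finset.mem_image.2 ⟨z, by simp, rfl⟩)
      refine hj z ⟨D.map (T (by simp)) y, ?_⟩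
      rw [← Scheme.Hom.comp_apply, ← D.map_comp, hcomp]
    rw [hz, zero_mul]
  · rfl
end Groth.Agent.S6496
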