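import Groth.Statements.S13337
import Groth.Agent.H9FCoh.Univ

set_option backward.isDefEq.respectTransparency false
set_option backward.isDefEq.respectTransparency.types false
set_option linter.style.haveILetI false

set_option autoImplicit false
open CategoryTheory CategoryTheory.Limits
universe u
open FCompl

namespace Groth.Agent.S13337

open AlgebraicGeometry in
/-- On a locally Noetherian formal scheme presented as an adic system of locally Noetherian thickenings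
with common underlying space, for two systems of coherent modules on the levels with compatible
transition isomorphisms, the map sending a morphism of systems to the induced morphism between the
attached O_𝔛-modules (limits of direct images) is bijective: Hom_{O_𝔛}(𝔉, 𝔊) is the limit of the
Hom_{O_{X_n}}(F_n, G_n). -/
theorem result (𝔛 : FSch.Sys.{u}) (h𝔛 : 𝔛.IsLocNoethFormal) (𝔐 𝔑 : FSch.ModSys 𝔛)
    (h𝔐 : 𝔐.IsCoh) (h𝔑 : 𝔑.IsCoh) :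
    Function.Bijective (fun φ : 𝔐 ⟶ 𝔑 => FSch.ModSys.realModMap h𝔛.1 φ) := by
  have bij := fun k => Groth.Agent.H9FCoh.realProj_push_bijective h𝔛 𝔐 h𝔐 k (𝔑.F k)
  have key : ∀ (φ : 𝔐 ⟶ 𝔑) k, FSch.ModSys.realModMap h𝔛.1 φ ≫ FSch.realProj 𝔛 h𝔛.1 𝔑.F 𝔑.toPush k =
      FSch.realProj 𝔛 h𝔛.1 𝔐.F 𝔐.toPush k ≫ (FSch.levelMor 𝔛 h𝔛.1 k).push.map (φ.app k) := fun φ k =>
    FSch.realLimMap_realProj 𝔛 h𝔛.1 φ.app (FSch.ModSys.Hom.toPush_comm φ) k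
  refine ⟨fun φ φ' he => FSch.ModSys.Hom.ext (funext fun k => (bij k).1 ?_), fun Ψ => ?_⟩
  · exact (key φ k).symm.trans ((congrArg (· ≫ _) he).trans (key φ' k))
  choose a ha using fun k => (bij k).2 (Ψ ≫ FSch.realProj 𝔛 h𝔛.1 𝔑.F 𝔑.toPush k)
  have hcomm : ∀ k, 𝔐.toPush k ≫ (Scheme.Modules.pushforward (𝔛.ι k)).map (a k) = a (k + 1) ≫ 𝔑.toPush k := by
    intro k
    haveI : Mono ((FSch.pushCompare 𝔛 h𝔛.1 k).app (𝔑.F k)) :=
      mono_of_mono_fac (FSch.pushCompare_pushCompareInv 𝔛 h𝔛.1 k (𝔑.F k))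
    refine (Groth.Agent.H9FCoh.realProj_push_bijective h𝔛 𝔐 h𝔐 (k + 1) _).1 ?_
    change FSch.realProj 𝔛 h𝔛.1 𝔐.F 𝔐.toPush (k + 1) ≫ (FSch.levelMor 𝔛 h𝔛.1 (k + 1)).push.map _ =
      FSch.realProj 𝔛 h𝔛.1 𝔐.F 𝔐.toPush (k + 1) ≫ (FSch.levelMor 𝔛 h𝔛.1 (k + 1)).push.map _
    let p := FSch.realProj 𝔛 h𝔛.1 𝔐.F 𝔐.toPush (k + 1)
    let pc := FSch.pushCompare 𝔛 h𝔛.1 k
    let P := (FSch.levelMor 𝔛 h𝔛.1 (k + 1)).push
    have nat : P.map ((Scheme.Modules.pushforward (𝔛.ι k)).map (a k)) ≫ pc.app (𝔑.F k) =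
        pc.app (𝔐.F k) ≫ (FSch.levelMor 𝔛 h𝔛.1 k).push.map (a k) := pc.naturality (a k)
    refine (cancel_mono (pc.app (𝔑.F k))).1 ?_
    calc _ = (p ≫ P.map (𝔐.toPush k) ≫ P.map ((Scheme.Modules.pushforward (𝔛.ι k)).map (a k))) ≫ pc.app (𝔑.F k) :=
          congrArg (fun q => (p ≫ q) ≫ pc.app (𝔑.F k)) (P.map_comp _ _)
      _ = (p ≫ P.map (𝔐.toPush k) ≫ pc.app (𝔐.F k)) ≫ (FSch.levelMor 𝔛 h𝔛.1 k).push.map (a k) := by
          simp only [Category.assoc, nat]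
      _ = FSch.realProj 𝔛 h𝔛.1 𝔐.F 𝔐.toPush k ≫ (FSch.levelMor 𝔛 h𝔛.1 k).push.map (a k) :=
          congrArg (· ≫ _) (FSch.realProj_map 𝔛 h𝔛.1 𝔐.F 𝔐.toPush k)
      _ = Ψ ≫ FSch.realProj 𝔛 h𝔛.1 𝔑.F 𝔑.toPush k := ha k
      _ = Ψ ≫ FSch.realProj 𝔛 h𝔛.1 𝔑.F 𝔑.toPush (k + 1) ≫ P.map (𝔑.toPush k) ≫ pc.app (𝔑.F k) :=
          congrArg (Ψ ≫ ·) (FSch.realProj_map 𝔛 h𝔛.1 𝔑.F 𝔑.toPush k).symm
      _ = (Ψ ≫ FSch.realProj 𝔛 h𝔛.1 𝔑.F 𝔑.toPush (k + 1)) ≫ P.map (𝔑.toPush k) ≫ pc.app (𝔑.F k) :=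
          (Category.assoc _ _ _).symm
      _ = (p ≫ P.map (a (k + 1))) ≫ P.map (𝔑.toPush k) ≫ pc.app (𝔑.F k) :=
          congrArg (· ≫ _) (ha (k + 1)).symm
      _ = (p ≫ P.map (a (k + 1)) ≫ P.map (𝔑.toPush k)) ≫ pc.app (𝔑.F k) := by simp only [Category.assoc]
      _ = _ := congrArg (fun q => (p ≫ q) ≫ pc.app (𝔑.F k)) (P.map_comp _ _).symm
  refine ⟨⟨a, fun k => ((Scheme.Modules.pullbackPushforwardAdjunction (𝔛.ι k)).homEquiv _ _).injective ?_⟩, ?_⟩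
  · rw [Adjunction.homEquiv_naturality_left, Adjunction.homEquiv_naturality_right]
    exact (hcomm k).symm
  · change FSch.realLimMap 𝔛 h𝔛.1 a _ = Ψ
    refine limit.hom_ext fun j => ?_
    exact (FSch.realLimMap_realProj 𝔛 h𝔛.1 a _ j.unop).trans (ha j.unop)

end Groth.Agent.S13337
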