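import Groth.Statements.S13335
import Groth.Agent.H9FCoh.Rebuild

set_option backward.isDefEq.respectTransparency false
set_option backward.isDefEq.respectTransparency.types false
set_option linter.style.haveILetI false

set_option autoImplicit false
open CategoryTheory CategoryTheory.Limits
universe u
open FCompl

namespace Groth.Agent.S13335

open AlgebraicGeometry in
/-- On a locally Noetherian formal scheme, presented as an adic system of locally Noetherian thickenings
with common underlying space, every coherent (locally finitely presented) O_𝔛-module is isomorphic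
to the module attached to some system of coherent modules on the levels with compatible transition
isomorphisms (existence of an isomorphism only; the canonical system is the one of inverse images to
the levels). -/
theorem result (𝔛 : FSch.Sys.{u}) (h𝔛 : 𝔛.IsLocNoethFormal)
    (𝔉 : FSch.ModF 𝔛 h𝔛.1) (h𝔉 : FSch.IsCohF 𝔛 h𝔛.1 𝔉) :
    ∃ 𝔐 : FSch.ModSys 𝔛, 𝔐.IsCoh ∧ Nonempty (𝔉 ≅ 𝔐.realMod h𝔛.1) := by
  exact ⟨H9FCoh.pullSys h𝔛 𝔉, H9FCoh.isCoh_pullSys h𝔛 𝔉 h𝔉,
    ⟨@asIso _ _ _ _ _ (H9FCoh.isIso_toReal h𝔛 𝔉 h𝔉)⟩⟩

end Groth.Agent.S13335
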