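import Groth.Agent.SingleTowerEv6
import Groth.Agent.SiteCmpLib.Secs.Mod
import Groth.Agent.SiteBase.DLim.Top
import Groth.Agent.SiteBase.OpenRestr
import Groth.Agent.KFlatLib.Scheme.Grothendieck
import Groth.Agent.QCoh.Bound
import Groth.Agent.QCoh.Support
import Groth.Prelude.Def_DCoh2

/-!
# Limits of inverse systems of quasi-coherent modules on a scheme
-/

set_option autoImplicit false
set_option backward.isDefEq.respectTransparency false
set_option backward.isDefEq.respectTransparency.types false

universe u

open CategoryTheory CategoryTheory.Limits AlgebraicGeometry TopologicalSpace Opposite DerivedCategory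
attribute [local instance] HasDerivedCategory.standard

namespace Groth.Agent.SingleSch6

open Groth.Agent.SiteCmpLib Groth.Agent.SiteCmpLib.Secs

variable {X : Scheme.{u}}

/-- The sections structure on the modules of a scheme. -/
noncomputable abbrev schSecs (X : Scheme.{u}) :
    Secs (Opens.grothendieckTopology X.toPresheafedSpace.carrier) X.Modules :=
  modSecs X.ringCatSheaf

theorem subsingleton_HU_of_van {C : Type u} [SmallCategory C] {J : GrothendieckTopology C}
    (R : Sheaf J RingCat.{u}) [HasDerivedCategory.{u + 1} (SheafOfModules.{u} R)]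
    (F : SheafOfModules.{u} R) (k : ℕ) (U : C) (h : (modSecs R).Van F k U) :
    Subsingleton (CohSite.HU ((SheafOfModules.toSheaf R).obj F) k U) := by
  have : HasExt.{u} (SheafOfModules.{u} R) := hasExt_of_enoughInjectives _
  obtain ⟨e⟩ := SiteBase.nonempty_ext_addEquiv (SheafOfModules.toSheaf R) ((freeP R).obj U)
    (CohCx.freeSheaf J U) (fun _ hE => hE.map_of_exact (SheafOfModules.toSheaf R))
    (fun I hI q => SiteBase.subsingleton_HU_of_totallyAcyclic
      (@SiteBase.isTotallyAcyclic_toSheaf_injective _ _ _ R I hI) U q)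
    (fun X => ((modSecs R).sec U X).trans (SiteBase.secEquiv J U _).symm)
    (fun X Y φ g => by
      refine (congrArg (SiteBase.secEquiv J U _).symm (modSec_comp R U φ g)).trans ?_
      exact (SiteBase.secEquiv_symm_comp U _ _).symm) k F
  refine @Equiv.subsingleton _ _ e.toEquiv.symm ?_
  refine @Equiv.subsingleton _ _ (Abelian.Ext.homEquiv (X := (freeP R).obj U) (Y := F) (n := k)) ?_
  exact ⟨fun a b => (h a).trans (h b).symm⟩

/-- The affine opens. -/
abbrev affs (X : Scheme.{u}) : Set (Opens X.toPresheafedSpace.carrier) := {U | IsAffineOpen (X := X) U}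

theorem isCoveredBy_affs (X : Scheme.{u}) :
    DLim.IsCoveredBy (Opens.grothendieckTopology X.toPresheafedSpace.carrier) (affs X) :=
  DLim.isCoveredBy_of_isBasis X.isBasis_affineOpens

variable (F : ℕ → X.Modules) (hF : ∀ n, Coh.IsQCoh (F n)) (t : ∀ n, F (n + 1) ⟶ F n)

include hF in
theorem good (n : ℕ) (V : Opens X.toPresheafedSpace.carrier) (hV : V ∈ affs X) :
    (schSecs X).Good (AlgSpDer.sK F n) 0 V := by
  intro q k hk
  by_cases hq : q = 0
  · subst hq
    obtain ⟨k, rfl⟩ : ∃ m, k = m + 1 := ⟨k - 1, by omega⟩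
    refine van_of_HU X.ringCatSheaf _ (k + 1) V ?_
    exact QCoh.subsingleton_HU_of_isAffineOpen
      ((SheafOfModules.isQuasicoherent X.ringCatSheaf).prop_of_iso (AlgSpDer.hIso (F n)).symm (hF n)) hV k
  · intro φ
    exact ((shiftFunctor _ (k : ℤ)).map_isZero
      ((DerivedCategory.singleFunctor X.Modules 0).map_isZero
        (AlgSpDer.isZero_homology_single (F n) hq))).eq_of_tgt _ _

include hF in
theorem surjective_hmap (ht : ∀ n, 1 ≤ n → Epi (t n)) (n : ℕ) (hn : 1 ≤ n) (q : ℤ)
    (V : Opens X.toPresheafedSpace.carrier) (hV : V ∈ affs X) :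
    Function.Surjective ((schSecs X).hmap (AlgSpDer.sT F t n) q V) := by
  by_cases hq : q = 0
  · subst hq
    haveI : Epi ((DerivedCategory.homologyFunctor X.Modules 0).map (AlgSpDer.sT F t n)) := by
      haveI := ht n hn
      have e : (DerivedCategory.homologyFunctor X.Modules 0).map (AlgSpDer.sT F t n) =
          ((AlgSpDer.hIso (F (n + 1))).hom ≫ t n) ≫ (AlgSpDer.hIso (F n)).inv := by
        rw [Iso.eq_comp_inv]
        exact AlgSpDer.hIso_naturality (t n)
      rw [e]
      infer_instance
    exact QCoh.app_surjective_of_epi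
      ((SheafOfModules.isQuasicoherent X.ringCatSheaf).prop_of_iso (AlgSpDer.hIso (F (n + 1))).symm (hF _))
      ((SheafOfModules.isQuasicoherent X.ringCatSheaf).prop_of_iso (AlgSpDer.hIso (F n)).symm (hF _))
      ((DerivedCategory.homologyFunctor X.Modules 0).map (AlgSpDer.sT F t n)) hV
  · intro y
    exact ⟨0, @Subsingleton.elim _ (AlgSpDer.subsingleton_sections_of_isZero (schSecs X)
      (AlgSpDer.isZero_homology_single (F n) hq) V) _ _⟩

include hF in
theorem isRlimVia [HasProduct (AlgSpDer.sK F)] (ht : ∀ n, 1 ≤ n → Epi (t n)) :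
    CohCx.IsRlimVia (AlgSpDer.sK F) (AlgSpDer.sT F t)
      ((DerivedCategory.singleFunctor X.Modules 0).obj (limit (Functor.ofOpSequence t)))
      (fun n => (DerivedCategory.singleFunctor X.Modules 0).map (limit.π (Functor.ofOpSequence t) (op n))) :=
  SingleTowerEv6.isRlimVia_single (schSecs X) F t (N := 1) (isCoveredBy_affs X) (good F hF)
    (surjective_hmap F hF t ht)

include hF in
theorem subsingleton_HHon_limit (ht : ∀ n, 1 ≤ n → Epi (t n)) (U : X.Opens) (hU : IsAffineOpen U)
    (p : ℕ) (hp : 0 < p) : Subsingleton (Coh.HHon X (limit (Functor.ofOpSequence t)) U p) := by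
  have hv := SingleTowerEv6.van_limit (schSecs X) F t (N := 1) (isCoveredBy_affs X) (good F hF)
    (surjective_hmap F hF t ht) (show U ∈ affs X from hU) p hp
  haveI : Subsingleton (CohTop.HU (X := X.toPresheafedSpace.carrier)
      (Coh.toAb (limit (Functor.ofOpSequence t))) p U) :=
    subsingleton_HU_of_van X.ringCatSheaf _ p U hv
  obtain ⟨e⟩ := SiteBase.nonempty_HU_addEquiv_H_restr (X := X.toPresheafedSpace.carrier) (U := U)
    (Coh.toAb (limit (Functor.ofOpSequence t))) p
  exact e.symm.toEquiv.subsingleton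

end Groth.Agent.SingleSch6
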