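import Groth.Statements.S1712
import Groth.Agent.RGammaI.DepthSupport
-- import your own Groth.Agent.* helpers here

set_option autoImplicit false
universe u
open CategoryTheory
attribute [local instance] HasDerivedCategory.standard
open Dual

namespace Groth.Agent.S1712

/-- Let A be a Noetherian local ring with a normalized dualizing complex ω, M a finite A-module and E^j
the A-module of maps M → ω[-j] in D(A). A prime p is in the support of one of E^0, …, E^i if and
only if the depth of M_p over A_p plus the dimension of A/p is at most i. -/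
theorem result (A : Type u) [CommRing A] [IsLocalRing A] [IsNoetherianRing A] (ω : Dual.D A) (hω : Dual.IsDualizing A ω) (hn : Dual.IsNormalized A ω) (M : Type u) [AddCommGroup M] [Module A M] [Module.Finite A M] (i : ℕ) (p : PrimeSpectrum A) : (∃ j : ℕ, j ≤ i ∧ p ∈ Module.support A (Dual.inD A M ⟶ ω⟦(-(j : ℤ))⟧)) ↔ ((LocCoh.depth (Localization.AtPrime p.asIdeal) (LocalizedModule p.asIdeal.primeCompl M) : ℕ∞) : WithBot ℕ∞) + ringKrullDim (A ⧸ p.asIdeal) ≤ (i : WithBot ℕ∞) := by
  obtain ⟨n, hn', -, -, hle, hdim⟩ := Groth.Agent.KFlatLib.exists_normalized_degree hω hn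
  obtain ⟨e, he, he'⟩ := hdim p
  rw [he]
  by_cases hp : p ∈ Module.support A M
  · haveI : Nontrivial (LocalizedModule p.asIdeal.primeCompl M) := Module.mem_support_iff.1 hp
    obtain ⟨δ, hδ⟩ := Groth.Agent.KFlatLib.exists_depth_eq (A := Localization.AtPrime p.asIdeal)
      (LocalizedModule p.asIdeal.primeCompl M)
    obtain ⟨hv, hnt⟩ := Groth.Agent.RGammaI.localized_ext_of_depth hω hn' M p δ hδ hp
    rw [hδ]
    constructor
    · rintro ⟨j, hj, hjp⟩
      rw [Module.mem_support_iff] at hjp
      have h : δ + e ≤ i := by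
        by_contra hc
        haveI := hv (-(j : ℤ)) (by omega)
        exact not_subsingleton (LocalizedModule p.asIdeal.primeCompl (Dual.inD A M ⟶ ω⟦-(j : ℤ)⟧)) inferInstance
      exact_mod_cast h
    · intro h
      have h' : δ + e ≤ i := by exact_mod_cast h
      refine ⟨δ + e, h', Module.mem_support_iff.2 ?_⟩
      rwa [show n p - (δ : ℤ) = -((δ + e : ℕ) : ℤ) by push_cast; omega] at hnt
  · refine iff_of_false ?_ ?_
    · rintro ⟨j, -, hjp⟩
      exact hp (Groth.Agent.KFlatLib.support_hom_subset M _ hjp)
    · haveI : Subsingleton (LocalizedModule p.asIdeal.primeCompl M) := Module.notMem_support_iff.1 hp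
      rw [show LocCoh.depth (Localization.AtPrime p.asIdeal) (LocalizedModule p.asIdeal.primeCompl M) = ⊤ by
        rw [LocCoh.depth, LocCoh.idealDepth, if_pos (Subsingleton.elim _ _)]]
      intro h
      have h2 : ((⊤ : ℕ∞) : WithBot ℕ∞) ≤ ((i : ℕ∞) : WithBot ℕ∞) :=
        le_trans (le_add_of_nonneg_right (by exact_mod_cast Nat.zero_le e)) h
      exact ENat.natCast_ne_top i (top_le_iff.1 (WithBot.coe_le_coe.1 h2))


end Groth.Agent.S1712
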