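import Groth.Statements.S4046
import Groth.Agent.H9LefPen.Irred

set_option autoImplicit false
set_option linter.style.haveILetI false
set_option backward.isDefEq.respectTransparency false
set_option backward.isDefEq.respectTransparency.types false
universe u
open CategoryTheory CategoryTheory.Limits AlgebraicGeometry
open LefPen

namespace Groth.Agent.S4046

/-- The dual variety is closed and irreducible: on the space of forms: let k be an algebraically closed
field and X an irreducible smooth proper k-scheme of dimension n ≥ 1 embedded in projective r-space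
by a closed immersion i, and let d ≥ 1. The degree-d forms whose hypersurface cuts X transversally
form a Zariski-open set, and its complement (the affine cone over the dual variety of the degree-d
embedding) is irreducible: if two polynomial functions f, g on the space of forms have product
vanishing at every non-transversal form, then one of them vanishes at every non-transversal form. -/
theorem result (k : Type u) [Field k] [IsAlgClosed k] (r n : ℕ) (hn : 1 ≤ n)
    {X : Scheme.{u}} (i : X ⟶ CohB1.ProjSpace r k) [IsClosedImmersion i] [IrreducibleSpace X]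
    [SmoothOfRelativeDimension n (i ≫ CohB1.ProjSpace.toSpec r k)]
    (d : ℕ) (hd : 1 ≤ d) :
    LefPen.IsZOpen k {H : LefPen.Form r k d |
      LefPen.Transversal k n 1 (LefPen.secToSpec i ({H} : Set (LefPen.Form r k d)))} ∧
    ∀ f g : LefPen.Form r k d → k, LefPen.IsPolyFun k f → LefPen.IsPolyFun k g →
      (∀ H : LefPen.Form r k d, ¬ LefPen.Transversal k n 1 (LefPen.secToSpec i ({H} : Set (LefPen.Form r k d))) →
        f H * g H = 0) →
      (∀ H : LefPen.Form r k d, ¬ LefPen.Transversal k n 1 (LefPen.secToSpec i ({H} : Set (LefPen.Form r k d))) → f H = 0) ∨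
      (∀ H : LefPen.Form r k d, ¬ LefPen.Transversal k n 1 (LefPen.secToSpec i ({H} : Set (LefPen.Form r k d))) → g H = 0) := by
  classical
  letI : X.Over (Spec (CommRingCat.of k)) := ⟨i ≫ CohB1.ProjSpace.toSpec r k⟩
  have hi : X ↘ Spec (CommRingCat.of k) = i ≫ CohB1.ProjSpace.toSpec r k := rfl
  haveI : SmoothOfRelativeDimension n (X ↘ Spec (CommRingCat.of k)) := ‹_›
  refine ⟨H9LefPen.isZOpen_transversal (n := n) hi hn, fun f g hf hg hfg => ?_⟩
  haveI := H9LefPen.finite_form (k := k) (r := r) d
  let b := Module.finBasis k (LefPen.Form r k d)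
  obtain ⟨p, hp⟩ := H9LefPen.exists_eval_of_isPolyFun b hf
  obtain ⟨q, hq⟩ := H9LefPen.exists_eval_of_isPolyFun b hg
  choose C hC t ht using fun x : X => H9LefPen.exists_chart' (i := i) (n := n) x
  haveI hdom : ∀ x, IsDomain (C x).B := fun x => (C x).isDomain (hC x)
  choose N hN using fun x => (C x).exists_rightInv hi hd (t x) (ht x) b
  let σ := fun x => (C x).sub b (N x)
  have hnot : ∀ (x : X) (H : LefPen.Form r k d), IsClosed ({x} : Set X) → H9LefPen.BadAt i H x →
      ¬ LefPen.Transversal k n 1 (LefPen.secToSpec i ({H} : Set (LefPen.Form r k d))) :=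
    fun x H hx hb hT => (H9LefPen.transversal_iff hi hn H).1 hT x hx hb
  have hzero : ∀ x, σ x p * σ x q = 0 := fun x => by
    rw [← map_mul]
    refine (C x).sub_eq_zero hi b (N x) (hN x) (p * q) 1 one_ne_zero fun z _ hz H hb => ?_
    rw [map_mul, ← hp, ← hq]
    exact hfg H (hnot z H hz hb)
  -- vanishing on one chart spreads to all the others
  have hspread : ∀ (p : MvPolynomial _ k) (x y : X), σ x p = 0 → σ y p = 0 := fun p x y h0 => by
    obtain ⟨w, hwx, hwy⟩ := nonempty_preirreducible_inter (C x).U.1.2 (C y).U.1.2 ⟨x, hC x⟩ ⟨y, hC y⟩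
    obtain ⟨s, hs, hws⟩ := (C y).U.2.exists_basicOpen_le (V := (C x).U.1) ⟨w, hwx⟩ hwy
    refine (C y).sub_eq_zero hi b (N y) (hN y) p s (fun h => ?_) fun z hz hzc H hb =>
      (C x).eval_eq_zero hi b (N x) p h0 (hs hz) hzc H hb
    rw [h, Scheme.basicOpen_zero] at hws
    exact hws
  have hend : ∀ (p : MvPolynomial _ k) (f : LefPen.Form r k d → k),
      (∀ H, f H = MvPolynomial.eval (fun l => b.repr H l) p) → (∀ x, σ x p = 0) →
      ∀ H, ¬ LefPen.Transversal k n 1 (LefPen.secToSpec i ({H} : Set (LefPen.Form r k d))) → f H = 0 := by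
    intro p f hp h0 H hH
    obtain ⟨x, hx, hb⟩ : ∃ x : X, IsClosed ({x} : Set X) ∧ H9LefPen.BadAt i H x := by
      by_contra! hall
      exact hH ((H9LefPen.transversal_iff hi hn H).2 hall)
    rw [hp]
    exact (C x).eval_eq_zero hi b (N x) p (h0 x) (hC x) hx H hb
  obtain ⟨x₀⟩ := (inferInstance : Nonempty X)
  rcases mul_eq_zero.1 (hzero x₀) with h | h
  · exact Or.inl (hend p f hp fun y => hspread p x₀ y h)
  · exact Or.inr (hend q g hq fun y => hspread q x₀ y h)


end Groth.Agent.S4046
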