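import Groth.Statements.S7635
import Groth.Agent.KunnethHH.Main
-- import your own Groth.Agent.* helpers here

set_option autoImplicit false
universe u
open CategoryTheory CategoryTheory.Limits AlgebraicGeometry
open scoped TensorProduct
open Variety

namespace Groth.Agent.S7635

/-- Let X and Y be quasi-compact schemes over a field k whose diagonal morphisms over k are affine (for
instance X and Y separated over k), F a quasi-coherent O_X-module and G a quasi-coherent O_Y-module.
Then for every n ≥ 0 the k-vector space H^n(X ×_k Y, pr_1^*F ⊗ pr_2^*G) is isomorphic to ⊕_{p+q=n}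
H^p(X, F) ⊗_k H^q(Y, G). (The published statement asserts that the canonical map built from
pullbacks and cup products is an isomorphism; this row asserts only that some k-linear isomorphism
exists.) -/
theorem result (k : Type u) [Field k] (X : Scheme.{u}) [X.Over (Spec (CommRingCat.of k))] [CompactSpace ↥X] [IsAffineHom (pullback.diagonal (X ↘ (Spec (CommRingCat.of k))))]
    (Y : Scheme.{u}) [Y.Over (Spec (CommRingCat.of k))] [CompactSpace ↥Y] [IsAffineHom (pullback.diagonal (Y ↘ (Spec (CommRingCat.of k))))]
    (F : X.Modules) (hF : Coh.IsQCoh F) (G : Y.Modules) (hG : Coh.IsQCoh G) (n : ℕ) :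
    letI : (pullback (X ↘ (Spec (CommRingCat.of k))) (Y ↘ (Spec (CommRingCat.of k)))).Over (Spec (CommRingCat.of k)) := ⟨pullback.fst (X ↘ (Spec (CommRingCat.of k))) (Y ↘ (Spec (CommRingCat.of k))) ≫ (X ↘ (Spec (CommRingCat.of k)))⟩
    Nonempty ((Π p : Fin (n + 1), Coh.HH X F (p : ℕ) ⊗[k] Coh.HH Y G (n - (p : ℕ))) ≃ₗ[k]
      Coh.HH (pullback (X ↘ (Spec (CommRingCat.of k))) (Y ↘ (Spec (CommRingCat.of k)))) (CohB1.tensorMod ((Scheme.Modules.pullback (pullback.fst (X ↘ (Spec (CommRingCat.of k))) (Y ↘ (Spec (CommRingCat.of k))))).obj F)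
        ((Scheme.Modules.pullback (pullback.snd (X ↘ (Spec (CommRingCat.of k))) (Y ↘ (Spec (CommRingCat.of k))))).obj G)) n) := by
    haveI : QuasiCompact (Y ↘ Spec (CommRingCat.of k)) := (quasiCompact_iff_compactSpace _).2 ‹_›
    haveI : QuasiSeparated (Y ↘ Spec (CommRingCat.of k)) := (quasiSeparated_iff _).2 inferInstance
    haveI : ∀ p : ℕ, Module.Flat k (Coh.HH X F p) := fun p => inferInstance
    have hfl : FlatMod.IsFlatOver (X ↘ Spec (CommRingCat.of k)) F := fun x => by
      let p := (X ↘ Spec (CommRingCat.of k)).base x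
      letI : Algebra k ((Spec (CommRingCat.of k)).presheaf.stalk p) := StructureSheaf.stalkAlgebra k p
      haveI : IsLocalization.AtPrime ((Spec (CommRingCat.of k)).presheaf.stalk p) p.asIdeal :=
        StructureSheaf.IsLocalization.to_stalk k p
      have hu : ∀ a ∈ p.asIdeal.primeCompl, IsUnit (a : k) := fun a ha =>
        IsUnit.mk0 a fun h => ha (by rw [h]; exact p.asIdeal.zero_mem)
      have hf : IsField ((Spec (CommRingCat.of k)).presheaf.stalk p) :=
        (IsLocalization.atUnits k p.asIdeal.primeCompl
          (S := (Spec (CommRingCat.of k)).presheaf.stalk p) hu).symm.toRingEquiv.toMulEquiv.isField (Field.toIsField k)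
      letI := hf.toField
      letI := FlatMod.moduleStalkOver (X ↘ Spec (CommRingCat.of k)) F x
      exact (inferInstance : Module.Flat ((Spec (CommRingCat.of k)).presheaf.stalk p) (F.presheaf.stalk x))
    exact KunnethHH.kunneth (A := k) (X₁ := X) (X₂ := Y) hF hG hfl this n

end Groth.Agent.S7635
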