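import Groth.Statements.S1364
import Groth.Agent.GeomLoci.ConnFlat
import Groth.Agent.FlatMisc.GeomRedConstr

set_option autoImplicit false
universe u
open FlatMor

namespace Groth.Agent.S1364

open AlgebraicGeometry CategoryTheory Limits in
/-- For a flat proper morphism of finite presentation whose geometric fibres are reduced, the function
on the target counting the connected components of the geometric fibres is locally constant. -/
theorem result {X S : Scheme.{u}} (f : X ⟶ S) [IsProper f] [Flat f] [LocallyOfFinitePresentation f] [GeometricallyReduced f] :
    IsLocallyConstant (fun s : ↑S => MoreMor.nGeomConnComp f s) := by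
  refine IsLocallyConstant.iff_eventually_eq _ |>.2 fun s => ?_
  obtain ⟨W, hW, h⟩ := GeomLoci.nGeomConnComp_le_nhds_flat f s
  exact Filter.mem_of_superset hW fun z hz => (h z hz).2 inferInstance

end Groth.Agent.S1364
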