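import Groth.Agent.Lib.CurveHiggsMax
import Groth.Agent.ConsPropLib.FibreLocFree

/-!
Quotients of semistable Higgs bundles by invariant subbundles of the same slope.
-/

set_option autoImplicit false
set_option linter.style.haveILetI false
set_option linter.unusedSectionVars false
set_option backward.isDefEq.respectTransparency false
set_option backward.isDefEq.respectTransparency.types false
set_option maxHeartbeats 1000000

universe u

open CategoryTheory CategoryTheory.Limits AlgebraicGeometry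

namespace Groth.Agent.HiggsSlope

open Groth.Agent.CurveBundle Groth.Agent.CurveSlope Groth.Agent.CurveStable Groth.Agent.CurveHiggs

variable {X : Scheme.{u}} (k : Type u) [Field k] [X.Over (Spec (CommRingCat.of k))] [IsIntegral X]
  [IsProper (X ↘ Spec (CommRingCat.of k))] [Smooth (X ↘ Spec (CommRingCat.of k))]

/-- Semistability of an `L`-valued pair, in generic ranks and degrees. -/
def IsSS {E L : X.Modules} (φ : E ⟶ (DCoh.tensorBi.obj E).obj L) : Prop :=
  ∀ (G : X.Modules) (j : G ⟶ E) (χ : G ⟶ (DCoh.tensorBi.obj G).obj L), Mono j → FlatMod.IsFinLocFree G →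
    χ ≫ twist L j = j ≫ φ → dg k G * (rk E : ℤ) ≤ dg k E * (rk G : ℤ)

theorem isSS_iff {E L : X.Modules} {r : ℕ} (hE : FlatMod.IsFinLocFreeOfRank r E)
    (φ : E ⟶ (DCoh.tensorBi.obj E).obj L) :
    IsSS k φ ↔ ∀ (G : X.Modules) (s : ℕ) (j : G ⟶ E) (χ : G ⟶ (DCoh.tensorBi.obj G).obj L), Mono j →
      0 < s → FlatMod.IsFinLocFreeOfRank s G → χ ≫ twist L j = j ≫ φ →
      Curv2.deg k X G s * (r : ℤ) ≤ Curv2.deg k X E r * (s : ℤ) := by
  haveI := isLocallyNoetherian' k (X := X)
  constructor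
  · intro h G s j χ hj _ hG hχ
    rw [deg_eq_dg k hG, deg_eq_dg k hE, ← rk_eq hE, ← rk_eq hG]
    exact h G j χ hj (isFinLocFree_of_rank hG) hχ
  · intro h G j χ hj hG hχ
    rcases Nat.eq_zero_or_pos (rk G) with h0 | h0
    · rw [h0, dg_eq_zero_of_isZero k (isZero_of_rk_zero hG h0)]
      simp
    · have := h G (rk G) j χ hj h0 (isFinLocFreeOfRank_rk hG) hχ
      rwa [deg_eq_dg k (isFinLocFreeOfRank_rk hG), deg_eq_dg k hE, ← rk_eq hE] at this

/-- An invariant subbundle of the slope of a semistable pair has a bundle quotient. -/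
theorem isFinLocFree_cokernel (hdim : topologicalKrullDim X = 1) {E F L : X.Modules}
    (hL : FlatMod.IsFinLocFree L) (hLi : PicF.IsInvertible L) (hE : FlatMod.IsFinLocFree E)
    (hF : FlatMod.IsFinLocFree F) (hE0 : 0 < rk E)
    {φ : E ⟶ (DCoh.tensorBi.obj E).obj L} (hss : IsSS k φ) (i : F ⟶ E) [Mono i]
    (ψ : F ⟶ (DCoh.tensorBi.obj F).obj L) (hψ : ψ ≫ twist L i = i ≫ φ)
    (hslope : dg k F * (rk E : ℤ) = dg k E * (rk F : ℤ)) :
    FlatMod.IsFinLocFree (cokernel i) := by
  haveI := CurveCohLib.isNoetherian_of_proper (k := k) (X := X)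
  have hEc := coh_of_free k hE
  have hFc := coh_of_free k hF
  obtain ⟨d, ⟨S, j, l, hj, hl, hS, hrS, hdS⟩, hd⟩ := Int.exists_greatest_of_bdd
    (P := fun d => ∃ (S : X.Modules) (j : S ⟶ E) (l : F ⟶ S), Mono j ∧ l ≫ j = i ∧
      FlatMod.IsFinLocFree S ∧ rk S = rk F ∧ dg k S = d)
    ⟨(Module.finrank k (Coh.HH X E 0) : ℤ) - (rk F : ℤ) * Curv2.euler k X (Coh.structureModule X),
      fun d ⟨S, j, l, hj, hl, hS, hr, hd⟩ => by
        haveI := hj
        rw [← hd, ← hr]
        exact dg_le_h0 k hdim.le j (coh_of_free k hS) hEc⟩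
    ⟨_, F, i, 𝟙 F, inferInstance, Category.id_comp _, hF, rfl, rfl⟩
  haveI := hj
  haveI : Mono l := by
    haveI : Mono (l ≫ j) := by rw [hl]; infer_instance
    exact mono_of_mono l j
  have hSc := coh_of_free k hS
  have hQc : Coh.IsCoh (cokernel j) := QCoh.isCoh_cokernel hSc.1 hEc j
  -- maximality makes the quotient by `S` a bundle
  have hQ : FlatMod.IsFinLocFree (cokernel j) := by
    by_contra hne
    obtain ⟨Q', q, hq, hQ', hrk, hdg⟩ := exists_quot_dg_lt k hdim.le hQc hne
    haveI := hq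
    haveI : Epi (cokernel.π j ≫ q) := epi_comp _ q
    have hK := QCoh.isCoh_kernel hEc hQ' (cokernel.π j ≫ q)
    have h1 := rk_add_coh k _ _ _ (shortExact_kernel_of_epi (cokernel.π j ≫ q)) hEc
    have h2 := rk_add_coh k _ _ _ (shortExact_cokernel_of_mono j) hEc
    have h3 := dg_add k _ _ _ (shortExact_kernel_of_epi (cokernel.π j ≫ q)) hK hEc hQ'
    have h4 := dg_add k _ _ _ (shortExact_cokernel_of_mono j) hSc hEc hQc
    have hz : i ≫ cokernel.π j ≫ q = 0 := by simp [← hl]
    have h5 := hd (dg k (kernel (cokernel.π j ≫ q))) ⟨kernel (cokernel.π j ≫ q), kernel.ι (cokernel.π j ≫ q),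
      kernel.lift _ i hz, inferInstance, kernel.lift_ι _ _ _,
      isFinLocFree_of_mono k hdim.le hK (kernel.ι (cokernel.π j ≫ q)) hE, by omega, rfl⟩
    omega
  -- `S` is invariant, as `S / F` is torsion
  have hx : (j ≫ φ) ≫ twist L (cokernel.π j) = 0 := by
    by_contra hne
    obtain ⟨I, π, m, hm, hπ, hfac, hK, hI, hrI, -, hpos, -⟩ :=
      exists_decomp k hdim.le hS (isFinLocFree_twist hLi hQ) ((j ≫ φ) ≫ twist L (cokernel.π j))
    have hker : l ≫ ((j ≫ φ) ≫ twist L (cokernel.π j)) = 0 := by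
      rw [← Category.assoc, ← Category.assoc, hl, ← hψ, ← hl, twist_comp]
      simp only [Category.assoc]
      rw [← twist_comp, cokernel.condition, twist_zero, comp_zero, comp_zero]
    haveI : Mono (kernel.lift _ l hker) := by
      haveI : Mono (kernel.lift _ l hker ≫ kernel.ι ((j ≫ φ) ≫ twist L (cokernel.π j))) := by
        rw [kernel.lift_ι]; infer_instance
      exact mono_of_mono _ (kernel.ι ((j ≫ φ) ≫ twist L (cokernel.π j)))
    have h6 := rk_le_of_mono k (kernel.lift _ l hker) (coh_of_free k hK)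
    have := hpos hne
    omega
  obtain ⟨χ, hχ⟩ := exists_lift hL j (cokernel.π j) (cokernel.condition j) (shortExact_cokernel_of_mono j)
    (j ≫ φ) hx
  have h7 := hss S j χ hj hS hχ
  rw [hrS, ← hslope] at h7
  have h8 : dg k S ≤ dg k F := le_of_mul_le_mul_right h7 (by exact_mod_cast hE0)
  haveI : IsIso l := by
    by_contra hni
    have := dg_lt_of_rk_eq k hdim.le l hFc hSc hrS.symm hni
    omega
  exact (ConsPropLib.isFinLocFree_iso ((cokernelIsoOfEq hl).symm ≪≫ cokernelEpiComp l j)).2 hQ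

/-- The quotient by an invariant subbundle of the same slope is semistable of that slope. -/
theorem isSS_cokernel (hdim : topologicalKrullDim X = 1) {E F L : X.Modules} (hL : FlatMod.IsFinLocFree L)
    (hE : FlatMod.IsFinLocFree E) (hF : FlatMod.IsFinLocFree F) (hE0 : 0 < rk E)
    {φ : E ⟶ (DCoh.tensorBi.obj E).obj L} (hss : IsSS k φ) (i : F ⟶ E) [Mono i]
    (hslope : dg k F * (rk E : ℤ) = dg k E * (rk F : ℤ)) (hQ : FlatMod.IsFinLocFree (cokernel i))
    {φ' : cokernel i ⟶ (DCoh.tensorBi.obj (cokernel i)).obj L}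
    (hφ' : cokernel.π i ≫ φ' = φ ≫ twist L (cokernel.π i)) : IsSS k φ' := by
  intro G j χ hj hG hχ
  haveI := hj
  haveI := isLocallyNoetherian' k (X := X)
  have hEc := coh_of_free k hE
  have hFc := coh_of_free k hF
  have hQc := coh_of_free k hQ
  have hGc := coh_of_free k hG
  have hC : Coh.IsCoh (cokernel j) := QCoh.isCoh_cokernel hGc.1 hQc j
  let p := cokernel.π i ≫ cokernel.π j
  haveI : Epi p := epi_comp _ _
  have hK := QCoh.isCoh_kernel hEc hC p
  have hPf := isFinLocFree_of_mono k hdim.le hK (kernel.ι p) hE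
  have hS : (ShortComplex.mk j (cokernel.π j) (cokernel.condition j)).ShortExact := shortExact_cokernel_of_mono j
  have hz : (kernel.ι p ≫ cokernel.π i) ≫ cokernel.π j = 0 := by
    rw [Category.assoc]; exact kernel.condition p
  let l := hS.exact.lift _ hz
  have hl : l ≫ j = kernel.ι p ≫ cokernel.π i := hS.exact.lift_f _ _
  have hx : (kernel.ι p ≫ φ) ≫ twist L p = 0 := by
    show (kernel.ι p ≫ φ) ≫ twist L (cokernel.π i ≫ cokernel.π j) = 0
    rw [twist_comp, Category.assoc, ← reassoc_of% hφ', ← reassoc_of% hl, ← reassoc_of% hχ, ← twist_comp,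
      cokernel.condition, twist_zero, comp_zero, comp_zero]
  obtain ⟨χ', hχ'⟩ := exists_lift hL _ p (kernel.condition p) (shortExact_kernel_of_epi p) (kernel.ι p ≫ φ) hx
  have h := hss (kernel p) (kernel.ι p) χ' inferInstance hPf hχ'
  have h1 := rk_add_coh k _ _ _ (shortExact_kernel_of_epi p) hEc
  have h2 := rk_add_coh k _ _ _ (shortExact_cokernel_of_mono i) hEc
  have h3 := dg_add k _ _ _ (shortExact_kernel_of_epi p) hK hEc hC
  have h4 := dg_add k _ _ _ (shortExact_cokernel_of_mono i) hFc hEc hQc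
  have h5 := rk_add_coh k _ _ _ hS hQc
  have h6 := dg_add k _ _ _ hS hGc hQc hC
  have h7 : rk (kernel p) = rk F + rk G := by omega
  have h8 : dg k (kernel p) = dg k F + dg k G := by omega
  rw [h7, h8] at h
  push_cast at h
  have h9 : (rk E : ℤ) = rk F + rk (cokernel i) := by exact_mod_cast h2
  have h10 : dg k G * (rk E : ℤ) ≤ dg k E * (rk G : ℤ) := by linarith
  have h11 := mul_le_mul_of_nonneg_right h10 (Int.natCast_nonneg (rk (cokernel i)))
  refine le_of_mul_le_mul_right ?_ (show (0 : ℤ) < rk E by exact_mod_cast hE0)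
  have h12 : dg k (cokernel i) * (rk E : ℤ) = dg k E * (rk (cokernel i) : ℤ) := by
    linear_combination (dg k E) * h9 - hslope - (rk E : ℤ) * h4
  nlinarith [h11, h12, mul_comm (dg k (cokernel i)) (rk E : ℤ)]

end Groth.Agent.HiggsSlope
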