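import Groth.Statements.S3788
import Groth.Agent.KRRReg.LamPull

set_option linter.style.haveILetI false
set_option backward.isDefEq.respectTransparency false
set_option backward.isDefEq.respectTransparency.types false
set_option autoImplicit false
universe v u
open CategoryTheory CategoryTheory.Limits AlgebraicGeometry
attribute [local instance] HasDerivedCategory.standard
open KRR

namespace Groth.Agent.S3788

/-- The relation satisfied by the tautological class: let X be a connected Noetherian scheme, E finite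
locally free of rank r + 1, and (π : P ⟶ X, O(1), q) its projective bundle P(E) (universal property
for invertible quotients of pull-backs of E), P connected Noetherian. With models of K(X), K(P), g =
π^K, e = [E] and ℓ = [O(1)]: Σ_{i=0}^{r+1} (-1)^i π^K(λ^i e) ℓ^{r+1-i} = 0 in K(P). -/
theorem result (X P : Scheme.{u}) [IsNoetherian X] [ConnectedSpace ↥X] [IsNoetherian P] [ConnectedSpace ↥P]
    (r : ℕ) (E : X.Modules) (hE : FlatMod.IsFinLocFreeOfRank (r + 1) E)
    (π : P ⟶ X) (O1 : P.Modules) (q : (Scheme.Modules.pullback π).obj E ⟶ O1) (hPB : KRR.IsProjBundle π E O1 q)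
    (KX : Type v) [CommRing KX] [LambdaRing.LambdaOps KX] (PX : LambdaRing.PosStructure KX) (φX : SGA6.Kvb X →+ KX) (hKX : KRR.IsModel X KX PX φX)
    (KP : Type v) [CommRing KP] [LambdaRing.LambdaOps KP] (PP : LambdaRing.PosStructure KP) (φP : SGA6.Kvb P →+ KP) (hKP : KRR.IsModel P KP PP φP)
    (g : KX →+ KP) (hg : KRR.IsPull π φX φP g) :
    ∑ i ∈ Finset.range (r + 2), (-1 : KP) ^ i * g (LambdaRing.LambdaOps.lam i (φX (KRR.cl X E))) * φP (KRR.cl P O1) ^ (r + 1 - i) = 0 := by
  obtain ⟨x₀⟩ := (inferInstance : Nonempty ↥P)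
  let G := (Scheme.Modules.pullback π).obj E
  have hEf := Groth.Agent.ExtPowSh.flf_of_rank hE
  have hG := Groth.Agent.KRRReg.isFinLocFreeOfRank_pullback π hE
  have hGf := Groth.Agent.ExtPowSh.flf_of_rank hG
  have hOf := Groth.Agent.ExtPowSh.flf_of_rank hPB.invertible
  haveI := hPB.epi
  let S := ShortComplex.mk (kernel.ι q) q (kernel.condition q)
  have hS : S.ShortExact :=
    { exact := ShortComplex.exact_kernel q, mono_f := inferInstance, epi_g := inferInstance }
  have hFf : FlatMod.IsFinLocFree S.X₁ := Groth.Agent.KZ.LFRes.pdlt_one_iff.1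
    (Groth.Agent.KZ.LFRes.PDLT.kernel_of hS (Groth.Agent.KZ.LFRes.pdlt_one_iff.2 hGf)
      ((Groth.Agent.KZ.LFRes.pdlt_one_iff.2 hOf).mono (Nat.le_succ _)))
  have hFr : FlatMod.IsFinLocFreeOfRank r S.X₁ := by
    have h := Groth.Agent.ExtPowSh.rk_add hS hFf hOf x₀
    rw [Groth.Agent.ExtPowSh.rk_eq hG x₀, Groth.Agent.ExtPowSh.rk_eq hPB.invertible x₀] at h
    rw [show r = Groth.Agent.ExtPowSh.rk S.X₁ x₀ by omega]
    exact Groth.Agent.ExtPowSh.isFinLocFreeOfRank_rk hFf x₀
  set f := φP (KRR.cl P S.X₁)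
  set l := φP (KRR.cl P O1)
  have hl : ∀ j, 2 ≤ j → LambdaRing.LambdaOps.lam j l = 0 := fun j hj =>
    PP.lam_eq_zero l ((hKP.mem_pos_iff l).2 ⟨1, O1, le_rfl, hPB.invertible, rfl⟩) j (by
      rw [hKP.aug_cl 1 O1 hPB.invertible]; exact_mod_cast hj)
  have hf : LambdaRing.LambdaOps.lam (r + 1) f = 0 := by
    have hq := Groth.Agent.QCoh.isQCoh_of_isFinLocFree hFf
    rw [hKP.map_lam (r + 1) S.X₁ _ hFf (Groth.Agent.ExtPowSh.isFinLocFree hFf)
      (Groth.Agent.ExtPowSh.isExtPow S.X₁ (r + 1) hq)]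
    have h0 : FlatMod.IsFinLocFreeOfRank 0 (Groth.Agent.ExtPowSh.L S.X₁ (r + 1)) :=
      Nat.choose_succ_self r ▸ Groth.Agent.ExtPowSh.isFinLocFreeOfRank hFr
    rw [show KRR.cl P (Groth.Agent.ExtPowSh.L S.X₁ (r + 1)) = 0 from
      Groth.Agent.KZ.clSub_isZero _ (Groth.Agent.ExtPowSh.isZero_of_rank_zero h0), map_zero]
  have hG' : φP (KRR.cl P G) = f + l := by
    rw [← map_add]
    exact congrArg φP (Groth.Agent.KZ.clSub_ses (KRR.vbP P) hS hFf hGf hOf)
  have hgl : ∀ i, g (LambdaRing.LambdaOps.lam i (φX (KRR.cl X E))) = LambdaRing.LambdaOps.lam i (f + l) := fun i => by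
    rw [Groth.Agent.KRRReg.pull_lam hKP hKX hg, hg E hEf, hG']
  have key : ∀ m : ℕ, ∑ i ∈ Finset.range (m + 1), (-1 : KP) ^ i *
      LambdaRing.LambdaOps.lam i (f + l) * l ^ (m - i) = (-1) ^ m * LambdaRing.LambdaOps.lam m f := by
    intro m
    induction m with
    | zero => simp [LambdaRing.LambdaOps.lam_zero]
    | succ m ih =>
      have hadd : LambdaRing.LambdaOps.lam (m + 1) (f + l) =
          LambdaRing.LambdaOps.lam m f * l + LambdaRing.LambdaOps.lam (m + 1) f := by
        rw [LambdaRing.LambdaOps.lam_add, Finset.sum_range_succ, Finset.sum_range_succ, Finset.sum_eq_zero,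
          show m + 1 - m = 1 by omega, Nat.sub_self, LambdaRing.LambdaOps.lam_one, LambdaRing.LambdaOps.lam_zero]
        · ring
        · intro i hi
          have := Finset.mem_range.1 hi
          rw [hl _ (by omega), mul_zero]
      have hstep : ∑ i ∈ Finset.range (m + 1), (-1 : KP) ^ i * LambdaRing.LambdaOps.lam i (f + l) * l ^ (m + 1 - i) =
          l * ∑ i ∈ Finset.range (m + 1), (-1 : KP) ^ i * LambdaRing.LambdaOps.lam i (f + l) * l ^ (m - i) := by
        rw [Finset.mul_sum]
        refine Finset.sum_congr rfl fun i hi => ?_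
        have := Finset.mem_range.1 hi
        rw [show m + 1 - i = m - i + 1 by omega, pow_succ]
        ring
      rw [Finset.sum_range_succ, hstep, ih, hadd, Nat.sub_self, pow_zero, pow_succ]
      ring
  simp only [hgl]
  rw [key (r + 1), hf, mul_zero]

end Groth.Agent.S3788
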