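import Groth.Statements.S1723
import Groth.Agent.KFlatLib.Ring.DualizingFibreRows
import Groth.Agent.KFlatLib.Ring.InvertibleTwist
import Groth.Agent.KFlatLib.Ring.ShriekBasic
import Groth.Agent.RGammaI.DepthSupport
import Groth.Agent.LC.GorDualizing
import Groth.Agent.LC.GorFlat
import Groth.Agent.LC.GorRing
import Groth.Agent.FlatLoc6.Cpl
import Groth.Agent.FlatLoc6.FiberRing

set_option autoImplicit false
universe u
open CategoryTheory
attribute [local instance] HasDerivedCategory.standard
open Dual

namespace Groth.Agent.S1723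

open Groth.Agent.KFlatLib in
/-- Flat base change along a map of rings extending all maximal ideals. -/
theorem dual_of_hom {R T : Type u} [CommRing R] [CommRing T] [IsNoetherianRing T] (φ : R →+* T)
    [DTen.HasLBase φ] {ω : Dual.D R} (hω : Dual.IsDualizing R ω) (hf : φ.Flat)
    (hmax : ∀ n : Ideal T, n.IsMaximal → ∃ I : Ideal R, I.map φ = n) :
    Dual.IsDualizing T ((DTen.LBase φ).obj ω) := by
  algebraize [φ]
  exact isDualizing_LBase hω hmax

open Groth.Agent.KFlatLib in
/-- Over a ring mapping flatly to a local ring through a field, that ring is Gorenstein. -/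
theorem gorenstein_of_field {K S : Type u} [Field K] [CommRing S] [IsLocalRing S] [IsNoetherianRing S]
    [Algebra K S] [DTen.HasLBase (algebraMap K S)] {ωK : Dual.D K} (hK : Dual.IsDualizing K ωK)
    (hS : Dual.IsDualizing S ((DTen.LBase (algebraMap K S)).obj ωK)) :
    LocCoh.IsGorensteinLocalRing S := by
  haveI := hasLTen K
  haveI := hasRHom (A := K)
  haveI := Groth.Agent.LC.gorensteinRing_of_isRegularRing K
  have hK' : Dual.IsDualizing K (Dual.inD K K) := by
    have h := (LocCoh.IsGorensteinRing.isGorensteinLocalRing_localization (A := K) (⊥ : Ideal K))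
    haveI := Groth.Agent.LC.gorenstein_of_ringEquiv (A := Localization.AtPrime (⊥ : Ideal K))
      (IsLocalization.atUnits K (⊥ : Ideal K).primeCompl fun x hx => isUnit_iff_ne_zero.2 fun h => hx (by
        rw [h]; exact Ideal.zero_mem _)).toRingEquiv.symm
    exact (Groth.Agent.LC.gorenstein_iff_isDualizing (A := K)).1 inferInstance
  obtain ⟨n, ⟨e⟩⟩ := exists_iso_shift_of_isDualizing hK' hK
  obtain ⟨eI⟩ := Groth.Agent.RGammaI.nonempty_LBase_inD (A := K) (B := S) K
  obtain ⟨es⟩ := nonempty_LBase_shift (algebraMap K S) n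
  let e' : (DTen.LBase (algebraMap K S)).obj ωK ≅ (Dual.inD S S)⟦n⟧ :=
    (DTen.LBase (algebraMap K S)).mapIso e ≪≫ es.app _ ≪≫
      (shiftFunctor (Dual.D S) n).mapIso (eI ≪≫ (DerivedCategory.singleFunctor (ModuleCat.{u} S) 0).mapIso
        (TensorProduct.AlgebraTensorModule.rid K S S).toModuleIso)
  have h1 := isDualizing_shift (isDualizing_of_iso e' hS) (-n)
  exact (Groth.Agent.LC.gorenstein_iff_isDualizing (A := S)).2
    (isDualizing_of_iso ((shiftEquiv (Dual.D S) n).unitIso.app (Dual.inD S S)).symm h1)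


/-- If a Noetherian local ring A has a dualizing complex, then each of its formal fibres is a Gorenstein
ring: for every prime p the ring A^ ⊗_A κ(p) (completion at the maximal ideal, tensored with the
residue field of p) is a Gorenstein ring. -/
theorem result (A : Type u) [CommRing A] [IsLocalRing A] [IsNoetherianRing A] (ω : Dual.D A) (hω : Dual.IsDualizing A ω) (p : PrimeSpectrum A) : LocCoh.IsGorensteinRing (EGA4.formalFibre A p.asIdeal) := by
  let C := EGA4.Cpl A
  haveI : IsLocalRing C := Groth.Agent.FlatLoc6.isLocalRing_cpl A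
  haveI : IsNoetherianRing C := Groth.Agent.FlatLoc6.isNoetherianRing_cpl A
  haveI : Module.FaithfullyFlat A C := Groth.Agent.FlatLoc6.faithfullyFlat_cpl A
  haveI : IsNoetherianRing (EGA4.formalFibre A p.asIdeal) :=
    Groth.Agent.FlatLoc6.isNoetherianRing_fiber (B := C) p.asIdeal
  refine { isGorensteinLocalRing_localization := fun Q _ => ?_ }
  obtain ⟨eL⟩ := Groth.Agent.FlatLoc6.exists_fibLocEquiv (B := C) p.asIdeal Q
  let q : Ideal C := Q.comap Algebra.TensorProduct.includeRight
  have hq : q.comap (algebraMap A C) = p.asIdeal := Groth.Agent.FlatLoc6.comap_fiber_prime p.asIdeal Q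
  let S := EGA4.FibLocRing A C q
  haveI : IsLocalRing S := eL.isLocalRing
  haveI : IsNoetherianRing (Localization.AtPrime q) :=
    IsLocalization.isNoetherianRing q.primeCompl (Localization.AtPrime q) inferInstance
  suffices hS : LocCoh.IsGorensteinLocalRing S from
    Groth.Agent.LC.gorenstein_of_ringEquiv (A := S) eL.symm
  -- the ring `D = A/p` and its base change `B`
  let P : Ideal A := q.comap (algebraMap A C)
  haveI : P.IsPrime := Ideal.comap_isPrime _ _
  let B := C ⧸ P.map (algebraMap A C)
  let φ : A ⧸ P →+* B := Ideal.quotientMap _ (algebraMap A C) Ideal.le_comap_map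
  have hφ : φ.Flat := RingHom.flat_algebraMap_iff.2 (Groth.Agent.LC.exists_quotientMap_flat (A := A) (B := C) P)
  let J := P.map (algebraMap A C)
  let J' := P.map (algebraMap A (Localization.AtPrime q))
  have hJ : J.map (algebraMap C (Localization.AtPrime q)) = J' := by
    rw [Ideal.map_map, ← IsScalarTower.algebraMap_eq]
  let ψ : B →+* S := Ideal.quotientMap J' (algebraMap C (Localization.AtPrime q))
    (by rw [← hJ]; exact Ideal.le_comap_map)
  have hψ : ψ.Flat := by
    haveI : Module.Flat C (Localization.AtPrime q) := IsLocalization.flat _ q.primeCompl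
    have h : (Ideal.quotientMap (J.map (algebraMap C (Localization.AtPrime q)))
        (algebraMap C (Localization.AtPrime q)) Ideal.le_comap_map).Flat :=
      RingHom.flat_algebraMap_iff.2 (Groth.Agent.LC.exists_quotientMap_flat (A := C) (B := Localization.AtPrime q) J)
    exact RingHom.Flat.comp h (RingHom.Flat.of_bijective (f := (Ideal.quotEquivOfEq hJ).toRingHom)
      (Ideal.quotEquivOfEq hJ).bijective) |> fun hh => by
        convert hh using 1
        exact Ideal.Quotient.ringHom_ext (RingHom.ext fun x => rfl)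
  obtain ⟨ωD, hD⟩ := Groth.Agent.KFlatLib.exists_isDualizing_of_surjective (Ideal.Quotient.mk P)
    Ideal.Quotient.mk_surjective hω
  haveI := Groth.Agent.KFlatLib.hasLBase φ
  haveI := Groth.Agent.KFlatLib.hasLBase ψ
  have hB : Dual.IsDualizing B ((DTen.LBase φ).obj ωD) := dual_of_hom φ hD hφ fun n hn => by
    have hC : (n.comap (Ideal.Quotient.mk (P.map (algebraMap A C)))).IsMaximal :=
      Ideal.comap_isMaximal_of_surjective _ Ideal.Quotient.mk_surjective
    refine ⟨(IsLocalRing.maximalIdeal A).map (Ideal.Quotient.mk P), ?_⟩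
    rw [Ideal.map_map, show φ.comp (Ideal.Quotient.mk P) = (Ideal.Quotient.mk _).comp (algebraMap A C) from rfl,
      ← Ideal.map_map, ← AdicCompletion.maximalIdeal_eq_map_of_fg (IsNoetherian.noetherian (IsLocalRing.maximalIdeal A)),
      ← IsLocalRing.eq_maximalIdeal hC, Ideal.map_comap_of_surjective _ Ideal.Quotient.mk_surjective]
  have hW : Dual.IsDualizing S ((DTen.LBase ψ).obj ((DTen.LBase φ).obj ωD)) := dual_of_hom ψ hB hψ fun n hn => by
    refine ⟨q.map (Ideal.Quotient.mk J), ?_⟩
    rw [IsLocalRing.eq_maximalIdeal hn, Ideal.map_map,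
      show ψ.comp (Ideal.Quotient.mk J) = (Ideal.Quotient.mk J').comp (algebraMap C (Localization.AtPrime q)) from rfl,
      ← Ideal.map_map, Localization.AtPrime.map_eq_maximalIdeal]
    have hl : IsLocalHom (Ideal.Quotient.mk J') := IsLocalHom.of_surjective _ Ideal.Quotient.mk_surjective
    rw [← ((IsLocalRing.local_hom_TFAE (Ideal.Quotient.mk J')).out 0 4 rfl rfl).mp hl,
      Ideal.map_comap_of_surjective _ Ideal.Quotient.mk_surjective]
  -- factor through the fraction field of `D`
  let K := FractionRing (A ⧸ P)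
  have hunit : ∀ y : nonZeroDivisors (A ⧸ P), IsUnit ((ψ.comp φ) y) := by
    rintro ⟨y, hy⟩
    obtain ⟨a, rfl⟩ := Ideal.Quotient.mk_surjective y
    have ha : a ∉ P := fun h => nonZeroDivisors.ne_zero hy (Ideal.Quotient.eq_zero_iff_mem.2 h)
    exact (IsLocalization.map_units (Localization.AtPrime q)
      (⟨algebraMap A C a, ha⟩ : q.primeCompl)).map (Ideal.Quotient.mk J')
  let κ : K →+* S := IsLocalization.lift hunit
  letI := κ.toAlgebra
  haveI : DTen.HasLBase (algebraMap K S) := Groth.Agent.KFlatLib.hasLBase _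
  haveI := Groth.Agent.KFlatLib.hasLBase (algebraMap (A ⧸ P) K)
  haveI := Groth.Agent.KFlatLib.hasLBase (ψ.comp φ)
  have hKf : (algebraMap (A ⧸ P) K).Flat :=
    RingHom.flat_algebraMap_iff.2 (IsLocalization.flat K (nonZeroDivisors (A ⧸ P)))
  have hKd := dual_of_hom (algebraMap (A ⧸ P) K) hD hKf fun n hn =>
    ⟨⊥, by rw [Ideal.map_bot, (Ideal.eq_bot_or_top n).resolve_right hn.ne_top]⟩
  obtain ⟨c1⟩ := Groth.Agent.KFlatLib.nonempty_LBase_comp φ ψ (ψ.comp φ) rfl
  obtain ⟨c2⟩ := Groth.Agent.KFlatLib.nonempty_LBase_comp (algebraMap (A ⧸ P) K) (algebraMap K S) (ψ.comp φ)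
    (IsLocalization.lift_comp hunit)
  exact gorenstein_of_field hKd (Groth.Agent.KFlatLib.isDualizing_of_iso ((c1 ≪≫ c2.symm).app ωD) hW)

end Groth.Agent.S1723
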