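import Groth.Statements.S0262
import Groth.Agent.FormalPatch.Extend

set_option linter.style.haveILetI false
set_option backward.isDefEq.respectTransparency false
set_option backward.isDefEq.respectTransparency.types false


set_option autoImplicit false
universe u
open Pi1

attribute [-instance] CategoryTheory.catToReflQuiver

namespace Groth.Agent.S0262

open AlgebraicGeometry CategoryTheory CategoryTheory.Limits in
/-- Let A be a Noetherian local ring with completion A^, U the punctured spectrum of A and U' its base
change to Spec A^. A finite etale cover V of U is the restriction of a finite etale cover of Spec A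
if and only if the base change of V to U' is the restriction of a finite etale cover of Spec A^. -/
theorem result (A : Type u) [CommRing A] [IsNoetherianRing A] [IsLocalRing A]
    (V : FEt.Cat (FEt.puncturedSpec A : Scheme.{u})) :
    (∃ Y : FEt.Cat (Spec (CommRingCat.of A)),
      Nonempty ((FEt.restrict (FEt.puncturedSpec A).ι).obj Y ≅ V)) ↔
    (∃ Y' : FEt.Cat (Spec (CommRingCat.of (AdicCompletion (IsLocalRing.maximalIdeal A) A))),
      Nonempty ((FEt.restrict (pullback.snd (FEt.puncturedSpec A).ι
        (Spec.map (CommRingCat.ofHom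
          (algebraMap A (AdicCompletion (IsLocalRing.maximalIdeal A) A)))))).obj Y' ≅
        (FEt.restrict (pullback.fst (FEt.puncturedSpec A).ι
        (Spec.map (CommRingCat.ofHom
          (algebraMap A (AdicCompletion (IsLocalRing.maximalIdeal A) A)))))).obj V)) := by
  let ι := (FEt.puncturedSpec A).ι
  let ρ := Spec.map (CommRingCat.ofHom (algebraMap A (AdicCompletion (IsLocalRing.maximalIdeal A) A)))
  constructor
  · rintro ⟨Y, ⟨e⟩⟩
    refine ⟨(FEt.restrict ρ).obj Y, ⟨?_ ≪≫ (FEt.restrict (pullback.fst ι ρ)).mapIso e⟩⟩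
    exact ((MorphismProperty.Over.pullbackComp (pullback.snd ι ρ) ρ).app Y).symm ≪≫
      (MorphismProperty.Over.pullbackCongr pullback.condition.symm).app Y ≪≫
      (MorphismProperty.Over.pullbackComp (pullback.fst ι ρ) ι).app Y
  · rintro ⟨Y', ⟨e⟩⟩
    haveI : IsFinite V.hom := V.prop.1
    haveI : IsFinite Y'.hom := Y'.prop.1
    obtain ⟨Y, y, t, s, hy, h1, h2⟩ := Groth.Agent.FormalPatch.exists_finite_extension A V.hom Y'.hom
      ((MorphismProperty.Over.forget FEt.prop ⊤ _ ⋙ Over.forget _).mapIso e.symm)
      (MorphismProperty.Over.w e.inv)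
    haveI : Module.Flat A (AdicCompletion (IsLocalRing.maximalIdeal A) A) := AdicCompletion.flat_of_isNoetherian _
    haveI : Module.FaithfullyFlat A (AdicCompletion (IsLocalRing.maximalIdeal A) A) :=
      Module.FaithfullyFlat.of_flat_of_isLocalHom
    have hρ : (@Surjective ⊓ @Flat ⊓ @QuasiCompact : MorphismProperty Scheme.{u}) ρ := by
      refine ⟨⟨⟨PrimeSpectrum.comap_surjective_of_faithfullyFlat⟩, ?_⟩, inferInstance⟩
      exact (HasRingHomProperty.Spec_iff (P := @Flat)).2 (RingHom.flat_algebraMap_iff.mpr inferInstance)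
    have het : Etale y :=
      MorphismProperty.of_isPullback_of_descendsAlong (P := @Etale) h2.flip hρ Y'.prop.2
    let Y₀ : FEt.Cat (Spec (CommRingCat.of A)) := MorphismProperty.Over.mk ⊤ y ⟨hy, het⟩
    exact ⟨Y₀, ⟨MorphismProperty.Over.isoMk h1.isoPullback.symm (h1.isoPullback_inv_snd)⟩⟩
end Groth.Agent.S0262
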