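import Groth.Statements.S0841
import Groth.Agent.H9FCoh.TorsRep
set_option backward.isDefEq.respectTransparency false
set_option backward.isDefEq.respectTransparency.types false
set_option linter.style.haveILetI false

set_option autoImplicit false
universe u
open Formal2

namespace Groth.Agent.S0841

open CategoryTheory AlgebraicGeometry Opposite in
/-- Let A be a Noetherian ring, I ⊆ 𝔞 ideals of A and U = Spec A ∖ V(𝔞). For every coherent formal
module (F_n) for I on U there are finite A-modules M_n with I^(n+1) M_n = 0 and A-linear maps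
M_{n+1} → M_n for which each induced map M_{n+1}/I^(n+1)M_{n+1} → M_n has 𝔞-power-torsion kernel and
cokernel (every element is killed by some power of 𝔞), together with an isomorphism between (F_n)
and the inverse system of restrictions to U of the quasi-coherent modules M̃_n on Spec A. Indexing:
position n here corresponds to index n + 1 of the published statement, so that M_n is killed by
I^(n+1). Only this direction (every coherent formal module arises in this manner) is stated; the
converse, that every such system of modules yields a coherent formal module, is not stated here. -/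
theorem result (A : Type u) [CommRing A] [IsNoetherianRing A]
    (I 𝔞 : Ideal A) (hI : I ≤ 𝔞) (F : ℕᵒᵖ ⥤ (↑(LocCoh.puncturedOpen A 𝔞) : Scheme.{u}).Modules)
    (hF : Formal.IsCohFormal I F) :
    ∃ (M : ℕ → Type u) (_ : ∀ n, AddCommGroup (M n)) (_ : ∀ n, Module A (M n)) (g : ∀ n, M (n + 1) →ₗ[A] M n),
      (∀ n, Module.Finite A (M n)) ∧ (∀ n, I ^ (n + 1) • (⊤ : Submodule A (M n)) = ⊥) ∧
      (∀ n (x : M (n + 1)), g n x = 0 → ∃ m : ℕ, ∀ a ∈ 𝔞 ^ m, a • x ∈ I ^ (n + 1) • (⊤ : Submodule A (M (n + 1)))) ∧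
      (∀ n (y : M n), ∃ m : ℕ, ∀ a ∈ 𝔞 ^ m, a • y ∈ LinearMap.range (g n)) ∧
      Nonempty (F ≅ Functor.ofOpSequence
        (X := fun n => (Scheme.Modules.restrictFunctor (LocCoh.puncturedOpen A 𝔞).ι).obj (Formal2.tmod A (M n)))
        (fun n => (Scheme.Modules.restrictFunctor (LocCoh.puncturedOpen A 𝔞).ι).map (Formal2.tmodMap A (g n)))) := by
  let X := Algz.sectMod A (LocCoh.puncturedOpen A 𝔞) F
  haveI : QuasiCompact (LocCoh.puncturedOpen A 𝔞).ι :=
    Groth.Agent.QCoh.quasiCompact_ι_of_compact _ (TopologicalSpace.NoetherianSpace.isCompact _)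
  have hle : ∀ a ∈ 𝔞, H9FCoh.bOpen (R := CommRingCat.of A) a ≤ LocCoh.puncturedOpen A 𝔞 :=
    fun a ha p hp h => hp (h ha)
  obtain ⟨M, hM, ht, hfin, hk, hker, hran⟩ := H9FCoh.exists_finite_subsystem (I := I) (𝔞 := 𝔞) X
    (fun n a ha => H9FCoh.finite_pushSecD (R := CommRingCat.of A) (hF.1 n) a (hle a ha))
    (fun n b hb x => H9FCoh.smul_pushSec_eq_zero (R := CommRingCat.of A) (hF.2.1 n) hb x)
    (fun n x hx a ha => H9FCoh.exists_pow_smul_mem_smul_push (R := CommRingCat.of A) _ (hF.2.2 n)
      (hF.1 (n + 1)).1 (hF.1 n).1 a (hle a ha) x hx)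
    (fun n a ha y => by
      haveI := (show Algz7.IsQuot (I ^ (n + 1)) (F.map (homOfLE (Nat.le_succ n)).op) from hF.2.2 n).epi
      exact H9FCoh.exists_pow_smul_mem_range_push (R := CommRingCat.of A)
        (F.map (homOfLE (Nat.le_succ n)).op) (hF.1 (n + 1)).1 (hF.1 n).1 a (hle a ha) y)
  refine ⟨fun n => M n, fun n => inferInstance, fun n => inferInstance,
    fun n => (X.map (homOfLE (Nat.le_succ n)).op).hom.restrict (hM n), hfin, hk, hker, hran, ?_⟩
  obtain ⟨θ⟩ := Algz7.nonempty_iso_sectSys (LocCoh.puncturedOpen A 𝔞) F (fun n => (hF.1 n).1)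
  obtain ⟨ψ⟩ := H9FCoh.nonempty_iso_restrict_sub (𝔞 := 𝔞) X M hM ht
  exact ⟨θ ≪≫ ψ.symm⟩

end Groth.Agent.S0841
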