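import Groth.Statements.S16489
import Groth.Agent.Ref1X.Big

set_option autoImplicit false
universe u
open CategoryTheory CategoryTheory.Limits AlgebraicGeometry TopologicalSpace
open VBPn

namespace Groth.Agent.S16489

/-- Let X be an integral locally Noetherian scheme all of whose local rings are regular, and F a
coherent O_X-module. Call F normal when for all open subsets V ⊆ U of X such that every point of U
not in V has local ring O_{X,x} of dimension at least 2, the restriction map F(U) → F(V) is
bijective. Then F is reflexive (the canonical map F → F^** is an isomorphism) if and only if F is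
torsion-free (each stalk F_x is a torsion-free O_{X,x}-module) and normal. The published statement
is for coherent analytic sheaves on a complex manifold, a sheaf being called normal when for every
open U and every analytic subset A ⊆ U of codimension at least 2 the restriction F(U) → F(U ∖ A) is
bijective; this row is its statement for coherent sheaves on a regular integral locally Noetherian
scheme, with normality phrased through open subsets V ⊆ U whose complement in U consists of points
with local ring of dimension at least 2, where the same argument applies. -/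
theorem result (X : Scheme.{u}) [IsIntegral X] [IsLocallyNoetherian X]
    (hreg : ∀ x : X, IsRegularLocalRing (X.presheaf.stalk x)) (F : X.Modules) (hF : Coh.IsCoh F) :
    RefHull.IsReflexive F ↔
      TorSh.IsTorsionFree F ∧
      (∀ (U V : X.Opens) (hVU : V ≤ U), (∀ x : X, x ∈ U → x ∉ V → (2 : WithBot ℕ∞) ≤ ringKrullDim (X.presheaf.stalk x)) →
        Function.Bijective (F.presheaf.map (homOfLE hVU).op)) := by
  have hX := Groth.Agent.Ref1X.isNormalScheme_of_regular hreg
  constructor
  · intro hr
    refine ⟨fun x => ?_, fun U V hVU hUV => ?_⟩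
    · haveI := (hX x).1
      haveI : Module.IsReflexive (X.presheaf.stalk x) (F.presheaf.stalk x) :=
        (Groth.Agent.RefX.isReflexive_iff hF).1 hr x
      exact Groth.Agent.Ref1X.isTorsionFree_of_isReflexive
    · have hinj := Groth.Agent.Ref1X.gsp_injective hF hr
      have hcd : ∀ z : X, z ∈ U → Order.coheight z ≤ 1 → z ∈ V := fun z hz hc => by
        by_contra hzV
        refine Groth.Agent.Ref1X.not_two_le_of_le_one ?_ (hUV z hz hzV)
        rw [ringKrullDim_stalk_eq_coheight]
        exact WithBot.coe_le_coe.2 hc
      show Function.Bijective (AModX.res F hVU)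
      by_cases hU : ∃ x₀ : X, x₀ ∈ U
      · obtain ⟨x₀, hx₀⟩ := hU
        have hη := Groth.Agent.Ref1X.eta_mem hx₀
        have hηV : genericPoint X ∈ V := hcd _ hη (le_of_eq_of_le
          (Order.coheight_eq_zero.2 fun z hz => Groth.Agent.Ref1X.eta_le z) zero_le_one)
        refine ⟨fun s t hst => Groth.Agent.Ref1X.eq_of_germ_eta hinj hx₀ ?_, fun s => ?_⟩
        · have h1 := congrArg (F.presheaf.germ V (genericPoint X) hηV) hst
          rwa [Groth.Agent.RefX.germ_res, Groth.Agent.RefX.germ_res] at h1
        · obtain ⟨t, ht⟩ := Groth.Agent.Ref1X.exists_section hinj hx₀ (F.presheaf.germ V (genericPoint X) hηV s)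
            fun y hy => Groth.Agent.Ref1X.mem_range_of_codim_one hX hF hr fun z hzy hz => by
              have hzV : z ∈ V := hcd z (hzy.mem_open U.isOpen hy) hz.le
              exact ⟨F.presheaf.germ V z hzV s, Groth.Agent.Ref1X.sp_germ (Groth.Agent.Ref1X.eta_le z) hzV s⟩
          refine ⟨t, Groth.Agent.Ref1X.eq_of_germ_eta hinj hηV ?_⟩
          rw [Groth.Agent.RefX.germ_res]
          exact ht
      · have hUe : ∀ y : X, y ∉ U := fun y hy => hU ⟨y, hy⟩
        exact ⟨fun s t _ => ZClosLib.section_ext F _ _ fun y hy => absurd hy (hUe y),
          fun s => ⟨0, ZClosLib.section_ext F _ _ fun y hy => absurd (hVU hy) (hUe y)⟩⟩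
  · rintro ⟨htf, hn⟩
    have hD := Groth.Agent.RefX.isCoh_dual hF
    have hR : Coh.IsCoh (RefHull.ddual F) := Groth.Agent.RefX.isCoh_dual hD
    have hopen := Groth.Agent.MiscSh16.isOpen_bijective_locus hF hR (RefHull.bidualMap F)
    have hout : ∀ x : X, x ∉ (⟨_, hopen⟩ : X.Opens) → (2 : WithBot ℕ∞) ≤ ringKrullDim (X.presheaf.stalk x) := by
      intro x hx
      by_contra hc
      haveI := htf x
      exact hx (Groth.Agent.Ref1X.bidual_bijective_of_free hF x
        (Groth.Agent.Ref1X.free_of_dim_le_one' hX hF (Groth.Agent.Ref1X.le_one_of_not_two_le hc)))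
    exact Groth.Agent.Ref1X.isIso_of_extendsAcross (U := ⟨_, hopen⟩) (RefHull.bidualMap F)
      (fun W => hn W (W ⊓ _) inf_le_left fun x hxW hx => hout x fun h => hx ⟨hxW, h⟩)
      (Groth.Agent.RefX.extendsAcross_reflexive hR (Groth.Agent.Ref1X.isReflexive_ddual hF)
        fun x hx => Groth.Agent.Ref1X.two_le_depth hX (hout x hx))
      fun x hx => hx

end Groth.Agent.S16489
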