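import Groth.Statements.S16490
import Groth.Agent.S16489
import Groth.Agent.QCoh.Extension
import Groth.Agent.TorLib.Basic
import Groth.Agent.ZClosLib.Basic

set_option autoImplicit false
universe u
open CategoryTheory CategoryTheory.Limits AlgebraicGeometry TopologicalSpace
open VBPn

namespace Groth.Agent.S16490

/-- Let X be an integral locally Noetherian scheme all of whose local rings are regular, and let 0 → F →
E → Q → 0 be a short exact sequence of coherent O_X-modules in which E is reflexive (the canonical
map E → E^** is an isomorphism) and Q is torsion-free (every stalk Q_x is a torsion-free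
O_{X,x}-module). Then F is normal: for all open subsets V ⊆ U of X such that every point of U not in
V has local ring of dimension at least 2, the restriction map F(U) → F(V) is bijective. The
published statement is for coherent analytic sheaves on a complex manifold, a sheaf being called
normal when for every open U and every analytic subset A ⊆ U of codimension at least 2 the
restriction F(U) → F(U ∖ A) is bijective; this row is its statement for coherent sheaves on a
regular integral locally Noetherian scheme, with normality phrased through open subsets V ⊆ U whose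
complement in U consists of points with local ring of dimension at least 2, where the same argument
applies. -/
theorem result (X : Scheme.{u}) [IsIntegral X] [IsLocallyNoetherian X]
    (hreg : ∀ x : X, IsRegularLocalRing (X.presheaf.stalk x)) (S : ShortComplex X.Modules) (hS : S.ShortExact)
    (hF : Coh.IsCoh S.X₁) (hE : Coh.IsCoh S.X₂) (hQ : Coh.IsCoh S.X₃)
    (hErefl : RefHull.IsReflexive S.X₂) (hQtf : TorSh.IsTorsionFree S.X₃) :
    (∀ (U V : X.Opens) (hVU : V ≤ U), (∀ x : X, x ∈ U → x ∉ V → (2 : WithBot ℕ∞) ≤ ringKrullDim (X.presheaf.stalk x)) →
        Function.Bijective (S.X₁.presheaf.map (homOfLE hVU).op)) := by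
  intro U V hVU hcodim
  have hE' := ((Groth.Agent.S16489.result X hreg S.X₂ hE).mp hErefl).2 U V hVU hcodim
  have nat1 : ∀ x, S.X₂.presheaf.map (homOfLE hVU).op (S.f.app U x) =
      S.f.app V (S.X₁.presheaf.map (homOfLE hVU).op x) := fun x =>
    (ConcreteCategory.congr_hom (S.f.mapPresheaf.naturality (homOfLE hVU).op) x).symm
  have nat2 : ∀ x, S.X₃.presheaf.map (homOfLE hVU).op (S.g.app U x) =
      S.g.app V (S.X₂.presheaf.map (homOfLE hVU).op x) := fun x =>
    (ConcreteCategory.congr_hom (S.g.mapPresheaf.naturality (homOfLE hVU).op) x).symm
  refine ⟨fun a b hab => ?_, fun t => ?_⟩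
  · apply Groth.Agent.QCoh.app_f_injective hS U
    apply hE'.1
    rw [nat1, nat1, hab]
  · obtain ⟨e, he⟩ := hE'.2 (S.f.app V t)
    have hge : S.g.app U e = 0 := by
      by_cases hU : genericPoint X ∈ U
      · have hV : genericPoint X ∈ V := by
          by_contra hn
          have h2 := hcodim _ hU hn
          have h0 : ringKrullDim (X.presheaf.stalk (genericPoint X)) = 0 := ringKrullDim_eq_zero_of_field X.functionField
          rw [h0] at h2
          exact absurd h2 (by decide)
        refine Groth.Agent.TorLib.eq_zero_of_germ_genericPoint hQ.1 hQtf hU _ ?_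
        have h3 : S.g.app V (S.f.app V t) = 0 := by
          have hz : (S.f ≫ S.g).app V = 0 := by rw [S.zero]; rfl
          exact ConcreteCategory.congr_hom hz t
        rw [← S.X₃.presheaf.germ_res_apply (homOfLE hVU) _ hV, nat2, he, h3, map_zero]
      · refine Groth.Agent.ZClosLib.section_ext S.X₃ _ _ fun y hy => ?_
        exact absurd (((genericPoint_spec X).specializes (Set.mem_univ y)).mem_open U.isOpen hy) hU
    obtain ⟨s, hs⟩ := Groth.Agent.QCoh.exists_app_f_eq hS U e hge
    refine ⟨s, Groth.Agent.QCoh.app_f_injective hS V ?_⟩
    rw [← nat1, hs, he]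

end Groth.Agent.S16490
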