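import Groth.Statements.S8973
import Mathlib

set_option autoImplicit false
open Synt

namespace Groth.Agent.S8973

open MvPolynomial Algebra

theorem etaleAt_of_jacobian {A : Type} [CommRing A] {m : ℕ} (v : Fin m → MvPolynomial (Fin m) A)
    (q : Ideal (MvPolynomial (Fin m) A ⧸ Ideal.span (Set.range v))) [q.IsPrime]
    (hq : Ideal.Quotient.mk _ (Matrix.of fun i j => pderiv i (v j)).det ∉ q) :
    Algebra.QuasiFiniteAt A q ∧ Algebra.IsEtaleAt A q := by
  classical
  let C := MvPolynomial (Fin m) A ⧸ Ideal.span (Set.range v)
  let P : PreSubmersivePresentation A C (Fin m) (Fin m) := PreSubmersivePresentation.naive id Function.injective_id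
  have hjac : P.jacobian = Ideal.Quotient.mk _ (Matrix.of fun i j => pderiv i (v j)).det := by
    rw [PreSubmersivePresentation.jacobian_eq_jacobiMatrix_det,
      show P.jacobiMatrix = Matrix.of fun i j => pderiv i (v j) from Matrix.ext fun i j => by
        rw [PreSubmersivePresentation.jacobiMatrix_apply]; rfl]
    rfl
  let T := Localization.Away P.jacobian
  have hu : IsUnit (algebraMap C T P.jacobian) := IsLocalization.Away.algebraMap_isUnit _
  let S0 : SubmersivePresentation A T (Unit ⊕ Fin m) (Unit ⊕ Fin m) :=
    { __ := (PreSubmersivePresentation.localizationAway T P.jacobian).comp P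
      jacobian_isUnit := by
        rw [PreSubmersivePresentation.comp_jacobian_eq_jacobian_smul_jacobian, Algebra.smul_def, IsUnit.mul_iff,
          PreSubmersivePresentation.localizationAway_jacobian]
        exact ⟨hu, hu⟩ }
  haveI : IsStandardSmoothOfRelativeDimension 0 A T := S0.isStandardSmoothOfRelativeDimension (by
    simp [Presentation.dimension])
  haveI : Algebra.Etale A T := inferInstance
  haveI : Algebra.QuasiFinite A T := inferInstance
  rw [← hjac] at hq
  letI : Algebra T (Localization.AtPrime q) :=
    (IsLocalization.Away.lift P.jacobian (IsLocalization.map_units (Localization.AtPrime q)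
      (⟨P.jacobian, hq⟩ : q.primeCompl))).toAlgebra
  haveI : IsScalarTower C T (Localization.AtPrime q) :=
    IsScalarTower.of_algebraMap_eq (R := C) (S := T) (A := Localization.AtPrime q) fun x =>
      (IsLocalization.Away.lift_eq P.jacobian (IsLocalization.map_units (Localization.AtPrime q)
        (⟨P.jacobian, hq⟩ : q.primeCompl)) x).symm
  haveI : IsScalarTower A T (Localization.AtPrime q) := IsScalarTower.of_algebraMap_eq fun x => by
    rw [IsScalarTower.algebraMap_apply A C (Localization.AtPrime q),
      IsScalarTower.algebraMap_apply C T (Localization.AtPrime q), ← IsScalarTower.algebraMap_apply A C T]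
  have hle : Submonoid.powers P.jacobian ≤ q.primeCompl := Submonoid.powers_le.2 hq
  haveI : IsLocalization (q.primeCompl.map (algebraMap C T)) (Localization.AtPrime q) :=
    IsLocalization.isLocalization_of_submonoid_le T (Localization.AtPrime q) (Submonoid.powers P.jacobian) q.primeCompl hle
  haveI : Algebra.FormallyEtale T (Localization.AtPrime q) :=
    Algebra.FormallyEtale.of_isLocalization (q.primeCompl.map (algebraMap C T))
  refine ⟨?_, Algebra.FormallyEtale.comp A T (Localization.AtPrime q)⟩
  haveI : Algebra.QuasiFinite T (Localization.AtPrime q) :=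
    Algebra.QuasiFinite.of_isLocalization (q.primeCompl.map (algebraMap C T))
  exact Algebra.QuasiFinite.trans A T (Localization.AtPrime q)

/-- Let n, d ≥ 1 and let B = A[x_1, …, x_n]/(f_1, …, f_n) be the universal algebra over A = ℤ[a_{i,E}],
f_i = Σ_E a_{i,E} x^E summed over exponent vectors E with |E| ≤ d. Then there is a prime q of B at
which B is quasi-finite over A and étale over A (that is, B_q is quasi-finite and formally étale
over A). (The published statement asserts a dense open V of the quasi-finite locus Y_{n,d} ⊆ Spec B
that is étale over Spec A; as Spec B is irreducible and the étale locus is open, that amounts to the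
existence of one such point, which is what is stated here and what the printed argument exhibits.) -/
theorem result (n d : ℕ) (hn : 1 ≤ n) (hd : 1 ≤ d) : ∃ q : PrimeSpectrum (Synt.UnivAlg n d), Algebra.QuasiFiniteAt (Synt.UnivBase n d) q.asIdeal ∧ Algebra.IsEtaleAt (Synt.UnivBase n d) q.asIdeal := by
  classical
  let α : UnivBase n d →+* ℤ := MvPolynomial.eval₂Hom (RingHom.id ℤ)
    fun p => if p.2.exponent = Finsupp.single p.1 1 then 1 else 0
  let ev : MvPolynomial (Fin n) (UnivBase n d) →+* ℤ := MvPolynomial.eval₂Hom α 0
  have hα : ∀ i E, α (X (i, E)) = if E.exponent = Finsupp.single i 1 then 1 else 0 := fun i E => by simp [α]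
  have hmono : ∀ (e : Fin n →₀ ℕ) c, ev (monomial e c) = if e = 0 then α c else 0 := fun e c => by
    show MvPolynomial.eval₂ α 0 (monomial e c) = _
    rw [eval₂_monomial]
    split_ifs with h
    · simp [h]
    · obtain ⟨j, hj⟩ := Finsupp.ne_iff.1 h
      rw [Finsupp.prod, Finset.prod_eq_zero (Finsupp.mem_support_iff.2 hj) (zero_pow hj), mul_zero]
  have hf : ∀ i, ev (univPoly n d i) = 0 := fun i => by
    rw [univPoly, map_sum]
    refine Finset.sum_eq_zero fun E _ => ?_
    rw [hmono, hα]
    split_ifs with h1 h2
    · exact absurd (h1.symm.trans h2) (by simp [eq_comm, Finsupp.single_eq_zero])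
    all_goals rfl
  have hex : ∀ i : Fin n, ∃ E : UnivIdx n d, E.exponent = Finsupp.single i 1 := fun i => by
    refine ⟨⟨fun j => if j = i then ⟨1, by omega⟩ else 0, ?_⟩, ?_⟩
    · rw [Finset.sum_eq_single i (fun j _ hj => by simp [hj]) (by simp)]
      simpa using hd
    · ext j
      rcases eq_or_ne j i with rfl | hj <;> simp [UnivIdx.exponent, *]
  have hinj : Function.Injective (UnivIdx.exponent (n := n) (d := d)) := fun E E' h => by
    refine Subtype.ext (funext fun j => Fin.ext ?_)
    exact DFunLike.congr_fun h j
  have hjac : ev (Matrix.of fun i j => pderiv i (univPoly n d j)).det = 1 := by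
    rw [RingHom.map_det, show ev.mapMatrix (Matrix.of fun i j => pderiv i (univPoly n d j)) = 1 from ?_, Matrix.det_one]
    refine Matrix.ext fun i j => ?_
    obtain ⟨E₀, hE₀⟩ := hex i
    show ev (pderiv i (univPoly n d j)) = _
    rw [univPoly, map_sum, map_sum, Finset.sum_eq_single E₀]
    · rw [pderiv_monomial, hE₀, hmono, Matrix.one_apply]
      simp [hα, hE₀, Finsupp.single_left_inj, eq_comm]
    · intro E _ hE
      rw [pderiv_monomial, hmono]
      split_ifs with h
      · have hne : E.exponent ≠ Finsupp.single i 1 := fun h' => hE (hinj (h'.trans hE₀.symm))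
        rcases Nat.eq_zero_or_pos (E.exponent i) with h0 | h0
        · simp [h0]
        · refine absurd ?_ hne
          exact le_antisymm (tsub_eq_zero_iff_le.1 h) (Finsupp.single_le_iff.2 h0)
      · rfl
    · simp
  have hker : univIdeal n d ≤ RingHom.ker ev := Ideal.span_le.2 (Set.range_subset_iff.2 hf)
  let evB : MvPolynomial (Fin n) (UnivBase n d) ⧸ univIdeal n d →+* ℤ := Ideal.Quotient.lift _ ev fun a ha => hker ha
  haveI : (RingHom.ker evB).IsPrime := RingHom.ker_isPrime evB
  have h := etaleAt_of_jacobian (univPoly n d) (RingHom.ker evB) (by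
    rw [RingHom.mem_ker]
    show ev _ ≠ 0
    rw [hjac]
    exact one_ne_zero)
  exact ⟨⟨RingHom.ker evB, inferInstanceAs (RingHom.ker evB).IsPrime⟩, h.1, h.2⟩

end Groth.Agent.S8973
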