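import Groth.Statements.S5866
import Groth.Agent.RadPtUnib.Scheme
import Mathlib.AlgebraicGeometry.Morphisms.UniversallyInjective

set_option autoImplicit false
universe u
open RadPt

namespace Groth.Agent.S5866

open CategoryTheory AlgebraicGeometry in
/-- Let f : X → Y be a morphism of schemes which is integral and whose induced morphism of reduced
schemes is birational. Then Y is geometrically unibranch (at every point) if and only if X is
geometrically unibranch and f is radicial (universally injective). -/
theorem result {X Y : Scheme.{u}} (f : X ⟶ Y) [IsIntegralHom f] (hf : RadPt.IsBirational f) :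
    (∀ y : Y, CAlg2.IsGeomUnibranch (Y.presheaf.stalk y)) ↔
      ((∀ x : X, CAlg2.IsGeomUnibranch (X.presheaf.stalk x)) ∧ UniversallyInjective f) := by
  have hI : UniversallyInjective f ↔
      Function.Injective f ∧ ∀ x, (f.residueFieldMap x).hom.IsPurelyInseparable :=
    (tfae_universallyInjective f).out 0 2
  constructor
  · intro h
    refine ⟨fun x => ((Groth.Agent.RadPtUnib.main f hf (f x)).mp (h _)).2 x rfl,
      hI.mpr ⟨fun a b hab => ?_, fun x => ?_⟩⟩
    · exact ((Groth.Agent.RadPtUnib.main f hf (f b)).mp (h _)).1.1 a b hab rfl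
    · exact ((Groth.Agent.RadPtUnib.main f hf (f x)).mp (h _)).1.2 x rfl
  · rintro ⟨hX, hinj⟩ y
    obtain ⟨h1, h2⟩ := hI.mp hinj
    exact (Groth.Agent.RadPtUnib.main f hf y).mpr
      ⟨⟨fun a b ha hb => h1 (ha.trans hb.symm), fun x _ => h2 x⟩, fun x _ => hX x⟩

end Groth.Agent.S5866
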