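import Groth.Statements.S5433
import Groth.Agent.Deform.MultUnipComp
import Groth.Agent.Deform.MultUnipSplit
import Groth.Agent.Deform.UnipDiag
import Groth.Agent.UnipExt.Trigonal
import Groth.Agent.UnipMu.Closure
import Groth.Agent.UnipConst.Basic
import Groth.Agent.UnipCrit.Crit
import Groth.Agent.GrpSchLib.SimpleFinite
import Groth.Agent.ComodLib.PrimCriteria
import Mathlib.FieldTheory.Galois.Infinite


set_option autoImplicit false
universe u
open TensorProduct
open SGA3

namespace Groth.Agent.S5433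
set_option linter.style.haveILetI false

open WithConv Groth.Agent.Deform

attribute [local instance] Groth.Agent.UnipComp.regComod

set_option maxHeartbeats 1000000 in
/-- The canonical retraction on the unipotent quotient. -/
theorem exists_retraction (k : Type u) [Field k] [PerfectField k] (A : Type u) [CommRing A] [HopfAlgebra k A]
    [Algebra.FiniteType k A] [Coalgebra.IsCocomm k A] (J : Ideal A) [J.IsHopfIdeal k]
    (hJ : SGA3b.IsMultTypeConst k (A ⧸ J))
    (hJmax : ∀ (I : Ideal A) [I.IsHopfIdeal k], SGA3b.IsMultTypeConst k (A ⧸ I) → J ≤ I) :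
    ∃ (B : Type u) (_ : CommRing B) (_ : HopfAlgebra k B) (φ : B →ₐc[k] A) (r : A →ₐc[k] B),
      HopfRep.IsUnipotent k B ∧ J = Ideal.map (φ : B →+* A) (RingHom.ker (Bialgebra.counitAlgHom k B)) ∧
      (∀ b, r (φ b) = b) ∧
      ∀ (U : Type u) [CommRing U] [HopfAlgebra k U] (q : A →ₐc[k] U), HopfRep.IsUnipotent k U →
        ∀ a, q a = q (φ (r a)) := by
  classical
  obtain ⟨J', hJ'i, hJ'm, hJ'max, B, _, _, φ, hφ, hJ'eq, hB, hcomp⟩ := MultUnip.exists_max_multType_comp k A
  haveI := hJ'i
  have hJJ' : J = J' := le_antisymm (hJmax J' hJ'm) (hJ'max J hJ)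
  let K := AlgebraicClosure k
  let T := K ⊗[k] B
  let AK := K ⊗[k] A
  let φK : T →ₐc[K] AK := Bialgebra.TensorProduct.map (BialgHom.id K K) φ
  have hφK : Function.Injective φK := Module.Flat.lTensor_preserves_injective_linearMap (M := K)
    (φ : B →ₐ[k] A).toLinearMap hφ
  obtain ⟨D, _, _, ψD, J'', hJ''i, hψD, hD, hJ'', hU''⟩ :=
    UnipExt.trigonal_iff.mp (ComodLib.PrimDiag.isTrigonalizable_of_isCocomm : HopfRep.IsTrigonalizable K AK)
  haveI := hJ''i
  obtain ⟨rD, hrD⟩ := UnipExt.exists_bialg_retraction hD ψD hψD J'' hJ'' hU''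
  obtain ⟨M, _, ⟨eM⟩⟩ := UnipComp.isDiag_of_span (K := K) (Q := D) fun x => (show Submodule.span K
    {g : D | IsGroupLikeElem K g} = ⊤ from hD) ▸ Submodule.mem_top
  let π : AK →ₐc[K] AK ⧸ J'' := Bialgebra.Quotient.mkBialgHom J''
  have hπg : ∀ g : AK, IsGroupLikeElem K g → π g = 1 := fun g hg => UnipMu.groupLike_eq_one hU'' (hg.map π)
  have hD0 : ∀ b, rD (φK b) = algebraMap K D (Coalgebra.counit (R := K) b) := fun b => eM.injective (by
    refine (UnipDiag.eq_counit (MultUnip.isUnipotent_baseChange K hB) ((eM : D →ₐc[K] MonoidAlgebra K M).comp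
      (rD.comp φK)) b).trans ?_
    exact (AlgHomClass.commutes eM _).symm)
  have hrange : ∀ x : AK, x ∈ ⨆ (g : AK) (_ : IsGroupLikeElem K g) (n : ℕ), UnipComp.F K g n :=
    fun x => UnipComp.top_le_iSup_F Submodule.mem_top
  have hdecomp : ∀ g : AK, IsGroupLikeElem K g → ∀ (n : ℕ) (v : AK), v ∈ UnipComp.F K g n → ∃ b, v = g * φK b := by
    intro g hg n v hv
    let h := HopfAlgebraStruct.antipode (R := K) g
    have hhv : h * v ∈ UnipComp.F K (1 : AK) n := by
      have := UnipComp.mul_groupLike_mem hg.antipode n hv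
      rwa [hg.antipode_mul_cancel] at this
    have h1 : (h * v) ∈ LinearMap.range (φK : T →ₐ[K] AK).toLinearMap := by
      refine (?_ : (UnipComp.F k (1 : A) n).baseChange K ≤ _) (UnipComp.F_baseChange_le n hhv)
      rw [Submodule.baseChange_eq_span, Submodule.span_le]
      rintro _ ⟨x, hx, rfl⟩
      obtain ⟨b, rfl⟩ := hcomp n x hx
      exact ⟨(1 : K) ⊗ₜ[k] b, rfl⟩
    obtain ⟨b, hb⟩ := h1
    refine ⟨b, ?_⟩
    rw [show φK b = h * v from hb, ← mul_assoc, hg.mul_antipode_cancel, one_mul]
  have hext : ∀ {Y : Type u} [CommRing Y] [Algebra K Y] (u v : AK →ₐ[K] Y),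
      (∀ b, u (φK b) = v (φK b)) → (∀ g, IsGroupLikeElem K g → u g = v g) → u = v := by
    intro Y _ _ u v h1 h2
    refine AlgHom.ext fun x => ?_
    have hle : (⨆ (g : AK) (_ : IsGroupLikeElem K g) (n : ℕ), UnipComp.F K g n) ≤
        LinearMap.eqLocus u.toLinearMap v.toLinearMap := by
      refine iSup₂_le fun g hg => iSup_le fun n y hy => ?_
      obtain ⟨b, rfl⟩ := hdecomp g hg n y hy
      show u (g * φK b) = v (g * φK b)
      rw [map_mul, map_mul, h1, h2 g hg]
    exact hle (hrange x)
  have hbij : Function.Bijective (π.comp φK) := by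
    constructor
    · refine (injective_iff_map_eq_zero (π.comp φK : T →ₐc[K] AK ⧸ J'')).mpr fun b hb => ?_
      have h := MultUnip.splitMap_comp J'' rD φK hD0 b
      rw [show Ideal.Quotient.mk J'' (φK b) = 0 from hb, TensorProduct.zero_tmul] at h
      exact hφK (((MultUnip.bijective_splitMap J'' rD ψD (fun d => DFunLike.congr_fun hrD d) hJ'').1
        (h.trans (map_zero _).symm)).trans (map_zero φK).symm)
    · intro y
      obtain ⟨x, rfl⟩ := Ideal.Quotient.mk_surjective y
      have hle : (⨆ (g : AK) (_ : IsGroupLikeElem K g) (n : ℕ), UnipComp.F K g n) ≤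
          (LinearMap.range ((π.comp φK : T →ₐc[K] AK ⧸ J'') : T →ₐ[K] AK ⧸ J'').toLinearMap).comap
            (π : AK →ₐ[K] AK ⧸ J'').toLinearMap := by
        refine iSup₂_le fun g hg => iSup_le fun n z hz => ?_
        obtain ⟨b, rfl⟩ := hdecomp g hg n z hz
        refine ⟨b, ?_⟩
        show π (φK b) = π (g * φK b)
        rw [map_mul, hπg g hg, one_mul]
      exact hle (hrange x)
  let eπ := BialgEquiv.ofBijective (π.comp φK) hbij
  let rK : AK →ₐc[K] T := (eπ.symm : AK ⧸ J'' →ₐc[K] T).comp π
  have hrK : ∀ b, rK (φK b) = b := fun b => eπ.symm_apply_apply b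
  have hrKg : ∀ g : AK, IsGroupLikeElem K g → rK g = 1 := fun g hg => by
    show eπ.symm (π g) = 1
    rw [hπg g hg, map_one]
  let f : A →ₐ[k] T := ((rK : AK →ₐ[K] T).restrictScalars k).comp Algebra.TensorProduct.includeRight
  have hfφ : ∀ b, f (φ b) = (1 : K) ⊗ₜ[k] b := fun b => hrK ((1 : K) ⊗ₜ[k] b)
  have hinv : ∀ (σ : K ≃ₐ[k] K) a, Algebra.TensorProduct.map σ.toAlgHom (AlgHom.id k B) (f a) = f a := by
    intro σ a
    let u : AK →ₐ[K] T := Algebra.TensorProduct.lift (Algebra.ofId K T)
      ((Algebra.TensorProduct.map σ.toAlgHom (AlgHom.id k B)).comp f) fun _ _ => Commute.all _ _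
    have hu : ∀ (c : K) (x : A), u (c ⊗ₜ[k] x) = algebraMap K T c *
        Algebra.TensorProduct.map σ.toAlgHom (AlgHom.id k B) (f x) :=
      fun c x => Algebra.TensorProduct.lift_tmul _ _ _ _ _
    have hσK : ∀ z, u z = Algebra.TensorProduct.map σ.toAlgHom (AlgHom.id k B)
        (rK (Algebra.TensorProduct.map σ.symm.toAlgHom (AlgHom.id k A) z)) := fun z => by
      induction z using TensorProduct.induction_on with
      | zero => simp
      | add p q hp hq => simp only [map_add, hp, hq]
      | tmul c x =>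
        rw [hu, Algebra.TensorProduct.map_tmul,
          show σ.symm.toAlgHom c ⊗ₜ[k] (AlgHom.id k A) x = σ.symm c • ((1 : K) ⊗ₜ[k] x) by
            rw [TensorProduct.smul_tmul', smul_eq_mul, mul_one]; rfl,
          map_smul, Algebra.smul_def, map_mul,
          show algebraMap K T (σ.symm c) = σ.symm c ⊗ₜ[k] (1 : B) from rfl,
          Algebra.TensorProduct.map_tmul, show σ.toAlgHom (σ.symm c) = c from σ.apply_symm_apply c]
        rfl
    have hue : u = (rK : AK →ₐ[K] T) := by
      refine hext u _ (fun b => ?_) fun g hg => ?_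
      · refine Eq.trans ?_ (hrK b).symm
        induction b using TensorProduct.induction_on with
        | zero => simp
        | add p q hp hq => simp only [map_add, hp, hq]
        | tmul c x =>
          show u (c ⊗ₜ[k] φ x) = _
          rw [hu, hfφ, Algebra.TensorProduct.map_tmul, map_one, AlgHom.id_apply,
            show algebraMap K T c = c ⊗ₜ[k] (1 : B) from rfl, Algebra.TensorProduct.tmul_mul_tmul, mul_one,
            one_mul]
      · rw [hσK, hrKg _ (MultUnip.isGroupLike_map σ.symm.toAlgHom hg), map_one]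
        exact (hrKg g hg).symm
    have h := AlgHom.congr_fun hue ((1 : K) ⊗ₜ[k] a)
    rw [hu, map_one, one_mul] at h
    exact h
  have hrng : ∀ a, f a ∈ (Algebra.TensorProduct.includeRight : B →ₐ[k] T).range := by
    intro a
    let b := Module.Free.chooseBasis k B
    let bK := Algebra.TensorProduct.basis K b
    have hrep : ∀ (σ : K ≃ₐ[k] K) (t : T) i,
        bK.repr (Algebra.TensorProduct.map σ.toAlgHom (AlgHom.id k B) t) i = σ (bK.repr t i) := by
      intro σ t i
      induction t using TensorProduct.induction_on with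
      | zero => simp
      | tmul x c => simp [bK, Algebra.TensorProduct.basis_repr_tmul, Algebra.smul_def]
      | add p q hp hq => simp only [map_add, Finsupp.add_apply, hp, hq]
    rw [← bK.linearCombination_repr (f a), Finsupp.linearCombination_apply]
    refine Subalgebra.sum_mem _ fun i _ => ?_
    obtain ⟨c, hc⟩ := (InfiniteGalois.mem_range_algebraMap_iff_fixed (k := k) (bK.repr (f a) i)).mpr fun σ => by
      rw [← hrep, hinv]
    show bK.repr (f a) i • bK i ∈ _
    rw [← hc, algebraMap_smul, show bK i = (1 : K) ⊗ₜ[k] b i from Algebra.TensorProduct.basis_apply b i]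
    exact Subalgebra.smul_mem _ ((Algebra.TensorProduct.includeRight : B →ₐ[k] T).mem_range_self (b i)) c
  have hincl : Function.Injective (Algebra.TensorProduct.includeRight : B →ₐ[k] T) :=
    Algebra.TensorProduct.includeRight_injective (algebraMap k K).injective
  let e := AlgEquiv.ofInjective (Algebra.TensorProduct.includeRight : B →ₐ[k] T) hincl
  let r₀ : A →ₐ[k] B := e.symm.toAlgHom.comp (f.codRestrict _ hrng)
  have hr₀ : ∀ a, (1 : K) ⊗ₜ[k] r₀ a = f a := fun a => congrArg Subtype.val (e.apply_symm_apply ⟨f a, hrng a⟩)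
  let r : A →ₐc[k] B := BialgHom.ofAlgHom r₀
    (AlgHom.ext fun a => (algebraMap k K).injective (by
      have h : Coalgebra.counit (R := K) ((1 : K) ⊗ₜ[k] r₀ a) = Coalgebra.counit (R := K) ((1 : K) ⊗ₜ[k] a) := by
        rw [hr₀]; exact CoalgHomClass.counit_comp_apply rK _
      rw [TensorProduct.counit_tmul, TensorProduct.counit_tmul] at h
      simpa [Algebra.algebraMap_eq_smul_one] using h))
    (AlgHom.ext fun a => by
      apply Algebra.TensorProduct.includeRight_injective (R := k) (A := K) (algebraMap k K).injective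
      apply (TensorProduct.AlgebraTensorModule.distribBaseChange k K B B).injective
      have h := CoalgHomClass.map_comp_comul_apply rK ((1 : K) ⊗ₜ[k] a)
      rw [show rK ((1 : K) ⊗ₜ[k] a) = (1 : K) ⊗ₜ[k] r₀ a from (hr₀ a).symm,
        Groth.Agent.ComodLib.PrimDiag.comul_one_tmul, Groth.Agent.ComodLib.PrimDiag.comul_one_tmul] at h
      refine Eq.trans ?_ h
      show TensorProduct.AlgebraTensorModule.distribBaseChange k K B B ((1 : K) ⊗ₜ[k]
        Algebra.TensorProduct.map r₀ r₀ (Coalgebra.comul (R := k) a)) = _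
      induction Coalgebra.comul (R := k) a using TensorProduct.induction_on with
      | zero => simp
      | tmul x y =>
        simp [TensorProduct.AlgebraTensorModule.distribBaseChange]
        rw [hr₀, hr₀]
        rfl
      | add x y hx hy => simp only [map_add, TensorProduct.tmul_add, hx, hy])
  refine ⟨B, inferInstance, inferInstance, φ, r, hB, hJJ'.trans hJ'eq, fun b => hincl ((hr₀ (φ b)).trans (hfφ b)),
    fun U _ _ q hU a => ?_⟩
  let qK : AK →ₐc[K] K ⊗[k] U := Bialgebra.TensorProduct.map (BialgHom.id K K) q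
  have hqK : (qK : AK →ₐ[K] K ⊗[k] U) = ((qK.comp φK).comp rK : AK →ₐc[K] K ⊗[k] U) := by
    refine hext _ _ (fun b => ?_) fun g hg => ?_
    · show qK (φK b) = qK (φK (rK (φK b)))
      rw [hrK]
    · show qK g = qK (φK (rK g))
      rw [hrKg g hg, map_one, map_one]
      exact UnipConst.groupLike_baseChange_eq_one K hU (hg.map qK)
  apply Algebra.TensorProduct.includeRight_injective (R := k) (A := K) (algebraMap k K).injective
  show (1 : K) ⊗ₜ[k] q a = (1 : K) ⊗ₜ[k] q (φ (r a))
  have h := AlgHom.congr_fun hqK ((1 : K) ⊗ₜ[k] a)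
  change qK ((1 : K) ⊗ₜ[k] a) = qK (φK (rK ((1 : K) ⊗ₜ[k] a))) at h
  rw [show rK ((1 : K) ⊗ₜ[k] a) = (1 : K) ⊗ₜ[k] r₀ a from (hr₀ a).symm] at h
  exact h

/-- Let k be a perfect field and A a finitely generated commutative and cocommutative Hopf algebra over
k (a commutative affine algebraic group G). Let J be the Hopf ideal of the largest subgroup of
multiplicative type M (A/J is of multiplicative type and J lies in every Hopf ideal whose quotient
is of multiplicative type). Then there is exactly one Hopf ideal I of A (a unipotent subgroup U)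
such that A/I is unipotent in the fixed-vector sense and the map A → (A/J) ⊗ (A/I), a ↦ Σ ā₁ ⊗ ā₂
(the comorphism of the multiplication M × U → G), is bijective. -/
theorem result (k : Type u) [Field k] [PerfectField k] (A : Type u) [CommRing A] [HopfAlgebra k A] [Algebra.FiniteType k A]
    [Coalgebra.IsCocomm k A] (J : Ideal A) [J.IsHopfIdeal k] (hJ : SGA3b.IsMultTypeConst k (A ⧸ J))
    (hJmax : ∀ (I : Ideal A) [I.IsHopfIdeal k], SGA3b.IsMultTypeConst k (A ⧸ I) → J ≤ I) :
    ∃! I : Ideal A, ∃ (_ : I.IsHopfIdeal k), HopfRep.IsUnipotent k (A ⧸ I) ∧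
      Function.Bijective ((Algebra.TensorProduct.map (Ideal.Quotient.mkₐ k J) (Ideal.Quotient.mkₐ k I)).comp
        (Bialgebra.comulAlgHom k A)) := by
  classical
  obtain ⟨B, _, _, φ, r, hB, hJeq, hr, hq⟩ := exists_retraction k A J hJ hJmax
  have hsurj : Function.Surjective r := fun b => ⟨φ b, hr b⟩
  let I : Ideal A := RingHom.ker (r : A →ₐ[k] B)
  haveI hI : I.IsHopfIdeal k := GrpSchLib.isHopfIdeal_ker r fun a ha => by
    rw [← GrpSchLib.HopfGalois.antipode_bialgHom r a, ha, map_zero]
  have hbij := MultUnip.bijective_splitMap J r φ hr hJeq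
  have hu : ∀ (I' : Ideal A) [I'.IsHopfIdeal k], HopfRep.IsUnipotent k (A ⧸ I') →
      ∀ a, Ideal.Quotient.mk I' a = Ideal.Quotient.mk I' (φ (r a)) :=
    fun I' _ hU a => hq (A ⧸ I') (Bialgebra.Quotient.mkBialgHom I') hU a
  -- the product map through `r`
  have hfac : ∀ (I' : Ideal A) [I'.IsHopfIdeal k], HopfRep.IsUnipotent k (A ⧸ I') → ∀ a,
      (Algebra.TensorProduct.map (Ideal.Quotient.mkₐ k J) (Ideal.Quotient.mkₐ k I')).comp
          (Bialgebra.comulAlgHom k A) a =
        Algebra.TensorProduct.map (AlgHom.id k (A ⧸ J)) ((Ideal.Quotient.mkₐ k I').comp (φ : B →ₐ[k] A))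
          (MultUnip.splitMap J r a) := by
    intro I' _ hU a
    show Algebra.TensorProduct.map (Ideal.Quotient.mkₐ k J) (Ideal.Quotient.mkₐ k I') (Coalgebra.comul (R := k) a) =
      Algebra.TensorProduct.map _ _ (Algebra.TensorProduct.map (Ideal.Quotient.mkₐ k J) (r : A →ₐ[k] B)
        (Coalgebra.comul (R := k) a))
    induction Coalgebra.comul (R := k) a using TensorProduct.induction_on with
    | zero => simp
    | add p q hp hq => simp only [map_add, hp, hq]
    | tmul x y =>
      simp only [Algebra.TensorProduct.map_tmul]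
      rw [show (Ideal.Quotient.mkₐ k I') y = ((Ideal.Quotient.mkₐ k I').comp (φ : B →ₐ[k] A)) ((r : A →ₐ[k] B) y)
        from hu I' hU y]
      rfl
  have hkerle : ∀ (I' : Ideal A) [I'.IsHopfIdeal k], HopfRep.IsUnipotent k (A ⧸ I') → I ≤ I' := by
    intro I' _ hU a ha
    rw [← Ideal.Quotient.eq_zero_iff_mem, hu I' hU a, show r a = 0 from ha, map_zero, map_zero]
  let u : B →ₐc[k] A ⧸ I := (Bialgebra.Quotient.mkBialgHom I : A →ₐc[k] A ⧸ I).comp φ
  have hu1 : Function.Injective u := (injective_iff_map_eq_zero u).mpr fun b hb => by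
    have : r (φ b) = 0 := Ideal.Quotient.eq_zero_iff_mem.mp (show Ideal.Quotient.mk I (φ b) = 0 from hb)
    rwa [hr] at this
  have hu2 : Function.Surjective u := fun y => by
    obtain ⟨a, rfl⟩ := Ideal.Quotient.mk_surjective y
    refine ⟨r a, Ideal.Quotient.eq.mpr ?_⟩
    show r (φ (r a) - a) = 0
    rw [map_sub, hr, sub_self]
  have hUI : HopfRep.IsUnipotent k (A ⧸ I) := UnipCrit.isUnipotent_of_surjective u hu2 hB
  refine ⟨I, ⟨hI, hUI, ?_⟩, ?_⟩
  · let e := Algebra.TensorProduct.congr (AlgEquiv.refl (R := k) (A₁ := A ⧸ J))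
      (AlgEquiv.ofBijective (u : B →ₐ[k] A ⧸ I) ⟨hu1, hu2⟩)
    rw [show ⇑((Algebra.TensorProduct.map (Ideal.Quotient.mkₐ k J) (Ideal.Quotient.mkₐ k I)).comp
        (Bialgebra.comulAlgHom k A)) = e ∘ MultUnip.splitMap J r from funext fun a => hfac I hUI a]
    exact e.bijective.comp hbij
  · rintro I' ⟨hI', hU', hb'⟩
    haveI := hI'
    refine le_antisymm (fun a ha => ?_) (hkerle I' hU')
    show r a = 0
    obtain ⟨x, hx⟩ := hbij.2 ((1 : A ⧸ J) ⊗ₜ[k] r a)
    have h0 : x = 0 := hb'.1 (by
      rw [map_zero, hfac I' hU', hx, Algebra.TensorProduct.map_tmul]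
      show _ ⊗ₜ[k] Ideal.Quotient.mk I' (φ (r a)) = 0
      rw [← hu I' hU' a, Ideal.Quotient.eq_zero_iff_mem.mpr ha, TensorProduct.tmul_zero])
    rw [h0, map_zero] at hx
    have h := congrArg (fun z => TensorProduct.lid k B (TensorProduct.map
      (Bialgebra.counitAlgHom k (A ⧸ J)).toLinearMap LinearMap.id z)) hx.symm
    simpa using h

end Groth.Agent.S5433
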