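import Groth.Agent.FibFlat.Stalk
import Groth.Prelude.Def_BlowUp2
import Mathlib.RingTheory.DiscreteValuationRing.TFAE
import Mathlib.AlgebraicGeometry.Noetherian
import Mathlib.AlgebraicGeometry.IdealSheaf.Subscheme
import Mathlib.RingTheory.Filtration

/-!
# The fibre at a section with invertible ideal is regular of dimension one
-/

set_option backward.isDefEq.respectTransparency false
set_option backward.isDefEq.respectTransparency.types false

universe u

open CategoryTheory AlgebraicGeometry IsLocalRing TopologicalSpace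

namespace Groth.Agent.SectDVR

theorem exists_ker_stalkMap_eq {X Z : Scheme.{u}} (i : Z ⟶ X) [IsClosedImmersion i]
    (hI : BlowUp.IsEffCartierIdeal i.ker) (d : Z) :
    ∃ g ∈ nonZeroDivisors (X.presheaf.stalk (i d)),
      RingHom.ker (i.stalkMap d).hom = Ideal.span {g} := by
  obtain ⟨U, hdU, a, ha, hU⟩ := hI (i d)
  let p := (U.2.primeIdealOf ⟨i d, hdU⟩).asIdeal
  let _ := X.presheaf.algebra_section_stalk (⟨i d, hdU⟩ : U.1)
  have : IsLocalization.AtPrime (X.presheaf.stalk (i d)) p :=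
    U.2.isLocalization_stalk ⟨i d, hdU⟩
  let g : X.presheaf.stalk (i d) := X.presheaf.germ U.1 _ hdU a
  have key : ∀ b : Γ(X, U.1), i.stalkMap d (X.presheaf.germ U.1 _ hdU b) =
      Z.presheaf.germ (i ⁻¹ᵁ U.1) d hdU (i.app U.1 b) := fun b =>
    Scheme.Hom.germ_stalkMap_apply i U.1 d hdU b
  have hker : ∀ b, b ∈ i.ker.ideal U ↔ i.app U.1 b = 0 := fun b => by
    rw [Scheme.Hom.ker_apply]; rfl
  refine ⟨g, ?_, le_antisymm (fun s hs => ?_) ?_⟩
  · exact IsLocalization.map_nonZeroDivisors_le p.primeCompl _ ⟨a, ha, rfl⟩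
  · obtain ⟨⟨b, c⟩, hbc⟩ := IsLocalization.surj p.primeCompl s
    have hb : Z.presheaf.germ (i ⁻¹ᵁ U.1) d hdU (i.app U.1 b) = 0 := by
      rw [← key]
      show (i.stalkMap d).hom (algebraMap Γ(X, U.1) _ b) = 0
      rw [← hbc, map_mul, RingHom.mem_ker.1 hs, zero_mul]
    have hV : IsAffineOpen (i ⁻¹ᵁ U.1) := U.2.preimage _
    let q := (hV.primeIdealOf ⟨d, hdU⟩).asIdeal
    let _ := Z.presheaf.algebra_section_stalk (⟨d, hdU⟩ : (i ⁻¹ᵁ U.1 : Z.Opens))
    have : IsLocalization.AtPrime (Z.presheaf.stalk d) q := hV.isLocalization_stalk ⟨d, hdU⟩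
    obtain ⟨⟨c', hc'⟩, h0⟩ := (IsLocalization.map_eq_zero_iff q.primeCompl (Z.presheaf.stalk d)
      (i.app U.1 b)).1 hb
    obtain ⟨e, rfl⟩ := i.app_surjective U.1 U.2 c'
    have he : IsUnit (algebraMap Γ(X, U.1) (X.presheaf.stalk (i d)) e) := by
      refine isUnit_of_map_unit (i.stalkMap d).hom _ ?_
      show IsUnit (i.stalkMap d (X.presheaf.germ U.1 _ hdU e))
      rw [key]
      exact IsLocalization.map_units (Z.presheaf.stalk d) (⟨_, hc'⟩ : q.primeCompl)
    have hmem : e * b ∈ Ideal.span {a} := hU ▸ (hker _).2 (by rw [map_mul]; exact h0)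
    obtain ⟨z, hz⟩ := Ideal.mem_span_singleton'.1 hmem
    have hcu := IsLocalization.map_units (X.presheaf.stalk (i d)) c
    rw [Ideal.mem_span_singleton]
    refine (hcu.dvd_mul_right).1 ?_
    rw [hbc]
    refine (he.dvd_mul_left).1 ?_
    rw [← map_mul, ← hz, map_mul]
    exact dvd_mul_left _ _
  · rw [Ideal.span_le, Set.singleton_subset_iff]
    show i.stalkMap d g = 0
    rw [key, (hker a).1 (hU ▸ Ideal.mem_span_singleton_self a), map_zero]

/-- A Noetherian local ring whose maximal ideal is generated by one nonzerodivisor is a DVR. -/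
theorem isDVR_of_maximalIdeal (R : Type u) [CommRing R] [IsLocalRing R] [IsNoetherianRing R] (t : R)
    (ht : t ∈ nonZeroDivisors R) (hm : maximalIdeal R = Ideal.span {t}) :
    ∃ _ : IsDomain R, IsDiscreteValuationRing R := by
  have hform : ∀ r : R, r ≠ 0 → ∃ (n : ℕ) (v : Rˣ), r = t ^ n * v := by
    intro r hr
    by_contra hne
    push Not at hne
    have hall : ∀ n, t ^ n ∣ r := by
      intro n
      induction n with
      | zero => simp
      | succ n ih =>
        obtain ⟨s, rfl⟩ := ih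
        by_cases hs : IsUnit s
        · exact absurd rfl (hne n hs.unit)
        · have : s ∈ maximalIdeal R := hs
          rw [hm, Ideal.mem_span_singleton] at this
          obtain ⟨w, rfl⟩ := this
          exact ⟨w, by ring⟩
    apply hr
    have hmem : r ∈ ⨅ n : ℕ, maximalIdeal R ^ n := by
      rw [Ideal.mem_iInf]
      intro n
      rw [hm, Ideal.span_singleton_pow, Ideal.mem_span_singleton]
      exact hall n
    rwa [Ideal.iInf_pow_eq_bot_of_isLocalRing _ (maximalIdeal.isMaximal R).ne_top, Ideal.mem_bot] at hmem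
  have hnzd : NoZeroDivisors R := ⟨fun {a b} hab => by
    by_contra hne
    push Not at hne
    obtain ⟨n, v, hv⟩ := hform a hne.1
    obtain ⟨m, w, hw⟩ := hform b hne.2
    have h0 : t ^ (n + m) * (v * w : Rˣ) = 0 := by
      rw [← hab, hv, hw, Units.val_mul]; ring
    have h1 : t ^ (n + m) = 0 := (v * w).isUnit.mul_left_eq_zero.1 h0
    exact one_ne_zero ((mem_nonZeroDivisors_iff_right.1 (pow_mem ht (n + m))) 1 (by rw [one_mul, h1]))⟩
  haveI : IsDomain R := NoZeroDivisors.to_isDomain R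
  have hnf : ¬ IsField R := by
    intro hf
    have h0 : maximalIdeal R = ⊥ := (IsLocalRing.isField_iff_maximalIdeal_eq).1 hf
    rw [hm, Ideal.span_singleton_eq_bot] at h0
    exact nonZeroDivisors.ne_zero ht h0
  exact ⟨inferInstance, ((IsDiscreteValuationRing.TFAE R hnf).out 0 4 rfl rfl).2
    (⟨⟨t, by rw [hm, Ideal.submodule_span_eq]⟩⟩ : (maximalIdeal R).IsPrincipal)⟩

/-- The ring-level statement: a split surjection `ψ : B → A` with kernel generated by a nonzerodivisor. -/
theorem regular_mod {A B : Type u} [CommRing A] [CommRing B] [IsLocalRing A] [IsLocalRing B]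
    (φ : A →+* B) (ψ : B →+* A) (hψ : ∀ a, ψ (φ a) = a) (t : B) (ht : t ∈ nonZeroDivisors B)
    (hker : RingHom.ker ψ = Ideal.span {t}) (I : Ideal B) (hI : I = (maximalIdeal A).map φ) :
    (∀ b, t * b ∈ I → b ∈ I) ∧ (t ∈ maximalIdeal B) ∧ maximalIdeal B ≤ I ⊔ Ideal.span {t} := by
  have hsplit : ∀ b, ∃ d, b = φ (ψ b) + t * d := by
    intro b
    have : b - φ (ψ b) ∈ RingHom.ker ψ := by rw [RingHom.mem_ker, map_sub, hψ, sub_self]
    rw [hker, Ideal.mem_span_singleton] at this
    obtain ⟨d, hd⟩ := this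
    exact ⟨d, by rw [← hd]; ring⟩
  have key : ∀ z ∈ I, ∃ d ∈ I, z - φ (ψ z) = t * d := by
    intro z hz
    rw [hI] at hz
    rw [hI]
    unfold Ideal.map at hz
    induction hz using Submodule.span_induction with
    | mem z hz =>
      obtain ⟨a, -, rfl⟩ := hz
      exact ⟨0, zero_mem _, by rw [hψ]; ring⟩
    | zero => exact ⟨0, zero_mem _, by simp⟩
    | add x y _ _ hx hy =>
      obtain ⟨d, hd, ed⟩ := hx
      obtain ⟨e, he, ee⟩ := hy
      exact ⟨d + e, add_mem hd he, by rw [map_add, map_add, mul_add, ← ed, ← ee]; ring⟩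
    | smul r x hx' hx =>
      obtain ⟨d, hd, ed⟩ := hx
      obtain ⟨c, hc⟩ := hsplit r
      refine ⟨c * x + φ (ψ r) * d, add_mem (Ideal.mul_mem_left _ c hx') (Ideal.mul_mem_left _ _ hd), ?_⟩
      rw [smul_eq_mul, map_mul, map_mul]
      linear_combination φ (ψ r) * ed + x * hc
  refine ⟨fun b hb => ?_, ?_, ?_⟩
  · obtain ⟨d, hd, ed⟩ := key _ hb
    have ht0 : ψ t = 0 := by rw [← RingHom.mem_ker, hker]; exact Ideal.mem_span_singleton_self t
    rw [map_mul, ht0, zero_mul, map_zero, sub_zero] at ed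
    rwa [mul_cancel_left_mem_nonZeroDivisors ht |>.1 ed]
  · intro hu
    have ht0 : ψ t = 0 := by rw [← RingHom.mem_ker, hker]; exact Ideal.mem_span_singleton_self t
    have := hu.map ψ
    rw [ht0] at this
    exact not_isUnit_zero this
  · intro b hb
    obtain ⟨d, hd⟩ := hsplit b
    rw [hd]
    refine Submodule.add_mem_sup ?_ (Ideal.mem_span_singleton'.2 ⟨d, mul_comm _ _⟩)
    rw [hI]
    refine Ideal.mem_map_of_mem φ ?_
    intro hu
    apply (IsLocalRing.mem_maximalIdeal b).1 hb
    have h1 : IsUnit (φ (ψ b)) := hu.map φ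
    have h2 : t * d ∈ maximalIdeal B := by
      refine Ideal.mul_mem_right _ _ ?_
      intro htu
      have ht0 : ψ t = 0 := by rw [← RingHom.mem_ker, hker]; exact Ideal.mem_span_singleton_self t
      have := htu.map ψ
      rw [ht0] at this
      exact not_isUnit_zero this
    rw [hd]
    by_contra hn
    have h3 : φ (ψ b) ∈ maximalIdeal B := by
      have := Ideal.sub_mem _ (show φ (ψ b) + t * d ∈ maximalIdeal B from hn) h2
      rwa [add_sub_cancel_right] at this
    exact h3 h1

theorem isDVR_quotient {A B C : Type u} [CommRing A] [CommRing B] [CommRing C] [IsLocalRing A] [IsLocalRing B]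
    [IsLocalRing C] [IsNoetherianRing C] (φ : A →+* B) (ψ : B →+* A) (hψ : ∀ a, ψ (φ a) = a) (t : B)
    (ht : t ∈ nonZeroDivisors B) (hker : RingHom.ker ψ = Ideal.span {t}) (q : B →+* C)
    (hq : Function.Surjective q) (hqk : RingHom.ker q = (maximalIdeal A).map φ) :
    ∃ _ : IsDomain C, IsDiscreteValuationRing C := by
  obtain ⟨h1, h2, h3⟩ := regular_mod φ ψ hψ t ht hker _ rfl
  haveI : IsLocalHom q := IsLocalHom.of_surjective q hq
  refine isDVR_of_maximalIdeal C (q t) ?_ ?_
  · rw [mem_nonZeroDivisors_iff_right]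
    intro c hc
    obtain ⟨b, rfl⟩ := hq c
    rw [← map_mul, ← RingHom.mem_ker, hqk, mul_comm] at hc
    rw [← RingHom.mem_ker, hqk]
    exact h1 b hc
  · refine le_antisymm (fun c hc => ?_) ?_
    · obtain ⟨b, rfl⟩ := hq c
      have hb : b ∈ maximalIdeal B := fun hu => hc (hu.map q)
      obtain ⟨x, hx, y, hy, rfl⟩ := Submodule.mem_sup.1 (h3 hb)
      rw [← hqk, RingHom.mem_ker] at hx
      rw [map_add, hx, zero_add]
      obtain ⟨z, rfl⟩ := Ideal.mem_span_singleton'.1 hy
      exact Ideal.mem_span_singleton'.2 ⟨q z, by rw [map_mul]⟩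
    · rw [Ideal.span_singleton_le_iff_mem]
      exact fun hu => h2 (isUnit_of_map_unit q t hu)

theorem sm_id {X : Scheme.{u}} (x : X) (a : X.presheaf.stalk x) :
    FibFlat.sm (𝟙 X) x x rfl a = a := by
  erw [FibFlat.sm_self]
  simp

theorem isDVR_stalk {X V : Scheme.{u}} (π : V ⟶ X) [LocallyOfFiniteType π] (j : X ⟶ V) [IsClosedImmersion j]
    (hj : j ≫ π = 𝟙 X) (hJ : BlowUp.IsEffCartierIdeal j.ker) (x : X) (v : V) (hv : j x = v) (s : X) (hs : π v = s)
    (w : ↥(π.fiber s)) (hw : π.fiberι s w = v) :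
    ∃ _ : IsDomain ((π.fiber s).presheaf.stalk w), IsDiscreteValuationRing ((π.fiber s).presheaf.stalk w) := by
  subst hv
  obtain ⟨t, ht, hker⟩ := exists_ker_stalkMap_eq j hJ x
  have hsx : π (j x) = x := by rw [← Scheme.Hom.comp_apply, hj]; rfl
  have hs' : s = x := by rw [← hs, hsx]
  subst hs'
  haveI : IsLocallyNoetherian (π.fiber s) :=
    LocallyOfFiniteType.isLocallyNoetherian (π.fiberToSpecResidueField s)
  refine isDVR_quotient (FibFlat.sm π (j s) s hsx) (FibFlat.sm j s (j s) rfl) (fun a => ?_) t ht ?_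
    (FibFlat.sm (π.fiberι s) w (j s) hw) (FibFlat.surjective_sm _ _ _) ?_
  · have h := FibFlat.sm_comp j π s (j s) s rfl hsx
    rw [FibFlat.sm_congr hj] at h
    rw [← RingHom.comp_apply, ← h]
    exact sm_id s a
  · rw [FibFlat.sm_self]; exact hker
  · rw [FibFlat.ker_sm_fiberι π s w (j s) hw]
    have : ∀ (y : X) (hy : π (j s) = y),
        (maximalIdeal _).map (FibFlat.sm π (j s) (π (j s)) rfl) =
        (maximalIdeal _).map (FibFlat.sm π (j s) y hy) := by
      intro y hy; subst hy; rfl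
    exact this s hsx

end Groth.Agent.SectDVR
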