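import Groth.Statements.S1588
import Groth.Agent.NodalLib.FieldExt
import Groth.Agent.NodalLib.OverNode

set_option autoImplicit false
set_option linter.style.haveILetI false
set_option linter.unusedSectionVars false
set_option backward.isDefEq.respectTransparency false
set_option backward.isDefEq.respectTransparency.types false
set_option maxHeartbeats 1000000
universe u
open CategoryTheory CategoryTheory.Limits AlgebraicGeometry
open Curves

namespace Groth.Agent.S1588

open Groth.Agent


/-- Let K be a field extension of k, X locally of finite type over k of dimension one, and y a point of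
X_K with image x in X. Then x is a node of X (in particular closed) if and only if y is a node of
X_K. -/
theorem result (k : Type u) [Field k] (X : Scheme.{u}) [X.Over (Spec (CommRingCat.of k))] [LocallyOfFiniteType (X ↘ (Spec (CommRingCat.of k)))]
    (hdim : topologicalKrullDim X = 1) (K : Type u) [Field K] [Algebra k K] (y : Curv2.bc k X K) :
    Curv2.IsNode k X (Curv2.bcFst k X K y) ↔ @Curv2.IsNode K _ (Curv2.bc k X K) ⟨Curv2.bcSnd k X K⟩ y := by
  let kb := AlgebraicClosure k
  let Kb := AlgebraicClosure K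
  let j : kb →ₐ[k] Kb := IsAlgClosed.lift
  letI : Algebra kb Kb := j.toRingHom.toAlgebra
  let str := X ↘ Spec (CommRingCat.of k)
  let gK := Spec.map (CommRingCat.ofHom (algebraMap k K))
  let gk := Spec.map (CommRingCat.ofHom (algebraMap k kb))
  let gKK := Spec.map (CommRingCat.ofHom (algebraMap K Kb))
  let gkK := Spec.map (CommRingCat.ofHom (algebraMap kb Kb))
  have hcomm : gkK ≫ gk = gKK ≫ gK := by
    rw [← Spec.map_comp, ← Spec.map_comp]
    congr 1
    ext c
    exact (j.commutes c).trans (IsScalarTower.algebraMap_apply k K Kb c)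
  let XK := Curv2.bc k X K
  letI : XK.Over (Spec (CommRingCat.of K)) := ⟨Curv2.bcSnd k X K⟩
  haveI : LocallyOfFiniteType (XK ↘ Spec (CommRingCat.of K)) :=
    inferInstanceAs (LocallyOfFiniteType (pullback.snd str gK))
  let W := Curv2.bc k X kb
  letI : W.Over (Spec (CommRingCat.of kb)) := ⟨Curv2.bcSnd k X kb⟩
  haveI : LocallyOfFiniteType (W ↘ Spec (CommRingCat.of kb)) :=
    inferInstanceAs (LocallyOfFiniteType (pullback.snd str gk))
  let V := Curv2.bc K XK Kb
  letI oV : V.Over (Spec (CommRingCat.of Kb)) := ⟨Curv2.bcSnd K XK Kb⟩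
  haveI : LocallyOfFiniteType (V ↘ Spec (CommRingCat.of Kb)) :=
    inferInstanceAs (LocallyOfFiniteType (pullback.snd (XK ↘ Spec (CommRingCat.of K)) gKK))
  let V' := Curv2.bc kb W Kb
  letI oV' : V'.Over (Spec (CommRingCat.of Kb)) := ⟨Curv2.bcSnd kb W Kb⟩
  haveI : LocallyOfFiniteType (V' ↘ Spec (CommRingCat.of Kb)) :=
    inferInstanceAs (LocallyOfFiniteType (pullback.snd (W ↘ Spec (CommRingCat.of kb)) gkK))
  have sq1 : IsPullback (Curv2.bcFst K XK Kb ≫ Curv2.bcFst k X K) (Curv2.bcSnd K XK Kb) str (gKK ≫ gK) :=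
    (IsPullback.of_hasPullback (XK ↘ Spec (CommRingCat.of K)) gKK).paste_horiz (IsPullback.of_hasPullback str gK)
  have sq2 : IsPullback (Curv2.bcFst kb W Kb ≫ Curv2.bcFst k X kb) (Curv2.bcSnd kb W Kb) str (gKK ≫ gK) := by
    rw [← hcomm]
    exact (IsPullback.of_hasPullback (W ↘ Spec (CommRingCat.of kb)) gkK).paste_horiz (IsPullback.of_hasPullback str gk)
  let φ : V ⟶ V' := (sq1.isoIsPullback _ _ sq2).hom
  have hφ1 : φ ≫ Curv2.bcFst kb W Kb ≫ Curv2.bcFst k X kb = Curv2.bcFst K XK Kb ≫ Curv2.bcFst k X K :=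
    sq1.isoIsPullback_hom_fst _ _ sq2
  have hφ2 : φ ≫ (V' ↘ Spec (CommRingCat.of Kb)) = V ↘ Spec (CommRingCat.of Kb) :=
    sq1.isoIsPullback_hom_snd _ _ sq2
  haveI : IsIso φ := inferInstanceAs (IsIso (sq1.isoIsPullback _ _ sq2).hom)
  have hover : ∀ v : V, Curv2.bcFst k X kb (Curv2.bcFst kb W Kb (φ v)) = Curv2.bcFst k X K (Curv2.bcFst K XK Kb v) := by
    intro v
    simpa only [Scheme.Hom.comp_apply] using congrArg (fun F : V ⟶ X => F v) hφ1
  haveI : IsIntegralHom (Curv2.bcFst k X kb) := by
    haveI : IsIntegralHom gk := by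
      rw [IsIntegralHom.SpecMap_iff]
      exact algebraMap_isIntegral_iff.2 inferInstance
    exact MorphismProperty.pullback_fst str gk inferInstance
  constructor
  · intro hx
    have hy : IsClosed ({y} : Set XK) := by
      rw [NodalLib.isClosed_iff_rd_eq_zero (k := K)]
      have h0 := FibDim.rd_baseChange_le (IsPullback.of_hasPullback str gK) y
      rw [(NodalLib.isClosed_iff_rd_eq_zero (k := k) _).1 hx.1] at h0
      exact Nat.le_zero.1 h0
    haveI : Surjective (Curv2.bcFst K XK Kb) := by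
      haveI : Surjective gKK := ⟨fun t => ⟨IsLocalRing.closedPoint Kb, Subsingleton.elim (α := PrimeSpectrum K) _ _⟩⟩
      exact MorphismProperty.pullback_fst _ _ inferInstance
    obtain ⟨v, hv⟩ := (Curv2.bcFst K XK Kb).surjective y
    have hvc : IsClosed ({v} : Set V) := by
      rw [NodalLib.isClosed_iff_rd_eq_zero (k := Kb)]
      have h0 := FibDim.rd_baseChange_le (IsPullback.of_hasPullback (XK ↘ Spec (CommRingCat.of K)) gKK) v
      rw [hv, (NodalLib.isClosed_iff_rd_eq_zero (k := K) _).1 hy] at h0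
      exact Nat.le_zero.1 h0
    refine ⟨hy, v, hv, (NodalLib.isOrdDoublePt_iff φ hφ2 v hvc).1 ?_⟩
    have hwx : Curv2.bcFst k X kb (Curv2.bcFst kb W Kb (φ v)) = Curv2.bcFst k X K y := by rw [hover, hv]
    have hwc : IsClosed ({Curv2.bcFst kb W Kb (φ v)} : Set W) := by
      rw [NodalLib.isClosed_iff_rd_eq_zero (k := kb)]
      have h0 := FibDim.rd_baseChange_le (IsPullback.of_hasPullback str gk) (Curv2.bcFst kb W Kb (φ v))
      rw [hwx, (NodalLib.isClosed_iff_rd_eq_zero (k := k) _).1 hx.1] at h0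
      exact Nat.le_zero.1 h0
    exact (NodalLib.isOrdDoublePt_bc_iff kb W Kb (φ v) hwc).1
      (NodalLib.isOrdDoublePt_of_over_node k X _ hx _ hwx)
  · rintro ⟨hy, v, hv, hodp⟩
    have hvc : IsClosed ({v} : Set V) := by
      rw [NodalLib.isClosed_iff_rd_eq_zero (k := Kb)]
      have h0 := FibDim.rd_baseChange_le (IsPullback.of_hasPullback (XK ↘ Spec (CommRingCat.of K)) gKK) v
      rw [hv, (NodalLib.isClosed_iff_rd_eq_zero (k := K) _).1 hy] at h0
      exact Nat.le_zero.1 h0
    have hodp' := (NodalLib.isOrdDoublePt_iff φ hφ2 v hvc).2 hodp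
    have hv'c : IsClosed ({φ v} : Set V') := (NodalLib.isClosed_map_iff φ hφ2 v).2 hvc
    have hdimW : topologicalKrullDim W ≤ 1 := by
      haveI : Subsingleton ↥(Spec (CommRingCat.of kb)) := inferInstanceAs (Subsingleton (PrimeSpectrum kb))
      haveI : Subsingleton ↥(Spec (CommRingCat.of k)) := inferInstanceAs (Subsingleton (PrimeSpectrum k))
      rw [FibDim.topologicalKrullDim_eq_iSup_rd (pullback.snd str gk)]
      refine iSup_le fun v' => le_trans ?_ (le_trans (le_iSup_of_le (pullback.fst str gk v') le_rfl)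
        ((FibDim.topologicalKrullDim_eq_iSup_rd str).ge.trans hdim.le))
      exact_mod_cast FibDim.rd_baseChange_le (IsPullback.of_hasPullback str gk) v'
    have hwc := NodalLib.isClosed_of_isOrdDoublePt kb W Kb (φ v) hdimW hv'c hodp'
    have hxw : Curv2.bcFst k X kb (Curv2.bcFst kb W Kb (φ v)) = Curv2.bcFst k X K y := by rw [hover, hv]
    refine ⟨?_, _, hxw, (NodalLib.isOrdDoublePt_bc_iff kb W Kb (φ v) hwc).2 hodp'⟩
    have himg := (Curv2.bcFst k X kb).isClosedMap _ hwc
    rwa [Set.image_singleton, hxw] at himg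

end Groth.Agent.S1588
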