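import Groth.Statements.S2153
import Groth.Agent.NilAmple.Extend
import Groth.Agent.AmpleVan.Pull
import Groth.Agent.MorLib.Thick.Affine

set_option backward.isDefEq.respectTransparency false
set_option backward.isDefEq.respectTransparency.types false

set_option autoImplicit false
universe u
open CategoryTheory AlgebraicGeometry
open Lim

namespace Groth.Agent.S2153

open Groth.Agent.H23.PicMul

/-- Let `i : Z → X` be a closed immersion which is a homeomorphism on underlying spaces and `L` an
invertible `O_X`-module. Then `L` is ample on `X` exactly when its pullback `i^*L` is ample on `Z`. -/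
theorem result {Z X : Scheme.{u}} (i : Z ⟶ X) [IsClosedImmersion i]
    (hi : IsHomeomorph i.base) (L : X.Modules) (hL : PicF.IsInvertible L) :
    CohB1.IsAmple ((Scheme.Modules.pullback i).obj L) ↔ CohB1.IsAmple L := by
  haveI : Surjective i := ⟨hi.surjective⟩
  constructor
  · intro h
    obtain ⟨hiL, hc, hpts⟩ := Groth.Agent.AmpleX.isAmple_iff.mp h
    haveI := hc
    haveI := Groth.Agent.AmpleX.isSeparated_of_isAmple h
    haveI : CompactSpace X := ⟨by rw [← hi.surjective.range_eq]; exact isCompact_range i.continuous⟩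
    haveI : QuasiSeparatedSpace X :=
      (hi.homeomorph).symm.isOpenEmbedding.quasiSeparatedSpace
    refine Groth.Agent.AmpleX.isAmple_iff.mpr ⟨hL, inferInstance, fun x => ?_⟩
    obtain ⟨z, rfl⟩ := i.surjective x
    obtain ⟨m, hm, s, hz, haff⟩ := hpts z
    let A := CohB1.genLocus _ s
    let U : X.Opens := ⟨i '' (A : Set Z), hi.isOpenMap _ A.2⟩
    have hpre : i ⁻¹ᵁ U = A := TopologicalSpace.Opens.ext (Set.preimage_image_eq _ hi.injective)
    have hU : IsAffineOpen U := by
      haveI : IsAffine (i ⁻¹ᵁ U).toScheme := hpre ▸ haff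
      haveI : IsClosedImmersion (i ∣_ U) :=
        MorphismProperty.of_isPullback (P := @IsClosedImmersion) (isPullback_morphismRestrict i U).flip
          (by infer_instance)
      haveI : Surjective (i ∣_ U) :=
        MorphismProperty.of_isPullback (P := @Surjective) (isPullback_morphismRestrict i U).flip
          (by infer_instance)
      exact Groth.Agent.MorLib.Thick.isAffine_of_thickening (i ∣_ U) (i ∣_ U).surjective
    obtain ⟨b, hb⟩ := Groth.Agent.AmpleX.exists_locus_cl
      (N := (Scheme.Modules.pullback i).obj (CohB1.tensorPow L m))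
      (show PicF.cl (CohB1.tensorPow ((Scheme.Modules.pullback i).obj L) m) =
          PicF.pullCl i (PicF.cl (CohB1.tensorPow L m)) by
        rw [Groth.Agent.H23.PicMul.cl_tensorPow, Groth.Agent.H23.PicMul.cl_tensorPow,
          Groth.Agent.H23.PicMul.pullCl_pow]
        rfl) (Groth.Agent.InvX.one s)
    have hiP := Groth.Agent.InvX.isInvertible_tensorPow hL m
    obtain ⟨k, hk, T, hT⟩ := Groth.Agent.NilAmple.exists_global_section i hiP b hU
      (hb.trans ((Groth.Agent.AmpleX.genLocus_eq_locus s).symm.trans hpre.symm))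
    obtain ⟨T', hT'⟩ := Groth.Agent.AmpleX.exists_locus_cl (N := CohB1.tensorPow L (m * k))
      (show PicF.cl (CohB1.tensorPow (CohB1.tensorPow L m) k) = _ by
        rw [Groth.Agent.H23.PicMul.cl_tensorPow, Groth.Agent.H23.PicMul.cl_tensorPow,
          Groth.Agent.H23.PicMul.cl_tensorPow, pow_mul]) T
    refine ⟨m * k, Nat.mul_pos hm hk, Groth.Agent.InvX.ofSect T', ?_⟩
    rw [Groth.Agent.AmpleX.genLocus_eq_locus, Groth.Agent.InvX.one_ofSect, hT', hT]
    exact ⟨⟨z, hz, rfl⟩, hU⟩
  · intro h
    haveI : CompactSpace X := h.2.1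
    haveI : CompactSpace Z := hi.isClosedEmbedding.compactSpace
    exact Groth.Agent.AmpleVan.isAmple_pullback_of_isEmbedding i hi.isEmbedding h

end Groth.Agent.S2153
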