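import Groth.Statements.S4278
import Groth.Agent.TauNum.Pull
import Groth.Agent.CurveAlgEquiv.Main
import Groth.Agent.Nakai.KleimanDeg
import Groth.Agent.CurveFinMap.Components
-- import your own Groth.Agent.* helpers here

set_option autoImplicit false
universe u
open CategoryTheory CategoryTheory.Limits AlgebraicGeometry
open Pic13

set_option backward.isDefEq.respectTransparency false
set_option backward.isDefEq.respectTransparency.types false
set_option synthInstance.maxHeartbeats 400000
set_option maxHeartbeats 1000000
set_option linter.style.haveILetI false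
attribute [-instance] CategoryTheory.catToReflQuiver

namespace Groth.Agent.S4278

/-- Let k be an algebraically closed field, X a proper k-scheme and L an invertible O_X-module which is
τ-equivalent to zero. Then L is numerically equivalent to zero: its restriction to every integral
closed curve Y ⊆ X has degree χ(L|_Y) - χ(O_Y) = 0. -/
theorem result (k : Type u) [Field k] [IsAlgClosed k] (X : Scheme.{u}) [X.Over (Spec (CommRingCat.of k))]
    [IsProper (X ↘ Spec (CommRingCat.of k))]
    (L : X.Modules) (hL : PicF.IsInvertible L) (hτ : Pic13.IsTauEquivZero k X L) : Pic13.IsNumEquivZero k X L := by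
  intro Y i _ hY hdim
  obtain ⟨n, hn, halg⟩ := hτ
  haveI := hY
  letI : Y.Over (Spec (CommRingCat.of k)) := ⟨i ≫ (X ↘ Spec (CommRingCat.of k))⟩
  haveI : IsProper (Y ↘ Spec (CommRingCat.of k)) :=
    inferInstanceAs (IsProper (i ≫ (X ↘ Spec (CommRingCat.of k))))
  have hLi : PicF.IsInvertible ((Scheme.Modules.pullback i).obj L) := Groth.Agent.PicClLib.isInvertible_pullback i hL
  have hA : Pic13.IsAlgEquivZero k Y (CohB1.tensorPow ((Scheme.Modules.pullback i).obj L) n) := by
    open Groth.Agent in
    rw [← CurveAlgEquiv.ae_iff, H23.PicMul.cl_tensorPow,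
      show PicF.cl ((Scheme.Modules.pullback i).obj L) = PicF.pullCl i (PicF.cl L) from rfl, ← H23.PicMul.pullCl_pow,
      ← H23.PicMul.cl_tensorPow]
    exact Groth.Agent.TauNum.ae_pull i rfl ((Groth.Agent.CurveAlgEquiv.ae_iff _).2 halg)
  haveI : Subsingleton ↥(Spec (CommRingCat.of k)) := inferInstanceAs (Subsingleton (PrimeSpectrum k))
  haveI : Flat (Y ↘ Spec (CommRingCat.of k)) := inferInstance
  open Groth.Agent in
  have h0 := CurveAlgEquiv.eulerCharLE_eq_of_algEquiv (k := k) hdim.le hA
  open Groth.Agent in
  have h1 := Nakai.curveDeg_eq_deg k (i ≫ (X ↘ Spec (CommRingCat.of k))) hdim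
    (L := CohB1.tensorPow ((Scheme.Modules.pullback i).obj L) n) (H23.PicMul.isInvertible_tensorPow hLi n)
  open Groth.Agent in
  rw [show Pic13.curveDeg k (i ≫ (X ↘ Spec (CommRingCat.of k))) (CohB1.tensorPow ((Scheme.Modules.pullback i).obj L) n)
      = FGA.eulerCharLE k Y (CohB1.tensorPow ((Scheme.Modules.pullback i).obj L) n) 1 -
        FGA.eulerCharLE k Y (Coh.structureModule Y) 1 from rfl, h0, sub_self] at h1
  open Groth.Agent in
  rw [Nakai.curveDeg_eq_deg k (i ≫ (X ↘ Spec (CommRingCat.of k))) hdim hLi]
  open Groth.Agent in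
  rw [CurveFinMap.deg_tensorPow' (k := k) hdim.le hLi n, eq_comm, mul_eq_zero] at h1
  exact h1.resolve_left (by omega)


end Groth.Agent.S4278
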