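import Groth.Statements.S3461
import Groth.Agent.Compactify.Submersive
import Groth.Agent.Compactify.Count

set_option autoImplicit false
open CategoryTheory AlgebraicGeometry
universe u
open EGA43

attribute [-instance] CategoryTheory.catToReflQuiver
set_option backward.isDefEq.respectTransparency false
set_option backward.isDefEq.respectTransparency.types false

namespace Groth.Agent.S3461

open CategoryTheory.Limits in
/-- Let f : X ⟶ Y be separated and of finite presentation. Suppose there is a surjective morphism of
finite presentation g : Y' ⟶ Y which is proper or flat, together with a Y-morphism Y' ⟶ X, and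
suppose every fibre of f is geometrically connected. Then the set U of points y of Y whose fibre X_y
is proper over κ(y) is open in Y, and the restriction of f over U is proper. -/
theorem result {X Y Y' : Scheme.{u}} (f : X ⟶ Y)
    [IsSeparated f] [LocallyOfFinitePresentation f] [QuasiCompact f] [QuasiSeparated f]
    (g : Y' ⟶ Y) [Surjective g] [LocallyOfFinitePresentation g] [QuasiCompact g] [QuasiSeparated g]
    (hg : IsProper g ∨ Flat g) (σ : Y' ⟶ X) (hσ : σ ≫ f = g)
    (hconn : ∀ y : Y, MoreMor.nGeomConnComp f y ≤ 1) :
    ∃ U : Y.Opens, (U : Set Y) = {y : Y | IsProper (f.fiberToSpecResidueField y)} ∧ IsProper (f ∣_ U) := by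
  haveI : Surjective f := ⟨fun y => ⟨σ (g.surjective y).choose, by
    rw [← Scheme.Hom.comp_apply, hσ]; exact (g.surjective y).choose_spec⟩⟩
  haveI : GeometricallyConnected f := GeomLoci.geometricallyConnected_of_nGeom f fun y =>
    le_antisymm (hconn y) (Compactify.one_le_nGeomConnComp f y _ (f.surjective y).choose_spec)
  have hsub : MorphismProperty.universally (topologically fun g => Topology.IsQuotientMap g) f := by
    intro X' T a b f' sq
    let g' := Limits.pullback.snd g b
    haveI : Surjective g' := inferInstance
    have hq : Topology.IsQuotientMap g' := by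
      rcases hg with h | h
      · exact g'.isClosedMap.isQuotientMap g'.continuous g'.surjective
      · exact Flat.isQuotientMap_of_surjective g'
    let l : Limits.pullback g b ⟶ X' := sq.lift g' (Limits.pullback.fst g b ≫ σ)
      (by rw [Category.assoc, hσ]; exact Limits.pullback.condition.symm)
    have hl : l ≫ f' = g' := sq.lift_fst _ _ _
    refine Topology.IsQuotientMap.of_comp l.continuous f'.continuous ?_
    convert hq using 1
    funext z
    exact (Scheme.Hom.comp_apply l f' z).symm.trans congr($hl z)
  have hnhd : ∀ y : Y, IsProper (f.fiberToSpecResidueField y) → ∃ U : Y.Opens, y ∈ U ∧ IsProper (f ∣_ U) :=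
    fun y hy => Compactify.exists_nhd_isProper_of_submersive f hsub y hy
  have hfib : ∀ (U : Y.Opens), IsProper (f ∣_ U) → ∀ y ∈ U, IsProper (f.fiberToSpecResidueField y) := by
    intro U hU y hy
    obtain ⟨e, he⟩ : ∃ e : Spec (Y.residueField y) ⟶ U.toScheme, e ≫ U.ι = Y.fromSpecResidueField y :=
      ⟨IsOpenImmersion.lift U.ι (Y.fromSpecResidueField y) (by
        rw [Scheme.range_fromSpecResidueField, Scheme.Opens.range_ι]; exact Set.singleton_subset_iff.2 hy),
        IsOpenImmersion.lift_fac _ _ _⟩
    have h1 : IsPullback (Limits.pullback.fst (f ∣_ U) e ≫ (f ⁻¹ᵁ U).ι) (Limits.pullback.snd (f ∣_ U) e) f (e ≫ U.ι) :=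
      (IsPullback.of_hasPullback (f ∣_ U) e).paste_horiz (isPullback_morphismRestrict f U).flip
    rw [he] at h1
    exact MorLib.Desc.of_two @IsProper h1 (IsPullback.of_hasPullback f (Y.fromSpecResidueField y)) inferInstance
  choose V hyV hV using fun y : {y : Y // IsProper (f.fiberToSpecResidueField y)} => hnhd y.1 y.2
  refine ⟨⨆ y, V y, ?_, ?_⟩
  · ext y
    rw [SetLike.mem_coe, TopologicalSpace.Opens.mem_iSup, Set.mem_setOf_eq]
    exact ⟨fun ⟨z, hz⟩ => hfib _ (hV z) y hz, fun hy => ⟨⟨y, hy⟩, hyV _⟩⟩
  · let W := fun y => (⨆ y, V y).ι ⁻¹ᵁ V y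
    refine IsZariskiLocalAtTarget.of_iSup_eq_top W ?_ fun y => ?_
    · refine eq_top_iff.2 fun z _ => ?_
      obtain ⟨y, hy⟩ := TopologicalSpace.Opens.mem_iSup.1 z.2
      exact TopologicalSpace.Opens.mem_iSup.2 ⟨y, hy⟩
    · refine (MorphismProperty.arrow_mk_iso_iff @IsProper (morphismRestrictRestrict f _ _)).2 ?_
      have e : (⨆ y, V y).ι ''ᵁ W y = V y := by
        rw [Scheme.Hom.image_preimage_eq_opensRange_inf, Scheme.Opens.opensRange_ι]
        exact inf_eq_right.2 (le_iSup V y)
      rw [e]
      exact hV y

end Groth.Agent.S3461
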