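import Groth.Statements.S19174
import Groth.Agent.CanonDual.H1Crit
import Groth.Agent.CanonDual.Nef
import Groth.Agent.CanonDual.Nodal
import Groth.Agent.CanonDual.Semistable
import Groth.Agent.S17806
import Groth.Agent.S0219
import Groth.Agent.S18840
import Groth.Agent.AmpleX.Pow
import Groth.Agent.AmpleX.Proj
import Groth.Agent.AmpleX.RelAffine
import Groth.Agent.SegreX.Basic
import Groth.Agent.PnCoh.Finite.TwistInv
import Groth.Agent.H23.TrivBasic
-- import your own Groth.Agent.* helpers here

set_option autoImplicit false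
set_option linter.style.haveILetI false
set_option maxHeartbeats 1000000
universe u
open CategoryTheory CategoryTheory.Limits AlgebraicGeometry
open Curves

namespace Groth.Agent.S19174

attribute [local instance] HasDerivedCategory.standard

theorem finrank_h1_sub_le (k : Type u) [Field k] {X : Scheme.{u}} [X.Over (Spec (CommRingCat.of k))]
    [IsProper (X ↘ Spec (CommRingCat.of k))] (hdim : topologicalKrullDim X ≤ 1) (J : X.IdealSheafData) :
    letI : J.subscheme.Over (Spec (CommRingCat.of k)) := ⟨J.subschemeι ≫ (X ↘ Spec (CommRingCat.of k))⟩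
    Module.finrank k (Coh.HH J.subscheme (Coh.structureModule J.subscheme) 1) ≤
      Module.finrank k (Coh.HH X (Coh.structureModule X) 1) := by
  haveI := CurveCohLib.isNoetherian_of_proper (k := k) (X := X)
  letI : J.subscheme.Over (Spec (CommRingCat.of k)) := ⟨J.subschemeι ≫ (X ↘ Spec (CommRingCat.of k))⟩
  rw [← CanonDual.finrank_HH_quotMod (k := k) J 1]
  haveI := CanonDual.epi_toSubscheme J
  have hS : (ShortComplex.mk (ClSub.idealModι J) (ClSub.toSubscheme J) (kernel.condition _)).ShortExact :=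
    CurveSlope.shortExact_kernel_of_epi _
  haveI := CurveCohLib.finite_HH (k := k) (QCoh.isCoh_structureModule' (X := X)) 1
  haveI : Subsingleton (Coh.HH X (ClSub.idealMod J) (1 + 1)) := CanonDual.subsingleton_HH_curve k hdim
    (QCoh.isCoh_kernel QCoh.isCoh_structureModule' (ParShLib.isCoh_quotMod J) _).1 (by norm_num)
  refine LinearMap.finrank_le_finrank_of_surjective (f := PnCoh.Finite.mapLin k (ClSub.toSubscheme J) 1) fun y => ?_
  have hy : y ∈ LinearMap.ker (PnCoh.Finite.deltaLin k hS 1) := LinearMap.mem_ker.2 (Subsingleton.elim _ _)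
  rw [CurveCohLib.ker_deltaLin] at hy
  exact hy

/-- Degree of the pullback of an ample module of the line by a map from a curve. -/
theorem deg_pullback_data (k : Type u) [Field k] {P : Scheme.{u}} [P.Over (Spec (CommRingCat.of k))]
    [IsProper (P ↘ Spec (CommRingCat.of k))] {L : P.Modules} (hL : PicF.IsInvertible L) (hamp : CohB1.IsAmple L)
    {W : Scheme.{u}} [W.Over (Spec (CommRingCat.of k))] [IsProper (W ↘ Spec (CommRingCat.of k))] [IsIntegral W]
    (hdim : topologicalKrullDim W = 1) (q : W ⟶ P)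
    (hq : q ≫ (P ↘ Spec (CommRingCat.of k)) = W ↘ Spec (CommRingCat.of k)) :
    0 ≤ Curv2.deg k W ((Scheme.Modules.pullback q).obj L) 1 ∧
      (Curv2.deg k W ((Scheme.Modules.pullback q).obj L) 1 = 0 → ∀ x y : W, q.base x = q.base y) := by
  by_cases hc : ∀ x y : W, q.base x = q.base y
  · suffices h : Curv2.deg k W ((Scheme.Modules.pullback q).obj L) 1 = 0 from ⟨h.ge, fun _ => hc⟩
    obtain ⟨V, hV, ⟨eV⟩⟩ := hL (q (genericPoint W))
    have hrange : Set.range q ⊆ Set.range V.ι := by
      rintro _ ⟨x, rfl⟩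
      rw [Scheme.Opens.range_ι]
      exact (hc x (genericPoint W)).symm ▸ hV
    obtain ⟨t⟩ : H23.TrivBasic.Triv ((Scheme.Modules.pullback q).obj L) := by
      refine (H23.TrivBasic.triv_congr (IsOpenImmersion.lift_fac V.ι q hrange)).1 ?_
      exact (H23.TrivBasic.triv_comp_iff _ V.ι).1 (H23.TrivBasic.Triv.pullback _ ⟨((Scheme.Modules.restrictFunctorIsoPullback V.ι).app L).symm ≪≫ eV⟩)
    unfold Curv2.deg
    rw [Euler.euler_congr k t]
    simp
  · have hpos : 0 < Curv2.deg k W ((Scheme.Modules.pullback q).obj L) 1 := by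
      refine S18840.deg_pos_of_ample k hdim ?_
      haveI : IsSeparated (P ↘ Spec (CommRingCat.of k)) := inferInstance
      haveI : IsFinite q := S0219.result k W P (W ↘ Spec (CommRingCat.of k)) (P ↘ Spec (CommRingCat.of k)) q hq hdim.le
        fun Z hZ _ => by
          have hZu : Z = Set.univ := by
            rw [irreducibleComponents_eq_singleton] at hZ
            exact hZ
          subst hZu
          push Not at hc
          obtain ⟨x, y, hxy⟩ := hc
          exact ⟨_, Set.mem_image_of_mem _ (Set.mem_univ x), _, Set.mem_image_of_mem _ (Set.mem_univ y), hxy⟩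
      exact S17806.result k (P ↘ Spec (CommRingCat.of k)) (W ↘ Spec (CommRingCat.of k)) q hq L hL hamp
    exact ⟨hpos.le, fun h => absurd h hpos.ne'⟩

theorem deg_pullback_curve (k : Type u) [Field k] {P : Scheme.{u}} [P.Over (Spec (CommRingCat.of k))]
    [IsProper (P ↘ Spec (CommRingCat.of k))] {L : P.Modules} (hL : PicF.IsInvertible L) (hamp : CohB1.IsAmple L)
    {Y : Scheme.{u}} [Y.Over (Spec (CommRingCat.of k))] [IsProper (Y ↘ Spec (CommRingCat.of k))]
    [AlgebraicGeometry.IsReduced Y] [ConnectedSpace Y] (hdim : topologicalKrullDim Y = 1) (q : Y ⟶ P)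
    (hq : q ≫ (P ↘ Spec (CommRingCat.of k)) = Y ↘ Spec (CommRingCat.of k)) :
    0 ≤ Curv2.deg k Y ((Scheme.Modules.pullback q).obj L) 1 ∧
      (Curv2.deg k Y ((Scheme.Modules.pullback q).obj L) 1 = 0 → ∀ x y : Y, q.base x = q.base y) := by
  haveI := CurveCohLib.isNoetherian_of_proper (k := k) (X := Y)
  have hYc := CanonDual.closedDimOne_of_connected k hdim
  have hequi : ∀ Z ∈ irreducibleComponents (Y : Type u), topologicalKrullDim Z = 1 := fun Z hZ => by
    exact_mod_cast CanonDual.components_dim_one k hYc Z hZ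
  have hcomp : ∀ (C : Set Y) (hC : C ∈ irreducibleComponents (Y : Type u)),
      0 ≤ @Curv2.deg k _ (Scheme.IdealSheafData.vanishingIdeal ⟨C, isClosed_of_mem_irreducibleComponents C hC⟩).subscheme
        ⟨(Scheme.IdealSheafData.vanishingIdeal ⟨C, isClosed_of_mem_irreducibleComponents C hC⟩).subschemeι ≫ (Y ↘ Spec (CommRingCat.of k))⟩
        ((Scheme.Modules.pullback (Scheme.IdealSheafData.vanishingIdeal ⟨C, isClosed_of_mem_irreducibleComponents C hC⟩).subschemeι).obj ((Scheme.Modules.pullback q).obj L)) 1 ∧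
      (@Curv2.deg k _ (Scheme.IdealSheafData.vanishingIdeal ⟨C, isClosed_of_mem_irreducibleComponents C hC⟩).subscheme
        ⟨(Scheme.IdealSheafData.vanishingIdeal ⟨C, isClosed_of_mem_irreducibleComponents C hC⟩).subschemeι ≫ (Y ↘ Spec (CommRingCat.of k))⟩
        ((Scheme.Modules.pullback (Scheme.IdealSheafData.vanishingIdeal ⟨C, isClosed_of_mem_irreducibleComponents C hC⟩).subschemeι).obj ((Scheme.Modules.pullback q).obj L)) 1 = 0 →
        ∀ x ∈ C, ∀ y ∈ C, q.base x = q.base y) := by
    intro C hC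
    obtain ⟨hconn, hC1⟩ := CanonDual.component_props hequi C hC
    generalize hIC : Scheme.IdealSheafData.vanishingIdeal (⟨C, isClosed_of_mem_irreducibleComponents C hC⟩ : TopologicalSpace.Closeds Y) = IC at hconn hC1 ⊢
    haveI : AlgebraicGeometry.IsReduced IC.subscheme := hIC ▸ H23.RedSub.isReduced_vanishingIdeal _
    have hsupp : (IC.support : Set Y) = C := hIC ▸ Scheme.IdealSheafData.coe_support_vanishingIdeal _
    haveI : IrreducibleSpace IC.subscheme := by
      let e : IC.subscheme ≃ₜ C := IC.subschemeι.isEmbedding.toHomeomorph.trans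
        (Homeomorph.setCongr (IC.range_subschemeι.trans hsupp))
      haveI : IrreducibleSpace C := Subtype.irreducibleSpace hC.1
      exact e.symm.surjective.irreducibleSpace e.symm.continuous
    haveI := isIntegral_of_irreducibleSpace_of_isReduced IC.subscheme
    letI : IC.subscheme.Over (Spec (CommRingCat.of k)) := ⟨IC.subschemeι ≫ (Y ↘ Spec (CommRingCat.of k))⟩
    haveI : IsProper (IC.subscheme ↘ Spec (CommRingCat.of k)) :=
      inferInstanceAs (IsProper (IC.subschemeι ≫ (Y ↘ Spec (CommRingCat.of k))))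
    have he : Curv2.deg k IC.subscheme ((Scheme.Modules.pullback IC.subschemeι).obj ((Scheme.Modules.pullback q).obj L)) 1 =
        Curv2.deg k IC.subscheme ((Scheme.Modules.pullback (IC.subschemeι ≫ q)).obj L) 1 := by
      have e : (Scheme.Modules.pullback IC.subschemeι).obj ((Scheme.Modules.pullback q).obj L) ≅
          (Scheme.Modules.pullback (IC.subschemeι ≫ q)).obj L := (Scheme.Modules.pullbackComp IC.subschemeι q).app L
      unfold Curv2.deg
      rw [Euler.euler_congr k e]
    obtain ⟨h1, h2⟩ := deg_pullback_data k hL hamp hC1 (IC.subschemeι ≫ q) (by rw [Category.assoc, hq]; rfl)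
    rw [he]
    refine ⟨h1, fun h0 x hx y hy => ?_⟩
    rw [← hsupp, ← IC.range_subschemeι] at hx hy
    obtain ⟨x', rfl⟩ := hx
    obtain ⟨y', rfl⟩ := hy
    exact h2 h0 x' y'
  obtain ⟨y₀⟩ := (inferInstance : Nonempty Y)
  have hLq := PicClLib.isInvertible_pullback q hL
  have htot := CanonDual.deg_component_le_total hdim hLq (fun C hC => (hcomp C hC).1)
  refine ⟨(hcomp _ (irreducibleComponent_mem_irreducibleComponents y₀)).1.trans
    (htot _ (irreducibleComponent_mem_irreducibleComponents y₀)), fun h0 => ?_⟩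
  have hconst : ∀ C ∈ irreducibleComponents (Y : Type u), ∀ x ∈ C, ∀ y ∈ C, q.base x = q.base y := fun C hC =>
    (hcomp C hC).2 (le_antisymm (h0 ▸ htot C hC) (hcomp C hC).1)
  have hall : ∀ x : Y, q.base x = q.base y₀ := by
    let G := irreducibleComponents (Y : Type u) ∩ {C | ∀ x ∈ C, q.base x = q.base y₀}
    let B := irreducibleComponents (Y : Type u) \ {C | ∀ x ∈ C, q.base x = q.base y₀}
    have hclG : IsClosed (⋃₀ G) := by
      rw [Set.sUnion_eq_biUnion]
      exact (TopologicalSpace.NoetherianSpace.finite_irreducibleComponents.subset Set.inter_subset_left).isClosed_biUnion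
        fun Z hZ => isClosed_of_mem_irreducibleComponents Z hZ.1
    have hclB : IsClosed (⋃₀ B) := by
      rw [Set.sUnion_eq_biUnion]
      exact (TopologicalSpace.NoetherianSpace.finite_irreducibleComponents.subset Set.sdiff_subset).isClosed_biUnion
        fun Z hZ => isClosed_of_mem_irreducibleComponents Z hZ.1
    have hcompl : (⋃₀ G)ᶜ = ⋃₀ B := by
      ext x
      constructor
      · intro hx
        refine ⟨irreducibleComponent x, ⟨irreducibleComponent_mem_irreducibleComponents x, fun h => hx ?_⟩,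
          mem_irreducibleComponent⟩
        exact ⟨_, ⟨irreducibleComponent_mem_irreducibleComponents x, h⟩, mem_irreducibleComponent⟩
      · rintro ⟨C, ⟨hC, hne⟩, hxC⟩ ⟨C', ⟨hC', hg⟩, hxC'⟩
        exact hne fun z hz => (hconst C hC z hz x hxC).trans (hg x hxC')
    have hopen : IsOpen (⋃₀ G) := by
      rw [← isClosed_compl_iff, hcompl]
      exact hclB
    have huniv := IsClopen.eq_univ ⟨hclG, hopen⟩ ⟨y₀, irreducibleComponent y₀,
      ⟨irreducibleComponent_mem_irreducibleComponents y₀, fun x hx =>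
        hconst _ (irreducibleComponent_mem_irreducibleComponents y₀) x hx y₀ mem_irreducibleComponent⟩,
      mem_irreducibleComponent⟩
    intro x
    obtain ⟨C, ⟨-, hC⟩, hx⟩ := (huniv.symm ▸ Set.mem_univ x : x ∈ ⋃₀ G)
    exact hC x hx
  exact fun x y => (hall x).trans (hall y).symm

theorem isAmple_twist (k : Type u) [Field k] (n d : ℕ) (hd : 0 < d) :
    PicF.IsInvertible (Twist.twistProjSpace n k (d : ℤ)) ∧ CohB1.IsAmple (Twist.twistProjSpace n k (d : ℤ)) := by
  classical
  let T : Finset (MvPolynomial (Fin (n + 1)) k) := Finset.univ.image MvPolynomial.X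
  have hamp : CohB1.IsAmple (Twist.twistProjSpace n k 1) := by
    refine AmpleX.isAmple_twist_one _ T (fun g hg => ?_) ?_
    · obtain ⟨i, -, rfl⟩ := Finset.mem_image.1 hg
      exact ProjPt.X_mem i
    · refine Proj.iSup_basicOpen_eq_top _ _ ((SegreX.irrelevant_le_span n k).trans ?_)
      refine Ideal.span_mono ?_
      rintro _ ⟨i, rfl⟩
      exact ⟨⟨_, Finset.mem_image.2 ⟨i, Finset.mem_univ _, rfl⟩⟩, rfl⟩
  have hcov : ⨆ i : Fin (n + 1), PnCoh.Finite.D (CohB1.polyGrading n k) (MvPolynomial.X i) = ⊤ :=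
    top_le_iff.1 fun y _ => TopologicalSpace.Opens.mem_iSup.2 (ProjUPX.cov_X y)
  obtain ⟨hi, -, hp⟩ := PnCoh.Finite.invertible_package (𝒜 := CohB1.polyGrading n k) (g := fun i => MvPolynomial.X i)
    (fun i => ProjPt.X_mem i) hcov
  obtain ⟨e⟩ := hp d
  exact ⟨hi _, AmpleX.isAmple_of_iso e.symm (AmpleX.isAmple_tensorPow hamp hd)⟩

/-- Let k be an algebraically closed field of characteristic zero and C a proper reduced connected
one-dimensional scheme over k with at-worst-nodal singularities and dim_k H^1(C, O_C) = 1 (a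
connected nodal curve of arithmetic genus one). Let π : C → P^1_k be a morphism over k contracting
no connected subcurve of arithmetic genus one: for every reduced connected one-dimensional closed
subscheme Y of C on which π is constant, dim_k H^1(Y, O_Y) = 0. Then H^1(C, π^*O(1)) = 0 and H^1(C,
π^*O(2)) = 0, where O(d) is the d-th twisting sheaf of P^1_k. -/
theorem result (k : Type u) [Field k] [IsAlgClosed k] [CharZero k]
    (C : Scheme.{u}) [C.Over (Spec (CommRingCat.of k))] [IsProper (C ↘ (Spec (CommRingCat.of k)))]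
    [AlgebraicGeometry.IsReduced C] [ConnectedSpace C] (hdim : topologicalKrullDim C = 1)
    (hC : Curv2.AtWorstNodal k C) (hg : Curv2.genus k C = 1)
    (π : C ⟶ CohB1.ProjSpace 1 k) (hπ : π ≫ CohB1.ProjSpace.toSpec 1 k = C ↘ (Spec (CommRingCat.of k)))
    (hcontr : ∀ J : C.IdealSheafData, AlgebraicGeometry.IsReduced J.subscheme → ConnectedSpace J.subscheme →
      topologicalKrullDim J.subscheme = 1 →
      (∀ x y : J.subscheme, (J.subschemeι ≫ π).base x = (J.subschemeι ≫ π).base y) →
      @Curv2.genus k _ J.subscheme ⟨J.subschemeι ≫ (C ↘ (Spec (CommRingCat.of k)))⟩ = 0) :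
    Subsingleton (Coh.HH C ((Scheme.Modules.pullback π).obj (Twist.twistProjSpace 1 k 1)) 1) ∧
      Subsingleton (Coh.HH C ((Scheme.Modules.pullback π).obj (Twist.twistProjSpace 1 k 2)) 1) := by
  haveI := CurveCohLib.isNoetherian_of_proper (k := k) (X := C)
  haveI : IsProper (CohB1.ProjSpace.toSpec 1 k) := PnCoh.Chow.isProper_toSpec 1 k
  suffices key : ∀ L : (CohB1.ProjSpace 1 k).Modules, PicF.IsInvertible L → CohB1.IsAmple L →
      Subsingleton (Coh.HH C ((Scheme.Modules.pullback π).obj L) 1) from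
    ⟨key _ (isAmple_twist k 1 1 one_pos).1 (isAmple_twist k 1 1 one_pos).2,
      key _ (isAmple_twist k 1 2 two_pos).1 (isAmple_twist k 1 2 two_pos).2⟩
  intro L hL hamp
  letI : (CohB1.ProjSpace 1 k).Over (Spec (CommRingCat.of k)) := ⟨CohB1.ProjSpace.toSpec 1 k⟩
  haveI : IsProper (CohB1.ProjSpace 1 k ↘ Spec (CommRingCat.of k)) := PnCoh.Chow.isProper_toSpec 1 k
  refine CanonDual.subsingleton_H1_of_subcurves (k := k) hdim (CanonDual.closedDimOne_of_connected k hdim)
    (PicClLib.isInvertible_pullback π hL) fun J h₁ h₂ h₃ => ?_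
  haveI := h₁
  haveI := h₂
  letI : J.subscheme.Over (Spec (CommRingCat.of k)) := ⟨J.subschemeι ≫ (C ↘ Spec (CommRingCat.of k))⟩
  haveI : IsProper (J.subscheme ↘ Spec (CommRingCat.of k)) :=
    inferInstanceAs (IsProper (J.subschemeι ≫ (C ↘ Spec (CommRingCat.of k))))
  have he : Curv2.deg k J.subscheme ((Scheme.Modules.pullback J.subschemeι).obj ((Scheme.Modules.pullback π).obj L)) 1 =
      Curv2.deg k J.subscheme ((Scheme.Modules.pullback (J.subschemeι ≫ π)).obj L) 1 := by
    have e : (Scheme.Modules.pullback J.subschemeι).obj ((Scheme.Modules.pullback π).obj L) ≅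
        (Scheme.Modules.pullback (J.subschemeι ≫ π)).obj L := (Scheme.Modules.pullbackComp J.subschemeι π).app L
    unfold Curv2.deg
    rw [Euler.euler_congr k e]
  obtain ⟨hd, hd0⟩ := deg_pullback_curve k hL hamp h₃ (J.subschemeι ≫ π)
    (show (J.subschemeι ≫ π) ≫ CohB1.ProjSpace.toSpec 1 k = J.subschemeι ≫ (C ↘ Spec (CommRingCat.of k)) by
      rw [Category.assoc, hπ])
  have hle := finrank_h1_sub_le k hdim.le J
  have hgJ := hcontr J h₁ h₂ h₃
  rw [he, CanonDual.euler_two h₃.le QCoh.isQCoh_structureModule, SurfRR.finrank_h0_reduced k]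
  unfold Curv2.genus at hg hgJ
  by_cases hz : Curv2.deg k J.subscheme ((Scheme.Modules.pullback (J.subschemeι ≫ π)).obj L) 1 = 0
  · have h1 := hgJ (hd0 hz)
    rw [h1]
    omega
  · rw [hg] at hle
    omega

end Groth.Agent.S19174
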