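import Groth.Statements.S13534
import Groth.Agent.QCoh.Stalk
import Groth.Agent.QCoh.Qcqs
import Groth.Agent.QCoh.Extension
import Groth.Agent.QCoh.CokerQC
import Groth.Agent.FlatMisc.RingPullback
import Groth.Agent.CAlgUI.Flat

set_option autoImplicit false
set_option backward.isDefEq.respectTransparency false
set_option backward.isDefEq.respectTransparency.types false
set_option linter.style.haveILetI false
universe u
open CategoryTheory CategoryTheory.Limits AlgebraicGeometry
open ResProp

attribute [-instance] CategoryTheory.catToReflQuiver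

namespace Groth.Agent.S13534

open Groth.Agent

/-- Flatness descends along a flat ring map. -/
theorem flat_of_flat_map {R S N : Type*} [CommRing R] [CommRing S] (f : R →+* S) (hf : f.Flat)
    [AddCommGroup N] [Module R N] [Module S N] [Module.Flat S N]
    (h : ∀ (r : R) (n : N), f r • n = r • n) : Module.Flat R N := by
  letI := f.toAlgebra
  haveI : Module.Flat R S := hf
  haveI : IsScalarTower R S N := IsScalarTower.of_algebraMap_smul h
  exact Module.Flat.trans R S N

/-- The map on sections as a linear map. -/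
noncomputable def appLin' {Y : Scheme.{u}} {M N : Y.Modules} (φ : M ⟶ N) (U : Y.Opens) :
    Γ(M, U) →ₗ[Γ(Y, U)] Γ(N, U) where
  toFun := φ.app U
  map_add' := map_add _
  map_smul' := Scheme.Modules.Hom.app_smul _

theorem isQCoh_biprod' {Y : Scheme.{u}} {A B : Y.Modules} (hA : Coh.IsQCoh A) (hB : Coh.IsQCoh B) :
    Coh.IsQCoh (A ⊞ B) :=
  QCoh.isQCoh_X₂ (S := ShortComplex.mk (biprod.inl : A ⟶ A ⊞ B) biprod.snd (by simp))
    (ShortComplex.Splitting.ofHasBinaryBiproduct A B).shortExact hA hB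

theorem bijective_unit_app' {Y Z : Scheme.{u}} (j : Z ⟶ Y) [IsOpenImmersion j] (G : Y.Modules) (O : Y.Opens)
    (hO : O ≤ j.opensRange) :
    Function.Bijective (((Scheme.Modules.restrictAdjunction j).unit.app G).app O) := by
  have he : j ''ᵁ (j ⁻¹ᵁ O) = O := by
    rw [Scheme.Hom.image_preimage_eq_opensRange_inf, inf_eq_right]
    exact hO
  show Function.Bijective (G.presheaf.map (homOfLE (j.image_preimage_le O)).op)
  have : IsIso (homOfLE (j.image_preimage_le O)) := ⟨homOfLE he.ge, Subsingleton.elim _ _, Subsingleton.elim _ _⟩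
  exact ConcreteCategory.bijective_of_isIso _

theorem epi_push' {Y Z : Scheme.{u}} (i : Z ⟶ Y) [IsAffineHom i] {M N : Z.Modules} (hM : Coh.IsQCoh M)
    (hN : Coh.IsQCoh N) (φ : M ⟶ N) [Epi φ] : Epi ((Scheme.Modules.pushforward i).map φ) := by
  refine Preadditive.epi_of_cancel_zero _ fun {W} g hg => Scheme.Modules.hom_ext _ _ fun U => ?_
  ext y
  refine TopCat.Sheaf.eq_of_locally_eq' ⟨W.presheaf, W.isSheaf⟩
    (fun V : {V : Y.affineOpens // V.1 ≤ U} => V.1.1) U (fun V => homOfLE V.2) (fun z hz => ?_) _ _ fun V => ?_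
  · obtain ⟨_, ⟨V, hV, rfl⟩, hzV, hVU⟩ := Y.isBasis_affineOpens.exists_subset_of_mem_open hz U.isOpen
    exact TopologicalSpace.Opens.mem_iSup.2 ⟨⟨⟨V, hV⟩, hVU⟩, hzV⟩
  · obtain ⟨m, hm⟩ := QCoh.app_surjective_of_epi hM hN φ (V.1.2.preimage i)
      (((Scheme.Modules.pushforward i).obj N).presheaf.map (homOfLE V.2).op y)
    refine ((QCoh.map_app_comm g (homOfLE V.2) y).symm.trans ?_).trans (map_zero _).symm
    rw [← hm]
    exact congr(($hg).app V.1.1 m)

/-- The tilde of a flat module is flat. -/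
theorem isFlat_tilde' {R : CommRingCat.{u}} (N : ModuleCat.{u} R) [Module.Flat R N] :
    FlatMod.IsFlat (tilde N) := fun x => by
  let P := tilde N
  let e : N ≃ₗ[R] moduleSpecΓFunctor.obj P := (tilde.toTildeΓNatIso.app N).toLinearEquiv
  letI : Module R Γ(P, ⊤) := inferInstanceAs (Module R (moduleSpecΓFunctor.obj P))
  haveI : Module.Flat R Γ(P, ⊤) := Module.Flat.of_linearEquiv (N := Γ(P, ⊤)) e.symm
  refine (QCoh.flat_sections_iff (QCoh.isQCoh_spec_iff.2 ⟨_, ⟨Iso.refl _⟩⟩ : Coh.IsQCoh P)
    (isAffineOpen_top _)).1 ?_ x (Set.mem_univ _)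
  exact flat_of_flat_map (Scheme.ΓSpecIso R).hom.hom
    (RingHom.Flat.of_bijective (ConcreteCategory.bijective_of_isIso _)) fun r n =>
      congrArg (fun c => c • (show Γ(P, ⊤) from n)) ((Scheme.ΓSpecIso R).hom_inv_id_apply r)

/-- Quasi-coherent modules on an affine scheme are quotients of flat ones. -/
theorem exists_flat_cover_spec {R : CommRingCat.{u}} {G : (Spec R).Modules} (hG : Coh.IsQCoh G) :
    ∃ (P : (Spec R).Modules) (q : P ⟶ G), Coh.IsQCoh P ∧ FlatMod.IsFlat P ∧ Epi q := by
  obtain ⟨N, ⟨e⟩⟩ := QCoh.isQCoh_spec_iff.1 hG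
  haveI : Epi (ModuleCat.ofHom (Finsupp.linearCombination R (id : N → N))) :=
    (ModuleCat.epi_iff_surjective _).2 (Finsupp.linearCombination_id_surjective R N)
  haveI := (Adjunction.isLeftAdjoint (tilde.adjunction (R := R)))
  refine ⟨tilde (ModuleCat.of R (N →₀ R)),
    (tilde.functor R).map (ModuleCat.ofHom (Finsupp.linearCombination R id)) ≫ e.hom,
    QCoh.isQCoh_spec_iff.2 ⟨_, ⟨Iso.refl _⟩⟩, ?_, epi_comp _ _⟩
  exact isFlat_tilde' _

variable {X : Scheme.{u}} {T : Scheme.{u}} (j : T ⟶ X)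

/-- Sections of a direct image on an affine open with flat stalks upstairs. -/
theorem flat_push_sections [IsOpenImmersion j] [IsAffineHom j] {Q : T.Modules} (hQ : Coh.IsQCoh Q)
    {V : X.Opens} (hV : IsAffineOpen V) (h : Module.Flat Γ(T, j ⁻¹ᵁ V) Γ(Q, j ⁻¹ᵁ V)) :
    Module.Flat Γ(X, V) Γ((Scheme.Modules.pushforward j).obj Q, V) := by
  letI : Module Γ(T, j ⁻¹ᵁ V) Γ((Scheme.Modules.pushforward j).obj Q, V) :=
    inferInstanceAs (Module Γ(T, j ⁻¹ᵁ V) Γ(Q, j ⁻¹ᵁ V))
  haveI : Module.Flat Γ(T, j ⁻¹ᵁ V) Γ((Scheme.Modules.pushforward j).obj Q, V) := h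
  have hf : (j.app V).hom.Flat := by
    rw [Scheme.Hom.app_eq_appLE]; exact j.flat_appLE hV (hV.preimage j) le_rfl
  exact flat_of_flat_map (N := Γ((Scheme.Modules.pushforward j).obj Q, V)) (j.app V).hom hf
    fun r n => (QCoh.pushforward_smul j V r n).symm

theorem flat_restrict_sections [IsOpenImmersion j] {F : X.Modules} (hF : Coh.IsQCoh F)
    {W : T.Opens} (hW : IsAffineOpen W) (h : ∀ x ∈ j ''ᵁ W, FlatMod.IsFlatAt F x) :
    Module.Flat Γ(T, W) Γ(F.restrict j, W) := by
  letI : Module Γ(X, j ''ᵁ W) Γ(F.restrict j, W) := inferInstanceAs (Module Γ(X, j ''ᵁ W) Γ(F, j ''ᵁ W))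
  haveI : Module.Flat Γ(X, j ''ᵁ W) Γ(F.restrict j, W) :=
    (QCoh.flat_sections_iff hF (hW.image_of_isOpenImmersion j)).2 h
  exact flat_of_flat_map (j.appIso W).inv.hom
    (RingHom.Flat.of_bijective (ConcreteCategory.bijective_of_isIso (j.appIso W).inv)) fun r n => rfl

/-- One step of the induction. -/
theorem step (hd : ∀ V W : X.Opens, IsAffineOpen V → IsAffineOpen W → IsAffineOpen (V ⊓ W))
    {F : X.Modules} (hF : Coh.IsQCoh F) {U : X.Opens} (hU : IsAffineOpen U) :
    ∃ (F' : X.Modules) (p : F' ⟶ F), Coh.IsQCoh F' ∧ Epi p ∧ (∀ x ∈ U, FlatMod.IsFlatAt F' x) ∧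
      ∀ A : X.Opens, IsAffineOpen A → (∀ x ∈ A, FlatMod.IsFlatAt F x) → ∀ x ∈ A, FlatMod.IsFlatAt F' x := by
  let j := hU.fromSpec
  have hjr : j.opensRange = U := hU.opensRange_fromSpec
  haveI : IsAffineHom j := ⟨fun V hV => by
    have he : j ⁻¹ᵁ V = j ⁻¹ᵁ (U ⊓ V) := by
      ext x
      exact ⟨fun h => ⟨hjr.le ⟨x, rfl⟩, h⟩, fun h => h.2⟩
    rw [he]
    exact (hd U V hU hV).preimage_of_isOpenImmersion j (inf_le_left.trans hjr.ge)⟩
  let G := F.restrict j
  have hG : Coh.IsQCoh G := QCoh.isQCoh_restrict j hF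
  obtain ⟨P, q, hP, hPfl, hq⟩ := exists_flat_cover_spec hG
  let η : F ⟶ (Scheme.Modules.pushforward j).obj G := (Scheme.Modules.restrictAdjunction j).unit.app F
  let pq := (Scheme.Modules.pushforward j).map q
  haveI : Epi pq := epi_push' j hP hG q
  let F' := pullback η pq
  have hJP := QCoh.isQCoh_pushforward j hP
  have hJG := QCoh.isQCoh_pushforward j hG
  have hF' : Coh.IsQCoh F' := by
    let T := biprod.fst ≫ η - biprod.snd ≫ pq
    have hB : Coh.IsQCoh (F ⊞ (Scheme.Modules.pushforward j).obj P) := isQCoh_biprod' hF hJP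
    refine (QCoh.isQCoh_iff_iso ?_).1 (QCoh.isQCoh_kernel hB hJG T)
    refine
      { hom := pullback.lift (kernel.ι T ≫ biprod.fst) (kernel.ι T ≫ biprod.snd) ?_
        inv := kernel.lift T (biprod.lift (pullback.fst η pq) (pullback.snd η pq)) ?_
        hom_inv_id := ?_, inv_hom_id := ?_ }
    · have := kernel.condition T
      simp only [T, Preadditive.comp_sub, sub_eq_zero] at this
      simpa using this
    · simp [T, pullback.condition]
    · rw [← cancel_mono (kernel.ι T)]; apply biprod.hom_ext <;> simp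
    · apply pullback.hom_ext <;> simp
  have hc : ∀ (O : X.Opens) (y : Γ(F', O)),
      η.app O ((pullback.fst η pq).app O y) = pq.app O ((pullback.snd η pq).app O y) := fun O y =>
    congr(($(pullback.condition (f := η) (g := pq))).app O y)
  let K := kernel q
  have hK : Coh.IsQCoh K := QCoh.isQCoh_kernel hP hG q
  let i : (Scheme.Modules.pushforward j).obj K ⟶ F' :=
    pullback.lift 0 ((Scheme.Modules.pushforward j).map (kernel.ι q))
      (by rw [zero_comp, ← Functor.map_comp, kernel.condition, Functor.map_zero])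
  have hi1 : i ≫ pullback.fst η pq = 0 := pullback.lift_fst _ _ _
  have hi2 : i ≫ pullback.snd η pq = (Scheme.Modules.pushforward j).map (kernel.ι q) := pullback.lift_snd _ _ _
  have hif : ∀ (O : X.Opens) z, (pullback.fst η pq).app O (i.app O z) = 0 := fun O z =>
    congr(($hi1).app O z)
  have his : ∀ (O : X.Opens) z, (pullback.snd η pq).app O (i.app O z) = (kernel.ι q).app (j ⁻¹ᵁ O) z :=
    fun O z => congr(($hi2).app O z)
  have hsec : ∀ (O : X.Opens) (a b : Γ(F', O)), (pullback.fst η pq).app O a = (pullback.fst η pq).app O b →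
      (pullback.snd η pq).app O a = (pullback.snd η pq).app O b → a = b := by
    intro O a b ha hb
    haveI : Mono (biprod.lift (pullback.fst η pq) (pullback.snd η pq)) :=
      ⟨fun {Z} g h e => pullback.hom_ext (by simpa using congrArg (· ≫ biprod.fst) e)
        (by simpa using congrArg (· ≫ biprod.snd) e)⟩
    have hl : biprod.lift (pullback.fst η pq) (pullback.snd η pq) =
        pullback.fst η pq ≫ biprod.inl + pullback.snd η pq ≫ biprod.inr := by
      apply biprod.hom_ext <;> simp
    apply QCoh.app_injective (biprod.lift (pullback.fst η pq) (pullback.snd η pq)) O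
    rw [hl]
    exact congrArg₂ (fun u v => (biprod.inl : F ⟶ F ⊞ (Scheme.Modules.pushforward j).obj P).app O u +
      (biprod.inr : (Scheme.Modules.pushforward j).obj P ⟶ F ⊞ (Scheme.Modules.pushforward j).obj P).app O v) ha hb
  have hex : ∀ (O : X.Opens) (y : Γ(F', O)), (pullback.fst η pq).app O y = 0 → ∃ z, i.app O z = y := by
    intro O y hy
    have h0 : q.app (j ⁻¹ᵁ O) ((pullback.snd η pq).app O y) = 0 := by
      have := hc O y
      rw [hy, map_zero] at this
      exact this.symm
    obtain ⟨z, hz⟩ := QCoh.exists_app_f_eq (S := ShortComplex.mk (kernel.ι q) q (kernel.condition q))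
      { exact := ShortComplex.exact_kernel q, mono_f := inferInstance, epi_g := hq } (j ⁻¹ᵁ O) _ h0
    exact ⟨z, hsec O _ _ ((hif O z).trans hy.symm) ((his O z).trans hz)⟩
  refine ⟨F', pullback.fst η pq, hF', inferInstance, fun x hx => ?_, fun A hA hAfl => ?_⟩
  · obtain ⟨_, ⟨V, hV, rfl⟩, hxV, hVU⟩ := X.isBasis_affineOpens.exists_subset_of_mem_open hx U.isOpen
    refine (QCoh.flat_sections_iff hF' hV).1 ?_ x hxV
    haveI := flat_push_sections j hP hV ((QCoh.flat_sections_iff hP (hV.preimage j)).2 fun y _ => hPfl y)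
    have hbij : Function.Bijective (η.app V) := bijective_unit_app' j F V (le_of_le_of_eq (show V ≤ U from hVU) hjr.symm)
    refine Module.Flat.of_linearEquiv (LinearEquiv.ofBijective (appLin' (pullback.snd η pq) V)
      ⟨fun a b hab => hsec V a b (hbij.1 ?_) hab, fun z => ?_⟩)
    · rw [hc, hc]
      exact congrArg (pq.app V) hab
    · obtain ⟨a, ha⟩ := hbij.2 (pq.app V z)
      obtain ⟨y, rfl⟩ := QCoh.app_surjective_of_epi hF' hF (pullback.fst η pq) hV a
      have h0 : q.app (j ⁻¹ᵁ V) ((pullback.snd η pq).app V y - z) = 0 := by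
        rw [map_sub, sub_eq_zero]
        exact (hc V y).symm.trans ha
      obtain ⟨w, hw⟩ := QCoh.exists_app_f_eq (S := ShortComplex.mk (kernel.ι q) q (kernel.condition q))
        { exact := ShortComplex.exact_kernel q, mono_f := inferInstance, epi_g := hq } (j ⁻¹ᵁ V) _ h0
      refine ⟨y - i.app V w, ?_⟩
      show (pullback.snd η pq).app V (y - i.app V w) = z
      rw [map_sub, his, hw]
      exact sub_sub_cancel _ _
  · refine (QCoh.flat_sections_iff hF' hA).1 ?_
    haveI : Module.Flat Γ(X, A) Γ(F, A) := (QCoh.flat_sections_iff hF hA).2 hAfl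
    have hW := hA.preimage j
    haveI := (QCoh.flat_sections_iff hP hW).2 fun y _ => hPfl y
    haveI := flat_restrict_sections j hF hW fun x hx => hAfl x (j.image_preimage_le A hx)
    haveI : Module.Flat Γ(Spec Γ(X, U), j ⁻¹ᵁ A) Γ(K, j ⁻¹ᵁ A) := by
      refine FlatMisc.flat_of_exact (appLin' (kernel.ι q) _) (appLin' q _)
        (QCoh.app_injective _ _) (QCoh.app_surjective_of_epi hP hG q hW) fun z => ⟨fun hz => ?_, ?_⟩
      · exact QCoh.exists_app_f_eq (S := ShortComplex.mk (kernel.ι q) q (kernel.condition q))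
          { exact := ShortComplex.exact_kernel q, mono_f := inferInstance, epi_g := hq } (j ⁻¹ᵁ A) z hz
      · rintro ⟨w, rfl⟩
        exact congr(($(kernel.condition q)).app (j ⁻¹ᵁ A) w)
    haveI := flat_push_sections j hK hA inferInstance
    haveI := Module.Flat.of_linearEquiv (R := Γ(X, A))
      (LinearEquiv.ofInjective (appLin' i A) fun a b hab => QCoh.app_injective (kernel.ι q) (j ⁻¹ᵁ A)
        ((his A a).symm.trans ((congrArg ((pullback.snd η pq).app A) hab).trans (his A b)))).symm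
    have hsurj : Function.Surjective (appLin' (pullback.fst η pq) A) :=
      QCoh.app_surjective_of_epi hF' hF (pullback.fst η pq) hA
    refine CAlgUI.flat_middle (f := (LinearMap.range (appLin' i A)).subtype)
      (g := appLin' (pullback.fst η pq) A) (Submodule.injective_subtype _) (fun z => ⟨fun hz => ?_, ?_⟩) hsurj
    · obtain ⟨w, hw⟩ := hex A z hz
      exact ⟨⟨z, w, hw⟩, rfl⟩
    · rintro ⟨⟨_, w, rfl⟩, rfl⟩
      exact hif A w


/-- In the case of schemes, on a quasi-compact scheme with affine diagonal (the intersection of any two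
affine opens is affine) every quasi-coherent module is a quotient of a flat quasi-coherent module.
(The published statement is for quasi-compact algebraic stacks with affine diagonal; this row is the
case of schemes.) -/
theorem result (X : Scheme.{u}) [CompactSpace X]
    (hd : ∀ V W : X.Opens, IsAffineOpen V → IsAffineOpen W → IsAffineOpen (V ⊓ W))
    (M : X.Modules) (hM : Coh.IsQCoh M) :
    ∃ (F : X.Modules) (π : F ⟶ M), Coh.IsQCoh F ∧ FlatMod.IsFlat F ∧ Epi π := by
  obtain ⟨t, ht⟩ := isCompact_univ.elim_finite_subcover (fun U : X.affineOpens => (U.1 : Set X))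
    (fun U => U.1.isOpen) (fun x _ => by
      obtain ⟨_, ⟨U, hU, rfl⟩, hx, -⟩ :=
        X.isBasis_affineOpens.exists_subset_of_mem_open (Set.mem_univ x) isOpen_univ
      exact Set.mem_iUnion.2 ⟨⟨U, hU⟩, hx⟩)
  suffices h : ∀ s : Finset X.affineOpens, ∃ (F : X.Modules) (π : F ⟶ M),
      Coh.IsQCoh F ∧ Epi π ∧ ∀ U ∈ s, ∀ x ∈ U.1, FlatMod.IsFlatAt F x by
    obtain ⟨F, π, hF, hπ, hfl⟩ := h t
    refine ⟨F, π, hF, fun x => ?_, hπ⟩
    obtain ⟨U, hU, hx⟩ := Set.mem_iUnion₂.1 (ht (Set.mem_univ x))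
    exact hfl U hU x hx
  classical
  intro s
  induction s using Finset.induction with
  | empty => exact ⟨M, 𝟙 M, hM, inferInstance, by simp⟩
  | insert U s _ ih =>
    obtain ⟨F, π, hF, hπ, hfl⟩ := ih
    obtain ⟨F', p, hF', hp, h1, h2⟩ := step hd hF U.2
    refine ⟨F', p ≫ π, hF', epi_comp _ _, fun W hW x hx => ?_⟩
    rcases Finset.mem_insert.1 hW with rfl | hW
    · exact h1 x hx
    · exact h2 W.1 W.2 (hfl W hW) x hx

end Groth.Agent.S13534
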