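import Groth.Statements.S12672
import Groth.Agent.H9PB.CurveDegDet
import Groth.Agent.H9PB.RootsPull
import Groth.Agent.ExtPowSh.Lambda
import Groth.Agent.S1928


set_option autoImplicit false
universe u
open CategoryTheory CategoryTheory.Limits AlgebraicGeometry
open Cyc

namespace Groth.Agent.S12672

set_option backward.isDefEq.respectTransparency false
set_option backward.isDefEq.respectTransparency.types false
set_option maxHeartbeats 800000
open Groth.Agent Groth.Agent.H9PB

/-- Let X be proper over a field K with dim X ≤ 1 and E a finite locally free O_X-module of constant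
rank r. Then deg(E) = deg(c_1(E) ∩ [X]_1), where deg(E) = χ(X, E) - r·χ(X, O_X) (Curv2.deg) and the
right side is the degree (ChowOps.deg, pushforward to the point) of a representative of c_1(E) ∩
[X]_1, [X]_1 being the 1-cycle of X (Cyc.subschemeFun); for r = 0 both sides are 0. Dimension
function: transcendence degree over K. (This is the general constant-rank case; the invertible case
is a separate result stated with c_1(L) ∩ - of an invertible module.) Setting: (X, δ) with
Cyc.IsSetup stands for a scheme locally of finite type over the base (S, δ) (X locally Noetherian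
with universally catenary local rings, δ a dimension function); (p : P → X, O_P(1), q) is the
projective bundle of E given by its universal property (KRR.IsProjBundle), p is proper and δP is the
induced dimension function (Cyc.DeltaCompat); a tuple γ with Cyc.IsChernCap represents (c_0(E) ∩ α,
…, c_r(E) ∩ α) through the defining relation Σ_i (-1)^i c_1(O_P(1))^i ∩ p^*(γ_{r-i}) ∼_rat 0 on P,
and classes are compared up to rational equivalence of representing cycles. -/
theorem result (K : Type u) [Field K] (X : Scheme.{u}) [X.Over (Spec (CommRingCat.of K))] [IsProper (X ↘ Spec (CommRingCat.of K))] (hdim : topologicalKrullDim X ≤ 1) (δ : X → ℤ) (hX : Cyc.IsSetup X δ) (hK : Cyc.DeltaCompat (X ↘ Spec (CommRingCat.of K)) δ (fun _ => 0)) (r : ℕ) (E : X.Modules) (hPE : FlatMod.IsFinLocFreeOfRank r E) (P : Scheme.{u}) (p : P ⟶ X) (O1 : P.Modules) (q : (Scheme.Modules.pullback p).obj E ⟶ O1) (hP : KRR.IsProjBundle p E O1 q) [IsProper p] (δP : P → ℤ) (hPs : Cyc.IsSetup P δP) (hδ : Cyc.DeltaCompat p δP δ) (α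 : AlgebraicCycle X ℤ) (hα : ⇑α = Cyc.subschemeFun δ 1 (𝟙 X)) (γ : Fin (r + 1) → AlgebraicCycle X ℤ) (hγ : Cyc.IsChernCap p δ δP O1 r 1 α γ) : Curv2.deg K X E r = (if h : 1 ≤ r then ChowOps.deg (X ↘ Spec (CommRingCat.of K)) δ (γ ⟨1, Nat.lt_succ_of_le h⟩) else 0) := by
  haveI := hX.1
  haveI := CurveCohLib.isNoetherian' (k := K) (X := X)
  have hEf : FlatMod.IsFinLocFree E := fun y => let ⟨W, hy, he⟩ := hPE y; ⟨W, r, hy, he⟩
  have hq' := QCoh.isQCoh_of_isFinLocFree hEf
  rw [curveDeg_eq_det K hdim hPE]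
  let D := ExtPowSh.L E r
  have hD : PicF.IsInvertible D := Model.isInvertible_of_rank (CurveFinMap.isFinLocFreeOfRank_det hPE)
  have hext : ExtPow.IsExtPow r E D := ExtPowSh.isExtPow E r hq'
  split_ifs with h
  · have hγ1 := hγ.1
    have hαk : α ∈ Cyc.Zk X δ 1 := by
      have h2 := hγ.2.1 0
      rw [hγ1] at h2
      simpa using h2
    have hcap : IsCapR E r δ 1 α γ := IsCapR.of_isChernCap hPE hX hP hδ hγ
    obtain ⟨x, hx⟩ := Rep.single hαk
    obtain ⟨s, hs⟩ := H23.RatSec.exists_sections hD
    have h1 := rep_opC hX hPE hx hcap ⟨1, Nat.lt_succ_of_le h⟩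
    rw [show ((1 : ℕ) : ℤ) = 1 from rfl] at h1
    rw [show (((⟨1, Nat.lt_succ_of_le h⟩ : Fin (r + 1)) : ℕ)) = 1 from rfl, opC_one_eq_det hX hPE hD hext] at h1
    have h2 := rep_opL hX hD hx s hs
    have h3 := h1.ratEquiv hX h2
    let c := X ↘ Spec (CommRingCat.of K)
    let S := CycLib.isSetup_spec_field K
    have h4 : pushAdd c δ (fun _ => (0 : ℤ)) (γ ⟨1, Nat.lt_succ_of_le h⟩ - cap1 hD hX.2.2 s hs α) ∈
        ratSub S (1 - 1) := pushAdd_ratSub c hX S hK (by simpa using h3)
    obtain ⟨ι, ξ, f, hξ, -, -, hval⟩ := h4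
    haveI : IsEmpty ι := ⟨fun i => by have := hξ i; simp at this⟩
    have h5 := hval (IsLocalRing.closedPoint K)
    rw [finsum_of_isEmpty, map_sub] at h5
    have h6 : ChowOps.deg c δ (γ ⟨1, Nat.lt_succ_of_le h⟩) = ChowOps.deg c δ (cap1 hD hX.2.2 s hs α) :=
      sub_eq_zero.1 h5
    show Curv2.deg K X D 1 = ChowOps.deg c δ _
    rw [h6, S1928.result K X hdim δ hK D hD s hs]
    symm
    show (∑ᶠ z ∈ c ⁻¹' {IsLocalRing.closedPoint K}, cap1 hD hX.2.2 s hs α z *
      (AlgebraicCycle.mapCoeff c δ (fun _ => (0 : ℤ)) z : ℤ)) = _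
    haveI : Subsingleton ↥(Spec (CommRingCat.of K)) := FibDim.subsingleton_spec_field K
    rw [show c ⁻¹' {IsLocalRing.closedPoint K} = Set.univ from Set.eq_univ_of_forall fun z => Subsingleton.elim _ _,
      finsum_mem_univ]
    refine finsum_congr fun z => ?_
    rw [← hα]
    change Cyc.c1CapFun δ D ⇑α s z * _ = _
    by_cases hz : δ z = 0
    · rw [AlgebraicCycle.mapCoeff, if_pos hz, mul_comm]
    · rw [H23.GysinLib.c1CapFun_degree (k := 1) ⇑α (fun ξ hξ => hαk ξ hξ) s (x := z) (by omega), zero_mul, mul_zero]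
  · obtain rfl : r = 0 := by omega
    obtain ⟨e⟩ := ExtPowSh.nonempty_iso hext (ExtPowSh.isExtPow_zero E)
    show Curv2.euler K X D - ((1 : ℕ) : ℤ) * Curv2.euler K X (Coh.structureModule X) = 0
    rw [Euler.euler_congr K e]
    simp

end Groth.Agent.S12672
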