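import Groth.Statements.S6217
import Groth.Agent.PushAmp.ClosedStalk
import Groth.Agent.PushAmp.SmoothAmp
import Groth.Agent.S6201

set_option autoImplicit false
universe u
open CategoryTheory CategoryTheory.Limits AlgebraicGeometry
attribute [local instance] HasDerivedCategory.standard
open KSix

namespace Groth.Agent.S6217

/-- Let i : X ⟶ Y be a closed immersion, g : Y ⟶ S smooth, and F a cochain complex of O_X-modules. Then
F is perfect relative to i ≫ g (pseudo-coherent relative to it in chart form, and locally on X of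
finite stalkwise tor amplitude over the local rings of S) if and only if the termwise direct image
i_* F, which computes Ri_* F, is perfect on Y in the absolute sense. -/
theorem result {X Y S : Scheme.{u}} (i : X ⟶ Y) [IsClosedImmersion i]
    (g : Y ⟶ S) [Smooth g] (F : CochainComplex X.Modules ℤ) :
    DerSch.IsPerfectRel (i ≫ g) F ↔ DCoh.IsPerfect (DCoh.toD Y (((Scheme.Modules.pushforward i).mapHomologicalComplex (ComplexShape.up ℤ)).obj F)) := by
  let G := (DerSch.pushCx i).obj F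
  rw [Groth.Agent.KFlatLib.isPerfect_iff]
  constructor
  · rintro ⟨hpc', htor⟩ y
    have hpc : ∀ m, Groth.Agent.KFlatLib.LocPC m (DCoh.toD Y G) := fun m =>
      (Groth.Agent.KFlatLib.isPseudoCoherentD_iff _ _).1 ((Groth.Agent.S6201.result i g m F).1 (hpc' m))
    obtain ⟨n, W, hyW, hsm⟩ := Groth.Agent.PushAmp.exists_smoothOfRelativeDimension_nhd g y
    -- an open on which the stalkwise amplitude is uniform
    obtain ⟨O, a, b, hyO, hO⟩ : ∃ (O : Y.Opens) (a b : ℤ), y ∈ O ∧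
        ∀ z ∈ O, DerSch.HasTorAmplitudeAt g a b G z := by
      by_cases hy : y ∈ Set.range i.base
      · obtain ⟨x, rfl⟩ := hy
        obtain ⟨V, a, b, hxV, hV⟩ := htor x
        obtain ⟨O, hO, hOV⟩ := i.isClosedEmbedding.isInducing.isOpen_iff.1 V.2
        refine ⟨⟨O, hO⟩, a, b, (Set.ext_iff.1 hOV x).2 hxV, fun z hz => ?_⟩
        by_cases hzr : z ∈ Set.range i.base
        · obtain ⟨x', rfl⟩ := hzr
          exact (Groth.Agent.PushAmp.hasTorAmplitudeAt_push_iff i g F x' a b).2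
            (hV x' ((Set.ext_iff.1 hOV x').1 hz))
        · exact Groth.Agent.H9Misc.DRingTor.of_isZero (Functor.map_isZero _
            (Groth.Agent.PushAmp.isZero_stalkCx_push_compl i g F z hzr))
      · refine ⟨⟨(Set.range i.base)ᶜ, i.isClosedEmbedding.isClosed_range.isOpen_compl⟩, 0, 0, hy, fun z hz => ?_⟩
        exact Groth.Agent.H9Misc.DRingTor.of_isZero (Functor.map_isZero _
          (Groth.Agent.PushAmp.isZero_stalkCx_push_compl i g F z hz))
    let W' := W ⊓ O
    haveI := hsm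
    haveI : SmoothOfRelativeDimension n (W'.ι ≫ g) := by
      have e : Y.homOfLE (inf_le_left : W' ≤ W) ≫ W.ι ≫ g = W'.ι ≫ g := by
        rw [← Category.assoc, Scheme.homOfLE_ι]
      rw [← e]
      have h' : SmoothOfRelativeDimension (0 + n) (Y.homOfLE (inf_le_left : W' ≤ W) ≫ W.ι ≫ g) := inferInstance
      rwa [zero_add] at h'
    obtain ⟨U, j, hj, ⟨u, hu⟩, P, hv, hf, ⟨e⟩⟩ :=
      Groth.Agent.PushAmp.locPerfAmp_of_smooth (W'.ι ≫ g) n ((DCoh.restrictCx W').obj G) (a := a) (b := b)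
        (fun m => ((hpc m).restrict W'.ι).of_iso ((Groth.Agent.KFlatLib.rhoQ W'.ι).app G))
        (fun v => (Groth.Agent.PushAmp.hasTorAmplitudeAt_restrict_iff W'.ι g G v a b).2 (hO _ v.2.2)) ⟨y, hyW, hyO⟩
    refine ⟨U, j ≫ W'.ι, inferInstance, ⟨u, ?_⟩, P, ⟨⟨a - n, b, hv⟩, hf⟩,
      ⟨e ≪≫ (Groth.Agent.KFlatLib.rho j).mapIso ((Groth.Agent.KFlatLib.rhoQ W'.ι).app G).symm ≪≫
        Groth.Agent.KFlatLib.rhoComp j W'.ι _ rfl _⟩⟩
    show W'.ι.base (j.base u) = y
    rw [hu]
    rfl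
  · intro hK
    refine ⟨fun m => (Groth.Agent.S6201.result i g m F).2
      ((Groth.Agent.KFlatLib.isPseudoCoherentD_iff _ _).2 (hK.locPC m)), fun x => ?_⟩
    obtain ⟨U, j, hj, ⟨u, hu⟩, P, ⟨⟨a, b, hz⟩, hf⟩, ⟨e⟩⟩ := hK (i.base x)
    refine ⟨i ⁻¹ᵁ j.opensRange, a, b, ⟨u, hu⟩, fun x' hx' => ?_⟩
    obtain ⟨v, hv⟩ := hx'
    refine (Groth.Agent.PushAmp.hasTorAmplitudeAt_push_iff i g F x' a b).1 ?_
    rw [← hv]
    exact (Groth.Agent.PushAmp.hasTorAmplitudeAt_restrict_iff j g _ v a b).1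
      (Groth.Agent.PushAmp.hasTorAmplitudeAt_of_iso (j ≫ g) (e ≪≫ (Groth.Agent.KFlatLib.rhoQ j).app _)
        (Groth.Agent.PushAmp.hasTorAmplitude_of_flatOver (j ≫ g) hz (fun k =>
          Groth.Agent.PushAmp.isFlatOver_of_isFlat (j ≫ g) (Groth.Agent.KFlatLib.isFlat_of_isFinLocFree (hf k))) _))

end Groth.Agent.S6217
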