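import Groth.Statements.S7279
import Groth.Agent.DQGen.Compact
import Groth.Agent.InvX.Tensor
import Groth.Agent.KFlatLib.Scheme.RHomBounded
import Groth.Agent.KFlatLib.Scheme.RHomLocal
import Groth.Agent.KFlatLib.Perfect.Top
-- import your own Groth.Agent.* helpers here

set_option autoImplicit false
universe u
open CategoryTheory CategoryTheory.Limits AlgebraicGeometry
attribute [local instance] HasDerivedCategory.standard
open Perf

namespace Groth.Agent.S7279

open CategoryTheory Limits AlgebraicGeometry Pretriangulated KFlatLib DQGen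

lemma isPerfect_structure (X : Scheme.{u}) :
    DCoh.IsPerfect (DCoh.inD X (Coh.structureModule X)) := by
  refine (isPerfect_iff _).2 fun x => ⟨_, (⊤ : X.Opens).ι, inferInstance, ⟨⟨x, trivial⟩, rfl⟩,
    _, ?_, ⟨((rhoQ (⊤ : X.Opens).ι).app _).symm ≪≫ (rho (⊤ : X.Opens).ι).mapIso
      ((DerivedCategory.singleFunctorIsoCompQ X.Modules 0).app (Coh.structureModule X)).symm⟩⟩
  refine isStrictlyPerfect_restrict _ ⟨⟨0, 0, fun i hi =>
    HomologicalComplex.isZero_single_obj_X (ComplexShape.up ℤ) 0 _ i (by omega)⟩, fun i => ?_⟩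
  rcases eq_or_ne i 0 with h | h
  · subst h
    exact H23.PullPush.isFinLocFree_of_iso
      (HomologicalComplex.singleObjXSelf (ComplexShape.up ℤ) 0 _).symm
      (H23.PullPush.isFinLocFree_of_isInvertible InvX.isInvertible_structureModule)
  · exact isFinLocFree_of_isZero (HomologicalComplex.isZero_single_obj_X (ComplexShape.up ℤ) 0 _ i h)

open scoped KFlatLib in
/-- The internal hom kills acyclic K-injectives. -/
lemma isZero_Q_iHom {V : Scheme.{u}} (K J : CochainComplex V.Modules ℤ) [J.IsKInjective]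
    [∀ n, Injective (J.X n)] (hJ : IsZero (DerivedCategory.Q.obj J)) :
    IsZero (DerivedCategory.Q.obj ((iHom K).obj J)) := by
  obtain ⟨h⟩ : Nonempty (Homotopy (𝟙 J) 0) :=
    homotopy_of_Q_map_eq _ _ (hJ.eq_of_src _ _)
  obtain ⟨H⟩ := (Inner.nonempty_homotopy_iff (DCoh.tensorBi (X := V)) (P := K) (I := J)
    (𝟙 ((iHom K).obj J)) 0).2 ⟨by
      exact ((Homotopy.ofEq (Category.comp_id _).symm).trans (h.compLeft _)).trans
        (Homotopy.ofEq (by rw [comp_zero, Adjunction.homEquiv_counit, Functor.map_zero, zero_comp]))⟩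
  refine (IsZero.iff_id_eq_zero _).2 ?_
  rw [← DerivedCategory.Q.map_id, DerivedCategory.Q_map_eq_of_homotopy _ H, Functor.map_zero]

/-- Let X be a quasi-compact and quasi-separated scheme, U ⊆ X a quasi-compact open with closed
complement T = X ∖ U, P a cochain complex of O_X-modules with quasi-coherent cohomology sheaves and
E ∈ D_QCoh(O_X) supported on T (every cohomology sheaf of E has support in T). Assume either (1) P
is perfect, or (2) P is pseudo-coherent and E is bounded below, and assume the derived functors -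
⊗^L P and RHom(P, -) exist. Then for every morphism γ : O_X[0] ⊗^L P ⟶ E there exist a perfect I ∈
D(O_X) and a morphism i : I ⟶ O_X[0] such that the composition of i ⊗^L P with γ is zero and the
restriction i|_U is an isomorphism. (The published statement is about a morphism α : P ⟶ E and the
induced map I ⊗^L P ⟶ E; composing with the unit isomorphism O_X[0] ⊗^L P ≅ P identifies morphisms α
with morphisms γ, so the present form, quantified over all γ, is the same assertion.) -/
theorem result (X : Scheme.{u}) [CompactSpace ↥X]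
    [QuasiSeparatedSpace ↥X] (U : X.Opens) (hU : IsCompact (U : Set X))
    (P : CochainComplex X.Modules ℤ) (hPq : DCoh.IsQCohD (DCoh.toD X P)) [DCoh.HasLTensorCx P] [DCoh.HasRSheafHom P]
    (E : DCoh.D X) (hEq : DCoh.IsQCohD E) (hEsupp : ∀ i : ℤ, CohB1.support (DCoh.HD E i) ⊆ (U : Set X)ᶜ)
    (h : DCoh.IsPerfect (DCoh.toD X P) ∨ ((∀ m : ℤ, DCoh.IsPseudoCoherentD m (DCoh.toD X P)) ∧ ∃ a : ℤ, E.IsGE a))
    (γ : (DCoh.LTensorCx P).obj (DCoh.inD X (Coh.structureModule X)) ⟶ E) :
    ∃ (I : DCoh.D X) (i : I ⟶ DCoh.inD X (Coh.structureModule X)), DCoh.IsPerfect I ∧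
      (DCoh.LTensorCx P).map i ≫ γ = 0 ∧ IsIso ((DCoh.restrictD U.ι).map i) := by
  let N := (DCoh.RSheafHom P).obj E
  let O := DCoh.inD X (Coh.structureModule X)
  have hN : DCoh.IsQCohD N := by
    rcases h with h | ⟨h, a, _⟩
    · exact KFlatLib.isQCohD_RSheafHom_of_isPerfect P h E hEq
    · exact KFlatLib.isQCohD_RSheafHom_of_pseudoCoherent P h E hEq a
  have hE0 : IsZero ((rho U.ι).obj E) := (isZero_rho_iff_support U E).2 hEsupp
  have hN0 : IsZero ((rho U.ι).obj N) := by
    obtain ⟨I, hI, hinj, ⟨eE⟩⟩ := exists_kInjective_rep E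
    haveI := hI
    haveI : ((rCx U.ι).obj I).IsKInjective := isKInjective_rCx U.ι I
    haveI : ∀ n, Injective (((rCx U.ι).obj I).X n) := injective_rCx U.ι I
    obtain ⟨e⟩ := nonempty_RSheafHom_iso P I
    obtain ⟨e₁⟩ := nonempty_rho_iHom U.ι P I
    exact (isZero_Q_iHom _ _ (hE0.of_iso
      (((rhoQ U.ι).app I).symm ≪≫ (rho U.ι).mapIso eE.symm))).of_iso
      ((rho U.ι).mapIso ((DCoh.RSheafHom P).mapIso eE ≪≫ e) ≪≫ e₁)
  let adjP := DCoh.RSheafHomAdj P
  let γ' : O ⟶ N := adjP.homEquiv O E γ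
  obtain ⟨K, hK, hdet⟩ := hasDetector X U hU
  have hO := isPerfect_structure X
  obtain ⟨R, ψ, g, hR, hψ⟩ := exists_factor_scheme hK hdet (F := 𝟭 _)
    (compactIn_of_isPerfect U hO) (T := N) ⟨hN, hN0⟩ γ'
  replace hψ : γ' = ψ ≫ g := hψ
  obtain ⟨I, i, c, hT⟩ := distinguished_cocone_triangle₁ ψ
  refine ⟨I, i, (isPerfect_iff _).2 ((locSP_two_of_three _ hT).2.2 ((isPerfect_iff _).1 hO)
    ((isPerfect_iff _).1 hR.1)), ?_, ?_⟩
  · haveI : (DCoh.LTensorCx P).PreservesZeroMorphisms :=
      Functor.preservesZeroMorphisms_of_isLeftAdjoint _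
    have h0 : i ≫ γ' = 0 := by
      rw [hψ, ← Category.assoc, show i ≫ ψ = 0 from comp_distTriang_mor_zero₁₂ _ hT, zero_comp]
    have hγ : γ = (adjP.homEquiv O E).symm γ' := ((adjP.homEquiv O E).symm_apply_apply γ).symm
    rw [hγ, ← Adjunction.homEquiv_naturality_left_symm, h0, Adjunction.homEquiv_counit,
      Functor.map_zero, zero_comp]
  · exact (Triangle.isZero₃_iff_isIso₁ _ ((rho U.ι).map_distinguished _ hT)).1 hR.2


end Groth.Agent.S7279
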