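import Groth.Statements.S12088
import Groth.Agent.PushAmp.ChartTower
import Groth.Agent.PushAmp.RelPC

set_option autoImplicit false
universe u
open CategoryTheory CategoryTheory.Limits AlgebraicGeometry
attribute [local instance] HasDerivedCategory.standard
open FlatMor

namespace Groth.Agent.S12088

open Groth.Agent

/-- Let `f : X ⟶ Y` and `g : Y ⟶ S` be locally of finite type with `g` pseudo-coherent (`O_Y` placed in
degree `0` is `n`-pseudo-coherent relative to `g` for every integer `n`), `m` an integer and `E` any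
object of `D(O_X)`. Relative to `f`, `E` is `m`-pseudo-coherent if and only if it is
`m`-pseudo-coherent relative to the composite `f ≫ g` (cover-and-chart form). No boundedness of `E`
is assumed: relative pseudo-coherence forces it locally on `X`. -/
theorem result {X Y S : Scheme.{u}} (f : X ⟶ Y) (g : Y ⟶ S)
    [LocallyOfFiniteType f] [LocallyOfFiniteType g] (hg : ∀ n : ℤ, DerSch.IsNPseudoCoherent g n)
    (m : ℤ) (E : DCoh.D X) :
    DerSch.IsPseudoCoherentRel f m E ↔ DerSch.IsPseudoCoherentRel (f ≫ g) m E := by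
  refine ⟨fun h => PushAmp.relPC_comp f g hg m h, fun h => ?_⟩
  refine PushAmp.relPC_of_local f fun x => ?_
  obtain ⟨U, b, hxU, hb⟩ := PushAmp.exists_bound_near_of_relPC (f ≫ g) h x
  have h1 : DerSch.IsPseudoCoherentRel ((U.ι ≫ f) ≫ g) m ((KFlatLib.rho U.ι).obj E) := by
    rw [Category.assoc]
    exact PushAmp.relPC_restrict U.ι (f ≫ g) h
  have hb' : ∀ i, b < i → IsZero (DCoh.HD ((KFlatLib.rho U.ι).obj E) i) := fun i hi =>
    (hb i hi).of_iso (KFlatLib.hdRhoIso U.ι E i)
  have h2 := PushAmp.relPC_cancel (U.ι ≫ f) g m b hb' h1 (hg _)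
  exact PushAmp.exists_cpa_of_restrict U.ι f h2 ⟨x, hxU⟩

end Groth.Agent.S12088
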