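import Groth.Statements.S12089
import Groth.Agent.PushAmp.TowerTensor
import Groth.Agent.PushAmp.TowerPerf
import Groth.Agent.PushAmp.RelPCBaseChange
import Groth.Agent.PushAmp.RelPC
import Groth.Agent.KFlatLib.Scheme.LpullComp

set_option autoImplicit false
universe u
open CategoryTheory CategoryTheory.Limits AlgebraicGeometry
attribute [local instance] HasDerivedCategory.standard
open FlatMor

namespace Groth.Agent.S12089

set_option backward.isDefEq.respectTransparency false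
set_option linter.style.haveILetI false
open Groth.Agent Groth.Agent.KFlatLib
attribute [local instance] HasDerivedCategory.standard

/-- Derived pullbacks along a commutative square. -/
lemma nonempty_lpull_square {P A B Z : Scheme.{u}} (a : P ⟶ A) (b : A ⟶ Z) (c : P ⟶ B) (d : B ⟶ Z)
    (w : a ≫ b = c ≫ d) [DCoh.HasLpull a] [DCoh.HasLpull b] [DCoh.HasLpull c] [DCoh.HasLpull d]
    (E : DCoh.D Z) :
    Nonempty ((DCoh.Lpull a).obj ((DCoh.Lpull b).obj E) ≅ (DCoh.Lpull c).obj ((DCoh.Lpull d).obj E)) := by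
  haveI := hasLpull (a ≫ b)
  haveI : DCoh.HasLpull (c ≫ d) := by rw [← w]; infer_instance
  obtain ⟨e₁⟩ := nonempty_lpull_comp (f := a) (g := b)
  obtain ⟨e₂⟩ := nonempty_lpull_comp (f := c) (g := d)
  have e₃ : ∀ {p q : P ⟶ Z} [DCoh.HasLpull p] [DCoh.HasLpull q], p = q →
      Nonempty ((DCoh.Lpull p).obj E ≅ (DCoh.Lpull q).obj E) := by
    intro p q _ _ h
    subst h
    exact ⟨Iso.refl _⟩
  obtain ⟨e⟩ := e₃ w
  exact ⟨e₁.app E ≪≫ e ≪≫ (e₂.app E).symm⟩


/-- Let `f : X ⟶ Y` and `g : Y ⟶ S` be locally of finite type with `f` pseudo-coherent (`O_X` in degree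
`0` is `n`-pseudo-coherent relative to `f` for every `n`), `m` an integer and `E` an object of
`D(O_Y)` which is `m`-pseudo-coherent relative to `g` (cover-and-chart form). Then, the derived
pullback `Lf^*` being assumed to exist, `Lf^* E` is `m`-pseudo-coherent relative to `f ≫ g`. No
boundedness of `E` is assumed. -/
theorem result {X Y S : Scheme.{u}} (f : X ⟶ Y) (g : Y ⟶ S)
    [LocallyOfFiniteType f] [LocallyOfFiniteType g] (hf : ∀ n : ℤ, DerSch.IsNPseudoCoherent f n) [DCoh.HasLpull f]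
    (m : ℤ) (E : DCoh.D Y) (hE : DerSch.IsPseudoCoherentRel g m E) :
    DerSch.IsPseudoCoherentRel (f ≫ g) m ((DCoh.Lpull f).obj E) := by
  refine PushAmp.relPC_of_local (f ≫ g) fun x => ?_
  obtain ⟨U, d, hxU, hd⟩ := PushAmp.exists_bound_near_of_relPC g hE (f.base x)
  let W : X.Opens := f ⁻¹ᵁ U
  let f' := f ∣_ U
  have hsq : IsPullback W.ι f' f U.ι := (isPullback_morphismRestrict f U).flip
  haveI : Flat U.ι := inferInstance
  haveI : LocallyOfFiniteType f' := MorphismProperty.of_isPullback (P := @LocallyOfFiniteType) hsq inferInstance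
  haveI := hasLpull W.ι
  haveI := hasLpull U.ι
  haveI := hasLpull f'
  have hf' : ∀ n, DerSch.IsPseudoCoherentRel f' n (DCoh.toD _ (DerSch.unitCx (W : Scheme.{u}))) := fun n => by
    obtain ⟨e⟩ := PushAmp.nonempty_rho_lpull W.ι (DCoh.toD X (DerSch.unitCx X))
    refine PushAmp.relPC_of_iso f' (e.symm ≪≫ (rhoQ W.ι).app _ ≪≫ DerivedCategory.Q.mapIso
      ((HomologicalComplex.singleMapHomologicalComplex (Scheme.Modules.restrictFunctor W.ι)
        (ComplexShape.up ℤ) 0).app _ ≪≫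
        (HomologicalComplex.single _ (ComplexShape.up ℤ) 0).mapIso (restrictStructureIso W.ι))) ?_
    exact PushAmp.relPC_lpull_baseChange hsq (PushAmp.isQCohD_of_relPC f hf) (hf n)
  have hEU := PushAmp.relPC_restrict U.ι g hE
  haveI : ((rho U.ι).obj E).IsLE d :=
    (DerivedCategory.isLE_iff _ _).2 fun i hi => (hd i hi).of_iso (hdRhoIso U.ι E i)
  haveI : (DCoh.toD _ (DerSch.unitCx (W : Scheme.{u}))).IsLE 0 :=
    inferInstanceAs ((DerivedCategory.Q.obj ((HomologicalComplex.single _ (ComplexShape.up ℤ) 0).obj _)).IsLE 0)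
  haveI := hasLTensorCx (DerSch.unitCx (W : Scheme.{u}))
  have h := PushAmp.relPC_ltensor_lpull f' (U.ι ≫ g) (m - d) 0 m d m (by omega) (by omega)
    (DerSch.unitCx (W : Scheme.{u})) (hf' _) ((rho U.ι).obj E) hEU
  obtain ⟨R, hR, ⟨eR⟩⟩ := exists_kFlat_rep ((rho U.ι).obj E)
  obtain ⟨u⟩ := nonempty_tensorUnitIso ((pullCx f').obj R)
  obtain ⟨e₁⟩ := PushAmp.nonempty_rho_lpull W.ι ((DCoh.Lpull f).obj E)
  obtain ⟨e₂⟩ := PushAmp.nonempty_rho_lpull U.ι E
  obtain ⟨e₃⟩ := nonempty_lpull_square W.ι f f' U.ι hsq.w E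
  have e : (DCoh.LTensorCx (DerSch.unitCx (W : Scheme.{u}))).obj ((DCoh.Lpull f').obj ((rho U.ι).obj E)) ≅
      (rho W.ι).obj ((DCoh.Lpull f).obj E) :=
    (DCoh.LTensorCx (DerSch.unitCx (W : Scheme.{u}))).mapIso ((DCoh.Lpull f').mapIso eR.symm ≪≫ lpullIso f' hR) ≪≫
      ltensorCxIso (DerSch.unitCx (W : Scheme.{u})) (isKFlat_pullback f' hR) ≪≫ DerivedCategory.Q.mapIso u ≪≫
      ((DCoh.Lpull f').mapIso eR.symm ≪≫ lpullIso f' hR).symm ≪≫
      (DCoh.Lpull f').mapIso e₂ ≪≫ e₃.symm ≪≫ e₁.symm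
  have h' := PushAmp.relPC_of_iso _ e h
  have hw : f' ≫ U.ι ≫ g = W.ι ≫ f ≫ g := by rw [← reassoc_of% hsq.w]
  rw [hw] at h'
  exact PushAmp.exists_cpa_of_restrict W.ι (f ≫ g) h' ⟨x, hxU⟩

end Groth.Agent.S12089
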