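import Groth.Statements.S5154
import Groth.Agent.FlatLoc6.EquidimCat
import Groth.Agent.RGammaI.DepthTwoConn
-- import your own Groth.Agent.* helpers here

set_option autoImplicit false
universe u
open LocCoh

namespace Groth.Agent.S5154

/-- Let A be a Noetherian local ring which is catenary and such that depth A_p ≥ 2 for every prime p
with dim A_p ≥ 2. Then all irreducible components of Spec A have dimension dim A: for every minimal
prime p, dim A/p = dim A. -/
theorem result (A : Type u) [CommRing A] [IsLocalRing A] [IsNoetherianRing A] (hc : CAlg.IsCatenary A) (h : ∀ p : PrimeSpectrum A, (2 : ℕ∞) ≤ p.asIdeal.height → (2 : ℕ∞) ≤ LocCoh.depth (Localization.AtPrime p.asIdeal) (Localization.AtPrime p.asIdeal)) (p : Ideal A) (hp : p ∈ minimalPrimes A) : ringKrullDim (A ⧸ p) = ringKrullDim A := by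
  classical
  haveI := hp.1.1
  have hfin := minimalPrimes.finite_of_isNoetherianRing A
  by_contra hne
  let P1 : Set (Ideal A) := {q | q ∈ minimalPrimes A ∧ ringKrullDim (A ⧸ q) = ringKrullDim A}
  let P2 : Set (Ideal A) := {q | q ∈ minimalPrimes A ∧ ringKrullDim (A ⧸ q) ≠ ringKrullDim A}
  obtain ⟨p₁, hp₁⟩ : P1.Nonempty := by
    let m := IsLocalRing.closedPoint A
    obtain ⟨n, hn⟩ := ENat.ne_top_iff_exists.1 (show Order.height m ≠ ⊤ by
      rw [← m.height_eq_orderHeight]; exact Ideal.height_ne_top m.2.ne_top)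
    obtain ⟨l, hl, hlen, hsat, hhead⟩ := Groth.Agent.DimFormula.exists_saturated_series hn.symm
    obtain ⟨l', hh', hl', hs', hd'⟩ := Groth.Agent.FlatLoc6.exists_saturated_to_closedPoint l.head
    refine ⟨l.head.asIdeal, ⟨⟨l.head.2, bot_le⟩, fun Q hQ hle => ?_⟩, ?_⟩
    · exact Order.height_eq_zero.1 hhead (show (⟨Q, hQ.1⟩ : PrimeSpectrum A) ≤ l.head from hle)
    · have := hc.2 l l' hh'.symm (hl.trans hl'.symm) hsat hs'
      rw [← hd', ← this, ← IsLocalRing.maximalIdeal_height_eq_ringKrullDim,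
        show (IsLocalRing.maximalIdeal A) = m.asIdeal from rfl, m.height_eq_orderHeight, ← hn, hlen]
  have hs1 : P1 ⊆ minimalPrimes A := fun q hq => hq.1
  have hs2 : P2 ⊆ minimalPrimes A := fun q hq => hq.1
  obtain ⟨a, hale, hlea⟩ := Groth.Agent.RGammaI.exists_ideal_of_finite_primes P1 (hfin.subset hs1)
  obtain ⟨b, hble, hleb⟩ := Groth.Agent.RGammaI.exists_ideal_of_finite_primes P2 (hfin.subset hs2)
  have hmul : a * b ≤ nilradical A := by
    rw [nilradical, ← Ideal.sInf_minimalPrimes]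
    refine le_sInf fun q hq => ?_
    by_cases h1 : ringKrullDim (A ⧸ q) = ringKrullDim A
    · exact Ideal.mul_le_left.trans (hale q ⟨hq, h1⟩)
    · exact Ideal.mul_le_right.trans (hble q ⟨hq, h1⟩)
  have hnota : ∀ Q : Ideal A, Q ∈ minimalPrimes A → Q ∉ P1 → ¬ a ≤ Q := fun Q hQ hQP h => by
    obtain ⟨q, hq, hq'⟩ := hlea Q hQ.1.1 h
    exact hQP (le_antisymm hq' (hQ.2 ⟨(hs1 hq).1.1, bot_le⟩ hq') ▸ hq)
  have hnotb : ∀ Q : Ideal A, Q ∈ minimalPrimes A → Q ∉ P2 → ¬ b ≤ Q := fun Q hQ hQP h => by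
    obtain ⟨q, hq, hq'⟩ := hleb Q hQ.1.1 h
    exact hQP (le_antisymm hq' (hQ.2 ⟨(hs2 hq).1.1, bot_le⟩ hq') ▸ hq)
  haveI := hp₁.1.1.1
  have hab : a ⊔ b ≤ IsLocalRing.maximalIdeal A :=
    sup_le ((hale p₁ hp₁).trans (IsLocalRing.le_maximalIdeal hp₁.1.1.1.ne_top))
      ((hble p ⟨hp, hne⟩).trans (IsLocalRing.le_maximalIdeal hp.1.1.ne_top))
  obtain ⟨P, hPmin, -⟩ := Ideal.exists_minimalPrimes_le hab
  haveI hPp : P.IsPrime := hPmin.1.1
  obtain ⟨p', hp', hp'P⟩ := hlea P hPp (le_sup_left.trans hPmin.1.2)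
  obtain ⟨q', hq', hq'P⟩ := hleb P hPp (le_sup_right.trans hPmin.1.2)
  haveI := hp'.1.1.1
  haveI := hq'.1.1.1
  have hpq : p' ≠ q' := fun e => hq'.2 (e ▸ hp'.2)
  have hlt : ∀ (r : Ideal A), r ∈ minimalPrimes A → r ≤ P → r ≠ P := fun r hr hrP e => by
    subst e
    exact hpq ((le_antisymm hp'P (hr.2 ⟨inferInstance, bot_le⟩ hp'P)).trans
      (le_antisymm hq'P (hr.2 ⟨inferInstance, bot_le⟩ hq'P)).symm)
  -- the height of `P` is one
  have h2 : ¬ (2 : ℕ∞) ≤ P.height := by
    intro h2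
    let B := Localization.AtPrime P
    obtain ⟨N, hN⟩ := Ideal.FG.isNilpotent_iff_le_nilradical (IsNoetherian.noetherian (a * b)) |>.2 hmul
    rw [mul_pow] at hN
    let a' := (a ^ N).map (algebraMap A B)
    let b' := (b ^ N).map (algebraMap A B)
    have hab' : a' * b' = ⊥ := by rw [← Ideal.map_mul, hN]; exact Ideal.map_bot
    have hd := h ⟨P, hPp⟩ h2
    haveI : IsNoetherianRing B := IsLocalization.isNoetherianRing P.primeCompl B inferInstance
    have hrad : IsLocalRing.maximalIdeal B ≤ (a' ⊔ b').radical := by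
      rw [Ideal.radical_eq_sInf]
      refine le_sInf fun Q hQ => ?_
      haveI := hQ.2
      have hQP : Q.comap (algebraMap A B) ≤ P := by
        exact (Ideal.comap_mono (IsLocalRing.le_maximalIdeal hQ.2.ne_top)).trans
          (le_of_eq (Localization.AtPrime.under_maximalIdeal (I := P)))
      have : a ⊔ b ≤ Q.comap (algebraMap A B) := sup_le
        (fun x hx => (hQ.2.comap _).mem_of_pow_mem N (Ideal.map_le_iff_le_comap.1 (le_sup_left.trans hQ.1) (Ideal.pow_mem_pow hx N)))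
        (fun x hx => (hQ.2.comap _).mem_of_pow_mem N (Ideal.map_le_iff_le_comap.1 (le_sup_right.trans hQ.1) (Ideal.pow_mem_pow hx N)))
      have heq := le_antisymm hQP (hPmin.2 ⟨hQ.2.comap _, this⟩ hQP)
      rw [← Localization.AtPrime.map_eq_maximalIdeal, Ideal.map_le_iff_le_comap, heq]
    have hN0 : N ≠ 0 := fun e => by subst e; simp at hN
    have hle' : a' ⊔ b' ≤ IsLocalRing.maximalIdeal B := by
      rw [← Localization.AtPrime.map_eq_maximalIdeal]
      exact sup_le (Ideal.map_mono ((Ideal.pow_le_self hN0).trans (le_sup_left.trans hPmin.1.2)))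
        (Ideal.map_mono ((Ideal.pow_le_self hN0).trans (le_sup_right.trans hPmin.1.2)))
    have hkill : (∀ r ∈ a', r = 0) ∨ ∀ r ∈ b', r = 0 :=
      (Groth.Agent.RGammaI.eq_bot_or_eq_bot_of_two_le_depth hd a' b' hab' hle' hrad).imp
        (Submodule.eq_bot_iff _).1 (Submodule.eq_bot_iff _).1
    have hfinal : ∀ (J : Ideal A) (q : Ideal A) [q.IsPrime], q ≤ P → ¬ J ≤ q →
        ¬ (∀ r ∈ (J ^ N).map (algebraMap A B), r = 0) := fun J q _ hqP hJq hz => by
      obtain ⟨r, hr, hrq⟩ := SetLike.not_le_iff_exists.1 hJq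
      have := hz _ (Ideal.mem_map_of_mem _ (Ideal.pow_mem_pow hr N))
      rw [IsLocalization.map_eq_zero_iff P.primeCompl] at this
      obtain ⟨⟨s, hs⟩, hs'⟩ := this
      exact ((inferInstance : q.IsPrime).mem_or_mem (show s * r ^ N ∈ q by rw [hs']; exact q.zero_mem)).elim
        (fun h => hs (hqP h)) fun h => hrq ((inferInstance : q.IsPrime).mem_of_pow_mem N h)
    rcases hkill with hk | hk
    · exact hfinal a q' hq'P (hnota q' hq'.1 fun h => hq'.2 h.2) hk
    · exact hfinal b p' hp'P (hnotb p' hp'.1 fun h => h.2 hp'.2) hk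
  have hcov : ∀ (r : Ideal A) [r.IsPrime], r ∈ minimalPrimes A → r ≤ P →
      (⟨r, inferInstance⟩ : PrimeSpectrum A) ⋖ ⟨P, hPp⟩ := by
    intro r _ hr hrP
    refine ⟨lt_of_le_of_ne hrP fun e => hlt r hr hrP (congrArg PrimeSpectrum.asIdeal e), fun z hz hz' => h2 ?_⟩
    have h1 := Order.height_add_one_le hz
    have h3 := Order.height_add_one_le hz'
    rw [show P = (⟨P, hPp⟩ : PrimeSpectrum A).asIdeal from rfl, PrimeSpectrum.height_eq_orderHeight]
    refine le_trans ?_ h3
    refine le_trans ?_ (add_le_add h1 le_rfl)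
    rw [add_assoc, one_add_one_eq_two]
    exact le_add_self
  have e1 := Groth.Agent.FlatLoc6.ringKrullDim_quotient_covBy hc (hcov p' hp'.1 hp'P)
  have e2 := Groth.Agent.FlatLoc6.ringKrullDim_quotient_covBy hc (hcov q' hq'.1 hq'P)
  exact hq'.2 (e2.trans (e1.symm.trans hp'.2))

end Groth.Agent.S5154
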