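import Groth.Statements.S1717
import Groth.Agent.S5154
import Groth.Agent.FlatLoc6.SerreNormal

set_option autoImplicit false
universe u
open LocCoh

namespace Groth.Agent.S1717

/-- Let A be a catenary Noetherian local ring satisfying Serre's condition (S_2). Then Spec A is
equidimensional: for every minimal prime p of A the dimension of A/p equals the dimension of A. -/
theorem result (A : Type u) [CommRing A] [IsLocalRing A] [IsNoetherianRing A] (hc : CAlg.IsCatenary A) (hS : LocCoh.HasSk 2 A A) (p : Ideal A) (hp : p ∈ minimalPrimes A) : ringKrullDim (A ⧸ p) = ringKrullDim A := by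
  refine S5154.result A hc (fun P hP => ?_) p hp
  haveI := P.2
  have h := (FlatLoc6.hasSk_self_iff 2).1 hS P.asIdeal
  rwa [Nat.cast_ofNat, min_eq_left hP] at h

end Groth.Agent.S1717
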