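import Groth.Statements.S3254
import Groth.Agent.S7884
import Groth.Agent.Ref1X.CurveAux
import Groth.Agent.CurveCohLib.SubBundle

set_option linter.style.haveILetI false
set_option backward.isDefEq.respectTransparency false
set_option backward.isDefEq.respectTransparency.types false
set_option maxHeartbeats 1000000

set_option autoImplicit false
universe u
open AlgebraicGeometry CategoryTheory CategoryTheory.Limits
open ArSurf

open TopologicalSpace Groth.Agent
attribute [local instance 2000] CategoryTheory.CategoryStruct.toQuiver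

namespace Groth.Agent.S3254

/-- Castelnuovo's criterion, existence of the contraction: let R be a discrete valuation ring with
residue field k, X an arithmetic surface over Spec R, and E a vertical prime divisor of X over the
closed point such that, for some finite field extension k' of k, E is k-isomorphic to the projective
line over k', and E · E = −[k' : k], where E · E = deg_k(L|_E) for an invertible L with L ⊗ I(E) ≅
O_X. Then there are an arithmetic surface Y over Spec R, an R-morphism f : X → Y and a closed point
y of Y such that f maps E onto y, the inverse image of Y minus y is exactly X minus E, and f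
restricts to an isomorphism from X minus E onto Y minus y. -/
theorem result (R : Type u) [CommRing R] [IsDomain R] [IsDiscreteValuationRing R]
    (X : Over (Spec (CommRingCat.of R))) (hX : ArSurf.IsArithSurface R X) (E : ArSurf.VertComp R X)
    (k' : Type u) [Field k'] [Algebra (IsLocalRing.ResidueField R) k'] [FiniteDimensional (IsLocalRing.ResidueField R) k']
    (e : E.curve.left ≅ CohB1.ProjSpace 1 k')
    (he : e.hom ≫ (CohB1.ProjSpace 1 k' ↘ Spec (CommRingCat.of k')) ≫
      Spec.map (CommRingCat.ofHom (algebraMap (IsLocalRing.ResidueField R) k')) = E.curve.hom)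
    (L : X.left.Modules) (hL : ClSub.IsInverseOf L (ClSub.idealMod E.ι.ker))
    (hself : ArSurf.inter R X L E = -(Module.finrank (IsLocalRing.ResidueField R) k' : ℤ)) :
    ∃ (Y : Over (Spec (CommRingCat.of R))) (f : X ⟶ Y) (y : Y.left) (hy : IsClosed ({y} : Set Y.left)),
      ArSurf.IsArithSurface R Y ∧ Set.range (E.ι ≫ f.left) = {y} ∧
      (f.left ⁻¹ᵁ (⟨{y}ᶜ, hy.isOpen_compl⟩ : Y.left.Opens) : Set X.left) = (Set.range E.ι)ᶜ ∧
      IsIso (f.left ∣_ (⟨{y}ᶜ, hy.isOpen_compl⟩ : Y.left.Opens)) := by
  haveI := ArInt.isSurf_of_isArithSurface hX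
  obtain ⟨Y, f, y, hy, hYi, hYn, hYd, hYf, hYp, hrange, hpre, hiso, hcot⟩ :=
    S7884.result R X hX E k' e he L hL 1 le_rfl (by rw [hself]; simp)
  haveI := hYi
  haveI : IsProper Y.hom := ArInt.isProper_of_isProjectiveOver hYp
  haveI : IsLocallyNoetherian Y.left := LocallyOfFiniteType.isLocallyNoetherian Y.hom
  have hreg : ∀ q : Y.left, IsRegularLocalRing (Y.left.presheaf.stalk q) := by
    intro q
    by_cases hq : q = y
    · subst hq
      have hnorm : Pi1.IsNormalScheme Y.left := fun q' => ⟨inferInstance, hYn q'⟩
      have hs : (IsLocalRing.maximalIdeal (Y.left.presheaf.stalk q)).spanFinrank = 2 := by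
        rw [IsLocalRing.spanFinrank_maximalIdeal_eq_finrank_cotangentSpace, hcot]
      rw [isRegularLocalRing_iff, hs]
      have hle : ringKrullDim (Y.left.presheaf.stalk q) ≤ 2 := hYd ▸ CurveCohLib.ringKrullDim_stalk_le_topologicalKrullDim q
      refine le_antisymm ?_ hle
      by_contra hlt
      push Not at hlt
      have h1 : ringKrullDim (Y.left.presheaf.stalk q) ≤ 1 := by
        obtain ⟨n, hn⟩ : ∃ n : ℕ∞, ringKrullDim (Y.left.presheaf.stalk q) = (n : WithBot ℕ∞) := ⟨_, (WithBot.coe_unbot _ ringKrullDim_ne_bot).symm⟩
        rw [hn] at hlt ⊢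
        induction n using ENat.recTopCoe with
        | top => exact absurd hlt (by simp)
        | coe m =>
          have h0 : (m : ℕ∞) < 2 := WithBot.coe_lt_coe.1 (show ((m : ℕ∞) : WithBot ℕ∞) < ((2 : ℕ∞) : WithBot ℕ∞) from hlt)
          have h' : m < 2 := ENat.natCast_lt_natCast.1 (h0.trans_eq Nat.cast_ofNat.symm)
          have h'' : m ≤ 1 := by omega
          exact WithBot.coe_le_coe.2 ((ENat.natCast_le_natCast.2 h'').trans_eq Nat.cast_one)
      haveI := Ref1X.isRegular_of_normal_dim_le_one hnorm h1
      have h2 := IsRegularLocalRing.spanFinrank_maximalIdeal (R := Y.left.presheaf.stalk q)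
      rw [hs] at h2
      rw [← h2] at h1
      exact absurd h1 (by norm_num)
    · let V : Y.left.Opens := ⟨{y}ᶜ, hy.isOpen_compl⟩
      haveI : IsIso (f.left ∣_ V) := hiso
      obtain ⟨p, hp⟩ := (f.left ∣_ V).surjective ⟨q, hq⟩
      have hpq : f.left p.1 = q := by
        have h := congr($(morphismRestrict_ι f.left V) p)
        rw [Scheme.Hom.comp_apply, Scheme.Hom.comp_apply, hp] at h
        exact h.symm
      subst hpq
      haveI : IsIso (f.left.stalkMap p.1) := by
        exact ((MorphismProperty.isomorphisms CommRingCat).arrow_mk_iso_iff (morphismRestrictStalkMap f.left V p)).1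
          (inferInstanceAs (IsIso ((f.left ∣_ V).stalkMap p)))
      haveI := hX.1 p.1
      exact IsRegularLocalRing.of_ringEquiv (asIso (f.left.stalkMap p.1)).commRingCatIsoToRingEquiv.symm
  exact ⟨Y, f, y, hy, ⟨hreg, hYi, hYd, hYf, hYp⟩, hrange, hpre, hiso⟩

end Groth.Agent.S3254
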