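import Groth.Statements.S7338
import Groth.Agent.FibDimOne.ModifR1

set_option autoImplicit false
universe u
open CategoryTheory CategoryTheory.Limits AlgebraicGeometry
open Resolve

namespace Groth.Agent.S7338

open TopologicalSpace Opposite Groth.Agent

theorem mem_open_generic {X : Scheme.{u}} [IsIntegral X] (W : X.Opens) (x : X) (hx : x ∈ W) :
    genericPoint X ∈ W :=
  ((genericPoint_spec X).mem_open_set_iff W.isOpen).2 ⟨x, trivial, hx⟩

theorem injOn_of_isIso {X S : Scheme.{u}} (f : X ⟶ S) (W : S.Opens) (h : IsIso (f ∣_ W)) :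
    Set.InjOn f (f ⁻¹ᵁ W : X.Opens) := fun a ha b hb hab => by
  haveI := h
  have e : (f ∣_ W) ⟨a, ha⟩ = (f ∣_ W) ⟨b, hb⟩ := Subtype.ext (by simpa using hab)
  exact congrArg Subtype.val ((f ∣_ W).homeomorph.injective e)

theorem isIso_restrict_le {X S : Scheme.{u}} (f : X ⟶ S) {W U : S.Opens} (hle : W ≤ U) (h : IsIso (f ∣_ U)) :
    IsIso (f ∣_ W) := by
  haveI := h
  have hW : U.ι ''ᵁ (U.ι ⁻¹ᵁ W) = W := by
    rw [Scheme.Hom.image_preimage_eq_opensRange_inf, Scheme.Opens.opensRange_ι, inf_eq_right.2 hle]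
  refine ((MorphismProperty.isomorphisms Scheme.{u}).arrow_mk_iso_iff
    (morphismRestrictRestrict f U (U.ι ⁻¹ᵁ W) ≪≫ morphismRestrictEq f hW)).1 ?_
  show IsIso ((f ∣_ U) ∣_ _)
  infer_instance

/-- A modification sends the generic point to the generic point. -/
theorem map_generic {X S : Scheme.{u}} [IsIntegral X] [IsIntegral S] (f : X ⟶ S) (W : S.Opens)
    (h : IsIso (f ∣_ W)) (hW : genericPoint S ∈ W) : f (genericPoint X) = genericPoint S := by
  haveI := h
  obtain ⟨z, hz⟩ := (f ∣_ W).homeomorph.surjective ⟨_, hW⟩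
  have hz' : f z.1 = genericPoint S := by simpa using congrArg Subtype.val hz
  refine (Specializes.antisymm ?_ ((genericPoint_spec S).specializes (Set.mem_univ _))).eq
  rw [← hz']
  exact ((genericPoint_spec X).specializes (Set.mem_univ z.1)).map f.continuous

theorem isIso_stalkMap_of_mem {X S : Scheme.{u}} (f : X ⟶ S) (W : S.Opens) (h : IsIso (f ∣_ W)) (x : X)
    (hx : x ∈ f ⁻¹ᵁ W) : IsIso (f.stalkMap x) := by
  haveI := h
  exact ((MorphismProperty.isomorphisms CommRingCat.{u}).arrow_mk_iso_iff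
    (morphismRestrictStalkMap f W ⟨x, hx⟩)).1 (inferInstance : IsIso _)

theorem isIso_mor_of_over {X X' S : Scheme.{u}} [IsIntegral X] [IsIntegral X'] [IsIntegral S] (f : X ⟶ S) (f' : X' ⟶ S)
    (g : X' ⟶ X) (hg : g ≫ f = f') (W : S.Opens) (h : IsIso (f ∣_ W)) (h' : IsIso (f' ∣_ W)) (hW : genericPoint S ∈ W) :
    (g ⁻¹' {genericPoint X}).Finite ∧ ∃ e : g (genericPoint X') = genericPoint X, Function.Bijective
      (X.presheaf.stalkSpecializes (specializes_of_eq e) ≫ g.stalkMap (genericPoint X')).hom := by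
  have hf := map_generic f W h hW
  have hf' := map_generic f' W h' hW
  have hmem' : genericPoint X' ∈ f' ⁻¹ᵁ W := by
    show f' (genericPoint X') ∈ W
    rw [hf']; exact hW
  have hgf : ∀ x, f (g x) = f' x := fun x => by rw [← hg]; rfl
  have hmem : g (genericPoint X') ∈ f ⁻¹ᵁ W := by
    show f (g (genericPoint X')) ∈ W
    rw [hgf, hf']; exact hW
  have e : g (genericPoint X') = genericPoint X :=
    injOn_of_isIso f W h hmem (show f (genericPoint X) ∈ W by rw [hf]; exact hW) (by rw [hgf, hf', hf])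
  refine ⟨(Set.finite_singleton (genericPoint X')).subset fun x hx => ?_, e, ?_⟩
  · have hx' : f' x = genericPoint S := by rw [← hgf, show g x = genericPoint X from hx, hf]
    exact injOn_of_isIso f' W h' (show f' x ∈ W by rw [hx']; exact hW) hmem' (hx'.trans hf'.symm)
  haveI := isIso_stalkMap_of_mem f W h _ hmem
  subst hg
  have h3 := isIso_stalkMap_of_mem (g ≫ f) W h' _ hmem'
  rw [Scheme.Hom.stalkMap_comp] at h3
  haveI : IsIso (f.stalkMap (g (genericPoint X')) ≫ g.stalkMap (genericPoint X')) := h3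
  haveI : IsIso (g.stalkMap (genericPoint X')) :=
    IsIso.of_isIso_comp_left (f.stalkMap (g (genericPoint X'))) (g.stalkMap (genericPoint X'))
  haveI := BirNormal.isIso_stalkSpecializes_of_eq e (specializes_of_eq e)
  exact ConcreteCategory.bijective_of_isIso _

/-- Let (A, m) be a Noetherian normal local domain of dimension two, and X, X' integral schemes proper
over Spec A, each an isomorphism over some nonempty open of Spec A (modifications), with X normal,
and g : X' → X a morphism over Spec A. Then R^1 g_* O_{X'} is generated by global sections and its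
support is a finite set of closed points of X, and there is a short exact sequence 0 → H^1(X, O_X) →
H^1(X', O_{X'}) → H^0(X, R^1 g_* O_{X'}) → 0, recorded here as the additivity of A-lengths. (R^1 g_*
is the right derived functor of g_* on O-modules; that O_{X'}-modules have injective resolutions is
carried as an instance hypothesis.) -/
theorem result (A : Type u) [CommRing A] [IsDomain A] [IsLocalRing A] [IsNoetherianRing A]
    [IsIntegrallyClosed A] (hdim : ringKrullDim A = 2)
    (X X' : Scheme.{u}) [X.Over (Spec (CommRingCat.of A))] [X'.Over (Spec (CommRingCat.of A))]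
    [IsProper (X ↘ Spec (CommRingCat.of A))] [IsProper (X' ↘ Spec (CommRingCat.of A))] [IsIntegral X] [IsIntegral X']
    (hX : ∃ U : (Spec (CommRingCat.of A)).Opens, (U : Set (Spec (CommRingCat.of A))).Nonempty ∧ IsIso ((X ↘ Spec (CommRingCat.of A)) ∣_ U))
    (hX' : ∃ U : (Spec (CommRingCat.of A)).Opens, (U : Set (Spec (CommRingCat.of A))).Nonempty ∧ IsIso ((X' ↘ Spec (CommRingCat.of A)) ∣_ U))
    (hXn : Pi1.IsNormalScheme X) (g : X' ⟶ X) (hg : g ≫ (X ↘ Spec (CommRingCat.of A)) = X' ↘ Spec (CommRingCat.of A))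
    [HasInjectiveResolutions X'.Modules] :
    Curv2.IsGloballyGenerated ((Coh.Rpush g 1).obj (Coh.structureModule X')) ∧
      {x : X | Nontrivial (((Coh.Rpush g 1).obj (Coh.structureModule X')).presheaf.stalk x)}.Finite ∧
      (∀ x : X, Nontrivial (((Coh.Rpush g 1).obj (Coh.structureModule X')).presheaf.stalk x) → IsClosed ({x} : Set X)) ∧
      Module.length A (Coh.HH X' (Coh.structureModule X') 1) =
        Module.length A (Coh.HH X (Coh.structureModule X) 1) +
          Module.length A (Coh.HH X ((Coh.Rpush g 1).obj (Coh.structureModule X')) 0) := by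
  let f := X ↘ Spec (CommRingCat.of A)
  let f' := X' ↘ Spec (CommRingCat.of A)
  obtain ⟨U, ⟨s, hs⟩, hU⟩ := hX
  obtain ⟨U', ⟨s', hs'⟩, hU'⟩ := hX'
  have hξ : genericPoint (Spec (CommRingCat.of A)) ∈ U ⊓ U' := ⟨mem_open_generic U s hs, mem_open_generic U' s' hs'⟩
  let W := U ⊓ U'
  haveI hiso : IsIso (f ∣_ W) :=
    Groth.Agent.S7338.isIso_restrict_le f inf_le_left hU
  haveI hiso' : IsIso (f' ∣_ W) :=
    Groth.Agent.S7338.isIso_restrict_le f' inf_le_right hU'
  obtain ⟨hfin, e, hbij⟩ := isIso_mor_of_over f f' g hg W hiso hiso' hξ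
  haveI : IsProper g := by
    haveI : IsProper (g ≫ f) := by rw [hg]; infer_instance
    exact IsProper.of_comp g f
  haveI := FibDimOne.isNoetherian_X (A := A) (X := X)
  haveI := FibDimOne.isNoetherian_X (A := A) (X := X')
  have hne : ∀ {Y : Scheme.{u}} [IsIntegral Y] (φ : Y ⟶ Spec (CommRingCat.of A)), IsIso (φ ∣_ W) →
      ((φ ⁻¹ᵁ W : Y.Opens) : Set Y).Nonempty := fun {Y} _ φ h =>
    ⟨genericPoint Y, show φ (genericPoint Y) ∈ W by rw [map_generic φ W h hξ]; exact hξ⟩
  have hS : topologicalKrullDim ↥(Spec (CommRingCat.of A)) = 2 := by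
    rw [← hdim]
    exact PrimeSpectrum.topologicalKrullDim_eq_ringKrullDim A
  have hdim' : topologicalKrullDim ↥X' ≤ 2 :=
    (FibDimOne.dim_le_of_modification f' ⟨_, hξ⟩ hiso' (hne f' hiso')).trans hS.le
  have hfibre := FibDimOne.fibre_dim_le_one_of_modification hdim f ⟨W, ⟨_, hξ⟩, hiso⟩
  have hO' : Coh.IsQCoh (Coh.structureModule X') := QCoh.isQCoh_structureModule
  let C : Set X := {c : X | ¬ (g ⁻¹' {c}).Finite}
  have hC : C.Finite := FibDimOne.finite_infinite_fibre g hdim' e hfin
  have hcl : ∀ c ∈ C, IsClosed ({c} : Set X) := fun c hc => FibDimOne.isClosed_of_infinite_fibre g hdim' e hfin hc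
  have hsupp : ∀ y ∉ C, Subsingleton (((Coh.Rpush g 1).obj (Coh.structureModule X')).presheaf.stalk y) :=
    fun y hy => FibDimOne.subsingleton_stalk_Rpush g hO' 0 (not_not.1 hy)
  have hsub : ∀ x : X, Nontrivial (((Coh.Rpush g 1).obj (Coh.structureModule X')).presheaf.stalk x) → x ∈ C :=
    fun x hx => by_contra fun h => not_subsingleton_iff_nontrivial.2 hx (hsupp x h)
  refine ⟨FibDimOne.isGloballyGenerated_of_finite_support hC hcl hsupp, hC.subset hsub,
    fun x hx => hcl x (hsub x hx), ?_⟩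
  let G := (Scheme.Modules.pushforward g).obj (Coh.structureModule X')
  let one' : Γ(G, ⊤) := (1 : Γ(X', g ⁻¹ᵁ ⊤))
  let φ : Coh.structureModule X ⟶ G := QCoh.homOfTop one'
  have happ : ∀ (V : X.Opens) (r : Γ(X, V)), φ.app V r = (g.app V r : Γ(X', g ⁻¹ᵁ V)) := fun V r => by
    refine (QCoh.homOfTop_app one' r).trans ?_
    show (show Γ(X', g ⁻¹ᵁ V) from g.app V r) * (show Γ(X', g ⁻¹ᵁ V) from X'.presheaf.map _ 1) = _
    rw [map_one]
    exact mul_one _
  haveI : IsIso φ := by
    refine Scheme.Modules.Hom.isIso_iff_isIso_app.2 fun V => (ConcreteCategory.isIso_iff_bijective _).2 ?_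
    haveI := Ref1X.isIso_app_of_birational hXn g e hbij V
    have := ConcreteCategory.bijective_of_isIso (g.app V)
    refine ⟨fun a b h => this.1 (((happ V a).symm.trans h).trans (happ V b)), fun b => ?_⟩
    obtain ⟨a, ha⟩ := this.2 b
    exact ⟨a, (happ V a).trans ha⟩
  have h2 : Subsingleton (Coh.HH X G 2) := QCoh.subsingleton_HH_of_iso (asIso φ) 2
    (FibDimOne.subsingleton_ge_two_qcoh (A := A) hfibre QCoh.isQCoh_structureModule 0)
  rw [FibDimOne.length_leray g hg (Coh.structureModule X') h2, (FibDimOne.hhEquiv A (asIso φ) 1).length_eq]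

end Groth.Agent.S7338
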