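import Groth.Statements.S1417
import Groth.Agent.SmoothCrit.Space
-- import your own Groth.Agent.* helpers here

set_option autoImplicit false
universe u
open FlatMor

namespace Groth.Agent.S1417

open AlgebraicGeometry CategoryTheory Limits in
/-- Let S be locally Noetherian and f : X → S locally of finite type. Then f is smooth if and only if
for every small extension B' → B of Artinian local rings (a surjection whose kernel is generated by
one element annihilated by the maximal ideal), every morphism Spec B → X and every morphism Spec B'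
→ S locally of finite type making the square commute, there is a lift Spec B' → X. -/
theorem result {X S : Scheme.{u}} (f : X ⟶ S) [IsLocallyNoetherian S] [LocallyOfFiniteType f] :
    Smooth f ↔ ∀ (B B' : Type u) [CommRing B] [CommRing B'] [IsArtinianRing B] [IsArtinianRing B'] [IsLocalRing B] [IsLocalRing B']
      (φ : B' →+* B) (ε : B'), Function.Surjective φ → RingHom.ker φ = Ideal.span {ε} → (∀ m ∈ IsLocalRing.maximalIdeal B', ε * m = 0) →
      ∀ (α : Spec (CommRingCat.of B) ⟶ X) (β : Spec (CommRingCat.of B') ⟶ S), LocallyOfFiniteType β →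
        Spec.map (CommRingCat.ofHom φ) ≫ β = α ≫ f →
        ∃ γ : Spec (CommRingCat.of B') ⟶ X, Spec.map (CommRingCat.ofHom φ) ≫ γ = α ∧ γ ≫ f = β := by
  have : LocallyOfFinitePresentation f :=
    Groth.Agent.AlgStLib.locallyOfFinitePresentation_of_isLocallyNoetherian _ inferInstance
  constructor
  · intro hf B B' _ _ _ _ _ _ φ ε hφ hε hm α β _ hw
    have hsq := Groth.Agent.SmoothCrit.ker_sq_eq_bot hε fun a ha => (mul_comm a ε).trans (hm a ha)
    let e := RingHom.quotientKerEquivOfSurjective hφ
    obtain ⟨l, h1, h2⟩ := ((Groth.Agent.S1488.result f).1 hf).2 B' (RingHom.ker φ) hsq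
      (Spec.map (CommRingCat.ofHom e.symm.toRingHom) ≫ α) β (by
        rw [Category.assoc, ← hw, ← Category.assoc, ← Spec.map_comp]
        congr 2
        ext x
        exact (e.symm_apply_apply _).symm)
    refine ⟨l, ?_, h2⟩
    have : CommRingCat.ofHom φ =
        CommRingCat.ofHom (Ideal.Quotient.mk (RingHom.ker φ)) ≫ CommRingCat.ofHom e.toRingHom := by
      ext x; rfl
    rw [this, Spec.map_comp, Category.assoc, h1, ← Category.assoc, ← Spec.map_comp]
    rw [show CommRingCat.ofHom e.symm.toRingHom ≫ CommRingCat.ofHom e.toRingHom = 𝟙 _ from by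
      ext x; exact e.apply_symm_apply x, Spec.map_id, Category.id_comp]
  intro H
  refine Scheme.Hom.smoothLocus_eq_top_iff.1 (top_le_iff.1 fun u₀ _ => ?_)
  by_contra hu₀
  obtain ⟨W, hW, hu₀W, -⟩ := exists_isAffineOpen_mem_and_subset (X := X) (x := u₀) (U := ⊤) trivial
  have : CompactSpace {x // x ∈ W} := isCompact_iff_compactSpace.1 hW.isCompact
  obtain ⟨⟨u, huW⟩, hu, hcl⟩ :=
    ((f.smoothLocus.isOpen.preimage continuous_subtype_val).isClosed_compl :
      IsClosed (Subtype.val ⁻¹' (f.smoothLocus : Set X) : Set {x // x ∈ W})ᶜ).exists_closed_singleton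
      ⟨⟨u₀, hu₀W⟩, hu₀⟩
  refine hu (Groth.Agent.SmoothCrit.mem_smoothLocus_of_lift f u fun A _ _ _ J _ t ht htm hJ ψ β _ hψ hβ => ?_)
  have := Groth.Agent.SmoothCrit.isLocalHom_of_residue_surjective ψ hψ
  exact H (A ⧸ J) A (Ideal.Quotient.mk J) t Ideal.Quotient.mk_surjective (Ideal.mk_ker.trans ht)
    (fun a ha => (mul_comm t a).trans (htm a ha)) _ β
    (Groth.Agent.SmoothCrit.locallyOfFiniteType_test f huW hcl J ψ hψ β hβ) hβ


end Groth.Agent.S1417
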