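import Groth.Statements.S2348
import Mathlib
import Groth.Agent.BlowUpLib.Glue

set_option autoImplicit false
universe u
open CategoryTheory CategoryTheory.Limits AlgebraicGeometry
open EGA2

namespace Groth.Agent.S2348

/-- For an ideal of O_Y: let Y be an integral scheme, I a nonzero quasi-coherent ideal sheaf and b : X →
Y a blowing up of Y in I (characterised by its universal property). Then X is integral, b sends the
generic point of X to that of Y and induces a bijection on their residue fields (b is birational).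
The printed statement also asserts that b is surjective; the proof does not show this and it fails
when I is not of finite type, so it is left out. -/
theorem result {X Y : Scheme.{u}} [IsIntegral Y] (I : Y.IdealSheafData) (hI : I ≠ ⊥)
    (b : X ⟶ Y) (hb : BlowUp.IsBlowUp b I) :
    ∃ (_ : IsIntegral X), ∃ hgen : b.base (genericPoint X) = genericPoint Y,
      Function.Bijective (b.residueFieldMap (genericPoint X)).hom := by
  classical
  let V : Y.Opens := I.support.compl
  haveI hbV : IsIso (b ∣_ V) := BlowUpLib.isIso_restrict hb V (fun z hz => hz)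
  have hne : (I.support : Set Y) ≠ Set.univ := fun h => hI
    (Scheme.IdealSheafData.support_eq_top_iff.1 (TopologicalSpace.Closeds.ext h))
  obtain ⟨y₀, hy₀⟩ := (Set.ne_univ_iff_exists_notMem _).1 hne
  haveI : Nonempty V.toScheme := ⟨⟨y₀, hy₀⟩⟩
  haveI : IsIntegral V.toScheme := isIntegral_of_isOpenImmersion V.ι
  let V' : X.Opens := b ⁻¹ᵁ V
  haveI hV'int : IsIntegral V'.toScheme := IsIntegral.of_isIso (inv (b ∣_ V))
  -- the exceptional ideal
  have hV' : ∀ x : X, x ∉ (I.comap b).support → x ∈ V' := fun x hx hbx => hx (by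
    rw [Scheme.IdealSheafData.support_comap]; exact hbx)
  have hloc : ∀ x : X, ∃ W : X.affineOpens, x ∈ W.1 ∧ ∃ a ∈ nonZeroDivisors Γ(X, W.1),
      X.basicOpen a ≤ V' := by
    intro x
    obtain ⟨W, hxW, a, ha, hWa⟩ := hb.1 x
    refine ⟨W, hxW, a, ha, fun z hz => hV' z fun hzs => ?_⟩
    have hzW : z ∈ W.1 := X.basicOpen_le a hz
    rw [Scheme.IdealSheafData.mem_support_iff_of_mem (U := W) hzW, hWa, Scheme.zeroLocus_span,
      Scheme.mem_zeroLocus_iff] at hzs
    exact hzs a rfl hz
  have hdense : Dense (V' : Set X) := by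
    rw [dense_iff_inter_open]
    rintro O hO ⟨x, hx⟩
    by_contra hempty
    obtain ⟨W, hxW, a, ha, hle⟩ := hloc x
    obtain ⟨r, hr, hxr⟩ := W.2.exists_basicOpen_le (V := ⟨O, hO⟩) ⟨x, hx⟩ hxW
    haveI := W.2.isLocalization_basicOpen r
    have hb0 : X.basicOpen (X.presheaf.map (homOfLE (X.basicOpen_le r)).op a) = ⊥ := by
      rw [Scheme.basicOpen_res, eq_bot_iff]
      intro z hz
      exact (hempty ⟨z, hr hz.1, hle hz.2⟩).elim
    obtain ⟨k, hk⟩ := (Scheme.isNilpotent_iff_basicOpen_eq_bot_of_isCompact (W.2.basicOpen r).isCompact _).2 hb0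
    haveI : Nontrivial Γ(X, X.basicOpen r) :=
      haveI : Nonempty (X.basicOpen r : X.Opens) := ⟨⟨x, hxr⟩⟩
      inferInstance
    letI : Algebra Γ(X, W.1) Γ(X, X.basicOpen r) :=
      (X.presheaf.map (homOfLE (X.basicOpen_le r)).op).hom.toAlgebra
    have h2 : algebraMap Γ(X, W.1) Γ(X, X.basicOpen r) a ∈ nonZeroDivisors Γ(X, X.basicOpen r) :=
      IsLocalization.map_nonZeroDivisors_le (Submonoid.powers r) Γ(X, X.basicOpen r) ⟨a, ha, rfl⟩
    exact nonZeroDivisors.ne_zero (pow_mem h2 k) hk
  haveI : IsReduced X := by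
    haveI : ∀ x : X, _root_.IsReduced (X.presheaf.stalk x) := by
      intro x
      obtain ⟨W, hxW, a, ha, hle⟩ := hloc x
      haveI hred : _root_.IsReduced Γ(X, W.1) := by
        haveI : IsReduced (X.basicOpen a).toScheme := isReduced_of_isOpenImmersion (X.homOfLE hle)
        haveI : _root_.IsReduced Γ(X, X.basicOpen a) :=
          isReduced_of_injective (X.basicOpen a).topIso.inv.hom
            (ConcreteCategory.bijective_of_isIso (X.basicOpen a).topIso.inv).1
        haveI := W.2.isLocalization_basicOpen a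
        exact isReduced_of_injective (X.presheaf.map (homOfLE (X.basicOpen_le a)).op).hom
          (IsLocalization.injective (Γ(X, X.basicOpen a)) (Submonoid.powers_le.2 ha))
      letI := X.presheaf.algebra_section_stalk (⟨x, hxW⟩ : W.1)
      haveI := W.2.isLocalization_stalk ⟨x, hxW⟩
      exact isReduced_localizationPreserves (W.2.primeIdealOf ⟨x, hxW⟩).asIdeal.primeCompl _ hred
    exact isReduced_of_isReduced_stalk X
  haveI : IrreducibleSpace X := by
    have h1 : IsIrreducible (Set.range V'.ι) := by
      rw [← Set.image_univ]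
      exact (IrreducibleSpace.isIrreducible_univ _).image _ V'.ι.continuous.continuousOn
    rw [Scheme.Opens.range_ι, ← isIrreducible_iff_closure, hdense.closure_eq] at h1
    exact { isPreirreducible_univ := h1.2, toNonempty := ⟨h1.1.choose⟩ }
  haveI : IsIntegral X := isIntegral_of_irreducibleSpace_of_isReduced X
  have key : genericPoint X ∈ V' := by
    rw [← genericPoint_eq_of_isOpenImmersion V'.ι]
    exact (genericPoint V'.toScheme).2
  have hcomp : V'.ι ≫ b = (b ∣_ V) ≫ V.ι := (morphismRestrict_ι b V).symm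
  refine ⟨inferInstance, ?_, ?_⟩
  · rw [← genericPoint_eq_of_isOpenImmersion V'.ι, ← genericPoint_eq_of_isOpenImmersion ((b ∣_ V) ≫ V.ι),
      ← Scheme.Hom.comp_apply, hcomp]
  · have hiso : ∀ w : V'.toScheme, IsIso (b.residueFieldMap (V'.ι w)) := by
      intro w
      haveI h3 : IsOpenImmersion (V'.ι ≫ b) := hcomp ▸ inferInstance
      have h4 : IsIso ((V'.ι ≫ b).residueFieldMap w) := inferInstance
      rw [Scheme.residueFieldMap_comp] at h4
      haveI : IsIso (b.residueFieldMap (V'.ι w) ≫ V'.ι.residueFieldMap w) := h4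
      exact IsIso.of_isIso_comp_right (b.residueFieldMap (V'.ι w)) (V'.ι.residueFieldMap w)
    haveI := hiso ⟨_, key⟩
    exact ConcreteCategory.bijective_of_isIso (b.residueFieldMap (V'.ι ⟨_, key⟩))

end Groth.Agent.S2348
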