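import Groth.Statements.S7308
import Groth.Agent.ResolveX.Contraction

set_option linter.style.haveILetI false
set_option backward.isDefEq.respectTransparency false
set_option backward.isDefEq.respectTransparency.types false
set_option maxHeartbeats 1000000

set_option autoImplicit false
universe u
open CategoryTheory CategoryTheory.Limits AlgebraicGeometry
open Resolve

attribute [local instance 2000] CategoryTheory.CategoryStruct.toQuiver

namespace Groth.Agent.S7308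

/-- Let X be a Noetherian scheme and ι : E → X a closed immersion which is an exceptional curve of the
first kind. A contraction of E, if it exists, is unique up to unique isomorphism: for contractions
b₁ : X → X₁ and b₂ : X → X₂ of E there is a unique isomorphism e : X₁ ≅ X₂ with b₁ ≫ e = b₂. -/
theorem result {E X X₁ X₂ : Scheme.{u}} [IsNoetherian X] (ι : E ⟶ X) [IsClosedImmersion ι]
    (hE : Models.IsExcCurve ι) (b₁ : X ⟶ X₁) (hb₁ : Models.IsContractionOf ι b₁) (b₂ : X ⟶ X₂) (hb₂ : Models.IsContractionOf ι b₂) :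
    ∃! e : X₁ ≅ X₂, b₁ ≫ e.hom = b₂ := by
  obtain ⟨hN₁, hP₁, y₁, hy₁, hr₁, hreg₁, hdim₁, hbl₁⟩ := hb₁
  obtain ⟨hN₂, hP₂, y₂, hy₂, hr₂, hreg₂, hdim₂, hbl₂⟩ := hb₂
  obtain ⟨ψ, hψ, huψ⟩ := Groth.Agent.ResolveX.exists_unique_factor_contraction ι y₁ hy₁ hdim₁ hbl₁ hE hr₁ b₂ y₂ hr₂
  obtain ⟨χ, hχ, -⟩ := Groth.Agent.ResolveX.exists_unique_factor_contraction ι y₂ hy₂ hdim₂ hbl₂ hE hr₂ b₁ y₁ hr₁
  have h1 : ψ ≫ χ = 𝟙 X₁ :=
    (Groth.Agent.ResolveX.exists_unique_factor_contraction ι y₁ hy₁ hdim₁ hbl₁ hE hr₁ b₁ y₁ hr₁).unique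
      (by rw [← Category.assoc, hψ, hχ]) (Category.comp_id _)
  have h2 : χ ≫ ψ = 𝟙 X₂ :=
    (Groth.Agent.ResolveX.exists_unique_factor_contraction ι y₂ hy₂ hdim₂ hbl₂ hE hr₂ b₂ y₂ hr₂).unique
      (by rw [← Category.assoc, hχ, hψ]) (Category.comp_id _)
  exact ⟨⟨ψ, χ, h1, h2⟩, hψ, fun e he => Iso.ext (huψ e.hom he)⟩

end Groth.Agent.S7308
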