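import Groth.Statements.S6712
import Groth.Agent.PurIso.Global
import Groth.Agent.FibreLoc5.Constr

set_option backward.isDefEq.respectTransparency false
set_option backward.isDefEq.respectTransparency.types false
set_option linter.style.haveILetI false

set_option autoImplicit false
universe u
open CategoryTheory AlgebraicGeometry
open DEquiv

namespace Groth.Agent.S6712

open CategoryTheory.Limits Groth.Agent.PurIso Groth.Agent.MorLib TopologicalSpace IsLocalRing

/-- Near a fibre over which it is an isomorphism, a morphism of proper flat families is an isomorphism. -/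
theorem exists_isIso_restrict' {X Y S : Scheme.{u}} {f : X ⟶ Y} {h : Y ⟶ S} [IsProper h] [IsProper f] [Flat (f ≫ h)] [LocallyOfFinitePresentation f]
    [LocallyOfFinitePresentation (f ≫ h)] (s : S) (hs : IsoOver f h (S.fromSpecResidueField s)) :
    ∃ W : S.Opens, s ∈ W ∧ IsIso (f ∣_ (h ⁻¹ᵁ W)) := by
  let F : X.Opens := ⟨{x | (h.stalkMap (f x)).hom.Flat ∧ (f.stalkMap x).hom.Flat},
    (Groth.Agent.S1386.result f h).2⟩
  let G : X.Opens := F ⊓ f.quasiFiniteLocus
  let V : Y.Opens := ⟨(f '' (G : Set X)ᶜ)ᶜ, (f.isClosedMap _ G.2.isClosed_compl).isOpen_compl⟩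
  have hfib : ∀ y : Y, h y = s → IsIso (pullback.snd f (Y.fromSpecResidueField y)) := fun y hy =>
    isIso_fibre_of_isoOver y (hy.symm ▸ hs)
  have hYs : ∀ y : Y, h y = s → y ∈ V := by
    rintro y hy ⟨x, hx, rfl⟩
    have hfl : (h.stalkMap (f x)).hom.Flat ∧ (f.stalkMap x).hom.Flat := by
      haveI := (isIso_fiberMap_iff (f := f) (h := h) (h (f x))).2 (hy.symm ▸ hs)
      exact ((Groth.Agent.S1386.result f h).1 x).1 ⟨Flat.stalkMap _ x, Flat.stalkMap _ _⟩
    refine hx ⟨hfl, ?_⟩
    haveI := hfib (f x) hy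
    refine Scheme.Hom.quasiFiniteAt_iff_isOpen_singleton_asFiber.2 ?_
    haveI : Subsingleton ↥(f.fiber (f x)) :=
      (pullback.snd f (Y.fromSpecResidueField (f x))).homeomorph.injective.subsingleton
    exact isOpen_discrete _
  let fV := f ∣_ V
  haveI : IsProper fV := IsZariskiLocalAtTarget.restrict (inferInstanceAs (IsProper f)) _
  haveI : LocallyOfFinitePresentation fV := IsZariskiLocalAtTarget.restrict (inferInstanceAs (LocallyOfFinitePresentation f)) _
  have hVG : f ⁻¹ᵁ V ≤ G := fun x hx => by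
    by_contra hxG
    exact hx ⟨x, hxG, rfl⟩
  haveI : Flat fV := (Flat.iff_flat_stalkMap _).2 fun z => by
    have hz : (f.stalkMap z.1).hom.Flat := (hVG z.2).1.2
    exact (RingHom.Flat.respectsIso.arrow_mk_iso_iff (morphismRestrictStalkMap f V z)).2 hz
  haveI : LocallyQuasiFinite fV := by
    rw [← Scheme.Hom.quasiFiniteLocus_eq_top_iff, eq_top_iff]
    intro z _
    have hz : f.QuasiFiniteAt z.1 := (hVG z.2).2
    rw [Scheme.Hom.mem_quasiFiniteLocus, ← Scheme.Hom.quasiFiniteAt_comp_iff (g := V.ι),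
      morphismRestrict_ι, Scheme.Hom.quasiFiniteAt_comp_iff_of_isOpenImmersion]
    exact hz
  haveI : IsFinite fV := IsFinite.of_isProper_of_locallyQuasiFinite fV
  let O : Y.Opens := V.ι ''ᵁ ⟨{v | fV.finrank v = 1}, fV.isLocallyConstant_finrank.isOpen_fiber 1⟩
  have hYsO : ∀ y : Y, h y = s → y ∈ O := by
    intro y hy
    refine ⟨⟨y, hYs y hy⟩, ?_, rfl⟩
    show fV.finrank _ = 1
    let v : V.toScheme := ⟨y, hYs y hy⟩
    have sq := (IsPullback.of_hasPullback fV (V.toScheme.fromSpecResidueField v)).paste_horiz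
      (isPullback_morphismRestrict f V).flip
    haveI : IsIso (pullback.snd fV (V.toScheme.fromSpecResidueField v)) := by
      have hy' : IsIso (pullback.snd f (Y.fromSpecResidueField (V.ι v))) := hfib _ hy
      have := isIso_pullback_snd_comp (f := f) (Spec.map (V.ι.residueFieldMap v)) (Y.fromSpecResidueField (V.ι v))
      rw [Scheme.Hom.SpecMap_residueFieldMap_fromSpecResidueField] at this
      exact MorLib.Desc.of_two (MorphismProperty.isomorphisms Scheme) (IsPullback.of_hasPullback _ _) sq this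
    have e := Scheme.Hom.finrank_pullback_snd fV (V.toScheme.fromSpecResidueField v) (closedPoint (V.toScheme.residueField v))
    rw [Scheme.Hom.finrank_eq_one_of_isIso, fromSpecResidueField_closed] at e
    exact e.symm
  let W : S.Opens := ⟨(h '' (O : Set Y)ᶜ)ᶜ, (h.isClosedMap _ O.2.isClosed_compl).isOpen_compl⟩
  refine ⟨W, fun ⟨y, hy, e⟩ => hy (hYsO y e), ?_⟩
  have hWO : h ⁻¹ᵁ W ≤ O := fun y hy => by
    by_contra hyO
    exact hy ⟨y, hyO, rfl⟩
  let U : V.toScheme.Opens := ⟨{v | fV.finrank v = 1}, fV.isLocallyConstant_finrank.isOpen_fiber 1⟩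
  haveI : IsFinite (pullback.snd fV U.ι) := MorphismProperty.pullback_snd _ _ inferInstance
  haveI : IsIso (pullback.snd fV U.ι) := by
    rw [Scheme.Hom.isIso_iff_finrank_eq]
    ext v
    rw [Scheme.Hom.finrank_pullback_snd]
    exact v.2
  let sqU := (IsPullback.of_hasPullback fV U.ι).paste_horiz (isPullback_morphismRestrict f V).flip
  haveI : IsIso (pullback.snd f (U.ι ≫ V.ι)) :=
    MorLib.Desc.of_two (MorphismProperty.isomorphisms Scheme) sqU (IsPullback.of_hasPullback _ _) ‹_›
  let l : (h ⁻¹ᵁ W).toScheme ⟶ U.toScheme := IsOpenImmersion.lift (U.ι ≫ V.ι) (h ⁻¹ᵁ W).ι (by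
    rintro _ ⟨y, rfl⟩
    obtain ⟨v, hv, e⟩ := hWO y.2
    exact ⟨⟨v, hv⟩, e⟩)
  have := isIso_pullback_snd_comp (f := f) l (U.ι ≫ V.ι)
  rw [IsOpenImmersion.lift_fac] at this
  exact MorLib.Desc.of_two (MorphismProperty.isomorphisms Scheme) (IsPullback.of_hasPullback _ _)
    (isPullback_morphismRestrict f _).flip this

theorem isoOver_iff_map {X Y S T : Scheme.{u}} {g : X ⟶ S} {h : Y ⟶ S} {p : X ⟶ Y} (w : p ≫ h = g) (ξ : T ⟶ S) :
    IsoOver p h ξ ↔ IsIso (pullback.map g ξ h ξ p (𝟙 _) (𝟙 _) ((Category.comp_id g).trans w.symm)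
      ((Category.comp_id _).trans (Category.id_comp _).symm)) := by
  subst w
  let π := pullback.map (p ≫ h) ξ h ξ p (𝟙 _) (𝟙 _) ((Category.comp_id (p ≫ h)).trans rfl)
      ((Category.comp_id _).trans (Category.id_comp _).symm)
  have h1 : π ≫ pullback.snd h ξ = pullback.snd (p ≫ h) ξ := (pullback.lift_snd _ _ _).trans (Category.comp_id _)
  have h2 : π ≫ pullback.fst h ξ = pullback.fst (p ≫ h) ξ ≫ p := pullback.lift_fst _ _ _
  have sq : IsPullback (pullback.fst (p ≫ h) ξ) π p (pullback.fst h ξ) := by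
    refine IsPullback.of_bot ?_ h2.symm (IsPullback.of_hasPullback h ξ)
    rw [h1]
    exact IsPullback.of_hasPullback (p ≫ h) ξ
  exact ⟨fun hi => MorLib.Desc.of_two (MorphismProperty.isomorphisms Scheme) (IsPullback.of_hasPullback _ _) sq hi,
    fun hi => MorLib.Desc.of_two (MorphismProperty.isomorphisms Scheme) sq (IsPullback.of_hasPullback _ _) hi⟩

open CategoryTheory.Limits in
/-- Let S be a Noetherian scheme, s ∈ S, and p : X ⟶ Y a morphism over S where X ⟶ S and Y ⟶ S are
proper and X ⟶ S is flat. If the fibre X_s ⟶ Y_s of p is an isomorphism, then there is an open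
neighbourhood U of s such that the base change X_U ⟶ Y_U of p is an isomorphism. -/
theorem result
    {S X Y : Scheme.{u}} [IsNoetherian S] (s : S) (g : X ⟶ S) (h : Y ⟶ S) (p : X ⟶ Y)
    (w : p ≫ h = g) [IsProper g] [IsProper h] [Flat g]
    (hs : IsIso (pullback.map g (S.fromSpecResidueField s) h (S.fromSpecResidueField s) p (𝟙 _)
      (𝟙 _) ((Category.comp_id g).trans w.symm)
      ((Category.comp_id _).trans (Category.id_comp _).symm))) :
    ∃ U : S.Opens, s ∈ U ∧
      IsIso (pullback.map g U.ι h U.ι p (𝟙 _) (𝟙 _) ((Category.comp_id g).trans w.symm)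
        ((Category.comp_id _).trans (Category.id_comp _).symm)) := by
  haveI : IsLocallyNoetherian Y := LocallyOfFiniteType.isLocallyNoetherian h
  subst w
  haveI : IsProper p := IsProper.of_comp p h
  haveI : LocallyOfFinitePresentation p := FibreLoc5.lfp_of_noetherian' p
  haveI : LocallyOfFinitePresentation (p ≫ h) := FibreLoc5.lfp_of_noetherian' (p ≫ h)
  obtain ⟨W, hsW, hW⟩ := exists_isIso_restrict' (f := p) (h := h) s ((isoOver_iff_map rfl _).2 hs)
  exact ⟨W, hsW, (isoOver_iff_map rfl _).1 ((isoOver_opensι W).2 hW)⟩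

end Groth.Agent.S6712
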