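import Groth.Statements.S3319
import Groth.Agent.ArInt.ModelLib
import Groth.Agent.S2209

set_option linter.style.haveILetI false
set_option backward.isDefEq.respectTransparency false
set_option backward.isDefEq.respectTransparency.types false
set_option maxHeartbeats 1000000

set_option autoImplicit false
universe u
open CategoryTheory CategoryTheory.Limits AlgebraicGeometry
open Models

namespace Groth.Agent.S3319

/-- In the following situation (R a discrete valuation ring, C a smooth proper curve over its fraction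
field with H^0(C, O_C) = K, X a regular proper model, Γ_1, …, Γ_n the irreducible components of the
closed fibre, L_j ⊗ I(Γ_j) ≅ O_X), there is no non-empty proper subset I of the indices with (Γ_i ·
Γ_j) = 0 for all i in I and j outside I. -/
theorem result (R : Type u) [CommRing R] [IsDomain R] [IsDiscreteValuationRing R]
    (C X : Scheme.{u}) (f : C ⟶ Spec (CommRingCat.of (FractionRing R))) (p : X ⟶ Spec (CommRingCat.of R))
    (hC : Curve.IsSmoothProperCurve (FractionRing R) C f) (hH0 : IsIso f.appTop)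
    (hX : Models.IsRegularProperModel R X p C f)
    {n : ℕ} (Γ : Fin n → ArSurf.VertComp R (Over.mk p)) (hΓ : Models.IsComponentList R (Over.mk p) Γ)
    (L : Fin n → X.Modules) (hL : ∀ i, ClSub.IsInverseOf (L i) (ClSub.idealMod (Γ i).ι.ker)) (I : Finset (Fin n)) (hI : I.Nonempty) (hI' : I ≠ Finset.univ) :
    ∃ i ∈ I, ∃ j ∉ I, ArSurf.inter R (Over.mk p) (L j) (Γ i) ≠ 0 := by
  haveI := (ArInt.model_facts hC hX.1).1
  haveI := ArInt.isSurf hC hX Γ hΓ
  haveI : Flat (Over.mk p).hom := hX.1.1
  haveI : ConnectedSpace ↥(Limits.pullback p (Spec.map (CommRingCat.ofHom (algebraMap R (IsLocalRing.ResidueField R))))) :=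
    Groth.Agent.S2209.result R C X f p hC hH0 hX
  have hconn : _root_.IsConnected (Models.specialFibreSet R (Over.mk p)) := by
    have h : Models.specialFibreSet R (Over.mk p) = Set.range (Limits.pullback.fst p
        (Spec.map (CommRingCat.ofHom (algebraMap R (IsLocalRing.ResidueField R))))) := by
      rw [Scheme.Pullback.range_fst]
      refine congrArg (p ⁻¹' ·) (Set.ext fun t => ⟨fun ht => ⟨IsLocalRing.closedPoint _, ?_⟩, ?_⟩)
      · rw [Set.mem_singleton_iff] at ht
        rw [ht]
        exact IsLocalRing.comap_closedPoint (IsLocalRing.residue R)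
      · rintro ⟨w, rfl⟩
        rw [Set.mem_singleton_iff, Subsingleton.elim w (IsLocalRing.closedPoint (IsLocalRing.ResidueField R))]
        exact IsLocalRing.comap_closedPoint (IsLocalRing.residue R)
    rw [h]
    exact isConnected_range (Limits.pullback.fst p
        (Spec.map (CommRingCat.ofHom (algebraMap R (IsLocalRing.ResidueField R))))).continuous
  obtain ⟨i₁, hi₁⟩ := hI
  obtain ⟨j₁, hj₁⟩ : ∃ j, j ∉ I := by
    by_contra h
    push Not at h
    exact hI' (Finset.eq_univ_of_forall h)
  by_contra hall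
  push Not at hall
  have hcl : ∀ s : Set (Fin n), IsClosed (⋃ q ∈ s, Set.range (Γ q).ι.base) := fun s =>
    (Set.toFinite s).isClosed_biUnion fun q _ => (Γ q).ι.isClosedEmbedding.isClosed_range
  obtain ⟨y, -, hyA, hyB⟩ := (isPreconnected_closed_iff.1 hconn.isPreconnected)
    (⋃ q ∈ {q | q ∈ I}, Set.range (Γ q).ι.base) (⋃ q ∈ {q | q ∉ I}, Set.range (Γ q).ι.base) (hcl _) (hcl _)
    (fun y hy => by
      obtain ⟨q, hq⟩ := Set.mem_iUnion.1 (ArInt.cover _ Γ hΓ hy)
      by_cases hb : q ∈ I
      · exact Or.inl (Set.mem_biUnion (show q ∈ {q | q ∈ I} from hb) hq)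
      · exact Or.inr (Set.mem_biUnion (show q ∈ {q | q ∉ I} from hb) hq))
    ⟨_, ArInt.mem_specialFibre (Γ i₁) (genericPoint _), Set.mem_biUnion (show i₁ ∈ {q | q ∈ I} from hi₁) ⟨_, rfl⟩⟩
    ⟨_, ArInt.mem_specialFibre (Γ j₁) (genericPoint _), Set.mem_biUnion (show j₁ ∈ {q | q ∉ I} from hj₁) ⟨_, rfl⟩⟩
  obtain ⟨a, ha, hya⟩ := Set.mem_iUnion₂.1 hyA
  obtain ⟨b, hb, hyb⟩ := Set.mem_iUnion₂.1 hyB
  have hab : a ≠ b := fun h => hb (h ▸ ha)
  exact Set.disjoint_left.1 ((ArInt.inter_nonneg Γ L hL hΓ.1 hab).2.1 (hall a ha b hb)) hya hyb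

end Groth.Agent.S3319
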