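import Groth.Statements.S3322
import Groth.Agent.ArInt.EulerChi
import Groth.Agent.ArInt.ConstField
import Groth.Agent.S3319
import Groth.Agent.S3321
import Groth.Agent.S2209

set_option linter.style.haveILetI false
set_option backward.isDefEq.respectTransparency false
set_option backward.isDefEq.respectTransparency.types false
set_option maxHeartbeats 1000000

set_option autoImplicit false
universe u
open CategoryTheory CategoryTheory.Limits AlgebraicGeometry
open Models

open Groth.Agent

namespace Groth.Agent.S3322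

/-- In the following situation (R a discrete valuation ring with residue field k, C a smooth proper
curve over its fraction field K with H^0(C, O_C) = K, X a regular proper model, Γ_1, …, Γ_n the
irreducible components of the closed fibre with multiplicities m_i, L_i ⊗ I(Γ_i) ≅ O_X) the data n,
m_i, a_ij = (Γ_i · Γ_j) = deg_k(L_j|Γ_i), w_i = dim_k H^0(Γ_i, O) and g_i with w_i g_i = dim_k
H^1(Γ_i, O) is a numerical type (n > 0, m_i > 0, (a_ij) symmetric with non-negative off-diagonal
entries, connected, killing m, w_i | a_ij, g_i ≥ 0), and its genus is the genus dim_K H^1(C, O_C) of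
C. -/
theorem result (R : Type u) [CommRing R] [IsDomain R] [IsDiscreteValuationRing R]
    (C X : Scheme.{u}) (f : C ⟶ Spec (CommRingCat.of (FractionRing R))) (p : X ⟶ Spec (CommRingCat.of R))
    (hC : Curve.IsSmoothProperCurve (FractionRing R) C f) (hH0 : IsIso f.appTop)
    (hX : Models.IsRegularProperModel R X p C f)
    {n : ℕ} (Γ : Fin n → ArSurf.VertComp R (Over.mk p)) (hΓ : Models.IsComponentList R (Over.mk p) Γ)
    (L : Fin n → X.Modules) (hL : ∀ i, ClSub.IsInverseOf (L i) (ClSub.idealMod (Γ i).ι.ker)) :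
    ∃ T : Models.NumericalType n,
      (∀ i, T.m i = (Models.mult R (Over.mk p) (Γ i) : ℤ)) ∧ (∀ i j, T.a i j = ArSurf.inter R (Over.mk p) (L j) (Γ i)) ∧
      (∀ i, T.w i = (Models.wdeg R (Over.mk p) (Γ i) : ℤ)) ∧
      (∀ i, T.w i * T.g i = (Models.h1 R (Over.mk p) (Γ i) : ℤ)) ∧
      T.genus = (Models.curveGenus (FractionRing R) C f : ℤ) := by
  classical
  haveI := (ArInt.model_facts hC hX.1).1
  haveI := ArInt.isSurf hC hX Γ hΓ
  haveI : Flat (Over.mk p).hom := hX.1.1
  let L' : Fin n → (Over.mk p).left.Modules := L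
  let m : Fin n → ℕ := fun i => Models.mult R (Over.mk p) (Γ i)
  let A : Matrix (Fin n) (Fin n) ℤ := Matrix.of fun i j => ArSurf.inter R (Over.mk p) (L' j) (Γ i)
  have hw : ∀ i, 0 < Models.wdeg R (Over.mk p) (Γ i) := fun i => (ArInt.wdeg_pos_dvd (Γ i)).1
  have hg : ∀ i, Models.wdeg R (Over.mk p) (Γ i) * (Models.h1 R (Over.mk p) (Γ i) / Models.wdeg R (Over.mk p) (Γ i)) =
      Models.h1 R (Over.mk p) (Γ i) := fun i => Nat.mul_div_cancel' ((ArInt.wdeg_pos_dvd (Γ i)).2 _ 1)
  haveI : ConnectedSpace ↥(Limits.pullback p (Spec.map (CommRingCat.ofHom (algebraMap R (IsLocalRing.ResidueField R))))) :=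
    Groth.Agent.S2209.result R C X f p hC hH0 hX
  have hn : 0 < n := by
    obtain ⟨z⟩ := (inferInstance : Nonempty ↥(Limits.pullback p (Spec.map (CommRingCat.ofHom (algebraMap R (IsLocalRing.ResidueField R))))))
    have hz : Limits.pullback.fst p (Spec.map (CommRingCat.ofHom (algebraMap R (IsLocalRing.ResidueField R)))) z ∈
        Models.specialFibreSet R (Over.mk p) := by
      show p _ = _
      rw [← Scheme.Hom.comp_apply, Limits.pullback.condition, Scheme.Hom.comp_apply]
      rw [Subsingleton.elim (Limits.pullback.snd p _ z) (IsLocalRing.closedPoint (IsLocalRing.ResidueField R))]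
      exact IsLocalRing.comap_closedPoint (IsLocalRing.residue R)
    obtain ⟨i, -⟩ := Set.mem_iUnion.1 (ArInt.cover _ Γ hΓ hz)
    exact i.pos
  obtain ⟨dd, G, -, hGs, hFib⟩ := ArInt.exists_split_curves Γ (ArInt.fibreIdeal (Over.mk p)) (ArInt.isEffCartier_fibreIdeal (Over.mk p))
  have hmpos : ∀ i, 0 < m i := fun i => by
    show 0 < Models.mult R (Over.mk p) (Γ i)
    rw [(ArInt.mult_eq Γ hGs hFib hΓ.1 i).1]; exact (ArInt.mult_eq Γ hGs hFib hΓ.1 i).2
  have hrow : ∀ i, ∑ j, A i j * (m j : ℤ) = 0 := fun i => by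
    rw [← (ArInt.sum_mult_inter Γ hΓ.1 L' hL i).2 (ArInt.cover _ Γ hΓ)]
    exact Finset.sum_congr rfl fun j _ => mul_comm _ _
  let T : Models.NumericalType n :=
    { m := fun i => (m i : ℤ)
      a := A
      w := fun i => (Models.wdeg R (Over.mk p) (Γ i) : ℤ)
      g := fun i => ((Models.h1 R (Over.mk p) (Γ i) / Models.wdeg R (Over.mk p) (Γ i) : ℕ) : ℤ)
      pos := hn
      m_pos := fun i => by exact_mod_cast hmpos i
      w_pos := fun i => by exact_mod_cast hw i
      g_nonneg := fun i => Int.natCast_nonneg _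
      symm := Matrix.ext fun i j => ArInt.inter_symm' Γ L' hL hΓ.1 j i
      offDiag_nonneg := fun i j hij => (ArInt.inter_nonneg Γ L' hL hΓ.1 hij).1
      connected := fun I hI hI' => S3319.result R C X f p hC hH0 hX Γ hΓ L hL I hI hI'
      mulVec_m := funext hrow
      w_dvd := fun i j => ArInt.wdeg_dvd_inter (Γ i)
        (ArInt.isInvertible_of_inverse (Big.isInvertible_ideal (ArInt.isEffCartier_ker (Γ j))) (hL j)) }
  refine ⟨T, fun i => rfl, fun i j => rfl, fun i => rfl, fun i => ?_, ?_⟩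
  · show (Models.wdeg R (Over.mk p) (Γ i) : ℤ) * ((Models.h1 R (Over.mk p) (Γ i) / Models.wdeg R (Over.mk p) (Γ i) : ℕ) : ℤ) = _
    exact_mod_cast hg i
  have h := S3321.result R C X f p hC hH0 hX Γ hΓ L hL
  have hlin : ∑ i, T.m i * T.w i * (T.g i - 1) =
      ∑ i, (m i : ℤ) * ((Models.h1 R (Over.mk p) (Γ i) : ℤ) - (Models.wdeg R (Over.mk p) (Γ i) : ℤ)) :=
    Finset.sum_congr rfl fun i _ => by
      simp only [T]
      rw [mul_assoc, mul_sub, mul_one, ← Nat.cast_mul, hg i]
  have hsplit : ∑ i, (m i : ℤ) * (2 * ((Models.h1 R (Over.mk p) (Γ i) : ℤ) - (Models.wdeg R (Over.mk p) (Γ i) : ℤ)) -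
      ArSurf.inter R (Over.mk p) (L' i) (Γ i)) = 2 * ∑ i, T.m i * T.w i * (T.g i - 1) - ∑ i, T.m i * T.a i i := by
    rw [hlin, Finset.mul_sum, ← Finset.sum_sub_distrib]
    exact Finset.sum_congr rfl fun i _ => by simp only [T, A, Matrix.of_apply]; ring
  change _ = 2 + ∑ i, (m i : ℤ) * (2 * ((Models.h1 R (Over.mk p) (Γ i) : ℤ) - (Models.wdeg R (Over.mk p) (Γ i) : ℤ)) -
      ArSurf.inter R (Over.mk p) (L' i) (Γ i)) at h
  rw [hsplit] at h
  simp only [Models.NumericalType.genus]
  omega

end Groth.Agent.S3322
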