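import Groth.Statements.S3347
import Groth.Agent.ArInt.ExcCurve
import Groth.Agent.ArInt.PicDeg
import Groth.Agent.ArInt.RedFibre

set_option linter.style.haveILetI false
set_option backward.isDefEq.respectTransparency false
set_option backward.isDefEq.respectTransparency.types false
set_option maxHeartbeats 1000000

set_option autoImplicit false
universe u
open CategoryTheory CategoryTheory.Limits AlgebraicGeometry
open Models

open Groth.Agent

namespace Groth.Agent.S3347

/-- In the following situation (R a discrete valuation ring with residue field k, C a smooth proper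
curve over its fraction field K with H^0(C, O_C) = K, X a regular proper model, Γ_1, …, Γ_n the
irreducible components of the closed fibre, L_i ⊗ I(Γ_i) ≅ O_X) the following are equivalent: X is a
minimal model (no vertical prime divisor of X is an exceptional curve of the first kind); the
numerical type of X is minimal, i.e. there is no index i with g_i = 0 (H^1(Γ_i, O) = 0) and (Γ_i ·
Γ_i) = deg_k(L_i|Γ_i) = -[κ_i : k] = -dim_k H^0(Γ_i, O). -/
theorem result (R : Type u) [CommRing R] [IsDomain R] [IsDiscreteValuationRing R]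
    (C X : Scheme.{u}) (f : C ⟶ Spec (CommRingCat.of (FractionRing R))) (p : X ⟶ Spec (CommRingCat.of R))
    (hC : Curve.IsSmoothProperCurve (FractionRing R) C f) (hH0 : IsIso f.appTop)
    (hX : Models.IsRegularProperModel R X p C f)
    {n : ℕ} (Γ : Fin n → ArSurf.VertComp R (Over.mk p)) (hΓ : Models.IsComponentList R (Over.mk p) Γ)
    (L : Fin n → X.Modules) (hL : ∀ i, ClSub.IsInverseOf (L i) (ClSub.idealMod (Γ i).ι.ker)) :
    Models.IsMinimalModel R X p C f ↔
      ∀ i, ¬ (Models.h1 R (Over.mk p) (Γ i) = 0 ∧ ArSurf.inter R (Over.mk p) (L i) (Γ i) = -(Models.wdeg R (Over.mk p) (Γ i) : ℤ)) := by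
  classical
  haveI := (ArInt.model_facts hC hX.1).1
  haveI := ArInt.isSurf hC hX Γ hΓ
  haveI : Flat (Over.mk p).hom := hX.1.1
  constructor
  · intro hmin i hi
    exact hmin.2 (Γ i) (ArInt.isExcCurve_of_numbers (Γ i) (hL i) hi.1 hi.2)
  · intro h
    refine ⟨hX, fun Γ' hexc => ?_⟩
    haveI := Γ'.isIntegral
    haveI := Γ'.isClosedImmersion
    -- the support of `Γ'` is a component of the closed fibre
    have hirr : IsIrreducible (Set.range Γ'.ι.base) := by
      rw [← Set.image_univ]
      exact (IrreducibleSpace.isIrreducible_univ _).image _ Γ'.ι.continuous.continuousOn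
    have hsub : Set.range Γ'.ι.base ⊆ ⋃ j ∈ (Finset.univ : Finset (Fin n)), Set.range (Γ j).ι.base := by
      rintro _ ⟨c, rfl⟩
      simpa using ArInt.cover _ Γ hΓ (ArInt.mem_specialFibre Γ' c)
    obtain ⟨S, hS, hle⟩ := isIrreducible_iff_sUnion_isClosed.1 hirr (Finset.univ.image fun j => Set.range (Γ j).ι.base)
      (fun S hS => by
        obtain ⟨j, -, rfl⟩ := Finset.mem_image.1 hS
        haveI := (Γ j).isClosedImmersion
        exact (Γ j).ι.isClosedEmbedding.isClosed_range)
      (fun z hz => by
        obtain ⟨j, -, hj⟩ := Set.mem_iUnion₂.1 (hsub hz)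
        exact ⟨_, Finset.mem_coe.2 (Finset.mem_image.2 ⟨j, Finset.mem_univ j, rfl⟩), hj⟩)
    obtain ⟨j, -, rfl⟩ := Finset.mem_image.1 hS
    haveI := (Γ j).isClosedImmersion
    haveI := (Γ j).isIntegral
    have hrange : Set.range Γ'.ι.base = Set.range (Γ j).ι.base := by
      let a := Models.genPtOf R (Over.mk p) (Γ j)
      let b := Models.genPtOf R (Over.mk p) Γ'
      have hab : a ⤳ b := by
        obtain ⟨c, hc⟩ := hle ⟨genericPoint Γ'.curve.left, rfl⟩
        exact (congrArg _ hc).mp ((genericPoint_specializes c).map (Γ j).ι.continuous)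
      have hclose : ∀ G : ArSurf.VertComp R (Over.mk p),
          closure ({Models.genPtOf R (Over.mk p) G} : Set (Over.mk p).left) = Set.range G.ι.base := fun G => by
        haveI := G.isClosedImmersion
        haveI := G.isIntegral
        show closure ({G.ι (genericPoint G.curve.left)} : Set (Over.mk p).left) = Set.range G.ι
        rw [← Set.image_singleton, G.ι.isClosedEmbedding.closure_image_eq, genericPoint_closure, Set.image_univ]
      rw [← hclose, ← hclose]
      suffices hba : b ⤳ a from congrArg (fun x => closure ({x} : Set (Over.mk p).left)) (hba.antisymm hab).eq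
      by_contra hba
      obtain ⟨c, hc⟩ : ∃ c : Γ'.curve.left, c ≠ genericPoint Γ'.curve.left := by
        by_contra hall
        push Not at hall
        haveI : Subsingleton Γ'.curve.left := ⟨fun x y => (hall x).trans (hall y).symm⟩
        have h1 := Γ'.dim_eq
        rw [topologicalKrullDim, Order.krullDim_eq_of_orderIso
          (irreducibleSetEquivPoints (α := Γ'.curve.left))] at h1
        exact absurd (h1.ge.trans (Order.krullDim_nonpos_of_subsingleton (α := Γ'.curve.left))) (by decide)
      refine ArInt.false_of_chain (Γ j).dim_eq.le (Γ j).ι (Γ j).ι.isClosedEmbedding.isInducing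
        (a := Γ'.ι c) (b := b) (c := a) ?_ (lt_of_le_not_ge hab hba) (hle ⟨c, rfl⟩) (hle ⟨_, rfl⟩) ⟨_, rfl⟩
      refine lt_of_le_not_ge ((genericPoint_specializes c).map Γ'.ι.continuous) fun hcb => hc ?_
      have hs : c ⤳ genericPoint Γ'.curve.left := Γ'.ι.isClosedEmbedding.isInducing.specializes_iff.1 hcb
      exact (hs.antisymm (genericPoint_specializes c)).eq
    -- transport along the isomorphism of the two subschemes
    have hk := ArInt.ker_eq_of_range_eq (Γ j) Γ' hrange.symm
    let e : (Γ j).curve.left ⟶ Γ'.curve.left := IsClosedImmersion.lift Γ'.ι (Γ j).ι hk.symm.le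
    let e' : Γ'.curve.left ⟶ (Γ j).curve.left := IsClosedImmersion.lift (Γ j).ι Γ'.ι hk.le
    have he : e ≫ Γ'.ι = (Γ j).ι := IsClosedImmersion.lift_fac _ _ _
    have he' : e' ≫ (Γ j).ι = Γ'.ι := IsClosedImmersion.lift_fac _ _ _
    haveI : IsIso e := ⟨e', by rw [← cancel_mono (Γ j).ι, Category.assoc, he', he, Category.id_comp],
      by rw [← cancel_mono Γ'.ι, Category.assoc, he, he', Category.id_comp]⟩
    obtain ⟨hI, K, hK, eP, ⟨τ⟩⟩ := hexc
    have hE : Models.IsExcCurve (Γ j).ι := by
      refine ⟨hk ▸ hI, K, hK, eP ≪≫ (asIso e).symm, ⟨?_⟩⟩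
      refine eqToIso ?_ ≪≫ τ
      rw [hk]
      congr 1
      congr 1
      simp [← he]
    obtain ⟨h1, h2⟩ := ArInt.numbers_of_isExcCurve (Γ j) (hL j) hE
    exact h j ⟨h1, h2⟩

end Groth.Agent.S3347
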