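import Groth.Statements.S4806
-- import your own Groth.Agent.* helpers here
import Groth.Agent.GrpSchLib.UnramifiedFibre
import Mathlib

set_option autoImplicit false
universe u
open CategoryTheory AlgebraicGeometry
open Lim8

set_option backward.isDefEq.respectTransparency false
set_option backward.isDefEq.respectTransparency.types false

namespace Groth.Agent.S4806

/-- Let f : X ⟶ Y be a proper morphism of finite presentation. Then f is a closed immersion if and only
if, for every point y of Y, the scheme-theoretic fibre of f at y is empty or its structure morphism
to Spec κ(y) is an isomorphism. -/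
theorem result {X Y : Scheme.{u}} (f : X ⟶ Y) [IsProper f]
    [LocallyOfFinitePresentation f] :
    IsClosedImmersion f ↔ ∀ y : Y, IsEmpty (f.fiber y) ∨ IsIso (f.fiberToSpecResidueField y) := by
  constructor
  · intro h y
    by_cases hne : IsEmpty (f.fiber y)
    · exact Or.inl hne
    · right
      haveI : Nonempty (f.fiber y) := not_isEmpty_iff.1 hne
      haveI : IsClosedImmersion (f.fiberToSpecResidueField y) :=
        MorphismProperty.pullback_snd (P := @IsClosedImmersion) _ _ h
      haveI : Surjective (f.fiberToSpecResidueField y) :=
        ⟨fun p => ⟨Classical.arbitrary _, Subsingleton.elim (α := PrimeSpectrum _) _ _⟩⟩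
      exact isIso_of_isClosedImmersion_of_surjective _
  · intro h
    have hmono : ∀ y, Mono (f.fiberToSpecResidueField y) := fun y => by
      refine ⟨fun {Z} a b hab => ?_⟩
      rcases h y with he | hi
      · haveI : IsEmpty Z := ⟨fun z => he.elim (a z)⟩
        exact (isInitialOfIsEmpty (X := Z)).hom_ext _ _
      · exact (cancel_mono (f.fiberToSpecResidueField y)).1 hab
    haveI : FormallyUnramified f := Groth.Agent.GrpSchLib.formallyUnramified_of_fibres f fun y => by
      rcases h y with he | hi
      · haveI : IsOpenImmersion (f.fiberToSpecResidueField y) := inferInstance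
        infer_instance
      · infer_instance
    haveI : Surjective (Limits.pullback.diagonal f) := by
      refine ⟨fun z => ?_⟩
      let P := Limits.pullback f f
      let c := P.fromSpecResidueField z
      let a := c ≫ Limits.pullback.fst f f
      let b := c ≫ Limits.pullback.snd f f
      have hab : a ≫ f = b ≫ f := by simp only [a, b, Category.assoc, Limits.pullback.condition]
      obtain ⟨y, r, hr⟩ : ∃ (y : Y) (r : Spec (P.residueField z) ⟶ Spec (Y.residueField y)),
          r ≫ Y.fromSpecResidueField y = a ≫ f :=
        ⟨_, _, ((Category.assoc _ _ _).trans ((Limits.pullback.fst f f ≫ f).SpecMap_residueFieldMap_fromSpecResidueField z).symm).symm⟩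
      let a' : Spec (P.residueField z) ⟶ f.fiber y := Limits.pullback.lift a r hr.symm
      let b' : Spec (P.residueField z) ⟶ f.fiber y := Limits.pullback.lift b r (hab.symm.trans hr.symm)
      haveI := hmono y
      have e : a' = b' := (cancel_mono (f.fiberToSpecResidueField y)).1
        ((Limits.pullback.lift_snd _ _ _).trans (Limits.pullback.lift_snd _ _ _).symm)
      have eab : a = b := by
        exact (Limits.pullback.lift_fst _ _ _).symm.trans ((congrArg (· ≫ f.fiberι y) e).trans (Limits.pullback.lift_fst _ _ _))
      have hc : c = a ≫ Limits.pullback.diagonal f := by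
        refine Limits.pullback.hom_ext ?_ ?_
        · simp [a]
        · simp [eab, b]
      obtain ⟨q⟩ : Nonempty (Spec (P.residueField z)) := inferInstance
      refine ⟨a q, ?_⟩
      rw [show Limits.pullback.diagonal f (a q) = c q from (congr($hc q)).symm]
      exact P.fromSpecResidueField_apply z q
    haveI : IsIso (Limits.pullback.diagonal f) :=
      (isIso_iff_isOpenImmersion_and_surjective _).2 ⟨inferInstance, inferInstance⟩
    haveI : Mono f := (Limits.pullback.isIso_diagonal_iff _).1 inferInstance
    exact (IsClosedImmersion.iff_isProper_and_mono f).2 ⟨inferInstance, inferInstance⟩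

end Groth.Agent.S4806
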