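import Groth.Statements.S3338
import Groth.Agent.SmoothMin.Fibre
import Groth.Agent.S2209
import Groth.Agent.EtNorm.Dedekind
import Mathlib
-- import your own Groth.Agent.* helpers here

set_option autoImplicit false
set_option backward.isDefEq.respectTransparency false
universe u
open CategoryTheory CategoryTheory.Limits AlgebraicGeometry
open Models

attribute [-instance] CategoryTheory.catToReflQuiver

namespace Groth.Agent.S3338

/-- The step (1) implies (2) as proved there: let R be a discrete valuation ring with fraction field K,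
C a smooth proper curve over K with H^0(C, O_C) = K, and X a proper smooth model of C over R. Then X
is a minimal model (regular, proper, with no exceptional curve of the first kind in its closed
fibre). -/
theorem result (R : Type u) [CommRing R] [IsDomain R] [IsDiscreteValuationRing R]
    (C X : Scheme.{u}) (f : C ⟶ Spec (CommRingCat.of (FractionRing R))) (p : X ⟶ Spec (CommRingCat.of R))
    (hC : Curve.IsSmoothProperCurve (FractionRing R) C f) (hH0 : IsIso f.appTop)
    (hX : Models.IsModel R X p C f) [IsProper p] [Smooth p] :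
    Models.IsMinimalModel R X p C f := by
  obtain ⟨hflat, hlft, hqc, g, hg⟩ := hX
  haveI := hflat
  have hS := Groth.Agent.WeilExt.isRegularLocalRing_stalk_spec (R := R)
  haveI : IsNoetherian (Spec (CommRingCat.of R)) := inferInstance
  haveI : IsLocallyNoetherian X := LocallyOfFiniteType.isLocallyNoetherian p
  have hreg : Models.IsRegularScheme X := fun x => Groth.Agent.WeilExt.isRegularLocalRing_stalk hS p x
  have hRPM : Models.IsRegularProperModel R X p C f :=
    ⟨⟨hflat, hlft, hqc, g, hg⟩, inferInstance, hreg⟩
  refine ⟨hRPM, fun Γ' hΓ => ?_⟩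
  obtain ⟨hcart, k, _, e, ⟨etw⟩⟩ := hΓ
  haveI : IsIntegral C := hC.2.2.1
  -- the total space is integral
  let jK := Spec.map (CommRingCat.ofHom (algebraMap R (FractionRing R)))
  haveI : IsDominant jK := ⟨(PrimeSpectrum.denseRange_comap_iff_ker_le_nilRadical _).2 (by
    show RingHom.ker (algebraMap R (FractionRing R)) ≤ _
    rw [(RingHom.injective_iff_ker_eq_bot _).1 (IsFractionRing.injective R (FractionRing R))]
    exact bot_le)⟩
  haveI : IsSchemeTheoreticallyDominant jK := IsSchemeTheoreticallyDominant.of_isDominant jK
  haveI : IsSchemeTheoreticallyDominant g := IsSchemeTheoreticallyDominant.of_isPullback hg.flip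
  haveI : QuasiCompact g := MorphismProperty.of_isPullback hg.flip inferInstance
  haveI : IsDominant g := inferInstance
  haveI : IsReduced X := IsSchemeTheoreticallyDominant.isReduced g
  haveI : IrreducibleSpace X := (irreducibleSpace_def _).2 (by
    have h := ((IrreducibleSpace.isIrreducible_univ C).image _ g.continuous.continuousOn).closure
    rwa [Set.image_univ, g.denseRange.closure_range] at h)
  haveI : IsIntegral X := isIntegral_of_irreducibleSpace_of_isReduced X
  -- the special fibre
  let jk := Spec.map (CommRingCat.ofHom (algebraMap R (IsLocalRing.ResidueField R)))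
  haveI : IsClosedImmersion jk :=
    IsClosedImmersion.spec_of_surjective _ Ideal.Quotient.mk_surjective
  let i : Limits.pullback p jk ⟶ X := Limits.pullback.fst p jk
  let q : Limits.pullback p jk ⟶ Spec (CommRingCat.of (IsLocalRing.ResidueField R)) := Limits.pullback.snd p jk
  haveI : Smooth q := inferInstanceAs (Smooth (Limits.pullback.snd p jk))
  haveI : IsLocallyNoetherian (Limits.pullback p jk) := LocallyOfFiniteType.isLocallyNoetherian q
  haveI : IsProper q := inferInstanceAs (IsProper (Limits.pullback.snd p jk))
  haveI : CompactSpace ↥(Limits.pullback p jk) := QuasiCompact.compactSpace_of_compactSpace q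
  haveI : IsNoetherian (Limits.pullback p jk) := ⟨⟩
  haveI : ConnectedSpace ↥(Limits.pullback p jk) := Groth.Agent.S2209.result R C X f p hC hH0 hRPM
  have hk : Pi1.IsNormalScheme (Spec (CommRingCat.of (IsLocalRing.ResidueField R))) :=
    Groth.Agent.EtNorm.isNormalScheme_spec _ fun P hP => by
      haveI : IsDomain (Localization.AtPrime P) :=
        IsLocalization.isDomain_localization P.primeCompl_le_nonZeroDivisors
      exact ⟨inferInstance,
        isIntegrallyClosed_of_isLocalization _ P.primeCompl P.primeCompl_le_nonZeroDivisors⟩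
  haveI : IsIntegral (Limits.pullback p jk) :=
    Groth.Agent.SmoothMin.isIntegral_of_connected _ (Groth.Agent.NmpFinite.isNormalScheme_of_smooth hk q)
  obtain ⟨ϖ, hϖ⟩ := IsDiscreteValuationRing.exists_irreducible R
  let a : Γ(X, ⊤) := p.appTop ((Scheme.ΓSpecIso (CommRingCat.of R)).inv ϖ)
  have hikey : i.ker = (Groth.Agent.BlowUpLib.centre (IsLocalRing.maximalIdeal R)).comap p := by
    have h1 : jk.ker = Groth.Agent.BlowUpLib.centre (IsLocalRing.maximalIdeal R) := by
      refine Scheme.IdealSheafData.ext_of_isAffine ?_
      rw [Scheme.Hom.ker_apply, Groth.Agent.BlowUpLib.centre_top]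
      ext x
      rw [RingHom.mem_ker]
      have hn : (Scheme.ΓSpecIso _).hom (jk.app ⊤ x) =
          IsLocalRing.residue R ((Scheme.ΓSpecIso (CommRingCat.of R)).hom x) :=
        congr($(Scheme.ΓSpecIso_naturality (CommRingCat.ofHom (algebraMap R (IsLocalRing.ResidueField R)))) x)
      have hb := (Scheme.ΓSpecIso (CommRingCat.of (IsLocalRing.ResidueField R))).commRingCatIsoToRingEquiv
      rw [← (ConcreteCategory.bijective_of_isIso (Scheme.ΓSpecIso (CommRingCat.of
        (IsLocalRing.ResidueField R))).hom).1.eq_iff, hn, map_zero, IsLocalRing.residue_eq_zero_iff]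
      exact (SetLike.ext_iff.1 (Ideal.map_symm (I := IsLocalRing.maximalIdeal R)
        (Scheme.ΓSpecIso (CommRingCat.of R)).commRingCatIsoToRingEquiv) x).symm
    rw [← h1]
    exact Scheme.IdealSheafData.ker_fst_of_isClosedImmersion jk p
  have hK : ∀ U : X.affineOpens, i.ker.ideal U = Ideal.span {X.presheaf.map (homOfLE le_top).op a} := by
    intro U
    rw [hikey, Groth.Agent.BlowUpLib.ideal_comap_centre, hϖ.maximalIdeal_eq, Ideal.map_span,
      Set.image_singleton]
    rfl
  have hai : i.appTop a = 0 := by
    show i.appTop (p.appTop _) = 0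
    rw [← CommRingCat.comp_apply, ← Scheme.Hom.comp_appTop, Limits.pullback.condition,
      Scheme.Hom.comp_appTop, CommRingCat.comp_apply]
    have h0 : (Scheme.ΓSpecIso (CommRingCat.of (IsLocalRing.ResidueField R))).hom
        (jk.appTop ((Scheme.ΓSpecIso (CommRingCat.of R)).inv ϖ)) = 0 := by
      rw [← CommRingCat.comp_apply jk.appTop, Scheme.ΓSpecIso_naturality, CommRingCat.comp_apply,
        Iso.inv_hom_id_apply]
      exact (IsLocalRing.residue_eq_zero_iff ϖ).2 (hϖ.maximalIdeal_eq ▸ Ideal.mem_span_singleton_self _)
    rw [(ConcreteCategory.bijective_of_isIso (Scheme.ΓSpecIso (CommRingCat.of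
      (IsLocalRing.ResidueField R))).hom).1 (h0.trans (map_zero _).symm), map_zero]
  have ha : a ≠ 0 := fun h => by
    have h1 : g.appTop a = 0 := by rw [h, map_zero]
    change g.appTop (p.appTop _) = 0 at h1
    rw [← CommRingCat.comp_apply, ← Scheme.Hom.comp_appTop, hg.w, Scheme.Hom.comp_appTop,
      CommRingCat.comp_apply] at h1
    have h2 := ((ConcreteCategory.isIso_iff_bijective _).1 hH0).1 (h1.trans (map_zero _).symm)
    have h3 := congrArg (Scheme.ΓSpecIso (CommRingCat.of (FractionRing R))).hom h2
    rw [map_zero, ← CommRingCat.comp_apply jK.appTop, Scheme.ΓSpecIso_naturality, CommRingCat.comp_apply,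
      Iso.inv_hom_id_apply] at h3
    exact hϖ.ne_zero (IsFractionRing.injective R (FractionRing R) (h3.trans (map_zero _).symm))
  haveI : IsIntegral Γ'.curve.left := Γ'.isIntegral
  have hker : Γ'.ι.ker = i.ker := Groth.Agent.SmoothMin.ker_eq_of_le i Γ'.ι hcart
    (Limits.pullback.lift Γ'.ι Γ'.curve.hom Γ'.w) (Limits.pullback.lift_fst _ _ _) a ha hai
  obtain ⟨etriv⟩ := Groth.Agent.SmoothMin.nonempty_idealMod_iso i.ker a hK fun U r hr => by
    rcases isEmpty_or_nonempty U with hU | hU
    · haveI : Subsingleton Γ(X, U) := by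
        rw [show U = ⊥ from TopologicalSpace.Opens.ext (Set.isEmpty_coe_sort.1 hU)]; infer_instance
      exact Subsingleton.elim _ _
    · exact (mul_eq_zero.1 hr).resolve_right fun h =>
        ha (map_injective_of_isIntegral X _ (h.trans (map_zero _).symm))
  exact (Groth.Agent.SmoothMin.isEmpty_twist_one_iso k).false
    (etw.symm ≪≫ (Scheme.Modules.pullback (e.hom ≫ Γ'.ι)).mapIso (eqToIso (by rw [hker]) ≪≫ etriv) ≪≫
      Groth.Agent.CurveBC.unitIso _)


end Groth.Agent.S3338
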