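import Groth.Statements.S3327
import Groth.Agent.ArInt.Meet
import Groth.Agent.ArInt.ExcCurve
import Groth.Agent.S3321

set_option linter.style.haveILetI false
set_option backward.isDefEq.respectTransparency false
set_option backward.isDefEq.respectTransparency.types false
set_option maxHeartbeats 1000000

set_option autoImplicit false
universe u
open CategoryTheory CategoryTheory.Limits AlgebraicGeometry
open Models

open Groth.Agent

namespace Groth.Agent.S3327

/-- In the following situation (R a discrete valuation ring with residue field k, C a smooth proper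
curve over its fraction field K with H^0(C, O_C) = K, X a regular proper model, Γ_1, …, Γ_n the
irreducible components of the closed fibre with multiplicities m_l), suppose Γ_i and Γ_j (i ≠ j) are
exceptional curves of the first kind which meet. Then n = 2, all multiplicities are 1, every
component is k-isomorphic to the projective line over k, Γ_i and Γ_j meet in a single point x with
residue field k, scheme-theoretically (I(Γ_i) + I(Γ_j) is the ideal of the reduced point x), and C
has genus zero. -/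
theorem result (R : Type u) [CommRing R] [IsDomain R] [IsDiscreteValuationRing R]
    (C X : Scheme.{u}) (f : C ⟶ Spec (CommRingCat.of (FractionRing R))) (p : X ⟶ Spec (CommRingCat.of R))
    (hC : Curve.IsSmoothProperCurve (FractionRing R) C f) (hH0 : IsIso f.appTop)
    (hX : Models.IsRegularProperModel R X p C f)
    {n : ℕ} (Γ : Fin n → ArSurf.VertComp R (Over.mk p)) (hΓ : Models.IsComponentList R (Over.mk p) Γ)
    (i j : Fin n) (hij : i ≠ j) (hi : Models.IsExcCurve (Γ i).ι) (hj : Models.IsExcCurve (Γ j).ι)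
    (hmeet : ¬ Disjoint (Set.range ((Γ i).ι.base : (Γ i).curve.left → X))
      (Set.range ((Γ j).ι.base : (Γ j).curve.left → X))) :
    n = 2 ∧ (∀ l, Models.mult R (Over.mk p) (Γ l) = 1) ∧
      (∀ l, ∃ e : (Γ l).curve.left ≅ CohB1.ProjSpace 1 (IsLocalRing.ResidueField R),
        e.hom ≫ CohB1.ProjSpace.toSpec 1 (IsLocalRing.ResidueField R) = (Γ l).curve.hom) ∧
      (∃ x : X, Set.range ((Γ i).ι.base : (Γ i).curve.left → X) ∩ Set.range ((Γ j).ι.base : (Γ j).curve.left → X) = {x} ∧
        (Γ i).ι.ker ⊔ (Γ j).ι.ker =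
          Scheme.IdealSheafData.vanishingIdeal ⟨closure {x}, isClosed_closure⟩ ∧
        Function.Surjective ((X.residue x).hom.comp (Models.stalkHom R (Over.mk p) x))) ∧
      Models.curveGenus (FractionRing R) C f = 0 := by
  classical
  haveI := (ArInt.model_facts hC hX.1).1
  haveI := ArInt.isSurf hC hX Γ hΓ
  haveI : Flat (Over.mk p).hom := hX.1.1
  choose L₀ hL₀ using fun i => H23.PicInv.exists_inverse (Big.isInvertible_ideal (ArInt.isEffCartier_ker (Γ i)))
  have hL : ∀ i, ClSub.IsInverseOf (L₀ i) (ClSub.idealMod (Γ i).ι.ker) := fun i =>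
    ⟨(H23.PicMul.comm _ _).some ≪≫ (hL₀ i).2.some⟩
  let a : Fin n → Fin n → ℤ := fun s t => ArSurf.inter R (Over.mk p) (L₀ t) (Γ s)
  let w : Fin n → ℤ := fun s => (Models.wdeg R (Over.mk p) (Γ s) : ℤ)
  obtain ⟨hhi, hai⟩ := ArInt.numbers_of_isExcCurve (Γ i) (hL i) hi
  obtain ⟨hhj, haj⟩ := ArInt.numbers_of_isExcCurve (Γ j) (hL j) hj
  have hsymm : ∀ s t, a s t = a t s := fun s t => ArInt.inter_symm' Γ L₀ hL hΓ.1 s t
  have hpos : 0 < a i j := lt_of_le_of_ne (ArInt.inter_nonneg Γ L₀ hL hΓ.1 hij).1
    fun h => hmeet ((ArInt.inter_nonneg Γ L₀ hL hΓ.1 hij).2.1 h.symm)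
  have hwpos : ∀ s, 0 < w s := fun s => Int.natCast_pos.2 (ArInt.wdeg_pos_dvd (Γ s)).1
  have hdvd : ∀ s t, w s ∣ a s t := fun s t => ArInt.wdeg_dvd_inter (Γ s)
    (ArInt.isInvertible_of_inverse (Big.isInvertible_ideal (ArInt.isEffCartier_ker (Γ t))) (hL t))
  have hwi : w i ≤ a i j := Int.le_of_dvd hpos (hdvd i j)
  have hwj : w j ≤ a i j := Int.le_of_dvd hpos (hsymm i j ▸ hdvd j i)
  let e : Fin n → ℤ := Pi.single i 1 + Pi.single j 1
  have hQ : ∑ s, ∑ t, e s * e t * a s t = a i i + a j j + 2 * a i j := by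
    simp only [e, Pi.add_apply, Pi.single_apply, add_mul, mul_add, Finset.sum_add_distrib, ite_mul, one_mul,
      zero_mul, mul_ite, mul_one, mul_zero, Finset.sum_ite_eq', Finset.mem_univ, if_true, Finset.sum_ite_irrel,
      Finset.sum_const_zero]
    rw [hsymm j i]; ring
  have hai' : a i i = -w i := hai
  have haj' : a j j = -w j := haj
  have hle : a i i + a j j + 2 * a i j ≤ 0 := hQ ▸ (ArInt.form_nonpos Γ L₀ hL hΓ.1 e).1
  have hwij : w i = a i j ∧ w j = a i j := ⟨by omega, by omega⟩
  have hzero : ∑ s, ∑ t, e s * e t * a s t = 0 := by rw [hQ]; omega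
  obtain ⟨c, hc⟩ := ArInt.exists_mult_of_form_eq_zero Γ L₀ hL hΓ.1 (ArInt.cover _ Γ hΓ)
    (ArInt.isConnected_fibre hC hH0 hX) e hzero
  obtain ⟨dd, G, -, hGs, hFib⟩ := ArInt.exists_split_curves Γ (ArInt.fibreIdeal (Over.mk p)) (ArInt.isEffCartier_fibreIdeal (Over.mk p))
  have hm : ∀ l, 0 < Models.mult R (Over.mk p) (Γ l) := fun l => by
    rw [(ArInt.mult_eq Γ hGs hFib hΓ.1 l).1]; exact (ArInt.mult_eq Γ hGs hFib hΓ.1 l).2
  have hei : (e i : ℚ) = 1 := by simp [e, hij]
  have hej : (e j : ℚ) = 1 := by simp [e, Ne.symm hij]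
  have hc0 : c ≠ 0 := fun h => by
    have := hc i; rw [hei, h, zero_mul] at this; exact one_ne_zero this
  have honly : ∀ l, l = i ∨ l = j := fun l => by
    by_contra h
    push Not at h
    have := hc l
    rw [show (e l : ℚ) = 0 by simp [e, h.1, h.2]] at this
    exact mul_ne_zero hc0 (by exact_mod_cast (hm l).ne') this.symm
  have huniv : (Finset.univ : Finset (Fin n)) = {i, j} :=
    (Finset.eq_univ_of_forall fun l => by simpa using honly l).symm
  have hn : n = 2 := by
    have := congrArg Finset.card huniv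
    rwa [Finset.card_univ, Fintype.card_fin, Finset.card_pair hij] at this
  have hmij : Models.mult R (Over.mk p) (Γ i) = Models.mult R (Over.mk p) (Γ j) := by
    have h1 := (hc i).symm.trans (hei.trans (hej.symm.trans (hc j)))
    exact_mod_cast mul_left_cancel₀ hc0 h1
  -- the genus
  have hg := S3321.result R C X f p hC hH0 hX Γ hΓ L₀ hL
  have hsum : ∀ F : Fin n → ℤ, ∑ l, F l = F i + F j := fun F => by rw [huniv, Finset.sum_pair hij]
  rw [hsum] at hg
  change _ = 2 + ((Models.mult R (Over.mk p) (Γ i) : ℤ) * (2 * ((Models.h1 R (Over.mk p) (Γ i) : ℤ) - w i) - a i i) +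
    (Models.mult R (Over.mk p) (Γ j) : ℤ) * (2 * ((Models.h1 R (Over.mk p) (Γ j) : ℤ) - w j) - a j j)) at hg
  rw [hhi, hhj, hai', haj', ← hmij] at hg
  push_cast at hg
  have hmw : (Models.mult R (Over.mk p) (Γ i) : ℤ) * w i = 1 - (Models.curveGenus (FractionRing R) C f : ℤ) := by
    have h2 : w j = w i := by omega
    rw [h2] at hg
    linarith
  have hone : (Models.mult R (Over.mk p) (Γ i) : ℤ) * w i = 1 ∧ Models.curveGenus (FractionRing R) C f = 0 := by
    have h1 : 0 < (Models.mult R (Over.mk p) (Γ i) : ℤ) * w i := mul_pos (by exact_mod_cast hm i) (hwpos i)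
    omega
  have hm1 : (Models.mult R (Over.mk p) (Γ i) : ℤ) = 1 := Int.eq_one_of_mul_eq_one_right (Int.natCast_nonneg _) hone.1
  have hw1 : w i = 1 := by rw [hm1, one_mul] at hone; exact hone.1
  refine ⟨hn, fun l => ?_, fun l => ?_, ?_, hone.2⟩
  · rcases honly l with h | h
    · rw [h]; exact_mod_cast hm1
    · rw [h, ← hmij]; exact_mod_cast hm1
  · let k := IsLocalRing.ResidueField R
    let D := (Γ l).curve.left
    haveI : IsIntegral D := (Γ l).isIntegral
    haveI := ArInt.isProper_curve_over (Γ l)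
    haveI : IsNoetherian D := CurveCohLib.isNoetherian_of_proper (k := k)
    have hnum : Models.h1 R (Over.mk p) (Γ l) = 0 ∧ a l l = -1 := by
      rcases honly l with h | h
      · subst h; exact ⟨hhi, by omega⟩
      · subst h; exact ⟨hhj, by omega⟩
    haveI := CurveCohLib.finite_HH (k := k) (RefX.isCoh_unit (X := D)) 1
    have hI := Big.isInvertible_ideal (ArInt.isEffCartier_ker (Γ l))
    have hdeg : Curv2.deg k D ((Scheme.Modules.pullback (Γ l).ι).obj (ClSub.idealMod (Γ l).ι.ker)) 1 = 1 := by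
      rw [← ArInt.inter_eq_deg (Γ l) hI]
      have h1 := ArInt.inter_inverse (Γ l) hI (hL l)
      have h2 : ArSurf.inter R (Over.mk p) (L₀ l) (Γ l) = -1 := hnum.2
      omega
    exact CurveEmbed.exists_iso_line k (Γ l).dim_eq (Module.finrank_zero_iff.1 hnum.1)
      (PicClLib.isInvertible_pullback _ hI) hdeg
  · let I := (Γ j).ι.ker ⊔ (Γ i).ι.ker
    have hsupp : (I.support : Set (Over.mk p).left) = Set.range (Γ i).ι.base ∩ Set.range (Γ j).ι.base := by
      rw [show I = (((Γ j).ι.ker).comap (Γ i).ι).map (Γ i).ι from (ArInt.map_comap_eq_sup _ _).symm,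
        Scheme.IdealSheafData.support_map, Scheme.IdealSheafData.support_comap]
      show closure ((Γ i).ι '' ((Γ i).ι ⁻¹' ((Γ j).ι.ker.support : Set (Over.mk p).left))) = _
      rw [Set.image_preimage_eq_inter_range, ArInt.support_ker, Set.inter_comm]
      exact ((Γ i).ι.isClosedEmbedding.isClosed_range.inter (Γ j).ι.isClosedEmbedding.isClosed_range).closure_eq
    have hcl : ∀ y ∈ (I.support : Set (Over.mk p).left), IsClosed ({y} : Set (Over.mk p).left) := fun y hy => by
      rw [hsupp] at hy
      obtain ⟨⟨c, rfl⟩, hyj⟩ := hy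
      have hc : IsClosed ({c} : Set (Γ i).curve.left) := by
        refine GmDiv.isClosed_singleton_of_dim (Γ i).dim_eq.le fun h => ?_
        refine ArInt.gen_notMem (Γ i) (Γ j) (fun h' => hij (hΓ.1 h')) ?_
        rw [ArInt.support_ker]
        rwa [h (genericPoint _) ((genericPoint_spec _).specializes (Set.mem_univ c))]
      have h2 := (Γ i).ι.isClosedEmbedding.isClosedMap _ hc
      rwa [Set.image_singleton] at h2
    have hlen : Models.lengthH R (Over.mk p) (ClSub.quotMod I) 0 = 1 := by
      have h1 := (ArInt.inter_eq_length (Γ i) (ArInt.isEffCartier_ker (Γ j))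
        (ArInt.gen_notMem _ _ fun h' => hij (hΓ.1 h')) (hL j)).1
      have h2 : a i j = 1 := by omega
      have h3 : (Models.lengthH R (Over.mk p) (ClSub.quotMod I) 0 : ℤ) = 1 := h1.symm.trans h2
      exact_mod_cast h3
    obtain ⟨x, hx, hvan, hres⟩ := ArInt.point_of_length_one (X := Over.mk p) I hcl hlen
    exact ⟨x, hsupp.symm.trans hx, by rw [sup_comm]; exact hvan, hres⟩

end Groth.Agent.S3327
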