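import Groth.Agent.FibVanQCohH4
import Groth.Agent.FFun.Basic
import Groth.Agent.S0002
import Groth.Agent.FibDim.AffineSpaceFibre

/-!
Finiteness of the top higher direct image of a quasi-coherent module of finite type.
-/

set_option linter.style.haveILetI false
set_option linter.unusedSectionVars false
set_option backward.isDefEq.respectTransparency false
set_option backward.isDefEq.respectTransparency.types false
set_option autoImplicit false

universe u

open CategoryTheory CategoryTheory.Limits AlgebraicGeometry TopologicalSpace Opposite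

noncomputable section

namespace Groth.Agent.RpushTopH4

open Groth.Agent Groth.Agent.QCoh

/-- Finiteness of homology of a short complex, on representatives. -/
theorem finite_homology_sc {R : Type u} [CommRing R] (S : ShortComplex (ModuleCat.{u} R)) :
    Module.Finite R S.homology ↔ ∃ (n : ℕ) (z : Fin n → S.X₂), (∀ l, S.g (z l) = 0) ∧
      ∀ c : S.X₂, S.g c = 0 → ∃ (r : Fin n → R) (b : S.X₁), c = ∑ l, r l • z l + S.f b := by
  classical
  rw [Module.Finite.equiv_iff S.moduleCatHomologyIso.toLinearEquiv]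
  show Module.Finite R (LinearMap.ker S.g.hom ⧸ LinearMap.range S.moduleCatToCycles) ↔ _
  constructor
  · intro h
    obtain ⟨n, s, hs⟩ := Module.Finite.exists_fin (R := R)
      (M := LinearMap.ker S.g.hom ⧸ LinearMap.range S.moduleCatToCycles)
    choose z hz using fun l => Submodule.Quotient.mk_surjective _ (s l)
    refine ⟨n, fun l => (z l).1, fun l => (z l).2, fun c hc => ?_⟩
    have hm : (Submodule.Quotient.mk (⟨c, hc⟩ : LinearMap.ker S.g.hom) :
        LinearMap.ker S.g.hom ⧸ LinearMap.range S.moduleCatToCycles) ∈ Submodule.span R (Set.range s) :=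
      hs ▸ Submodule.mem_top
    obtain ⟨r, hr⟩ := Submodule.mem_span_range_iff_exists_fun R |>.mp hm
    have h2 : (Submodule.Quotient.mk (⟨c, hc⟩ - ∑ l, r l • z l : LinearMap.ker S.g.hom) :
        LinearMap.ker S.g.hom ⧸ LinearMap.range S.moduleCatToCycles) = 0 := by
      rw [← Submodule.mkQ_apply, map_sub, map_sum]
      simp only [map_smul, Submodule.mkQ_apply, hz]
      rw [hr, sub_self]
    obtain ⟨b, hb⟩ := (Submodule.Quotient.mk_eq_zero _).mp h2
    refine ⟨r, b, ?_⟩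
    have h3 := congrArg Subtype.val hb
    simp only [Submodule.coe_sub, Submodule.coe_sum, Submodule.coe_smul] at h3
    rw [show S.f b = c - ∑ l, r l • (z l).1 from h3]
    abel
  · rintro ⟨n, z, hz, hgen⟩
    let zc : Fin n → LinearMap.ker S.g.hom := fun l => ⟨z l, hz l⟩
    refine ⟨⟨(Finset.univ.image fun l => Submodule.Quotient.mk (zc l)), ?_⟩⟩
    rw [eq_top_iff]
    rintro x -
    obtain ⟨⟨c, hc⟩, rfl⟩ := Submodule.Quotient.mk_surjective _ x
    obtain ⟨r, b, hb⟩ := hgen c hc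
    have h2 : (Submodule.Quotient.mk (⟨c, hc⟩ : LinearMap.ker S.g.hom) :
        LinearMap.ker S.g.hom ⧸ LinearMap.range S.moduleCatToCycles) =
        Submodule.Quotient.mk (∑ l, r l • zc l) := by
      rw [Submodule.Quotient.eq]
      refine ⟨b, Subtype.ext ?_⟩
      simp only [Submodule.coe_sub, Submodule.coe_sum, Submodule.coe_smul]
      show S.f b = c - ∑ l, r l • z l
      rw [hb]
      abel
    rw [h2, ← Submodule.mkQ_apply, map_sum]
    refine Submodule.sum_mem _ fun l _ => ?_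
    rw [map_smul]
    exact Submodule.smul_mem _ _ (Submodule.subset_span (by simp [zc]))

/-- Finiteness of homology, on representatives. -/
theorem finite_homology_iff {R : Type u} [CommRing R] (K : CochainComplex (ModuleCat.{u} R) ℕ) (i d j : ℕ)
    (hi : (ComplexShape.up ℕ).prev d = i) (hj : (ComplexShape.up ℕ).next d = j) :
    Module.Finite R (K.homology d) ↔ ∃ (n : ℕ) (z : Fin n → K.X d), (∀ l, K.d d j (z l) = 0) ∧
      ∀ c : K.X d, K.d d j c = 0 → ∃ (r : Fin n → R) (b : K.X i), c = ∑ l, r l • z l + K.d i d b :=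
  (Module.Finite.equiv_iff (K.homologyIsoSc' i d j hi hj).toLinearEquiv).trans
    (finite_homology_sc (K.sc' i d j))

variable {A : Type u} [CommRing A] {X X₀ : Scheme.{u}} [X.Over (Spec (CommRingCat.of A))]

theorem natural_ext {T : TopCat.{u}} {ι : Type u} {U : ι → Opens T} {P : TopCat.Presheaf AddCommGrpCat.{u} T}
    {p : ℕ} {c c' : Ab.Cochain P U p} (hc : Ab.IsNatural c) (hc' : Ab.IsNatural c')
    (B : (Fin p → ι) → Opens T) (hB : ∀ σ, Ab.Le U σ (B σ)) (hmax : ∀ σ W, Ab.Le U σ W → W ≤ B σ)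
    (h : ∀ σ, c σ ⟨B σ, hB σ⟩ = c' σ ⟨B σ, hB σ⟩) : c = c' := by
  funext σ W
  rw [← hc σ (B σ) W.1 (hB σ) W.2 (homOfLE (hmax σ W.1 W.2)),
    ← hc' σ (B σ) W.1 (hB σ) W.2 (homOfLE (hmax σ W.1 W.2)), h]

theorem le_preimage_iInf (k : X ⟶ X₀) {ι : Type u} (U : ι → X₀.Opens) {p : ℕ} (σ : Fin p → ι)
    {W : X.Opens} (h : ∀ a, W ≤ k ⁻¹ᵁ U (σ a)) : W ≤ k ⁻¹ᵁ (⨅ a, U (σ a)) := by
  intro x hx
  let W' : X₀.Opens := ⟨⋂ a, (U (σ a) : Set X₀), isOpen_iInter_of_finite fun a => (U (σ a)).2⟩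
  have hW' : W' ≤ ⨅ a, U (σ a) := le_iInf fun a y hy => Set.mem_iInter.1 hy a
  exact hW' (Set.mem_iInter.2 fun a => h a hx)

theorem smul_apply' {ι : Type u} (U : ι → X.Opens) (M : X.Modules) (p : ℕ) (a : A)
    (c : (cxMod (Coh.toGlobal (X ↘ Spec (CommRingCat.of A))) U M).X p)
    (σ : Fin (p + 1) → ι) (W : {W : Opens X // Ab.Le (X := X.toPresheafedSpace.carrier) U σ W}) :
    ((a • c : (cxMod (Coh.toGlobal (X ↘ Spec (CommRingCat.of A))) U M).X p) :
        Ab.natCochains M.presheaf U (p + 1)).1 σ W =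
      (Formal.smulMod A M a).app W.1 ((c : Ab.natCochains M.presheaf U (p + 1)).1 σ W) := rfl

variable {A₀ : Type u} [CommRing A₀] [X₀.Over (Spec (CommRingCat.of A₀))]

/-- The basic data: an affine morphism over a change of base rings. -/
theorem finite_HH_top (φ : A₀ →+* A) [IsNoetherianRing A₀] [IsProper (X₀ ↘ Spec (CommRingCat.of A₀))]
    (k : X ⟶ X₀) [IsAffineHom k]
    (hcomp : k ≫ (X₀ ↘ Spec (CommRingCat.of A₀)) =
      (X ↘ Spec (CommRingCat.of A)) ≫ Spec.map (CommRingCat.ofHom φ))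
    (hgen : ∀ W : X₀.Opens, IsAffineOpen W → ∀ r : Γ(X, k ⁻¹ᵁ W), r ∈ AddSubgroup.closure
      {x | ∃ (a : A) (b : Γ(X₀, W)), x =
        (show Γ(X, k ⁻¹ᵁ W) from Coh.resTop X (op (k ⁻¹ᵁ W)) (Coh.toGlobal (X ↘ Spec (CommRingCat.of A)) a)) *
          k.app W b})
    {d : ℕ} (hd : ∀ z : Spec (CommRingCat.of A₀), IsClosed ({z} : Set _) →
      topologicalKrullDim ↥((X₀ ↘ Spec (CommRingCat.of A₀)) ⁻¹' {z}) ≤ d)
    {M : X.Modules} (hM : Coh.IsCoh M) :
    letI := modHH (Coh.toGlobal (X ↘ Spec (CommRingCat.of A))) M d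
    Module.Finite A (Coh.HH X M d) := by
  classical
  let ρ := Coh.toGlobal (X ↘ Spec (CommRingCat.of A))
  let ρ₀ := Coh.toGlobal (X₀ ↘ Spec (CommRingCat.of A₀))
  letI := modHH ρ M d
  have hρ : ∀ r, k.appTop (ρ₀ r) = ρ (φ r) := fun r => by
    show (k ≫ (X₀ ↘ Spec (CommRingCat.of A₀))).appTop ((Scheme.ΓSpecIso (CommRingCat.of A₀)).inv r) = _
    rw [hcomp, Scheme.Hom.comp_appTop, ConcreteCategory.comp_apply]
    exact congrArg (X ↘ Spec (CommRingCat.of A)).appTop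
      (congr(($((Scheme.ΓSpecIso_inv_naturality (CommRingCat.ofHom φ)))) r)).symm
  haveI : CompactSpace X₀ := QuasiCompact.compactSpace_of_compactSpace (X₀ ↘ Spec (CommRingCat.of A₀))
  haveI : IsLocallyNoetherian X₀ := LocallyOfFiniteType.isLocallyNoetherian (X₀ ↘ Spec (CommRingCat.of A₀))
  haveI : IsNoetherian X₀ := { __ := ‹IsLocallyNoetherian X₀›, __ := ‹CompactSpace X₀› }
  haveI : X₀.IsSeparated := ⟨by
    rw [← terminal.comp_from (X₀ ↘ Spec (CommRingCat.of A₀))]; infer_instance⟩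
  haveI : X.IsSeparated := ⟨by
    rw [← terminal.comp_from k]; infer_instance⟩
  obtain ⟨s, hs, hcov⟩ := isCompact_iff_finite_and_eq_biUnion_affineOpens.mp
    (show IsCompact ((⊤ : X₀.Opens) : Set X₀) from isCompact_univ)
  haveI : Finite s := hs.to_subtype
  let U₀ : s → X₀.Opens := fun i => i.1.1
  let U : s → X.Opens := fun i => k ⁻¹ᵁ U₀ i
  have hU₀ : ∀ {p : ℕ} (σ : Fin (p + 1) → s), IsAffineOpen (⨅ a, U₀ (σ a)) := fun σ =>
    IsAffineOpen.iInf fun a => (σ a).1.2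
  have hU : ∀ {p : ℕ} (σ : Fin (p + 1) → s), IsAffineOpen (⨅ a, U (σ a)) := fun σ =>
    IsAffineOpen.iInf fun a => (σ a).1.2.preimage k
  have hcov₀ : ⨆ i, U₀ i = ⊤ := by
    refine top_unique fun x _ => ?_
    have : x ∈ (⊤ : X₀.Opens) := trivial
    rw [hcov] at this
    obtain ⟨i, hx⟩ := Opens.mem_iSup.1 this
    obtain ⟨hi, hx⟩ := Opens.mem_iSup.1 hx
    exact Opens.mem_iSup.2 ⟨⟨i, hi⟩, hx⟩
  have hcovX : ⨆ i, U i = ⊤ := by
    refine top_unique fun x _ => ?_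
    obtain ⟨i, hi⟩ := Opens.mem_iSup.1 (show k x ∈ ⨆ i, U₀ i by rw [hcov₀]; trivial)
    exact Opens.mem_iSup.2 ⟨i, hi⟩
  let V : ∀ {p : ℕ}, (Fin p → s) → X₀.Opens := fun σ => ⨅ a, U₀ (σ a)
  have hV : ∀ {p : ℕ} (σ : Fin p → s), Ab.Le (X := X₀.toPresheafedSpace.carrier) U₀ σ (V σ) :=
    fun σ a => iInf_le _ a
  have hVX : ∀ {p : ℕ} (σ : Fin p → s), Ab.Le (X := X.toPresheafedSpace.carrier) U σ (k ⁻¹ᵁ V σ) :=
    fun σ a x hx => hV σ a hx
  have hmax : ∀ {p : ℕ} (σ : Fin p → s) (W : Opens X),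
      Ab.Le (X := X.toPresheafedSpace.carrier) U σ W → W ≤ k ⁻¹ᵁ V σ :=
    fun σ W h => le_preimage_iInf k U₀ σ h
  let N : X₀.Modules := (Coh.push k).obj M
  have hN : Coh.IsQCoh N := isQCoh_pushforward k hM.1
  let E : A → (N ⟶ N) := fun a => (Coh.push k).map (Formal.smulMod A M a)
  -- a coherent module generating over the rings of sections
  have hfin : ∀ σ : Fin (d + 1) → s, ∃ T : Finset Γ(M, k ⁻¹ᵁ V σ),
      Submodule.span Γ(X, k ⁻¹ᵁ V σ) (T : Set Γ(M, k ⁻¹ᵁ V σ)) = ⊤ := fun σ =>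
    (finite_sections hM ((hU₀ σ).preimage k)).fg_top
  choose T hT using hfin
  haveI : Fintype (Fin (d + 1) → s) := Fintype.ofFinite _
  obtain ⟨G, ψ, _, hG, hGs⟩ := FibVanQCohH4.exists_coh_contains hN
    (κ := Σ σ : Fin (d + 1) → s, T σ) (fun x => V x.1) (fun x => hU₀ x.1) (fun x => x.2.1) Finset.univ
  have hgenN : ∀ (σ : Fin (d + 1) → s) (m : Γ(N, V σ)), ∃ g : A →₀ Γ(G, V σ),
      m = g.sum fun a x => (E a).app (V σ) (ψ.app (V σ) x) := by
    intro σ
    let L : (A →₀ Γ(G, V σ)) →+ Γ(N, V σ) := Finsupp.liftAddHom fun a =>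
      AddMonoidHom.mk' (fun x => (E a).app (V σ) (ψ.app (V σ) x)) fun x y => by rw [map_add, map_add]
    suffices h : ∀ m : Γ(M, k ⁻¹ᵁ V σ), (show Γ(N, V σ) from m) ∈ L.range from fun m => by
      obtain ⟨g, hg⟩ := h m
      exact ⟨g, hg.symm⟩
    intro m
    have hm : m ∈ Submodule.span Γ(X, k ⁻¹ᵁ V σ) (T σ : Set Γ(M, k ⁻¹ᵁ V σ)) := hT σ ▸ Submodule.mem_top
    suffices h : ∀ (t : Γ(M, k ⁻¹ᵁ V σ)), t ∈ (T σ : Set Γ(M, k ⁻¹ᵁ V σ)) → ∀ r : Γ(X, k ⁻¹ᵁ V σ),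
        (show Γ(N, V σ) from r • t) ∈ L.range by
      obtain ⟨f, hfs, hf⟩ := Submodule.mem_span_iff_exists_finset_subset.mp hm |>.imp fun f hf =>
        And.intro hf hf
      obtain ⟨S', hS', -, hsum⟩ := hf
      rw [← hsum]
      exact AddSubgroup.sum_mem _ fun t ht => h t (hS' ht) _
    intro t ht r
    obtain ⟨g₀, hg₀⟩ := hGs ⟨σ, t, ht⟩ (Finset.mem_univ _)
    induction hgen (V σ) (hU₀ σ) r using AddSubgroup.closure_induction with
    | mem x hx =>
      obtain ⟨a, b, rfl⟩ := hx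
      refine ⟨Finsupp.single a (b • g₀), ?_⟩
      rw [Finsupp.liftAddHom_apply_single]
      show (E a).app (V σ) (ψ.app (V σ) (b • g₀)) = _
      rw [Scheme.Modules.Hom.app_smul, hg₀]
      show (Formal.smulMod A M a).app (k ⁻¹ᵁ V σ) (k.app (V σ) b • t) = _
      rw [FFun.smulMod_app, ← mul_smul]
    | zero =>
      show ((0 : Γ(X, k ⁻¹ᵁ V σ)) • t) ∈ L.range
      rw [zero_smul]
      exact AddSubgroup.zero_mem _
    | add x y _ _ hx hy =>
      show ((x + y) • t) ∈ L.range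
      rw [add_smul]
      exact AddSubgroup.add_mem _ hx hy
    | neg x _ hx =>
      show ((-x) • t) ∈ L.range
      rw [neg_smul]
      exact AddSubgroup.neg_mem _ hx
  -- transfer of cochains
  let K₀ := cxMod ρ₀ U₀ G
  let K := cxMod ρ U M
  let tr : ∀ p, K₀.X p → K.X p := fun p g =>
    (⟨fun σ W => M.presheaf.map (homOfLE (hmax σ W.1 W.2)).op
        (show Γ(M, k ⁻¹ᵁ V σ) from ψ.app (V σ) ((g : Ab.natCochains G.presheaf U₀ (p + 1)).1 σ ⟨V σ, hV σ⟩)),
      fun σ W W' h h' i => Ab.map_map'' M.presheaf _ i _ _⟩ : Ab.natCochains M.presheaf U (p + 1))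
  have htr : ∀ p (g : K₀.X p) σ, ((tr p g : K.X p) : Ab.natCochains M.presheaf U (p + 1)).1 σ
      ⟨k ⁻¹ᵁ V σ, hVX σ⟩ =
      ψ.app (V σ) ((g : Ab.natCochains G.presheaf U₀ (p + 1)).1 σ ⟨V σ, hV σ⟩) := fun p g σ =>
    Ab.map_self M.presheaf _ _
  have Kext : ∀ p (c c' : K.X p), (∀ σ, (c : Ab.natCochains M.presheaf U (p + 1)).1 σ ⟨k ⁻¹ᵁ V σ, hVX σ⟩ =
      (c' : Ab.natCochains M.presheaf U (p + 1)).1 σ ⟨k ⁻¹ᵁ V σ, hVX σ⟩) → c = c' := fun p c c' h =>
    Subtype.ext (natural_ext (c : Ab.natCochains M.presheaf U (p + 1)).2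
      (c' : Ab.natCochains M.presheaf U (p + 1)).2 _ hVX hmax h)
  have ev_add : ∀ p (c c' : K.X p) σ W, ((c + c' : K.X p) : Ab.natCochains M.presheaf U (p + 1)).1 σ W =
      (c : Ab.natCochains M.presheaf U (p + 1)).1 σ W + (c' : Ab.natCochains M.presheaf U (p + 1)).1 σ W :=
    fun p c c' σ W => rfl
  have tr_add : ∀ p (g g' : K₀.X p), tr p (g + g') = tr p g + tr p g' := fun p g g' => Kext p _ _ fun σ => by
    rw [ev_add, htr, htr, htr]
    exact map_add (ψ.app (V σ)).hom _ _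
  have tr_smul : ∀ p (r : A₀) (g : K₀.X p), tr p (r • g) = φ r • tr p g := fun p r g => Kext p _ _ fun σ => by
    rw [smul_apply', htr, htr, smul_apply', FFun.smulMod_app, Scheme.Modules.Hom.app_smul, FFun.smulMod_app]
    refine congrArg (fun x : Γ(X, k ⁻¹ᵁ V σ) => x • (show Γ(M, k ⁻¹ᵁ V σ) from
      ψ.app (V σ) ((g : Ab.natCochains G.presheaf U₀ (p + 1)).1 σ ⟨V σ, hV σ⟩))) ?_
    show k.app (V σ) (X₀.presheaf.map (homOfLE le_top).op (ρ₀ r)) = X.presheaf.map (homOfLE le_top).op (ρ (φ r))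
    rw [← hρ]
    exact congr($(k.naturality (homOfLE (le_top : V σ ≤ ⊤)).op) (ρ₀ r))
  have tr_d : ∀ p (g : K₀.X p), K.d p (p + 1) (tr p g) = tr (p + 1) (K₀.d p (p + 1) g) := by
    intro p g
    refine Kext _ _ _ fun τ => ?_
    rw [htr]
    show ((Ab.natCx M.presheaf U).d p (p + 1) (tr p g) : Ab.natCochains M.presheaf U (p + 2)).1 τ ⟨k ⁻¹ᵁ V τ, hVX τ⟩ =
      ψ.app (V τ) (((Ab.natCx G.presheaf U₀).d p (p + 1) g : Ab.natCochains G.presheaf U₀ (p + 2)).1 τ ⟨V τ, hV τ⟩)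
    rw [Ab.natCx_d, Ab.natCx_d]
    show Ab.d (tr p g : Ab.natCochains M.presheaf U (p + 1)).1 τ ⟨k ⁻¹ᵁ V τ, hVX τ⟩ =
      ψ.app (V τ) (Ab.d (g : Ab.natCochains G.presheaf U₀ (p + 1)).1 τ ⟨V τ, hV τ⟩)
    unfold Ab.d
    rw [map_sum]
    refine Finset.sum_congr rfl fun a _ => ?_
    rw [map_zsmul]
    congr 1
    have hle : V τ ≤ V (fun b => τ (a.succAbove b)) := le_iInf fun b => iInf_le _ _
    rw [← (g : Ab.natCochains G.presheaf U₀ (p + 1)).2 (fun b => τ (a.succAbove b))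
      (V (fun b => τ (a.succAbove b))) (V τ) (hV _) (fun b => hV τ _) (homOfLE hle)]
    rw [map_app_comm]
    rfl
  -- cycles of `G` up to boundaries
  haveI : Module.Finite A₀ (Coh.HH X₀ G d) := Groth.Agent.S0002.result A₀ X₀ G hG d
  have hfinG : Module.Finite A₀ (K₀.homology d) := by
    obtain ⟨e⟩ := cxMod_homology_equiv ρ₀ U₀ hcov₀ hU₀ hG.1 d
    exact Module.Finite.equiv e.symm
  obtain ⟨nz, z, hz, hzgen⟩ :=
    (finite_homology_iff K₀ _ d (d + 1) rfl (CochainComplex.next ℕ d)).mp hfinG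
  suffices hfinM : Module.Finite A (K.homology d) by
    obtain ⟨e⟩ := cxMod_homology_equiv ρ U hcovX hU hM.1 d
    exact Module.Finite.equiv e
  refine (finite_homology_iff K _ d (d + 1) rfl (CochainComplex.next ℕ d)).mpr
    ⟨nz, fun l => tr d (z l), fun l => ?_, fun c hc => ?_⟩
  · rw [tr_d, hz]
    exact Kext _ _ _ fun σ => by rw [htr]; exact map_zero (ψ.app (V σ)).hom
  -- express the cocycle through `G`
  let cn : Ab.natCochains M.presheaf U (d + 1) := c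
  choose g hg using fun σ => hgenN σ (cn.1 σ ⟨k ⁻¹ᵁ V σ, hVX σ⟩)
  let S : Finset A := Finset.univ.biUnion fun σ => (g σ).support
  have hg' : ∀ σ, cn.1 σ ⟨k ⁻¹ᵁ V σ, hVX σ⟩ =
      ∑ a : S, (E a.1).app (V σ) (ψ.app (V σ) (g σ a.1)) := fun σ => by
    rw [hg σ, Finset.sum_coe_sort S (fun a => (E a).app (V σ) (ψ.app (V σ) (g σ a)))]
    exact Finsupp.sum_of_support_subset _ (fun a ha => Finset.mem_biUnion.2 ⟨σ, Finset.mem_univ σ, ha⟩) _
      (fun a _ => by rw [map_zero, map_zero])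
  let GS : X₀.Modules := ⨁ fun _ : S => G
  have hGS : Coh.IsCoh GS := isCoh_biproduct _ fun _ => hG
  let Φ : GS ⟶ N := biproduct.desc fun a => ψ ≫ E a.1
  let inc : ∀ (a : S), G ⟶ GS := fun a => biproduct.ι (fun _ : S => G) a
  let prj : ∀ (a : S), GS ⟶ G := fun a => biproduct.π (fun _ : S => G) a
  have hinc : ∀ (a : S) (W : X₀.Opens) (x : Γ(G, W)),
      Φ.app W ((inc a).app W x) = (E a.1).app W (ψ.app W x) := fun a W x => by
    show (inc a ≫ Φ).app W x = _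
    rw [biproduct.ι_desc]
    rfl
  let e : ∀ σ, Γ(GS, V σ) := fun σ => ∑ a : S, (inc a).app (V σ) (g σ a.1)
  have he : ∀ σ, Φ.app (V σ) (e σ) = cn.1 σ ⟨k ⁻¹ᵁ V σ, hVX σ⟩ := fun σ => by
    rw [hg', map_sum]
    exact Finset.sum_congr rfl fun a _ => hinc a _ _
  let gS : Ab.Cochain (X := X₀.toPresheafedSpace.carrier) GS.presheaf U₀ (d + 1) := fun σ W =>
    GS.presheaf.map (homOfLE (le_iInf W.2 : W.1 ≤ V σ)).op (e σ)
  have hgS : Ab.IsNatural gS := fun σ W W' h h' i => Ab.map_map'' GS.presheaf _ i _ _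
  have hΦgS : ∀ σ (W : X₀.Opens) (h : Ab.Le (X := X₀.toPresheafedSpace.carrier) U₀ σ W),
      Φ.app W (gS σ ⟨W, h⟩) = cn.1 σ ⟨k ⁻¹ᵁ W, fun a x hx => h a hx⟩ := fun σ W h => by
    show Φ.app W (GS.presheaf.map _ (e σ)) = _
    rw [map_app_comm, he]
    exact cn.2 σ (k ⁻¹ᵁ V σ) (k ⁻¹ᵁ W) (hVX σ) (fun a x hx => h a hx)
      (homOfLE fun x hx => (le_iInf h : W ≤ V σ) hx)
  have hdΦ : ∀ τ, Φ.app (V τ) (Ab.d gS τ ⟨V τ, hV τ⟩) = 0 := fun τ => by
    have hc' : ((Ab.natCx M.presheaf U).d d (d + 1) cn : Ab.natCochains M.presheaf U (d + 2)).1 τ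
        ⟨k ⁻¹ᵁ V τ, hVX τ⟩ = 0 := by
      have := congrArg (fun x : K.X (d + 1) =>
        (x : Ab.natCochains M.presheaf U (d + 2)).1 τ ⟨k ⁻¹ᵁ V τ, hVX τ⟩) hc
      exact this
    rw [Ab.natCx_d] at hc'
    refine Eq.trans ?_ hc'
    show Φ.app (V τ) (Ab.d gS τ ⟨V τ, hV τ⟩) = Ab.d cn.1 τ ⟨k ⁻¹ᵁ V τ, hVX τ⟩
    unfold Ab.d
    rw [map_sum]
    refine Finset.sum_congr rfl fun a _ => ?_
    rw [map_zsmul, hΦgS]
  -- lift the coboundary to the kernel
  let i₀ : kernel Φ ⟶ GS := kernel.ι Φ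
  have hK : Coh.IsCoh (kernel Φ) := isCoh_of_mono i₀ hGS (isQCoh_kernel hGS.1 hN Φ)
  have hlift : ∀ (W : X₀.Opens) (x : Γ(GS, W)), Φ.app W x = 0 → ∃ y, i₀.app W y = x := by
    intro W x hx
    have h0 : (kerSub Φ).ι ≫ Φ = 0 := QCoh.hom_ext_app fun W' y => by
      show Φ.app W' ((kerSub Φ).ι.app W' y) = 0
      exact (kerSub Φ).ι_app_mem W' y
    obtain ⟨y, hy⟩ := (kerSub Φ).exists_app_eq (show x ∈ (kerSub Φ).mem W from hx)
    refine ⟨(kernel.lift Φ (kerSub Φ).ι h0).app W y, ?_⟩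
    show (kernel.lift Φ (kerSub Φ).ι h0 ≫ i₀).app W y = x
    rw [kernel.lift_ι, hy]
  choose kk hkk using fun τ => hlift (V τ) _ (hdΦ τ)
  let kc : Ab.Cochain (X := X₀.toPresheafedSpace.carrier) (kernel Φ).presheaf U₀ (d + 2) := fun σ W =>
    (kernel Φ).presheaf.map (homOfLE (le_iInf W.2 : W.1 ≤ V σ)).op (kk σ)
  have hkc : Ab.IsNatural kc := fun σ W W' h h' i => Ab.map_map'' (kernel Φ).presheaf _ i _ _
  let i' : (kernel Φ).presheaf ⟶ GS.presheaf := (Scheme.Modules.toPresheaf X₀).map i₀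
  have hpush : Ab.push i' kc = Ab.d gS := by
    funext σ W
    show i₀.app W.1 ((kernel Φ).presheaf.map _ (kk σ)) = _
    rw [map_app_comm, hkk]
    exact Ab.d_natural hgS σ (V σ) W.1 (hV σ) W.2 _
  have hdk : Ab.d kc = 0 := by
    funext σ W
    apply app_injective i₀ W.1
    have e' : Ab.push i' (Ab.d kc) σ W = (Ab.d (Ab.d gS)) σ W := by rw [← Ab.d_push, hpush]
    rw [Ab.d_d] at e'
    exact e'.trans (map_zero _).symm
  obtain ⟨b, hb, hdb⟩ := (FibVanQCohH4.exactAt_natCx_iff U₀ (kernel Φ).presheaf d).1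
    ((FibVanQCohH4.subsingleton_HH_iff_exactAt hcov₀ hU₀ hK.1 _).1
      (FibVan.subsingleton_HH_of_closed_fibre_dim (A := A₀) hK (Nat.lt_succ_self d) hd)) kc hkc hdk
  let g' : Ab.Cochain (X := X₀.toPresheafedSpace.carrier) GS.presheaf U₀ (d + 1) := gS - Ab.push i' b
  have hg'd : Ab.d g' = 0 := by rw [Ab.d_sub, Ab.d_push, hdb, hpush, sub_self]
  have hg'nat : Ab.IsNatural g' :=
    (Ab.natCochains GS.presheaf U₀ (d + 1)).sub_mem hgS (Ab.push_natural i' hb)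
  have hΦg' : ∀ σ, Φ.app (V σ) (g' σ ⟨V σ, hV σ⟩) = cn.1 σ ⟨k ⁻¹ᵁ V σ, hVX σ⟩ := fun σ => by
    show Φ.app (V σ) (gS σ ⟨V σ, hV σ⟩ - i₀.app (V σ) (b σ ⟨V σ, hV σ⟩)) = _
    rw [map_sub, hΦgS, show Φ.app (V σ) (i₀.app (V σ) (b σ ⟨V σ, hV σ⟩)) = (i₀ ≫ Φ).app (V σ) _ from rfl,
      kernel.condition]
    exact sub_zero _
  let ga : S → K₀.X d := fun a =>
    (⟨Ab.push ((Scheme.Modules.toPresheaf X₀).map (prj a)) g',
      Ab.push_natural _ hg'nat⟩ : Ab.natCochains G.presheaf U₀ (d + 1))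
  have hga : ∀ a, K₀.d d (d + 1) (ga a) = 0 := fun a => by
    show (Ab.natCx G.presheaf U₀).d d (d + 1) (ga a) = 0
    rw [Ab.natCx_d]
    refine Subtype.ext ?_
    show Ab.d (Ab.push _ g') = 0
    rw [Ab.d_push, hg'd]
    funext σ W
    exact map_zero ((prj a).app W.1).hom
  choose r β hrβ using fun a => hzgen (ga a) (hga a)
  have hc_eq : c = ∑ a : S, a.1 • tr d (ga a) := by
    refine Kext _ _ _ fun σ => ?_
    have hsum : ∀ (t : Finset S), ((∑ a ∈ t, a.1 • tr d (ga a) : K.X d) :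
        Ab.natCochains M.presheaf U (d + 1)).1 σ ⟨k ⁻¹ᵁ V σ, hVX σ⟩ =
        ∑ a ∈ t, (E a.1).app (V σ) (ψ.app (V σ) ((prj a).app (V σ) (g' σ ⟨V σ, hV σ⟩))) := by
      intro t
      induction t using Finset.induction with
      | empty => rw [Finset.sum_empty, Finset.sum_empty]; rfl
      | insert a t ha ih =>
        rw [Finset.sum_insert ha, Finset.sum_insert ha, ev_add, ih, smul_apply', htr]
        rfl
    rw [hsum, ← hΦg']
    have hsplit : g' σ ⟨V σ, hV σ⟩ = ∑ a : S, (inc a).app (V σ) ((prj a).app (V σ) (g' σ ⟨V σ, hV σ⟩)) := by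
      have h1 : (∑ a : S, prj a ≫ inc a) = 𝟙 GS := by
        refine biproduct.hom_ext' _ _ fun j => ?_
        rw [Preadditive.comp_sum, Finset.sum_eq_single j, biproduct.ι_π_self_assoc, Category.comp_id]
        · intro a _ ha
          rw [biproduct.ι_π_ne_assoc _ (Ne.symm ha), zero_comp]
        · exact fun h => absurd (Finset.mem_univ j) h
      conv_lhs => rw [show g' σ ⟨V σ, hV σ⟩ = (𝟙 GS : GS ⟶ GS).app (V σ) (g' σ ⟨V σ, hV σ⟩) from rfl, ← h1]
      exact map_sum (AddMonoidHom.mk' (fun f : GS ⟶ GS => f.app (V σ) (g' σ ⟨V σ, hV σ⟩))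
        fun f f' => rfl) _ _
    conv_lhs => rw [hsplit]
    rw [map_sum]
    exact Finset.sum_congr rfl fun a _ => hinc a _ _
  let T' : K₀.X d →+ K.X d := AddMonoidHom.mk' (tr d) (tr_add d)
  have tr_bd : ∀ x : K₀.X ((ComplexShape.up ℕ).prev d),
      tr d (K₀.d ((ComplexShape.up ℕ).prev d) d x) =
        K.d ((ComplexShape.up ℕ).prev d) d (tr _ x) := by
    rcases Nat.eq_zero_or_pos d with rfl | hd0
    · intro x
      rw [K₀.shape _ _ (by simp), K.shape _ _ (by simp)]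
      exact map_zero T'
    · obtain ⟨d', rfl⟩ := Nat.exists_eq_add_of_le' hd0
      rw [CochainComplex.prev_nat_succ]
      exact fun x => (tr_d d' x).symm
  refine ⟨fun l => ∑ a : S, a.1 * φ (r a l), ∑ a : S, a.1 • tr _ (β a), ?_⟩
  rw [hc_eq, map_sum]
  have h1 : ∀ a : S, tr d (ga a) =
      ∑ l, φ (r a l) • tr d (z l) + K.d ((ComplexShape.up ℕ).prev d) d (tr _ (β a)) := fun a => by
    rw [hrβ a, tr_add, tr_bd]
    congr 1
    show T' (∑ l, r a l • z l) = _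
    rw [map_sum]
    exact Finset.sum_congr rfl fun l _ => tr_smul d _ _
  simp only [h1, smul_add, Finset.smul_sum, smul_smul, Finset.sum_add_distrib, Finset.sum_smul, map_smul]
  rw [Finset.sum_comm]

/-- A pushout ring is generated by the two images. -/
theorem closure_mul_of_isPushout {R B C P : CommRingCat.{u}} {a : R ⟶ B} {b : R ⟶ C} {l : B ⟶ P}
    {r : C ⟶ P} (h : IsPushout a b l r) (x : P) :
    x ∈ AddSubgroup.closure {x : P | ∃ (m : B) (n : C), x = r n * l m} := by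
  let T : Subring P := Subring.closure (Set.range l ∪ Set.range r)
  let l' : B ⟶ CommRingCat.of T :=
    CommRingCat.ofHom (l.hom.codRestrict T fun m => Subring.subset_closure (Or.inl ⟨m, rfl⟩))
  let r' : C ⟶ CommRingCat.of T :=
    CommRingCat.ofHom (r.hom.codRestrict T fun m => Subring.subset_closure (Or.inr ⟨m, rfl⟩))
  let inc : CommRingCat.of T ⟶ P := CommRingCat.ofHom T.subtype
  have w : a ≫ l' = b ≫ r' := by
    ext m
    exact congr($(h.w) m)
  have e : h.desc l' r' w ≫ inc = 𝟙 P := by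
    refine h.hom_ext ?_ ?_
    · rw [← Category.assoc, h.inl_desc, Category.comp_id]; rfl
    · rw [← Category.assoc, h.inr_desc, Category.comp_id]; rfl
  have hx : x ∈ T := by
    have hxe : inc (h.desc l' r' w x) = x := congr($e x)
    exact hxe ▸ (h.desc l' r' w x).2
  have h1 := Subring.mem_closure_iff.mp hx
  refine AddSubgroup.closure_mono ?_ h1
  have h2 : Submonoid.closure (Set.range l ∪ Set.range r) ≤ MonoidHom.mrange
      ((r.hom.toMonoidHom.coprod l.hom.toMonoidHom) : C × B →* P) := by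
    rw [Submonoid.closure_le]
    rintro _ (⟨m, rfl⟩ | ⟨n, rfl⟩)
    · exact ⟨(1, m), by simp⟩
    · exact ⟨(n, 1), by simp⟩
  intro y hy
  obtain ⟨⟨n, m⟩, rfl⟩ := h2 hy
  exact ⟨m, n, rfl⟩

/-- Sections over preimages of affine opens are generated by the base and the model. -/
theorem gen_of_isPullback {A : Type u} [CommRing A] {A₀ : Type u} [CommRing A₀] {X Y X₀ : Scheme.{u}}
    {g : Y ⟶ X₀} {fj : Y ⟶ Spec (CommRingCat.of A)} {g₀ : X₀ ⟶ Spec (CommRingCat.of A₀)}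
    {π : Spec (CommRingCat.of A) ⟶ Spec (CommRingCat.of A₀)} (hpb : IsPullback g fj g₀ π)
    (p : X ⟶ Y) [IsClosedImmersion p] (W : X₀.Opens) (hW : IsAffineOpen W)
    (r : Γ(X, (p ≫ g) ⁻¹ᵁ W)) : r ∈ AddSubgroup.closure
      {x | ∃ (a : A) (b : Γ(X₀, W)), x =
        (show Γ(X, (p ≫ g) ⁻¹ᵁ W) from Coh.resTop X (op ((p ≫ g) ⁻¹ᵁ W)) (Coh.toGlobal (p ≫ fj) a)) *
          (p ≫ g).app W b} := by
  haveI : IsAffineHom π := isAffineHom_of_isAffine _
  haveI : IsAffineHom g := MorphismProperty.of_isPullback hpb.flip ‹IsAffineHom π›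
  have hUST : (⊤ : (Spec (CommRingCat.of A)).Opens) ≤ π ⁻¹ᵁ ⊤ := fun _ _ => trivial
  have hUSX : W ≤ g₀ ⁻¹ᵁ ⊤ := fun _ _ => trivial
  have hUY : g ⁻¹ᵁ W = g ⁻¹ᵁ W ⊓ fj ⁻¹ᵁ ⊤ := by simp
  have hpo := (isIso_pushoutSection_iff hpb hUST hUSX hUY).mp
    (isIso_pushoutSection_of_isAffineOpen hpb hUST hUSX hUY (isAffineOpen_top _) (isAffineOpen_top _) hW)
  obtain ⟨z, rfl⟩ := p.app_surjective (g ⁻¹ᵁ W) (hW.preimage g) r
  have hz := closure_mul_of_isPushout hpo z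
  have hz' : p.app (g ⁻¹ᵁ W) z ∈ (AddSubgroup.closure _).map (p.app (g ⁻¹ᵁ W)).hom.toAddMonoidHom :=
    ⟨z, hz, rfl⟩
  rw [AddMonoidHom.map_closure] at hz'
  refine AddSubgroup.closure_mono ?_ hz'
  rintro _ ⟨_, ⟨b, t, rfl⟩, rfl⟩
  obtain ⟨a, rfl⟩ : ∃ a : A, (Scheme.ΓSpecIso (CommRingCat.of A)).inv a = t :=
    ⟨(Scheme.ΓSpecIso (CommRingCat.of A)).hom t, congr($((Scheme.ΓSpecIso (CommRingCat.of A)).hom_inv_id) t)⟩
  refine ⟨a, b, ?_⟩
  show p.app (g ⁻¹ᵁ W) (_ * _) = _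
  rw [map_mul]
  congr 1
  · exact congr($(p.naturality (homOfLE (le_top : g ⁻¹ᵁ W ≤ ⊤)).op) (fj.appTop ((Scheme.ΓSpecIso (CommRingCat.of A)).inv a)))
  · rw [← Scheme.Hom.app_eq_appLE]
    rfl

/-- A stage of the approximation whose fibre over a point has small dimension. -/
theorem exists_stage {S X : Scheme.{u}} (f : X ⟶ S) [IsProper f] {I : Type u} [SmallCategory I] [IsCofiltered I]
    {D : I ⥤ Over S} {c : Cone D} (hc : IsLimit c) (e : c.pt ≅ Over.mk f)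
    (hcl : ∀ (i j : I) (a : i ⟶ j), IsClosedImmersion (D.map a).left)
    (hobj : ∀ i, IsClosedImmersion (c.π.app i).left ∧ IsProper (D.obj i).hom ∧
        LocallyOfFinitePresentation (D.obj i).hom)
    (y : S) (d : ℕ) (hd : topologicalKrullDim ↥(f.fiber y) ≤ d) :
    ∃ j : I, ∀ z, (D.obj j).hom z = y → FibDim.rd (D.obj j).hom z ≤ d := by
  classical
  haveI : IsConnected I := IsCofiltered.isConnected I
  let D' : I ⥤ Scheme.{u} := D ⋙ Over.forget S
  haveI : ∀ (i j : I) (φ : i ⟶ j), IsAffineHom (D'.map φ) := fun i j φ => by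
    haveI : IsClosedImmersion (D'.map φ) := hcl i j φ
    infer_instance
  let c' : Cone D' := (Over.forget S).mapCone c
  have hc' : IsLimit c' := isLimitOfPreserves (Over.forget S) hc
  obtain ⟨i₀⟩ := (IsCofiltered.nonempty : Nonempty I)
  haveI := (hobj i₀).2.1
  let f₀ : (D.obj i₀).left ⟶ S := (D.obj i₀).hom
  let F : Set (D.obj i₀).left := f₀ ⁻¹' {y}
  haveI : NoetherianSpace ↥F := by
    haveI : IsLocallyNoetherian (f₀.fiber y) :=
      LocallyOfFiniteType.isLocallyNoetherian (f₀.fiberToSpecResidueField y)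
    haveI : CompactSpace ↥(f₀.fiber y) :=
      QuasiCompact.compactSpace_of_compactSpace (f₀.fiberToSpecResidueField y)
    haveI : IsNoetherian (f₀.fiber y) :=
      { __ := ‹IsLocallyNoetherian _›, __ := ‹CompactSpace ↥(f₀.fiber y)› }
    exact (f₀.fiberHomeo y).symm.isEmbedding.isInducing.noetherianSpace
  let C : (Σ j : I, (j ⟶ i₀)) → Closeds ↥F := fun jφ =>
    ⟨Subtype.val ⁻¹' Set.range (D'.map jφ.2), by
      haveI : IsClosedImmersion (D'.map jφ.2) := hcl _ _ _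
      exact (D'.map jφ.2).isClosedEmbedding.isClosed_range.preimage continuous_subtype_val⟩
  obtain ⟨m, ⟨⟨j, φ⟩, rfl⟩, hmin⟩ := (wellFounded_lt (α := Closeds ↥F)).has_min (Set.range C)
    ⟨_, ⟨⟨i₀, 𝟙 i₀⟩, rfl⟩⟩
  have hfib : ∀ x : (D.obj j).left, (D.obj j).hom x = y → x ∈ Set.range (c'.π.app j) := by
    intro x hx
    rw [Groth.Agent.S4784.result D' c' hc' j]
    simp only [Set.mem_iInter]
    intro k ψ
    have hle : C ⟨k, ψ ≫ φ⟩ ≤ C ⟨j, φ⟩ := by
      intro z hz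
      obtain ⟨w, hw⟩ := hz
      exact ⟨D'.map ψ w, by rw [← hw, D'.map_comp]; rfl⟩
    have heq : C ⟨k, ψ ≫ φ⟩ = C ⟨j, φ⟩ :=
      hle.eq_of_not_lt (hmin _ ⟨_, rfl⟩)
    have hxF : D'.map φ x ∈ F := by
      show ((D.map φ).left ≫ (D.obj i₀).hom) x = y
      rw [Over.w (D.map φ)]
      exact hx
    have : (⟨D'.map φ x, hxF⟩ : ↥F) ∈ C ⟨k, ψ ≫ φ⟩ := heq.symm ▸ ⟨x, rfl⟩
    obtain ⟨w, hw⟩ := this
    haveI : IsClosedImmersion (D'.map φ) := hcl _ _ _
    refine ⟨w, (D'.map φ).isClosedEmbedding.injective ?_⟩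
    rw [D'.map_comp] at hw
    exact hw
  haveI := (hobj j).2.1
  haveI : IsClosedImmersion (c.π.app j).left := (hobj j).1
  let p : X ⟶ (D.obj j).left := e.inv.left ≫ (c.π.app j).left
  haveI : IsIso e.inv.left := inferInstanceAs (IsIso ((Over.forget S).map e.inv))
  haveI : IsClosedImmersion p := inferInstanceAs (IsClosedImmersion (_ ≫ _))
  have hpf : p ≫ (D.obj j).hom = f := by
    show (e.inv.left ≫ (c.π.app j).left) ≫ (D.obj j).hom = f
    rw [Category.assoc, Over.w]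
    exact Over.w e.inv
  refine ⟨j, fun z hz => ?_⟩
  obtain ⟨x', hx'⟩ := hfib z hz
  let x : X := e.hom.left x'
  have hx : p x = z := by
    rw [← hx']
    show ((e.hom.left ≫ e.inv.left) ≫ (c.π.app j).left) x' = (c.π.app j).left x'
    rw [← Over.comp_left, e.hom_inv_id, Over.id_left, Category.id_comp]
    rfl
  have h1 : FibDim.rd f x ≤ d := (FibDim.topologicalKrullDim_fiber_le_iff f y d).1 hd x (by
    rw [← hpf]; show (D.obj j).hom (p x) = y; rw [hx, hz])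
  have h2 : FibDim.rd f x = FibDim.rd (D.obj j).hom (p x) + FibDim.rd p x := by
    rw [← FibDim.rd_comp]; congr 1; exact hpf.symm
  rw [hx] at h2
  exact le_self_add.trans (h2 ▸ h1)

/-- A Noetherian model with small fibres everywhere. -/
theorem exists_model {A : Type u} [CommRing A] {X : Scheme.{u}}
    (f : X ⟶ Spec (CommRingCat.of A)) [IsProper f] (d : ℕ)
    (hd : ∀ y, topologicalKrullDim ↥(f.fiber y) ≤ d) :
    ∃ (A₀ : Type u) (_ : CommRing A₀) (φ : A₀ →+* A) (X₀ : Scheme.{u}) (g₀ : X₀ ⟶ Spec (CommRingCat.of A₀))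
      (k : X ⟶ X₀), IsNoetherianRing A₀ ∧ IsProper g₀ ∧ IsAffineHom k ∧
      k ≫ g₀ = f ≫ Spec.map (CommRingCat.ofHom φ) ∧
      (∀ W : X₀.Opens, IsAffineOpen W → ∀ r : Γ(X, k ⁻¹ᵁ W), r ∈ AddSubgroup.closure
        {x | ∃ (a : A) (b : Γ(X₀, W)), x =
          (show Γ(X, k ⁻¹ᵁ W) from Coh.resTop X (op (k ⁻¹ᵁ W)) (Coh.toGlobal f a)) * k.app W b}) ∧
      ∀ z, topologicalKrullDim ↥(g₀ ⁻¹' {z}) ≤ d := by
  classical
  obtain ⟨I, _, _, D, c, hc, e, hcl, hobj⟩ := Groth.Agent.S2079.result f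
  haveI : ∀ i, IsProper (D.obj i).hom := fun i => (hobj i).2.1
  choose jy hjy using fun y => exists_stage f hc e hcl hobj y d (hd y)
  let B : I → Set (Spec (CommRingCat.of A)) := fun i =>
    (D.obj i).hom '' {x | FlatMor.fibreDimAt (D.obj i).hom x ≤ (d : ℕ)}ᶜ
  have hB : ∀ i, IsClosed (B i) := fun i =>
    (D.obj i).hom.isClosedMap _ (FibDim.isOpen_fibreDimAt_le (D.obj i).hom d).isClosed_compl
  have hyB : ∀ y, y ∉ B (jy y) := by
    rintro y ⟨x, hx, hxy⟩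
    exact hx ((FibDim.fibreDimAt_le_iff (D.obj (jy y)).hom x d).2 fun z _ hz => hjy y z (hz.trans hxy))
  obtain ⟨F, hF⟩ := isCompact_univ.elim_finite_subcover (fun y => (B (jy y))ᶜ)
    (fun y => (hB _).isOpen_compl) fun y _ => Set.mem_iUnion.2 ⟨y, hyB y⟩
  obtain ⟨j, hj⟩ := IsCofiltered.inf_objs_exists (F.image jy)
  haveI := (hobj j).2.2
  haveI : IsClosedImmersion (c.π.app j).left := (hobj j).1
  let p : X ⟶ (D.obj j).left := e.inv.left ≫ (c.π.app j).left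
  haveI : IsIso e.inv.left := inferInstanceAs (IsIso ((Over.forget _).map e.inv))
  haveI : IsClosedImmersion p := inferInstanceAs (IsClosedImmersion (_ ≫ _))
  let fj : (D.obj j).left ⟶ Spec (CommRingCat.of A) := (D.obj j).hom
  have hpf : p ≫ fj = f := by
    show (e.inv.left ≫ (c.π.app j).left) ≫ (D.obj j).hom = f
    rw [Category.assoc, Over.w]
    exact Over.w e.inv
  have hdim : ∀ z, FibDim.rd fj z ≤ d := by
    intro z
    obtain ⟨y, hy, hzy⟩ := Set.mem_iUnion₂.1 (hF (Set.mem_univ (fj z)))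
    obtain ⟨ψ⟩ := hj (Finset.mem_image_of_mem jy hy)
    haveI := hcl _ _ ψ
    have hw : (D.obj (jy y)).hom ((D.map ψ).left z) = fj z := by
      rw [← Scheme.Hom.comp_apply, Over.w (D.map ψ)]
    have h1 : FlatMor.fibreDimAt (D.obj (jy y)).hom ((D.map ψ).left z) ≤ (d : ℕ) := by
      by_contra hn
      exact hzy ⟨_, hn, hw⟩
    have h2 := (FibDim.fibreDimAt_le_iff (D.obj (jy y)).hom _ d).1 h1 _ (specializes_refl _) rfl
    have h3 : FibDim.rd fj z =
        FibDim.rd (D.obj (jy y)).hom ((D.map ψ).left z) + FibDim.rd (D.map ψ).left z := by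
      rw [← FibDim.rd_comp]; congr 1; exact (Over.w (D.map ψ)).symm
    rw [h3, FibDim.rd_eq_zero_of_quasiFinite (D.map ψ).left, add_zero]
    exact h2
  obtain ⟨A₀, hA₀, X₀, g₀, g, hP, -, hlfp, hqc, -, hpb⟩ :=
    LimSm.exists_model_over_fg (P := @IsProper) (P' := @IsProper)
      (Q := @LocallyOfFinitePresentation) (Q' := @LocallyOfFinitePresentation)
      ConsPropLib.core_isProper ConsPropLib.core_isProper (fun _ h => h) (fun _ h => h) A fj
      inferInstance inferInstance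
  haveI := hP
  let π := Spec.map (CommRingCat.ofHom (algebraMap (↥A₀) A))
  let B₀ : Set (Spec (CommRingCat.of ↥A₀)) := g₀ '' {x | FlatMor.fibreDimAt g₀ x ≤ (d : ℕ)}ᶜ
  have hB₀ : IsClosed B₀ := g₀.isClosedMap _ (FibDim.isOpen_fibreDimAt_le g₀ d).isClosed_compl
  have hπ : ∀ y, π y ∉ B₀ := by
    rintro y ⟨x, hx, hxy⟩
    refine hx ((FibDim.fibreDimAt_le_iff g₀ x d).2 fun z _ hz => ?_)
    obtain ⟨z', -, -, hrd⟩ := FibDim.exists_rd_baseChange_eq hpb z y (hz.trans hxy)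
    rw [← hrd]
    exact hdim z'
  let H : Set A := algebraMap (↥A₀) A '' {h | (PrimeSpectrum.basicOpen h : Set (PrimeSpectrum ↥A₀)) ⊆ B₀ᶜ}
  have hH : Ideal.span H = ⊤ := by
    by_contra hne
    obtain ⟨m, hm, hle⟩ := Ideal.exists_le_maximal _ hne
    let y : Spec (CommRingCat.of A) := ⟨m, hm.isPrime⟩
    obtain ⟨_, ⟨_, ⟨h, rfl⟩, rfl⟩, hyh, hhB⟩ :=
      PrimeSpectrum.isBasis_basic_opens.exists_subset_of_mem_open (show π y ∈ B₀ᶜ from hπ y) hB₀.isOpen_compl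
    exact hyh (hle (Ideal.subset_span ⟨h, hhB, rfl⟩))
  obtain ⟨n, cf, hv, hcf⟩ := Submodule.mem_span_set'.mp (show (1 : A) ∈ Ideal.span H by rw [hH]; trivial)
  let A₁ : Subalgebra ℤ A := A₀ ⊔ Algebra.adjoin ℤ (Set.range cf)
  have hA₁ : A₁.FG := hA₀.sup (Subalgebra.fg_def.2 ⟨_, Set.finite_range cf, rfl⟩)
  haveI : Algebra.FiniteType ℤ ↥A₁ := ⟨(Subalgebra.fg_top A₁).mpr hA₁⟩
  let ι₁ : ↥A₀ →+* ↥A₁ := (Subalgebra.inclusion (le_sup_left : A₀ ≤ A₁)).toRingHom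
  let q : Spec (CommRingCat.of ↥A₁) ⟶ Spec (CommRingCat.of ↥A₀) := Spec.map (CommRingCat.ofHom ι₁)
  let π₁ := Spec.map (CommRingCat.ofHom (algebraMap (↥A₁) A))
  have hπ₁ : π₁ ≫ q = π := by
    show Spec.map _ ≫ Spec.map _ = Spec.map _
    rw [← Spec.map_comp, ← CommRingCat.ofHom_comp]
    rfl
  let g₁ : (D.obj j).left ⟶ pullback g₀ q :=
    pullback.lift g (fj ≫ π₁) (by rw [Category.assoc, hπ₁]; exact hpb.w)
  have hpb₁ : IsPullback g₁ fj (pullback.snd g₀ q) π₁ :=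
    IsPullback.of_right (h₁₂ := pullback.fst g₀ q) (h₂₂ := q) (by
      show IsPullback (g₁ ≫ pullback.fst g₀ q) fj g₀ (π₁ ≫ q)
      rw [pullback.lift_fst, hπ₁]; exact hpb)
      (pullback.lift_snd _ _ _) (IsPullback.of_hasPullback _ _)
  haveI : IsAffineHom π₁ := isAffineHom_of_isAffine _
  haveI : IsAffineHom g₁ := MorphismProperty.of_isPullback hpb₁.flip ‹IsAffineHom π₁›
  haveI : IsProper (pullback.snd g₀ q) := MorphismProperty.pullback_snd _ _ hP
  refine ⟨↥A₁, inferInstance, algebraMap (↥A₁) A, pullback g₀ q, pullback.snd g₀ q, p ≫ g₁,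
    Algebra.FiniteType.isNoetherianRing ℤ _, inferInstance, inferInstance, ?_, fun W hW r => ?_, fun z => ?_⟩
  · rw [Category.assoc, hpb₁.w, ← Category.assoc, hpf]
  · have := gen_of_isPullback hpb₁ p W hW r
    rwa [hpf] at this
  · rw [← ((pullback.snd g₀ q).fiberHomeo z).isHomeomorph.topologicalKrullDim_eq,
      FibDim.topologicalKrullDim_fiber]
    refine iSup_le fun x => ?_
    have hqz : q z ∈ B₀ᶜ := by
      by_contra hn
      have hall : ∀ l, (⟨cf l, (le_sup_right : _ ≤ A₁) (Algebra.subset_adjoin ⟨l, rfl⟩)⟩ *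
          ι₁ (Classical.choose (hv l).2) : ↥A₁) ∈ z.asIdeal := fun l => by
        refine Ideal.mul_mem_left _ _ ?_
        by_contra hl
        exact hn ((Classical.choose_spec (hv l).2).1 hl)
      have h1 : (1 : ↥A₁) ∈ z.asIdeal := by
        have e1 : (1 : ↥A₁) = ∑ l, ⟨cf l, (le_sup_right : _ ≤ A₁) (Algebra.subset_adjoin ⟨l, rfl⟩)⟩ *
            ι₁ (Classical.choose (hv l).2) := by
          apply Subtype.ext
          rw [OneMemClass.coe_one, AddSubmonoidClass.coe_finsetSum]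
          refine hcf.symm.trans (Finset.sum_congr rfl fun l _ => ?_)
          show cf l • (hv l : A) = cf l * algebraMap (↥A₀) A (Classical.choose (hv l).2)
          rw [(Classical.choose_spec (hv l).2).2]
          rfl
        rw [e1]
        exact Ideal.sum_mem _ fun l _ => hall l
      exact z.isPrime.ne_top ((Ideal.eq_top_iff_one _).2 h1)
    have h2 : FlatMor.fibreDimAt g₀ (pullback.fst g₀ q x.1) ≤ (d : ℕ) := by
      by_contra hn
      refine hqz ⟨_, hn, ?_⟩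
      rw [← Scheme.Hom.comp_apply, pullback.condition, Scheme.Hom.comp_apply]
      exact congrArg q x.2
    have h3 := (FibDim.fibreDimAt_le_iff g₀ _ d).1 h2 _ (specializes_refl _) rfl
    exact_mod_cast (FibDim.rd_baseChange_le (IsPullback.of_hasPullback g₀ q) x.1).trans h3

/-- The top higher direct image is coherent. -/
theorem isCoh_Rpush_top {X Y : Scheme.{u}} (f : X ⟶ Y) [IsProper f] (d : ℕ)
    (hd : ∀ y : Y, topologicalKrullDim ↥(f.fiber y) ≤ d) [HasInjectiveResolutions X.Modules]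
    (M : X.Modules) (hM : Coh.IsCoh M) : Coh.IsCoh ((Coh.Rpush f d).obj M) := by
  refine isCoh_Rpush_of_finite f M hM.1 d fun V hV => ?_
  let fV : ((f ⁻¹ᵁ V : X.Opens) : Scheme.{u}) ⟶ Spec (CommRingCat.of Γ(Y, V)) := overSpec f hV
  haveI : IsProper fV := by
    show IsProper ((f ∣_ V) ≫ hV.isoSpec.hom)
    infer_instance
  have hcomm : ∀ v, hV.fromSpec (fV v) = f ((f ⁻¹ᵁ V).ι v) := fun v => by
    show (overSpec f hV ≫ hV.fromSpec) v = ((f ⁻¹ᵁ V).ι ≫ f) v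
    rw [overSpec_fromSpec f hV]
  have hdV : ∀ z, topologicalKrullDim ↥(fV.fiber z) ≤ d := fun z => by
    let g' : ↥(fV ⁻¹' {z}) → ↥(f ⁻¹' {hV.fromSpec z}) := fun v => ⟨(f ⁻¹ᵁ V).ι v.1, by
      show f ((f ⁻¹ᵁ V).ι v.1) = _
      rw [← hcomm, show fV v.1 = z from v.2]⟩
    have hg : Topology.IsInducing g' :=
      (Topology.IsInducing.subtypeVal.of_comp_iff).1
        (((f ⁻¹ᵁ V).ι.isOpenEmbedding.isInducing).comp Topology.IsInducing.subtypeVal)
    rw [(fV.fiberHomeo z).isHomeomorph.topologicalKrullDim_eq]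
    refine hg.topologicalKrullDim_le.trans ?_
    rw [← (f.fiberHomeo (hV.fromSpec z)).isHomeomorph.topologicalKrullDim_eq]
    exact hd _
  obtain ⟨A₀, _, φ, X₀, g₀, k, hA₀, hP, hk, hcomp, hgen, hdim⟩ := exists_model fV d hdV
  letI : ((f ⁻¹ᵁ V : X.Opens) : Scheme.{u}).Over (Spec (CommRingCat.of Γ(Y, V))) := ⟨fV⟩
  letI : X₀.Over (Spec (CommRingCat.of A₀)) := ⟨g₀⟩
  haveI : IsProper (X₀ ↘ Spec (CommRingCat.of A₀)) := hP
  haveI := hA₀
  haveI := hk
  have := finite_HH_top φ k hcomp hgen (d := d) (fun z _ => hdim z) (isCoh_restrict_open hM)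
  rw [← toGlobal_overSpec f hV]
  exact this

end Groth.Agent.RpushTopH4
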