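import Groth.Statements.S0037
import Groth.Agent.CohBasic.RpushAbZero
import Groth.Agent.QCoh.OpenSub
import Groth.Agent.QCoh.Bound
import Mathlib.AlgebraicGeometry.ZariskisMainTheorem

set_option autoImplicit false
universe u
open Coherent

namespace Groth.Agent.S0037

open AlgebraicGeometry CategoryTheory in
/-- Let Y be locally Noetherian, f : X → Y proper and y a point whose fibre f⁻¹{y} is finite. Then for
every coherent F on X and every p > 0 the stalk of R^p f_* F at y vanishes. -/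
theorem result {X Y : Scheme.{u}} (f : X ⟶ Y) [IsProper f]
    [IsLocallyNoetherian Y] (y : Y) (hy : (f.base ⁻¹' {y}).Finite) (M : X.Modules) (hM : Coh.IsCoh M)
    (p : ℕ) (hp : 0 < p) :
    Limits.IsZero (TopCat.Presheaf.stalk ((Coh.RpushAb f p).obj (Coh.toAb M)).obj y) := by
  obtain ⟨V, hyV, hVf⟩ := exists_isFinite_morphismRestrict_of_finite_preimage_singleton f y hy
  obtain ⟨_, ⟨W, hW, rfl⟩, hyW, hWV⟩ := Y.isBasis_affineOpens.exists_subset_of_mem_open
    (show y ∈ (V : Set Y) from hyV) V.2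
  have hA : IsAffineOpen (f ⁻¹ᵁ W) := by
    have h1 : IsAffineOpen ((f ∣_ V) ⁻¹ᵁ (V.ι ⁻¹ᵁ W)) :=
      (hW.preimage_of_isOpenImmersion V.ι (by rw [Scheme.Opens.opensRange_ι]; exact hWV)).preimage (f ∣_ V)
    have h2 := h1.image_of_isOpenImmersion (f ⁻¹ᵁ V).ι
    rwa [← Scheme.Hom.comp_preimage, morphismRestrict_ι, Scheme.Hom.comp_preimage,
      Scheme.Hom.image_preimage_eq_opensRange_inf, Scheme.Opens.opensRange_ι,
      inf_eq_right.2 (fun x hx => hWV hx)] at h2
  obtain ⟨q, rfl⟩ := Nat.exists_eq_add_of_le' hp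
  refine Groth.Agent.CohBasic.isZero_stalk_RpushAb_of_HH f hM.1 q y hW hyW ?_
  refine Groth.Agent.QCoh.subsingleton_HH_restrict _ M q ?_
  rw [Scheme.Opens.opensRange_ι]
  exact Groth.Agent.QCoh.subsingleton_HU_of_isAffineOpen hM.1 hA q

end Groth.Agent.S0037
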