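import Groth.Statements.S0039
import Groth.Agent.H9ProperSupp.ClosedSystem
import Groth.Agent.H9ProperSupp.IsoThick

set_option linter.style.haveILetI false
set_option backward.isDefEq.respectTransparency false
set_option backward.isDefEq.respectTransparency.types false
-- import your own Groth.Agent.* helpers here

set_option autoImplicit false
universe u
open Coherent

namespace Groth.Agent.S0039

open AlgebraicGeometry CategoryTheory CategoryTheory.Limits in
/-- Let A be Noetherian and complete for an ideal I, X proper over A and Y separated of finite type over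
A. Write X_n, Y_n for the base changes to A/I^(n+1). Then every system of morphisms g_n : X_n → Y_n
over A/I^(n+1), compatible with the transition maps, is induced by a morphism X → Y over A. (The
published statement also asserts uniqueness, but only existence is stated here.) -/
theorem result (A : Type u) [CommRing A] [IsNoetherianRing A]
    (I : Ideal A) [IsAdicComplete I A] {X Y : Scheme.{u}} (f : X ⟶ Spec (CommRingCat.of A))
    (h : Y ⟶ Spec (CommRingCat.of A)) [IsProper f] [IsSeparated h] [LocallyOfFiniteType h]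
    [QuasiCompact h] (g : (n : ℕ) → (CohB1.thick f I n ⟶ CohB1.thick h I n))
    (hg₁ : ∀ n, g n ≫ CohB1.thickToBase h I n = CohB1.thickToBase f I n)
    (hg₂ : ∀ n, CohB1.thickTrans f I n ≫ g (n + 1) = g n ≫ CohB1.thickTrans h I n) :
    ∃ φ : X ⟶ Y, φ ≫ h = f ∧ ∀ n, CohB1.thickι f I n ≫ φ = g n ≫ CohB1.thickι h I n := by
  letI : X.Over (Spec (CommRingCat.of A)) := ⟨f⟩
  haveI : IsProper (X ↘ Spec (CommRingCat.of A)) := ‹IsProper f›
  letI : (pullback f h).Over (Spec (CommRingCat.of A)) := ⟨pullback.fst f h ≫ f⟩
  haveI : IsSeparated ((pullback f h) ↘ Spec (CommRingCat.of A)) :=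
    inferInstanceAs (IsSeparated (pullback.fst f h ≫ f))
  haveI : LocallyOfFiniteType ((pullback f h) ↘ Spec (CommRingCat.of A)) :=
    inferInstanceAs (LocallyOfFiniteType (pullback.fst f h ≫ f))
  haveI : QuasiCompact ((pullback f h) ↘ Spec (CommRingCat.of A)) :=
    inferInstanceAs (QuasiCompact (pullback.fst f h ≫ f))
  haveI hcl : ∀ n, IsClosedImmersion (CohB1.specQuot I n) := fun n =>
    IsClosedImmersion.spec_of_surjective _ Ideal.Quotient.mk_surjective
  haveI hcι : ∀ n, IsClosedImmersion (CohB1.thickι f I n) := fun n =>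
    MorphismProperty.pullback_fst (P := @IsClosedImmersion) _ _ (hcl n)
  have hι : ∀ n, CohB1.thickTrans f I n ≫ CohB1.thickι f I (n + 1) = CohB1.thickι f I n := fun n =>
    (pullback.lift_fst _ _ _).trans (Category.comp_id _)
  have hι' : ∀ n, CohB1.thickTrans h I n ≫ CohB1.thickι h I (n + 1) = CohB1.thickι h I n := fun n =>
    (pullback.lift_fst _ _ _).trans (Category.comp_id _)
  have hT : ∀ n, IsPullback (CohB1.thickTrans f I n) (CohB1.thickToBase f I n) (CohB1.thickToBase f I (n + 1))
      (CohB1.specQuotTrans I n) := fun n => by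
    refine IsPullback.of_right ?_ (pullback.lift_snd _ _ _) (IsPullback.of_hasPullback _ _)
    erw [hι n]
    rw [CohB1.specQuotTrans_specQuot]
    exact IsPullback.of_hasPullback _ _
  let S : Groth.Agent.AmpleVan.AdicSys A I :=
    ⟨fun n => CohB1.thick f I n, fun n => CohB1.thickToBase f I n, fun n => CohB1.thickTrans f I n, hT⟩
  letI : ∀ n, (S.X n).Over (Spec (CommRingCat.of A)) := fun n => Groth.Agent.AmpleVan.AdicSys.overBase S n
  -- the graphs
  let r : ∀ n, S.X n ⟶ pullback f h := fun n => pullback.lift (CohB1.thickι f I n) (g n ≫ CohB1.thickι h I n) (by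
    erw [Category.assoc, pullback.condition, pullback.condition]
    rw [← Category.assoc]
    exact (congrArg (· ≫ CohB1.specQuot I n) (hg₁ n)).symm)
  have hr1 : ∀ n, r n ≫ pullback.fst f h = CohB1.thickι f I n := fun n => pullback.lift_fst _ _ _
  have hr2 : ∀ n, r n ≫ pullback.snd f h = g n ≫ CohB1.thickι h I n := fun n => pullback.lift_snd _ _ _
  haveI : ∀ n, IsClosedImmersion (r n) := fun n => by
    haveI : IsClosedImmersion (r n ≫ pullback.fst f h) := by rw [hr1]; exact hcι n
    exact IsClosedImmersion.of_comp (r n) (pullback.fst f h)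
  have hr : ∀ n, r n ≫ ((pullback f h) ↘ Spec (CommRingCat.of A)) = S.X n ↘ Spec (CommRingCat.of A) := fun n => by
    show r n ≫ pullback.fst f h ≫ f = CohB1.thickToBase f I n ≫ CohB1.specQuot I n
    rw [← Category.assoc, hr1]
    exact pullback.condition
  have ht : ∀ n, S.i n ≫ r (n + 1) = r n := fun n => by
    refine pullback.hom_ext ?_ ?_
    · rw [Category.assoc, hr1, hr1]
      exact hι n
    · rw [Category.assoc, hr2, hr2]
      show CohB1.thickTrans f I n ≫ g (n + 1) ≫ _ = _
      rw [← Category.assoc, hg₂ n, Category.assoc, hι']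
  have hp : IsProper (S.p 0) := by
    show IsProper (pullback.snd f (CohB1.specQuot I 0))
    infer_instance
  obtain ⟨W, i, w, hi, hiP, hwi, hw⟩ := Groth.Agent.H9Existence.exists_closed_of_system_ps S r hr ht hp
  letI : W.Over (Spec (CommRingCat.of A)) := ⟨i ≫ ((pullback f h) ↘ Spec (CommRingCat.of A))⟩
  haveI : IsProper (W ↘ Spec (CommRingCat.of A)) := hiP
  let q : W ⟶ X := i ≫ pullback.fst f h
  have hq : ∀ n, w n ≫ q = CohB1.thickι f I n := fun n => by
    show w n ≫ i ≫ pullback.fst f h = _
    rw [← Category.assoc, hwi, hr1]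
  haveI : IsIso q := Groth.Agent.H9Existence.isIso_of_thickenings A q (Category.assoc _ _ _)
    (IsAdicComplete.le_jacobson_bot I) (q := fun n => S.p n) hw
    (fun n => IsPullback.of_hasPullback f (CohB1.specQuot I n)) hq
  refine ⟨inv q ≫ i ≫ pullback.snd f h, ?_, fun n => ?_⟩
  · rw [Category.assoc, Category.assoc, ← pullback.condition, IsIso.inv_comp_eq]
    exact (Category.assoc _ _ _).symm
  · erw [← hq n, Category.assoc, IsIso.hom_inv_id_assoc, ← Category.assoc, hwi, hr2]

end Groth.Agent.S0039
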