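import Groth.Statements.S0040
import Groth.Agent.H9ProperSupp.ClosedSystem

set_option linter.style.haveILetI false
set_option backward.isDefEq.respectTransparency false
set_option backward.isDefEq.respectTransparency.types false
-- import your own Groth.Agent.* helpers here

set_option autoImplicit false
universe u
open Coherent

namespace Groth.Agent.S0040

open AlgebraicGeometry CategoryTheory CategoryTheory.Limits in
/-- Let A be a Noetherian ring complete with respect to an ideal I, X a scheme separated and of finite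
type over Spec A, and X_n = X ×_{Spec A} Spec(A/I^(n+1)) for n ≥ 0. Suppose given closed immersions
Z_n → X_n together with morphisms Z_n → Z_(n+1) forming cartesian squares with the transition maps
X_n → X_(n+1), and suppose Z_0 is proper over Spec(A/I). Then there is a closed subscheme W → X,
proper over Spec A, with compatible morphisms Z_n → W making each Z_n the pullback W ×_X X_n. (The
published statement assumes only that Z_0 → X_0 is a closed immersion; here it is assumed for every
n.) -/
theorem result (A : Type u) [CommRing A] [IsNoetherianRing A]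
    (I : Ideal A) [IsAdicComplete I A] {X : Scheme.{u}} (f : X ⟶ Spec (CommRingCat.of A))
    [IsSeparated f] [LocallyOfFiniteType f] [QuasiCompact f]
    (Z : ℕ → Scheme.{u}) (z : (n : ℕ) → (Z n ⟶ CohB1.thick f I n)) (t : (n : ℕ) → (Z n ⟶ Z (n + 1)))
    (hz : ∀ n, IsClosedImmersion (z n))
    (ht : ∀ n, IsPullback (t n) (z n) (z (n + 1)) (CohB1.thickTrans f I n))
    (hp : IsProper (z 0 ≫ CohB1.thickToBase f I 0)) :
    ∃ (W : Scheme.{u}) (i : W ⟶ X) (w : (n : ℕ) → (Z n ⟶ W)), IsClosedImmersion i ∧
      IsProper (i ≫ f) ∧ (∀ n, w n = t n ≫ w (n + 1)) ∧ ∀ n, IsPullback (w n) (z n) i (CohB1.thickι f I n) := by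
  letI : X.Over (Spec (CommRingCat.of A)) := ⟨f⟩
  haveI : IsSeparated (X ↘ Spec (CommRingCat.of A)) := ‹IsSeparated f›
  haveI : LocallyOfFiniteType (X ↘ Spec (CommRingCat.of A)) := ‹LocallyOfFiniteType f›
  haveI : QuasiCompact (X ↘ Spec (CommRingCat.of A)) := ‹QuasiCompact f›
  have hι : ∀ n, CohB1.thickTrans f I n ≫ CohB1.thickι f I (n + 1) = CohB1.thickι f I n := fun n =>
    (pullback.lift_fst _ _ _).trans (Category.comp_id _)
  have hT : ∀ n, IsPullback (CohB1.thickTrans f I n) (CohB1.thickToBase f I n) (CohB1.thickToBase f I (n + 1))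
      (CohB1.specQuotTrans I n) := fun n => by
    refine IsPullback.of_right ?_ (pullback.lift_snd _ _ _) (IsPullback.of_hasPullback _ _)
    erw [hι n]
    rw [CohB1.specQuotTrans_specQuot]
    exact IsPullback.of_hasPullback _ _
  let S : Groth.Agent.AmpleVan.AdicSys A I :=
    ⟨Z, fun n => z n ≫ CohB1.thickToBase f I n, t, fun n => (ht n).paste_vert (hT n)⟩
  let r : ∀ n, S.X n ⟶ X := fun n => z n ≫ CohB1.thickι f I n
  haveI : ∀ n, IsClosedImmersion (r n) := fun n => by
    haveI : IsClosedImmersion (CohB1.specQuot I n) :=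
      IsClosedImmersion.spec_of_surjective _ Ideal.Quotient.mk_surjective
    haveI : IsClosedImmersion (CohB1.thickι f I n) :=
      MorphismProperty.pullback_fst (P := @IsClosedImmersion) _ _ ‹_›
    haveI := hz n
    exact inferInstanceAs (IsClosedImmersion (z n ≫ CohB1.thickι f I n))
  letI : ∀ n, (S.X n).Over (Spec (CommRingCat.of A)) := fun n => Groth.Agent.AmpleVan.AdicSys.overBase S n
  have hr : ∀ n, r n ≫ (X ↘ Spec (CommRingCat.of A)) = S.X n ↘ Spec (CommRingCat.of A) := fun n => by
    show (z n ≫ CohB1.thickι f I n) ≫ f = (z n ≫ CohB1.thickToBase f I n) ≫ CohB1.specQuot I n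
    rw [Category.assoc, Category.assoc, pullback.condition]
  have hti : ∀ n, S.i n ≫ r (n + 1) = r n := fun n => by
    show t n ≫ z (n + 1) ≫ CohB1.thickι f I (n + 1) = z n ≫ CohB1.thickι f I n
    rw [← Category.assoc, (ht n).w, Category.assoc, hι]
  obtain ⟨W, i, w, hi, hiP, hwi, hw⟩ := Groth.Agent.H9Existence.exists_closed_of_system_ps S r hr hti hp
  refine ⟨W, i, w, hi, hiP, fun n => ?_, fun n => ?_⟩
  · haveI := hi
    rw [← cancel_mono i, Category.assoc, hwi, hwi]
    exact (hti n).symm
  · exact IsPullback.of_bot (hw n) (hwi n) (IsPullback.of_hasPullback f (CohB1.specQuot I n))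

end Groth.Agent.S0040
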