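import Groth.Statements.S0041
import Groth.Agent.H9PiOne.AlgSpec

set_option linter.style.haveILetI false
set_option backward.isDefEq.respectTransparency false
set_option backward.isDefEq.respectTransparency.types false
-- import your own Groth.Agent.* helpers here

set_option autoImplicit false
universe u
open Coherent

namespace Groth.Agent.S0041

open AlgebraicGeometry CategoryTheory CategoryTheory.Limits in
/-- Let A be a Noetherian ring complete with respect to an ideal I, X a scheme separated and of finite
type over Spec A, and X_n = X ×_{Spec A} Spec(A/I^{n+1}) with the closed immersions X_n → X_{n+1}.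
Suppose given schemes Y_n with finite morphisms Y_n → X_n and morphisms Y_n → Y_{n+1} making each
square over X_n → X_{n+1} cartesian, such that Y_0 is proper over Spec(A/I). Then there are a scheme
W, a finite morphism W → X with W proper over Spec A, and morphisms Y_n → W compatible with the
transitions which identify each Y_n with W ×_X X_n. -/
theorem result (A : Type u) [CommRing A] [IsNoetherianRing A]
    (I : Ideal A) [IsAdicComplete I A] {X : Scheme.{u}} (f : X ⟶ Spec (CommRingCat.of A))
    [IsSeparated f] [LocallyOfFiniteType f] [QuasiCompact f]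
    (Y : ℕ → Scheme.{u}) (y : (n : ℕ) → (Y n ⟶ CohB1.thick f I n)) (t : (n : ℕ) → (Y n ⟶ Y (n + 1)))
    (hy : ∀ n, IsFinite (y n))
    (ht : ∀ n, IsPullback (t n) (y n) (y (n + 1)) (CohB1.thickTrans f I n))
    (hp : IsProper (y 0 ≫ CohB1.thickToBase f I 0)) :
    ∃ (W : Scheme.{u}) (i : W ⟶ X) (w : (n : ℕ) → (Y n ⟶ W)), IsFinite i ∧
      IsProper (i ≫ f) ∧ (∀ n, w n = t n ≫ w (n + 1)) ∧ ∀ n, IsPullback (w n) (y n) i (CohB1.thickι f I n) := by
  letI : X.Over (Spec (CommRingCat.of A)) := ⟨f⟩
  haveI : IsSeparated (X ↘ Spec (CommRingCat.of A)) := ‹IsSeparated f›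
  haveI : LocallyOfFiniteType (X ↘ Spec (CommRingCat.of A)) := ‹LocallyOfFiniteType f›
  haveI : QuasiCompact (X ↘ Spec (CommRingCat.of A)) := ‹QuasiCompact f›
  have hι : ∀ n, CohB1.thickTrans f I n ≫ CohB1.thickι f I (n + 1) = CohB1.thickι f I n := fun n =>
    (pullback.lift_fst _ _ _).trans (Category.comp_id _)
  have hT : ∀ n, IsPullback (CohB1.thickTrans f I n) (CohB1.thickToBase f I n) (CohB1.thickToBase f I (n + 1))
      (CohB1.specQuotTrans I n) := fun n => by
    refine IsPullback.of_right ?_ (pullback.lift_snd _ _ _) (IsPullback.of_hasPullback _ _)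
    erw [hι n]
    rw [CohB1.specQuotTrans_specQuot]
    exact IsPullback.of_hasPullback _ _
  let S : Groth.Agent.AmpleVan.AdicSys A I :=
    ⟨Y, fun n => y n ≫ CohB1.thickToBase f I n, t, fun n => (ht n).paste_vert (hT n)⟩
  let r : ∀ n, S.X n ⟶ X := fun n => y n ≫ CohB1.thickι f I n
  haveI : ∀ n, IsFinite (r n) := fun n => by
    haveI : IsClosedImmersion (CohB1.specQuot I n) :=
      IsClosedImmersion.spec_of_surjective _ Ideal.Quotient.mk_surjective
    haveI : IsClosedImmersion (CohB1.thickι f I n) :=
      MorphismProperty.pullback_fst (P := @IsClosedImmersion) _ _ ‹_›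
    haveI := hy n
    exact inferInstanceAs (IsFinite (y n ≫ CohB1.thickι f I n))
  letI : ∀ n, (S.X n).Over (Spec (CommRingCat.of A)) := fun n => Groth.Agent.AmpleVan.AdicSys.overBase S n
  have hr : ∀ n, r n ≫ (X ↘ Spec (CommRingCat.of A)) = S.X n ↘ Spec (CommRingCat.of A) := fun n => by
    show (y n ≫ CohB1.thickι f I n) ≫ f = (y n ≫ CohB1.thickToBase f I n) ≫ CohB1.specQuot I n
    rw [Category.assoc, Category.assoc, pullback.condition]
  have hti : ∀ n, S.i n ≫ r (n + 1) = r n := fun n => by
    show t n ≫ y (n + 1) ≫ CohB1.thickι f I (n + 1) = y n ≫ CohB1.thickι f I n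
    rw [← Category.assoc, (ht n).w, Category.assoc, hι]
  obtain ⟨W, i, w, hi, hiP, hwi, hwt, hw⟩ := Groth.Agent.H9PiOne.exists_finite_of_system S r hr hti hp
  refine ⟨W, i, w, hi, hiP, fun n => (hwt n).symm, fun n => ?_⟩
  exact IsPullback.of_bot (hw n) (hwi n) (IsPullback.of_hasPullback f (CohB1.specQuot I n))

end Groth.Agent.S0041
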