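import Groth.Statements.S0042
import Groth.Agent.FibVan.Basic
import Groth.Agent.CohBasic.RpushAbZero
import Groth.Agent.QCoh.RpushProper

set_option linter.style.haveILetI false
set_option backward.isDefEq.respectTransparency false
set_option backward.isDefEq.respectTransparency.types false
-- import your own Groth.Agent.* helpers here

set_option autoImplicit false
universe u
open Coherent

namespace Groth.Agent.S0042

open AlgebraicGeometry CategoryTheory in
/-- Let Y be a locally Noetherian scheme, f : X → Y a proper morphism, and y a point of Y whose fibre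
X_y has dimension at most d. Then for every coherent 𝒪_X-module F and every p > d, the stalk of R^p
f_* F at y is zero. -/
theorem result {X Y : Scheme.{u}} (f : X ⟶ Y)
    [IsProper f] [IsLocallyNoetherian Y] (y : Y) (d : ℕ) (hd : topologicalKrullDim ↥(f.fiber y) ≤ d)
    (M : X.Modules) (hM : Coh.IsCoh M) (p : ℕ) (hp : d < p) :
    Limits.IsZero (TopCat.Presheaf.stalk ((Coh.RpushAb f p).obj (Coh.toAb M)).obj y) := by
  obtain ⟨q, rfl⟩ := Nat.exists_eq_add_of_le' (Nat.lt_of_le_of_lt (Nat.zero_le d) hp)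
  let B : Set Y := f '' {x | FlatMor.fibreDimAt f x ≤ (d : ℕ)}ᶜ
  have hB : IsClosed B :=
    f.isClosedMap _ (Groth.Agent.FibDim.isOpen_fibreDimAt_le f d).isClosed_compl
  have hyB : y ∉ B := by
    rintro ⟨x, hx, rfl⟩
    refine hx ((Groth.Agent.FibDim.fibreDimAt_le_iff f x d).2 fun z _ hz => ?_)
    have h1 : ((Groth.Agent.FibDim.rd f z : ℕ∞) : WithBot ℕ∞) ≤ topologicalKrullDim ↥(f.fiber (f x)) :=
      (Groth.Agent.FibDim.topologicalKrullDim_fiber f (f x)).symm ▸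
        le_iSup (fun w : ↥(f ⁻¹' {f x}) => ((Groth.Agent.FibDim.rd f w.1 : ℕ∞) : WithBot ℕ∞)) ⟨z, hz⟩
    exact_mod_cast h1.trans hd
  obtain ⟨_, ⟨W, hW, rfl⟩, hyW, hWB⟩ :=
    Y.isBasis_affineOpens.exists_subset_of_mem_open (show y ∈ Bᶜ from hyB) hB.isOpen_compl
  refine Groth.Agent.CohBasic.isZero_stalk_RpushAb_of_HH f hM.1 q y hW hyW ?_
  letI : ((f ⁻¹ᵁ W : X.Opens) : Scheme.{u}).Over (Spec (CommRingCat.of Γ(Y, W))) :=
    ⟨Groth.Agent.QCoh.overSpec f hW⟩
  haveI : IsProper (((f ⁻¹ᵁ W : X.Opens) : Scheme.{u}) ↘ Spec (CommRingCat.of Γ(Y, W))) := by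
    show IsProper ((f ∣_ W) ≫ hW.isoSpec.hom)
    infer_instance
  haveI : IsNoetherianRing Γ(Y, W) := IsLocallyNoetherian.component_noetherian ⟨W, hW⟩
  refine Groth.Agent.FibVan.subsingleton_HH_of_closed_fibre_dim (A := Γ(Y, W))
    (Groth.Agent.QCoh.isCoh_restrict_open hM) hp fun z _ => ?_
  let w : Y := hW.fromSpec z
  have hw : w ∈ W := by
    have : w ∈ hW.fromSpec.opensRange := ⟨z, rfl⟩
    rwa [hW.opensRange_fromSpec] at this
  have hcomm : ∀ v : ((f ⁻¹ᵁ W : X.Opens) : Scheme.{u}),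
      Groth.Agent.QCoh.overSpec f hW v = z → f ((f ⁻¹ᵁ W).ι v) = w := fun v hv => by
    show ((f ⁻¹ᵁ W).ι ≫ f) v = w
    rw [← Groth.Agent.QCoh.overSpec_fromSpec f hW]
    show hW.fromSpec (Groth.Agent.QCoh.overSpec f hW v) = w
    rw [hv]
  let g : ↥((((f ⁻¹ᵁ W : X.Opens) : Scheme.{u}) ↘ Spec (CommRingCat.of Γ(Y, W))) ⁻¹' {z}) → ↥(f ⁻¹' {w}) :=
    fun v => ⟨(f ⁻¹ᵁ W).ι v.1, hcomm v.1 v.2⟩
  have hg : Topology.IsInducing g :=
    (Topology.IsInducing.subtypeVal.of_comp_iff).1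
      (((f ⁻¹ᵁ W).ι.isOpenEmbedding.isInducing).comp Topology.IsInducing.subtypeVal)
  refine hg.topologicalKrullDim_le.trans ?_
  rw [← (f.fiberHomeo w).isHomeomorph.topologicalKrullDim_eq, Groth.Agent.FibDim.topologicalKrullDim_fiber f w]
  refine iSup_le fun v => ?_
  have hv : FlatMor.fibreDimAt f v.1 ≤ (d : ℕ) := by
    by_contra hn
    exact hWB hw ⟨v.1, hn, v.2⟩
  exact_mod_cast (Groth.Agent.FibDim.fibreDimAt_le_iff f v.1 d).1 hv v.1 (specializes_refl v.1) rfl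

end Groth.Agent.S0042
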