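import Groth.Statements.S0062
import Groth.Agent.FibAmple.Nhd
import Groth.Agent.S0055

set_option linter.style.haveILetI false
set_option backward.isDefEq.respectTransparency false
set_option backward.isDefEq.respectTransparency.types false
-- import your own Groth.Agent.* helpers here

set_option autoImplicit false
universe u
open Coherent

namespace Groth.Agent.S0062

open AlgebraicGeometry CategoryTheory in
/-- Let f : X → Y be proper with Y Noetherian, L invertible on X, F coherent on X, and y a point such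
that the pullback of L to the fibre X_y is ample. Then there is d₀ such that for all d ≥ d₀ and p >
0 the stalk at y of R^p f_*(F ⊗ L^{⊗d}) vanishes. (The surjectivity assertion on global sections of
the fibre is not stated.) -/
theorem result {X Y : Scheme.{u}} (f : X ⟶ Y) [IsProper f]
    [IsNoetherian Y] (L : X.Modules) (hL : PicF.IsInvertible L) (M : X.Modules) (hM : Coh.IsCoh M) (y : Y)
    (hy : CohB1.IsAmple ((Scheme.Modules.pullback (f.fiberι y)).obj L)) :
    ∃ d₀ : ℕ, ∀ d : ℕ, d₀ ≤ d → ∀ p : ℕ, 0 < p →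
      Limits.IsZero (TopCat.Presheaf.stalk
        ((Coh.RpushAb f p).obj (Coh.toAb (CohB1.tensorMod M (CohB1.tensorPow L d)))).obj y) := by
  obtain ⟨V, hyV, hV⟩ := Groth.Agent.FibAmple.exists_nhd_ample f hL y hy
  obtain ⟨_, ⟨W, hW, rfl⟩, hyW, hWV⟩ := Y.isBasis_affineOpens.exists_subset_of_mem_open hyV V.2
  letI : ((f ⁻¹ᵁ W : X.Opens) : Scheme.{u}).Over (Spec (CommRingCat.of Γ(Y, W))) :=
    ⟨Groth.Agent.QCoh.overSpec f hW⟩
  haveI : IsProper (((f ⁻¹ᵁ W : X.Opens) : Scheme.{u}) ↘ Spec (CommRingCat.of Γ(Y, W))) := by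
    show IsProper ((f ∣_ W) ≫ hW.isoSpec.hom)
    infer_instance
  haveI : IsNoetherianRing Γ(Y, W) := IsLocallyNoetherian.component_noetherian ⟨W, hW⟩
  obtain ⟨d₀, hd₀⟩ := Groth.Agent.AmpleVan.exists_vanishing (A := Γ(Y, W)) (hV W hWV hW)
    (Groth.Agent.QCoh.isCoh_restrict_open (U := f ⁻¹ᵁ W) hM)
  refine ⟨d₀, fun d hd p hp => ?_⟩
  obtain ⟨q, rfl⟩ := Nat.exists_eq_add_of_le' hp
  refine Groth.Agent.CohBasic.isZero_stalk_RpushAb_of_HH f
    (Groth.Agent.KFlatLib.isQCoh_tensor hM.1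
      (Groth.Agent.ProjUPX.isQCoh_of_isInvertible (Groth.Agent.InvX.isInvertible_tensorPow hL d)))
    q y hW hyW ?_
  obtain ⟨e⟩ := Groth.Agent.H23.PicMul.cl_eq_iff.1 (Groth.Agent.S4474.cl_restrict_twist (f ⁻¹ᵁ W) M L d)
  exact Groth.Agent.S0055.HH_iso e _ (hd₀ d hd q)

end Groth.Agent.S0062
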