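import Groth.Statements.S0107
import Groth.Agent.EtFound.FLCRepr

set_option autoImplicit false
open CategoryTheory CategoryTheory.Limits AlgebraicGeometry Opposite
universe u
open EtBase

namespace Groth.Agent.S0107

/-- The underlying sheaf of sets of a finite locally constant abelian sheaf F on the small étale site of
a scheme X is representable by a scheme finite étale over X: there are an étale X-scheme U with U →
X finite and an isomorphism between the sheaf of sets underlying F and the functor of points of U. -/
theorem result {X : Scheme.{u}} (F : EtCoh.Ab X) (h : EtCoh.IsFiniteLocallyConstant F) :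
    ∃ (U : X.Etale) (_ : IsFinite U.hom),
      Nonempty (F.obj ⋙ forget AddCommGrpCat.{u + 1} ≅ yoneda.obj U ⋙ uliftFunctor.{u + 1}) := by
  obtain ⟨U, σ, hU, hbij⟩ := Groth.Agent.EtFound.FLCRep.exists_rep h
  refine ⟨U, hU, ⟨(NatIso.ofComponents (fun T => Equiv.toIso
    ((Equiv.ulift.trans (Equiv.ofBijective _ (hbij T.unop))) : ULift.{u + 1} (T.unop ⟶ U) ≃ F.obj.obj T))
    (fun {T T'} f => ?_)).symm⟩⟩
  ext ⟨b⟩
  exact (Groth.Agent.EtFound.FLCRep.map_map f.unop b σ).symm

end Groth.Agent.S0107
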