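import Groth.Statements.S0148
import Groth.Agent.FieldCd.Trdeg
-- import your own Groth.Agent.* helpers here

set_option autoImplicit false
universe u
open CategoryTheory CategoryTheory.Limits AlgebraicGeometry Opposite
open EtPBC


namespace Groth.Agent.S0148

/-- For a field extension L/K with cd(K) <= e and transcendence degree <= n one has cd(L) <= e + n. -/
theorem result (K L : Type u) [Field K] [Field L] [Algebra K L]
    (e n : ℕ) (hK : EtCoh.CohDimLE (Spec (CommRingCat.of K)) e) (htr : Algebra.trdeg K L ≤ n) :
    EtCoh.CohDimLE (Spec (CommRingCat.of L)) (e + n) := by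
  intro F hF q hq
  refine Groth.Agent.CurveCd.subsingleton_H_of_torsion q (fun ℓ hℓ G hG => ?_) F hF
  exact Groth.Agent.FieldCd.cohDimLEAt_of_vanAbove hℓ
    (Groth.Agent.FieldCd.vd_of_trdeg hℓ n K L e htr (Groth.Agent.FieldCd.vanAbove_of_torsion hℓ hK)) G hG q hq

end Groth.Agent.S0148
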