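import Groth.Statements.S0149
import Groth.Agent.S3884
import Groth.Agent.EtLim5.PushTorsion
import Groth.Agent.EtLim8.Coh
import Mathlib.CategoryTheory.Presentable.Directed
-- import your own Groth.Agent.* helpers here

set_option autoImplicit false
universe u
open CategoryTheory CategoryTheory.Limits AlgebraicGeometry Opposite
open EtPBC


namespace Groth.Agent.S0149

/-- If X = lim X_i is a cofiltered limit of quasi-compact quasi-separated schemes with affine transition
morphisms and cd(X_i) <= d for all i, then cd(X) <= d. -/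
theorem result {I : Type u} [SmallCategory I] [IsCofiltered I] (D : I ⥤ Scheme.{u})
    [∀ {i j : I} (a : i ⟶ j), IsAffineHom (D.map a)]
    [∀ i, CompactSpace (D.obj i)] [∀ i, QuasiSeparatedSpace (D.obj i)]
    (c : Cone D) (hc : IsLimit c) (d : ℕ) (h : ∀ i, EtCoh.CohDimLE (D.obj i) d) :
    EtCoh.CohDimLE c.pt d := by
  intro F hF q hq
  obtain ⟨α, _, _, _, Φ, _⟩ := IsFiltered.exists_directed Iᵒᵖ
  let G : αᵒᵖ ⥤ I := Φ.leftOp
  haveI : G.Initial := inferInstanceAs Φ.leftOp.Initial
  let Xs := G ⋙ D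
  have haff : ∀ ⦃a b : αᵒᵖ⦄ (h : a ⟶ b), IsAffineHom (Xs.map h) := fun a b h => inferInstanceAs (IsAffineHom (D.map (G.map h)))
  haveI : ∀ {a b : αᵒᵖ} (h : a ⟶ b), IsAffineHom (Xs.map h) := fun h => haff h
  haveI : ∀ a, CompactSpace ↥(Xs.obj a) := fun a => inferInstanceAs (CompactSpace ↥(D.obj (G.obj a)))
  haveI : ∀ a, QuasiSeparatedSpace ↥(Xs.obj a) := fun a => inferInstanceAs (QuasiSeparatedSpace ↥(D.obj (G.obj a)))
  let c' := c.whisker G
  have hc' : IsLimit c' := (Functor.Initial.isLimitWhiskerEquiv G c).symm hc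
  haveI := fun {X Y : Scheme.{u}} (f : X ⟶ Y) => Groth.Agent.EtLim8.preservesFiniteLimits_pull f
  refine subsingleton_of_forall_eq 0 fun ξ => ?_
  obtain ⟨j, ξj, hj⟩ := (Groth.Agent.S3884.result Xs haff inferInstance inferInstance c' hc' F q).1 ξ
  haveI : IsAffineHom (c'.π.app (op j)) := isAffineHom_π_app Xs c' hc' (op j)
  haveI : QuasiSeparated (c'.π.app (op j)) := inferInstance
  haveI : Subsingleton (EtCoh.H (Xs.obj (op j)) ((EtCoh.push (c'.π.app (op j))).obj F) q) :=
    h (G.obj (op j)) _ (Groth.Agent.EtLim5.isTorsion_push _ F hF) q hq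
  rw [← hj, Subsingleton.elim ξj 0, map_zero]

end Groth.Agent.S0149
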