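import Groth.Statements.S0151
import Groth.Agent.FieldCd.FiniteType
-- import your own Groth.Agent.* helpers here

set_option autoImplicit false
universe u
open CategoryTheory CategoryTheory.Limits AlgebraicGeometry Opposite
open EtPBC


namespace Groth.Agent.S0151

/-- (2): if cd(K) is finite and X is of finite type over K then cd(X) is finite. -/
theorem result (K : Type u) [Field K] (X : Scheme.{u})
    (a : X ⟶ Spec (CommRingCat.of K)) [LocallyOfFiniteType a] [QuasiCompact a]
    (e : ℕ) (hK : EtCoh.CohDimLE (Spec (CommRingCat.of K)) e) :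
    ∃ d : ℕ, EtCoh.CohDimLE X d := by
  obtain ⟨m, hm⟩ := Groth.Agent.FieldCd.exists_deg_bound a
  haveI : IsLocallyNoetherian X := LocallyOfFiniteType.isLocallyNoetherian a
  haveI : CompactSpace X := QuasiCompact.compactSpace_of_compactSpace a
  haveI : IsNoetherian X := {}
  refine ⟨2 * m + e, fun F hF q hq => ?_⟩
  exact Groth.Agent.CurveCd.subsingleton_H_of_torsion q (fun ℓ hℓ G hG =>
    Groth.Agent.FieldCd.cd_finite_type a hℓ (Groth.Agent.FieldCd.vanAbove_of_torsion hℓ hK) hm G hG q hq) F hF

end Groth.Agent.S0151
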