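import Groth.Statements.S0155
import Groth.Agent.H0PBC.BaseChange
import Groth.Agent.EtFound.SepClosedField
import Groth.Prelude.Def_EtCore

attribute [-instance] CategoryTheory.catToReflQuiver

set_option autoImplicit false
universe u
open CategoryTheory CategoryTheory.Limits AlgebraicGeometry Opposite
open EtPBC

namespace Groth.Agent.S0155

/-- Let f : X ⟶ Y be a proper morphism of schemes, ȳ : Spec Ω ⟶ Y a geometric point (Ω a separably
closed field) and F an abelian sheaf on the small étale site of X. Then the stalk (f_* F)_ȳ is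
isomorphic to the group of global sections Γ(X_ȳ, F|X_ȳ) of the pullback of F to the geometric fibre
X_ȳ = X ×_Y Spec Ω. The published statement is stronger: it asserts that the canonical map is
bijective (for sheaves of sets as well); only the existence of an isomorphism of abelian groups is
asserted here. -/
theorem result {X Y : Scheme.{u}} (f : X ⟶ Y) [IsProper f] [EtCoh.BCCont f]
    {Ω : Type u} [Field Ω] [IsSepClosed Ω] (ξ : Spec (CommRingCat.of Ω) ⟶ Y)
    [EtCoh.BCCont (pullback.fst f ξ)] (F : EtCoh.Ab X) :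
    Nonempty ((EtCoh.stalk ξ).obj ((EtCoh.push f).obj F) ≅
      ((EtCoh.pull (pullback.fst f ξ)).obj F).obj.obj (op (EtCoh.top (pullback f ξ)))) := by
  have h : IsPullback (pullback.fst f ξ) (pullback.snd f ξ) f ξ := IsPullback.of_hasPullback f ξ
  haveI : IsIso (EtCoh.baseChange0 f ξ (pullback.snd f ξ) (pullback.fst f ξ) h.w F) :=
    Groth.Agent.H0PBC.isIso_baseChange_of_proper h F _
      (EtFound.baseChange0_unit f ξ (pullback.snd f ξ) (pullback.fst f ξ) h.w F)
  let G := (EtCoh.pull (pullback.fst f ξ)).obj F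
  let e₁ : (EtCoh.stalk (𝟙 _ ≫ ξ)).obj ((EtCoh.push f).obj F) ≅
      (EtCoh.stalk (𝟙 _)).obj ((EtCoh.pull ξ).obj ((EtCoh.push f).obj F)) :=
    ((EtFound.sheafFiberPullIso ξ (𝟙 _)).app _).symm
  let e₂ := (EtCoh.stalk (𝟙 (Spec (CommRingCat.of Ω)))).mapIso
    (asIso (EtCoh.baseChange0 f ξ (pullback.snd f ξ) (pullback.fst f ξ) h.w F))
  let e₃ := ((EtFound.sectTopIso Ω AddCommGrpCat.{u + 1}).app ((EtCoh.push (pullback.snd f ξ)).obj G)).symm
  let e₄ := G.obj.mapIso (EtCore.bcTopIso (pullback.snd f ξ)).symm.op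
  exact ⟨eqToIso (by rw [Category.id_comp]) ≪≫ e₁ ≪≫ e₂ ≪≫ e₃ ≪≫ e₄⟩

end Groth.Agent.S0155
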