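import Groth.Statements.S0162
import Groth.Agent.SmoothLA.BC

set_option autoImplicit false
set_option backward.isDefEq.respectTransparency false
set_option backward.isDefEq.respectTransparency.types false
universe u
open CategoryTheory CategoryTheory.Limits AlgebraicGeometry Opposite
open EtPBC

namespace Groth.Agent.S0162

/-- Consider a cartesian square Y = X x_S T with f : X -> S smooth and g : T -> S quasi-compact and
quasi-separated, h : Y -> X and e : Y -> T the projections. For an abelian sheaf F on T_et whose
sections are etale-locally killed by integers invertible on S, f^* R^q g_* F ≅ R^q h_* e^* F for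
every q. The source proves the canonical base change map is an isomorphism; we state existence of an
isomorphism in each degree (weaker) together with the canonical base change map being an isomorphism
in degree zero. -/
theorem result {X S Y T : Scheme.{u}} (f : X ⟶ S) [Smooth f] (g : T ⟶ S)
    [QuasiCompact g] [QuasiSeparated g] (h : Y ⟶ X) (e : Y ⟶ T) (hc : IsPullback e h g f)
    [EtCoh.BCCont f] [EtCoh.BCCont g] [EtCoh.BCCont h] [EtCoh.BCCont e]
    (F : EtCoh.Ab T) (hF : EtPBC.IsTorsionInvertibleOn S F) (q : ℕ) :
    Nonempty ((EtCoh.pull f).obj ((EtCoh.Rpush g q).obj F) ≅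
      (EtCoh.Rpush h q).obj ((EtCoh.pull e).obj F)) ∧ IsIso (EtCoh.baseChange0 g f h e hc.w F) := by
  have hF' := SmoothLA.isLTorsion_of_invertibleOn g hF
  haveI := EtFound.pull_preservesFiniteLimits e
  haveI := SmoothLA.isIso_bcQ_smooth f g h e hc F hF' q
  haveI := SmoothLA.isIso_bcQ_smooth f g h e hc F hF' 0
  exact ⟨⟨asIso (EtBC.bcQ g f h e hc.w q F)⟩, CompDescent5.isIso_baseChange0 f g e h hc.w F inferInstance⟩

end Groth.Agent.S0162
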