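import Groth.Statements.S0168
import Groth.Agent.Graft.GenLift
import Groth.Agent.Graft.SpecRestrict
-- import your own Groth.Agent.* helpers here

set_option autoImplicit false
set_option linter.style.haveILetI false
universe u
open CategoryTheory CategoryTheory.Limits AlgebraicGeometry Opposite
open EtPBC

attribute [-instance] CategoryTheory.catToReflQuiver

namespace Groth.Agent.S0168

/-- (A, I) a henselian pair, f : X -> Spec A proper, Z ⊆ X the closed subset X x_{Spec A} Spec (A/I)
(the image of the first projection). For any sheaf of sets F on the underlying topological space of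
X, restriction Gamma(X, F) -> Gamma(Z, F|_Z) is bijective; written as the global-sections component
of the unit F -> i_* i^* F for the inclusion i : Z -> X of topological spaces. -/
theorem result (A : Type u) [CommRing A] (I : Ideal A) [HenselianRing A I]
    (X : Scheme.{u}) (f : X ⟶ Spec (CommRingCat.of A)) [IsProper f]
    (F : TopCat.Sheaf (Type u) X.carrier) :
    Function.Bijective
      (((TopCat.Sheaf.pullbackPushforwardAdjunction (Type u)
        (TopCat.ofHom ⟨(Subtype.val :
          (Set.range (pullback.fst f (Spec.map (CommRingCat.ofHom (Ideal.Quotient.mk I))))) → X),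
          continuous_subtype_val⟩)).unit.app F).hom.app (op ⊤)) := by
  haveI : CompactSpace X := QuasiCompact.compactSpace_of_compactSpace f
  haveI : QuasiSeparatedSpace X := quasiSeparatedSpace_of_quasiSeparated f
  haveI : SpectralSpace X.carrier := {}
  have hr := HensCouple7.range_fst_mk I f
  refine Graft.bijective_unit ?_ (fun x => ?_) F
  · rw [hr]; exact (PrimeSpectrum.isClosed_zeroLocus _).preimage f.continuous
  · rw [hr]
    let W : Scheme.{u} := (Scheme.IdealSheafData.vanishingIdeal ⟨closure {x}, isClosed_closure⟩).subscheme
    let w : W ⟶ X := (Scheme.IdealSheafData.vanishingIdeal ⟨closure {x}, isClosed_closure⟩).subschemeι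
    have hw : Set.range w = closure {x} := by
      rw [Scheme.IdealSheafData.range_subschemeι, Scheme.IdealSheafData.coe_support_vanishingIdeal]
      simp
    haveI : PreconnectedSpace W := ⟨(by
      rw [← w.isEmbedding.isInducing.isPreconnected_image, Set.image_univ, hw]
      exact (isIrreducible_singleton.closure).isConnected.isPreconnected)⟩
    have hL := Graft.lifts_proper_pair I (w ≫ f)
    let Z : Set W := (w ≫ f) ⁻¹' PrimeSpectrum.zeroLocus (I : Set A)
    have hne : ∀ U : Set W, IsClopen U → (Subtype.val ⁻¹' U : Set Z) = ∅ → U = ∅ := fun U hU he =>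
      ExistsUnique.unique (hL ∅ isClopen_empty) ⟨hU, he⟩ ⟨isClopen_empty, Set.preimage_empty⟩
    obtain ⟨y, hy⟩ : x ∈ Set.range w := hw ▸ subset_closure rfl
    have hZne : Nonempty Z := by
      by_contra h
      haveI := not_nonempty_iff.1 h
      have := hne Set.univ isClopen_univ (Set.eq_empty_of_forall_notMem fun z => isEmptyElim z)
      exact Set.eq_empty_iff_forall_notMem.1 this y trivial
    haveI : PreconnectedSpace Z := preconnectedSpace_iff_clopen.2 fun V hV => by
      obtain ⟨U, ⟨hU, hUV⟩, -⟩ := hL V hV
      rcases isClopen_iff.1 hU with rfl | rfl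
      · exact .inl (hUV.symm.trans Set.preimage_empty)
      · exact .inr (hUV.symm.trans Set.preimage_univ)
    haveI : ConnectedSpace Z := { toNonempty := hZne }
    have e : f ⁻¹' PrimeSpectrum.zeroLocus (I : Set A) ∩ closure {x} = Set.range (w ∘ (Subtype.val : Z → W)) := by
      rw [Set.range_comp, Subtype.range_coe]
      rw [show Z = w ⁻¹' (f ⁻¹' PrimeSpectrum.zeroLocus (I : Set A)) from Set.ext fun z => Iff.rfl,
        Set.image_preimage_eq_inter_range, hw]
    rw [e]
    exact isConnected_range (w.continuous.comp continuous_subtype_val)

end Groth.Agent.S0168
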