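import Groth.Statements.S0170
import Groth.Agent.EtFound.SplitZeroDim

set_option autoImplicit false
universe u
open CategoryTheory CategoryTheory.Limits AlgebraicGeometry Opposite
open EtPBC

namespace Groth.Agent.S0170

/-- For f : Y -> X quasi-finite and of finite presentation with X and Y affine, one can find an affine
X' mapping onto X such that the base change Y' = X' x_X Y contains a closed subscheme Z' with the
same underlying space (a thickening) for which the composite Z' -> Y' -> X' is finite etale. -/
theorem result {Y X : Scheme.{u}} [IsAffine X] [IsAffine Y] (f : Y ⟶ X)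
    [LocallyQuasiFinite f] [LocallyOfFinitePresentation f] :
    ∃ (X' : Scheme.{u}) (_ : IsAffine X') (a : X' ⟶ X) (_ : Surjective a) (Z' : Scheme.{u})
      (c : Z' ⟶ pullback a f) (_ : IsClosedImmersion c) (_ : Surjective c),
      IsFinite (c ≫ pullback.fst a f) ∧ Etale (c ≫ pullback.fst a f) := by
  let A := Γ(X, ⊤)
  let B := Γ(Y, ⊤)
  letI : Algebra A B := f.appTop.hom.toAlgebra
  let T : Type u := ∀ p : PrimeSpectrum A, AlgebraicClosure p.asIdeal.ResidueField
  haveI : Algebra.QuasiFinite A B := (HasRingHomProperty.iff_of_isAffine (P := @LocallyQuasiFinite) (f := f)).1 inferInstance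
  haveI : Algebra.FinitePresentation A B := (HasRingHomProperty.iff_of_isAffine (P := @LocallyOfFinitePresentation) (f := f)).1 inferInstance
  haveI : IsReduced T := inferInstanceAs (IsReduced (∀ p : PrimeSpectrum A, AlgebraicClosure p.asIdeal.ResidueField))
  have hmax : ∀ P : Ideal T, P.IsPrime → P.IsMaximal := fun P hP => by
    rw [Ideal.isMaximal_iff]
    refine ⟨fun h => hP.ne_top ((Ideal.eq_top_iff_one P).2 h), fun J x hJ hx hxJ => ?_⟩
    have h0 : x * (1 - x * (fun p => (x p)⁻¹)) = 0 := funext fun p => by
      show x p * (1 - x p * (x p)⁻¹) = 0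
      by_cases hxp : x p = 0
      · simp [hxp]
      · simp [mul_inv_cancel₀ hxp]
    have h1 := hJ ((hP.mem_or_mem (h0 ▸ P.zero_mem)).resolve_left hx)
    have := J.add_mem h1 (J.mul_mem_right (fun p => (x p)⁻¹) hxJ)
    rwa [sub_add_cancel] at this
  have hroot : ∀ g : Polynomial T, g.Monic → 0 < g.natDegree → ∃ r, g.eval r = 0 := fun g hg hd => by
    have h : ∀ p : PrimeSpectrum A, ∃ r, (g.map (Pi.evalRingHom _ p)).eval r = 0 := fun p =>
      IsAlgClosed.exists_root _ (by
        rw [hg.degree_map]
        exact (Polynomial.natDegree_pos_iff_degree_pos.1 hd).ne')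
    choose r hr using h
    refine ⟨r, funext fun p => ?_⟩
    have := hr p
    rw [Polynomial.eval_map] at this
    exact (Polynomial.hom_eval₂ g (RingHom.id T) (Pi.evalRingHom _ p) r).trans this
  obtain ⟨hfin, het⟩ := Groth.Agent.EtFound.SplitZeroDim.finite_etale_quotient
    (T := T) (B := TensorProduct A T B) hmax hroot
  let X' := Spec (CommRingCat.of T)
  let a : X' ⟶ X := Spec.map (CommRingCat.ofHom (algebraMap A T)) ≫ X.isoSpec.inv
  have hsurj : Surjective (Spec.map (CommRingCat.ofHom (algebraMap A T))) := ⟨fun (p : PrimeSpectrum A) => by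
    refine ⟨PrimeSpectrum.comap (Pi.evalRingHom _ p) ⟨⊥, Ideal.isPrime_bot⟩, PrimeSpectrum.ext ?_⟩
    show Ideal.comap (algebraMap A T) (Ideal.comap (Pi.evalRingHom _ p) ⊥) = p.asIdeal
    ext x
    show algebraMap A (AlgebraicClosure p.asIdeal.ResidueField) x ∈ (⊥ : Ideal _) ↔ _
    rw [Ideal.mem_bot, IsScalarTower.algebraMap_apply A p.asIdeal.ResidueField (AlgebraicClosure p.asIdeal.ResidueField),
      map_eq_zero, Ideal.algebraMap_residueField_eq_zero]⟩
  have ha : Surjective a := inferInstanceAs (Surjective (_ ≫ X.isoSpec.inv))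
  have sq : IsPullback (Spec.map (CommRingCat.ofHom Algebra.TensorProduct.includeLeftRingHom))
      (Spec.map (CommRingCat.ofHom (Algebra.TensorProduct.includeRight (R := A) (A := T) (B := B)).toRingHom) ≫ Y.isoSpec.inv)
      a f :=
    (isPullback_SpecMap_of_isPushout _ _ _ _
      ((CommRingCat.isPushout_tensorProduct A T B).flip)).flip.of_iso (Iso.refl _) (Iso.refl _) Y.isoSpec.symm X.isoSpec.symm
      (by simp) (by simp) (by simp [a]) (Scheme.isoSpec_inv_naturality f)
  let W : CommRingCat.{u} := CommRingCat.of (TensorProduct A T B)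
  let C : Type u := TensorProduct A T B ⧸ nilradical (TensorProduct A T B)
  let π : W ⟶ CommRingCat.of C := CommRingCat.ofHom (R := TensorProduct A T B) (S := C)
    (algebraMap (TensorProduct A T B) C)
  let c : Spec (CommRingCat.of C) ⟶ pullback a f :=
    Spec.map π ≫ sq.isoPullback.hom
  have hc1 : IsClosedImmersion (Spec.map π) :=
    IsClosedImmersion.spec_of_surjective _ (by exact Ideal.Quotient.mk_surjective)
  have hc2 : Surjective (Spec.map π) := ⟨fun Q => by
    have hsr : Function.Surjective π.hom := Ideal.Quotient.mk_surjective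
    have := range_comap_of_surjective (R := W) C π.hom hsr
    have hk : RingHom.ker π.hom = nilradical (TensorProduct A T B) := Ideal.mk_ker
    have hQ : Q ∈ Set.range (PrimeSpectrum.comap π.hom) := by
      rw [this, hk]
      exact @nilradical_le_prime _ _ Q.asIdeal Q.isPrime
    exact hQ⟩
  have hfst : c ≫ pullback.fst a f = Spec.map (CommRingCat.ofHom (algebraMap T C)) := by
    rw [Category.assoc, IsPullback.isoPullback_hom_fst, ← Spec.map_comp]
    rfl
  refine ⟨X', inferInstance, a, ha, _, c, inferInstance, inferInstance, ?_, ?_⟩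
  · rw [hfst]
    exact (IsFinite.SpecMap_iff _).2 hfin
  · rw [hfst]
    exact HasRingHomProperty.Spec_iff.2 het

end Groth.Agent.S0170
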