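import Groth.Statements.S0175
import Groth.Agent.LocCohLib.SecSupp
import Groth.Agent.EtFound.UnivInjPush
import Groth.Agent.EtFound.AbRecollement
import Groth.Agent.EtFound.JContGen

set_option autoImplicit false
universe u
open CategoryTheory CategoryTheory.Limits AlgebraicGeometry Opposite
open EtPBC CategoryTheory.Limits

attribute [-instance] CategoryTheory.catToReflQuiver

namespace Groth.Agent.S0175

/-- Let i : Z → X be a closed immersion of schemes with open complement j : U → X, and I an injective
abelian sheaf on X_ét. Then the subsheaf H_Z(I) of sections supported on Z (the kernel of I → j_*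
j^* I), viewed on Z_ét via i^*, is an injective abelian sheaf on Z_ét. -/
theorem result {Z X U : Scheme.{u}} (i : Z ⟶ X) [IsClosedImmersion i]
    (j : U ⟶ X) [IsOpenImmersion j] (hZU : Set.range j = (Set.range i)ᶜ)
    [EtCoh.BCCont i] [EtCoh.BCCont j] (I : EtCoh.Ab X) [Injective I] :
    Injective ((EtCoh.pull i).obj (kernel ((EtCoh.pullPushAdj j).unit.app I))) := by
  haveI := LocCohLib.secSupp_preservesInjective j
  let K := kernel ((EtCoh.pullPushAdj j).unit.app I)
  haveI hK : Injective K := Functor.PreservesInjectiveObjects.injective_obj (F := EtDual.secSupp j) (X := I) inferInstance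
  haveI : ∀ G, IsIso ((EtCoh.pullPushAdj i).counit.app G) := EtFound.counit_isIso_of_integral_univInj i
  haveI : (EtCoh.push i).Full := (EtCoh.pullPushAdj i).full_R_of_isSplitMono_counit_app
  haveI : (EtCoh.push i).Faithful := (EtCoh.pullPushAdj i).faithful_R_of_epi_counit_app
  have hK0 : (EtCoh.pull j).map (kernel.ι ((EtCoh.pullPushAdj j).unit.app I)) = 0 :=
    (LocCohLib.comp_unitApp_eq_zero_iff j _).1 (kernel.condition _)
  obtain ⟨w, hS⟩ := EtFound.recollement_shortExact i j hZU K
  have hc : (EtShriek.extZeroAdj j).counit.app K = 0 := by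
    have h1 := (LocCohLib.counit_comp_eq_zero_iff j (kernel.ι ((EtCoh.pullPushAdj j).unit.app I))).2 hK0
    exact (cancel_mono (kernel.ι ((EtCoh.pullPushAdj j).unit.app I))).1 (h1.trans zero_comp.symm)
  haveI : IsIso ((EtCoh.pullPushAdj i).unit.app K) := by
    have h2 : Mono ((EtCoh.pullPushAdj i).unit.app K) := hS.exact.mono_g hc
    have h3 : Epi ((EtCoh.pullPushAdj i).unit.app K) := hS.epi_g
    exact isIso_of_mono_of_epi _
  haveI : Injective ((EtCoh.push i).obj ((EtCoh.pull i).obj K)) :=
    Injective.of_iso (asIso ((EtCoh.pullPushAdj i).unit.app K)) hK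
  refine ⟨fun {A B} φ m hm => ?_⟩
  haveI := hm
  haveI : (EtCoh.push i).PreservesMonomorphisms :=
    Functor.preservesMonomorphisms_of_adjunction (EtCoh.pullPushAdj i)
  refine ⟨(EtCoh.push i).preimage (Injective.factorThru ((EtCoh.push i).map φ) ((EtCoh.push i).map m)), ?_⟩
  exact (EtCoh.push i).map_injective (by rw [Functor.map_comp, Functor.map_preimage, Injective.comp_factorThru])

end Groth.Agent.S0175
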