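import Groth.Statements.S0178
import Groth.Agent.H0PBC.Pair
import Groth.Agent.H0PBC.TopConn

set_option backward.isDefEq.respectTransparency false
set_option backward.isDefEq.respectTransparency.types false

attribute [-instance] CategoryTheory.catToReflQuiver

set_option autoImplicit false
universe u
open CategoryTheory CategoryTheory.Limits AlgebraicGeometry Opposite
open EtPBC

namespace Groth.Agent.S0178

/-- Gabber's criterion. Let X be a quasi-compact and quasi-separated scheme and i : Z → X a closed
immersion. Assume (1) for every sheaf of sets F on the topological space X, Γ(X, F) → Γ(Z, F|_Z) is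
bijective, and (2) the same holds for Z ×_X X' ⊆ X' for every finite X' → X. Then for every abelian
sheaf F on X_ét, Γ(X, F) → Γ(Z, i^* F) (the global-sections component of the unit F → i_* i^* F) is
bijective. (The published statement allows étale sheaves of sets in the conclusion; it is stated
here for abelian sheaves.) -/
theorem result {Z X : Scheme.{u}} [CompactSpace X] [QuasiSeparatedSpace X]
    (i : Z ⟶ X) [IsClosedImmersion i] [EtCoh.BCCont i]
    (h1 : ∀ F : TopCat.Sheaf (Type u) X.carrier, Function.Bijective
      (((TopCat.Sheaf.pullbackPushforwardAdjunction (Type u)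
        (TopCat.ofHom ⟨(Subtype.val : (Set.range i) → X), continuous_subtype_val⟩)).unit.app F).hom.app (op ⊤)))
    (h2 : ∀ (X' : Scheme.{u}) (π : X' ⟶ X) [IsFinite π] (F : TopCat.Sheaf (Type u) X'.carrier),
      Function.Bijective
      (((TopCat.Sheaf.pullbackPushforwardAdjunction (Type u)
        (TopCat.ofHom ⟨(Subtype.val : (Set.range (pullback.snd i π)) → X'), continuous_subtype_val⟩)).unit.app F).hom.app (op ⊤)))
    (F : EtCoh.Ab X) :
    Function.Bijective (((EtCoh.pullPushAdj i).unit.app F).hom.app (op (EtCoh.top X))) := by
  refine Groth.Agent.H0PBC.bijective_unit_top i (fun T g hg η => ?_) F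
  let W : Scheme.{u} := (Scheme.IdealSheafData.vanishingIdeal ⟨closure {η}, isClosed_closure⟩).subscheme
  let w : W ⟶ T := (Scheme.IdealSheafData.vanishingIdeal ⟨closure {η}, isClosed_closure⟩).subschemeι
  have hw : Set.range w = closure {η} := by
    rw [Scheme.IdealSheafData.range_subschemeι, Scheme.IdealSheafData.coe_support_vanishingIdeal]
    simp
  haveI : PreconnectedSpace W := ⟨(by
    rw [← w.isEmbedding.isInducing.isPreconnected_image, Set.image_univ, hw]
    exact (isIrreducible_singleton.closure).isConnected.isPreconnected)⟩
  obtain ⟨y, -⟩ : η ∈ Set.range w := hw ▸ subset_closure rfl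
  haveI : Nonempty W := ⟨y⟩
  haveI : IsFinite (w ≫ g) := inferInstance
  have hZ' : IsClosed (Set.range (pullback.snd i (w ≫ g))) :=
    (pullback.snd i (w ≫ g)).isClosedEmbedding.isClosed_range
  have hc := Groth.Agent.H0PBC.isConnected_of_bijective_unit hZ' (fun G => h2 W (w ≫ g) G)
  have e : closure {η} ∩ g ⁻¹' Set.range i = w '' Set.range (pullback.snd i (w ≫ g)) := by
    rw [Scheme.Pullback.range_snd, Scheme.Hom.comp_base, TopCat.coe_comp, Set.preimage_comp,
      Set.image_preimage_eq_inter_range, hw, Set.inter_comm]
  rw [e]
  exact hc.image w w.continuous.continuousOn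

end Groth.Agent.S0178
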