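import Groth.Statements.S0205
import Groth.Agent.EtCdp5.QProj
import Groth.Agent.S1625
-- import your own Groth.Agent.* helpers here

set_option autoImplicit false
universe u
open CategoryTheory CategoryTheory.Limits AlgebraicGeometry Opposite
open Curves

attribute [-instance] CategoryTheory.catToReflQuiver

namespace Groth.Agent.S0205

/-- In characteristic p, p-power torsion abelian étale sheaves (every section is étale-locally killed by
a power of p) on a separated finite type scheme of dimension at most one over an algebraically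
closed field have no cohomology above degree one. -/
theorem result (k : Type u) [Field k] [IsAlgClosed k] (p : ℕ) [Fact p.Prime] [CharP k p]
    (X : Scheme.{u}) (f : X ⟶ Spec (CommRingCat.of k)) [IsSeparated f] [LocallyOfFiniteType f] [QuasiCompact f]
    (hdim : topologicalKrullDim X ≤ 1) (F : EtCoh.Ab X)
    (hF : ∀ (U : X.Etale) (s : EtCoh.sect F U) (x : U.left), ∃ (V : X.Etale) (g : V ⟶ U),
      (∃ v : V.left, g.left.base v = x) ∧ ∃ n : ℕ, (p ^ n) • (F.obj.map g.op s) = 0)
    (q : ℕ) (hq : 1 < q) :
    Subsingleton (EtCoh.H X F q) := by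
  letI : X.Over (Spec (CommRingCat.of k)) := ⟨f⟩
  haveI : IsSeparated (X ↘ (Spec (CommRingCat.of k))) := ‹IsSeparated f›
  haveI : LocallyOfFiniteType (X ↘ (Spec (CommRingCat.of k))) := ‹LocallyOfFiniteType f›
  haveI : QuasiCompact (X ↘ (Spec (CommRingCat.of k))) := ‹QuasiCompact f›
  obtain ⟨d, Y, c, j, hc, hj, hfac, hdense, -, -, -⟩ := Groth.Agent.S1625.result k X hdim
  haveI := hc
  haveI := hj
  haveI : IsProper (CohB1.ProjSpace.toSpec d k) := Groth.Agent.PnCoh.Chow.isProper_toSpec d k
  let g : Y ⟶ Spec (CommRingCat.of k) := c ≫ CohB1.ProjSpace.toSpec d k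
  haveI : IsProper g := MorphismProperty.comp_mem @IsProper _ _ inferInstance inferInstance
  haveI : IsLocallyNoetherian Y := LocallyOfFiniteType.isLocallyNoetherian g
  haveI : CompactSpace Y := QuasiCompact.compactSpace_of_compactSpace g
  haveI : IsNoetherian Y := {}
  haveI : QuasiCompact j := ⟨fun s _ _ => by
    haveI : TopologicalSpace.NoetherianSpace X := j.isEmbedding.isInducing.noetherianSpace
    exact TopologicalSpace.NoetherianSpace.isCompact _⟩
  exact Groth.Agent.EtCdp5.cdp_le_of_openImmersion p g j (n := 1)
    (le_trans (Groth.Agent.PicGlue.topologicalKrullDim_le_of_dense g j hdense) hdim) F hF q hq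

end Groth.Agent.S0205
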