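import Groth.Statements.S0207
import Groth.Agent.S0469
import Groth.Agent.EtLC12.ArtinSchreier
import Groth.Agent.EtLC12.GaZar

set_option autoImplicit false
universe u
open CategoryTheory CategoryTheory.Limits AlgebraicGeometry
open Curves

namespace Groth.Agent.S0207

/-- On a quasi-compact quasi-separated scheme of dimension d on which the prime p is zero, étale
cohomology with Z/p coefficients vanishes from degree d+2 on. -/
theorem result (p : ℕ) [Fact p.Prime] (S : Scheme.{u}) [CompactSpace S] [QuasiSeparatedSpace S]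
    (hp : (p : Γ(S, ⊤)) = 0) (d : ℕ) (hd : topologicalKrullDim S = d) (q : ℕ) (hq : 2 + d ≤ q) :
    Subsingleton (EtCoh.H S (EtCoh.const S (ZMod p)) q) := by
  haveI : EtZar.ZarCont S := Agent.EtLC12.EtZarCompare.zarCont S
  have hGa : ∀ n, d < n → Subsingleton (EtCoh.H S (EtCoh.Ga S) n) := fun n hn => by
    obtain ⟨e₁⟩ := Agent.EtLC12.EtZarCompare.nonempty_H_addEquiv (EtCoh.Ga S)
      (Agent.EtLC12.GaAmitsur.isAffAcyclic_Ga S) n
    obtain ⟨e₂⟩ := Agent.EtLC12.ZarLift.nonempty_H_addEquiv (Coh.toAb (Coh.structureModule S)) n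
    haveI : T0Space (↥S) := inferInstance
    haveI : SpectralSpace (↥S) := ⟨⟩
    haveI : Subsingleton (CategoryTheory.Sheaf.H (Coh.toAb (Coh.structureModule S)) n) :=
      @Groth.Agent.S0469.result S.toTopCat ‹SpectralSpace (↥S)› d hd.le _ n hn
    let i := ((CategoryTheory.Sheaf.functorH _ n).mapIso (Agent.EtLC12.GaZar.resGaIso S)).addCommGroupIsoToAddEquiv
    exact ((e₁.trans i).trans e₂.symm).toEquiv.subsingleton
  obtain ⟨n, rfl⟩ : ∃ n, q = n + 1 := ⟨q - 1, by omega⟩
  let T := ShortComplex.mk (kernel.ι (Agent.EtLC12.ArtinSchreier.as p hp))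
    (Agent.EtLC12.ArtinSchreier.as p hp) (kernel.condition _)
  have hK : Subsingleton (EtCoh.H S T.X₁ (n + 1)) := by
    refine subsingleton_of_forall_eq 0 fun x => ?_
    obtain ⟨z, rfl⟩ := Abelian.Ext.covariant_sequence_exact₁ _
      (Agent.EtLC12.ArtinSchreier.shortExact_kernel p hp) x (@Subsingleton.elim _ (hGa (n + 1) (by omega)) _ _)
      (rfl : n + 1 = n + 1)
    haveI : Subsingleton (EtCoh.H S T.X₃ n) := hGa n (by omega)
    rw [Subsingleton.elim z 0, Abelian.Ext.zero_comp]
  haveI : Subsingleton ((EtCoh.HF S (n + 1)).obj (kernel (Agent.EtLC12.ArtinSchreier.as p hp))) := hK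
  exact ((EtCoh.HF S (n + 1)).mapIso
    (asIso (Agent.EtLC12.ArtinSchreier.constToKer p hp))).addCommGroupIsoToAddEquiv.toEquiv.subsingleton

end Groth.Agent.S0207
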