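import Groth.Statements.S0217
import Groth.Agent.AffineNhd.DimOne

set_option backward.isDefEq.respectTransparency false
set_option backward.isDefEq.respectTransparency.types false
set_option maxHeartbeats 800000

set_option autoImplicit false
universe u
open CategoryTheory CategoryTheory.Limits AlgebraicGeometry TopologicalSpace
open Curves

namespace Groth.Agent.S0217

/-- On a separated scheme whose quasi-compact opens have finitely many irreducible components, any
finite set of points with Noetherian local rings of dimension at most one lies in a common affine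
open. -/
theorem result (X : Scheme.{u}) [X.IsSeparated]
    (hirr : ∀ U : X.Opens, IsCompact (U : Set X) → (irreducibleComponents (U : Set X)).Finite)
    (s : Finset X) (hs : ∀ x ∈ s, IsNoetherianRing (X.presheaf.stalk x) ∧ ringKrullDim (X.presheaf.stalk x) ≤ 1) :
    ∃ U : X.Opens, IsAffineOpen U ∧ ∀ x ∈ s, x ∈ U := by
  classical
  have h1 : ∀ x : X, ∃ V : X.Opens, IsAffineOpen V ∧ x ∈ V := fun x => by
    obtain ⟨V, hV, hxV, -⟩ := exists_isAffineOpen_mem_and_subset (X := X) (x := x) (U := ⊤) trivial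
    exact ⟨V, hV, hxV⟩
  choose V hV hxV using h1
  let Y : X.Opens := ⨆ x : s, V x.1
  have hY : IsCompact (Y : Set X) := by
    rw [show (Y : Set X) = ⋃ x : s, (V x.1 : Set X) from Opens.coe_iSup _]
    exact isCompact_iUnion fun x => (hV x.1).isCompact
  have hfin : (irreducibleComponents (Y.toScheme : Type u)).Finite := hirr Y hY
  haveI : Y.toScheme.IsSeparated :=
    ⟨by rw [← terminal.comp_from Y.ι]; infer_instance⟩
  have hmem : ∀ x ∈ s, x ∈ Y := fun x hx => Opens.mem_iSup.2 ⟨⟨x, hx⟩, hxV x⟩
  let T : Finset Y.toScheme := s.attach.image fun x => ⟨x.1, hmem x.1 x.2⟩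
  have hT : ∀ y ∈ T, IsNoetherianRing (Y.toScheme.presheaf.stalk y) ∧
      ringKrullDim (Y.toScheme.presheaf.stalk y) ≤ 1 := by
    intro y hy
    obtain ⟨⟨x, hx⟩, -, rfl⟩ := Finset.mem_image.1 hy
    let e : X.presheaf.stalk x ≃+* Y.toScheme.presheaf.stalk ⟨x, hmem x hx⟩ :=
      (asIso (Y.ι.stalkMap ⟨x, hmem x hx⟩)).commRingCatIsoToRingEquiv
    haveI := (hs x hx).1
    exact ⟨isNoetherianRing_of_ringEquiv _ e, by rw [← ringKrullDim_eq_of_ringEquiv e]; exact (hs x hx).2⟩
  obtain ⟨U, hU, hTU⟩ := AffineNhd.exists_affineOpen_of_per_component Y.toScheme hfin T fun Z hZ => by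
    let Zc : Closeds Y.toScheme := ⟨Z, isClosed_of_mem_irreducibleComponents Z hZ⟩
    haveI : IsReduced (AffineNhd.red Zc) := H23.RedSub.isReduced_vanishingIdeal Zc
    haveI : IrreducibleSpace ↥(AffineNhd.red Zc) := by
      haveI : IrreducibleSpace ↥(Set.range (AffineNhd.redι Zc)) := by
        rw [AffineNhd.range_redι]; exact Subtype.irreducibleSpace hZ.1
      exact (AffineNhd.redι Zc).isClosedEmbedding.isEmbedding.toHomeomorph.symm.surjective.irreducibleSpace
        (AffineNhd.redι Zc).isClosedEmbedding.isEmbedding.toHomeomorph.symm.continuous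
    haveI : AlgebraicGeometry.IsIntegral (AffineNhd.red Zc) := isIntegral_of_irreducibleSpace_of_isReduced _
    haveI : (AffineNhd.red Zc).IsSeparated :=
      ⟨by rw [← terminal.comp_from (AffineNhd.redι Zc)]; infer_instance⟩
    let F : Finset (AffineNhd.red Zc) := T.preimage (AffineNhd.redι Zc)
      (AffineNhd.redι Zc).isClosedEmbedding.injective.injOn
    obtain ⟨W, hW, hFW⟩ := AffineNhd.exists_affineOpen_dim_one (AffineNhd.red Zc) F fun z hz => by
      have hz' := hT _ (Finset.mem_preimage.1 hz)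
      have hsurj := (AffineNhd.redι Zc).stalkMap_surjective z
      haveI := hz'.1
      exact ⟨isNoetherianRing_of_surjective _ _ ((AffineNhd.redι Zc).stalkMap z).hom hsurj,
        (ringKrullDim_le_of_surjective ((AffineNhd.redι Zc).stalkMap z).hom hsurj).trans hz'.2⟩
    refine ⟨W, hW, fun t ht htZ => ?_⟩
    obtain ⟨z, rfl⟩ : t ∈ Set.range (AffineNhd.redι Zc) := by rw [AffineNhd.range_redι]; exact htZ
    exact ⟨z, hFW z (Finset.mem_preimage.2 ht), rfl⟩
  refine ⟨Y.ι ''ᵁ U, hU.image_of_isOpenImmersion Y.ι, fun x hx => ?_⟩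
  exact ⟨⟨x, hmem x hx⟩, hTU _ (Finset.mem_image.2 ⟨⟨x, hx⟩, Finset.mem_attach _ _, rfl⟩), rfl⟩


end Groth.Agent.S0217
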