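import Groth.Statements.S0251
import Groth.Agent.H9Pur.PowerSeriesRetr

set_option linter.style.haveILetI false
set_option backward.isDefEq.respectTransparency false
set_option backward.isDefEq.respectTransparency.types false
-- import your own Groth.Agent.* helpers here

set_option autoImplicit false
universe u
open Pi1

namespace Groth.Agent.S0251

open AlgebraicGeometry CategoryTheory CategoryTheory.Limits in
/-- If A is a Noetherian local ring of depth at least 2 and d is at least 1, then purity holds for the
local ring of formal power series in d variables over A. -/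
theorem result (A : Type u) [CommRing A] [IsNoetherianRing A] [IsLocalRing A] (hA : (2 : ℕ∞) ≤ LocCoh.depth A A)
    (d : ℕ) (hd : 1 ≤ d) : FEt.PurityHolds (MvPowerSeries (Fin d) A) := by
  obtain ⟨e, rfl⟩ := Nat.exists_eq_add_of_le' hd
  rcases Groth.Agent.McCoy.hasRegularPair_of_idealDepth (I := IsLocalRing.maximalIdeal A) hA with htop | ⟨h, hh, k, hk, hl, hdv⟩
  · exact absurd htop (IsLocalRing.maximalIdeal.isMaximal A).ne_top
  · exact Groth.Agent.H9Pur.purityHolds_mvPowerSeries A e hh hk (fun z => mem_nonZeroDivisors_iff_left.1 hl z) hdv

end Groth.Agent.S0251
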