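import Groth.Statements.S0260
import Groth.Agent.H9Lef.SecTransfer
import Groth.Agent.FormalPatch.Hypersurface
import Groth.Agent.LC.LocalDualityCM
import Groth.Agent.AlgSpDec.HenselLift2

set_option linter.style.haveILetI false
set_option backward.isDefEq.respectTransparency false
set_option backward.isDefEq.respectTransparency.types false
-- import your own Groth.Agent.* helpers here

set_option autoImplicit false
universe u
open Pi1

attribute [-instance] CategoryTheory.catToReflQuiver

namespace Groth.Agent.S0260

open AlgebraicGeometry CategoryTheory CategoryTheory.Limits in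
/-- Let A be a henselian Noetherian local ring of depth at least 3 and f an element of the maximal
ideal. Then restricting finite etale covers from the punctured spectrum of A to the punctured
spectrum of A/fA is fully faithful. -/
theorem result (A : Type u) [CommRing A] [IsNoetherianRing A] [HenselianLocalRing A] (hA : (3 : ℕ∞) ≤ LocCoh.depth A A)
    (f : A) (hf : f ∈ IsLocalRing.maximalIdeal A) :
    (FEt.restrict (pullback.fst (FEt.puncturedSpec A).ι
      (Spec.map (CommRingCat.ofHom (Ideal.Quotient.mk (Ideal.span {f})))))).Full ∧
    (FEt.restrict (pullback.fst (FEt.puncturedSpec A).ι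
      (Spec.map (CommRingCat.ofHom (Ideal.Quotient.mk (Ideal.span {f})))))).Faithful := by
  haveI : HenselianRing A (Ideal.span {f}) := Groth.Agent.AlgSpDec.henselianRing_of_ne_top
    (fun h => (IsLocalRing.maximalIdeal.isMaximal A).ne_top
      (top_le_iff.1 (h ▸ (Ideal.span_singleton_le_iff_mem _).2 hf)))
  have hff := Groth.Agent.H9Lef.restrict_completion A f hf
    (Groth.Agent.H9Lef.killedH_of_subsingleton A f (Groth.Agent.LC.subsingleton_H_low_of_depth (n := 3) hA 1 (by norm_num)))
    (Groth.Agent.H9Lef.killedH_of_subsingleton A f (Groth.Agent.LC.subsingleton_H_low_of_depth (n := 3) hA 2 (by norm_num)))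
  haveI := hff.1
  haveI := hff.2
  exact Groth.Agent.FormalPatch.restrict_hypersurface A f hf

end Groth.Agent.S0260
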