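import Groth.Statements.S0288
import Groth.Agent.S2755
import Groth.Agent.IntBC.Branch
import Groth.Agent.NormFieldX.Props

set_option linter.style.haveILetI false
set_option backward.isDefEq.respectTransparency false
set_option backward.isDefEq.respectTransparency.types false


set_option autoImplicit false
universe u
open Pi1

attribute [-instance] CategoryTheory.catToReflQuiver

namespace Groth.Agent.S0288

open AlgebraicGeometry CategoryTheory CategoryTheory.Limits in
/-- Let X be a normal integral scheme with function field K, L a finite field extension of K and Y -> X
the normalization of X in Spec L. If Y -> X is unramified (formally unramified and locally of finite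
type), then it is etale, and finite. -/
theorem result {X : Scheme.{u}} [IsIntegral X] (hX : Pi1.IsNormalScheme X) (L : Type u) [Field L]
    [Algebra X.functionField L] [FiniteDimensional X.functionField L]
    [QuasiCompact (Spec.map (CommRingCat.ofHom (algebraMap X.functionField L)) ≫ X.fromSpecStalk (genericPoint X))]
    [QuasiSeparated (Spec.map (CommRingCat.ofHom (algebraMap X.functionField L)) ≫ X.fromSpecStalk (genericPoint X))]
    [FormallyUnramified (Spec.map (CommRingCat.ofHom (algebraMap X.functionField L)) ≫ X.fromSpecStalk (genericPoint X)).fromNormalization]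
    [LocallyOfFiniteType (Spec.map (CommRingCat.ofHom (algebraMap X.functionField L)) ≫ X.fromSpecStalk (genericPoint X)).fromNormalization] :
    Etale (Spec.map (CommRingCat.ofHom (algebraMap X.functionField L)) ≫ X.fromSpecStalk (genericPoint X)).fromNormalization ∧
    IsFinite (Spec.map (CommRingCat.ofHom (algebraMap X.functionField L)) ≫ X.fromSpecStalk (genericPoint X)).fromNormalization := by
  have hY : ∀ y : X, CAlg2.IsGeomUnibranch (X.presheaf.stalk y) := fun y => by
    haveI := (hX y).1
    haveI := (hX y).2
    exact Groth.Agent.IntBC.isGeomUnibranch_of_branch (Groth.Agent.IntBC.branch_of_normal _)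
  haveI : LocallyOfFiniteType (Groth.Agent.NormFieldX.ν X L (algebraMap X.functionField L)) :=
    inferInstanceAs (LocallyOfFiniteType (Spec.map (CommRingCat.ofHom (algebraMap X.functionField L)) ≫ X.fromSpecStalk (genericPoint X)).fromNormalization)
  haveI : FormallyUnramified (Groth.Agent.NormFieldX.ν X L (algebraMap X.functionField L)) :=
    inferInstanceAs (FormallyUnramified (Spec.map (CommRingCat.ofHom (algebraMap X.functionField L)) ≫ X.fromSpecStalk (genericPoint X)).fromNormalization)
  haveI : ConnectedSpace (Groth.Agent.NormFieldX.norm X L (algebraMap X.functionField L)) := inferInstance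
  obtain ⟨het, -, -⟩ := Groth.Agent.S2755.result (Groth.Agent.NormFieldX.ν X L (algebraMap X.functionField L)) hY ⟨_, Groth.Agent.NormFieldX.ν_η X L (algebraMap X.functionField L)⟩
  exact ⟨het, (IsFinite.iff_isIntegralHom_and_locallyOfFiniteType _).2 ⟨inferInstance, inferInstance⟩⟩
end Groth.Agent.S0288
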