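import Groth.Statements.S6032
import Groth.Agent.KCLib.RingIso
import Groth.Agent.KCLib.Supports

set_option autoImplicit false
universe u
open CategoryTheory CategoryTheory.Limits TopologicalSpace AlgebraicGeometry
open LocCohZ

namespace Groth.Agent.S6032

/-- Let A be a commutative ring, f = (f_1, …, f_r) a finite family of elements of A with zero locus Y in
X = Spec A, and M an A-module with associated sheaf M~. For every i the group colim_n H^i(f^n, M)
(direct limit of Koszul cohomology of the powers) is isomorphic to H^i_Y(X, M~). (Existence of an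
additive isomorphism in each degree; the published statement has an isomorphism of ∂-functors in M.) -/
theorem result (A : Type u) [CommRing A] (fs : List A) (M : Type u)
    [AddCommGroup M] [Module A M] (i : ℕ) :
    Nonempty (CohIII.koszulHLim fs (ModuleCat.of A M) i ≃+
      LocCohZ.HZM (Spec (CommRingCat.of A)) (AlgebraicGeometry.tilde (R := CommRingCat.of A) (ModuleCat.of A M)) i
        (LocCoh.puncturedOpen A (Ideal.span {a | a ∈ fs}))) := by
  let F : (Spec (CommRingCat.of A)).Modules :=
    AlgebraicGeometry.tilde (R := CommRingCat.of A) (ModuleCat.of A M)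
  let e : A ≃+* Γ(Spec (CommRingCat.of A), ⊤) := (Scheme.ΓSpecIso (CommRingCat.of A)).symm.commRingCatIsoToRingEquiv
  let gM : ModuleCat.{u} Γ(Spec (CommRingCat.of A), ⊤) := Groth.Agent.KCLib.gammaMod F
  have θ : (Groth.Agent.KCLib.resE e).obj gM ≅ ModuleCat.of A M := by
    let l : ((Groth.Agent.KCLib.resE e).obj gM) ≃ₗ[A] ((modulesSpecToSheaf.obj F).presheaf.obj (Opposite.op ⊤)) :=
      { toFun := fun x => x
        invFun := fun x => x
        left_inv := fun _ => rfl
        right_inv := fun _ => rfl
        map_add' := fun _ _ => rfl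
        map_smul' := fun a x => by
          refine Eq.trans ?_ (Scheme.Modules.smul_Spec_def (M := F) (U := ⊤) a x).symm
          show (e a) • x = _
          congr 1 }
    exact l.toModuleIso ≪≫ (tilde.isoTop (R := CommRingCat.of A) (ModuleCat.of A M)).symm
  obtain ⟨e1⟩ := Groth.Agent.KCLib.nonempty_koszulHLim_map_equiv e gM θ fs i
  obtain ⟨e2⟩ := Groth.Agent.KCLib.nonempty_koszulHLim_equiv_aug F (fs.map e) i
  have hF : Coh.IsQCoh F := inferInstanceAs
    (AlgebraicGeometry.tilde (R := CommRingCat.of A) (ModuleCat.of A M)).IsQuasicoherent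
  have hU : ⨆ k, Groth.Agent.KCLib.cv (fs.map e) k = LocCoh.puncturedOpen A (Ideal.span {a | a ∈ fs}) := by
    refine TopologicalSpace.Opens.ext (Set.ext fun x => ?_)
    simp only [TopologicalSpace.Opens.coe_iSup, Set.mem_iUnion, SetLike.mem_coe]
    constructor
    · rintro ⟨k, hk⟩ hmem
      obtain ⟨a, ha, hae⟩ := List.mem_map.1 (List.get_mem (fs.map e) k.down)
      rw [Groth.Agent.KCLib.cv, ← hae] at hk
      have hk' : x ∈ PrimeSpectrum.basicOpen a :=
        (SetLike.ext_iff.1 (basicOpen_eq_of_affine (R := CommRingCat.of A) a) x).1 hk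
      exact hk' (hmem (Ideal.subset_span ha))
    · intro hx
      obtain ⟨a, ha, hax⟩ : ∃ a ∈ fs, a ∉ (x : PrimeSpectrum A).asIdeal := by
        by_contra hcon
        push_neg at hcon
        exact hx ((Ideal.span_le (I := (x : PrimeSpectrum A).asIdeal)).2 hcon)
      obtain ⟨k, hk⟩ := List.mem_iff_get.1 (List.mem_map.2 ⟨a, ha, rfl⟩ : e a ∈ fs.map e)
      refine ⟨⟨k⟩, ?_⟩
      show x ∈ (Spec (CommRingCat.of A)).basicOpen ((fs.map e).get k)
      rw [hk]
      show x ∈ (Spec (CommRingCat.of A)).basicOpen ((Scheme.ΓSpecIso (CommRingCat.of A)).inv a)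
      rw [basicOpen_eq_of_affine]
      exact hax
  obtain ⟨e3⟩ := Groth.Agent.KCLib.nonempty_aug_equiv_HZM F (fs.map e) hF hU i
  exact ⟨e1.trans (e2.toAddEquiv.trans e3)⟩

end Groth.Agent.S6032
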