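import Groth.Statements.S0356
import Groth.Agent.S6032
import Groth.Agent.S6031
import Groth.Agent.RGammaI.KoszulInf
import Groth.Agent.SiteBase.OpenRestr

set_option autoImplicit false
universe u v
open CategoryTheory AlgebraicGeometry
open LocCoh

namespace Groth.Agent.S0356

/-- Let R be a Noetherian ring, I an ideal, M an R-module and U = Spec R ∖ V(I) the punctured open. For
every p ≥ 1, the cohomology group H^p(U, M̃|_U) of the restriction to U of the quasi-coherent sheaf
associated with M is isomorphic to the local cohomology H^(p+1)_I(M). (The published statement also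
gives a four-term exact sequence in low degrees, which is not stated here; here R is Noetherian.) -/
theorem result (R : Type u) [CommRing R] [IsNoetherianRing R] (I : Ideal R) (M : Type u) [AddCommGroup M] [Module R M] (p : ℕ) (hp : 1 ≤ p) : Nonempty (Coh.HH (↑(LocCoh.puncturedOpen R I)) ((AlgebraicGeometry.tilde (R := CommRingCat.of R) (ModuleCat.of R M)).restrict (LocCoh.puncturedOpen R I).ι) p ≃+ LocCoh.H I (p + 1) M) := by
  classical
  obtain ⟨fs, rfl⟩ : ∃ fs : List R, I = Ideal.span {a | a ∈ fs} := by
    obtain ⟨t, ht⟩ := (IsNoetherian.noetherian I : I.FG)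
    refine ⟨t.toList, ?_⟩
    simp only [Finset.mem_toList]
    exact ht.symm
  obtain ⟨e1⟩ := Groth.Agent.RGammaI.nonempty_H_equiv_koszulHLim (ModuleCat.of R M) fs (p + 1)
  obtain ⟨e2⟩ := Groth.Agent.S6032.result R fs M (p + 1)
  let U := LocCoh.puncturedOpen R (Ideal.span {a | a ∈ fs})
  let F := AlgebraicGeometry.tilde (R := CommRingCat.of R) (ModuleCat.of R M)
  have hF : Coh.IsQCoh F := inferInstanceAs
    (AlgebraicGeometry.tilde (R := CommRingCat.of R) (ModuleCat.of R M)).IsQuasicoherent
  have hb := (Groth.Agent.S6031.result (Spec (CommRingCat.of R)) F hF U).2 p hp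
  obtain ⟨e3⟩ := Groth.Agent.SiteBase.nonempty_HU_addEquiv_H_restr
    (X := (Spec (CommRingCat.of R)).toPresheafedSpace.carrier) (U := U) (Coh.toAb F) p
  exact ⟨AddEquiv.trans (e3.symm.trans (AddEquiv.ofBijective _ hb)) (e2.symm.trans e1.toAddEquiv.symm)⟩

end Groth.Agent.S0356
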