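import Groth.Statements.S0359
import Groth.Agent.LC.AdjDepth


set_option autoImplicit false
universe u v
open LocCoh

namespace Groth.Agent.S0359

open IsLocalRing Groth.Agent.Alg6

variable {R : Type u} [CommRing R] [IsNoetherianRing R]

private theorem depth_quot_add_one (M : Type u) [AddCommGroup M] [Module R M] [Module.Finite R M]
    (q : Ideal R) [q.IsPrime] {x : R} (hx : x ∈ q)
    (hreg : IsSMulRegular (LocalizedModule q.primeCompl M) (algebraMap R (Localization.AtPrime q) x)) :
    LocCoh.depth (Localization.AtPrime q) (LocalizedModule q.primeCompl (QuotSMulTop x M)) + 1 =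
      LocCoh.depth (Localization.AtPrime q) (LocalizedModule q.primeCompl M) := by
  obtain ⟨e⟩ := Groth.Agent.LC.exists_localized_quotSMulTop M q x
  have : Module.Finite (Localization.AtPrime q) (LocalizedModule q.primeCompl M) :=
    Module.Finite.of_isLocalizedModule q.primeCompl (LocalizedModule.mkLinearMap _ M)
  have : Module.Finite (Localization.AtPrime q) (LocalizedModule q.primeCompl (QuotSMulTop x M)) :=
    Module.Finite.of_isLocalizedModule q.primeCompl (LocalizedModule.mkLinearMap _ _)
  unfold LocCoh.depth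
  rw [← Groth.Agent.LC.idealDepth_quotSMulTop_add_one (maximalIdeal (Localization.AtPrime q))
    ((mem_maximalIdeal_iff q).2 hx) hreg]
  congr 1
  exact (Groth.Agent.LC.idealDepth_congr _ e).symm

/-- An element outside `p` in every associated prime not below `p`. -/
private theorem exists_avoid (M : Type u) [AddCommGroup M] [Module R M] [Module.Finite R M]
    (p : Ideal R) [p.IsPrime] :
    ∃ f, f ∉ p ∧ ∀ P ∈ associatedPrimes R M, ¬ P ≤ p → f ∈ P := by
  classical
  have : ∀ P : Ideal R, ¬ P ≤ p → ∃ a, a ∈ P ∧ a ∉ p := fun P h => SetLike.not_le_iff_exists.1 h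
  choose! a ha ha' using this
  refine ⟨∏ P ∈ (associatedPrimes.finite R M).toFinset.filter (fun P => ¬ P ≤ p), a P, ?_, ?_⟩
  · exact prod_mem (S := p.primeCompl) fun P hP => ha' P (Finset.mem_filter.1 hP).2
  · intro P hP hnP
    exact Ideal.prod_mem _ (Finset.mem_filter.2 ⟨(Set.Finite.mem_toFinset _).2 hP, hnP⟩) (ha P hnP)

private theorem key (p : Ideal R) [p.IsPrime] (e : ℕ) :
    ∀ (M : Type u) [AddCommGroup M] [Module R M] [Module.Finite R M],
      LocCoh.depth (Localization.AtPrime p) (LocalizedModule p.primeCompl M) = e →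
      ∃ f : R, f ∉ p ∧ ∀ (q : Ideal R) [q.IsPrime], p ≤ q → f ∉ q →
        (e : ℕ∞) ≤ LocCoh.depth (Localization.AtPrime q) (LocalizedModule q.primeCompl M) ∧
        (q ≠ p → (e : ℕ∞) + 1 ≤
          LocCoh.depth (Localization.AtPrime q) (LocalizedModule q.primeCompl M)) := by
  induction e with
  | zero =>
    intro M _ _ _ he
    obtain ⟨f, hf, hfP⟩ := exists_avoid M p
    refine ⟨f, hf, fun q _ hpq hfq => ⟨by simp, fun hne => ?_⟩⟩
    rw [Nat.cast_zero, zero_add, one_le_depth_atPrime_iff q]
    intro hq
    by_cases h : q ≤ p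
    · exact hne (le_antisymm h hpq)
    · exact hfq (hfP q hq h)
  | succ e ih =>
    intro M _ _ _ he
    have hp : p ∉ associatedPrimes R M := by
      rw [← one_le_depth_atPrime_iff p, he]
      exact_mod_cast Nat.le_add_left 1 e
    classical
    obtain ⟨x, hxp, hx⟩ : ∃ x ∈ p, ∀ P ∈ associatedPrimes R M, P ≤ p → x ∉ P := by
      by_contra hc
      push Not at hc
      let s := (associatedPrimes.finite R M).toFinset.filter (fun P => P ≤ p)
      have hsub : (p : Set R) ⊆ ⋃ P ∈ (s : Set (Ideal R)), (P : Set R) := by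
        intro x hx
        obtain ⟨P, hP, hPp, hxP⟩ := hc x hx
        exact Set.mem_biUnion (Finset.mem_filter.2 ⟨(Set.Finite.mem_toFinset _).2 hP, hPp⟩) hxP
      obtain ⟨P, hP, hle⟩ := (Ideal.subset_union_prime ⊥ ⊥ (fun P hP _ _ =>
        IsAssociatedPrime.isPrime (M := M) (AssociatedPrimes.mem_iff.mp
          ((Set.Finite.mem_toFinset _).1 (Finset.mem_filter.1 hP).1)))).mp hsub
      obtain ⟨hP1, hP2⟩ := Finset.mem_filter.1 hP
      exact hp (le_antisymm hP2 hle ▸ (Set.Finite.mem_toFinset _).1 hP1)
    obtain ⟨f₁, hf₁, hf₁P⟩ := exists_avoid M p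
    have hreg : ∀ (q : Ideal R) [q.IsPrime], f₁ ∉ q →
        IsSMulRegular (LocalizedModule q.primeCompl M) (algebraMap R (Localization.AtPrime q) x) := by
      intro q _ hfq
      rw [isSMulRegular_iff_forall_ass]
      intro P hP hxP
      have : P.comap (algebraMap R (Localization.AtPrime q)) ∈ associatedPrimes R M := by
        have h2 : P ∈ Ideal.comap (algebraMap R (Localization.AtPrime q)) ⁻¹' (associatedPrimes R M) := by
          rw [Module.associatedPrimes.preimage_comap_associatedPrimes_eq_associatedPrimes_of_isLocalizedModule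
            q.primeCompl (Localization.AtPrime q) (LocalizedModule.mkLinearMap q.primeCompl M)]
          exact hP
        exact h2
      by_cases h : P.comap (algebraMap R (Localization.AtPrime q)) ≤ p
      · exact hx _ this h hxP
      · have hle : P.comap (algebraMap R (Localization.AtPrime q)) ≤ q := fun a ha =>
          (mem_maximalIdeal_iff q).1 (IsLocalRing.le_maximalIdeal
            (IsAssociatedPrime.isPrime hP).ne_top ha)
        exact hfq (hle (hf₁P _ this h))
    have hN : LocCoh.depth (Localization.AtPrime p) (LocalizedModule p.primeCompl (QuotSMulTop x M)) = e := by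
      have := depth_quot_add_one M p hxp (hreg p hf₁)
      rw [he, Nat.cast_succ] at this
      exact (ENat.add_left_injective_of_ne_top (by simp)) this
    obtain ⟨f₂, hf₂, hf₂'⟩ := ih (QuotSMulTop x M) hN
    refine ⟨f₁ * f₂, fun h => ((inferInstance : p.IsPrime).mem_or_mem h).elim hf₁ hf₂,
      fun q _ hpq hfq => ?_⟩
    obtain ⟨h1, h2⟩ := hf₂' q hpq fun h => hfq (q.mul_mem_left f₁ h)
    rw [← depth_quot_add_one M q (hpq hxp) (hreg q fun h => hfq (q.mul_mem_right f₂ h)), Nat.cast_succ]
    exact ⟨by gcongr, fun hne => by have := h2 hne; gcongr⟩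

/-- For a finite module M over a Noetherian ring and a prime p with depth(M_p) = e finite, there is a
basic open neighbourhood of p in V(p) on which the depth of the localizations of M is at least e,
and it exceeds e at all but finitely many of those primes. -/
theorem result (R : Type u) [CommRing R] [IsNoetherianRing R] (M : Type u) [AddCommGroup M] [Module R M] [Module.Finite R M] (p : Ideal R) [p.IsPrime] (e : ℕ) (he : LocCoh.depth (Localization.AtPrime p) (LocalizedModule p.primeCompl M) = e) : ∃ f : R, f ∉ p ∧ (∀ (q : Ideal R) [q.IsPrime], p ≤ q → f ∉ q → (e : ℕ∞) ≤ LocCoh.depth (Localization.AtPrime q) (LocalizedModule q.primeCompl M)) ∧ {q : PrimeSpectrum R | p ≤ q.asIdeal ∧ f ∉ q.asIdeal ∧ LocCoh.depth (Localization.AtPrime q.asIdeal) (LocalizedModule q.asIdeal.primeCompl M) = e}.Finite := by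
  obtain ⟨f, hf, h⟩ := key p e M he
  refine ⟨f, hf, fun q _ hpq hfq => (h q hpq hfq).1, (Set.finite_singleton ⟨p, inferInstance⟩).subset ?_⟩
  rintro q ⟨hpq, hfq, hq⟩
  by_contra hne
  have := (h q.asIdeal hpq hfq).2 fun hh => hne (PrimeSpectrum.ext hh)
  rw [hq] at this
  exact absurd (by exact_mod_cast this : e + 1 ≤ e) (Nat.not_succ_le_self e)

end Groth.Agent.S0359
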