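import Groth.Statements.S0363
import Groth.Agent.LC.GorCech
import Groth.Agent.TorBridge.KerNat
import Groth.Agent.TorBridge.LES
import Groth.Agent.H9Misc.TorBalance
import Groth.Agent.S0302
import Mathlib

set_option autoImplicit false
universe u v
open CategoryTheory
open Goren

namespace Groth.Agent.S0363

open CategoryTheory TensorProduct IsLocalRing Groth.Agent.TorBridge Groth.Agent.H9Misc.TorBalance

section CechStep

variable {A : Type u} [CommRing A]

/-- The span defining a top Čech quotient. -/
def cechSub (u : A) {j : ℕ} (y : Fin j → A) : Submodule A (Localization.Away u) :=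
  Submodule.span A {z : Localization.Away u | ∃ (i : Fin j) (n : ℕ),
    z = algebraMap A (Localization.Away u) (y i ^ n) * IsLocalization.Away.invSelf u ^ n}

theorem mem_cechSub (u : A) {j : ℕ} (y : Fin j → A) (hy : ∀ i, y i ∣ u) (r : A) (t : ℕ) :
    algebraMap A (Localization.Away u) r * IsLocalization.Away.invSelf u ^ t ∈ cechSub u y ↔
      ∃ N, r * u ^ N ∈ Ideal.span (Set.range fun i => y i ^ (t + N)) := by
  let L := Localization.Away u
  let v : L := IsLocalization.Away.invSelf u
  let J : ℕ → Ideal A := fun n => Ideal.span (Set.range fun i => y i ^ n)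
  have huv : algebraMap A L u * v = 1 := IsLocalization.Away.mul_invSelf u
  have hlift : ∀ (a : A) (n e : ℕ), algebraMap A L (a * u ^ e) * v ^ (n + e) = algebraMap A L a * v ^ n := by
    intro a n e
    rw [map_mul, map_pow, pow_add, show algebraMap A L a * algebraMap A L u ^ e * (v ^ n * v ^ e) =
      algebraMap A L a * v ^ n * (algebraMap A L u * v) ^ e by ring, huv, one_pow, mul_one]
  have hJu : ∀ (n e : ℕ) (a : A), a ∈ J n → a * u ^ e ∈ J (n + e) := by
    intro n e a ha
    obtain ⟨c, rfl⟩ := Ideal.mem_span_range_iff_exists_fun.1 ha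
    rw [Finset.sum_mul]
    refine sum_mem fun i _ => ?_
    obtain ⟨w, hw⟩ := hy i
    rw [hw, mul_pow, show c i * y i ^ n * (y i ^ e * w ^ e) = c i * w ^ e * y i ^ (n + e) by
      rw [pow_add]; ring]
    exact Ideal.mul_mem_left _ _ (Ideal.subset_span ⟨i, rfl⟩)
  constructor
  · intro h
    have key : ∀ z ∈ cechSub u y, ∃ n, ∃ a ∈ J n, z = algebraMap A L a * v ^ n := by
      intro z hz
      induction hz using Submodule.span_induction with
      | mem z hz =>
        obtain ⟨i, n, rfl⟩ := hz
        exact ⟨n, _, Ideal.subset_span ⟨i, rfl⟩, rfl⟩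
      | zero => exact ⟨0, 0, zero_mem _, by simp⟩
      | add p q _ _ hp hq =>
        obtain ⟨n, a, ha, rfl⟩ := hp
        obtain ⟨m, b, hb, rfl⟩ := hq
        refine ⟨n + m, a * u ^ m + b * u ^ n, add_mem (hJu n m a ha) (add_comm m n ▸ hJu m n b hb), ?_⟩
        rw [map_add, add_mul, hlift, add_comm n m, hlift]
      | smul c p _ hp =>
        obtain ⟨n, a, ha, rfl⟩ := hp
        exact ⟨n, c * a, Ideal.mul_mem_left _ c ha, by rw [map_mul, Algebra.smul_def, mul_assoc]⟩
    obtain ⟨n, a, ha, e⟩ := key _ h
    have h1 : algebraMap A L (r * u ^ n) = algebraMap A L (a * u ^ t) := by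
      have e' := congrArg (fun z => z * (algebraMap A L u) ^ (t + n)) e
      rw [map_mul, map_mul, map_pow, map_pow]
      calc algebraMap A L r * algebraMap A L u ^ n
          = algebraMap A L r * algebraMap A L u ^ n * (algebraMap A L u * v) ^ t := by rw [huv, one_pow, mul_one]
        _ = algebraMap A L r * v ^ t * algebraMap A L u ^ (t + n) := by ring
        _ = algebraMap A L a * v ^ n * algebraMap A L u ^ (t + n) := e'
        _ = algebraMap A L a * algebraMap A L u ^ t * (algebraMap A L u * v) ^ n := by ring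
        _ = algebraMap A L a * algebraMap A L u ^ t := by rw [huv, one_pow, mul_one]
    obtain ⟨⟨_, k, rfl⟩, hk⟩ := (IsLocalization.eq_iff_exists (Submonoid.powers u) L).1 h1
    refine ⟨n + k, ?_⟩
    rw [show r * u ^ (n + k) = a * u ^ (t + k) by
      calc r * u ^ (n + k) = u ^ k * (r * u ^ n) := by ring
        _ = u ^ k * (a * u ^ t) := hk
        _ = a * u ^ (t + k) := by ring,
      show t + (n + k) = n + (t + k) by omega]
    exact hJu n (t + k) a ha
  · rintro ⟨N, hN⟩
    rw [← hlift r t N]
    obtain ⟨c, hc⟩ := Ideal.mem_span_range_iff_exists_fun.1 hN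
    rw [← hc, map_sum, Finset.sum_mul]
    refine sum_mem fun i _ => ?_
    rw [map_mul, mul_assoc, ← Algebra.smul_def]
    exact Submodule.smul_mem _ _ (Submodule.subset_span ⟨i, t + N, rfl⟩)

/-- The span is stable under division by elements whose cofactor is divisible by all the `y i`. -/
theorem mul_mem_cechSub (u c : A) {j : ℕ} (y : Fin j → A) (hy : ∀ i, y i ∣ c) (z : Localization.Away u)
    (hz : z ∈ cechSub u y) :
    algebraMap A (Localization.Away u) c * IsLocalization.Away.invSelf u * z ∈ cechSub u y := by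
  let L := Localization.Away u
  let v : L := IsLocalization.Away.invSelf u
  induction hz using Submodule.span_induction with
  | mem z hz =>
    obtain ⟨i, n, rfl⟩ := hz
    obtain ⟨b, rfl⟩ := hy i
    rw [show algebraMap A L (y i * b) * v * (algebraMap A L (y i ^ n) * v ^ n) =
      algebraMap A L b * (algebraMap A L (y i ^ (n + 1)) * v ^ (n + 1)) by
        rw [map_mul, pow_succ, pow_succ, map_mul]; ring, ← Algebra.smul_def]
    exact Submodule.smul_mem _ _ (Submodule.subset_span ⟨i, n + 1, rfl⟩)
  | zero => rw [mul_zero]; exact zero_mem _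
  | add p q _ _ hp hq => rw [mul_add]; exact add_mem hp hq
  | smul c p _ hp => rw [mul_smul_comm]; exact Submodule.smul_mem _ c hp

variable (x : ℕ → A)

/-- The product of the first `j` terms. -/
abbrev uP (j : ℕ) : A := ∏ i : Fin j, x i

/-- The top Čech quotient of the first `j` terms. -/
abbrev NQ (j : ℕ) : Type u := Localization.Away (uP x j) ⧸ cechSub (uP x j) (fun i : Fin j => x i)

/-- The middle term: `x j` inverted in `NQ x j`. -/
abbrev MQ (j : ℕ) : Type u := Localization.Away (uP x (j + 1)) ⧸ cechSub (uP x (j + 1)) (fun i : Fin j => x i)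

theorem uP_succ (j : ℕ) : uP x (j + 1) = uP x j * x j := by
  simp [uP, Fin.prod_univ_castSucc]

/-- The short exact sequence `NQ j → MQ j → NQ (j + 1)`. -/
theorem exists_step (j : ℕ) (hreg : ∀ (n : ℕ) (a : A),
    x j ^ n * a ∈ Ideal.span (Set.range fun i : Fin j => x i ^ n) → a ∈ Ideal.span (Set.range fun i : Fin j => x i ^ n)) :
    ∃ (ι : NQ x j →ₗ[A] MQ x j) (π : MQ x j →ₗ[A] NQ x (j + 1)),
      Function.Injective ι ∧ Function.Surjective π ∧ Function.Exact ι π := by
  let u := uP x j
  let u' := uP x (j + 1)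
  let L := Localization.Away u
  let L' := Localization.Away u'
  let v : L := IsLocalization.Away.invSelf u
  let v' : L' := IsLocalization.Away.invSelf u'
  let y : Fin j → A := fun i => x i
  have huv : algebraMap A L u * v = 1 := IsLocalization.Away.mul_invSelf u
  have huv' : algebraMap A L' u' * v' = 1 := IsLocalization.Away.mul_invSelf u'
  have hu' : algebraMap A L' u * (algebraMap A L' (x j) * v') = 1 := by
    rw [← mul_assoc, ← map_mul, show u * x j = u' from (uP_succ x j).symm, huv']
  have hunit : ∀ m : Submonoid.powers u, IsUnit (Algebra.ofId A L' m) := by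
    rintro ⟨_, n, rfl⟩
    show IsUnit (algebraMap A L' (u ^ n))
    rw [map_pow]
    exact (IsUnit.of_mul_eq_one _ hu').pow n
  let φ : L →ₐ[A] L' := IsLocalization.liftAlgHom (M := Submonoid.powers u) (f := Algebra.ofId A L') hunit
  have hφv : φ v = algebraMap A L' (x j) * v' := by
    refine (IsUnit.of_mul_eq_one _ hu').mul_left_cancel ?_
    rw [hu', ← AlgHom.commutes φ u, ← map_mul, huv, map_one]
  have hφ : ∀ a t, φ (algebraMap A L a * v ^ t) = algebraMap A L' (a * x j ^ t) * v' ^ t := by
    intro a t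
    rw [map_mul, map_pow, hφv, AlgHom.commutes, map_mul, map_pow, mul_pow, mul_assoc]
  have hy : ∀ i, y i ∣ u := fun i => Finset.dvd_prod_of_mem _ (Finset.mem_univ i)
  have hy' : ∀ i, y i ∣ u' := fun i => (dvd_mul_of_dvd_left (hy i) _).trans (uP_succ x j).symm.dvd
  have hle : cechSub u y ≤ (cechSub u' y).comap φ.toLinearMap := by
    refine Submodule.span_le.mpr ?_
    rintro _ ⟨i, n, rfl⟩
    show φ _ ∈ cechSub u' y
    rw [hφ, mul_comm (y i ^ n), map_mul, mul_assoc, ← Algebra.smul_def]
    exact Submodule.smul_mem _ _ (Submodule.subset_span ⟨i, n, rfl⟩)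
  have hK₂ : cechSub u' (fun i : Fin (j + 1) => x i) = cechSub u' y ⊔ LinearMap.range φ.toLinearMap := by
    refine le_antisymm (Submodule.span_le.mpr ?_) (sup_le (Submodule.span_mono ?_) ?_)
    · rintro _ ⟨i, n, rfl⟩
      induction i using Fin.lastCases with
      | last =>
        refine Submodule.mem_sup_right ⟨algebraMap A L 1 * v ^ n, ?_⟩
        show φ _ = _
        rw [hφ, one_mul]; simp only [Fin.val_last]; rfl
      | cast i => exact Submodule.mem_sup_left (Submodule.subset_span ⟨i, n, rfl⟩)
    · rintro _ ⟨i, n, rfl⟩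
      exact ⟨i.castSucc, n, rfl⟩
    · rintro _ ⟨z, rfl⟩
      obtain ⟨⟨a, ⟨_, n, rfl⟩⟩, hz⟩ := IsLocalization.surj (Submonoid.powers u) z
      have hzr : z = algebraMap A L a * v ^ n := by
        simp only [map_pow] at hz
        rw [← hz, mul_assoc, ← mul_pow, huv, one_pow, mul_one]
      show φ z ∈ _
      rw [hzr, hφ, map_mul, mul_assoc, ← Algebra.smul_def]
      exact Submodule.smul_mem _ _ (Submodule.subset_span ⟨Fin.last j, n, by simp only [Fin.val_last]; rfl⟩)
  let ι : NQ x j →ₗ[A] MQ x j := Submodule.mapQ _ _ φ.toLinearMap hle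
  let π : MQ x j →ₗ[A] NQ x (j + 1) := Submodule.factor (hK₂ ▸ le_sup_left)
  refine ⟨ι, π, ?_, Submodule.factor_surjective _, ?_⟩
  · rw [injective_iff_map_eq_zero]
    intro q hq
    obtain ⟨z, rfl⟩ := Submodule.Quotient.mk_surjective _ q
    obtain ⟨⟨a, ⟨_, n, rfl⟩⟩, hz⟩ := IsLocalization.surj (Submonoid.powers u) z
    have hzr : z = algebraMap A L a * v ^ n := by
      simp only [map_pow] at hz
      rw [← hz, mul_assoc, ← mul_pow, huv, one_pow, mul_one]
    subst hzr
    have h1 : φ (algebraMap A L a * v ^ n) ∈ cechSub u' y := (Submodule.Quotient.mk_eq_zero _).mp hq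
    rw [hφ, mem_cechSub u' y hy'] at h1
    obtain ⟨N, hN⟩ := h1
    rw [Submodule.Quotient.mk_eq_zero, mem_cechSub u y hy]
    refine ⟨N, hreg (n + N) _ ?_⟩
    rw [show u' = u * x j from uP_succ x j] at hN
    rwa [show x j ^ (n + N) * (a * u ^ N) = a * x j ^ n * (u * x j) ^ N by ring]
  · rw [LinearMap.exact_iff]
    simp only [ι, π, Submodule.factor, Submodule.mapQ, Submodule.ker_liftQ, Submodule.range_liftQ,
      LinearMap.range_comp, Submodule.ker_mkQ, LinearMap.comp_id, Submodule.comap_id]
    rw [hK₂, Submodule.map_sup, Submodule.mkQ_map_self, bot_sup_eq]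

end CechStep

section TorFacts

variable {A : Type u} [CommRing A]

/-- The complex computing `Tor` of `N` against `Q`. -/
noncomputable abbrev torCx (N : ModuleCat.{u} A) {Y : ModuleCat.{u} A} (Q : ProjectiveResolution Y) :
    ChainComplex (ModuleCat.{u} A) ℕ :=
  (((MonoidalCategory.tensoringLeft (ModuleCat.{u} A)).obj N).mapHomologicalComplex _).obj Q.complex

/-- Homology is linear. -/
theorem homologyMap_smul' {C D : ChainComplex (ModuleCat.{u} A) ℕ} (f : C ⟶ D) (c : A) (i : ℕ) :
    HomologicalComplex.homologyMap (c • f) i = c • HomologicalComplex.homologyMap f i := by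
  show ShortComplex.homologyMap ((HomologicalComplex.shortComplexFunctor _ _ i).map (c • f)) = _
  rw [show (HomologicalComplex.shortComplexFunctor _ _ i).map (c • f) =
    c • (HomologicalComplex.shortComplexFunctor _ _ i).map f from ShortComplex.hom_ext _ _ rfl rfl rfl]
  exact ShortComplex.homologyMap_smul _ _

/-- A module on which an element killing `Y` acts invertibly has no `Tor` with `Y`. -/
theorem isZero_tor_of_invertible (M Y : ModuleCat.{u} A) (c : A) (hM : Function.Bijective fun m : M => c • m)
    (hY : ∀ y : Y, c • y = 0) (i : ℕ) : Limits.IsZero (((Tor (ModuleCat.{u} A) i).obj M).obj Y) := by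
  let Q := projectiveResolution Y
  let P := projectiveResolution M
  suffices Limits.IsZero ((torCx M Q).homology i) from
    this.of_iso (Q.isoLeftDerivedObj ((MonoidalCategory.tensoringLeft (ModuleCat.{u} A)).obj M) i)
  have hkill : ∀ z : (torCx Y P).homology i, c • z = 0 := by
    intro z
    have h0 : c • 𝟙 (torCx Y P) = 0 := by
      have hw : ∀ (j : ℕ) (w : Y ⊗[A] (P.complex.X j)), c • w = 0 := fun j w => by
        induction w using TensorProduct.induction_on with
        | zero => rw [smul_zero]
        | tmul y p => rw [smul_tmul', hY, zero_tmul]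
        | add p q hp hq => rw [smul_add, hp, hq, add_zero]
      exact HomologicalComplex.hom_ext _ _ fun j => ModuleCat.hom_ext (LinearMap.ext fun w => hw j w)
    have h1 : c • 𝟙 ((torCx Y P).homology i) = 0 := by
      rw [← HomologicalComplex.homologyMap_id, ← homologyMap_smul', h0,
        HomologicalComplex.homologyMap_zero]
    exact LinearMap.congr_fun (congrArg ModuleCat.Hom.hom h1) z
  let e : (torCx M Q).homology i ≅ (torCx Y P).homology i :=
    (Q.isoLeftDerivedObj ((MonoidalCategory.tensoringLeft (ModuleCat.{u} A)).obj M) i).symm ≪≫ torSymm M Y i ≪≫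
      P.isoLeftDerivedObj ((MonoidalCategory.tensoringLeft (ModuleCat.{u} A)).obj Y) i
  have hiso : IsIso (c • 𝟙 (torCx M Q)) := by
    haveI : ∀ j, IsIso ((c • 𝟙 (torCx M Q)).f j) := fun j => by
      rw [ConcreteCategory.isIso_iff_bijective]
      let E : M ≃ₗ[A] M := LinearEquiv.ofBijective (c • LinearMap.id) hM
      have : (fun w : M ⊗[A] (Q.complex.X j) => c • w) = E.rTensor (Q.complex.X j) := by
        funext w
        induction w using TensorProduct.induction_on with
        | zero => simp
        | tmul m q => simp [E, smul_tmul']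
        | add p q hp hq => simp only [smul_add, map_add, hp, hq]
      show Function.Bijective fun w : M ⊗[A] (Q.complex.X j) => c • w
      rw [this]
      exact (E.rTensor (Q.complex.X j)).bijective
    exact HomologicalComplex.Hom.isIso_of_components _
  have hiso' : IsIso (c • 𝟙 ((torCx M Q).homology i)) := by
    rw [← HomologicalComplex.homologyMap_id, ← homologyMap_smul']
    infer_instance
  refine ModuleCat.isZero_iff_subsingleton.2 ⟨fun a b => ?_⟩
  refine (ConcreteCategory.bijective_of_isIso (c • 𝟙 ((torCx M Q).homology i))).1 ?_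
  show c • a = c • b
  refine e.toLinearEquiv.injective ?_
  rw [map_smul, map_smul, hkill, hkill]

/-- Dimension shifting along a middle term without `Tor`. -/
theorem tor_step {S : ShortComplex (ModuleCat.{u} A)} (hS : S.ShortExact) (Y : ModuleCat.{u} A)
    (hM : ∀ i, Limits.IsZero (((Tor (ModuleCat.{u} A) i).obj S.X₂).obj Y)) :
    Limits.IsZero (((Tor (ModuleCat.{u} A) 0).obj S.X₃).obj Y) ∧
      ∀ i, Nonempty (((Tor (ModuleCat.{u} A) (i + 1)).obj S.X₃).obj Y ≅ ((Tor (ModuleCat.{u} A) i).obj S.X₁).obj Y) := by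
  let Q := projectiveResolution Y
  let e : ∀ (N : ModuleCat.{u} A) (i : ℕ), ((Tor (ModuleCat.{u} A) i).obj N).obj Y ≅ (torCx N Q).homology i :=
    fun N i => Q.isoLeftDerivedObj ((MonoidalCategory.tensoringLeft (ModuleCat.{u} A)).obj N) i
  have hz : ∀ i, Limits.IsZero ((KerNat.seq S Q).X₂.homology i) := fun i => (hM i).of_iso (e S.X₂ i).symm
  refine ⟨?_, fun i => ⟨e S.X₃ (i + 1) ≪≫
    (KerNat.seq_shortExact hS Q).δIso (i + 1) i rfl (hz _) (hz _) ≪≫ (e S.X₁ i).symm⟩⟩
  haveI := KerNat.isIso_h0 S.X₂ Q
  haveI := KerNat.isIso_h0 S.X₃ Q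
  haveI : Subsingleton ↥((torCx S.X₂ Q).homology 0) := ModuleCat.subsingleton_of_isZero (hz 0)
  haveI h2 : Subsingleton (S.X₂ ⊗[A] Y) :=
    (ConcreteCategory.bijective_of_isIso (KerNat.h0 S.X₂ Q)).2.subsingleton
  have h3 : Subsingleton (S.X₃ ⊗[A] Y) :=
    (LinearMap.rTensor_surjective Y ((ModuleCat.epi_iff_surjective _).1 hS.epi_g)).subsingleton
  exact (ModuleCat.isZero_iff_subsingleton.2 h3).of_iso (e S.X₃ 0 ≪≫ asIso (KerNat.h0 S.X₃ Q))

end TorFacts


/-- Over a Gorenstein local ring of dimension d with E an injective hull of the residue field κ,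
Tor_i(E, κ) vanishes for i ≠ d and Tor_d(E, κ) is isomorphic to κ. -/
theorem result (A : Type u) [CommRing A] [LocCoh.IsGorensteinLocalRing A] (d : ℕ) (hd : ringKrullDim A = d) (E : Type u) [AddCommGroup E] [Module A E] (f : IsLocalRing.ResidueField A →ₗ[A] E) (hf : InjHull.IsInjectiveHull f) : (∀ i : ℕ, i ≠ d → Limits.IsZero (((Tor (ModuleCat.{u} A) i).obj (ModuleCat.of A E)).obj (ModuleCat.of A (IsLocalRing.ResidueField A)))) ∧ Nonempty ((((Tor (ModuleCat.{u} A) d).obj (ModuleCat.of A E)).obj (ModuleCat.of A (IsLocalRing.ResidueField A))) ≅ ModuleCat.of A (IsLocalRing.ResidueField A)) := by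
  classical
  let m := IsLocalRing.maximalIdeal A
  let κ : ModuleCat.{u} A := ModuleCat.of A (IsLocalRing.ResidueField A)
  have hκ : ∀ c ∈ m, ∀ y : κ, c • y = 0 := by
    intro c hc (y : IsLocalRing.ResidueField A)
    obtain ⟨y, rfl⟩ := IsLocalRing.residue_surjective y
    show IsLocalRing.residue A (c • y) = 0
    rw [IsLocalRing.residue_eq_zero_iff]
    exact Ideal.mul_mem_right y _ hc
  -- a system of parameters
  obtain ⟨s, hs, hcard⟩ := Ideal.exists_finset_card_eq_height_of_isNoetherianRing m
  have hcard' : s.card = d := by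
    have h1 : (m.height : WithBot ℕ∞) = d := IsLocalRing.maximalIdeal_height_eq_ringKrullDim.trans hd
    rw [← hcard] at h1
    exact_mod_cast h1
  let g : Fin d → A := fun i => (s.equivFinOfCardEq hcard').symm i
  let x : ℕ → A := fun i => if h : i < d then g ⟨i, h⟩ else 0
  have hxg : (fun i : Fin d => x i) = g := funext fun i => by simp [x]
  have hrange : Set.range (fun i : Fin d => x i) = (s : Set A) := by
    rw [hxg]
    ext a
    constructor
    · rintro ⟨i, rfl⟩
      exact ((s.equivFinOfCardEq hcard').symm i).2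
    · exact fun ha => ⟨s.equivFinOfCardEq hcard' ⟨a, ha⟩, by simp [g]⟩
  have hrad : (Ideal.span (Set.range fun i : Fin d => x i)).radical = m := by
    rw [hrange]
    refine le_antisymm ((IsLocalRing.maximalIdeal.isMaximal A).isPrime.radical_le_iff.mpr hs.1.2) ?_
    rw [← Ideal.sInf_minimalPrimes]
    refine le_sInf fun P hP => ?_
    exact hs.2 hP.1 (IsLocalRing.le_maximalIdeal hP.1.1.ne_top)
  have hxm : ∀ i, x i ∈ m := by
    intro i
    by_cases hi : i < d
    · exact hrad ▸ Ideal.le_radical (Ideal.subset_span ⟨⟨i, hi⟩, rfl⟩)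
    · simp [x, hi]
  have hreg : ∀ j, j < d → ∀ (n : ℕ) (a : A), x j ^ n * a ∈ Ideal.span (Set.range fun i : Fin j => x i ^ n) →
      a ∈ Ideal.span (Set.range fun i : Fin j => x i ^ n) := by
    intro j hj n a ha
    rcases Nat.eq_zero_or_pos n with rfl | hn
    · simpa using ha
    have hCM : LocCoh.IsCohenMacaulayModule A A :=
      (Groth.Agent.LC.isCohenMacaulayLocalRing_of_gorenstein (R := A)).supportDim_eq_depth
    have hofList : ∀ {k : ℕ} (f : Fin k → A), Ideal.ofList (List.ofFn f) = Ideal.span (Set.range f) := by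
      intro k f
      rw [Ideal.ofList]
      congr 1
      ext a; simp [List.mem_ofFn]
    have hwr := Groth.Agent.LC.isWeaklyRegular_of_sop hCM d hd (List.ofFn fun i : Fin d => x i) List.length_ofFn
      (by rw [hofList]; exact hrad)
    have hpow := EGA41Lib.isWeaklyRegular_pow d (fun i : Fin d => x i) (fun _ => n) (fun _ => hn) hwr
    have hlen : j < (List.ofFn fun i : Fin d => x i ^ n).length := by simpa using hj
    have h1 := hpow.regular_mod_prev j hlen
    have htake : (List.ofFn fun i : Fin d => x i ^ n).take j = List.ofFn (fun i : Fin j => x i ^ n) :=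
      List.ext_getElem (by simp [hj.le]) fun k h₁ h₂ => by simp
    rw [List.getElem_ofFn] at h1
    have h2 : (Ideal.Quotient.mk (Ideal.ofList ((List.ofFn fun i : Fin d => x i ^ n).take j) • ⊤ : Ideal A) a) = 0 := by
      refine (isSMulRegular_iff_right_eq_zero_of_smul.1 h1) _ ?_
      show Ideal.Quotient.mk _ (x j ^ n * a) = 0
      rw [Ideal.Quotient.eq_zero_iff_mem, smul_eq_mul, Ideal.mul_top, htake, hofList]
      exact ha
    rwa [Ideal.Quotient.eq_zero_iff_mem, smul_eq_mul, Ideal.mul_top, htake, hofList] at h2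
  -- the computation
  let T : ℕ → ℕ → ModuleCat.{u} A := fun i j =>
    ((Tor (ModuleCat.{u} A) i).obj (ModuleCat.of A (NQ x j))).obj κ
  have main : ∀ j, j ≤ d → (∀ i, i ≠ j → Limits.IsZero (T i j)) ∧ Nonempty (T j j ≅ κ) := by
    intro j
    induction j with
    | zero =>
      intro _
      let e0 : NQ x 0 ≃ₗ[A] A :=
        ((Submodule.quotEquivOfEqBot _ (by simp [cechSub])).trans
          (IsLocalization.atUnits A (Submonoid.powers (uP x 0)) (S := Localization.Away (uP x 0))
            (by rintro _ ⟨n, rfl⟩; simp [uP, IsUnit.mem_submonoid_iff])).toLinearEquiv.symm)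
      haveI hflat : Module.Flat A (NQ x 0) := Module.Flat.of_linearEquiv e0
      refine ⟨fun i hi => ?_, ?_⟩
      · obtain ⟨i, rfl⟩ := Nat.exists_eq_succ_of_ne_zero hi
        exact isZero_tor_succ_of_flat (ModuleCat.of A (NQ x 0)) κ i
      · let Q := projectiveResolution κ
        haveI hI : IsIso (KerNat.h0 (ModuleCat.of A (NQ x 0)) Q) := KerNat.isIso_h0 (ModuleCat.of A (NQ x 0)) Q
        exact ⟨Q.isoLeftDerivedObj ((MonoidalCategory.tensoringLeft (ModuleCat.{u} A)).obj _) 0 ≪≫
          (@asIso _ _ _ _ (KerNat.h0 (ModuleCat.of A (NQ x 0)) Q) hI) ≪≫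
          ((LinearEquiv.rTensor (IsLocalRing.ResidueField A) e0).trans (TensorProduct.lid A _)).toModuleIso⟩
    | succ j ih =>
      intro hj
      obtain ⟨ih0, ⟨ih1⟩⟩ := ih (by omega)
      obtain ⟨ι, π, hι, hπ, hex⟩ := exists_step x j (hreg j (by omega))
      let S : ShortComplex (ModuleCat.{u} A) := ShortComplex.mk (ModuleCat.ofHom ι) (ModuleCat.ofHom π)
        (ModuleCat.hom_ext (LinearMap.ext fun z => hex.apply_apply_eq_zero z))
      have hS : S.ShortExact :=
        { exact := (ShortComplex.ShortExact.moduleCat_exact_iff_function_exact _).2 hex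
          mono_f := (ModuleCat.mono_iff_injective _).2 hι
          epi_g := (ModuleCat.epi_iff_surjective _).2 hπ }
      have hu : IsUnit (algebraMap A (Localization.Away (uP x (j + 1))) (x j)) := by
        refine isUnit_of_dvd_unit (map_dvd _ ⟨uP x j, by rw [uP_succ]; ring⟩)
          (IsUnit.of_mul_eq_one _ (IsLocalization.Away.mul_invSelf (uP x (j + 1))))
      obtain ⟨w, hweq⟩ : ∃ w, w = algebraMap A (Localization.Away (uP x (j + 1))) (uP x j) *
          IsLocalization.Away.invSelf (uP x (j + 1)) := ⟨_, rfl⟩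
      have hw : algebraMap A (Localization.Away (uP x (j + 1))) (x j) * w = 1 := by
        rw [hweq, ← mul_assoc, ← map_mul, mul_comm (x j), ← uP_succ]
        exact IsLocalization.Away.mul_invSelf _
      have hbij : Function.Bijective fun q : MQ x j => x j • q := by
        let wl : MQ x j → MQ x j := Quotient.map' (fun z => w * z) (fun a b hab => by
          rw [Submodule.quotientRel_def] at hab ⊢
          rw [← mul_sub]
          rw [hweq]
          exact mul_mem_cechSub _ _ _ (fun i => Finset.dvd_prod_of_mem _ (Finset.mem_univ i)) _ hab)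
        refine Function.bijective_iff_has_inverse.mpr ⟨wl, fun q => ?_, fun q => ?_⟩
        · obtain ⟨z, rfl⟩ := Submodule.Quotient.mk_surjective _ q
          show Submodule.Quotient.mk (w * (x j • z)) = Submodule.Quotient.mk z
          rw [Algebra.smul_def, ← mul_assoc, mul_comm w, hw, one_mul]
        · obtain ⟨z, rfl⟩ := Submodule.Quotient.mk_surjective _ q
          show Submodule.Quotient.mk (x j • (w * z)) = Submodule.Quotient.mk z
          rw [Algebra.smul_def, ← mul_assoc, hw, one_mul]
      obtain ⟨h0, h1⟩ := tor_step hS κ (fun i => isZero_tor_of_invertible _ _ (x j) hbij (hκ _ (hxm j)) i)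
      refine ⟨fun i hi => ?_, ?_⟩
      · rcases i with _ | i
        · exact h0
        · obtain ⟨e⟩ := h1 i
          exact (ih0 i (by omega)).of_iso e
      · obtain ⟨e⟩ := h1 j
        exact ⟨e ≪≫ ih1⟩
  obtain ⟨f', hf'⟩ := Groth.Agent.LC.exists_hull_cech d hd (fun i : Fin d => x i) hrad
  obtain ⟨e, -⟩ := Groth.Agent.S0302.result A (IsLocalRing.ResidueField A) E _ f hf f' hf'
  obtain ⟨hzero, ⟨hone⟩⟩ := main d le_rfl
  let eT : ∀ i, ((Tor (ModuleCat.{u} A) i).obj (ModuleCat.of A E)).obj κ ≅ T i d := fun i =>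
    ((Tor (ModuleCat.{u} A) i).mapIso (e.toModuleIso : ModuleCat.of A E ≅ ModuleCat.of A (NQ x d))).app κ
  exact ⟨fun i hi => (hzero i hi).of_iso (eT i), ⟨eT d ≪≫ hone⟩⟩

end Groth.Agent.S0363
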