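import Groth.Statements.S0370
import Groth.Agent.RGammaI.DepthSupport
import Groth.Agent.LC.ExtDim
import Groth.Agent.H9Misc.DRingTel
-- import your own Groth.Agent.* helpers here

set_option autoImplicit false
universe u v
open CategoryTheory
attribute [local instance] HasDerivedCategory.standard
open Dual

namespace Groth.Agent.S0370

/-- A Noetherian ring admitting a finite module which, placed in degree 0, is a dualizing complex, is
Cohen–Macaulay. -/
theorem result (A : Type u) [CommRing A] [IsNoetherianRing A] (W : Type u) [AddCommGroup W] [Module A W] [Module.Finite A W] (h : Dual.IsDualizing A (Dual.inD A W)) : LocCoh.IsCohenMacaulayRing A := by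
  obtain ⟨n, hn, -, hmono, -⟩ := Groth.Agent.KFlatLib.exists_extDegree h
  have hne : ∀ i : ℤ, i ≠ 0 → Subsingleton (Dual.inD A A ⟶ (Dual.inD A W)⟦i⟧) := fun i hi => by
    obtain ⟨e⟩ := Groth.Agent.KFlatLib.exists_homRingLEquiv (Dual.inD A W) i
    haveI := Groth.Agent.H9Misc.DRingTel.subsingleton_homology_inD (A := A) W hi
    exact e.toEquiv.subsingleton
  have key : ∀ q : PrimeSpectrum A, ∃ δ : ℕ,
      LocCoh.depth (Localization.AtPrime q.asIdeal) (Localization.AtPrime q.asIdeal) = δ ∧ n q = δ := fun q => by
    obtain ⟨δ, hδ⟩ := Groth.Agent.KFlatLib.exists_depth_eq (A := Localization.AtPrime q.asIdeal)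
      (Localization.AtPrime q.asIdeal)
    refine ⟨δ, hδ, ?_⟩
    obtain ⟨-, hnt⟩ := Groth.Agent.RGammaI.localized_ext_of_depth h hn A q δ hδ
      (by
        rw [Module.support_eq_zeroLocus, Module.annihilator_eq_bot.2 inferInstance, PrimeSpectrum.mem_zeroLocus,
          SetLike.coe_subset_coe]
        exact bot_le)
    by_contra hc
    haveI := hne (n q - δ) (by omega)
    exact not_subsingleton (LocalizedModule q.asIdeal.primeCompl (Dual.inD A A ⟶ (Dual.inD A W)⟦n q - δ⟧))
      (LocalizedModule.subsingleton_iff.2 fun x => ⟨1, one_mem _, Subsingleton.elim _ _⟩)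
  refine { isCohenMacaulayLocalRing_localization := fun p hp => ?_ }
  obtain ⟨δ, hδ, hnp⟩ := key ⟨p, hp⟩
  refine { supportDim_eq_depth := ?_ }
  rw [hδ]
  refine le_antisymm ?_ (hδ ▸ Groth.Agent.LC.depth_le_supportDim (R := Localization.AtPrime p)
    (M := Localization.AtPrime p))
  rw [Module.supportDim_self_eq_ringKrullDim]
  refine iSup_le fun l => ?_
  let c : PrimeSpectrum (Localization.AtPrime p) → PrimeSpectrum A :=
    PrimeSpectrum.comap (algebraMap A (Localization.AtPrime p))
  have hc : StrictMono c := by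
    intro x y hxy
    refine lt_of_le_of_ne (Ideal.comap_mono hxy.le) fun e => hxy.ne ?_
    exact PrimeSpectrum.localization_comap_injective (Localization.AtPrime p) p.primeCompl e
  have h1 : ∀ k : ℕ, ∀ hk : k < l.length + 1, (k : ℤ) ≤ n (c (l ⟨k, hk⟩)) := by
    intro k
    induction k with
    | zero =>
      intro hk
      obtain ⟨δ', -, hq⟩ := key (c (l ⟨0, hk⟩))
      omega
    | succ k ih =>
      intro hk
      have h2 := ih (by omega)
      have h3 := hmono (hc (l.step ⟨k, by omega⟩))
      simp only [Fin.castSucc_mk, Fin.succ_mk] at h3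
      push_cast
      omega
  have h2 := h1 l.length (by omega)
  have h3 : c (l ⟨l.length, by omega⟩) ≤ ⟨p, hp⟩ := by
    intro x hx
    by_contra hxp
    exact (l ⟨l.length, by omega⟩).isPrime.ne_top (Ideal.eq_top_of_isUnit_mem _ hx
      (IsLocalization.map_units (Localization.AtPrime p) (⟨x, hxp⟩ : p.primeCompl)))
  have h4 := hmono.monotone h3
  exact_mod_cast (show l.length ≤ δ by omega)


end Groth.Agent.S0370
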