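import Groth.Statements.S0372
import Groth.Agent.RGammaI.ExtRange
-- import your own Groth.Agent.* helpers here

set_option autoImplicit false
universe u v
open CategoryTheory
attribute [local instance] HasDerivedCategory.standard
open Dual

namespace Groth.Agent.S0372

/-- If a Noetherian ring has a dualizing complex then the set of primes at which the localization is
Cohen–Macaulay is open and dense in the prime spectrum. -/
theorem result (A : Type u) [CommRing A] [IsNoetherianRing A] (ω : Dual.D A) (hω : Dual.IsDualizing A ω) : IsOpen {p : PrimeSpectrum A | LocCoh.IsCohenMacaulayLocalRing (Localization.AtPrime p.asIdeal)} ∧ Dense {p : PrimeSpectrum A | LocCoh.IsCohenMacaulayLocalRing (Localization.AtPrime p.asIdeal)} := by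
  have key : ∀ p : PrimeSpectrum A, LocCoh.IsCohenMacaulayLocalRing (Localization.AtPrime p.asIdeal) ↔
      (Subsingleton (LocalizedModule p.asIdeal.primeCompl A) ∨
        LocCoh.IsCohenMacaulayModule (Localization.AtPrime p.asIdeal) (LocalizedModule p.asIdeal.primeCompl A)) := by
    intro p
    have hsub : ¬ Subsingleton (LocalizedModule p.asIdeal.primeCompl A) :=
      not_subsingleton (Localization.AtPrime p.asIdeal)
    exact ⟨fun h => Or.inr h.supportDim_eq_depth, fun h => { supportDim_eq_depth := h.resolve_left hsub }⟩
  simp only [key]
  refine ⟨Groth.Agent.RGammaI.isOpen_cm_locus hω A, fun q => ?_⟩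
  obtain ⟨P, hle, -, hcm⟩ := Groth.Agent.RGammaI.exists_cm_le A q (by
    rw [Module.support_eq_zeroLocus, Module.annihilator_eq_bot.2 inferInstance, PrimeSpectrum.mem_zeroLocus,
      SetLike.coe_subset_coe]
    exact bot_le)
  exact closure_mono (s := ({P} : Set (PrimeSpectrum A))) (Set.singleton_subset_iff.2 (Or.inr hcm)) (specializes_iff_mem_closure.1 ((PrimeSpectrum.le_iff_specializes P q).1 hle))


end Groth.Agent.S0372
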