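import Groth.Statements.S0413
-- import your own Groth.Agent.* helpers here
import Groth.Agent.H4CI.SepSlice

set_option linter.style.haveILetI false
set_option backward.isDefEq.respectTransparency false
set_option backward.isDefEq.respectTransparency.types false

set_option autoImplicit false
universe u
open FlatMor

namespace Groth.Agent.S0413

open AlgebraicGeometry CategoryTheory Limits in
/-- For a smooth morphism and a point that is closed in its fibre with separable residue field
extension, there is a locally closed subscheme through the point which is étale over the base and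
meets the fibre only in that point. -/
theorem result {X S : Scheme.{u}} (f : X ⟶ S) [Smooth f] (x : X)
    (hcl : IsClosed ({f.asFiber x} : Set ↑(f.fiber (f x))))
    (hsep : @Algebra.IsSeparable (S.residueField (f x)) (X.residueField x) _ _ (f.residueFieldMap x).hom.toAlgebra) :
    ∃ (Z : Scheme.{u}) (i : Z ⟶ X) (z : Z), IsImmersion i ∧ Etale (i ≫ f) ∧ i z = x ∧
      ∀ z' : ↑Z, f (i z') = f x → z' = z := by
  obtain ⟨V, hV, hxV, -⟩ := exists_isAffineOpen_mem_and_subset (x := f x) (U := ⊤) trivial
  obtain ⟨U, hU, hxU, hUV⟩ := exists_isAffineOpen_mem_and_subset (x := x) (U := f ⁻¹ᵁ V) hxV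
  have hle : U ≤ f ⁻¹ᵁ V := hUV
  let A := Γ(S, V)
  let B := Γ(X, U)
  let O := X.presheaf.stalk x
  let κ := X.residueField x
  let Os := S.presheaf.stalk (f x)
  let κs := S.residueField (f x)
  letI : Algebra A B := (f.appLE V U hle).hom.toAlgebra
  haveI : Algebra.Smooth A B := f.smooth_appLE hV hU hle
  letI : Algebra B O := (X.presheaf.germ U x hxU).hom.toAlgebra
  letI : Algebra A O := (f.appLE V U hle ≫ X.presheaf.germ U x hxU).hom.toAlgebra
  haveI : IsScalarTower A B O := IsScalarTower.of_algebraMap_eq fun a => rfl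
  letI : Algebra O κ := (X.residue x).hom.toAlgebra
  letI : Algebra A κ := ((X.residue x).hom.comp (f.appLE V U hle ≫ X.presheaf.germ U x hxU).hom).toAlgebra
  haveI : IsScalarTower A O κ := IsScalarTower.of_algebraMap_eq fun a => rfl
  let q : Ideal B := (hU.primeIdealOf ⟨x, hxU⟩).asIdeal
  haveI : q.IsPrime := (hU.primeIdealOf ⟨x, hxU⟩).2
  haveI : IsLocalization.AtPrime O q := hU.isLocalization_stalk ⟨x, hxU⟩
  -- the residue field is formally unramified over the base
  letI : Algebra A Os := (S.presheaf.germ V (f x) hxV).hom.toAlgebra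
  haveI : IsLocalization.AtPrime Os (hV.primeIdealOf ⟨f x, hxV⟩).asIdeal := hV.isLocalization_stalk ⟨f x, hxV⟩
  letI : Algebra A κs := ((S.residue (f x)).hom.comp (S.presheaf.germ V (f x) hxV).hom).toAlgebra
  haveI : Algebra.FormallyUnramified A Os :=
    Algebra.FormallyUnramified.of_isLocalization (hV.primeIdealOf ⟨f x, hxV⟩).asIdeal.primeCompl
  haveI : Algebra.FormallyUnramified A κs :=
    Algebra.FormallyUnramified.of_surjective (A := Os)
      { (S.residue (f x)).hom with commutes' := fun a => rfl } (S.residue_surjective (f x))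
  letI : Algebra κs κ := (f.residueFieldMap x).hom.toAlgebra
  haveI : Algebra.IsSeparable κs κ := hsep
  haveI : IsScalarTower A κs κ := IsScalarTower.of_algebraMap_eq fun a => by
    show X.residue x (X.presheaf.germ U x hxU (f.appLE V U hle a)) =
      f.residueFieldMap x (S.residue (f x) (S.presheaf.germ V (f x) hxV a))
    rw [← CommRingCat.comp_apply (S.residue (f x)), Scheme.residue_residueFieldMap, CommRingCat.comp_apply,
      Scheme.Hom.appLE, CommRingCat.comp_apply, X.presheaf.germ_res_apply, Scheme.Hom.germ_stalkMap_apply]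
  haveI : Algebra.FormallyUnramified κs κ := Algebra.FormallyUnramified.of_isSeparable κs κ
  haveI : Algebra.FormallyUnramified A κ := Algebra.FormallyUnramified.comp A κs κ
  obtain ⟨g, I, h, Q, hQ, het, hQc, huniq⟩ := Groth.Agent.H4CI.SepSlice.exists_slice (A := A) (B := B) (O := O)
    (κ := κ) q (X.residue_surjective x) IsLocalRing.ker_residue
  let φ₁ : B →+* Localization.Away g := algebraMap B _
  let φ₂ : Localization.Away g →+* Localization.Away g ⧸ I := Ideal.Quotient.mk I
  let φ₃ : Localization.Away g ⧸ I →+* Localization.Away h := algebraMap _ _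
  let φ : B →+* Localization.Away h := φ₃.comp (φ₂.comp φ₁)
  let i : Spec (CommRingCat.of (Localization.Away h)) ⟶ X := Spec.map (CommRingCat.ofHom φ) ≫ hU.fromSpec
  have hφ : Spec.map (CommRingCat.ofHom φ) = Spec.map (CommRingCat.ofHom φ₃) ≫ Spec.map (CommRingCat.ofHom φ₂) ≫
      Spec.map (CommRingCat.ofHom φ₁) := by
    rw [← Spec.map_comp, ← Spec.map_comp]
    rfl
  haveI : IsOpenImmersion (Spec.map (CommRingCat.ofHom φ₁)) := IsOpenImmersion.of_isLocalization g
  haveI : IsOpenImmersion (Spec.map (CommRingCat.ofHom φ₃)) := IsOpenImmersion.of_isLocalization h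
  haveI : IsClosedImmersion (Spec.map (CommRingCat.ofHom φ₂)) :=
    IsClosedImmersion.spec_of_surjective _ Ideal.Quotient.mk_surjective
  haveI : IsImmersion (Spec.map (CommRingCat.ofHom φ)) := by rw [hφ]; infer_instance
  have hcomp : i ≫ f = Spec.map (CommRingCat.ofHom (algebraMap A (Localization.Away h))) ≫ hV.fromSpec := by
    rw [show algebraMap A (Localization.Away h) = φ.comp (algebraMap A B) from RingHom.ext fun a => by
      show _ = φ₃ (φ₂ (φ₁ (algebraMap A B a)))
      rw [IsScalarTower.algebraMap_apply A (Localization.Away g ⧸ I) (Localization.Away h),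
        IsScalarTower.algebraMap_apply A (Localization.Away g) (Localization.Away g ⧸ I),
        IsScalarTower.algebraMap_apply A B (Localization.Away g)]
      rfl]
    rw [CommRingCat.ofHom_comp, Spec.map_comp, Category.assoc, Category.assoc, ← hV.SpecMap_appLE_fromSpec f hU hle]
    rfl
  have hiQ : ∀ P : Spec (CommRingCat.of (Localization.Away h)),
      i P = hU.fromSpec ⟨P.asIdeal.comap φ, inferInstance⟩ := fun P => rfl
  have hfs : ∀ P : Spec (CommRingCat.of (Localization.Away h)),
      hV.fromSpec (PrimeSpectrum.comap (algebraMap A (Localization.Away h)) P) = f (i P) := fun P => by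
    rw [← Scheme.Hom.comp_apply i f, hcomp]
    rfl
  refine ⟨_, i, ⟨Q, hQ⟩, inferInstance, ?_, ?_, fun P hP => ?_⟩
  · rw [hcomp]
    haveI : Etale (Spec.map (CommRingCat.ofHom (algebraMap A (Localization.Away h)))) :=
      (HasRingHomProperty.Spec_iff (P := @Etale)).2 (RingHom.etale_algebraMap.2 het)
    infer_instance
  · rw [hiQ]
    exact (congrArg hU.fromSpec (PrimeSpectrum.ext hQc)).trans (hU.fromSpec_primeIdealOf ⟨x, hxU⟩)
  · have h1 : hV.fromSpec (PrimeSpectrum.comap (algebraMap A (Localization.Away h)) P) =
        hV.fromSpec (PrimeSpectrum.comap (algebraMap A (Localization.Away h)) ⟨Q, hQ⟩) := by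
      refine (hfs P).trans (hP.trans ((congrArg f ?_).symm.trans (hfs ⟨Q, hQ⟩).symm))
      exact (congrArg hU.fromSpec (PrimeSpectrum.ext hQc)).trans (hU.fromSpec_primeIdealOf ⟨x, hxU⟩)
    have h2 := congrArg PrimeSpectrum.asIdeal (hV.fromSpec.isOpenEmbedding.injective h1)
    refine PrimeSpectrum.ext (huniq P.asIdeal inferInstance (h2.trans ?_))
    show Q.comap _ = q.comap (algebraMap A B)
    rw [← hQc, Ideal.comap_comap]
    rfl

end Groth.Agent.S0413
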