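import Groth.Statements.S0420
import Groth.Agent.GeomLoci.NearPoint
-- import your own Groth.Agent.* helpers here

set_option autoImplicit false
universe u
open FlatMor

namespace Groth.Agent.S0420

open AlgebraicGeometry CategoryTheory Limits in
/-- For a morphism of finite type to an irreducible scheme whose generic fibre is geometrically
connected, all fibres over some nonempty open of the target are geometrically connected. -/
theorem result {X Y : Scheme.{u}} (f : X ⟶ Y) [IrreducibleSpace ↑Y] [LocallyOfFiniteType f] [QuasiCompact f]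
    (h : GeometricallyConnected (f.fiberToSpecResidueField (genericPoint ↑Y))) :
    ∃ V : Y.Opens, (V : Set ↑Y).Nonempty ∧ GeometricallyConnected (f ∣_ V) := by
  obtain ⟨V, hV, hgV, hcount⟩ := GeomLoci.exists_nGeom_eq_nhds f (genericPoint ↑Y)
  let W : Y.Opens := ⟨V, hV⟩
  refine ⟨W, ⟨_, hgV⟩, GeomLoci.geometricallyConnected_of_nGeom _ fun v => ?_⟩
  have hmem : W.ι v ∈ closure {genericPoint ↑Y} ∩ V :=
    ⟨by rw [genericPoint_closure]; trivial, W.range_ι.le ⟨v, rfl⟩⟩
  exact ((Triage.GeomCount.nGeom_baseChange f _ _ _ (isPullback_morphismRestrict f W).flip v).2.trans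
    ((hcount _ hmem).2)).trans (GeomLoci.nGeomConnComp_eq_one f _)

end Groth.Agent.S0420
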