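import Groth.Statements.S0422
import Groth.Agent.EssFPDescent.Model
import Groth.Agent.EssFPDescent.Cancel
import Groth.Agent.EssFPDescent.MapIdeal
import Groth.Agent.LocalCrit.Fibre
-- import your own Groth.Agent.* helpers here

set_option autoImplicit false
universe u
open FlatMor

namespace Groth.Agent.S0422

open TensorProduct in
/-- Fibrewise criterion of flatness modulo a locally nilpotent ideal: let R → S be of finite type, S' an
S-algebra which is of finite presentation over R, I an ideal of R all of whose elements are
nilpotent, and M a finitely presented S'-module which is flat over R and such that M/IM is flat over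
S/IS. Then M is flat over S. (The published statement also asserts flatness over R of suitable
localizations of S; that part is not stated here.) -/
theorem result {R S S' M : Type u} [CommRing R] [CommRing S] [CommRing S'] [Algebra R S] [Algebra S S'] [Algebra R S'] [IsScalarTower R S S']
    [Algebra.FiniteType R S] [Algebra.FinitePresentation R S'] (I : Ideal R) (hI : ∀ a ∈ I, IsNilpotent a)
    [AddCommGroup M] [Module S' M] [Module S M] [Module R M] [IsScalarTower S S' M] [IsScalarTower R S M]
    [Module.FinitePresentation S' M] [Module.Flat R M]
    (h : Module.Flat (S ⧸ I.map (algebraMap R S)) ((S ⧸ I.map (algebraMap R S)) ⊗[S] M)) : Module.Flat S M := by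
  classical
  set 𝔞 := I.map (algebraMap R S)
  haveI := h
  have hJ : ∀ J : Ideal S, 𝔞 ≤ J → Function.Injective (J.subtype.rTensor M) := fun J hle =>
    LocalCrit.rTensor_injective_of_smul_le 𝔞 M (LocalCrit.rTensor_map_injective _) (LocalCrit.keepsInjective_of_flat 𝔞 M)
      J (by rw [Ideal.smul_eq_mul, Ideal.mul_top]; exact hle)
  haveI : Algebra.FinitePresentation S S' := Algebra.FinitePresentation.of_restrict_scalars_finitePresentation R S S'
  refine Module.flat_of_isLocalized_maximal (R := S) (S := S') M (fun P _ => LocalizedModule P.primeCompl M)
    (fun P _ => LocalizedModule.mkLinearMap P.primeCompl M) fun P hP => ?_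
  let q : Ideal S := P.comap (algebraMap S S')
  haveI : q.IsPrime := Ideal.IsPrime.comap _
  let S₁ := Localization.AtPrime q
  let S₂ := Localization.AtPrime P
  letI : Algebra S₁ S₂ := (Localization.localRingHom q P (algebraMap S S') rfl).toAlgebra
  haveI : IsScalarTower S S₁ S₂ := IsScalarTower.of_algebraMap_eq fun x => by
    rw [IsScalarTower.algebraMap_apply S S' S₂]
    exact (Localization.localRingHom_to_map q P (algebraMap S S') rfl x).symm
  haveI : IsLocalHom (algebraMap S₁ S₂) := Localization.isLocalHom_localRingHom q P (algebraMap S S') rfl
  let N := LocalizedModule P.primeCompl M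
  letI : Module S₁ N := Module.compHom N (algebraMap S₁ S₂)
  haveI : IsScalarTower S₁ S₂ N := IsScalarTower.of_algebraMap_smul fun r x => rfl
  haveI : IsScalarTower S S₁ N := IsScalarTower.of_algebraMap_smul fun r x => by
    show algebraMap S₁ S₂ (algebraMap S S₁ r) • x = r • x
    rw [← IsScalarTower.algebraMap_apply, IsScalarTower.algebraMap_apply S S' S₂, algebraMap_smul, algebraMap_smul]
  haveI : Module.FinitePresentation S₂ N := inferInstance
  have hq : 𝔞 ≤ q := Ideal.map_le_iff_le_comap.2 fun a ha => by
    obtain ⟨k, hk⟩ := hI a ha
    refine Ideal.IsPrime.mem_of_pow_mem (inferInstance : q.IsPrime) k ?_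
    rw [← map_pow, hk, map_zero]
    exact zero_mem _
  have h1 : Function.Injective (q.subtype.rTensor N) :=
    EssFPDescent.rTensor_injective_of_killed q P.primeCompl (LocalizedModule.mkLinearMap P.primeCompl M)
      fun y hy => ⟨1, one_mem _, by
        rw [one_smul]
        exact (LinearMap.lTensor_inj_iff_rTensor_inj _ _).2 (hJ q hq) (hy.trans (map_zero _).symm)⟩
  have h2 := EssFPDescent.rTensor_map_injective_of_injective (S := S₁) q h1
  rw [Localization.AtPrime.map_eq_maximalIdeal] at h2
  haveI : Module.Flat S₁ N := EssFPDescent.flat_of_essFP
    (EssFPDescent.isEssFinitePresentation_of_comp (R := S) (S := S₁) (S' := S₂)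
      ⟨S, inferInstance, inferInstance, inferInstance, inferInstance, q.primeCompl, inferInstance, inferInstance⟩
      ⟨S', inferInstance, inferInstance, inferInstance, inferInstance, P.primeCompl, inferInstance, inferInstance⟩)
    N fun y hy => (LinearMap.lTensor_inj_iff_rTensor_inj _ _).2 h2 (hy.trans (map_zero _).symm)
  exact Module.Flat.trans S S₁ N

end Groth.Agent.S0422
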