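import Groth.Agent.H4RG.FlatNhd
import Groth.Statements.S1237
-- import your own Groth.Agent.* helpers here

set_option autoImplicit false
universe u
open FlatMor

namespace Groth.Agent.S1237

/-- Ring form, X = Spec S and S = Spec R affine, where local finiteness of the weakly associated points
means finiteness: let R be a ring with finitely many weakly associated primes, S a finitely
presented R-algebra and N a finite S-module. Then the set U of primes q of S with N_q flat over R is
open in Spec S, and every q in U has a basic open neighbourhood D(g) on which N becomes finitely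
presented over S_g and flat over R. -/
theorem result {R S : Type u} [CommRing R] [CommRing S] [Algebra R S] [Algebra.FinitePresentation R S]
    (hR : (FlatCA.weakAss R R).Finite)
    (N : Type u) [AddCommGroup N] [Module S N] [Module R N] [IsScalarTower R S N] [Module.Finite S N] :
    IsOpen {q : PrimeSpectrum S | FlatCA.FlatAt R q.asIdeal N} ∧
    ∀ (q : Ideal S) [q.IsPrime], FlatCA.FlatAt R q N → ∃ g : S, g ∉ q ∧
      Module.FinitePresentation (Localization.Away g) (LocalizedModule (Submonoid.powers g) N) ∧
      Module.Flat R (LocalizedModule (Submonoid.powers g) N) := by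
  have key : ∀ (q : Ideal S) [q.IsPrime], FlatCA.FlatAt R q N → ∃ g : S, g ∉ q ∧
      Module.FinitePresentation (Localization.Away g) (LocalizedModule (Submonoid.powers g) N) ∧
      Module.Flat R (LocalizedModule (Submonoid.powers g) N) := by
    intro q _ hq
    obtain ⟨c, π, hπ⟩ := Module.Finite.exists_fin' S N
    obtain ⟨g, hg, G, hG, hk, hfl⟩ := Groth.Agent.H4RG.exists_nhd_of_weakAss hR N π hπ q hq
    refine ⟨g, hg, Groth.Agent.H4RG.fp_localized_of_relations π hG hπ (Submonoid.powers g) fun k hk' => ?_, hfl⟩
    obtain ⟨i, hi⟩ := hk k hk'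
    exact ⟨g ^ i, ⟨i, rfl⟩, hi⟩
  refine ⟨isOpen_iff_forall_mem_open.2 fun q hq => ?_, key⟩
  obtain ⟨g, hg, -, hfl⟩ := key q.asIdeal hq
  refine ⟨PrimeSpectrum.basicOpen g, fun q' hq' => ?_, PrimeSpectrum.isOpen_basicOpen, hg⟩
  show Module.Flat R (LocalizedModule q'.asIdeal.primeCompl N)
  rw [Groth.Agent.FlatModel.flat_localized_iff q'.asIdeal.primeCompl (LocalizedModule.mkLinearMap _ N)]
  intro J y hy
  obtain ⟨_, ⟨i, rfl⟩, hi⟩ := (Groth.Agent.FlatModel.flat_localized_iff (Submonoid.powers g)
    (LocalizedModule.mkLinearMap (Submonoid.powers g) N)).1 hfl J y hy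
  exact ⟨g ^ i, fun h => hq' (q'.2.mem_of_pow_mem i h), hi⟩

end Groth.Agent.S1237
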