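import Groth.Statements.S0428
import Groth.Agent.S1237
import Groth.Agent.H4RG.FlatFP
import Groth.Agent.FlatModel.Local

set_option autoImplicit false
universe u
open FlatMor

namespace Groth.Agent.S0428

/-- Let R be a domain, S an R-algebra of finite type and M a finite S-module. Then the set of primes q
of S such that the localization M_q is flat over R is open in Spec S. (The published statement
assumes only that R has finitely many weakly associated primes, which a domain has, and also
describes the module over principal opens inside this set; neither refinement is stated here.) -/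
theorem result {R S M : Type u} [CommRing R] [IsDomain R] [CommRing S] [Algebra R S] [Algebra.FiniteType R S]
    [AddCommGroup M] [Module S M] [Module R M] [IsScalarTower R S M] [Module.Finite S M] :
    IsOpen {q : PrimeSpectrum S | Module.Flat R (LocalizedModule q.asIdeal.primeCompl M)} := by
  obtain ⟨n, π, hπ⟩ := (Algebra.FiniteType.iff_quotient_mvPolynomial'' (R := R) (S := S)).1 inferInstance
  letI : Algebra (MvPolynomial (Fin n) R) S := π.toRingHom.toAlgebra
  haveI : IsScalarTower R (MvPolynomial (Fin n) R) S := IsScalarTower.of_algebraMap_eq fun r => (π.commutes r).symm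
  letI : Module (MvPolynomial (Fin n) R) M := Module.compHom M π.toRingHom
  haveI : IsScalarTower (MvPolynomial (Fin n) R) S M := IsScalarTower.of_algebraMap_smul fun _ _ => rfl
  haveI : IsScalarTower R (MvPolynomial (Fin n) R) M := IsScalarTower.of_algebraMap_smul fun r m => by
    show π (algebraMap R (MvPolynomial (Fin n) R) r) • m = r • m
    rw [π.commutes, IsScalarTower.algebraMap_smul]
  haveI : Module.Finite (MvPolynomial (Fin n) R) S := Module.Finite.of_surjective (Algebra.linearMap _ S) hπ
  haveI : Module.Finite (MvPolynomial (Fin n) R) M := Module.Finite.trans S M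
  have hopen := (Groth.Agent.S1237.result (R := R) (S := MvPolynomial (Fin n) R)
    (Groth.Agent.H4RG.weakAss_finite_of_isDomain R) M).1
  convert hopen.preimage (PrimeSpectrum.continuous_comap π.toRingHom) using 1
  ext q
  show Module.Flat R _ ↔ Module.Flat R _
  rw [Groth.Agent.FlatModel.flat_localized_iff q.asIdeal.primeCompl (LocalizedModule.mkLinearMap _ M),
    Groth.Agent.FlatModel.flat_localized_iff (PrimeSpectrum.comap π.toRingHom q).asIdeal.primeCompl (LocalizedModule.mkLinearMap
      (PrimeSpectrum.comap π.toRingHom q).asIdeal.primeCompl M)]
  refine forall_congr' fun J => forall_congr' fun y => imp_congr_right fun h0 => ?_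
  clear h0
  have key : ∀ (s : MvPolynomial (Fin n) R), s • y = π s • y := fun s => by
    induction y using TensorProduct.induction_on with
    | zero => simp
    | tmul m j => rfl
    | add a b ha hb => rw [smul_add, ha, hb]; exact (smul_add (π s) a b).symm
  constructor
  · rintro ⟨t, ht, h⟩
    obtain ⟨s, rfl⟩ := hπ t
    exact ⟨s, ht, by rw [key, h]⟩
  · rintro ⟨s, hs, h⟩
    exact ⟨π s, hs, by rw [← key, h]⟩

end Groth.Agent.S0428
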