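import Groth.Agent.S0406
import Groth.Statements.S0429
-- import your own Groth.Agent.* helpers here

set_option autoImplicit false
universe u
open FlatMor

namespace Groth.Agent.S0429

open AlgebraicGeometry CategoryTheory Limits in
/-- A flat morphism locally of finite type to an integral scheme is locally of finite presentation. -/
theorem result {X S : Scheme.{u}} (f : X ⟶ S) [IsIntegral S] [Flat f] [LocallyOfFiniteType f] : LocallyOfFinitePresentation f := by
  refine ⟨fun {U} hU {V} hV e => ?_⟩
  by_cases hne : Nonempty U
  · haveI : IsDomain Γ(S, U) := IsIntegral.component_integral U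
    have hft := Scheme.Hom.finiteType_appLE f hU hV e
    have hfl := Scheme.Hom.flat_appLE f hU hV e
    letI := (f.appLE U V e).hom.toAlgebra
    haveI : Algebra.FiniteType Γ(S, U) Γ(X, V) := hft
    haveI : Module.Flat Γ(S, U) Γ(X, V) := hfl
    exact Groth.Agent.S0406.result
  · have hV0 : V = ⊥ := TopologicalSpace.Opens.ext (Set.eq_empty_iff_forall_notMem.2 fun x hx => hne ⟨⟨f.base x, e hx⟩⟩)
    subst hV0
    haveI : Subsingleton Γ(X, ⊥) := by infer_instance
    refine RingHom.FinitePresentation.of_surjective _ (fun x => ⟨0, Subsingleton.elim _ _⟩) ?_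
    have h : RingHom.ker (f.appLE U ⊥ e).hom = ⊤ := eq_top_iff.2 fun x _ => Subsingleton.elim _ _
    rw [h]
    exact ⟨{1}, by simp⟩

end Groth.Agent.S0429
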