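import Groth.Statements.S0446
-- import your own Groth.Agent.* helpers here
import Groth.Agent.H4RG.EtaleProjective
import Groth.Agent.H4RG.ElemDevScheme
import Groth.Agent.FlatLocus.Basic

set_option autoImplicit false
universe u
open FlatMor

namespace Groth.Agent.S0446

set_option backward.isDefEq.respectTransparency false in
set_option backward.isDefEq.respectTransparency.types false in
open AlgebraicGeometry CategoryTheory Limits in
/-- For a morphism locally of finite presentation which is flat at a point x, there are affine étale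
neighbourhoods (X', x') of (X, x) and (S', s') of (S, f x) with trivial residue field extensions and
a compatible morphism X' → S' such that the ring of global sections of X' is a projective module
over that of S'. -/
theorem result {X S : Scheme.{u}} (f : X ⟶ S) [LocallyOfFinitePresentation f] (x : X) (hx : (f.stalkMap x).hom.Flat) :
    ∃ (X' S' : Scheme.{u}) (g : X' ⟶ X) (e : S' ⟶ S) (f' : X' ⟶ S') (x' : X'),
      IsAffine X' ∧ IsAffine S' ∧ Etale g ∧ Etale e ∧ g ≫ f = f' ≫ e ∧ g x' = x ∧ e (f' x') = f x ∧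
      Function.Surjective (g.residueFieldMap x') ∧ Function.Surjective (e.residueFieldMap (f' x')) ∧
      @Module.Projective Γ(S', ⊤) _ Γ(X', ⊤) _ (f'.appTop).hom.toAlgebra.toModule := by
  obtain ⟨V, hV, hxV, -⟩ := exists_isAffineOpen_mem_and_subset (x := f x) (U := (⊤ : S.Opens)) trivial
  let W : X.Opens := f ⁻¹ᵁ V ⊓ ⟨_, Groth.Agent.FlatLocus.isOpen_flat_locus f⟩
  obtain ⟨U, hU, hxU, hUW⟩ := exists_isAffineOpen_mem_and_subset (x := x) (U := W) ⟨hxV, hx⟩
  have hUV : U ≤ f ⁻¹ᵁ V := fun z hz => (hUW hz).1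
  let φ := f.appLE V U hUV
  let R : Type u := Γ(S, V)
  let B : Type u := Γ(X, U)
  letI : Algebra R B := φ.hom.toAlgebra
  haveI : Algebra.FinitePresentation R B := f.finitePresentation_appLE hV hU hUV
  have hsq : Spec.map φ ≫ hV.fromSpec = hU.fromSpec ≫ f := IsAffineOpen.SpecMap_appLE_fromSpec f hV hU hUV
  have hstalk : ∀ Q : PrimeSpectrum B, Module.Flat R (LocalizedModule Q.asIdeal.primeCompl B) := by
    intro Q
    refine (Groth.Agent.FlatLocus.stalkMap_flat_SpecMap φ Q).1 ?_
    have hm : hU.fromSpec Q ∈ (U : Set X) := by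
      rw [← hU.range_fromSpec]
      exact ⟨Q, rfl⟩
    have h1 : (f.stalkMap (hU.fromSpec Q)).hom.Flat := (hUW hm).2
    have h2 : ((hU.fromSpec ≫ f).stalkMap Q).hom.Flat := by
      rw [Scheme.Hom.stalkMap_comp]
      exact (Groth.Agent.FlatLocus.flat_comp_isIso _ _).2 h1
    rw [← hsq, Scheme.Hom.stalkMap_comp] at h2
    have hiso : ∀ z : Spec Γ(S, V), IsIso (hV.fromSpec.stalkMap z) := fun z => inferInstance
    exact (@Groth.Agent.FlatLocus.flat_isIso_comp _ _ _ _ (hiso _) _).1 h2
  haveI : Module.Flat R B := Module.flat_of_isLocalized_maximal B B _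
    (fun P _ => LocalizedModule.mkLinearMap P.primeCompl B) fun P hP => hstalk ⟨P, hP.isPrime⟩
  let q : PrimeSpectrum B := hU.primeIdealOf ⟨x, hxU⟩
  have hqx : hU.fromSpec q = x := hU.fromSpec_primeIdealOf ⟨x, hxU⟩
  let p : PrimeSpectrum R := PrimeSpectrum.comap (algebraMap R B) q
  haveI : q.asIdeal.LiesOver p.asIdeal := ⟨rfl⟩
  have hpV : hV.fromSpec p = f x := by
    refine ((congrArg f hqx).symm.trans ?_).symm
    exact congr($(hsq) q).symm
  obtain ⟨R₁, S₁, _, _, _, _, _, _, _, _, p₁, q₁, hp₁, hq₁, hR₁, hS₁, hover, hproj⟩ :=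
    Groth.Agent.H4RG.exists_etale_projective (R := R) (S := B) p.asIdeal q.asIdeal
  let x' : PrimeSpectrum S₁ := ⟨q₁, hq₁⟩
  let s' : PrimeSpectrum R₁ := ⟨p₁, hp₁⟩
  have hg := Groth.Agent.H4RG.isEtaleNbhd_of_isEtaleNhd q x' hS₁ hU.fromSpec x hqx
  have he := Groth.Agent.H4RG.isEtaleNbhd_of_isEtaleNhd p s' hR₁ hV.fromSpec (f x) hpV
  let f' : Spec (CommRingCat.of S₁) ⟶ Spec (CommRingCat.of R₁) := Spec.map (CommRingCat.ofHom (algebraMap R₁ S₁))
  have hx' : f' x' = s' := PrimeSpectrum.ext hover.over.symm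
  have hproj' : @Module.Projective Γ(Spec (CommRingCat.of R₁), ⊤) _ Γ(Spec (CommRingCat.of S₁), ⊤) _
      (f'.appTop).hom.toAlgebra.toModule := by
    refine Groth.Agent.H4RG.projective_of_square (algebraMap R₁ S₁) (f'.appTop).hom
      (Scheme.ΓSpecIso (CommRingCat.of R₁)).commRingCatIsoToRingEquiv.symm
      (Scheme.ΓSpecIso (CommRingCat.of S₁)).commRingCatIsoToRingEquiv.symm (fun a => ?_) ?_
    · exact congr($(Scheme.ΓSpecIso_inv_naturality (CommRingCat.ofHom (algebraMap R₁ S₁))).hom a)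
    · rw [show (algebraMap R₁ S₁).toAlgebra = ‹Algebra R₁ S₁› from Algebra.algebra_ext _ _ fun _ => rfl]
      exact hproj
  refine ⟨Spec (CommRingCat.of S₁), Spec (CommRingCat.of R₁), _, _, f', x', inferInstance, inferInstance, hg.etale, he.etale,
    ?_, hg.base_eq, (congrArg _ hx').trans he.base_eq, hg.residue_bijective.2, hx'.symm ▸ he.residue_bijective.2, hproj'⟩
  rw [Category.assoc, ← hsq, ← Spec.map_comp_assoc, ← Spec.map_comp_assoc]
  congr 2
  ext r
  show algebraMap B S₁ (algebraMap R B r) = algebraMap R₁ S₁ (algebraMap R R₁ r)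
  rw [← IsScalarTower.algebraMap_apply, ← IsScalarTower.algebraMap_apply]

end Groth.Agent.S0446
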