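import Groth.Statements.S0447
import Groth.Agent.S1219
import Groth.Agent.S1223
-- import your own Groth.Agent.* helpers here

set_option autoImplicit false
set_option backward.isDefEq.respectTransparency.types false
set_option linter.style.haveILetI false
universe u
open FlatMor

namespace Groth.Agent.S0447

open AlgebraicGeometry CategoryTheory Limits in
/-- For a flat morphism of finite presentation between affine schemes whose fibres are geometrically
integral, the coordinate ring of the source is a projective module over that of the target. -/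
theorem result {X S : Scheme.{u}} (f : X ⟶ S) [IsAffine X] [IsAffine S] [Flat f] [LocallyOfFinitePresentation f] [GeometricallyIntegral f] :
    @Module.Projective Γ(S, ⊤) _ Γ(X, ⊤) _ (f.appTop).hom.toAlgebra.toModule := by
  letI : Algebra Γ(S, ⊤) Γ(X, ⊤) := (f.appTop).hom.toAlgebra
  have hfl : (f.appTop).hom.Flat := HasRingHomProperty.appTop @Flat f inferInstance
  haveI : Module.Flat Γ(S, ⊤) Γ(X, ⊤) := hfl
  have hfp : (f.appTop).hom.FinitePresentation := HasRingHomProperty.appTop @LocallyOfFinitePresentation f inferInstance
  haveI : Algebra.FinitePresentation Γ(S, ⊤) Γ(X, ⊤) := hfp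
  have hgi : FlatCA.GeomIntegralFibres Γ(S, ⊤) Γ(X, ⊤) := by
    show GeometricallyIntegral (Spec.map f.appTop)
    exact (MorphismProperty.arrow_mk_iso_iff @GeometricallyIntegral (arrowIsoSpecΓOfIsAffine f)).1 inferInstance
  exact (S1219.result (A := Γ(S, ⊤)) (B := Γ(X, ⊤)) Γ(X, ⊤)).2 fun p _ A' B' N' _ _ _ _ _ _ _ _ _ _ _ _ _ _ g t' t _ _ P _ _ himp =>
    S1223.result hgi p A' B' N' g t' t P himp

end Groth.Agent.S0447
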