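import Groth.Statements.S0471
import Groth.Agent.SiteBase.Cartan
import Groth.Agent.SiteBase.Global
import Mathlib.Topology.Separation.Profinite

set_option autoImplicit false
universe u
open CategoryTheory
open CohTop CategoryTheory.Limits TopologicalSpace Opposite

namespace Groth.Agent.S0471

/-- If X is profinite (compact, Hausdorff, totally disconnected), then H^(p+1)(X, F) = 0 for every
abelian sheaf F. -/
theorem result {X : TopCat.{u}} [CompactSpace X] [T2Space X] [TotallyDisconnectedSpace X]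
    (F : CohTop.Ab X) (p : ℕ) : Subsingleton (CohTop.H F (p + 1)) := by
  refine SiteBase.subsingleton_H_of_HU_terminal isTerminalTop F (p + 1) ?_
  refine SiteBase.subsingleton_HU_of_class (J := Opens.grothendieckTopology X) (fun _ => True)
    (fun U : Opens X => U = ⊤) (fun _ _ _ _ => trivial) ?_ trivial (U := (⊤ : Opens X)) rfl p
  rintro E hE - - U rfl s
  have hs := SiteBase.imageSieve_mem_of_shortExact hE s
  choose W i hi hxW using fun x : X => hs x (Opens.mem_top x)
  choose C hC hxC hCW using fun x : X => compact_exists_isClopen_in_isOpen (W x).isOpen (hxW x)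
  obtain ⟨t, ht⟩ := isCompact_univ.elim_finite_subcover C (fun x => (hC x).isOpen)
    (fun x _ => Set.mem_iUnion.2 ⟨x, hxC x⟩)
  obtain ⟨D, hD, -, hDC, hcov, hdisj⟩ := exists_clopen_partition_of_clopen_cover
    (Z := fun _ : t => (∅ : Set X)) (D := fun x : t => C x) (fun _ => isClosed_empty)
    (fun x => hC x) (fun _ => Set.empty_subset _) (fun _ _ _ _ _ => by simp [Function.onFun])
  let V : t → Opens X := fun k => ⟨D k, (hD k).isOpen⟩
  have hVW : ∀ k, V k ≤ W k := fun k => (hDC k).trans (hCW k)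
  choose sec hsec using fun k : t => hi k
  let sf : ∀ k, E.X₂.obj.obj (op (V k)) := fun k => E.X₂.obj.map (homOfLE (hVW k)).op (sec k)
  have hcompat : TopCat.Presheaf.IsCompatible E.X₂.obj V sf := by
    intro a b
    by_cases hab : a = b
    · subst hab; rfl
    · have he : V a ⊓ V b = ⊥ := Opens.ext (Set.disjoint_iff_inter_eq_empty.1
        (hdisj (Set.mem_univ a) (Set.mem_univ b) hab))
      have : Subsingleton (E.X₂.obj.obj (op (V a ⊓ V b))) :=
        AddCommGrpCat.subsingleton_of_isZero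
          (IsZero.of_iso ((isZero_zero _)) ((TopCat.Sheaf.isTerminalOfEqEmpty
            (F := (E.X₂ : TopCat.Sheaf AddCommGrpCat.{u} X)) he).uniqueUpToIso
              (isZero_zero _).isTerminal))
      exact Subsingleton.elim _ _
  have hVcov : (⊤ : Opens X) ≤ iSup V := fun x _ => by
    obtain ⟨k, hk, hxk⟩ := Set.mem_iUnion₂.1 (ht (Set.mem_univ x))
    obtain ⟨d, hd⟩ := Set.mem_iUnion.1 (hcov (Set.mem_iUnion.2 ⟨⟨k, hk⟩, hxk⟩))
    exact Opens.mem_iSup.2 ⟨d, hd⟩
  obtain ⟨g, hg, -⟩ := TopCat.Sheaf.existsUnique_gluing' (E.X₂ : TopCat.Sheaf AddCommGrpCat.{u} X)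
    V ⊤ (fun k => homOfLE le_top) hVcov sf hcompat
  refine ⟨g, TopCat.Sheaf.eq_of_locally_eq' (E.X₃ : TopCat.Sheaf AddCommGrpCat.{u} X)
    V ⊤ (fun k => homOfLE le_top) hVcov _ _ fun k => ?_⟩
  have h1 := ConcreteCategory.congr_hom (E.g.hom.naturality (homOfLE (le_top : V k ≤ ⊤)).op) g
  refine h1.symm.trans ?_
  refine (congrArg (E.g.hom.app (op (V k))).hom (hg k)).trans ?_
  refine (ConcreteCategory.congr_hom (E.g.hom.naturality (homOfLE (hVW k)).op) (sec k)).trans ?_
  refine (congrArg (E.X₃.obj.map (homOfLE (hVW k)).op).hom (hsec k)).trans ?_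
  rw [show (homOfLE (le_top : V k ≤ ⊤)).op = (i k).op ≫ (homOfLE (hVW k)).op from Subsingleton.elim _ _,
    Functor.map_comp]
  rfl

end Groth.Agent.S0471
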