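import Groth.Statements.S0590
import Groth.Agent.TTApprox.Limit
-- import your own Groth.Agent.* helpers here

set_option autoImplicit false
universe u
open CategoryTheory AlgebraicGeometry
open Lim

attribute [-instance] CategoryTheory.catToReflQuiver
set_option linter.style.haveILetI false

namespace Groth.Agent.S0590

/-- Every quasi-compact quasi-separated scheme is the limit of an inverse system, indexed by a nonempty
directed preorder, of quasi-compact schemes locally of finite type over the integers with affine
transition morphisms. -/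
theorem result (S : Scheme.{u}) [CompactSpace S] [QuasiSeparatedSpace S] :
    ∃ (I : Type u) (_ : Preorder I) (_ : IsDirected I (fun a b => a ≤ b)) (_ : Nonempty I)
      (D : Iᵒᵖ ⥤ Scheme.{u}) (c : Limits.Cone D) (_ : Limits.IsLimit c),
      (∀ (i j : Iᵒᵖ) (f : i ⟶ j), IsAffineHom (D.map f)) ∧
      (∀ i, CompactSpace (D.obj i) ∧
        LocallyOfFiniteType (Limits.IsTerminal.from specULiftZIsTerminal (D.obj i))) ∧
      Nonempty (c.pt ≅ S) := by
  let T : Scheme.{u} := Spec (CommRingCat.of (ULift.{u} ℤ))
  obtain ⟨I, _, _, _, D, c, hc, hD, htr, ⟨e⟩⟩ :=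
    TTApprox.exists_fp_limit (Limits.IsTerminal.from specULiftZIsTerminal S)
  haveI : CategoryTheory.IsConnected Iᵒᵖ := IsCofiltered.isConnected _
  refine ⟨I, inferInstance, inferInstance, inferInstance, D ⋙ Over.forget _, (Over.forget _).mapCone c,
    Limits.isLimitOfPreserves (Over.forget _) hc, htr, fun i => ⟨(hD i).2.1, ?_⟩,
    ⟨(Over.forget _).mapIso e⟩⟩
  have h : Limits.IsTerminal.from specULiftZIsTerminal (D.obj i).left = (D.obj i).hom :=
    specULiftZIsTerminal.hom_ext _ _
  haveI := (hD i).1
  show LocallyOfFiniteType (Limits.IsTerminal.from specULiftZIsTerminal (D.obj i).left)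
  rw [h]
  infer_instance

end Groth.Agent.S0590
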