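import Groth.Statements.S0610
import Groth.Agent.H9PB.CurveFinFF.Points
import Groth.Agent.H9PB.FrobCurve
import Groth.Agent.FFLib.Weil.RH

set_option autoImplicit false
universe u
open AlgebraicGeometry CategoryTheory
open Zeta

namespace Groth.Agent.S0610

set_option backward.isDefEq.respectTransparency false
set_option backward.isDefEq.respectTransparency.types false
set_option linter.style.haveILetI false
open Groth.Agent Groth.Agent.H9PB

/-- Weil conjectures for curves, in elementary form (rationality of the zeta function with numerator of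
degree 2g, the functional equation and the Riemann hypothesis, packaged as a point-count formula):
let k be a finite field with q elements and C a smooth, proper, geometrically irreducible curve over
k of genus g, the genus being pinned down by #H¹(C, O_C) = q^g (equivalent to dim_k H¹(C, O_C) = g).
Then there are complex numbers α_1, …, α_{2g}, each an algebraic integer with |α_i|² = q, and a
permutation σ of the indices with α_{σ(i)} · α_i = q for all i, such that for every finite extension
k' of k the number of k'-points of C equals q^{[k':k]} + 1 − Σ_i α_i^{[k':k]}. -/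
theorem result {k : Type u} [Field k] [Finite k] {C : Scheme.{u}}
    (f : C ⟶ Spec (CommRingCat.of k)) (hC : Curve.IsSmoothProperCurve k C f)
    [GeometricallyIrreducible f] (g : ℕ)
    (hg : Nat.card (Coh.HH C (Coh.structureModule C) 1) = Nat.card k ^ g) :
    ∃ α : Fin (2 * g) → ℂ, (∀ i, IsIntegral ℤ (α i)) ∧ (∀ i, ‖α i‖ ^ 2 = Nat.card k) ∧
      (∃ σ : Equiv.Perm (Fin (2 * g)), ∀ i, α (σ i) * α i = Nat.card k) ∧
      ∀ (k' : Type u) [Field k'] [Algebra k k'] [Finite k'],
        (SgaExt.pointCount f k' : ℂ) =
          (Nat.card k : ℂ) ^ Module.finrank k k' + 1 - ∑ i, α i ^ Module.finrank k k' := by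
  letI : C.Over (Spec (CommRingCat.of k)) := ⟨f⟩
  haveI : GeometricallyIrreducible (C ↘ Spec (CommRingCat.of k)) := (inferInstance : GeometricallyIrreducible f)
  obtain ⟨hp, hs, hI, hd⟩ := hC
  haveI : IsProper (C ↘ Spec (CommRingCat.of k)) := hp
  haveI : Smooth (C ↘ Spec (CommRingCat.of k)) := hs
  haveI := FrobCurve.geometricallyConnected (C ↘ Spec (CommRingCat.of k))
  haveI := QuasiCompact.compactSpace_of_compactSpace (C ↘ Spec (CommRingCat.of k))
  haveI := CurveCohLib.isNoetherian_of_proper (k := k) (X := C)
  haveI := CurveCohLib.finite_HH (k := k) (X := C) QCoh.isCoh_structureModule' 1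
  have h0 := CurveBC.finrank_h0_of_geometricallyConnected k C
  letI := CurveFinFF.ffAlg k C
  have hK := CurveFinFF.isFunctionField k C hd h0
  have hg' : FunFld.genus k C.functionField = g := by
    rw [CurveFinFF.genus_eq k hd h0]
    refine Nat.pow_right_injective (Finite.one_lt_card (α := k)) ?_
    show Nat.card k ^ Module.finrank k (Coh.HH C (Coh.structureModule C) 1) = Nat.card k ^ g
    rw [← Module.natCard_eq_pow_finrank, hg]
  obtain ⟨α, hint, hα, hpair⟩ := FFLib.exists_reciprocal_roots hK
  obtain ⟨β, hβ, hnorm⟩ := FFLib.norm_sq_root hK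
  have hq : (Nat.card k : ℂ) ≠ 0 := Nat.cast_ne_zero.2 Nat.card_pos.ne'
  have hαn : ∀ i, ‖α i‖ ^ 2 = (Nat.card k : ℝ) := fun i => by
    have hne : α i ≠ 0 := fun h => hq (by rw [← hpair i, h, zero_mul])
    have h := congrArg (Polynomial.eval (α i)⁻¹) (Polynomial.coe_inj.1 (hα.symm.trans hβ))
    simp only [Polynomial.eval_prod, Polynomial.eval_sub, Polynomial.eval_one, Polynomial.eval_mul,
      Polynomial.eval_C, Polynomial.eval_X] at h
    rw [Finset.prod_eq_zero (i := i) (Finset.mem_univ i) (by rw [mul_inv_cancel₀ hne, sub_self])] at h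
    obtain ⟨j, -, hj⟩ := Finset.prod_eq_zero_iff.1 h.symm
    have : β j = α i := by
      field_simp at hj
      linear_combination -hj
    rw [← this, hnorm j]
  subst hg'
  refine ⟨α, hint, hαn, ⟨Fin.revPerm, fun i => (mul_comm _ _).trans (hpair i)⟩, fun k' _ _ _ => ?_⟩
  haveI : Module.Finite k k' := Module.Finite.of_finite
  have hN : SgaExt.pointCount f k' = FFLib.placeCount k C.functionField (Module.finrank k k') :=
    (ZetaLib.pointCount_eq_nPts (C ↘ Spec (CommRingCat.of k)) k').trans (CurveFinFF.nPts_eq k C hd _)
  rw [hN, FFLib.placeCount_eq hK.1 α hα Module.finrank_pos]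
  ring

end Groth.Agent.S0610
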