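import Groth.Statements.S0614
import Groth.Agent.GoodRedJ.Basic

set_option autoImplicit false
universe u
open Neron

namespace Groth.Agent.S0614

open WeierstrassCurve IsLocalRing

theorem mem_range_of_hasGoodReduction {R : Type u} [CommRing R] [IsDomain R]
    [IsDiscreteValuationRing R] {K : Type u} [Field K] [Algebra R K] [IsFractionRing R K]
    {L : Type u} [Field L] [Algebra K L] {RL : Type u} [CommRing RL] [IsDomain RL]
    [IsDiscreteValuationRing RL] [Algebra RL L] [IsFractionRing RL L]
    (φ : R →+* RL) (hφ : IsLocalHom φ)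
    (hcomm : ∀ r : R, algebraMap K L (algebraMap R K r) = algebraMap RL L (φ r))
    (W : WeierstrassCurve K) [W.IsElliptic]
    (h : ((W.baseChange L).minimal RL).HasGoodReduction RL) :
    ∃ r : R, algebraMap R K r = W.j := by
  set W' := (W.baseChange L).minimal RL with hW'
  obtain ⟨C, hC⟩ : ∃ C : VariableChange L, W' = C • (W.baseChange L) := ⟨_, rfl⟩
  obtain ⟨I, hI⟩ := (inferInstance : WeierstrassCurve.IsIntegral RL W').integral
  have hΔ : IsUnit I.Δ := by
    have h1 := h.goodReduction
    rw [hI, WeierstrassCurve.baseChange, map_Δ] at h1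
    by_contra hnu
    exact ((IsDedekindDomain.HeightOneSpectrum.valuation_lt_one_iff_mem _ _).2 hnu).ne h1
  haveI : I.IsElliptic := ⟨hΔ⟩
  have hj : algebraMap K L W.j = algebraMap RL L I.j := by
    haveI : (W.baseChange L).IsElliptic := inferInstanceAs (W.map (algebraMap K L)).IsElliptic
    haveI : (C • W.baseChange L).IsElliptic := inferInstance
    have e : (C • W.baseChange L).j = algebraMap RL L I.j := by
      rw [← map_j I (algebraMap RL L)]
      congr 1
      exact hC.symm.trans hI
    rw [← e, variableChange_j]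
    exact (map_j W (algebraMap K L)).symm
  rcases ValuationRing.isInteger_or_isInteger R W.j with ⟨r, hr⟩ | ⟨r, hr⟩
  · exact ⟨r, hr⟩
  · by_cases h0 : W.j = 0
    · exact ⟨0, by rw [h0, map_zero]⟩
    · have hu : IsUnit (φ r) := by
        refine IsUnit.of_mul_eq_one I.j (IsFractionRing.injective RL L ?_)
        rw [map_mul, map_one, ← hj, ← hcomm, hr, ← map_mul, inv_mul_cancel₀ h0, map_one]
      obtain ⟨y, hy⟩ := isUnit_iff_exists_inv.1 (hφ.map_nonunit r hu)
      refine ⟨y, ?_⟩
      have := congrArg (algebraMap R K) hy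
      rw [map_mul, map_one, hr] at this
      exact (eq_inv_of_mul_eq_one_right this).trans (inv_inv _)

theorem exists_goodReduction {R : Type u} [CommRing R] [IsDomain R]
    [IsDiscreteValuationRing R] {K : Type u} [Field K] [Algebra R K] [IsFractionRing R K]
    (W : WeierstrassCurve K) [W.IsElliptic] {r : R} (hr : algebraMap R K r = W.j) :
      ∃ (L : Type u) (_ : Field L) (_ : Algebra K L) (_ : FiniteDimensional K L) (RL : Type u)
        (_ : CommRing RL) (_ : IsDomain RL) (_ : IsDiscreteValuationRing RL) (_ : Algebra RL L)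
        (_ : IsFractionRing RL L) (φ : R →+* RL), IsLocalHom φ ∧
        (∀ r : R, algebraMap K L (algebraMap R K r) = algebraMap RL L (φ r)) ∧
        ((W.baseChange L).minimal RL).HasGoodReduction RL := by
  classical
  obtain ⟨a, E, hai, ⟨hEΔ, hEj⟩, hmodel⟩ := GoodRedJ.exists_model (K := K) r
  let Ω := AlgebraicClosure K
  haveI : (E a).IsElliptic := ⟨isUnit_iff_ne_zero.2 hEΔ⟩
  haveI : (W.map (algebraMap K Ω)).IsElliptic := inferInstance
  have hjE : (W.map (algebraMap K Ω)).j = (E a).j := by
    rw [map_j, ← hr, ← IsScalarTower.algebraMap_apply, WeierstrassCurve.j, hEj]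
    rw [Units.val_inv_eq_inv_val, coe_Δ', mul_left_comm, inv_mul_cancel₀ hEΔ, mul_one]
  obtain ⟨C, hC⟩ := exists_variableChange_of_j_eq (W.map (algebraMap K Ω)) (E a) hjE
  let S : Set Ω := {a, (C.u : Ω), C.r, C.s, C.t}
  let L : IntermediateField K Ω := IntermediateField.adjoin K S
  haveI : FiniteDimensional K L := IntermediateField.finiteDimensional_adjoin fun x _ =>
    Algebra.IsIntegral.isIntegral x
  obtain ⟨V, hV, hVi, hVm⟩ := GoodRedJ.exists_dvr (R := R) (K := K) L
  have hS : ∀ x ∈ S, x ∈ L := fun x hx => IntermediateField.subset_adjoin K S hx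
  obtain ⟨E₀, hE₀, hE₀E⟩ := hmodel L V hVi hVm (hS a (by simp [S]))
  let φ : R →+* V := (algebraMap R L).codRestrict V.toSubring fun x => hVi _ isIntegral_algebraMap
  have hφ : IsLocalHom φ := by
    refine ⟨fun x hx => ?_⟩
    by_contra hnu
    obtain ⟨hm, hm'⟩ := ValuationSubring.mem_nonunits_iff_exists_mem_maximalIdeal.1 (hVm x hnu)
    exact hm' hx
  refine ⟨L, inferInstance, inferInstance, inferInstance, V, inferInstance, inferInstance, hV,
    inferInstance, inferInstance, φ, hφ, fun x => (IsScalarTower.algebraMap_apply R K L x).symm, ?_⟩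
  let C' : VariableChange L :=
    ⟨Units.mk0 ⟨C.u, hS _ (by simp [S])⟩ (fun h => C.u.ne_zero (congrArg Subtype.val h)),
      ⟨C.r, hS _ (by simp [S])⟩, ⟨C.s, hS _ (by simp [S])⟩, ⟨C.t, hS _ (by simp [S])⟩⟩
  have hC' : C'.map (algebraMap L Ω) = C := by
    ext <;> rfl
  have hmod : C' • W.baseChange L = E₀.baseChange L := by
    apply WeierstrassCurve.map_injective (algebraMap L Ω).injective
    dsimp only
    rw [← map_variableChange, hC', WeierstrassCurve.baseChange, WeierstrassCurve.baseChange,
      map_map, map_map, ← IsScalarTower.algebraMap_eq K L Ω]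
    exact hC.trans hE₀E.symm
  haveI hint : WeierstrassCurve.IsIntegral V (C' • W.baseChange L) := ⟨⟨E₀, hmod⟩⟩
  have hv1 : IsDedekindDomain.HeightOneSpectrum.valuation L (IsDiscreteValuationRing.maximalIdeal V)
      (C' • W.baseChange L).Δ = 1 := by
    rw [hmod, WeierstrassCurve.baseChange, map_Δ]
    refine le_antisymm (IsDedekindDomain.HeightOneSpectrum.valuation_le_one _ _) (not_lt.1 fun h => ?_)
    exact (IsDedekindDomain.HeightOneSpectrum.valuation_lt_one_iff_mem _ _).1 h hE₀
  obtain ⟨C0, hC0⟩ : ∃ C0 : VariableChange L, (W.baseChange L).minimal V = C0 • W.baseChange L :=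
    ⟨_, rfl⟩
  refine { goodReduction := ?_ }
  set W' := (W.baseChange L).minimal V with hW'
  have hmax := (inferInstance : IsMinimal V W').val_Δ_maximal
  have hj : WeierstrassCurve.IsIntegral V ((C' * C0⁻¹) • W') := by
    rw [hC0, ← mul_smul, inv_mul_cancel_right]; exact hint
  have h1 : valuation_Δ_aux V ((1 : VariableChange L) • W') ≤ valuation_Δ_aux V ((C' * C0⁻¹) • W') := by
    refine Subtype.coe_le_coe.1 (le_of_le_of_eq (valuation_Δ_aux V ((1 : VariableChange L) • W')).2 ?_)
    rw [valuation_Δ_aux_eq_of_isIntegral, hC0, ← mul_smul, inv_mul_cancel_right, hv1]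
  have h2 := le_antisymm h1 (hmax.2 hj h1)
  rw [one_smul] at h2
  have h3 := congrArg Subtype.val h2
  rw [valuation_Δ_aux_eq_of_isIntegral, valuation_Δ_aux_eq_of_isIntegral, hC0, ← mul_smul,
    inv_mul_cancel_right, hv1] at h3
  rw [hC0]
  exact h3


/-- (c) (the base Dedekind scheme taken local): an elliptic curve E over the fraction field K of a
discrete valuation ring R has integral j-invariant if and only if it has potential good reduction
(stated here with a finite extension: there are a finite extension L of K and a discrete valuation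
ring R_L of L dominating R over which a minimal Weierstrass equation of E_L has good reduction). -/
theorem result {R : Type u} [CommRing R] [IsDomain R]
    [IsDiscreteValuationRing R] {K : Type u} [Field K] [Algebra R K] [IsFractionRing R K]
    (W : WeierstrassCurve K) [W.IsElliptic] :
    (∃ r : R, algebraMap R K r = W.j) ↔
      ∃ (L : Type u) (_ : Field L) (_ : Algebra K L) (_ : FiniteDimensional K L) (RL : Type u)
        (_ : CommRing RL) (_ : IsDomain RL) (_ : IsDiscreteValuationRing RL) (_ : Algebra RL L)
        (_ : IsFractionRing RL L) (φ : R →+* RL), IsLocalHom φ ∧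
        (∀ r : R, algebraMap K L (algebraMap R K r) = algebraMap RL L (φ r)) ∧
        ((W.baseChange L).minimal RL).HasGoodReduction RL := by
  constructor
  · rintro ⟨r, hr⟩
    exact exists_goodReduction W hr
  · rintro ⟨L, _, _, _, RL, _, _, _, _, _, φ, hφ, hcomm, h⟩
    exact mem_range_of_hasGoodReduction φ hφ hcomm W h

end Groth.Agent.S0614
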