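import Groth.Statements.S0619
import Groth.Agent.H9PB.FrobCurve

set_option autoImplicit false
universe u
open AlgebraicGeometry CategoryTheory
open Zeta

namespace Groth.Agent.S0619

set_option backward.isDefEq.respectTransparency false
set_option backward.isDefEq.respectTransparency.types false
set_option linter.style.haveILetI false
open Groth.Agent Groth.Agent.H9PB

/-- For a geometrically connected smooth proper curve of genus g over a finite field k with q elements
and a finite extension k' of degree n, |#C(k') − (qⁿ + 1)| ≤ 2g·q^(n/2). -/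
theorem result {k : Type u} [Field k] [Finite k] {C : Scheme.{u}}
    (f : C ⟶ Spec (CommRingCat.of k)) (hC : Curve.IsSmoothProperCurve k C f)
    [GeometricallyIrreducible f] (g : ℕ)
    (hg : Nat.card (Coh.HH C (Coh.structureModule C) 1) = Nat.card k ^ g)
    (k' : Type u) [Field k'] [Algebra k k'] [Finite k'] :
    |(SgaExt.pointCount f k' : ℝ) - ((Nat.card k : ℝ) ^ Module.finrank k k' + 1)| ≤
      2 * g * (Nat.card k : ℝ) ^ ((Module.finrank k k' : ℝ) / 2) := by
  letI : C.Over (Spec (CommRingCat.of k)) := ⟨f⟩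
  haveI : GeometricallyIrreducible (C ↘ Spec (CommRingCat.of k)) := (inferInstance : GeometricallyIrreducible f)
  obtain ⟨hp, hs, hI, hd⟩ := hC
  haveI : IsProper (C ↘ Spec (CommRingCat.of k)) := hp
  haveI := CurveCohLib.isNoetherian_of_proper (k := k) (X := C)
  haveI := CurveCohLib.finite_HH (k := k) (X := C) QCoh.isCoh_structureModule' 1
  haveI : QuasiCompact f := inferInstance
  have hg' : Curv2.genus k C = g := by
    refine Nat.pow_right_injective (Finite.one_lt_card (α := k)) ?_
    show Nat.card k ^ Module.finrank k (Coh.HH C (Coh.structureModule C) 1) = Nat.card k ^ g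
    rw [← Module.natCard_eq_pow_finrank, hg]
  haveI : Module.Finite k k' := Module.Finite.of_finite
  have h := FrobCurve.sq_le (k := k) (X := C) ⟨hp, hs, hI, hd⟩ (n := Module.finrank k k') Module.finrank_pos
  rw [hg', ← ZetaLib.pointCount_eq_nPts (C ↘ Spec (CommRingCat.of k)) k'] at h
  set N := SgaExt.pointCount f k' with hN
  set n := Module.finrank k k'
  have hR : (((N : ℝ) - (Nat.card k : ℝ) ^ n - 1)) ^ 2 ≤ 4 * (g : ℝ) ^ 2 * (Nat.card k : ℝ) ^ n := by
    exact_mod_cast h
  refine abs_le_of_sq_le_sq ?_ (by positivity)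
  have hpow : ((Nat.card k : ℝ) ^ ((n : ℝ) / 2)) ^ 2 = (Nat.card k : ℝ) ^ n := by
    rw [← Real.rpow_natCast ((Nat.card k : ℝ) ^ ((n : ℝ) / 2)) 2, ← Real.rpow_mul (Nat.cast_nonneg _),
      ← Real.rpow_natCast (Nat.card k : ℝ) n]
    norm_num
  rw [mul_pow, hpow]
  linarith [hR, sub_sub (N : ℝ) ((Nat.card k : ℝ) ^ n) 1]

end Groth.Agent.S0619
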