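import Groth.Statements.S0624
import Groth.Agent.EtFound.SplitSep

set_option autoImplicit false
open CategoryTheory CategoryTheory.Limits AlgebraicGeometry Opposite
universe u
open EtCore

namespace Groth.Agent.S0624

/-- Let X be an affine, integral and normal scheme with separably closed function field, Z -> X a closed
immersion and V -> Z etale with V affine. Then V splits, over Z, as the disjoint union of finitely
many open subschemes of Z. -/
theorem result {V Z X : Scheme.{u}} [IsAffine X] [IsIntegral X]
    (hN : ∀ x : X, IsIntegrallyClosed (X.presheaf.stalk x)) [IsSepClosed X.functionField]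
    (i : Z ⟶ X) [IsClosedImmersion i] (φ : V ⟶ Z) [AlgebraicGeometry.Etale φ] [IsAffine V] :
    ∃ (ι : Type u) (_ : Finite ι) (W : ι → Z.Opens) (e : (∐ fun k => (W k : Scheme.{u})) ≅ V),
      ∀ k, Sigma.ι (fun k => (W k : Scheme.{u})) k ≫ e.hom ≫ φ = (W k).ι := by
  haveI : IrreducibleSpace X := inferInstance
  have hS := fun s => Groth.Agent.S0090.result X hN s
  obtain ⟨ι, hι, C, hcov, hdisj, hC⟩ := Groth.Agent.EtFound.SplitSep.exists_split_closed hS i φ
  haveI := hC
  let W : ι → Z.Opens := fun k => ((C k).ι ≫ φ).opensRange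
  let f : ∀ k, (W k : Scheme.{u}) ⟶ V := fun k => ((C k).ι ≫ φ).isoOpensRange.inv ≫ (C k).ι
  haveI : ∀ k, IsOpenImmersion (f k) := fun k => inferInstance
  have hr : ∀ k, (f k).opensRange = C k := fun k => by
    show Scheme.Hom.opensRange (((C k).ι ≫ φ).isoOpensRange.inv ≫ (C k).ι) = C k
    rw [Scheme.Hom.opensRange_comp_of_isIso, Scheme.Opens.opensRange_ι]
  obtain ⟨hc⟩ := nonempty_isColimit_cofanMk_of f (by simp only [hr, hcov]) (fun a b hab => by
    show Disjoint (f a).opensRange (f b).opensRange
    rw [hr, hr]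
    exact hdisj hab)
  refine ⟨ι, hι, W, IsColimit.coconePointUniqueUpToIso (coproductIsCoproduct _) hc, fun k => ?_⟩
  refine (Category.assoc _ _ _).symm.trans ?_
  refine (congrArg (· ≫ φ) (IsColimit.comp_coconePointUniqueUpToIso_hom (coproductIsCoproduct _) hc ⟨k⟩)).trans ?_
  exact (Category.assoc _ _ _).trans (Scheme.Hom.isoOpensRange_inv_comp _)

end Groth.Agent.S0624
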