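import Groth.Statements.S0627
import Groth.Agent.EtFound.ConstGeneric

set_option autoImplicit false
open CategoryTheory CategoryTheory.Limits AlgebraicGeometry Opposite
universe u
open EtCore

namespace Groth.Agent.S0627

/-- Let X be an integral normal scheme (every local ring integrally closed), U a nonempty open subscheme
with inclusion j : U → X, and M an abelian group. Then the adjunction unit from the constant étale
sheaf with value M on X to j_* of its pullback to U is an isomorphism. -/
theorem result (X : Scheme.{u}) [IsIntegral X]
    (hN : ∀ x : X, IsIntegrallyClosed (X.presheaf.stalk x)) (U : X.Opens) (hU : (U : Set X).Nonempty)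
    (M : Type) [AddCommGroup M] :
    IsIso ((EtCoh.pullPushAdj U.ι).unit.app (EtCoh.const X M)) := by
  have hη : genericPoint X ∈ U := ((genericPoint_spec X).mem_open_set_iff U.isOpen).2 (by simpa using hU)
  have hr : Set.range (X.fromSpecStalk (genericPoint X)) ⊆ Set.range U.ι := by
    rw [Scheme.range_fromSpecStalk, Scheme.Opens.range_ι]
    exact fun y hy => (hy.antisymm ((genericPoint_spec X).specializes trivial)).eq ▸ hη
  let j := IsOpenImmersion.lift U.ι (X.fromSpecStalk (genericPoint X)) hr
  have hj : j ≫ U.ι = X.fromSpecStalk (genericPoint X) := IsOpenImmersion.lift_fac _ _ _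
  haveI : QuasiCompact (j ≫ U.ι) := by rw [hj]; infer_instance
  haveI : IsPreimmersion (j ≫ U.ι) := by rw [hj]; infer_instance
  exact Agent.EtFound.ConstVal.isIso_unit_const_normal U.ι (Agent.EtFound.ConstVal.isNormalScheme X hN) j
    (by rw [hj]; exact Agent.EtFound.ConstVal.maxInRange_generic X _ (Agent.EtFound.ConstVal.genericPoint_mem_range X)) M

end Groth.Agent.S0627
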