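import Groth.Statements.S0645
import Groth.Agent.ClosedAffAcyc.ProperOne
import Groth.Agent.ClosedAffAcyc.Killed
import Groth.Agent.ClosedAffAcyc.Cover
import Groth.Agent.GabberAffine.Main
import Groth.Agent.PnCoh.Chow.Proper

set_option autoImplicit false
open CategoryTheory CategoryTheory.Limits AlgebraicGeometry Opposite
universe u
open EtCore

namespace Groth.Agent.S0645

/-- Let A be a henselian local ring, X the projective line over A, X_0 its closed fibre (base change to
the residue field) and ℓ a prime. Let I be an abelian sheaf on the small etale site of X killed by ℓ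
which is injective in the full subcategory of sheaves killed by ℓ (an injective sheaf of
Z/ℓ-modules). Then the pullback of I to X_0 has vanishing etale cohomology in positive degrees. -/
theorem result (A : Type u) [CommRing A] [HenselianLocalRing A]
    (ℓ : ℕ) [Fact ℓ.Prime] (I : EtCoh.Ab (CohB1.ProjSpace 1 A)) (hI : EtCoh.KilledBy ℓ I)
    (hinj : Injective (ObjectProperty.FullSubcategory.mk (P := fun F : EtCoh.Ab (CohB1.ProjSpace 1 A) => EtCoh.KilledBy ℓ F) I hI))
    (q : ℕ) (hq : 1 ≤ q) :
    Subsingleton (EtCoh.H (pullback (CohB1.ProjSpace.toSpec 1 A) (Spec.map (CommRingCat.ofHom (IsLocalRing.residue A))))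
      ((EtCoh.pull (pullback.fst (CohB1.ProjSpace.toSpec 1 A)
        (Spec.map (CommRingCat.ofHom (IsLocalRing.residue A))))).obj I) q) := by
  have hℓ : 0 < ℓ := (Fact.out : ℓ.Prime).pos
  have hT := Groth.Agent.ClosedAffAcyc.isTorsion_of_killedBy hℓ hI
  haveI := Groth.Agent.PnCoh.Chow.isProper_toSpec 1 A
  haveI : IsClosedImmersion (Spec.map (CommRingCat.ofHom (IsLocalRing.residue A))) :=
    IsClosedImmersion.spec_of_surjective _ Ideal.Quotient.mk_surjective
  haveI : (CohB1.ProjSpace 1 A).IsSeparated :=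
    ⟨by rw [← terminal.comp_from (CohB1.ProjSpace.toSpec 1 A)]; infer_instance⟩
  rcases Nat.lt_or_ge 1 q with hq' | hq'
  · let W : Fin (1 + 1) → (CohB1.ProjSpace 1 A).Opens :=
      fun i => Proj.basicOpen (CohB1.polyGrading 1 A) (MvPolynomial.X i)
    refine Groth.Agent.ClosedAffAcyc.subsingleton_H_cover 1 (CohB1.ProjSpace 1 A)
      (fun U V hU hV => hU.inf hV) W
      (fun i => Proj.isAffineOpen_basicOpen _ _ (MvPolynomial.isHomogeneous_X A i) one_pos) ?_ _ I hT
      (Groth.Agent.ClosedAffAcyc.affAcyclic_of_injective_killed hℓ I hI hinj) q hq'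
    refine Proj.iSup_basicOpen_eq_top' _ _ (fun i => ⟨1, MvPolynomial.isHomogeneous_X A i⟩) ?_
    refine top_le_iff.1 fun p _ => ?_
    induction p using MvPolynomial.induction_on with
    | C r =>
      exact Subalgebra.algebraMap_mem _ (show CohB1.polyGrading 1 A 0 from ⟨MvPolynomial.C r, MvPolynomial.isHomogeneous_C (Fin (1 + 1)) r⟩)
    | add a b ha hb => exact add_mem (ha trivial) (hb trivial)
    | mul_X a j ha => exact mul_mem (ha trivial) (Algebra.subset_adjoin ⟨j, rfl⟩)
  · obtain rfl : q = 1 := le_antisymm hq' hq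
    haveI : ∀ {Y Z : Scheme.{u}} (f : Y ⟶ Z), PreservesFiniteLimits (EtCoh.pull f) :=
      fun f => EtFound.pull_preservesFiniteLimits f
    haveI := Groth.Agent.ClosedAffAcyc.subsingleton_H_of_injective_killed hℓ I hI hinj 0
    exact (Groth.Agent.ClosedAffAcyc.bijective_Hpull_torsion (CohB1.ProjSpace.toSpec 1 A) I
      (Groth.Agent.GabberAffine.isLTorsion_univ hT) 1 le_rfl).2.subsingleton

end Groth.Agent.S0645
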