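import Groth.Statements.S0663
import Groth.Agent.CurveAff.Mu

set_option autoImplicit false
open CategoryTheory CategoryTheory.Limits AlgebraicGeometry Opposite
universe u
open EtCore

namespace Groth.Agent.S0663

/-- Let k be an algebraically closed field, Xb a smooth proper curve over k, U the open complement of r
≥ 1 closed points of Xb and n ≥ 1 invertible in k. Then the global sections of the sheaf of n-th
roots of unity on U form a group isomorphic to the n-th roots of unity of k, and H^q(U, μ_n)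
vanishes for q ≥ 2. -/
theorem result (k : Type u) [Field k] [IsAlgClosed k] (Xb : Scheme.{u})
    [Xb.Over (Spec (CommRingCat.of k))] (hXb : Curve.IsSmoothProperCurve k Xb (Xb ↘ Spec (CommRingCat.of k)))
    (U : Xb.Opens) (r : ℕ) (hr : 1 ≤ r) (hUc : ((U : Set Xb)ᶜ).Finite) (hUr : Nat.card ↥((U : Set Xb)ᶜ) = r)
    (n : ℕ) (hn : 1 ≤ n) (hnk : (n : k) ≠ 0) :
    Nonempty (EtCoh.H (↑U : Scheme.{u}) (EtCoh.mu ↑U n) 0 ≃+ Additive ↥(rootsOfUnity n k)) ∧
    ∀ q : ℕ, 2 ≤ q → Subsingleton (EtCoh.H (↑U : Scheme.{u}) (EtCoh.mu ↑U n) q) := by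
  obtain ⟨h1, h2, h3, hdim⟩ := hXb
  haveI := h1; haveI := h2; haveI := h3
  obtain ⟨⟨p, hp⟩⟩ := (Nat.card_pos_iff.1 (by omega : 0 < Nat.card ↥((U : Set Xb)ᶜ))).1
  exact ⟨CurveAff.nonempty_H0_mu_open (k := k) hdim U hUc hnk,
    fun q hq => CurveAff.subsingleton_H_mu (k := k) hdim U hUc hp hnk q hq⟩

end Groth.Agent.S0663
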