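import Groth.Statements.S0666
import Groth.Agent.EtFound.CechInjGen
import Groth.Agent.SiteBase.Horseshoe
import Groth.Agent.DeltaFLib.Basic
import Groth.Agent.S6774
import Mathlib.Algebra.Homology.HomologySequenceLemmas
import Mathlib.Algebra.Homology.ShortComplex.ExactFunctor

set_option autoImplicit false
open CategoryTheory CategoryTheory.Limits Opposite
universe w v
open EtCore

namespace Groth.Agent.S0666

open Groth.Agent.EtFound

set_option backward.isDefEq.respectTransparency false

section General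

universe u₁ v₁ u₂ v₂

variable {A : Type u₁} [Category.{v₁} A] [Abelian A] {B : Type u₂} [Category.{v₂} B] [Abelian B]
  (K : A ⥤ CochainComplex B ℕ) [K.Additive]
  (hK : ∀ S : ShortComplex A, S.ShortExact → (S.map K).ShortExact)

/-- The homology delta-functor of an exact functor to cochain complexes. -/
noncomputable def homDelta : DeltaF.CohDeltaFunctor A B ℕ where
  F n := K ⋙ HomologicalComplex.homologyFunctor B _ n
  additive n := inferInstance
  δ S hS n₀ n₁ h := (hK S hS).δ n₀ n₁ h
  δ_natural {S S'} hS hS' φ n₀ n₁ h :=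
    (HomologicalComplex.HomologySequence.δ_naturality ((K.mapShortComplex).map φ) (hK S hS) (hK S' hS')
      n₀ n₁ h).symm
  exact₂ S hS n := (hK S hS).homology_exact₂ n
  comp_δ S hS n₀ n₁ h := (hK S hS).comp_δ n₀ n₁ h
  exact₃ S hS n₀ n₁ h := (hK S hS).homology_exact₃ n₀ n₁ h
  δ_comp S hS n₀ n₁ h := (hK S hS).δ_comp n₀ n₁ h
  exact₁ S hS n₀ n₁ h := (hK S hS).homology_exact₁ n₀ n₁ h

include hK in
/-- The degree zero homology of an exact functor is left exact. -/
theorem preservesFiniteLimits_H0 :
    PreservesFiniteLimits (K ⋙ HomologicalComplex.homologyFunctor B _ 0) := by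
  rw [Functor.preservesFiniteLimits_iff_forall_exact_map_and_mono]
  intro S hS
  refine ⟨(hK S hS).homology_exact₂ 0, ?_⟩
  haveI := (hK S hS).mono_f
  haveI : Mono ((K.map S.f).f 0) :=
    inferInstanceAs (Mono ((HomologicalComplex.eval B (ComplexShape.up ℕ) 0).map (S.map K).f))
  have h := CochainComplex.isoHomologyπ₀_inv_naturality (K.map S.f)
  haveI : Mono ((K.obj S.X₁).isoHomologyπ₀.inv ≫ HomologicalComplex.cyclesMap (K.map S.f) 0) :=
    mono_comp _ _
  exact mono_of_mono_fac h

end General

variable {C : Type w} [Category.{v} C] {U : C} [HasFiniteProducts (Over U)] {ι : Type w} (Uf : ι → Over U)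

/-- The Čech complex as a functor of the presheaf. -/
noncomputable abbrev cechK : (Cᵒᵖ ⥤ AddCommGrpCat.{w}) ⥤ CochainComplex AddCommGrpCat.{w} ℕ :=
  (Functor.whiskeringLeft (Over U)ᵒᵖ Cᵒᵖ AddCommGrpCat.{w}).obj (Over.forget U).op ⋙ cechComplexFunctor Uf

variable [LocallySmall.{w} C]

theorem cev_map {P Q : Cᵒᵖ ⥤ AddCommGrpCat.{w}} (φ : P ⟶ Q) (n : ℕ) (i : Fin (n + 1) → ι)
    (x : (EtCech.cechComplex Uf P).X n) :
    CechInjGen.cev Uf Q n i (((cechK Uf).map φ).f n x) =
      φ.app (op (∏ᶜ fun k => Uf (i k)).left) (CechInjGen.cev Uf P n i x) :=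
  ConcreteCategory.congr_hom
    (Pi.map_π (fun j : Fin (n + 1) → ι => φ.app (op (∏ᶜ fun k => Uf (j k)).left)) i) x

instance cechK_additive : (cechK Uf).Additive where
  map_add {P Q φ ψ} := by
    ext n x
    refine CechInjGen.cev_ext Uf Q fun i => ?_
    refine (cev_map Uf (φ + ψ) n i x).trans ?_
    refine Eq.trans ?_ (map_add (CechInjGen.cev Uf Q n i) _ _).symm
    exact (congrArg₂ (· + ·) (cev_map Uf φ n i x) (cev_map Uf ψ n i x)).symm

theorem cechK_shortExact (S : ShortComplex (Cᵒᵖ ⥤ AddCommGrpCat.{w})) (hS : S.ShortExact) :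
    (S.map (cechK Uf)).ShortExact := by
  refine HomologicalComplex.shortExact_of_degreewise_shortExact _ fun n => ?_
  haveI := hS.mono_f
  haveI := hS.epi_g
  have hev : ∀ T : Cᵒᵖ, (S.map ((evaluation _ _).obj T)).ShortExact := fun T =>
    hS.map_of_exact ((evaluation Cᵒᵖ AddCommGrpCat.{w}).obj T)
  refine
    { exact := ?_
      mono_f := ?_
      epi_g := ?_ }
  · rw [ShortComplex.ab_exact_iff]
    intro x hx
    have h : ∀ i : Fin (n + 1) → ι, ∃ y : S.X₁.obj (op (∏ᶜ fun k => Uf (i k)).left),
        S.f.app _ y = CechInjGen.cev Uf S.X₂ n i x := fun i => by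
      refine (ShortComplex.ab_exact_iff _).1 (hev (op (∏ᶜ fun k => Uf (i k)).left)).exact _ ?_
      exact (cev_map Uf S.g n i x).symm.trans
        ((congrArg (CechInjGen.cev Uf S.X₃ n i) hx).trans (map_zero _))
    choose y hy using h
    obtain ⟨z, hz⟩ := CechInjGen.exists_cev Uf S.X₁ y
    refine ⟨z, CechInjGen.cev_ext Uf S.X₂ fun i => ?_⟩
    exact (cev_map Uf S.f n i z).trans ((congrArg _ (hz i)).trans (hy i))
  · rw [AddCommGrpCat.mono_iff_injective]
    intro a b hab
    refine CechInjGen.cev_ext Uf S.X₁ fun i => ?_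
    refine (AddCommGrpCat.mono_iff_injective _).1 (hev (op (∏ᶜ fun k => Uf (i k)).left)).mono_f ?_
    exact (cev_map Uf S.f n i a).symm.trans
      ((congrArg (CechInjGen.cev Uf S.X₂ n i) hab).trans (cev_map Uf S.f n i b))
  · rw [AddCommGrpCat.epi_iff_surjective]
    intro x
    have h : ∀ i : Fin (n + 1) → ι, ∃ y : S.X₂.obj (op (∏ᶜ fun k => Uf (i k)).left),
        S.g.app _ y = CechInjGen.cev Uf S.X₃ n i x := fun i =>
      (AddCommGrpCat.epi_iff_surjective _).1 (hev (op (∏ᶜ fun k => Uf (i k)).left)).epi_g _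
    choose y hy using h
    obtain ⟨z, hz⟩ := CechInjGen.exists_cev Uf S.X₂ y
    refine ⟨z, CechInjGen.cev_ext Uf S.X₃ fun i => ?_⟩
    exact (cev_map Uf S.g n i z).trans ((congrArg _ (hz i)).trans (hy i))

theorem cech_isEffaceable [HasInjectiveResolutions (Cᵒᵖ ⥤ AddCommGrpCat.{w})] :
    (homDelta (cechK Uf) (cechK_shortExact Uf)).IsEffaceable := by
  intro n X
  let I := injectiveResolution X
  haveI := I.injective 0
  refine ⟨I.cocomplex.X 0, I.ι.f 0, inferInstance, ?_⟩
  exact (CechInjGen.isZero_cechH_injective Uf (I.cocomplex.X 0) n).eq_of_tgt _ _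

/-- With C, U and the family (U_i -> U) as in the definition of the Cech complex, on the abelian
category of abelian presheaves on C the p-th Cech cohomology functor is isomorphic to the p-th right
derived functor of the zeroth Cech cohomology functor (assuming, as binders, that the latter is
additive and that abelian presheaves have injective resolutions, which hold because C is taken
essentially small relative to the coefficient universe). -/
theorem result {C : Type w} [Category.{v} C] [EssentiallySmall.{w} C] {U : C} [HasFiniteProducts (Over U)]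
    {ι : Type w} (Uf : ι → Over U) [(EtCech.cechHFunctor (C := C) Uf 0).Additive]
    [HasInjectiveResolutions (Cᵒᵖ ⥤ AddCommGrpCat.{w})] (p : ℕ) :
    Nonempty (EtCech.cechHFunctor (C := C) Uf p ≅ (EtCech.cechHFunctor (C := C) Uf 0).rightDerived p) := by
  let T := homDelta (cechK Uf) (cechK_shortExact Uf)
  let Δ := SESResLib.derivedLES (EtCech.cechHFunctor (C := C) Uf 0)
  haveI : PreservesFiniteLimits (EtCech.cechHFunctor (C := C) Uf 0) :=
    preservesFiniteLimits_H0 (cechK Uf) (cechK_shortExact Uf)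
  obtain ⟨φ, -⟩ := Groth.Agent.S6774.result T Δ.toCohDeltaFunctor
    (Groth.Agent.DeltaFLib.isUniversal (cech_isEffaceable Uf))
    (Groth.Agent.DeltaFLib.isUniversal (SESResLib.isEffaceable _ Δ))
    (EtCech.cechHFunctor (C := C) Uf 0).rightDerivedZeroIsoSelf.symm
  exact ⟨{ hom := φ.hom.app p
           inv := φ.inv.app p
           hom_inv_id := by rw [← DeltaF.CohDeltaFunctor.comp_app, φ.hom_inv_id, DeltaF.CohDeltaFunctor.id_app]; rfl
           inv_hom_id := by rw [← DeltaF.CohDeltaFunctor.comp_app, φ.inv_hom_id, DeltaF.CohDeltaFunctor.id_app]; rfl }⟩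

end Groth.Agent.S0666
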