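import Groth.Statements.S3511
import Groth.Agent.EtAcycLib.Basis
import Groth.Agent.AcycFin.Limit
import Groth.Agent.AcycFin.Transport
import Groth.Agent.AcycFin.QfNhd
import Groth.Agent.AcycFin.Nonzero
import Groth.Agent.AlgSpLib.EtLocalInst
import Groth.Agent.AlgSpVal.DvrThrough
import Groth.Agent.EtFound.ConstAcyclic
-- import your own Groth.Agent.* helpers here

set_option autoImplicit false
universe u
open CategoryTheory CategoryTheory.Limits AlgebraicGeometry Opposite
open EtAcyc

namespace Groth.Agent.S3511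

set_option backward.isDefEq.respectTransparency false
set_option linter.style.haveILetI false
set_option backward.isDefEq.respectTransparency.types false

open Groth.Agent.AcycFin

/-- An affine étale neighbourhood. -/
theorem exists_affine (Y : Scheme.{u}) (W : Y.Etale) (x : W.left) :
    ∃ (W' : Y.Etale) (h : W' ⟶ W) (w : W'.left), IsAffine W'.left ∧ h.left.base w = x := by
  obtain ⟨W', h, w, hW, hw⟩ := EtLC12.RpushTorsion.exists_affine_nhd x
  exact ⟨W', h, w, hW, hw⟩

/-- A closed subscheme of an étale scheme missed by a morphism obstructs acyclicity. -/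
theorem false_of_isEmpty {P V Z : Scheme.{u}} (p : P ⟶ V) (i : Z ⟶ V) [IsIntegralHom i] [Nonempty Z]
    [IsEmpty (pullback i p : Scheme.{u})] (L : Set ℕ) (ℓ : ℕ) (hℓ : ℓ.Prime) (hℓL : ℓ ∈ L) (n : ℕ)
    (h : EtAcyc.CompN p L n) : False := by
  haveI := EtFound.pull_preservesFiniteLimits p
  haveI := EtFound.pull_preservesFiniteLimits (pullback.fst i p)
  have hF : EtAcyc.IsLTorsion L (EtCoh.const Z (ZMod ℓ)) := by
    refine isLTorsion_of_killed ⟨hℓ.pos, fun r hr hd => ((Nat.prime_dvd_prime_iff_eq hr hℓ).1 hd).symm ▸ hℓL⟩ ?_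
    haveI : (constantSheaf Z.smallEtaleTopology AddCommGrpCat.{u + 1}).IsLeftAdjoint := (EtCore.constAdj Z).isLeftAdjoint
    haveI : (EtCore.gsec Z).Additive :=
      inferInstanceAs (sheafToPresheaf Z.smallEtaleTopology AddCommGrpCat.{u + 1} ⋙
        (evaluation Z.Etaleᵒᵖ AddCommGrpCat.{u + 1}).obj (op (EtCoh.top Z))).Additive
    haveI : (constantSheaf Z.smallEtaleTopology AddCommGrpCat.{u + 1}).Additive :=
      (EtCore.constAdj Z).left_adjoint_additive
    have e : ℓ • 𝟙 (AddCommGrpCat.of (ULift.{u + 1} (ZMod ℓ))) = 0 :=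
      AddCommGrpCat.hom_ext (AddMonoidHom.ext fun a => by
        rw [AddCommGrpCat.hom_nsmul, AddMonoidHom.nsmul_apply]
        exact ULift.down_injective ((nsmul_eq_mul _ _).trans (by rw [ZMod.natCast_self, zero_mul]; rfl)))
    show ℓ • 𝟙 ((constantSheaf Z.smallEtaleTopology AddCommGrpCat.{u + 1}).obj _) = 0
    rw [← CategoryTheory.Functor.map_id, ← Functor.map_nsmul, e, Functor.map_zero]
  obtain ⟨hb, -⟩ := compN_integral p i h (EtCoh.const Z (ZMod ℓ)) hF
  obtain ⟨x, hx⟩ := exists_H0_ne_zero Z ℓ hℓ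
  refine hx ((hb 0 (Nat.zero_le n)).1 ?_)
  haveI := EtFound.ConstAcyclic.subsingleton_H_of_isEmpty ((EtCoh.pull (pullback.fst i p)).obj (EtCoh.const Z (ZMod ℓ))) 0
  exact Subsingleton.elim _ _

/-- An acyclic quasi-compact morphism is surjective. -/
theorem surjective_of_isAcyclicN {X Y : Scheme.{u}} (g : X ⟶ Y) [QuasiCompact g] (L : Set ℕ)
    (hL : ∃ ℓ ∈ L, ℓ.Prime) (n : ℕ) (h : EtAcyc.IsAcyclicN g L n) : Function.Surjective g.base := by
  obtain ⟨ℓ, hℓL, hℓ⟩ := hL
  intro y
  by_contra hy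
  obtain ⟨W, hW, hyW, -⟩ := exists_isAffineOpen_mem_and_subset (U := (⊤ : Y.Opens)) (x := y) trivial
  haveI : IsAffine W.toScheme := hW
  let y' : W.toScheme := ⟨y, hyW⟩
  let I := Scheme.IdealSheafData.vanishingIdeal (⟨closure {y'}, isClosed_closure⟩ : TopologicalSpace.Closeds W.toScheme)
  let z := I.subschemeι
  have hrz : Set.range z.base = closure {y'} := by
    rw [Scheme.IdealSheafData.range_subschemeι]
    simp [I]
  obtain ⟨z₀, hz₀⟩ : y' ∈ Set.range z.base := hrz ▸ subset_closure (Set.mem_singleton _)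
  haveI : IsAffine I.subscheme := isAffine_of_isAffineHom z
  let p := pullback.fst W.ι g
  let q := pullback.fst z p
  haveI : CompactSpace (pullback z p : Scheme.{u}) := QuasiCompact.compactSpace_of_compactSpace q
  have hz₀' : z₀ ∉ closure (Set.range q.base) := fun hc => by
    obtain ⟨v, hv⟩ := AlgSpVal.exists_specializes_of_mem_closure_range q hc
    have h1 : z.base (q.base v) ⤳ y' := hz₀ ▸ hv.map z.continuous
    have h2 : y' ⤳ z.base (q.base v) := specializes_iff_mem_closure.2 (hrz ▸ Set.mem_range_self _)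
    refine hy ⟨(pullback.snd W.ι g).base ((pullback.snd z p).base v), ?_⟩
    have h3 : p.base ((pullback.snd z p).base v) = y' := by
      rw [← (h1.antisymm h2).eq]
      exact (congrArg (fun φ : pullback z p ⟶ W.toScheme => φ.base v) (pullback.condition (f := z) (g := p))).symm
    exact (congrArg (fun φ : pullback W.ι g ⟶ Y => φ.base ((pullback.snd z p).base v))
      (pullback.condition (f := W.ι) (g := g))).symm.trans (congrArg W.ι.base h3)
  obtain ⟨O, hO, hOq⟩ := z.isClosedEmbedding.isInducing.isOpen_iff.1 isClosed_closure.isOpen_compl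
  have hz₀O : y' ∈ O := hz₀ ▸ (show z₀ ∈ z.base ⁻¹' O from hOq ▸ hz₀')
  let U : W.toScheme.Opens := ⟨O, hO⟩
  haveI : AlgebraicGeometry.Etale (U.ι ≫ W.ι) := inferInstance
  let V : Y.Etale := Scheme.Etale.mk (U.ι ≫ W.ι)
  let i : (z ⁻¹ᵁ U).toScheme ⟶ V.left := z ∣_ U
  haveI : IsIntegralHom i := by
    haveI : IsClosedImmersion (z ∣_ U) := IsZariskiLocalAtTarget.restrict (inferInstance : IsClosedImmersion z) U
    exact (inferInstance : IsIntegralHom (z ∣_ U))
  haveI : Nonempty (z ⁻¹ᵁ U).toScheme := ⟨⟨z₀, show z.base z₀ ∈ U by rw [hz₀]; exact hz₀O⟩⟩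
  haveI : IsEmpty (pullback i (EtAcyc.prj g V) : Scheme.{u}) := ⟨fun v => by
    let a : (z ⁻¹ᵁ U).toScheme := (pullback.fst i (EtAcyc.prj g V)).base v
    have ha : ((z ⁻¹ᵁ U).ι.base a) ∉ Set.range q.base := fun hr =>
      (show (z ⁻¹ᵁ U).ι.base a ∈ (closure (Set.range q.base))ᶜ from hOq ▸ a.2) (subset_closure hr)
    refine ha ?_
    let b : pullback i (EtAcyc.prj g V) ⟶ pullback z p :=
      pullback.lift (pullback.fst i (EtAcyc.prj g V) ≫ (z ⁻¹ᵁ U).ι)
        (pullback.snd i (EtAcyc.prj g V) ≫ pullback.map V.hom g W.ι g U.ι (𝟙 X) (𝟙 Y)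
          (Category.comp_id _) (by simp)) (by
          show _ = _ ≫ pullback.fst W.ι g
          simp only [Category.assoc, pullback.lift_fst]
          rw [← morphismRestrict_ι]
          exact pullback.condition_assoc U.ι)
    exact ⟨b.base v, congrArg (fun φ : pullback i (EtAcyc.prj g V) ⟶ I.subscheme => φ.base v)
      (pullback.lift_fst _ _ _)⟩⟩
  exact false_of_isEmpty (EtAcyc.prj g V) i L ℓ hℓ hℓL n (h V)

/-- Let g : X → Y be quasi-compact and quasi-separated, L a set of primes containing at least one prime,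
and n a natural number. (The published statement does not ask that L contain a prime; with L empty
the equivalence fails, e.g. for the empty scheme over a field, so that hypothesis is added here.)
Then g is n-acyclic for L if and only if g is surjective and, for every locally quasi-finite
morphism (locally of finite type with discrete fibres) Y' → Y with base change g' : X' = X ×_Y Y' →
Y', every prime ℓ ∈ L and every ν ≥ 1, the pullback map H^q(Y', Z/ℓ^ν) → H^q(X', g'⁻¹(Z/ℓ^ν)) is
surjective for 0 ≤ q ≤ n. -/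
theorem result {X Y : Scheme.{u}} (g : X ⟶ Y)
    [QuasiCompact g] [QuasiSeparated g] (L : Set ℕ) (hL : ∃ ℓ ∈ L, ℓ.Prime) (n : ℕ) :
    EtAcyc.IsAcyclicN g L n ↔
      Function.Surjective g.base ∧
        ∀ (Y' : Scheme.{u}) (i : Y' ⟶ Y) [LocallyQuasiFinite i] [LocallyOfFiniteType i] (ℓ : ℕ), ℓ.Prime → ℓ ∈ L →
          ∀ (ν : ℕ), 1 ≤ ν → ∀ [PreservesFiniteLimits (EtCoh.pull (pullback.snd g i))] (q : ℕ), q ≤ n →
            Function.Surjective (EtCore.Hpull (pullback.snd g i) (EtCoh.const Y' (ZMod (ℓ ^ ν))) q) := by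
  constructor
  · intro h
    refine ⟨surjective_of_isAcyclicN g L hL n h, fun Y' i _ _ ℓ hℓ hℓL ν hν _ q hq => ?_⟩
    let g' := pullback.snd g i
    let B : ∀ W : Scheme.{u}, (W ⟶ Y') → Prop := fun W a =>
      ∃ (V : Y.Etale) (k : W ⟶ V.left), IsFinite k ∧ k ≫ V.hom = a ≫ i
    have hacyc : EtAcyc.IsAcyclicN g' L n := by
      refine EtAcycLib.UnitRpush.isAcyclicN_of_basis g' L n B (fun W x => ?_) ?_
      · haveI : AlgebraicGeometry.Etale W.hom := W.prop
        obtain ⟨V, W', a, k, w', -, ha, hk, hka, hw'⟩ := exists_finite_nhd (W.hom ≫ i) x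
        haveI := ha
        refine ⟨Scheme.Etale.mk (a ≫ W.hom), MorphismProperty.Over.homMk a rfl trivial, w',
          ⟨V, k, hk, ?_⟩, hw'⟩
        show k ≫ V.hom = (a ≫ W.hom) ≫ i
        rw [Category.assoc, hka]
      · rintro W ⟨V, k, hk, hkV⟩
        haveI := hk
        have hc := compN_integral (EtAcyc.prj g V) k (h V)
        have hP : IsPullback (pullback.fst W.hom g') (pullback.snd W.hom g' ≫ pullback.fst g i) (k ≫ V.hom) g := by
          rw [hkV]
          exact (IsPullback.of_hasPullback W.hom g').paste_vert (IsPullback.of_hasPullback g i).flip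
        have hQ : IsPullback (pullback.fst k (EtAcyc.prj g V))
            (pullback.snd k (EtAcyc.prj g V) ≫ pullback.snd V.hom g) (k ≫ V.hom) g :=
          (IsPullback.of_hasPullback k (EtAcyc.prj g V)).flip.paste_horiz (IsPullback.of_hasPullback V.hom g).flip |>.flip
        exact compN_of_iso (hP.isoIsPullback _ _ hQ).hom (hP.isoIsPullback_hom_fst _ _ hQ) hc
    have htop : EtAcyc.CompN g' L n := by
      refine compN_of_iso (inv (pullback.snd (𝟙 Y') g')) (?_ : _ ≫ pullback.fst (𝟙 Y') g' = g') (hacyc (EtCoh.top Y'))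
      rw [IsIso.inv_comp_eq, ← pullback.condition, Category.comp_id]
    haveI : Fact ℓ.Prime := ⟨hℓ⟩
    refine ((htop _ (isLTorsion_of_killed (m := ℓ ^ ν) ⟨pow_pos hℓ.pos ν, fun r hr hd =>
      ((Nat.prime_dvd_prime_iff_eq hr hℓ).1 (hr.dvd_of_dvd_pow hd)).symm ▸ hℓL⟩ ?_)).1 q hq).2
    haveI : (EtCore.gsec Y').Additive :=
      inferInstanceAs (sheafToPresheaf Y'.smallEtaleTopology AddCommGrpCat.{u + 1} ⋙
        (evaluation Y'.Etaleᵒᵖ AddCommGrpCat.{u + 1}).obj (op (EtCoh.top Y'))).Additive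
    haveI : (constantSheaf Y'.smallEtaleTopology AddCommGrpCat.{u + 1}).Additive :=
      (EtCore.constAdj Y').left_adjoint_additive
    have e : (ℓ ^ ν) • 𝟙 (AddCommGrpCat.of (ULift.{u + 1} (ZMod (ℓ ^ ν)))) = 0 :=
      AddCommGrpCat.hom_ext (AddMonoidHom.ext fun a => by
        rw [AddCommGrpCat.hom_nsmul, AddMonoidHom.nsmul_apply]
        exact ULift.down_injective ((nsmul_eq_mul _ _).trans (by rw [ZMod.natCast_self, zero_mul]; rfl)))
    show (ℓ ^ ν) • 𝟙 ((constantSheaf Y'.smallEtaleTopology AddCommGrpCat.{u + 1}).obj _) = 0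
    rw [← CategoryTheory.Functor.map_id, ← Functor.map_nsmul, e, Functor.map_zero]
  · rintro ⟨hsurj, hconst⟩
    refine EtAcycLib.UnitRpush.isAcyclicN_of_basis g L n (fun W _ => IsAffine W) (exists_affine Y) ?_
    intro W hW
    intro F hF _
    haveI := hW
    haveI : AlgebraicGeometry.Etale W.hom := W.prop
    haveI : Surjective g := ⟨hsurj⟩
    haveI : Surjective (EtAcyc.prj g W) := MorphismProperty.pullback_fst W.hom g ‹_›
    refine compare (EtAcyc.prj g W) (intConstSurj_of_finite (EtAcyc.prj g W) L n ?_) F hF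
    intro Y' p _ ℓ hℓ hℓL ν hν _ q hq
    haveI := EtFound.pull_preservesFiniteLimits (pullback.snd g (p ≫ W.hom))
    haveI : LocallyQuasiFinite (p ≫ W.hom) := inferInstance
    haveI : LocallyOfFiniteType (p ≫ W.hom) := inferInstance
    have hQ : IsPullback (pullback.fst p (EtAcyc.prj g W))
        (pullback.snd p (EtAcyc.prj g W) ≫ pullback.snd W.hom g) (p ≫ W.hom) g :=
      (IsPullback.of_hasPullback p (EtAcyc.prj g W)).flip.paste_horiz (IsPullback.of_hasPullback W.hom g).flip |>.flip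
    have hR := (IsPullback.of_hasPullback g (p ≫ W.hom)).flip
    exact surjective_Hpull_const_of_iso (hQ.isoIsPullback _ _ hR).hom (pullback.snd g (p ≫ W.hom)) _
      (hQ.isoIsPullback_hom_fst _ _ hR) _ q (hconst Y' (p ≫ W.hom) ℓ hℓ hℓL ν hν q hq)

end Groth.Agent.S3511
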