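import Groth.Statements.S8534
import Groth.Agent.S3511
import Groth.Agent.AcycFin.GeomFibres
-- import your own Groth.Agent.* helpers here

set_option autoImplicit false
universe u
open CategoryTheory CategoryTheory.Limits AlgebraicGeometry Opposite
open EtAcyc

namespace Groth.Agent.S8534

set_option backward.isDefEq.respectTransparency false
set_option linter.style.haveILetI false
set_option backward.isDefEq.respectTransparency.types false

open Groth.Agent.AcycFin

/-- Let g : X → Y be quasi-compact and quasi-separated, L a set of primes containing at least one prime,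
and n a natural number, and suppose g is n-acyclic for L. Then for every point y of Y and every
separably closed field Ω algebraic over κ(y), the geometric fibre X ×_Y Spec Ω is an n-acyclic
scheme for L (nonempty, connected, with H^q(-, Z/ℓ) = 0 for ℓ ∈ L and 1 ≤ q ≤ n). (The published
statement allows L empty, for which every morphism is n-acyclic while geometric fibres may be empty;
this row assumes L contains a prime.) -/
theorem result {X Y : Scheme.{u}} (g : X ⟶ Y) [QuasiCompact g] [QuasiSeparated g]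
    (L : Set ℕ) (hL : ∃ ℓ ∈ L, ℓ.Prime) (n : ℕ) (hg : EtAcyc.IsAcyclicN g L n) :
    EtAcyc.GeomFibresAcyclicN L n g := by
  intro y Ω _ _ _ _
  obtain ⟨hsurj, hconst⟩ := (S3511.result g L hL n).1 hg
  let a := EtAcyc.geomPt Y y Ω
  let f := pullback.fst a g
  haveI := EtFound.pull_preservesFiniteLimits f
  have key : ∀ ℓ : ℕ, ℓ.Prime → ℓ ∈ L → ∀ q, q ≤ n →
      Function.Surjective (EtCore.Hpull f (EtCoh.const (Spec (CommRingCat.of Ω)) (ZMod (ℓ ^ 1))) q) :=
    fun ℓ hℓ hℓL q hq => surjective_fibre g y Ω (ZMod (ℓ ^ 1)) q fun Y' i _ _ _ =>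
      hconst Y' i ℓ hℓ hℓL 1 le_rfl q hq
  refine isAcyclicSchemeN_of_iso (pullbackSymmetry g a).hom ?_
  haveI hne : Nonempty (pullback a g : Scheme.{u}) := by
    haveI : Nonempty (Spec (CommRingCat.of Ω)) := inferInstanceAs (Nonempty (PrimeSpectrum Ω))
    obtain ⟨x, hx⟩ := hsurj (a.base (Classical.arbitrary _))
    obtain ⟨z, -, -⟩ := Scheme.Pullback.exists_preimage_pullback (f := a) (g := g) _ x hx.symm
    exact ⟨z⟩
  haveI := connectedSpace_specField Ω
  obtain ⟨ℓ₀, hℓ₀L, hℓ₀⟩ := hL
  have hconn : ConnectedSpace (pullback a g : Scheme.{u}) := by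
    have h := key ℓ₀ hℓ₀ hℓ₀L 0 (Nat.zero_le n)
    rw [pow_one] at h
    exact connectedSpace_of_H0 _ f ℓ₀ hℓ₀ h
  refine ⟨hne, hconn, fun ℓ hℓ hℓL q hq hqn => ?_⟩
  have h := key ℓ hℓ hℓL q hqn
  rw [pow_one] at h
  haveI := subsingleton_H_sepClosed Ω (EtCoh.const (Spec (CommRingCat.of Ω)) (ZMod ℓ)) q hq
  exact ((Kc_surjective_iff f (ZMod ℓ) q).1 h).subsingleton

end Groth.Agent.S8534
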