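import Groth.Statements.S3470
import Groth.Agent.S8534
import Groth.Agent.AcycFin.FibreCrit
-- import your own Groth.Agent.* helpers here

set_option autoImplicit false
universe u
open CategoryTheory CategoryTheory.Limits AlgebraicGeometry Opposite
open EtAcyc

namespace Groth.Agent.S3470

set_option backward.isDefEq.respectTransparency false
set_option linter.style.haveILetI false
set_option backward.isDefEq.respectTransparency.types false

open Groth.Agent.AcycFin

/-- A morphism with acyclic geometric fibres is surjective. -/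
theorem surjective_of_geomFibres {X Y : Scheme.{u}} (g : X ⟶ Y) (L : Set ℕ) (n : ℕ)
    (h : EtAcyc.GeomFibresAcyclicN L n g) : Surjective g := ⟨fun y => by
  obtain ⟨⟨p⟩, -, -⟩ := h y (SeparableClosure (Y.residueField y))
  refine ⟨(pullback.fst g _).base p, ?_⟩
  rw [← Scheme.Hom.comp_apply, pullback.condition, Scheme.Hom.comp_apply, Scheme.Hom.comp_apply]
  exact Scheme.fromSpecResidueField_apply y _⟩

/-- Surjectivity of constant classes over a quasi-compact quasi-separated base from the fibres. -/
theorem surjective_const_qcqs {X Y : Scheme.{u}} (g : X ⟶ Y) [QuasiCompact g] [QuasiSeparated g] [CompactSpace Y]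
    [QuasiSeparatedSpace Y] (L : Set ℕ) (n q : ℕ) (hloc : EtAcyc.IsLocAcyclicN g L (n - 1))
    (hfib : EtAcyc.GeomFibresAcyclicN L n g) (hq : q ≤ n) (hh : ∀ m, m + 1 = q → EtAcyc.CompN g L m)
    (ℓ : ℕ) (hℓ : ℓ.Prime) (hℓL : ℓ ∈ L) (ν : ℕ) [PreservesFiniteLimits (EtCoh.pull g)] :
    Function.Surjective (EtCore.Hpull g (EtCoh.const Y (ZMod (ℓ ^ ν))) q) := fun ξ => by
  haveI := surjective_of_geomFibres g L n hfib
  refine mem_range_of_fibres g L (n - 1) hloc (q := q) (by omega) hh _ ?_ ξ
    fun y Ω _ _ _ _ => inR_const_of_acyclic g y Ω (hfib y Ω) ℓ hℓ hℓL ν hq ξ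
  refine isLTorsion_of_killed (m := ℓ ^ ν) ⟨pow_pos hℓ.pos ν, fun r hr hd =>
    ((Nat.prime_dvd_prime_iff_eq hr hℓ).1 (hr.dvd_of_dvd_pow hd)).symm ▸ hℓL⟩ ?_
  haveI : (EtCore.gsec Y).Additive :=
    inferInstanceAs (sheafToPresheaf Y.smallEtaleTopology AddCommGrpCat.{u + 1} ⋙
      (evaluation Y.Etaleᵒᵖ AddCommGrpCat.{u + 1}).obj (op (EtCoh.top Y))).Additive
  haveI : (constantSheaf Y.smallEtaleTopology AddCommGrpCat.{u + 1}).Additive :=
    (EtCore.constAdj Y).left_adjoint_additive
  have e : (ℓ ^ ν) • 𝟙 (AddCommGrpCat.of (ULift.{u + 1} (ZMod (ℓ ^ ν)))) = 0 :=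
    AddCommGrpCat.hom_ext (AddMonoidHom.ext fun a => by
      rw [AddCommGrpCat.hom_nsmul, AddMonoidHom.nsmul_apply]
      exact ULift.down_injective ((nsmul_eq_mul _ _).trans (by rw [ZMod.natCast_self, zero_mul]; rfl)))
  show (ℓ ^ ν) • 𝟙 ((constantSheaf Y.smallEtaleTopology AddCommGrpCat.{u + 1}).obj _) = 0
  rw [← CategoryTheory.Functor.map_id, ← Functor.map_nsmul, e, Functor.map_zero]

/-- Abelian case, n ≥ 1: let g : X → Y be quasi-compact and quasi-separated, L a set of primes
(containing at least one prime) and n ≥ 1, and suppose g is locally (n-1)-acyclic for L. Then g is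
n-acyclic for L if and only if, for every point y of Y and every separably closed field Ω algebraic
over κ(y), the geometric fibre X ×_Y Spec Ω is an n-acyclic scheme for L (nonempty, connected, with
vanishing H^q(-, Z/ℓ) for ℓ ∈ L and 1 ≤ q ≤ n). The source does not require L to contain a prime;
with L empty every morphism is n-acyclic for L while geometric fibres need not be connected, so the
equivalence fails and that hypothesis is added here. -/
theorem result {X Y : Scheme.{u}} (g : X ⟶ Y) [QuasiCompact g] [QuasiSeparated g]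
    (L : Set ℕ) (hL : ∃ ℓ ∈ L, ℓ.Prime) (n : ℕ) (hn : 1 ≤ n) (hloc : EtAcyc.IsLocAcyclicN g L (n - 1)) :
    EtAcyc.IsAcyclicN g L n ↔ EtAcyc.GeomFibresAcyclicN L n g := by
  refine ⟨S8534.result g L hL n, fun hfib => ?_⟩
  haveI := surjective_of_geomFibres g L n hfib
  have key : ∀ k, k ≤ n → EtAcyc.IsAcyclicN g L k := by
    intro k
    induction k using Nat.strong_induction_on with
    | _ k ih =>
      intro hk
      refine EtAcycLib.UnitRpush.isAcyclicN_of_basis g L k (fun W _ => IsAffine W) (S3511.exists_affine Y) ?_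
      intro W hW F hF _
      haveI := hW
      haveI : AlgebraicGeometry.Etale W.hom := W.prop
      haveI : Surjective (EtAcyc.prj g W) := MorphismProperty.pullback_fst W.hom g ‹_›
      refine compare (EtAcyc.prj g W) (intConstSurj_of_finite (EtAcyc.prj g W) L k ?_) F hF
      intro Y' p _ ℓ hℓ hℓL ν hν _ q hq
      let i := p ≫ W.hom
      haveI : LocallyQuasiFinite i := inferInstance
      haveI : LocallyOfFiniteType i := inferInstance
      haveI : IsAffine Y' := isAffine_of_isAffineHom p
      haveI := EtFound.pull_preservesFiniteLimits (pullback.snd g i)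
      have sq := (IsPullback.of_hasPullback g i).flip
      have hs := surjective_const_qcqs (pullback.snd g i) L n q (isLocAcyclicN_baseChange g i hloc)
        (geomFibres_baseChange g i hfib) (hq.trans hk)
        (fun m hm => compN_of_isAcyclicN (isAcyclicN_baseChange sq (ih m (by omega) (by omega))))
        ℓ hℓ hℓL ν
      have hQ : IsPullback (pullback.fst p (EtAcyc.prj g W))
          (pullback.snd p (EtAcyc.prj g W) ≫ pullback.snd W.hom g) i g :=
        (IsPullback.of_hasPullback p (EtAcyc.prj g W)).flip.paste_horiz (IsPullback.of_hasPullback W.hom g).flip |>.flip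
      exact surjective_Hpull_const_of_iso (hQ.isoIsPullback _ _ sq).hom (pullback.snd g i) _
        (hQ.isoIsPullback_hom_fst _ _ sq) _ q hs
  exact key n le_rfl

end Groth.Agent.S3470
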