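import Groth.Statements.S3471
import Groth.Agent.S3470
import Groth.Agent.AcycFin.StrictLoc
import Groth.Agent.AcycFin.FibreCritZero
-- import your own Groth.Agent.* helpers here

set_option autoImplicit false
universe u
open CategoryTheory CategoryTheory.Limits AlgebraicGeometry Opposite
open EtAcyc

namespace Groth.Agent.S3471

set_option backward.isDefEq.respectTransparency false
set_option linter.style.haveILetI false
set_option backward.isDefEq.respectTransparency.types false

open Groth.Agent.AcycFin

/-- Connected geometric fibres and surjective strict localizations give surjectivity on constant sections. -/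
theorem surjective_const_zero {X Y : Scheme.{u}} (g : X ⟶ Y) [QuasiCompact g] [QuasiSeparated g] [CompactSpace Y]
    [QuasiSeparatedSpace Y] (L : Set ℕ) (n : ℕ) (hs : EtAcyc.OnStrictLocalizations g (fun _ _ m => Surjective m))
    (hfib : EtAcyc.GeomFibresAcyclicN L n g) (ℓ : ℕ) (hℓ : ℓ.Prime) (hℓL : ℓ ∈ L) (ν : ℕ)
    [PreservesFiniteLimits (EtCoh.pull g)] :
    Function.Surjective (EtCore.Hpull g (EtCoh.const Y (ZMod (ℓ ^ ν))) 0) := fun ξ =>
  haveI := S3470.surjective_of_geomFibres g L n hfib
  mem_range_zero_of_fibres g _ ξ hs fun y Ω _ _ _ _ =>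
    inR_const_of_acyclic g y Ω (hfib y Ω) ℓ hℓ hℓL ν (Nat.zero_le n) ξ

/-- Degree zero: connected geometric fibres and surjective strict localizations give `0`-acyclicity. -/
theorem isAcyclicN_zero {X Y : Scheme.{u}} (g : X ⟶ Y) [QuasiCompact g] [QuasiSeparated g] (L : Set ℕ)
    (hs : EtAcyc.OnStrictLocalizations g (fun _ _ m => Surjective m)) (hfib : EtAcyc.GeomFibresAcyclicN L 0 g) :
    EtAcyc.IsAcyclicN g L 0 := by
  haveI := S3470.surjective_of_geomFibres g L 0 hfib
  refine EtAcycLib.UnitRpush.isAcyclicN_of_basis g L 0 (fun W _ => IsAffine W) (S3511.exists_affine Y) ?_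
  intro W hW F hF _
  haveI := hW
  haveI : AlgebraicGeometry.Etale W.hom := W.prop
  haveI : Surjective (EtAcyc.prj g W) := MorphismProperty.pullback_fst W.hom g ‹_›
  refine compare (EtAcyc.prj g W) (intConstSurj_of_finite (EtAcyc.prj g W) L 0 ?_) F hF
  intro Y' p _ ℓ hℓ hℓL ν hν _ q hq
  obtain rfl := Nat.le_zero.1 hq
  let i := p ≫ W.hom
  haveI : LocallyQuasiFinite i := inferInstance
  haveI : LocallyOfFiniteType i := inferInstance
  haveI : IsAffine Y' := isAffine_of_isAffineHom p
  haveI := EtFound.pull_preservesFiniteLimits (pullback.snd g i)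
  have sq := (IsPullback.of_hasPullback g i).flip
  have hs := surjective_const_zero (pullback.snd g i) L 0 (surjStrict_baseChange g i hs)
    (geomFibres_baseChange g i hfib) ℓ hℓ hℓL ν
  have hQ : IsPullback (pullback.fst p (EtAcyc.prj g W))
      (pullback.snd p (EtAcyc.prj g W) ≫ pullback.snd W.hom g) i g :=
    (IsPullback.of_hasPullback p (EtAcyc.prj g W)).flip.paste_horiz (IsPullback.of_hasPullback W.hom g).flip |>.flip
  exact surjective_Hpull_const_of_iso (hQ.isoIsPullback _ _ sq).hom (pullback.snd g i) _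
    (hQ.isoIsPullback_hom_fst _ _ sq) _ 0 hs

/-- Acyclicity of the geometric fibres is monotone in the degree. -/
theorem geomFibres_mono {L : Set ℕ} {m n : ℕ} (h : m ≤ n) {X Y : Scheme.{u}} {g : X ⟶ Y}
    (H : EtAcyc.GeomFibresAcyclicN L n g) : EtAcyc.GeomFibresAcyclicN L m g := fun y Ω _ _ _ _ =>
  ⟨(H y Ω).1, (H y Ω).2.1, fun ℓ hℓ hℓL q h1 h2 => (H y Ω).2.2 ℓ hℓ hℓL q h1 (h2.trans h)⟩

/-- Acyclic geometric fibres of the strict localizations give local acyclicity. -/
theorem isLocAcyclicN_of_geomFibres (L : Set ℕ) (hL : ∃ ℓ ∈ L, ℓ.Prime) (n : ℕ) :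
    ∀ {X Y : Scheme.{u}} (g : X ⟶ Y),
      EtAcyc.OnStrictLocalizations g (fun _ _ h => EtAcyc.GeomFibresAcyclicN L n h) →
        EtAcyc.IsLocAcyclicN g L n := by
  induction n with
  | zero =>
    intro X Y g H x RY RX _ _ _ _ _ _ _ _ _ _ _ _ hc
    refine isAcyclicN_zero _ L (onStrict_specMap g x RY RX hc ?_) (H x RY RX hc)
    intro x' RY' RX' _ _ _ _ _ _ _ _ _ _ _ _ hc'
    exact S3470.surjective_of_geomFibres _ L 0 (H x' RY' RX' hc')
  | succ n ih =>
    intro X Y g H x RY RX _ _ _ _ _ _ _ _ _ _ _ _ hc
    refine (S3470.result _ L hL (n + 1) (by omega) ?_).2 (H x RY RX hc)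
    refine ih _ (onStrict_specMap g x RY RX hc ?_)
    intro x' RY' RX' _ _ _ _ _ _ _ _ _ _ _ _ hc'
    exact geomFibres_mono (Nat.le_succ n) (H x' RY' RX' hc')

/-- Let g : X → Y be a morphism of schemes, L a set of primes containing at least one prime, n a natural
number. Then g is locally n-acyclic for L if and only if for every point x of X and all strict
henselizations R_Y, R_X of the local rings at g x and x with a compatible local map R_Y → R_X, every
geometric fibre of Spec R_X → Spec R_Y at a separably closed field algebraic over a residue field of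
Spec R_Y is an n-acyclic scheme for L. The source does not require L to contain a prime; with L
empty the left side always holds while the right side asks for connected nonempty fibres, so that
hypothesis is added here. -/
theorem result {X Y : Scheme.{u}} (g : X ⟶ Y)
    (L : Set ℕ) (hL : ∃ ℓ ∈ L, ℓ.Prime) (n : ℕ) :
    EtAcyc.IsLocAcyclicN g L n ↔
      EtAcyc.OnStrictLocalizations g (fun _ _ h => EtAcyc.GeomFibresAcyclicN L n h) := by
  refine ⟨fun h x RY RX _ _ _ _ _ _ _ _ _ _ _ _ hc => ?_, isLocAcyclicN_of_geomFibres L hL n g⟩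
  exact S8534.result _ L hL n (h x RY RX hc)

end Groth.Agent.S3471
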