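import Groth.Statements.S3126
import Groth.Agent.S3471
import Groth.Agent.AcycFin.SchemeAcyc
import Groth.Agent.AcycFin.GlobalUnit
-- import your own Groth.Agent.* helpers here

set_option autoImplicit false
universe u
open CategoryTheory CategoryTheory.Limits AlgebraicGeometry
open SGA4h

namespace Groth.Agent.S3126

set_option backward.isDefEq.respectTransparency false
set_option linter.style.haveILetI false
set_option backward.isDefEq.respectTransparency.types false

open Groth.Agent.AcycFin TensorProduct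

attribute [local instance] EtFound.pull_preservesFiniteLimits

theorem nsmul_const_eq_zero (P : Scheme.{u}) (n : ℕ) : n • 𝟙 (EtCoh.const P (ZMod n)) = 0 := by
  haveI : (constantSheaf P.smallEtaleTopology AddCommGrpCat.{u + 1}).Additive :=
    (EtCore.constAdj P).left_adjoint_additive
  have e : n • 𝟙 (AddCommGrpCat.of (ULift.{u + 1} (ZMod n))) = 0 :=
    AddCommGrpCat.hom_ext (AddMonoidHom.ext fun a => by
      rw [AddCommGrpCat.hom_nsmul, AddMonoidHom.nsmul_apply]
      exact ULift.down_injective ((nsmul_eq_mul _ _).trans (by rw [ZMod.natCast_self, zero_mul]; rfl)))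
  show n • 𝟙 ((constantSheaf P.smallEtaleTopology AddCommGrpCat.{u + 1}).obj _) = 0
  rw [← CategoryTheory.Functor.map_id, ← Functor.map_nsmul, e, Functor.map_zero]

theorem acyclicScheme_of_vc {RS RX Ω : Type u} [CommRing RS] [CommRing RX] [Field Ω] [Algebra RS RX] [Algebra RS Ω]
    (L : Set ℕ) (n : ℕ) (hn : 2 ≤ n) (hL : ∀ ℓ ∈ L, ℓ.Prime → ℓ ∣ n)
    (h : (∀ q : ℕ, 0 < q → Subsingleton (EtCoh.H (Spec (CommRingCat.of (EtRest.vcRing RS RX Ω)))
        (EtCoh.const (Spec (CommRingCat.of (EtRest.vcRing RS RX Ω))) (ZMod n)) q)) ∧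
      Nonempty (EtCoh.H (Spec (CommRingCat.of (EtRest.vcRing RS RX Ω)))
        (EtCoh.const (Spec (CommRingCat.of (EtRest.vcRing RS RX Ω))) (ZMod n)) 0 ≃+ ZMod n))
    (t : Spec (CommRingCat.of Ω) ⟶ Spec (CommRingCat.of RS))
    (ht : t = Spec.map (CommRingCat.ofHom (algebraMap RS Ω))) (k : ℕ) :
    EtAcyc.IsAcyclicSchemeN L k (pullback (Spec.map (CommRingCat.ofHom (algebraMap RS RX))) t) := by
  subst ht
  obtain ⟨e⟩ := h.2
  exact isAcyclicSchemeN_of_iso (pullbackSpecIso RS RX Ω).hom (isAcyclicSchemeN_of_zmod _ Ω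
    (Spec.map (CommRingCat.ofHom (Algebra.TensorProduct.includeRight : Ω →ₐ[RS] RX ⊗[RS] Ω).toRingHom))
    n hn e h.1 L hL k)

/-- Let A be a strictly henselian Noetherian local ring, S = Spec A, n an integer invertible in A and f
: X → S a morphism which is locally acyclic (in the sense of vanishing cycles for ℤ/n-coefficients
prime to the residue characteristics), quasi-compact and quasi-separated (the last two are assumed
here in addition to the published hypotheses). Assume that every geometric fibre X_t of f has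
H^0(X_t, ℤ/n) ≅ ℤ/n and H^q(X_t, ℤ/n) = 0 for q > 0. Then the unit ℤ/n → f_* f^* ℤ/n is an
isomorphism and R^q f_* (ℤ/n) = 0 for q > 0. (Local acyclicity and the fibre hypothesis are stated
for all separably closed fields Ω, a priori more than algebraic geometric points; as hypotheses this
only weakens the statement.) -/
theorem result {X : Scheme.{u}} (A : Type u) [CommRing A] [IsNoetherianRing A]
    (hA : EtCoh.IsStrictlyHenselianLocalRing A) (n : ℕ) (hn : IsUnit (n : A)) (f : X ⟶ Spec (CommRingCat.of A))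
    [QuasiCompact f] [QuasiSeparated f] (hf : EtRest.IsLocallyAcyclic f)
    (hfib : ∀ (Ω : Type u) [Field Ω] [IsSepClosed Ω] (t : Spec (CommRingCat.of Ω) ⟶ Spec (CommRingCat.of A)),
      Nonempty (EtCoh.H (pullback f t) (EtCoh.const (pullback f t) (ZMod n)) 0 ≃+ ZMod n) ∧
      ∀ q : ℕ, 0 < q → Subsingleton (EtCoh.H (pullback f t) (EtCoh.const (pullback f t) (ZMod n)) q)) :
    IsIso ((EtCoh.pullPushAdj f).unit.app (EtCoh.const (Spec (CommRingCat.of A)) (ZMod n))) ∧
    ∀ q : ℕ, 0 < q → IsZero ((EtCoh.Rpush f q).obj (EtCoh.const X (ZMod n))) := by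
  haveI : IsLocalRing A := hA.1.toIsLocalRing
  rcases Nat.lt_or_ge n 2 with hn2 | hn2
  · interval_cases n
    · exact absurd (by simpa using hn) (not_isUnit_zero (M₀ := A))
    · have hz : ∀ P : Scheme.{u}, IsZero (EtCoh.const P (ZMod 1)) := fun P =>
        (IsZero.iff_id_eq_zero _).2 (by simpa using nsmul_const_eq_zero P 1)
      haveI : (EtCoh.pull f).IsLeftAdjoint := (EtCoh.pullPushAdj f).isLeftAdjoint
      haveI : (EtCoh.push f).IsRightAdjoint := (EtCoh.pullPushAdj f).isRightAdjoint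
      exact ⟨IsZero.isIso (hz _) ((EtCoh.push f).map_isZero ((EtCoh.pull f).map_isZero (hz _))) _,
        fun q _ => (EtCoh.Rpush f q).map_isZero (hz _)⟩
  let L : Set ℕ := {ℓ | ℓ.Prime ∧ ℓ ∣ n}
  have hL : ∀ ℓ ∈ L, ℓ.Prime → ℓ ∣ n := fun ℓ hℓ _ => hℓ.2
  have hL' : ∃ ℓ ∈ L, ℓ.Prime := by
    obtain ⟨ℓ, hℓ, hd⟩ := Nat.exists_prime_and_dvd (show n ≠ 1 by omega)
    exact ⟨ℓ, ⟨hℓ, hd⟩, hℓ⟩
  have hinv : ∀ x : X, (n : X.residueField x) ≠ 0 := fun x => by
    have h := hn.map (Spec.preimage (X.fromSpecResidueField x ≫ f)).hom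
    rw [map_natCast] at h
    exact h.ne_zero
  have hlocal : ∀ k, EtAcyc.IsLocAcyclicN f L k := fun k => (S3471.result f L hL' k).2 (by
    intro x RY RX _ _ _ _ _ _ _ _ _ _ _ _ hc y Ω _ _ _ _
    letI : Algebra RY Ω := (Spec.preimage (EtAcyc.geomPt (Spec (CommRingCat.of RY)) y Ω)).hom.toAlgebra
    refine acyclicScheme_of_vc L n hn2 hL (hf x RY RX hc Ω n (hinv x)) _ ?_ k
    exact (Spec.map_preimage _).symm)
  have hgeom : ∀ k, EtAcyc.GeomFibresAcyclicN L k f := fun k y Ω _ _ _ _ => by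
    obtain ⟨⟨e⟩, h⟩ := hfib Ω (EtAcyc.geomPt (Spec (CommRingCat.of A)) y Ω)
    exact isAcyclicSchemeN_of_zmod _ Ω (pullback.snd _ _) n hn2 e h L hL k
  have hac : ∀ k, EtAcyc.IsAcyclicN f L (k + 1) := fun k =>
    (S3470.result f L hL' (k + 1) (by omega) (hlocal k)).2 (hgeom _)
  have hF : EtAcyc.IsLTorsion L (EtCoh.const (Spec (CommRingCat.of A)) (ZMod n)) :=
    isLTorsion_of_killed ⟨by omega, fun r hr hd => ⟨hr, hd⟩⟩ (nsmul_const_eq_zero _ n)
  refine ⟨(unit_Rpush_of_isAcyclicN f L 1 (hac 0) _ hF).1, fun q hq => ?_⟩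
  obtain ⟨j, rfl⟩ := Nat.exists_eq_add_of_le' hq
  exact ((unit_Rpush_of_isAcyclicN f L (j + 1) (hac j) _ hF).2 (j + 1) (by omega) le_rfl).of_iso
    ((EtCoh.Rpush f (j + 1)).mapIso (EtCore.pullConst f (ZMod n)).symm)

end Groth.Agent.S3126
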