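import Groth.Statements.S0740
import Groth.Agent.ProEtLib.ClosedImmLimits
-- import your own Groth.Agent.* helpers here

set_option autoImplicit false
open CategoryTheory CategoryTheory.Limits AlgebraicGeometry Opposite
universe u
open ProEtS


attribute [-instance] CategoryTheory.catToReflQuiver

namespace Groth.Agent.S0740

/-- For a closed immersion i : Z -> X the functor i^{-1} on abelian pro-etale sheaves commutes with
(small) limits (continuity of base change assumed as a binder). -/
theorem result {Z X : Scheme.{u}} (i : Z ⟶ X) [IsClosedImmersion i]
    [ProEtS.PCont i] (J : Type u) [SmallCategory J] :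
    PreservesLimitsOfShape J (ProEtS.pullP i) := by
    exact ProEtLib.CI.preservesLimits i J

end Groth.Agent.S0740
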