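import Groth.Statements.S0760
import Groth.Agent.AcycFin.FieldLocAcyc
import Groth.Agent.AcycFin.SchemeAcyc
import Groth.Agent.AcycFin.ConstLocal
import Groth.Agent.AcycFin.H0Const
import Groth.Agent.Hensel.StrictSchemes
import Groth.Agent.LocAcycLib.LARestr
-- import your own Groth.Agent.* helpers here

set_option autoImplicit false
open CategoryTheory CategoryTheory.Limits AlgebraicGeometry Opposite
open scoped TensorProduct
universe u
open EtRest

namespace Groth.Agent.S0760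

set_option backward.isDefEq.respectTransparency false
set_option linter.style.haveILetI false
set_option backward.isDefEq.respectTransparency.types false

open Groth.Agent.AcycFin TensorProduct CategoryTheory.Abelian IsLocalRing

attribute [local instance] EtFound.pull_preservesFiniteLimits

/-- A locally constant sheaf becomes constant on a strict localization. -/
theorem exists_iso_const {X : Scheme.{u}} {F : EtCoh.Ab X} (hF : EtRest.IsLocallyConstant F) (x : X)
    (R : Type u) [CommRing R] [IsLocalRing R] [Algebra (X.presheaf.stalk x) R] [IsLocalHom (algebraMap (X.presheaf.stalk x) R)]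
    [_root_.Hensel.IsStrictHenselization (X.presheaf.stalk x) R] :
    ∃ M : AddCommGrpCat.{u + 1}, Nonempty (cSheaf (Spec (CommRingCat.of R)) M ≅ (EtCoh.pull (Hens2.specOf X x R)).obj F) := by
  obtain ⟨ι, U, hU, hM⟩ := hF
  obtain ⟨i, u, hu⟩ := hU x
  obtain ⟨M, _, ⟨eM⟩⟩ := hM i
  obtain ⟨iC⟩ := nonempty_pull_iso_const eM
  haveI : AlgebraicGeometry.Etale (U i).hom := (U i).prop
  haveI : HenselianLocalRing R := _root_.Hensel.IsStrictHenselization.henselian (R := X.presheaf.stalk x)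
  haveI : IsSepClosed (ResidueField R) := BcQCalc.isSepClosed_residueField_of_strict (X.presheaf.stalk x) R
  obtain ⟨w, -, hw⟩ := Scheme.Pullback.exists_preimage_pullback (f := (U i).hom) (g := Hens2.specOf X x R) u
    (closedPoint R) (hu.trans (LocAcycLib.specOf_closedPoint X x R).symm)
  obtain ⟨σ, hσ, -⟩ := (Hensel.strictlyHenselian_iff_exists_section R).1 ⟨inferInstance, inferInstance⟩ _
    (pullback.snd (U i).hom (Hens2.specOf X x R)) inferInstance w hw
  let s := σ ≫ pullback.fst (U i).hom (Hens2.specOf X x R)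
  have hs : s ≫ (U i).hom = Hens2.specOf X x R := by
    rw [Category.assoc, pullback.condition, ← Category.assoc, hσ, Category.id_comp]
  exact ⟨AddCommGrpCat.of M, ⟨((EtCore.pullConstIso s).app (AddCommGrpCat.of M)).symm ≪≫
    (EtCoh.pull s).mapIso iC ≪≫ ((EtCore.pullComp s (U i).hom).symm ≪≫ EtCore.pullCongr hs).app F⟩⟩

/-- The varieties of vanishing cycles are acyclic schemes. -/
theorem acyclicScheme_vc {RS RX Ω : Type u} [CommRing RS] [CommRing RX] [Field Ω] [Algebra RS RX] [Algebra RS Ω]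
    (L : Set ℕ) (hL : ∃ ℓ ∈ L, ℓ.Prime)
    (h : ∀ ℓ ∈ L, ℓ.Prime → (∀ q : ℕ, 0 < q → Subsingleton (EtCoh.H (Spec (CommRingCat.of (EtRest.vcRing RS RX Ω)))
        (EtCoh.const (Spec (CommRingCat.of (EtRest.vcRing RS RX Ω))) (ZMod ℓ)) q)) ∧
      Nonempty (EtCoh.H (Spec (CommRingCat.of (EtRest.vcRing RS RX Ω)))
        (EtCoh.const (Spec (CommRingCat.of (EtRest.vcRing RS RX Ω))) (ZMod ℓ)) 0 ≃+ ZMod ℓ))
    (t : Spec (CommRingCat.of Ω) ⟶ Spec (CommRingCat.of RS))
    (ht : t = Spec.map (CommRingCat.ofHom (algebraMap RS Ω))) (k : ℕ) :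
    EtAcyc.IsAcyclicSchemeN L k (pullback (Spec.map (CommRingCat.ofHom (algebraMap RS RX))) t) := by
  subst ht
  obtain ⟨ℓ₀, h₀L, h₀⟩ := hL
  obtain ⟨-, ⟨e⟩⟩ := h ℓ₀ h₀L h₀
  refine isAcyclicSchemeN_of_iso (pullbackSpecIso RS RX Ω).hom ⟨isEmpty_elim_H0 _ ℓ₀ h₀.two_le e,
    connectedSpace_of_zmod _ Ω
      (Spec.map (CommRingCat.ofHom (Algebra.TensorProduct.includeRight : Ω →ₐ[RS] RX ⊗[RS] Ω).toRingHom))
      ℓ₀ h₀.two_le e, fun ℓ hℓ hℓL q hq _ => (h ℓ hℓL hℓ).1 q hq⟩

/-- Stalks of the constant sheaf at the closed point detect torsion. -/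
theorem primesIn_values {X : Scheme.{u}} {F : EtCoh.Ab X}
    (htor : ∀ (Ω : Type u) [Field Ω] [IsSepClosed Ω] (ξ : Spec (CommRingCat.of Ω) ⟶ X)
      (s : (EtCoh.stalk ξ).obj F), ∃ n : ℕ, 0 < n ∧ (n : Ω) ≠ 0 ∧ n • s = 0) (x : X) (R : Type u) [CommRing R]
    [IsLocalRing R] [Algebra (X.presheaf.stalk x) R] [IsLocalHom (algebraMap (X.presheaf.stalk x) R)]
    [_root_.Hensel.IsStrictHenselization (X.presheaf.stalk x) R] (M : AddCommGrpCat.{u + 1})
    (iC : cSheaf (Spec (CommRingCat.of R)) M ≅ (EtCoh.pull (Hens2.specOf X x R)).obj F) (m : M) :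
    ∃ k : ℕ, EtAcyc.PrimesIn {ℓ | ℓ.Prime ∧ (ℓ : X.residueField x) ≠ 0} k ∧ k • m = 0 := by
  let Ω := AlgebraicClosure (ResidueField R)
  let ξ : Spec (CommRingCat.of Ω) ⟶ Spec (CommRingCat.of R) :=
    Spec.map (CommRingCat.ofHom ((algebraMap (ResidueField R) Ω).comp (residue R)))
  let T := EtCoh.top (Spec (CommRingCat.of R))
  let z : (Scheme.pointSmallEtale ξ).fiber.obj T := Over.homMk ξ (Category.comp_id _)
  let g : M ⟶ (EtCoh.stalk ξ).obj (cSheaf (Spec (CommRingCat.of R)) M) :=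
    (toSheafify (Spec (CommRingCat.of R)).smallEtaleTopology ((Functor.const _).obj M)).app (op T) ≫
      (Scheme.pointSmallEtale ξ).toPresheafFiber T z _
  have hg : Function.Bijective g.hom := EtFound.ConstVal.constBy_const (Spec (CommRingCat.of R)) M T Ω ξ z
  let e := (EtCoh.stalk ξ).mapIso iC ≪≫ (EtFound.stalkPullIso (Hens2.specOf X x R) ξ).app F
  obtain ⟨n, hn, hnΩ, h0⟩ := htor Ω (ξ ≫ Hens2.specOf X x R) (e.hom (g.hom m))
  refine ⟨n, ⟨hn, fun ℓ hℓ hd => ⟨hℓ, fun h => hnΩ ?_⟩⟩, hg.1 ?_⟩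
  · obtain ⟨c, rfl⟩ := hd
    have hκ : ((ℓ : X.residueField x)) = 0 := h
    have := congrArg ((algebraMap (ResidueField R) Ω).comp (ResidueField.map (algebraMap (X.presheaf.stalk x) R))) hκ
    rw [map_natCast, map_zero] at this
    rw [Nat.cast_mul, this, zero_mul]
  · have hinj : Function.Injective e.hom := ((ConcreteCategory.isIso_iff_bijective e.hom).1 inferInstance).1
    rw [map_nsmul, map_zero]
    exact hinj ((map_nsmul e.hom.hom n _).trans (h0.trans (map_zero e.hom.hom).symm))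

/-- The comparison on the variety of vanishing cycles with constant torsion coefficients. -/
theorem bijective_Hpull_vc {RS RX Ω : Type u} [CommRing RS] [CommRing RX] [HenselianLocalRing RX]
    [IsSepClosed (ResidueField RX)] [Field Ω] [IsSepClosed Ω] [Algebra RS RX] [Algebra RS Ω]
    (L : Set ℕ) (hL : ∃ ℓ ∈ L, ℓ.Prime)
    (h : ∀ (Ω' : Type u) [Field Ω'] [IsSepClosed Ω'] [Algebra RS Ω'], ∀ ℓ ∈ L, ℓ.Prime →
      (∀ q : ℕ, 0 < q → Subsingleton (EtCoh.H (Spec (CommRingCat.of (EtRest.vcRing RS RX Ω')))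
        (EtCoh.const (Spec (CommRingCat.of (EtRest.vcRing RS RX Ω'))) (ZMod ℓ)) q)) ∧
      Nonempty (EtCoh.H (Spec (CommRingCat.of (EtRest.vcRing RS RX Ω')))
        (EtCoh.const (Spec (CommRingCat.of (EtRest.vcRing RS RX Ω'))) (ZMod ℓ)) 0 ≃+ ZMod ℓ))
    (M : AddCommGrpCat.{u + 1}) (hM : ∀ m : M, ∃ k : ℕ, EtAcyc.PrimesIn L k ∧ k • m = 0) (q : ℕ) :
    Function.Bijective (EtCore.Hpull (Spec.map (CommRingCat.ofHom (algebraMap RX (EtRest.vcRing RS RX Ω))))
      (cSheaf (Spec (CommRingCat.of RX)) M) q) := by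
  let p := Spec.map (CommRingCat.ofHom (algebraMap RX (EtRest.vcRing RS RX Ω)))
  let g := Spec.map (CommRingCat.ofHom (algebraMap RS RX))
  let i := Spec.map (CommRingCat.ofHom (algebraMap RS Ω))
  let v : Spec (CommRingCat.of (EtRest.vcRing RS RX Ω)) ⟶ Spec (CommRingCat.of Ω) :=
    Spec.map (CommRingCat.ofHom (Algebra.TensorProduct.includeRight : Ω →ₐ[RS] RX ⊗[RS] Ω).toRingHom)
  have hfib : ∀ k, EtAcyc.GeomFibresAcyclicN L k v := fun k => by
    have hv : (pullbackSpecIso RS RX Ω).inv ≫ pullback.snd g i = v := pullbackSpecIso_inv_snd RS RX Ω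
    intro y Ω' _ _ _ _
    letI : Algebra RS Ω' := (Spec.preimage (EtAcyc.geomPt (Spec (CommRingCat.of Ω)) y Ω' ≫ i)).hom.toAlgebra
    have hbase := acyclicScheme_vc L hL (fun ℓ hℓL hℓ => h Ω' ℓ hℓL hℓ)
      (EtAcyc.geomPt (Spec (CommRingCat.of Ω)) y Ω' ≫ i) (Spec.map_preimage _).symm k
    have hfac := isAcyclicSchemeN_of_factor g i (EtAcyc.geomPt (Spec (CommRingCat.of Ω)) y Ω') _ rfl hbase
    exact isAcyclicSchemeN_of_iso (pullback.map v (EtAcyc.geomPt (Spec (CommRingCat.of Ω)) y Ω') (pullback.snd g i)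
      (EtAcyc.geomPt (Spec (CommRingCat.of Ω)) y Ω') (pullbackSpecIso RS RX Ω).inv (𝟙 _) (𝟙 _)
      (by rw [Category.comp_id]; exact hv.symm) (by simp)) hfac
  obtain ⟨hne, hconn, -⟩ := acyclicScheme_vc L hL (fun ℓ hℓL hℓ => h Ω ℓ hℓL hℓ) i rfl 0
  haveI := hconn
  haveI : ConnectedSpace (Spec (CommRingCat.of (EtRest.vcRing RS RX Ω))) :=
    (Scheme.homeoOfIso (pullbackSpecIso RS RX Ω)).surjective.connectedSpace
      (Scheme.homeoOfIso (pullbackSpecIso RS RX Ω)).continuous
  haveI : ConnectedSpace (Spec (CommRingCat.of RX)) := connectedSpace_primeSpectrum RX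
  rcases Nat.eq_zero_or_pos q with rfl | hq
  · exact bijective_Hpull_cls p M
  have hc := compN_of_isAcyclicN (isAcyclicN_over_sepClosed Ω v L hL q (hfib q)) (cSheaf (Spec (CommRingCat.of Ω)) M)
    (isLTorsion_const_of_primesIn _ M hM)
  haveI := subsingleton_H_sepClosed Ω (cSheaf (Spec (CommRingCat.of Ω)) M) q hq
  haveI h1 : Subsingleton (EtCoh.H _ ((EtCoh.pull v).obj (cSheaf (Spec (CommRingCat.of Ω)) M)) q) :=
    (hc.1 q le_rfl).2.subsingleton
  let eI : (EtCoh.pull v).obj (cSheaf (Spec (CommRingCat.of Ω)) M) ≅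
      (EtCoh.pull p).obj (cSheaf (Spec (CommRingCat.of RX)) M) :=
    (EtCore.pullConstIso v).app M ≪≫ ((EtCore.pullConstIso p).app M).symm
  haveI h2 : Subsingleton (EtCoh.H _ ((EtCoh.pull p).obj (cSheaf (Spec (CommRingCat.of RX)) M)) q) :=
    @Function.Surjective.subsingleton _ _ _ h1 (EtAcycLib.bijective_comp_mk₀ (n := q) eI).2
  haveI h3 : Subsingleton (EtCoh.H (Spec (CommRingCat.of RX)) (cSheaf (Spec (CommRingCat.of RX)) M) q) :=
    S0073.result RX _ q hq
  exact ⟨fun a b _ => Subsingleton.elim a b, fun z => ⟨0, Subsingleton.elim _ _⟩⟩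

/-- Let f : X -> S be locally acyclic and F a locally constant abelian sheaf on X_et all of whose
geometric stalks are torsion groups whose elements have order prime to the residue characteristic.
Then f is locally acyclic relative to F: for every point x, strict henselizations R_S -> R_X of the
local rings at f(x) and x (compatible with f), separably closed field Om under R_S, and every q,
pulling back along the variety of vanishing cycles Spec(R_X (x)_{R_S} Om) -> Spec R_X induces a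
bijection H^q(Spec R_X, F|) -> H^q(Spec(R_X (x) Om), F|). (Left exactness of the pullback functor
carried as a binder.) -/
theorem result {X S : Scheme.{u}} (f : X ⟶ S)
    (hf : EtRest.IsLocallyAcyclic f) (F : EtCoh.Ab X) (hF : EtRest.IsLocallyConstant F)
    (htor : ∀ (Ω : Type u) [Field Ω] [IsSepClosed Ω] (ξ : Spec (CommRingCat.of Ω) ⟶ X)
      (s : (EtCoh.stalk ξ).obj F), ∃ n : ℕ, 0 < n ∧ (n : Ω) ≠ 0 ∧ n • s = 0)
    (x : ↥X) (RS RX : Type u) [CommRing RS] [CommRing RX] [IsLocalRing RS] [IsLocalRing RX]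
    [Algebra (S.presheaf.stalk (f.base x)) RS] [IsLocalHom (algebraMap (S.presheaf.stalk (f.base x)) RS)]
    [Hensel.IsStrictHenselization (S.presheaf.stalk (f.base x)) RS]
    [Algebra (X.presheaf.stalk x) RX] [IsLocalHom (algebraMap (X.presheaf.stalk x) RX)]
    [Hensel.IsStrictHenselization (X.presheaf.stalk x) RX]
    [Algebra RS RX] [IsLocalHom (algebraMap RS RX)]
    (hc : (algebraMap RS RX).comp (algebraMap (S.presheaf.stalk (f.base x)) RS) =
      (algebraMap (X.presheaf.stalk x) RX).comp (f.stalkMap x).hom)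
    (Ω : Type u) [Field Ω] [IsSepClosed Ω] [Algebra RS Ω]
    [PreservesFiniteLimits (EtCoh.pull
      (Spec.map (CommRingCat.ofHom (algebraMap RX (EtRest.vcRing RS RX Ω)))))] (q : ℕ) :
    Function.Bijective (EtCore.HpullVia
      (Spec.map (CommRingCat.ofHom (algebraMap RX (EtRest.vcRing RS RX Ω)))) (Hens2.specOf X x RX)
      (Spec.map (CommRingCat.ofHom (algebraMap RX (EtRest.vcRing RS RX Ω))) ≫ Hens2.specOf X x RX)
      rfl F q) := by
  let L : Set ℕ := {ℓ | ℓ.Prime ∧ (ℓ : X.residueField x) ≠ 0}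
  have hL : ∃ ℓ ∈ L, ℓ.Prime := by
    by_cases h2 : (2 : X.residueField x) = 0
    · refine ⟨3, ⟨Nat.prime_three, fun h3 => one_ne_zero (α := X.residueField x) ?_⟩, Nat.prime_three⟩
      push_cast at h3
      linear_combination h3 - h2
    · exact ⟨2, ⟨Nat.prime_two, by exact_mod_cast h2⟩, Nat.prime_two⟩
  haveI : HenselianLocalRing RX := _root_.Hensel.IsStrictHenselization.henselian (R := X.presheaf.stalk x)
  haveI : IsSepClosed (ResidueField RX) := BcQCalc.isSepClosed_residueField_of_strict (X.presheaf.stalk x) RX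
  obtain ⟨M, ⟨iC⟩⟩ := exists_iso_const hF x RX
  have hb := bijective_Hpull_vc (RS := RS) (RX := RX) (Ω := Ω) L hL
    (fun Ω' _ _ _ ℓ hℓ _ => hf x RS RX hc Ω' ℓ hℓ.2) M (primesIn_values htor x RX M iC) q
  rw [BcQCalc.bijective_Hpull_iso _ iC q] at hb
  have he : ⇑(EtCore.HpullVia (Spec.map (CommRingCat.ofHom (algebraMap RX (EtRest.vcRing RS RX Ω))))
      (Hens2.specOf X x RX) (Spec.map (CommRingCat.ofHom (algebraMap RX (EtRest.vcRing RS RX Ω))) ≫
        Hens2.specOf X x RX) rfl F q) =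
      (fun r => r.comp (Ext.mk₀ (EtLim8.pullCmp (Hens2.specOf X x RX) _ _ rfl F).hom) (add_zero q)) ∘
        ⇑(EtCore.Hpull (Spec.map (CommRingCat.ofHom (algebraMap RX (EtRest.vcRing RS RX Ω)))) _ q) :=
    funext fun z => via_eq_comp _ _ _ rfl F q z
  rw [he]
  exact (EtAcycLib.bijective_comp_mk₀ (EtLim8.pullCmp (Hens2.specOf X x RX) _ _ rfl F)).comp hb

end Groth.Agent.S0760
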