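import Groth.Statements.S0761
import Groth.Agent.LocAcycLib.Main
-- import your own Groth.Agent.* helpers here

set_option autoImplicit false
open CategoryTheory CategoryTheory.Limits AlgebraicGeometry Opposite
open scoped TensorProduct
universe u
open EtRest

namespace Groth.Agent.S0761

/-- In the case of a locally quasi-finite base change and for constant coefficients: if f : X -> S is
locally acyclic and g : S' -> S is locally quasi-finite, then the base change f' : X x_S S' -> S' is
locally acyclic. -/
theorem result {X S S' : Scheme.{u}} (f : X ⟶ S) (g : S' ⟶ S)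
    [LocallyOfFiniteType g] [LocallyQuasiFinite g] (hf : EtRest.IsLocallyAcyclic f) :
    EtRest.IsLocallyAcyclic (pullback.snd f g) := by
  refine LocAcycLib.isLocallyAcyclic_baseChange f g hf fun U hU s' hs' => ?_
  obtain ⟨_, ⟨W, hW, rfl⟩, hsW, hWU⟩ := S'.isBasis_affineOpens.exists_subset_of_mem_open hs' (g ⁻¹ᵁ U).isOpen
  refine ⟨W, hW, hsW, hWU, ?_⟩
  letI := (g.appLE U W hWU).hom.toAlgebra
  have h₁ := LocallyQuasiFinite.quasiFinite_appLE (f := g) hU hW hWU
  have h₂ := Scheme.Hom.finiteType_appLE g hU hW hWU
  haveI : Algebra.QuasiFinite Γ(S, U) Γ(S', W) := h₁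
  haveI : Algebra.FiniteType Γ(S, U) Γ(S', W) := h₂
  exact LocAcycLib.indQF_of_quasiFinite _ _

end Groth.Agent.S0761
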