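import Groth.Statements.S0762
import Groth.Agent.LocAcycLib.Main
-- import your own Groth.Agent.* helpers here

set_option autoImplicit false
open CategoryTheory CategoryTheory.Limits AlgebraicGeometry Opposite
open scoped TensorProduct
universe u
open EtRest

namespace Groth.Agent.S0762

/-- In the case of an integral base change and for constant coefficients: if f : X -> S is locally
acyclic and g : S' -> S is integral, then the base change f' : X x_S S' -> S' is locally acyclic. -/
theorem result {X S S' : Scheme.{u}} (f : X ⟶ S) (g : S' ⟶ S)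
    [IsIntegralHom g] (hf : EtRest.IsLocallyAcyclic f) :
    EtRest.IsLocallyAcyclic (pullback.snd f g) := by
  refine LocAcycLib.isLocallyAcyclic_baseChange f g hf fun U hU s' hs' => ?_
  refine ⟨g ⁻¹ᵁ U, hU.preimage g, hs', le_rfl, ?_⟩
  letI := (g.appLE U (g ⁻¹ᵁ U) le_rfl).hom.toAlgebra
  have h := IsIntegralHom.isIntegral_app (f := g) U hU
  rw [← Scheme.Hom.appLE_eq_app] at h
  haveI : Algebra.IsIntegral Γ(S, U) Γ(S', g ⁻¹ᵁ U) := ⟨h⟩
  exact LocAcycLib.indQF_of_isIntegral _ _

end Groth.Agent.S0762
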