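import Groth.Statements.S0806
import Groth.Agent.FormalDual.Final
set_option backward.isDefEq.respectTransparency false
set_option backward.isDefEq.respectTransparency.types false
set_option linter.style.haveILetI false

set_option autoImplicit false
universe u
open CategoryTheory
attribute [local instance] HasDerivedCategory.standard
open Formal2

namespace Groth.Agent.S0806

open AlgebraicGeometry in
/-- For the coherent module on U attached to a finite A-module M, and with alternative (a) of its third
hypothesis (the variant (b) about dimension functions is not covered). Let I ⊆ 𝔞 be ideals of a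
Noetherian ring A which is complete for the I-adic topology and admits a dualizing complex, d a
bound for the cohomological dimension of I, s ≥ 0, U = Spec A ∖ V(𝔞). Assume: for every prime 𝔭 in U
outside V(I), either depth M_𝔭 > s, or depth M_𝔭 + dim (A/𝔭)_𝔮 > d + s + 1 for every prime 𝔮 ⊇ 𝔭 +
𝔞; and M satisfies (S_{s+1}) at the primes of U outside V(I). Then H^i(U, M~) → lim_n H^i(U,
(M/I^nM)~) is bijective for i < s, and in degree s the map from the colimit of H^s(V, M~) over the
opens V ⊆ U containing U ∩ V(I) to lim_n H^s(U, (M/I^nM)~) is bijective (elementwise formulations). -/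
theorem result (A : Type u) [CommRing A] [IsNoetherianRing A]
    (I 𝔞 : Ideal A) (hI : I ≤ 𝔞) [IsAdicComplete I A] (hω : ∃ ω : Dual.D A, Dual.IsDualizing A ω)
    (d : ℕ) (hd : LocCoh.CdLE A I d) (M : Type u) [AddCommGroup M] [Module A M] [Module.Finite A M]
    (s : ℕ)
    (h₂ : ∀ (p : Ideal A) [p.IsPrime], ¬ 𝔞 ≤ p → ¬ I ≤ p →
      (s : ℕ∞) < LocCoh.depth (Localization.AtPrime p) (LocalizedModule p.primeCompl M) ∨
        ∀ (q : Ideal A) [q.IsPrime], p ≤ q → 𝔞 ≤ q →
          ((d + s + 1 : ℕ) : WithBot ℕ∞) <
            ((LocCoh.depth (Localization.AtPrime p) (LocalizedModule p.primeCompl M) : ℕ∞) : WithBot ℕ∞) +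
              Formal2.dimBetween A p q)
    (h₃ : ∀ (p : Ideal A) [p.IsPrime], ¬ 𝔞 ≤ p → ¬ I ≤ p →
      min ((s + 1 : ℕ) : WithBot ℕ∞)
          (Module.supportDim (Localization.AtPrime p) (LocalizedModule p.primeCompl M)) ≤
        ((LocCoh.depth (Localization.AtPrime p) (LocalizedModule p.primeCompl M) : ℕ∞) : WithBot ℕ∞)) :
    (∀ i : ℕ, i < s → Formal2.FormalCohBijective A I M i (LocCoh.puncturedOpen A 𝔞)) ∧
      Formal2.FormalCohColimBijective A I M s (LocCoh.puncturedOpen A 𝔞) := by
  refine ⟨fun i hi => ?_, FormalDual.Final.colim_bijective I 𝔞 hI hω hd M (t := s + 1) (fun p hap hIp _ => ?_) s (by omega)⟩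
  · refine FormalDual.Final.bijective_self I 𝔞 hI hω hd M (t := s) (fun p hap hIp _ => ?_) (fun p hap hIp hT => ?_) i hi
    · rcases h₂ p.asIdeal hap hIp with h | h
      · exact Or.inl h.le
      · exact Or.inr fun q hpq hq => lt_of_le_of_lt (by exact_mod_cast (by omega : d + s ≤ d + s + 1)) (h q.asIdeal hpq hq)
    · rcases h₂ p.asIdeal hap hIp with h | h
      · exact h
      · obtain ⟨ω, hω⟩ := hω
        obtain ⟨n, hn, hcov, hmono, -⟩ := KFlatLib.exists_extDegree hω
        obtain ⟨q, hpq, hIq, hnq⟩ := FormalDual.exists_component hcov hmono I d hd p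
        have h1 := h q.asIdeal hpq (hT q hpq hIq)
        rw [FormalDual.dimBetween_eq hcov hmono p q hpq, ← WithBot.coe_add] at h1
        have h2 := WithBot.coe_lt_coe.1 h1
        generalize LocCoh.depth (Localization.AtPrime p.asIdeal) (LocalizedModule p.asIdeal.primeCompl M) = D at h2 ⊢
        cases D with
        | top => exact ENat.coe_lt_top s
        | coe c =>
          have h3 : d + s + 1 < c + (n q - n p).toNat := by exact_mod_cast h2
          exact_mod_cast (show s < c by omega)
  · rcases h₂ p.asIdeal hap hIp with h | h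
    · left
      rw [Nat.cast_add, Nat.cast_one]
      exact Order.add_one_le_of_lt h
    · exact Or.inr fun q hpq hq => by simpa [Nat.add_assoc] using h q.asIdeal hpq hq

end Groth.Agent.S0806
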