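import Groth.Statements.S0810
import Groth.Agent.CILift.CI
set_option backward.isDefEq.respectTransparency false
set_option backward.isDefEq.respectTransparency.types false
set_option linter.style.haveILetI false

set_option autoImplicit false
universe u
open Formal2

namespace Groth.Agent.S0810

open CategoryTheory AlgebraicGeometry in
/-- Let A be a Noetherian local ring which is a complete intersection (its completion is a regular local
ring modulo a regular sequence) of dimension at least 4. Then every invertible module on the
punctured spectrum of A is trivial. -/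
theorem result (A : Type u) [CommRing A] [IsNoetherianRing A]
    [IsLocalRing A] (hci : Pi1.IsCompleteIntersection A) (hdim : (4 : WithBot ℕ∞) ≤ ringKrullDim A) :
    Formal2.PicTrivial (↑(FEt.puncturedSpec A) : Scheme.{u}) := by
  obtain ⟨B, _, _, rs, hmem, hreg, ⟨e⟩⟩ := hci
  let Ah := AdicCompletion (IsLocalRing.maximalIdeal A) A
  haveI := LC.Canon.isNoetherianRing_completion (R := A)
  haveI : IsLocalHom (algebraMap A Ah) := AdicCompletion.algebraMap_isLocalHom_of_fg (IsNoetherian.noetherian _)
  have hAh : ParaF.IsParafactorialLocalRing Ah :=
    CILift.isParafactorial_of_ci Ah ⟨B, inferInstance, inferInstance, rs, hmem, hreg, ⟨e⟩⟩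
      (by rw [CILib.ringKrullDim_adicCompletion]; exact hdim)
  have hA : ParaF.IsParafactorialLocalRing A := S2865.result A Ah (by
    rw [← AdicCompletion.maximalIdeal_eq_map (R := A)]
    exact ringKrullDim_eq_zero_of_isField
      ((Ideal.Quotient.maximal_ideal_iff_isField_quotient _).mp (IsLocalRing.maximalIdeal.isMaximal Ah))) hAh
  intro L hL
  exact ((ParaFX.isParafactorialLocalRing_iff A).1 hA).2 L hL

end Groth.Agent.S0810
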