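import Groth.Statements.S0813
import Groth.Agent.ParaFX.PushTriv
import Groth.Agent.ParaFX.Functions
import Groth.Agent.LefAlgz.StalkClosed
import Groth.Agent.LC.CplDepthAdic
set_option backward.isDefEq.respectTransparency false
set_option backward.isDefEq.respectTransparency.types false
set_option linter.style.haveILetI false

set_option autoImplicit false
set_option backward.isDefEq.respectTransparency false
set_option backward.isDefEq.respectTransparency.types false
set_option linter.style.haveILetI false
universe u
open Formal2

namespace Groth.Agent.S0813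

open CategoryTheory AlgebraicGeometry in
/-- Let (A, 𝔪) be a Noetherian local ring of depth at least 2, A^ its 𝔪-adic completion, U the punctured
spectrum of A and U^ its preimage in Spec A^ (the punctured spectrum of A^). Then an invertible
O_U-module whose pullback to U^ is trivial is trivial. -/
theorem result (A : Type u) [CommRing A] [IsNoetherianRing A]
    [IsLocalRing A] (hdepth : (2 : ℕ∞) ≤ LocCoh.depth A A) :
    Formal2.PicPullbackInjective
      (Spec.map (CommRingCat.ofHom (algebraMap A (AdicCompletion (IsLocalRing.maximalIdeal A) A))) ∣_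
        FEt.puncturedSpec A) := by
  let R := CommRingCat.of A
  let Ah := AdicCompletion (IsLocalRing.maximalIdeal A) A
  haveI : IsNoetherianRing R := inferInstanceAs (IsNoetherianRing A)
  haveI := LC.Canon.isNoetherianRing_completion (R := A)
  haveI : IsLocalHom (algebraMap A Ah) := AdicCompletion.algebraMap_isLocalHom_of_fg (IsNoetherian.noetherian _)
  haveI : Module.FaithfullyFlat A Ah := Module.FaithfullyFlat.of_flat_of_isLocalHom
  let g : Spec (CommRingCat.of Ah) ⟶ Spec R := Spec.map (CommRingCat.ofHom (algebraMap A Ah))
  haveI : Flat g := Flat.SpecMap_iff.2 (RingHom.flat_algebraMap_iff.2 inferInstance)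
  haveI : Surjective g := ⟨PrimeSpectrum.comap_surjective_of_faithfullyFlat⟩
  let U : (Spec R).Opens := FEt.puncturedSpec A
  haveI : IsNoetherian (Spec R) := inferInstance
  have hfn : ParaFX.FnBij U.ι := fun O => by
    refine Hartogs.restrict_bijective U.ι.opensRange (fun x hx => ?_) O
    rw [Scheme.Opens.opensRange_ι] at hx
    have hx' : x = IsLocalRing.closedPoint A := not_not.1 hx
    subst hx'
    exact hdepth.trans_eq (LefAlgz.depth_stalk_closedPoint A).symm
  intro L hL htriv
  haveI : QuasiCompact U.ι := inferInstance
  obtain ⟨h1, h2, -⟩ := ParaFX.PushTriv.push_triv U.ι g (g ⁻¹ᵁ U).ι (g ∣_ U) (fun V => hfn.app V)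
    (isPullback_morphismRestrict g U) L hL htriv
  obtain ⟨e⟩ := ParaFX.picTrivial_spec_local A _ h1
  obtain ⟨tO⟩ := PicClLib.nonempty_pullback_structureModule U.ι
  exact ⟨(@asIso _ _ _ _ ((Scheme.Modules.pullbackPushforwardAdjunction U.ι).counit.app L) h2).symm ≪≫
    (Scheme.Modules.pullback U.ι).mapIso e ≪≫ tO⟩

end Groth.Agent.S0813
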