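import Groth.Statements.S0815
import Groth.Agent.LC.ConnMain
set_option backward.isDefEq.respectTransparency false
set_option backward.isDefEq.respectTransparency.types false
set_option linter.style.haveILetI false

set_option autoImplicit false
universe u
open Formal2

namespace Groth.Agent.S0815

open CategoryTheory AlgebraicGeometry in
/-- Let (A, 𝔪) be a complete Noetherian local ring, I a proper ideal, e a bound for the cohomological
dimension of I, and Z ⊆ V(I) a closed subset of Spec A. Assume that dim Z + e + 1 < dim A/𝔭 for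
every minimal prime 𝔭 of A, and that dim Z + e < dim Z' for every closed subset Z' of Spec A whose
complement is not connected (the empty complement counts as not connected). Then V(I) ∖ Z is
connected, in particular nonempty. -/
theorem result (A : Type u) [CommRing A] [IsNoetherianRing A] [IsLocalRing A]
    [IsAdicComplete (IsLocalRing.maximalIdeal A) A] (I : Ideal A) (hI : I ≠ ⊤) (e : ℕ) (he : LocCoh.CdLE A I e)
    (Z : Set (PrimeSpectrum A)) (hZ : IsClosed Z) (hZI : Z ⊆ PrimeSpectrum.zeroLocus (I : Set A))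
    (hdim : ∀ p ∈ minimalPrimes A, topologicalKrullDim Z + ((e + 1 : ℕ) : WithBot ℕ∞) < ringKrullDim (A ⧸ p))
    (hc : ∀ Z' : Set (PrimeSpectrum A), IsClosed Z' → ¬ _root_.IsConnected Z'ᶜ →
      topologicalKrullDim Z + ((e : ℕ) : WithBot ℕ∞) < topologicalKrullDim Z') :
    _root_.IsConnected (PrimeSpectrum.zeroLocus (I : Set A) \ Z) := by
  classical
  have hfin : ∀ J : Ideal A, (J.minimalPrimes).Finite := fun J => Ideal.finite_minimalPrimes_of_isNoetherianRing A J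
  let J : Ideal A := PrimeSpectrum.vanishingIdeal Z
  have hJ : ∀ x : PrimeSpectrum A, x ∈ Z ↔ J ≤ x.asIdeal := fun x => by
    have h := PrimeSpectrum.zeroLocus_vanishingIdeal_eq_closure Z
    rw [hZ.closure_eq] at h
    conv_lhs => rw [← h]
    rfl
  have hZJ : topologicalKrullDim Z = ringKrullDim (A ⧸ J) := by
    have h := PrimeSpectrum.zeroLocus_vanishingIdeal_eq_closure Z
    rw [hZ.closure_eq] at h
    conv_lhs => rw [← h]
    exact LC.dim_zeroLocus J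
  have hcompl : ∀ x : PrimeSpectrum A, x ∈ Z → ∀ y : PrimeSpectrum A, x.asIdeal ≤ y.asIdeal → y ∈ Z := fun x hx y hxy =>
    (hJ y).2 (((hJ x).1 hx).trans hxy)
  refine ⟨?_, ?_⟩
  · rw [Set.sdiff_nonempty]
    intro hsub
    obtain ⟨p, hp⟩ := Set.nonempty_coe_sort.1 (Ideal.nonempty_minimalPrimes (I := (⊥ : Ideal A)) bot_ne_top)
    have hIp : I ⊔ p ≠ ⊤ := fun h => (IsLocalRing.maximalIdeal.isMaximal A).ne_top
      (top_unique (h ▸ sup_le (IsLocalRing.le_maximalIdeal hI) (IsLocalRing.le_maximalIdeal hp.1.1.ne_top)))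
    obtain ⟨d, hd⟩ := LC.exists_dim_quot hIp
    have hle : ringKrullDim (A ⧸ (I ⊔ p)) ≤ topologicalKrullDim Z := by
      refine hZJ ▸ LC.dim_quot_le_of_forall_prime _ fun Q hQ hle => LC.dim_quot_mono ?_
      exact (hJ ⟨Q, hQ⟩).1 (hsub (show I ≤ Q from le_sup_left.trans hle))
    refine absurd ((hdim p hp).trans_le (LC.dim_quot_le_cd_add p hIp he hd)) (not_lt.2 ?_)
    refine le_trans ?_ (add_le_add_left (hd ▸ hle) _)
    rw [← Nat.cast_add, Nat.cast_le]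
    omega
  · intro u₀ v₀ hu₀ hv₀ huv₀ hsu₀ hsv₀
    by_contra hne₀
    let F : Set (PrimeSpectrum A) → Finset (Ideal A) := fun w => (hfin I).toFinset.filter fun Q =>
      ∃ hQ : Q.IsPrime, (⟨Q, hQ⟩ : PrimeSpectrum A) ∈ w ∧ (⟨Q, hQ⟩ : PrimeSpectrum A) ∉ Z
    suffices main : ∀ u v : Set (PrimeSpectrum A), IsOpen u → IsOpen v →
        PrimeSpectrum.zeroLocus (I : Set A) \ Z ⊆ u ∪ v →
        ((PrimeSpectrum.zeroLocus (I : Set A) \ Z) ∩ u).Nonempty →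
        ((PrimeSpectrum.zeroLocus (I : Set A) \ Z) ∩ v).Nonempty →
        (∀ x : PrimeSpectrum A, I ≤ x.asIdeal → x ∉ Z → x ∈ u → x ∈ v → False) →
        ringKrullDim (A ⧸ (F u).inf id) ≤ ringKrullDim (A ⧸ (F v).inf id) → False by
      rcases le_total (ringKrullDim (A ⧸ (F u₀).inf id)) (ringKrullDim (A ⧸ (F v₀).inf id)) with h | h
      · exact main u₀ v₀ hu₀ hv₀ huv₀ hsu₀ hsv₀ (fun x a b c d => hne₀ ⟨x, ⟨a, b⟩, c, d⟩) h
      · exact main v₀ u₀ hv₀ hu₀ (huv₀.trans (Set.union_comm _ _).le) hsv₀ hsu₀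
          (fun x a b c d => hne₀ ⟨x, ⟨a, b⟩, d, c⟩) h
    intro u v hu hv huv hsu hsv hnb hFle
    have hgen : ∀ (w : Set (PrimeSpectrum A)), IsOpen w → ∀ x y : PrimeSpectrum A, x.asIdeal ≤ y.asIdeal → y ∈ w → x ∈ w :=
      fun w hw x y hxy hy => ((PrimeSpectrum.le_iff_specializes x y).1 hxy).mem_open hw hy
    let M := (hfin I).toFinset
    let M1 := M.filter fun Q => ∃ hQ : Q.IsPrime, (⟨Q, hQ⟩ : PrimeSpectrum A) ∈ u ∧ (⟨Q, hQ⟩ : PrimeSpectrum A) ∉ Z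
    let M2 := M.filter fun Q => ∃ hQ : Q.IsPrime, (⟨Q, hQ⟩ : PrimeSpectrum A) ∈ v ∧ (⟨Q, hQ⟩ : PrimeSpectrum A) ∉ Z
    have hmem : ∀ (w : Set (PrimeSpectrum A)), IsOpen w → ∀ x : PrimeSpectrum A, I ≤ x.asIdeal → x ∉ Z → x ∈ w →
        ∃ Q ∈ M, Q ≤ x.asIdeal ∧ ∃ hQ : Q.IsPrime, (⟨Q, hQ⟩ : PrimeSpectrum A) ∈ w ∧ (⟨Q, hQ⟩ : PrimeSpectrum A) ∉ Z := by
      intro w hw x hIx hxZ hxw
      obtain ⟨Q, hQ, hQx⟩ := Ideal.exists_minimalPrimes_le (J := x.asIdeal) hIx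
      exact ⟨Q, (hfin I).mem_toFinset.2 hQ, hQx, hQ.1.1, hgen w hw ⟨Q, hQ.1.1⟩ x hQx hxw,
        fun h => hxZ (hcompl _ h x hQx)⟩
    let a : Ideal A := M1.inf id
    let b : Ideal A := M2.inf id ⊓ J
    have ha_iff : ∀ x : PrimeSpectrum A, a ≤ x.asIdeal → ∃ Q ∈ M1, Q ≤ x.asIdeal := fun x h =>
      (x.isPrime.inf_le').1 h
    have hb_iff : ∀ x : PrimeSpectrum A, b ≤ x.asIdeal → (∃ Q ∈ M2, Q ≤ x.asIdeal) ∨ J ≤ x.asIdeal := fun x h =>
      (x.isPrime.mul_le.1 (Ideal.mul_le_inf.trans h)).imp_left (x.isPrime.inf_le').1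
    have hI1 : ∀ Q, Q ∈ M1 → I ≤ Q := fun Q hQ => ((hfin I).mem_toFinset.1 (Finset.mem_filter.1 hQ).1).1.2
    have hI2 : ∀ Q, Q ∈ M2 → I ≤ Q := fun Q hQ => ((hfin I).mem_toFinset.1 (Finset.mem_filter.1 hQ).1).1.2
    have hZab : ∀ x : PrimeSpectrum A, a ≤ x.asIdeal → b ≤ x.asIdeal → x ∈ Z := by
      intro x hax hbx
      by_contra hxZ
      obtain ⟨Q, hQ, hQx⟩ := ha_iff x hax
      obtain ⟨hQ', hQu, hQZ⟩ := (Finset.mem_filter.1 hQ).2
      have hIx : I ≤ x.asIdeal := (hI1 Q hQ).trans hQx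
      rcases hb_iff x hbx with ⟨Q₂, hQ₂, hQ₂x⟩ | h
      · obtain ⟨hQ₂', hQ₂v, hQ₂Z⟩ := (Finset.mem_filter.1 hQ₂).2
        rcases huv ⟨hIx, hxZ⟩ with hxu | hxv
        · exact hnb _ (hI2 Q₂ hQ₂) hQ₂Z (hgen u hu ⟨Q₂, hQ₂'⟩ x hQ₂x hxu) hQ₂v
        · exact hnb _ (hI1 Q hQ) hQZ hQu (hgen v hv ⟨Q, hQ'⟩ x hQx hxv)
      · exact hxZ ((hJ x).2 h)
    obtain ⟨x₁, ⟨hx₁I, hx₁Z⟩, hx₁u⟩ := hsu
    obtain ⟨x₂, ⟨hx₂I, hx₂Z⟩, hx₂v⟩ := hsv
    obtain ⟨Q₁, hQ₁M, hQ₁x, hQ₁p, hQ₁u, hQ₁Z⟩ := hmem u hu x₁ hx₁I hx₁Z hx₁u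
    obtain ⟨Q₂, hQ₂M, hQ₂x, hQ₂p, hQ₂v, hQ₂Z⟩ := hmem v hv x₂ hx₂I hx₂Z hx₂v
    have haQ : a ≤ Q₁ := Finset.inf_le (f := id) (Finset.mem_filter.2 ⟨hQ₁M, hQ₁p, hQ₁u, hQ₁Z⟩)
    have hbQ : b ≤ Q₂ := inf_le_left.trans (Finset.inf_le (f := id) (Finset.mem_filter.2 ⟨hQ₂M, hQ₂p, hQ₂v, hQ₂Z⟩))
    have ha : a ≠ ⊤ := fun h => hQ₁p.ne_top (top_unique (h ▸ haQ))
    have hb : b ≠ ⊤ := fun h => hQ₂p.ne_top (top_unique (h ▸ hbQ))
    have hab : a ⊔ b ≠ ⊤ := fun h => (IsLocalRing.maximalIdeal.isMaximal A).ne_top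
      (top_unique (h ▸ sup_le (IsLocalRing.le_maximalIdeal ha) (IsLocalRing.le_maximalIdeal hb)))
    obtain ⟨δ, hδ⟩ := LC.exists_dim_quot hab
    have hδZ : (δ : WithBot ℕ∞) ≤ topologicalKrullDim Z :=
      hδ ▸ hZJ ▸ LC.dim_quot_le_of_forall_prime _ fun q hq hle =>
        LC.dim_quot_mono ((hJ ⟨q, hq⟩).1 (hZab ⟨q, hq⟩ (le_sup_left.trans hle) (le_sup_right.trans hle)))
    have hlt : ∀ (c : Ideal A), c ≤ a ⊔ b → (∀ q : PrimeSpectrum A, a ⊔ b ≤ q.asIdeal → ∃ Q : PrimeSpectrum A,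
        c ≤ Q.asIdeal ∧ Q < q) → (δ : WithBot ℕ∞) < ringKrullDim (A ⧸ c) := by
      intro c hcab hQ
      rw [ringKrullDim_quotient] at hδ ⊢
      obtain ⟨l, hl⟩ := Order.le_krullDim_iff.1 hδ.ge
      obtain ⟨Q, hcQ, hQl⟩ := hQ l.head.1 l.head.2
      let l' : LTSeries (PrimeSpectrum.zeroLocus (c : Set A)) :=
        (l.map (fun y => (⟨y.1, hcab.trans y.2⟩ : PrimeSpectrum.zeroLocus (c : Set A))) fun _ _ h => h).cons ⟨Q, hcQ⟩ hQl
      refine lt_of_lt_of_le (b := ((δ + 1 : ℕ) : WithBot ℕ∞)) (Nat.cast_lt.2 δ.lt_succ_self) ?_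
      refine le_trans (le_of_eq ?_) (Order.LTSeries.length_le_krullDim l')
      simp [l', hl]
    have hda : (δ : WithBot ℕ∞) < ringKrullDim (A ⧸ a) := hlt a le_sup_left fun q hq => by
      obtain ⟨Q, hQ, hQq⟩ := ha_iff q (le_sup_left.trans hq)
      obtain ⟨hQp, -, hQZ⟩ := (Finset.mem_filter.1 hQ).2
      exact ⟨⟨Q, hQp⟩, Finset.inf_le (f := id) hQ, lt_of_le_of_ne hQq fun h => hQZ (h ▸ hZab q (le_sup_left.trans hq) (le_sup_right.trans hq))⟩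
    have hdb : (δ : WithBot ℕ∞) < ringKrullDim (A ⧸ b) :=
      hda.trans_le (hFle.trans (LC.dim_quot_mono inf_le_left))
    have hcd : LocCoh.CdLE A (a ⊓ b) e := by
      refine LC.cdLE_of_radical_eq (PrimeSpectrum.zeroLocus_eq_iff.1 (Set.Subset.antisymm ?_ ?_)) he
      · intro x (hx : I ≤ x.asIdeal)
        by_cases hxZ : x ∈ Z
        · exact inf_le_right.trans (inf_le_right.trans ((hJ x).1 hxZ))
        · rcases huv ⟨hx, hxZ⟩ with h | h
          · obtain ⟨Q, hQ, hQx, hw⟩ := hmem u hu x hx hxZ h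
            exact inf_le_left.trans ((Finset.inf_le (f := id) (Finset.mem_filter.2 ⟨hQ, hw⟩)).trans hQx)
          · obtain ⟨Q, hQ, hQx, hw⟩ := hmem v hv x hx hxZ h
            exact inf_le_right.trans (inf_le_left.trans ((Finset.inf_le (f := id) (Finset.mem_filter.2 ⟨hQ, hw⟩)).trans hQx))
      · intro x (hx : a ⊓ b ≤ x.asIdeal)
        show I ≤ x.asIdeal
        rcases x.isPrime.mul_le.1 (Ideal.mul_le_inf.trans hx) with h | h
        · obtain ⟨Q, hQ, hQx⟩ := ha_iff x h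
          exact (hI1 Q hQ).trans hQx
        · rcases hb_iff x h with ⟨Q, hQ, hQx⟩ | h
          · exact (hI2 Q hQ).trans hQx
          · exact hZI ((hJ x).2 h)
    obtain ⟨c, hcdim⟩ := LC.exists_connDim_nat (R := A)
    obtain ⟨s, p, hp, hps, hsd⟩ := LC.exists_subdim_nat (R := A)
    rcases LC.min_connDim_subdim_le_cd a b ha hb hδ hda hdb hcd hcdim hsd with h | h
    · have : ((δ + e + 1 : ℕ) : WithBot ℕ∞) ≤ c := by
        rw [← hcdim]
        refine le_iInf₂ fun Z' hZ' => ?_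
        have h1 := lt_of_le_of_lt (add_le_add_left hδZ ((e : ℕ) : WithBot ℕ∞)) (hc Z' hZ'.1 hZ'.2)
        rw [← Nat.cast_add] at h1
        generalize topologicalKrullDim ↥Z' = t at h1 ⊢
        induction t using WithBot.recBotCoe with
        | bot => exact absurd h1 not_lt_bot
        | coe t =>
          exact WithBot.coe_le_coe.2 ((Nat.cast_add_one (δ + e)).trans_le (Order.add_one_le_of_lt (WithBot.coe_lt_coe.1 h1)))
      rw [Nat.cast_le] at this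
      omega
    · have h1 := lt_of_le_of_lt (add_le_add_left hδZ (((e + 1 : ℕ)) : WithBot ℕ∞)) (hdim p hp)
      rw [hps, ← Nat.cast_add, Nat.cast_lt] at h1
      omega

end Groth.Agent.S0815
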