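import Groth.Statements.S0820
import Groth.Agent.QCoh.DevissageP
import Groth.Agent.AlgSpDec.RedInduced
import Groth.Agent.H23.SpClosed

set_option linter.style.haveILetI false
set_option backward.isDefEq.respectTransparency false
set_option backward.isDefEq.respectTransparency.types false
-- import your own Groth.Agent.* helpers here

set_option autoImplicit false
universe u
open Coherent

namespace Groth.Agent.S0820

open CategoryTheory AlgebraicGeometry in
/-- Let f : Y → X be finite and surjective with X locally Noetherian, and let i : Z → X be a closed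
immersion from an integral scheme, ξ the image of the generic point of Z. Then some coherent
O_Y-module F has f_* F supported exactly on i(Z), with the stalk of f_* F at ξ killed by every
element of 𝔪_{X,ξ}, the maximal ideal of O_{X,ξ}. -/
theorem result {Y X : Scheme.{u}} (f : Y ⟶ X) [IsFinite f]
    [Surjective f] [IsLocallyNoetherian X] (Z : Scheme.{u}) (i : Z ⟶ X) [IsClosedImmersion i] [IsIntegral Z] :
    ∃ F : Y.Modules, Coh.IsCoh F ∧ CohB1.support ((Coh.push f).obj F) = Set.range ⇑i ∧
      ∀ a ∈ IsLocalRing.maximalIdeal (X.presheaf.stalk (i (genericPoint Z))),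
        ∀ m : ↑(((Coh.push f).obj F).presheaf.stalk (i (genericPoint Z))), a • m = 0 := by
  obtain ⟨η, hη⟩ := f.surjective (i (genericPoint Z))
  let J := Scheme.IdealSheafData.vanishingIdeal (TopologicalSpace.Closeds.closure {η})
  let Z' := J.subscheme
  let j : Z' ⟶ Y := J.subschemeι
  haveI : IsIntegral Z' := Groth.Agent.QCoh.isIntegral_closure_point η
  have hr : Set.range j = closure {η} := Groth.Agent.H23.RedSub.range_vanishingIdeal _
  have hri : Set.range i = closure {i (genericPoint Z)} := Groth.Agent.QCoh.range_eq_closure i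
  have hfc : f '' closure {η} = closure {i (genericPoint Z)} := by
    rw [← f.isClosedMap.closure_image_eq_of_continuous f.continuous, Set.image_singleton, hη]
  obtain ⟨h, hh⟩ := Groth.Agent.AlgSpDec.exists_factor_closed i (j ≫ f) (by
    rintro _ ⟨z, rfl⟩
    rw [hri, ← hfc, ← hr]
    exact ⟨j z, ⟨z, rfl⟩, rfl⟩)
  haveI : IsFinite (h ≫ i) := by rw [hh]; infer_instance
  haveI : IsFinite h := IsFinite.of_comp h i
  haveI : IsLocallyNoetherian Y := LocallyOfFiniteType.isLocallyNoetherian f
  haveI : IsLocallyNoetherian Z' := LocallyOfFiniteType.isLocallyNoetherian j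
  haveI : IsLocallyNoetherian Z := LocallyOfFiniteType.isLocallyNoetherian i
  let M := (Coh.push h).obj (Coh.structureModule Z')
  have hM : Coh.IsCoh M := Groth.Agent.QCoh.isCoh_pushforward_finite h Groth.Agent.QCoh.isCoh_structureModule'
  let e : (Coh.push f).obj ((Coh.push j).obj (Coh.structureModule Z')) ≅ (Coh.push i).obj M :=
    (Scheme.Modules.pushforwardComp j f).app _ ≪≫ (Scheme.Modules.pushforwardCongr hh.symm).app _ ≪≫
      ((Scheme.Modules.pushforwardComp h i).app _).symm
  have hgen : h (genericPoint Z') = genericPoint Z := by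
    refine i.isClosedEmbedding.injective ?_
    rw [← Scheme.Hom.comp_apply, hh, Scheme.Hom.comp_apply]
    refine Eq.trans ?_ hη
    congr 1
    refine ((genericPoint_spec Z').image j.continuous).eq ?_
    rw [Set.image_univ, hr, closure_closure]
    exact isGenericPoint_closure
  have hsupp : genericPoint Z ∈ CohB1.support M := by
    by_contra hs
    obtain ⟨W, hW, hgW⟩ := Groth.Agent.QCoh.exists_affine_mem (genericPoint Z)
    obtain ⟨g, hg, hg0⟩ := (Groth.Agent.QCoh.notMem_support_iff hM.1 hW hgW).1 hs
      (show Γ(M, W) from (1 : Γ(Z', h ⁻¹ᵁ W)))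
    have h1 : h.app W g = 0 := (mul_one _).symm.trans hg0
    have hmem : genericPoint Z' ∈ Z'.basicOpen (h.app W g) := by
      rw [← Scheme.preimage_basicOpen]
      show h (genericPoint Z') ∈ Z.basicOpen g
      rw [hgen]
      exact hg
    rw [h1, Scheme.basicOpen_zero] at hmem
    exact hmem
  refine ⟨(Coh.push j).obj (Coh.structureModule Z'),
    Groth.Agent.QCoh.isCoh_pushforward_finite j Groth.Agent.QCoh.isCoh_structureModule', ?_, ?_⟩
  · have hcf : Coh.IsCoh ((Coh.push i).obj M) := Groth.Agent.QCoh.isCoh_pushforward_finite i hM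
    rw [Groth.Agent.QCoh.support_iso e (Groth.Agent.QCoh.isQCoh_pushforward f (Groth.Agent.QCoh.isQCoh_pushforward j Groth.Agent.QCoh.isCoh_structureModule'.1))]
    refine (Groth.Agent.QCoh.support_push_subset i hM.1).antisymm ?_
    rw [hri]
    refine closure_minimal (Set.singleton_subset_iff.2 ?_)
      (Groth.Agent.QCoh.isClosed_support_of_isFT hcf.1 hcf.2)
    intro hs
    obtain ⟨σ⟩ := Groth.Agent.H23.SpClosed.nonempty_stalkEquiv i M (genericPoint Z)
    haveI := hs
    exact hsupp σ.symm.toEquiv.subsingleton
  · intro a ha m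
    letI : Module (X.presheaf.stalk (i (genericPoint Z))) (M.presheaf.stalk (genericPoint Z)) :=
      Module.compHom _ (i.stalkMap (genericPoint Z)).hom
    obtain ⟨σ⟩ := Groth.Agent.H23.SpClosed.nonempty_stalkEquiv i M (genericPoint Z)
    have h0 : (i.stalkMap (genericPoint Z)).hom a = 0 := by
      have h1 : (i.stalkMap (genericPoint Z)).hom a ∈ IsLocalRing.maximalIdeal (Z.presheaf.stalk (genericPoint Z)) :=
        map_nonunit (i.stalkMap (genericPoint Z)).hom a ha
      rw [show IsLocalRing.maximalIdeal (Z.presheaf.stalk (genericPoint Z)) = ⊥ from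
        IsLocalRing.isField_iff_maximalIdeal_eq.1 (Field.toIsField Z.functionField)] at h1
      exact h1
    let E := ((DerSch.stalkFunctor X (i (genericPoint Z))).mapIso e).toLinearEquiv
    have key : ∀ n : (((Coh.push i).obj M).presheaf.stalk (i (genericPoint Z))), a • n = 0 := fun n => by
      refine σ.injective ?_
      rw [map_smul, map_zero]
      show (i.stalkMap (genericPoint Z)).hom a • σ n = 0
      rw [h0, zero_smul]
    refine E.injective ?_
    rw [map_smul, map_zero]
    exact key (E m)

end Groth.Agent.S0820
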