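import Groth.Statements.S0828
import Groth.Agent.Ref1X.CMFree

set_option autoImplicit false
universe u
open Coherent

namespace Groth.Agent.S0828

open CategoryTheory AlgebraicGeometry in
/-- Let X be a regular scheme (locally Noetherian with regular local rings) and F a coherent O_X-module.
Then F has support all of X and Cohen–Macaulay stalks if and only if F is finite locally free of
positive rank near every point. -/
theorem result (X : Scheme.{u}) [IsLocallyNoetherian X]
    (hreg : ∀ x : X, IsRegularLocalRing (X.presheaf.stalk x)) (F : X.Modules) (hF : Coh.IsCoh F) :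
    (CohB1.support F = Set.univ ∧
        ∀ x : X, LocCoh.IsCohenMacaulayModule (X.presheaf.stalk x) ↑(F.presheaf.stalk x)) ↔
      ∀ x : X, ∃ (U : X.Opens) (n : ℕ), x ∈ U ∧ 0 < n ∧
        Nonempty (F.restrict U.ι ≅ FlatMod.freeMod (↑U) n) := by
  constructor
  · rintro ⟨hsupp, hcm⟩ x
    haveI := hreg x
    obtain ⟨_, _⟩ := Groth.Agent.RegUFD.ufd (X.presheaf.stalk x)
    haveI := Groth.Agent.QCoh.finite_stalk_of_isFT hF.1 hF.2 x
    haveI : Nontrivial (F.presheaf.stalk x) := not_subsingleton_iff_nontrivial.1 (hsupp.ge (Set.mem_univ x))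
    haveI := (Groth.Agent.Ref1X.isCM_iff_free (Groth.Agent.Ref1X.annihilator_stalk_eq_bot hF hsupp x)).1 (hcm x)
    obtain ⟨U, n, hxU, ⟨e⟩⟩ := Groth.Agent.QCoh.exists_free_nhd_of_free_stalk
      (Groth.Agent.QCoh.isCoh_iff_isFP.1 hF) x
    refine ⟨U, n, hxU, ?_, ⟨e⟩⟩
    rw [← Groth.Agent.Ref1X.finrank_of_chart hF hxU e]
    exact Module.finrank_pos
  · intro h
    have key : ∀ x : X, Module.Free (X.presheaf.stalk x) (F.presheaf.stalk x) ∧ Nontrivial (F.presheaf.stalk x) := by
      intro x
      obtain ⟨U, n, hxU, hn, ⟨e⟩⟩ := h x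
      have hfree : Module.Free (X.presheaf.stalk x) (F.presheaf.stalk x) :=
        (Groth.Agent.Ref1X.free_stalk_restrict_iff F hxU).1 (Groth.Agent.QCoh.free_stalk_of_isFinLocFree
          (Groth.Agent.H23.PullPush.isFinLocFree_of_iso e.symm (Groth.Agent.KFlatLib.isFinLocFree_freeMod n)) _)
      refine ⟨hfree, ?_⟩
      by_contra hne
      haveI := not_nontrivial_iff_subsingleton.1 hne
      rw [← Groth.Agent.Ref1X.finrank_of_chart hF hxU e, Module.finrank_zero_of_subsingleton] at hn
      exact lt_irrefl _ hn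
    refine ⟨Set.eq_univ_of_forall fun x => not_subsingleton_iff_nontrivial.2 (key x).2, fun x => ?_⟩
    haveI := hreg x
    obtain ⟨_, _⟩ := Groth.Agent.RegUFD.ufd (X.presheaf.stalk x)
    haveI := Groth.Agent.QCoh.finite_stalk_of_isFT hF.1 hF.2 x
    haveI := (key x).2
    refine (Groth.Agent.Ref1X.isCM_iff_free (Groth.Agent.Ref1X.annihilator_stalk_eq_bot hF ?_ x)).2 (key x).1
    exact Set.eq_univ_of_forall fun y => not_subsingleton_iff_nontrivial.2 (key y).2

end Groth.Agent.S0828
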