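import Groth.Statements.S0854
import Groth.Agent.SiteBase.DerivedComp
import Groth.Agent.SiteBase.DerivedPrecomp
import Groth.Agent.LCZLib.Open

set_option autoImplicit false
universe u
open CategoryTheory
open CohTop CategoryTheory.Limits TopologicalSpace Opposite

namespace Groth.Agent.S0854

open TopologicalSpace in
/-- For abelian sheaves, one degree at a time: for a continuous map f : X -> Y, an abelian sheaf F on X,
an open V of Y and g : f^{-1}(V) -> V the restriction of f, the restriction of R^p f_* F to V is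
isomorphic to R^p g_* (F|_{f^{-1} V}). -/
theorem result {X Y : TopCat.{u}} (f : X ⟶ Y) (F : CohTop.Ab X)
    (V : Opens Y) (p : ℕ) :
    Nonempty (CohTop.restr ((CohTop.Rpush f p).obj F) V ≅
      (CohTop.Rpush (TopCat.ofHom ⟨(V : Set Y).restrictPreimage f, f.hom.continuous.restrictPreimage⟩ :
          TopCat.of ((Opens.map f).obj V) ⟶ TopCat.of V) p).obj
        (CohTop.restr F ((Opens.map f).obj V))) := by
  let U := (Opens.map f).obj V
  let g : TopCat.of U ⟶ TopCat.of V :=
    TopCat.ofHom ⟨(V : Set Y).restrictPreimage f, f.hom.continuous.restrictPreimage⟩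
  haveI e1 : ∀ {Z : TopCat.{u}} (W : Opens Z), PreservesFiniteLimits (CohTop.restrFunctor W) := fun W =>
    haveI : PreservesFiniteLimits (CohTop.pull (CohCx.incl W)) := SiteBase.preservesFiniteLimits_pull _
    preservesFiniteLimits_of_natIso (LCZLib.pullIso W)
  haveI e2 : ∀ {Z : TopCat.{u}} (W : Opens Z), PreservesFiniteColimits (CohTop.restrFunctor W) := fun W =>
    haveI := LCZLib.preservesFiniteColimits_pull (CohCx.incl W)
    preservesFiniteColimits_of_natIso (LCZLib.pullIso W)
  haveI : (CohTop.restrFunctor U).PreservesInjectiveObjects :=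
    ⟨fun {G} hG => LCZLib.injective_restr U G hG⟩
  have hW : ∀ W : Opens (TopCat.of V),
      U.isOpenEmbedding.isOpenMap.functor.obj ((Opens.map g).obj W) =
        (Opens.map f).obj (V.isOpenEmbedding.isOpenMap.functor.obj W) := fun W => Opens.ext (by
    ext x
    constructor
    · rintro ⟨y, hy, rfl⟩
      exact ⟨g y, hy, rfl⟩
    · rintro ⟨z, hz, e⟩
      have e' : z.1 = f x := e
      refine ⟨⟨x, show f x ∈ V from e' ▸ z.2⟩, ?_, rfl⟩
      show g _ ∈ W
      rw [show g (⟨x, show f x ∈ V from e' ▸ z.2⟩ : U) = z from Subtype.ext e'.symm]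
      exact hz)
  let e : CohTop.push f ⋙ CohTop.restrFunctor V ≅ CohTop.restrFunctor U ⋙ CohTop.push g :=
    NatIso.ofComponents (fun G => (fullyFaithfulSheafToPresheaf _ _).preimageIso
      (NatIso.ofComponents (fun W => G.obj.mapIso (eqToIso (hW W.unop)).op)
        (fun {W W'} m => (G.obj.map_comp _ _).symm.trans ((congrArg G.obj.map
          (Subsingleton.elim _ _)).trans (G.obj.map_comp _ _)))))
      (fun {G G'} φ => Sheaf.hom_ext (NatTrans.ext (funext fun W =>
        (φ.hom.naturality (eqToIso (hW W.unop)).op.hom).symm)))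
  haveI : (CohTop.push g).Additive := { }
  exact ⟨((SiteBase.rightDerivedCompIso (CohTop.push f) (CohTop.restrFunctor V) p).symm.app F) ≪≫
    (SiteBase.rightDerivedCongr e p).app F ≪≫
    (SiteBase.rightDerivedPrecompIso (CohTop.restrFunctor U) (CohTop.push g) p).app F⟩

end Groth.Agent.S0854
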