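import Groth.Statements.S0900
import Groth.Agent.PushAmp.DerivedProdExact

set_option autoImplicit false
universe v u
open CategoryTheory
open CohDer

namespace Groth.Agent.S0900

open CategoryTheory.Limits in
/-- Let F : A -> B be an additive functor between abelian categories with A Grothendieck abelian, B
having exact countable products (here: ℕ-indexed products exist and preserve epimorphisms) and F
commuting with ℕ-indexed products. Then the total right derived functor RF : D(A) -> D(B) (whose
existence is assumed as an instance argument; it exists because A has enough K-injective complexes)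
sends a derived limit of an inverse system (K_n) to a derived limit of (RF K_n). The relevant
countable products in the derived categories are assumed to exist. -/
theorem result {A : Type u} [Category.{v} A] [Abelian A] [IsGrothendieckAbelian.{v} A]
    [HasDerivedCategory.{v} A] {B : Type u} [Category.{v} B] [Abelian B] [HasDerivedCategory.{v} B]
    [HasProductsOfShape ℕ B] [(lim : (Discrete ℕ ⥤ B) ⥤ B).PreservesEpimorphisms]
    (F : A ⥤ B) [F.Additive] [PreservesLimitsOfShape (Discrete ℕ) F]
    [(F.mapHomotopyCategory (ComplexShape.up ℤ) ⋙ DerivedCategory.Qh).HasRightDerivedFunctor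
      (HomotopyCategory.quasiIso A (ComplexShape.up ℤ))]
    (K : ℕ → DerivedCategory A) (t : ∀ n, K (n + 1) ⟶ K n) (L : DerivedCategory A) [HasProduct K]
    [HasProduct fun n => ((F.mapHomotopyCategory (ComplexShape.up ℤ) ⋙ DerivedCategory.Qh).totalRightDerived
      DerivedCategory.Qh (HomotopyCategory.quasiIso A (ComplexShape.up ℤ))).obj (K n)]
    (hL : DCoh.IsRlim K t L) :
    DCoh.IsRlim
      (fun n => ((F.mapHomotopyCategory (ComplexShape.up ℤ) ⋙ DerivedCategory.Qh).totalRightDerived
        DerivedCategory.Qh (HomotopyCategory.quasiIso A (ComplexShape.up ℤ))).obj (K n))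
      (fun n => ((F.mapHomotopyCategory (ComplexShape.up ℤ) ⋙ DerivedCategory.Qh).totalRightDerived
        DerivedCategory.Qh (HomotopyCategory.quasiIso A (ComplexShape.up ℤ))).map (t n))
      (((F.mapHomotopyCategory (ComplexShape.up ℤ) ⋙ DerivedCategory.Qh).totalRightDerived
        DerivedCategory.Qh (HomotopyCategory.quasiIso A (ComplexShape.up ℤ))).obj L) := by
  obtain ⟨a, c, h⟩ := hL
  haveI : HasExactLimitsOfShape (Discrete ℕ) B := hasExactLimitsOfShape_of_preservesEpi B (Discrete ℕ)
  haveI := Groth.Agent.TriCat.qh_isLeftAdjoint_of_exists_resolution (A := A) fun L => by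
    obtain ⟨I, f, hI, hf, -, -⟩ := Groth.Agent.TriCat.exists_kInjective_resolution' L
    exact ⟨I, f, hI, hf⟩
  let adjQ := Adjunction.ofIsLeftAdjoint (DerivedCategory.Qh (C := A))
  let W := HomotopyCategory.quasiIso A (ComplexShape.up ℤ)
  let G₀ := F.mapHomotopyCategory (ComplexShape.up ℤ) ⋙ DerivedCategory.Qh
  haveI := Groth.Agent.TriCat.isRightDerivedFunctor_of_adjunction adjQ W G₀
  let R := G₀.totalRightDerived DerivedCategory.Qh W
  let e : DerivedCategory.Qh.rightAdjoint ⋙ G₀ ≅ R :=
    Functor.rightDerivedUnique _ _ (Functor.whiskerRight adjQ.unit G₀ : G₀ ⟶ DerivedCategory.Qh ⋙ DerivedCategory.Qh.rightAdjoint ⋙ G₀)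
      (G₀.totalRightDerivedUnit DerivedCategory.Qh W) W
  let _ : (DerivedCategory.Qh.rightAdjoint : DerivedCategory A ⥤ _).CommShift ℤ := adjQ.rightAdjointCommShift ℤ
  haveI : adjQ.CommShift ℤ := adjQ.commShift_of_leftAdjoint ℤ
  haveI : (DerivedCategory.Qh.rightAdjoint : DerivedCategory A ⥤ _).IsTriangulated := adjQ.isTriangulated_rightAdjoint
  haveI := Groth.Agent.PushAmp.DerivedProdExact.preservesLimitsOfShape_mapQh (J := ℕ) F
  haveI : PreservesLimitsOfShape (Discrete ℕ) (DerivedCategory.Qh.rightAdjoint : DerivedCategory A ⥤ _) :=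
    adjQ.rightAdjoint_preservesLimits.preservesLimitsOfShape
  haveI : PreservesLimit (Discrete.functor K) R := preservesLimit_of_natIso _ e
  have hv : CohCx.IsRlimVia K t L (fun n => a ≫ Pi.π K n) := by
    refine ⟨c, ?_⟩
    rwa [show Pi.lift (fun n => a ≫ Pi.π K n) = a from Pi.hom_ext _ _ fun n => Pi.lift_π _ _]
  obtain ⟨c', h'⟩ := Groth.Agent.SiteCmpLib.isRlimVia_map (DerivedCategory.Qh.rightAdjoint ⋙ G₀) e K t L _ hv
  exact ⟨_, c', h'⟩

end Groth.Agent.S0900
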