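import Groth.Statements.S0909
import Groth.Agent.DeligneLib.Points
import Mathlib.CategoryTheory.Sites.Coherent.RegularSheaves
import Mathlib.CategoryTheory.Sites.Coherent.RegularTopology
import Mathlib.CategoryTheory.Preadditive.Yoneda.Limits
import Mathlib.CategoryTheory.Limits.Preserves.FunctorCategory
import Mathlib.CategoryTheory.Sites.LocallySurjective
import Mathlib.CategoryTheory.Abelian.Basic
import Mathlib.Algebra.Homology.ShortComplex.ExactFunctor

set_option autoImplicit false
universe u
open CategoryTheory
open CohDer

namespace Groth.Agent.S0909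

open CategoryTheory.Limits in
/-- Let A be a small abelian category, made into a site by declaring the single epimorphisms to be
coverings (Mathlib's regular topology; the regularity instance is assumed). Then the functor X ↦
h_X, viewed in abelian sheaves (here: additive Yoneda followed by sheafification, which does not
change h_X since representables are sheaves), is fully faithful and exact, and the site has enough
points (a small conservative family of points, with fibre functors valued in Type u). -/
theorem result {A : Type u} [SmallCategory A] [Abelian A] [Preregular A] :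
    (preadditiveYoneda ⋙ presheafToSheaf (regularTopology A) AddCommGrpCat.{u}).Full ∧
    (preadditiveYoneda ⋙ presheafToSheaf (regularTopology A) AddCommGrpCat.{u}).Faithful ∧
    PreservesFiniteLimits (preadditiveYoneda ⋙ presheafToSheaf (regularTopology A) AddCommGrpCat.{u}) ∧
    PreservesFiniteColimits (preadditiveYoneda ⋙ presheafToSheaf (regularTopology A) AddCommGrpCat.{u}) ∧
    GrothendieckTopology.HasEnoughPoints.{u, u, u} (regularTopology A) := by
  let J := regularTopology A
  let P : A ⥤ Aᵒᵖ ⥤ AddCommGrpCat.{u} := preadditiveYoneda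
  have hsh : ∀ X : A, Presheaf.IsSheaf J (P.obj X) := fun X => by
    rw [Presheaf.isSheaf_iff_isSheaf_forget J _ (forget AddCommGrpCat.{u}), isSheaf_iff_isSheaf_of_type]
    exact regularTopology.isSheaf_yoneda_obj X
  let F : A ⥤ Sheaf J AddCommGrpCat.{u} :=
    { obj := fun X => ⟨P.obj X, hsh X⟩
      map := fun φ => ⟨P.map φ⟩
      map_id := fun X => Sheaf.hom_ext (P.map_id X)
      map_comp := fun φ ψ => Sheaf.hom_ext (P.map_comp φ ψ) }
  have hff : F.Faithful := ⟨fun {X Y} φ ψ h => P.map_injective (congrArg (fun t => t.hom) h)⟩
  have hfull : F.Full := ⟨fun {X Y} t => ⟨P.preimage t.hom, Sheaf.hom_ext (P.map_preimage _)⟩⟩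
  let e : F ≅ P ⋙ presheafToSheaf J AddCommGrpCat.{u} :=
    (Functor.rightUnitor F).symm ≪≫
      Functor.isoWhiskerLeft F (asIso (sheafificationAdjunction J AddCommGrpCat.{u}).counit).symm
  have : PreservesFiniteLimits P := ⟨fun K _ _ => preservesLimitsOfShape_of_evaluation P K fun Z =>
    inferInstanceAs (PreservesLimitsOfShape K (preadditiveCoyoneda.obj Z))⟩
  have hl : PreservesFiniteLimits (P ⋙ presheafToSheaf J AddCommGrpCat.{u}) := comp_preservesFiniteLimits _ _
  have : PreservesFiniteLimits F := preservesFiniteLimits_of_natIso e.symm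
  have : F.Additive := Functor.additive_of_preserves_binary_products F
  have : F.PreservesEpimorphisms := ⟨fun {X Y} π hπ => by
    have : Sheaf.IsLocallySurjective (F.map π) := ⟨fun {U} (s : U ⟶ Y) => by
      refine J.superset_covering (S := Sieve.generate (Presieve.singleton (pullback.snd π s))) ?_ ?_
      · rw [Sieve.generate_le_iff]
        rintro V g ⟨⟩
        exact ⟨pullback.fst π s, pullback.condition⟩
      · refine (regularTopology.mem_sieves_iff_hasEffectiveEpi _).2
          ⟨_, pullback.snd π s, (have : Epi (pullback.snd π s) := Abelian.epi_pullback_of_epi_f π s; have : IsRegularEpi (pullback.snd π s) := IsRegularEpiCategory.regularEpiOfEpi _; inferInstance), Sieve.le_generate _ _ _ ⟨⟩⟩⟩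
    exact Sheaf.epi_of_isLocallySurjective _⟩
  have : F.PreservesHomology := Functor.preservesHomology_of_preservesEpis_and_kernels F
  have : PreservesFiniteColimits F := Functor.preservesFiniteColimits_of_preservesHomology F
  refine ⟨Functor.Full.of_iso e, Functor.Faithful.of_iso e, hl, preservesFiniteColimits_of_natIso e, ?_⟩
  refine Groth.Agent.DeligneLib.hasEnoughPoints fun U S hS => ?_
  obtain ⟨Y, π, hπ, hSπ⟩ := (regularTopology.mem_sieves_iff_hasEffectiveEpi S).1 hS
  refine ⟨1, fun _ => Y, fun _ => π, fun _ => hSπ, (regularTopology.mem_sieves_iff_hasEffectiveEpi _).2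
    ⟨Y, π, hπ, Sieve.ofArrows_mk (fun _ : Fin 1 => Y) (fun _ => π) 0⟩⟩

end Groth.Agent.S0909
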