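import Groth.Statements.S0930
import Groth.Agent.H9Misc.PlusComp
import Groth.Agent.SiteBase.LerayTop

set_option autoImplicit false
universe u
open CategoryTheory
attribute [local instance] HasDerivedCategory.standard
open CohTop

namespace Groth.Agent.S0930

lemma nonempty_iso_of_isRightDerived.{a, b, c, a', b', c'} {C : Type a} [Category.{a'} C] {D : Type b}
    [Category.{b'} D] {H : Type c} [Category.{c'} H] {F : C ⥤ H} {L : C ⥤ D}
    {W : MorphismProperty C} [L.IsLocalization W] {RF RF' : D ⥤ H} {α : F ⟶ L ⋙ RF}
    {α' : F ⟶ L ⋙ RF'} (h : RF.IsRightDerivedFunctor α W) (h' : RF'.IsRightDerivedFunctor α' W) :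
    Nonempty (RF ≅ RF') :=
  letI := h; letI := h'; ⟨Functor.rightDerivedUnique RF RF' α α' W⟩

/-- For continuous maps f : X -> Y and g : Y -> Z, the composite of the right derived functors Rf_* :
D^+(X) -> D^+(Y) and Rg_* : D^+(Y) -> D^+(Z) is isomorphic to R(g ∘ f)_* (existence of an
isomorphism of functors between bounded below derived categories). -/
theorem result {X Y Z : TopCat.{u}} (f : X ⟶ Y) (g : Y ⟶ Z) :
    Nonempty ((CohTop.push f).rightDerivedFunctorPlus ⋙ (CohTop.push g).rightDerivedFunctorPlus ≅
      (CohTop.push (f ≫ g)).rightDerivedFunctorPlus) := by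
  let F := CohTop.push f
  let G := CohTop.push g
  let H := CohTop.push (f ≫ g)
  have := LerayDegen.push_left_exact f
  have := LerayDegen.push_left_exact g
  have hFG : ∀ I : CohTop.Ab X, Injective I → IsIso (G.rightDerivedFunctorPlusUnit.app
      ((HomotopyCategory.Plus.singleFunctor (CohTop.Ab Y) 0).obj (F.obj I))) := fun I hI => by
    have := hI
    have := SiteBase.injective_push f I
    exact (TriCat.isIso_unit_single_iff G (F.obj I)).2
      ⟨inferInstance, TriCat.isRightAcyclic_of_injective _⟩
  let e : F ⋙ G ≅ H := Iso.refl _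
  have h := H9Misc.PlusComp.isRightDerived F G hFG (H := H)
    (Functor.mapHomotopyCategoryPlusCompIso e).symm
  exact nonempty_iso_of_isRightDerived h
    (inferInstance : H.rightDerivedFunctorPlus.IsRightDerivedFunctor H.rightDerivedFunctorPlusUnit _)

end Groth.Agent.S0930
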