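import Groth.Statements.S0947
import Groth.Agent.TopVanish.SpecColim

set_option autoImplicit false
universe u
open CategoryTheory
open CohTop

namespace Groth.Agent.S0947

open TopologicalSpace Opposite CategoryTheory.Limits in
/-- Let X be a spectral space, F an abelian sheaf on X, E ⊆ X a quasi-compact subset and W the set of
points of X specializing to some point of E. Then for every p the group H^p(W, F|_W) (cohomology of
the pullback of F to the subspace W) is isomorphic to the colimit of the groups H^p(U, F) over the
quasi-compact open neighbourhoods U of E (existence of an isomorphism). -/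
theorem result {X : TopCat.{u}} [SpectralSpace X] (E : Set X)
    (hE : IsCompact E) (F : CohTop.Ab X) (p : ℕ) :
    Nonempty ((colimit (ObjectProperty.ι (fun U : (Opens X)ᵒᵖ => E ⊆ (U.unop : Set X) ∧ IsCompact (U.unop : Set X)) ⋙
        (Sheaf.cohomologyPresheafFunctor (Opens.grothendieckTopology X) p).obj F) : AddCommGrpCat.{u}) ≃+
      CohTop.H ((CohTop.pull (TopCat.ofHom ⟨Subtype.val, continuous_subtype_val⟩ :
        TopCat.of {x : X | ∃ e ∈ E, e ∈ closure {x}} ⟶ X)).obj F) p) := by
  obtain ⟨e⟩ := Groth.Agent.TopVanish.nonempty_colimit_iso_H (X := X) (E := E) (T := {x : X | ∃ e ∈ E, e ∈ closure {x}})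
    (fun U hU x ⟨e, he, hex⟩ => (specializes_iff_mem_closure.2 hex).mem_open U.isOpen (hU he))
    (Groth.Agent.TopVanish.isQCInter_generalizations hE) hE (fun e he => ⟨e, he, subset_closure rfl⟩) F p
  exact ⟨e.addCommGroupIsoToAddEquiv⟩

end Groth.Agent.S0947
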