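import Groth.Statements.S0977
import Mathlib

set_option autoImplicit false
universe v u
open CategoryTheory
open CohDer

namespace Groth.Agent.S0977

open CategoryTheory.Pretriangulated in
/-- The equivalence A ≃ D/B: let A and B be strictly full triangulated subcategories of a triangulated
category D such that every morphism from an object of A to an object of B is zero and every object X
of D sits in a distinguished triangle a → X → b → a[1] with a in A and b in B. Then the composite of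
the inclusion of A with the Verdier quotient functor D → D/B (the localization at the morphisms
whose cone lies in B) is an equivalence. -/
theorem result {D : Type u} [Category.{v} D] [Preadditive D] [Limits.HasZeroObject D] [HasShift D ℤ]
    [∀ n : ℤ, (shiftFunctor D n).Additive] [Pretriangulated D] [IsTriangulated D]
    (A B : ObjectProperty D) [A.IsTriangulated] [A.IsClosedUnderIsomorphisms]
    [B.IsTriangulated] [B.IsClosedUnderIsomorphisms]
    (hAB : ∀ (a b : D), A a → B b → ∀ f : a ⟶ b, f = 0)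
    (hdec : ∀ X : D, ∃ (a b : D) (f : a ⟶ X) (g : X ⟶ b) (h : b ⟶ (shiftFunctor D (1 : ℤ)).obj a),
      Triangle.mk f g h ∈ distinguishedTriangles ∧ A a ∧ B b) :
    (A.ι ⋙ B.trW.Q).IsEquivalence := by
  have key : ∀ {a a' Y : D}, A a → ∀ s : a' ⟶ Y, B.trW s → Function.Bijective fun f : a ⟶ a' => f ≫ s := by
    intro a a' Y ha s hs
    obtain ⟨Z, g, k, hT, hZ⟩ := (ObjectProperty.trW_iff B s).1 hs
    refine ⟨fun f₁ f₂ h => ?_, fun f => ?_⟩
    · have h0 : (f₁ - f₂) ≫ s = 0 := by rw [Preadditive.sub_comp, sub_eq_zero]; exact h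
      obtain ⟨w, hw⟩ := (Triangle.mk s g k).invRotate.coyoneda_exact₂ (inv_rot_of_distTriang _ hT) (f₁ - f₂) h0
      have : w = 0 := hAB _ _ ha (B.le_shift (-1 : ℤ) _ hZ) w
      rw [this] at hw
      exact sub_eq_zero.1 (hw.trans Limits.zero_comp)
    · obtain ⟨w, hw⟩ := (Triangle.mk s g k).coyoneda_exact₂ hT f (hAB _ _ ha hZ _)
      exact ⟨w, hw.symm⟩
  haveI : (A.ι ⋙ B.trW.Q).Faithful := ⟨fun {a a'} f g h => by
    obtain ⟨Z, s, hs, he⟩ := (MorphismProperty.map_eq_iff_postcomp B.trW.Q B.trW f.hom g.hom).1 h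
    exact ObjectProperty.hom_ext _ ((key a.2 s hs).1 he)⟩
  haveI : (A.ι ⋙ B.trW.Q).Full := ⟨fun {a a'} t => by
    obtain ⟨φ, hφ⟩ := Localization.exists_leftFraction B.trW.Q B.trW t
    obtain ⟨f₀, hf₀⟩ := (key a.2 φ.s φ.hs).2 φ.f
    refine ⟨ObjectProperty.homMk f₀, ?_⟩
    haveI := Localization.inverts B.trW.Q B.trW φ.s φ.hs
    subst hφ
    rw [← cancel_mono (B.trW.Q.map φ.s), MorphismProperty.LeftFraction.map_comp_map_s]
    change B.trW.Q.map f₀ ≫ B.trW.Q.map φ.s = _
    rw [← Functor.map_comp]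
    exact congrArg B.trW.Q.map hf₀⟩
  haveI : (A.ι ⋙ B.trW.Q).EssSurj := ⟨fun Y => by
    obtain ⟨X, ⟨e⟩⟩ : ∃ X, Nonempty (B.trW.Q.obj X ≅ Y) := by
      haveI := Localization.essSurj B.trW.Q B.trW
      exact ⟨_, ⟨B.trW.Q.objObjPreimageIso Y⟩⟩
    obtain ⟨a, b, f, g, h, hT, ha, hb⟩ := hdec X
    haveI := Localization.inverts B.trW.Q B.trW f ((ObjectProperty.trW_iff B f).2 ⟨b, g, h, hT, hb⟩)
    exact ⟨⟨a, ha⟩, ⟨asIso (B.trW.Q.map f) ≪≫ e⟩⟩⟩
  exact {}

end Groth.Agent.S0977
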