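import Groth.Statements.S0983
import Mathlib.CategoryTheory.Triangulated.Triangulated


set_option autoImplicit false
universe v u
open CategoryTheory
open CohDer

namespace Groth.Agent.S0983

open CategoryTheory.Pretriangulated in
/-- In a triangulated category, a commutative square f ≫ v = u ≫ f' (with f : X ⟶ Y, f' : X' ⟶ Y', u : X
⟶ X', v : Y ⟶ Y') extends to a diagram with three distinguished rows (X, Y, Z), (X', Y', Z'), (X'',
Y'', Z'') and three distinguished columns (X, X', X''), (Y, Y', Y''), (Z, Z', Z''), in which all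
squares commute except the one formed by the third morphisms of the last row and last column, which
anticommutes; the fourth row and column are the shifts of the first ones. -/
theorem result {D : Type u} [Category.{v} D] [Preadditive D] [Limits.HasZeroObject D] [HasShift D ℤ]
    [∀ n : ℤ, (shiftFunctor D n).Additive] [Pretriangulated D] [IsTriangulated D]
    {X Y X' Y' : D} (f : X ⟶ Y) (f' : X' ⟶ Y') (u : X ⟶ X') (v : Y ⟶ Y') (comm : f ≫ v = u ≫ f') :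
    ∃ (Z Z' X'' Y'' Z'' : D) (g : Y ⟶ Z) (h : Z ⟶ (shiftFunctor D (1 : ℤ)).obj X)
      (g' : Y' ⟶ Z') (h' : Z' ⟶ (shiftFunctor D (1 : ℤ)).obj X')
      (f'' : X'' ⟶ Y'') (g'' : Y'' ⟶ Z'') (h'' : Z'' ⟶ (shiftFunctor D (1 : ℤ)).obj X'')
      (u' : X' ⟶ X'') (u'' : X'' ⟶ (shiftFunctor D (1 : ℤ)).obj X)
      (v' : Y' ⟶ Y'') (v'' : Y'' ⟶ (shiftFunctor D (1 : ℤ)).obj Y)
      (w : Z ⟶ Z') (w' : Z' ⟶ Z'') (w'' : Z'' ⟶ (shiftFunctor D (1 : ℤ)).obj Z),
      Triangle.mk f g h ∈ distinguishedTriangles ∧ Triangle.mk f' g' h' ∈ distinguishedTriangles ∧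
      Triangle.mk f'' g'' h'' ∈ distinguishedTriangles ∧
      Triangle.mk u u' u'' ∈ distinguishedTriangles ∧ Triangle.mk v v' v'' ∈ distinguishedTriangles ∧
      Triangle.mk w w' w'' ∈ distinguishedTriangles ∧
      g ≫ w = v ≫ g' ∧ h ≫ (shiftFunctor D (1 : ℤ)).map u = w ≫ h' ∧
      f' ≫ v' = u' ≫ f'' ∧ g' ≫ w' = v' ≫ g'' ∧ h' ≫ (shiftFunctor D (1 : ℤ)).map u' = w' ≫ h'' ∧
      f'' ≫ v'' = u'' ≫ (shiftFunctor D (1 : ℤ)).map f ∧ g'' ≫ w'' = v'' ≫ (shiftFunctor D (1 : ℤ)).map g ∧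
      h'' ≫ (shiftFunctor D (1 : ℤ)).map u'' = -(w'' ≫ (shiftFunctor D (1 : ℤ)).map h) := by
  obtain ⟨Z, g, h, h1⟩ := distinguished_cocone_triangle f
  obtain ⟨Y'', v', v'', h2⟩ := distinguished_cocone_triangle v
  obtain ⟨Z', g', h', h3⟩ := distinguished_cocone_triangle f'
  obtain ⟨X'', u', u'', h4⟩ := distinguished_cocone_triangle u
  obtain ⟨W, p, q, h5⟩ := distinguished_cocone_triangle (f ≫ v)
  let O1 := Triangulated.someOctahedron rfl h1 h2 h5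
  let O2 := Triangulated.someOctahedron comm.symm h4 h3 h5
  obtain ⟨Z'', g'', h'', h6⟩ := distinguished_cocone_triangle (O2.m₁ ≫ O1.m₃)
  have h7 : Triangle.mk O1.m₃ (v'' ≫ (shiftFunctor D (1 : ℤ)).map g)
      (-(shiftFunctor D (1 : ℤ)).map O1.m₁) ∈ distinguishedTriangles := rot_of_distTriang _ O1.mem
  let O3 := Triangulated.someOctahedron (u₁₃ := O2.m₁ ≫ O1.m₃) rfl O2.mem h7 h6
  refine ⟨Z, Z', X'', Y'', Z'', g, h, g', h', O2.m₁ ≫ O1.m₃, g'', h'', u', u'', v', v'',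
    O1.m₁ ≫ O2.m₃, O3.m₁, O3.m₃, h1, h3, h6, h4, h2, ?_, ?_, ?_, ?_, ?_, ?_, ?_, ?_, ?_⟩
  · rw [rotate_distinguished_triangle]
    change Triangle.mk O3.m₁ O3.m₃ (-(shiftFunctor D (1 : ℤ)).map (O1.m₁ ≫ O2.m₃)) ∈ _
    rw [Functor.map_comp, ← Preadditive.neg_comp]
    exact O3.mem
  · rw [reassoc_of% O1.comm₁, O2.comm₃]
  · rw [Category.assoc, ← O2.comm₄, reassoc_of% O1.comm₂]
  · rw [reassoc_of% O2.comm₁, O1.comm₃]
  · calc g' ≫ O3.m₁ = p ≫ O2.m₃ ≫ O3.m₁ := by rw [O2.comm₃_assoc]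
      _ = p ≫ O1.m₃ ≫ g'' := by rw [O3.comm₁]
      _ = v' ≫ g'' := by rw [O1.comm₃_assoc]
  · exact O3.comm₂.symm
  · rw [Category.assoc, ← O1.comm₄, reassoc_of% O2.comm₂]
  · exact O3.comm₃
  · have e := O3.comm₄
    have e1 : (shiftFunctor D (1 : ℤ)).map u'' =
        (shiftFunctor D (1 : ℤ)).map O2.m₁ ≫ (shiftFunctor D (1 : ℤ)).map q := by
      rw [← Functor.map_comp, O2.comm₂]
    rw [e1, reassoc_of% e]
    rw [Preadditive.neg_comp, Preadditive.comp_neg, ← Functor.map_comp, O1.comm₂]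

end Groth.Agent.S0983
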