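import Groth.Statements.S10024
import Groth.Agent.AlgSpDec.LfpLimPres
import Groth.Agent.AlgSpDec.LfpCriterion
-- import your own Groth.Agent.* helpers here

set_option autoImplicit false
universe u
open CategoryTheory CategoryTheory.Limits AlgebraicGeometry
open AlgSp

namespace Groth.Agent.S10024

/-- A morphism `f : X ⟶ Y` of algebraic spaces over `S` is locally of finite presentation if and only if
it is limit preserving as a transformation of functors (relatively limit preserving: every fibre
functor over a scheme turns directed limits of affine schemes into colimits). -/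
theorem result (S : Scheme.{u}) {X Y : AlgSp.Space S} (f : X ⟶ Y) :
    AlgSp.LocP @LocallyOfFinitePresentation f.hom ↔ AlgSp.IsRelLimitPreserving f.hom.hom := by
  open Groth.Agent in
  refine ⟨fun h => AlgSpPts.isRelLimitPreserving_of_relLP
    (AlgSpDec.LfpLimPres.relLP_of_locP X.property Y.property h), fun h => ?_⟩
  refine Groth.Agent.AlgSpDec.LfpCriterion.locP_lfp_of_surjLim fun I _ _ D c hc hD hT x i y hxy => ?_
  obtain ⟨k, φ, z, hz, hzx⟩ := (Groth.Agent.AlgSpPts.relLP_of_isRelLimitPreserving h).surj D c hc hD hT i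
    ((J S).uliftYonedaEquiv y) ((J S).uliftYonedaEquiv x) (by
      refine Eq.trans ?_ (Groth.Agent.AlgSpLib.uliftYonedaEquiv_precomp _ _).symm
      exact congrArg (J S).uliftYonedaEquiv hxy)
  obtain ⟨z, rfl⟩ : ∃ m : (yon S).obj (D.obj k) ⟶ X.obj, (J S).uliftYonedaEquiv m = z :=
    ⟨_, Equiv.apply_symm_apply _ _⟩
  exact ⟨k, φ, z, (J S).uliftYonedaEquiv.injective
      ((Groth.Agent.AlgSpLib.uliftYonedaEquiv_precomp _ _).symm.trans hzx),
    (J S).uliftYonedaEquiv.injective (hz.trans (Groth.Agent.AlgSpLib.uliftYonedaEquiv_precomp _ _))⟩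

end Groth.Agent.S10024
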