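import Groth.Statements.S10047
import Groth.Agent.AlgSpDec.ThickClosedImm
import Groth.Agent.AlgSpDec.AffineLocal
import Groth.Agent.AlgSpLib.Descends2
import Groth.Agent.AlgSpLib.ThickScheme
-- import your own Groth.Agent.* helpers here

set_option autoImplicit false
universe u
open CategoryTheory CategoryTheory.Limits AlgebraicGeometry
open AlgSp

namespace Groth.Agent.S10047

set_option backward.isDefEq.respectTransparency false
set_option backward.isDefEq.respectTransparency.types false
open CategoryTheory CategoryTheory.Limits AlgebraicGeometry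
open Groth.Agent.AlgSpLib Groth.Agent.AlgSpPts Groth.Agent.AlgSpDec

/-- the scheme statement, with no affineness -/
theorem isClosedImmersion_of_thick_base {X V Z X' : Scheme.{u}} (f : X ⟶ V) (i : Z ⟶ V)
    [IsClosedImmersion i] [Surjective i] {a : X' ⟶ X} {b : X' ⟶ Z} (sq : IsPullback a b f i)
    [IsClosedImmersion b] (h : LocallyOfFiniteType f ∨ LocallyOfFinitePresentation i) :
    IsClosedImmersion f := by
  refine (IsZariskiLocalAtTarget.iff_of_openCover (P := @IsClosedImmersion) V.affineCover).2 fun k => ?_
  let j := V.affineCover.f k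
  change IsClosedImmersion (pullback.snd f j)
  have : IsAffine (V.affineCover.X k) := inferInstanceAs (IsAffine (Spec _))
  have sqX : IsPullback (pullback.snd f j) (pullback.fst f j) j f := (IsPullback.of_hasPullback f j).flip
  let sqb := IsPullback.of_hasPullback b (pullback.fst i j)
  let a' : pullback b (pullback.fst i j) ⟶ pullback f j :=
    pullback.lift (pullback.fst _ _ ≫ a) (pullback.snd _ _ ≫ pullback.snd i j) (by
      rw [Category.assoc, sq.w, Category.assoc, ← pullback.condition (f := i) (g := j), ← Category.assoc,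
        pullback.condition, Category.assoc])
  have h1 := sqb.paste_horiz sq
  have sq2 : IsPullback a' (pullback.snd b (pullback.fst i j)) (pullback.snd f j) (pullback.snd i j) := by
    refine IsPullback.of_right (h₁₂ := pullback.fst f j) (v₁₃ := f) (h₂₂ := j) ?_ (pullback.lift_snd _ _ _)
      (IsPullback.of_hasPullback f j)
    rw [pullback.lift_fst, ← pullback.condition (f := i) (g := j)]
    exact h1
  refine ThickClosedImm.isClosedImmersion_of_thick _ (pullback.snd i j) sq2 ?_
  rcases h with h | h
  · exact Or.inl inferInstance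
  · exact Or.inr inferInstance


/-- Let `f : X ⟶ B` and `g : B' ⟶ B` be morphisms of algebraic spaces over `S` with `g` a closed
immersion inducing a bijection on points, and suppose the base change `X ×_B B' ⟶ B'` is a closed
immersion. If `f` is of finite type or `g` is of finite presentation, then `f` is a closed
immersion. -/
theorem result (S : Scheme.{u}) {X B B' : AlgSp.Space S}
    (f : X ⟶ B) (g : B' ⟶ B) (hg : AlgSp.RepWith @IsClosedImmersion g.hom)
    (hbij : Function.Bijective (AlgSp.Points.map g.hom))
    (X' : AlgSp.Sp S) (fst : X' ⟶ X.obj) (snd : X' ⟶ B'.obj) (hX' : IsPullback fst snd f.hom g.hom)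
    (hsnd : AlgSp.RepWith @IsClosedImmersion snd)
    (hor : AlgSp.IsFiniteTypeMor f.hom ∨ AlgSp.IsFinitePresentationMor g.hom) :
    AlgSp.RepWith @IsClosedImmersion f.hom := by
  obtain ⟨V, p, hp, hps⟩ := B.property.atlas
  let XV := pullback f.hom p
  have hXV : AlgSp.IsAlgSpace XV := isAlgSpace_pullback X.property (IsAlgSpace.yon_obj V) B.property f.hom p
  let ZV := hg.rep.pullback p
  let iV : ZV ⟶ V := hg.rep.snd p
  have sqg := hg.rep.isPullback p
  have hiV : IsClosedImmersion iV.left := hg.property_snd p
  have hgs : AlgSp.RepWith @Surjective g.hom := repWith_surjective_of_surjective hg.rep hbij.2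
  have hiVs : Surjective iV.left := hgs.property _ _ _ sqg
  -- the base change over the thickening is a scheme
  have hsr := hsnd.rep
  let X'' := hsr.pullback (hg.rep.fst p)
  let bV : X'' ⟶ ZV := hsr.snd (hg.rep.fst p)
  have sqb := hsr.isPullback (hg.rep.fst p)
  have hbV : IsClosedImmersion bV.left := hsnd.property_snd (hg.rep.fst p)
  let aV : (AlgSp.yon S).obj X'' ⟶ XV :=
    pullback.lift (hsr.fst (hg.rep.fst p) ≫ fst) ((AlgSp.yon S).map bV ≫ (AlgSp.yon S).map iV) (by
      rw [Category.assoc, hX'.w, ← Category.assoc, sqb.w, Category.assoc, sqg.w, Category.assoc])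
  have sqV : IsPullback aV ((AlgSp.yon S).map bV) (pullback.snd f.hom p) ((AlgSp.yon S).map iV) := by
    refine IsPullback.of_right (h₁₂ := pullback.fst f.hom p) (v₁₃ := f.hom) (h₂₂ := p) ?_ (pullback.lift_snd _ _ _)
      (IsPullback.of_hasPullback f.hom p)
    rw [pullback.lift_fst, ← sqg.w]
    exact sqb.paste_horiz hX'
  have hth : AlgSp.IsThickMor aV := repWith_of_isPullback sqV.flip ((repWith_yon_map_iff _ _).2 ⟨hiV, hiVs⟩)
  obtain ⟨T, ⟨e⟩⟩ := exists_scheme_of_thick (IsAlgSpace.yon_obj X'') hXV hth (Iso.refl _)
  obtain ⟨fT, hfT⟩ := (AlgSp.yon S).map_surjective (e.hom ≫ pullback.snd f.hom p)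
  obtain ⟨aT, haT⟩ := (AlgSp.yon S).map_surjective (aV ≫ e.inv)
  have sqT : IsPullback ((AlgSp.yon S).map aT) ((AlgSp.yon S).map bV) ((AlgSp.yon S).map fT) ((AlgSp.yon S).map iV) := by
    rw [haT, hfT]
    exact sqV.of_iso (Iso.refl _) e.symm (Iso.refl _) (Iso.refl _) (by simp) (by simp) (by simp) (by simp)
  have sqT' : IsPullback aT.left bV.left fT.left iV.left :=
    (sqT.of_map_of_faithful (AlgSp.yon S)).map (CategoryTheory.Over.forget S)
  have sqe : IsPullback (e.hom ≫ pullback.fst f.hom p) ((AlgSp.yon S).map fT) f.hom p := by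
    rw [hfT]
    exact (IsPullback.of_hasPullback f.hom p).of_iso e.symm (Iso.refl _) (Iso.refl _) (Iso.refl _)
      (by simp) (by simp) (by simp) (by simp)
  have hor' : LocallyOfFiniteType fT.left ∨ LocallyOfFinitePresentation iV.left := by
    rcases hor with h | h
    · exact Or.inl (locP_of_isPullback sqe X.property B.property (IsAlgSpace.yon_obj V) h.1 (𝟙 _) (𝟙 _) fT (repWith_of_isIso _ _) (repWith_of_isIso _ _) (by simp))
    · exact Or.inr (locP_of_isPullback sqg B'.property B.property (IsAlgSpace.yon_obj V) h.1 (𝟙 _) (𝟙 _) iV (repWith_of_isIso _ _) (repWith_of_isIso _ _) (by simp [iV]))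
  have hc : IsClosedImmersion fT.left := isClosedImmersion_of_thick_base fT.left iV.left sqT' hor'
  exact repWith_of_etale_cover (fun _ _ k (_ : IsClosedImmersion k) => inferInstanceAs (IsAffineHom k)) hp hps sqe
    ((repWith_yon_map_iff _ _).2 hc)

end Groth.Agent.S10047
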