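import Groth.Statements.S10050
import Groth.Agent.AlgSpDec.TwoClosed
import Groth.Agent.S10045
import Groth.Agent.S10192
-- import your own Groth.Agent.* helpers here

set_option autoImplicit false
universe u
open CategoryTheory CategoryTheory.Limits AlgebraicGeometry
open AlgSp

namespace Groth.Agent.S10050

set_option backward.isDefEq.respectTransparency false
set_option backward.isDefEq.respectTransparency.types false

/-- Let `X` be an algebraic space, quasi-compact and quasi-separated over the scheme `S`, which is not a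
scheme although every proper closed subspace of `X` is one. Then `X` is reduced and irreducible.
(The published statement allows any base scheme and uses absolute quasi-separatedness; this row
assumes the base quasi-separated, over which quasi-separatedness relative to the base is the
absolute notion.) -/
theorem result (S : Scheme.{u}) [QuasiSeparatedSpace S]
    (X : AlgSp.Space S) (hXqc : AlgSp.IsQuasiCompactSp X.obj) (hXqs : AlgSp.IsQuasiSeparatedSp X.obj) (hX : ¬ X.obj.obj.IsRepresentable)
    (hmin : ∀ (Z : AlgSp.Space S) (i : Z ⟶ X), AlgSp.RepWith @IsClosedImmersion i.hom → ¬ IsIso i → Z.obj.obj.IsRepresentable) :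
    AlgSp.IsReducedSp X.obj ∧ IrreducibleSpace (AlgSp.Points X.obj) := by
  constructor
  · obtain ⟨Z, i, hi⟩ := Groth.Agent.S10192.result X Set.univ isClosed_univ
    by_cases h : IsIso i
    · haveI : IsIso i.hom := inferInstanceAs (IsIso ((ObjectProperty.ι _).map i))
      obtain ⟨U, p, hp, hps, hU⟩ := hi.2.2
      exact ⟨U, p ≫ i.hom, AlgSpLib.repWith_comp hp (AlgSpLib.repWith_of_isIso _ i.hom),
        AlgSpLib.repWith_comp hps (AlgSpLib.repWith_of_isIso _ i.hom), hU⟩
    · exact absurd (Groth.Agent.S10045.result S X Z i hi (hmin Z i hi.1 h)) hX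
  haveI : Nonempty (AlgSp.Points X.obj) := by
    by_contra h
    exact hX (AlgSpDec.GroupScheme.isRepresentable_of_nhds X.property fun x => absurd ⟨x⟩ h)
  haveI : PreirreducibleSpace (AlgSp.Points X.obj) := ⟨by
    rw [isPreirreducible_iff_isClosed_union_isClosed]
    intro A B hA hB hcov
    by_contra hne
    rw [not_or] at hne
    have hrep : ∀ T : Set (AlgSp.Points X.obj), IsClosed T → ¬ Set.univ ⊆ T →
        ∃ (V : Over S) (e : (AlgSp.yon S).obj V ⟶ X.obj), AlgSp.RepWith @IsClosedImmersion e ∧
          Set.range (AlgSp.Points.ofPt e) = T := by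
      intro T hT hTne
      obtain ⟨Z, i, hc, hr, -⟩ := Groth.Agent.S10192.result X T hT
      obtain ⟨V, ⟨r⟩⟩ := (hmin Z i hc fun h => hTne fun x _ => by
        haveI : IsIso i.hom := inferInstanceAs (IsIso ((ObjectProperty.ι _).map i))
        rw [← hr]
        exact ⟨AlgSp.Points.map (inv i.hom) x, by rw [← AlgSp.Points.map_comp, IsIso.inv_hom_id, AlgSp.Points.map_id]⟩).has_representation
      let e := AlgSp.isoOfRepresentableBy r
      refine ⟨V, e.hom ≫ i.hom, AlgSpLib.repWith_comp (AlgSpLib.repWith_of_isIso _ e.hom) hc, ?_⟩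
      rw [← hr]
      ext x
      constructor
      · rintro ⟨v, rfl⟩
        exact ⟨AlgSp.Points.ofPt e.hom v, AlgSp.Points.map_ofPt _ _ _⟩
      · rintro ⟨z, rfl⟩
        obtain ⟨v, hv⟩ := (AlgSp.Points.schemeEquiv V).surjective (AlgSp.Points.map e.inv z)
        refine ⟨v, ?_⟩
        rw [AlgSp.Points.ofPt_eq_map_ofScheme,
          show AlgSp.Points.ofScheme V v = AlgSp.Points.map e.inv z from hv, ← AlgSp.Points.map_comp, e.inv_hom_id_assoc]
    obtain ⟨VA, eA, hVA, hrA⟩ := hrep A hA hne.1
    obtain ⟨VB, eB, hVB, hrB⟩ := hrep B hB hne.2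
    refine hX (AlgSpDec.TwoClosed.isRepresentable_of_two_closed X.property hVA hVB fun x => ?_)
    rw [hrA, hrB]
    exact hcov (Set.mem_univ x)⟩
  exact ⟨inferInstance⟩

end Groth.Agent.S10050
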