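import Groth.Statements.S10085
import Groth.Agent.AlgSpMod.SubKilledZero

set_option autoImplicit false
universe u
open CategoryTheory CategoryTheory.Limits AlgebraicGeometry Opposite
open AlgSp

namespace Groth.Agent.S10085

set_option backward.isDefEq.respectTransparency false
set_option backward.isDefEq.respectTransparency.types false

open CategoryTheory CategoryTheory.Limits AlgebraicGeometry Opposite Groth.Agent Groth.Agent.AlgSpMod


/-- Let `X` be an algebraic space over a scheme `S`, `j : U ⟶ X` an open subspace whose inclusion is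
quasi-compact, `T` the closed subset of points of `X` complementary to the image of `U`, and `F` a
quasi-coherent `O_X`-module on the small etale site of `X`. Then, first, on every affine object `W ⟶
X` of the site the inverse image of `T` is the zero locus of a finitely generated ideal of the
global functions on `W`; second, the subsheaf of sections of `F` supported on `T` is a
quasi-coherent submodule: there is a monomorphism `F' ⟶ F` with `F'` quasi-coherent whose image over
every affine object `W` is the set of sections `x` of `F` over `W` whose support (the zero locus of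
the annihilator ideal of `x` in the global functions on `W`) lies in the inverse image of `T`, and
is also, for any finitely generated ideal `I` of the functions on `W` with zero locus the inverse
image of `T`, the set of sections of `F` over `W` annihilated by some power of `I`. -/
theorem result {S : Scheme.{u}} (X : AlgSp.Space S)
    (U : AlgSp.Space S) (j : U ⟶ X) (hj : AlgSp.RepWith @IsOpenImmersion j.hom)
    (hjqc : AlgSp.IsQuasiCompactMor j.hom)
    (T : Set (AlgSp.Points X.obj)) (hT : T = (Set.range (AlgSp.Points.map j.hom))ᶜ)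
    (F : AlgSp.ModEt X.obj) [F.IsQuasicoherent] :
    (∀ (W : AlgSp.EtOver X.obj), IsAffine W.obj.left.left →
      ∃ I : Ideal Γ(W.obj.left.left, ⊤), I.FG ∧
        W.obj.left.left.zeroLocus (U := ⊤) (I : Set Γ(W.obj.left.left, ⊤)) =
          {w | AlgSp.Points.ofPt W.obj.hom w ∈ T}) ∧
    ∃ (F' : AlgSp.ModEt X.obj) (ι : F' ⟶ F), Mono ι ∧ F'.IsQuasicoherent ∧
      (∀ (W : AlgSp.EtOver X.obj), IsAffine W.obj.left.left →
        Set.range (ι.val.app (op W)).hom =
          {x : AlgSp.sectModEt F W | W.obj.left.left.zeroLocus (U := ⊤)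
              ((AlgSp.annSect x : Ideal Γ(W.obj.left.left, ⊤)) : Set Γ(W.obj.left.left, ⊤)) ⊆
            {w | AlgSp.Points.ofPt W.obj.hom w ∈ T}}) ∧
      ∀ (W : AlgSp.EtOver X.obj), IsAffine W.obj.left.left →
        ∀ I : Ideal Γ(W.obj.left.left, ⊤), I.FG →
          W.obj.left.left.zeroLocus (U := ⊤) (I : Set Γ(W.obj.left.left, ⊤)) =
            {w | AlgSp.Points.ofPt W.obj.hom w ∈ T} →
          Set.range (ι.val.app (op W)).hom =
            {x : AlgSp.sectModEt F W | ∃ n : ℕ, ∀ a ∈ I ^ n, (AlgSp.upΓ W a) • x = 0} := by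
  subst hT
  set T := (Set.range (AlgSp.Points.map j.hom))ᶜ with hT
  have hcut := exists_cutsOn_compl hj hjqc
  have hF := good_of_qcoh F
  have hmem : ∀ (W : AlgSp.EtOver X.obj), IsAffine W.obj.left.left → ∀ x : AlgSp.sectModEt F W,
      x ∈ Set.range ((suppι F T).val.app (op W)).hom ↔
        ∀ v : ↥W.obj.left.left, WeakAss.annEl (Rg W) (show SA F (𝟙 W) from x) ≤ pR W v →
          AlgSp.Points.ofPt W.obj.hom v ∈ T := by
    intro W hW x
    rw [← mem_suppSub_iff hF T (show SA F (𝟙 W) from x)]
    exact ⟨by rintro ⟨y, rfl⟩; exact y.2, fun h => ⟨⟨x, h⟩, rfl⟩⟩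
  refine ⟨fun W hW => ?_, suppMod F T, suppι F T, inferInstance,
    (good_suppMod_of_cuts hF hcut).isQuasicoherent, fun W hW => ?_, fun W hW I hfg hI => ?_⟩
  · obtain ⟨I, hfg, hI⟩ := hcut W hW
    let J : Ideal Γ(W.obj.left.left, ⊤) := I.map (ULift.ringEquiv : Rg W ≃+* Γ(W.obj.left.left, ⊤)).toRingHom
    refine ⟨J, hfg.map _, (cutsOn_map_iff J).1 ?_⟩
    have e : J.map (upR W) = I := by
      rw [Ideal.map_map]
      exact (congrArg (fun k => Ideal.map k I) (RingHom.ext fun a => rfl)).trans (Ideal.map_id I)
    rwa [e]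
  · ext x
    rw [hmem W hW x, Set.mem_setOf_eq, annEl_eq_map_annSect]
    exact forall_congr' fun v => imp_congr (mem_zeroLocus_iff_le _ v).symm Iff.rfl
  · ext x
    rw [hmem W hW x, Set.mem_setOf_eq]
    have hc := (cutsOn_map_iff I).2 hI
    haveI := hW
    constructor
    · intro h
      obtain ⟨n, hn⟩ := exists_pow_le_annEl hc (hfg.map _) (show SA F (𝟙 W) from x) h
      refine ⟨n, fun a ha => ?_⟩
      have hm := WeakAss.mem_annEl.1 (hn ((Ideal.map_pow (upR W) I n).le (Ideal.mem_map_of_mem _ ha)))
      rw [smul_SA_id] at hm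
      exact hm
    · rintro ⟨n, hn⟩ v hv
      refine (hc v).1 (Ideal.IsPrime.le_of_pow_le (le_trans ?_ hv) (n := n))
      refine le_trans (Ideal.map_pow (upR W) I n).ge (Ideal.map_le_iff_le_comap.2 fun a ha => ?_)
      rw [Ideal.mem_comap, WeakAss.mem_annEl, smul_SA_id]
      exact hn a ha


end Groth.Agent.S10085
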