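import Groth.Statements.S10087
import Groth.Agent.AlgSpMod.ExtendFt

set_option backward.isDefEq.respectTransparency false
set_option backward.isDefEq.respectTransparency.types false
set_option maxHeartbeats 1000000
-- import your own Groth.Agent.* helpers here

set_option autoImplicit false
universe u
open CategoryTheory CategoryTheory.Limits AlgebraicGeometry Opposite
open AlgSp

namespace Groth.Agent.S10087

/-- Let `S` be a quasi-separated scheme, `X` an algebraic space over `S`, quasi-compact and
quasi-separated over `S`, `j : U ⟶ X` a quasi-compact open subspace, `F` a quasi-coherent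
`O_X`-module on the small etale site of `X` and `G ⟶ j^*F` a quasi-coherent submodule of finite type
of the restriction of `F` to `U`. Then `G` is the restriction of a quasi-coherent submodule `G' ⟶ F`
of finite type: there is an isomorphism `j^*G' ≅ G` compatible with the two inclusions. (The
published statement allows any base scheme and uses absolute quasi-separatedness; this row assumes
the base quasi-separated, over which quasi-separatedness relative to the base is the absolute
notion.) -/
theorem result {S : Scheme.{u}} [QuasiSeparatedSpace ↥S] (X : AlgSp.Space S)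
    (hqc : AlgSp.IsQuasiCompactSp X.obj) (hqs : AlgSp.IsQuasiSeparatedSp X.obj)
    (U : AlgSp.Space S) (j : U ⟶ X) (hj : AlgSp.RepWith @IsOpenImmersion j.hom)
    (hU : AlgSp.IsQuasiCompactSp U.obj)
    [(SheafOfModules.pushforward.{u + 1} (AlgSp.bcRingHom hj.1)).IsRightAdjoint]
    (F : AlgSp.ModEt X.obj) [F.IsQuasicoherent]
    (G : AlgSp.ModEt U.obj) (g : G ⟶ (AlgSp.pullModEt hj.1).obj F) [Mono g]
    [G.IsQuasicoherent] [G.IsFiniteType] :
    ∃ (G' : AlgSp.ModEt X.obj) (g' : G' ⟶ F), Mono g' ∧ G'.IsQuasicoherent ∧ G'.IsFiniteType ∧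
      ∃ e : (AlgSp.pullModEt hj.1).obj G' ≅ G, e.hom ≫ g = (AlgSp.pullModEt hj.1).map g' := by
  open Groth.Agent.AlgSpMod Groth.Agent.AlgSpDec in
  have hj' : AlgSp.IsEtaleMor j.hom := ExtendFt.etJ hj
  open Groth.Agent.AlgSpMod Groth.Agent.AlgSpDec in
  have := PostcompSite.isContinuous j.hom hj'
  open Groth.Agent.AlgSpMod Groth.Agent.AlgSpDec in
  let Φ := (EtPullRestrict.modAdj hj.1 hj').leftAdjointUniq (AlgSp.pullPushAdjModEt hj.1)
  open Groth.Agent.AlgSpMod Groth.Agent.AlgSpDec in
  obtain ⟨G', g', hg', h1, h2, e, he⟩ := exists_extend X.property hqc hqs U.property hj hU (good_of_qcoh F)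
    (g ≫ Φ.inv.app F)
  refine ⟨G', g', hg', h1, h2, (Φ.app G').symm ≪≫ e, ?_⟩
  have hh : e.hom ≫ g = (SheafOfModules.pushforward.{u + 1} _).map g' ≫ Φ.hom.app F := by
    rw [← he]
    simp
  show (Φ.inv.app G' ≫ e.hom) ≫ g = _
  rw [Category.assoc, hh, Φ.hom.naturality g', Iso.inv_hom_id_app_assoc]

end Groth.Agent.S10087
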