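import Groth.Statements.S10105
-- import your own Groth.Agent.* helpers here
import Groth.Agent.AlgSpDec.FppfFamily

set_option autoImplicit false
universe u
open CategoryTheory CategoryTheory.Limits AlgebraicGeometry
open AlgSp

namespace Groth.Agent.S10105

/-- Let `F` be an fppf sheaf of sets over `S` and `{S_i ⟶ S}` an fppf covering. If every `h_{S_i} × F`
is an algebraic space and the coproduct `∐ h_{S_i} × F` (in sheaves) is an algebraic space, then `F`
is an algebraic space: being an algebraic space is fppf local on the base. -/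
theorem result (S : Scheme.{u}) (F : AlgSp.Sp S) {ι : Type u} (Si : ι → Over S)
    (hfl : ∀ i, Flat (Si i).hom) (hfp : ∀ i, LocallyOfFinitePresentation (Si i).hom)
    (hsurj : ∀ x : ↥S, ∃ (i : ι) (y : ↥(Si i).left), (Si i).hom.base y = x)
    (halg : ∀ i, AlgSp.IsAlgSpace ((AlgSp.yon S).obj (Si i) ⨯ F))
    (c : Cofan (fun i => (AlgSp.yon S).obj (Si i) ⨯ F)) (hc : IsColimit c) (hcop : AlgSp.IsAlgSpace c.pt) :
    AlgSp.IsAlgSpace F := by
  let T : Over S := Over.mk (𝟙 S)
  have hT : IsTerminal ((AlgSp.yon S).obj T) := (Over.mkIdTerminal (X := S)).isTerminalObj (AlgSp.yon S) _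
  let g : ∀ i, (AlgSp.yon S).obj (Si i) ⟶ (AlgSp.yon S).obj T := fun i => (AlgSp.yon S).map (Over.homMk (Si i).hom)
  refine Groth.Agent.AlgSpDec.isAlgSpace_of_fppf_local (AlgSp.IsAlgSpace.yon_obj T)
    (fun i => AlgSp.IsAlgSpace.yon_obj (Si i)) g ⟨fun i => ⟨?_, ?_⟩, fun x => ?_⟩ (hT.from F) fun i => ?_
  · exact Groth.Agent.AlgSpLib.locP_of_repWith ((AlgSp.repWith_yon_map_iff @Flat _).2 (hfl i))
  · exact Groth.Agent.AlgSpLib.locP_of_repWith ((AlgSp.repWith_yon_map_iff @LocallyOfFinitePresentation _).2 (hfp i))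
  · obtain ⟨t, rfl⟩ := (AlgSp.Points.schemeHomeo T).surjective x
    obtain ⟨i, y, hy⟩ := hsurj t
    refine ⟨i, AlgSp.Points.schemeHomeo _ y, ?_⟩
    rw [AlgSp.Points.map_yon_map_apply]
    exact congrArg (AlgSp.Points.schemeHomeo T) hy
  · have h₂ : IsPullback Limits.prod.fst Limits.prod.snd (g i) (hT.from F) := by
      rw [hT.hom_ext (g i) (hT.from _)]
      exact IsPullback.of_is_product' (Limits.prodIsProd _ _) hT
    exact (halg i).of_iso ((IsPullback.of_hasPullback (hT.from F) (g i)).flip.isoIsPullback _ _ h₂).symm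

end Groth.Agent.S10105
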