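import Groth.Statements.S1011
import Groth.Agent.DQGen.Bounds
-- import your own Groth.Agent.* helpers here

set_option autoImplicit false
universe u
open CategoryTheory CategoryTheory.Limits AlgebraicGeometry
attribute [local instance] HasDerivedCategory.standard
open Perf

namespace Groth.Agent.S1011

/-- Let the scheme X be quasi-compact and quasi-separated and K a perfect object of D(O_X). (1) There
are integers a ≤ b such that every morphism K ⟶ L vanishes whenever L has quasi-coherent cohomology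
sheaves which are zero in all degrees of the interval [a, b]. (2) If L ∈ D_QCoh(O_X) is bounded,
then the set of n for which there is a nonzero morphism K ⟶ L[n] is finite. -/
theorem result (X : Scheme.{u}) [CompactSpace ↥X] [QuasiSeparatedSpace ↥X]
    (K : DCoh.D X) (hK : DCoh.IsPerfect K) :
    (∃ a b : ℤ, a ≤ b ∧ ∀ L : DCoh.D X, DCoh.IsQCohD L → (∀ i : ℤ, a ≤ i → i ≤ b → IsZero (DCoh.HD L i)) →
      ∀ φ : K ⟶ L, φ = 0) ∧
    ∀ (L : DCoh.D X) (a' b' : ℤ), DCoh.IsQCohD L → L.IsGE a' → L.IsLE b' →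
      {n : ℤ | ∃ φ : K ⟶ L⟦n⟧, φ ≠ 0}.Finite := by
  obtain ⟨N, b, hN, hb⟩ := Groth.Agent.DQGen.exists_range hK
  refine ⟨⟨N + 1, max (N + 1) b, le_max_left _ _, fun L hL hz φ => ?_⟩, fun L a' b' hL ha' hb' => ?_⟩
  · obtain ⟨A, B, hA, hB, f, g, h, hT⟩ :=
      DerivedCategory.TStructure.t.exists_triangle L N (N + 1) rfl
    haveI hA' : A.IsLE N := ⟨hA⟩
    haveI hB' : B.IsGE (N + 1) := ⟨hB⟩
    have hqA := (Groth.Agent.DQGen.isQCohD_of_trunc hL N hA' hB' f g h hT).1
    have hB0 : φ ≫ g = 0 := hb B ((DerivedCategory.isGE_iff _ _).2 fun i hi => by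
      by_cases hiN : i < N + 1
      · exact DerivedCategory.isZero_of_isGE B (N + 1) i hiN
      · exact Groth.Agent.DQGen.isZero_of_trunc N hA' f g h hT i (by omega)
          (hz i (by omega) (by omega))) _
    obtain ⟨χ, hχ⟩ := Pretriangulated.Triangle.coyoneda_exact₂ _ hT φ hB0
    rw [hχ, hN A hqA hA' χ]
    exact zero_comp
  · refine (Set.finite_Icc (a' - b) (b' - N)).subset ?_
    rintro n ⟨φ, hφ⟩
    refine ⟨?_, ?_⟩
    · by_contra hn
      exact hφ (hb _ (Groth.Agent.DQGen.isGE_shift a' n (b + 1) ha' (by omega)) φ)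
    · by_contra hn
      exact hφ (hN _ (Groth.Agent.KFlatLib.isQCohD_shift hL n)
        (Groth.Agent.DQGen.isLE_shift b' n N hb' (by omega)) φ)


end Groth.Agent.S1011
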