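import Groth.Statements.S10129
-- import your own Groth.Agent.* helpers here
import Groth.Agent.S9969
import Groth.Agent.S9972
import Groth.Agent.S9973
import Groth.Agent.AlgSpDec.HomDescent
import Groth.Agent.AlgSpPts.Sep

set_option autoImplicit false
universe u
open CategoryTheory CategoryTheory.Limits AlgebraicGeometry
open AlgSp

namespace Groth.Agent.S10129

set_option backward.isDefEq.respectTransparency false
set_option backward.isDefEq.respectTransparency.types false

open Groth.Agent.AlgSpLib Groth.Agent.AlgSpPts Groth.Agent.AlgSpDec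


/-- Consider morphisms `g : X ⟶ Z` and `f : X ⟶ Y` of algebraic spaces over `B`, with `Y ⟶ B` separated
and `g` surjective, flat and locally of finite presentation, and let `V ⊂ Z` be a scheme
theoretically dense open subspace with `V ⟶ Z` quasi-compact such that `f` restricted to `g⁻¹(V)`
factors through `g⁻¹(V) ⟶ V`. Then `f` factors through `g`. (The published statement does not ask
the open immersion `V ⟶ Z` to be quasi-compact; the published proof pulls the scheme theoretic
density of `V` back along a flat morphism by a lemma that requires it, so this row assumes it.) -/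
theorem result (S : Scheme.{u}) (B : AlgSp.Sp S) (hB : AlgSp.IsAlgSpace B)
    (X Y Z : AlgSp.Space S) (pX : X.obj ⟶ B) (pY : Y.obj ⟶ B) (pZ : Z.obj ⟶ B)
    (f : X.obj ⟶ Y.obj) (g : X.obj ⟶ Z.obj) (hf : f ≫ pY = pX) (hg : g ≫ pZ = pX)
    (hY : AlgSp.IsSeparatedMor pY)
    (hgs : AlgSp.IsSurjectiveMor g) (hgf : AlgSp.LocP @Flat g) (hgp : AlgSp.LocP @LocallyOfFinitePresentation g)
    (V : AlgSp.Sp S) (v : V ⟶ Z.obj) (hv : AlgSp.IsSchDense v) (hvq : AlgSp.IsQuasiCompactMor v)
    (hfac : ∃ φ : V ⟶ Y.obj, pullback.fst g v ≫ f = pullback.snd g v ≫ φ) :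
    ∃ h : Z.obj ⟶ Y.obj, g ≫ h = f := by
  obtain ⟨φ, hφ⟩ := hfac
  let Q := pullback g g
  have hQ : IsAlgSpace Q := isAlgSpace_pullback X.property X.property Z.property g g
  let π : Q ⟶ Z.obj := pullback.fst g g ≫ g
  have hπ : LocP @Flat π := locP_comp hQ X.property Z.property
    (locP_of_isPullback (IsPullback.of_hasPullback g g).flip X.property Z.property X.property hgf) hgf
  have hV : IsAlgSpace V := isAlgSpace_of_representable v hv.1.rep Z.property
  let R := pullback v π
  have hR : IsAlgSpace R := isAlgSpace_pullback hV hQ Z.property v π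
  have hd := S9973.result (X := ⟨Q, hQ⟩) (Y := Z) (V := ⟨V, hV⟩) (V' := ⟨R, hR⟩) (ObjectProperty.homMk π) hπ
    (ObjectProperty.homMk v) hv hvq (ObjectProperty.homMk (pullback.fst v π))
    (ObjectProperty.homMk (pullback.snd v π)) (IsPullback.of_hasPullback v π)
  have hq : IsQuasiCompactMor (pullback.snd v π) :=
    isQuasiCompactMor_of_isPullback (IsPullback.of_hasPullback v π) hvq
  have hsi := (S9969.result (U := ⟨R, hR⟩) (X := ⟨Q, hQ⟩) (ObjectProperty.homMk (pullback.snd v π)) hd.1 hq).1 hd
  have heq : pullback.fst g g ≫ f = pullback.snd g g ≫ f := by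
    have e₁ : (pullback.snd v π ≫ pullback.fst g g) ≫ g = pullback.fst v π ≫ v := by
      rw [Category.assoc]; exact pullback.condition.symm
    have e₂ : (pullback.snd v π ≫ pullback.snd g g) ≫ g = pullback.fst v π ≫ v := by
      rw [← e₁, Category.assoc, Category.assoc, pullback.condition]
    have h := S9972.result (U := ⟨R, hR⟩) (X := ⟨Q, hQ⟩) (Y := Y) (B := ⟨B, hB⟩) (ObjectProperty.homMk pY) hY
      (ObjectProperty.homMk (pullback.fst g g ≫ f)) (ObjectProperty.homMk (pullback.snd g g ≫ f))
      (ObjectProperty.hom_ext (AlgSp.IsAlgSpace (S := S)) (by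
        show (pullback.fst g g ≫ f) ≫ pY = (pullback.snd g g ≫ f) ≫ pY
        rw [Category.assoc, Category.assoc, hf, ← hg, pullback.condition_assoc]))
      (ObjectProperty.homMk (pullback.snd v π)) hd.1 hsi
      (ObjectProperty.hom_ext (AlgSp.IsAlgSpace (S := S)) (by
        show pullback.snd v π ≫ pullback.fst g g ≫ f = pullback.snd v π ≫ pullback.snd g g ≫ f
        rw [← Category.assoc, ← Category.assoc, ← pullback.lift_fst _ _ e₁, ← pullback.lift_fst _ _ e₂,
          Category.assoc, Category.assoc, hφ, ← Category.assoc, ← Category.assoc, pullback.lift_snd,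
          pullback.lift_snd]))
    exact congrArg (fun k => k.hom) h
  obtain ⟨h, hh⟩ := exists_desc_of_fppfCover (ι := PUnit.{u + 1}) (Xi := fun _ => X.obj) (g := fun _ => g)
    Z.property (fun _ => X.property) ⟨fun _ => ⟨hgf, hgp⟩, fun z => ⟨⟨⟩, hgs z⟩⟩ (fun _ => f)
    (fun _ _ T p q e => by rw [← pullback.lift_fst p q e, Category.assoc, heq, ← Category.assoc, pullback.lift_snd])
  exact ⟨h, hh ⟨⟩⟩

end Groth.Agent.S10129
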