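import Groth.Statements.S1014
import Groth.Agent.DQGen.Generator
-- import your own Groth.Agent.* helpers here

set_option autoImplicit false
universe u
open CategoryTheory CategoryTheory.Limits AlgebraicGeometry
attribute [local instance] HasDerivedCategory.standard
open Perf

namespace Groth.Agent.S1014

/-- Let X be an affine scheme, U a quasi-compact open subscheme and F a perfect object of D(O_U). Then F
⊕ F[1] extends to X as a perfect complex: there is a complex G of O_X-modules, perfect as an object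
of D(O_X), whose termwise restriction to U is isomorphic in D(O_U) to F ⊕ F[1]. -/
theorem result (X : Scheme.{u}) [IsAffine X] (U : X.Opens) (hU : IsCompact (U : Set X))
    (F : DCoh.D (U : Scheme.{u})) (hF : DCoh.IsPerfect F) [HasBinaryBiproduct F (F⟦(1 : ℤ)⟧)] :
    ∃ G : CochainComplex X.Modules ℤ, DCoh.IsPerfect (DCoh.toD X G) ∧
      Nonempty (DerivedCategory.Q.obj ((DCoh.restrictCx U).obj G) ≅ F ⊞ F⟦(1 : ℤ)⟧) := by
  haveI : CompactSpace (U : Scheme.{u}) := Groth.Agent.DQGen.compactSpace_opens hU
  obtain ⟨C, hC, ⟨e⟩⟩ := Groth.Agent.DQGen.exists_extension_double U.ι (Groth.Agent.DQGen.hasDetector X) ⊥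
    (by simp) hF (Groth.Agent.DQGen.isZero_rho_bot F)
  let G := DerivedCategory.Q.objPreimage C
  let eG : DerivedCategory.Q.obj G ≅ C := DerivedCategory.Q.objObjPreimageIso C
  exact ⟨G, Groth.Agent.DQGen.isPerfect_of_iso eG.symm hC.1,
    ⟨((Groth.Agent.KFlatLib.rhoQ U.ι).app G).symm ≪≫ (Groth.Agent.KFlatLib.rho U.ι).mapIso eG ≪≫ e⟩⟩


end Groth.Agent.S1014
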