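import Groth.Statements.S1016
import Groth.Agent.DQGen.Compact
-- import your own Groth.Agent.* helpers here

set_option autoImplicit false
universe u
open CategoryTheory CategoryTheory.Limits AlgebraicGeometry
attribute [local instance] HasDerivedCategory.standard
open Perf

namespace Groth.Agent.S1016

/-- Let X be a quasi-compact and quasi-separated scheme and T ⊆ X a closed subset whose complement is
quasi-compact and nonempty (the case T = X is stated separately). Let K ∈ D(O_X) have quasi-coherent
cohomology sheaves supported on T. Then K is compact in D_{QCoh,T}(O_X) (with respect to small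
direct sums of objects with quasi-coherent cohomology supported on T) if and only if K is a perfect
object of D(O_X). -/
theorem result (X : Scheme.{u}) [CompactSpace ↥X] [QuasiSeparatedSpace ↥X]
    (T : Set X) (hT : IsClosed T) (hTc : IsCompact Tᶜ) (hTne : Tᶜ.Nonempty)
    (K : DCoh.D X) (hK : DCoh.IsQCohD K) (hKT : ∀ i : ℤ, CohB1.support (DCoh.HD K i) ⊆ T) :
    PerfAux.IsCompactObjRel.{u} (fun L : DCoh.D X => DCoh.IsQCohD L ∧ ∀ i : ℤ, CohB1.support (DCoh.HD L i) ⊆ T) K ↔
      DCoh.IsPerfect K := by
  let W : X.Opens := ⟨Tᶜ, hT.isOpen_compl⟩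
  have hc : ((W : Set X))ᶜ = T := compl_compl T
  have hiff : ∀ L : DCoh.D X, (DCoh.IsQCohD L ∧ ∀ i : ℤ, CohB1.support (DCoh.HD L i) ⊆ T) ↔
      Groth.Agent.DQGen.PQ W L := fun L => by
    have := Groth.Agent.DQGen.isZero_rho_iff_support W L
    rw [hc] at this
    exact and_congr_right' this.symm
  exact Groth.Agent.DQGen.isCompactObjRel_iff (W := W) hTc hiff ((hiff K).1 ⟨hK, hKT⟩)


end Groth.Agent.S1016
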