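import Groth.Statements.S1018
import Groth.Agent.H6CG.FreeExt

set_option autoImplicit false
universe u
open CategoryTheory CategoryTheory.Limits AlgebraicGeometry
attribute [local instance] HasDerivedCategory.standard
open Perf

namespace Groth.Agent.S1018

/-- Let X be an affine scheme, U a quasi-compact open subscheme and E a pseudo-coherent object of D(O_U)
(m-pseudo-coherent for all m). Then there is a bounded above complex G of finite free O_X-modules
whose termwise restriction to U is isomorphic to E in D(O_U). -/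
theorem result (X : Scheme.{u}) [IsAffine X] (U : X.Opens) (hU : IsCompact (U : Set X))
    (E : DCoh.D (U : Scheme.{u})) (hE : ∀ m : ℤ, DCoh.IsPseudoCoherentD m E) :
    ∃ (G : CochainComplex X.Modules ℤ) (b : ℤ), (∀ i : ℤ, b < i → IsZero (G.X i)) ∧
      (∀ i : ℤ, ∃ n : ℕ, Nonempty (G.X i ≅ FlatMod.freeMod X n)) ∧
      Nonempty (DerivedCategory.Q.obj ((DCoh.restrictCx U).obj G) ≅ E) := by
  let φ := X.isoSpec
  let U' : (Spec Γ(X, ⊤)).Opens := φ.inv ⁻¹ᵁ U
  let k : (U' : Scheme.{u}) ⟶ U := φ.inv ∣_ U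
  have hk : k ≫ U.ι = U'.ι ≫ φ.inv := morphismRestrict_ι _ _
  let i : (U : Scheme.{u}) ⟶ U' := inv k
  have hi : i ≫ U'.ι = U.ι ≫ φ.hom := by
    rw [IsIso.inv_comp_eq, ← Category.assoc, hk, Category.assoc, Iso.inv_hom_id, Category.comp_id]
  have hU' : IsCompact (U' : Set (Spec Γ(X, ⊤))) :=
    φ.inv.homeomorph.isClosedEmbedding.isCompact_preimage hU
  obtain ⟨G', b, hz, hfree, ⟨e⟩⟩ := H6CG.exists_free_extension U' hU' ((KFlatLib.rho k).obj E)
    (fun m => ((KFlatLib.isPseudoCoherentD_iff m E).1 (hE m)).restrict k)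
  refine ⟨(KFlatLib.rCx φ.hom).obj G', b,
    fun j hj => (Scheme.Modules.restrictFunctor φ.hom).map_isZero (hz j hj.le), fun j => ?_, ⟨?_⟩⟩
  · obtain ⟨n, ⟨en⟩⟩ := hfree j
    exact ⟨n, ⟨(Scheme.Modules.restrictFunctor φ.hom).mapIso en ≪≫ QCoh.freeModRestrict φ.hom n⟩⟩
  · let K := DerivedCategory.Q.obj G'
    exact ((KFlatLib.rhoQ U.ι).app _).symm ≪≫ (KFlatLib.rho U.ι).mapIso ((KFlatLib.rhoQ φ.hom).app G').symm ≪≫
      KFlatLib.rhoComp U.ι φ.hom _ rfl K ≪≫ (KFlatLib.rhoComp i U'.ι _ hi K).symm ≪≫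
      (KFlatLib.rho i).mapIso ((KFlatLib.rhoQ U'.ι).app G' ≪≫ e) ≪≫
      KFlatLib.rhoComp i k (𝟙 _) (IsIso.inv_hom_id k) E ≪≫
      (KFlatLib.rho (𝟙 (U : Scheme.{u}))).mapIso (KFlatLib.repIso E).symm ≪≫
      (KFlatLib.rhoQ (𝟙 (U : Scheme.{u}))).app _ ≪≫
      DerivedCategory.Q.mapIso ((NatIso.mapHomologicalComplex Scheme.Modules.restrictFunctorId
        (ComplexShape.up ℤ)).app _ ≪≫ (Functor.mapHomologicalComplexIdIso _ _).app _) ≪≫ KFlatLib.repIso E

end Groth.Agent.S1018
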