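import Groth.Statements.S1019
import Groth.Agent.DQGen.SplitCone
import Groth.Agent.DQGen.Approx
import Groth.Agent.DQGen.Vanish
import Groth.Agent.KFlatLib.Scheme.TildePerf
-- import your own Groth.Agent.* helpers here

set_option autoImplicit false
universe u
open CategoryTheory CategoryTheory.Limits AlgebraicGeometry
attribute [local instance] HasDerivedCategory.standard
open Perf

namespace Groth.Agent.S1019

open CategoryTheory Limits AlgebraicGeometry Pretriangulated KFlatLib DQGen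

lemma isStrictlyPerfect_single_zero_range {X : Scheme.{u}} (P : CochainComplex X.Modules ℤ) (m : ℤ)
    (h : DCoh.IsStrictlyPerfect P) (hz : ∀ i, i ≠ m → IsZero (P.X i)) :
    FlatMod.IsFinLocFree (P.homology m) := by
  have h1 : (P.sc m).f = 0 := (hz _ (by simp)).eq_of_src _ _
  have h2 : (P.sc m).g = 0 := (hz _ (by simp)).eq_of_tgt _ _
  exact H23.PullPush.isFinLocFree_of_iso
    (ShortComplex.LeftHomologyData.ofZeros _ h1 h2).homologyIso.symm (h.2 m)

lemma isFinLocFree_HD_cone {U : Scheme.{u}} {A E C : DCoh.D U} {A₀ : CochainComplex U.Modules ℤ}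
    (eA : DerivedCategory.Q.obj A₀ ≅ A) (hA₀ : DCoh.IsStrictlyPerfect A₀) (k : ℤ)
    (hAz : ∀ i, i < k → IsZero (A₀.X i)) (q : A ⟶ E) (g : E ⟶ C) (h : C ⟶ A⟦(1 : ℤ)⟧)
    (hT : Triangle.mk q g h ∈ distTriang _)
    (hC : ∀ i, k ≤ i → IsZero (DCoh.HD C i))
    (hloc : ∀ x : U, ∃ (W : Scheme.{u}) (j : W ⟶ U) (_ : IsOpenImmersion j), x ∈ Set.range j.base ∧
      ∃ P : CochainComplex W.Modules ℤ, DCoh.IsStrictlyPerfect P ∧ (∀ i, i < k → IsZero (P.X i)) ∧
        Nonempty (DerivedCategory.Q.obj P ≅ (rho j).obj E)) :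
    FlatMod.IsFinLocFree (DCoh.HD C (k - 1)) := by
  refine isFinLocFree_of_restrict fun x => ?_
  obtain ⟨W, j, _, ⟨w, rfl⟩, P, hP, hPz, ⟨eP⟩⟩ := hloc x
  let c₁ : DerivedCategory.Q.obj ((rCx j).obj A₀) ≅ (rho j).obj A :=
    ((rhoQ j).app A₀).symm ≪≫ (rho j).mapIso eA
  have hQ₁ := isStrictlyPerfect_restrict j hA₀
  obtain ⟨V, β, hw, hβ⟩ := exists_chain_rep hQ₁ (c₁.hom ≫ (rho j).map q ≫ eP.inv) w
  let T' := (rho V.ι).mapTriangle.obj ((rho j).mapTriangle.obj (Triangle.mk q g h))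
  have hT' : T' ∈ distinguishedTriangles :=
    (rho V.ι).map_distinguished _ ((rho j).map_distinguished _ hT)
  let S := DerivedCategory.Q.mapTriangle.obj (CochainComplex.mappingCone.triangle β)
  have hS : S ∈ distinguishedTriangles :=
    (DerivedCategory.mem_distTriang_iff _).2 ⟨_, _, β, ⟨Iso.refl _⟩⟩
  let e : S ≅ T' := isoTriangleOfIso₁₂ S T' hS hT'
    (((rhoQ V.ι).app _).symm ≪≫ (rho V.ι).mapIso c₁)
    (((rhoQ V.ι).app _).symm ≪≫ (rho V.ι).mapIso eP) (by
      change DerivedCategory.Q.map β ≫ (rhoQ V.ι).inv.app _ ≫ (rho V.ι).map eP.hom =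
        ((rhoQ V.ι).inv.app _ ≫ (rho V.ι).map c₁.hom) ≫ (rho V.ι).map ((rho j).map q)
      have h' := (rhoQ V.ι).inv.app _ ≫= (hβ =≫ (rho V.ι).map eP.hom)
      simp only [Functor.map_comp, Category.assoc] at h'
      rw [← Functor.map_comp_assoc] at h'
      simp only [Category.assoc]
      rw [← Functor.map_comp (rho V.ι) c₁.hom]
      refine Eq.trans ?_ (Eq.trans h'.symm ?_)
      · simp [rhoQ]
      · simp [← Functor.map_comp])
  let j' := V.ι ≫ j
  let O := j'.opensRange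
  let K := CochainComplex.mappingCone β
  let eC : DerivedCategory.Q.obj K ≅ (rho j').obj C := Triangle.π₃.mapIso e ≪≫ rhoComp V.ι j j' rfl C
  let eO : DerivedCategory.Q.obj ((rCx (rangeHom j')).obj K) ≅ (rho O.ι).obj C :=
    ((rhoQ _).app K).symm ≪≫ (rho (rangeHom j')).mapIso eC ≪≫ rhoComp (rangeHom j') j' O.ι (rangeHom_fac j') C
  have hK : DCoh.IsStrictlyPerfect ((rCx (rangeHom j')).obj K) :=
    isStrictlyPerfect_restrict _ (isStrictlyPerfect_cone β (isStrictlyPerfect_restrict V.ι hQ₁)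
      (isStrictlyPerfect_restrict V.ι hP))
  let eH : ∀ i, ((rCx (rangeHom j')).obj K).homology i ≅
      (Scheme.Modules.restrictFunctor O.ι).obj (DCoh.HD C i) := fun i =>
    ((DerivedCategory.homologyFunctorFactors _ i).app _).symm ≪≫
      (DerivedCategory.homologyFunctor _ i).mapIso eO ≪≫ restrictHDIso O.ι C i
  have hlo : ∀ i, i < k - 1 → IsZero (((rCx (rangeHom j')).obj K).X i) := fun i hi =>
    (Scheme.Modules.restrictFunctor _).map_isZero (IsZero.of_iso
      ((biprod_isZero_iff _ _).2 ⟨(Scheme.Modules.restrictFunctor V.ι).map_isZero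
          ((Scheme.Modules.restrictFunctor j).map_isZero (hAz (i + 1) (by omega))),
        (Scheme.Modules.restrictFunctor V.ι).map_isZero (hPz i (by omega))⟩)
      (HomologicalComplex.homotopyCofiber.XIsoBiprod β i (i + 1) rfl))
  obtain ⟨a, b, hab⟩ := hK.1
  obtain ⟨P₂, hP₂, hhi, hlow, ⟨e₂⟩⟩ := exists_cutoff (k - 1) (max b (k - 1) - (k - 1)).toNat _ hK
    (fun i hi => hab i (Or.inr (by omega)))
    (fun i hi => ((Scheme.Modules.restrictFunctor O.ι).map_isZero (hC i (by omega))).of_iso (eH i))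
  refine ⟨O, ⟨⟨w, hw⟩, rfl⟩, ?_⟩
  refine H23.PullPush.isFinLocFree_of_iso
    (((DerivedCategory.homologyFunctorFactors _ (k - 1)).app P₂).symm ≪≫
      (DerivedCategory.homologyFunctor _ (k - 1)).mapIso e₂ ≪≫
      (DerivedCategory.homologyFunctorFactors _ (k - 1)).app _ ≪≫ eH (k - 1))
    (isStrictlyPerfect_single_zero_range P₂ (k - 1) hP₂ fun i hi => ?_)
  rcases lt_or_gt_of_ne hi with h | h
  · exact hlow (k - 1) le_rfl hlo i h
  · exact hhi i h

/-- Let X be an affine scheme, U a quasi-compact open subscheme and E a perfect object of D(O_U). There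
are an integer r and a finite locally free O_U-module F such that F[-r] ⊕ E extends to a perfect
complex on X (restriction being computed on a representing complex, termwise), granted the binary
direct sum exists in D(O_U) (it does). -/
theorem result (X : Scheme.{u}) [IsAffine X] (U : X.Opens) (hU : IsCompact (U : Set X))
    (E : DCoh.D (U : Scheme.{u})) (hE : DCoh.IsPerfect E)
    [∀ (A B : DCoh.D (U : Scheme.{u})), HasBinaryBiproduct A B] :
    ∃ (r : ℤ) (F : (U : Scheme.{u}).Modules) (G : CochainComplex X.Modules ℤ), FlatMod.IsFinLocFree F ∧ DCoh.IsPerfect (DCoh.toD X G) ∧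
      Nonempty (DerivedCategory.Q.obj ((DCoh.restrictCx U).obj G) ≅ (DCoh.inD (U : Scheme.{u}) F)⟦-r⟧ ⊞ E) := by
  classical
  haveI : CompactSpace (U : Scheme.{u}) := compactSpace_opens hU
  haveI : QuasiSeparatedSpace (U : Scheme.{u}) := quasiSeparatedSpace_of_imm U.ι
  obtain ⟨bN, hbN⟩ := vanishBound (U : Scheme.{u}) E hE
  choose W jW hjW hxW Pl hPl ePl using (isPerfect_iff E).1 hE
  choose lo hi hlh using fun x => (hPl x).1
  obtain ⟨t, ht⟩ := isCompact_univ.elim_finite_subcover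
    (fun x : (U : Scheme.{u}) => Set.range (jW x).base)
    (fun x => haveI := hjW x; (jW x).isOpenEmbedding.isOpen_range)
    (fun x _ => Set.mem_iUnion.2 ⟨x, hxW x⟩)
  let B : ℕ := ∑ x ∈ t, ((lo x).natAbs + (hi x).natAbs)
  have hB : ∀ x ∈ t, (lo x).natAbs + (hi x).natAbs ≤ B := fun x hx =>
    Finset.single_le_sum (f := fun x => (lo x).natAbs + (hi x).natAbs) (fun _ _ => Nat.zero_le _) hx
  let k : ℤ := min (-(B : ℤ)) (bN + 1)
  have hloc : ∀ x : (U : Scheme.{u}), ∃ (V : Scheme.{u}) (j : V ⟶ (U : Scheme.{u})) (_ : IsOpenImmersion j),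
      x ∈ Set.range j.base ∧ ∃ P : CochainComplex V.Modules ℤ, DCoh.IsStrictlyPerfect P ∧
        (∀ i, i < k ∨ (B : ℤ) < i → IsZero (P.X i)) ∧
        Nonempty (DerivedCategory.Q.obj P ≅ (rho j).obj E) := fun y => by
    obtain ⟨x, hxt, hy⟩ := Set.mem_iUnion₂.1 (ht (Set.mem_univ y))
    exact ⟨W x, jW x, hjW x, hy, Pl x, hPl x, fun i hi' => hlh x i (by
      have := hB x hxt
      simp only [k] at hi'
      omega), ePl x⟩
  have hEz : ∀ i, i < k ∨ (B : ℤ) < i → IsZero (DCoh.HD E i) := fun i hi => by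
    refine isZero_of_stalk _ fun y => ?_
    obtain ⟨V, j, _, ⟨v, rfl⟩, P, hP, hPz, ⟨eP⟩⟩ := hloc y
    refine isZero_stalk_of_restrict j v ((DerSch.stalkFunctor _ _).map_isZero
      (((ShortComplex.isZero_homology_of_isZero_X₂ _ (hPz i hi)).of_iso
        ((DerivedCategory.homologyFunctorFactors _ i).app P)).of_iso ?_))
    exact (restrictHDIso j E i).symm ≪≫ (DerivedCategory.homologyFunctor _ i).mapIso eP.symm
  -- extension of `E` plus a far shift
  let n : ℕ := ((B : ℤ) - k + 1).toNat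
  obtain ⟨P, hP, ⟨eP⟩⟩ := exists_extension_shift U.ι hE n
  let H := DerivedCategory.homologyFunctor (U : Scheme.{u}).Modules
  let π : (rho U.ι).obj P ⟶ E := eP.hom ≫ biprod.fst
  have hπ : IsPcMap k π := by
    have hz : ∀ i, k ≤ i → IsIso ((H i).map (biprod.fst : E ⊞ E⟦(2 * n + 1 : ℤ)⟧ ⟶ E)) := fun i hi => by
      have hs : IsZero ((H i).obj (E⟦(2 * n + 1 : ℤ)⟧)) :=
        (hEz ((2 * n + 1 : ℤ) + i) (Or.inr (by omega))).of_iso
          (((DerivedCategory.homologyFunctor (U : Scheme.{u}).Modules 0).shiftIso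
            (2 * n + 1 : ℤ) i ((2 * n + 1 : ℤ) + i) rfl).app E)
      refine ⟨(H i).map biprod.inl, ?_, ?_⟩
      · rw [← Functor.map_comp]
        have h1 : (biprod.fst : E ⊞ E⟦(2 * n + 1 : ℤ)⟧ ⟶ E) ≫ biprod.inl = 𝟙 _ - biprod.snd ≫ biprod.inr :=
          eq_sub_of_add_eq biprod.total
        rw [h1, Functor.map_sub, CategoryTheory.Functor.map_id, Functor.map_comp,
          hs.eq_of_tgt ((H i).map biprod.snd) 0, zero_comp, sub_zero]
      · rw [← Functor.map_comp, biprod.inl_fst, CategoryTheory.Functor.map_id]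
    refine ⟨fun i hi => ?_, ?_⟩
    · haveI := hz i hi.le
      change IsIso ((H i).map π)
      simp only [π]
      rw [Functor.map_comp]
      infer_instance
    · haveI := hz k le_rfl
      change Epi ((H k).map π)
      simp only [π]
      rw [Functor.map_comp]
      infer_instance
  -- a strictly perfect representative of `P`
  let j := X.isoSpec.inv
  haveI := QCoh.tilde_preservesFiniteLimits (R := Γ(X, ⊤))
  obtain ⟨M, ⟨eM⟩⟩ := exists_tildeD_iso (isQCohD_rho j (isQCohD_of_isPerfect hP))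
  obtain ⟨P₀, a₀, b₀, hz₀, hP₀, ⟨e₀⟩⟩ :=
    (perfect_tildeD_iff M).1 (isPerfect_of_iso eM.symm (isPerfect_rho j hP))
  let T₀ : CochainComplex (Spec Γ(X, ⊤)).Modules ℤ :=
    ((tilde.functor Γ(X, ⊤)).mapHomologicalComplex (ComplexShape.up ℤ)).obj P₀
  have hT₀ : DCoh.IsStrictlyPerfect T₀ :=
    ⟨⟨a₀, b₀, fun i hi => (tilde.functor Γ(X, ⊤)).map_isZero (hz₀ i hi)⟩,
      fun i => (Groth.Agent.S12451.result _).2 (hP₀ i)⟩
  let eT : DerivedCategory.Q.obj T₀ ≅ (rho j).obj P :=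
    (toDTildeIso P₀).symm ≪≫ (DCoh.tildeD Γ(X, ⊤)).mapIso e₀ ≪≫ eM
  let σ := stupidGE T₀ k
  let G := (rCx X.isoSpec.hom).obj σ
  let i₀ := U.ι ≫ X.isoSpec.hom
  have hi₀ : i₀ ≫ j = U.ι := by simp [i₀, j]
  let eG : DerivedCategory.Q.obj ((DCoh.restrictCx U).obj G) ≅ (rho i₀).obj (DerivedCategory.Q.obj σ) :=
    ((rhoQ U.ι).app G).symm ≪≫ (rho U.ι).mapIso ((rhoQ X.isoSpec.hom).app σ).symm ≪≫
      rhoComp U.ι X.isoSpec.hom i₀ rfl _
  let q : DerivedCategory.Q.obj ((DCoh.restrictCx U).obj G) ⟶ E :=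
    eG.hom ≫ (rho i₀).map (DerivedCategory.Q.map (stupidGEι T₀ k) ≫ eT.hom) ≫
      (rhoComp i₀ j U.ι hi₀ P).hom ≫ π
  have hq : IsPcMap k q := (isPcMap_of_isIso k eG.hom).comp
    ((((isPcMap_stupidGEι T₀ k).comp (isPcMap_of_isIso k eT.hom)).map_exact
      (Scheme.Modules.restrictFunctor i₀)).comp ((isPcMap_of_isIso k _).comp hπ))
  have hG : DCoh.IsStrictlyPerfect G :=
    isStrictlyPerfect_restrict _ (isStrictlyPerfect_stupidGE hT₀ k)
  have hGp : DCoh.IsPerfect (DCoh.toD X G) := (isPerfect_iff _).2 fun x =>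
    ⟨_, (⊤ : X.Opens).ι, inferInstance, ⟨⟨x, trivial⟩, rfl⟩, _,
      isStrictlyPerfect_restrict _ hG, ⟨((rhoQ (⊤ : X.Opens).ι).app G).symm⟩⟩
  obtain ⟨C, g, h, hT⟩ := distinguished_cocone_triangle q
  have hAz : ∀ i, i < k → IsZero (((DCoh.restrictCx U).obj G).X i) := fun i hi =>
    (Scheme.Modules.restrictFunctor U.ι).map_isZero
      ((Scheme.Modules.restrictFunctor _).map_isZero (isZero_stupidGE T₀ k hi))
  have hC : ∀ i, k ≤ i → IsZero (DCoh.HD C i) := fun i hi =>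
    isZero_obj₃_of_isPcMap hT hq i hi
  have hC' : ∀ i, i < k - 1 → IsZero (DCoh.HD C i) := fun i hi =>
    (DerivedCategory.HomologySequence.exact₃ _ hT i (i + 1)).isZero_of_both_zeros
      ((hEz i (Or.inl (by omega))).eq_of_src _ _)
      (((ShortComplex.isZero_homology_of_isZero_X₂ _ (hAz (i + 1) (by omega))).of_iso
        ((DerivedCategory.homologyFunctorFactors _ (i + 1)).app _)).eq_of_tgt _ _)
  have hF : FlatMod.IsFinLocFree (DCoh.HD C (k - 1)) :=
    isFinLocFree_HD_cone (Iso.refl _) (isStrictlyPerfect_restrict U.ι hG) k hAz q g h hT hC fun x => by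
      obtain ⟨V, j', hj', hx, P', hP', hz', he'⟩ := hloc x
      exact ⟨V, j', hj', hx, P', hP', fun i hi => hz' i (Or.inl hi), he'⟩
  have hg : g = 0 := hbN C (isQCohD_obj₃ hT
      (isQCohD_of_iso ((rhoQ U.ι).app G) (isQCohD_rho U.ι (isQCohD_of_isPerfect hGp)))
      (isQCohD_of_isPerfect hE))
    ((DerivedCategory.isLE_iff C bN).2 fun i hi => hC i (by simp only [k]; omega)) g
  let K : DCoh.D (U : Scheme.{u}) := C⟦(-1 : ℤ)⟧
  have hT' := inv_rot_of_distTriang _ hT
  obtain ⟨e, -, -⟩ := exists_iso_binaryBiproduct_of_distTriang _ hT' (by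
    change g ≫ _ = 0
    rw [hg, zero_comp])
  let eH : ∀ i, DCoh.HD K i ≅ DCoh.HD C (i - 1) := fun i =>
    ((DerivedCategory.homologyFunctor (U : Scheme.{u}).Modules 0).shiftIso (-1 : ℤ) i (i - 1) (by omega)).app C
  haveI : K.IsGE k := (DerivedCategory.isGE_iff K k).2 fun i hi => (hC' (i - 1) (by omega)).of_iso (eH i)
  haveI : K.IsLE k := (DerivedCategory.isLE_iff K k).2 fun i hi => (hC (i - 1) (by omega)).of_iso (eH i)
  obtain ⟨F, ⟨eK⟩⟩ := DerivedCategory.exists_iso_singleFunctor_obj_of_isGE_of_isLE K k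
  let eS : K ≅ (DCoh.inD (U : Scheme.{u}) F)⟦-k⟧ :=
    eK ≪≫ (((DerivedCategory.singleFunctors (U : Scheme.{u}).Modules).shiftIso (-k) k 0 (by omega)).app F).symm
  refine ⟨k, F, G, H23.PullPush.isFinLocFree_of_iso ?_ hF, hGp, ⟨e ≪≫ biprod.mapIso eS (Iso.refl E)⟩⟩
  exact (eH k).symm ≪≫ (DerivedCategory.homologyFunctor _ k).mapIso eK ≪≫
    (DerivedCategory.singleFunctorCompHomologyFunctorIso (U : Scheme.{u}).Modules k).app F


end Groth.Agent.S1019
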