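import Groth.Statements.S1022
import Groth.Agent.DQGen.Bounds
-- import your own Groth.Agent.* helpers here

set_option autoImplicit false
universe u
open CategoryTheory CategoryTheory.Limits AlgebraicGeometry
attribute [local instance] HasDerivedCategory.standard
open Perf

namespace Groth.Agent.S1022

/-- Let the scheme X be quasi-compact and quasi-separated, P a perfect object of D(O_X), E ∈ D_QCoh(O_X)
and a ∈ ℤ. Then the morphisms P[-i] ⟶ E vanish for all large i if and only if the morphisms P[-i] ⟶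
τ_{≥ a}E vanish for all large i. -/
theorem result (X : Scheme.{u}) [CompactSpace ↥X] [QuasiSeparatedSpace ↥X]
    (P : DCoh.D X) (hP : DCoh.IsPerfect P) (E : DCoh.D X) (hE : DCoh.IsQCohD E) (a : ℤ) :
    (∃ N : ℤ, ∀ i : ℤ, N ≤ i → ∀ φ : P⟦-i⟧ ⟶ E, φ = 0) ↔
    (∃ N : ℤ, ∀ i : ℤ, N ≤ i → ∀ φ : P⟦-i⟧ ⟶ ((DerivedCategory.TStructure.t : CategoryTheory.Triangulated.TStructure (DCoh.D X)).truncGE a).obj E, φ = 0) := by
  obtain ⟨N₀, b, hN, hb⟩ := Groth.Agent.DQGen.exists_range hP
  let t : CategoryTheory.Triangulated.TStructure (DCoh.D X) := DerivedCategory.TStructure.t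
  have hT := t.triangleLTGE_distinguished a E
  haveI hA : ((t.truncLT a).obj E).IsLE (a - 1) := t.isLE_truncLT_obj E a (a - 1)
  haveI hB : ((t.truncGE a).obj E).IsGE ((a - 1) + 1) := by
    rw [sub_add_cancel]; exact inferInstanceAs (t.IsGE ((t.truncGE a).obj E) a)
  have hqA := (Groth.Agent.DQGen.isQCohD_of_trunc hE (a - 1) hA hB _ _ _ hT).1
  have key := Groth.Agent.DQGen.eventually_iff (P := P) _ _ _ hT (fun i => a - 1 - N₀ ≤ i)
    (fun i hi φ => Groth.Agent.DQGen.eq_zero_of_shift (-i) i (by omega)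
      (hN _ (Groth.Agent.KFlatLib.isQCohD_shift hqA i)
        (Groth.Agent.DQGen.isLE_shift (a - 1) i N₀ hA (by omega))) φ)
    (fun i hi φ => Groth.Agent.DQGen.eq_zero_of_shift (-i) i (by omega)
      (hN _ (Groth.Agent.KFlatLib.isQCohD_shift (Groth.Agent.KFlatLib.isQCohD_shift hqA 1) i)
        (Groth.Agent.DQGen.isLE_shift (a - 2) i N₀
          (Groth.Agent.DQGen.isLE_shift (a - 1) 1 (a - 2) hA (by omega)) (by omega))) φ)
  constructor <;> rintro ⟨N, hN'⟩ <;> refine ⟨max N (a - 1 - N₀), fun i hi => ?_⟩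
  · exact (key i ((le_max_right _ _).trans hi)).1 (hN' i ((le_max_left _ _).trans hi))
  · exact (key i ((le_max_right _ _).trans hi)).2 (hN' i ((le_max_left _ _).trans hi))


end Groth.Agent.S1022
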