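import Groth.Statements.S1023
import Groth.Agent.DQGen.Bounds
-- import your own Groth.Agent.* helpers here

set_option autoImplicit false
universe u
open CategoryTheory CategoryTheory.Limits AlgebraicGeometry
attribute [local instance] HasDerivedCategory.standard
open Perf

namespace Groth.Agent.S1023

/-- Let the scheme X be quasi-compact and quasi-separated, P a perfect object of D(O_X), E ∈ D_QCoh(O_X)
and a ∈ ℤ. Then the morphisms P[-i] ⟶ E vanish for all sufficiently negative i if and only if the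
morphisms P[-i] ⟶ τ_{≤ a}E vanish for all sufficiently negative i. -/
theorem result (X : Scheme.{u}) [CompactSpace ↥X] [QuasiSeparatedSpace ↥X]
    (P : DCoh.D X) (hP : DCoh.IsPerfect P) (E : DCoh.D X) (hE : DCoh.IsQCohD E) (a : ℤ) :
    (∃ N : ℤ, ∀ i : ℤ, i ≤ N → ∀ φ : P⟦-i⟧ ⟶ E, φ = 0) ↔
    (∃ N : ℤ, ∀ i : ℤ, i ≤ N → ∀ φ : P⟦-i⟧ ⟶ ((DerivedCategory.TStructure.t : CategoryTheory.Triangulated.TStructure (DCoh.D X)).truncLE a).obj E, φ = 0) := by
  obtain ⟨N₀, b, hN, hb⟩ := Groth.Agent.DQGen.exists_range hP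
  let t : CategoryTheory.Triangulated.TStructure (DCoh.D X) := DerivedCategory.TStructure.t
  have hT := t.triangleLEGE_distinguished a (a + 1) rfl E
  haveI hB : ((t.truncGE (a + 1)).obj E).IsGE (a + 1) :=
    inferInstanceAs (t.IsGE ((t.truncGE (a + 1)).obj E) (a + 1))
  have hvan : ∀ i ≤ a - b - 1, ∀ (φ : P⟦-i⟧ ⟶ (t.truncGE (a + 1)).obj E), φ = 0 := fun i hi φ =>
    Groth.Agent.DQGen.eq_zero_of_shift (-i) i (by omega)
      (hb _ (Groth.Agent.DQGen.isGE_shift (a + 1) i (b + 1) hB (by omega))) φ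
  have hvan' : ∀ i ≤ a - b - 1, ∀ (φ : P⟦-i⟧ ⟶ ((t.truncGE (a + 1)).obj E)⟦(-1 : ℤ)⟧), φ = 0 := fun i hi φ =>
    Groth.Agent.DQGen.eq_zero_of_shift (-i) i (by omega)
      (hb _ (Groth.Agent.DQGen.isGE_shift (a + 2) i (b + 1)
        (Groth.Agent.DQGen.isGE_shift (a + 1) (-1) (a + 2) hB (by omega)) (by omega))) φ
  constructor <;> rintro ⟨N, hN'⟩ <;> refine ⟨min N (a - b - 1), fun i hi φ => ?_⟩
  · obtain ⟨χ, hχ⟩ := Pretriangulated.Triangle.coyoneda_exact₂ _
      (Pretriangulated.inv_rot_of_distTriang _ hT) φ (hN' i (hi.trans (min_le_left _ _)) _)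
    rw [hχ, hvan' i (hi.trans (min_le_right _ _)) χ]
    exact zero_comp
  · obtain ⟨χ, hχ⟩ := Pretriangulated.Triangle.coyoneda_exact₂ _ hT φ
      (hvan i (hi.trans (min_le_right _ _)) _)
    rw [hχ, hN' i (hi.trans (min_le_left _ _)) χ]
    exact zero_comp


end Groth.Agent.S1023
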