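import Groth.Statements.S10233
-- import your own Groth.Agent.* helpers here
import Groth.Agent.AlgSpDec.ImmDescentSp

set_option autoImplicit false
universe u
open CategoryTheory CategoryTheory.Limits AlgebraicGeometry Topology TopologicalSpace
open AlgSp

namespace Groth.Agent.S10233
open Groth.Agent

/-- Let X be an algebraic space over a scheme S with a presentation (U, R, s, t, p), and let i' : Z' ⟶ U
be an immersion of schemes that is R-invariant, meaning that one locally closed subscheme R' of R is
at the same time the inverse image of Z' under s and under t. Then Z' descends to a locally closed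
subspace of X: there is a morphism of algebraic spaces i : Z ⟶ X representable by immersions
together with a map h_{Z'} ⟶ Z making h_{Z'} the fibre product Z ×_X h_U; moreover i is a closed
(resp. open) immersion when i' is. -/
theorem result {S : Scheme.{u}} (X : AlgSp.Space S) {R U : Over S} (s t : R ⟶ U)
    (p : (AlgSp.yon S).obj U ⟶ X.obj) (hp : AlgSp.IsPresentation s t p)
    {Z' R' : Scheme.{u}} (i' : Z' ⟶ U.left) [IsImmersion i'] (k : R' ⟶ R.left) (s' t' : R' ⟶ Z')
    (hs : IsPullback k s' s.left i') (ht : IsPullback k t' t.left i') :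
    ∃ (Z : AlgSp.Space S) (i : Z ⟶ X) (q : (AlgSp.yon S).obj (Over.mk (i' ≫ U.hom)) ⟶ Z.obj),
      AlgSp.RepWith @IsImmersion i.hom ∧
      IsPullback q ((AlgSp.yon S).map (Over.homMk i' rfl : Over.mk (i' ≫ U.hom) ⟶ U)) i.hom p ∧
      (IsClosedImmersion i' → AlgSp.RepWith @IsClosedImmersion i.hom) ∧
      (IsOpenImmersion i' → AlgSp.RepWith @IsOpenImmersion i.hom) := by
  let W : Over S := Over.mk (i' ≫ U.hom)
  let i : W ⟶ U := Over.homMk i' rfl
  let R'' : Over S := Over.mk (k ≫ R.hom)
  let k' : R'' ⟶ R := Over.homMk k rfl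
  let s'' : R'' ⟶ W := Over.homMk s' (by
    show s' ≫ i' ≫ U.hom = k ≫ R.hom
    rw [← Category.assoc, ← hs.w, Category.assoc, Over.w s])
  let t'' : R'' ⟶ W := Over.homMk t' (by
    show t' ≫ i' ≫ U.hom = k ≫ R.hom
    rw [← Category.assoc, ← ht.w, Category.assoc, Over.w t])
  haveI : Mono i.left := inferInstanceAs (Mono i')
  haveI : Mono i := (Over.forget S).mono_of_mono_map ‹Mono i.left›
  haveI : IsImmersion i.left := inferInstanceAs (IsImmersion i')
  have sqs : IsPullback k' s'' s i :=
    IsPullback.of_map (Over.forget S) (Over.OverMorphism.ext hs.w) hs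
  have sq := AlgSpDec.ImmDescentSp.isPullback_image p hp.isPullback i k' s'' t'' sqs (Over.OverMorphism.ext ht.w)
  have him := AlgSpDec.ImmDescentSp.repWith_isImmersion_of_chart _ p hp.etale hp.surjective sq
  have hp' : RepWith AlgSpLib.fppf p := ⟨hp.etale.rep, fun T V g a b e => by
    haveI : Etale b.left := hp.etale.property g a b e
    haveI : Surjective b.left := hp.surjective.property g a b e
    exact AlgSpLib.fppf_of b.left⟩
  refine ⟨⟨_, AlgSpLib.isAlgSpace_of_representable _ him.rep X.property⟩, ObjectProperty.homMk _, _, him, sq,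
    fun hc => ?_, fun ho => ?_⟩
  · haveI := EtFound.fpqc_isClosedImmersion.{u}
    exact AlgSpDec.Fppf.repWith_of_fppf_cover (P := @IsClosedImmersion)
      (fun _ _ g (hg : IsClosedImmersion g) => (inferInstance : IsAffineHom g)) hp' sq
      ((repWith_yon_map_iff _ i).2 hc)
  · exact AlgSpDec.Fppf.repWith_isOpenImmersion_of_fppf_cover hp' sq ((repWith_yon_map_iff _ i).2 ho)

end Groth.Agent.S10233
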