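import Groth.Statements.S10240
import Groth.Agent.AlgSpMod.Colimit

set_option autoImplicit false
universe u
open CategoryTheory CategoryTheory.Limits AlgebraicGeometry Topology TopologicalSpace
open AlgSp

namespace Groth.Agent.S10240

set_option backward.isDefEq.respectTransparency false
set_option backward.isDefEq.respectTransparency.types false
open Groth.Agent.AlgSpMod CategoryTheory CategoryTheory.Limits

/-- Let X be an algebraic space over a scheme S. Colimits of quasi-coherent O_X-modules are
quasi-coherent; kernels and cokernels of maps between quasi-coherent O_X-modules are quasi-coherent;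
and in a short exact sequence of O_X-modules, if two out of three are quasi-coherent then so is the
third. -/
theorem result {S : Scheme.{u}} (X : AlgSp.Space S) :
    (∀ (J : Type u) [SmallCategory J] (D : J ⥤ AlgSp.ModEt X.obj) [HasColimit D],
        (∀ j, (D.obj j).IsQuasicoherent) → (colimit D).IsQuasicoherent) ∧
    (∀ (F G : AlgSp.ModEt X.obj) (φ : F ⟶ G), F.IsQuasicoherent → G.IsQuasicoherent →
        (kernel φ).IsQuasicoherent ∧ (cokernel φ).IsQuasicoherent) ∧
    (∀ C : ShortComplex (AlgSp.ModEt X.obj), C.ShortExact →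
        (C.X₁.IsQuasicoherent → C.X₂.IsQuasicoherent → C.X₃.IsQuasicoherent) ∧
        (C.X₁.IsQuasicoherent → C.X₃.IsQuasicoherent → C.X₂.IsQuasicoherent) ∧
        (C.X₂.IsQuasicoherent → C.X₃.IsQuasicoherent → C.X₁.IsQuasicoherent)) := by
  refine ⟨fun J _ D _ hD => ?_, fun F G φ hF hG => ⟨?_, ?_⟩, fun C hC => ⟨fun a b => ?_, fun a b => ?_, fun a b => ?_⟩⟩
  · exact (good_colimit D fun j => (haveI := hD j; good_of_qcoh (D.obj j))).isQuasicoherent
  · exact (good_of_left_exact (ShortComplex.mk (kernel.ι φ) φ (kernel.condition φ))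
      (ShortComplex.kernelSequence_exact φ) (inferInstanceAs (Mono (kernel.ι φ))) (good_of_qcoh F) (good_of_qcoh G)).isQuasicoherent
  · exact (good_of_right_exact (ShortComplex.mk φ (cokernel.π φ) (cokernel.condition φ))
      (ShortComplex.cokernelSequence_exact φ) (inferInstanceAs (Epi (cokernel.π φ))) (good_of_qcoh F) (good_of_qcoh G)).isQuasicoherent
  · exact (good_of_right_exact C hC.exact hC.epi_g (good_of_qcoh C.X₁) (good_of_qcoh C.X₂)).isQuasicoherent
  · exact (good_of_extension C hC (good_of_qcoh C.X₁) (good_of_qcoh C.X₃)).isQuasicoherent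
  · exact (good_of_left_exact C hC.exact hC.mono_f (good_of_qcoh C.X₂) (good_of_qcoh C.X₃)).isQuasicoherent

end Groth.Agent.S10240
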