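import Groth.Statements.S10255
import Groth.Agent.AlgSpMod.ProjPull
import Groth.Agent.AlgSpMod.Companion
import Groth.Agent.AlgSpMod.PullQCoh

set_option autoImplicit false
universe u
open CategoryTheory CategoryTheory.Limits AlgebraicGeometry Topology TopologicalSpace
open AlgSp

namespace Groth.Agent.S10255

set_option backward.isDefEq.respectTransparency false
set_option backward.isDefEq.respectTransparency.types false

open Groth.Agent.AlgSpMod Groth.Agent.AlgSpLib Groth.Agent.AlgSpDec

/-- For a representable morphism: let f : X ⟶ Y be a representable morphism of algebraic spaces over a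
scheme S and G a quasi-coherent O_Y-module on the small etale site of Y, with u-small modules of
sections over the affine objects of that site, which is locally projective (for every scheme V etale
over Y the restriction of G to the Zariski site of V has projective modules of sections over all
affine opens). Then the pullback f^*G is locally projective on X: for every scheme U etale over X
the restriction of f^*G to the Zariski site of U has projective modules of sections over all affine
opens. (The published statement is for an arbitrary morphism of algebraic spaces; this row takes f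
representable, where f^* is the left adjoint of the direct image V ↦ (V ×_Y X) on modules on the
small etale sites with scheme objects. Modules on these sites take values one universe up, so the
smallness of sections is stated as a hypothesis; without it the local-projectivity hypothesis,
phrased through Zariski companions with u-small sections, can be vacuous.) -/
theorem result {S : Scheme.{u}} {X Y : AlgSp.Space S} (f : X ⟶ Y)
    (hrep : AlgSp.Representable f.hom)
    [(SheafOfModules.pushforward.{u + 1} (AlgSp.bcRingHom hrep)).IsRightAdjoint]
    (G : AlgSp.ModEt Y.obj) (hG : G.IsQuasicoherent)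
    (hsmall : ∀ E : AlgSp.EtOver Y.obj, IsAffine E.obj.left.left → Small.{u} (AlgSp.sectModEt G E))
    (hproj : ∀ {V : Over S} (q : (AlgSp.yon S).obj V ⟶ Y.obj) (hrepq : AlgSp.Representable q)
      [(SheafOfModules.pushforward.{u + 1} (AlgSp.bcRingHom hrepq)).IsRightAdjoint]
      (H : V.left.Modules) [Coh.IsQCoh H]
      (c : AlgSp.ZarCompanion V.left H ((AlgSp.resSchModEt V).obj ((AlgSp.pullModEt hrepq).obj G)))
      (W : V.left.Opens), AlgSp.RepWith @Etale q → IsAffineOpen W →
        Module.Projective (V.left.ringCatSheaf.obj.obj (Opposite.op W)) (H.val.obj (Opposite.op W)))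
    {U : Over S} (p : (AlgSp.yon S).obj U ⟶ X.obj) (hrepp : AlgSp.Representable p)
    (hp : AlgSp.RepWith @Etale p)
    [(SheafOfModules.pushforward.{u + 1} (AlgSp.bcRingHom hrepp)).IsRightAdjoint]
    (H' : U.left.Modules) [Coh.IsQCoh H']
    (c' : AlgSp.ZarCompanion U.left H'
      ((AlgSp.resSchModEt U).obj ((AlgSp.pullModEt hrepp).obj ((AlgSp.pullModEt hrep).obj G))))
    (W : U.left.Opens) (hW : IsAffineOpen W) :
    Module.Projective (U.left.ringCatSheaf.obj.obj (Opposite.op W)) (H'.val.obj (Opposite.op W)) := by
  haveI := hG
  haveI : ((pullModEt hrep).obj G).IsQuasicoherent := isQuasicoherent_pull hrep Y.property G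
  have hGood : Good G := good_of_qcoh G
  have hP : ∀ E : EtOver Y.obj, IsAffine E.obj.left.left → Module.Projective (Rg E) (SA G (𝟙 E)) := by
    intro E hE
    let q := E.obj.hom
    have hq : RepWith @Etale q := E.property
    have hq' := isEtaleMor_of_repWith q hq
    haveI : (SheafOfModules.pushforward.{u + 1} (bcRingHom hq.1)).IsRightAdjoint :=
      haveI := PostcompSite.isContinuous q hq'
      (EtPullRestrict.modAdj hq.1 hq').isRightAdjoint
    let N := (pullModEt hq.1).obj G
    have hN : Good N := (Good.restr hq' G hGood).of_iso (pullIsoRestr hq' G hq.1)
    have hsm : ∀ W : E.obj.left.left.Opens, IsAffineOpen W → Small.{u} (ZS N W) := by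
      intro W hW
      haveI := hsmall ((EtOver.postcomp q hq').obj (openObj E.obj.left W)) hW
      let e := pullIsoRestr hq' G hq.1
      exact small_map (β := sectModEt G ((EtOver.postcomp q hq').obj (openObj E.obj.left W)))
        { toFun := fun x => e.inv.val.app (Opposite.op (openObj E.obj.left W)) x
          invFun := fun y => e.hom.val.app (Opposite.op (openObj E.obj.left W)) y
          left_inv := fun x => congr(($(e.inv_hom_id)).val.app (Opposite.op (openObj E.obj.left W)) x)
          right_inv := fun y => congr(($(e.hom_inv_id)).val.app (Opposite.op (openObj E.obj.left W)) y) }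
    haveI : Coh.IsQCoh (compMod N hsm) := isQCoh_compMod N hsm hN
    haveI : IsAffine E.obj.left.left := hE
    have h1 := (projective_companion N (compCompanion N hsm) ⊤).1
      (hproj q hq.1 (compMod N hsm) (compCompanion N hsm) ⊤ hq (isAffineOpen_top _))
    refine projective_of_charts hGood E hE fun u => ?_
    let w : ↥(openObj E.obj.left ⊤).obj.left.left := (⟨u, trivial⟩ : ↥(⊤ : E.obj.left.left.Opens))
    refine ⟨(EtOver.postcomp q hq').obj (openObj E.obj.left ⊤), isAffineOpen_top _, w,
      (projective_pull_etale hq.1 hq' G (openObj E.obj.left ⊤)).1 h1, ?_⟩
    show Points.ofPt (((yon S).map (EtOver.homOfEtale (etaleOfOpen E.obj.left.left ⊤)) ≫ 𝟙 _) ≫ q) w = _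
    rw [Category.comp_id]
    exact ofPt_comp (EtOver.homOfEtale (etaleOfOpen E.obj.left.left ⊤)) q w
  have hp' := isEtaleMor_of_repWith p hp
  exact (projective_companion _ c' W).2 ((projective_pull_etale hrepp hp' _ (openObj U W)).2
    (projective_pull hrep Y.property G hGood (good_of_qcoh _) hP _ hW))

end Groth.Agent.S10255
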