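import Groth.Statements.S1028
import Groth.Agent.H6RP.Roof
import Groth.Agent.H6RP.KRoof

set_option autoImplicit false
universe u
open CategoryTheory CategoryTheory.Limits AlgebraicGeometry
attribute [local instance] HasDerivedCategory.standard
open KZero

namespace Groth.Agent.S1028

/-- Let the scheme X be quasi-compact, quasi-separated and have the resolution property. There is an
isomorphism between K₀(Vect(X)) (free abelian group on finite locally free O_X-modules modulo short
exact sequences of such) and K₀(X) = K₀(D_perf(O_X)) (free abelian group on perfect objects of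
D(O_X) modulo distinguished triangles of perfect objects) sending the class of a finite locally free
module E to the class of E placed in degree 0. -/
theorem result (X : Scheme.{u}) [CompactSpace ↥X] [QuasiSeparatedSpace ↥X] (hX : PerfAux.HasResolutionProperty X) :
    ∃ φ : KZero.K0sub (fun M : X.Modules => FlatMod.IsFinLocFree M) ≃+ KZero.K0tr (fun K : DCoh.D X => DCoh.IsPerfect K),
      ∀ E : X.Modules, FlatMod.IsFinLocFree E →
        φ (KZero.clSub (fun M : X.Modules => FlatMod.IsFinLocFree M) E) = KZero.clTr (fun K : DCoh.D X => DCoh.IsPerfect K) (DCoh.inD X E) := by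
  let P : ObjectProperty X.Modules := fun M => FlatMod.IsFinLocFree M
  have hP : Groth.Agent.H6RP.KRoof.EulerClass P :=
    { iso := fun e h => H23.PullPush.isFinLocFree_of_iso e h
      zero := fun M h => Groth.Agent.KFlatLib.isFinLocFree_of_isZero h
      biprod := fun M N hM hN => Groth.Agent.KFlatLib.isFinLocFree_biprod hM hN
      ker := fun S hS h₂ h₃ => by
        haveI := hS.epi_g
        exact H23.PullPush.isFinLocFree_of_iso
          (IsLimit.conePointUniqueUpToIso (kernelIsKernel S.g) hS.fIsKernel)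
          (Groth.Agent.KFlatLib.isFinLocFree_kernel S.g h₂ h₃) }
  have hbd : ∀ E : CochainComplex X.Modules ℤ, Groth.Agent.H6RP.KRoof.BdP P E ↔ DCoh.IsStrictlyPerfect E :=
    fun E => ⟨fun ⟨h1, a, b, h2⟩ => ⟨⟨a, b, h2⟩, h1⟩, fun ⟨⟨a, b, h2⟩, h1⟩ => ⟨h1, a, b, h2⟩⟩
  have hR : ∀ K, DCoh.IsPerfect K ↔ Groth.Agent.H6RP.KRoof.IsPerf P K := fun K => by
    refine ⟨fun hK => ?_, fun ⟨E, hE, ⟨e⟩⟩ => ?_⟩
    · obtain ⟨E, hE, he⟩ := Groth.Agent.H6RP.exists_strictlyPerfect_rep hX K hK
      exact ⟨E, (hbd E).2 hE, he⟩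
    · exact Groth.Agent.DQGen.isPerfect_of_iso e
        (Groth.Agent.H6RP.isPerfect_of_isStrictlyPerfect ((hbd E).1 hE))
  have hRf : Groth.Agent.H6RP.KRoof.HasRoofs P := fun E F hE hF u => by
    obtain ⟨G, s, f, hG, hs, h⟩ := Groth.Agent.H6RP.exists_roof hX E F ((hbd E).1 hE) ((hbd F).1 hF) u
    exact ⟨G, s, f, (hbd G).2 hG, Groth.Agent.KFlatLib.isIso_Q_map _ hs, h⟩
  obtain ⟨φ, hφ, -⟩ := Groth.Agent.H6RP.KRoof.exists_equiv_perf (fun K => DCoh.IsPerfect K) hR hP hRf
  exact ⟨φ, fun E hE => hφ E hE⟩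

end Groth.Agent.S1028
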