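import Groth.Statements.S1030
import Groth.Agent.H6CG.EpiRes

set_option autoImplicit false
universe v u
open CategoryTheory CategoryTheory.Limits
open CohDer

namespace Groth.Agent.S1030

/-- Let P be a class of objects of an abelian category, closed under isomorphisms, which holds for some
zero object, is closed under binary direct sums, and such that every object is a quotient of an
object satisfying P. For any cochain complex K there are bounded above complexes Pₙ (n ≥ 0) with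
terms satisfying P, termwise surjective quasi-isomorphisms πₙ : Pₙ ⟶ τ_{≤ n}K and termwise split
injections ιₙ : Pₙ ⟶ Pₙ₊₁ whose cokernels satisfy P termwise, compatible in the sense that Pₙ ⟶
τ_{≤n}K ⟶ K equals Pₙ ⟶ Pₙ₊₁ ⟶ τ_{≤n+1}K ⟶ K. (The source indexes from 1.) -/
theorem result {A : Type u} [Category.{v} A] [Abelian A] (P : ObjectProperty A) [P.IsClosedUnderIsomorphisms]
    (hP0 : ∃ Z : A, IsZero Z ∧ P Z) (hPsum : ∀ X Y : A, P X → P Y → P (X ⊞ Y))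
    (hP : ∀ X : A, ∃ (Y : A) (π : Y ⟶ X), P Y ∧ Epi π) (K : CochainComplex A ℤ) :
    ∃ (Q : ℕ → CochainComplex A ℤ) (ι : ∀ n, Q n ⟶ Q (n + 1)) (π : ∀ n : ℕ, Q n ⟶ K.truncLE (n : ℤ)),
      (∀ n, QuasiIso (π n) ∧ ∀ i, Epi ((π n).f i)) ∧
      (∀ n, ∃ b : ℤ, (Q n).IsStrictlyLE b) ∧ (∀ n i, P ((Q n).X i)) ∧
      (∀ n i, (∃ r : (Q (n + 1)).X i ⟶ (Q n).X i, (ι n).f i ≫ r = 𝟙 _) ∧ P (cokernel ((ι n).f i))) ∧
      (∀ n : ℕ, π n ≫ K.ιTruncLE (n : ℤ) = ι n ≫ π (n + 1) ≫ K.ιTruncLE ((n + 1 : ℕ) : ℤ)) := by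
  classical
  let L : ℕ → CochainComplex A ℤ := fun n => K.truncLE (n : ℤ)
  let Stage : ℕ → Type (max u v) := fun n => {p : Σ Q : CochainComplex A ℤ, (Q ⟶ L n) //
    (QuasiIso p.2 ∧ ∀ i, Epi (p.2.f i)) ∧ (∀ i, P (p.1.X i)) ∧ ∃ b : ℤ, ∀ i, b ≤ i → IsZero (p.1.X i)}
  have hL : ∀ n : ℕ, ∀ i : ℤ, (n : ℤ) + 1 ≤ i → IsZero ((L n).X i) := fun n i hi =>
    CochainComplex.isZero_of_isStrictlyLE (L n) (n : ℤ) i (by omega)
  obtain ⟨T₀, w₀, hT₀, hP₀, hq₀, he₀⟩ :=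
    H6CG.exists_epi_resolution P hP0 hPsum hP (L 0) 1 (fun i hi => hL 0 i (by simpa using hi))
  have key : ∀ (n : ℕ) (s : Stage n), ∃ (t : Stage (n + 1)) (v : s.1.1 ⟶ t.1.1),
      (∀ i, (∃ r : t.1.1.X i ⟶ s.1.1.X i, v.f i ≫ r = 𝟙 _) ∧ P (cokernel (v.f i))) ∧
      s.1.2 ≫ K.ιTruncLE (n : ℤ) = v ≫ t.1.2 ≫ K.ιTruncLE ((n + 1 : ℕ) : ℤ) := by
    rintro n ⟨⟨Q, p⟩, -, hQP, b, hb⟩
    haveI : (L n).IsStrictlyLE ((n + 1 : ℕ) : ℤ) :=
      CochainComplex.isStrictlyLE_of_le _ (n : ℤ) _ (by omega)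
    let m : L n ⟶ L (n + 1) := inv ((L n).ιTruncLE ((n + 1 : ℕ) : ℤ)) ≫
      CochainComplex.truncLEMap (K.ιTruncLE (n : ℤ)) ((n + 1 : ℕ) : ℤ)
    have hm : m ≫ K.ιTruncLE ((n + 1 : ℕ) : ℤ) = K.ιTruncLE (n : ℤ) := by
      show (inv ((L n).ιTruncLE _) ≫ _) ≫ _ = _
      rw [Category.assoc, CochainComplex.ιTruncLE_naturality, IsIso.inv_hom_id_assoc]
    obtain ⟨Q₁, v, p₁, hv, hq, he, hz, hP₁, hsplit⟩ := H6CG.exists_extension P hP0 hPsum hP (p ≫ m)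
      (max b ((n : ℤ) + 2)) (fun i hi => hb i (by omega)) (fun i hi => hL (n + 1) i (by omega)) hQP
    exact ⟨⟨⟨Q₁, p₁⟩, ⟨hq, he⟩, hP₁, max b ((n : ℤ) + 2) + 1, fun i hi => hz i (by omega)⟩, v, hsplit,
      by rw [← Category.assoc v, hv, Category.assoc, hm]⟩
  choose nxt v hv₁ hv₂ using key
  let st : (n : ℕ) → Stage n := fun n => Nat.rec (motive := Stage)
    ⟨⟨T₀, w₀⟩, ⟨hq₀, he₀⟩, hP₀, 2, fun i hi => hT₀ i (by omega)⟩ (fun n s => nxt n s) n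
  refine ⟨fun n => (st n).1.1, fun n => v n (st n), fun n => (st n).1.2, fun n => (st n).2.1, fun n => ?_,
    fun n i => (st n).2.2.1 i, fun n i => hv₁ n (st n) i, fun n => hv₂ n (st n)⟩
  obtain ⟨b, hb⟩ := (st n).2.2.2
  exact ⟨b, (CochainComplex.isStrictlyLE_iff _ _).2 fun i hi => hb i hi.le⟩

end Groth.Agent.S1030
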