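import Groth.Statements.S10321
import Groth.Agent.AlgSpDec.LqfScheme
-- import your own Groth.Agent.* helpers here

set_option autoImplicit false
universe u
open CategoryTheory CategoryTheory.Limits AlgebraicGeometry
open AlgSp

namespace Groth.Agent.S10321

/-- Let X be separated and locally quasi-finite over an affine scheme T, let T' -> T be etale with T'
affine, and let V' be an open subspace of T' ×_T X that is quasi-affine over T'. Then V' maps onto a
quasi-compact open subspace of X that is itself a scheme. -/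
theorem result {S : Scheme.{u}} {T T' : Over S} [IsAffine T.left]
    [IsAffine T'.left] (e : T' ⟶ T) [Etale e.left] {X P V' : AlgSp.Space S} (f : X ⟶ (AlgSp.ofScheme S).obj T)
    (hsep : AlgSp.IsSeparatedMor f.hom) (hqf : AlgSp.LocP (@LocallyQuasiFinite ⊓ @LocallyOfFiniteType) f.hom)
    (p1 : P ⟶ (AlgSp.ofScheme S).obj T') (p2 : P ⟶ X)
    (sq : IsPullback p2.hom p1.hom f.hom ((AlgSp.yon S).map e)) (j : V' ⟶ P)
    (hj : AlgSp.RepWith @IsOpenImmersion j.hom) (hqa : AlgSp.IsQuasiAffineMor (j ≫ p1).hom) :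
    ∃ (W : Over S) (i : (AlgSp.yon S).obj W ⟶ X.obj), AlgSp.RepWith @IsOpenImmersion i ∧ CompactSpace ↥W.left ∧
      Set.range (AlgSp.Points.map i) = Set.range (AlgSp.Points.map (j ≫ p2).hom) := by
  obtain ⟨Q, ⟨eQ⟩⟩ := Groth.Agent.AlgSpDec.exists_iso_of_lqf_separated X.property f.hom hqf hsep
  obtain ⟨W₀, i₀, fst₀, sq₀, hW₀⟩ := hqa ‹IsAffine T'.left› (𝟙 _)
  haveI : IsIso (𝟙 ((AlgSp.ofScheme S).obj T').obj) := IsIso.id _
  haveI : IsIso fst₀ := sq₀.isIso_fst_of_isIso (IsIso.id _)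
  have hee : AlgSp.RepWith @Etale p2.hom :=
    Groth.Agent.AlgSpLib.repWith_of_isPullback sq.flip ((AlgSp.repWith_yon_map_iff _ e).2 ‹Etale e.left›)
  have hje : AlgSp.RepWith @Etale j.hom :=
    Groth.Agent.AlgSpLib.repWith_mono (P := @IsOpenImmersion) (Q := @Etale)
      (fun _ _ k (_ : IsOpenImmersion k) => inferInstanceAs (Etale k)) _ hj
  have hh : AlgSp.RepWith @Etale (fst₀ ≫ j.hom ≫ p2.hom) :=
    Groth.Agent.AlgSpLib.repWith_comp (Groth.Agent.AlgSpLib.repWith_of_isIso _ fst₀)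
      (Groth.Agent.AlgSpLib.repWith_comp hje hee)
  obtain ⟨φ, hφ⟩ := (AlgSp.yon S).map_surjective ((fst₀ ≫ j.hom ≫ p2.hom) ≫ eQ.inv)
  have hφe : Etale φ.left := by
    refine (AlgSp.repWith_yon_map_iff (@Etale : MorphismProperty Scheme.{u}) φ).1 ?_
    rw [hφ]
    exact Groth.Agent.AlgSpLib.repWith_comp hh (Groth.Agent.AlgSpLib.repWith_of_isIso _ eQ.inv)
  haveI : CompactSpace ↥W₀.left := inferInstance
  let O : Q.left.Opens := ⟨Set.range φ.left, φ.left.isOpenMap.isOpen_range⟩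
  let iO : Over.mk (O.ι ≫ Q.hom) ⟶ Q := CategoryTheory.Over.homMk O.ι rfl
  refine ⟨Over.mk (O.ι ≫ Q.hom), (AlgSp.yon S).map iO ≫ eQ.hom, ?_, ?_, ?_⟩
  · exact Groth.Agent.AlgSpLib.repWith_comp
      ((AlgSp.repWith_yon_map_iff _ iO).2 (inferInstanceAs (IsOpenImmersion O.ι)))
      (Groth.Agent.AlgSpLib.repWith_of_isIso _ eQ.hom)
  · exact isCompact_iff_compactSpace.1 (isCompact_range φ.left.continuous : IsCompact (O : Set ↥Q.left))
  · ext x
    constructor
    · rintro ⟨z, rfl⟩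
      obtain ⟨o, rfl⟩ := (AlgSp.Points.schemeHomeo _).surjective z
      obtain ⟨w, hw⟩ := o.2
      refine ⟨AlgSp.Points.map fst₀ (AlgSp.Points.schemeHomeo W₀ w), ?_⟩
      rw [← AlgSp.Points.map_comp]
      show AlgSp.Points.map (fst₀ ≫ j.hom ≫ p2.hom) _ = _
      rw [show fst₀ ≫ j.hom ≫ p2.hom = (AlgSp.yon S).map φ ≫ eQ.hom by rw [hφ]; simp,
        AlgSp.Points.map_comp, AlgSp.Points.map_comp, AlgSp.Points.map_yon_map_apply,
        AlgSp.Points.map_yon_map_apply]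
      exact congrArg _ (congrArg _ hw)
    · rintro ⟨z, rfl⟩
      obtain ⟨v, rfl⟩ : ∃ v, AlgSp.Points.map fst₀ v = z :=
        ⟨AlgSp.Points.map (inv fst₀) z, by rw [← AlgSp.Points.map_comp, IsIso.inv_hom_id, AlgSp.Points.map_id]⟩
      obtain ⟨w, rfl⟩ := (AlgSp.Points.schemeHomeo W₀).surjective v
      refine ⟨AlgSp.Points.schemeHomeo _ (⟨φ.left w, w, rfl⟩ : O), ?_⟩
      rw [← AlgSp.Points.map_comp]
      show _ = AlgSp.Points.map (fst₀ ≫ j.hom ≫ p2.hom) _
      rw [show fst₀ ≫ j.hom ≫ p2.hom = (AlgSp.yon S).map φ ≫ eQ.hom by rw [hφ]; simp,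
        AlgSp.Points.map_comp, AlgSp.Points.map_comp, AlgSp.Points.map_yon_map_apply,
        AlgSp.Points.map_yon_map_apply]
      rfl

end Groth.Agent.S10321
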