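import Groth.Statements.S10334
import Groth.Agent.AlgSpDec.IntPush
import Groth.Agent.AlgSpDec.PushEssImage
-- import your own Groth.Agent.* helpers here

set_option autoImplicit false
universe u
open CategoryTheory CategoryTheory.Limits AlgebraicGeometry Opposite
open AlgSp

namespace Groth.Agent.S10334

set_option backward.isDefEq.respectTransparency false
set_option backward.isDefEq.respectTransparency.types false
open Groth.Agent.AlgSpDec.ClosedPush

/-- Let f : Y -> X be an integral, universally injective morphism of algebraic spaces over S. A sheaf of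
sets on the small etale site of X is isomorphic to a pushforward f_*F if and only if its value is a
one-element set on every etale scheme over X whose image misses f(|Y|); an abelian sheaf is
isomorphic to a pushforward if and only if its value is zero on every such scheme. (The published
statement says 'restriction to the complement of f(|Y|) is a final object' and 'support contained in
f(|Y|)'; both conditions are written out on the etale schemes over the complement.) -/
theorem result {S : Scheme.{u}} {Y X : AlgSp.Space S} (f : Y ⟶ X)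
    (hi : AlgSp.RepWith @IsIntegralHom f.hom) (hu : AlgSp.IsUnivInjectiveMor f.hom) :
    (∀ G : AlgSp.EtSh X.obj (Type (u + 1)),
      (AlgSp.pushEt hi.1 (Type (u + 1))).essImage G ↔
        ∀ E : AlgSp.EtOver X.obj,
          Disjoint (Set.range (AlgSp.Points.map E.obj.hom)) (Set.range (AlgSp.Points.map f.hom)) →
            Nonempty (Unique (G.obj.obj (op E)))) ∧
    (∀ G : AlgSp.AbEt X.obj,
      (AlgSp.pushEt hi.1 AddCommGrpCat.{u + 1}).essImage G ↔
        ∀ E : AlgSp.EtOver X.obj,
          Disjoint (Set.range (AlgSp.Points.map E.obj.hom)) (Set.range (AlgSp.Points.map f.hom)) →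
            Subsingleton ↥(G.obj.obj (op E))) := by
  have H := liftableSp_of_isIntegral_univInj hi hu
  haveI := isCoverDense_bc hi.1 X.property H
  haveI := isLocallyFull_bc hi.1 H
  have hcl : ∀ E : AlgSp.EtOver X.obj, IsClosed (Set.range (AlgSp.EtOver.bcπ hi.1 E).left) := fun E =>
    haveI : IsIntegralHom (AlgSp.EtOver.bcπ hi.1 E).left := hi.property_snd E.obj.hom
    (AlgSp.EtOver.bcπ hi.1 E).left.isClosedMap.isClosed_range
  constructor
  · intro G
    constructor
    · rintro ⟨F, ⟨e⟩⟩ E hE
      obtain ⟨h⟩ := unique_of_avoids hi.1 F (E := E) hE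
      exact ⟨@Equiv.unique _ _ h (((sheafToPresheaf _ _).mapIso e).app (op E)).toEquiv.symm⟩
    · intro h
      exact mem_essImage hi.1 X.property H _ G ((isSheaf_iff_isSheaf_of_type _ _).2
        (isSheaf_induced hi.1 hcl G.obj ((isSheaf_iff_isSheaf_of_type _ _).1 G.property) h))
  · intro G
    constructor
    · rintro ⟨F, ⟨e⟩⟩ E hE
      obtain ⟨h⟩ := unique_of_avoids hi.1 ((sheafCompose _ (forget AddCommGrpCat.{u + 1})).obj F) (E := E) hE
      have hs : Subsingleton ↥(F.obj.obj (op ((AlgSp.EtOver.bc hi.1).obj E))) :=
        ⟨fun a b => (h.eq_default a).trans (h.eq_default b).symm⟩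
      exact @Equiv.subsingleton _ _ ((forget AddCommGrpCat.{u + 1}).mapIso (((sheafToPresheaf _ _).mapIso e).app (op E))).toEquiv.symm hs
    · intro h
      refine mem_essImage hi.1 X.property H _ G ((Presheaf.isSheaf_iff_isSheaf_forget _ _ (forget AddCommGrpCat.{u + 1})).2
        ((isSheaf_iff_isSheaf_of_type _ _).2 (isSheaf_induced hi.1 hcl _ ((isSheaf_iff_isSheaf_of_type _ _).1
          ((Presheaf.isSheaf_iff_isSheaf_forget _ _ (forget AddCommGrpCat.{u + 1})).1 G.property)) ?_)))
      intro E hE
      haveI := h E hE
      exact ⟨@Unique.mk' _ ⟨(0 : G.obj.obj (op E))⟩ (h E hE)⟩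

end Groth.Agent.S10334
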