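import Groth.Statements.S10391
import Groth.Agent.AlgSpDec.PointsLftField
-- import your own Groth.Agent.* helpers here

set_option autoImplicit false
universe u
open CategoryTheory CategoryTheory.Limits AlgebraicGeometry Topology TopologicalSpace
open AlgSp

namespace Groth.Agent.S10391

/-- Let k be a field, X an algebraic space over k which is locally of finite type, and x ∈ |X|. The
conditions (2) x is closed in |X| and has no proper generization, (3) x is an isolated point of |X|,
(4) dim_x(X) = 0 are equivalent; if X is decent they are also equivalent to (1) dim_x(|X|) = 0. (The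
equivalence with quasi-finiteness of X → Spec k at x is not part of this row.) -/
theorem result (k : Type u) [Field k] (X : AlgSp.Space (Spec (CommRingCat.of k)))
    (p : X.obj ⟶ (AlgSp.yon (Spec (CommRingCat.of k))).obj (Over.mk (𝟙 _))) (hp : AlgSp.LocP @LocallyOfFiniteType p) (x : AlgSp.Points X.obj) :
    (IsOpen ({x} : Set (AlgSp.Points X.obj)) ↔
        (IsClosed ({x} : Set (AlgSp.Points X.obj)) ∧ ∀ x' : AlgSp.Points X.obj, x' ⤳ x → x' = x)) ∧
      (IsOpen ({x} : Set (AlgSp.Points X.obj)) ↔ AlgSp.HasAt (fun U u => FlatMor.localDim ↥U u = 0) X.obj x) ∧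
      (AlgSp.IsDecent X.obj →
        (FlatMor.localDim (AlgSp.Points X.obj) x = 0 ↔ IsOpen ({x} : Set (AlgSp.Points X.obj)))) := by
  refine ⟨⟨fun h => ⟨(Groth.Agent.AlgSpDec.isolated_of_isOpen X.property hp h).2,
      fun x' hx' => Groth.Agent.AlgSpDec.no_gen_of_isOpen h hx'⟩,
    fun h => (Groth.Agent.AlgSpDec.isolated_point X.property hp isOpen_univ (Set.mem_univ x)
      (fun v hv => h.1.closure_subset hv.1) h.2).2.1⟩, ⟨fun h => ?_, ?_⟩,
    fun hdec => ⟨fun h => ?_, Groth.Agent.AlgSpDec.localDim_eq_zero_of_isOpen⟩⟩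
  · obtain ⟨U, a, ha, ha'⟩ := X.property.atlas
    obtain ⟨u, hu⟩ := Groth.Agent.AlgSpLib.surjective_ofPt ha' x
    exact ⟨U, a, u, ha, hu, Groth.Agent.AlgSpDec.localDim_eq_zero_of_isOpen
      ((Groth.Agent.AlgSpDec.isolated_of_isOpen X.property hp h).1 a u ha hu)⟩
  · rintro ⟨U, a, u, ha, rfl, hd⟩
    obtain ⟨_, _⟩ := Groth.Agent.AlgSpDec.chart_package hp ha
    have h1 := Groth.Agent.AlgSpLib.isOpenMap_ofPt ha _ (Groth.Agent.AlgSpDec.isOpen_singleton_of_localDim_eq_zero hd)
    rwa [Set.image_singleton] at h1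
  · obtain ⟨W, hxW, hW⟩ := Groth.Agent.AlgSpDec.exists_open_of_localDim_eq_zero h
    haveI := Groth.Agent.AlgSpDec.t0Space_points X.property hdec
    exact (Groth.Agent.AlgSpDec.isolated_point X.property hp W.2 hxW
      (fun v hv => (Groth.Agent.AlgSpDec.eq_of_specializes_of_dim_le_zero hW hxW hv.2
        (specializes_iff_mem_closure.2 hv.1)).symm)
      (fun x' hx' => Groth.Agent.AlgSpDec.eq_of_specializes_of_dim_le_zero hW (hx'.mem_open W.2 hxW) hxW hx')).2.1


end Groth.Agent.S10391
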