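import Groth.Statements.S10392
import Groth.Agent.AlgSpDec.PointsLftField
-- import your own Groth.Agent.* helpers here

set_option autoImplicit false
universe u
open CategoryTheory CategoryTheory.Limits AlgebraicGeometry Topology TopologicalSpace
open AlgSp

namespace Groth.Agent.S10392

/-- Let k be a field and X a nonempty algebraic space over k which is locally of finite type. Then (2)
|X| is discrete if and only if (4) dim X = 0, and these imply (3) dim |X| = 0; if X is decent then
(3) implies (2) and (1) |X| finite implies (4). (The published statement asserts (2) ⇔ (3) ⇔ (4) for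
every such X and does not exclude the empty space; for the quotient of the affine line over a field
of characteristic zero by the translation action of the integers, |X| is an infinite set with the
indiscrete topology, so (3) holds while (2) and (4) fail, and for the empty space (2) holds while
dim X = ⊥. The equivalence with local quasi-finiteness of X → Spec k is not part of this row.) -/
theorem result (k : Type u) [Field k] (X : AlgSp.Space (Spec (CommRingCat.of k)))
    (p : X.obj ⟶ (AlgSp.yon (Spec (CommRingCat.of k))).obj (Over.mk (𝟙 _))) (hp : AlgSp.LocP @LocallyOfFiniteType p) [Nonempty (AlgSp.Points X.obj)] :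
    (DiscreteTopology (AlgSp.Points X.obj) ↔ AlgSp.dim X.obj = 0) ∧
      (DiscreteTopology (AlgSp.Points X.obj) → topologicalKrullDim (AlgSp.Points X.obj) = 0) ∧
      (AlgSp.IsDecent X.obj → topologicalKrullDim (AlgSp.Points X.obj) = 0 → DiscreteTopology (AlgSp.Points X.obj)) ∧
      (AlgSp.IsDecent X.obj → Finite (AlgSp.Points X.obj) → AlgSp.dim X.obj = 0) := by
  open Groth.Agent.AlgSpDec in
  have h0 : 0 ≤ AlgSp.dim X.obj := by
    obtain ⟨U, a, ha, ha'⟩ := X.property.atlas
    obtain ⟨u, -⟩ := Groth.Agent.AlgSpLib.surjective_ofPt ha' (Classical.arbitrary _)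
    exact le_trans (WithBot.coe_le_coe.2 (zero_le : (0 : ℕ∞) ≤ Order.coheight u)) (Groth.Agent.AlgSpPts.coheight_le_dim ha u)
  have hd : DiscreteTopology (AlgSp.Points X.obj) → AlgSp.dim X.obj = 0 := by
    intro _
    refine le_antisymm (iSup₂_le fun U a => iSup_le fun ha => ?_) h0
    haveI : DiscreteTopology ↥U.left := discreteTopology_iff_isOpen_singleton.2 fun u =>
      (isolated_of_isOpen X.property hp (isOpen_discrete _)).1 a u ha rfl
    exact topologicalKrullDim_zero_of_discreteTopology _
  refine ⟨⟨hd, fun h => discreteTopology_iff_isOpen_singleton.2 fun x => ?_⟩,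
    fun _ => le_antisymm (topologicalKrullDim_zero_of_discreteTopology _) ?_,
    fun hdec h => discreteTopology_iff_isOpen_singleton.2 fun x => ?_, fun hdec hfin => ?_⟩
  · obtain ⟨U, a, ha, ha'⟩ := X.property.atlas
    obtain ⟨u, rfl⟩ := Groth.Agent.AlgSpLib.surjective_ofPt ha' x
    obtain ⟨_, _⟩ := chart_package hp ha
    have hle : topologicalKrullDim ↥U.left ≤ AlgSp.dim X.obj := le_iSup₂_of_le U a (le_iSup_of_le ha le_rfl)
    haveI := IsLocallyArtinian.of_topologicalKrullDim_le_zero (X := U.left) (hle.trans h.le)
    have h1 := Groth.Agent.AlgSpLib.isOpenMap_ofPt ha _ (isOpen_discrete ({u} : Set ↥U.left))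
    rwa [Set.image_singleton] at h1
  · haveI : Nonempty (TopologicalSpace.IrreducibleCloseds (AlgSp.Points X.obj)) :=
      ⟨⟨closure {Classical.arbitrary _}, isIrreducible_singleton.closure, isClosed_closure⟩⟩
    exact Order.krullDim_nonneg
  · haveI := t0Space_points X.property hdec
    have hW : topologicalKrullDim (Set.univ : Set (AlgSp.Points X.obj)) ≤ 0 :=
      (topologicalKrullDim_subspace_le _ _).trans h.le
    exact (isolated_point X.property hp isOpen_univ (Set.mem_univ x)
      (fun v hv => (eq_of_specializes_of_dim_le_zero hW (Set.mem_univ x) hv.2 (specializes_iff_mem_closure.2 hv.1)).symm)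
      (fun x' hx' => eq_of_specializes_of_dim_le_zero hW (Set.mem_univ x') (Set.mem_univ x) hx')).2.1
  · refine le_antisymm ((Groth.Agent.AlgSpPts.dim_le_iff).2 fun U a ha u => ?_) h0
    obtain ⟨_, _⟩ := chart_package hp ha
    obtain ⟨A, hA, huA, -⟩ := exists_isAffineOpen_mem_and_subset (U := (⊤ : U.left.Opens)) (x := u) trivial
    let W : Over (Spec (CommRingCat.of k)) := Over.mk (A.ι ≫ U.hom)
    let j : W ⟶ U := Over.homMk A.ι rfl
    let w : ↥W.left := ⟨u, huA⟩
    have hc : RepWith @Etale ((yon _).map j ≫ a) := Groth.Agent.AlgSpLib.repWith_comp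
      ((repWith_yon_map_iff _ _).2 (inferInstanceAs (Etale A.ι))) ha
    obtain ⟨_, _⟩ := chart_package hp hc
    haveI : IsAffine W.left := hA
    haveI : Finite ↥W.left := Set.finite_univ_iff.1 <|
      (Set.toFinite (Set.univ : Set (AlgSp.Points X.obj))).preimage' (fun x _ => finite_fibre X.property hdec hc x)
    haveI : JacobsonSpace ↥W.left := ‹_›
    haveI : DiscreteTopology ↥W.left := inferInstance
    rw [show Order.coheight u = Order.coheight w from Groth.Agent.AlgSpPts.coheight_eq_of_etale A.ι w ▸ rfl]
    exact le_of_le_of_eq (le_refl _) (congrArg WithBot.some (Order.coheight_eq_zero.2 fun v hv =>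
      le_of_eq (Specializes.eq hv)))


end Groth.Agent.S10392
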