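import Groth.Statements.S10405
import Groth.Agent.AlgSpDec2.PuncturedGen
import Groth.Agent.AlgSpDec.GenFiniteDense
-- import your own Groth.Agent.* helpers here

set_option autoImplicit false
universe u

set_option backward.isDefEq.respectTransparency false
set_option backward.isDefEq.respectTransparency.types false
open CategoryTheory CategoryTheory.Limits AlgebraicGeometry Topology TopologicalSpace
open AlgSp

namespace Groth.Agent.S10405

open AlgSp Groth.Agent.AlgSpLib Groth.Agent.AlgSpPts Groth.Agent.AlgSpDec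

/-- Let S be a scheme, X an algebraic space over S which is decent and locally Noetherian, and x ∈ |X|.
Then the set W of proper generizations of x (points x' ≠ x with x' ⤳ x), with the topology induced
from |X|, is a topological space which is Noetherian, spectral, sober and Jacobson. -/
theorem result {S : Scheme.{u}} (X : AlgSp.Space S)
    (hd : AlgSp.IsDecent X.obj) (hN : AlgSp.IsLocNoethSp X.obj) (x : AlgSp.Points X.obj) :
    NoetherianSpace {x' : AlgSp.Points X.obj // x' ⤳ x ∧ x' ≠ x} ∧
      SpectralSpace {x' : AlgSp.Points X.obj // x' ⤳ x ∧ x' ≠ x} ∧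
      QuasiSober {x' : AlgSp.Points X.obj // x' ⤳ x ∧ x' ≠ x} ∧
      JacobsonSpace {x' : AlgSp.Points X.obj // x' ⤳ x ∧ x' ≠ x} := by
  haveI hT0 : T0Space (Points X.obj) := t0Space_points X.property hd
  haveI hSob : QuasiSober (Points X.obj) := quasiSober_points X.property hd
  obtain ⟨T, c, hc, hcs, hT⟩ := hN
  obtain ⟨t, rfl⟩ := surjective_ofPt hcs x
  obtain ⟨U, ι, u, hU, -, hu, ha⟩ := exists_affine_restrict hc t
  haveI := hU
  haveI : IsLocallyNoetherian U.left := isLocallyNoetherian_chart ha ⟨T, c, hc, hcs, hT⟩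
  rw [← hu, ← ofPt_comp ι c u]
  generalize (yon S).map ι ≫ c = a at ha ⊢
  let R := U.left.presheaf.stalk u
  let φ := U.left.fromSpecStalk u
  have hφ : IsEmbedding φ := Scheme.Hom.isEmbedding φ
  have hφc : φ (IsLocalRing.closedPoint R) = u := Scheme.fromSpecStalk_closedPoint
  have hφs : ∀ p, φ p ⤳ u := fun p => by
    have h1 : φ p ∈ Set.range φ := ⟨p, rfl⟩
    rwa [Scheme.range_fromSpecStalk] at h1
  have hφne : ∀ p, p ≠ IsLocalRing.closedPoint R → Points.ofPt a (φ p) ≠ Points.ofPt a u := by
    intro p hp he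
    exact hp (hφ.injective ((eq_of_specializes_of_isDecent hd ha he.symm (hφs p)).symm.trans hφc.symm))
  let g : {p : PrimeSpectrum R // p ≠ IsLocalRing.closedPoint R} →
      {x' : Points X.obj // x' ⤳ Points.ofPt a u ∧ x' ≠ Points.ofPt a u} :=
    fun p => ⟨Points.ofPt a (φ p.1), (hφs p.1).map (Points.continuous_ofPt a), hφne p.1 p.2⟩
  have hgc : Continuous g :=
    ((Points.continuous_ofPt a).comp (φ.continuous.comp continuous_subtype_val)).subtype_mk _
  have hliftU : ∀ z : {x' : Points X.obj // x' ⤳ Points.ofPt a u ∧ x' ≠ Points.ofPt a u},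
      ∀ v, v ⤳ u → z.1 ⤳ Points.ofPt a v → ∃ p, φ p.1 ⤳ v ∧ g p = z := by
    intro z v hv hz
    obtain ⟨w, hw, hwz⟩ := exists_specializes_lift_of_isDecent hd ha hz
    obtain ⟨p, rfl⟩ : w ∈ Set.range φ := by
      rw [Scheme.range_fromSpecStalk]
      exact hw.trans hv
    refine ⟨⟨p, ?_⟩, hw, Subtype.ext hwz⟩
    rintro rfl
    rw [hφc] at hwz
    exact z.2.2 hwz.symm
  have hgs : Function.Surjective g := fun z => by
    obtain ⟨p, -, hp⟩ := hliftU z u specializes_rfl z.2.1
    exact ⟨p, hp⟩
  haveI : IsNoetherianRing R := inferInstanceAs (IsNoetherianRing (U.left.presheaf.stalk u))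
  haveI : NoetherianSpace {p : PrimeSpectrum R // p ≠ IsLocalRing.closedPoint R} :=
    Topology.IsInducing.noetherianSpace (i := fun p => p.1) IsInducing.subtypeVal
  haveI : NoetherianSpace {x' : Points X.obj // x' ⤳ Points.ofPt a u ∧ x' ≠ Points.ofPt a u} :=
    noetherianSpace_of_surjective g hgc hgs
  haveI : QuasiSober {x' : Points X.obj // x' ⤳ Points.ofPt a u ∧ x' ≠ Points.ofPt a u} := by
    refine ⟨fun {Z} hZ hZc => ?_⟩
    have hη := (hZ.image Subtype.val continuous_subtype_val.continuousOn).isGenericPoint_genericPoint_closure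
    set η := (hZ.image Subtype.val continuous_subtype_val.continuousOn).genericPoint
    obtain ⟨t, ht⟩ := hZ.nonempty
    have hηt : η ⤳ t.1 := hη.specializes (subset_closure ⟨t, ht, rfl⟩)
    have hηx : η ≠ Points.ofPt a u := fun he => t.2.2 (t.2.1.antisymm ((specializes_of_eq he.symm).trans hηt)).eq
    refine ⟨⟨η, hηt.trans t.2.1, hηx⟩, ?_⟩
    rw [isGenericPoint_iff_specializes]
    intro y
    rw [subtype_specializes_iff, hη.specializes_iff_mem, ← closure_subtype, hZc.closure_eq]
  haveI := Groth.Agent.AlgSpDec2.PuncturedGen.jacobsonSpace_punct R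
  refine ⟨inferInstance, Groth.Agent.AlgSpDec2.PuncturedGen.spectralSpace_of_noetherian, inferInstance,
    Groth.Agent.AlgSpDec2.PuncturedGen.jacobsonSpace_of_lift g hgc hgs (fun z => ?_) (fun p q he hpq => ?_)
      (fun z q hz => ?_)⟩
  · obtain ⟨P, hP, -, hq⟩ := hd z.1
    have h1 : (Points.ofPt a ⁻¹' {z.1}).Finite := hP ▸ finite_fibre_of_repWith ha P hq
    let e : {p : PrimeSpectrum R // p ≠ IsLocalRing.closedPoint R} → ↥U.left := fun p => φ p.1
    have he : Function.Injective e := fun p q h => Subtype.ext (hφ.injective h)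
    refine (h1.preimage he.injOn).subset ?_
    intro p hp
    exact (congrArg Subtype.val (Set.mem_singleton_iff.1 hp) : _)
  · refine Subtype.ext (hφ.injective ?_)
    exact (eq_of_specializes_of_isDecent hd ha (congrArg Subtype.val he).symm
      ((hpq.map continuous_subtype_val).map φ.continuous)).symm
  · obtain ⟨p, hp, hpz⟩ := hliftU z (φ q.1) (hφs q.1) (hz.map continuous_subtype_val)
    exact ⟨p, (subtype_specializes_iff _ _).2 (hφ.isInducing.specializes_iff.1 hp), hpz⟩

end Groth.Agent.S10405
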