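import Groth.Statements.S10406
import Groth.Agent.AlgSpDec.AffineRep
import Groth.Agent.AlgSpPts.Univ
-- import your own Groth.Agent.* helpers here

set_option autoImplicit false
universe u
open CategoryTheory CategoryTheory.Limits AlgebraicGeometry Topology TopologicalSpace
open AlgSp

namespace Groth.Agent.S10406

/-- Let S be a scheme, Y and X decent, locally Noetherian algebraic spaces over S, and f : Y ⟶ X a
surjective finite morphism, and let δ : |X| → ℤ be a function. Suppose δ ∘ |f| is a dimension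
function on |Y| (it decreases strictly along nontrivial specializations and by exactly one along
immediate specializations). Then δ is a dimension function on |X|. -/
theorem result {S : Scheme.{u}} {X Y : AlgSp.Space S} (f : Y ⟶ X)
    (hf : AlgSp.IsFiniteMor f.hom) (hs : AlgSp.IsSurjectiveMor f.hom) (hX : AlgSp.IsDecent X.obj)
    (hY : AlgSp.IsDecent Y.obj) (hXN : AlgSp.IsLocNoethSp X.obj) (hYN : AlgSp.IsLocNoethSp Y.obj)
    (δ : AlgSp.Points X.obj → ℤ)
    (hδ : (∀ a b : AlgSp.Points Y.obj, a ⤳ b → a ≠ b → (δ ∘ AlgSp.Points.map f.hom) b < (δ ∘ AlgSp.Points.map f.hom) a ∧ ((∀ c : AlgSp.Points Y.obj, a ⤳ c → c ⤳ b → c = a ∨ c = b) → (δ ∘ AlgSp.Points.map f.hom) a = (δ ∘ AlgSp.Points.map f.hom) b + 1))) :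
    (∀ a b : AlgSp.Points X.obj, a ⤳ b → a ≠ b → δ b < δ a ∧ ((∀ c : AlgSp.Points X.obj, a ⤳ c → c ⤳ b → c = a ∨ c = b) → δ a = δ b + 1)) := by
  have hcl : IsClosedMap (AlgSp.Points.map f.hom) :=
    Groth.Agent.AlgSpPts.isClosedMap_map ⟨(Groth.Agent.AlgSpDec.isFiniteMor_iff_repWith.1 hf).rep,
      fun _ _ g fst snd sq => by
        have : IsFinite snd.left := (Groth.Agent.AlgSpDec.isFiniteMor_iff_repWith.1 hf).property g fst snd sq
        change UniversallyClosed snd.left
        infer_instance⟩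
  intro a b hab hne
  obtain ⟨a', rfl⟩ := hs a
  obtain ⟨b', hb', rfl⟩ : ∃ b', a' ⤳ b' ∧ AlgSp.Points.map f.hom b' = b :=
    hcl.specializingMap hab
  obtain ⟨h1, h2⟩ := hδ a' b' hb' fun h => hne (h ▸ rfl)
  refine ⟨h1, fun him => h2 fun c hc1 hc2 => ?_⟩
  have heq : ∀ p q : AlgSp.Points Y.obj, p ⤳ q → AlgSp.Points.map f.hom p = AlgSp.Points.map f.hom q → p = q := by
    intro p q hpq h
    by_contra hpne
    exact ((hδ p q hpq hpne).1).ne (congrArg δ h.symm)
  rcases him _ (hc1.map (AlgSp.Points.continuous_map f.hom)) (hc2.map (AlgSp.Points.continuous_map f.hom)) with h | h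
  · exact Or.inl (heq a' c hc1 h.symm).symm
  · exact Or.inr (heq c b' hc2 h)

end Groth.Agent.S10406
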