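import Groth.Statements.S10410
import Groth.Agent.AlgSpDec.MonoCriterion
-- import your own Groth.Agent.* helpers here

set_option autoImplicit false
universe u
open CategoryTheory CategoryTheory.Limits AlgebraicGeometry Topology TopologicalSpace
open AlgSp

open Groth.Agent.AlgSpDec Groth.Agent.AlgSpLib Groth.Agent.AlgSpPts

namespace Groth.Agent.S10410

/-- Let X be an algebraic space over a scheme S, x ∈ |X|, and φ : U ⟶ X etale with U a scheme. Then x
lies in the image of |U| and the fibres of |U| → |X| and |U ×_X U| → |X| over x are finite, if and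
only if x is represented by a monomorphism Spec k ⟶ X such that Spec k ×_X U is a nonempty scheme
finite over k. -/
theorem result {S : Scheme.{u}} (X : AlgSp.Space S) (x : AlgSp.Points X.obj)
    {U : Over S} (φ : (AlgSp.yon S).obj U ⟶ X.obj) (hφ : AlgSp.RepWith @Etale φ) :
    (x ∈ Set.range (AlgSp.Points.ofPt φ) ∧ (AlgSp.Points.ofPt φ ⁻¹' {x}).Finite ∧
        ∀ (R : Over S) (s t : R ⟶ U), IsPullback ((AlgSp.yon S).map t) ((AlgSp.yon S).map s) φ φ →
          (AlgSp.Points.ofPt ((AlgSp.yon S).map t ≫ φ) ⁻¹' {x}).Finite) ↔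
      ∃ p : AlgSp.FieldPt X.obj, AlgSp.Points.mk p = x ∧ Mono p.toHom ∧
        ∀ (T : Over S) (c : T ⟶ p.pt) (snd : (AlgSp.yon S).obj T ⟶ (AlgSp.yon S).obj U),
          IsPullback ((AlgSp.yon S).map c) snd p.toHom φ → Nonempty ↥T.left ∧ IsFinite c.left := by
  constructor
  · rintro ⟨⟨u, hu⟩, hU, hR⟩
    subst hu
    have sqR := hφ.rep.isPullback' φ
    obtain ⟨p, hp, hm⟩ := exists_mono_of_finite_pair X.property hφ u u rfl sqR
      ((hR _ _ _ sqR).subset (by
        rintro r ⟨-, hr⟩
        simp only [Set.mem_preimage, Set.mem_singleton_iff]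
        rw [ofPt_comp, hr]))
    refine ⟨p, hp, hm, fun T c snd sq => ?_⟩
    obtain ⟨sn, rfl⟩ := (AlgSp.yon S).map_surjective snd
    have : Mono ((AlgSp.yon S).map sn) := PullbackCone.mono_snd_of_is_pullback_of_mono sq.isLimit
    have : Mono sn := (AlgSp.yon S).mono_of_mono_map this
    have : Mono sn.left := inferInstanceAs (Mono ((Over.forget S).map sn))
    have : Etale c.left := hφ.property _ _ _ sq.flip
    obtain ⟨w, -, -⟩ := exists_ofPt_of_eq sq (u := IsLocalRing.closedPoint p.K) (v := u) (by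
      rw [AlgSp.Points.ofPt_toHom, hp])
    have : Finite ↥T.left := by
      have h1 := hU.to_subtype
      refine Finite.of_injective (fun z => (⟨sn.left z, ?_⟩ : AlgSp.Points.ofPt φ ⁻¹' {AlgSp.Points.ofPt φ u}))
        fun z z' h => sn.left.injective (congrArg Subtype.val h)
      simp only [Set.mem_preimage, Set.mem_singleton_iff]
      rw [← ofPt_comp, ← sq.w, ofPt_comp, AlgSp.Points.ofPt_toHom, hp]
    exact ⟨⟨w⟩, isFinite_of_etale_field (K := p.K) c.left⟩
  · rintro ⟨p, rfl, hm, hT⟩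
    let T := hφ.rep.pullback p.toHom
    let T₁ : T ⟶ U := hφ.rep.fst' p.toHom
    let T₂ : T ⟶ p.pt := hφ.rep.snd p.toHom
    have sqT : IsPullback ((AlgSp.yon S).map T₁) ((AlgSp.yon S).map T₂) φ p.toHom := hφ.rep.isPullback' p.toHom
    obtain ⟨⟨w⟩, hfin⟩ := hT T T₂ _ sqT.flip
    have : Finite ↥T.left := finite_of_isFinite_field (K := p.K) T₂.left
    have hU : (AlgSp.Points.ofPt φ ⁻¹' {AlgSp.Points.mk p}).Finite := by
      refine (Set.finite_range T₁.left).subset fun v hv => ?_
      obtain ⟨z, hz, -⟩ := exists_ofPt_of_eq sqT (u := v) (v := IsLocalRing.closedPoint p.K) (by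
        rw [AlgSp.Points.ofPt_toHom]; exact hv)
      exact ⟨z, hz⟩
    refine ⟨⟨T₁.left w, ?_⟩, hU, fun R s t sq => ?_⟩
    · rw [← ofPt_comp, sqT.w, ofPt_comp, AlgSp.Points.ofPt_toHom]
    · refine ((hU.prod hU).biUnion fun uu huu => finite_pair_fibre_of_mono p X.property hφ uu.1 uu.2
        (huu : uu ∈ _ ×ˢ _).1 sq).subset ?_
      intro r hr
      simp only [Set.mem_preimage, Set.mem_singleton_iff] at hr
      refine Set.mem_biUnion (x := (s.left r, t.left r)) ⟨?_, ?_⟩ ⟨rfl, rfl⟩
      · change AlgSp.Points.ofPt φ (s.left r) = _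
        rw [← ofPt_comp, ← sq.w]; exact hr
      · change AlgSp.Points.ofPt φ (t.left r) = _
        rw [← ofPt_comp]; exact hr


end Groth.Agent.S10410
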