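import Groth.Statements.S10411
-- import your own Groth.Agent.* helpers here
import Groth.Agent.AlgSpDec.FibreAffineQuot
import Groth.Agent.QuotLib.CatModuli

set_option autoImplicit false
universe u
open CategoryTheory CategoryTheory.Limits AlgebraicGeometry Topology TopologicalSpace
open AlgSp

namespace Groth.Agent.S10411
open Groth.Agent Groth.Agent.AlgSpLib

/-- Let S be a scheme, X and Y algebraic spaces over S, X ⟶ Y a surjective finite locally free morphism,
and y ∈ |Y|. Then y lies in the schematic locus of Y (some open subspace of Y containing y is a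
scheme) if and only if there is an affine open subscheme U ⊆ X containing the preimage of y. -/
theorem result {S : Scheme.{u}} {X Y : AlgSp.Space S} (f : X ⟶ Y)
    (hf : AlgSp.IsFinLocFreeMor f.hom) (hs : AlgSp.RepWith @Surjective f.hom) (y : AlgSp.Points Y.obj) :
    (∃ (Y' : AlgSp.Space S) (j : Y' ⟶ Y), AlgSp.RepWith @IsOpenImmersion j.hom ∧ Y'.obj.obj.IsRepresentable ∧
        y ∈ Set.range (AlgSp.Points.map j.hom)) ↔
      ∃ (U : Over S) (a : (AlgSp.yon S).obj U ⟶ X.obj), IsAffine U.left ∧ AlgSp.RepWith @IsOpenImmersion a ∧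
        AlgSp.Points.map f.hom ⁻¹' {y} ⊆ Set.range (AlgSp.Points.ofPt a) := by
  have hflat : RepWith @Flat f.hom := repWith_mono (fun _ _ g (hg : Mor2.IsFinLocFree g) => hg.2.1) _ hf
  have hlp : RepWith @LocallyOfFinitePresentation f.hom :=
    repWith_mono (fun _ _ g (hg : Mor2.IsFinLocFree g) => hg.2.2) _ hf
  have hfin : RepWith @IsFinite f.hom := repWith_mono (fun _ _ g (hg : Mor2.IsFinLocFree g) => hg.1) _ hf
  constructor
  · rintro ⟨Y', j, hj, hrep, hy⟩
    obtain ⟨T, ⟨e⟩⟩ := Groth.Agent.QuotLib.exists_iso_yon hrep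
    refine AlgSpDec.exists_affine_of_subscheme X.property f.hom hfin (e.hom ≫ j.hom)
      (MorphismProperty.RespectsIso.precomp _ e.hom _ hj) y ?_
    obtain ⟨w, hw⟩ := hy
    exact ⟨Points.map e.inv w, by rw [← Points.map_comp, e.inv_hom_id_assoc, hw]⟩
  · rintro ⟨U, a, hU, ha, hy⟩
    haveI := hU
    obtain ⟨T, j, hj, hyj⟩ := AlgSpDec.exists_open_subscheme_of_fibre_affine X.property Y.property f.hom
      hflat hlp hfin hs a ha y hy
    exact ⟨⟨(yon S).obj T, IsAlgSpace.yon_obj T⟩, ObjectProperty.homMk j, hj,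
      AlgSpDec.isRepresentable_of_iso (Iso.refl _), hyj⟩

end Groth.Agent.S10411
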