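import Groth.Statements.S10412
import Groth.Agent.AlgSpDec.MonoCriterion2
-- import your own Groth.Agent.* helpers here

set_option autoImplicit false
universe u
open CategoryTheory CategoryTheory.Limits AlgebraicGeometry Topology TopologicalSpace
open AlgSp

open Groth.Agent.AlgSpDec Groth.Agent.AlgSpLib Groth.Agent.AlgSpPts

namespace Groth.Agent.S10412

/-- For an algebraic space X over a scheme S the following are equivalent: (1) X has a Zariski covering
by open subspaces X_i, each X_i admitting a surjective, etale and quasi-compact morphism U_i ⟶ X_i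
with U_i a scheme; (2) there are etale morphisms U_i ⟶ X from schemes, jointly surjective, such that
for each i both projection morphisms from U_i ×_X U_i to U_i are quasi-compact. -/
theorem result {S : Scheme.{u}} (X : AlgSp.Space S) :
    (∃ (ι : Type u) (Xi : ι → AlgSp.Space S) (j : ∀ i, Xi i ⟶ X) (U : ι → Over S)
        (a : ∀ i, (AlgSp.yon S).obj (U i) ⟶ (Xi i).obj),
        AlgSp.IsZarCover (fun i => (Xi i).obj) (fun i => (j i).hom) ∧
          ∀ i, AlgSp.RepWith @Etale (a i) ∧ AlgSp.RepWith @Surjective (a i) ∧ AlgSp.RepWith @QuasiCompact (a i)) ↔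
      ∃ (ι : Type u) (U : ι → Over S) (φ : ∀ i, (AlgSp.yon S).obj (U i) ⟶ X.obj),
        (∀ i, AlgSp.RepWith @Etale (φ i)) ∧
          (∀ x : AlgSp.Points X.obj, ∃ (i : ι) (v : ↥(U i).left), AlgSp.Points.ofPt (φ i) v = x) ∧
          ∀ (i : ι) (R : Over S) (s t : R ⟶ U i), IsPullback ((AlgSp.yon S).map t) ((AlgSp.yon S).map s) (φ i) (φ i) →
            QuasiCompact s.left ∧ QuasiCompact t.left := by
  constructor
  · rintro ⟨ι, Xi, j, U, a, ⟨hj, hcov⟩, ha⟩
    refine ⟨ι, U, fun i => a i ≫ (j i).hom, fun i => repWith_comp (ha i).1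
      (repWith_mono (fun _ _ g hg => by
        have : IsOpenImmersion g := hg
        exact (inferInstance : Etale g)) _ (hj i)), fun x => ?_, fun i R s t sq => ?_⟩
    · obtain ⟨i, y, rfl⟩ := hcov x
      obtain ⟨v, rfl⟩ := surjective_ofPt (ha i).2.1 y
      exact ⟨i, v, (AlgSp.Points.map_ofPt _ _ _).symm⟩
    · have : Mono (j i).hom := mono_of_openImm (hj i)
      have sq' : IsPullback ((AlgSp.yon S).map t) ((AlgSp.yon S).map s) (a i) (a i) := by
        have hw : (AlgSp.yon S).map t ≫ a i = (AlgSp.yon S).map s ≫ a i :=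
          (cancel_mono (j i).hom).1 (by rw [Category.assoc, Category.assoc]; exact sq.w)
        refine ⟨⟨hw⟩, ⟨PullbackCone.IsLimit.mk _ (fun c => sq.lift c.fst c.snd
          (by rw [reassoc_of% c.condition])) (fun c => sq.lift_fst _ _ _) (fun c => sq.lift_snd _ _ _)
          fun c m h1 h2 => sq.hom_ext (h1.trans (sq.lift_fst _ _ _).symm) (h2.trans (sq.lift_snd _ _ _).symm)⟩⟩
      exact ⟨(ha i).2.2.property _ _ _ sq', (ha i).2.2.property _ _ _ sq'.flip⟩
  · rintro ⟨ι, U, φ, hφ, hcov, hqc⟩
    choose X' j a hX' hj haj hr hae has haq using fun i =>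
      exists_chart_of_qc_kernelPair X.property (hφ i) (fun R s t sq => (hqc i R s t sq).1)
    refine ⟨ι, fun i => ⟨X' i, hX' i⟩, fun i => ObjectProperty.homMk (j i), U, a, ⟨hj, fun x => ?_⟩,
      fun i => ⟨hae i, has i, haq i⟩⟩
    obtain ⟨i, v, hv⟩ := hcov x
    exact ⟨i, (hr i).symm ▸ ⟨v, hv⟩⟩


end Groth.Agent.S10412
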