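import Groth.Statements.S10414
import Groth.Agent.AlgSpDec.MonoPoint
-- import your own Groth.Agent.* helpers here

set_option autoImplicit false
universe u
open CategoryTheory CategoryTheory.Limits AlgebraicGeometry Topology TopologicalSpace
open AlgSp

namespace Groth.Agent.S10414

/-- Let S be a scheme, X an algebraic space over S, x ∈ |X|, and Z_x ⟶ X the residual space of x (a
monomorphism with image {x} from a space which admits a locally finitely presented, flat, surjective
morphism whose source is the spectrum of a field). Then Z_x is isomorphic to Spec k' for some field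
k' if and only if the point x is represented by some monomorphism Spec k ⟶ X. (The decent case, in
which the right side holds at every point, is not part of this row.) -/
theorem result {S : Scheme.{u}} (X : AlgSp.Space S) (x : AlgSp.Points X.obj)
    {Z : AlgSp.Space S} (i : Z ⟶ X) [Mono i.hom] (hi : Set.range (AlgSp.Points.map i.hom) = {x})
    (hZ : ∃ (k : Type u) (_ : Field k) (str : Spec (CommRingCat.of k) ⟶ S) (p : (AlgSp.yon S).obj (Over.mk str) ⟶ Z.obj),
        AlgSp.LocP @LocallyOfFinitePresentation p ∧ AlgSp.LocP @Flat p ∧ AlgSp.IsSurjectiveMor p) :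
    (∃ (k : Type u) (_ : Field k) (str : Spec (CommRingCat.of k) ⟶ S), Nonempty (Z.obj ≅ (AlgSp.yon S).obj (Over.mk str))) ↔
      ∃ p : AlgSp.FieldPt X.obj, AlgSp.Points.mk p = x ∧ Mono p.toHom := by
  obtain ⟨k, hk, str, q, hq₁, hq₂, hq₃⟩ := hZ
  obtain ⟨hr, hN, hne, hsub⟩ := AlgSpDec.flat_lfp_cover_package Z.property q hq₁ hq₂ hq₃
  constructor
  · rintro ⟨K, _, σ, ⟨e⟩⟩
    let g := e.inv ≫ i.hom
    refine ⟨⟨K, σ, (J S).uliftYonedaEquiv g⟩, ?_, ?_⟩
    · let P₀ : AlgSp.FieldPt X.obj := ⟨K, σ, (J S).uliftYonedaEquiv g⟩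
      have h : Points.ofPt P₀.toHom (IsLocalRing.closedPoint K) = Points.mk P₀ :=
        AlgSp.Points.ofPt_toHom P₀ _
      have hg : P₀.toHom = g := Equiv.symm_apply_apply _ g
      rw [hg, ← Points.map_ofPt] at h
      have : Points.mk P₀ ∈ Set.range (Points.map i.hom) := ⟨_, h⟩
      rw [hi] at this
      exact this
    · change Mono (((J S).uliftYonedaEquiv).symm ((J S).uliftYonedaEquiv g))
      rw [Equiv.symm_apply_apply]
      infer_instance
  · rintro ⟨p, rfl, hm⟩
    have hP : AlgSp.IsAlgSpace (pullback i.hom p.toHom) :=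
      AlgSpLib.isAlgSpace_pullback Z.property (IsAlgSpace.yon_obj _) X.property _ _
    obtain ⟨z₀, hz₀⟩ : Points.mk p ∈ Set.range (Points.map i.hom) := hi ▸ rfl
    obtain ⟨z, -, -⟩ := AlgSpLib.exists_point_of_isPullback (IsPullback.of_hasPullback i.hom p.toHom)
      (x := z₀) (y := Points.ofScheme p.pt (IsLocalRing.closedPoint p.K)) (by
        rw [hz₀, ← Points.ofPt_eq_map_ofScheme]
        exact (AlgSp.Points.ofPt_toHom p _).symm)
    have := AlgSpDec.isIso_of_mono_field hP (pullback.snd i.hom p.toHom) z
    let c := inv (pullback.snd i.hom p.toHom) ≫ pullback.fst i.hom p.toHom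
    have hc : c ≫ i.hom = p.toHom := by
      simp only [c, Category.assoc, pullback.condition, IsIso.inv_hom_id_assoc]
    have : Mono (c ≫ i.hom) := hc ▸ hm
    have : Mono c := mono_of_mono c i.hom
    have := AlgSpDec.isIso_of_mono_of_point (IsAlgSpace.yon_obj _) Z.property hr hN c
      (Points.ofScheme p.pt (IsLocalRing.closedPoint p.K))
    exact ⟨p.K, inferInstance, p.str, ⟨(asIso c).symm⟩⟩


end Groth.Agent.S10414
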