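import Groth.Statements.S10416
import Groth.Agent.AlgSpDec.ResidualFactor
import Groth.Agent.AlgSpDec.RedImage
-- import your own Groth.Agent.* helpers here

set_option autoImplicit false
universe u
open CategoryTheory CategoryTheory.Limits AlgebraicGeometry Topology TopologicalSpace
open AlgSp

namespace Groth.Agent.S10416

/-- Let S be a scheme, X a locally Noetherian algebraic space over S, x ∈ |X|, and i : Z_x ⟶ X the
residual space at x. Then x is closed in |X| if and only if i is a closed immersion. -/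
theorem result {S : Scheme.{u}} {X Z : AlgSp.Space S}
    (hX : AlgSp.IsLocNoethSp X.obj) (x : AlgSp.Points X.obj) (i : Z ⟶ X) [Mono i.hom]
    (hi : Set.range (AlgSp.Points.map i.hom) = {x}) (hZ : ∃ (k : Type u) (_ : Field k) (str : Spec (CommRingCat.of k) ⟶ S) (p : (AlgSp.yon S).obj (Over.mk str) ⟶ Z.obj),
        AlgSp.LocP @LocallyOfFinitePresentation p ∧ AlgSp.LocP @Flat p ∧ AlgSp.IsSurjectiveMor p) :
    IsClosed ({x} : Set (AlgSp.Points X.obj)) ↔ AlgSp.RepWith @IsClosedImmersion i.hom := by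
  obtain ⟨k, hk, str, q, hq₁, hq₂, hq₃⟩ := hZ
  obtain ⟨hr, hN, hne, hsub⟩ := AlgSpDec.flat_lfp_cover_package Z.property q hq₁ hq₂ hq₃
  constructor
  · intro hx
    obtain ⟨Z', j, hj, hrange, hred⟩ := AlgSpDec.exists_reduced_induced X.property hx
    have := AlgSpDec.mono_of_closedImmersion hj
    obtain ⟨z₀, hz₀⟩ : x ∈ Set.range (Points.map j) := hrange.symm ▸ rfl
    obtain ⟨g, hg⟩ := AlgSpDec.exists_factor_reduced hr i.hom hj (by rw [hi, hrange])
    obtain ⟨W, c, hc, hc', hW⟩ := hred
    have : IsReduced W.left := hW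
    obtain ⟨g', hg'⟩ := AlgSpDec.exists_factor_residual X.property hX Z.property i.hom
      (x := x) (hi ▸ rfl) (c ≫ j) fun w => by
        rw [← Points.map_ofPt]
        exact hrange.le ⟨_, rfl⟩
    obtain ⟨r, hr'⟩ := AlgSpDec.exists_factor_of_cover hc hc' j ⟨g', hg'⟩
    have h1 : g ≫ r = 𝟙 Z.obj := (cancel_mono i.hom).1 (by rw [Category.assoc, hr', hg, Category.id_comp])
    have h2 : r ≫ g = 𝟙 Z'.obj := (cancel_mono j).1 (by rw [Category.assoc, hg, hr', Category.id_comp])
    have : IsIso g := ⟨r, h1, h2⟩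
    rw [← hg]
    exact AlgSpLib.repWith_comp (AlgSpLib.repWith_of_isIso _ g) hj
  · intro h
    rw [← hi]
    exact (AlgSpPts.isClosedMap_map (AlgSpLib.repWith_mono
      (fun _ _ e (he : IsClosedImmersion e) => (inferInstance : UniversallyClosed e)) _ h)).isClosed_range


end Groth.Agent.S10416
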