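import Groth.Statements.S10417
import Groth.Agent.AlgSpDec2.FibreTopo
-- import your own Groth.Agent.* helpers here

set_option autoImplicit false
universe u

set_option backward.isDefEq.respectTransparency false
set_option backward.isDefEq.respectTransparency.types false
open CategoryTheory CategoryTheory.Limits AlgebraicGeometry Topology TopologicalSpace
open AlgSp

namespace Groth.Agent.S10417

open AlgSp Groth.Agent.AlgSpLib Groth.Agent.AlgSpPts Groth.Agent.AlgSpDec Groth.Agent.AlgSpDec2.FibreTopo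

/-- Let W = X ×_Y Z be a fibre product of algebraic spaces over a scheme S with projections p, q and let
x ∈ |X|, z ∈ |Z| lie over the same point of |Y|. If f : X ⟶ Y is of finite type and quasi-finite at
x, then the set of points of |W| mapping to x and to z is finite. -/
theorem result {S : Scheme.{u}} {X Y Z W : AlgSp.Space S} (f : X ⟶ Y)
    (g : Z ⟶ Y) (p : W ⟶ X) (q : W ⟶ Z) (hW : IsPullback p.hom q.hom f.hom g.hom) (x : AlgSp.Points X.obj)
    (z : AlgSp.Points Z.obj) (hxz : AlgSp.Points.map f.hom x = AlgSp.Points.map g.hom z)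
    (hft : AlgSp.IsFiniteTypeMor f.hom) (hf : AlgSp.HasAtMor (fun U _ h u => ∃ W : U.Opens, u ∈ W ∧ LocallyQuasiFinite (W.ι ≫ h) ∧ LocallyOfFiniteType (W.ι ≫ h)) f.hom x) :
    {w : AlgSp.Points W.obj | AlgSp.Points.map p.hom w = x ∧ AlgSp.Points.map q.hom w = z}.Finite := by
  obtain ⟨r, hr⟩ := Points.mk_surjective z
  let k : FieldPt Y.obj := r.map g.hom
  haveI : Subsingleton ↥k.pt.left := inferInstanceAs (Subsingleton (PrimeSpectrum k.K))
  haveI : IsLocallyNoetherian k.pt.left := inferInstanceAs (IsLocallyNoetherian (Spec (CommRingCat.of k.K)))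
  haveI : JacobsonSpace ↥k.pt.left := inferInstanceAs (JacobsonSpace (PrimeSpectrum k.K))
  haveI : CompactSpace ↥k.pt.left := inferInstanceAs (CompactSpace (PrimeSpectrum k.K))
  haveI : IsAffine k.pt.left := inferInstanceAs (IsAffine (Spec (CommRingCat.of k.K)))
  have sq := IsPullback.of_hasPullback f.hom k.toHom
  have hP := isAlgSpace_of_isPullback sq X.property (IsAlgSpace.yon_obj k.pt) Y.property
  have hsnd := locP_of_isPullback sq X.property Y.property (IsAlgSpace.yon_obj k.pt) hft.1
  obtain ⟨U, a, ha, has, hU⟩ := hft.2 (IsAlgSpace.yon_obj k.pt) (AlgSpLib.isQuasiCompactSp_yon k.pt) k.toHom _ _ sq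
  haveI : CompactSpace ↥U.left := hU
  obtain ⟨c, w, hc⟩ := exists_hom hsnd ha
  haveI := hc
  haveI : QuasiCompact c.left := HasAffineProperty.iff_of_isAffine.2 ‹CompactSpace ↥U.left›
  have e : k.toHom = r.toHom ≫ g.hom := FieldPt.toHom_map g.hom r
  let τ : pullback f.hom k.toHom ⟶ W.obj :=
    hW.lift (pullback.fst f.hom k.toHom) (pullback.snd f.hom k.toHom ≫ r.toHom) (by
      rw [Category.assoc, ← e]; exact pullback.condition)
  have sqτ : IsPullback τ (pullback.snd f.hom k.toHom) q.hom r.toHom := by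
    refine IsPullback.of_right (h₁₂ := p.hom) (v₁₃ := f.hom) (h₂₂ := g.hom) ?_ (hW.lift_snd _ _ _) hW.flip.flip
    rw [hW.lift_fst, ← e]
    exact sq
  refine ((FieldFibre.finite_qf_points c.left (IsLocalRing.closedPoint k.K)).image
    (Points.map τ ∘ Points.ofPt a)).subset ?_
  rintro w' ⟨hw1, hw2⟩
  obtain ⟨z', rfl, -⟩ := exists_point_of_isPullback sqτ (x := w') (y := Points.ofScheme r.pt (IsLocalRing.closedPoint r.K))
    (by rw [hw2, ← hr, ← Points.ofPt_toHom r, Points.ofPt_eq_map_ofScheme])
  obtain ⟨u, rfl⟩ := surjective_ofPt has z'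
  refine ⟨u, ⟨Subsingleton.elim _ _, (fibreDimAt_iff c u).2 ((isOpen_iff hsnd ha u).1 ?_)⟩, rfl⟩
  refine (isOpen_iff_qf X.property Y.property hft.1 k sq _).2 ?_
  rw [← hW.lift_fst (pullback.fst f.hom k.toHom) (pullback.snd f.hom k.toHom ≫ r.toHom) (by
      rw [Category.assoc, ← e]; exact pullback.condition), Points.map_comp, hw1]
  exact hf

end Groth.Agent.S10417
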