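import Groth.Statements.S10419
import Groth.Agent.AlgSpDec2.ElemSq
import Groth.Agent.AlgSpDec.LqfQuot
-- import your own Groth.Agent.* helpers here

set_option autoImplicit false
universe u

set_option backward.isDefEq.respectTransparency false
set_option backward.isDefEq.respectTransparency.types false
open CategoryTheory CategoryTheory.Limits AlgebraicGeometry Topology TopologicalSpace
open AlgSp

namespace Groth.Agent.S10419

open AlgSp Groth.Agent.AlgSpLib Groth.Agent.AlgSpPts Groth.Agent.AlgSpDec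

/-- Let S be a scheme with quasi-separated underlying space and X an algebraic space over S that is
quasi-compact and quasi-separated (X quasi-separated over S). There are an integer n and open
subspaces X = U_1 ⊇ U_2 ⊇ ⋯ ⊇ U_{n+1} = ∅ such that, with T_p = U_p ∖ U_{p+1} (reduced induced
structure), there is a quasi-compact separated scheme V_p with a surjective etale f_p : V_p ⟶ U_p
for which f_p⁻¹(T_p) ⟶ T_p is an isomorphism. -/
theorem result {S : Scheme.{u}} [QuasiSeparatedSpace ↥S] (X : AlgSp.Space S)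
    (hqc : AlgSp.IsQuasiCompactSp X.obj) (hqs : AlgSp.IsQuasiSeparatedSp X.obj) :
    ∃ (n : ℕ) (Uo : ℕ → AlgSp.Space S) (j : ∀ p, Uo p ⟶ X) (k : ∀ p, Uo (p + 1) ⟶ Uo p)
      (T : ℕ → AlgSp.Space S) (i : ∀ p, T p ⟶ Uo p),
      (∀ p, AlgSp.RepWith @IsOpenImmersion (j p).hom) ∧ (∀ p, k p ≫ j p = j (p + 1)) ∧ IsIso (j 1) ∧
      IsEmpty (AlgSp.Points (Uo (n + 1)).obj) ∧
      (∀ p, AlgSp.IsRedInduced (Set.range (AlgSp.Points.map (k p).hom))ᶜ (i p).hom) ∧
      (∀ p, 1 ≤ p → ∃ (V : Over S) (f : (AlgSp.yon S).obj V ⟶ (Uo p).obj), V.left.IsSeparated ∧ CompactSpace ↥V.left ∧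
        AlgSp.RepWith @Etale f ∧ AlgSp.RepWith @Surjective f ∧
        ∀ (P : AlgSp.Sp S) (fst : P ⟶ (T p).obj) (snd : P ⟶ (AlgSp.yon S).obj V),
          IsPullback fst snd (i p).hom f → IsIso fst) := by
  classical
  suffices h : ∃ (n : ℕ) (O : ℕ → Set (Points X.obj)), O 0 = Set.univ ∧ O 1 = Set.univ ∧ O (n + 1) = ∅ ∧
      ∀ p, IsOpen (O p) ∧ IsCompact (O p) ∧ Groth.Agent.AlgSpDec2.ElemChain.Step X.obj (O (p + 1)) (O p) by
    obtain ⟨n, O, hO0, hO1, hOn, hO⟩ := h
    choose W j hW hj hr using fun p => exists_open_subspace X.property (hO p).1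
    have hsub : ∀ p, O (p + 1) ⊆ O p := fun p =>
      (Groth.Agent.AlgSpDec2.ElemChain.step_compact (hO p).2.2 (hO (p + 1)).1 (hO (p + 1)).2.1).2.2
    choose k hk using fun p => exists_lift_openImmersion (hW (p + 1)) (hW p) X.property (hj p) (j (p + 1))
      (by rw [hr, hr]; exact hsub p)
    have hcl : ∀ p, IsClosed (Set.range (Points.map (k p)))ᶜ := fun p => by
      have hko := Groth.Agent.AlgSpDec2.ElemChain.repWith_openImm_of_comp (hj p) ((hk p).symm ▸ hj (p + 1))
      exact (isOpenEmbedding_map' (hW p) hko).isOpen_range.isClosed_compl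
    choose T i hi using fun p => exists_reduced_induced (hW p) (hcl p)
    refine ⟨n, fun p => ⟨W p, hW p⟩, fun p => ObjectProperty.homMk (j p), fun p => ObjectProperty.homMk (k p), T,
      fun p => ObjectProperty.homMk (i p), hj, fun p => ObjectProperty.hom_ext _ (hk p), ?_, ?_, hi, fun p hp => ?_⟩
    · obtain ⟨g, hg⟩ := exists_lift_openImmersion X.property (hW 1) X.property (hj 1) (𝟙 X.obj)
        (by rw [hr, hO1]; exact Set.subset_univ _)
      haveI : Mono (j 1) := mono_of_openImmersion (hj 1)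
      refine ⟨⟨ObjectProperty.homMk g, ObjectProperty.hom_ext _ ?_, ObjectProperty.hom_ext _ hg⟩⟩
      show j 1 ≫ g = 𝟙 _
      rw [← cancel_mono (j 1), Category.assoc, hg, Category.comp_id, Category.id_comp]
    · exact Set.range_eq_empty_iff.1 ((hr (n + 1)).trans hOn)
    · obtain ⟨hpo, hpc, V₀, f₀, hV₀, hf₀, hB, hinj⟩ := hO p
      obtain ⟨hqo, hqc, -⟩ := hO (p + 1)
      have hc : ∀ x : O (p + 1), ∃ (U : Over S) (a : (yon S).obj U ⟶ X.obj), IsAffine U.left ∧ RepWith @Etale a ∧
          x.1 ∈ Set.range (Points.ofPt a) ∧ Set.range (Points.ofPt a) ⊆ O (p + 1) := by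
        rintro ⟨x, hx⟩
        obtain ⟨U, a, u, -, ha, rfl⟩ := exists_affine_chart_at X.property x
        obtain ⟨Z, hZ, huZ, hZO⟩ := exists_isAffineOpen_mem_and_subset
          (U := ⟨Points.ofPt a ⁻¹' O (p + 1), hqo.preimage (Points.continuous_ofPt a)⟩) (x := u) hx
        let ι : Over.mk (Z.ι ≫ U.hom) ⟶ U := Over.homMk Z.ι rfl
        refine ⟨_, (yon S).map ι ≫ a, hZ, repWith_comp ((repWith_yon_map_iff _ ι).2
          (inferInstanceAs (Etale Z.ι))) ha, ⟨(⟨u, huZ⟩ : Z.toScheme), ofPt_comp _ _ _⟩, ?_⟩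
        rintro _ ⟨w, rfl⟩
        rw [ofPt_comp]
        exact hZO (w : Z.toScheme).2
      choose U a hUa ha hmem hale using hc
      obtain ⟨s, hs⟩ := hqc.elim_finite_subcover (fun x => Set.range (Points.ofPt (a x)))
        (fun x => (isOpenMap_ofPt (ha x)).isOpen_range) (fun x hx => Set.mem_iUnion.2 ⟨⟨x, hx⟩, hmem ⟨x, hx⟩⟩)
      let ι := ULift.{u} (Option (Fin s.card))
      let e := s.equivFin.symm
      let Vi : ι → Over S := fun o => match o.down with | none => V₀ | some x => U (e x)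
      let fi : ∀ o, (yon S).obj (Vi o) ⟶ X.obj := fun o => match o with
        | ⟨none⟩ => f₀
        | ⟨some x⟩ => a (e x)
      have hfi : ∀ o, RepWith @Etale (fi o) := by
        rintro ⟨_ | x⟩
        exacts [hf₀, ha _]
      haveI : ∀ o, IsAffine (Vi o).left := by
        rintro ⟨_ | x⟩
        exacts [hV₀, hUa _]
      haveI : Finite ι := Finite.of_equiv _ Equiv.ulift.symm
      haveI : IsAffine (sigmaOver Vi).left := inferInstanceAs (IsAffine (∐ fun o => (Vi o).left))
      obtain ⟨F, hF⟩ := exists_hom_sigma Vi fi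
      have hFe : RepWith @Etale F :=
        repWith_etale_sigma (X.property.representable_from_yon _) fun o => by rw [hF]; exact hfi o
      have hrF : Set.range (Points.ofPt F) = O p := by
        rw [hB]
        refine subset_antisymm ?_ (Set.union_subset (fun x hx => ?_) ?_)
        · rintro _ ⟨w, rfl⟩
          obtain ⟨⟨_ | x⟩, v, rfl⟩ := exists_sigmaι Vi w
          · rw [← ofPt_comp, hF]; exact Or.inr ⟨v, rfl⟩
          · rw [← ofPt_comp, hF]; exact Or.inl (hale _ ⟨v, rfl⟩)
        · obtain ⟨y, hy, v, rfl⟩ := Set.mem_iUnion₂.1 (hs hx)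
          obtain ⟨x, hxy⟩ := e.surjective ⟨y, hy⟩
          have hye : y = (e x : O (p + 1)) := (congrArg Subtype.val hxy).symm
          subst hye
          exact ⟨(sigmaι Vi ⟨some x⟩).left v, by rw [← ofPt_comp, hF]⟩
        · rintro _ ⟨v, rfl⟩
          exact ⟨(sigmaι Vi ⟨none⟩).left v, by rw [← ofPt_comp, hF]⟩
      have hFi : Groth.Agent.AlgSpDec2.ElemChain.Inj F (O p \ O (p + 1)) := by
        intro R q₁ q₂ hR hsub h hmem'
        rcases isEmpty_or_nonempty ↥R.left with hE | ⟨⟨t⟩⟩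
        · exact Over.OverMorphism.ext ((isInitialOfIsEmpty (X := R.left)).hom_ext _ _)
        haveI : IsOpenImmersion (sigmaι Vi ⟨none⟩).left :=
          inferInstanceAs (IsOpenImmersion (Sigma.ι (fun o => (Vi o).left) ⟨none⟩))
        have key : ∀ q : R ⟶ sigmaOver Vi, Points.ofPt F (q.left t) ∈ O p \ O (p + 1) →
            ∃ q' : R ⟶ V₀, q' ≫ sigmaι Vi ⟨none⟩ = q := by
          intro q hq
          have hr : Set.range q.left ⊆ Set.range (sigmaι Vi ⟨none⟩).left := by
            rintro _ ⟨t', rfl⟩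
            rw [Subsingleton.elim t' t]
            obtain ⟨⟨_ | x⟩, v, hv⟩ := exists_sigmaι Vi (q.left t)
            · exact ⟨v, hv⟩
            · exact absurd (by rw [← hv, ← ofPt_comp, hF]; exact hale _ ⟨v, rfl⟩) hq.2
          refine ⟨Over.homMk (IsOpenImmersion.lift (sigmaι Vi ⟨none⟩).left q.left hr) ?_,
            Over.OverMorphism.ext (IsOpenImmersion.lift_fac _ _ _)⟩
          rw [← Over.w (sigmaι Vi ⟨none⟩), IsOpenImmersion.lift_fac_assoc, Over.w q]
        obtain ⟨q₁', rfl⟩ := key q₁ (hmem' t)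
        obtain ⟨q₂', rfl⟩ := key q₂ (by
          have := hmem' t
          rwa [← ofPt_comp, h, ofPt_comp] at this)
        congr 1
        refine hinj R q₁' q₂' hR hsub ?_ fun t' => ?_
        · simp only [Functor.map_comp, Category.assoc] at h
          rw [show (yon S).map (sigmaι Vi ⟨none⟩) ≫ F = f₀ from hF ⟨none⟩] at h
          exact h
        · have := hmem' t'
          rwa [Over.comp_left, Scheme.Hom.comp_apply, ← ofPt_comp,
            show (yon S).map (sigmaι Vi ⟨none⟩) ≫ F = f₀ from hF ⟨none⟩] at this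
      obtain ⟨F₂, hF₂, hF₂e, -⟩ := Groth.Agent.AlgSpDec2.ElemChain.exists_sq X.property hFe
        (A := O (p + 1)) (B := O p) (by rw [hrF, Set.union_eq_right.2 (hsub p)]) hFi
        (hW p) (hj (p + 1)) (hj p) (hr (p + 1)) (hr p) (hk p)
      refine ⟨sigmaOver Vi, F₂, inferInstance, inferInstance, hF₂e,
        repWith_surjective_of_surjective hF₂e.rep fun z => ?_, fun P fst snd sq => ?_⟩
      · obtain ⟨v, hv⟩ : Points.map (j p) z ∈ Set.range (Points.ofPt F) := by
          rw [hrF, ← hr p]; exact ⟨z, rfl⟩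
        refine ⟨Points.ofScheme _ v, Groth.Agent.AlgSpDec2.ElemChain.injective_openImm (hj p) ?_⟩
        rw [← Points.ofPt_eq_map_ofScheme, Points.map_ofPt, hF₂, hv]
      · refine Groth.Agent.AlgSpDec2.ElemChain.isIso_fst (hW p) hF₂e
          (Groth.Agent.AlgSpDec2.ElemChain.inj_lift hF₂ hFi) (T p).property (i p) ?_ ?_ sq
        · rintro _ ⟨z, rfl⟩
          refine ⟨(hr p).le ⟨_, rfl⟩, fun hz => ?_⟩
          rw [← hr (p + 1)] at hz
          obtain ⟨y, hy⟩ := hz
          refine ((hi p).2.1.le ⟨z, rfl⟩) ⟨y, Groth.Agent.AlgSpDec2.ElemChain.injective_openImm (hj p) ?_⟩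
          rw [← Points.map_comp, hk, hy]
        · rintro w -
          obtain ⟨v, hv⟩ : Points.map (j p) w ∈ Set.range (Points.ofPt F) := by
            rw [hrF, ← hr p]; exact ⟨w, rfl⟩
          exact ⟨v, Groth.Agent.AlgSpDec2.ElemChain.injective_openImm (hj p) (by rw [Points.map_ofPt, hF₂, hv])⟩
  have hchain := Groth.Agent.AlgSpDec2.ElemChain.reach_univ X.property hqc hqs isOpen_empty isCompact_empty
  suffices h : ∀ A, Relation.ReflTransGen (Groth.Agent.AlgSpDec2.ElemChain.Step X.obj) ∅ A →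
      ∃ (n : ℕ) (O : ℕ → Set (Points X.obj)), O 0 = A ∧ O 1 = A ∧ O (n + 1) = ∅ ∧
      ∀ p, IsOpen (O p) ∧ IsCompact (O p) ∧ Groth.Agent.AlgSpDec2.ElemChain.Step X.obj (O (p + 1)) (O p) from
    h _ hchain
  intro A hA
  induction hA with
  | refl => exact ⟨0, fun _ => ∅, rfl, rfl, rfl, fun _ =>
      ⟨isOpen_empty, isCompact_empty, Groth.Agent.AlgSpDec2.ElemChain.step_refl X.property ∅⟩⟩
  | tail hprev hstep ih =>
    rename_i A B
    obtain ⟨n, O, hO0, hO1, hOn, hO⟩ := ih
    obtain ⟨hBo, hBc, -⟩ := Groth.Agent.AlgSpDec2.ElemChain.step_compact hstep (hO0 ▸ (hO 0).1) (hO0 ▸ (hO 0).2.1)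
    refine ⟨n + 1, fun p => match p with | 0 => B | 1 => B | q + 2 => O (q + 1), rfl, rfl, hOn, fun p => ?_⟩
    match p with
    | 0 => exact ⟨hBo, hBc, Groth.Agent.AlgSpDec2.ElemChain.step_refl X.property B⟩
    | 1 => exact ⟨hBo, hBc, by show Groth.Agent.AlgSpDec2.ElemChain.Step X.obj (O 1) B; rw [hO1]; exact hstep⟩
    | q + 2 => exact hO (q + 1)

end Groth.Agent.S10419
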