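import Groth.Statements.S1042
import Groth.Agent.GBC.PushFree
import Groth.Agent.KFlatLib.Perfect.LocFreeLocus

set_option autoImplicit false
universe u
open CategoryTheory CategoryTheory.Limits AlgebraicGeometry
attribute [local instance] HasDerivedCategory.standard
open Perf

namespace Groth.Agent.S1042

/-- Let f : X ⟶ S be proper and of finite presentation, F an O_X-module of finite presentation flat over
S, and i ∈ ℤ, r ∈ ℕ. There is an open subset U ⊆ S such that for every morphism g : T ⟶ S (with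
Rf_{T,*} assumed to exist on the unbounded derived category), g factors through U — i.e. the image
of g lies in U — exactly when Rf_{T,*}(F_T), as an object of D(O_T), is a rank-r finite locally free
O_T-module sitting in degree i; here f_T : X ×_S T ⟶ T and F_T is the pullback of F to X ×_S T. -/
theorem result {X S : Scheme.{u}} (f : X ⟶ S) [IsProper f] [LocallyOfFinitePresentation f]
    (F : X.Modules) (hF : CohB1.IsFP F) (hflat : FlatMod.IsFlatOver f F) (i : ℤ) (r : ℕ) :
    ∃ U : S.Opens, ∀ (T : Scheme.{u}) (g : T ⟶ S) [DCoh.HasRpush (pullback.snd f g)],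
      Set.range g.base ⊆ (U : Set S) ↔
        ∃ V : T.Modules, FlatMod.IsFinLocFreeOfRank r V ∧
          Nonempty ((DCoh.Rpush (pullback.snd f g)).obj (DCoh.inD (pullback f g) ((Scheme.Modules.pullback (pullback.fst f g)).obj F)) ≅ (DCoh.inD T V)⟦-i⟧) := by
  haveI : DCoh.HasRpush f := Groth.Agent.KFlatLib.hasRpush_scheme f
  haveI : QuasiCompact f := inferInstance
  haveI := Groth.Agent.KFlatLib.hasLTensorMod F
  obtain ⟨c⟩ := Groth.Agent.GBC.nonempty_ltensorMod_oD F
  have hK : DCoh.IsPerfect ((DCoh.Rpush f).obj ((DCoh.LTensorMod F).obj (Groth.Agent.RBC.oD X 0))) :=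
    Groth.Agent.GBC.isPerfect_rpush_tensor f F hF hflat
      (by
        haveI : IsProper f := inferInstance
        obtain ⟨hq, hft⟩ : Coh.IsQCoh F ∧ CohB1.IsFT F :=
          ⟨Groth.Agent.QCoh.isQCoh_of_isFP hF, Groth.Agent.QCoh.isFT_of_isFP hF⟩
        exact Groth.Agent.QCoh.isProperOver_of_subset (Scheme.IdealSheafData.vanishingIdeal
          ⟨CohB1.support F, Groth.Agent.QCoh.isClosed_support_of_isFT hq hft⟩).subschemeι
          (Groth.Agent.QCoh.isClosed_support_of_isFT hq hft) (by rw [Groth.Agent.QCoh.range_vanishing]))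
      (Groth.Agent.RBC.isPerfect_oD X 0)
  obtain ⟨U, hU⟩ := Groth.Agent.KFlatLib.exists_locus hK i r
  refine ⟨U, fun T g _ => ?_⟩
  haveI := Groth.Agent.KFlatLib.hasLpull g
  haveI := Groth.Agent.KFlatLib.hasLpull (pullback.fst f g)
  haveI := Groth.Agent.KFlatLib.hasLTensorMod ((Scheme.Modules.pullback (pullback.fst f g)).obj F)
  obtain ⟨e⟩ := Groth.Agent.GBC.nonempty_gb_iso (IsPullback.of_hasPullback f g)
    (Groth.Agent.QCoh.isQCoh_of_isFP hF) hflat (Groth.Agent.RBC.oD X 0)
    (Groth.Agent.GBC.isQCohD_sD Groth.Agent.QCoh.isQCoh_structureModule 0)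
  obtain ⟨w⟩ := Groth.Agent.RBC.nonempty_lpull_oD (pullback.fst f g) 0 (Iso.refl (DCoh.Lpull (pullback.fst f g)))
  obtain ⟨c'⟩ := Groth.Agent.GBC.nonempty_ltensorMod_oD ((Scheme.Modules.pullback (pullback.fst f g)).obj F)
  let E := e ≪≫ (DCoh.Rpush (pullback.snd f g)).mapIso ((DCoh.LTensorMod _).mapIso w ≪≫ c')
  refine (hU T g).trans ⟨?_, ?_⟩
  · rintro ⟨V, hV, ⟨eV⟩⟩
    exact ⟨V, hV, ⟨E.symm ≪≫ eV⟩⟩
  · rintro ⟨V, hV, ⟨eV⟩⟩
    exact ⟨V, hV, ⟨E ≪≫ eV⟩⟩

end Groth.Agent.S1042
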