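import Groth.Statements.S10422
import Mathlib
import Groth.Agent.AlgSpDiagClosure.Closure
-- import your own Groth.Agent.* helpers here

set_option autoImplicit false
universe u
open Topology TopologicalSpace TensorProduct
open AlgSp

namespace Groth.Agent.S10422

open Groth.Agent TensorProduct

/-- Let A be a ring, k a field, (p_n) a sequence of primes of A which are pairwise distinct, and k →
κ(p_n) field embeddings. Then the closure in Spec(A ⊗ A) of the image of ∐_{n ≠ m} Spec(κ(p_n) ⊗_k
κ(p_m)) meets the diagonal. Here κ(p_n) is any A-algebra K_n which is a field whose structure map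
has kernel p_n and whose elements are quotients of images of elements of A. -/
theorem result (A : Type u) [CommRing A] (k : Type u) [Field k]
    (p : ℕ → PrimeSpectrum A) (hp : Function.Injective p) (K : ℕ → Type u) [∀ n, Field (K n)]
    [∀ n, Algebra A (K n)] [∀ n, Algebra k (K n)]
    (hker : ∀ n, RingHom.ker (algebraMap A (K n)) = (p n).asIdeal)
    (hfrac : ∀ n (x : K n), ∃ a b : A, algebraMap A (K n) b ≠ 0 ∧ x * algebraMap A (K n) b = algebraMap A (K n) a) :
    (closure (⋃ (n : ℕ) (m : ℕ) (_ : n ≠ m),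
        Set.range (PrimeSpectrum.comap
          (Algebra.TensorProduct.lift
            ((Algebra.TensorProduct.includeLeft (R := k) (S := ℤ) (A := K n) (B := K m)).toRingHom.toIntAlgHom.comp
              (Algebra.ofId A (K n)).toRingHom.toIntAlgHom)
            ((Algebra.TensorProduct.includeRight (R := k) (A := K n) (B := K m)).toRingHom.toIntAlgHom.comp
              (Algebra.ofId A (K m)).toRingHom.toIntAlgHom)
            (fun _ _ => Commute.all _ _)).toRingHom)) ∩
      Set.range (PrimeSpectrum.comap (Algebra.TensorProduct.lmul' (S := A) ℤ).toRingHom)).Nonempty := by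
  set W : Set (PrimeSpectrum (A ⊗[ℤ] A)) := ⋃ (n : ℕ) (m : ℕ) (_ : n ≠ m), _
  by_contra hne
  rw [Set.not_nonempty_iff_eq_empty,
    range_comap_of_surjective A (Algebra.TensorProduct.lmul' (S := A) ℤ).toRingHom
      (fun a => ⟨a ⊗ₜ 1, by simp⟩),
    ← PrimeSpectrum.zeroLocus_vanishingIdeal_eq_closure, ← PrimeSpectrum.zeroLocus_sup,
    PrimeSpectrum.zeroLocus_empty_iff_eq_top, Ideal.eq_top_iff_one, Submodule.mem_sup] at hne
  obtain ⟨c, hc, d, hd, hcd⟩ := hne
  have hμ : Algebra.TensorProduct.lmul' (S := A) ℤ c = 1 := by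
    have := congrArg (Algebra.TensorProduct.lmul' (S := A) ℤ) hcd
    rw [map_add, map_one, show Algebra.TensorProduct.lmul' (S := A) ℤ d = 0 from hd, add_zero] at this
    exact this
  obtain ⟨s, rfl⟩ := TensorProduct.exists_finset c
  let x : s ⊕ s → A := Sum.elim (fun i => i.1.1) (fun i => i.1.2)
  let ev : ∀ n, MvPolynomial (s ⊕ s) k →ₐ[k] K n := fun n => MvPolynomial.aeval fun v => algebraMap A (K n) (x v)
  let P : ℕ → Ideal (MvPolynomial (s ⊕ s) k) := fun n => RingHom.ker (ev n)
  obtain ⟨J, hJ, hmax⟩ := set_has_maximal_iff_noetherian.mpr (inferInstance : IsNoetherian (MvPolynomial (s ⊕ s) k) _)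
    {J : Ideal (MvPolynomial (s ⊕ s) k) | {n | J ≤ P n}.Infinite} ⟨⊥, by simp [Set.infinite_univ]⟩
  have hmemJ : ∀ b, {n | J ≤ P n ∧ b ∈ P n}.Infinite → b ∈ J := by
    intro b hb
    by_contra h
    exact hmax (J ⊔ Ideal.span {b})
      (hb.mono fun n hn => sup_le hn.1 ((Ideal.span_singleton_le_iff_mem _).2 hn.2))
      (lt_of_le_not_ge le_sup_left fun h' => h (h' (Ideal.mem_sup_right (Ideal.mem_span_singleton_self b))))
  let T := {n | J ≤ P n}
  haveI : Nonempty T := hJ.nonempty.to_subtype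
  let φ : ∀ n : T, MvPolynomial (s ⊕ s) k ⧸ J →ₐ[k] K n.1 := fun n => Ideal.Quotient.liftₐ J (ev n.1) n.2
  let X : s ⊕ s → MvPolynomial (s ⊕ s) k ⧸ J := fun v => Ideal.Quotient.mk J (MvPolynomial.X v)
  let cB : (MvPolynomial (s ⊕ s) k ⧸ J) ⊗[k] (MvPolynomial (s ⊕ s) k ⧸ J) :=
    ∑ i : s, X (Sum.inl i) ⊗ₜ X (Sum.inr i)
  have hnil : IsNilpotent cB := by
    refine AlgSpDiagClosure.isNilpotent_of_pairs (fun n : T => K n.1) φ ?_ cB ?_
    · intro b hb n
      obtain ⟨b, rfl⟩ := Ideal.Quotient.mk_surjective b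
      by_contra h
      push Not at h
      refine hb ?_
      rw [(Ideal.Quotient.eq_zero_iff_mem).2 (hmemJ b ((hJ.sdiff (Set.finite_singleton n.1)).mono fun m hm =>
        ⟨hm.1, show ev m b = 0 from h ⟨m, hm.1⟩ (fun e => hm.2 (congrArg Subtype.val e))⟩))]
      exact IsNilpotent.zero
    · intro n m hnm
      rw [nilpotent_iff_mem_prime]
      intro q hq
      rw [PrimeSpectrum.mem_vanishingIdeal] at hc
      have := hc _ (Set.mem_iUnion₂.2 ⟨n.1, m.1, Set.mem_iUnion.2 ⟨fun e => hnm (Subtype.ext e), ⟨q, hq⟩, rfl⟩⟩)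
      rw [PrimeSpectrum.comap_asIdeal, Ideal.mem_comap] at this
      simp [cB, X, φ, ev, x, map_sum, ← Finset.univ_eq_attach] at this ⊢
      rw [← Finset.sum_coe_sort s] at this
      exact this
  have h1 : Algebra.TensorProduct.lmul' (S := MvPolynomial (s ⊕ s) k ⧸ J) k cB = 1 := by
    have hr : (∑ i : s, MvPolynomial.X (R := k) (Sum.inl i) * MvPolynomial.X (Sum.inr i)) - 1 ∈ J := by
      refine hmemJ _ (hJ.mono fun n hn => ⟨hn, ?_⟩)
      show ev n _ = 0
      simp only [map_sum, Algebra.TensorProduct.lmul'_apply_tmul] at hμ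
      simp only [ev, x, map_sub, map_sum, map_mul, map_one, MvPolynomial.aeval_X, Sum.elim_inl, Sum.elim_inr,
        ← Finset.univ_eq_attach]
      rw [sub_eq_zero]
      simp only [← map_mul, ← map_sum]
      rw [Finset.sum_coe_sort s (fun i => i.1 * i.2), hμ, map_one]
    rw [← sub_eq_zero] at *
    simp only [cB, X, map_sum, Algebra.TensorProduct.lmul'_apply_tmul, sub_zero] at *
    simpa [map_sum] using (Ideal.Quotient.eq_zero_iff_mem).2 hr
  have := hnil.map (Algebra.TensorProduct.lmul' (S := MvPolynomial (s ⊕ s) k ⧸ J) k)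
  rw [h1] at this
  obtain ⟨n, hn⟩ := hJ.nonempty
  exact not_isNilpotent_one (R := K n) (by simpa using this.map (φ ⟨n, hn⟩))

end Groth.Agent.S10422
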