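import Groth.Statements.S1044
import Groth.Agent.DQGen.KoszulOrth
-- import your own Groth.Agent.* helpers here

set_option autoImplicit false
universe u
open CategoryTheory CategoryTheory.Limits AlgebraicGeometry
attribute [local instance] HasDerivedCategory.standard
open Perf

namespace Groth.Agent.S1044

/-- Let A be a ring, f₁, …, f_r elements of A, X = Spec A, U ⊆ X the open complement of V(f₁, …, f_r)
with inclusion j, and K the perfect object of D(O_X) associated with the Koszul complex on f₁, …,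
f_r. Assuming Rj_* exists (and tilde is recorded as exact), for E ∈ D(O_X) with quasi-coherent
cohomology sheaves the following are equivalent: E is of the form Rj_*M for some M ∈ D_QCoh(O_U)
(equivalently E = Rj_*(E|_U)); every morphism K[n] ⟶ E, n ∈ ℤ, is zero. -/
theorem result (A : Type u) [CommRing A] (fs : List A) [PreservesFiniteLimits (tilde.functor (CommRingCat.of A))]
    [DCoh.HasRpush (LocCoh.puncturedOpen A (Ideal.span {a | a ∈ fs})).ι]
    (E : DCoh.D (Spec (CommRingCat.of A))) (hE : DCoh.IsQCohD E) :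
    (∃ M : DCoh.D (LocCoh.puncturedOpen A (Ideal.span {a | a ∈ fs}) : Scheme.{u}), DCoh.IsQCohD M ∧
        Nonempty (E ≅ (DCoh.Rpush (LocCoh.puncturedOpen A (Ideal.span {a | a ∈ fs})).ι).obj M)) ↔
    ∀ (n : ℤ) (φ : ((DCoh.tildeD (CommRingCat.of A)).obj (DerivedCategory.Q.obj (Koszul.koszul A fs)))⟦n⟧ ⟶ E), φ = 0 := by
  haveI := Groth.Agent.DQGen.quasiCompact_puncturedOpen A fs
  obtain ⟨hP, hdet⟩ := Groth.Agent.DQGen.detector_kz (R := CommRingCat.of A) fs
    (LocCoh.puncturedOpen A (Ideal.span {a | a ∈ fs}))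
    (fun x => Groth.Agent.DQGen.mem_puncturedOpen_iff A fs x)
  obtain ⟨e⟩ := Groth.Agent.DQGen.nonempty_koszul_iso (R := CommRingCat.of A) fs
  let eT := (DCoh.tildeD (CommRingCat.of A)).mapIso e
  refine (Groth.Agent.DQGen.orth_iff_pushforward _ hP.2 hdet hE).trans
    ⟨fun h n φ => ?_, fun h n φ => ?_⟩
  · rw [← cancel_epi (eT.inv⟦n⟧'), comp_zero]; exact h n _
  · rw [← cancel_epi (eT.hom⟦n⟧'), comp_zero]; exact h n _


end Groth.Agent.S1044
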