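import Groth.Statements.S10441
-- import your own Groth.Agent.* helpers here
import Groth.Agent.AlgSpDec.ElemBranches

set_option autoImplicit false
universe u
open CategoryTheory CategoryTheory.Limits AlgebraicGeometry Topology TopologicalSpace
open AlgSp

namespace Groth.Agent.S10441
open Groth.Agent

/-- For a decent algebraic space X over a scheme S and x ∈ |X|, fix an elementary etale neighbourhood
(U₀, u₀) of (X, x) and a henselization R of O_{U₀, u₀} (a model of the henselian local ring at x).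
The following are equivalent: (1) O_{U, u} has exactly one minimal prime whenever (U, u) is an
elementary etale neighbourhood of (X, x); (2) a unique irreducible component of U passes through u
for all such (U, u); (3) O_{U, u} is unibranch for all such (U, u); (4) R has exactly one minimal
prime. -/
theorem result {S : Scheme.{u}} (X : AlgSp.Space S)
    (hX : AlgSp.IsDecent X.obj) (x : AlgSp.Points X.obj) {U₀ : Over S}
    (a₀ : (AlgSp.yon S).obj U₀ ⟶ X.obj) (u₀ : ↥U₀.left) (h₀ : AlgSp.IsElemEtaleNbhd a₀ u₀ x)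
    (R : Type u) [CommRing R] [IsLocalRing R] [Algebra ↥(U₀.left.presheaf.stalk u₀) R]
    [IsLocalHom (algebraMap ↥(U₀.left.presheaf.stalk u₀) R)] [Hensel.IsHenselization ↥(U₀.left.presheaf.stalk u₀) R] :
    ((∀ (U : Over S) (a : (AlgSp.yon S).obj U ⟶ X.obj) (u : ↥U.left), AlgSp.IsElemEtaleNbhd a u x →
        CAlgX.HasUniqueMinimalPrime ↥(U.left.presheaf.stalk u)) ↔
      (∀ (U : Over S) (a : (AlgSp.yon S).obj U ⟶ X.obj) (u : ↥U.left), AlgSp.IsElemEtaleNbhd a u x →
        {Z : Set ↥U.left | Z ∈ irreducibleComponents ↥U.left ∧ u ∈ Z}.encard = 1)) ∧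
    ((∀ (U : Over S) (a : (AlgSp.yon S).obj U ⟶ X.obj) (u : ↥U.left), AlgSp.IsElemEtaleNbhd a u x →
        {Z : Set ↥U.left | Z ∈ irreducibleComponents ↥U.left ∧ u ∈ Z}.encard = 1) ↔
      (∀ (U : Over S) (a : (AlgSp.yon S).obj U ⟶ X.obj) (u : ↥U.left), AlgSp.IsElemEtaleNbhd a u x →
        CAlg2.IsUnibranch ↥(U.left.presheaf.stalk u))) ∧
    ((∀ (U : Over S) (a : (AlgSp.yon S).obj U ⟶ X.obj) (u : ↥U.left), AlgSp.IsElemEtaleNbhd a u x →
        CAlg2.IsUnibranch ↥(U.left.presheaf.stalk u)) ↔ CAlgX.HasUniqueMinimalPrime R) := by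
  have hN : ∀ (U : Over S) (a : (AlgSp.yon S).obj U ⟶ X.obj) (u : ↥U.left), AlgSp.IsElemEtaleNbhd a u x →
      Brnch.numBranchesAt U.left u = Brnch.numBranchesAt U₀.left u₀ :=
    fun U a u h => AlgSpDec.ElemBranches.numBranchesAt_eq_of_elem X.property h h₀
  have hu : ∀ (A : Type u) [CommRing A], CAlgX.HasUniqueMinimalPrime A ↔ (minimalPrimes A).encard = 1 :=
    fun A _ => Set.encard_eq_one.trans ⟨fun ⟨p, hp⟩ => ⟨p, hp.superset rfl, fun q hq => hp.subset hq⟩,
      fun ⟨p, hp, h⟩ => ⟨p, Set.eq_singleton_iff_unique_mem.2 ⟨hp, h⟩⟩⟩ |>.symm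
  have hR : Brnch.numBranchesAt U₀.left u₀ = (minimalPrimes R).encard :=
    (BrnchLib.card_minimalPrimes_henselization _ R).symm.trans (ENat.card_coe_set_eq _)
  have h23 : (∀ (U : Over S) (a : (AlgSp.yon S).obj U ⟶ X.obj) (u : ↥U.left), AlgSp.IsElemEtaleNbhd a u x →
      {Z : Set ↥U.left | Z ∈ irreducibleComponents ↥U.left ∧ u ∈ Z}.encard = 1) ↔
      Brnch.numBranchesAt U₀.left u₀ = 1 := by
    constructor
    · intro h
      exact (AlgSpDec.ElemBranches.iff_eq X.property h₀ 1).1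
        ⟨fun U a u hh => (h U a u hh).le, U₀, a₀, u₀, h₀, h U₀ a₀ u₀ h₀⟩
    · intro h U a u hh
      exact le_antisymm ((AlgSpDec.ElemBranches.components_le_numBranchesAt u).trans_eq
        ((hN U a u hh).trans h)) (BrnchNbhd.one_le_encard u)
  have h34 : (∀ (U : Over S) (a : (AlgSp.yon S).obj U ⟶ X.obj) (u : ↥U.left), AlgSp.IsElemEtaleNbhd a u x →
      CAlg2.IsUnibranch ↥(U.left.presheaf.stalk u)) ↔ Brnch.numBranchesAt U₀.left u₀ = 1 :=
    ⟨fun h => (BrnchNbhd.unibranch_iff _).1.2 (h U₀ a₀ u₀ h₀),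
      fun h U a u hh => (BrnchNbhd.unibranch_iff _).1.1 ((hN U a u hh).trans h)⟩
  refine ⟨?_, h23.trans h34.symm, h34.trans ?_⟩
  · refine forall₄_congr fun U a u _ => ?_
    rw [hu, AlgSpDec.ElemBranches.encard_minimalPrimes_stalk]
  · rw [hu, hR]

end Groth.Agent.S10441
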