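import Groth.Statements.S10444
import Groth.Agent.AlgSpDec2.FibreTopo
-- import your own Groth.Agent.* helpers here

set_option autoImplicit false
universe u

set_option backward.isDefEq.respectTransparency false
set_option backward.isDefEq.respectTransparency.types false
open CategoryTheory CategoryTheory.Limits AlgebraicGeometry Topology TopologicalSpace
open AlgSp

namespace Groth.Agent.S10444

open AlgSp Groth.Agent.AlgSpLib Groth.Agent.AlgSpPts Groth.Agent.AlgSpDec Groth.Agent.AlgSpDec2.FibreTopo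

/-- Take f : X ⟶ Y locally of finite type between algebraic spaces over a scheme S, a field-valued point
Spec k ⟶ Y whose class y ∈ |Y| lies in the image of |f|, the fibre product X_k = Spec k ×_Y X, and
the fibre F = |f|⁻¹(y) ⊆ |X| with the induced topology. Numbering the conditions (1) F finite, (2) F
discrete, (3) dim F = 0, (4) |X_k| finite, (5) |X_k| discrete, (6) dim |X_k| = 0, (7) dim X_k = 0,
(8) f quasi-finite at all points over y: (5) ⇔ (7) ⇔ (8); (5) ⇒ (6), with the converse when X_k is
decent; (4) ⇒ (5) when X_k is decent; (4) ⇒ (1); (2) ⇒ (3); if Y is decent then (2) ⇔ (5); if X and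
Y are decent then (3) ⇒ (2) and (1) ⇒ (2). (The published statement asserts (5) ⇔ (6) for every f
and (2) ⇔ (3) whenever Y is decent, and does not exclude an empty fibre; for the quotient of the
affine line over a field of characteristic zero by an infinite cyclic group of translations, mapping
to the point, the space of points is infinite and indiscrete, so (3) and (6) hold while (2) and (5)
fail, and for y outside the image (5) holds while (6) and (7) fail; hence the decency hypotheses on
those two converses and the hypothesis that y is in the image. Finiteness of |X_k| for an arbitrary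
field k in the class of y is not derived here from (1).) -/
theorem result {S : Scheme.{u}} {X Y : AlgSp.Space S} (f : X ⟶ Y)
    (hf : AlgSp.LocP @LocallyOfFiniteType f.hom) (r : AlgSp.FieldPt Y.obj)
    (hy : AlgSp.Points.mk r ∈ Set.range (AlgSp.Points.map f.hom)) (Xk : AlgSp.Space S) (fst : Xk ⟶ X)
    (snd : Xk.obj ⟶ (AlgSp.yon S).obj r.pt) (hsq : IsPullback fst.hom snd f.hom r.toHom) :
    (DiscreteTopology (AlgSp.Points Xk.obj) ↔ AlgSp.dim Xk.obj = 0) ∧
    (AlgSp.dim Xk.obj = 0 ↔
      ∀ x : AlgSp.Points X.obj, AlgSp.Points.map f.hom x = AlgSp.Points.mk r → AlgSp.HasAtMor (fun U _ h u => ∃ W : U.Opens, u ∈ W ∧ LocallyQuasiFinite (W.ι ≫ h) ∧ LocallyOfFiniteType (W.ι ≫ h)) f.hom x) ∧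
    (DiscreteTopology (AlgSp.Points Xk.obj) → topologicalKrullDim (AlgSp.Points Xk.obj) = 0) ∧
    (AlgSp.IsDecent Xk.obj → topologicalKrullDim (AlgSp.Points Xk.obj) = 0 →
      DiscreteTopology (AlgSp.Points Xk.obj)) ∧
    (AlgSp.IsDecent Xk.obj → Finite (AlgSp.Points Xk.obj) → DiscreteTopology (AlgSp.Points Xk.obj)) ∧
    (Finite (AlgSp.Points Xk.obj) → (AlgSp.Points.map f.hom ⁻¹' {AlgSp.Points.mk r}).Finite) ∧
    (DiscreteTopology ↥(AlgSp.Points.map f.hom ⁻¹' {AlgSp.Points.mk r}) → topologicalKrullDim ↥(AlgSp.Points.map f.hom ⁻¹' {AlgSp.Points.mk r}) = 0) ∧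
    (AlgSp.IsDecent Y.obj → (DiscreteTopology ↥(AlgSp.Points.map f.hom ⁻¹' {AlgSp.Points.mk r}) ↔ DiscreteTopology (AlgSp.Points Xk.obj))) ∧
    (AlgSp.IsDecent Y.obj → AlgSp.IsDecent X.obj →
      (topologicalKrullDim ↥(AlgSp.Points.map f.hom ⁻¹' {AlgSp.Points.mk r}) = 0 → DiscreteTopology ↥(AlgSp.Points.map f.hom ⁻¹' {AlgSp.Points.mk r})) ∧
        ((AlgSp.Points.map f.hom ⁻¹' {AlgSp.Points.mk r}).Finite → DiscreteTopology ↥(AlgSp.Points.map f.hom ⁻¹' {AlgSp.Points.mk r}))) := by
  haveI : Subsingleton ↥r.pt.left := inferInstanceAs (Subsingleton (PrimeSpectrum r.K))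
  haveI : IsLocallyNoetherian r.pt.left := inferInstanceAs (IsLocallyNoetherian (Spec (CommRingCat.of r.K)))
  haveI : JacobsonSpace ↥r.pt.left := inferInstanceAs (JacobsonSpace (PrimeSpectrum r.K))
  have hsnd := locP_of_isPullback hsq X.property Y.property (IsAlgSpace.yon_obj _) hf
  have hlift : ∀ x, Points.map f.hom x = Points.mk r → ∃ z, Points.map fst.hom z = x := fun x hx => by
    obtain ⟨z, hz, -⟩ := exists_point_of_isPullback hsq (x := x)
      (y := Points.ofScheme r.pt (IsLocalRing.closedPoint r.K))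
      (by rw [hx, ← Points.ofPt_toHom r, Points.ofPt_eq_map_ofScheme])
    exact ⟨z, hz⟩
  have hover : ∀ z, Points.map f.hom (Points.map fst.hom z) = Points.mk r := fun z => by
    rw [← Points.map_comp, hsq.w, Points.map_comp]
    exact map_toHom_eq r _
  obtain ⟨x₀, hx₀⟩ := hy
  obtain ⟨z₀, -⟩ := hlift x₀ hx₀
  haveI : Nonempty (Points Xk.obj) := ⟨z₀⟩
  haveI : Nonempty ↥(Points.map f.hom ⁻¹' {Points.mk r}) := ⟨⟨x₀, hx₀⟩⟩
  let Q := fun x : Points X.obj => HasAtMor (fun U _ h u => ∃ W : U.Opens, u ∈ W ∧ LocallyQuasiFinite (W.ι ≫ h) ∧ LocallyOfFiniteType (W.ι ≫ h)) f.hom x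
  have h58 : DiscreteTopology (Points Xk.obj) ↔ ∀ x, Points.map f.hom x = Points.mk r → Q x := by
    rw [discreteTopology_iff_isOpen_singleton]
    refine ⟨fun h x hx => ?_, fun h z => (isOpen_iff_qf X.property Y.property hf r hsq z).2 (h _ (hover z))⟩
    obtain ⟨z, rfl⟩ := hlift x hx
    exact (isOpen_iff_qf X.property Y.property hf r hsq z).1 (h z)
  have h78 : AlgSp.dim Xk.obj = 0 ↔ ∀ x, Points.map f.hom x = Points.mk r → Q x := by
    have hne : AlgSp.dim Xk.obj ≠ ⊥ := fun h =>
      (Groth.Agent.AlgSpDec2.dim_fibre_eq_bot_iff X.property Y.property r hsq).1 h ⟨x₀, hx₀⟩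
    have heq : AlgSp.dim Xk.obj = 0 ↔ AlgSp.dim Xk.obj ≤ 0 := by
      refine ⟨le_of_eq, fun h => le_antisymm h ?_⟩
      obtain ⟨n, hn⟩ := WithBot.ne_bot_iff_exists.1 hne
      rw [← hn]
      exact WithBot.coe_le_coe.2 bot_le
    rw [heq, Groth.Agent.AlgSpDec2.dim_fibre_le_iff X.property Y.property hf r hsq]
    refine forall₂_congr fun x _ => ?_
    show _ ↔ HasAtMor _ f.hom x
    rw [hasAtMor_qf_iff hf]
    constructor
    · rintro ⟨U, V, a, b, h, u, ha, hb, w, hx, hle⟩
      haveI : LocallyOfFiniteType h.left := hf a b h ha hb w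
      exact ⟨U, V, a, b, h, u, ha, hb, w, hx, FieldFibre.fibreDimAt_eq_zero_of_le _ _ (by exact_mod_cast hle)⟩
    · rintro ⟨U, V, a, b, h, u, ha, hb, w, hx, he⟩
      exact ⟨U, V, a, b, h, u, ha, hb, w, hx, le_of_eq he⟩
  have hF : IsDecent Y.obj → (DiscreteTopology ↥(Points.map f.hom ⁻¹' {Points.mk r}) ↔
      ∀ x, Points.map f.hom x = Points.mk r → Q x) := fun hY => by
    rw [discreteTopology_iff_isOpen_singleton]
    exact ⟨fun h x hx => (isOpen_fibre_iff X.property Y.property hf hY _ ⟨x, hx⟩).1 (h _),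
      fun h x => (isOpen_fibre_iff X.property Y.property hf hY _ x).2 (h _ x.2)⟩
  have hdim : ∀ {T : Type (u + 1)} [TopologicalSpace T] [Nonempty T], DiscreteTopology T → topologicalKrullDim T = 0 := by
    intro T _ _ _
    refine le_antisymm (topologicalKrullDim_zero_of_discreteTopology T) ?_
    exact Order.krullDim_nonneg_iff.2 ⟨⟨closure {Classical.arbitrary T}, isIrreducible_singleton.closure, isClosed_closure⟩⟩
  refine ⟨h58.trans h78.symm, h78, hdim, fun hd h => discrete_of_dim_zero hsnd Xk.property hd h,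
    fun hd hfin => discrete_of_finite hsnd Xk.property hd, fun hfin => ?_, hdim,
    fun hY => (hF hY).trans h58.symm, fun hY hXd => ?_⟩
  · refine ((Set.finite_range (Points.map fst.hom)).subset fun x hx => ?_)
    exact hlift x hx
  · obtain ⟨k, P, fst', snd', e, sq, -, hPd⟩ := exists_fibre_homeo X.property Y.property hf hY (Points.mk r)
    haveI : Subsingleton ↥k.pt.left := inferInstanceAs (Subsingleton (PrimeSpectrum k.K))
    haveI : IsLocallyNoetherian k.pt.left := inferInstanceAs (IsLocallyNoetherian (Spec (CommRingCat.of k.K)))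
    haveI : JacobsonSpace ↥k.pt.left := inferInstanceAs (JacobsonSpace (PrimeSpectrum k.K))
    have hP := isAlgSpace_of_isPullback sq X.property (IsAlgSpace.yon_obj _) Y.property
    have hs' := locP_of_isPullback sq X.property Y.property (IsAlgSpace.yon_obj _) hf
    refine ⟨fun h => ?_, fun h => ?_⟩
    · haveI := discrete_of_dim_zero hs' hP (hPd hXd)
        ((IsHomeomorph.topologicalKrullDim_eq e e.isHomeomorph).trans h)
      exact e.symm.isEmbedding.discreteTopology
    · haveI := h.to_subtype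
      haveI : Finite (Points P) := Finite.of_equiv _ e.toEquiv.symm
      haveI := discrete_of_finite hs' hP (hPd hXd)
      exact e.symm.isEmbedding.discreteTopology

end Groth.Agent.S10444
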