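import Groth.Statements.S10447
import Groth.Agent.AlgSpDec2.CatenarySp
import Groth.Agent.AlgSpDec.Basic
-- import your own Groth.Agent.* helpers here

set_option autoImplicit false
universe u
open CategoryTheory CategoryTheory.Limits AlgebraicGeometry Topology TopologicalSpace
open AlgSp

namespace Groth.Agent.S10447

open AlgSp Groth.Agent.AlgSpLib Groth.Agent.AlgSpDec

/-- Let S be a locally Noetherian scheme whose local rings are universally catenary, and X a decent
algebraic space over S with locally finite type structure morphism X ⟶ S. Then the space of points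
|X| is catenary (bounded chains of irreducible closed subsets between any two, and all saturated
chains between the same two of equal length). -/
theorem result {S : Scheme.{u}} [IsLocallyNoetherian S]
    (hS : ∀ s : ↥S, CAlg.IsUniversallyCatenary ↥(S.presheaf.stalk s)) (X : AlgSp.Space S)
    (hX : AlgSp.IsDecent X.obj) (p : X.obj ⟶ (AlgSp.yon S).obj (Over.mk (𝟙 S)))
    (hp : AlgSp.LocP @LocallyOfFiniteType p) :
    W4stk3decentspacesp2.IsCatenarySpace (AlgSp.Points X.obj) := by
  obtain ⟨U, a, ha, hs⟩ := X.property.atlas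
  obtain ⟨g, hg⟩ := (yon S).map_surjective (a ≫ p)
  have : LocallyOfFiniteType U.hom := by
    have h := hp a (𝟙 _) g ha (repWith_id _ _) (by rw [Category.comp_id, hg])
    have e : g.left = U.hom := by simpa using Over.w g
    rwa [e] at h
  have : T0Space (Points X.obj) := t0Space_points X.property hX
  have : QuasiSober (Points X.obj) := quasiSober_points X.property hX
  have hScat : PtTop.IsCatenarySpace S :=
    (Groth.Agent.S12446.result S).2 fun s => (hS s).2 _ inferInstance
  have hcat : PtTop.IsCatenarySpace (Points X.obj) := (Groth.Agent.S12444.result _).1.2 fun y => by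
    obtain ⟨u, rfl⟩ := surjective_ofPt hs y
    obtain ⟨V, hV, δ, hδ⟩ := (Groth.Agent.S12447.result S).1 hScat (U.hom u)
    obtain ⟨O, hyO, δ', hδ'⟩ := Groth.Agent.AlgSpDec2.exists_dimensionFunction hX ha u hV hδ hS
    have : QuasiSober O := O.isOpenEmbedding'.quasiSober
    exact ⟨O, hyO, (Groth.Agent.S7577.result δ' hδ').1⟩
  intro T T' hle
  obtain ⟨hne, hlen⟩ := hcat T T' hle
  obtain ⟨n, hn⟩ := ENat.ne_top_iff_exists.1 hne
  refine ⟨⟨n, fun s h1 h2 => ?_⟩, fun s t hs1 hs2 ht1 ht2 hsc htc => ?_⟩
  · have h : (s.length : ℕ∞) ≤ PtTop.codim T (T' : Set (Points X.obj)) :=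
      le_iSup_of_le s (le_iSup_of_le ⟨h1, by rw [h2]⟩ le_rfl)
    rw [← hn] at h
    exact_mod_cast h
  · exact_mod_cast (hlen s hs1 hs2 hsc).trans (hlen t ht1 ht2 htc).symm

end Groth.Agent.S10447
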