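import Groth.Statements.S1045
import Groth.Agent.DQGen.KoszulFactor
-- import your own Groth.Agent.* helpers here

set_option autoImplicit false
universe u
open CategoryTheory CategoryTheory.Limits AlgebraicGeometry
attribute [local instance] HasDerivedCategory.standard
open Perf

namespace Groth.Agent.S1045

/-- Let A be a ring, f₁, …, f_r elements of A, X = Spec A and U ⊆ X the open complement of V(f₁, …,
f_r). Let E ∈ D(O_X) have quasi-coherent cohomology sheaves with Hⁱ(E)|_U = 0 for -r < i ≤ 0. Then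
(tilde being recorded as exact) every morphism s : O_X ⟶ E in D(O_X) factors as O_X ⟶ K_e ⟶ E for
some e ≥ 0, where K_e is the object of D(O_X) associated with the Koszul complex on f₁^e, …, f_r^e. -/
theorem result (A : Type u) [CommRing A] (fs : List A) [PreservesFiniteLimits (tilde.functor (CommRingCat.of A))]
    (E : DCoh.D (Spec (CommRingCat.of A))) (hE : DCoh.IsQCohD E)
    (hU : ∀ i : ℤ, -(fs.length : ℤ) < i → i ≤ 0 → IsZero ((DCoh.HD E i).restrict (LocCoh.puncturedOpen A (Ideal.span {a | a ∈ fs})).ι))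
    (s : DCoh.inD (Spec (CommRingCat.of A)) (Coh.structureModule (Spec (CommRingCat.of A))) ⟶ E) :
    ∃ (e : ℕ) (ψ : (DCoh.tildeD (CommRingCat.of A)).obj (DerivedCategory.Q.obj (Koszul.koszul A (fs.map (fun a => a ^ e)))) ⟶ E)
      (t : DCoh.inD (Spec (CommRingCat.of A)) (Coh.structureModule (Spec (CommRingCat.of A))) ⟶
        (DCoh.tildeD (CommRingCat.of A)).obj (DerivedCategory.Q.obj (Koszul.koszul A (fs.map (fun a => a ^ e))))),
      t ≫ ψ = s := by
  let R := CommRingCat.of A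
  haveI := Groth.Agent.DQGen.additive_tilde R
  haveI := Groth.Agent.DQGen.pfc_tilde R
  obtain ⟨N, ⟨eN⟩⟩ := Groth.Agent.KFlatLib.exists_tildeD_iso hE
  let e₀ : (DCoh.tildeD R).obj (Groth.Agent.DQGen.one0 R) ≅
      DCoh.inD (Spec R) (Coh.structureModule (Spec R)) :=
    (((tilde.functor R).mapDerivedCategorySingleFunctor 0).app (ModuleCat.of R R)) ≪≫
      (DerivedCategory.singleFunctor _ 0).mapIso AlgebraicGeometry.tildeSelf
  obtain ⟨s₀, hs₀⟩ := (Groth.Agent.KFlatLib.tildeD_map_bijective (Groth.Agent.DQGen.one0 R) N).2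
    (e₀.hom ≫ s ≫ eN.inv)
  obtain ⟨e, ψ, hψ⟩ := Groth.Agent.DQGen.exists_factor_kz (R := R) fs N (fun g hg i h₁ h₂ =>
    (Groth.Agent.DQGen.torsAt_iff_support (R := R) g N i).2 fun x hx => by
      have hz : IsZero ((DCoh.HD ((DCoh.tildeD R).obj N) i).restrict
          (LocCoh.puncturedOpen A (Ideal.span {a | a ∈ fs})).ι) :=
        (hU i h₁ h₂).of_iso ((Scheme.Modules.restrictFunctor _).mapIso
          ((DerivedCategory.homologyFunctor _ i).mapIso eN))
      exact ModuleCat.subsingleton_of_isZero (Groth.Agent.KFlatLib.isZero_stalk_of_restrict (LocCoh.puncturedOpen A (Ideal.span {a | a ∈ fs})).ι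
        ⟨x, (Groth.Agent.DQGen.mem_puncturedOpen_iff A fs x).2 ⟨g, hg, hx⟩⟩
        ((DerSch.stalkFunctor _ _).map_isZero hz))) s₀
  obtain ⟨ek⟩ := Groth.Agent.DQGen.nonempty_koszul_iso (R := R) (Groth.Agent.DQGen.pw (R := R) fs e)
  refine ⟨e, (DCoh.tildeD R).map (ek.hom ≫ ψ) ≫ eN.hom,
    e₀.inv ≫ (DCoh.tildeD R).map (Groth.Agent.DQGen.tz (Groth.Agent.DQGen.pw (R := R) fs e) ≫ ek.inv), ?_⟩
  refine (Category.assoc _ _ _).trans ?_
  rw [← Category.assoc ((DCoh.tildeD R).map _), ← Functor.map_comp, Category.assoc,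
    Iso.inv_hom_id_assoc, hψ, hs₀]
  simp


end Groth.Agent.S1045
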