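import Groth.Statements.S10450
-- import your own Groth.Agent.* helpers here
import Groth.Agent.AlgSpDec.FiniteLevel
import Groth.Agent.AlgSpDec.QsDense
import Groth.Agent.AlgSpDec.FibreCodim
import Groth.Agent.AlgSpDec.LimAffineStage
import Groth.Agent.SchTop.ZeroDim
import Groth.Agent.H23.SepCrit

set_option autoImplicit false
universe u
open CategoryTheory CategoryTheory.Limits AlgebraicGeometry Topology TopologicalSpace
open AlgSp

namespace Groth.Agent.S10450
open Groth.Agent

/-- Let X be a quasi-separated algebraic space of dimension 0 over a quasi-separated scheme S. Then X is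
a separated scheme and every quasi-compact open of X is affine. (The published statement allows any
base scheme S and takes X quasi-separated in the absolute sense; this row asks S to be
quasi-separated and X quasi-separated over S, which together imply absolute quasi-separatedness.) -/
theorem result {S : Scheme.{u}} [QuasiSeparatedSpace S]
    (X : AlgSp.Space S) (hqs : AlgSp.IsQuasiSeparatedSp X.obj) (hd : AlgSp.dim X.obj = 0) :
    ∃ (U : Over S) (_ : (AlgSp.yon S).obj U ≅ X.obj), U.left.IsSeparated ∧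
      ∀ V : U.left.Opens, IsCompact (V : Set ↥U.left) → IsAffineOpen V := by
  obtain ⟨U, a, ha, has⟩ := X.property.atlas
  have hrep : X.obj.obj.IsRepresentable := by
    refine Groth.Agent.AlgSpDec.GroupScheme.isRepresentable_of_nhds X.property fun x => ?_
    obtain ⟨u, rfl⟩ := AlgSpLib.surjective_ofPt has x
    have hU : topologicalKrullDim ↥U.left ≤ 0 := hd ▸ le_iSup_of_le U (le_iSup₂_of_le a ha le_rfl)
    have h0 : Order.coheight u = 0 := Order.coheight_eq_zero.2 fun y hy => by
      have h1 : y ⤳ u := Scheme.le_iff_specializes.1 hy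
      have h2 : u = y := h1.mem_closed (SchTop.isClosed_singleton_of_dim_le_zero hU y) rfl
      exact h2 ▸ le_rfl
    obtain ⟨T, t, ht, hxt⟩ := AlgSpDec.exists_open_subscheme_of_codimZero_qs X.property hqs ha u h0
    exact ⟨T, t, ht, hxt⟩
  obtain ⟨Y, ⟨e⟩⟩ := Groth.Agent.QuotLib.exists_iso_yon hrep
  have hY : topologicalKrullDim ↥Y.left ≤ 0 := hd ▸ le_iSup_of_le Y (le_iSup₂_of_le e.hom
    (AlgSpLib.repWith_of_isIso @Etale e.hom) le_rfl)
  have hqsY : IsQuasiSeparatedSp ((yon S).obj Y) := by
    rw [Groth.Agent.AlgSpPts.isQuasiSeparatedSp_iff_mor,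
      (Groth.Agent.AlgSpPts.isTerminalYon _).hom_ext ((Groth.Agent.AlgSpPts.isTerminalYon _).from _)
        (e.hom ≫ (Groth.Agent.AlgSpPts.isTerminalYon _).from _)]
    exact Groth.Agent.AlgSpPts.isQuasiSeparatedMor_comp (AlgSpLib.repWith_of_isIso _ _)
      ((Groth.Agent.AlgSpPts.isQuasiSeparatedSp_iff_mor _).1 hqs)
  haveI : QuasiSeparated Y.hom := (AlgSpDec.isQuasiSeparatedSp_yon_iff' Y).1 hqsY
  haveI : QuasiSeparatedSpace ↥Y.left := quasiSeparatedSpace_of_quasiSeparated Y.hom
  refine ⟨Y, e, ?_, fun V hV => SchTop.isAffineOpen_of_isCompact hY hV⟩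
  rw [Scheme.isSeparated_iff]
  refine H23.SepCrit.isSeparated_of_pairs_affine _ fun x y _ => ?_
  obtain ⟨A, hA, hxA, -⟩ := exists_isAffineOpen_mem_and_subset (x := x) (U := (⊤ : Y.left.Opens)) trivial
  obtain ⟨B, hB, hyB, -⟩ := exists_isAffineOpen_mem_and_subset (x := y) (U := (⊤ : Y.left.Opens)) trivial
  exact ⟨A ⊔ B, SchTop.isAffineOpen_of_isCompact hY (hA.isCompact.union hB.isCompact),
    Or.inl hxA, Or.inr hyB⟩

end Groth.Agent.S10450
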