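import Groth.Statements.S10482
import Groth.Agent.AlgSpLib.EtLocalInst
import Mathlib.AlgebraicGeometry.Artinian
import Mathlib.AlgebraicGeometry.Morphisms.QuasiFinite
-- import your own Groth.Agent.* helpers here

set_option autoImplicit false
universe u
open CategoryTheory CategoryTheory.Limits AlgebraicGeometry Topology TopologicalSpace
open AlgSp

namespace Groth.Agent.S10482

/-- (1) ⇔ (2): let k be a field and X an algebraic space over k. Then X is locally quasi-finite over k
if and only if X is locally of finite type over k of dimension at most 0. (The published statement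
says dimension 0; dimension at most 0 is used so that the empty space, whose dimension is the bottom
element, is covered by both sides.) -/
theorem result (k : Type u) [Field k] (X : AlgSp.Space (Spec (CommRingCat.of k))) (p : X.obj ⟶ (AlgSp.yon (Spec (CommRingCat.of k))).obj (Over.mk (𝟙 _))) :
    AlgSp.LocP (@LocallyQuasiFinite ⊓ @LocallyOfFiniteType : MorphismProperty Scheme.{u}) p ↔ AlgSp.LocP @LocallyOfFiniteType p ∧ AlgSp.dim X.obj ≤ 0 := by
  have key : ∀ {U : Scheme.{u}} (v : U ⟶ Spec (CommRingCat.of k)) [LocallyOfFiniteType v],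
      LocallyQuasiFinite v ↔ topologicalKrullDim ↥U ≤ 0 := by
    intro U v _
    constructor
    · intro hv
      haveI : IsLocallyArtinian U := IsLocallyArtinian.of_locallyQuasiFinite v
      exact topologicalKrullDim_zero_of_discreteTopology _
    · intro hU
      haveI : IsLocallyNoetherian U := LocallyOfFiniteType.isLocallyNoetherian v
      haveI := IsLocallyArtinian.of_topologicalKrullDim_le_zero hU
      rw [locallyQuasiFinite_iff_isDiscrete_preimage_singleton]
      exact fun _ => (isDiscrete_univ_iff.2 inferInstance).mono (Set.subset_univ _)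
  refine ⟨fun h => ⟨Groth.Agent.AlgSpLib.locP_mono inf_le_right h, iSup₂_le fun U a => iSup_le fun ha => ?_⟩, ?_⟩
  · obtain ⟨v, hv⟩ := (yon (Spec (CommRingCat.of k))).map_surjective (a ≫ p)
    obtain ⟨h1, h2⟩ := h a (𝟙 _) v ha (AlgSp.repWith_id _ _) (by rw [hv, Category.comp_id])
    haveI : LocallyOfFiniteType v.left := h2
    exact (key (U := U.left) v.left).1 h1
  · rintro ⟨h, hd⟩
    obtain ⟨U, a, ha, ha'⟩ := X.property.atlas
    obtain ⟨v, hv⟩ := (yon (Spec (CommRingCat.of k))).map_surjective (a ≫ p)
    haveI hl : LocallyOfFiniteType v.left := h a (𝟙 _) v ha (AlgSp.repWith_id _ _) (by rw [hv, Category.comp_id])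
    refine Groth.Agent.AlgSpLib.locP_of_chart (h := v) ha ha' (AlgSp.repWith_id _ _) (by rw [hv, Category.comp_id])
      ⟨(key (U := U.left) v.left).2 (le_trans ?_ hd), hl⟩
    exact le_iSup₂_of_le U a (le_iSup_of_le ha le_rfl)


end Groth.Agent.S10482
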