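import Groth.Statements.S10452
import Groth.Agent.AlgSpDec.FibreCodim
import Groth.Agent.AlgSpDec.More
import Groth.Agent.AlgSpDec.Fibres
-- import your own Groth.Agent.* helpers here

set_option autoImplicit false
universe u
open CategoryTheory CategoryTheory.Limits AlgebraicGeometry Topology TopologicalSpace
open AlgSp

namespace Groth.Agent.S10452

open Groth.Agent CategoryTheory AlgebraicGeometry AlgSp

/-- (2) ⇔ (3): let X be a quasi-separated algebraic space over a quasi-separated scheme S and x a point
of X. Then the local ring of X at x is zero-dimensional exactly when x is the generic point of an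
irreducible component of |X|. (The published statement allows any base scheme S and takes X
quasi-separated in the absolute sense; this row asks S to be quasi-separated and X quasi-separated
over S, which together imply absolute quasi-separatedness.) -/
theorem result {S : Scheme.{u}} [QuasiSeparatedSpace S]
    (X : AlgSp.Space S) (hqs : AlgSp.IsQuasiSeparatedSp X.obj) (x : AlgSp.Points X.obj) :
    AlgSp.HasAt (fun U u => ringKrullDim ↥(U.presheaf.stalk u) = 0) X.obj x ↔
      ∃ Z ∈ irreducibleComponents (AlgSp.Points X.obj), IsGenericPoint x Z := by
  have hdec : IsDecent X.obj := AlgSpDec.isDecent_of_isQuasiSeparatedSp X.property hqs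
  haveI := AlgSpDec.t0Space_points X.property hdec
  haveI := AlgSpDec.quasiSober_points X.property hdec
  obtain ⟨U, a, ha, ha'⟩ := X.property.atlas
  obtain ⟨u, rfl⟩ := AlgSpLib.surjective_ofPt ha' x
  letI : PartialOrder (Points X.obj) := specializationOrder _
  letI : PartialOrder ↥U.left := specializationOrder _
  rw [AlgSpDec.FibreCodim.hasAt_iff_coheight ha u, ← AlgSpDec.coheight_ofPt hdec ha u, Order.coheight_eq_zero]
  constructor
  · intro hm
    refine ⟨closure {Points.ofPt a u}, ⟨isIrreducible_singleton.closure, fun t ht hle => ?_⟩, rfl⟩
    obtain ⟨η, hη⟩ := QuasiSober.sober ht.closure (isClosed_closure (s := t))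
    have hs : η ⤳ Points.ofPt a u := hη.specializes (subset_closure (hle (subset_closure rfl)))
    have hs' : Points.ofPt a u ⤳ η := hm hs
    rw [hs.antisymm hs' |>.eq] at hη
    exact subset_closure.trans hη.def.ge
  · rintro ⟨Z, hZ, hg⟩ y hy
    have hs : y ⤳ Points.ofPt a u := hy
    have h1 : Z ⊆ closure {y} := hg.def ▸ hs.closure_subset
    have h2 := hZ.2 isIrreducible_singleton.closure h1
    exact hg.specializes (h2 (subset_closure rfl))

end Groth.Agent.S10452
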