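import Groth.Statements.S10453
import Groth.Agent.AlgSpDec.QsDense
import Groth.Agent.AlgSpDec.FibreCodim
-- import your own Groth.Agent.* helpers here

set_option autoImplicit false
universe u
open CategoryTheory CategoryTheory.Limits AlgebraicGeometry Topology TopologicalSpace
open AlgSp

namespace Groth.Agent.S10453

open Groth.Agent CategoryTheory AlgebraicGeometry AlgSp

/-- Let X be a quasi-separated algebraic space over a quasi-separated scheme S and x a point of X of
codimension 0 (the local ring of X at x has dimension 0). Then some open subspace of X containing x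
is a scheme. (The published statement allows any base scheme S and takes X quasi-separated in the
absolute sense; this row asks S to be quasi-separated and X quasi-separated over S, which together
imply absolute quasi-separatedness.) -/
theorem result {S : Scheme.{u}} [QuasiSeparatedSpace S]
    (X : AlgSp.Space S) (hqs : AlgSp.IsQuasiSeparatedSp X.obj) (x : AlgSp.Points X.obj)
    (hx : AlgSp.HasAt (fun U u => ringKrullDim ↥(U.presheaf.stalk u) = 0) X.obj x) :
    ∃ (X' : AlgSp.Space S) (j : X' ⟶ X), AlgSp.RepWith @IsOpenImmersion j.hom ∧
      X'.obj.obj.IsRepresentable ∧ x ∈ Set.range (AlgSp.Points.map j.hom) := by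
  obtain ⟨U, a, u, ha, rfl, hu⟩ := hx
  have h0 : Order.coheight u = 0 :=
    (AlgSpDec.FibreCodim.hasAt_iff_coheight ha u).1 ⟨U, a, u, ha, rfl, hu⟩
  obtain ⟨T, t, ht, hxt⟩ := AlgSpDec.exists_open_subscheme_of_codimZero_qs X.property hqs ha u h0
  exact ⟨⟨(yon S).obj T, IsAlgSpace.yon_obj T⟩, ObjectProperty.homMk t, ht,
    AlgSpDec.isRepresentable_of_iso (Iso.refl _), hxt⟩

end Groth.Agent.S10453
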