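import Groth.Statements.S10459
import Groth.Agent.AlgSpDec2.GenericPt
import Groth.Agent.S10324
-- import your own Groth.Agent.* helpers here

set_option autoImplicit false
universe u
open CategoryTheory CategoryTheory.Limits AlgebraicGeometry Topology TopologicalSpace
open AlgSp

namespace Groth.Agent.S10459

open AlgSp Groth.Agent.AlgSpLib Groth.Agent.AlgSpPts Groth.Agent.AlgSpDec Groth.Agent.AlgSpDec2.GenericPt

/-- Let f : X ⟶ Y be a dominant morphism locally of finite type between integral algebraic spaces over a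
scheme S, with Y locally Noetherian, and let r be the transcendence degree of the generic point of X
over its image (the generic point of Y). Then dim X ≤ dim Y + r. -/
theorem result {S : Scheme.{u}} {X Y : AlgSp.Space S} (f : X ⟶ Y)
    (hY : AlgSp.IsLocNoethSp Y.obj) (hXi : AlgSp.IsIntegralSp X.obj) (hYi : AlgSp.IsIntegralSp Y.obj)
    (hd : AlgSp.IsDominantMor f.hom) (hft : AlgSp.LocP @LocallyOfFiniteType f.hom)
    (x : AlgSp.Points X.obj) (hx : IsGenericPoint x (Set.univ : Set (AlgSp.Points X.obj))) (r : ℕ)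
    (hr : AlgSp.HasAtMor (fun _ _ h u => Dual3.resTrdeg h u = (r : Cardinal.{u})) f.hom x) :
    AlgSp.dim X.obj ≤ AlgSp.dim Y.obj + ((r : ℕ∞) : WithBot ℕ∞) := by
  have h := Groth.Agent.S10324.result f hY hft (r : Cardinal.{u}) fun ξ hξ s hs => by
    obtain rfl := (c0_iff hXi.2.1 hx ξ).1 hξ
    obtain ⟨U, V, a, b, g, u, ha, hb, w, hu, hs'⟩ := hs
    obtain ⟨U', V', a', b', g', u', ha', hb', w', hu', hr'⟩ := hr
    have e : VarDim.rdeg g.left u = VarDim.rdeg g'.left u' :=
      ResTrdeg.rdeg_congr ha hb w ha' hb' w' (hu.trans hu'.symm)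
    exact le_of_eq ((hs'.symm.trans e).trans hr')
  rwa [Cardinal.toENat_nat] at h

end Groth.Agent.S10459
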