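import Groth.Statements.S1046
import Groth.Agent.DQGen.GammaZ
import Groth.Agent.DQGen.Compact
import Groth.Agent.TriCat.RPlusUnit
import Groth.Agent.KFlatLib.Scheme.RpushCoprodQCoh
-- import your own Groth.Agent.* helpers here

set_option autoImplicit false
universe u
open CategoryTheory CategoryTheory.Limits AlgebraicGeometry
attribute [local instance] HasDerivedCategory.standard
open Perf

namespace Groth.Agent.S1046

open CategoryTheory Limits AlgebraicGeometry Pretriangulated KFlatLib DQGen

/-- Sections with support of an injective complex. -/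
lemma gammaZ_complex {X : Scheme.{u}} {U : Scheme.{u}} (j : U ⟶ X) [IsOpenImmersion j] [QuasiCompact j]
    (I : CochainComplex X.Modules ℤ) [I.IsKInjective] [∀ n, Injective (I.X n)]
    (hI : DCoh.IsQCohD (DerivedCategory.Q.obj I)) :
    DCoh.IsQCohD (DerivedCategory.Q.obj (((DCoh.gammaZ j).mapHomologicalComplex _).obj I)) ∧
      IsZero ((rho j).obj (DerivedCategory.Q.obj (((DCoh.gammaZ j).mapHomologicalComplex _).obj I))) := by
  let adjM := Scheme.Modules.restrictAdjunction j
  let Γc : CochainComplex X.Modules ℤ := ((DCoh.gammaZ j).mapHomologicalComplex _).obj I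
  let ι : Γc ⟶ I :=
    { f := fun n => (CxOX.gammaZι j).app (I.X n)
      comm' := fun i k _ => ((CxOX.gammaZι j).naturality (I.d i k)).symm }
  let Pc : CochainComplex X.Modules ℤ :=
    ((Scheme.Modules.pushforward j).mapHomologicalComplex _).obj ((rCx j).obj I)
  let η : I ⟶ Pc :=
    { f := fun n => adjM.unit.app (I.X n)
      comm' := fun i k _ => (adjM.unit.naturality (I.d i k)).symm }
  let S := ShortComplex.mk ι η (HomologicalComplex.hom_ext _ _ fun n => kernel.condition _)
  have hS : S.ShortExact := HomologicalComplex.shortExact_of_degreewise_shortExact S fun n =>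
    ShortComplex.ShortExact.mk' (ShortComplex.exact_of_f_is_kernel _ (kernelIsKernel (adjM.unit.app (I.X n))))
      (inferInstanceAs (Mono (kernel.ι (adjM.unit.app (I.X n))))) (epi_unit_injective j (I.X n))
  haveI : ((rCx j).obj I).IsKInjective := isKInjective_rCx j I
  obtain ⟨ePush⟩ := nonempty_rpush_iso_of_kInjective j (I := (rCx j).obj I) ((rhoQ j).app I).symm
  refine ⟨?_, ?_⟩
  · have hP : DCoh.IsQCohD (DerivedCategory.Q.obj Pc) :=
      isQCohD_of_iso ePush (isQCohD_rpush j (isQCohD_rho j hI))
    exact isQCohD_obj₂ (inv_rot_of_distTriang _ (DerivedCategory.triangleOfSES_distinguished hS))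
      (isQCohD_shift hP (-1)) hI
  · refine IsZero.of_iso ?_ ((rhoQ j).app Γc)
    exact Functor.map_isZero DerivedCategory.Q ((IsZero.iff_id_eq_zero _).2
      (HomologicalComplex.hom_ext _ _ fun n => (isZero_restrict_gammaZ j (I.X n)).eq_of_src _ _))

/-- Let U ⊆ X be an open subscheme with quasi-compact inclusion and T = X ∖ U. Assuming O_X-modules have
enough injectives (true, not recorded), for every bounded below E ∈ D(O_X) with quasi-coherent
cohomology sheaves, the derived sections with support RΓ_T(E) (right derived functor of F ↦ ker(F →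
j_*(F|_U))) has quasi-coherent cohomology sheaves, all supported on T. -/
theorem result (X : Scheme.{u}) (U : X.Opens) [QuasiCompact U.ι] [EnoughInjectives X.Modules]
    (E : DerivedCategory.Plus X.Modules) (hE : DCoh.IsQCohD E.obj) :
    DCoh.IsQCohD ((DCoh.RgammaZPlus U.ι).obj E).obj ∧
    ∀ i : ℤ, CohB1.support (DCoh.HD ((DCoh.RgammaZPlus U.ι).obj E).obj i) ⊆ (U : Set X)ᶜ := by
  let F := DCoh.gammaZ (X := X) U.ι
  let P := DerivedCategory.Plus.Qh (C := X.Modules)
  let q := HomotopyCategory.Plus.quotient X.Modules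
  haveI : P.EssSurj := Localization.essSurj P (HomotopyCategory.Plus.quasiIso X.Modules)
  let K := q.objPreimage (P.objPreimage E)
  let eK : P.obj (q.obj K) ≅ E := P.mapIso (q.objObjPreimageIso _) ≪≫ P.objObjPreimageIso E
  obtain ⟨L, r, hr, -⟩ := TriCat.exists_mono_injective_resolution K
  let J := (InjectiveObject.ι X.Modules).mapCochainComplexPlus.obj L
  haveI : IsIso (P.map (q.map r)) := (TriCat.isIso_plusQh_quotient_map_iff r).2 hr
  let eJ : P.obj (q.obj J) ≅ E := (asIso (P.map (q.map r))).symm ≪≫ eK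
  haveI : IsIso (F.rightDerivedFunctorPlusUnit.app (q.obj J)) :=
    (TriCat.isIso_unit_iff F (𝟙 J)).2 (by
      rw [show (𝟙 J : J ⟶ J).hom = 𝟙 J.obj from rfl, CategoryTheory.Functor.map_id]
      infer_instance)
  let Q' := DerivedCategory.quotientCompQhIso X.Modules
  haveI hJK : J.obj.IsKInjective := inferInstanceAs (CochainComplex.IsKInjective
    (((InjectiveObject.ι X.Modules).mapHomologicalComplex (ComplexShape.up ℤ)).obj L.obj))
  haveI : ∀ n, Injective (J.obj.X n) := fun n => (L.obj.X n).property
  let eE : DerivedCategory.Q.obj J.obj ≅ E.obj :=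
    (Q'.app J.obj).symm ≪≫ DerivedCategory.Plus.ι.mapIso eJ
  obtain ⟨hq, hz⟩ := gammaZ_complex U.ι J.obj (isQCohD_of_iso eE.symm hE)
  let e : DerivedCategory.Q.obj ((F.mapHomologicalComplex _).obj J.obj) ≅
      ((DCoh.RgammaZPlus U.ι).obj E).obj :=
    (Q'.app ((F.mapHomologicalComplex _).obj J.obj)).symm ≪≫
      DerivedCategory.Plus.ι.mapIso
        (asIso (F.rightDerivedFunctorPlusUnit.app (q.obj J)) ≪≫ (DCoh.RgammaZPlus U.ι).mapIso eJ)
  exact ⟨isQCohD_of_iso e hq, (isZero_rho_iff_support U _).1 (hz.of_iso ((rho U.ι).mapIso e.symm))⟩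


end Groth.Agent.S1046
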