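import Groth.Statements.S10461
-- import your own Groth.Agent.* helpers here
import Groth.Agent.AlgSpDec.AffineBcDescent
import Groth.Agent.AlgSpPts.OpenSub
import Groth.Agent.AlgSpDec.OpenGlue
import Groth.Agent.QuotLib.CatModuli

set_option autoImplicit false
universe u
open CategoryTheory CategoryTheory.Limits AlgebraicGeometry Topology TopologicalSpace
open AlgSp

namespace Groth.Agent.S10461

open Groth.Agent Groth.Agent.AlgSpDec

/-- Let k be a field, X an algebraic space over k and k'/k a purely inseparable field extension. If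
X_{k'} is a scheme, then X is a scheme. -/
theorem result (k : Type u) [Field k] (X : AlgSp.Space (Spec (CommRingCat.of k)))
    (k' : Type u) [Field k'] [Algebra k k'] [IsPurelyInseparable k k']
    (h : (X.obj ⨯ (AlgSp.yon (Spec (CommRingCat.of k))).obj (Over.mk (Spec.map (CommRingCat.ofHom (algebraMap k k'))))).obj.IsRepresentable) : X.obj.obj.IsRepresentable := by
  haveI : Normal k k' := inferInstance
  have hX := X.property
  let E := Groth.Agent.AlgSpDec.GeomRed.ext (k := k) k'
  obtain ⟨Y, e⟩ : ∃ Y, Nonempty ((yon (Spec (CommRingCat.of k))).obj Y ≅ X.obj ⨯ (yon _).obj E) :=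
    Groth.Agent.QuotLib.exists_iso_yon h
  obtain ⟨e⟩ := e
  let π : X.obj ⨯ (yon _).obj E ⟶ X.obj := prod.fst
  have hinj : Function.Injective (Points.map π) := fun z z' hzz' => by
    obtain ⟨σ, -, rfl⟩ := BcConn.exists_gal (BcConn.toSelf k') (BcConn.chg_eq_of_fst_eq hzz')
    obtain rfl : σ = AlgEquiv.refl := AlgEquiv.ext fun x => DFunLike.congr_fun
      (Subsingleton.elim (σ : k' →ₐ[k] k') (AlgHom.id k k')) x
    have hg : BcConn.galHom (AlgEquiv.refl : k' ≃ₐ[k] k') = 𝟙 _ :=
      Over.OverMorphism.ext (by simp [BcConn.galHom])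
    rw [hg, BcConn.chg_id, Points.map_id]
  have hcov : ∀ y : ↥Y.left, ∃ (T : Over (Spec (CommRingCat.of k))) (j : (yon _).obj T ⟶ X.obj),
      RepWith @IsOpenImmersion j ∧ Points.map π (Points.ofPt e.hom y) ∈ Set.range (Points.map j) := fun y => by
    obtain ⟨V, hV, hyV, -⟩ := exists_isAffineOpen_mem_and_subset (x := y) (U := (⊤ : Y.left.Opens)) trivial
    let W : Set (Points X.obj) := Points.map π '' (Points.ofPt e.hom '' (V : Set Y.left))
    have hWo : IsOpen W := BcConn.isOpenMap_fst (K := k') X.obj hX _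
      (AlgSpLib.isOpenMap_ofPt (AlgSpLib.repWith_of_isIso _ e.hom) _ V.2)
    obtain ⟨X', j, hX', hj, hr⟩ := AlgSpPts.exists_open_subspace hX hWo
    have hzW : Points.map π (Points.ofPt e.hom y) ∈ Set.range (Points.map j) :=
      hr.symm ▸ ⟨_, ⟨y, hyV, rfl⟩, rfl⟩
    let jK := prod.map j (𝟙 ((yon (Spec (CommRingCat.of k))).obj E))
    have sqj := BcConn.isPullback_prodMap' ((yon _).obj E) j
    have hjK : RepWith @IsOpenImmersion jK := AlgSpLib.repWith_of_isPullback sqj hj
    have sqQ := hjK.rep.isPullback e.hom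
    have hQoi : IsOpenImmersion (hjK.rep.snd e.hom).left := hjK.property_snd e.hom
    have hrange : Set.range (hjK.rep.snd e.hom).left = (V : Set Y.left) := by
      have h1 := AlgSpLib.range_map_snd_of_isPullback sqQ
      rw [AlgSpLib.range_map_snd_of_isPullback sqj, hr] at h1
      ext v
      have h2 : v ∈ Set.range (hjK.rep.snd e.hom).left ↔
          Points.ofScheme Y v ∈ Set.range (Points.map ((yon _).map (hjK.rep.snd e.hom))) := by
        constructor
        · rintro ⟨w, rfl⟩
          refine ⟨Points.ofScheme _ w, ?_⟩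
          rw [← Points.ofPt_eq_map_ofScheme, ← Points.toScheme_ofPt (hjK.rep.snd e.hom) w, Points.ofScheme_toScheme]
        · rintro ⟨w, hw⟩
          refine ⟨Points.toScheme _ w, ?_⟩
          rw [← Points.ofScheme_toScheme _ w, ← Points.ofPt_eq_map_ofScheme] at hw
          rw [← Points.toScheme_ofPt (hjK.rep.snd e.hom), hw, Points.toScheme_ofScheme]
      rw [h2, h1, Set.mem_preimage, ← Points.ofPt_eq_map_ofScheme, Set.mem_preimage]
      refine ⟨?_, fun hv => ⟨_, ⟨v, hv, rfl⟩, rfl⟩⟩
      rintro ⟨_, ⟨v', hv', rfl⟩, heq⟩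
      have h3 := congrArg (Points.map e.inv) (hinj heq)
      rw [Points.map_ofPt, Points.map_ofPt, e.hom_inv_id] at h3
      have h4 := congrArg (Points.toScheme Y) h3
      rw [← (yon _).map_id, Points.toScheme_ofPt, Points.toScheme_ofPt] at h4
      have h5 : v' = v := by simpa using h4
      exact h5 ▸ hv'
    haveI : IsAffine V.toScheme := hV
    haveI : IsAffine (hjK.rep.pullback e.hom).left :=
      IsAffine.of_isIso (IsOpenImmersion.isoOfRangeEq (hjK.rep.snd e.hom).left V.ι
        (hrange.trans (Scheme.Opens.range_ι V).symm)).hom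
    haveI : IsIso (hjK.rep.fst e.hom) := sqQ.isIso_fst_of_isIso
    obtain ⟨T, -, ⟨eT⟩⟩ := AffineBc.exists_affine_iso_of_bc_affine k' hX' (asIso (hjK.rep.fst e.hom))
    refine ⟨T, eT.hom ≫ j, MorphismProperty.RespectsIso.precomp _ eT.hom j hj, ?_⟩
    obtain ⟨w, hw⟩ := hzW
    exact ⟨Points.map eT.inv w, by rw [← Points.map_comp, eT.inv_hom_id_assoc]; exact hw⟩
  choose T j hj hx using hcov
  obtain ⟨Q, ⟨eQ⟩, -⟩ := exists_iso_of_open_cover T j hj fun x => by
    obtain ⟨U, a, ha, has⟩ := hX.atlas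
    obtain ⟨z, rfl⟩ := Groth.Agent.AlgSpDec.GeomRed.surjective_fst k' x has
    refine ⟨Points.toScheme Y (Points.map e.inv z), ?_⟩
    obtain ⟨w, hw⟩ := hx (Points.toScheme Y (Points.map e.inv z))
    refine ⟨Points.toScheme _ w, ?_⟩
    rw [Points.ofPt_eq_map_ofScheme, Points.ofScheme_toScheme, hw, Points.ofPt_eq_map_ofScheme,
      Points.ofScheme_toScheme, ← Points.map_comp e.inv, e.inv_hom_id, Points.map_id]
  exact isRepresentable_of_iso eQ

end Groth.Agent.S10461
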