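import Groth.Statements.S10463
-- import your own Groth.Agent.* helpers here
import Groth.Agent.AlgSpDec.ExtScheme

set_option autoImplicit false
universe u
open CategoryTheory CategoryTheory.Limits AlgebraicGeometry Topology TopologicalSpace
open AlgSp

namespace Groth.Agent.S10463

open Groth.Agent Groth.Agent.AlgSpDec

/-- Let k be a field with algebraic closure k̄ and X a quasi-separated algebraic space over k. If X_K is
a scheme for some field extension K of k, then X_{k̄} is a scheme. -/
theorem result (k : Type u) [Field k]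
    (X : AlgSp.Space (Spec (CommRingCat.of k))) (hqs : AlgSp.IsQuasiSeparatedSp X.obj)
    (K : Type u) [Field K] [Algebra k K] (h : (X.obj ⨯ (AlgSp.yon (Spec (CommRingCat.of k))).obj (Over.mk (Spec.map (CommRingCat.ofHom (algebraMap k K))))).obj.IsRepresentable)
    (kbar : Type u) [Field kbar] [Algebra k kbar] [IsAlgClosure k kbar] :
    (X.obj ⨯ (AlgSp.yon (Spec (CommRingCat.of k))).obj (Over.mk (Spec.map (CommRingCat.ofHom (algebraMap k kbar))))).obj.IsRepresentable := by
  have hX := X.property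
  obtain ⟨Y, ⟨e⟩⟩ := Groth.Agent.QuotLib.exists_iso_yon h
  have hY := Groth.Agent.AlgSpPts.isAlgSpace_prod hX
    (IsAlgSpace.yon_obj (GeomRed.ext (k := k) kbar))
  refine GroupScheme.isRepresentable_of_nhds hY fun y => ?_
  have : Algebra.IsAlgebraic k kbar := IsAlgClosure.isAlgebraic
  haveI : IsAlgClosed kbar := IsAlgClosure.isAlgClosed k
  haveI : Normal k kbar := inferInstance
  obtain ⟨F, _, _, ξ, hξ⟩ := FibreChart.exists_field_rep (Points.map prod.fst y)
  obtain ⟨q⟩ : Nonempty (PrimeSpectrum (TensorProduct k F K)) := inferInstance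
  let z := Points.toScheme Y (Points.map e.inv (Points.ofPt (SpreadOut.psi ξ K) q))
  obtain ⟨V, hV, hzV, -⟩ := exists_isAffineOpen_mem_and_subset (x := z) (U := (⊤ : Y.left.Opens)) trivial
  let W : Over (Spec (CommRingCat.of k)) := Over.mk (V.ι ≫ Y.hom)
  let ι : W ⟶ Y := Over.homMk V.ι rfl
  haveI : IsAffine W.left := hV
  have hjW : RepWith @IsOpenImmersion ((yon _).map ι ≫ e.hom) :=
    MorphismProperty.RespectsIso.postcomp _ e.hom _ ((repWith_yon_map_iff _ ι).2 (inferInstanceAs (IsOpenImmersion V.ι)))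
  have hq : Points.ofPt (SpreadOut.psi ξ K) q ∈ Set.range (Points.map ((yon _).map ι ≫ e.hom)) := by
    refine ⟨Points.ofScheme W ⟨z, hzV⟩, ?_⟩
    rw [Points.map_comp]
    erw [Points.map_yon_map_apply]
    change Points.map e.hom (Points.ofScheme Y z) = _
    rw [Points.ofScheme_toScheme, ← Points.map_comp, e.inv_hom_id, Points.map_id]
  obtain ⟨L, _, _, _, T, jT, hT, hjT, z₀, hz₀, hzT⟩ := SpreadOut.exists_affine_meet hX hqs ξ _ hjW q hq
  let g : GeomRed.ext (k := k) kbar ⟶ GeomRed.ext (k := k) L := AffineBc.specMapOver (IsAlgClosed.lift : L →ₐ[k] kbar)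
  obtain ⟨y', hy'⟩ := BcConn.surjective_chg (g := g) (X := X.obj) z₀
  obtain ⟨σ, -, rfl⟩ := BcConn.exists_gal (BcConn.toSelf kbar) (BcConn.chg_eq_of_fst_eq (z := y') (z' := y) (by
    rw [← hξ, ← hz₀, ← hy', ← Points.map_comp, BcConn.chg_fst]))
  let g' := BcConn.galHom σ.symm ≫ g
  have hc : RepWith @IsAffineHom (BcConn.chg g' X.obj) := AlgSpLib.repWith_of_isPullback (BcConn.isPullback_prodMap X.obj _)
    ((repWith_yon_map_iff _ _).2 (by
      haveI : IsAffine (GeomRed.ext (k := k) kbar).left := inferInstanceAs (IsAffine (Spec _))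
      haveI : IsAffine (GeomRed.ext (k := k) L).left := inferInstanceAs (IsAffine (Spec _))
      exact isAffineHom_of_isAffine _))
  refine ⟨_, hc.rep.fst jT, AlgSpLib.repWith_of_isPullback (hc.rep.isPullback jT).flip hjT, ?_⟩
  rw [AlgSpLib.range_map_snd_of_isPullback (hc.rep.isPullback jT).flip]
  show _ ∈ Set.range (Points.map jT)
  rw [← Points.map_comp, BcConn.chg_comp, ← Category.assoc]
  have : BcConn.galHom σ ≫ BcConn.galHom σ.symm = 𝟙 _ := BcConn.galHom_inv σ
  rw [this, Category.id_comp, hy']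
  exact hzT

end Groth.Agent.S10463
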