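import Groth.Statements.S10469
-- import your own Groth.Agent.* helpers here
import Groth.Agent.AlgSpDec.BcGalois

set_option autoImplicit false
universe u
open CategoryTheory CategoryTheory.Limits AlgebraicGeometry Topology TopologicalSpace
open AlgSp

namespace Groth.Agent.S10469

/-- Let k be a field and X an algebraic space over k. Then X is geometrically connected if and only if
X_{k'} is connected for every finite separable field extension k' of k. -/
theorem result (k : Type u) [Field k] (X : AlgSp.Space (Spec (CommRingCat.of k))) :
    (∀ (K : Type u) [Field K] [Algebra k K], ConnectedSpace (AlgSp.Points (X.obj ⨯ (AlgSp.yon (Spec (CommRingCat.of k))).obj (Over.mk (Spec.map (CommRingCat.ofHom (algebraMap k K))))))) ↔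
      ∀ (k' : Type u) [Field k'] [Algebra k k'], Module.Finite k k' → Algebra.IsSeparable k k' →
        ConnectedSpace (AlgSp.Points (X.obj ⨯ (AlgSp.yon (Spec (CommRingCat.of k))).obj (Over.mk (Spec.map (CommRingCat.ofHom (algebraMap k k')))))) := by
  refine ⟨fun h k' _ _ _ _ => h k', fun h K _ _ => ?_⟩
  have : ConnectedSpace (AlgSp.Points X.obj) :=
    (Groth.Agent.AlgSpDec.BcConn.selfHomeo X.obj).connectedSpace_iff.mp (h k inferInstance (Algebra.isSeparable_self k))
  have : ConnectedSpace (AlgSp.Points (X.obj ⨯ (AlgSp.yon (Spec (CommRingCat.of k))).obj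
      (Over.mk (Spec.map (CommRingCat.ofHom (algebraMap k (SeparableClosure k))))))) :=
    Groth.Agent.AlgSpDec.BcConn.connectedSpace_of_finite_levels X.property
      fun k' hk' => h k' hk' inferInstance
  exact Groth.Agent.AlgSpDec.BcConn.geomConnected_of_sepClosed X.property (SeparableClosure k) K

end Groth.Agent.S10469
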