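import Groth.Statements.S10483
import Groth.Agent.AlgSpDec.LqfField
-- import your own Groth.Agent.* helpers here

set_option autoImplicit false
universe u
open CategoryTheory CategoryTheory.Limits AlgebraicGeometry Topology TopologicalSpace
open AlgSp

namespace Groth.Agent.S10483

/-- (1) ⇔ (5): let k be a field and X an algebraic space over k. Then X is locally quasi-finite over k
if and only if X decomposes as a disjoint union of spectra of finite-dimensional Artinian local
k-algebras: X is a scheme every point of which has an affine open neighbourhood with Artinian local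
coordinate ring, finite over k. -/
theorem result (k : Type u) [Field k] (X : AlgSp.Space (Spec (CommRingCat.of k))) (p : X.obj ⟶ (AlgSp.yon (Spec (CommRingCat.of k))).obj (Over.mk (𝟙 _))) :
    AlgSp.LocP (@LocallyQuasiFinite ⊓ @LocallyOfFiniteType : MorphismProperty Scheme.{u}) p ↔
      ∃ (U : Over (Spec (CommRingCat.of k))) (_ : (AlgSp.yon (Spec (CommRingCat.of k))).obj U ≅ X.obj), ∀ u : ↥U.left, ∃ V : U.left.Opens,
        u ∈ V ∧ IsAffineOpen V ∧ IsArtinianRing ↥Γ(U.left, V) ∧ IsLocalRing ↥Γ(U.left, V) ∧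
          IsFinite (V.ι ≫ U.hom) := by
  constructor
  · intro hp
    obtain ⟨Q, ⟨e⟩, h1, h2⟩ := Groth.Agent.AlgSpDec.exists_rep_of_lqf_field X.property hp
    haveI := h1
    haveI : IsLocallyArtinian Q.left := IsLocallyArtinian.of_locallyQuasiFinite Q.hom
    refine ⟨Q, e, fun u => ?_⟩
    obtain ⟨V, hV, huV, hVu⟩ := exists_isAffineOpen_mem_and_subset
      (U := (⟨{u}, isOpen_discrete _⟩ : Q.left.Opens)) (x := u) (Set.mem_singleton u)
    haveI : IsAffine (V : Scheme.{u}) := hV
    haveI : Subsingleton ↥(V : Scheme.{u}) := ⟨fun a b => Subtype.ext ((hVu a.2).trans (hVu b.2).symm)⟩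
    haveI hl := Groth.Agent.AlgSpDec.isLocalRing_of_subsingleton (U := (V : Scheme.{u})) ⟨u, huV⟩
    refine ⟨V, huV, hV, IsLocallyArtinian.isArtinianRing_presheaf_obj ⟨V, hV⟩, ?_,
      Groth.Agent.AlgSpDec.isFinite_of_compact_lqf_field Q.hom V hV.isCompact⟩
    exact V.topIso.commRingCatIsoToRingEquiv.isLocalRing
  · rintro ⟨U, e, h⟩
    have hcov : ∀ u : ↥U.left, ∃ V : U.left.Opens, u ∈ V ∧ IsFinite (V.ι ≫ U.hom) := fun u => by
      obtain ⟨V, hu, -, -, -, hf⟩ := h u
      exact ⟨V, hu, hf⟩
    choose V hu hf using hcov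
    have hA : TopologicalSpace.IsOpenCover V :=
      TopologicalSpace.IsOpenCover.mk (top_le_iff.1 fun q _ => TopologicalSpace.Opens.mem_iSup.2 ⟨q, hu q⟩)
    obtain ⟨v, hv⟩ := (yon (Spec (CommRingCat.of k))).map_surjective (e.hom ≫ p)
    refine Groth.Agent.AlgSpLib.locP_of_chart (h := v) (Groth.Agent.AlgSpLib.repWith_of_isIso _ e.hom)
      (Groth.Agent.AlgSpLib.repWith_of_isIso _ e.hom) (AlgSp.repWith_id _ _) (by rw [hv, Category.comp_id]) ?_
    rw [Groth.Agent.AlgSpDec.lqfField_left v]
    exact ⟨(IsZariskiLocalAtSource.iff_of_openCover (P := @LocallyQuasiFinite)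
        (Scheme.openCoverOfIsOpenCover U.left V hA)).2 fun q => by
          haveI := hf q
          exact (inferInstance : LocallyQuasiFinite ((V q).ι ≫ U.hom)),
      (IsZariskiLocalAtSource.iff_of_openCover (P := @LocallyOfFiniteType)
        (Scheme.openCoverOfIsOpenCover U.left V hA)).2 fun q => by
          haveI := hf q
          exact (inferInstance : LocallyOfFiniteType ((V q).ι ≫ U.hom))⟩


end Groth.Agent.S10483
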