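import Groth.Statements.S10484
import Groth.Agent.AlgSpDec.DiscreteMono
import Groth.Agent.AlgSpLib.EtLocalInst
-- import your own Groth.Agent.* helpers here

set_option autoImplicit false
universe u
open CategoryTheory CategoryTheory.Limits AlgebraicGeometry Topology TopologicalSpace
open AlgSp

namespace Groth.Agent.S10484

/-- For a field k, local quasi-finiteness over k passes from the target Y of a monomorphism f : X ⟶ Y of
algebraic spaces over k to its source X. -/
theorem result (k : Type u) [Field k] {X Y : AlgSp.Space (Spec (CommRingCat.of k))} (f : X ⟶ Y)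
    [Mono f.hom] (q : Y.obj ⟶ (AlgSp.yon (Spec (CommRingCat.of k))).obj (Over.mk (𝟙 _))) (hq : AlgSp.LocP (@LocallyQuasiFinite ⊓ @LocallyOfFiniteType : MorphismProperty Scheme.{u}) q) :
    AlgSp.LocP (@LocallyQuasiFinite ⊓ @LocallyOfFiniteType : MorphismProperty Scheme.{u}) (f.hom ≫ q) := by
  obtain ⟨V, b, hb, hb'⟩ := Y.property.atlas
  obtain ⟨v, hv⟩ := (yon (Spec (CommRingCat.of k))).map_surjective (b ≫ q)
  obtain ⟨hv1, hv2⟩ := hq b (𝟙 _) v hb (AlgSp.repWith_id _ _) (by rw [hv, Category.comp_id])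
  let v' : V.left ⟶ Spec (CommRingCat.of k) := v.left
  haveI : LocallyQuasiFinite v' := hv1
  haveI : LocallyOfFiniteType v' := hv2
  haveI : IsLocallyArtinian V.left := IsLocallyArtinian.of_locallyQuasiFinite v'
  haveI : Mono f.hom := ‹_›
  haveI : Mono (pullback.snd f.hom b) := inferInstance
  obtain ⟨Q, ⟨e⟩⟩ := Groth.Agent.AlgSpDec.exists_rep_of_mono_discrete
    (Groth.Agent.AlgSpLib.isAlgSpace_pullback X.property (IsAlgSpace.yon_obj V) Y.property f.hom b)
    (pullback.snd f.hom b)
  obtain ⟨r, hr⟩ := (yon (Spec (CommRingCat.of k))).map_surjective (e.hom ≫ pullback.snd f.hom b)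
  haveI : Mono r := (yon (Spec (CommRingCat.of k))).mono_of_mono_map (by rw [hr]; infer_instance)
  haveI : Mono r.left := inferInstanceAs (Mono ((Over.forget _).map r))
  obtain ⟨h1, h2⟩ := Groth.Agent.AlgSpDec.lqf_lft_of_mono_artinian r.left
  let a := e.hom ≫ pullback.fst f.hom b
  have ha : RepWith @Etale a := Groth.Agent.AlgSpLib.repWith_comp (Groth.Agent.AlgSpLib.repWith_of_isIso _ e.hom)
    (Groth.Agent.AlgSpLib.repWith_fst f.hom hb)
  have ha' : RepWith @Surjective a := Groth.Agent.AlgSpLib.repWith_comp (Groth.Agent.AlgSpLib.repWith_of_isIso _ e.hom)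
    (Groth.Agent.AlgSpLib.repWith_fst f.hom hb')
  refine Groth.Agent.AlgSpLib.locP_of_chart (h := r ≫ v) ha ha' (AlgSp.repWith_id _ _) ?_ ?_
  · rw [Category.comp_id, Functor.map_comp, hr, hv, Category.assoc, Category.assoc, ← pullback.condition_assoc]
  · rw [Over.comp_left]
    haveI := h1
    haveI := h2
    exact ⟨(inferInstance : LocallyQuasiFinite (r.left ≫ v')), (inferInstance : LocallyOfFiniteType (r.left ≫ v'))⟩


end Groth.Agent.S10484
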