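import Groth.Statements.S10492
import Groth.Agent.AlgSpDec2.GenericPt
import Groth.Agent.NormUniq.Basic
import Groth.Agent.UnibEtale.IntNhd
import Groth.Agent.AlgSpDec.GenFiniteDense
-- import your own Groth.Agent.* helpers here

set_option autoImplicit false
universe u

set_option backward.isDefEq.respectTransparency false
set_option backward.isDefEq.respectTransparency.types false
open CategoryTheory CategoryTheory.Limits AlgebraicGeometry Topology TopologicalSpace
open AlgSp

namespace Groth.Agent.S10492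

open AlgSp Groth.Agent.AlgSpLib Groth.Agent.AlgSpPts Groth.Agent.AlgSpDec

/-- Let X be a normal integral algebraic space over a scheme S. Each point x of X lies in the image of
some etale morphism U ⟶ X from an affine scheme U that is normal and integral. -/
theorem result {S : Scheme.{u}} (X : AlgSp.Space S)
    (hXi : AlgSp.IsIntegralSp X.obj)
    (hXn : AlgSp.EtaleLocally (fun U => ∀ u : ↥U, IsDomain ↥(U.presheaf.stalk u) ∧
      IsIntegrallyClosed ↥(U.presheaf.stalk u)) X.obj)
    (x : AlgSp.Points X.obj) :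
    ∃ (U : Over S) (a : (AlgSp.yon S).obj U ⟶ X.obj), AlgSp.RepWith @Etale a ∧ IsAffine U.left ∧
      IsIntegral U.left ∧ IsIntegrallyClosed ↥Γ(U.left, ⊤) ∧ x ∈ Set.range (AlgSp.Points.ofPt a) := by
  obtain ⟨T, p, hp, hps, hTn⟩ := hXn
  obtain ⟨ξ, hξ⟩ : ∃ ξ, IsGenericPoint ξ (Set.univ : Set (Points X.obj)) := by
    haveI := quasiSober_points X.property hXi.2.1
    haveI := hXi.2.2
    exact QuasiSober.sober (IrreducibleSpace.isIrreducible_univ _) isClosed_univ
  obtain ⟨t, rfl⟩ := surjective_ofPt hps x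
  obtain ⟨A, hA, htA, -⟩ := exists_isAffineOpen_mem_and_subset (U := (⊤ : T.left.Opens)) (x := t) trivial
  haveI : IsAffine A.toScheme := hA
  let ιA : Over.mk (A.ι ≫ T.hom) ⟶ T := Over.homMk A.ι rfl
  have hpA : RepWith @Etale ((yon S).map ιA ≫ p) :=
    repWith_comp ((repWith_yon_map_iff _ ιA).2 (inferInstanceAs (Etale A.ι))) hp
  have hAn : ∀ a : A.toScheme, IsDomain (A.toScheme.presheaf.stalk a) ∧
      IsIntegrallyClosed (A.toScheme.presheaf.stalk a) := fun a => by
    obtain ⟨hd, hn⟩ := hTn a.1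
    exact ⟨(A.stalkIso a).commRingCatIsoToRingEquiv.toMulEquiv.isDomain _,
      IsIntegrallyClosed.of_equiv (A.stalkIso a).commRingCatIsoToRingEquiv.symm⟩
  haveI : ∀ a : A.toScheme, _root_.IsReduced (A.toScheme.presheaf.stalk a) := fun a => by
    haveI := (hAn a).1
    infer_instance
  haveI : IsReduced A.toScheme := isReduced_of_isReduced_stalk A.toScheme
  haveI : CompactSpace ↥(Over.mk (A.ι ≫ T.hom)).left := inferInstanceAs (CompactSpace A.toScheme)
  have hfinG : (genericPoints ↥A.toScheme).Finite := by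
    refine (AlgSpDec.finite_fibre X.property hXi.2.1 (U := Over.mk (A.ι ≫ T.hom)) hpA ξ).subset fun g hg => ?_
    exact (Groth.Agent.AlgSpDec2.GenericPt.c0_iff hXi.2.1 hξ _).1
      ((FibreCodim.hasAt_iff_coheight hpA g).2 (GenFiniteDense.coheight_of_generic hg))
  haveI := hfinG.to_subtype
  haveI : Finite (irreducibleComponents ↥A.toScheme) := Finite.of_equiv _ genericPoints.equiv
  let y : A.toScheme := ⟨t, htA⟩
  have hu : (nilradical (A.toScheme.presheaf.stalk y)).IsPrime := by
    haveI := (hAn y).1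
    rw [nilradical_eq_zero]
    exact Ideal.isPrime_bot
  let C := irreducibleComponent y
  let O : A.toScheme.Opens := ⟨(⋃ Z ∈ {Z : irreducibleComponents ↥A.toScheme | (Z : Set ↥A.toScheme) ≠ C}, (Z : Set ↥A.toScheme))ᶜ,
    ((Set.toFinite _).isClosed_biUnion fun Z _ => isClosed_of_mem_irreducibleComponents _ Z.2).isOpen_compl⟩
  have hyO : y ∈ O := by
    intro h
    obtain ⟨Z, hZ, hyZ⟩ := Set.mem_iUnion₂.1 h
    exact hZ (H23.FinCondSch.unique_component hu Z.2 (irreducibleComponent_mem_irreducibleComponents y) hyZ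
      mem_irreducibleComponent)
  obtain ⟨B, hB, hyB, hBO⟩ := exists_isAffineOpen_mem_and_subset hyO
  have hBC : (B : Set ↥A.toScheme) ⊆ C := by
    intro w hw
    by_contra hwC
    exact hBO hw (Set.mem_biUnion (x := ⟨irreducibleComponent w, irreducibleComponent_mem_irreducibleComponents w⟩)
      (fun h => hwC (h ▸ mem_irreducibleComponent)) mem_irreducibleComponent)
  haveI : IsAffine B.toScheme := hB
  haveI : IrreducibleSpace B.toScheme :=
    haveI : PreirreducibleSpace B.toScheme :=
      Subtype.preirreducibleSpace ((irreducibleComponent_mem_irreducibleComponents y).1.isPreirreducible.open_subset B.2 hBC)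
    { toNonempty := ⟨⟨y, hyB⟩⟩ }
  haveI : IsReduced B.toScheme := isReduced_of_isOpenImmersion B.ι
  haveI : IsIntegral B.toScheme := isIntegral_of_irreducibleSpace_of_isReduced _
  have hBn : Pi1.IsNormalScheme B.toScheme := fun b => by
    obtain ⟨hd, hn⟩ := hAn b.1
    exact ⟨(B.stalkIso b).commRingCatIsoToRingEquiv.toMulEquiv.isDomain _,
      IsIntegrallyClosed.of_equiv (B.stalkIso b).commRingCatIsoToRingEquiv.symm⟩
  let U : Over S := Over.mk (B.ι ≫ A.ι ≫ T.hom)
  let ιB : U ⟶ Over.mk (A.ι ≫ T.hom) := Over.homMk B.ι rfl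
  haveI : Nonempty ((⊤ : B.toScheme.Opens) : Scheme.{u}) := ⟨⟨⟨y, hyB⟩, trivial⟩⟩
  refine ⟨U, (yon S).map ιB ≫ (yon S).map ιA ≫ p,
    repWith_comp ((repWith_yon_map_iff _ ιB).2 (inferInstanceAs (Etale B.ι))) hpA, ‹IsAffine B.toScheme›,
    ‹IsIntegral B.toScheme›, NormUniq.isIntegrallyClosed_sections hBn (isAffineOpen_top B.toScheme),
    (⟨y, hyB⟩ : B.toScheme), ?_⟩
  rw [ofPt_comp, ofPt_comp]
  rfl

end Groth.Agent.S10492
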