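import Groth.Statements.S10494
-- import your own Groth.Agent.* helpers here
import Groth.Agent.S10242
import Groth.Agent.AlgSpLib.Points

set_option autoImplicit false
universe u
open CategoryTheory CategoryTheory.Limits AlgebraicGeometry Topology TopologicalSpace
open AlgSp

namespace Groth.Agent.S10494

/-- Let X be an integral algebraic space over a scheme S. Then Γ(X, O_X) is a domain. -/
theorem result {S : Scheme.{u}} (X : AlgSp.Space S)
    (hX : AlgSp.IsIntegralSp X.obj) : IsDomain ↥(AlgSp.gsectEt (AlgSp.OEt X.obj)) := by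
  obtain ⟨hU, -, hirr⟩ := hX
  let Γ := ↥(AlgSp.gsectEt (AlgSp.OEt X.obj))
  let ev : ∀ E : EtOver X.obj, Γ →+* Γ(E.obj.left.left, ⊤) := fun E =>
    (ULift.ringEquiv : ULift.{u + 1} Γ(E.obj.left.left, ⊤) ≃+* _).toRingHom.comp
      (limit.π (AlgSp.OEt X.obj).obj (Opposite.op E)).hom
  have hw : ∀ {E E' : EtOver X.obj} (k : E ⟶ E') (f : Γ), k.hom.left.left.appTop.hom (ev E' f) = ev E f :=
    fun {E E'} k f => congrArg ULift.down (congrArg (fun m => m f) (limit.w (OEt X.obj).obj k.op))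
  obtain ⟨hred', hV⟩ := Groth.Agent.S10242.result X hU
  have hne : ∀ f : Γ, f ≠ 0 → ∃ (E : EtOver X.obj) (x : ↥E.obj.left.left),
      x ∈ E.obj.left.left.basicOpen (ev E f) := fun f hf => by
    by_contra hc
    push_neg at hc
    exact hf (hV f fun E => eq_bot_iff.2 fun x hx => (hc E x hx).elim)
  haveI : Nontrivial Γ := by
    obtain ⟨U, a, ha, has, -⟩ := hU
    obtain ⟨P⟩ := hirr.toNonempty
    obtain ⟨x, -⟩ := Groth.Agent.AlgSpLib.surjective_ofPt has P
    haveI : Nonempty ↥U.left := ⟨x⟩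
    haveI : Nonempty (↥(⊤ : U.left.Opens)) := ⟨⟨x, trivial⟩⟩
    haveI : Nontrivial Γ((EtOver.mk a ha).obj.left.left, ⊤) := inferInstanceAs (Nontrivial Γ(U.left, ⊤))
    exact (ev (EtOver.mk a ha)).domain_nontrivial
  haveI : NoZeroDivisors Γ := ⟨fun {f g} hfg => by
    by_contra hc
    push_neg at hc
    obtain ⟨E, x, hx⟩ := hne f hc.1
    obtain ⟨E', x', hx'⟩ := hne g hc.2
    have hE := Groth.Agent.AlgSpLib.isOpenMap_ofPt (F := X.obj) (p := E.obj.hom) E.property _
      (E.obj.left.left.basicOpen (ev E f)).2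
    have hE' := Groth.Agent.AlgSpLib.isOpenMap_ofPt (F := X.obj) (p := E'.obj.hom) E'.property _
      (E'.obj.left.left.basicOpen (ev E' g)).2
    obtain ⟨P, ⟨y, hy, hyP⟩, ⟨y', hy', hyP'⟩⟩ :=
      nonempty_preirreducible_inter hE hE' ⟨_, x, hx, rfl⟩ ⟨_, x', hx', rfl⟩
    have hp : RepWith @Etale E.obj.hom := E.property
    have hq : RepWith @Etale E'.obj.hom := E'.property
    obtain ⟨z, hz, hz'⟩ := Groth.Agent.AlgSpLib.exists_ofPt_of_eq (hp.rep.isPullback' E'.obj.hom)
      (hyP.trans hyP'.symm)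
    have : Etale (hp.rep.snd E'.obj.hom).left := hp.property_snd E'.obj.hom
    let E₂ : EtOver X.obj := EtOver.mk ((yon S).map (hp.rep.snd E'.obj.hom) ≫ E'.obj.hom)
      (@Groth.Agent.AlgSpLib.repWith_comp S (@Etale : MorphismProperty Scheme.{u}) MorphismProperty.IsMultiplicative.toIsStableUnderComposition _ _ _ _ _ ((repWith_yon_map_iff _ _).2 this) hq)
    let k : E₂ ⟶ E := EtOver.homMk (hp.rep.fst' E'.obj.hom) (hp.rep.isPullback' E'.obj.hom).w
    let k' : E₂ ⟶ E' := EtOver.homMk (hp.rep.snd E'.obj.hom) rfl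
    have h1 : z ∈ k.hom.left.left ⁻¹ᵁ E.obj.left.left.basicOpen (ev E f) := by
      have e : k.hom.left.left z = y := hz
      refine (Scheme.Hom.mem_preimage (f := k.hom.left.left) (U := E.obj.left.left.basicOpen (ev E f))).2 ?_
      rw [e]; exact hy
    have h2 : z ∈ k'.hom.left.left ⁻¹ᵁ E'.obj.left.left.basicOpen (ev E' g) := by
      have e : k'.hom.left.left z = y' := hz'
      refine (Scheme.Hom.mem_preimage (f := k'.hom.left.left) (U := E'.obj.left.left.basicOpen (ev E' g))).2 ?_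
      rw [e]; exact hy'
    rw [Scheme.preimage_basicOpen_top] at h1 h2
    have h3 : z ∈ E₂.obj.left.left.basicOpen (ev E₂ f * ev E₂ g) := by
      rw [Scheme.basicOpen_mul]
      refine ⟨?_, ?_⟩
      · rw [← hw k]; exact h1
      · rw [← hw k']; exact h2
    rw [← map_mul, hfg, map_zero, Scheme.basicOpen_zero] at h3
    exact h3⟩
  exact NoZeroDivisors.to_isDomain Γ

end Groth.Agent.S10494
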