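import Groth.Statements.S10495
import Groth.Agent.S10494
import Groth.Agent.S10242
import Groth.Agent.AlgSpLib.EtLocalInst
import Mathlib.RingTheory.IntegralClosure.IntegrallyClosed
-- import your own Groth.Agent.* helpers here

set_option autoImplicit false
universe u
open CategoryTheory CategoryTheory.Limits AlgebraicGeometry Topology TopologicalSpace
open AlgSp

namespace Groth.Agent.S10495

/-- A fraction integral over a domain is integral in any normal domain receiving it injectively. -/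
theorem dvd_of_isIntegral_div {Γ : Type*} {A : Type*} [CommRing Γ] [IsDomain Γ] [CommRing A] [IsDomain A]
    [IsIntegrallyClosed A] (φ : Γ →+* A) (hφ : Function.Injective φ) {f g : Γ} (hg : g ≠ 0)
    (hx : IsIntegral Γ (algebraMap Γ (FractionRing Γ) f / algebraMap Γ (FractionRing Γ) g)) : φ g ∣ φ f := by
  let ψ : Γ →+* FractionRing A := (algebraMap A (FractionRing A)).comp φ
  have hψ : Function.Injective ψ := (IsFractionRing.injective A (FractionRing A)).comp hφ
  obtain ⟨p, hp, hp0⟩ := hx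
  let L : FractionRing Γ →+* FractionRing A := IsFractionRing.lift hψ
  have hL : ∀ c, L (algebraMap Γ (FractionRing Γ) c) = algebraMap A (FractionRing A) (φ c) := fun c =>
    IsFractionRing.lift_algebraMap hψ c
  have hint : IsIntegral A (L (algebraMap Γ (FractionRing Γ) f / algebraMap Γ (FractionRing Γ) g)) := by
    refine ⟨p.map φ, hp.map _, ?_⟩
    rw [Polynomial.eval₂_map, ← show L.comp (algebraMap Γ (FractionRing Γ)) =
      (algebraMap A (FractionRing A)).comp φ from RingHom.ext hL, ← Polynomial.hom_eval₂, hp0, map_zero]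
  obtain ⟨h, hh⟩ := IsIntegrallyClosed.isIntegral_iff.1 hint
  refine ⟨h, IsFractionRing.injective A (FractionRing A) ?_⟩
  rw [map_mul, hh, map_div₀, hL, hL]
  show ψ f = ψ g * (ψ f / ψ g)
  rw [mul_div_cancel₀]
  exact (map_ne_zero_iff ψ hψ).2 hg


open TopologicalSpace
set_option maxHeartbeats 1000000
set_option backward.isDefEq.respectTransparency false
set_option backward.isDefEq.respectTransparency.types false

/-- Let X be a normal integral algebraic space over a scheme S. Then Γ(X, O_X) is a normal domain. -/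
theorem result {S : Scheme.{u}} (X : AlgSp.Space S)
    (hXi : AlgSp.IsIntegralSp X.obj)
    (hXn : AlgSp.EtaleLocally (fun U => ∀ u : ↥U, IsDomain ↥(U.presheaf.stalk u) ∧
      IsIntegrallyClosed ↥(U.presheaf.stalk u)) X.obj) :
    IsDomain ↥(AlgSp.gsectEt (AlgSp.OEt X.obj)) ∧ IsIntegrallyClosed ↥(AlgSp.gsectEt (AlgSp.OEt X.obj)) := by
  haveI hΓ := Groth.Agent.S10494.result X hXi
  refine ⟨hΓ, ?_⟩
  obtain ⟨hU0, -, hirr⟩ := hXi
  obtain ⟨-, hV⟩ := Groth.Agent.S10242.result X hU0
  obtain ⟨U, a, ha, has, hnorm⟩ := hXn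
  let Γ := ↥(AlgSp.gsectEt (AlgSp.OEt X.obj))
  let ev : ∀ E : EtOver X.obj, Γ →+* Γ(E.obj.left.left, ⊤) := fun E =>
    (ULift.ringEquiv : ULift.{u + 1} Γ(E.obj.left.left, ⊤) ≃+* _).toRingHom.comp
      (limit.π (AlgSp.OEt X.obj).obj (Opposite.op E)).hom
  have hw : ∀ {E E' : EtOver X.obj} (k : E ⟶ E') (f : Γ), k.hom.left.left.appTop.hom (ev E' f) = ev E f :=
    fun {E E'} k f => congrArg ULift.down (congrArg (fun m => m f) (limit.w (OEt X.obj).obj k.op))
  let φ : ∀ (E : EtOver X.obj) (e : ↥E.obj.left.left), Γ →+* E.obj.left.left.presheaf.stalk e := fun E e =>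
    (E.obj.left.left.presheaf.germ ⊤ e trivial).hom.comp (ev E)
  have hφ : ∀ {E E' : EtOver X.obj} (k : E ⟶ E') (e : ↥E.obj.left.left) (z : Γ),
      φ E e z = k.hom.left.left.stalkMap e (φ E' (k.hom.left.left e) z) := fun {E E'} k e z => by
    show E.obj.left.left.presheaf.germ ⊤ e trivial (ev E z) = _
    rw [← hw k z]
    exact (Scheme.Hom.germ_stalkMap_apply k.hom.left.left ⊤ e trivial (ev E' z)).symm
  have hov : ∀ (E₁ E₂ : EtOver X.obj) (e₁ : ↥E₁.obj.left.left) (e₂ : ↥E₂.obj.left.left),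
      Points.ofPt E₁.obj.hom e₁ = Points.ofPt E₂.obj.hom e₂ →
      ∃ (E : EtOver X.obj) (k₁ : E ⟶ E₁) (k₂ : E ⟶ E₂) (e : ↥E.obj.left.left),
        k₁.hom.left.left e = e₁ ∧ k₂.hom.left.left e = e₂ ∧
          (k₁.hom.left.left.stalkMap e).hom.Flat ∧ (k₂.hom.left.left.stalkMap e).hom.Flat := by
    intro E₁ E₂ e₁ e₂ he
    have hp : RepWith @Etale E₁.obj.hom := E₁.property
    have hq : RepWith @Etale E₂.obj.hom := E₂.property
    obtain ⟨z, hz, hz'⟩ := Groth.Agent.AlgSpLib.exists_ofPt_of_eq (hp.rep.isPullback' E₂.obj.hom) he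
    have h2 : Etale (hp.rep.snd E₂.obj.hom).left := hp.property_snd E₂.obj.hom
    have h1 : Etale (hp.rep.fst' E₂.obj.hom).left := hq.property _ _ _ (hp.rep.isPullback' E₂.obj.hom).flip
    let E : EtOver X.obj := EtOver.mk ((yon S).map (hp.rep.snd E₂.obj.hom) ≫ E₂.obj.hom)
      (@Groth.Agent.AlgSpLib.repWith_comp S (@Etale : MorphismProperty Scheme.{u}) MorphismProperty.IsMultiplicative.toIsStableUnderComposition _ _ _ _ _ ((repWith_yon_map_iff _ _).2 h2) hq)
    let k₁ : E ⟶ E₁ := EtOver.homMk (hp.rep.fst' E₂.obj.hom) (hp.rep.isPullback' E₂.obj.hom).w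
    let k₂ : E ⟶ E₂ := EtOver.homMk (hp.rep.snd E₂.obj.hom) rfl
    exact ⟨E, k₁, k₂, z, hz, hz', @Flat.stalkMap _ _ (hp.rep.fst' E₂.obj.hom).left
      (inferInstance : Flat (hp.rep.fst' E₂.obj.hom).left) z,
      @Flat.stalkMap _ _ (hp.rep.snd E₂.obj.hom).left (inferInstance : Flat (hp.rep.snd E₂.obj.hom).left) z⟩
  let E₀ : EtOver X.obj := EtOver.mk a ha
  -- non-zero functions have non-zero germs
  have hne : ∀ (u : ↥U.left) (z : Γ), z ≠ 0 → φ E₀ u z ≠ 0 := by
    intro u z hz h0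
    obtain ⟨N, huN, i, iV, hi⟩ := E₀.obj.left.left.presheaf.germ_eq (U := ⊤) (V := ⊤) u trivial trivial (ev E₀ z) 0
      (h0.trans (map_zero (E₀.obj.left.left.presheaf.germ ⊤ u trivial).hom).symm)
    refine hz (hV z fun E => eq_bot_iff.2 fun x hx => ?_)
    haveI := hirr
    obtain ⟨P, ⟨y, hy, hyP⟩, ⟨y', hy', hyP'⟩⟩ := nonempty_preirreducible_inter
      (Groth.Agent.AlgSpLib.isOpenMap_ofPt (F := X.obj) (p := E.obj.hom) E.property _
        (E.obj.left.left.basicOpen (ev E z)).2)
      (Groth.Agent.AlgSpLib.isOpenMap_ofPt (F := X.obj) (p := E₀.obj.hom) E₀.property _ N.2)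
      ⟨_, x, hx, rfl⟩ ⟨_, u, huN, rfl⟩
    obtain ⟨E', k₁, k₂, e, he₁, he₂, -, -⟩ := hov E E₀ y y' (hyP.trans hyP'.symm)
    subst he₁ he₂
    have hu : IsUnit (φ E' e z) := by
      rw [hφ k₁]
      exact ((E.obj.left.left.mem_basicOpen_top _ _).1 hy).map _
    have h0' : φ E' e z = 0 := by
      rw [hφ k₂, show φ E₀ (k₂.hom.left.left e) z = E₀.obj.left.left.presheaf.germ N _ hy'
        (E₀.obj.left.left.presheaf.map i.op (ev E₀ z)) from
          (TopCat.Presheaf.germ_res_apply E₀.obj.left.left.presheaf i _ hy' (ev E₀ z)).symm, hi, map_zero,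
        map_zero, map_zero]
    exact not_isUnit_zero (h0' ▸ hu)
  rw [isIntegrallyClosed_iff (FractionRing Γ)]
  intro x hx
  obtain ⟨f, g, hg, rfl⟩ := IsFractionRing.div_surjective (A := Γ) x
  have hg0 : g ≠ 0 := nonZeroDivisors.ne_zero hg
  -- division on the atlas
  have hdiv₀ : ∀ u : ↥U.left, φ E₀ u g ∣ φ E₀ u f := by
    intro u
    let A := E₀.obj.left.left.presheaf.stalk u
    obtain ⟨hdom, hic⟩ := hnorm u
    haveI : IsDomain A := hdom
    haveI : IsIntegrallyClosed A := hic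
    exact dvd_of_isIntegral_div (φ E₀ u)
      ((injective_iff_map_eq_zero (φ E₀ u)).2 fun z hz => by_contra fun hn => hne u z hn hz) hg0 hx
  -- division and injectivity on every chart
  have hloc : ∀ (E : EtOver X.obj) (e : ↥E.obj.left.left),
      φ E e g ∣ φ E e f ∧ ∀ y, φ E e g * y = 0 → y = 0 := by
    intro E e
    obtain ⟨u, hu⟩ := Groth.Agent.AlgSpLib.surjective_ofPt has (Points.ofPt E.obj.hom e)
    obtain ⟨E', k₁, k₂, w, hw₁, hw₂, hf₁, hf₂⟩ := hov E E₀ e u hu.symm
    subst hw₁ hw₂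
    let θ := k₁.hom.left.left.stalkMap w
    let θ₀ := k₂.hom.left.left.stalkMap w
    letI : Algebra (E.obj.left.left.presheaf.stalk (k₁.hom.left.left w)) (E'.obj.left.left.presheaf.stalk w) :=
      θ.hom.toAlgebra
    haveI : Module.Flat (E.obj.left.left.presheaf.stalk (k₁.hom.left.left w)) (E'.obj.left.left.presheaf.stalk w) := hf₁
    haveI : IsLocalHom (algebraMap (E.obj.left.left.presheaf.stalk (k₁.hom.left.left w))
        (E'.obj.left.left.presheaf.stalk w)) := inferInstanceAs (IsLocalHom θ.hom)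
    haveI := Module.FaithfullyFlat.of_flat_of_isLocalHom
      (A := E.obj.left.left.presheaf.stalk (k₁.hom.left.left w)) (B := E'.obj.left.left.presheaf.stalk w)
    refine ⟨?_, fun y hy => ?_⟩
    · obtain ⟨c, hc⟩ := hdiv₀ (k₂.hom.left.left w)
      have hmem : θ (φ E _ f) ∈ Ideal.map (algebraMap _ (E'.obj.left.left.presheaf.stalk w))
          (Ideal.span {φ E (k₁.hom.left.left w) g}) := by
        rw [Ideal.map_span, Set.image_singleton, Ideal.mem_span_singleton]
        show θ (φ E _ g) ∣ θ (φ E _ f)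
        rw [← hφ k₁, ← hφ k₁, hφ k₂, hφ k₂, hc, map_mul]
        exact Dvd.intro _ rfl
      exact Ideal.mem_span_singleton.1 ((Ideal.comap_map_eq_self_of_faithfullyFlat _).le hmem)
    · apply (FaithfulSMul.algebraMap_injective (E.obj.left.left.presheaf.stalk (k₁.hom.left.left w))
        (E'.obj.left.left.presheaf.stalk w))
      rw [map_zero]
      haveI : IsDomain (E₀.obj.left.left.presheaf.stalk (k₂.hom.left.left w)) := (hnorm _).1
      have hreg : IsSMulRegular (E'.obj.left.left.presheaf.stalk w) (φ E' w g) := by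
        rw [hφ k₂]
        letI : Algebra (E₀.obj.left.left.presheaf.stalk (k₂.hom.left.left w)) (E'.obj.left.left.presheaf.stalk w) :=
          θ₀.hom.toAlgebra
        haveI : Module.Flat (E₀.obj.left.left.presheaf.stalk (k₂.hom.left.left w)) (E'.obj.left.left.presheaf.stalk w) := hf₂
        exact IsSMulRegular.of_flat (fun b c hbc => mul_left_cancel₀ (hne _ g hg0) hbc)
      refine hreg (show φ E' w g • θ y = φ E' w g • 0 from ?_)
      rw [smul_zero, smul_eq_mul, hφ k₁, ← map_mul, hy, map_zero]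
  -- the quotient
  have hsec : ∀ E : EtOver X.obj, ∃! h : Γ(E.obj.left.left, ⊤), ev E g * h = ev E f := by
    intro E
    let T := E.obj.left.left
    have hinj : ∀ (N : T.Opens) (b c : Γ(T, N)),
        T.presheaf.map (homOfLE (le_top : N ≤ ⊤)).op (ev E g) * b =
          T.presheaf.map (homOfLE (le_top : N ≤ ⊤)).op (ev E g) * c → b = c := by
      intro N b c hbc
      refine TopCat.Presheaf.section_ext T.sheaf N b c fun x hx => ?_
      refine sub_eq_zero.1 ((hloc E x).2 _ ?_)
      have := congrArg (T.presheaf.germ N x hx) hbc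
      rw [map_mul, map_mul, TopCat.Presheaf.germ_res_apply] at this
      rw [mul_sub, sub_eq_zero]
      exact this
    have hex : ∀ x : ↥T, ∃ (N : T.Opens) (_ : x ∈ N) (b : Γ(T, N)),
        T.presheaf.map (homOfLE (le_top : N ≤ ⊤)).op (ev E g) * b = T.presheaf.map (homOfLE (le_top : N ≤ ⊤)).op (ev E f) := by
      intro x
      obtain ⟨c, hc⟩ := (hloc E x).1
      obtain ⟨N, hxN, b, hb⟩ := T.presheaf.exists_germ_eq (x := x) c
      obtain ⟨N', hxN', i₁, i₂, he⟩ := T.presheaf.germ_eq (U := N) (V := N) x hxN hxN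
        (T.presheaf.map (homOfLE (le_top : N ≤ ⊤)).op (ev E g) * b) (T.presheaf.map (homOfLE (le_top : N ≤ ⊤)).op (ev E f))
        (by rw [map_mul, TopCat.Presheaf.germ_res_apply, TopCat.Presheaf.germ_res_apply, hb]; exact hc.symm)
      refine ⟨N', hxN', T.presheaf.map i₁.op b, ?_⟩
      rw [map_mul, ← ConcreteCategory.comp_apply, ← ConcreteCategory.comp_apply, ← Functor.map_comp,
        ← Functor.map_comp] at he
      exact he
    choose N hN b hb using hex
    have hres : ∀ {N₁ N₂ : T.Opens} (l : N₂ ≤ N₁) (s : Γ(T, ⊤)),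
        T.presheaf.map (homOfLE l).op (T.presheaf.map (homOfLE (le_top : N₁ ≤ ⊤)).op s) =
          T.presheaf.map (homOfLE (le_top : N₂ ≤ ⊤)).op s := fun l s => by
      rw [← ConcreteCategory.comp_apply, ← Functor.map_comp]
      rfl
    have hmul : ∀ {N₂ : T.Opens} (x : ↥T) (l : N₂ ≤ N x),
        T.presheaf.map (homOfLE (le_top : N₂ ≤ ⊤)).op (ev E g) * T.presheaf.map (homOfLE l).op (b x) =
          T.presheaf.map (homOfLE (le_top : N₂ ≤ ⊤)).op (ev E f) := fun x l => by
      rw [← hres l (ev E g), ← map_mul, hb, hres]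
    obtain ⟨(h : Γ(T, ⊤)), hh, -⟩ := T.sheaf.existsUnique_gluing' N ⊤ (fun x => homOfLE le_top)
      (fun x _ => Opens.mem_iSup.2 ⟨x, hN x⟩) b fun x y => hinj _ _ _
        ((hmul x inf_le_left).trans (hmul y inf_le_right).symm)
    have hh₂ : ∀ x, T.presheaf.map (homOfLE (le_top : N x ≤ ⊤)).op h = b x := hh
    refine ⟨h, TopCat.Presheaf.section_ext T.sheaf ⊤ _ _ fun x _ => ?_, fun h' hh' => ?_⟩
    · show T.presheaf.germ ⊤ x trivial (ev E g * h) = T.presheaf.germ ⊤ x trivial (ev E f)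
      rw [← TopCat.Presheaf.germ_res_apply T.presheaf (homOfLE (le_top : N x ≤ ⊤)) x (hN x) (ev E g * h),
        ← TopCat.Presheaf.germ_res_apply T.presheaf (homOfLE (le_top : N x ≤ ⊤)) x (hN x) (ev E f), map_mul, hh₂, hb]
    · refine TopCat.Presheaf.section_ext T.sheaf ⊤ _ _ fun x _ => sub_eq_zero.1 ((hloc E x).2 _ ?_)
      show T.presheaf.germ ⊤ x trivial (ev E g) * (T.presheaf.germ ⊤ x trivial (h' : Γ(T, ⊤)) - T.presheaf.germ ⊤ x trivial h) = 0
      rw [mul_sub, ← map_mul, ← map_mul, hh', sub_eq_zero]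
      refine congrArg _ (TopCat.Presheaf.section_ext T.sheaf ⊤ _ _ fun x _ => ?_)
      show T.presheaf.germ ⊤ x trivial (ev E f) = T.presheaf.germ ⊤ x trivial (ev E g * h)
      rw [← TopCat.Presheaf.germ_res_apply T.presheaf (homOfLE (le_top : N x ≤ ⊤)) x (hN x) (ev E f),
        ← TopCat.Presheaf.germ_res_apply T.presheaf (homOfLE (le_top : N x ≤ ⊤)) x (hN x) (ev E g * h), map_mul, hh₂, hb]
  choose h hh hhu using hsec
  let sec : ((OEt X.obj).obj ⋙ CategoryTheory.forget CommRingCat.{u + 1}).sections :=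
    ⟨fun E => (ULift.up (h E.unop) : ULift.{u + 1} Γ(E.unop.obj.left.left, ⊤)), fun {E E'} k => by
      refine (OEt_map k.unop (ULift.up (h E.unop))).trans (congrArg ULift.up (hhu _ _ ?_))
      show ev E'.unop g * _ = ev E'.unop f
      rw [← hw k.unop g, ← hw k.unop f, ← map_mul, hh]⟩
  haveI : PreservesLimitsOfShape (EtOver X.obj)ᵒᵖ (CategoryTheory.forget CommRingCat.{u + 1}) := inferInstance
  let hl := isLimitOfPreserves (CategoryTheory.forget CommRingCat.{u + 1}) (limit.isLimit (OEt X.obj).obj)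
  let η : Γ := (Types.isLimitEquivSections hl).symm sec
  have hη : ∀ E, ev E η = h E := fun E => congrArg ULift.down
    (Types.isLimitEquivSections_symm_apply hl sec (Opposite.op E))
  refine ⟨η, ?_⟩
  rw [eq_div_iff ((map_ne_zero_iff _ (IsFractionRing.injective Γ (FractionRing Γ))).2 hg0), ← map_mul]
  congr 1
  refine Concrete.limit_ext (OEt X.obj).obj _ _ fun ⟨E⟩ => ULift.ext _ _ ?_
  show ev E (η * g) = ev E f
  rw [map_mul, hη, mul_comm, hh]

end Groth.Agent.S10495
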