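import Groth.Statements.S10496
import Groth.Agent.AlgSpDec.RedInduced
import Groth.Agent.AlgSpDec.DecentMor
import Groth.Agent.AlgSpPts.Imm
-- import your own Groth.Agent.* helpers here

set_option autoImplicit false
universe u
open CategoryTheory CategoryTheory.Limits AlgebraicGeometry Topology TopologicalSpace
open AlgSp

namespace Groth.Agent.S10496

open Groth.Agent CategoryTheory AlgebraicGeometry AlgSp Topology

/-- Let X be a decent algebraic space over a scheme S. For every irreducible closed subset T of |X|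
there is an integral closed subspace Z of X with |Z| = T. -/
theorem result {S : Scheme.{u}} (X : AlgSp.Space S)
    (hX : AlgSp.IsDecent X.obj) (T : Set (AlgSp.Points X.obj)) (hT : IsClosed T) (hTi : IsIrreducible T) :
    ∃ (Z : AlgSp.Space S) (i : Z ⟶ X), AlgSp.RepWith @IsClosedImmersion i.hom ∧ AlgSp.IsIntegralSp Z.obj ∧
      Set.range (AlgSp.Points.map i.hom) = T := by
  obtain ⟨Z, j, hj, hjT, hred⟩ := AlgSpDec.exists_reduced_induced X.property hT
  have hdec : IsDecent Z.obj := AlgSpDec.isDecent_of_isDecentMor Z.property j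
    (AlgSpDec.isDecentMor_of_representable X.property j hj.1) hX
  have hemb := AlgSpPts.isEmbedding_map X.property
    (AlgSpLib.repWith_mono (fun A B g (hg : IsClosedImmersion g) => (inferInstance : IsImmersion g)) _ hj)
  refine ⟨Z, ObjectProperty.homMk j, hj, ⟨hred, hdec, ?_⟩, hjT⟩
  have hir : IsIrreducible (Set.univ : Set (Points Z.obj)) := by
    refine ⟨?_, ?_⟩
    · obtain ⟨t, ht⟩ := hTi.nonempty
      obtain ⟨z, -⟩ := hjT.symm ▸ ht
      exact ⟨z, trivial⟩
    · intro u v hu hv hu' hv'
      obtain ⟨u', hu'o, rfl⟩ := hemb.isInducing.isOpen_iff.1 hu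
      obtain ⟨v', hv'o, rfl⟩ := hemb.isInducing.isOpen_iff.1 hv
      obtain ⟨a, -, ha⟩ := hu'
      obtain ⟨b, -, hb⟩ := hv'
      obtain ⟨t, ht, htu⟩ := hTi.2 u' v' hu'o hv'o
        ⟨_, hjT ▸ Set.mem_range_self a, ha⟩ ⟨_, hjT ▸ Set.mem_range_self b, hb⟩
      obtain ⟨z, rfl⟩ := hjT.symm ▸ ht
      exact ⟨z, trivial, htu⟩
  exact (irreducibleSpace_def _).2 hir

end Groth.Agent.S10496
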