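import Groth.Statements.S10497
-- import your own Groth.Agent.* helpers here
import Groth.Agent.AlgSpDec.GeomRed
import Groth.Agent.AlgSpDec.DecentMor

set_option autoImplicit false
universe u
open CategoryTheory CategoryTheory.Limits AlgebraicGeometry Topology TopologicalSpace
open AlgSp

namespace Groth.Agent.S10497

/-- Let k be a field and X a decent algebraic space over k. Then all base changes X_K to field
extensions K of k are integral exactly when X is geometrically reduced over k and every |X_K| is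
irreducible. -/
theorem result (k : Type u) [Field k] (X : AlgSp.Space (Spec (CommRingCat.of k))) (hX : AlgSp.IsDecent X.obj) :
    (∀ (K : Type u) [Field K] [Algebra k K], AlgSp.IsIntegralSp (X.obj ⨯ (AlgSp.yon (Spec (CommRingCat.of k))).obj (Over.mk (Spec.map (CommRingCat.ofHom (algebraMap k K)))))) ↔
      (∀ x : AlgSp.Points X.obj, (∃ (U : Over (Spec (CommRingCat.of k))) (a : (AlgSp.yon (Spec (CommRingCat.of k))).obj U ⟶ X.obj) (u : ↥U.left),
      AlgSp.RepWith @Etale a ∧ AlgSp.Points.ofPt a u = x ∧ FBase.IsGeomReducedAt U.hom u)) ∧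
        ∀ (K : Type u) [Field K] [Algebra k K], IrreducibleSpace (AlgSp.Points (X.obj ⨯ (AlgSp.yon (Spec (CommRingCat.of k))).obj (Over.mk (Spec.map (CommRingCat.ofHom (algebraMap k K)))))) := by
  refine ⟨fun h => ⟨fun x => ?_, fun K _ _ => (h K).2.2⟩, fun h K _ _ => ⟨?_, ?_, h.2 K⟩⟩
  · obtain ⟨U, a, ha, has⟩ := X.property.atlas
    obtain ⟨u, rfl⟩ := Groth.Agent.AlgSpLib.surjective_ofPt has x
    exact ⟨U, a, u, ha, rfl,
      Groth.Agent.AlgSpDec.GeomRed.geomReduced_of_perfect (AlgebraicClosure k) ha has (h _).1 u⟩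
  · obtain ⟨U, a, ha, has⟩ := X.property.atlas
    refine Groth.Agent.AlgSpDec.GeomRed.bc_isReduced_of_geomReduced K ha has fun u => ?_
    exact (Groth.Agent.AlgSpDec.GeomRed.exists_chart_iff ha u).1 (h.1 (AlgSp.Points.ofPt a u))
  · have ht := (Over.mkIdTerminal (X := Spec (CommRingCat.of k))).isTerminalObj (AlgSp.yon _) _
    refine Groth.Agent.AlgSpDec.isDecent_of_isPullback
      (IsPullback.of_is_product' (Limits.prodIsProd _ _) ht) X.property (AlgSp.IsAlgSpace.yon_obj _)
      (AlgSp.IsAlgSpace.yon_obj _) hX (Groth.Agent.AlgSpDec.isDecent_yon _)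

end Groth.Agent.S10497
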