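import Groth.Statements.S10500
import Groth.Agent.AlgSpDec2.GenericPt
-- import your own Groth.Agent.* helpers here

set_option autoImplicit false
universe u

set_option backward.isDefEq.respectTransparency false
set_option backward.isDefEq.respectTransparency.types false
open CategoryTheory CategoryTheory.Limits AlgebraicGeometry Topology TopologicalSpace
open AlgSp

namespace Groth.Agent.S10500

open AlgSp Groth.Agent.AlgSpLib Groth.Agent.AlgSpPts Groth.Agent.AlgSpDec Groth.Agent.AlgSpDec2.GenericPt

/-- Let X and Y be integral algebraic spaces over a scheme S with generic points x and y, and f : X ⟶ Y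
a morphism which is proper and dominant. Then f is an alteration (finite over some nonempty open
subspace of Y) if and only if x is the only point of X mapping to y. -/
theorem result {S : Scheme.{u}} {X Y : AlgSp.Space S}
    (hXi : AlgSp.IsIntegralSp X.obj) (hYi : AlgSp.IsIntegralSp Y.obj) (f : X ⟶ Y) (hp : AlgSp.IsProperMor f.hom)
    (hd : AlgSp.IsDominantMor f.hom)
    (x : AlgSp.Points X.obj) (hx : IsGenericPoint x (Set.univ : Set (AlgSp.Points X.obj)))
    (y : AlgSp.Points Y.obj) (hy : IsGenericPoint y (Set.univ : Set (AlgSp.Points Y.obj))) :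
    (∃ (V : AlgSp.Space S) (j : V ⟶ Y), AlgSp.RepWith @IsOpenImmersion j.hom ∧ Nonempty (AlgSp.Points V.obj) ∧
      ∀ (P : AlgSp.Space S) (fst : P ⟶ V) (snd : P ⟶ X), IsPullback fst.hom snd.hom j.hom f.hom →
        AlgSp.IsFiniteMor fst.hom) ↔ (∀ x' : AlgSp.Points X.obj, AlgSp.Points.map f.hom x' = y → x' = x) := by
  rw [← qf_iff_unique hXi.2.1 hYi.2.1 f hp.2.1.1 hd hx hy]
  constructor
  · rintro ⟨V, j, hj, ⟨v⟩, h⟩
    have hr : IsOpen (Set.range (Points.map j.hom)) := (isOpenEmbedding_map' Y.property hj).isOpen_range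
    obtain ⟨v', hv'⟩ : y ∈ Set.range (Points.map j.hom) := (hy.specializes (Set.mem_univ _)).mem_open hr ⟨v, rfl⟩
    have sq := IsPullback.of_hasPullback f.hom j.hom
    have hP := isAlgSpace_of_isPullback sq X.property V.property Y.property
    have hfin : IsFiniteMor (pullback.snd f.hom j.hom) :=
      h ⟨_, hP⟩ ⟨pullback.snd f.hom j.hom⟩ ⟨pullback.fst f.hom j.hom⟩ sq.flip
    obtain ⟨z, hz, -⟩ := exists_point_of_isPullback sq (x := x) (y := v')
      ((map_generic hYi.2.1 f hd hx hy).trans hv'.symm)
    obtain ⟨-, hl⟩ := proper_and_lqf_of_finite V.property hfin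
    have h1 := (PointLocus.locP_iff PointLocus.ptProp_lqf PointLocus.lqf_iff_forall hP V.property
      (locP_of_isPullback sq X.property Y.property V.property hp.2.1.1)).1 hl z
    exact hz ▸ (PointLocus.at_baseChange_iff PointLocus.ptProp_lqf sq X.property Y.property V.property hp.2.1.1 z).1 h1
  · intro hq
    obtain ⟨V, j, hj, ⟨v, -⟩, h⟩ := Groth.Agent.AlgSpDec2.QfCodimOne.exists_finite_nhd f hp y fun x' hx' =>
      ((qf_iff_unique hXi.2.1 hYi.2.1 f hp.2.1.1 hd hx hy).1 hq x' hx') ▸ hq
    exact ⟨V, j, hj, ⟨v⟩, h⟩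

end Groth.Agent.S10500
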