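import Groth.Statements.S10511
-- import your own Groth.Agent.* helpers here
import Groth.Agent.AlgSpPts.Sep
import Groth.Agent.AlgSpLib.FpqcDescent

set_option autoImplicit false
universe u
open CategoryTheory CategoryTheory.Limits AlgebraicGeometry
open AlgSp

namespace Groth.Agent.S10511

set_option backward.isDefEq.respectTransparency false
set_option backward.isDefEq.respectTransparency.types false

open Groth.Agent.AlgSpLib Groth.Agent.AlgSpPts

variable {S : Scheme.{u}}

instance : MorphismProperty.IsMultiplicative (@LocallyOfFinitePresentation : MorphismProperty Scheme.{u}) where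
  id_mem X := inferInstanceAs (LocallyOfFinitePresentation (𝟙 X))
  comp_mem f g hf hg := MorphismProperty.comp_mem (@LocallyOfFinitePresentation : MorphismProperty Scheme.{u}) f g hf hg

theorem mk_good {W : Sp S} {X : Sp S} (hX : IsAlgSpace X) {b : W ⟶ X} {T : Over S} (e : W ≅ (yon S).obj T)
    {b' : (yon S).obj T ⟶ X} (h : e.hom ≫ b' = b) (hf : LocP @Flat b')
    (hp : LocP @LocallyOfFinitePresentation b') : LocP @Flat b ∧ LocP @LocallyOfFinitePresentation b := by
  have hW : IsAlgSpace W := (IsAlgSpace.yon_obj T).of_iso e.symm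
  subst h
  exact ⟨locP_comp hW (IsAlgSpace.yon_obj T) hX (locP_of_repWith (repWith_of_isIso _ e.hom)) hf,
    locP_comp hW (IsAlgSpace.yon_obj T) hX (locP_of_repWith (repWith_of_isIso _ e.hom)) hp⟩

theorem locP_of_etale {A B : Sp S} {f : A ⟶ B} (hf : RepWith @Etale f) :
    LocP @Flat f ∧ LocP @LocallyOfFinitePresentation f :=
  ⟨locP_mono (P := @Etale) (fun _ _ g (_ : Etale g) => (inferInstance : Flat g)) (locP_of_repWith hf),
    locP_mono (P := @Etale) (fun _ _ g (_ : Etale g) => (inferInstance : LocallyOfFinitePresentation g))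
      (locP_of_repWith hf)⟩

/-- A separated scheme which is flat and locally of finite presentation over the space. -/
def Good {W X : Sp S} (b : W ⟶ X) : Prop :=
  ∃ (T : Over S) (_ : W ≅ (yon S).obj T), T.left.IsSeparated ∧ LocP @Flat b ∧ LocP @LocallyOfFinitePresentation b

theorem Good.of_iso {W W' X : Sp S} (hX : IsAlgSpace X) {b : W ⟶ X} (h : Good b) (e : W' ≅ W) {b' : W' ⟶ X}
    (hb : e.hom ≫ b = b') : Good b' := by
  obtain ⟨T, e', hT, hf, hp⟩ := h
  have hW : IsAlgSpace W := (IsAlgSpace.yon_obj T).of_iso e'.symm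
  have h2 := mk_good hX (e ≪≫ e') (b' := e'.inv ≫ b) (b := b') (by simp [hb])
    (locP_comp (IsAlgSpace.yon_obj T) hW hX (locP_of_repWith (repWith_of_isIso _ e'.inv)) hf)
    (locP_comp (IsAlgSpace.yon_obj T) hW hX (locP_of_repWith (repWith_of_isIso _ e'.inv)) hp)
  exact ⟨T, e ≪≫ e', hT, h2⟩

theorem good_pullback {W X : Sp S} (hX : IsAlgSpace X) {b : W ⟶ X} (h : Good b) {Z : Over S}
    [IsAffine Z.left] {g : (yon S).obj Z ⟶ X} (hg : RepWith @Etale g) :
    Good (pullback.fst b g ≫ b) := by
  obtain ⟨T, e, hT, hf, hp⟩ := h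
  let T' := hg.rep.pullback (e.inv ≫ b)
  let v : T' ⟶ T := hg.rep.snd (e.inv ≫ b)
  let w : T' ⟶ Z := hg.rep.fst' (e.inv ≫ b)
  have he : Etale v.left := hg.property_snd _
  have hm : Mono (prod.lift v.left w.left) := by
    refine ⟨fun {A} p q hpq => ?_⟩
    have h1 := hpq =≫ prod.fst
    have h2 := hpq =≫ prod.snd
    simp only [Category.assoc, prod.lift_fst, prod.lift_snd] at h1 h2
    have h0 : q ≫ T'.hom = p ≫ T'.hom := by rw [← Over.w v, reassoc_of% h1]
    let P' : Over.mk (p ≫ T'.hom) ⟶ T' := Over.homMk p rfl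
    let Q' : Over.mk (p ≫ T'.hom) ⟶ T' := Over.homMk q h0
    have hPQ : P' = Q' := by
      refine hg.rep.hom_ext' ?_ ?_
      · exact Over.OverMorphism.ext h2
      · exact Over.OverMorphism.ext h1
    exact congrArg (fun k => k.left) hPQ
  have := hT
  have hZ : Z.left.IsSeparated := inferInstance
  have hP : (T.left ⨯ Z.left).IsSeparated := by
    constructor
    have hfst : IsSeparated (prod.fst : T.left ⨯ Z.left ⟶ T.left) :=
      MorphismProperty.of_isPullback (P := @IsSeparated) (IsPullback.of_isLimit_binaryFan_of_isTerminal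
        (prodIsProd T.left Z.left) terminalIsTerminal).flip hZ.isSeparated_terminal_from
    rw [← terminal.comp_from (prod.fst : T.left ⨯ Z.left ⟶ T.left)]
    have := hT.isSeparated_terminal_from
    infer_instance
  have hT' : T'.left.IsSeparated := by
    constructor
    have := hP.isSeparated_terminal_from
    rw [← terminal.comp_from (prod.lift v.left w.left)]
    infer_instance
  have hW : IsAlgSpace W := (IsAlgSpace.yon_obj T).of_iso e.symm
  let E : pullback b g ≅ (yon S).obj T' :=
    (IsPullback.of_hasPullback b g).isoIsPullback W ((yon S).obj Z)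
      ((hg.rep.isPullback (e.inv ≫ b)).flip.of_iso (Iso.refl _) e.symm (Iso.refl _) (Iso.refl _)
        (fst' := (yon S).map v ≫ e.inv) (snd' := hg.rep.fst (e.inv ≫ b)) (f' := b) (g' := g)
        (by simp [v]) (by simp) (by simp) (by simp))
  have h2 := locP_of_etale ((repWith_yon_map_iff @Etale v).2 he)
  have hb1 := mk_good hX E (b' := (yon S).map v ≫ e.inv ≫ b) (b := pullback.fst b g ≫ b)
    (by rw [← Category.assoc, ← Category.assoc, Category.assoc E.hom]; simp [E])
    (locP_comp (IsAlgSpace.yon_obj T') (IsAlgSpace.yon_obj T) hX h2.1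
      (locP_comp (IsAlgSpace.yon_obj T) hW hX (locP_of_repWith (repWith_of_isIso _ e.inv)) hf))
    (locP_comp (IsAlgSpace.yon_obj T') (IsAlgSpace.yon_obj T) hX h2.2
      (locP_comp (IsAlgSpace.yon_obj T) hW hX (locP_of_repWith (repWith_of_isIso _ e.inv)) hp))
  exact ⟨T', E, hT', hb1⟩

theorem good_wide {X : Sp S} (hX : IsAlgSpace X) {ι : Type u} (Z : ι → Over S) (hZ : ∀ i, IsAffine (Z i).left)
    (g : ∀ i, (yon S).obj (Z i) ⟶ X) (hg : ∀ i, RepWith @Etale (g i)) :
    ∀ (n : ℕ) (c : Fin (n + 1) → ι), Good (WidePullback.base (fun k : Fin (n + 1) => g (c k)))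
  | 0, c => by
    have := hZ (c 0)
    have h0 : Good (g (c 0)) := ⟨Z (c 0), Iso.refl _, inferInstance, locP_of_etale (hg (c 0))⟩
    refine h0.of_iso hX ⟨WidePullback.π (fun k : Fin 1 => g (c k)) 0,
      WidePullback.lift (g (c 0)) (fun k => eqToHom (by rw [Subsingleton.elim k 0])) (fun k => ?_), ?_, ?_⟩
      (WidePullback.π_arrow (fun k : Fin 1 => g (c k)) 0)
    · obtain rfl : k = 0 := Subsingleton.elim k 0
      simp
    · refine WidePullback.hom_ext _ _ _ (fun k => ?_) ?_
      · obtain rfl : k = 0 := Subsingleton.elim k 0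
        simp
      · rw [Category.assoc, WidePullback.lift_base, WidePullback.π_arrow (fun k : Fin 1 => g (c k)) 0,
          Category.id_comp]
    · simp
  | n + 1, c => by
    have := hZ (c (Fin.last _))
    have ih := good_wide hX Z hZ g hg n (fun k => c k.castSucc)
    let G := fun k : Fin (n + 2) => g (c k)
    let H := fun k : Fin (n + 1) => g (c k.castSucc)
    let fwd : widePullback _ _ G ⟶ pullback (WidePullback.base H) (g (c (Fin.last _))) :=
      pullback.lift
        (WidePullback.lift (WidePullback.base G) (fun k => WidePullback.π G k.castSucc)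
          (fun k => WidePullback.π_arrow G k.castSucc))
        (WidePullback.π G (Fin.last _))
        (by rw [WidePullback.lift_base, WidePullback.π_arrow G (Fin.last _)])
    let bwd : pullback (WidePullback.base H) (g (c (Fin.last _))) ⟶ widePullback _ _ G :=
      WidePullback.lift (pullback.fst _ _ ≫ WidePullback.base H)
        (fun k => Fin.lastCases (motive := fun k => pullback (WidePullback.base H) (g (c (Fin.last _))) ⟶
            (yon S).obj (Z (c k)))
          (pullback.snd _ _) (fun k => pullback.fst _ _ ≫ WidePullback.π H k) k)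
        (fun k => by
          cases k using Fin.lastCases with
          | last => simp only [Fin.lastCases_last, G]; exact pullback.condition.symm
          | cast k => simp only [Fin.lastCases_castSucc, G, Category.assoc]
                      rw [WidePullback.π_arrow H k])
    refine (good_pullback hX ih (hg (c (Fin.last _)))).of_iso hX ⟨fwd, bwd, ?_, ?_⟩ ?_
    · refine WidePullback.hom_ext _ _ _ (fun k => ?_) ?_
      · cases k using Fin.lastCases with
        | last => simp [fwd, bwd, G, H]
        | cast k => simp [fwd, bwd, G, H]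
      · simp [fwd, bwd, G, H]
    · refine pullback.hom_ext ?_ ?_
      · refine WidePullback.hom_ext _ _ _ (fun k => ?_) ?_
        · simp [fwd, bwd, G, H]
        · simp [fwd, bwd, G, H]
      · simp [fwd, bwd, G, H]
    · show fwd ≫ pullback.fst _ _ ≫ WidePullback.base H = WidePullback.base G
      simp [fwd]

theorem isAffineOpen_iInf {T : Scheme.{u}} [T.IsSeparated] :
    ∀ (n : ℕ) (U : Fin (n + 1) → T.Opens), (∀ k, IsAffineOpen (U k)) → IsAffineOpen (⨅ k, U k)
  | 0, U, h => by
    rw [show (⨅ k, U k) = U 0 from le_antisymm (iInf_le _ _)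
      (le_iInf fun k => by rw [Subsingleton.elim (α := Fin 1) k 0])]
    exact h 0
  | n + 1, U, h => by
    rw [show (⨅ k, U k) = (⨅ k : Fin (n + 1), U k.castSucc) ⊓ U (Fin.last _) from
      le_antisymm (le_inf (le_iInf fun k => iInf_le _ _) (iInf_le _ _)) (le_iInf fun k => by
        cases k using Fin.lastCases with
        | last => exact inf_le_right
        | cast k => exact inf_le_left.trans (iInf_le _ k))]
    exact (isAffineOpen_iInf n _ fun k => h _).inf (h _)


/-- Let `X` be an algebraic space over `S` and `P` a property of sheaves over `X` such that, for every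
algebraic space `U` over `X` and every fppf covering `{U_i ⟶ U}` by algebraic spaces, `P` holds for
`U` as soon as it holds for all the iterated fibre products `U_{i_0} ×_U ⋯ ×_U U_{i_n}` (`n ≥ 0`,
taken in fppf sheaves) over `X`. If `P` holds for every sheaf over `X` that is isomorphic to an
affine scheme and flat and locally of finite presentation over `X`, then `P` holds for `X`. -/
theorem result {S : Scheme.{u}} (X : AlgSp.Space S)
    (P : ∀ ⦃U : AlgSp.Sp S⦄, (U ⟶ X.obj) → Prop)
    (hP : ∀ ⦃U : AlgSp.Sp S⦄ (a : U ⟶ X.obj), AlgSp.IsAlgSpace U →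
      ∀ ⦃ι : Type u⦄ (Ui : ι → AlgSp.Sp S) (g : ∀ i, Ui i ⟶ U), (∀ i, AlgSp.IsAlgSpace (Ui i)) →
      AlgSp.IsFppfCover Ui g →
      (∀ (n : ℕ) (c : Fin (n + 1) → ι),
        P (WidePullback.base (fun k : Fin (n + 1) => g (c k)) ≫ a)) → P a)
    (haff : ∀ ⦃U : AlgSp.Sp S⦄ (a : U ⟶ X.obj) (T : Over S) (e : U ≅ (AlgSp.yon S).obj T), IsAffine T.left →
      AlgSp.LocP @Flat a → AlgSp.LocP @LocallyOfFinitePresentation a → P a) :
    P (𝟙 X.obj) := by
  -- separated schemes
  have hsep : ∀ ⦃U : Sp S⦄ (a : U ⟶ X.obj), Good a → P a := by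
    rintro U a ⟨T, e, hT, hf, hp⟩
    have hU : IsAlgSpace U := (IsAlgSpace.yon_obj T).of_iso e.symm
    let Z : T.left.affineOpens → Over S := fun W => Over.mk (W.1.ι ≫ T.hom)
    let j : ∀ W, Z W ⟶ T := fun W => Over.homMk W.1.ι rfl
    have hje : ∀ W, RepWith @Etale ((yon S).map (j W) ≫ e.inv) := fun W =>
      repWith_comp ((repWith_yon_map_iff _ (j W)).2 (inferInstanceAs (Etale W.1.ι))) (repWith_of_isIso _ _)
    refine hP a hU (fun W => (yon S).obj (Z W)) (fun W => (yon S).map (j W) ≫ e.inv)
      (fun W => IsAlgSpace.yon_obj _) ⟨fun W => locP_of_etale (hje W), fun x => ?_⟩ fun n c => ?_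
    · obtain ⟨t, ht⟩ := (Points.schemeHomeo T).surjective (Points.map e.hom x)
      obtain ⟨W, hW, htW, -⟩ := exists_isAffineOpen_mem_and_subset (U := (⊤ : T.left.Opens)) (x := t) trivial
      refine ⟨⟨W, hW⟩, Points.schemeHomeo (Z ⟨W, hW⟩) ⟨t, htW⟩, ?_⟩
      rw [Points.map_comp, Points.map_yon_map_apply]
      refine (congrArg (Points.map e.inv) ht).trans ?_
      rw [← Points.map_comp, e.hom_inv_id]
      induction x using Points.ind with
      | h p => rfl
    · let O : T.left.Opens := ⨅ k, (c k).1
      let ZO : Over S := Over.mk (O.ι ≫ T.hom)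
      let jO : ZO ⟶ T := Over.homMk O.ι rfl
      have hle : ∀ k, O ≤ (c k).1 := fun k => iInf_le _ k
      let i : ∀ k, ZO ⟶ Z (c k) := fun k => Over.homMk (T.left.homOfLE (hle k))
        (show T.left.homOfLE (hle k) ≫ (c k).1.ι ≫ T.hom = O.ι ≫ T.hom by rw [← Category.assoc, Scheme.homOfLE_ι])
      have hij : ∀ k, i k ≫ j (c k) = jO := fun k => by
        ext1
        exact Scheme.homOfLE_ι _ (hle k)
      let G := fun k : Fin (n + 1) => (yon S).map (j (c k)) ≫ e.inv
      let φ : (yon S).obj ZO ⟶ widePullback _ _ G :=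
        WidePullback.lift ((yon S).map jO ≫ e.inv) (fun k => (yon S).map (i k))
          (fun k => by simp only [G]; rw [← Category.assoc, ← Functor.map_comp, hij])
      have : IsOpenImmersion jO.left := inferInstanceAs (IsOpenImmersion O.ι)
      have : Mono jO := (Over.forget S).mono_of_mono_map (inferInstanceAs (Mono jO.left))
      have hφb : φ ≫ WidePullback.base G = (yon S).map jO ≫ e.inv := by
        simp [φ]
      have : Mono (φ ≫ WidePullback.base G) := by rw [hφb]; infer_instance
      have : Mono φ := mono_of_mono φ (WidePullback.base G)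
      have : Sheaf.IsLocallySurjective φ := by
        refine isLocallySurjective_of_lifts φ fun V v => ?_
        let τ : V ⟶ T := (yon S).preimage (v ≫ WidePullback.base G ≫ e.hom)
        have hτ : ∀ k, (yon S).preimage (v ≫ WidePullback.π G k) ≫ j (c k) = τ := fun k => by
          apply (yon S).map_injective
          have h1 : v ≫ WidePullback.π G k ≫ (yon S).map (j (c k)) = v ≫ WidePullback.base G ≫ e.hom := by
            rw [← WidePullback.π_arrow G k]
            simp only [Category.assoc, G, e.inv_hom_id, Category.comp_id]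
          simpa [τ, Functor.map_comp] using h1
        have hO : Set.range τ.left ⊆ (O : Set T.left) := by
          rintro _ ⟨y, rfl⟩
          rw [show O = (Finset.univ : Finset (Fin (n + 1))).inf (fun k => (c k).1) from
            (Finset.inf_univ_eq_iInf _).symm, TopologicalSpace.Opens.coe_finset_inf, Finset.inf_eq_iInf]
          simp only [Set.iInf_eq_iInter, Set.mem_iInter, Function.comp_apply]
          intro k _
          have h2 : ((yon S).preimage (v ≫ WidePullback.π G k)).left ≫ (c k).1.ι = τ.left :=
            congrArg (fun m => m.left) (hτ k)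
          rw [← h2, Scheme.Hom.comp_apply]
          exact (((yon S).preimage (v ≫ WidePullback.π G k)).left y).2
        let l : V ⟶ ZO := Over.homMk (IsOpenImmersion.lift O.ι τ.left (hO.trans (Scheme.Opens.range_ι O).symm.subset))
          (show _ ≫ O.ι ≫ T.hom = V.hom by rw [IsOpenImmersion.lift_fac_assoc]; exact Over.w τ)
        have hl : l ≫ jO = τ := by ext1; exact IsOpenImmersion.lift_fac _ _ _
        refine ⟨V, 𝟙 V, (yon S).map l, fppf_of_etale (𝟙 V.left), ?_⟩
        rw [(yon S).map_id, Category.id_comp]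
        refine WidePullback.hom_ext _ _ _ (fun k => ?_) ?_
        · rw [Category.assoc, WidePullback.lift_π]
          have : Mono (j (c k)) :=
            (Over.forget S).mono_of_mono_map (inferInstanceAs (Mono (c k).1.ι))
          rw [← (yon S).map_preimage (v ≫ WidePullback.π G k), ← Functor.map_comp]
          congr 1
          rw [← cancel_mono (j (c k)), Category.assoc, hij, hl, hτ k]
        · rw [Category.assoc, hφb, ← Category.assoc, ← Functor.map_comp, hl, Functor.map_preimage]
          simp
      have := isIso_of_mono_of_locallySurjective φ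
      have hae := isAffineOpen_iInf n (fun k => (c k).1) fun k => (c k).2
      have hh := mk_good X.property (asIso φ).symm (b' := (yon S).map jO ≫ e.inv ≫ a)
        (b := WidePullback.base G ≫ a) (by rw [← Category.assoc ((yon S).map jO), ← hφb]; simp)
        (locP_comp (IsAlgSpace.yon_obj ZO) hU X.property
          (locP_comp (IsAlgSpace.yon_obj ZO) (IsAlgSpace.yon_obj T) hU
            (locP_of_etale ((repWith_yon_map_iff _ jO).2 (inferInstanceAs (Etale O.ι)))).1
            (locP_of_repWith (repWith_of_isIso _ e.inv))) hf)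
        (locP_comp (IsAlgSpace.yon_obj ZO) hU X.property
          (locP_comp (IsAlgSpace.yon_obj ZO) (IsAlgSpace.yon_obj T) hU
            (locP_of_etale ((repWith_yon_map_iff _ jO).2 (inferInstanceAs (Etale O.ι)))).2
            (locP_of_repWith (repWith_of_isIso _ e.inv))) hp)
      exact haff _ ZO (asIso φ).symm hae hh.1 hh.2
  obtain ⟨U, p, he, hs⟩ := X.property.atlas
  let Z : U.left.affineOpens → Over S := fun W => Over.mk (W.1.ι ≫ U.hom)
  let j : ∀ W, Z W ⟶ U := fun W => Over.homMk W.1.ι rfl
  have hje : ∀ W, RepWith @Etale ((yon S).map (j W) ≫ p) := fun W =>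
    repWith_comp ((repWith_yon_map_iff _ (j W)).2 (inferInstanceAs (Etale W.1.ι))) he
  refine hP (𝟙 X.obj) X.property (fun W => (yon S).obj (Z W)) (fun W => (yon S).map (j W) ≫ p)
    (fun W => IsAlgSpace.yon_obj _) ⟨fun W => locP_of_etale (hje W), fun x => ?_⟩ fun n c => ?_
  · obtain ⟨u, rfl⟩ := surjective_ofPt hs x
    obtain ⟨W, hW, hu, -⟩ := exists_isAffineOpen_mem_and_subset (U := (⊤ : U.left.Opens)) (x := u) trivial
    refine ⟨⟨W, hW⟩, Points.schemeHomeo (Z ⟨W, hW⟩) ⟨u, hu⟩, ?_⟩
    rw [Points.map_comp, Points.map_yon_map_apply]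
    exact (Points.ofPt_eq_map_ofScheme _ _).symm
  · rw [Category.comp_id]
    exact hsep _ (good_wide X.property Z (fun W => W.2) _ hje n c)

end Groth.Agent.S10511
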