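import Groth.Statements.S10514
import Groth.Agent.AlgSpLib.Covers
import Groth.Agent.S7190
-- import your own Groth.Agent.* helpers here

set_option autoImplicit false
universe u
open CategoryTheory CategoryTheory.Limits AlgebraicGeometry
open AlgSp

namespace Groth.Agent.S10514

/-- An fppf covering of an algebraic space `X` over `S` by algebraic spaces is a ph covering of `X`: its
members are locally of finite type and every morphism from an affine scheme `Z` to `X` admits a
standard ph covering of `Z` whose members lift through members of the family. -/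
theorem result {S : Scheme.{u}} (X : AlgSp.Space S) {ι : Type u}
    (Xi : ι → AlgSp.Space S) (g : ∀ i, Xi i ⟶ X)
    (h : AlgSp.IsFppfCover (fun i => (Xi i).obj) (fun i => (g i).hom)) :
    AlgSp.IsPhCover (fun i => (Xi i).obj) (fun i => (g i).hom) := by
  refine ⟨fun i => Groth.Agent.AlgSpLib.locP_mono (P := @LocallyOfFinitePresentation) (Q := @LocallyOfFiniteType)
    (fun _ _ f (_ : LocallyOfFinitePresentation f) => inferInstanceAs (LocallyOfFiniteType f)) (h.1 i).2, fun Z hZ z => ?_⟩
  obtain ⟨U, l, v, hl, hfl, hfp, hs⟩ :=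
    Groth.Agent.AlgSpLib.exists_fppf_family X.property (fun i => (Xi i).property) (fun i => (g i).hom) h z
  let E : PreZeroHypercover.{u} Z.left := ⟨ι, fun i => (U i).left, fun i => (v i).left⟩
  have hE : HTop.IsPhCover E := Groth.Agent.S7190.result E hfl hfp
    (fun t => by obtain ⟨i, x, hx⟩ := hs t; exact ⟨i, x, hx⟩)
  haveI := hZ
  obtain ⟨F, hF, hr⟩ := hE.2 ⟨⊤, isAffineOpen_top Z.left⟩
  obtain ⟨W, f, io, hf, hfs, hio, hcomp, hcov⟩ := hF.exists_proper
  refine ⟨⟨F.I₀, F.X, fun j => F.f j ≫ (⊤ : Z.left.Opens).ι⟩, ⟨hZ, hF.finite_index, hF.isAffine_obj,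
    ⟨W, f ≫ (⊤ : Z.left.Opens).ι, io, ?_, ?_, hio, fun j => ?_, hcov⟩⟩, fun j => ?_⟩
  · haveI : IsIso (⊤ : Z.left.Opens).ι := Z.left.topIso.isIso_hom
    exact inferInstanceAs (IsProper (f ≫ _))
  · haveI : IsIso (⊤ : Z.left.Opens).ι := Z.left.topIso.isIso_hom
    exact inferInstanceAs (Surjective (f ≫ _))
  · exact (Category.assoc _ _ _).symm.trans (congrArg (· ≫ (⊤ : Z.left.Opens).ι) (hcomp j))
  · obtain ⟨i, k, hk⟩ := hr j
    refine ⟨i, (yon S).map (Over.homMk (U := Over.mk ((F.f j ≫ (⊤ : Z.left.Opens).ι) ≫ Z.hom)) (V := U i) k ?_) ≫ l i, ?_⟩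
    · have hw := Over.w (v i)
      show k ≫ (U i).hom = (F.f j ≫ (⊤ : Z.left.Opens).ι) ≫ Z.hom
      exact (congrArg (k ≫ ·) hw.symm).trans ((Category.assoc _ _ _).symm.trans (congrArg (· ≫ Z.hom) hk))
    · refine (Category.assoc _ _ _).trans ((congrArg _ (hl i)).trans ((Category.assoc _ _ _).symm.trans ?_))
      refine congrArg (· ≫ z) (((yon S).map_comp _ _).symm.trans (congrArg _ ?_))
      ext1
      exact hk

end Groth.Agent.S10514
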