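import Groth.Statements.S10517
import Groth.Agent.AlgSpLib.Covers
import Groth.Agent.HTopPh.Compose
-- import your own Groth.Agent.* helpers here

set_option autoImplicit false
universe u
open CategoryTheory CategoryTheory.Limits AlgebraicGeometry
open AlgSp

attribute [-instance] CategoryTheory.catToReflQuiver

namespace Groth.Agent.S10517

set_option backward.isDefEq.respectTransparency false
set_option backward.isDefEq.respectTransparency.types false

/-- If `{X_i ⟶ X}` is a ph covering of the algebraic space `X` by algebraic spaces and each `X_i` has a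
ph covering `{X_ij ⟶ X_i}` by algebraic spaces, then the composites `X_ij ⟶ X_i ⟶ X`, indexed by the
pairs `(i, j)`, form a ph covering of `X`. -/
theorem result {S : Scheme.{u}} (X : AlgSp.Space S) {ι : Type u}
    (Xi : ι → AlgSp.Space S) (g : ∀ i, Xi i ⟶ X) (κ : ι → Type u) (Xij : ∀ i, κ i → AlgSp.Space S)
    (gij : ∀ i j, Xij i j ⟶ Xi i)
    (h : AlgSp.IsPhCover (fun i => (Xi i).obj) (fun i => (g i).hom))
    (hij : ∀ i, AlgSp.IsPhCover (fun j => (Xij i j).obj) (fun j => (gij i j).hom)) :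
    AlgSp.IsPhCover (fun r : Σ i, κ i => (Xij r.1 r.2).obj) (fun r => (gij r.1 r.2 ≫ g r.1).hom) := by
  refine ⟨fun r => Groth.Agent.AlgSpLib.locP_comp (Xij r.1 r.2).property (Xi r.1).property X.property ((hij r.1).1 r.2) (h.1 r.1), fun Z hZ b => ?_⟩
  obtain ⟨F, hF, hl⟩ := h.2 Z hZ b
  choose i l hl using hl
  choose F' hF' hl' using fun j => (hij (i j)).2 (Over.mk (F.f j ≫ Z.hom)) (hF.isAffine_obj j) (l j)
  choose i' l' hl' using hl'
  haveI : IsAffine Z.left := hZ
  obtain ⟨G, hG, hr⟩ := (Groth.Agent.HTopPh.phLifts_bind_standardPh hF F' hF').exists_standardPh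
  refine ⟨G, hG, fun r => ?_⟩
  obtain ⟨⟨j, k⟩, w, hw⟩ := hr r
  have hw' : w ≫ (F' j).f k ≫ F.f j = G.f r := hw.trans (Category.comp_id _)
  let m : Over.mk (G.f r ≫ Z.hom) ⟶ Over.mk ((F' j).f k ≫ (Over.mk (F.f j ≫ Z.hom)).hom) :=
    Over.homMk w (by simp [← hw'])
  refine ⟨⟨i j, i' j k⟩, (yon S).map m ≫ l' j k, ?_⟩
  simp only [Category.assoc]
  show (yon S).map m ≫ l' j k ≫ (gij (i j) (i' j k)).hom ≫ (g (i j)).hom = _
  rw [reassoc_of% (hl' j k), hl j]
  simp only [← Category.assoc, ← Functor.map_comp]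
  refine congrArg (fun t => (yon S).map t ≫ b) (Over.OverMorphism.ext ?_)
  simp [m, ← hw']

end Groth.Agent.S10517
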