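import Groth.Statements.S1057
import Groth.Agent.PushAmp.RelPCFpqc

set_option autoImplicit false
universe u
open CategoryTheory CategoryTheory.Limits AlgebraicGeometry Opposite
attribute [local instance] HasDerivedCategory.standard
open Perf

namespace Groth.Agent.S1057

/-- For a covering by a single flat, surjective, quasi-compact morphism f : X' ⟶ X: assuming Lf^*
exists, an object E of D(O_X) with quasi-coherent cohomology sheaves is m-pseudo-coherent if and
only if Lf^*E is m-pseudo-coherent. -/
theorem result {X' X : Scheme.{u}} (f : X' ⟶ X) [Flat f] [Surjective f] [QuasiCompact f] [DCoh.HasLpull f] (E : DCoh.D X) (hE : DCoh.IsQCohD E) (m : ℤ) :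
    DCoh.IsPseudoCoherentD m E ↔ DCoh.IsPseudoCoherentD m ((DCoh.Lpull f).obj E) := by
  open Groth.Agent.PushAmp Groth.Agent.KFlatLib in
  refine ⟨fun h => isPseudoCoherentD_lpull f h, fun h => ?_⟩
  rw [isPseudoCoherentD_iff]
  refine (locPC_iff_relPC (𝟙 X) (npc_of_flat _) m E).2 ?_
  let a := pullback.fst (𝟙 X) f
  let b := pullback.snd (𝟙 X) f
  haveI := hasLpull a
  haveI := hasLpull b
  haveI := hasLpull (b ≫ f)
  refine relPC_descent_fpqc (𝟙 X) f hE ((locPC_iff_relPC b (npc_of_flat _) m _).1 ?_)
  obtain ⟨c⟩ := nonempty_lpull_comp b f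
  have hab : a = b ≫ f := by simpa [a, b] using pullback.condition (f := 𝟙 X) (g := f)
  exact ((isPseudoCoherentD_iff m _).1 (isPseudoCoherentD_lpull b h)).of_iso
    (c.app E ≪≫ eqToIso (by congr 1; simp only [a] at hab ⊢; simp only [hab]))

end Groth.Agent.S1057
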