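import Groth.Statements.S10579
import Groth.Agent.IntBC.UnibranchDescent
import Groth.Agent.AlgSpLib.LocalSource
import Groth.Agent.AlgSpDec.Basic
-- import your own Groth.Agent.* helpers here

set_option autoImplicit false
universe u

set_option backward.isDefEq.respectTransparency false
set_option backward.isDefEq.respectTransparency.types false
open CategoryTheory CategoryTheory.Limits AlgebraicGeometry
open AlgSp

namespace Groth.Agent.S10579

open AlgSp Groth.Agent.AlgSpLib Groth.Agent.AlgSpPts Groth.Agent.AlgSpDec

/-- Let f : X ⟶ Y be a morphism of algebraic spaces over S and x ∈ |X|. If X is geometrically unibranch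
at x and f is flat at x, then Y is geometrically unibranch at the image point f(x). Here an
algebraic space is geometrically unibranch at a point when for every etale chart from a scheme U and
every point u of U over it the local ring of U at u is geometrically unibranch. -/
theorem result {S : Scheme.{u}} {X Y : AlgSp.Space S} (f : X ⟶ Y) (x : AlgSp.Points X.obj)
    (hf : AlgSp.IsFlatAtMor f.hom x)
    (hX : ∀ (U : Over S) (a : (AlgSp.yon S).obj U ⟶ X.obj) (v : ↥U.left), AlgSp.RepWith @Etale a →
      AlgSp.Points.ofPt a v = x → CAlg2.IsGeomUnibranch ↥(U.left.presheaf.stalk v))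
    (V : Over S) (b : (AlgSp.yon S).obj V ⟶ Y.obj) (w : ↥V.left) (hb : AlgSp.RepWith @Etale b)
    (hw : AlgSp.Points.ofPt b w = AlgSp.Points.map f.hom x) :
    CAlg2.IsGeomUnibranch ↥(V.left.presheaf.stalk w) := by
  obtain ⟨U, e, h, he, hes, hh⟩ := exists_chart_over X.property Y.property f.hom b
  obtain ⟨z, hz₁, hz₂⟩ := exists_point_of_isPullback (IsPullback.of_hasPullback f.hom b)
    (x := x) (y := Points.ofScheme V w) (by rw [Points.map_ofPt, Category.id_comp]; exact hw.symm)
  obtain ⟨u, rfl⟩ := surjective_ofPt hes z
  rw [Points.map_ofPt, hh, ← Category.comp_id ((yon S).map h), ofPt_comp] at hz₂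
  obtain rfl : h.left u = w := by
    have := congrArg (Points.toScheme V) hz₂
    rwa [Points.toScheme_ofScheme, Points.toScheme_ofScheme] at this
  rw [Points.map_ofPt] at hz₁
  have ha : RepWith @Etale (e ≫ pullback.fst f.hom b) := repWith_comp he (repWith_fst f.hom hb)
  have hfl := hf _ b h u ha hb (by rw [Category.assoc, pullback.condition, ← Category.assoc, hh]) hz₁
  letI := (h.left.stalkMap u).hom.toAlgebra
  haveI : Module.Flat (V.left.presheaf.stalk (h.left u)) (U.left.presheaf.stalk u) := hfl
  haveI : IsLocalHom (algebraMap (V.left.presheaf.stalk (h.left u)) (U.left.presheaf.stalk u)) :=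
    inferInstanceAs (IsLocalHom (h.left.stalkMap u).hom)
  exact IntBC.isGeomUnibranch_descent (hX U _ u ha hz₁)

end Groth.Agent.S10579
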