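import Groth.Statements.S10585
import Groth.Agent.AlgSpLib.EtTopInv
import Groth.Agent.AlgSpDec.UHScheme
import Groth.Agent.AlgSpDec.IntPush

set_option backward.isDefEq.respectTransparency false
set_option backward.isDefEq.respectTransparency.types false
-- import your own Groth.Agent.* helpers here

set_option autoImplicit false
universe u
open CategoryTheory CategoryTheory.Limits AlgebraicGeometry
open AlgSp

namespace Groth.Agent.S10585

/-- Take a representable morphism f : X ⟶ Y of algebraic spaces over S that is integral, universally
injective and surjective. Then the base change functor from the small etale site of Y (schemes etale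
over Y) to the small etale site of X is an equivalence of categories, and a scheme etale over Y is
affine if and only if its base change to X is affine. (An integral morphism is representable; the
representability hypothesis is carried to name the base change functor.) -/
theorem result {S : Scheme.{u}} {X Y : AlgSp.Space S}
    (f : X ⟶ Y) (hf : AlgSp.Representable f.hom) (h1 : AlgSp.IsIntegralMor f.hom)
    (h2 : AlgSp.IsUnivInjectiveMor f.hom) (h3 : AlgSp.IsSurjectiveMor f.hom) :
    (AlgSp.EtOver.bc hf).IsEquivalence ∧
    ∀ E : AlgSp.EtOver Y.obj, IsAffine E.obj.left.left ↔ IsAffine ((AlgSp.EtOver.bc hf).obj E).obj.left.left := by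
  have hi : AlgSp.RepWith @IsIntegralHom f.hom := Groth.Agent.AlgSpDec.isIntegralMor_iff_repWith.1 h1
  have hinj := Groth.Agent.AlgSpPts.repWith_universally_of_univSp
    (P := topologically fun g => Function.Injective g)
    (Q := fun _ _ g => Function.Injective (Points.map g)) (fun V U g hg => by
      show Function.Injective g.left
      intro a b hab
      refine (Points.schemeHomeo V).injective (hg ?_)
      rw [Points.map_yon_map_apply, Points.map_yon_map_apply, hab]) hf h2
  have hu : AlgSp.RepWith @UniversallyInjective f.hom :=
    ⟨hf, fun _ _ g fst snd sq => ⟨hinj.property g fst snd sq⟩⟩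
  have hs : AlgSp.RepWith @Surjective f.hom := Groth.Agent.AlgSpLib.repWith_surjective_of_surjective hf h3
  have := Groth.Agent.AlgSpLib.EtTopInv.bc_faithful hf hi hu hs
  have := Groth.Agent.AlgSpLib.EtTopInv.bc_full hf hi hu hs
  have := Groth.Agent.AlgSpDec.UHScheme.bc_essSurj X.property Y.property hf hi hu hs
  refine ⟨{}, fun E => ?_⟩
  have hic : IsIntegralHom (hf.snd E.obj.hom).left := hi.property _ _ _ (hf.isPullback E.obj.hom)
  have hsc : Surjective (hf.snd E.obj.hom).left := hs.property _ _ _ (hf.isPullback E.obj.hom)
  constructor
  · intro hA
    exact isAffine_of_isAffineHom (hf.snd E.obj.hom).left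
  · intro hA
    have : IsAffine (hf.pullback E.obj.hom).left := hA
    exact Groth.Agent.AlgSpDec.UHScheme.isAffine_of_univClosed (hf.snd E.obj.hom) hic hsc

end Groth.Agent.S10585
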