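import Groth.Statements.S10602
import Groth.Agent.SmoothCrit.Space
import Groth.Agent.S10629
import Groth.Agent.AlgSpLib.EtLocalInst
-- import your own Groth.Agent.* helpers here

set_option autoImplicit false
universe u
open CategoryTheory CategoryTheory.Limits AlgebraicGeometry
open AlgSp

namespace Groth.Agent.S10602

/-- Take a morphism f : X ⟶ Y of algebraic spaces over S that is locally of finite type, with Y locally
Noetherian. Then f is smooth if and only if for every surjection π : B' → B of Artinian local rings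
whose kernel is principal and killed by the maximal ideal of B', every structure map Spec B' ⟶ S,
every α : Spec B ⟶ X and every β : Spec B' ⟶ Y locally of finite type with α ≫ f = Spec(π) ≫ β,
there is γ : Spec B' ⟶ X with Spec(π) ≫ γ = α and γ ≫ f = β. (The published statement asks for lifts
only against β of finite type, which can be vacuous when Y is not quasi-separated; this row asks for
lifts against every β locally of finite type.) -/
theorem result {S : Scheme.{u}} {X Y : AlgSp.Space S} (f : X ⟶ Y)
    (hY : AlgSp.IsLocNoethSp Y.obj) (hft : AlgSp.LocP @LocallyOfFiniteType f.hom) :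
    AlgSp.LocP @Smooth f.hom ↔
      ∀ (B' B : Type u) [CommRing B'] [CommRing B] [IsLocalRing B'] [IsLocalRing B]
        [IsArtinianRing B'] [IsArtinianRing B] (π : B' →+* B), Function.Surjective π →
        (∃ t : B', RingHom.ker π = Ideal.span {t} ∧ ∀ a ∈ IsLocalRing.maximalIdeal B', a * t = 0) →
        ∀ (s : Spec (CommRingCat.of B') ⟶ S)
          (α : (AlgSp.yon S).obj (Over.mk (Spec.map (CommRingCat.ofHom π) ≫ s)) ⟶ X.obj)
          (β : (AlgSp.yon S).obj (Over.mk s) ⟶ Y.obj),
          AlgSp.LocP @LocallyOfFiniteType β →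
          α ≫ f.hom = (AlgSp.yon S).map
            (Over.homMk (Spec.map (CommRingCat.ofHom π)) :
              Over.mk (Spec.map (CommRingCat.ofHom π) ≫ s) ⟶ Over.mk s) ≫ β →
          ∃ γ : (AlgSp.yon S).obj (Over.mk s) ⟶ X.obj,
            (AlgSp.yon S).map (Over.homMk (Spec.map (CommRingCat.ofHom π)) :
              Over.mk (Spec.map (CommRingCat.ofHom π) ≫ s) ⟶ Over.mk s) ≫ γ = α ∧ γ ≫ f.hom = β := by
  constructor
  · intro h B' B _ _ _ _ _ _ π hπ ⟨t, ht, htm⟩ s α β _ w
    exact SmoothCrit.exists_lift_of_surjective ((S10629.result f).1 h).2 π hπ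
      (SmoothCrit.ker_sq_eq_bot ht htm) s α β w
  intro H U V a b h ha hb w
  have : IsLocallyNoetherian V.left := AlgSpDec.isLocallyNoetherian_chart hb hY
  have : LocallyOfFiniteType h.left := hft a b h ha hb w
  have : LocallyOfFinitePresentation h.left :=
    AlgStLib.locallyOfFinitePresentation_of_isLocallyNoetherian _ inferInstance
  refine Scheme.Hom.smoothLocus_eq_top_iff.1 (top_le_iff.1 fun u₀ _ => ?_)
  by_contra hu₀
  obtain ⟨W, hW, hu₀W, -⟩ := exists_isAffineOpen_mem_and_subset (X := U.left) (x := u₀) (U := ⊤) trivial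
  have : CompactSpace {x // x ∈ W} := isCompact_iff_compactSpace.1 hW.isCompact
  obtain ⟨⟨u, huW⟩, hu, hcl⟩ :=
    ((h.left.smoothLocus.isOpen.preimage continuous_subtype_val).isClosed_compl :
      IsClosed (Subtype.val ⁻¹' (h.left.smoothLocus : Set U.left) : Set {x // x ∈ W})ᶜ).exists_closed_singleton
      ⟨⟨u₀, hu₀W⟩, hu₀⟩
  refine hu (SmoothCrit.mem_smoothLocus_of_lift h.left u fun A _ _ _ J _ t ht htm hJ ψ β _ hψ hβ => ?_)
  have := SmoothCrit.isLocalHom_of_residue_surjective ψ hψ
  have hβf := SmoothCrit.locallyOfFiniteType_test h.left huW hcl J ψ hψ β hβ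
  refine SmoothCrit.exists_chart_lift ha hb w J hJ _ β hβ fun α' β' hα' hβ' w' => ?_
  refine H A (A ⧸ J) (Ideal.Quotient.mk J) Ideal.Quotient.mk_surjective
    ⟨t, Ideal.mk_ker.trans ht, htm⟩ (β ≫ V.hom) _ _ ?_ w'
  exact AlgSpLib.locP_comp (IsAlgSpace.yon_obj _) (IsAlgSpace.yon_obj V) Y.property
    (AlgSpLib.locP_of_repWith ((repWith_yon_map_iff _ β').2 (by rw [hβ']; exact hβf)))
    (AlgSpLib.locP_of_repWith (AlgSpLib.repWith_mono
      (fun _ _ g (hg : Etale g) => (inferInstance : LocallyOfFiniteType g)) _ hb))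


end Groth.Agent.S10602
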