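import Groth.Statements.S10607
import Groth.Agent.AlgSpDec.UHDescend
import Groth.Agent.AlgSpDec.IntPush
import Groth.Agent.AlgSpDec.AffineRep
-- import your own Groth.Agent.* helpers here

set_option autoImplicit false
universe u
open CategoryTheory CategoryTheory.Limits AlgebraicGeometry
open AlgSp

namespace Groth.Agent.S10607

set_option backward.isDefEq.respectTransparency false
set_option backward.isDefEq.respectTransparency.types false
open CategoryTheory CategoryTheory.Limits AlgebraicGeometry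
open Groth.Agent.AlgSpLib Groth.Agent.AlgSpLib.EtLift Groth.Agent.AlgSpDec Groth.Agent.AlgSpDec.UHEquiv

/-- morphisms of etale spaces descend uniquely -/
theorem existsUnique_descend_hom {S : Scheme.{u}} {X Y V₁ V₂ V₁' V₂' : AlgSp.Sp S} {f : X ⟶ Y}
    (hY : AlgSp.IsAlgSpace Y) (h₁' : AlgSp.IsAlgSpace V₁') (h₂' : AlgSp.IsAlgSpace V₂')
    (hi : AlgSp.RepWith @IsIntegralHom f) (hu : AlgSp.RepWith @UniversallyInjective f)
    (hs : AlgSp.RepWith @Surjective f) {a₁ : V₁' ⟶ Y} {a₂ : V₂' ⟶ Y} {b₁ : V₁ ⟶ X} {b₂ : V₂ ⟶ X}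
    {c₁ : V₁ ⟶ V₁'} {c₂ : V₂ ⟶ V₂'} (ha₂ : AlgSp.IsEtaleMor a₂) (sq₁ : IsPullback b₁ c₁ f a₁)
    (sq₂ : IsPullback b₂ c₂ f a₂) (φ : V₁ ⟶ V₂) (hφ : φ ≫ b₂ = b₁) :
    ∃! φ' : V₁' ⟶ V₂', φ' ≫ a₂ = a₁ ∧ c₁ ≫ φ' = φ ≫ c₂ := by
  obtain ⟨U, p, hp, hps⟩ := h₁'.atlas
  let g : (AlgSp.yon S).obj U ⟶ Y := p ≫ a₁
  have sqZ := hi.rep.isPullback g
  let zc := hi.rep.snd g
  have hzc : IsUH zc := isUH_snd hi hu hs g
  obtain ⟨z, hz₁, hz₂⟩ := sq₁.exists_lift (hi.rep.fst g) ((AlgSp.yon S).map zc ≫ p) (by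
    rw [sqZ.w, Category.assoc])
  let k := z ≫ φ ≫ c₂
  have hk : k ≫ a₂ = (AlgSp.yon S).map zc ≫ g := by
    simp only [k, Category.assoc, ← sq₂.w]
    rw [reassoc_of% hφ, reassoc_of% hz₁]
    exact sqZ.w
  obtain ⟨τ, hτ, hτc⟩ := exists_extend h₂' hY ha₂ zc hzc g k hk
  have sqz : IsPullback z ((AlgSp.yon S).map zc) c₁ p := by
    refine IsPullback.of_right ?_ hz₂ sq₁
    rw [hz₁]
    exact sqZ
  haveI : Epi p := AlgSpLib.epi_of_etale_surjective hp hps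
  haveI : Epi z := AlgSpLib.epi_of_etale_surjective (repWith_of_isPullback sqz.flip hp)
    (repWith_of_isPullback sqz.flip hps)
  -- descent
  let R := hp.rep.pullback p
  let r₁ : R ⟶ U := hp.rep.fst' p
  let r₂ : R ⟶ U := hp.rep.snd p
  have sqR : IsPullback ((AlgSp.yon S).map r₁) ((AlgSp.yon S).map r₂) p p := hp.rep.isPullback' p
  let gR : (AlgSp.yon S).obj R ⟶ Y := (AlgSp.yon S).map r₁ ≫ g
  have hagree : (AlgSp.yon S).map r₁ ≫ τ = (AlgSp.yon S).map r₂ ≫ τ := by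
    refine hom_ext_of_surjective h₂' hY ha₂ (hi.rep.snd gR) (isUH_snd hi hu hs gR).surj
      (by rw [Category.assoc, hτ, Category.assoc, hτ]; simp only [g, ← Category.assoc, sqR.w]) ?_
    have lift : ∀ r : R ⟶ U, (AlgSp.yon S).map r ≫ g = gR →
        ∃ q : hi.rep.pullback gR ⟶ hi.rep.pullback g,
          (AlgSp.yon S).map q ≫ hi.rep.fst g = hi.rep.fst gR ∧ q ≫ zc = hi.rep.snd gR ≫ r := by
      intro r hr
      obtain ⟨q, hq₁, hq₂⟩ := sqZ.exists_lift (hi.rep.fst gR) ((AlgSp.yon S).map (hi.rep.snd gR ≫ r)) (by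
        rw [(hi.rep.isPullback gR).w, Functor.map_comp, Category.assoc, hr])
      obtain ⟨q, rfl⟩ := (AlgSp.yon S).map_surjective q
      exact ⟨q, hq₁, (AlgSp.yon S).map_injective (by rw [Functor.map_comp]; exact hq₂)⟩
    obtain ⟨q₁, hq₁, hq₁'⟩ := lift r₁ rfl
    obtain ⟨q₂, hq₂, hq₂'⟩ := lift r₂ (by simp only [gR, g, ← Category.assoc, sqR.w])
    rw [← Functor.map_comp_assoc, ← Functor.map_comp_assoc, ← hq₁', ← hq₂', Functor.map_comp, Functor.map_comp,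
      Category.assoc, Category.assoc, hτc]
    have e : (AlgSp.yon S).map q₁ ≫ z = (AlgSp.yon S).map q₂ ≫ z := by
      refine sq₁.hom_ext (by rw [Category.assoc, hz₁, hq₁, Category.assoc, hz₁, hq₂]) ?_
      rw [Category.assoc, hz₂, Category.assoc, hz₂, ← Functor.map_comp_assoc, ← Functor.map_comp_assoc, hq₁', hq₂',
        Functor.map_comp, Functor.map_comp, Category.assoc, Category.assoc, sqR.w]
    simp only [k, ← Category.assoc, e]
  obtain ⟨φ', hφ'⟩ : ∃ φ' : V₁' ⟶ V₂', p ≫ φ' = τ :=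
    let r := Cofork.IsColimit.desc' (isColimitOfAtlas hp hps sqR) τ hagree
    ⟨r.1, r.2⟩
  refine ⟨φ', ⟨?_, ?_⟩, fun ψ hψ => ?_⟩
  · rw [← cancel_epi p, ← Category.assoc, hφ', hτ]
  · rw [← cancel_epi z, ← Category.assoc, hz₂, Category.assoc, hφ', hτc]
  · rw [← cancel_epi p, hφ']
    refine hom_ext_of_surjective h₂' hY ha₂ zc hzc.surj (by rw [Category.assoc, hψ.1, hτ]) ?_
    rw [hτc, ← Category.assoc, ← hz₂, Category.assoc, hψ.2]


/-- Take a morphism f : X ⟶ Y of algebraic spaces over S that is integral, universally injective and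
surjective. Then V ↦ X ×_Y V is an equivalence from the category of algebraic spaces etale over Y to
the category of algebraic spaces etale over X, stated through pullback squares: (full faithfulness)
given V₁', V₂' etale over Y with base changes V₁, V₂ to X, every morphism V₁ ⟶ V₂ over X is the base
change of a unique morphism V₁' ⟶ V₂' over Y; (essential surjectivity) every algebraic space etale
over X is the base change of an algebraic space etale over Y. -/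
theorem result {S : Scheme.{u}}
    {X Y : AlgSp.Space S} (f : X ⟶ Y) (h1 : AlgSp.IsIntegralMor f.hom) (h2 : AlgSp.IsUnivInjectiveMor f.hom)
    (h3 : AlgSp.IsSurjectiveMor f.hom) :
    (∀ (V₁' V₂' V₁ V₂ : AlgSp.Space S) (a₁ : V₁' ⟶ Y) (a₂ : V₂' ⟶ Y) (b₁ : V₁ ⟶ X) (b₂ : V₂ ⟶ X)
        (c₁ : V₁ ⟶ V₁') (c₂ : V₂ ⟶ V₂'),
        AlgSp.IsEtaleMor a₁.hom → AlgSp.IsEtaleMor a₂.hom →
        IsPullback b₁.hom c₁.hom f.hom a₁.hom → IsPullback b₂.hom c₂.hom f.hom a₂.hom →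
        ∀ φ : V₁ ⟶ V₂, φ ≫ b₂ = b₁ →
          ∃! φ' : V₁' ⟶ V₂', φ' ≫ a₂ = a₁ ∧ c₁ ≫ φ' = φ ≫ c₂) ∧
    (∀ (V : AlgSp.Space S) (b : V ⟶ X), AlgSp.IsEtaleMor b.hom →
        ∃ (V' : AlgSp.Space S) (a : V' ⟶ Y) (c : V ⟶ V'),
          AlgSp.IsEtaleMor a.hom ∧ IsPullback b.hom c.hom f.hom a.hom) := by
  have hi : AlgSp.RepWith @IsIntegralHom f.hom := isIntegralMor_iff_repWith.1 h1
  have hu : AlgSp.RepWith @UniversallyInjective f.hom := repWith_of_squares fun U g =>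
    ⟨_, _, _, hi.rep.isPullback g, ClosedPush.universallyInjective_snd hi.rep h2 g⟩
  have hs : AlgSp.RepWith @Surjective f.hom := repWith_surjective_of_surjective hi.rep h3
  refine ⟨fun V₁' V₂' V₁ V₂ a₁ a₂ b₁ b₂ c₁ c₂ _ ha₂ sq₁ sq₂ φ hφ => ?_, fun V b hb => ?_⟩
  · obtain ⟨ψ, ⟨h₁, h₂⟩, h₃⟩ := existsUnique_descend_hom Y.property V₁'.property V₂'.property hi hu hs ha₂ sq₁ sq₂
      φ.hom (congrArg (fun k => k.hom) hφ)
    exact ⟨ObjectProperty.homMk ψ, ⟨ObjectProperty.hom_ext _ h₁, ObjectProperty.hom_ext _ h₂⟩,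
      fun χ hχ => ObjectProperty.hom_ext _ (h₃ χ.hom ⟨congrArg (fun k => k.hom) hχ.1, congrArg (fun k => k.hom) hχ.2⟩)⟩
  · obtain ⟨V', hV', b', c, hb', sq⟩ := exists_descend X.property Y.property V.property hi hu hs hb
    exact ⟨⟨V', hV'⟩, ObjectProperty.homMk b', ObjectProperty.homMk c, hb', sq⟩

end Groth.Agent.S10607
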