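import Groth.Statements.S10613
import Groth.Agent.AlgSpLib.EtLocalInst
import Groth.Agent.AlgSpLib.InfCharts
import Groth.Agent.AlgSpPts.Sep
import Groth.Agent.AlgSpPts.Misc
import Groth.Agent.AlgSpDec.LqfScheme
import Groth.Agent.AlgSpDec.LimOpen
import Groth.Agent.S10261
-- import your own Groth.Agent.* helpers here

set_option autoImplicit false
universe u
open CategoryTheory CategoryTheory.Limits AlgebraicGeometry
open AlgSp

namespace Groth.Agent.S10613

/-- For a morphism f : X ⟶ Y of algebraic spaces over S, these four conditions on f are equivalent: (a)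
unramified plus monomorphism; (b) unramified plus universally injective; (c) a monomorphism that is
locally of finite type; (d) universally injective, locally of finite type and formally unramified
(lifting sense). In that case f is representable by schemes, separated and locally quasi-finite.
(Unramified is the etale-local condition locally of finite type and formally unramified on charts;
monomorphisms are taken in fppf sheaves.) -/
theorem result {S : Scheme.{u}} {X Y : AlgSp.Space S} (f : X ⟶ Y) :
    ((AlgSp.LocP (@LocallyOfFiniteType ⊓ @FormallyUnramified) f.hom ∧ Mono f.hom) ↔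
      (AlgSp.LocP (@LocallyOfFiniteType ⊓ @FormallyUnramified) f.hom ∧ AlgSp.IsUnivInjectiveMor f.hom)) ∧
    ((AlgSp.LocP (@LocallyOfFiniteType ⊓ @FormallyUnramified) f.hom ∧ Mono f.hom) ↔
      (AlgSp.LocP @LocallyOfFiniteType f.hom ∧ Mono f.hom)) ∧
    ((AlgSp.LocP (@LocallyOfFiniteType ⊓ @FormallyUnramified) f.hom ∧ Mono f.hom) ↔
      (AlgSp.IsUnivInjectiveMor f.hom ∧ AlgSp.LocP @LocallyOfFiniteType f.hom ∧ AlgSp.IsFormallyUnramifiedMor f.hom)) ∧
    (AlgSp.LocP @LocallyOfFiniteType f.hom ∧ Mono f.hom →
      AlgSp.Representable f.hom ∧ AlgSp.IsSeparatedMor f.hom ∧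
        AlgSp.LocP (@LocallyQuasiFinite ⊓ @LocallyOfFiniteType) f.hom) := by
  have hU : LocP (@LocallyOfFiniteType ⊓ @FormallyUnramified) f.hom ↔
      LocP @LocallyOfFiniteType f.hom ∧ IsFormallyUnramifiedMor f.hom := by
    rw [Groth.Agent.AlgSpLib.isFormallyUnramifiedMor_iff_locP X.property Y.property f.hom]
    exact ⟨fun h => ⟨Groth.Agent.AlgSpLib.locP_mono inf_le_left h, Groth.Agent.AlgSpLib.locP_mono inf_le_right h⟩,
      fun h U V a b k ha hb w => ⟨h.1 a b k ha hb w, h.2 a b k ha hb w⟩⟩
  have hmono : Mono f.hom → IsFormallyUnramifiedMor f.hom := by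
    intro hm sq l₁ l₂ _ h₁ _ h₂
    exact (cancel_mono f.hom).1 (h₁.trans h₂.symm)
  have hinj : Mono f.hom → IsUnivInjectiveMor f.hom := by
    intro hm T P hT g fst snd sq
    haveI : Mono snd := MorphismProperty.of_isPullback (P := MorphismProperty.monomorphisms _) sq hm
    exact Groth.Agent.AlgSpDec.injective_points_map_of_mono snd
  have hconv : LocP (@LocallyOfFiniteType ⊓ @FormallyUnramified) f.hom → IsUnivInjectiveMor f.hom → Mono f.hom := by
    intro hu hi
    obtain ⟨hr, -⟩ := Groth.Agent.AlgSpPts.diagonal_package X.property Y.property f.hom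
    have hP := Groth.Agent.AlgSpLib.isAlgSpace_pullback X.property X.property Y.property f.hom f.hom
    have hde : RepWith @Etale (pullback.diagonal f.hom) := by
      refine Groth.Agent.AlgSpLib.repWith_of_locP hP hr (Groth.Agent.AlgSpPts.locP_of_comp'
        (Q := (@LocallyOfFiniteType ⊓ @FormallyUnramified : MorphismProperty Scheme.{u})) (fun a b hab hb => ?_) X.property
        (g := pullback.fst f.hom f.hom) (by rw [pullback.diagonal_fst]; exact Groth.Agent.AlgSpLib.locP_of_repWith (Groth.Agent.AlgSpLib.repWith_of_isIso _ _))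
        (Groth.Agent.AlgSpLib.locP_of_isPullback (IsPullback.of_hasPullback f.hom f.hom).flip X.property Y.property X.property hu))
      obtain ⟨_, _⟩ := hb
      have h1 : Etale (pullback.lift (𝟙 _) a (by simp) : _ ⟶ pullback (a ≫ b) b) :=
        MorphismProperty.of_isPullback (pullback_lift_diagonal_isPullback a b)
          (inferInstanceAs (Etale (pullback.diagonal b)))
      have h2 : Etale (pullback.snd (a ≫ b) b) := MorphismProperty.pullback_snd _ _ hab
      have h3 := MorphismProperty.comp_mem (@Etale) _ _ h1 h2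
      rwa [pullback.lift_snd] at h3
    have hds : RepWith @Surjective (pullback.diagonal f.hom) := by
      refine Groth.Agent.AlgSpLib.repWith_surjective_of_surjective hr fun z => ⟨Points.map (pullback.fst f.hom f.hom) z, ?_⟩
      apply hi X.property f.hom (pullback.snd f.hom f.hom) (pullback.fst f.hom f.hom)
        (IsPullback.of_hasPullback f.hom f.hom).flip
      rw [← Points.map_comp, pullback.diagonal_fst, Points.map_id]
    have := Groth.Agent.AlgSpLib.isLocallySurjective_of_etale_surjective hde hds
    have := Groth.Agent.AlgSpLib.isIso_of_mono_of_locallySurjective (pullback.diagonal f.hom)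
    exact (pullback.isIso_diagonal_iff f.hom).1 inferInstance
  refine ⟨⟨fun h => ⟨h.1, hinj h.2⟩, fun h => ⟨h.1, hconv h.1 h.2⟩⟩,
    ⟨fun h => ⟨(hU.1 h.1).1, h.2⟩, fun h => ⟨hU.2 ⟨h.1, hmono h.2⟩, h.2⟩⟩,
    ⟨fun h => ⟨hinj h.2, hU.1 h.1⟩, fun h => ⟨hU.2 h.2, hconv (hU.2 h.2) h.1⟩⟩, fun h => ?_⟩
  haveI := h.2
  have hq : LocP (@LocallyQuasiFinite ⊓ @LocallyOfFiniteType) f.hom := by
    refine Groth.Agent.AlgSpLib.locP_mono (P := @LocallyOfFiniteType ⊓ @FormallyUnramified) (fun _ _ g hg => ?_)
      (hU.2 ⟨h.1, hmono h.2⟩)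
    obtain ⟨_, _⟩ := hg
    exact ⟨Groth.Agent.AlgSpLib.locallyQuasiFinite_of_formallyUnramified g, inferInstance⟩
  exact ⟨Groth.Agent.AlgSpDec.representable_of_lqf_separated X.property Y.property f.hom hq
    (Groth.Agent.AlgSpDec.isSeparatedMor_of_mono f.hom), Groth.Agent.AlgSpDec.isSeparatedMor_of_mono f.hom, hq⟩


end Groth.Agent.S10613
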