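import Groth.Statements.S10668
import Groth.Agent.RegKinds.Near
import Groth.Agent.KRegLib.FlatBase
-- import your own Groth.Agent.* helpers here

set_option autoImplicit false
universe u
open CategoryTheory CategoryTheory.Limits AlgebraicGeometry
open AlgSp

namespace Groth.Agent.S10668

/-- For morphisms f : X ⟶ Y, p : X ⟶ Z and q : Y ⟶ Z of algebraic spaces over S with f ≫ q = p and p, q
both flat and locally of finite presentation, any morphism of algebraic spaces g : Z' ⟶ Z and any
base change f' : X' ⟶ Y' of f along g (pullback squares Y' = Y ×_Z Z', X' = X ×_Y Y'), the set of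
points of |X'| at which f' is Koszul (a local complete intersection morphism on some open subspace
through the point) is the inverse image under |X'| ⟶ |X| of the set of points at which f is Koszul.
(The published statement also records that the points at which f is Koszul form an open subspace of
X; with the open-neighbourhood form of being Koszul at a point used here that set is a union of
images of open subspaces, and this row states only its compatibility with base change.) -/
theorem result {S : Scheme.{u}} {X Y Z : AlgSp.Space S} (f : X ⟶ Y) (p : X ⟶ Z) (q : Y ⟶ Z) (hc : f ≫ q = p)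
    (hp1 : AlgSp.LocP @Flat p.hom) (hp2 : AlgSp.LocP @LocallyOfFinitePresentation p.hom)
    (hq1 : AlgSp.LocP @Flat q.hom) (hq2 : AlgSp.LocP @LocallyOfFinitePresentation q.hom)
    {Z' Y' X' : AlgSp.Space S} (g : Z' ⟶ Z) (gY : Y' ⟶ Y) (q' : Y' ⟶ Z') (hY : IsPullback gY.hom q'.hom q.hom g.hom)
    (gX : X' ⟶ X) (f' : X' ⟶ Y') (hX : IsPullback gX.hom f'.hom f.hom gY.hom) :
    {x' | AlgSp.LocPNear AlgSp.lci f'.hom x'} =
      AlgSp.Points.map gX.hom ⁻¹' {x | AlgSp.LocPNear AlgSp.lci f.hom x} := by
  ext x'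
  show AlgSp.LocPNear _ _ _ ↔ AlgSp.LocPNear _ _ _
  obtain ⟨W₀, c, hc₀, hc₀'⟩ := Z.property.atlas
  obtain ⟨V, bV, k, hV, hV', hk⟩ := Groth.Agent.AlgSpLib.exists_chart_over Y.property Z.property q.hom c
  let b := bV ≫ pullback.fst q.hom c
  have hb : AlgSp.RepWith @Etale b := Groth.Agent.AlgSpLib.repWith_comp hV (Groth.Agent.AlgSpLib.repWith_fst q.hom hc₀)
  have hb' : AlgSp.RepWith @Surjective b := Groth.Agent.AlgSpLib.repWith_comp hV' (Groth.Agent.AlgSpLib.repWith_fst q.hom hc₀')
  have wk : b ≫ q.hom = (yon S).map k ≫ c := by rw [Category.assoc, pullback.condition, ← Category.assoc, hk]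
  obtain ⟨U, aU, h, hU, hU', hh⟩ := Groth.Agent.AlgSpLib.exists_chart_over X.property Y.property f.hom b
  let a := aU ≫ pullback.fst f.hom b
  have ha : AlgSp.RepWith @Etale a := Groth.Agent.AlgSpLib.repWith_comp hU (Groth.Agent.AlgSpLib.repWith_fst f.hom hb)
  have ha' : AlgSp.RepWith @Surjective a := Groth.Agent.AlgSpLib.repWith_comp hU' (Groth.Agent.AlgSpLib.repWith_fst f.hom hb')
  have wh : a ≫ f.hom = (yon S).map h ≫ b := by rw [Category.assoc, pullback.condition, ← Category.assoc, hh]
  have wp : a ≫ p.hom = (yon S).map (h ≫ k) ≫ c := by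
    rw [← congrArg (fun φ : X ⟶ Z => φ.hom) hc]
    show a ≫ f.hom ≫ q.hom = _
    rw [← Category.assoc, wh, Category.assoc, wk, ← Category.assoc, ← Functor.map_comp]
  haveI : Flat (h.left ≫ k.left) := by rw [← Over.comp_left]; exact hp1 a c (h ≫ k) ha hc₀ wp
  haveI : LocallyOfFinitePresentation (h.left ≫ k.left) := by rw [← Over.comp_left]; exact hp2 a c (h ≫ k) ha hc₀ wp
  haveI : Flat k.left := hq1 b c k hb hc₀ wk
  haveI : LocallyOfFinitePresentation k.left := hq2 b c k hb hc₀ wk
  have hGC : AlgSp.IsAlgSpace (pullback g.hom c) :=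
    Groth.Agent.AlgSpLib.isAlgSpace_pullback Z'.property (AlgSp.IsAlgSpace.yon_obj _) Z.property _ _
  obtain ⟨W', γ, hγ, hγ'⟩ := hGC.atlas
  obtain ⟨m, hm⟩ := (yon S).map_surjective (γ ≫ pullback.snd g.hom c)
  let c' := γ ≫ pullback.fst g.hom c
  have hc' : AlgSp.RepWith @Etale c' := Groth.Agent.AlgSpLib.repWith_comp hγ (Groth.Agent.AlgSpLib.repWith_fst g.hom hc₀)
  have wm : c' ≫ g.hom = (yon S).map m ≫ c := by rw [Category.assoc, pullback.condition, hm, Category.assoc]
  have sV := (IsPullback.of_hasPullback k m).map (yon S)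
  have sU := (IsPullback.of_hasPullback h (pullback.fst k m)).map (yon S)
  let b' : (yon S).obj (pullback k m) ⟶ Y'.obj :=
    hY.lift ((yon S).map (pullback.fst k m) ≫ b) ((yon S).map (pullback.snd k m) ≫ c') (by
      rw [Category.assoc, wk, Category.assoc, wm, ← Category.assoc, sV.w, Category.assoc])
  have hb'' : AlgSp.RepWith @Etale b' :=
    Groth.Agent.RegKinds.repWith_etale_pullback_lift wk.symm wm.symm hb hc' hc₀ sV hY b' (hY.lift_fst _ _ _) (hY.lift_snd _ _ _)
  let a' : (yon S).obj (pullback h (pullback.fst k m)) ⟶ X'.obj :=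
    hX.lift ((yon S).map (pullback.fst h (pullback.fst k m)) ≫ a) ((yon S).map (pullback.snd h (pullback.fst k m)) ≫ b') (by
      rw [Category.assoc, wh, Category.assoc, hY.lift_fst, ← Category.assoc, sU.w, Category.assoc])
  have ha'' : AlgSp.RepWith @Etale a' :=
    Groth.Agent.RegKinds.repWith_etale_pullback_lift wh.symm (hY.lift_fst _ _ _).symm ha hb'' hb sU hX a' (hX.lift_fst _ _ _) (hX.lift_snd _ _ _)
  have wf' : a' ≫ f'.hom = (yon S).map (pullback.snd h (pullback.fst k m)) ≫ b' := hX.lift_snd _ _ _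
  obtain ⟨u, hu⟩ : ∃ u : ↥(pullback h (pullback.fst k m)).left, AlgSp.Points.ofPt a' u = x' := by
    obtain ⟨v, hv⟩ := Groth.Agent.AlgSpLib.surjective_map_of_repWith ha' (AlgSp.Points.map gX.hom x')
    obtain ⟨t, -, ht⟩ := Groth.Agent.AlgSpLib.exists_point_of_isPullback (IsPullback.of_hasPullback a gX.hom) hv
    let θ : pullback a gX.hom ⟶ pullback g.hom c :=
      pullback.lift ((pullback.snd a gX.hom ≫ f'.hom) ≫ q'.hom) (pullback.fst a gX.hom ≫ (yon S).map (h ≫ k)) (by
        simp only [Functor.map_comp, Category.assoc, ← wk, ← reassoc_of% wh, ← hY.w, ← reassoc_of% hX.w]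
        exact (pullback.condition_assoc (f := a) (g := gX.hom) (f.hom ≫ q.hom)).symm)
    obtain ⟨γ₀, hγ₀⟩ := Groth.Agent.AlgSpLib.surjective_map_of_repWith hγ' (AlgSp.Points.map θ t)
    obtain ⟨r, -, hr⟩ := Groth.Agent.AlgSpLib.exists_point_of_isPullback (IsPullback.of_hasPullback γ θ) hγ₀
    have e1 := pullback.condition (f := γ) (g := θ) =≫ pullback.snd g.hom c
    have e2 := pullback.condition (f := γ) (g := θ) =≫ pullback.fst g.hom c
    simp only [θ, Category.assoc, pullback.lift_snd, pullback.lift_fst, ← hm] at e1 e2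
    let n₁ := sV.lift (pullback.snd γ θ ≫ pullback.fst a gX.hom ≫ (yon S).map h) (pullback.fst γ θ) (by
      refine Eq.trans ?_ e1.symm
      show _ = pullback.snd γ θ ≫ pullback.fst a gX.hom ≫ (yon S).map (h ≫ k)
      rw [Functor.map_comp, Category.assoc, Category.assoc])
    let n := sU.lift (pullback.snd γ θ ≫ pullback.fst a gX.hom) n₁ (by rw [sV.lift_fst, Category.assoc])
    have hn : n ≫ a' = pullback.snd γ θ ≫ pullback.snd a gX.hom := by
      refine hX.hom_ext ?_ ?_
      · rw [Category.assoc, hX.lift_fst, sU.lift_fst_assoc, Category.assoc, Category.assoc, pullback.condition]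
      · refine hY.hom_ext ?_ ?_
        · simp only [Category.assoc]
          rw [reassoc_of% wf', hY.lift_fst, sU.lift_snd_assoc, sV.lift_fst_assoc]
          simp only [Category.assoc]
          rw [← wh, ← hX.w, pullback.condition_assoc]
        · simp only [Category.assoc]
          rw [reassoc_of% wf', hY.lift_snd, sU.lift_snd_assoc, sV.lift_snd_assoc]
          exact e2
    refine ⟨AlgSp.Points.toScheme _ (AlgSp.Points.map n r), ?_⟩
    rw [AlgSp.Points.ofPt_eq_map_ofScheme, AlgSp.Points.ofScheme_toScheme, ← AlgSp.Points.map_comp, hn,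
      AlgSp.Points.map_comp, hr, ht]
  have hgX : AlgSp.Points.map gX.hom x' = AlgSp.Points.ofPt a ((pullback.fst h (pullback.fst k m)).left u) := by
    rw [← hu, AlgSp.Points.map_ofPt, hX.lift_fst, Groth.Agent.AlgSpLib.ofPt_comp]
  rw [hgX, ← hu, Groth.Agent.RegKinds.locPNear_lci_iff X'.property ha'' hb'' wf',
    Groth.Agent.RegKinds.locPNear_lci_iff X.property ha hb wh]
  exact KRegLib.isKoszulAt_baseChange_iff h.left k.left ((IsPullback.of_hasPullback k m).map (Over.forget S))
    ((IsPullback.of_hasPullback h (pullback.fst k m)).map (Over.forget S)) u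


end Groth.Agent.S10668
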