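import Groth.Statements.S10645
import Groth.Agent.RegKinds.Near
import Groth.Agent.S10668
-- import your own Groth.Agent.* helpers here

set_option autoImplicit false
universe u
open CategoryTheory CategoryTheory.Limits AlgebraicGeometry
open AlgSp

namespace Groth.Agent.S10645

/-- For morphisms f : X ⟶ Y, p : X ⟶ Z and q : Y ⟶ Z of algebraic spaces over S with f ≫ q = p, where p
is flat, closed and locally of finite presentation and q is flat and also locally of finite
presentation, there is an open subspace W of Z with the following property: a morphism of algebraic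
spaces g : Z' ⟶ Z factors through W exactly when the base change X' ⟶ Y' of f along g is a local
complete intersection (Koszul) morphism, i.e. Koszul at every point etale locally on source and
target. Here the base change of f along g is any f' : X' ⟶ Y' obtained from pullback squares Y' = Y
×_Z Z' and X' = X ×_Y Y' of algebraic spaces over S, and W ⊂ Z is given as a representable open
immersion w : W ⟶ Z. -/
theorem result {S : Scheme.{u}} {X Y Z : AlgSp.Space S}
    (f : X ⟶ Y) (p : X ⟶ Z) (q : Y ⟶ Z) (hc : f ≫ q = p)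
    (hp1 : AlgSp.LocP @Flat p.hom) (hp2 : AlgSp.LocP @LocallyOfFinitePresentation p.hom)
    (hp3 : AlgSp.IsClosedMor p.hom) (hq1 : AlgSp.LocP @Flat q.hom)
    (hq2 : AlgSp.LocP @LocallyOfFinitePresentation q.hom) :
    ∃ (W : AlgSp.Space S) (w : W ⟶ Z), AlgSp.RepWith @IsOpenImmersion w.hom ∧
      ∀ (Z' : AlgSp.Space S) (g : Z' ⟶ Z),
        (∃ k : Z' ⟶ W, k ≫ w = g) ↔
          ∀ (Y' : AlgSp.Space S) (gY : Y' ⟶ Y) (q' : Y' ⟶ Z'),
            IsPullback gY.hom q'.hom q.hom g.hom →
            ∀ (X' : AlgSp.Space S) (gX : X' ⟶ X) (f' : X' ⟶ Y'),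
              IsPullback gX.hom f'.hom f.hom gY.hom →
                AlgSp.IsLCIMor f'.hom := by
  let L : Set (AlgSp.Points X.obj) := {x | AlgSp.LocPNear AlgSp.lci f.hom x}
  have hL : IsOpen L := by
    refine isOpen_iff_forall_mem_open.2 fun x hx => ?_
    obtain ⟨W₁, j, hj, hxj, hP⟩ := hx
    exact ⟨_, fun y hy => ⟨W₁, j, hj, hy, hP⟩, Groth.Agent.AlgSpDec.isOpen_range_openImm X.property hj, hxj⟩
  obtain ⟨W, w, hW, hw, hr⟩ := Groth.Agent.AlgSpPts.exists_open_subspace Z.property
    ((hp3 _ hL.isClosed_compl).isOpen_compl)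
  have near_iff : ∀ {A B : AlgSp.Space S} (φ : A ⟶ B),
      AlgSp.IsLCIMor φ.hom ↔ ∀ x, AlgSp.LocPNear AlgSp.lci φ.hom x := by
    intro A B φ
    refine ⟨fun h x => ?_, fun h U V a b k ha hb wk u => ?_⟩
    · exact ⟨A.obj, 𝟙 _, Groth.Agent.AlgSpLib.repWith_id_openImmersion _, ⟨x, AlgSp.Points.map_id x⟩,
        by rw [Category.id_comp]; exact h⟩
    · exact (Groth.Agent.RegKinds.locPNear_lci_iff A.property ha hb wk u).1 (h _)
  refine ⟨⟨W, hW⟩, ObjectProperty.homMk w, hw, fun Z' g => ⟨?_, fun hall => ?_⟩⟩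
  · rintro ⟨k, rfl⟩ Y' gY q' hY X' gX f' hX
    refine (near_iff f').2 fun x' => ?_
    refine (Set.ext_iff.1 (S10668.result f p q hc hp1 hp2 hq1 hq2 (k ≫ ObjectProperty.homMk w) gY q' hY gX f' hX) x').2 ?_
    by_contra hn
    have hmem : AlgSp.Points.map p.hom (AlgSp.Points.map gX.hom x') ∈ Set.range (AlgSp.Points.map w) := by
      refine ⟨AlgSp.Points.map k.hom (AlgSp.Points.map q'.hom (AlgSp.Points.map f'.hom x')), ?_⟩
      rw [← AlgSp.Points.map_comp, ← AlgSp.Points.map_comp, ← AlgSp.Points.map_comp, ← AlgSp.Points.map_comp]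
      congr 1
      rw [← congrArg (fun φ : X ⟶ Z => φ.hom) hc]
      show _ = gX.hom ≫ f.hom ≫ q.hom
      rw [reassoc_of% hX.w, hY.w]
      rfl
    rw [hr] at hmem
    exact hmem ⟨_, hn, rfl⟩
  · have hY : AlgSp.IsAlgSpace (pullback q.hom g.hom) :=
      Groth.Agent.AlgSpLib.isAlgSpace_pullback Y.property Z'.property Z.property _ _
    let Y' : AlgSp.Space S := ⟨_, hY⟩
    let gY : Y' ⟶ Y := ObjectProperty.homMk (pullback.fst q.hom g.hom)
    let q' : Y' ⟶ Z' := ObjectProperty.homMk (pullback.snd q.hom g.hom)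
    have hX : AlgSp.IsAlgSpace (pullback f.hom gY.hom) :=
      Groth.Agent.AlgSpLib.isAlgSpace_pullback X.property hY Y.property _ _
    let X' : AlgSp.Space S := ⟨_, hX⟩
    let gX : X' ⟶ X := ObjectProperty.homMk (pullback.fst f.hom gY.hom)
    let f' : X' ⟶ Y' := ObjectProperty.homMk (pullback.snd f.hom gY.hom)
    have sY : IsPullback gY.hom q'.hom q.hom g.hom := IsPullback.of_hasPullback _ _
    have sX : IsPullback gX.hom f'.hom f.hom gY.hom := IsPullback.of_hasPullback _ _
    have hlci := hall Y' gY q' sY X' gX f' sX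
    obtain ⟨k, hk⟩ := Groth.Agent.AlgSpLib.exists_lift_openImmersion Z'.property hW Z.property hw g.hom (by
      rintro _ ⟨z, rfl⟩
      rw [hr]
      rintro ⟨x, hx, hxz⟩
      have sq : IsPullback gX.hom (f'.hom ≫ q'.hom) p.hom g.hom := by
        rw [← congrArg (fun φ : X ⟶ Z => φ.hom) hc]
        exact sX.paste_vert sY
      obtain ⟨x', hx', -⟩ := Groth.Agent.AlgSpLib.exists_point_of_isPullback sq hxz
      apply hx
      rw [← hx']
      exact (Set.ext_iff.1 (S10668.result f p q hc hp1 hp2 hq1 hq2 g gY q' sY gX f' sX) x').1 ((near_iff f').1 hlci x'))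
    exact ⟨ObjectProperty.homMk k, ObjectProperty.hom_ext _ hk⟩


end Groth.Agent.S10645
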