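import Groth.Statements.S10650
import Groth.Agent.AlgSpDec.FiniteCrit
import Groth.Agent.AlgSpPts.OpenSub
import Groth.Agent.AlgSpPts.ProperSubspace
-- import your own Groth.Agent.* helpers here

set_option autoImplicit false
universe u
open CategoryTheory CategoryTheory.Limits AlgebraicGeometry
open AlgSp

namespace Groth.Agent.S10650

/-- For a proper morphism f : X ⟶ Y of algebraic spaces over S and a point y of |Y| such that f is
quasi-finite at every point of |X| lying over y (for each such point some etale chart diagram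
through it has top arrow locally quasi-finite and locally of finite type on an open neighbourhood),
there is an open subspace V of Y containing y such that the base change X ×_Y V ⟶ V is finite. -/
theorem result {S : Scheme.{u}} {X Y : AlgSp.Space S} (f : X ⟶ Y) (y : AlgSp.Points Y.obj)
    (hf : AlgSp.IsProperMor f.hom)
    (hq : ∀ x : AlgSp.Points X.obj, AlgSp.Points.map f.hom x = y →
      AlgSp.HasAtMor (fun U _ h u => ∃ W : U.Opens, u ∈ W ∧ LocallyQuasiFinite (W.ι ≫ h) ∧ LocallyOfFiniteType (W.ι ≫ h)) f.hom x) :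
    ∃ (V : AlgSp.Space S) (j : V ⟶ Y), AlgSp.RepWith @IsOpenImmersion j.hom ∧
      y ∈ Set.range (AlgSp.Points.map j.hom) ∧
        ∀ (P : AlgSp.Space S) (fst : P ⟶ X) (snd : P ⟶ V), IsPullback fst.hom snd.hom f.hom j.hom →
          AlgSp.IsFiniteMor snd.hom := by
  let L : Set (AlgSp.Points X.obj) :=
    {x | Groth.Agent.AlgSpDec.PointLocus.At (fun {_ _} h u => FlatMor.fibreDimAt h u = 0) f.hom x}
  have hL : IsOpen L := Groth.Agent.AlgSpDec.PointLocus.isOpen_at Groth.Agent.AlgSpDec.PointLocus.ptProp_lqf hf.2.1.1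
  have hcl : IsClosed (AlgSp.Points.map f.hom '' Lᶜ) :=
    hf.2.2 Y.property (𝟙 _) (𝟙 _) f.hom (IsPullback.of_horiz_isIso ⟨by simp⟩) _ hL.isClosed_compl
  obtain ⟨V, j, hV, hj, hr⟩ := Groth.Agent.AlgSpPts.exists_open_subspace Y.property hcl.isOpen_compl
  refine ⟨⟨V, hV⟩, ObjectProperty.homMk j, hj, ?_, fun P fst snd sq => ?_⟩
  · show y ∈ Set.range (AlgSp.Points.map j)
    rw [hr]
    rintro ⟨x, hx, rfl⟩
    exact hx ((Groth.Agent.AlgSpDec.hasAtMor_qf_iff hf.2.1.1 x).1 (hq x rfl))
  · refine Groth.Agent.AlgSpDec.finite_of_proper_of_qf X.property Y.property hV hf sq fun z => ?_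
    by_contra hn
    have h1 : AlgSp.Points.map f.hom (AlgSp.Points.map fst.hom z) ∈ Set.range (AlgSp.Points.map j) :=
      ⟨AlgSp.Points.map snd.hom z, by
        rw [← AlgSp.Points.map_comp, ← AlgSp.Points.map_comp]
        exact congrArg (fun φ => AlgSp.Points.map φ z) sq.w.symm⟩
    rw [hr] at h1
    exact h1 ⟨_, hn, rfl⟩


end Groth.Agent.S10650
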