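import Groth.Statements.S10653
import Groth.Agent.AlgSpDec.RelDimSp
import Groth.Agent.AlgSpDec.SchDenseSp
import Groth.Agent.AlgSpPts.SepDescent
import Groth.Agent.S1240
-- import your own Groth.Agent.* helpers here

set_option autoImplicit false
universe u
open CategoryTheory CategoryTheory.Limits AlgebraicGeometry
open AlgSp

namespace Groth.Agent.S10653

/-- For a flat morphism f : X ⟶ Y of algebraic spaces over S which is locally of finite type, and an
open subspace j : V ⟶ Y with |V| dense in |Y| such that the base change X ×_Y V ⟶ V has relative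
dimension at most d (at every point some etale chart diagram has top arrow with local fibre
dimension at most d): if either j is quasi-compact or f is locally of finite presentation, then f
has relative dimension at most d at every point of |X|. -/
theorem result {S : Scheme.{u}} {X Y V : AlgSp.Space S} (f : X ⟶ Y) (j : V ⟶ Y) (d : ℕ)
    (hf1 : AlgSp.LocP @Flat f.hom) (hf2 : AlgSp.LocP @LocallyOfFiniteType f.hom)
    (hj1 : AlgSp.RepWith @IsOpenImmersion j.hom) (hj2 : Dense (Set.range (AlgSp.Points.map j.hom)))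
    (P : AlgSp.Space S) (fst : P ⟶ X) (snd : P ⟶ V) (hP : IsPullback fst.hom snd.hom f.hom j.hom)
    (hV : ∀ x, AlgSp.HasAtMor (fun _ _ h u => FlatMor.fibreDimAt h u ≤ (d : WithBot ℕ∞)) snd.hom x)
    (h : AlgSp.LocP @LocallyOfFinitePresentation f.hom ∨ AlgSp.IsQuasiCompactMor j.hom) :
    ∀ x, AlgSp.HasAtMor (fun _ _ h u => FlatMor.fibreDimAt h u ≤ (d : WithBot ℕ∞)) f.hom x := by
  obtain ⟨U, W, a, b, h₁, ha, ha', hb, -, w⟩ := Groth.Agent.AlgSpLib.exists_chart X.property Y.property f.hom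
  haveI : Flat h₁.left := hf1 a b h₁ ha hb w
  haveI : LocallyOfFiniteType h₁.left := hf2 a b h₁ ha hb w
  let T := Groth.Agent.AlgSpDec.SchDenseSp.pre Y.property hj1 b
  have hT : Dense (T : Set ↥W.left) := hj2.preimage (Groth.Agent.AlgSpLib.isOpenMap_ofPt hb)
  have hsnd : AlgSp.LocP @LocallyOfFiniteType snd.hom :=
    Groth.Agent.AlgSpLib.locP_of_isPullback hP X.property Y.property V.property hf2
  have hle : ∀ u : ↥U.left, h₁.left u ∈ T → FlatMor.fibreDimAt h₁.left u ≤ (d : WithBot ℕ∞) := by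
    rintro u ⟨v, hv⟩
    have he : AlgSp.Points.map f.hom (AlgSp.Points.ofPt a u) = AlgSp.Points.map j.hom v := by
      rw [hv, AlgSp.Points.map_ofPt, w, Groth.Agent.AlgSpLib.ofPt_comp]
    obtain ⟨x', hx', -⟩ := Groth.Agent.AlgSpLib.exists_point_of_isPullback hP he
    have h0 := Groth.Agent.AlgSpDec.RelDimSp.baseChange hP X.property Y.property V.property hf2 x'
      (FlatMor.fibreDimAt h₁.left u) ⟨U, W, a, b, h₁, u, ha, hb, w, hx'.symm, rfl⟩
    obtain ⟨U₁, V₁, a₁, b₁, g₁, u₁, ha₁, hb₁, w₁, hx₁, hu₁⟩ := h0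
    obtain ⟨U₂, V₂, a₂, b₂, g₂, u₂, ha₂, hb₂, w₂, hx₂, hu₂⟩ := hV x'
    rw [← hu₁, Groth.Agent.AlgSpDec.RelDimSp.fibreDimAt_congr hsnd ha₁ hb₁ w₁ ha₂ hb₂ w₂ (hx₁.trans hx₂.symm)]
    exact hu₂
  have h' : LocallyOfFinitePresentation h₁.left ∨ IsRetrocompact (T : Set ↥W.left) := by
    refine h.imp (fun hp => hp a b h₁ ha hb w) fun hq => ?_
    haveI := Groth.Agent.AlgSpDec.SchDenseSp.quasiCompact_pre_ι Y.property hj1 hq b
    intro K hKc hKo
    have h1 := (QuasiCompact.isCompact_preimage (f := T.ι) K hKo hKc).image T.ι.continuous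
    rw [Set.image_preimage_eq_inter_range, Scheme.Opens.range_ι, Set.inter_comm] at h1
    exact h1
  intro x
  obtain ⟨u, rfl⟩ := Groth.Agent.AlgSpLib.surjective_ofPt ha' x
  exact ⟨U, W, a, b, h₁, u, ha, hb, w, rfl, Groth.Agent.S1240.result h₁.left T hT d hle h' u⟩


end Groth.Agent.S10653
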