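import Groth.Statements.S10654
import Groth.Agent.AlgSpDec.FiniteCrit
import Groth.Agent.AlgSpDec.RelDimSp
import Groth.Agent.AlgSpDec.FieldFibre
import Groth.Agent.S10653
-- import your own Groth.Agent.* helpers here

set_option autoImplicit false
universe u
open CategoryTheory CategoryTheory.Limits AlgebraicGeometry
open AlgSp

namespace Groth.Agent.S10654

/-- For a flat proper morphism f : X ⟶ Y of algebraic spaces over S and an open subspace j : V ⟶ Y with
|V| dense in |Y| such that the base change X ×_Y V ⟶ V is finite: f is finite over all of Y,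
provided either j is quasi-compact or f is locally of finite presentation. -/
theorem result {S : Scheme.{u}} {X Y V : AlgSp.Space S} (f : X ⟶ Y) (j : V ⟶ Y)
    (hf1 : AlgSp.LocP @Flat f.hom) (hf2 : AlgSp.IsProperMor f.hom)
    (hj1 : AlgSp.RepWith @IsOpenImmersion j.hom) (hj2 : Dense (Set.range (AlgSp.Points.map j.hom)))
    (P : AlgSp.Space S) (fst : P ⟶ X) (snd : P ⟶ V) (hP : IsPullback fst.hom snd.hom f.hom j.hom)
    (hV : AlgSp.IsFiniteMor snd.hom)
    (h : AlgSp.LocP @LocallyOfFinitePresentation f.hom ∨ AlgSp.IsQuasiCompactMor j.hom) :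
    AlgSp.IsFiniteMor f.hom := by
  have hq := (Groth.Agent.AlgSpDec.proper_and_lqf_of_finite V.property hV).2
  have hlt := hf2.2.1.1
  have hsnd : AlgSp.LocP @LocallyOfFiniteType snd.hom :=
    fun _ _ a b m ha hb w => (hq a b m ha hb w).2
  have h0 := Groth.Agent.S10653.result f j 0 hf1 hlt hj1 hj2 P fst snd hP (fun x => by
    obtain ⟨U, W, a, b, m, u, ha, hb, w, hx, hu⟩ :=
      (Groth.Agent.AlgSpDec.RelDimSp.lqf_iff P.property V.property hsnd).1 hq x
    exact ⟨U, W, a, b, m, u, ha, hb, w, hx, hu.le.trans_eq rfl⟩) h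
  refine Groth.Agent.AlgSpDec.finite_of_univClosed_lqf X.property Y.property hf2.2.2 hf2.1
    ((Groth.Agent.AlgSpDec.RelDimSp.lqf_iff X.property Y.property hlt).2 fun x => ?_)
  obtain ⟨U, W, a, b, m, u, ha, hb, w, hx, hu⟩ := h0 x
  haveI : LocallyOfFiniteType m.left := hlt a b m ha hb w
  exact ⟨U, W, a, b, m, u, ha, hb, w, hx, Groth.Agent.AlgSpDec.FieldFibre.fibreDimAt_eq_zero_of_le m.left u hu⟩


end Groth.Agent.S10654
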