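import Groth.Statements.S10661
import Groth.Agent.RegKinds.Impl
import Groth.Agent.AlgSpDec.Fibres
-- import your own Groth.Agent.* helpers here

set_option autoImplicit false
universe u
open CategoryTheory CategoryTheory.Limits AlgebraicGeometry
open AlgSp

namespace Groth.Agent.S10661

/-- For an immersion i : Z ⟶ X of algebraic spaces over S with X locally Noetherian (some etale
surjective chart is a locally Noetherian scheme), the three conditions Koszul-regular immersion,
H_1-regular immersion and quasi-regular immersion on i are equivalent. -/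
theorem result {S : Scheme.{u}} {Z X : AlgSp.Space S} (i : Z ⟶ X) (hi : AlgSp.RepWith @IsImmersion i.hom)
    (hX : AlgSp.IsLocNoethSp X.obj) :
    (AlgSp.IsRegImmMor RegImm.Kind.koszul i.hom ↔ AlgSp.IsRegImmMor RegImm.Kind.h1 i.hom) ∧
      (AlgSp.IsRegImmMor RegImm.Kind.h1 i.hom ↔ AlgSp.IsRegImmMor RegImm.Kind.quasi i.hom) := by
  have key : ∀ k k', AlgSp.IsRegImmMor k i.hom → AlgSp.IsRegImmMor k' i.hom := fun k k' h =>
    ⟨h.1, fun V W b fst snd hb sq =>
      haveI : IsLocallyNoetherian V.left := Groth.Agent.AlgSpDec.isLocallyNoetherian_chart hb hX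
      Groth.Agent.KRegLib.regImm_of_regImm k k' _ (h.2 b fst snd hb sq)⟩
  exact ⟨⟨key _ _, key _ _⟩, ⟨key _ _, key _ _⟩⟩


end Groth.Agent.S10661
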