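import Groth.Statements.S10665
import Groth.Agent.S9773
import Groth.Agent.CurvLocusLib.LocP
import Groth.Agent.AlgSpLib.LocP
-- import your own Groth.Agent.* helpers here

set_option autoImplicit false
universe u
open CategoryTheory CategoryTheory.Limits AlgebraicGeometry
open AlgSp

namespace Groth.Agent.S10665

/-- A Koszul-regular immersion between algebraic spaces over S (representable, Koszul-regular immersion
on every etale scheme chart of the target) is a local complete intersection morphism (Koszul at
every point, etale locally on source and target). -/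
theorem result {S : Scheme.{u}} {X Y : AlgSp.Space S} (i : X ⟶ Y) (hi : AlgSp.IsRegImmMor RegImm.Kind.koszul i.hom) :
    AlgSp.IsLCIMor i.hom := by
  intro U V a b h ha hb w
  let fst : (AlgSp.yon S).obj (hi.1.pullback b) ⟶ X.obj := hi.1.fst b
  let snd : hi.1.pullback b ⟶ V := hi.1.snd b
  have sq : IsPullback fst ((AlgSp.yon S).map snd) i.hom b := hi.1.isPullback b
  have hk := hi.2 b fst snd hb sq
  obtain ⟨m, hm⟩ := (AlgSp.yon S).map_surjective (sq.lift a ((AlgSp.yon S).map h) w)
  have h1 : (AlgSp.yon S).map m ≫ fst = a := by rw [hm, sq.lift_fst]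
  have h2 : m ≫ snd = h := (AlgSp.yon S).map_injective (by rw [Functor.map_comp, hm, sq.lift_snd])
  have hfst : AlgSp.RepWith @Etale fst := MorphismProperty.of_isPullback sq.flip hb
  have hm' : Etale m.left := (AlgSp.repWith_yon_map_iff _ _).1
    (Groth.Agent.AlgSpLib.repWith_etale_of_comp _ fst (h1 ▸ ha) hfst)
  rw [← h2, Over.comp_left]
  exact Groth.Agent.S8661.result _ _ (fun x => Groth.Agent.CurvLocusLib.isKoszulAt_of_smooth m.left x)
    (fun y => Groth.Agent.S9773.result _ _ (Or.inr rfl) hk y)


end Groth.Agent.S10665
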