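import Groth.Statements.S10666
import Groth.Agent.RegKinds.Sp
import Groth.Agent.RegKinds.LCIDescent
import Groth.Agent.AlgSpLib.EtLocalInst
import Groth.Agent.S8661
-- import your own Groth.Agent.* helpers here

set_option autoImplicit false
universe u
open CategoryTheory CategoryTheory.Limits AlgebraicGeometry
open AlgSp

namespace Groth.Agent.S10666

/-- For morphisms f : X ⟶ Y, p : X ⟶ Z, q : Y ⟶ Z of algebraic spaces over S with f ≫ q = p: if q is
smooth and p is a local complete intersection morphism, then so is f. -/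
theorem result {S : Scheme.{u}} {X Y Z : AlgSp.Space S} (f : X ⟶ Y) (p : X ⟶ Z) (q : Y ⟶ Z) (hc : f ≫ q = p)
    (hq : AlgSp.LocP @Smooth q.hom) (hp : AlgSp.IsLCIMor p.hom) :
    AlgSp.IsLCIMor f.hom := by
  intro U V a b h ha hb w
  obtain ⟨W₀, c, hc₀, hc₀'⟩ := Z.property.atlas
  let d := b ≫ q.hom
  let T := hc₀.rep.pullback d
  let qT : T ⟶ V := hc₀.rep.snd d
  obtain ⟨pT, hpT⟩ := (yon S).map_surjective (hc₀.rep.fst d)
  have hqT : Etale qT.left := hc₀.property_snd d
  haveI : Surjective qT.left := hc₀'.property _ _ _ (hc₀.rep.isPullback d)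
  have wT : ((yon S).map qT ≫ b) ≫ q.hom = (yon S).map pT ≫ c := by
    rw [hpT, Category.assoc]
    exact (hc₀.rep.isPullback d).w.symm
  haveI : Smooth pT.left := hq _ c pT (MorphismProperty.comp_mem _ _ _ ((repWith_yon_map_iff _ _).2 hqT) hb) hc₀ wT
  let U' : Over S := pullback h qT
  let e' : U' ⟶ U := pullback.fst h qT
  let s : U' ⟶ T := pullback.snd h qT
  have sT := (IsPullback.of_hasPullback h qT).map (Over.forget S)
  haveI he' : Etale e'.left := MorphismProperty.of_isPullback (P := @Etale) sT.flip hqT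
  haveI : Surjective e'.left := MorphismProperty.of_isPullback (P := @Surjective) sT.flip ‹Surjective qT.left›
  have w' : ((yon S).map e' ≫ a) ≫ p.hom = (yon S).map (s ≫ pT) ≫ c := by
    rw [← congrArg (fun φ : X ⟶ Z => φ.hom) hc, Functor.map_comp, Category.assoc, Category.assoc, ← wT,
      Category.assoc]
    show (yon S).map e' ≫ a ≫ f.hom ≫ q.hom = _
    rw [← Category.assoc a, w, Category.assoc, ← Category.assoc, ← Functor.map_comp, pullback.condition,
      Functor.map_comp, Category.assoc]
  have hK := hp _ c (s ≫ pT) (MorphismProperty.comp_mem _ _ _ ((repWith_yon_map_iff _ _).2 he') ha) hc₀ w'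
  rw [Over.comp_left] at hK
  have hs := KRegLib.isKoszulAt_of_comp_smooth s.left pT.left hK
  haveI := hqT
  have h2 := S8661.result s.left qT.left hs (fun y => CurvLocusLib.isKoszulAt_of_smooth _ y)
  intro x
  refine Groth.Agent.RegKinds.forall_isKoszulAt_of_etale_precomp e'.left h.left ?_ x
  rw [← Over.comp_left, show e' ≫ h = s ≫ qT from pullback.condition, Over.comp_left]
  exact h2


end Groth.Agent.S10666
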