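import Groth.Statements.S10667
import Groth.Agent.RegKinds.FlatEtLocal
import Groth.Agent.RegKinds.LCIDescent
import Groth.Agent.KRegLib.FpqcDescent
-- import your own Groth.Agent.* helpers here

set_option autoImplicit false
universe u
open CategoryTheory CategoryTheory.Limits AlgebraicGeometry
open AlgSp

namespace Groth.Agent.S10667

/-- The property of being a local complete intersection morphism of algebraic spaces over S is fpqc
local on the base: for an fpqc covering of an algebraic space Y by algebraic spaces Y_i and pullback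
squares X_i = X ×_Y Y_i, a morphism f : X ⟶ Y is a local complete intersection morphism if and only
if every base change X_i ⟶ Y_i is. -/
theorem result {S : Scheme.{u}} : AlgSp.IsLocalOnBase (AlgSp.IsFpqcCover (S := S)) AlgSp.IsLCIMor := by
  haveI : (KRegLib.IsLCI'.{u}).DescendsAlong (@Surjective ⊓ @Flat ⊓ @QuasiCompact) := KRegLib.isLCI'_descendsAlong
  haveI : Groth.Agent.RegKinds.IsEtLocalF (KRegLib.IsLCI'.{u}) :=
    { preEt := fun f g _ hg => (KRegLib.forall_isKoszulAt_iff _).1
        (S8661.result f g (fun y => CurvLocusLib.isKoszulAt_of_smooth f y) ((KRegLib.forall_isKoszulAt_iff g).2 hg))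
      postEt := fun f g hf _ => (KRegLib.forall_isKoszulAt_iff _).1
        (S8661.result f g ((KRegLib.forall_isKoszulAt_iff f).2 hf) (fun y => CurvLocusLib.isKoszulAt_of_smooth g y))
      of_precomp := fun f g _ _ h => (KRegLib.forall_isKoszulAt_iff _).1
        (Groth.Agent.RegKinds.forall_isKoszulAt_of_etale_precomp f g ((KRegLib.forall_isKoszulAt_iff _).2 h))
      flat_bc := fun hc _ hf => KRegLib.isLCI'_of_isPullback hc hf }
  have e : AlgSp.lci.{u} = KRegLib.IsLCI'.{u} := by
    ext X Y f
    exact KRegLib.forall_isKoszulAt_iff f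
  show AlgSp.IsLocalOnBase _ (AlgSp.LocP AlgSp.lci)
  rw [e]
  exact Groth.Agent.RegKinds.isLocalOnBase_fpqc_locPF


end Groth.Agent.S10667
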