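import Groth.Statements.S10669
-- import your own Groth.Agent.* helpers here
import Groth.Agent.AlgSpDec.LimReduced
import Groth.Agent.AlgSpDec.ReducedDvr

set_option autoImplicit false
universe u
open CategoryTheory CategoryTheory.Limits AlgebraicGeometry
open AlgSp

namespace Groth.Agent.S10669

set_option backward.isDefEq.respectTransparency false
set_option backward.isDefEq.respectTransparency.types false

open Groth.Agent Groth.Agent.AlgSpLib Groth.Agent.AlgSpPts Groth.Agent.AlgSpDec


/-- For a discrete valuation ring R with residue field κ and fraction field K and an algebraic space X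
over Spec R whose structure morphism s (to the terminal sheaf h_{Spec R}) is flat and proper: if the
special fibre X ×_{Spec R} Spec κ is reduced (some etale surjective scheme chart is reduced), then X
is reduced and so is the generic fibre X ×_{Spec R} Spec K. -/
theorem result (R : Type u) [CommRing R] [IsDomain R] [IsDiscreteValuationRing R]
    {X : AlgSp.Space (Spec (CommRingCat.of R))}
    (s : X.obj ⟶ (AlgSp.yon (Spec (CommRingCat.of R))).obj (Over.mk (𝟙 _)))
    (hs1 : AlgSp.IsProperMor s) (hs2 : AlgSp.LocP @Flat s)
    (h0 : ∀ (X0 : AlgSp.Sp (Spec (CommRingCat.of R))) (fst : X0 ⟶ X.obj)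
      (snd : X0 ⟶ (AlgSp.yon (Spec (CommRingCat.of R))).obj
        (Over.mk (Spec.map (CommRingCat.ofHom (IsLocalRing.residue R))))),
      IsPullback fst snd s ((AlgSp.yon (Spec (CommRingCat.of R))).map
        (Over.homMk (Spec.map (CommRingCat.ofHom (IsLocalRing.residue R))) (Category.comp_id _) :
          Over.mk (Spec.map (CommRingCat.ofHom (IsLocalRing.residue R))) ⟶ Over.mk (𝟙 _))) →
      AlgSp.EtaleLocally (fun U => IsReduced U) X0) :
    AlgSp.EtaleLocally (fun U => IsReduced U) X.obj ∧
      ∀ (Xη : AlgSp.Sp (Spec (CommRingCat.of R))) (fst : Xη ⟶ X.obj)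
        (snd : Xη ⟶ (AlgSp.yon (Spec (CommRingCat.of R))).obj
          (Over.mk (Spec.map (CommRingCat.ofHom (algebraMap R (FractionRing R)))))),
        IsPullback fst snd s ((AlgSp.yon (Spec (CommRingCat.of R))).map
          (Over.homMk (Spec.map (CommRingCat.ofHom (algebraMap R (FractionRing R)))) (Category.comp_id _) :
            Over.mk (Spec.map (CommRingCat.ofHom (algebraMap R (FractionRing R)))) ⟶ Over.mk (𝟙 _))) →
        AlgSp.EtaleLocally (fun U => IsReduced U) Xη := by
  obtain ⟨U, a, ha, has⟩ := X.property.atlas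
  let B : Over (Spec (CommRingCat.of R)) := Over.mk (𝟙 _)
  let σ : U ⟶ B := (yon _).preimage (a ≫ s)
  have hσ : (yon _).map σ = a ≫ s := Functor.map_preimage _ _
  have hσl : σ.left = U.hom := by simpa [B] using Over.w σ
  have hlid : RepWith @Etale (𝟙 ((yon (Spec (CommRingCat.of R))).obj B)) := repWith_id _ B
  have hflat : Flat U.hom := hσl ▸ hs2 a (𝟙 _) σ ha hlid (by rw [Category.comp_id, hσ])
  have hlft : LocallyOfFiniteType U.hom := hσl ▸ hs1.2.1.1 a (𝟙 _) σ ha hlid (by rw [Category.comp_id, hσ])
  let κh := Spec.map (CommRingCat.ofHom (IsLocalRing.residue R))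
  -- the special fibre of the chart is reduced
  have hspec : IsReduced (pullback U.hom κh) := by
    let sκ : Over.mk κh ⟶ B := Over.homMk κh (Category.comp_id _)
    let W := pullback σ sκ
    let sq := IsPullback.of_hasPullback s ((yon _).map sκ)
    have sqW : IsPullback ((yon _).map (pullback.fst σ sκ)) ((yon _).map (pullback.snd σ sκ)) (a ≫ s)
        ((yon _).map sκ) := by
      have := (IsPullback.of_hasPullback σ sκ).map (yon _)
      rwa [hσ] at this
    let w : (yon _).obj W ⟶ pullback s ((yon _).map sκ) :=
      sq.lift ((yon _).map (pullback.fst σ sκ) ≫ a) ((yon _).map (pullback.snd σ sκ))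
        ((Category.assoc _ _ _).trans sqW.w)
    have sqw : IsPullback ((yon _).map (pullback.fst σ sκ)) w a (pullback.fst s ((yon _).map sκ)) :=
      IsPullback.of_bot (by rw [sq.lift_snd]; exact sqW) (sq.lift_fst _ _ _).symm sq
    have hW : IsReduced W.left :=
      isReduced_of_etale_reducedSp (h0 _ _ _ sq) (repWith_of_isPullback sqw ha)
    have sqS : IsPullback (pullback.fst σ sκ).left (pullback.snd σ sκ).left U.hom κh := by
      have := (IsPullback.of_hasPullback σ sκ).map (Over.forget _)
      simp only [Over.forget_map, hσl] at this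
      exact this
    exact isReduced_of_isOpenImmersion sqS.isoPullback.inv
  -- reducedness of all local rings of the chart
  have hred : IsReduced U.left := by
    have key : ∀ u : ↥U.left, _root_.IsReduced (U.left.presheaf.stalk u) := by
      intro u
      let x := Points.ofPt a u
      have hcl : IsClosedMap (Points.map s) :=
        hs1.2.2 (IsAlgSpace.yon_obj B) (𝟙 _) (𝟙 _) s (IsPullback.of_horiz_isIso ⟨by simp⟩)
      have hc : Points.schemeHomeo B (IsLocalRing.closedPoint R) ∈ Points.map s '' closure {x} :=
        ((IsLocalRing.specializes_closedPoint ((Points.schemeHomeo B).symm (Points.map s x))).map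
          (Points.schemeHomeo B).continuous).mem_closed (hcl _ isClosed_closure)
          (by rw [Homeomorph.apply_symm_apply]; exact ⟨x, subset_closure rfl, rfl⟩)
      obtain ⟨x₀, hx₀, hsx₀⟩ := hc
      obtain ⟨u₀, rfl⟩ := surjective_ofPt has x₀
      have hu₀ : U.hom u₀ = IsLocalRing.closedPoint R := by
        rw [Points.map_ofPt, ← hσ] at hsx₀
        have h2 : Points.schemeHomeo B (σ.left u₀) = Points.schemeHomeo B (IsLocalRing.closedPoint R) := by
          rw [← hsx₀, ← Points.map_yon_map_apply, Points.ofPt_eq_map_ofScheme]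
          rfl
        rw [← hσl]
        exact (Points.schemeHomeo B).injective h2
      obtain ⟨O, huO, hO⟩ := ReducedDvr.exists_open_reduced U.hom u₀ hu₀
      obtain ⟨y, hyO, hyx⟩ := mem_closure_iff.1 hx₀ _ (AlgSpLib.isOpenMap_ofPt ha O O.2) ⟨u₀, huO, rfl⟩
      obtain ⟨u', hu', rfl⟩ := hyO
      have hux : Points.ofPt a u' = Points.ofPt a u := hyx
      refine isReduced_stalk_of_charts ha ha hux ?_
      exact isReduced_of_injective ((O.stalkIso ⟨u', hu'⟩).inv).hom
        (ConcreteCategory.bijective_of_isIso _).1
    exact isReduced_of_isReduced_stalk _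
  refine ⟨⟨U, a, ha, has, hred⟩, fun Xη fst snd sq => ?_⟩
  let ηh := Spec.map (CommRingCat.ofHom (algebraMap R (FractionRing R)))
  let sη : Over.mk ηh ⟶ B := Over.homMk ηh (Category.comp_id _)
  have hηo : IsOpenImmersion ηh := by
    obtain ⟨ϖ, hϖ⟩ := IsDiscreteValuationRing.exists_irreducible R
    have := ReducedDvr.isAway ϖ hϖ
    exact IsOpenImmersion.of_isLocalization ϖ
  let W := pullback σ sη
  have sqW : IsPullback ((yon _).map (pullback.fst σ sη)) ((yon _).map (pullback.snd σ sη)) (a ≫ s)
      ((yon _).map sη) := by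
    have := (IsPullback.of_hasPullback σ sη).map (yon _)
    rwa [hσ] at this
  let w : (yon _).obj W ⟶ Xη :=
    sq.lift ((yon _).map (pullback.fst σ sη) ≫ a) ((yon _).map (pullback.snd σ sη))
      ((Category.assoc _ _ _).trans sqW.w)
  have sqw : IsPullback ((yon _).map (pullback.fst σ sη)) w a fst :=
    IsPullback.of_bot (by rw [sq.lift_snd]; exact sqW) (sq.lift_fst _ _ _).symm sq
  refine ⟨W, w, repWith_of_isPullback sqw ha, repWith_of_isPullback sqw has, ?_⟩
  have : IsOpenImmersion (pullback.fst σ sη).left :=
    MorphismProperty.of_isPullback (P := @IsOpenImmersion)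
      ((IsPullback.of_hasPullback σ sη).map (Over.forget _)).flip hηo
  exact isReduced_of_isOpenImmersion (pullback.fst σ sη).left

end Groth.Agent.S10669
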