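import Groth.Statements.S10670
-- import your own Groth.Agent.* helpers here
import Groth.Agent.AlgSpDec.GeomComp

set_option autoImplicit false
universe u
open CategoryTheory CategoryTheory.Limits AlgebraicGeometry
open AlgSp

namespace Groth.Agent.S10670

set_option backward.isDefEq.respectTransparency false
set_option backward.isDefEq.respectTransparency.types false

open Groth.Agent Groth.Agent.AlgSpLib Groth.Agent.AlgSpPts Groth.Agent.AlgSpDec


/-- For morphisms f : X ⟶ Y and g : Y' ⟶ Y between algebraic spaces over S, f' : X' ⟶ Y' the base change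
of f along g, an algebraically closed field point k' of Y' and an algebraically closed field point k
of Y whose class in |Y| is the image of the class of k', the fibres X'_{k'} and X_k (pullbacks in
fppf sheaves) have the same number of connected components of their spaces of points, counted in ℕ∞.
With g the identity this says the number of geometric connected components of the fibre over a point
of |Y| is well defined. -/
theorem result {S : Scheme.{u}} {X Y X' Y' : AlgSp.Space S} (f : X ⟶ Y) (g : Y' ⟶ Y) (gX : X' ⟶ X) (f' : X' ⟶ Y')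
    (hsq : IsPullback gX.hom f'.hom f.hom g.hom)
    (k' : AlgSp.FieldPt Y'.obj) (hk' : k'.IsGeometric) (k : AlgSp.FieldPt Y.obj) (hk : k.IsGeometric)
    (hkk : AlgSp.Points.mk k = AlgSp.Points.map g.hom (AlgSp.Points.mk k'))
    (Xk' : AlgSp.Sp S) (a' : Xk' ⟶ X'.obj) (b' : Xk' ⟶ (AlgSp.yon S).obj k'.pt) (h' : IsPullback a' b' f'.hom k'.toHom)
    (Xk : AlgSp.Sp S) (a : Xk ⟶ X.obj) (b : Xk ⟶ (AlgSp.yon S).obj k.pt) (h : IsPullback a b f.hom k.toHom) :
    ENat.card (_root_.ConnectedComponents (AlgSp.Points Xk')) = ENat.card (_root_.ConnectedComponents (AlgSp.Points Xk)) := by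
  have hkk' : AlgSp.FieldPt.Rel k (k'.map g.hom) := Points.mk_eq_mk_iff.1 hkk
  obtain ⟨Ω, _, w, a₀, b₀, hab⟩ := hkk'
  have key : (yon S).map a₀ ≫ k.toHom = ((yon S).map (b₀ : Over.mk w ⟶ k'.pt) ≫ k'.toHom) ≫ g.hom := by
    rw [Category.assoc, ← FieldPt.toHom_map]
    apply (J S).uliftYonedaEquiv.injective
    rw [← uliftYonedaEquiv_precomp]
    show _ = (J S).uliftYonedaEquiv ((yon S).map (b₀ : Over.mk w ⟶ (k'.map g.hom).pt) ≫ (k'.map g.hom).toHom)
    rw [← uliftYonedaEquiv_precomp, FieldPt.uliftYonedaEquiv_toHom, FieldPt.uliftYonedaEquiv_toHom]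
    exact hab
  let Q := pullback b ((yon S).map a₀)
  let Q' := pullback b' ((yon S).map (b₀ : Over.mk w ⟶ k'.pt))
  have sqQ := (IsPullback.of_hasPullback b ((yon S).map a₀)).paste_horiz h
  have sqQ' := ((IsPullback.of_hasPullback b' ((yon S).map (b₀ : Over.mk w ⟶ k'.pt))).paste_horiz h').paste_horiz hsq
  rw [key] at sqQ
  have hk₁ : IsAlgClosed k.K := hk
  have hk₂ : IsAlgClosed k'.K := hk'
  have hXk : IsAlgSpace Xk := isAlgSpace_of_isPullback h X.property (IsAlgSpace.yon_obj k.pt) Y.property
  have hXk' : IsAlgSpace Xk' := isAlgSpace_of_isPullback h' X'.property (IsAlgSpace.yon_obj k'.pt) Y'.property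
  let e₁ := Equiv.ofBijective _ (GeomComp.bijective_components (K := k.K) (L := Ω) a₀ hXk
    (IsPullback.of_hasPullback b ((yon S).map a₀)))
  let e₂ := Equiv.ofBijective _ (GeomComp.bijective_components (K := k'.K) (L := Ω)
    (b₀ : Over.mk w ⟶ k'.pt) hXk' (IsPullback.of_hasPullback b' ((yon S).map (b₀ : Over.mk w ⟶ k'.pt))))
  let e := BcConn.homeoOfIso (sqQ'.isoIsPullback _ _ sqQ)
  let e₃ : _root_.ConnectedComponents (Points Q') ≃ _root_.ConnectedComponents (Points Q) :=
    { toFun := e.continuous.connectedComponentsMap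
      invFun := e.symm.continuous.connectedComponentsMap
      left_inv := fun x => by
        obtain ⟨x, rfl⟩ := ConnectedComponents.surjective_coe x
        simp
      right_inv := fun x => by
        obtain ⟨x, rfl⟩ := ConnectedComponents.surjective_coe x
        simp }
  exact ENat.card_congr ((e₂.symm.trans e₃).trans e₁)

end Groth.Agent.S10670
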