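import Groth.Statements.S10677
import Groth.Agent.NormSp.SplitOne
import Groth.Agent.AlgSpLib.EtLocalInst

set_option backward.isDefEq.respectTransparency false
set_option backward.isDefEq.respectTransparency.types false
-- import your own Groth.Agent.* helpers here

set_option autoImplicit false
universe u
open CategoryTheory CategoryTheory.Limits AlgebraicGeometry
open AlgSp

namespace Groth.Agent.S10677

/-- For a separated morphism f : X ⟶ Y of algebraic spaces over S which is locally of finite type and a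
point x of |X| with image y at which f is quasi-finite (some etale chart diagram through x has top
arrow locally quasi-finite and locally of finite type on an open neighbourhood), there are an etale
morphism a : U ⟶ Y and a point u of |U| over y such that for the base change P = U ×_Y X there is an
open and closed subspace V ⊂ P, finite over U, containing a point mapping to x in |X| and to u in
|U|. -/
theorem result {S : Scheme.{u}} {X Y : AlgSp.Space S} (f : X ⟶ Y) (x : AlgSp.Points X.obj)
    (hf1 : AlgSp.LocP @LocallyOfFiniteType f.hom) (hf2 : AlgSp.IsSeparatedMor f.hom)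
    (hf3 : AlgSp.HasAtMor (fun U _ h u => ∃ W : U.Opens, u ∈ W ∧ LocallyQuasiFinite (W.ι ≫ h) ∧ LocallyOfFiniteType (W.ι ≫ h)) f.hom x) :
    ∃ (U : AlgSp.Space S) (a : U ⟶ Y) (u : AlgSp.Points U.obj), AlgSp.IsEtaleMor a.hom ∧
      AlgSp.Points.map a.hom u = AlgSp.Points.map f.hom x ∧
      ∀ (P : AlgSp.Space S) (prX : P ⟶ X) (prU : P ⟶ U), IsPullback prX.hom prU.hom f.hom a.hom →
        ∃ (V : AlgSp.Space S) (jV : V ⟶ P), AlgSp.RepWith @IsOpenImmersion jV.hom ∧ AlgSp.RepWith @IsClosedImmersion jV.hom ∧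
          AlgSp.IsFiniteMor (jV ≫ prU).hom ∧
          ∃ v : AlgSp.Points V.obj, AlgSp.Points.map (jV ≫ prX).hom v = x ∧ AlgSp.Points.map (jV ≫ prU).hom v = u := by
  obtain ⟨U, V, a, k, jV, v, hU, ha, ho, hc, hk, hjk, hv⟩ :=
    Groth.Agent.NormSp.exists_split_one f hf1 hf2 x ((Groth.Agent.AlgSpDec.hasAtMor_qf_iff hf1 x).1 hf3)
  refine ⟨(AlgSp.ofScheme S).obj U, ObjectProperty.homMk a, Points.schemeHomeo U (k.left v),
    Groth.Agent.AlgSpLib.isEtaleMor_of_repWith ha, ?_, ?_⟩
  · show Points.map a _ = _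
    rw [Groth.Agent.AlgSpDec.SplitQf.map_yon_eq_ofPt, ← hv, Points.map_ofPt, Category.assoc, pullback.condition,
      reassoc_of% hjk, Groth.Agent.AlgSpLib.ofPt_comp]
  intro P prX prU sq
  let e : pullback f.hom a ≅ P.obj := (IsPullback.of_hasPullback f.hom a).isoIsPullback _ _ sq
  let jV' : (AlgSp.ofScheme S).obj V ⟶ P := ObjectProperty.homMk (jV ≫ e.hom)
  have h₁ : e.hom ≫ prX.hom = pullback.fst f.hom a := IsPullback.isoIsPullback_hom_fst _ _ _ _
  have h₂ : e.hom ≫ prU.hom = pullback.snd f.hom a := IsPullback.isoIsPullback_hom_snd _ _ _ _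
  refine ⟨(AlgSp.ofScheme S).obj V, jV',
    Groth.Agent.AlgSpLib.repWith_comp ho (Groth.Agent.AlgSpLib.repWith_of_isIso _ e.hom),
    Groth.Agent.AlgSpLib.repWith_comp hc (Groth.Agent.AlgSpLib.repWith_of_isIso _ e.hom), ?_,
    Points.schemeHomeo V v, ?_, ?_⟩
  · show AlgSp.IsFiniteMor ((jV ≫ e.hom) ≫ prU.hom)
    rw [Category.assoc, h₂, hjk]
    exact Groth.Agent.AlgSpDec.isFiniteMor_iff_repWith.2 ((AlgSp.repWith_yon_map_iff _ _).2 hk)
  · show Points.map ((jV ≫ e.hom) ≫ prX.hom) _ = x
    rw [Category.assoc, h₁, Groth.Agent.AlgSpDec.SplitQf.map_yon_eq_ofPt]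
    exact hv
  · show Points.map ((jV ≫ e.hom) ≫ prU.hom) _ = _
    rw [Category.assoc, h₂, hjk, Points.map_yon_map_apply]


end Groth.Agent.S10677
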