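import Groth.Statements.S10680
import Groth.Agent.AlgSpDec2.FibreDimSemicont
-- import your own Groth.Agent.* helpers here

set_option autoImplicit false
universe u
open CategoryTheory CategoryTheory.Limits AlgebraicGeometry
open AlgSp

namespace Groth.Agent.S10680

open Groth.Agent CategoryTheory CategoryTheory.Limits AlgebraicGeometry AlgSp

/-- For a proper morphism f : X ⟶ Y between algebraic spaces over S the fibre dimension function on |Y|
is upper semi-continuous: for every d the set of y such that every fibre X_k over y (k a field point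
in the class of y, X_k any pullback in fppf sheaves) has dimension less than d is open. -/
theorem result {S : Scheme.{u}} {X Y : AlgSp.Space S} (f : X ⟶ Y) (hf : AlgSp.IsProperMor f.hom) (d : WithBot ℕ∞) :
    IsOpen {y : AlgSp.Points Y.obj | ∀ (k : AlgSp.FieldPt Y.obj), AlgSp.Points.mk k = y →
      ∀ (Xk : AlgSp.Sp S) (fst : Xk ⟶ X.obj) (snd : Xk ⟶ (AlgSp.yon S).obj k.pt),
        IsPullback fst snd f.hom k.toHom → AlgSp.dim Xk < d} := by
  induction d using WithBot.recBotCoe with
  | bot =>
    convert isOpen_empty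
    refine Set.eq_empty_iff_forall_notMem.2 fun y hy => ?_
    induction y using Points.ind with | h k => ?_
    exact not_lt_bot (hy k rfl _ _ _ (IsPullback.of_hasPullback f.hom k.toHom))
  | coe e =>
    have h0 : ∀ n : ℕ, ((n + 1 : ℕ) : ℕ∞) ≤ e → IsOpen {y : Points Y.obj | ∀ k : FieldPt Y.obj, Points.mk k = y →
        ∀ (Xk : Sp S) (fst : Xk ⟶ X.obj) (snd : Xk ⟶ (yon S).obj k.pt),
          IsPullback fst snd f.hom k.toHom → AlgSp.dim Xk ≤ (n : WithBot ℕ∞)} := fun n _ =>
      AlgSpDec2.isOpen_dim_fibre_le X.property Y.property hf.2.1.1 hf.2.2 n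
    rw [isOpen_iff_forall_mem_open]
    intro y hy
    induction y using Points.ind with | h k => ?_
    have hk := hy k rfl _ _ _ (IsPullback.of_hasPullback f.hom k.toHom)
    rcases AlgSpDec2.le_natCast_trans (lt_of_lt_of_le hk le_top) with hb | ⟨n, hn⟩
    · refine ⟨_, ?_, AlgSpDec2.isOpen_dim_fibre_eq_bot X.property Y.property hf.2.2, ?_⟩
      · intro y hy' k' hk' Xk fst snd sq
        rw [hy' k' hk' Xk fst snd sq]
        exact WithBot.bot_lt_coe _
      · intro k' hk' Xk fst snd sq
        rw [AlgSpDec2.dim_fibre_eq_bot_iff X.property Y.property k' sq, hk',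
          ← AlgSpDec2.dim_fibre_eq_bot_iff X.property Y.property k (IsPullback.of_hasPullback f.hom k.toHom)]
        exact hb
    · refine ⟨_, ?_, h0 n ?_, ?_⟩
      · intro y hy' k' hk' Xk fst snd sq
        exact lt_of_le_of_lt (hy' k' hk' Xk fst snd sq) (hn ▸ hk)
      · rw [hn] at hk
        have hk' : (n : ℕ∞) < e := WithBot.coe_lt_coe.1 hk
        push_cast
        exact Order.add_one_le_of_lt hk'
      · intro k' hk' Xk fst snd sq
        rw [AlgSpDec2.dim_fibre_le_iff X.property Y.property hf.2.1.1 k' sq, hk',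
          ← AlgSpDec2.dim_fibre_le_iff X.property Y.property hf.2.1.1 k (IsPullback.of_hasPullback f.hom k.toHom)]
        exact hn.le

end Groth.Agent.S10680
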