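import Groth.Statements.S10682
import Groth.Agent.AlgSpDec2.GeomRedLocus
import Groth.Agent.S4963
import Groth.Agent.S10686
import Groth.Agent.AlgSpPts.Misc

set_option autoImplicit false
universe u
open CategoryTheory CategoryTheory.Limits AlgebraicGeometry
open AlgSp

namespace Groth.Agent.S10682

set_option backward.isDefEq.respectTransparency false
set_option backward.isDefEq.respectTransparency.types false

open Groth.Agent Groth.Agent.AlgSpLib Groth.Agent.AlgSpPts Groth.Agent.AlgSpDec2 Groth.Agent.GeomRedFlat5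

/-- For a flat proper morphism f : X ⟶ Y between algebraic spaces over S which is of finite
presentation, the set of points y of |Y| at which the fibre of f is geometrically reduced is open in
|Y|; here the fibre of f at y being geometrically reduced means: for every field point k of Y in the
class of y and every field homomorphism k ⟶ k', the base change X_{k'} (pullback in fppf sheaves) is
reduced (some etale surjective scheme chart is reduced). -/
theorem result {S : Scheme.{u}} {X Y : AlgSp.Space S} (f : X ⟶ Y)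
    (hf1 : AlgSp.LocP @Flat f.hom) (hf2 : AlgSp.IsProperMor f.hom) (hf3 : AlgSp.IsFinitePresentationMor f.hom) :
    IsOpen {y : AlgSp.Points Y.obj | ∀ (k : AlgSp.FieldPt Y.obj), AlgSp.Points.mk k = y →
        ∀ (k' : Type u) [Field k'] (φ : k.K →+* k') (Xk' : AlgSp.Sp S) (a : Xk' ⟶ X.obj)
          (b : Xk' ⟶ (AlgSp.yon S).obj (Over.mk (Spec.map (CommRingCat.ofHom φ) ≫ k.str))),
          IsPullback a b f.hom ((AlgSp.yon S).map (Over.homMk (Spec.map (CommRingCat.ofHom φ)) rfl :
            Over.mk (Spec.map (CommRingCat.ofHom φ) ≫ k.str) ⟶ k.pt) ≫ k.toHom) →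
          AlgSp.EtaleLocally (fun U => IsReduced U) Xk'} := by
  have hG : IsOpen {x : AlgSp.Points X.obj | GeomRedLocus.GoodAt f.hom x} := by
    rw [isOpen_iff_forall_mem_open]
    rintro x ⟨U, V, a, b, h, u, ha, hb, w, rfl, hu⟩
    haveI : Flat h.left := hf1 a b h ha hb w
    haveI : LocallyOfFinitePresentation h.left := hf3.1 a b h ha hb w
    refine ⟨AlgSp.Points.ofPt a '' {z | (h.left.stalkMap z).hom.Flat ∧ E h.left z}, ?_,
      isOpenMap_ofPt ha _ (S4963.result h.left), u, ⟨Flat.stalkMap h.left u, hu⟩, rfl⟩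
    rintro _ ⟨z, hz, rfl⟩
    exact ⟨U, V, a, b, h, z, ha, hb, w, rfl, hz.2⟩
  have huc : AlgSp.IsUnivClosedMor f.hom := hf2.2.2
  have hcl : IsClosedMap (AlgSp.Points.map f.hom) :=
    huc Y.property (𝟙 Y.obj) (𝟙 X.obj) f.hom (IsPullback.of_horiz_isIso ⟨by simp⟩)
  convert (hcl _ hG.isClosed_compl).isOpen_compl using 1
  ext y
  refine (((S10686.result f y).out 1 2).trans (GeomRedLocus.forall_reduced_iff X.property Y.property f.hom y)).trans ⟨?_, ?_⟩
  · rintro H ⟨x, hx, hxy⟩
    exact hx (H x hxy)
  · intro H x hxy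
    by_contra hx
    exact H ⟨x, hx, hxy⟩


end Groth.Agent.S10682
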