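import Groth.Statements.S10683
import Groth.Agent.AlgSpDec2.GeomRedLocus
import Groth.Agent.AlgSpDec.LimDescent
import Groth.Agent.AlgSpPts.Misc
import Groth.Agent.FibreLoc5.Constr
import Groth.Agent.S4963
import Groth.Agent.S10686

namespace Groth.Agent.GeomRedCons

open Groth.Agent.GeomRedFlat5

universe v

theorem good_E : FibreLoc5.Good.{v} (fun _ _ f x => E f x) where
  baseChange _ _ _ _ _ _ _ _ hsq _ z := E_iff_of_isPullback hsq z
  source _ _ _ j f hj u := AlgSpDec2.GeomRedLocus.E_etale_comp j f u
  isOpen _ _ f _ := S4963.result f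

end Groth.Agent.GeomRedCons

set_option autoImplicit false
universe u
open CategoryTheory CategoryTheory.Limits AlgebraicGeometry
open AlgSp

namespace Groth.Agent.S10683

/-- For a quasi-compact morphism f : X ⟶ Y between algebraic spaces over S which is locally of finite
presentation, the set E of points of |Y| at which the fibre of f is geometrically reduced is etale
locally constructible: for every affine scheme V with a representable etale a : h_V ⟶ Y, the inverse
image of E in V is a constructible subset. Here the fibre of f at y being geometrically reduced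
means: for every field point k of Y in the class of y and every field homomorphism k ⟶ k', the base
change X_{k'} (pullback in fppf sheaves) is reduced (some etale surjective scheme chart is reduced). -/
theorem result {S : Scheme.{u}} {X Y : AlgSp.Space S} (f : X ⟶ Y)
    (hf1 : AlgSp.IsQuasiCompactMor f.hom) (hf2 : AlgSp.LocP @LocallyOfFinitePresentation f.hom)
    (V : Over S) (hV : IsAffine V.left) (a : (AlgSp.yon S).obj V ⟶ Y.obj) (ha : AlgSp.RepWith @Etale a) :
    Topology.IsConstructible ((AlgSp.Points.ofPt a) ⁻¹' {y : AlgSp.Points Y.obj | ∀ (k : AlgSp.FieldPt Y.obj), AlgSp.Points.mk k = y →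
        ∀ (k' : Type u) [Field k'] (φ : k.K →+* k') (Xk' : AlgSp.Sp S) (a : Xk' ⟶ X.obj)
          (b : Xk' ⟶ (AlgSp.yon S).obj (Over.mk (Spec.map (CommRingCat.ofHom φ) ≫ k.str))),
          IsPullback a b f.hom ((AlgSp.yon S).map (Over.homMk (Spec.map (CommRingCat.ofHom φ)) rfl :
            Over.mk (Spec.map (CommRingCat.ofHom φ) ≫ k.str) ⟶ k.pt) ≫ k.toHom) →
          AlgSp.EtaleLocally (fun U => IsReduced U) Xk'}) := by
  haveI : IsAffine V.left := hV
  haveI : CompactSpace ↥V.left := inferInstance
  let P := pullback f.hom a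
  have hP : IsAlgSpace P := Groth.Agent.AlgSpLib.isAlgSpace_pullback X.property (IsAlgSpace.yon_obj V) Y.property _ _
  have sq : IsPullback (pullback.fst f.hom a) (pullback.snd f.hom a) f.hom a := .of_hasPullback _ _
  obtain ⟨W, c, hW, hce, hcs⟩ := Groth.Agent.AlgSpDec.exists_affine_atlas
    (hf1 (IsAlgSpace.yon_obj V) (Groth.Agent.AlgSpLib.isQuasiCompactSp_yon V) a _ _ sq)
  haveI : IsAffine W.left := hW
  have hfst : RepWith @Etale (pullback.fst f.hom a) := Groth.Agent.AlgSpLib.repWith_of_isPullback sq.flip ha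
  have hW' : RepWith @Etale (c ≫ pullback.fst f.hom a) := Groth.Agent.AlgSpLib.repWith_comp hce hfst
  obtain ⟨h, hh⟩ := (yon S).map_surjective (c ≫ pullback.snd f.hom a)
  have w : (c ≫ pullback.fst f.hom a) ≫ f.hom = (yon S).map h ≫ a := by
    rw [hh, Category.assoc, Category.assoc, sq.w]
  haveI : LocallyOfFinitePresentation h.left := hf2 _ _ h hW' ha w
  refine (congrArg (Topology.IsConstructible) (Set.ext fun v => ?_)).mpr
    (Groth.Agent.FibreLoc5.isLocallyConstructible_forall_fibre Groth.Agent.GeomRedCons.good_E h.left).isConstructible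
  refine (((Groth.Agent.S10686.result f (Points.ofPt a v)).out 1 2).trans
    (Groth.Agent.AlgSpDec2.GeomRedLocus.forall_reduced_iff X.property Y.property f.hom _)).trans ⟨?_, ?_⟩
  · intro H z hz
    obtain ⟨U₀, V₀, a₀, b₀, h₀, u₀, ha₀, hb₀, w₀, hx₀, hu₀⟩ := H (Points.ofPt (c ≫ pullback.fst f.hom a) z) (by
      rw [Points.map_ofPt, w, Groth.Agent.AlgSpLib.ofPt_comp, hz])
    exact (Groth.Agent.AlgSpDec2.GeomRedLocus.E_congr ha₀ hb₀ w₀ hW' ha w hx₀).1 hu₀
  · intro H x hx
    obtain ⟨p, hp, hp'⟩ := Groth.Agent.AlgSpLib.exists_point_of_isPullback sq (x := x)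
      (y := Points.ofScheme V v) (by rw [hx, Points.ofPt_eq_map_ofScheme])
    obtain ⟨z, rfl⟩ := Groth.Agent.AlgSpLib.surjective_ofPt hcs p
    refine ⟨W, V, c ≫ pullback.fst f.hom a, a, h, z, hW', ha, w, ?_, H z ?_⟩
    · rw [← hp, Points.map_ofPt]
    · have := congrArg (Points.toScheme V) hp'
      rw [Points.map_ofPt, ← hh, Points.toScheme_ofPt, Points.toScheme_ofScheme] at this
      exact this

end Groth.Agent.S10683
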