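import Groth.Statements.S10687
import Groth.Agent.AlgSpDec2.GorAt
-- import your own Groth.Agent.* helpers here

set_option autoImplicit false
universe u

set_option backward.isDefEq.respectTransparency false
set_option backward.isDefEq.respectTransparency.types false
open CategoryTheory CategoryTheory.Limits AlgebraicGeometry
open AlgSp

namespace Groth.Agent.S10687

open AlgSp Groth.Agent.AlgSpLib Groth.Agent.AlgSpPts Groth.Agent.AlgSpDec

/-- For morphisms f : X ⟶ Y and g : Y ⟶ Z between algebraic spaces over S whose fibres, and those of f ≫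
g, are locally Noetherian, and a point x of |X|: (1) if g is Gorenstein at the image of x and f is
Gorenstein at x itself, then so is f ≫ g at x; (2) if f ≫ g is Gorenstein at x and f is flat there,
then f is Gorenstein at x and g at the image of x. Here f is Gorenstein at x when in every etale
chart diagram through x the top arrow is Gorenstein at the point over x (flat there, with Gorenstein
local ring of its fibre), and the fibres of a morphism are locally Noetherian when every fibre over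
a field point (pullback in fppf sheaves) is a locally Noetherian algebraic space. -/
theorem result {S : Scheme.{u}} {X Y Z : AlgSp.Space S} (f : X ⟶ Y) (g : Y ⟶ Z)
    (hf : ∀ (k : AlgSp.FieldPt Y.obj) (Xk : AlgSp.Sp S) (a : Xk ⟶ X.obj) (b : Xk ⟶ (AlgSp.yon S).obj k.pt),
        IsPullback a b f.hom k.toHom → AlgSp.IsLocNoethSp Xk)
    (hg : ∀ (k : AlgSp.FieldPt Z.obj) (Xk : AlgSp.Sp S) (a : Xk ⟶ Y.obj) (b : Xk ⟶ (AlgSp.yon S).obj k.pt),
        IsPullback a b g.hom k.toHom → AlgSp.IsLocNoethSp Xk)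
    (hfg : ∀ (k : AlgSp.FieldPt Z.obj) (Xk : AlgSp.Sp S) (a : Xk ⟶ X.obj) (b : Xk ⟶ (AlgSp.yon S).obj k.pt),
        IsPullback a b (f ≫ g).hom k.toHom → AlgSp.IsLocNoethSp Xk)
    (x : AlgSp.Points X.obj) :
    (AlgSp.LocPAt (fun h u => Dual3.IsGorensteinAt h u) f.hom x → AlgSp.LocPAt (fun h u => Dual3.IsGorensteinAt h u) g.hom (AlgSp.Points.map f.hom x) →
        AlgSp.LocPAt (fun h u => Dual3.IsGorensteinAt h u) (f ≫ g).hom x) ∧
      (AlgSp.LocPAt (fun h u => Dual3.IsGorensteinAt h u) (f ≫ g).hom x → AlgSp.IsFlatAtMor f.hom x →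
        AlgSp.LocPAt (fun h u => Dual3.IsGorensteinAt h u) f.hom x ∧ AlgSp.LocPAt (fun h u => Dual3.IsGorensteinAt h u) g.hom (AlgSp.Points.map f.hom x)) := by
  have hf' : AlgSpDec2.LocNoethFibres f.hom := hf
  have hg' : AlgSpDec2.LocNoethFibres g.hom := hg
  have hfg' : AlgSpDec2.LocNoethFibres (f.hom ≫ g.hom) := hfg
  change (_ → _ → LocPAt _ (f.hom ≫ g.hom) x) ∧ (LocPAt _ (f.hom ≫ g.hom) x → _ → _)
  obtain ⟨U, V, W, a, b, c, h, k, u, ha, hb, hc, w₁, w₂, w₃, rfl⟩ :=
    AlgSpDec2.exists_chart_pair_through X.property Y.property Z.property f.hom g.hom x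
  rw [Points.map_ofPt, w₁, ofPt_comp, AlgSpDec2.gorAtMor_iff_chart hf' ha hb w₁,
    AlgSpDec2.gorAtMor_iff_chart hg' hb hc w₂, AlgSpDec2.gorAtMor_iff_chart hfg' ha hc w₃,
    AlgSpDec2.flatAtMor_iff_chart ha hb w₁]
  refine ⟨fun h1 h2 => GorFib.comp h.left k.left u ?_ h1 h2, fun h1 h2 => GorFib.of_comp h.left k.left u h1 h2⟩
  exact AlgSpDec2.isLocallyNoetherian_fibre_of_chart hfg' ha hc w₃ _

end Groth.Agent.S10687
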