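import Groth.Statements.S10688
import Groth.Agent.AlgSpDec2.GorAt
-- import your own Groth.Agent.* helpers here

set_option autoImplicit false
universe u

set_option backward.isDefEq.respectTransparency false
set_option backward.isDefEq.respectTransparency.types false
open CategoryTheory CategoryTheory.Limits AlgebraicGeometry
open AlgSp

namespace Groth.Agent.S10688

open AlgSp Groth.Agent.AlgSpLib Groth.Agent.AlgSpPts Groth.Agent.AlgSpDec

/-- For a morphism f : X ⟶ Y between algebraic spaces over S with locally Noetherian fibres, g : Y' ⟶ Y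
locally of finite type, f' : X' ⟶ Y' the base change (a pullback square of algebraic spaces) with
projection g' : X' ⟶ X, and x' a point of |X'| with image x: (1) if f is Gorenstein at x then so is
f' at x'; (2) when f is flat at x, Gorensteinness of f' at x' implies that of f at x; (3) the same
conclusion holds if instead g is flat at the image of x' and f' is Gorenstein at x'. Here f is
Gorenstein at x when in every etale chart diagram through x the top arrow is Gorenstein at the point
over x (flat there, with Gorenstein local ring of its fibre), and the fibres of a morphism are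
locally Noetherian when every fibre over a field point (pullback in fppf sheaves) is a locally
Noetherian algebraic space. -/
theorem result {S : Scheme.{u}} {X Y X' Y' : AlgSp.Space S} (f : X ⟶ Y) (g : Y' ⟶ Y) (g' : X' ⟶ X) (f' : X' ⟶ Y')
    (hsq : IsPullback g'.hom f'.hom f.hom g.hom)
    (hf : ∀ (k : AlgSp.FieldPt Y.obj) (Xk : AlgSp.Sp S) (a : Xk ⟶ X.obj) (b : Xk ⟶ (AlgSp.yon S).obj k.pt),
        IsPullback a b f.hom k.toHom → AlgSp.IsLocNoethSp Xk)
    (hg : AlgSp.LocP @LocallyOfFiniteType g.hom) (x' : AlgSp.Points X'.obj) :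
    (AlgSp.LocPAt (fun h u => Dual3.IsGorensteinAt h u) f.hom (AlgSp.Points.map g'.hom x') → AlgSp.LocPAt (fun h u => Dual3.IsGorensteinAt h u) f'.hom x') ∧
      (AlgSp.IsFlatAtMor f.hom (AlgSp.Points.map g'.hom x') → AlgSp.LocPAt (fun h u => Dual3.IsGorensteinAt h u) f'.hom x' →
        AlgSp.LocPAt (fun h u => Dual3.IsGorensteinAt h u) f.hom (AlgSp.Points.map g'.hom x')) ∧
      (AlgSp.IsFlatAtMor g.hom (AlgSp.Points.map f'.hom x') → AlgSp.LocPAt (fun h u => Dual3.IsGorensteinAt h u) f'.hom x' →
        AlgSp.LocPAt (fun h u => Dual3.IsGorensteinAt h u) f.hom (AlgSp.Points.map g'.hom x')) := by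
  have hfl : AlgSpDec2.LocNoethFibres f.hom := hf
  have hfl' : AlgSpDec2.LocNoethFibres f'.hom := by
    intro k Xk a b sq
    refine hf (k.map g.hom) Xk (a ≫ g'.hom) b ?_
    rw [FieldPt.toHom_map]
    exact sq.paste_horiz hsq
  obtain ⟨V, b, hb, hbs⟩ := Y.property.atlas
  obtain ⟨V', e', c, he', hes', hc⟩ := exists_chart_over Y'.property Y.property g.hom b
  have hb' : RepWith @Etale (e' ≫ pullback.fst g.hom b) := repWith_comp he' (repWith_fst g.hom hb)
  have hbs' : RepWith @Surjective (e' ≫ pullback.fst g.hom b) := repWith_comp hes' (repWith_fst g.hom hbs)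
  have wc : (e' ≫ pullback.fst g.hom b) ≫ g.hom = (yon S).map c ≫ b := by
    rw [Category.assoc, pullback.condition, ← Category.assoc, hc]
  obtain ⟨U, e, h, he, hes, hh⟩ := exists_chart_over X.property Y.property f.hom b
  have ha : RepWith @Etale (e ≫ pullback.fst f.hom b) := repWith_comp he (repWith_fst f.hom hb)
  have w : (e ≫ pullback.fst f.hom b) ≫ f.hom = (yon S).map h ≫ b := by
    rw [Category.assoc, pullback.condition, ← Category.assoc, hh]
  obtain ⟨U', c', h', a', sU, ha', has', w', wX⟩ := exists_chart_baseChange hsq wc hh he hes hb' hbs'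
  obtain ⟨u', rfl⟩ := surjective_ofPt has' x'
  have hpx : Points.map g'.hom (Points.ofPt a' u') = Points.ofPt (e ≫ pullback.fst f.hom b) (c'.left u') := by
    rw [Points.map_ofPt, wX, ofPt_comp]
  have hpy : Points.map f'.hom (Points.ofPt a' u') = Points.ofPt (e' ≫ pullback.fst g.hom b) (h'.left u') := by
    rw [Points.map_ofPt, w', ofPt_comp]
  rw [hpx, hpy, AlgSpDec2.gorAtMor_iff_chart hfl ha hb w, AlgSpDec2.gorAtMor_iff_chart hfl' ha' hb' w',
    AlgSpDec2.flatAtMor_iff_chart ha hb w, AlgSpDec2.flatAtMor_iff_chart hb' hb wc]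
  have sl : IsPullback c'.left h'.left h.left c.left := sU.map (CategoryTheory.Over.forget S)
  haveI : LocallyOfFiniteType c.left := hg _ b c hb' hb wc
  have hN := AlgSpDec2.isLocallyNoetherian_fibre_of_chart hfl ha hb w (c.left (h'.left u'))
  exact ⟨GorFib.base_change sl u' hN, GorFib.of_base_change sl u' hN, GorFib.of_flat_base_change sl u' hN⟩

end Groth.Agent.S10688
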