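import Groth.Statements.S10689
import Groth.Agent.AlgSpDec2.GorAt
import Groth.Agent.S3617
import Groth.Agent.S3626
-- import your own Groth.Agent.* helpers here

set_option autoImplicit false
set_option backward.isDefEq.respectTransparency false
set_option backward.isDefEq.respectTransparency.types false
universe u
open CategoryTheory CategoryTheory.Limits AlgebraicGeometry
open AlgSp

namespace Groth.Agent.S10689

open Groth.Agent.AlgSpLib Groth.Agent.AlgSpPts Groth.Agent.AlgSpDec

/-- For a flat morphism f : X ⟶ Y between algebraic spaces over S which is locally of finite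
presentation, the set W of points of |X| at which f is Gorenstein (in every etale chart diagram
through the point the top arrow is flat there with Gorenstein local ring of its fibre) is open in
|X|, and for any morphism of algebraic spaces g : Y' ⟶ Y with base change f' : X' ⟶ Y' and
projection g' : X' ⟶ X the corresponding set for f' is the inverse image of W under |g'|. -/
theorem result {S : Scheme.{u}} {X Y : AlgSp.Space S} (f : X ⟶ Y)
    (hf1 : AlgSp.LocP @Flat f.hom) (hf2 : AlgSp.LocP @LocallyOfFinitePresentation f.hom) :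
    IsOpen {x : AlgSp.Points X.obj | AlgSp.LocPAt (fun h u => Dual3.IsGorensteinAt h u) f.hom x} ∧
      ∀ (X' Y' : AlgSp.Space S) (g : Y' ⟶ Y) (g' : X' ⟶ X) (f' : X' ⟶ Y'), IsPullback g'.hom f'.hom f.hom g.hom →
        {x' : AlgSp.Points X'.obj | AlgSp.LocPAt (fun h u => Dual3.IsGorensteinAt h u) f'.hom x'} =
          AlgSp.Points.map g'.hom ⁻¹' {x : AlgSp.Points X.obj | AlgSp.LocPAt (fun h u => Dual3.IsGorensteinAt h u) f.hom x}  := by
  have hlft : LocP @LocallyOfFiniteType f.hom := locP_mono
    (P := @LocallyOfFinitePresentation) (Q := @LocallyOfFiniteType)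
    (fun _ _ h (_ : LocallyOfFinitePresentation h) => inferInstanceAs (LocallyOfFiniteType h)) hf2
  have hN : ∀ {A B : AlgSp.Space S} (φ : A ⟶ B), LocP @LocallyOfFiniteType φ.hom →
      AlgSpDec2.LocNoethFibres φ.hom := fun {A B} φ hφ k Xk a c sq => by
    have hk : IsAlgSpace Xk := isAlgSpace_of_isPullback sq A.property (IsAlgSpace.yon_obj _) B.property
    have hc : LocP @LocallyOfFiniteType c :=
      locP_of_isPullback sq A.property B.property (IsAlgSpace.yon_obj _) hφ
    obtain ⟨U, p, hp, hps⟩ := hk.atlas
    obtain ⟨h, hh⟩ := (yon S).map_surjective (p ≫ c)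
    have : LocallyOfFiniteType h.left := hc p (𝟙 _) h hp (repWith_id _ _) (by rw [hh, Category.comp_id])
    exact ⟨U, p, hp, hps, LocallyOfFiniteType.isLocallyNoetherian (Y := Spec (CommRingCat.of k.K)) h.left⟩
  obtain ⟨V, b, hb, hbs⟩ := Y.property.atlas
  obtain ⟨U, e, h, he, hes, hh⟩ := exists_chart_over X.property Y.property f.hom b
  have ha : RepWith @Etale (e ≫ pullback.fst f.hom b) := repWith_comp he (repWith_fst f.hom hb)
  have has : RepWith @Surjective (e ≫ pullback.fst f.hom b) := repWith_comp hes (repWith_fst f.hom hbs)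
  have w : (e ≫ pullback.fst f.hom b) ≫ f.hom = (yon S).map h ≫ b := by
    rw [Category.assoc, pullback.condition, ← Category.assoc, hh]
  haveI : Flat h.left := hf1 _ b h ha hb w
  haveI : LocallyOfFinitePresentation h.left := hf2 _ b h ha hb w
  refine ⟨?_, fun X' Y' g g' f' hsq => Set.ext fun x' => ?_⟩
  · have e1 : {x : Points X.obj | LocPAt (fun h u => Dual3.IsGorensteinAt h u) f.hom x} =
        Points.ofPt (e ≫ pullback.fst f.hom b) '' {u | Dual3.IsGorensteinAt h.left u} := by
      ext x
      obtain ⟨u, rfl⟩ := surjective_ofPt has x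
      refine ⟨fun H => ⟨u, (AlgSpDec2.gorAtMor_iff_chart (hN f hlft) ha hb w u).1 H, rfl⟩, ?_⟩
      rintro ⟨u', hu', he⟩
      rw [← he]
      exact (AlgSpDec2.gorAtMor_iff_chart (hN f hlft) ha hb w u').2 hu'
    rw [e1]
    exact isOpenMap_ofPt ha _ (S3617.result U.left V.left h.left)
  · obtain ⟨V', e', c, he', hes', hc⟩ := exists_chart_over Y'.property Y.property g.hom b
    have hb' : RepWith @Etale (e' ≫ pullback.fst g.hom b) := repWith_comp he' (repWith_fst g.hom hb)
    have hbs' : RepWith @Surjective (e' ≫ pullback.fst g.hom b) := repWith_comp hes' (repWith_fst g.hom hbs)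
    have wc : (e' ≫ pullback.fst g.hom b) ≫ g.hom = (yon S).map c ≫ b := by
      rw [Category.assoc, pullback.condition, ← Category.assoc, hc]
    obtain ⟨U', c', h', a', sU, ha', has', w', wX⟩ := exists_chart_baseChange hsq wc hh he hes hb' hbs'
    obtain ⟨u', rfl⟩ := surjective_ofPt has' x'
    have hlft' : LocP @LocallyOfFiniteType f'.hom :=
      locP_of_isPullback hsq X.property Y.property Y'.property hlft
    have hpx : Points.map g'.hom (Points.ofPt a' u') = Points.ofPt (e ≫ pullback.fst f.hom b) (c'.left u') := by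
      rw [Points.map_ofPt, wX, ofPt_comp]
    show _ ↔ LocPAt _ f.hom (Points.map g'.hom (Points.ofPt a' u'))
    rw [hpx, Set.mem_setOf_eq, AlgSpDec2.gorAtMor_iff_chart (hN f hlft) ha hb w,
      AlgSpDec2.gorAtMor_iff_chart (hN f' hlft') ha' hb' w']
    have sl : IsPullback c'.left h'.left h.left c.left := sU.map (CategoryTheory.Over.forget S)
    exact S3626.result U.left V.left U'.left V'.left h.left c.left h'.left c'.left sl u'

end Groth.Agent.S10689
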