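import Groth.Statements.S10690
import Groth.Agent.AlgSpDec2.GorAt
-- import your own Groth.Agent.* helpers here

set_option autoImplicit false
universe u

set_option backward.isDefEq.respectTransparency false
set_option backward.isDefEq.respectTransparency.types false
open CategoryTheory CategoryTheory.Limits AlgebraicGeometry
open AlgSp

namespace Groth.Agent.S10690

open AlgSp Groth.Agent.AlgSpLib Groth.Agent.AlgSpPts Groth.Agent.AlgSpDec

/-- For a morphism f : X ⟶ Y between algebraic spaces over S whose fibres are locally Noetherian, the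
following are equivalent: (1) f is Gorenstein at every point of |X|; (2) f is flat and for some
scheme V with a representable etale surjective b : h_V ⟶ Y every fibre of X ×_Y V ⟶ V over a point v
of V (pullback along the residue field point of v) is a Gorenstein algebraic space (some etale
surjective scheme chart is a Gorenstein scheme); (3) f is flat and the same holds for every scheme V
with a representable etale b : h_V ⟶ Y. Here f is Gorenstein at x when in every etale chart diagram
through x the top arrow is Gorenstein at the point over x (flat there, with Gorenstein local ring of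
its fibre), and the fibres of a morphism are locally Noetherian when every fibre over a field point
(pullback in fppf sheaves) is a locally Noetherian algebraic space. (The published statement also
characterises being Gorenstein at a single point through strict henselizations; that part is stated
separately and not included here.) -/
theorem result {S : Scheme.{u}} {X Y : AlgSp.Space S} (f : X ⟶ Y)
    (hf : ∀ (k : AlgSp.FieldPt Y.obj) (Xk : AlgSp.Sp S) (a : Xk ⟶ X.obj) (b : Xk ⟶ (AlgSp.yon S).obj k.pt),
        IsPullback a b f.hom k.toHom → AlgSp.IsLocNoethSp Xk) :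
    [∀ x : AlgSp.Points X.obj, AlgSp.LocPAt (fun h u => Dual3.IsGorensteinAt h u) f.hom x,
      AlgSp.LocP @Flat f.hom ∧ ∃ (V : Over S) (b : (AlgSp.yon S).obj V ⟶ Y.obj),
        AlgSp.RepWith @Etale b ∧ AlgSp.RepWith @Surjective b ∧
          ∀ (v : ↥V.left) (Xv : AlgSp.Sp S) (a : Xv ⟶ X.obj)
            (c : Xv ⟶ (AlgSp.yon S).obj (Over.mk (V.left.fromSpecResidueField v ≫ V.hom))),
            IsPullback a c f.hom ((AlgSp.yon S).map (Over.homMk (V.left.fromSpecResidueField v) rfl :
              Over.mk (V.left.fromSpecResidueField v ≫ V.hom) ⟶ V) ≫ b) →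
            AlgSp.EtaleLocally Dual3.IsGorenstein Xv,
      AlgSp.LocP @Flat f.hom ∧ ∀ (V : Over S) (b : (AlgSp.yon S).obj V ⟶ Y.obj), AlgSp.RepWith @Etale b →
          ∀ (v : ↥V.left) (Xv : AlgSp.Sp S) (a : Xv ⟶ X.obj)
            (c : Xv ⟶ (AlgSp.yon S).obj (Over.mk (V.left.fromSpecResidueField v ≫ V.hom))),
            IsPullback a c f.hom ((AlgSp.yon S).map (Over.homMk (V.left.fromSpecResidueField v) rfl :
              Over.mk (V.left.fromSpecResidueField v ≫ V.hom) ⟶ V) ≫ b) →
            AlgSp.EtaleLocally Dual3.IsGorenstein Xv].TFAE := by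
  have hfl : AlgSpDec2.LocNoethFibres f.hom := hf
  tfae_have 1 → 3 := by
    intro H
    refine ⟨fun U V a b h ha hb w => Flat.of_stalkMap _ fun u => (H (Points.ofPt a u) a b h u ha hb w rfl).1, ?_⟩
    intro V b hb v Xv a' c' sq
    obtain ⟨U, e, h, he, hes, hh⟩ := exists_chart_over X.property Y.property f.hom b
    have ha : RepWith @Etale (e ≫ pullback.fst f.hom b) := repWith_comp he (repWith_fst f.hom hb)
    have w : (e ≫ pullback.fst f.hom b) ≫ f.hom = (yon S).map h ≫ b := by
      rw [Category.assoc, pullback.condition, ← Category.assoc, hh]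
    obtain ⟨U', e', i, hi, he', hes'⟩ := AlgSpDec2.exists_fibre_chart he hh v sq
    haveI : IsLocallyNoetherian (h.left.fiber v) :=
      AlgSpDec2.isLocallyNoetherian_fibre_of_chart hfl ha hb w v
    refine ⟨U', e', he', hes' hes, LocallyOfFiniteType.isLocallyNoetherian i, fun z => ?_⟩
    refine AlgSpDec2.gor_stalk_etale i z ?_
    have hv : h.left (h.left.fiberι v (i z)) = v := by
      have := Set.mem_range_self (f := h.left.fiberι v) (i z)
      rw [Scheme.Hom.range_fiberι] at this
      exact this
    have hG := (GorFib.gorAt_iff_sm h.left _ v hv).1 (H _ _ b h _ ha hb w rfl)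
    exact GorFib.gor_of_equiv
      (Triage.CMMor.exists_equiv_fibre_stalk_aux h.left _ v hv (i z) rfl).some hG.2
  tfae_have 3 → 2 := by
    rintro ⟨hF, H⟩
    obtain ⟨V, b, hb, hbs⟩ := Y.property.atlas
    exact ⟨hF, V, b, hb, hbs, H V b hb⟩
  tfae_have 2 → 1 := by
    rintro ⟨hF, V, b, hb, hbs, H⟩ x
    obtain ⟨U, e, h, he, hes, hh⟩ := exists_chart_over X.property Y.property f.hom b
    have ha : RepWith @Etale (e ≫ pullback.fst f.hom b) := repWith_comp he (repWith_fst f.hom hb)
    have has : RepWith @Surjective (e ≫ pullback.fst f.hom b) := repWith_comp hes (repWith_fst f.hom hbs)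
    have w : (e ≫ pullback.fst f.hom b) ≫ f.hom = (yon S).map h ≫ b := by
      rw [Category.assoc, pullback.condition, ← Category.assoc, hh]
    obtain ⟨u, rfl⟩ := surjective_ofPt has x
    rw [AlgSpDec2.gorAtMor_iff_chart hfl ha hb w]
    haveI : Flat h.left := hF _ b h ha hb w
    refine ⟨Flat.stalkMap h.left u, ?_⟩
    have sq := IsPullback.of_hasPullback f.hom ((yon S).map (Over.homMk (V.left.fromSpecResidueField (h.left u)) rfl :
      Over.mk (V.left.fromSpecResidueField (h.left u) ≫ V.hom) ⟶ V) ≫ b)
    obtain ⟨U', e', i, hi, he', -⟩ := AlgSpDec2.exists_fibre_chart he hh (h.left u) sq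
    haveI : IsLocallyNoetherian (h.left.fiber (h.left u)) :=
      AlgSpDec2.isLocallyNoetherian_fibre_of_chart hfl ha hb w (h.left u)
    obtain ⟨z, hz⟩ := i.surjective (h.left.asFiber u)
    rw [← hz]
    exact AlgSpDec2.gor_stalk_of_etale i z ((AlgSpDec2.isGorenstein_chart (H _ _ _ _ sq) he').2 z)
  tfae_finish

end Groth.Agent.S10690
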