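import Groth.Statements.S10692
import Groth.Agent.AlgSpDec2.FibreDimSemicont
-- import your own Groth.Agent.* helpers here

set_option autoImplicit false
universe u
open CategoryTheory CategoryTheory.Limits AlgebraicGeometry
open AlgSp

namespace Groth.Agent.S10692

open Groth.Agent CategoryTheory CategoryTheory.Limits AlgebraicGeometry AlgSp

/-- For a proper flat morphism f : X ⟶ Y between algebraic spaces over S which is of finite
presentation, the fibre dimension function on |Y| is locally constant: for every d the set of y such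
that every fibre X_k over y (k a field point in the class of y, X_k any pullback in fppf sheaves)
has dimension exactly d is open. -/
theorem result {S : Scheme.{u}} {X Y : AlgSp.Space S} (f : X ⟶ Y) (hf1 : AlgSp.IsProperMor f.hom)
    (hf2 : AlgSp.LocP @Flat f.hom) (hf3 : AlgSp.IsFinitePresentationMor f.hom) (d : WithBot ℕ∞) :
    IsOpen {y : AlgSp.Points Y.obj | ∀ (k : AlgSp.FieldPt Y.obj), AlgSp.Points.mk k = y →
      ∀ (Xk : AlgSp.Sp S) (fst : Xk ⟶ X.obj) (snd : Xk ⟶ (AlgSp.yon S).obj k.pt),
        IsPullback fst snd f.hom k.toHom → AlgSp.dim Xk = d} := by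
  have hlft : LocP @LocallyOfFiniteType f.hom := hf1.2.1.1
  rw [isOpen_iff_forall_mem_open]
  intro y hy
  induction y using Points.ind with | h k => ?_
  have hk := hy k rfl _ _ _ (IsPullback.of_hasPullback f.hom k.toHom)
  obtain ⟨m, hm⟩ := AlgSpDec2.dim_fibre_lt_top X.property Y.property hlft hf1.2.1.2 k (IsPullback.of_hasPullback f.hom k.toHom)
  rw [hk] at hm
  rcases AlgSpDec2.le_natCast_trans (lt_of_le_of_lt hm (WithBot.coe_lt_coe.2 (ENat.coe_lt_top m))) with rfl | ⟨n, rfl⟩
  · exact ⟨_, subset_rfl, AlgSpDec2.isOpen_dim_fibre_eq_bot X.property Y.property hf1.2.2, hy⟩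
  · let p : WithBot ℕ∞ := if n = 0 then ⊥ else ((n - 1 : ℕ) : WithBot ℕ∞)
    have hp : ∀ x : WithBot ℕ∞, (x ≤ (n : WithBot ℕ∞) ∧ p < x) ↔ x = (n : WithBot ℕ∞) := by
      intro x
      induction x using WithBot.recBotCoe with
      | bot => simp
      | coe x =>
        induction x using ENat.recTopCoe with
        | top =>
          refine iff_of_false (fun h => ?_) (fun h => ?_)
          · exact (ENat.coe_lt_top n).not_ge (WithBot.coe_le_coe.1 h.1)
          · exact (ENat.coe_ne_top n) (WithBot.coe_inj.1 h).symm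
        | coe x =>
          by_cases h : n = 0
          · subst h
            simp [p]
          · obtain ⟨q, rfl⟩ := Nat.exists_eq_succ_of_ne_zero h
            simp only [p, if_neg h, Nat.succ_eq_add_one, Nat.add_sub_cancel]
            norm_cast
            omega
    refine ⟨_ ∩ _, ?_, (AlgSpDec2.isOpen_dim_fibre_le X.property Y.property hlft hf1.2.2 n).inter
      (AlgSpDec2.isOpen_lt_dim_fibre X.property Y.property hf2 hf3.1 hlft p), ?_⟩
    · rintro y ⟨h1, h2⟩ k' hk' Xk fst snd sq
      exact (hp _).1 ⟨h1 k' hk' Xk fst snd sq, h2 k' hk' Xk fst snd sq⟩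
    · exact ⟨fun k' hk' Xk fst snd sq => (hy k' hk' Xk fst snd sq).le,
        fun k' hk' Xk fst snd sq => ((hp _).2 (hy k' hk' Xk fst snd sq)).2⟩

end Groth.Agent.S10692
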