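import Groth.Statements.S10695
-- import your own Groth.Agent.* helpers here
import Groth.Agent.AlgSpDec.HomDescent
import Groth.Agent.AlgSpPts.Misc
import Groth.Agent.AlgSpLib.EtaleSmoothLocal
import Groth.Agent.AlgSpDec.LqfScheme

set_option autoImplicit false
universe u
open CategoryTheory CategoryTheory.Limits AlgebraicGeometry
open AlgSp

namespace Groth.Agent.S10695

set_option backward.isDefEq.respectTransparency false
set_option backward.isDefEq.respectTransparency.types false

open Groth.Agent.AlgSpLib Groth.Agent.AlgSpPts Groth.Agent.AlgSpDec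

theorem locP_flat_lfp {S : Scheme.{u}} {A B : Sp S} {f : A ⟶ B} (hf : LocP @Etale f) :
    LocP @Flat f ∧ LocP @LocallyOfFinitePresentation f :=
  ⟨locP_mono (P := @Etale) (fun _ _ g (_ : Etale g) => (inferInstance : Flat g)) hf,
    locP_mono (P := @Etale) (fun _ _ g (_ : Etale g) => (inferInstance : LocallyOfFinitePresentation g)) hf⟩


/-- Suppose `(U ⊂ W, f : V → W)`, a square of algebraic spaces over `S`, is elementary distinguished
(`j` an open immersion, `f` etale and an isomorphism over the reduced closed complement of `U`) and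
let `P` with its two projections be a fibre product `U ×_W V`. Then `W` is the pushout of `U` and
`V` along `P` among algebraic spaces over `S`. -/
theorem result {S : Scheme.{u}} {U V W P : AlgSp.Space S} (j : U ⟶ W) (f : V ⟶ W)
    (hsq : AlgSp.IsElemDistSq j.hom f.hom) (p : P ⟶ U) (q : P ⟶ V)
    (hP : IsPullback p.hom q.hom j.hom f.hom) : IsPushout p q j f := by
  have hjo : RepWith @IsOpenImmersion j.hom := hsq.1
  have : Mono j.hom := mono_of_openImmersion hjo
  obtain ⟨-, hf, T, PT, i, p₁, p₂, hi, hPT, hp⟩ := hsq
  let A : ULift.{u} Bool → AlgSp.Space S := fun x => bif x.down then U else V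
  let g : ∀ x, (A x).obj ⟶ W.obj := fun x => match x with
    | ⟨true⟩ => j.hom
    | ⟨false⟩ => f.hom
  have hjl : LocP @Etale j.hom := locP_of_repWith (repWith_mono (P := @IsOpenImmersion) (Q := @Etale)
    (fun _ _ k (_ : IsOpenImmersion k) => inferInstanceAs (Etale k)) _ hjo)
  have hfl : LocP @Etale f.hom := (isEtaleMor_iff_locP V.property W.property _).1 hf
  have hTf : ∀ t, Points.map i t ∈ Set.range (Points.map f.hom) := fun t =>
    ⟨Points.map (inv p₁ ≫ p₂) t, by rw [← Points.map_comp, Category.assoc, ← hPT.w, IsIso.inv_hom_id_assoc]⟩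
  have hg : IsFppfCover (fun x => (A x).obj) g := by
    refine ⟨?_, fun x => ?_⟩
    · rintro ⟨_ | _⟩
      · exact locP_flat_lfp hfl
      · exact locP_flat_lfp hjl
    · by_cases hx : x ∈ Set.range (Points.map j.hom)
      · exact ⟨⟨true⟩, hx⟩
      · obtain ⟨t, rfl⟩ : x ∈ Set.range (Points.map i) := hi.2.1 ▸ hx
        exact ⟨⟨false⟩, hTf t⟩
  have hA : ∀ x, IsAlgSpace (A x).obj := fun x => (A x).property
  have hVV : IsAlgSpace (pullback f.hom f.hom) := isAlgSpace_pullback V.property V.property W.property _ _
  have G : ∀ {Z : Sp S} (a : U.obj ⟶ Z) (b : V.obj ⟶ Z), p.hom ≫ a = q.hom ≫ b →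
      ∃ c : W.obj ⟶ Z, j.hom ≫ c = a ∧ f.hom ≫ c = b := by
    intro Z a b hab
    have hQ : pullback.fst f.hom f.hom ≫ b = pullback.snd f.hom f.hom ≫ b := by
      let π := pullback.fst f.hom f.hom ≫ f.hom
      let R : ULift.{u} Bool → Sp S := fun x => bif x.down then pullback j.hom π else V.obj
      let r : ∀ x, R x ⟶ pullback f.hom f.hom := fun x => match x with
        | ⟨true⟩ => pullback.snd j.hom π
        | ⟨false⟩ => pullback.diagonal f.hom
      have hR : ∀ x, IsAlgSpace (R x) := by
        rintro ⟨_ | _⟩
        · exact V.property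
        · exact isAlgSpace_pullback U.property hVV W.property _ _
      refine hom_ext_of_fppfCover hVV hR (g := r) ⟨?_, fun z => ?_⟩ ?_
      · rintro ⟨_ | _⟩
        · exact locP_flat_lfp (locP_of_comp' (Q := @Etale) (f := pullback.diagonal f.hom)
            (fun a b (_ : Etale (a ≫ b)) (_ : Etale b) => Etale.of_comp a b) W.property
            (g := π) (by simpa [π] using hfl) (locP_comp hVV V.property W.property
              (locP_of_isPullback (IsPullback.of_hasPullback f.hom f.hom).flip V.property W.property V.property hfl)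
              hfl))
        · exact locP_flat_lfp (locP_of_isPullback (IsPullback.of_hasPullback j.hom π) U.property W.property hVV hjl)
      · by_cases hz : Points.map π z ∈ Set.range (Points.map j.hom)
        · exact ⟨⟨true⟩, (range_map_snd_of_isPullback (IsPullback.of_hasPullback j.hom π)).ge hz⟩
        · obtain ⟨t, ht⟩ : Points.map π z ∈ Set.range (Points.map i) := hi.2.1 ▸ hz
          obtain ⟨z', hz'₁, -⟩ := exists_point_of_isPullback (IsPullback.of_hasPullback π i) ht.symm
          let P' := pullback π i
          let v₁ : P' ⟶ V.obj := pullback.fst π i ≫ pullback.fst f.hom f.hom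
          let v₂ : P' ⟶ V.obj := pullback.fst π i ≫ pullback.snd f.hom f.hom
          have e₁ : v₁ ≫ f.hom = pullback.snd π i ≫ i := by
            simp only [v₁, Category.assoc]; exact pullback.condition
          have e₂ : v₂ ≫ f.hom = pullback.snd π i ≫ i := by
            simp only [v₂, Category.assoc]; rw [← pullback.condition]; exact pullback.condition
          have he : v₁ = v₂ := by
            rw [← hPT.lift_snd (pullback.snd π i) v₁ e₁.symm, ← hPT.lift_snd (pullback.snd π i) v₂ e₂.symm]
            congr 1
            rw [← cancel_mono p₁, hPT.lift_fst, hPT.lift_fst]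
          refine ⟨⟨false⟩, Points.map v₁ z', ?_⟩
          show Points.map (pullback.diagonal f.hom) _ = z
          rw [← Points.map_comp, ← hz'₁]
          congr 1
          apply pullback.hom_ext
          · simp [v₁]
          · simp [he, v₂]
      · rintro ⟨_ | _⟩
        · show pullback.diagonal f.hom ≫ _ = pullback.diagonal f.hom ≫ _
          simp
        · show pullback.snd j.hom π ≫ _ = pullback.snd j.hom π ≫ _
          have e₁ : pullback.fst j.hom π ≫ j.hom = (pullback.snd j.hom π ≫ pullback.fst f.hom f.hom) ≫ f.hom :=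
            pullback.condition.trans (Category.assoc _ _ _).symm
          have e₂ : pullback.fst j.hom π ≫ j.hom = (pullback.snd j.hom π ≫ pullback.snd f.hom f.hom) ≫ f.hom :=
            e₁.trans (by rw [Category.assoc, Category.assoc, pullback.condition])
          rw [← Category.assoc, ← Category.assoc, ← hP.lift_snd _ _ e₁, ← hP.lift_snd _ _ e₂, Category.assoc,
            Category.assoc, ← hab, ← Category.assoc, ← Category.assoc, hP.lift_fst, hP.lift_fst]
    let bi : ∀ x, (A x).obj ⟶ Z := fun x => match x with
      | ⟨true⟩ => a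
      | ⟨false⟩ => b
    obtain ⟨c, hc⟩ := exists_desc_of_fppfCover W.property hA hg bi (fun x y T' s t h => by
      match x, y, s, t, h with
      | ⟨true⟩, ⟨true⟩, s, t, h => exact congrArg (· ≫ a) ((cancel_mono j.hom).1 h)
      | ⟨true⟩, ⟨false⟩, s, t, h =>
        show s ≫ a = t ≫ b
        rw [← hP.lift_fst s t h, Category.assoc, hab, ← Category.assoc, hP.lift_snd]
      | ⟨false⟩, ⟨true⟩, s, t, h =>
        show s ≫ b = t ≫ a
        rw [← hP.lift_fst t s h.symm, Category.assoc, hab, ← Category.assoc, hP.lift_snd]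
      | ⟨false⟩, ⟨false⟩, s, t, h =>
        show s ≫ b = t ≫ b
        rw [← pullback.lift_fst s t h, Category.assoc, hQ, ← Category.assoc, pullback.lift_snd])
    exact ⟨c, hc ⟨true⟩, hc ⟨false⟩⟩
  have G' : ∀ s : PushoutCocone p q, ∃ c : W.obj ⟶ s.pt.obj, j.hom ≫ c = s.inl.hom ∧ f.hom ≫ c = s.inr.hom :=
    fun s => G _ _ (congrArg (fun k => k.hom) s.condition)
  refine ⟨⟨ObjectProperty.hom_ext (AlgSp.IsAlgSpace (S := S)) hP.w⟩, ⟨PushoutCocone.IsColimit.mk _
    (fun s => ObjectProperty.homMk (G' s).choose) (fun s => ?_) (fun s => ?_) (fun s m h₁ h₂ => ?_)⟩⟩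
  · exact ObjectProperty.hom_ext (AlgSp.IsAlgSpace (S := S)) (G' s).choose_spec.1
  · exact ObjectProperty.hom_ext (AlgSp.IsAlgSpace (S := S)) (G' s).choose_spec.2
  · refine ObjectProperty.hom_ext (AlgSp.IsAlgSpace (S := S)) (hom_ext_of_fppfCover W.property hA hg ?_)
    rintro ⟨_ | _⟩
    · exact (congrArg (fun k => k.hom) h₂).trans (G' s).choose_spec.2.symm
    · exact (congrArg (fun k => k.hom) h₁).trans (G' s).choose_spec.1.symm

end Groth.Agent.S10695
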