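import Groth.Statements.S10698
-- import your own Groth.Agent.* helpers here
import Groth.Agent.AlgSpPts.Sep
import Groth.Agent.AlgSpDec.LqfScheme
import Groth.Agent.AlgSpDec.Glue
import Groth.Agent.AlgSpLib.ClosedImmDesc
import Groth.Agent.AlgSpLib.Covers
import Groth.Agent.AlgSpLib.EtaleSmoothLocal
import Groth.Agent.AlgSpPts.OpenSub

set_option autoImplicit false
universe u
open CategoryTheory CategoryTheory.Limits AlgebraicGeometry
open AlgSp

namespace Groth.Agent.S10698

set_option backward.isDefEq.respectTransparency false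
set_option backward.isDefEq.respectTransparency.types false

open Groth.Agent.AlgSpLib Groth.Agent.AlgSpPts Groth.Agent.AlgSpDec

variable {S : Scheme.{u}}

/-- A morphism over a separated morphism which becomes an open immersion and has closed image is a
closed immersion. -/
theorem repWith_isClosedImmersion_of_closed {A B C : Sp S} {c : A ⟶ B} {q : B ⟶ C}
    (hq : IsSeparatedMor q) (ho : RepWith @IsOpenImmersion (c ≫ q)) (hcl : IsClosedMor c) :
    RepWith @IsClosedImmersion c := by
  have h1 : RepWith @IsImmersion (pullback.lift (𝟙 A) c (by simp) : A ⟶ pullback (c ≫ q) q) :=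
    repWith_mono (fun _ _ e (_ : IsClosedImmersion e) => (inferInstance : IsImmersion e)) _
      (graph_property (f := c) hq)
  have h2 : RepWith @IsImmersion (pullback.snd (c ≫ q) q) :=
    repWith_mono (fun _ _ e (_ : IsOpenImmersion e) => (inferInstance : IsImmersion e)) _
      (repWith_of_isPullback (IsPullback.of_hasPullback (c ≫ q) q) ho)
  have h3 : RepWith @IsImmersion c := by
    have := repWith_comp h1 h2
    rwa [pullback.lift_snd] at this
  refine ⟨h3.rep, fun T W g fst snd sq => ?_⟩
  have : IsImmersion snd.left := h3.property g fst snd sq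
  show IsClosedImmersion snd.left
  refine IsClosedImmersion.of_isPreimmersion _ ?_
  have hr : Set.range snd.left =
      Points.schemeHomeo T ⁻¹' (Points.map g ⁻¹' Set.range (Points.map c)) := by
    rw [← range_map_snd_of_isPullback sq]
    ext t
    constructor
    · rintro ⟨w, rfl⟩
      exact ⟨Points.schemeHomeo W w, Points.map_yon_map_apply _ _⟩
    · rintro ⟨x, hx⟩
      obtain ⟨w, rfl⟩ := (Points.schemeHomeo W).surjective x
      rw [Points.map_yon_map_apply] at hx
      exact ⟨w, (Points.schemeHomeo T).injective hx⟩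
  rw [hr]
  exact (hcl.isClosed_range.preimage (Points.continuous_map g)).preimage
    (Points.schemeHomeo T).continuous

/-- The piece of the diagonal over a pair of charts. -/
noncomputable def piece {A B X Y : Sp S} (a : A ⟶ X) (b : B ⟶ X) (g : X ⟶ Y) :
    pullback a b ⟶ pullback (a ≫ g) (b ≫ g) :=
  pullback.map a b (a ≫ g) (b ≫ g) (𝟙 _) (𝟙 _) g (Category.id_comp _).symm (Category.id_comp _).symm

/-- The base change of the pair of charts to the square of the space. -/
noncomputable def pieceCover {A B X Y : Sp S} (a : A ⟶ X) (b : B ⟶ X) (g : X ⟶ Y) :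
    pullback (a ≫ g) (b ≫ g) ⟶ pullback g g :=
  pullback.map (a ≫ g) (b ≫ g) g g a b (𝟙 _) (Category.comp_id _) (Category.comp_id _)

theorem piece_symm {A B X Y : Sp S} (a : A ⟶ X) (b : B ⟶ X) (g : X ⟶ Y) :
    piece b a g = (pullbackSymmetry b a).hom ≫ piece a b g ≫ (pullbackSymmetry (a ≫ g) (b ≫ g)).hom := by
  simp only [piece]
  apply pullback.hom_ext <;> simp

theorem repWith_piece_of_isPullback {A B X Y PX PY : Sp S} {a : A ⟶ X} {b : B ⟶ X} (g : X ⟶ Y)
    {pX : PX ⟶ A} {qX : PX ⟶ B} (hPX : IsPullback pX qX a b) {pY : PY ⟶ A} {qY : PY ⟶ B}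
    (hPY : IsPullback pY qY (a ≫ g) (b ≫ g)) {c : PX ⟶ PY} (hc₁ : c ≫ pY = pX) (hc₂ : c ≫ qY = qX)
    (h : RepWith @IsClosedImmersion c) : RepWith @IsClosedImmersion (piece a b g) := by
  have he : piece a b g = hPX.isoPullback.inv ≫ c ≫ hPY.isoPullback.hom := by
    rw [Iso.eq_inv_comp, piece]
    apply pullback.hom_ext <;> simp [hc₁, hc₂]
  rw [he]
  exact repWith_comp (repWith_of_isIso _ _) (repWith_comp h (repWith_of_isIso _ _))

theorem repWith_piece_self_of_mono {A X Y : Sp S} (a : A ⟶ X) [Mono a] (g : X ⟶ Y)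
    (h : IsSeparatedMor (a ≫ g)) : RepWith @IsClosedImmersion (piece a a g) := by
  have := isIso_diagonal_of_mono a
  have he : pullback.diagonal a ≫ piece a a g = pullback.diagonal (a ≫ g) := by
    rw [piece]
    apply pullback.hom_ext <;> simp
  have hh : piece a a g = inv (pullback.diagonal a) ≫ pullback.diagonal (a ≫ g) := by
    rw [IsIso.eq_inv_comp, he]
  rw [hh]
  exact repWith_comp (repWith_of_isIso _ _) h

/-- The diagonal is a closed immersion if it is so over the pieces of an etale cover. -/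
theorem isSeparatedMor_of_pieces {X Y : Sp S} (hX : IsAlgSpace X) (hY : IsAlgSpace Y) (g : X ⟶ Y)
    {ι : Type u} (A : ι → Sp S) (hA : ∀ i, IsAlgSpace (A i)) (a : ∀ i, A i ⟶ X) (ha : ∀ i, LocP @Etale (a i))
    (hs : ∀ x : Points X, ∃ i, x ∈ Set.range (Points.map (a i)))
    (h : ∀ i k, RepWith @IsClosedImmersion (piece (a i) (a k) g)) : IsSeparatedMor g := by
  have hP : ∀ (i k : ι), IsAlgSpace (pullback (a i ≫ g) (a k ≫ g)) := fun i k =>
    isAlgSpace_pullback (hA i) (hA k) hY _ _
  have hsq : ∀ k : ι, IsAlgSpace (pullback g (a k ≫ g)) := fun k => isAlgSpace_pullback hX (hA k) hY _ _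
  have hXX : IsAlgSpace (pullback g g) := isAlgSpace_pullback hX hX hY _ _
  let e₁ : ∀ i k, pullback (a i ≫ g) (a k ≫ g) ⟶ pullback g (a k ≫ g) := fun i k =>
    pullback.map _ _ _ _ (a i) (𝟙 _) (𝟙 _) (Category.comp_id _) (by simp)
  let e₂ : ∀ k, pullback g (a k ≫ g) ⟶ pullback g g := fun k =>
    pullback.map _ _ _ _ (𝟙 _) (a k) (𝟙 _) (by simp) (Category.comp_id _)
  have sq₁ : ∀ i k, IsPullback (pullback.fst (a i ≫ g) (a k ≫ g)) (e₁ i k) (a i) (pullback.fst g (a k ≫ g)) :=
    fun i k => IsPullback.of_bot (by simpa [e₁] using IsPullback.of_hasPullback (a i ≫ g) (a k ≫ g))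
      (by simp [e₁]) (IsPullback.of_hasPullback g (a k ≫ g))
  have sq₂ : ∀ k, IsPullback (pullback.snd g (a k ≫ g)) (e₂ k) (a k) (pullback.snd g g) :=
    fun k => IsPullback.of_bot (by simpa [e₂] using (IsPullback.of_hasPullback g (a k ≫ g)).flip)
      (by simp [e₂]) (IsPullback.of_hasPullback g g).flip
  have he : ∀ i k, e₁ i k ≫ e₂ k = pieceCover (a i) (a k) g := fun i k => by
    simp only [e₁, e₂, pieceCover]
    apply pullback.hom_ext <;> simp
  have hl : ∀ i k, LocP @Etale (pieceCover (a i) (a k) g) := fun i k => he i k ▸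
    locP_comp (hP i k) (hsq k) hXX (locP_of_isPullback (sq₁ i k) (hA i) hX (hsq k) (ha i))
      (locP_of_isPullback (sq₂ k) (hA k) hX hXX (ha k))
  have hc : IsFppfCover (fun r : ι × ι => pullback (a r.1 ≫ g) (a r.2 ≫ g))
      (fun r => pieceCover (a r.1) (a r.2) g) := by
    refine ⟨fun r => ⟨locP_mono (P := @Etale) (Q := @Flat) (fun _ _ e (_ : Etale e) => inferInstanceAs (Flat e))
        (hl r.1 r.2),
      locP_mono (P := @Etale) (Q := @LocallyOfFinitePresentation)
        (fun _ _ e (_ : Etale e) => inferInstanceAs (LocallyOfFinitePresentation e)) (hl r.1 r.2)⟩, fun z => ?_⟩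
    obtain ⟨i, x, hx⟩ := hs (Points.map (pullback.fst g g) z)
    obtain ⟨k, y, hy⟩ := hs (Points.map (pullback.snd g g) z)
    obtain ⟨w, hw₁, hw₂⟩ := exists_point_of_isPullback (sq₂ k) hy
    obtain ⟨v, hv₁, hv₂⟩ := exists_point_of_isPullback (sq₁ i k) (x := x) (y := w) (by
      rw [hx, ← hw₂, ← Points.map_comp]
      simp [e₂])
    refine ⟨(i, k), v, ?_⟩
    show Points.map (pieceCover (a i) (a k) g) v = z
    rw [← he i k, Points.map_comp, hv₂, hw₂]
  refine (isLocalOnBase_fpqc_isClosedImmersion _ _ hXX (fun r : ι × ι => hP r.1 r.2)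
    (isFpqcCover_of_isFppfCover hXX (fun r : ι × ι => hP r.1 r.2) _ hc) (pullback.diagonal g) hX
    (fun r : ι × ι => pullback (a r.1) (a r.2)) (fun r : ι × ι => piece (a r.1) (a r.2) g)
    (fun r : ι × ι => pullback.fst (a r.1) (a r.2) ≫ a r.1)
    (fun r : ι × ι => isAlgSpace_pullback (hA r.1) (hA r.2) hX _ _) fun r : ι × ι => ?_).2 fun r : ι × ι => h r.1 r.2
  exact pullback_map_diagonal_isPullback (a r.1) (a r.2) g


/-- Let `g : X → Y` be a morphism of algebraic spaces over `S` and `(U ⊂ X, f : V → X)` an elementary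
distinguished square. Suppose `U → Y` and `V → Y` are both separated, that the canonical morphism `c
: U ×_X V → U ×_Y V` (between chosen fibre products `PX`, `PY`) is closed on points, and that the
canonical morphism `d : V ×_X V → V ×_Y V` (between chosen fibre products `QX`, `QY`) is
representable and a closed immersion. Then `g` is separated. (The published statement omits the
condition on `V ×_X V → V ×_Y V`; its proof identifies the piece of `X ×_Y X` over `V ×_Y V` with
`V`, which is `V ×_X V`, and without that condition the affine line with doubled origin over a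
field, with `U` the complement of the two origins and `V` the disjoint union of the two standard
charts, satisfies every other hypothesis and is not separated. With it, the diagonal of `g` is a
closed immersion over each of the four pieces `U ×_Y U`, `U ×_Y V`, `V ×_Y U`, `V ×_Y V` of an etale
cover of `X ×_Y X`; for `c`, which is an immersion because `U → X` is an open immersion and `U → Y`
is separated, closedness on points suffices.) -/
theorem result {S : Scheme.{u}} {U V X Y PX PY QX QY : AlgSp.Space S} (g : X ⟶ Y)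
    (j : U ⟶ X) (f : V ⟶ X) (hsq : AlgSp.IsElemDistSq j.hom f.hom)
    (hU : AlgSp.IsSeparatedMor (j ≫ g).hom) (hV : AlgSp.IsSeparatedMor (f ≫ g).hom)
    (pX : PX ⟶ U) (qX : PX ⟶ V) (hPX : IsPullback pX.hom qX.hom j.hom f.hom)
    (pY : PY ⟶ U) (qY : PY ⟶ V) (hPY : IsPullback pY.hom qY.hom (j ≫ g).hom (f ≫ g).hom)
    (c : PX ⟶ PY) (hc₁ : c ≫ pY = pX) (hc₂ : c ≫ qY = qX) (hcl : AlgSp.IsClosedMor c.hom)
    (rX₁ rX₂ : QX ⟶ V) (hQX : IsPullback rX₁.hom rX₂.hom f.hom f.hom)
    (rY₁ rY₂ : QY ⟶ V) (hQY : IsPullback rY₁.hom rY₂.hom (f ≫ g).hom (f ≫ g).hom)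
    (d : QX ⟶ QY) (hd₁ : d ≫ rY₁ = rX₁) (hd₂ : d ≫ rY₂ = rX₂)
    (hdcl : AlgSp.RepWith @IsClosedImmersion d.hom) : AlgSp.IsSeparatedMor g.hom := by
  have hjo : RepWith @IsOpenImmersion j.hom := hsq.1
  have : Mono j.hom := mono_of_openImmersion hjo
  obtain ⟨-, hf, T, P, i, p₁, p₂, hi, hP, hp⟩ := hsq
  let D : Bool → Σ A : AlgSp.Space S, (A.obj ⟶ X.obj) := fun x =>
    bif x then ⟨U, j.hom⟩ else ⟨V, f.hom⟩
  refine isSeparatedMor_of_pieces X.property Y.property g.hom (fun x : ULift.{u} Bool => (D x.down).1.obj)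
    (fun x => (D x.down).1.property) (fun x => (D x.down).2) ?_ ?_ ?_
  · rintro ⟨_ | _⟩
    · exact (isEtaleMor_iff_locP V.property X.property _).1 hf
    · exact (isEtaleMor_iff_locP U.property X.property _).1 (isEtaleMor_of_repWith_isOpenImmersion hjo)
  · intro x
    by_cases hx : x ∈ Set.range (Points.map j.hom)
    · exact ⟨⟨true⟩, hx⟩
    · obtain ⟨t, rfl⟩ : x ∈ Set.range (Points.map i) := hi.2.1 ▸ hx
      refine ⟨⟨false⟩, Points.map (inv p₁ ≫ p₂) t, ?_⟩
      show Points.map f.hom _ = _
      rw [← Points.map_comp, Category.assoc, ← hP.w, IsIso.inv_hom_id_assoc]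
  have hq : IsSeparatedMor qY.hom := isSeparatedMor_of_isPullback hPY hU
  have hc : RepWith @IsClosedImmersion c.hom := repWith_isClosedImmersion_of_closed hq (by
    rw [← ObjectProperty.FullSubcategory.comp_hom, hc₂]
    exact repWith_of_isPullback hPX hjo) hcl
  have hUV : RepWith @IsClosedImmersion (piece j.hom f.hom g.hom) :=
    repWith_piece_of_isPullback g.hom hPX hPY (congrArg (fun e => e.hom) hc₁)
      (congrArg (fun e => e.hom) hc₂) hc
  rintro ⟨_ | _⟩ ⟨_ | _⟩
  · exact repWith_piece_of_isPullback g.hom hQX hQY (congrArg (fun e => e.hom) hd₁)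
      (congrArg (fun e => e.hom) hd₂) hdcl
  · show RepWith @IsClosedImmersion (piece f.hom j.hom g.hom)
    rw [piece_symm j.hom f.hom g.hom]
    exact repWith_comp (repWith_of_isIso _ _) (repWith_comp hUV (repWith_of_isIso _ _))
  · exact hUV
  · exact repWith_piece_self_of_mono j.hom g.hom hU

end Groth.Agent.S10698
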