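import Groth.Statements.S1070
import Groth.Agent.ProjPush.PCBack
import Groth.Agent.ProjPush.PushPCGen
import Groth.Agent.ProjPush.PnTwVan
import Groth.Agent.PushAmp.TensorPerfect
import Groth.Agent.PicGlue.ProjSpaceBC

set_option autoImplicit false
universe u
open CategoryTheory CategoryTheory.Limits AlgebraicGeometry Opposite
attribute [local instance] HasDerivedCategory.standard
open Perf

namespace Groth.Agent.S1070

/-- Let A be a ring, X = P^n_A with structure morphism π : X ⟶ Spec A, and K ∈ D(O_X) with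
quasi-coherent cohomology sheaves. Assuming Rπ_* and the derived functors - ⊗^L O_X(d) exist, K is
pseudo-coherent (m-pseudo-coherent for all m) if and only if Rπ_*(K ⊗^L O_X(d)) is pseudo-coherent
on Spec A for each d = 0, 1, …, n. (The source states (5) with RΓ(X, -) in D(A); on the affine
scheme Spec A the two formulations correspond under D(A) ≃ D_QCoh(Spec A).) -/
theorem result (n : ℕ) (A : Type u) [CommRing A]
    [DCoh.HasRpush (CohB1.ProjSpace.toSpec n A)] [∀ d : ℤ, DCoh.HasLTensorMod (Twist.twistProjSpace n A d)]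
    (K : DCoh.D (CohB1.ProjSpace n A)) (hK : DCoh.IsQCohD K) :
    (∀ m : ℤ, DCoh.IsPseudoCoherentD m K) ↔
      ∀ d : ℕ, d ≤ n → ∀ m : ℤ, DCoh.IsPseudoCoherentD m
        ((DCoh.Rpush (CohB1.ProjSpace.toSpec n A)).obj ((DCoh.LTensorMod (Twist.twistProjSpace n A (d : ℤ))).obj K)) := by
  open Groth.Agent Groth.Agent.KFlatLib Groth.Agent.ProjPush in
  let π := CohB1.ProjSpace.toSpec n A
  let g : CohB1.ProjSpace n A ⟶ CohB1.ProjSpace n A := 𝟙 _
  haveI := PnCoh.Chow.isProper_toSpec n A
  haveI : QuasiSeparatedSpace (CohB1.ProjSpace n A) := quasiSeparatedSpace_of_quasiSeparated π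
  have hfwd : ∀ (L : DCoh.D (CohB1.ProjSpace n A)), (∀ m, LocPC m L) → ∀ m, LocPC m ((DCoh.Rpush π).obj L) := by
    intro L hL m
    obtain ⟨e, he⟩ := PicGlue.exists_projSpace_iso n A
    let p := CohB1.ProjSpaceOver.toBase n (Spec (CommRingCat.of A))
    haveI := hasRpush_scheme e.hom
    haveI := hasRpush_scheme p
    haveI : DCoh.HasRpush (e.hom ≫ p) := hasRpush_scheme _
    obtain ⟨ec⟩ := nonempty_rpush_comp e.hom p
    have h := locPC_rpush_projSpaceOver n (Spec (CommRingCat.of A)) ((DCoh.Rpush e.hom).obj L)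
      (fun m' => locPC_rpush_of_isIso e.hom (hL m')) m
    exact h.of_iso (ec.app L ≪≫ eqToIso (by simp only [π, p, he]))
  have hid : ∀ d : ℤ, Nonempty (Tw g d ≅ Twist.twistProjSpace n A d) := fun d =>
    ⟨(Scheme.Modules.pullbackId (CohB1.ProjSpace n A)).app _⟩
  have hW : ∀ (d : ℤ) (L : DCoh.D (CohB1.ProjSpace n A)),
      Nonempty ((DCoh.LTensorMod (Twist.twistProjSpace n A d)).obj L ≅ (W g d).obj L) := fun d L => by
    obtain ⟨i⟩ := hid d
    haveI := hasLTensorMod (Tw g d)
    obtain ⟨e⟩ := nonempty_ltensorMod_tw (Tw g d) L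
    haveI : (AmpleVan.tw (Twist.twistProjSpace n A d)).IsEquivalence :=
      AmpleVan.isEquivalence_tw (H23.PicMul.isInvertible_of_iso i (isInvertible_Tw g d))
    haveI : (AmpleVan.tw (Twist.twistProjSpace n A d)).Additive := Functor.additive_of_preserves_binary_products _
    obtain ⟨e'⟩ := nonempty_ltensorMod_tw (Twist.twistProjSpace n A d) L
    let c : (AmpleVan.tw (Twist.twistProjSpace n A d)).mapHomologicalComplex (ComplexShape.up ℤ) ≅
        (AmpleVan.tw (Tw g d)).mapHomologicalComplex (ComplexShape.up ℤ) :=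
      NatIso.mapHomologicalComplex ((DCoh.tensorBi (X := CohB1.ProjSpace n A)).flip.mapIso i.symm) _
    exact ⟨e' ≪≫ (AmpleVan.tw (Twist.twistProjSpace n A d)).mapDerivedCategory.mapIso (repIso L).symm ≪≫
      (AmpleVan.tw (Twist.twistProjSpace n A d)).mapDerivedCategoryFactors.app _ ≪≫
      DerivedCategory.Q.mapIso (c.app _) ≪≫ ((AmpleVan.tw (Tw g d)).mapDerivedCategoryFactors.app _).symm ≪≫
      (W g d).mapIso (repIso L)⟩
  constructor
  · intro h d hd m
    rw [isPseudoCoherentD_iff]
    obtain ⟨i⟩ := hid (d : ℤ)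
    exact hfwd _ (fun m' => locPC_ltensorMod (Twist.twistProjSpace n A (d : ℤ))
      (H23.PullPush.isFinLocFree_of_isInvertible (H23.PicMul.isInvertible_of_iso i (isInvertible_Tw g (d : ℤ))))
      K (fun j => (isPseudoCoherentD_iff j K).1 (h j)) m') m
  · intro h m
    rw [isPseudoCoherentD_iff]
    refine locPC_of_good g π ?_ ?_ ⟨hK, fun d m' => ?_⟩ m
    · intro e i he hi
      obtain ⟨j⟩ := hid e
      exact (isZero_hd_rpush_toSpec n A e i he hi).of_iso ((DerivedCategory.homologyFunctor _ i).mapIso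
        ((DCoh.Rpush π).mapIso ((DerivedCategory.singleFunctor _ 0).mapIso j)))
    · exact fun e => hfwd _ fun m' => ((isPerfect_iff _).1 (isPerfect_inD
        (H23.PullPush.isFinLocFree_of_isInvertible (isInvertible_Tw g e)))).locPC m'
    · obtain ⟨e⟩ := hW (d.1 : ℤ) K
      exact ((isPseudoCoherentD_iff m' _).1 (h d.1 (Nat.le_of_lt_succ d.2) m')).of_iso ((DCoh.Rpush π).mapIso e)

end Groth.Agent.S1070
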