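import Groth.Statements.S10707
import Groth.Agent.AlgSpDec.GlueHom

set_option autoImplicit false
universe u
open CategoryTheory CategoryTheory.Limits AlgebraicGeometry TensorProduct
open AlgSp

namespace Groth.Agent.S10707

set_option backward.isDefEq.respectTransparency false
set_option backward.isDefEq.respectTransparency.types false

/-- Let `(R → R', f)` be a glueing pair, `X = Spec R`, `U = Spec R_f`, `X' = Spec R'`, and let `Y`, `Z`
be algebraic spaces over `X` glueable for `(R → R', f)`. Two morphisms `a, b : Y → Z` over `X` whose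
base changes to `U` agree and whose base changes to `X'` agree are equal. -/
theorem result (R : Type u) [CommRing R] (R' : Type u) [CommRing R'] [Algebra R R']
    (f : R) (hRR' : EtGlue.IsGlueingPair R R' f) {Y Z YU YX' : AlgSp.Space (Spec (CommRingCat.of R))}
    (hY : (∀ (A : Type u) [CommRing A] [Algebra R A]
      (g : (AlgSp.yon (Spec (CommRingCat.of R))).obj (Over.mk (Spec.map (CommRingCat.ofHom (algebraMap R A))) : Over (Spec (CommRingCat.of R))) ⟶ Y.obj),
      AlgSp.RepWith @Etale g → EtGlue.IsGlueable R R' f A))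
    (hZ : (∀ (A : Type u) [CommRing A] [Algebra R A]
      (g : (AlgSp.yon (Spec (CommRingCat.of R))).obj (Over.mk (Spec.map (CommRingCat.ofHom (algebraMap R A))) : Over (Spec (CommRingCat.of R))) ⟶ Z.obj),
      AlgSp.RepWith @Etale g → EtGlue.IsGlueable R R' f A))
    (a b : Y ⟶ Z) (πZ : Z.obj ⟶ (AlgSp.yon (Spec (CommRingCat.of R))).obj (Over.mk (𝟙 _)))
    (inU : (Over.mk (Spec.map (CommRingCat.ofHom (algebraMap R (Localization.Away f)))) : Over (Spec (CommRingCat.of R))) ⟶ Over.mk (𝟙 _))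
    (uY : YU ⟶ Y) (vY : YU.obj ⟶ (AlgSp.yon (Spec (CommRingCat.of R))).obj (Over.mk (Spec.map (CommRingCat.ofHom (algebraMap R (Localization.Away f)))) : Over (Spec (CommRingCat.of R))))
    (hYU : IsPullback uY.hom vY (a.hom ≫ πZ) ((AlgSp.yon (Spec (CommRingCat.of R))).map inU))
    (inX' : (Over.mk (Spec.map (CommRingCat.ofHom (algebraMap R R'))) : Over (Spec (CommRingCat.of R))) ⟶ Over.mk (𝟙 _))
    (uY' : YX' ⟶ Y) (vY' : YX'.obj ⟶ (AlgSp.yon (Spec (CommRingCat.of R))).obj (Over.mk (Spec.map (CommRingCat.ofHom (algebraMap R R'))) : Over (Spec (CommRingCat.of R))))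
    (hYX' : IsPullback uY'.hom vY' (a.hom ≫ πZ) ((AlgSp.yon (Spec (CommRingCat.of R))).map inX'))
    (haU : uY ≫ a = uY ≫ b) (haX' : uY' ≫ a = uY' ≫ b) : a = b := by
  obtain ⟨ι, A, i₁, i₂, g, hg, hc⟩ := Groth.Agent.AlgSpDec.Glueable.exists_affine_cover (R := R) Y.property
  obtain ⟨U, p, hp, hps⟩ := Y.property.atlas
  have hterm : ∀ {T : Over (Spec (CommRingCat.of R))}
      (u v : (AlgSp.yon (Spec (CommRingCat.of R))).obj T ⟶
        (AlgSp.yon (Spec (CommRingCat.of R))).obj (Over.mk (𝟙 _))), u = v := by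
    intro T u v
    obtain ⟨u', rfl⟩ := (AlgSp.yon _).map_surjective u
    obtain ⟨v', rfl⟩ := (AlgSp.yon _).map_surjective v
    congr 1
    exact Over.OverMorphism.ext ((Category.comp_id _).symm.trans ((Over.w u').trans ((Over.w v').symm.trans (Category.comp_id _))))
  have key : ∀ (B : Type u) [CommRing B] [Algebra R B]
      (q : (AlgSp.yon _).obj (Groth.Agent.AlgSpDec.Glueable.specOv R B) ⟶ Y.obj),
      AlgSp.RepWith @Etale q → q ≫ a.hom = q ≫ b.hom := by
    intro B _ _ q hq
    let _ : Algebra B (TensorProduct R R' B) := Algebra.TensorProduct.rightAlgebra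
    have hB := Groth.Agent.EtGlue7.glueingPair_of_isGlueable hRR'.1 B (hY B q hq)
    refine Groth.Agent.AlgSpDec.Glueable.eq_of_glueingPair Z.property hB _ _ ?_ ?_
    · let χ : Localization.Away f →ₐ[R] Localization.Away (algebraMap R B f) :=
        ⟨Localization.awayMap (algebraMap R B) f, fun r => by
          show Localization.awayMap (algebraMap R B) f (algebraMap R (Localization.Away f) r) = _
          rw [Localization.awayMap, IsLocalization.Away.map, IsLocalization.map_eq, ← IsScalarTower.algebraMap_apply]⟩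
      let q' := (AlgSp.yon _).map (Groth.Agent.AlgSpDec.Glueable.spMap
          (IsScalarTower.toAlgHom R B (Localization.Away (algebraMap R B f))))
      let x' := (AlgSp.yon _).map (Groth.Agent.AlgSpDec.Glueable.spMap χ)
      have e := hYU.lift_fst (q' ≫ q) x' (hterm _ _)
      show q' ≫ q ≫ a.hom = q' ≫ q ≫ b.hom
      calc q' ≫ q ≫ a.hom = (q' ≫ q) ≫ a.hom := (Category.assoc _ _ _).symm
        _ = (hYU.lift (q' ≫ q) x' (hterm _ _) ≫ uY.hom) ≫ a.hom := congrArg (· ≫ a.hom) e.symm
        _ = hYU.lift (q' ≫ q) x' (hterm _ _) ≫ (uY ≫ a).hom := Category.assoc _ _ _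
        _ = hYU.lift (q' ≫ q) x' (hterm _ _) ≫ (uY ≫ b).hom := congrArg (fun k => _ ≫ k.hom) haU
        _ = (hYU.lift (q' ≫ q) x' (hterm _ _) ≫ uY.hom) ≫ b.hom := (Category.assoc _ _ _).symm
        _ = (q' ≫ q) ≫ b.hom := congrArg (· ≫ b.hom) e
        _ = q' ≫ q ≫ b.hom := Category.assoc _ _ _
    · let χ : R' →ₐ[R] TensorProduct R R' B := Algebra.TensorProduct.includeLeft
      let q' := (AlgSp.yon _).map (Groth.Agent.AlgSpDec.Glueable.spMap
          (IsScalarTower.toAlgHom R B (TensorProduct R R' B)))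
      let x' := (AlgSp.yon _).map (Groth.Agent.AlgSpDec.Glueable.spMap χ)
      have e := hYX'.lift_fst (q' ≫ q) x' (hterm _ _)
      show q' ≫ q ≫ a.hom = q' ≫ q ≫ b.hom
      calc q' ≫ q ≫ a.hom = (q' ≫ q) ≫ a.hom := (Category.assoc _ _ _).symm
        _ = (hYX'.lift (q' ≫ q) x' (hterm _ _) ≫ uY'.hom) ≫ a.hom := congrArg (· ≫ a.hom) e.symm
        _ = hYX'.lift (q' ≫ q) x' (hterm _ _) ≫ (uY' ≫ a).hom := Category.assoc _ _ _
        _ = hYX'.lift (q' ≫ q) x' (hterm _ _) ≫ (uY' ≫ b).hom := congrArg (fun k => _ ≫ k.hom) haX'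
        _ = (hYX'.lift (q' ≫ q) x' (hterm _ _) ≫ uY'.hom) ≫ b.hom := (Category.assoc _ _ _).symm
        _ = (q' ≫ q) ≫ b.hom := congrArg (· ≫ b.hom) e
        _ = q' ≫ q ≫ b.hom := Category.assoc _ _ _
  have : Epi p := Groth.Agent.AlgSpLib.epi_of_etale_surjective hp hps
  apply ObjectProperty.hom_ext
  rw [← cancel_epi p]
  choose U' ι' u' hU' hι' hu' he using fun u => Groth.Agent.AlgSpDec.exists_affine_restrict hp u
  refine Groth.Agent.AlgSpDec.Glueable.hom_ext_of_etale_family ι' (fun u => ?_) (fun u => ⟨u, u' u, hu' u⟩) fun u => ?_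
  · have := hι' u; infer_instance
  · have := hU' u
    obtain ⟨B, _, _, ⟨e⟩⟩ := Groth.Agent.AlgSpDec.Glueable.exists_iso_specOv R (U' u)
    have : IsIso e.hom.left := inferInstanceAs (IsIso ((Over.forget _).map e.hom))
    rw [← cancel_epi ((AlgSp.yon _).map e.hom)]
    have := key B ((AlgSp.yon _).map e.hom ≫ (AlgSp.yon _).map (ι' u) ≫ p)
      (Groth.Agent.AlgSpLib.repWith_comp ((AlgSp.repWith_yon_map_iff _ _).2 inferInstance) (he u))
    simpa only [Category.assoc] using this

end Groth.Agent.S10707
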