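import Groth.Statements.S1071
import Groth.Agent.ProjPush.TwistKos

set_option autoImplicit false
universe u
open CategoryTheory CategoryTheory.Limits AlgebraicGeometry
open Perf

namespace Groth.Agent.S1071

/-- Let A be a ring, X = P^n_A and a ∈ ℤ. There is a cochain complex of O_X-modules, exact in every
degree, whose term in degree i is isomorphic to the direct sum of (n+1 choose i) copies of O_X(a +
i) for 0 ≤ i ≤ n + 1 and is zero in all other degrees. -/
theorem result (n : ℕ) (A : Type u) [CommRing A] (a : ℤ) :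
    ∃ C : CochainComplex (CohB1.ProjSpace n A).Modules ℤ, (∀ i : ℤ, C.ExactAt i) ∧
      (∀ i : ℕ, i ≤ n + 1 → Nonempty (C.X (i : ℤ) ≅ ∐ fun _ : Fin (Nat.choose (n + 1) i) => Twist.twistProjSpace n A (a + i))) ∧
      (∀ i : ℤ, i < 0 ∨ (n : ℤ) + 1 < i → IsZero (C.X i)) := by
  letI := HasDerivedCategory.standard (CohB1.ProjSpace n A).Modules
  let g := 𝟙 (CohB1.ProjSpace n A)
  let E := Groth.Agent.ProjPush.kosCx g a
  obtain ⟨hpos, hterm⟩ := Groth.Agent.ProjPush.Kos.terms (Groth.Agent.ProjPush.Tw g) (Groth.Agent.ProjPush.cmap g)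
    (Groth.Agent.ProjPush.cmap_comm g) (List.finRange (n + 1)) a
  have hlen : (List.finRange (n + 1)).length = n + 1 := List.length_finRange
  refine ⟨E⟦-((n : ℤ) + 1)⟧, fun i => ?_, fun i hi => ?_, fun i hi => ?_⟩
  · rw [HomologicalComplex.exactAt_iff_isZero_homology]
    have h : IsZero (DerivedCategory.Q.obj (E⟦-((n : ℤ) + 1)⟧)) :=
      (Functor.map_isZero (shiftFunctor _ (-((n : ℤ) + 1))) (Groth.Agent.ProjPush.isZero_Q_kosCx g a)).of_iso
        ((DerivedCategory.Q.commShiftIso (-((n : ℤ) + 1))).app E)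
    exact (Functor.map_isZero (DerivedCategory.homologyFunctor _ i) h).of_iso
      ((DerivedCategory.homologyFunctorFactors _ i).app (E⟦-((n : ℤ) + 1)⟧)).symm
  · obtain ⟨e⟩ := hterm (n + 1 - i)
    refine ⟨E.shiftFunctorObjXIso (-((n : ℤ) + 1)) i (-((n + 1 - i : ℕ) : ℤ)) (by omega) ≪≫ e ≪≫ eqToIso ?_ ≪≫
      Sigma.mapIso (fun _ : Fin (Nat.choose (n + 1) i) =>
        (Scheme.Modules.pullbackId (CohB1.ProjSpace n A)).app (Twist.twistProjSpace n A (a + i)))⟩
    refine Groth.Agent.ProjPush.Kos.sigma_eq ?_ (congrArg (Groth.Agent.ProjPush.Tw g) ?_)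
    · rw [hlen, Nat.choose_symm hi]
    · rw [hlen]; omega
  · rcases hi with hi | hi
    · obtain ⟨e⟩ := hterm ((n : ℤ) + 1 - i).toNat
      refine IsZero.of_iso ?_ (E.shiftFunctorObjXIso (-((n : ℤ) + 1)) i (-((((n : ℤ) + 1 - i).toNat : ℕ) : ℤ))
        (by omega) ≪≫ e)
      haveI : IsEmpty (Fin (Nat.choose (List.finRange (n + 1)).length ((n : ℤ) + 1 - i).toNat)) := by
        rw [Nat.choose_eq_zero_of_lt (by rw [hlen]; omega)]
        infer_instance
      exact IsInitial.isZero (IsInitial.ofUniqueHom (fun Y => Sigma.desc fun k => isEmptyElim k)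
        fun Y f => Sigma.hom_ext _ _ fun k => isEmptyElim k)
    · exact (hpos (i - (n + 1)) (by omega)).of_iso
        (E.shiftFunctorObjXIso (-((n : ℤ) + 1)) i (i - (n + 1)) (by omega))

end Groth.Agent.S1071
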