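import Groth.Statements.S10732
import Groth.Agent.AlgSpMod.SerreScheme
import Groth.Agent.AicLib.Space
import Groth.Agent.ChevSp.Geo
import Groth.Agent.S10753
import Groth.Agent.AlgSpDec.LimDescentRep
-- import your own Groth.Agent.* helpers here

set_option autoImplicit false
universe u
open CategoryTheory CategoryTheory.Limits AlgebraicGeometry Opposite
open AlgSp

namespace Groth.Agent.S10732

set_option backward.isDefEq.respectTransparency false
set_option backward.isDefEq.respectTransparency.types false

/-- Let X be a quasi-compact algebraic space, quasi-separated over a quasi-separated base scheme S, such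
that H^1(X, M) = 0 for every quasi-coherent O_X-module M on the small etale site of X. Then X is an
affine scheme: there is an affine scheme T over S with h_T ≅ X. (Quasi-separatedness is taken
relative to S together with S quasi-separated, which gives the absolute notion of the published
statement.) -/
theorem result {S : Scheme.{u}} [QuasiSeparatedSpace ↥S]
    (X : AlgSp.Space S) (hqc : AlgSp.IsQuasiCompactSp X.obj) (hqs : AlgSp.IsQuasiSeparatedSp X.obj)
    (h1 : ∀ M : AlgSp.ModEt X.obj, M.IsQuasicoherent → Subsingleton (AlgSp.HModEt X.obj M 1)) :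
    ∃ T : Over S, IsAffine T.left ∧ Nonempty ((AlgSp.yon S).obj T ≅ X.obj) := by
  obtain ⟨U₀, b₀, hb₀, hbs₀⟩ := X.property.atlas
  obtain ⟨Y, g, hg, hgs, -⟩ := AicLib.exists_scheme_integral X.property hqc hqs b₀ hb₀ hbs₀
  have hle : @IsIntegralHom.{u} ≤ @IsAffineHom := fun _ _ _ h => h.toIsAffineHom
  have haff : IsAffineMor g := AlgSpDec.isAffineMor_of_repWith hle hg
  have hh1 : ∀ M : ModEt ((yon S).obj Y), M.IsQuasicoherent → Subsingleton (HModEt ((yon S).obj Y) M 1) :=
    fun M hM => haveI := hM
      S10753.result (X' := ⟨(yon S).obj Y, IsAlgSpace.yon_obj Y⟩) hqc hqs h1 (ObjectProperty.homMk g) haff M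
  have hYqc : IsQuasiCompactSp ((yon S).obj Y) :=
    AlgSpDec.isQuasiCompactSp_of_affine X.property g (AlgSpLib.repWith_mono hle _ hg) hqc
  haveI : CompactSpace (Points ((yon S).obj Y)) := AlgSpLib.compactSpace_points hYqc
  haveI : CompactSpace ↥Y.left := (Points.schemeHomeo Y).symm.compactSpace
  haveI : IsAffine Y.left := AlgSpMod.isAffine_of_h1_etale hh1
  refine ChevSp.exists_affine_of_univClosed X.property g ?_ (AlgSpLib.surjective_map_of_repWith hgs)
  exact AlgSpDec.isUnivClosedMor_of_repWith_universallyClosed (AlgSpLib.repWith_mono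
    (fun _ _ _ (h : IsIntegralHom _) => inferInstanceAs (UniversallyClosed _)) _ hg)

end Groth.Agent.S10732
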