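import Groth.Statements.S10736
import Groth.Agent.AlgSpDer.EtCoherent
import Groth.Agent.AlgSpDer.ExtTransfer
import Groth.Agent.S3877

set_option autoImplicit false
universe u
open CategoryTheory CategoryTheory.Limits AlgebraicGeometry Opposite
open AlgSp

namespace Groth.Agent.S10736

set_option backward.isDefEq.respectTransparency false
set_option backward.isDefEq.respectTransparency.types false

open CategoryTheory.Abelian Groth.Agent.AlgSpDer

/-- Let X be a quasi-compact algebraic space, quasi-separated over a quasi-separated base scheme S. Then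
for every p and every small filtered category J, the functor F ↦ H^p(X_et, F) on abelian sheaves on
the small etale site of X preserves colimits of shape J: for a filtered diagram (F_i) the canonical
map colim_i H^p(X, F_i) ⟶ H^p(X, colim_i F_i) is an isomorphism. (Quasi-separatedness is relative to
S with S quasi-separated, giving the absolute notion of the published statement.) -/
theorem result {S : Scheme.{u}}
    [QuasiSeparatedSpace ↥S] (X : AlgSp.Space S) (hqc : AlgSp.IsQuasiCompactSp X.obj)
    (hqs : AlgSp.IsQuasiSeparatedSp X.obj) (J : Type (u + 1)) [SmallCategory J] [IsFiltered J] (p : ℕ) :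
    PreservesColimitsOfShape J (AlgSp.HEtF X.obj p) := by
  haveI h3 : PreservesColimitsOfShape J (Sheaf.functorH.{u + 1, u + 1} (smTop X.obj) p) :=
    Groth.Agent.S3877.result isAlgebraic_smTop (isCoherent_terminal X.property hqc hqs) J p
  let Φ := (smSheaf X.obj).functor
  haveI : Φ.PreservesInjectiveObjects :=
    Functor.preservesInjectiveObjects_of_adjunction_of_preservesMonomorphisms (smSheaf X.obj).symm.toAdjunction
  let Z := AddCommGrpCat.of (ULift.{u + 1} ℤ)
  let c : Φ.obj ((constantSheaf (AlgSp.etTop X.obj) AddCommGrpCat.{u + 1}).obj Z) ≅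
      (constantSheaf (smTop X.obj) AddCommGrpCat.{u + 1}).obj Z :=
    (((eSm X.obj).inverse.pushforwardContinuousSheafificationCompatibility AddCommGrpCat.{u + 1}
      (smTop X.obj) (AlgSp.etTop X.obj)).app ((Functor.const _).obj Z)).symm
  haveI h4 : PreservesColimitsOfShape J ((extFunctor.{u + 1} p).obj
      (op ((constantSheaf (smTop X.obj) AddCommGrpCat.{u + 1}).obj Z))) :=
    preservesColimitsOfShape_of_natIso (NatIso.ofComponents (fun F => Iso.refl _) (fun {F G} f => by
      ext x
      rfl) : Sheaf.functorH.{u + 1, u + 1} (smTop X.obj) p ≅ (extFunctor.{u + 1} p).obj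
        (op ((constantSheaf (smTop X.obj) AddCommGrpCat.{u + 1}).obj Z)))
  haveI h5 := preservesColimitsOfShape_ext Φ c p J
  exact preservesColimitsOfShape_of_natIso (NatIso.ofComponents (fun F => Iso.refl _) (fun {F G} f => by
      ext x
      rfl) : (extFunctor.{u + 1} p).obj (op ((constantSheaf (AlgSp.etTop X.obj) AddCommGrpCat.{u + 1}).obj Z)) ≅
        AlgSp.HEtF X.obj p)

end Groth.Agent.S10736
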