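import Groth.Statements.S10742
import Groth.Agent.AlgSpMod.Noeth

set_option autoImplicit false
universe u
open CategoryTheory CategoryTheory.Limits AlgebraicGeometry Opposite
open AlgSp

namespace Groth.Agent.S10742

set_option backward.isDefEq.respectTransparency false
set_option backward.isDefEq.respectTransparency.types false
open Groth.Agent.AlgSpMod Groth.Agent.AlgSpLib AlgebraicGeometry CategoryTheory CategoryTheory.Limits Opposite

/-- Let X be a locally Noetherian algebraic space over S and φ : M ⟶ N a morphism of coherent
O_X-modules on the small etale site of X (coherent meaning of finite presentation, X being locally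
Noetherian). Then the kernel and the cokernel of φ are coherent. -/
theorem result {S : Scheme.{u}} (X : AlgSp.Space S)
    (hX : AlgSp.IsLocNoethSp X.obj) {M N : AlgSp.ModEt X.obj} [M.IsFinitePresentation] [N.IsFinitePresentation]
    (φ : M ⟶ N) :
    (kernel φ).IsFinitePresentation ∧ (cokernel φ).IsFinitePresentation := by
  refine ⟨isFinitePresentation_of_finite hX (good_kernel φ (good_of_fp M) (good_of_fp N)) fun E hE => ?_,
    isFinitePresentation_of_finite hX (good_cokernel φ (good_of_fp M) (good_of_fp N)) fun E hE => ?_⟩
  · have := finite_of_fp (M := M) E hE
    exact finite_of_mono hX (kernel.ι φ) E hE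
  · have := finite_of_fp (M := N) E hE
    exact finite_of_epi (cokernel.π φ) (good_of_fp N) (good_cokernel φ (good_of_fp M) (good_of_fp N)) E hE

end Groth.Agent.S10742
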