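import Groth.Statements.S10743
import Groth.Agent.AlgSpMod.Noeth

set_option autoImplicit false
universe u
open CategoryTheory CategoryTheory.Limits AlgebraicGeometry Opposite
open AlgSp

namespace Groth.Agent.S10743

set_option backward.isDefEq.respectTransparency false
set_option backward.isDefEq.respectTransparency.types false
open Groth.Agent.AlgSpMod Groth.Agent.AlgSpLib AlgebraicGeometry CategoryTheory CategoryTheory.Limits Opposite

/-- Let X be a locally Noetherian algebraic space over S and 0 ⟶ M₁ ⟶ M₂ ⟶ M₃ ⟶ 0 a short exact sequence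
of O_X-modules on the small etale site of X with M₁ and M₃ coherent (of finite presentation, X being
locally Noetherian). Then M₂ is coherent. -/
theorem result {S : Scheme.{u}} (X : AlgSp.Space S)
    (hX : AlgSp.IsLocNoethSp X.obj) (T : ShortComplex (AlgSp.ModEt X.obj)) (hT : T.ShortExact)
    [T.X₁.IsFinitePresentation] [T.X₃.IsFinitePresentation] :
    T.X₂.IsFinitePresentation := by
  refine isFinitePresentation_of_finite hX
    (good_of_extension T hT (good_of_fp T.X₁) (good_of_fp T.X₃)) fun E hE => ?_
  have := isNoetherianRing_Rg hX E hE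
  have := finite_of_fp (M := T.X₁) E hE
  have := finite_of_fp (M := T.X₃) E hE
  obtain ⟨hi, hex⟩ := left_exact T hT.exact hT.mono_f (𝟙 E)
  have : IsNoetherian (Rg E) (SA T.X₂ (𝟙 E)) :=
    isNoetherian_of_range_eq_ker (appSA T.f (𝟙 E)) (appSA T.g (𝟙 E)) (LinearMap.exact_iff.1 hex).symm
  infer_instance

end Groth.Agent.S10743
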