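import Groth.Statements.S10748
import Groth.Agent.AlgSpMod.CoherentUnion
import Mathlib.CategoryTheory.Abelian.GrothendieckCategory.Subobject

set_option autoImplicit false
universe u
open CategoryTheory CategoryTheory.Limits AlgebraicGeometry Opposite
open AlgSp

namespace Groth.Agent.S10748

set_option backward.isDefEq.respectTransparency false
set_option backward.isDefEq.respectTransparency.types false

open Groth.Agent.AlgSpMod

/-- Let X be a Noetherian algebraic space (quasi-compact, quasi-separated, locally Noetherian) over a
quasi-separated scheme S and M a quasi-coherent O_X-module on the small etale site of X. Then M is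
the union, as a filtered colimit, of those of its submodules that are coherent: the full subcategory
of monomorphisms N ⟶ M with N of finite presentation is filtered, and the cocone on their sources
with vertex M given by the inclusions is a colimit. -/
theorem result {S : Scheme.{u}} [QuasiSeparatedSpace ↥S]
    (X : AlgSp.Space S) (hqc : AlgSp.IsQuasiCompactSp X.obj) (hqs : AlgSp.IsQuasiSeparatedSp X.obj)
    (hN : AlgSp.IsLocNoethSp X.obj) (M : AlgSp.ModEt X.obj) [M.IsQuasicoherent] :
    IsFiltered (ObjectProperty.FullSubcategory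
        (fun N : MonoOver M => SheafOfModules.IsFinitePresentation N.obj.left)) ∧
      Nonempty (IsColimit ((Over.forgetCocone M).whisker
        (ObjectProperty.ι (fun N : MonoOver M => SheafOfModules.IsFinitePresentation N.obj.left) ⋙
          MonoOver.forget M))) := by
  haveI := isGrothendieckAbelian_modEt X.obj
  let P : ObjectProperty (MonoOver M) := fun N => SheafOfModules.IsFinitePresentation N.obj.left
  change IsFiltered P.FullSubcategory ∧ _
  have hM : Good M := good_of_qcoh M
  have hmem : ∀ {m : ℕ} (V : Fin m → AlgSp.EtOver X.obj) (_ : ∀ i, IsAffine (V i).obj.left.left)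
      (s : ∀ i, AlgSp.sectModEt M (V i)), ∃ j : P.FullSubcategory,
      ∀ i, ∃ t, j.obj.obj.hom.val.app (op (V i)) t = s i := fun V hV s => by
    obtain ⟨N, ι, hι, hN', hs⟩ := exists_coherent_sub X.property hqc hqs hN hM V hV s
    exact ⟨⟨MonoOver.mk ι, hN'⟩, hs⟩
  haveI : Nonempty P.FullSubcategory :=
    ⟨(hmem (m := 0) Fin.elim0 (fun i => i.elim0) (fun i => i.elim0)).choose⟩
  haveI : ∀ j k : P.FullSubcategory, Subsingleton (j ⟶ k) := fun j k =>
    ⟨fun a b => ObjectProperty.hom_ext _ (Subsingleton.elim _ _)⟩
  haveI hf : IsFiltered P.FullSubcategory :=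
    { cocone_objs := fun A B => by
        haveI : (show AlgSp.ModEt X.obj from A.obj.obj.left).IsFinitePresentation := A.property
        haveI : (show AlgSp.ModEt X.obj from B.obj.obj.left).IsFinitePresentation := B.property
        obtain ⟨N, ι, a, b, hι, hN', ha, hb⟩ := exists_coherent_sup hN hM A.obj.obj.hom B.obj.obj.hom
        exact ⟨⟨MonoOver.mk ι, hN'⟩, ObjectProperty.homMk (MonoOver.homMk a ha),
          ObjectProperty.homMk (MonoOver.homMk b hb), trivial⟩
      cocone_maps := fun A B f g => ⟨B, 𝟙 B, Subsingleton.elim _ _⟩ }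
  refine ⟨hf, ?_⟩
  haveI : WellPowered.{u + 1} (AlgSp.ModEt X.obj) := IsGrothendieckAbelian.wellPowered.{u + 1} _
  haveI : HasColimits.{u + 1} (AlgSp.ModEt X.obj) := inferInstance
  haveI : EssentiallySmall.{u + 1} P.FullSubcategory := essentiallySmall_of_fully_faithful P.ι
  haveI : HasWidePullbacks.{u+1} (AlgSp.ModEt X.obj) := inferInstance
  haveI : HasCoproducts.{u+1} (AlgSp.ModEt X.obj) := inferInstance
  haveI : HasImages (AlgSp.ModEt X.obj) := inferInstance
  haveI : InitialMonoClass (AlgSp.ModEt X.obj) := inferInstance
  letI cl : CompleteLattice (Subobject M) := inferInstance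
  let e := (equivSmallModel.{u + 1} P.FullSubcategory).symm
  haveI : IsFiltered (SmallModel.{u + 1} P.FullSubcategory) := IsFiltered.of_equivalence e.symm
  let F := e.functor ⋙ P.ι
  let c : Cocone (F ⋙ MonoOver.forget M) :=
    { pt := Over.mk (𝟙 M)
      ι := { app := fun j => Over.homMk (F.obj j).obj.hom (Category.comp_id _)
             naturality := fun j k g => Over.OverMorphism.ext (by
               show ((MonoOver.forget M).map (F.map g)).left ≫ (F.obj k).obj.hom = (F.obj j).obj.hom ≫ 𝟙 M
               rw [Category.comp_id]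
               exact Over.w _) } }
  haveI : Mono c.pt.hom := inferInstanceAs (Mono (𝟙 M))
  have hsup : Subobject.mk c.pt.hom = ⨆ j, Subobject.mk (F.obj j).obj.hom := by
    set T := ⨆ j, Subobject.mk (F.obj j).obj.hom with hT
    haveI : Epi T.arrow := epi_of_forall_affine T.arrow fun V hV s => by
      obtain ⟨j, hj⟩ := hmem (m := 1) (fun _ => V) (fun _ => hV) (fun _ => s)
      obtain ⟨t, ht⟩ := hj 0
      let i := (e.counitIso.app j).inv
      let j' := e.inverse.obj j
      have hle : Subobject.mk j.obj.obj.hom ≤ T := le_trans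
        (Subobject.mk_le_mk_of_comm i.hom.hom.left (Over.w i.hom.hom))
        (le_iSup (fun j => Subobject.mk (F.obj j).obj.hom) j')
      exact ⟨(Subobject.ofMkLE j.obj.obj.hom T hle).val.app (op V) t,
        congr(($(Subobject.ofMkLE_arrow (f := j.obj.obj.hom) hle)).val.app (op V) t).trans ht⟩
    haveI : IsIso T.arrow := isIso_of_mono_of_epi _
    exact (Subobject.mk_eq_top_of_isIso (𝟙 M)).trans (Subobject.eq_top_of_isIso_arrow T).symm
  refine ⟨(IsColimit.whiskerEquivalenceEquiv e).symm ?_⟩
  exact IsColimit.ofIsoColimit (IsGrothendieckAbelian.isColimitMapCoconeOfSubobjectMkEqISup F c hsup)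
    (Cocone.ext (Iso.refl _) fun j => Category.comp_id _)

end Groth.Agent.S10748
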