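import Groth.Statements.S10749
import Groth.Agent.AlgSpMod.FpColimit
import Groth.Agent.AlgSpMod.PullFp
import Groth.Agent.AlgSpMod.RightAdjoint

set_option autoImplicit false
universe u
open CategoryTheory CategoryTheory.Limits AlgebraicGeometry Opposite
open AlgSp

namespace Groth.Agent.S10749

set_option backward.isDefEq.respectTransparency false
set_option backward.isDefEq.respectTransparency.types false

open Groth.Agent Groth.Agent.AlgSpMod Groth.Agent.AlgSpLib TensorProduct

theorem adjunct_app {S : Scheme.{u}} {X Y : AlgSp.Sp S} {f : X ⟶ Y} (hf : AlgSp.Representable f)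
    [(SheafOfModules.pushforward.{u + 1} (AlgSp.bcRingHom hf)).IsRightAdjoint] {N : AlgSp.ModEt Y} {M : AlgSp.ModEt X}
    (ι : N ⟶ (AlgSp.pushModEt hf).obj M) (E : AlgSp.EtOver Y) (t : AlgSp.sectModEt N E) :
    ∃ x : AlgSp.sectModEt ((AlgSp.pullModEt hf).obj N) (EtOver.bcObj hf E),
      (((AlgSp.pullPushAdjModEt hf).homEquiv N M).symm ι).val.app (op (EtOver.bcObj hf E)) x =
        (show AlgSp.sectModEt M (EtOver.bcObj hf E) from ι.val.app (op E) t) :=
  ⟨((AlgSp.pullPushAdjModEt hf).unit.app N).val.app (op E) t,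
    congr(($(((AlgSp.pullPushAdjModEt hf).homEquiv_unit N M (((AlgSp.pullPushAdjModEt hf).homEquiv N M).symm ι)).symm.trans
      (((AlgSp.pullPushAdjModEt hf).homEquiv _ _).apply_symm_apply ι))).val.app (op E) t)⟩

theorem cokernel_kills {S : Scheme.{u}} {X : AlgSp.Sp S} {A K P : AlgSp.ModEt X} (a : A ⟶ K) (j : K ⟶ P)
    (C : AlgSp.EtOver X) (x : AlgSp.sectModEt A C) (y : AlgSp.sectModEt K C) (t : AlgSp.sectModEt P C)
    (h : a.val.app (op C) x = y) (h' : j.val.app (op C) y = t) :
    (cokernel.π (a ≫ j)).val.app (op C) t = 0 := by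
  subst h; subst h'
  exact congr(($(cokernel.condition (a ≫ j))).val.app (op C) x)

/-- Let f : X ⟶ Y be an affine morphism of algebraic spaces over a quasi-separated scheme S with Y
Noetherian (quasi-compact, quasi-separated, locally Noetherian). Then every quasi-coherent
O_X-module M on the small etale site of X is a filtered colimit of O_X-modules of finite
presentation. -/
theorem result {S : Scheme.{u}} [QuasiSeparatedSpace ↥S]
    {X Y : AlgSp.Space S} (f : X ⟶ Y) (haff : AlgSp.IsAffineMor f.hom) (hqc : AlgSp.IsQuasiCompactSp Y.obj)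
    (hqs : AlgSp.IsQuasiSeparatedSp Y.obj) (hN : AlgSp.IsLocNoethSp Y.obj) (M : AlgSp.ModEt X.obj)
    [M.IsQuasicoherent] :
    ∃ (J : Type (u + 1)) (_ : SmallCategory J) (_ : IsFiltered J) (D : J ⥤ AlgSp.ModEt X.obj)
      (ι : D ⟶ (Functor.const J).obj M),
      (∀ j, (D.obj j).IsFinitePresentation) ∧ Nonempty (IsColimit (Cocone.mk M ι)) := by
  haveI := isRightAdjoint_pushModEt (X := X.obj) (Y := Y.obj) (f := f.hom) (AlgSpDec.representable_of_isAffineMor haff)
  let hf := AlgSpDec.representable_of_isAffineMor haff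
  have hA := aff_bcObj_of_isAffineMor hf haff
  have hM : Good M := good_of_qcoh M
  let adj := AlgSp.pullPushAdjModEt hf
  refine exists_isColimit_fp (𝓒 := fun C => ∃ E : AlgSp.EtOver Y.obj, Aff E ∧ C = EtOver.bcObj hf E)
    ⟨fun C => by rintro ⟨E, hE, rfl⟩; exact hA E hE, fun W => ?_⟩ hM ?_ ?_ ?_
  · choose T g E hT hE hc hv using exists_affine_over_bcObj hf Y.property W
    exact ⟨_, T, g, AlgSp.ofArrows_mem_etTop _ _ fun v => ⟨v, hv v⟩,
      fun v => ⟨hT v, _, ⟨E v, hE v, rfl⟩, hc v⟩⟩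
  · rintro C ⟨E, hE, rfl⟩ s
    obtain ⟨N, ι, -, hN', hs⟩ := exists_coherent_sub Y.property hqc hqs hN (good_push hf M hA hM) (m := 1)
      (fun _ => E) (fun _ => hE) (fun _ => (show sectModEt ((AlgSp.pushModEt hf).obj M) E from s))
    obtain ⟨t, ht⟩ := hs 0
    obtain ⟨x, hx⟩ := adjunct_app hf ι E t
    exact ⟨(AlgSp.pullModEt hf).obj N, fp_pull hf hA Y.property N, (adj.homEquiv _ _).symm ι, x, hx.trans ht⟩
  · rintro C ⟨E, hE, rfl⟩ P p t hP hpt
    haveI := hP
    have hK : Good (kernel p) := good_kernel p (good_of_fp P) hM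
    obtain ⟨y, hy⟩ := ((left_exact (ShortComplex.mk (kernel.ι p) p (kernel.condition p))
      (ShortComplex.kernelSequence_exact p) (inferInstanceAs (Mono (kernel.ι p))) (𝟙 (EtOver.bcObj hf E))).2
        (show SA P (𝟙 _) from t)).1 hpt
    obtain ⟨N, ι, -, hN', hs⟩ := exists_coherent_sub Y.property hqc hqs hN (good_push hf (kernel p) hA hK) (m := 1)
      (fun _ => E) (fun _ => hE) (fun _ => (show sectModEt ((AlgSp.pushModEt hf).obj (kernel p)) E from y))
    obtain ⟨t', ht'⟩ := hs 0
    let a := (adj.homEquiv _ _).symm ι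
    haveI := fp_pull hf hA Y.property N
    obtain ⟨x, hx⟩ := adjunct_app hf ι E t'
    exact ⟨cokernel (a ≫ kernel.ι p), fp_cokernel _, cokernel.π _, cokernel.desc _ p (by simp),
      cokernel.π_desc _ _ _, cokernel_kills a (kernel.ι p) _ x y t (hx.trans ht') hy⟩
  · obtain ⟨N, ι, -, hN', -⟩ := exists_coherent_sub Y.property hqc hqs hN (good_push hf M hA hM) (m := 0)
      Fin.elim0 (fun i => i.elim0) (fun i => i.elim0)
    exact ⟨(AlgSp.pullModEt hf).obj N, fp_pull hf hA Y.property N⟩


end Groth.Agent.S10749
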