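import Groth.Statements.S1075
import Groth.Agent.H9Misc.PlusRB
import Groth.Agent.TriCat.DerivedProducts

set_option autoImplicit false
universe w v u
open CategoryTheory CategoryTheory.Limits
open CohDer

namespace Groth.Agent.S1075

/-- In D(A), for A abelian with enough injectives and countable products, every sequence of
bounded-below objects has a product, so derived limits of such sequences exist. -/
theorem result {A : Type u} [Category.{v} A] [Abelian A] [HasDerivedCategory.{w} A]
    [HasLimitsOfShape (Discrete ℕ) A] [EnoughInjectives A]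
    (K : ℕ → DerivedCategory A) (hK : ∀ n, ∃ a : ℤ, (K n).IsGE a) : HasProduct K := by
  choose a ha using hK
  choose I hI _ e using fun n => Groth.Agent.H9Misc.PlusRB.exists_rep
    (A := A) (⟨K n, ⟨a n, ha n⟩⟩ : DerivedCategory.Plus A)
  let L : ℕ → CochainComplex A ℤ := fun n => (I n).obj.as
  let q := HomotopyCategory.quotient A (ComplexShape.up ℤ)
  have eK : ∀ n, DerivedCategory.Qh.obj (q.obj (L n)) ≅ K n := fun n =>
    DerivedCategory.Plus.ι.mapIso (e n).some
  haveI : ∀ n, (L n).IsKInjective := hI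
  haveI hP : (∏ᶜ L).IsKInjective := ⟨fun {M} f hM => ⟨HomotopyCategory.homotopyOfEq _ _
    (Groth.Agent.TriCat.quotient_hom_ext_pi f 0 fun j => by
      rw [zero_comp]
      exact HomotopyCategory.eq_of_homotopy _ _
        (CochainComplex.IsKInjective.homotopyZero (f ≫ Pi.π L j) hM))⟩⟩
  suffices HasProduct fun n => DerivedCategory.Qh.obj (q.obj (L n)) from
    hasLimit_of_iso (Discrete.natIso fun n => eK n.as :
      (Discrete.functor fun n => DerivedCategory.Qh.obj (q.obj (L n))) ≅ Discrete.functor K)
  have key : ∀ (s : Fan fun n => DerivedCategory.Qh.obj (q.obj (L n))),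
      ∃ l : s.pt ⟶ DerivedCategory.Qh.obj (q.obj (∏ᶜ L)),
        (∀ n, l ≫ DerivedCategory.Qh.map (q.map (Pi.π L n)) = s.proj n) ∧
        ∀ m : s.pt ⟶ DerivedCategory.Qh.obj (q.obj (∏ᶜ L)),
          (∀ n, m ≫ DerivedCategory.Qh.map (q.map (Pi.π L n)) = s.proj n) → m = l := by
    intro s
    let M := (DerivedCategory.Q (C := A)).objPreimage s.pt
    let ε : DerivedCategory.Qh.obj (q.obj M) ≅ s.pt :=
      (DerivedCategory.quotientCompQhIso A).app M ≪≫ DerivedCategory.Q.objObjPreimageIso s.pt
    choose g hg using fun n =>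
      (CochainComplex.IsKInjective.Qh_map_bijective (q.obj M) (L n)).surjective (ε.hom ≫ s.proj n)
    choose f hf using fun n => q.map_surjective (g n)
    refine ⟨ε.inv ≫ DerivedCategory.Qh.map (q.map (Pi.lift f)), fun n => ?_, fun m hm => ?_⟩
    · rw [Category.assoc, ← Functor.map_comp, ← Functor.map_comp, Pi.lift_π, hf, hg, ε.inv_hom_id_assoc]
    · obtain ⟨g', hg'⟩ := (CochainComplex.IsKInjective.Qh_map_bijective (q.obj M) (∏ᶜ L)).surjective (ε.hom ≫ m)
      obtain ⟨f', hf'⟩ := q.map_surjective g'
      subst hf'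
      rw [Iso.eq_inv_comp, ← hg']
      refine congrArg _ (Groth.Agent.TriCat.quotient_hom_ext_pi _ _ fun n => ?_)
      apply (CochainComplex.IsKInjective.Qh_map_bijective (q.obj M) (L n)).injective
      rw [Pi.lift_π, hf, hg, q.map_comp, Functor.map_comp, hg', Category.assoc, hm]
  exact ⟨⟨⟨Fan.mk _ fun n => DerivedCategory.Qh.map (q.map (Pi.π L n)), Fan.IsLimit.mk _
    (fun s => (key s).choose) (fun s n => (key s).choose_spec.1 n)
    (fun s m hm => (key s).choose_spec.2 m hm)⟩⟩⟩

end Groth.Agent.S1075
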