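import Groth.Statements.S10750
import Groth.Agent.AlgSpDec2.FibreTopo
import Groth.Agent.AlgSpDec2.QfCodimOne
import Groth.Agent.AlgSpDec.LimDescentRep
-- import your own Groth.Agent.* helpers here

set_option autoImplicit false
universe u

set_option backward.isDefEq.respectTransparency false
set_option backward.isDefEq.respectTransparency.types false
open CategoryTheory CategoryTheory.Limits AlgebraicGeometry Opposite
open AlgSp

namespace Groth.Agent.S10750

open AlgSp Groth.Agent.AlgSpLib Groth.Agent.AlgSpPts Groth.Agent.AlgSpDec Groth.Agent.AlgSpDec2.FibreTopo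

/-- Take a proper morphism f : X ⟶ Y of algebraic spaces over S whose target Y is locally Noetherian,
and let y be a geometric point of Y such that the fibre X_y (a pullback of f along the corresponding
morphism from the spectrum of the algebraically closed field) has finitely many points. Then there
is an open subspace V of Y containing the image of y such that the base change X ×_Y V ⟶ V is
finite. -/
theorem result {S : Scheme.{u}} {X Y : AlgSp.Space S}
    (f : X ⟶ Y) (hY : AlgSp.IsLocNoethSp Y.obj) (hf : AlgSp.IsProperMor f.hom) (y : AlgSp.FieldPt Y.obj)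
    (hy : y.IsGeometric) (Xy : AlgSp.Sp S) (fst : Xy ⟶ X.obj) (snd : Xy ⟶ (AlgSp.yon S).obj y.pt)
    (hsq : IsPullback fst snd f.hom y.toHom) (hfin : Finite (AlgSp.Points Xy)) :
    ∃ (V : AlgSp.Space S) (j : V ⟶ Y), AlgSp.RepWith @IsOpenImmersion j.hom ∧
      AlgSp.Points.mk y ∈ Set.range (AlgSp.Points.map j.hom) ∧
        ∀ (P : AlgSp.Space S) (fst' : P ⟶ X) (snd' : P ⟶ V), IsPullback fst'.hom snd'.hom f.hom j.hom →
          AlgSp.IsFiniteMor snd'.hom := by
  haveI : Subsingleton ↥y.pt.left := inferInstanceAs (Subsingleton (PrimeSpectrum y.K))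
  haveI : IsLocallyNoetherian y.pt.left := inferInstanceAs (IsLocallyNoetherian (Spec (CommRingCat.of y.K)))
  haveI : JacobsonSpace ↥y.pt.left := inferInstanceAs (JacobsonSpace (PrimeSpectrum y.K))
  have hP := isAlgSpace_of_isPullback hsq X.property (IsAlgSpace.yon_obj _) Y.property
  have hdec : IsDecent Xy := isDecent_of_isDecentMor hP snd
    (isDecentMor_of_isQuasiSeparatedMor hP (IsAlgSpace.yon_obj _) snd
      (isQuasiSeparatedMor_of_isSeparatedMor (isSeparatedMor_of_isPullback hsq hf.1))) (isDecent_yon _)
  haveI := discrete_of_finite (locP_of_isPullback hsq X.property Y.property (IsAlgSpace.yon_obj _) hf.2.1.1) hP hdec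
  obtain ⟨V, j, hj, hyj, h⟩ := Groth.Agent.AlgSpDec2.QfCodimOne.exists_finite_nhd f hf (Points.mk y) fun x hx => by
    obtain ⟨z, rfl, -⟩ := exists_point_of_isPullback hsq (x := x) (y := Points.ofScheme y.pt (IsLocalRing.closedPoint y.K))
      (by rw [hx, ← Points.ofPt_toHom y, Points.ofPt_eq_map_ofScheme])
    exact (hasAtMor_qf_iff hf.2.1.1 _).1
      ((isOpen_iff_qf X.property Y.property hf.2.1.1 y hsq z).1 (isOpen_discrete _))
  exact ⟨V, j, hj, hyj, fun P fst' snd' sq => h P snd' fst' sq.flip⟩

end Groth.Agent.S10750
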