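import Groth.Statements.S10752
import Groth.Agent.S10732
import Groth.Agent.AlgSpDec.SepOverField
-- import your own Groth.Agent.* helpers here

set_option autoImplicit false
universe u
open CategoryTheory CategoryTheory.Limits AlgebraicGeometry Opposite
open AlgSp

namespace Groth.Agent.S10752

set_option backward.isDefEq.respectTransparency false
set_option backward.isDefEq.respectTransparency.types false

/-- Let X be a quasi-compact algebraic space, quasi-separated over a quasi-separated base scheme S, such
that H^1(X, M) = 0 for every quasi-coherent O_X-module M on the small etale site of X. Then X is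
separated (the published statement: the canonical morphism from X to the spectrum of its ring of
global functions is separated; stated here as separatedness of X over S, which it implies). -/
theorem result {S : Scheme.{u}} [QuasiSeparatedSpace ↥S] (X : AlgSp.Space S)
    (hqc : AlgSp.IsQuasiCompactSp X.obj) (hqs : AlgSp.IsQuasiSeparatedSp X.obj)
    (h1 : ∀ M : AlgSp.ModEt X.obj, M.IsQuasicoherent → Subsingleton (AlgSp.HModEt X.obj M 1)) :
    AlgSp.IsSeparatedSp X.obj := by
  obtain ⟨T, hT, ⟨e⟩⟩ := Groth.Agent.S10732.result X hqc hqs h1
  refine AlgSpDec.SepOverField.isSeparatedSp_of_iso e ((repWith_diag_yon_iff @IsClosedImmersion T).2 ?_)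
  have : IsSeparated (T.hom ≫ terminal.from S) := by rw [terminal.comp_from]; infer_instance
  have : IsSeparated T.hom := IsSeparated.of_comp T.hom (terminal.from S)
  exact IsSeparated.isClosedImmersion_diagonal (f := T.hom)

end Groth.Agent.S10752
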