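import Groth.Statements.S10754
import Groth.Agent.AlgSpMod.AffineVanish

set_option autoImplicit false
universe u
open CategoryTheory CategoryTheory.Limits AlgebraicGeometry Opposite
open AlgSp

namespace Groth.Agent.S10754

set_option backward.isDefEq.respectTransparency false
set_option backward.isDefEq.respectTransparency.types false

open Groth.Agent.AlgSpMod Groth.Agent.AlgSpLib

/-- Consider an algebraic space X over S that happens to be an affine scheme, meaning X ≅ h_T where T is
an affine scheme over S. Then for each i > 0 and each quasi-coherent O_X-module M on the small etale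
site of X, the cohomology H^i(X, M) vanishes. -/
theorem result {S : Scheme.{u}} (X : AlgSp.Space S) (T : Over S)
    (hT : IsAffine T.left) (e : (AlgSp.yon S).obj T ≅ X.obj) (M : AlgSp.ModEt X.obj) [M.IsQuasicoherent]
    (i : ℕ) (hi : 0 < i) :
    Subsingleton (AlgSp.HModEt X.obj M i) := by
  obtain ⟨n, rfl⟩ : ∃ m, i = m + 1 := ⟨i - 1, by omega⟩
  let T₀ : AlgSp.EtOver X.obj := AlgSp.EtOver.mk e.hom (repWith_of_isIso _ e.hom)
  have hT₀ : IsTerminal T₀ := IsTerminal.ofUniqueHom
    (fun E => AlgSp.EtOver.homMk ((AlgSp.yon S).preimage (E.obj.hom ≫ e.inv)) (by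
      show (AlgSp.yon S).map ((AlgSp.yon S).preimage (E.obj.hom ≫ e.inv)) ≫ e.hom = E.obj.hom
      rw [Functor.map_preimage, Category.assoc, e.inv_hom_id, Category.comp_id]))
    (fun E m => AlgSp.EtOver.hom_ext _ _ ((AlgSp.yon S).map_injective (by
      show _ = (AlgSp.yon S).map ((AlgSp.yon S).preimage (E.obj.hom ≫ e.inv))
      rw [Functor.map_preimage, ← cancel_mono e.hom, Category.assoc, e.inv_hom_id, Category.comp_id]
      exact AlgSp.EtOver.w m)))
  exact subsingleton_HEt_of_isAffAcyc hT₀ hT n _ (isAffAcyc_toAb M (good_of_qcoh M))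

end Groth.Agent.S10754
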