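import Groth.Statements.S10756
import Groth.Agent.AlgSpMod.ClosedQCoh

set_option autoImplicit false
universe u
open CategoryTheory CategoryTheory.Limits AlgebraicGeometry Opposite
open AlgSp

namespace Groth.Agent.S10756

set_option backward.isDefEq.respectTransparency false
set_option backward.isDefEq.respectTransparency.types false

open Groth.Agent.AlgSpMod Groth.Agent.AlgSpLib Groth.Agent.AlgSpDec

/-- Take a closed immersion i : Z ⟶ X between algebraic spaces over S that are both locally Noetherian,
and write I for the quasi-coherent sheaf of ideals cutting out Z. Then the direct image i_* carries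
coherent O_Z-modules (of finite presentation) to coherent O_X-modules annihilated by I (on every
affine object U of the small etale site of X, the ideal I(U) annihilates all sections over U), and
every coherent O_X-module annihilated by I is isomorphic to i_* G for some coherent O_Z-module G.
(Together with the full faithfulness of i_* on modules, a separate result, this is the equivalence
between coherent O_Z-modules and coherent O_X-modules annihilated by I.) -/
theorem result {S : Scheme.{u}} {Z X : AlgSp.Space S} (i : Z ⟶ X)
    (hi : AlgSp.RepWith @IsClosedImmersion i.hom) (hX : AlgSp.IsLocNoethSp X.obj) (hZN : AlgSp.IsLocNoethSp Z.obj)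
    (I : AlgSp.IdealEt X.obj) (hI : I.IsQCoh) (hZ : AlgSp.IsCutOutBy I i.hom) :
    (∀ (G : AlgSp.ModEt Z.obj), G.IsFinitePresentation →
        ((AlgSp.pushModEt hi.1).obj G).IsFinitePresentation ∧
          ∀ (E : AlgSp.EtOver X.obj) (hE : IsAffine E.obj.left.left)
            (s : AlgSp.sectModEt ((AlgSp.pushModEt hi.1).obj G) E), I.ideal E hE ≤ AlgSp.annSect s) ∧
      ∀ (M : AlgSp.ModEt X.obj), M.IsFinitePresentation →
        (∀ (E : AlgSp.EtOver X.obj) (hE : IsAffine E.obj.left.left) (s : AlgSp.sectModEt M E),
            I.ideal E hE ≤ AlgSp.annSect s) →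
          ∃ G : AlgSp.ModEt Z.obj, G.IsFinitePresentation ∧ Nonempty ((AlgSp.pushModEt hi.1).obj G ≅ M) := by
  obtain ⟨hi', rfl⟩ := hZ
  have hfin : AlgSp.IsFiniteMor i.hom := isFiniteMor_iff_repWith.2 (repWith_mono (fun _ _ k (hk : IsClosedImmersion k) => (inferInstance : IsFinite k)) _ hi)
  refine ⟨fun G hG => ⟨finitePresentation_push hi.1 G hX hfin, fun E hE s a ha =>
    (AlgSp.mem_annSect_iff s a).2 (sm_push_eq_zero hi G ⟨a⟩ s (ULift.ext _ _ ha))⟩, fun M hM hk => ?_⟩
  obtain ⟨G, hq, ⟨e⟩⟩ := exists_push_iso hi X.property (good_of_fp M)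
    (fun V hV d t hd => (AlgSp.mem_annSect_iff t d.down).1 (hk V hV t (congrArg ULift.down hd)))
  refine ⟨G, ?_, ⟨e⟩⟩
  have hP : Good ((AlgSp.pushModEt hi.1).obj G) := (good_of_fp M).of_iso e.symm
  have hft : ((AlgSp.pushModEt hi.1).obj G).IsFiniteType := isFiniteType_of_good hP fun E hE =>
    haveI := finite_of_fp (M := M) E hE
    finite_of_epi e.inv (good_of_fp M) hP E hE
  haveI := (finite_push_iff hi.1 G X.property hfin).2 hft
  exact isFinitePresentation_of_finite hZN (good_of_qcoh G) fun E hE => finite_SA (hE := hE) E

end Groth.Agent.S10756
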