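import Groth.Statements.S10765
-- import your own Groth.Agent.* helpers here
import Groth.Agent.AlgSpDec.ProperUnion
import Groth.Agent.AlgSpDec.RedInduced

set_option autoImplicit false
universe u
open CategoryTheory CategoryTheory.Limits AlgebraicGeometry
open AlgSp

namespace Groth.Agent.S10765

set_option backward.isDefEq.respectTransparency false
set_option backward.isDefEq.respectTransparency.types false

open Groth.Agent.AlgSpLib Groth.Agent.AlgSpPts Groth.Agent.AlgSpDec


/-- Let f : X ⟶ Y be a morphism of algebraic spaces over S that is locally of finite type and let i_k :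
Z_k ⟶ X, for k ranging over a finite index set, be closed subspaces with each Z_k ⟶ Y proper. Then
there is a closed subspace W ⟶ X whose image in |X| is the union of the images of the |Z_k| and with
W ⟶ Y proper; that is, a finite union of closed subsets proper over Y is proper over Y. -/
theorem result {S : Scheme.{u}} {X Y : AlgSp.Space S}
    (f : X ⟶ Y) (hf : AlgSp.LocP @LocallyOfFiniteType f.hom)
    {n : ℕ} (Z : Fin n → AlgSp.Space S) (i : ∀ k, Z k ⟶ X)
    (hi : ∀ k, AlgSp.RepWith @IsClosedImmersion (i k).hom) (hZ : ∀ k, AlgSp.IsProperMor (i k ≫ f).hom) :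
    ∃ (W : AlgSp.Space S) (j : W ⟶ X), AlgSp.RepWith @IsClosedImmersion j.hom ∧
      Set.range (AlgSp.Points.map j.hom) = ⋃ k, Set.range (AlgSp.Points.map (i k).hom) ∧
      AlgSp.IsProperMor (j ≫ f).hom := by
  have hcl : IsClosed (⋃ k, Set.range (Points.map (i k).hom)) := isClosed_iUnion_of_finite fun k =>
    (isClosedMap_map (repWith_mono (fun A B e (he : IsClosedImmersion e) => (inferInstance : UniversallyClosed e)) _
      (hi k))).isClosed_range
  obtain ⟨W, j, hj⟩ := exists_reduced_induced X.property hcl
  let P : Fin n → Sp S := fun k => pullback (i k).hom j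
  have hP : ∀ k, IsAlgSpace (P k) := fun k => isAlgSpace_pullback (Z k).property W.property X.property _ _
  refine ⟨W, ObjectProperty.homMk j, hj.1, hj.2.1, ?_⟩
  refine isProperMor_of_family (fun k => pullback.snd (i k).hom j) (j ≫ f.hom) hP W.property Y.property
    (fun k => (isProperMor_of_closedImmersion
      (repWith_of_isPullback (IsPullback.of_hasPullback (i k).hom j) (hi k))).2.2)
    (fun w => ?_) (locP_comp W.property X.property Y.property (isProperMor_of_closedImmersion hj.1).2.1.1 hf)
    fun k => ?_
  · obtain ⟨k, z, hz⟩ := Set.mem_iUnion.1 (hj.2.1.le ⟨w, rfl⟩)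
    obtain ⟨v, -, hv⟩ := exists_point_of_isPullback (IsPullback.of_hasPullback (i k).hom j) hz
    exact ⟨k, v, hv⟩
  · rw [← Category.assoc, ← pullback.condition, Category.assoc]
    exact isProperMor_comp (hP k) (Z k).property Y.property (isProperMor_of_closedImmersion
      (repWith_of_isPullback (IsPullback.of_hasPullback (i k).hom j).flip hj.1)) (hZ k)

end Groth.Agent.S10765
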