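import Groth.Statements.S10766
import Groth.Agent.AlgSpDec2.ElemInduction
import Groth.Agent.AlgSpDec.LimDescentRep
import Groth.Agent.AlgSpDec.LimAffineStage
-- import your own Groth.Agent.* helpers here

set_option autoImplicit false
universe u

set_option backward.isDefEq.respectTransparency false
set_option backward.isDefEq.respectTransparency.types false
open CategoryTheory CategoryTheory.Limits AlgebraicGeometry
open AlgSp

namespace Groth.Agent.S10766

open AlgSp Groth.Agent.AlgSpLib Groth.Agent.AlgSpPts Groth.Agent.AlgSpDec

/-- Let X be a quasi-compact and quasi-separated algebraic space over S and P a property of the objects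
of the site of algebraic spaces etale over X. Assume (1) P holds for every object whose underlying
space is isomorphic to an affine scheme, and (2) for every elementary distinguished square (U ⊂ W, V
⟶ W) of objects, with W quasi-compact and quasi-separated, U quasi-compact, V affine and any fibre
product U ×_W V, whenever P is true of U, V and U ×_W V it is true of W. The conclusion is that
every quasi-compact and quasi-separated object, X itself included, has property P.
Quasi-separatedness is taken relative to S with S quasi-separated, so that it agrees with the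
absolute notion. -/
theorem result {S : Scheme.{u}} [QuasiSeparatedSpace ↥S] (X : AlgSp.Space S)
    (hXc : AlgSp.IsQuasiCompactSp X.obj) (hXs : AlgSp.IsQuasiSeparatedSp X.obj)
    (P : AlgSp.EtSpOver X → Prop)
    (h1 : ∀ (W : AlgSp.EtSpOver X) (T : Over S), IsAffine T.left →
      Nonempty ((AlgSp.yon S).obj T ≅ W.obj.left.obj) → P W)
    (h2 : ∀ (W U V UV : AlgSp.EtSpOver X) (j : U ⟶ W) (f : V ⟶ W) (p : UV ⟶ U) (q : UV ⟶ V),
      AlgSp.IsQuasiCompactSp W.obj.left.obj → AlgSp.IsQuasiSeparatedSp W.obj.left.obj →
      AlgSp.IsQuasiCompactSp U.obj.left.obj →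
      (∃ T : Over S, IsAffine T.left ∧ Nonempty ((AlgSp.yon S).obj T ≅ V.obj.left.obj)) →
      AlgSp.IsElemDistSq j.hom.left.hom f.hom.left.hom →
      IsPullback p.hom.left.hom q.hom.left.hom j.hom.left.hom f.hom.left.hom →
      P U → P V → P UV → P W) :
    ∀ W : AlgSp.EtSpOver X, AlgSp.IsQuasiCompactSp W.obj.left.obj → AlgSp.IsQuasiSeparatedSp W.obj.left.obj → P W := by
  intro W hc hs
  refine Groth.Agent.AlgSpDec2.ElemInduction.induction
    (B := fun E => IsQuasiCompactSp E.obj.left.obj ∧ IsQuasiSeparatedSp E.obj.left.obj)
    (fun E h => h) (fun E E' j h hj hq => ⟨hq, ?_⟩) (fun E T hT he => ⟨?_, h1 E T hT he⟩)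
    (fun W U V UV j f p q hB => h2 W U V UV j f p q hB.1 hB.2) W ⟨hc, hs⟩
  · haveI : Mono j.hom.left.hom := mono_of_openImmersion hj
    have h' := h.2
    rw [isQuasiSeparatedSp_iff_mor] at h' ⊢
    rw [(isTerminalYon S).hom_ext ((isTerminalYon S).from E'.obj.left.obj) (j.hom.left.hom ≫ (isTerminalYon S).from _)]
    exact isQuasiSeparatedMor_comp (isQuasiSeparatedMor_of_isSeparatedMor (isSeparatedMor_of_mono _)) h'
  · obtain ⟨e⟩ := he
    haveI := hT
    haveI : CompactSpace (Points ((yon S).obj T)) := (Points.schemeHomeo _).compactSpace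
    refine ⟨(isQuasiCompactSp_iff E.obj.left.property).2 ⟨?_⟩,
      isQuasiSeparatedSp_of_affine e.inv (repWith_of_isIso _ _) ((isQuasiSeparatedSp_yon_iff' T).2 inferInstance)⟩
    have := isCompact_range (Points.continuous_map e.hom)
    rwa [Set.range_eq_univ.2 fun y => ⟨Points.map e.inv y, by
      rw [← Points.map_comp, e.inv_hom_id, Points.map_id]⟩] at this

end Groth.Agent.S10766
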