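import Groth.Statements.S10768
import Groth.Agent.AlgSpDec2.ElemSq
-- import your own Groth.Agent.* helpers here

set_option autoImplicit false
universe u

set_option backward.isDefEq.respectTransparency false
set_option backward.isDefEq.respectTransparency.types false
open CategoryTheory CategoryTheory.Limits AlgebraicGeometry
open AlgSp

namespace Groth.Agent.S10768

open AlgSp Groth.Agent.AlgSpLib Groth.Agent.AlgSpPts Groth.Agent.AlgSpDec

/-- Let X be a quasi-compact and quasi-separated algebraic space over S, W ⊂ X a quasi-compact open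
subspace, and P a property of open subspaces of X (pairs of an algebraic space and a representable
open immersion into X). Assume (1) W has property P, and (2) given any elementary distinguished
square (W₁ ⊂ W₂, V ⟶ W₂) where W₁ ⊂ W₂ are quasi-compact open subspaces of X containing W and V is
affine, P for W₁ implies P for W₂. Then P holds for X (with its identity). Quasi-separatedness is
relative to S with S quasi-separated. -/
theorem result {S : Scheme.{u}} [QuasiSeparatedSpace ↥S] (X : AlgSp.Space S)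
    (hXc : AlgSp.IsQuasiCompactSp X.obj) (hXs : AlgSp.IsQuasiSeparatedSp X.obj)
    (P : ∀ U : AlgSp.Space S, (U ⟶ X) → Prop)
    (W : AlgSp.Space S) (jW : W ⟶ X) (hjW : AlgSp.RepWith @IsOpenImmersion jW.hom)
    (hWc : AlgSp.IsQuasiCompactSp W.obj) (h1 : P W jW)
    (h2 : ∀ (W₁ W₂ V : AlgSp.Space S) (j₁ : W₁ ⟶ X) (j₂ : W₂ ⟶ X) (k : W₁ ⟶ W₂) (m : W ⟶ W₁) (f : V ⟶ W₂),
      AlgSp.RepWith @IsOpenImmersion j₁.hom → AlgSp.RepWith @IsOpenImmersion j₂.hom →
      k ≫ j₂ = j₁ → m ≫ j₁ = jW →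
      AlgSp.IsQuasiCompactSp W₁.obj → AlgSp.IsQuasiCompactSp W₂.obj →
      (∃ T : Over S, IsAffine T.left ∧ Nonempty ((AlgSp.yon S).obj T ≅ V.obj)) →
      AlgSp.IsElemDistSq k.hom f.hom → P W₁ j₁ → P W₂ j₂) :
    P X (𝟙 X) := by
  have hW₀o : IsOpen (Set.range (Points.map jW.hom)) := (isOpenEmbedding_map' X.property hjW).isOpen_range
  have hW₀c := Groth.Agent.AlgSpDec2.ElemChain.isCompact_range_of_qc W.property hWc jW.hom
  have hchain := (Groth.Agent.AlgSpDec2.ElemChain.reach_univ X.property hXc hXs hW₀o hW₀c).tail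
    (Groth.Agent.AlgSpDec2.ElemChain.step_refl X.property Set.univ)
  suffices h : ∀ A, Relation.ReflTransGen (Groth.Agent.AlgSpDec2.ElemChain.Step X.obj) (Set.range (Points.map jW.hom)) A →
      IsOpen A ∧ IsCompact A ∧ Set.range (Points.map jW.hom) ⊆ A ∧
        ((∃ (W₁ : Space S) (j₁ : W₁ ⟶ X) (m : W ⟶ W₁), RepWith @IsOpenImmersion j₁.hom ∧
          Set.range (Points.map j₁.hom) = A ∧ IsQuasiCompactSp W₁.obj ∧ m ≫ j₁ = jW ∧ P W₁ j₁)) by
    obtain ⟨hAo, hAc, hle, W₁, j₁, m, hj₁, hr₁, hq₁, hm, hP⟩ :=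
      h _ (Groth.Agent.AlgSpDec2.ElemChain.reach_univ X.property hXc hXs hW₀o hW₀c)
    obtain ⟨V, f, hV, hf, hBA, hinj⟩ := Groth.Agent.AlgSpDec2.ElemChain.step_refl X.property Set.univ
    have h1 : RepWith @IsOpenImmersion (𝟙 X.obj) := repWith_id_openImmersion _
    obtain ⟨f₂, hf₂, hf₂e, hsq⟩ := Groth.Agent.AlgSpDec2.ElemChain.exists_sq X.property hf hBA hinj
      X.property (j₁ := j₁.hom) (j₂ := 𝟙 X.obj) hj₁ h1 hr₁
      (Set.range_eq_univ.2 fun x => ⟨x, Points.map_id _⟩) (k := j₁.hom) (Category.comp_id _)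
    exact h2 W₁ X ⟨(yon S).obj V, IsAlgSpace.yon_obj V⟩ j₁ (𝟙 X) j₁ m (ObjectProperty.homMk f₂) hj₁ h1
      (Category.comp_id _) hm hq₁ hXc ⟨V, hV, ⟨Iso.refl _⟩⟩ hsq hP
  intro A hA
  induction hA with
  | refl => exact ⟨hW₀o, hW₀c, subset_rfl, W, jW, 𝟙 W, hjW, rfl, hWc, Category.id_comp _, h1⟩
  | tail hprev hstep ih =>
    rename_i A B
    obtain ⟨hAo, hAc, hle, W₁, j₁, m, hj₁, hr₁, hq₁, hm, hP⟩ := ih
    obtain ⟨hBo, hBc, hAB⟩ := Groth.Agent.AlgSpDec2.ElemChain.step_compact hstep hAo hAc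
    obtain ⟨V, f, hV, hf, hB, hinj⟩ := hstep
    obtain ⟨W₂', j₂', hW₂, hj₂, hr₂⟩ := exists_open_subspace X.property hBo
    let W₂ : Space S := ⟨W₂', hW₂⟩
    let j₂ : W₂ ⟶ X := ObjectProperty.homMk j₂'
    obtain ⟨k', hk'⟩ := exists_lift_openImmersion W₁.property hW₂ X.property hj₂ j₁.hom
      (by rw [hr₁, hr₂]; exact hAB)
    let k : W₁ ⟶ W₂ := ObjectProperty.homMk k'
    obtain ⟨f₂, hf₂, hf₂e, hsq⟩ := Groth.Agent.AlgSpDec2.ElemChain.exists_sq X.property hf hB hinj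
      hW₂ hj₁ hj₂ hr₁ hr₂ hk'
    have hq₂ : IsQuasiCompactSp W₂.obj :=
      Groth.Agent.AlgSpDec2.ElemChain.isQuasiCompactSp_of_range X.property hW₂ hj₂ (hr₂.symm ▸ hBc)
    have hk : k ≫ j₂ = j₁ := ObjectProperty.hom_ext _ hk'
    refine ⟨hBo, hBc, hle.trans hAB, W₂, j₂, m ≫ k, hj₂, hr₂, hq₂, by rw [Category.assoc, hk, hm], ?_⟩
    exact h2 W₁ W₂ ⟨(yon S).obj V, IsAlgSpace.yon_obj V⟩ j₁ j₂ k m (ObjectProperty.homMk f₂) hj₁ hj₂
      hk hm hq₁ hq₂ ⟨V, hV, ⟨Iso.refl _⟩⟩ hsq hP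

end Groth.Agent.S10768
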