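import Groth.Statements.S10769
import Groth.Agent.AlgSpMod.Colimit
import Groth.Agent.AlgSpMod.Converse
import Groth.Agent.KFlatLib.Scheme.Coproducts
import Groth.Agent.FlatCxLib.HomologyColim
import Groth.Agent.AlgSpMod.ExactColim

set_option autoImplicit false
universe u
open CategoryTheory CategoryTheory.Limits AlgebraicGeometry
attribute [local instance] HasDerivedCategory.standard
open AlgSp

namespace Groth.Agent.S10769

set_option backward.isDefEq.respectTransparency false
set_option backward.isDefEq.respectTransparency.types false

open Groth.Agent Groth.Agent.AlgSpMod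

/-- Let X be an algebraic space over S and E_i a family of objects of D(O_X) (modules on the small etale
site) with quasi-coherent cohomology sheaves. Granted that the direct sum of the E_i exists in
D(O_X) (it does), the direct sum again has quasi-coherent cohomology sheaves; thus D_QCoh(O_X) has
direct sums and they agree with those of D(O_X). -/
theorem result {S : Scheme.{u}} (X : AlgSp.Space S) {ι : Type (u + 1)}
    (E : ι → AlgSp.DModEt X.obj) [HasCoproduct E]
    (hE : ∀ i, DCoh.IsQCohDMod (AlgSp.OEtRing X.obj) (E i)) :
    DCoh.IsQCohDMod (AlgSp.OEtRing X.obj) (∐ E) := by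
  intro i
  let A := AlgSp.ModEt X.obj
  haveI : AB4OfSize.{u + 1} A := ab4_modEt X.obj
  haveI : HasExactColimitsOfShape (Discrete ι) A := AB4OfSize.ofShape ι
  let K := fun j => DerivedCategory.Q.objPreimage (E j)
  let e := fun j => DerivedCategory.Q.objObjPreimageIso (E j)
  haveI := KFlatLib.preservesColimit_Q K
  haveI : HasCoproduct fun j => DerivedCategory.Q.obj (K j) :=
    hasColimit_of_iso (Discrete.natIso fun j => e j.as :
      Discrete.functor (fun j => DerivedCategory.Q.obj (K j)) ≅ Discrete.functor E)
  let H := HomologicalComplex.homologyFunctor A (ComplexShape.up ℤ) i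
  let HD := DerivedCategory.homologyFunctor A i
  haveI := FlatCxLib.preservesColimitsOfShape_complexHomology (C := A) (J := Discrete ι) (ComplexShape.up ℤ) i
  haveI : HasColimit (Discrete.functor fun j => H.obj (K j)) := inferInstance
  refine Good.isQuasicoherent (Good.of_iso (good_colimit (Discrete.functor fun j => H.obj (K j)) fun j => ?_)
    ((PreservesCoproduct.iso H K).symm ≪≫ ((DerivedCategory.homologyFunctorFactors A i).app _).symm ≪≫
      HD.mapIso (PreservesCoproduct.iso DerivedCategory.Q K ≪≫ HasColimit.isoOfNatIso (Discrete.natIso fun j => e j.as :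
        Discrete.functor (fun j => DerivedCategory.Q.obj (K j)) ≅ Discrete.functor E))))
  haveI : (DCoh.HDMod (AlgSp.OEtRing X.obj) (E j.as) i).IsQuasicoherent := hE j.as i
  exact (good_of_qcoh _).of_iso (HD.mapIso (e j.as).symm ≪≫ (DerivedCategory.homologyFunctorFactors A i).app _)

end Groth.Agent.S10769
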