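import Groth.Statements.S10782
import Groth.Agent.AlgSpDer.PushReflect

set_option autoImplicit false
universe u
open CategoryTheory CategoryTheory.Limits AlgebraicGeometry
attribute [local instance] HasDerivedCategory.standard
open AlgSp

namespace Groth.Agent.S10782

set_option backward.isDefEq.respectTransparency false
set_option backward.isDefEq.respectTransparency.types false

open Groth.Agent.AlgSpDer Groth.Agent.AlgSpMod Groth.Agent.SiteCmpLib CategoryTheory.Pretriangulated

/-- Let f : X ⟶ Y be an affine morphism of algebraic spaces over S; it is representable by schemes, and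
that hypothesis is carried separately so that the total direct image Rf_* on D(O_X) (modules on the
small etale sites, under its existence binder) is available. Then Rf_* reflects isomorphisms on
D_QCoh(O_X): a morphism α : E ⟶ F between objects with quasi-coherent cohomology sheaves is an
isomorphism as soon as Rf_*α is. -/
theorem result {S : Scheme.{u}} {X Y : AlgSp.Space S} (f : X ⟶ Y)
    (hfa : AlgSp.IsAffineMor f.hom) (hf : AlgSp.Representable f.hom) [AlgSp.HasRpushModEtD hf]
    {E F : AlgSp.DModEt X.obj} (hE : DCoh.IsQCohDMod (AlgSp.OEtRing X.obj) E)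
    (hF : DCoh.IsQCohDMod (AlgSp.OEtRing X.obj) F) (α : E ⟶ F)
    (hα : IsIso ((AlgSp.RpushModEtD hf).map α)) : IsIso α := by
  haveI := isGrothendieckAbelian_modEt X.obj
  obtain ⟨Z, g, d, hT⟩ := distinguished_cocone_triangle α
  have hgood : ∀ {W : AlgSp.DModEt X.obj}, DCoh.IsQCohDMod (AlgSp.OEtRing X.obj) W → ∀ j : ℤ,
      Good ((DerivedCategory.homologyFunctor (AlgSp.ModEt X.obj) j).obj W) :=
    fun hW j => isQuasicoherent_iff_good.1 (hW j)
  have hZ : ∀ j : ℤ, Good ((DerivedCategory.homologyFunctor (AlgSp.ModEt X.obj) j).obj Z) := fun j =>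
    good_of_five (DerivedCategory.HomologySequence.exact₂ _ hT j)
      (DerivedCategory.HomologySequence.exact₃ _ hT j (j + 1) rfl)
      (DerivedCategory.HomologySequence.exact₁ _ hT j (j + 1) rfl)
      (hgood hE j) (hgood hF j) (hgood hE (j + 1)) (hgood hF (j + 1))
  obtain ⟨δ, hδ⟩ := Secs.exists_distinguished_RG (AlgSp.pushModEt hf) _ hT
  haveI : IsIso (Triangle.mk ((Secs.RG (AlgSp.pushModEt hf)).map α) ((Secs.RG (AlgSp.pushModEt hf)).map g) δ).mor₁ := hα
  have h0 : IsZero ((Secs.RG (AlgSp.pushModEt hf)).obj Z) := (Triangle.isZero₃_iff_isIso₁ _ hδ).2 ‹_›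
  have hz := isZero_of_isZero_RG hf Y.property (fun W hW => aff_bcObj_of_isAffineMor hf hfa W hW) Z hZ
    (fun U hU => good_of_isQCoh Z (fun q => isQuasicoherent_iff_good.2 (hZ q)) U hU) h0
  exact (Triangle.isZero₃_iff_isIso₁ _ hT).1 hz

end Groth.Agent.S10782
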