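import Groth.Statements.S10784
import Groth.Agent.AlgSpDer.RGTrunc
import Groth.Agent.AlgSpDer.Van
import Groth.Agent.SiteCmpLib.Secs.Amplitude

set_option autoImplicit false
universe u
open CategoryTheory CategoryTheory.Limits AlgebraicGeometry
attribute [local instance] HasDerivedCategory.standard
open AlgSp

namespace Groth.Agent.S10784

set_option backward.isDefEq.respectTransparency false
set_option backward.isDefEq.respectTransparency.types false

open Groth.Agent.AlgSpDer Groth.Agent.SiteCmpLib

/-- Let X be an algebraic space over S, F : Mod(O_X) ⥤ Ab (modules on the small etale site) a left exact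
additive functor commuting with countable direct products, and N ≥ 0 an integer with R^pF(G) = 0 for
every p ≥ N and every quasi-coherent module G (right derived functors computed with injective
resolutions). Assume the total right derived functor RF : D(O_X) ⥤ D(Ab) exists. Let E be in
D_QCoh(O_X) and a, b integers. If H^i(E) = 0 for all i < a, then H^i(RF(E)) = 0 for all i < a; and
if H^i(E) = 0 for all i > b, then H^i(RF(E)) = 0 for all i > b + N - 1. (Either bound may be absent:
the two implications are stated separately, so E need not be bounded on the other side.) -/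
theorem result {S : Scheme.{u}} (X : AlgSp.Space S)
    (F : AlgSp.ModEt X.obj ⥤ AddCommGrpCat.{u + 1}) [F.Additive] [PreservesFiniteLimits F]
    [PreservesLimitsOfShape (Discrete ℕ) F] [EnoughInjectives (AlgSp.ModEt X.obj)] (N : ℕ)
    (hF : ∀ G : AlgSp.ModEt X.obj, G.IsQuasicoherent → ∀ p : ℕ, N ≤ p → IsZero ((F.rightDerived p).obj G))
    [(F.mapHomotopyCategory (ComplexShape.up ℤ) ⋙ DerivedCategory.Qh).HasRightDerivedFunctor
      (HomotopyCategory.quasiIso (AlgSp.ModEt X.obj) (ComplexShape.up ℤ))]
    (E : AlgSp.DModEt X.obj) (hE : DCoh.IsQCohDMod (AlgSp.OEtRing X.obj) E) (a b : ℤ) :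
    ((∀ i : ℤ, i < a → IsZero (DCoh.HDMod (AlgSp.OEtRing X.obj) E i)) →
      ∀ i : ℤ, i < a → IsZero ((DerivedCategory.homologyFunctor AddCommGrpCat.{u + 1} i).obj (((F.mapHomotopyCategory (ComplexShape.up ℤ) ⋙ DerivedCategory.Qh).totalRightDerived DerivedCategory.Qh (HomotopyCategory.quasiIso (AlgSp.ModEt X.obj) (ComplexShape.up ℤ))).obj E))) ∧
    ((∀ i : ℤ, b < i → IsZero (DCoh.HDMod (AlgSp.OEtRing X.obj) E i)) →
      ∀ i : ℤ, b + N - 1 < i → IsZero ((DerivedCategory.homologyFunctor AddCommGrpCat.{u + 1} i).obj (((F.mapHomotopyCategory (ComplexShape.up ℤ) ⋙ DerivedCategory.Qh).totalRightDerived DerivedCategory.Qh (HomotopyCategory.quasiIso (AlgSp.ModEt X.obj) (ComplexShape.up ℤ))).obj E))) := by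
  haveI := Groth.Agent.AlgSpMod.isGrothendieckAbelian_modEt X.obj
  have hR' : ∀ [HasProduct (CohCx.truncTower E)],
      CohCx.IsRlimVia (CohCx.truncTower E) (CohCx.truncTowerMap E) E
        (CohCx.toTruncTower E) :=
    (modEtSecs X.obj).isRlimVia_trunc E (isCoveredBy_affSet X.obj) fun V _ => ⟨0, fun T hT => by
      obtain ⟨ι, Y, f, h1, h2, h3⟩ := (isCoveredBy_affSet X.obj).refine_cover V hT
      exact ⟨ι, Y, f, h1, h2, fun i => good_of_isQCoh E hE (Y i) (h3 i)⟩⟩
  have hEp : ∀ (q : ℤ) (p : ℕ), (N : ℤ) - 1 < (p : ℤ) →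
      IsZero ((F.rightDerived p).obj ((DerivedCategory.homologyFunctor _ q).obj E)) :=
    fun q p hp => hF _ (hE q) p (by omega)
  refine ⟨fun ha i hi => ?_, fun hb i hi => ?_⟩
  · haveI : E.IsGE a := by
      rw [DerivedCategory.isGE_iff]
      exact ha
    haveI := SiteCmpLib.Secs.isGE_RG F E a
    exact DerivedCategory.isZero_of_isGE _ a i hi
  · haveI : E.IsLE b := by
      rw [DerivedCategory.isLE_iff]
      exact hb
    exact isZero_homology_RT F ((N : ℤ) - 1) E hEp hR' b i (by omega)

end Groth.Agent.S10784
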