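import Groth.Statements.S10789
import Groth.Agent.AlgSpMod.MayerVietorisMod
import Groth.Agent.AlgSpMod.EnoughInj
import Groth.Agent.AlgSpMod.DualSeq

set_option autoImplicit false
universe u
open CategoryTheory CategoryTheory.Limits AlgebraicGeometry
attribute [local instance] HasDerivedCategory.standard
open AlgSp

namespace Groth.Agent.S10789

set_option backward.isDefEq.respectTransparency false
set_option backward.isDefEq.respectTransparency.types false
set_option maxHeartbeats 1000000

open Groth.Agent.AlgSpMod

/-- Part (1): for squares whose two parts are schemes: let X be an algebraic space over S and let U, V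
be objects of the small etale site of X (schemes with representable etale structure maps to X) such
that (U ⊂ X, V ⟶ X) is an elementary distinguished square; write U ×_X V for their product in the
site. Granting that restriction of O_X-modules to each of U, V and U ×_X V has a left adjoint j_!
(extension by zero, which exists), for every O_X-module F the sequence 0 ⟶ j_{U ×_X V,!}F|_{U ×_X V}
⟶ j_{U,!}F|_U ⊕ j_{V,!}F|_V ⟶ F ⟶ 0 is short exact, where the second map is given by the two
adjunction counits and the first by the extension map along U ×_X V ⟶ U and minus the extension map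
along U ×_X V ⟶ V. Only squares whose open part and etale part are both schemes are covered. -/
theorem result {S : Scheme.{u}} (X : AlgSp.Space S)
    (U V : AlgSp.EtOver X.obj) (hsq : AlgSp.IsElemDistSq U.obj.hom V.obj.hom)
    [(AlgSp.resModEt U).IsRightAdjoint] [(AlgSp.resModEt V).IsRightAdjoint]
    [(AlgSp.resModEt (AlgSp.EtOver.prodObj U V)).IsRightAdjoint] (F : AlgSp.ModEt X.obj) :
    ∃ h : biprod.lift ((AlgSp.shriekResNatTrans (AlgSp.EtOver.prodFst U V)).app F)
          (-((AlgSp.shriekResNatTrans (AlgSp.EtOver.prodSnd U V)).app F)) ≫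
        biprod.desc ((Adjunction.ofIsRightAdjoint (AlgSp.resModEt U)).counit.app F)
          ((Adjunction.ofIsRightAdjoint (AlgSp.resModEt V)).counit.app F) = 0,
      (ShortComplex.mk _ _ h).ShortExact := by
  haveI := enoughInjectives_modEt X.obj
  let UV := EtOver.prodObj U V
  let a₁ := shriekResAdj U
  let a₂ := shriekResAdj V
  let a₃ := shriekResAdj UV
  haveI : (resModEt UV ⋙ pushOnModEt UV).Additive := inferInstance
  have hcounit : ∀ (E : EtOver X.obj) [(resModEt E).IsRightAdjoint] (G : ModEt X.obj) (ψ : F ⟶ G),
      (shriekResAdj E).homEquiv F G ((Adjunction.ofIsRightAdjoint (resModEt E)).counit.app F ≫ ψ) =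
        ψ ≫ (resPushAdjEt E).unit.app G := by
    intro E _ G ψ
    let a := Adjunction.ofIsRightAdjoint (resModEt E)
    have h1 : a.homEquiv ((resModEt E).obj F) G (a.counit.app F ≫ ψ) = (resModEt E).map ψ := by
      rw [Adjunction.homEquiv_naturality_right, Adjunction.homEquiv_unit, a.right_triangle_components, Category.id_comp]
    rw [shriekResAdj, Adjunction.comp_homEquiv]
    exact ((congrArg ((resPushAdjEt E).homEquiv F _) h1).trans (Adjunction.homEquiv_unit _ _ _ _)).trans
      ((resPushAdjEt E).unit.naturality ψ).symm
  choose h hS using fun G : ModEt X.obj => mayerVietoris hsq G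
  refine DualSeq.shortExact_dual F _ _ (fun G => a₁.homEquiv F G) (fun G => a₂.homEquiv F G)
    (fun G => a₃.homEquiv F G) (fun G => ?_)
    (fun G => biprod.lift ((resPushAdjEt U).unit.app G) ((resPushAdjEt V).unit.app G))
    (fun G => biprod.desc ((pushResNatTrans (EtOver.prodFst U V)).app G) (-((pushResNatTrans (EtOver.prodSnd U V)).app G)))
    h hS (fun G ψ => ?_) fun G φ => ?_
  · rw [Adjunction.homEquiv_unit, Functor.map_zero, comp_zero]
  · rw [biprod.inl_desc_assoc, biprod.inr_desc_assoc, hcounit U G ψ, hcounit V G ψ]
    apply biprod.hom_ext <;> simp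
  · rw [biprod.lift_eq, Preadditive.add_comp, Category.assoc, Category.assoc, Preadditive.neg_comp,
      biprod.lift_desc, Preadditive.comp_neg]
    have hadd : ∀ p q : (shriekRes UV).obj F ⟶ G, a₃.homEquiv F G (p + -q) = a₃.homEquiv F G p + -(a₃.homEquiv F G q) := by
      intro p q
      rw [Adjunction.homEquiv_unit, Adjunction.homEquiv_unit, Adjunction.homEquiv_unit, Functor.map_add,
        Functor.map_neg, Preadditive.comp_add, Preadditive.comp_neg]
    rw [hadd]
    exact congrArg₂ (fun x y => x + -y) (DualSeq.homEquiv_conjugate a₁ a₃ _ _) (DualSeq.homEquiv_conjugate a₂ a₃ _ _)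

end Groth.Agent.S10789
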