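import Groth.Statements.S10811
import Groth.Agent.AlgSpMod.WeakAss

set_option autoImplicit false
universe u
open CategoryTheory CategoryTheory.Limits AlgebraicGeometry Topology TopologicalSpace
open AlgSp

namespace Groth.Agent.S10811

set_option backward.isDefEq.respectTransparency false
set_option backward.isDefEq.respectTransparency.types false
open Groth.Agent.AlgSpLib Groth.Agent.AlgSpDec Groth.Agent.AlgSpMod AlgebraicGeometry CategoryTheory CategoryTheory.Limits Opposite TensorProduct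

open AlgSp in
/-- A morphism of modules on sections. -/
noncomputable def lmap {S : Scheme.{u}} {X : Sp S} {M N : ModEt X} (φ : M ⟶ N) (E : EtOver X) :
    SA M (𝟙 E) →ₗ[Rg E] SA N (𝟙 E) where
  toFun x := φ.val.app (op E) x
  map_add' a b := map_add (φ.val.app (op E)).hom a b
  map_smul' r a := by
    rw [smul_SA_id, smul_SA_id, RingHom.id_apply]
    exact map_smul (φ.val.app (op E)).hom r a

open AlgSp in
theorem left_exact_sections {S : Scheme.{u}} {X : Sp S} (C : ShortComplex (ModEt X)) (hC : C.ShortExact)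
    (E : EtOver X) : Function.Injective (lmap C.f E) ∧ Function.Exact (lmap C.f E) (lmap C.g E) := by
  let G := SheafOfModules.forget (OEtRing X) ⋙ PresheafOfModules.evaluation _ (op E)
  have : Mono C.f := hC.mono_f
  have hC' := hC.exact.map_of_mono_of_preservesKernel G this inferInstance
  refine ⟨?_, fun y => ⟨fun hy => (ShortComplex.moduleCat_exact_iff _).1 hC' y hy, fun ⟨x, hx⟩ => hx ▸ (C.map G).moduleCat_zero_apply x⟩⟩
  exact (ModuleCat.mono_iff_injective (G.map C.f)).1 inferInstance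


/-- Let X be an algebraic space over a scheme S and 0 ⟶ F₁ ⟶ F₂ ⟶ F₃ ⟶ 0 a short exact sequence of
quasi-coherent O_X-modules on the small etale site of X. Then the weakly associated points satisfy
WeakAss(F₂) ⊆ WeakAss(F₁) ∪ WeakAss(F₃) and WeakAss(F₁) ⊆ WeakAss(F₂). -/
theorem result {S : Scheme.{u}} (X : AlgSp.Space S)
    (C : ShortComplex (AlgSp.ModEt X.obj)) (hC : C.ShortExact)
    [C.X₁.IsQuasicoherent] [C.X₂.IsQuasicoherent] [C.X₃.IsQuasicoherent] :
    AlgSp.WeakAssEt C.X₂ ⊆ AlgSp.WeakAssEt C.X₁ ∪ AlgSp.WeakAssEt C.X₃ ∧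
      AlgSp.WeakAssEt C.X₁ ⊆ AlgSp.WeakAssEt C.X₂ := by
  constructor
  · intro x hx
    obtain ⟨E, hE, u, hu, hw⟩ := hx
    obtain ⟨s, hs⟩ := (isWeakAssOn_iff _ E u).1 hw
    obtain ⟨hinj, hex⟩ := left_exact_sections C hC E
    rcases WeakAss.weakAss_subset_union_of_exact (lmap C.f E) (lmap C.g E) hinj hex ⟨s, hs⟩ with h | h
    · exact Or.inl ⟨E, hE, u, hu, (isWeakAssOn_iff _ E u).2 h⟩
    · exact Or.inr ⟨E, hE, u, hu, (isWeakAssOn_iff _ E u).2 h⟩
  · intro x hx
    obtain ⟨E, hE, u, hu, hw⟩ := hx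
    obtain ⟨hinj, hex⟩ := left_exact_sections C hC E
    exact ⟨E, hE, u, hu, (isWeakAssOn_iff _ E u).2
      (WeakAss.weakAss_subset_of_injective (lmap C.f E) hinj ((isWeakAssOn_iff _ E u).1 hw))⟩

end Groth.Agent.S10811
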