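import Groth.Statements.S10817
import Groth.Agent.AlgSpMod.WeakAss

set_option autoImplicit false
universe u
open CategoryTheory CategoryTheory.Limits AlgebraicGeometry Topology TopologicalSpace
open AlgSp

namespace Groth.Agent.S10817

set_option backward.isDefEq.respectTransparency false
set_option backward.isDefEq.respectTransparency.types false
open Groth.Agent.AlgSpLib Groth.Agent.AlgSpDec Groth.Agent.AlgSpMod AlgebraicGeometry CategoryTheory CategoryTheory.Limits Opposite TensorProduct

open AlgSp in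
theorem exists_pR_eq {S : Scheme.{u}} {X : Sp S} (E : EtOver X) [IsAffine E.obj.left.left] (p : Ideal (Rg E))
    [p.IsPrime] : ∃ u : ↥E.obj.left.left, pR E u = p := by
  let d : Rg E →+* Γ(E.obj.left.left, ⊤) := (ULift.ringEquiv (R := Γ(E.obj.left.left, ⊤))).toRingHom
  let e : Γ(E.obj.left.left, ⊤) →+* Rg E := (ULift.ringEquiv (R := Γ(E.obj.left.left, ⊤))).symm.toRingHom
  obtain ⟨u, hu⟩ := WeakAssEmpty.exists_primeAtPt_eq (p.comap e)
  refine ⟨u, ?_⟩
  show Ideal.comap d _ = p
  rw [hu, Ideal.comap_comap]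
  exact Ideal.comap_id p


/-- Let X be an algebraic space over a scheme S and F a quasi-coherent O_X-module on the small etale
site of X. If U ⟶ X is an etale morphism from a scheme (an object of the small etale site) whose
image in |X| contains all weakly associated points of F, then the restriction map Γ(X, F) ⟶ Γ(U, F)
is injective; here Γ(X, F) is the type of compatible families of sections of F over all objects of
the site, and the map is evaluation at U. -/
theorem result {S : Scheme.{u}} (X : AlgSp.Space S)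
    (M : AlgSp.ModEt X.obj) [M.IsQuasicoherent] (E : AlgSp.EtOver X.obj)
    (hE : AlgSp.WeakAssEt M ⊆ Set.range (AlgSp.Points.ofPt E.obj.hom)) :
    Function.Injective (fun s : M.sections => PresheafOfModules.sections.eval s (Opposite.op E)) := by
  intro s t hst
  apply Subtype.ext
  funext F
  obtain ⟨F⟩ := F
  let d : ∀ G : AlgSp.EtOver X.obj, AlgSp.sectModEt M G := fun G =>
    (show AlgSp.sectModEt M G from s.1 (op G)) - (show AlgSp.sectModEt M G from t.1 (op G))
  have hd : ∀ {G G' : AlgSp.EtOver X.obj} (g : G' ⟶ G), M.val.map g.op (d G) = d G' := fun {G G'} g =>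
    (map_sub (M.val.map g.op).hom _ _).trans (congrArg₂ (· - ·) (s.2 g.op) (t.2 g.op))
  have hdE : d E = 0 := sub_eq_zero.2 hst
  have key : ∀ G : AlgSp.EtOver X.obj, IsAffine G.obj.left.left → d G = 0 := by
    intro G hG
    by_contra hne
    let a : SA M (𝟙 G) := d G
    have hI : WeakAss.annEl (Rg G) a ≠ ⊤ := fun hc => hne (by
      have := WeakAss.mem_annEl.1 (hc ▸ Submodule.mem_top : (1 : Rg G) ∈ WeakAss.annEl (Rg G) a)
      rwa [one_smul] at this)
    obtain ⟨p, hp⟩ := Ideal.nonempty_minimalPrimes hI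
    have := hp.1.1
    obtain ⟨u, hu⟩ := exists_pR_eq G p
    subst hu
    obtain ⟨v, hv⟩ := hE (show Points.ofPt G.obj.hom u ∈ AlgSp.WeakAssEt M from
      ⟨G, hG, u, rfl, (isWeakAssOn_iff M G u).2 ⟨a, hp⟩⟩)
    obtain ⟨F', g₁, g₂, w, hF', rfl, rfl⟩ := exists_common_affine u v hv.symm
    have : Algebra.Etale (Rg G) (RA g₁) := etale_RA g₁
    let q : Ideal (RA g₁) := pR F' w
    have : q.IsPrime := (inferInstance : (pR F' w).IsPrime)
    rw [← show q.comap (algebraMap (Rg G) (RA g₁)) = pR G (g₁.hom.left.left w) from comap_rs_pR g₁ w] at hp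
    have h1 := mem_minimalPrimes_tmul (S := RA g₁) (q := q) hp
    refine ‹q.IsPrime›.ne_top ((Ideal.eq_top_iff_one _).2 (h1.1.2 ?_))
    rw [annEl_bc M g₁ hG hF']
    refine (WeakAss.mem_annEl (R := Rg F') (M := SA M (𝟙 F'))).2 ?_
    have h0 : bc M g₁ ((1 : RA g₁) ⊗ₜ a) = 0 := by
      rw [bc_tmul, one_smul]
      show M.val.map g₁.op (d G) = 0
      rw [hd g₁, ← hd g₂, hdE]
      exact map_zero (M.val.map g₂.op).hom
    rw [h0]
    exact smul_zero _
  refine sub_eq_zero.1 (?_ : d F = 0)
  choose W hW hxW _ using fun x : ↥F.obj.left.left => exists_isAffineOpen_mem_and_subset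
    (U := (⊤ : F.obj.left.left.Opens)) (x := x) trivial
  refine ext_of_cover' M (κ := ↥F.obj.left.left) (fun x => etOpenι F (W x))
    (AlgSp.ofArrows_mem_etTop _ _ fun x => ⟨x, by rw [range_etOpenι]; exact hxW x⟩) fun x => ?_
  rw [hd, key (etOpen F (W x)) (hW x)]
  exact (map_zero (M.val.map (etOpenι F (W x)).op).hom).symm

end Groth.Agent.S10817
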