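import Groth.Statements.S10844
import Groth.Agent.QCoh.AnnIdeal
import Groth.Agent.QCoh.Tilde
import Groth.Agent.QCoh.DevissageP
import Groth.Agent.LimMod.Exact
import Groth.Agent.QCoh.Support

set_option autoImplicit false
universe u
open RepF

namespace Groth.Agent.S10844
set_option linter.style.haveILetI false
set_option maxHeartbeats 1000000
open Groth.Agent CategoryTheory CategoryTheory.Limits AlgebraicGeometry

theorem isZero_of_support_empty {X : Scheme.{u}} {G : X.Modules} (hG : Coh.IsQCoh G) (h : CohB1.support G = ∅) :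
    IsZero G := by
  choose U hU hxU using fun x : X => QCoh.exists_affine_mem x
  refine QCoh.isZero_of_cover hG U hU (fun x => ⟨x, hxU x⟩) fun x => subsingleton_of_forall_eq 0 fun m => ?_
  refine QCoh.eq_zero_of_locally _ _ fun y hy => ?_
  have hny : y ∉ CohB1.support G := by rw [h]; exact Set.notMem_empty y
  obtain ⟨f, hf, hf0⟩ := (QCoh.notMem_support_iff hG (hU x) hy).1 hny m
  exact ⟨_, homOfLE (X.basicOpen_le f), hf, QCoh.res_eq_zero_of_smul_eq_zero _ f le_rfl _ hf0⟩


open AlgebraicGeometry CategoryTheory in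
/-- For a scheme S and a homomorphism v : E → F of quasi-coherent O_S-modules with F of finite type,
there is an open subscheme U of S such that a morphism of schemes f : T → S factors through U (its
image lies in U) if and only if the pulled-back homomorphism f^*v : f^*E → f^*F is an epimorphism. -/
theorem result {S : Scheme.{u}} {E F : S.Modules}
    [Coh.IsQCoh E] [Coh.IsQCoh F] (hF : CohB1.IsFT F) (v : E ⟶ F) :
    ∃ U : S.Opens, ∀ (T : Scheme.{u}) (f : T ⟶ S),
      Set.range f.base ⊆ (U : Set S) ↔ Epi ((Scheme.Modules.pullback f).map v) := by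
  have hC : Coh.IsQCoh (cokernel v) := QCoh.isQCoh_cokernel ‹_› ‹_› v
  have hft : CohB1.IsFT (cokernel v) := LimMod.isFT_cokernel ‹_› ‹_› hF v
  refine ⟨⟨(CohB1.support (cokernel v))ᶜ, (QCoh.isClosed_support_of_isFT hC hft).isOpen_compl⟩, fun T f => ?_⟩
  let P := Scheme.Modules.pullback f
  haveI : Limits.PreservesColimitsOfSize.{0, 0} P :=
    (Scheme.Modules.pullbackPushforwardAdjunction f).leftAdjoint_preservesColimits
  let e := Limits.PreservesCokernel.iso P v
  have hC' : Coh.IsQCoh (P.obj (cokernel v)) := QCoh.isQCoh_pullback f hC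
  have h1 : Epi (P.map v) ↔ Limits.IsZero (P.obj (cokernel v)) := by
    refine ⟨fun _ => (Limits.isZero_cokernel_of_epi (P.map v)).of_iso e, fun h => ?_⟩
    exact Preadditive.epi_of_isZero_cokernel (P.map v) (h.of_iso e.symm)
  rw [h1]
  have hs := QCoh.support_pullback f hC hft
  constructor
  · intro h
    refine isZero_of_support_empty hC' (hs.trans (Set.eq_empty_of_forall_notMem fun t ht => ?_))
    exact h ⟨t, rfl⟩ ht
  · rintro h _ ⟨t, rfl⟩ ht
    have h0 := QCoh.support_eq_empty_of_isZero h hC'
    exact Set.eq_empty_iff_forall_notMem.1 (hs.symm.trans h0) t ht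

end Groth.Agent.S10844
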