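import Groth.Statements.S10847
import Groth.Agent.FittX.Sheaf
-- import your own Groth.Agent.* helpers here

set_option autoImplicit false
universe u
open FlatMod

namespace Groth.Agent.S10847

open AlgebraicGeometry CategoryTheory in
/-- Let X be a scheme, F a finite-type quasi-coherent O_X-module and r a natural number. Then there is
an immersion i : Z → X (a subscheme of X) such that a morphism of schemes f : T → X factors through
i if and only if the pullback f^*F is finite locally free of rank r. -/
theorem result {X : Scheme.{u}} (F : X.Modules)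
    [Coh.IsQCoh F] (hF : CohB1.IsFT F) (r : ℕ) :
    ∃ (Z : Scheme.{u}) (i : Z ⟶ X), IsImmersion i ∧ ∀ (T : Scheme.{u}) (f : T ⟶ X),
      (∃ g : T ⟶ Z, g ≫ i = f) ↔ FlatMod.IsFinLocFreeOfRank r ((Scheme.Modules.pullback f).obj F) := by
  classical
  have hq : Coh.IsQCoh F := ‹_›
  let J : X.IdealSheafData := match r with | 0 => ⊥ | r' + 1 => Fitt.sheafIdeal F r'
  let U : X.Opens := ⟨((Fitt.sheafIdeal F r).support : Set X)ᶜ, (Fitt.sheafIdeal F r).support.isClosed.isOpen_compl⟩
  let e := Limits.pullback.fst J.subschemeι U.ι ≫ J.subschemeι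
  refine ⟨_, e, inferInstance, fun T g => ?_⟩
  rw [Groth.Agent.FittX.isFinLocFreeOfRank_iff (Groth.Agent.QCoh.isQCoh_pullback g hq)
    (Groth.Agent.FittX.isFT_pullback g hq hF)]
  simp only [← Groth.Agent.FittX.sheafIdeal_comap g hq hF]
  have hmono : ∀ {a b : ℕ}, a ≤ b → Fitt.sheafIdeal F a ≤ Fitt.sheafIdeal F b := fun {a b} hab =>
    Scheme.IdealSheafData.le_def.2 fun V => by
      haveI := Groth.Agent.QCoh.finite_of_isFT hq hF V.2
      rw [Groth.Agent.FittX.sheafIdeal_ideal hq hF, Groth.Agent.FittX.sheafIdeal_ideal hq hF]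
      exact Groth.Agent.FittX.ideal_mono hab
  have hJ : (∀ k, k < r → (Fitt.sheafIdeal F k).comap g = ⊥) ↔ J ≤ g.ker := by
    rw [← Scheme.IdealSheafData.map_bot, Scheme.IdealSheafData.le_map_iff_comap_le, le_bot_iff]
    cases r with
    | zero => exact ⟨fun _ => Scheme.IdealSheafData.comap_bot _, fun _ k hk => absurd hk (by omega)⟩
    | succ r' =>
      refine ⟨fun h => h r' (by omega), fun h k hk => le_bot_iff.1 ?_⟩
      rw [← h]
      exact (Scheme.IdealSheafData.map_gc g).monotone_l (hmono (by omega))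
  have hU : (∀ k, r ≤ k → (Fitt.sheafIdeal F k).comap g = ⊤) ↔ Set.range g ⊆ (U : Set X) := by
    constructor
    · rintro h _ ⟨t, rfl⟩ ht
      have h' := congrArg (fun I : T.IdealSheafData => (I.support : Set T)) (h r le_rfl)
      simp only [Scheme.IdealSheafData.support_comap, Scheme.IdealSheafData.support_top] at h'
      have : t ∈ g ⁻¹' ((Fitt.sheafIdeal F r).support : Set X) := ht
      simpa using (Set.ext_iff.1 h' t).1 this
    · intro h k hk
      refine top_le_iff.1 (le_trans ?_ ((Scheme.IdealSheafData.map_gc g).monotone_l (hmono hk)))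
      rw [top_le_iff, ← Scheme.IdealSheafData.support_eq_bot_iff]
      refine TopologicalSpace.Closeds.ext ?_
      rw [Scheme.IdealSheafData.support_comap]
      exact Set.eq_empty_iff_forall_notMem.2 fun t ht => h ⟨t, rfl⟩ ht
  rw [hJ, hU]
  constructor
  · rintro ⟨g', rfl⟩
    refine ⟨?_, ?_⟩
    · calc J = J.subschemeι.ker := J.ker_subschemeι.symm
        _ ≤ ((g' ≫ Limits.pullback.fst J.subschemeι U.ι) ≫ J.subschemeι).ker := Scheme.Hom.le_ker_comp _ _
        _ = _ := by rw [Category.assoc]
    · rintro _ ⟨t, rfl⟩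
      show (g' ≫ Limits.pullback.fst J.subschemeι U.ι ≫ J.subschemeι) t ∈ (U : Set X)
      rw [Limits.pullback.condition, ← Category.assoc, Scheme.Hom.comp_apply]
      exact ((g' ≫ Limits.pullback.snd J.subschemeι U.ι) t).2
  · rintro ⟨h1, h2⟩
    haveI : IsClosedImmersion J.subschemeι := inferInstance
    let a := IsClosedImmersion.lift J.subschemeι g (by rw [Scheme.IdealSheafData.ker_subschemeι]; exact h1)
    let b := IsOpenImmersion.lift U.ι g (by rw [Scheme.Opens.range_ι]; exact h2)
    refine ⟨Limits.pullback.lift a b (by rw [IsClosedImmersion.lift_fac, IsOpenImmersion.lift_fac]), ?_⟩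
    rw [Limits.pullback.lift_fst_assoc, IsClosedImmersion.lift_fac]

end Groth.Agent.S10847
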