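import Groth.Statements.S10850
import Groth.Agent.S15187
import Groth.Agent.SBSplit.Iso
import Groth.Agent.CSAType.SBExist
-- import your own Groth.Agent.* helpers here

set_option autoImplicit false
universe u
open ProjAut

namespace Groth.Agent.S10850

open AlgebraicGeometry CategoryTheory in
/-- Let k be a field and n a natural number. There is a surjective group homomorphism from GL_{n+1}(k)
onto the group of automorphisms of projective n-space P^n_k over Spec k whose kernel is the subgroup
of invertible scalar matrices; so the automorphism group of P^n_k over k is isomorphic to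
PGL_{n+1}(k). (Only the existence of a surjective homomorphism with this kernel is asserted here;
the published statement is about the homomorphism induced by linear substitutions of the homogeneous
coordinates.) -/
theorem result
    (k : Type u) [Field k] (n : ℕ) :
    ∃ φ : Matrix.GeneralLinearGroup (Fin (n + 1)) k →* Aut (Over.mk (CohB1.ProjSpace.toSpec n k)),
      Function.Surjective φ ∧
        φ.ker = (Units.map (Matrix.scalar (Fin (n + 1)) : k →+* Matrix (Fin (n + 1)) (Fin (n + 1)) k).toMonoidHom).range := by
    let A := Matrix (Fin (n + 1)) (Fin (n + 1)) k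
    have hA : Module.finrank k A = (n + 1) * (n + 1) := by
      rw [Module.finrank_matrix, Fintype.card_fin, Module.finrank_self, mul_one]
    obtain ⟨X, f, hX⟩ := Groth.Agent.CSAType.exists_sb k A ((n + 1) * (n + 1) - (n + 1))
    haveI : Algebra.IsCentral k A := inferInstance
    haveI : IsSimpleRing A := inferInstance
    obtain ⟨ξ, hs, hk⟩ := Groth.Agent.S15187.result k A (n + 1) n.succ_pos hA f hX
    obtain ⟨s⟩ := hX
    obtain ⟨e⟩ := Groth.Agent.SBSplit.exists_splitting (K := k) (Algebra.TensorProduct.lid k A) hA s
    let g := Spec.map (CommRingCat.ofHom (algebraMap k k))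
    haveI : IsIso g := by
      show IsIso (Spec.map (𝟙 (CommRingCat.of k)))
      infer_instance
    have hg : g = 𝟙 _ := Spec.map_id _
    let ι : Over.mk f ≅ Over.mk (CohB1.ProjSpace.toSpec n k) :=
      Over.isoMk ((asIso (BrSev.proj f k)).symm ≪≫ e.iso) (by
        show (inv (BrSev.proj f k) ≫ e.iso.hom) ≫ CohB1.ProjSpace.toSpec n k = f
        rw [Category.assoc, e.comm, IsIso.inv_comp_eq]
        exact (Category.comp_id _).symm.trans ((congrArg (_ ≫ ·) hg.symm).trans Limits.pullback.condition.symm))
    refine ⟨ι.conjAut.toMonoidHom.comp ξ, ι.conjAut.surjective.comp hs, ?_⟩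
    have h1 : (ι.conjAut.toMonoidHom.comp ξ).ker = ξ.ker := by
      ext u
      simp only [MonoidHom.mem_ker, MonoidHom.comp_apply]
      exact ι.conjAut.map_eq_one_iff
    rw [h1, hk]
    rfl

end Groth.Agent.S10850
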