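import Groth.Statements.S10857
import Groth.Agent.AmpleFamGen.Basic
import Groth.Agent.KFlatLib.Scheme.Exact
import Groth.Agent.LimMod.Exact
import Groth.Agent.QCoh.SupportFT
import Groth.Agent.QCoh.Stalk
-- import your own Groth.Agent.* helpers here

set_option autoImplicit false
universe u
open QCohSup

namespace Groth.Agent.S10857

open AlgebraicGeometry CategoryTheory CategoryTheory.Limits in
/-- Take a quasi-compact scheme X, a finite-type quasi-coherent O_X-module F, and G a quasi-coherent
O_X-module which is the colimit of a filtered diagram of quasi-coherent O_X-modules G_j. A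
homomorphism u : G → F is an epimorphism if and only if there is an index j₀ such that for every
index j admitting a map from j₀ the composite G_j → G → F is an epimorphism. -/
theorem result {X : Scheme.{u}} [CompactSpace X]
    {J : Type u} [SmallCategory J] [IsFiltered J] (D : J ⥤ X.Modules) [∀ j, Coh.IsQCoh (D.obj j)]
    (c : Cocone D) (hc : IsColimit c) [Coh.IsQCoh c.pt]
    (F : X.Modules) [Coh.IsQCoh F] (hF : CohB1.IsFT F) (u : c.pt ⟶ F) :
    Epi u ↔ ∃ j₀ : J, ∀ j : J, Nonempty (j₀ ⟶ j) → Epi (c.ι.app j ≫ u) := by
  open Groth.Agent CategoryTheory.Limits in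
    classical
    constructor
    · intro hu
      let v : ∀ j : J, D.obj j ⟶ F := fun j => c.ι.app j ≫ u
      let W : J → Set X := fun j => (CohB1.support (cokernel (v j)))ᶜ
      have hW : ∀ j, IsOpen (W j) := fun j => (QCoh.isClosed_support_of_ft
        (LimMod.isFT_cokernel (inferInstanceAs (Coh.IsQCoh (D.obj j))) ‹Coh.IsQCoh F› hF (v j))).isOpen_compl
      have hWsurj : ∀ j, ∀ x ∈ W j, Epi ((DerSch.stalkFunctor X x).map (v j)) := fun j x hx => by
        have hs : Subsingleton ((cokernel (v j)).presheaf.stalk x) := by_contra fun h => hx h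
        have hz : IsZero ((DerSch.stalkFunctor X x).obj (cokernel (v j))) :=
          @ModuleCat.isZero_of_subsingleton _ _ _ hs
        refine Preadditive.epi_of_cancel_zero _ fun g hg => ?_
        have hcol := isColimitCoforkMapOfIsColimit' (DerSch.stalkFunctor X x) (cokernel.condition (v j))
          (cokernelIsCokernel (v j))
        exact (CokernelCofork.IsColimit.desc' hcol g hg).2.symm.trans ((congrArg (· ≫ _) (hz.eq_of_tgt _ 0)).trans zero_comp)
      have hcov : ∀ x : X, ∃ j, x ∈ W j := fun x => by
        haveI : Epi ((DerSch.stalkFunctor X x).map u) := inferInstance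
        have hsu := (ModuleCat.epi_iff_surjective _).1 this
        obtain ⟨s, hs⟩ := (QCoh.finite_stalk_of_isFT ‹Coh.IsQCoh F› hF x).fg_top
        let hcx := isColimitOfPreserves (DerSch.stalkFunctor X x) hc
        have hrep : ∀ y : (DerSch.stalkFunctor X x).obj F, ∃ (j : J) (a : (DerSch.stalkFunctor X x).obj (D.obj j)),
            (DerSch.stalkFunctor X x).map (v j) a = y := fun y => by
          obtain ⟨z, rfl⟩ := hsu y
          obtain ⟨j, a, rfl⟩ := Concrete.isColimit_exists_rep _ hcx z
          exact ⟨j, a, by rw [show v j = c.ι.app j ≫ u from rfl, Functor.map_comp]; rfl⟩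
        choose jf af hf using hrep
        obtain ⟨j, hj⟩ := IsFiltered.sup_objs_exists (s.image jf)
        refine ⟨j, fun hmem => hmem ?_⟩
        have htop : LinearMap.range ((DerSch.stalkFunctor X x).map (v j)).hom = ⊤ := by
          refine top_unique (hs.ge.trans (Submodule.span_le.2 ?_))
          intro y hy
          obtain ⟨m⟩ := hj (Finset.mem_image_of_mem jf hy)
          refine ⟨(DerSch.stalkFunctor X x).map (D.map m) (af y), ?_⟩
          show ((DerSch.stalkFunctor X x).map (D.map m) ≫ (DerSch.stalkFunctor X x).map (v j)) (af y) = y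
          rw [← Functor.map_comp, show D.map m ≫ v j = v (jf y) by rw [← Category.assoc]; exact congrArg (· ≫ u) (c.w m)]
          exact hf y
        haveI : Epi ((DerSch.stalkFunctor X x).map (v j)) := (ModuleCat.epi_iff_range_eq_top _).2 htop
        have hz : (DerSch.stalkFunctor X x).map (cokernel.π (v j)) = 0 := by
          rw [← cancel_epi ((DerSch.stalkFunctor X x).map (v j)), ← Functor.map_comp, cokernel.condition,
            Functor.map_zero, comp_zero]
        have hπ : Epi ((DerSch.stalkFunctor X x).map (cokernel.π (v j))) := inferInstance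
        rw [hz] at hπ
        exact ModuleCat.subsingleton_of_isZero ((IsZero.iff_id_eq_zero _).2 ((cancel_epi (f := (0 : (DerSch.stalkFunctor X x).obj F ⟶ (DerSch.stalkFunctor X x).obj (cokernel (v j))))).1 (by rw [zero_comp, zero_comp])))
      obtain ⟨t, ht⟩ := isCompact_univ.elim_finite_subcover W hW (fun x _ => Set.mem_iUnion.2 (hcov x))
      obtain ⟨j₀, hj₀⟩ := IsFiltered.sup_objs_exists t
      have h0 : Epi (v j₀) := AmpleFamGen.epi_of_stalk _ fun x => by
        obtain ⟨i, hi, hx⟩ := Set.mem_iUnion₂.1 (ht (Set.mem_univ x))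
        obtain ⟨m⟩ := hj₀ hi
        haveI := hWsurj i x hx
        refine epi_of_epi_fac (f := (DerSch.stalkFunctor X x).map (D.map m)) (h := (DerSch.stalkFunctor X x).map (v i)) ?_
        rw [← Functor.map_comp, ← Category.assoc]
        exact congrArg (fun φ => (DerSch.stalkFunctor X x).map (φ ≫ u)) (c.w m)
      refine ⟨j₀, fun j ⟨m⟩ => ?_⟩
      exact epi_of_epi_fac (f := D.map m) (h := v j₀) (by rw [← Category.assoc]; exact congrArg (· ≫ u) (c.w m))
    · rintro ⟨j₀, h⟩
      haveI := h j₀ ⟨𝟙 _⟩
      exact epi_of_epi (c.ι.app j₀) u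

end Groth.Agent.S10857
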