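import Groth.Statements.S10863
import Mathlib

set_option autoImplicit false
set_option linter.style.haveILetI false
universe u
open CAlg

open scoped TensorProduct

namespace Groth.Agent.S10863

/-- Algebra maps to a field factor uniquely through a residue field. -/
theorem exists_unique_residue (F R Ω : Type u) [Field F] [CommRing R] [Algebra F R] [Module.Finite F R]
    [Field Ω] [Algebra F Ω] :
    Function.Bijective (fun s : Σ m : MaximalSpectrum R, (m.asIdeal.ResidueField →ₐ[F] Ω) =>
      s.2.comp (IsScalarTower.toAlgHom F R s.1.asIdeal.ResidueField)) := by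
  have hker : ∀ (m : MaximalSpectrum R) (g : m.asIdeal.ResidueField →ₐ[F] Ω),
      RingHom.ker (g.comp (IsScalarTower.toAlgHom F R m.asIdeal.ResidueField)) = m.asIdeal := fun m g => by
    ext r
    rw [RingHom.mem_ker]
    show g (algebraMap R m.asIdeal.ResidueField r) = 0 ↔ _
    rw [map_eq_zero_iff g g.toRingHom.injective, Ideal.algebraMap_residueField_eq_zero]
  constructor
  · rintro ⟨m, g⟩ ⟨m', g'⟩ h
    obtain rfl : m = m' := MaximalSpectrum.ext (by
      rw [← hker m g, ← hker m' g']
      exact congrArg RingHom.ker h)
    congr 1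
    refine AlgHom.ext fun z => ?_
    obtain ⟨q, rfl⟩ := (Ideal.bijective_algebraMap_quotient_residueField m.asIdeal).2 z
    obtain ⟨r, rfl⟩ := Ideal.Quotient.mk_surjective q
    exact DFunLike.congr_fun h r
  · intro f
    haveI : IsArtinianRing R := IsArtinianRing.of_finite F R
    haveI : (RingHom.ker f).IsPrime := RingHom.ker_isPrime f
    let m : MaximalSpectrum R := ⟨RingHom.ker f, IsArtinianRing.isMaximal_of_isPrime _⟩
    let e : (R ⧸ m.asIdeal) ≃ₐ[F] m.asIdeal.ResidueField :=
      AlgEquiv.ofBijective (IsScalarTower.toAlgHom F (R ⧸ m.asIdeal) m.asIdeal.ResidueField)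
        (Ideal.bijective_algebraMap_quotient_residueField m.asIdeal)
    refine ⟨⟨m, (Ideal.Quotient.liftₐ m.asIdeal f fun r hr => hr).comp e.symm.toAlgHom⟩, AlgHom.ext fun r => ?_⟩
    show Ideal.Quotient.liftₐ m.asIdeal f (fun r hr => hr) (e.symm (algebraMap R m.asIdeal.ResidueField r)) = f r
    rw [show algebraMap R m.asIdeal.ResidueField r = e (Ideal.Quotient.mk m.asIdeal r) from
      IsScalarTower.algebraMap_apply R (R ⧸ m.asIdeal) m.asIdeal.ResidueField r, e.symm_apply_apply]
    rfl

/-- The number of algebra maps to an algebraically closed field. -/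
theorem natCard_algHom_eq_finsum (F R Ω : Type u) [Field F] [CommRing R] [Algebra F R] [Module.Finite F R]
    [Field Ω] [Algebra F Ω] [IsAlgClosed Ω] :
    Nat.card (R →ₐ[F] Ω) = ∑ᶠ m : MaximalSpectrum R, Field.finSepDegree F m.asIdeal.ResidueField := by
  haveI : IsArtinianRing R := IsArtinianRing.of_finite F R
  haveI : Fintype (MaximalSpectrum R) := Fintype.ofFinite _
  haveI : ∀ m : MaximalSpectrum R, Module.Finite F m.asIdeal.ResidueField := fun m =>
    Module.Finite.of_surjective (IsScalarTower.toAlgHom F (R ⧸ m.asIdeal) m.asIdeal.ResidueField).toLinearMap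
      (Ideal.bijective_algebraMap_quotient_residueField m.asIdeal).2
  haveI : ∀ m : MaximalSpectrum R, Finite (m.asIdeal.ResidueField →ₐ[F] Ω) := fun m => inferInstance
  rw [← Nat.card_congr (Equiv.ofBijective _ (exists_unique_residue F R Ω)), Nat.card_sigma,
    finsum_eq_sum_of_fintype]
  exact Finset.sum_congr rfl fun m _ => (Field.finSepDegree_eq_of_isAlgClosed F m.asIdeal.ResidueField Ω).symm

open TensorProduct in
/-- Let k be a field, A a finite-dimensional local k-algebra with residue field κ, and k' a field
extension of k. Then the separable degree of κ over k equals the sum over the maximal ideals m' of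
k' ⊗_k A (the points of the base-changed finite scheme lying over the given point) of the separable
degrees over k' of their residue fields. -/
theorem result (k A k' : Type u) [Field k] [CommRing A] [Algebra k A]
    [Module.Finite k A] [IsLocalRing A] [Field k'] [Algebra k k'] :
    Field.finSepDegree k (IsLocalRing.ResidueField A) =
      ∑ᶠ m : MaximalSpectrum (k' ⊗[k] A),
        Field.finSepDegree k' (IsLocalRing.ResidueField (Localization.AtPrime m.asIdeal)) := by
  let Ω := AlgebraicClosure k'
  let R := k' ⊗[k] A
  haveI : Module.Finite k' R := inferInstance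
  have h1 : Nat.card (R →ₐ[k'] Ω) = Nat.card (A →ₐ[k] Ω) := by
    exact (Nat.card_congr (Algebra.TensorProduct.liftEquivRight k k' A Ω)).symm
  haveI : IsArtinianRing A := IsArtinianRing.of_finite k A
  haveI : Subsingleton (MaximalSpectrum A) := ⟨fun a b => MaximalSpectrum.ext
    ((IsLocalRing.eq_maximalIdeal a.isMaximal).trans (IsLocalRing.eq_maximalIdeal b.isMaximal).symm)⟩
  let m₀ : MaximalSpectrum A := ⟨IsLocalRing.maximalIdeal A, inferInstance⟩
  haveI : Unique (MaximalSpectrum A) := uniqueOfSubsingleton m₀
  have h2 := natCard_algHom_eq_finsum k A Ω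
  rw [finsum_unique] at h2
  rw [← h1, natCard_algHom_eq_finsum k' R Ω] at h2
  refine Eq.trans ?_ h2.symm
  rw [show (default : MaximalSpectrum A) = m₀ from Subsingleton.elim _ _]
  exact Field.finSepDegree_eq_of_equiv _ _ _ ((AlgEquiv.ofBijective
    (IsScalarTower.toAlgHom k (A ⧸ IsLocalRing.maximalIdeal A) (IsLocalRing.maximalIdeal A).ResidueField)
    (Ideal.bijective_algebraMap_quotient_residueField _)))

end Groth.Agent.S10863
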