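import Groth.Statements.S10866
import Groth.Agent.S10865
import Groth.Agent.KZ.CohClass
import Groth.Agent.SheafHomX.Coherent
import Groth.Agent.QCoh.Qcqs
import Groth.Agent.KFlatLib.Scheme.Exact

set_option linter.style.haveILetI false

set_option autoImplicit false
universe u
open Coherent

namespace Groth.Agent.S10866

open CategoryTheory AlgebraicGeometry in
/-- Let f : X → Y be a morphism of Noetherian schemes such that for every integral closed subscheme i :
Z → X there is a coherent O_Z-module with nonzero stalk at the generic point of Z whose direct image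
under i followed by f is coherent on Y. Then the direct image f_*F of every coherent O_X-module F is
coherent. -/
theorem result {X Y : Scheme.{u}} [IsNoetherian X] [IsNoetherian Y]
    (f : X ⟶ Y)
    (hgen : ∀ (Z : Scheme.{u}) (i : Z ⟶ X) [IsClosedImmersion i] [IsIntegral Z],
      ∃ H : Z.Modules, Coh.IsCoh H ∧ Nontrivial (H.presheaf.stalk (genericPoint Z)) ∧
        Coh.IsCoh ((Scheme.Modules.pushforward (i ≫ f)).obj H))
    (F : X.Modules) (hF : Coh.IsCoh F) : Coh.IsCoh ((Scheme.Modules.pushforward f).obj F) := by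
  haveI : QuasiSeparated f := by
    haveI : QuasiSeparatedSpace X := inferInstance
    exact (quasiSeparated_iff_quasiSeparatedSpace f).2 inferInstance
  haveI : QuasiCompact f := inferInstance
  haveI : Limits.PreservesLimitsOfSize.{0, 0} (Scheme.Modules.pushforward f) :=
    (Scheme.Modules.pullbackPushforwardAdjunction f).rightAdjoint_preservesLimits
  haveI : (Scheme.Modules.pushforward f).Additive := Functor.additive_of_preserves_binary_products _
  have hq : ∀ M : X.Modules, Coh.IsCoh M → Coh.IsQCoh ((Scheme.Modules.pushforward f).obj M) := fun M hM =>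
    Groth.Agent.QCoh.isQCoh_pushforward f hM.1
  rcases isEmpty_or_nonempty X with he | hne
  · haveI : IsIso (0 : F ⟶ F) := Groth.Agent.KFlatLib.isIso_of_stalk _ fun x => isEmptyElim x
    have h0 : Limits.IsZero ((Scheme.Modules.pushforward f).obj F) := by
      refine Functor.map_isZero _ ((Limits.IsZero.iff_id_eq_zero F).2 ?_)
      rw [← cancel_epi (0 : F ⟶ F), Limits.zero_comp, Limits.zero_comp]
    haveI : Mono (0 : (Scheme.Modules.pushforward f).obj F ⟶ Coh.structureModule Y) :=
      ⟨fun g h _ => h0.eq_of_tgt g h⟩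
    exact Groth.Agent.QCoh.isCoh_of_mono (0 : _ ⟶ Coh.structureModule Y) Groth.Agent.QCoh.isCoh_structureModule'
      (hq F hF)
  let K : ObjectProperty X.Modules := fun M => Coh.IsCoh ((Scheme.Modules.pushforward f).obj M)
  haveI : K.IsClosedUnderIsomorphisms :=
    ⟨fun e h => Groth.Agent.SheafHomX.isCoh_of_iso ((Scheme.Modules.pushforward f).mapIso e) h⟩
  refine Groth.Agent.S10865.result X K (fun S hS h1 h2 h3 => ?_) (fun M d hd hM hK => ?_) (fun Z i _ _ => ?_) F hF
  · let g' := (Scheme.Modules.pushforward f).map S.g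
    let e : (Scheme.Modules.pushforward f).obj S.X₁ ≅ Limits.kernel g' :=
      (Scheme.Modules.pushforward f).mapIso (hS.fIsKernel.conePointUniqueUpToIso (Limits.kernelIsKernel S.g)) ≪≫
        Limits.PreservesKernel.iso _ _
    refine ⟨fun k2 k3 => Groth.Agent.SheafHomX.isCoh_of_iso e.symm (Groth.Agent.QCoh.isCoh_kernel k2 k3 g'),
      fun k1 k3 => ?_⟩
    have hI : Coh.IsCoh (Abelian.image g') := Groth.Agent.QCoh.isCoh_of_mono (Abelian.image.ι g') k3
      (Groth.Agent.QCoh.isQCoh_kernel k3.1 (Groth.Agent.QCoh.isQCoh_cokernel (hq _ h2) k3.1 g') _)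
    let T : ShortComplex Y.Modules := ShortComplex.mk (Limits.kernel.ι g') (Abelian.factorThruImage g') (by
      rw [← cancel_mono (Abelian.image.ι g'), Category.assoc, Abelian.image.fac, Limits.kernel.condition,
        Limits.zero_comp])
    have hT : T.ShortExact := ShortComplex.ShortExact.mk' (ShortComplex.exact_of_f_is_kernel _
      (Limits.isKernelOfComp (f := Abelian.factorThruImage g') (Abelian.image.ι g') g' (Limits.kernelIsKernel g')
        T.zero (Abelian.image.fac g'))) inferInstance inferInstance
    exact Groth.Agent.KZ.isCoh_X₂ hT (Groth.Agent.SheafHomX.isCoh_of_iso e k1) hI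
  · let j : M ⟶ ∐ fun _ : Fin d => M := Limits.Sigma.ι (fun _ : Fin d => M) ⟨0, hd⟩
    haveI : IsSplitMono j := ⟨⟨⟨Limits.Sigma.desc fun _ => 𝟙 M, Limits.Sigma.ι_desc _ _⟩⟩⟩
    exact Groth.Agent.QCoh.isCoh_of_mono ((Scheme.Modules.pushforward f).map j) hK (hq M hM)
  · obtain ⟨H, hH, hnt, hc⟩ := hgen Z i
    exact ⟨H, hH, hnt, Groth.Agent.SheafHomX.isCoh_of_iso ((Scheme.Modules.pushforwardComp i f).app H).symm hc⟩

end Groth.Agent.S10866
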