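import Groth.Statements.S10869
import Groth.Agent.AmpleX.CounitEpi
import Groth.Agent.AmpleX.QAGenerated
import Groth.Agent.QCoh.Qcqs
import Groth.Agent.QCoh.Pullback
-- import your own Groth.Agent.* helpers here

set_option autoImplicit false
universe u
open Coh

namespace Groth.Agent.S10869

open CategoryTheory AlgebraicGeometry in
/-- For f : X → S quasi-compact and quasi-separated and F a quasi-coherent O_X-module, the counit
f^*f_*F → F is an epimorphism iff F is a quotient of f^*G for some quasi-coherent O_S-module G, iff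
the restriction of F to the inverse image of every affine open of S is globally generated. -/
theorem result {X S : Scheme.{u}} (f : X ⟶ S) [QuasiCompact f] [QuasiSeparated f]
    (F : X.Modules) (hF : Coh.IsQCoh F) :
    (Epi ((Scheme.Modules.pullbackPushforwardAdjunction f).counit.app F) ↔
      ∃ G : S.Modules, Coh.IsQCoh G ∧ ∃ φ : (Scheme.Modules.pullback f).obj G ⟶ F, Epi φ) ∧
    (Epi ((Scheme.Modules.pullbackPushforwardAdjunction f).counit.app F) ↔
      ∀ U : S.Opens, IsAffineOpen U → Curv2.IsGloballyGenerated (F.restrict (f ⁻¹ᵁ U).ι)) := by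
    let adj := Scheme.Modules.pullbackPushforwardAdjunction f
    have hG : Coh.IsQCoh ((Scheme.Modules.pushforward f).obj F) := Groth.Agent.QCoh.isQCoh_pushforward f hF
    have h21 : (∃ G : S.Modules, Coh.IsQCoh G ∧ ∃ φ : (Scheme.Modules.pullback f).obj G ⟶ F, Epi φ) →
        Epi (adj.counit.app F) := by
      rintro ⟨G, -, φ, hφ⟩
      have e : (Scheme.Modules.pullback f).map (adj.homEquiv G F φ) ≫ adj.counit.app F = φ :=
        (adj.homEquiv_counit G F _).symm.trans ((adj.homEquiv G F).symm_apply_apply φ)
      exact @epi_of_epi_fac _ _ _ _ _ _ _ _ hφ e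
    refine ⟨⟨fun h => ⟨_, hG, adj.counit.app F, h⟩, h21⟩, fun h U hU => ?_, fun h => ?_⟩
    · haveI : IsAffine (U : Scheme.{u}) := hU
      let j := (f ⁻¹ᵁ U).ι
      obtain ⟨σ, p, hp⟩ := Groth.Agent.AmpleX.isGloballyGenerated_of_isQuasiAffine
        (Groth.Agent.QCoh.isQCoh_pullback U.ι hG)
      let fU := f ∣_ U
      let e : (Scheme.Modules.pullback fU).obj ((Scheme.Modules.pullback U.ι).obj ((Scheme.Modules.pushforward f).obj F)) ≅
          (Scheme.Modules.pullback j).obj ((Scheme.Modules.pullback f).obj ((Scheme.Modules.pushforward f).obj F)) :=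
        (Scheme.Modules.pullbackComp fU U.ι).app _ ≪≫ (Scheme.Modules.pullbackCongr (morphismRestrict_ι f U)).app _ ≪≫
          ((Scheme.Modules.pullbackComp j f).app _).symm
      haveI := (Scheme.Modules.pullbackPushforwardAdjunction j).leftAdjoint_preservesColimits
      haveI := (Scheme.Modules.pullbackPushforwardAdjunction fU).leftAdjoint_preservesColimits
      haveI : Epi p := hp
      haveI : Epi (adj.counit.app F) := h
      haveI : (SheafOfModules.pushforward.{u} fU.toRingCatSheafHom).IsRightAdjoint :=
        (Scheme.Modules.pullbackPushforwardAdjunction fU).isRightAdjoint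
      let q : (SheafOfModules.free σ : (↑(f ⁻¹ᵁ U) : Scheme.{u}).Modules) ⟶ F.restrict j :=
        (SheafOfModules.pullbackObjFreeIso fU.toRingCatSheafHom σ).inv ≫ (Scheme.Modules.pullback fU).map p ≫ e.hom ≫
          (Scheme.Modules.pullback j).map (adj.counit.app F) ≫ ((Scheme.Modules.restrictFunctorIsoPullback j).app F).inv
      exact ⟨σ, q, @epi_comp _ _ _ _ _ _ inferInstance _ (@epi_comp _ _ _ _ _ _ (@Functor.map_epi _ _ _ _ (Scheme.Modules.pullback fU) _ _ _ p hp) _
        (@epi_comp _ _ _ _ _ _ inferInstance _ (@epi_comp _ _ _ _ _ _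
          ((Scheme.Modules.pullback j).map_epi (adj.counit.app F)) _ inferInstance)))⟩
    · exact Groth.Agent.AmpleX.epi_counit_of_generated (fun U : S.affineOpens => U.1) (fun x => by
        obtain ⟨W, hW, hx, -⟩ := exists_isAffineOpen_mem_and_subset (x := f x) (U := ⊤) trivial
        exact ⟨⟨W, hW⟩, hx⟩) fun U => h U.1 U.2

end Groth.Agent.S10869
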