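import Groth.Statements.S10870
import Groth.Agent.PlLib.DetRing
import Groth.Agent.EGA41Lib.IntDim

set_option autoImplicit false
universe u
open CAlgX

namespace Groth.Agent.S10870

open W4bk4grassmannian in
theorem dim_infinite (K : Type u) [Field K] [Infinite K] (n m r : ℕ) (hm : 0 < m) (hrn : r ≤ n) (hrm : r ≤ m) :
    ringKrullDim (MvPolynomial (Fin n × Fin m) K ⧸ CAlgX.minorIdeal (genMatrix K n m) (r + 1)) =
      ((r * (m + n - r) : ℕ) : WithBot ℕ∞) := by
  have hI := Groth.Agent.PlLib.cellIdeal_cellPhi (m := n) (n := m) K (σ := r) (t := r + 1) hrm hrn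
    (fun s _ _ => by omega)
  obtain ⟨-, hdim⟩ := Groth.Agent.PlLib.cm_and_dim_cell (K := K) (r := n) hm
    (Groth.Agent.PlLib.cellPhi m n r hrm hrn)
  rw [← hI, hdim, Groth.Agent.PlLib.codeg_cellPhi]

open MvPolynomial in
attribute [local instance] MvPolynomial.algebraMvPolynomial in
theorem dim_extend (k K : Type u) [Field k] [Field K] [Algebra k K] [Algebra.IsIntegral k K] (n m t : ℕ) :
    ringKrullDim (MvPolynomial (Fin n × Fin m) k ⧸ CAlgX.minorIdeal
        (Matrix.of fun (i : Fin n) (j : Fin m) => (X (i, j) : MvPolynomial (Fin n × Fin m) k)) t) =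
      ringKrullDim (MvPolynomial (Fin n × Fin m) K ⧸ CAlgX.minorIdeal
        (Matrix.of fun (i : Fin n) (j : Fin m) => (X (i, j) : MvPolynomial (Fin n × Fin m) K)) t) := by
  let R := MvPolynomial (Fin n × Fin m) k
  let S := MvPolynomial (Fin n × Fin m) K
  set I := CAlgX.minorIdeal (Matrix.of fun (i : Fin n) (j : Fin m) => (X (i, j) : R)) t with hI
  set J := CAlgX.minorIdeal (Matrix.of fun (i : Fin n) (j : Fin m) => (X (i, j) : S)) t with hJ
  have hmap : I.map (algebraMap R S) = J := by
    rw [hI, hJ, CAlgX.minorIdeal, CAlgX.minorIdeal, Ideal.map_span, ← Set.range_comp]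
    refine congrArg _ (congrArg _ (funext fun fg => ?_))
    rw [Function.comp_apply, RingHom.map_det]
    congr 1
    funext i j
    exact MvPolynomial.map_X (algebraMap k K) _
  haveI : Module.FaithfullyFlat R S :=
    Module.FaithfullyFlat.of_linearEquiv _ _ (Algebra.IsPushout.equiv k R K S).symm.toLinearEquiv
  have hcomap : J.comap (algebraMap R S) = I := by
    rw [← hmap, Ideal.comap_map_eq_self_of_faithfullyFlat]
  letI : Algebra (R ⧸ I) (S ⧸ J) := (Ideal.quotientMap J (algebraMap R S) hcomap.ge).toAlgebra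
  haveI : IsScalarTower R (R ⧸ I) (S ⧸ J) := IsScalarTower.of_algebraMap_eq fun a => rfl
  haveI : Algebra.IsIntegral R (S ⧸ J) :=
    ⟨fun z => by
      obtain ⟨b, rfl⟩ := Ideal.Quotient.mk_surjective z
      exact (Algebra.IsIntegral.isIntegral (R := R) b).map (IsScalarTower.toAlgHom R S (S ⧸ J))⟩
  haveI : Algebra.IsIntegral (R ⧸ I) (S ⧸ J) := Algebra.IsIntegral.tower_top R
  exact (EGA41Lib.ringKrullDim_eq_of_integral
    (Ideal.quotientMap_injective' (H := hcomap.ge) hcomap.le)).symm

/-- For a field k and 0 ≤ r ≤ min(n, m), the affine determinantal scheme of n × m matrices of rank at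
most r over k — the spectrum of the polynomial ring on the entries of the generic n × m matrix
modulo the ideal of its (r+1) × (r+1) minors — has dimension r(m + n − r). -/
theorem result (k : Type u) [Field k] (n m r : ℕ) (hr : r ≤ min n m) :
    ringKrullDim (MvPolynomial (Fin n × Fin m) k ⧸ CAlgX.minorIdeal (Matrix.of fun (i : Fin n) (j : Fin m) => (MvPolynomial.X (i, j) : MvPolynomial (Fin n × Fin m) k)) (r + 1)) =
      ((r * (m + n - r) : ℕ) : WithBot ℕ∞) := by
  rcases Nat.eq_zero_or_pos m with rfl | hm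
  · obtain rfl : r = 0 := by omega
    have hbot : CAlgX.minorIdeal (Matrix.of fun (i : Fin n) (j : Fin 0) =>
        (MvPolynomial.X (i, j) : MvPolynomial (Fin n × Fin 0) k)) (0 + 1) = ⊥ :=
      Ideal.span_eq_bot.2 fun x ⟨fg, _⟩ => (fg.2 0).elim0
    rw [hbot, (RingEquiv.quotientBot _).ringKrullDim, MvPolynomial.ringKrullDim_of_isNoetherianRing,
      ringKrullDim_eq_zero_of_field, Nat.card_eq_zero.2 (Or.inl inferInstance)]
    simp
  rw [dim_extend k (AlgebraicClosure k) n m (r + 1)]
  exact dim_infinite (AlgebraicClosure k) n m r hm (hr.trans (min_le_left _ _)) (hr.trans (min_le_right _ _))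

end Groth.Agent.S10870
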