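import Groth.Statements.S10882
import Groth.Agent.DimFormula.Fibre
import Groth.Agent.FibDim.BaseField
import Groth.Agent.Triage.CMMor
import Groth.Agent.FDescent.MaxPoint
import Groth.Agent.S2082
-- import your own Groth.Agent.* helpers here

set_option autoImplicit false
universe u
open CategoryTheory AlgebraicGeometry
open FlatMor

namespace Groth.Agent.S10882

open Groth.Agent Groth.Agent.DimFormula TopologicalSpace

/-- The dimension of a fibre at a point, when all its components have the same dimension. -/
theorem fibreDimAt_eq_of_equidim {X Y : Scheme.{u}} (f : X ⟶ Y) [LocallyOfFiniteType f] (x : X) (m : ℕ)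
    (h : ∀ Z ∈ irreducibleComponents (f.base ⁻¹' {f x}), topologicalKrullDim Z = m) :
    FlatMor.fibreDimAt f x = ((m : ℕ∞) : WithBot ℕ∞) := by
  obtain ⟨z, -, hfz, hmax, he⟩ := FibDim.exists_fibMax_generization f x
  haveI : QuasiSober ↥(f.base ⁻¹' {f x}) :=
    (f.fiberHomeo (f x)).symm.isOpenEmbedding.quasiSober
  let z' : ↥(f.base ⁻¹' {f x}) := ⟨z, hfz⟩
  have hZ : closure {z'} ∈ irreducibleComponents ↥(f.base ⁻¹' {f x}) :=
    FDescent.closure_mem_irreducibleComponents fun w hw => Subtype.ext
      (hmax w.1 (hw.map continuous_subtype_val) ((show f w.1 = f x from w.2).trans hfz.symm))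
  have hset : Subtype.val '' (closure {z'}) = closure {z} ∩ f ⁻¹' {f z} := by
    ext w
    constructor
    · rintro ⟨w', hw', rfl⟩
      exact ⟨specializes_iff_mem_closure.1
        ((specializes_iff_mem_closure.2 hw').map continuous_subtype_val), (show f w'.1 = f x from w'.2).trans hfz.symm⟩
    · rintro ⟨h1, h2⟩
      exact ⟨⟨w, (show f w = f z from h2).trans hfz⟩, specializes_iff_mem_closure.1
        ((subtype_specializes_iff _ _).2 (specializes_iff_mem_closure.2 h1)), rfl⟩
  have hd := h _ hZ
  rw [((Topology.IsEmbedding.subtypeVal.homeomorphImage (closure {z'})).trans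
    (Homeomorph.setCongr hset)).isHomeomorph.topologicalKrullDim_eq, FibDim.dim_closure_inter_fibre] at hd
  rw [he, hd]
  rfl

/-- Over a one-point base the fibre codimension is the codimension. -/
theorem fb_eq_codim {X Y : Scheme.{u}} [Subsingleton Y] (f : X ⟶ Y) [LocallyOfFiniteType f] (x : X) :
    fb f x = codim x := by
  have hb : Function.Bijective (f.fiberι (f x)) :=
    ⟨(f.fiberι (f x)).isEmbedding.injective, fun w => by
      have : w ∈ Set.range (f.fiberι (f x)) := by
        rw [Scheme.Hom.range_fiberι]
        exact Subsingleton.elim (f w) (f x)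
      exact this⟩
  let o : ↥(f.fiber (f x)) ≃o ↥X :=
    { Equiv.ofBijective _ hb with
      map_rel_iff' := (f.fiberι (f x)).isEmbedding.isInducing.specializes_iff }
  unfold fb codim
  rw [← Order.coheight_orderIso o (f.asFiber x)]
  exact congrArg (fun w => (Order.coheight w).toNat) (f.fiberι_asFiber x)

theorem codim_add_rd_eq {X Y : Scheme.{u}} [Subsingleton Y] (f : X ⟶ Y) [LocallyOfFiniteType f] (e : ℕ)
    (he : ∀ Z ∈ irreducibleComponents (X : Type u), topologicalKrullDim Z = e) (x : X) :
    FibDim.rd f x + codim x = e := by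
  obtain ⟨z, -, -, hmax, hz⟩ := FibDim.exists_fibMax_generization f x
  have hd := he _ (FDescent.closure_mem_irreducibleComponents fun w hw => hmax w hw (Subsingleton.elim _ _))
  rw [FibDim.topologicalKrullDim_closure f] at hd
  rw [fibreDimAt_eq_add, fb_eq_codim] at hz
  rw [← hz] at hd
  exact_mod_cast hd

/-- Let X and Y be schemes locally of finite type over a field k and f : X → Y a k-morphism, with Y
regular (all local rings regular), X Cohen–Macaulay (all local rings Cohen–Macaulay), X
equidimensional of dimension e, Y equidimensional of dimension d ≤ e, and all fibres of f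
equidimensional of dimension e − d (every irreducible component of every fibre has dimension e − d).
Then f is flat. -/
theorem result (k : Type u) [Field k] {X Y : Scheme.{u}}
    (q : Y ⟶ Spec (CommRingCat.of k)) [LocallyOfFiniteType q] (f : X ⟶ Y) [LocallyOfFiniteType (f ≫ q)]
    (hY : ∀ y : Y, IsRegularLocalRing (Y.presheaf.stalk y))
    (hX : ∀ x : X, LocCoh.IsCohenMacaulayLocalRing (X.presheaf.stalk x))
    (e d : ℕ) (hde : d ≤ e)
    (hXe : ∀ Z ∈ irreducibleComponents (X : Type u), topologicalKrullDim Z = e)
    (hYd : ∀ Z ∈ irreducibleComponents (Y : Type u), topologicalKrullDim Z = d)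
    (hfib : ∀ y : Y, ∀ Z ∈ irreducibleComponents (f.base ⁻¹' {y}), topologicalKrullDim Z = (e - d : ℕ)) :
    Flat f := by
  haveI : LocallyOfFiniteType f := locallyOfFiniteType_of_comp f q
  haveI := FibDim.subsingleton_spec_field k
  haveI : IsLocallyNoetherian Y := LocallyOfFiniteType.isLocallyNoetherian q
  haveI : IsLocallyNoetherian X := LocallyOfFiniteType.isLocallyNoetherian (f ≫ q)
  refine (Flat.iff_flat_stalkMap f).2 fun x => ?_
  haveI := hY (f x)
  haveI := hX x
  letI := (f.stalkMap x).hom.toAlgebra
  haveI : IsLocalHom (algebraMap (Y.presheaf.stalk (f x)) (X.presheaf.stalk x)) :=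
    inferInstanceAs (IsLocalHom (f.stalkMap x).hom)
  have h1 := codim_add_rd_eq (f ≫ q) e hXe x
  have h2 := codim_add_rd_eq q d hYd (f x)
  rw [FibDim.rd_comp] at h1
  have h3 := fibreDimAt_eq_of_equidim f x (e - d) (hfib (f x))
  rw [fibreDimAt_eq_add] at h3
  have h3' : FibDim.rd f x + fb f x = e - d := by exact_mod_cast h3
  have hc : codim x = codim (f x) + fb f x := by omega
  obtain ⟨eq⟩ := Triage.CMMor.exists_equiv_fibre_stalk f x
  show Module.Flat (Y.presheaf.stalk (f x)) (X.presheaf.stalk x)
  refine S2082.result ?_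
  show _ = _ + ringKrullDim (↑(X.presheaf.stalk x) ⧸
    (IsLocalRing.maximalIdeal (Y.presheaf.stalk (f x))).map (f.stalkMap x).hom)
  rw [ringKrullDim_eq_of_ringEquiv eq, ringKrullDim_stalk_fibre, ringKrullDim_stalk, ringKrullDim_stalk, hc]
  push_cast
  rfl

end Groth.Agent.S10882
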