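import Groth.Statements.S10924
import Groth.Agent.PnEuler.BottDim
-- import your own Groth.Agent.* helpers here

set_option autoImplicit false
universe u
open CategoryTheory CategoryTheory.Limits AlgebraicGeometry
open ProjDual

namespace Groth.Agent.S10924

/-- Let k be a field, 0 ≤ p ≤ r, P = P^r_k with structure map to Spec k, Ω = Ω^1_{P/k} (the conormal
sheaf of the diagonal), L an O_P-module which is a p-th exterior power of Ω, and e a natural number
with r < e + p, so that the twist d = -e satisfies d < p - r; write L(d) = L ⊗ O_P(d). Then H^r(P,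
L(-e)) = H^r(P^r, Ω^p(-e)) is a k-vector space of dimension C(e+p, e) · C(e-1, r-p). -/
theorem result (k : Type u) [Field k] (r p : ℕ) (hp : p ≤ r)
    (L : (CohB1.ProjSpace r k).Modules)
    (hL : ExtPow.IsExtPow p (Omega.sheaf (CohB1.ProjSpace.toSpec r k)) L) (e : ℕ) (he : r < e + p) :
    Module.finrank k (Coh.HH (CohB1.ProjSpace r k)
      (CohB1.tensorMod L (Twist.twistProjSpace r k (-(e : ℤ)))) r) =
      Nat.choose (e + p) e * Nat.choose (e - 1) (r - p) := by
  haveI := Groth.Agent.ExtShX.DetPn.quasiSeparated_toSpec r k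
  obtain ⟨i⟩ := Groth.Agent.PnEuler.nonempty_Om_iso r k hL (-(e : ℤ))
  rw [← (Groth.Agent.PnEuler.hhIso k i r).finrank_eq]
  rcases Nat.eq_zero_or_pos r with rfl | hr
  · obtain rfl : p = 0 := by omega
    obtain ⟨j⟩ := Groth.Agent.PnEuler.nonempty_Om_zero 0 k (-(e : ℤ))
    obtain ⟨m, rfl⟩ := Nat.exists_eq_add_of_le (show 1 ≤ e by omega)
    obtain ⟨t⟩ := Groth.Agent.S0845.result k 0 m
    rw [(Groth.Agent.PnEuler.hhIso k j 0).finrank_eq, show -(((1 + m : ℕ) : ℤ)) = -((((0 : ℕ) : ℤ)) + 1 + m) by omega,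
      t.finrank_eq, (Groth.Agent.PnEuler.finrank_poly 0 k m).2]
    simp
  · exact (Groth.Agent.PnEuler.finrank_Om_top r k hr p e hp (by omega)).2

end Groth.Agent.S10924
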