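import Groth.Statements.S10930
import Groth.Agent.SmoothField.GenericSmooth
import Groth.Agent.FibDim.Comp
-- import your own Groth.Agent.* helpers here

set_option autoImplicit false
universe u
open CategoryTheory CategoryTheory.Limits AlgebraicGeometry
open Variety

namespace Groth.Agent.S10930

/-- Let k be an algebraically closed field of characteristic zero, X and Y varieties over k (integral,
separated and of finite type over k) with X nonsingular, i.e. smooth over k, and f : X → Y a
k-morphism. Then there is a nonempty open subscheme V of Y such that the restriction f⁻¹(V) → V of f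
is smooth. -/
theorem result (k : Type u) [Field k] [IsAlgClosed k] [CharZero k]
    {X Y : Scheme.{u}} (qX : X ⟶ Spec (CommRingCat.of k)) (qY : Y ⟶ Spec (CommRingCat.of k))
    [LocallyOfFiniteType qX] [QuasiCompact qX] [IsSeparated qX] [Smooth qX]
    [LocallyOfFiniteType qY] [QuasiCompact qY] [IsSeparated qY]
    [IsIntegral X] [IsIntegral Y] (f : X ⟶ Y) (hf : f ≫ qY = qX) :
    ∃ V : Y.Opens, (V : Set ↥Y).Nonempty ∧ Smooth (f ∣_ V) := by
  haveI : IsLocallyNoetherian Y := LocallyOfFiniteType.isLocallyNoetherian qY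
  haveI : IsLocallyNoetherian X := LocallyOfFiniteType.isLocallyNoetherian qX
  haveI : LocallyOfFiniteType f := by
    have : LocallyOfFiniteType (f ≫ qY) := by rw [hf]; infer_instance
    exact locallyOfFiniteType_of_comp f qY
  haveI : LocallyOfFinitePresentation f := LocallyOfFinitePresentation.iff_locallyOfFiniteType.2 ‹_›
  haveI : QuasiCompact f := by
    have : QuasiCompact (f ≫ qY) := by rw [hf]; infer_instance
    exact QuasiCompact.of_comp f qY
  let L : Set X := (f.smoothLocus : Set X)ᶜ
  have hL : Topology.IsLocallyConstructible L := by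
    simpa [L] using FibDim.isLocallyConstructible_inter isOpen_univ f.smoothLocus.2.isClosed_compl
  have hC : Topology.IsLocallyConstructible (f '' L) := f.isLocallyConstructible_image hL
  have hη : genericPoint ↑Y ∈ (f '' L)ᶜ := by
    rintro ⟨x, hx, he⟩
    exact hx (SmoothField.mem_smoothLocus_of_map_eq_genericPoint qX qY f he)
  have hnhds : (f '' L)ᶜ ∈ nhds (genericPoint ↑Y) :=
    FibDim.mem_nhds_of_generizations (C := (f '' L)ᶜ)
      (fun y => let ⟨U, hU, hUo, hc⟩ := hC y; ⟨U, hU, hUo, hc.compl⟩) fun y' hy' => by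
      rwa [(genericPoint_spec ↑Y).eq (show IsGenericPoint y' Set.univ from
        Set.univ_subset_iff.1 ((genericPoint_spec ↑Y).def.symm.le.trans
          (closure_minimal (Set.singleton_subset_iff.2 hy'.mem_closure) isClosed_closure)))] at hη
  obtain ⟨V, hV, hVo, hηV⟩ := mem_nhds_iff.1 hnhds
  let W : Y.Opens := ⟨V, hVo⟩
  refine ⟨W, ⟨_, hηV⟩, ?_⟩
  have h : ∀ x : X, f x ∈ V → x ∈ f.smoothLocus := fun x hx => by
    by_contra hn
    exact hV hx ⟨x, hn, rfl⟩
  haveI : Smooth ((f ⁻¹ᵁ W).ι ≫ f) := by
    refine Scheme.Hom.smoothLocus_eq_top_iff.1 ?_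
    rw [← Scheme.Hom.preimage_smoothLocus_eq, eq_top_iff]
    rintro ⟨x, hx⟩ -
    exact h x hx
  have : Smooth ((f ∣_ W) ≫ W.ι) := by
    rw [morphismRestrict_ι]; infer_instance
  exact MorphismProperty.of_isPullback (P := @Smooth)
    (IsPullback.of_horiz_isIso_mono (fst := 𝟙 _) ⟨by simp⟩ : IsPullback (𝟙 _) (f ∣_ W) ((f ∣_ W) ≫ W.ι) W.ι) this

end Groth.Agent.S10930
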