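import Groth.Statements.S10931
import Groth.Agent.ExtShX.SmoothDual
import Groth.Agent.ExtShX.PairSh
import Groth.Agent.ExtShX.PairTwist

set_option linter.style.haveILetI false
set_option backward.isDefEq.respectTransparency false
set_option backward.isDefEq.respectTransparency.types false

set_option autoImplicit false
universe u
open CategoryTheory CategoryTheory.Limits AlgebraicGeometry
open ProjDual Groth.Agent

namespace Groth.Agent.S10931

theorem finrank_symm {k : Type u} [Field k] {n N : ℕ} {X : Scheme.{u}} [X.Over (Spec (CommRingCat.of k))]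
    [SmoothOfRelativeDimension n (X ↘ Spec (CommRingCat.of k))] (ι : X ⟶ PnVan.P k N) [IsClosedImmersion ι]
    (hι : ι ≫ CohB1.ProjSpace.toSpec N k = X ↘ Spec (CommRingCat.of k)) [Nonempty X] {ω F G : X.Modules}
    (hω : ExtPow.IsExtPow n (Omega.sheaf (X ↘ Spec (CommRingCat.of k))) ω) (hF : FlatMod.IsFinLocFree F)
    (e : (SheafHomX.hom F).obj ω ≅ G) (q : ℕ) (hq : q ≤ n) :
    Module.finrank k (Coh.HH X F q) = Module.finrank k (Coh.HH X G (n - q)) := by
  obtain ⟨g⟩ := ExtShX.SmoothDual.nonempty_dual_HH ι hι hω hF q hq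
  obtain ⟨h⟩ := ExtShX.nonempty_HH_equiv_of_iso (A := k) e (n - q)
  rw [← (g.trans h).finrank_eq, Subspace.dual_finrank_eq]

theorem exists_data (k : Type u) [Field k] (r p : ℕ) (hp : p ≤ r) (L L' : (CohB1.ProjSpace r k).Modules)
    (hL : ExtPow.IsExtPow p (Omega.sheaf (CohB1.ProjSpace.toSpec r k)) L)
    (hL' : ExtPow.IsExtPow (r - p) (Omega.sheaf (CohB1.ProjSpace.toSpec r k)) L') :
    FlatMod.IsFinLocFree L ∧ ∃ ω : (CohB1.ProjSpace r k).Modules,
      ExtPow.IsExtPow r (Omega.sheaf (CohB1.ProjSpace.toSpec r k)) ω ∧ Nonempty ((SheafHomX.hom L).obj ω ≅ L') := by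
  haveI : QuasiSeparated (CohB1.ProjSpace.toSpec r k) := ExtShX.DetPn.quasiSeparated_toSpec r k
  haveI : SmoothOfRelativeDimension r (CohB1.ProjSpace.toSpec r k) := ExtShX.DetPn.smooth_toSpec r k
  haveI : IsNoetherian (CohB1.ProjSpace r k) := PnVan.noethP (k := k) (r := r)
  haveI : IsLocallyNoetherian (CohB1.ProjSpace r k) := inferInstance
  have hr := TopDiff.isFinLocFreeOfRank_omega (CohB1.ProjSpace.toSpec r k) r
  have hq' := OmegaUniv.isQCoh_omega (CohB1.ProjSpace.toSpec r k)
  have hω := ExtPowSh.isExtPow (Omega.sheaf (CohB1.ProjSpace.toSpec r k)) r hq'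
  exact ⟨ExtPowSh.isFinLocFree_of_isExtPow (KZ.CycleClass.isFinLocFree_of_rank hr) hL, _, hω,
    ExtShX.Pair.nonempty_hom_extPow_iso (q := r - p) (p := p) (Nat.sub_add_cancel hp) hr hL hL' hω⟩


/-- Let k be a field, p ≤ r and q ≤ r natural numbers, P = P^r_k with structure map to Spec k, Ω =
Ω^1_{P/k} (the conormal sheaf of the diagonal), L an O_P-module which is a p-th exterior power of Ω
and L' one which is an (r − p)-th exterior power of Ω, and d an integer; write M(d) = M ⊗ O_P(d).
Then H^q(P, L(d)) = H^q(P^r, Ω^p(d)) and H^{r−q}(P, L'(−d)) = H^{r−q}(P^r, Ω^{r−p}(−d)) have the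
same dimension over k. (The published statement asserts an isomorphism between these two cohomology
groups, obtained from Serre duality; this row records the equality of dimensions.) -/
theorem result (k : Type u) [Field k] (r p q : ℕ)
    (hp : p ≤ r) (hq : q ≤ r) (L L' : (CohB1.ProjSpace r k).Modules)
    (hL : ExtPow.IsExtPow p (Omega.sheaf (CohB1.ProjSpace.toSpec r k)) L)
    (hL' : ExtPow.IsExtPow (r - p) (Omega.sheaf (CohB1.ProjSpace.toSpec r k)) L') (d : ℤ) :
    Module.finrank k (Coh.HH (CohB1.ProjSpace r k) (CohB1.tensorMod L (Twist.twistProjSpace r k d)) q) =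
      Module.finrank k (Coh.HH (CohB1.ProjSpace r k)
        (CohB1.tensorMod L' (Twist.twistProjSpace r k (-d))) (r - q)) := by
  obtain ⟨hLf, ω, hω, ⟨a⟩⟩ := exists_data k r p hp L L' hL hL'
  obtain ⟨e⟩ := ExtShX.Pair.nonempty_hom_tensor_twist r k d L ω L' a
  haveI : IsIntegral (CohB1.ProjSpace r k) := H23.PnChart.isIntegral_projSpace r k
  haveI : SmoothOfRelativeDimension r (CohB1.ProjSpace r k ↘ Spec (CommRingCat.of k)) := ExtShX.DetPn.smooth_toSpec r k
  exact @finrank_symm k _ r r (CohB1.ProjSpace r k) _ ‹_› (𝟙 (CohB1.ProjSpace r k)) (inferInstanceAs (IsClosedImmersion (𝟙 (CohB1.ProjSpace r k)))) (Category.id_comp _) inferInstance ω _ _ hω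
    (KFlatLib.isFinLocFree_tensor hLf (H23.PullPush.isFinLocFree_of_isInvertible (PnVan.invertible_twist _))) e q hq

end Groth.Agent.S10931
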