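import Groth.Statements.S10932
import Groth.Agent.LC.PdRegular

set_option autoImplicit false
universe u
open CategoryTheory
open CAlg

namespace Groth.Agent.S10932

open CategoryTheory RegLoc6 in
theorem pdLE_of_vanish (A : Type u) [CommRing A] [IsRegularLocalRing A] (M : Type u) [AddCommGroup M] [Module A M]
    [Module.Finite A M] (h : ℕ) (hv : ∀ j, h < j → Subsingleton (Abelian.Ext (ModuleCat.of A M) (ModuleCat.of A A) j)) :
    PdLE A h M :=
  LC.pdLE_of_ext_finite h M (LC.ext_finite_vanish _ h (pdLE_of_isRegularLocalRing A M) hv)

/-- Let A be a (Noetherian) regular local ring of Krull dimension n and M a finitely generated A-module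
such that Ext^j_A(M, A) = 0 for every j with 1 ≤ j ≤ n. Then M is projective, hence a free A-module. -/
theorem result (A : Type u) [CommRing A] [IsRegularLocalRing A]
    (n : ℕ) (hn : ringKrullDim A = n) (M : Type u) [AddCommGroup M] [Module A M] [Module.Finite A M]
    (h : ∀ j : ℕ, 1 ≤ j → j ≤ n →
      Subsingleton (Abelian.Ext (ModuleCat.of A M) (ModuleCat.of A A) j)) :
    Module.Free A M := by
  have h0 : RegLoc6.PdLE A 0 M := pdLE_of_vanish A M 0 fun j hj => by
    rcases le_or_gt j n with hjn | hjn
    · exact h j hj hjn
    · have hs : ((IsLocalRing.maximalIdeal A).spanFinrank : WithBot ℕ∞) = n := by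
        rw [IsRegularLocalRing.spanFinrank_maximalIdeal, hn]
      have hs' : (IsLocalRing.maximalIdeal A).spanFinrank = n := by exact_mod_cast hs
      have : CategoryTheory.HasProjectiveDimensionLT (ModuleCat.of A M) (n + 1) :=
        hs' ▸ RegLoc6.pdLE_of_isRegularLocalRing A M
      exact CategoryTheory.HasProjectiveDimensionLT.subsingleton _ (n + 1) j hjn _
  haveI : Module.Projective A M := RegLoc6.pdLE_zero_iff.1 h0
  exact Module.free_of_flat_of_isLocalRing

end Groth.Agent.S10932
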