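import Groth.Statements.S10933
import Groth.Agent.S10932

set_option autoImplicit false
universe u
open CategoryTheory
open CAlg

namespace Groth.Agent.S10933

/-- Let A be a (Noetherian) regular local ring, M a finitely generated A-module and d a natural number.
Then the projective dimension of M equals d if and only if Ext^j_A(M, A) = 0 for every j > d and
Ext^d_A(M, A) ≠ 0. (Projective dimension valued in WithBot ℕ∞, the zero module having projective
dimension ⊥.) -/
theorem result (A : Type u) [CommRing A] [IsRegularLocalRing A]
    (M : Type u) [AddCommGroup M] [Module A M] [Module.Finite A M] (d : ℕ) :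
    projectiveDimension (ModuleCat.of A M) = (d : WithBot ℕ∞) ↔
      ((∀ j : ℕ, d < j → Subsingleton (Abelian.Ext (ModuleCat.of A M) (ModuleCat.of A A) j)) ∧
        Nontrivial (Abelian.Ext (ModuleCat.of A M) (ModuleCat.of A A) d)) := by
  have hle : ∀ n : ℕ, CategoryTheory.HasProjectiveDimensionLE (ModuleCat.of A M) n ↔
      ∀ j, n < j → Subsingleton (Abelian.Ext (ModuleCat.of A M) (ModuleCat.of A A) j) := fun n =>
    ⟨fun h j hj => (haveI : CategoryTheory.HasProjectiveDimensionLT (ModuleCat.of A M) (n + 1) := h; CategoryTheory.HasProjectiveDimensionLT.subsingleton _ (n + 1) j hj _),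
      fun h => S10932.pdLE_of_vanish A M n h⟩
  rw [le_antisymm_iff, CategoryTheory.projectiveDimension_le_iff, CategoryTheory.projectiveDimension_ge_iff, hle]
  refine and_congr_right fun hv => ⟨fun hlt => ?_, fun hnt hlt => ?_⟩
  · by_contra hc
    rw [not_nontrivial_iff_subsingleton] at hc
    apply hlt
    cases d with
    | succ e =>
      exact (hle e).2 fun j hj => by
        rcases eq_or_lt_of_le (Nat.succ_le_of_lt hj) with h | h
        · subst h; exact hc
        · exact hv j h
    | zero =>
      haveI : Module.Projective A M := RegLoc6.pdLE_zero_iff.1 (S10932.pdLE_of_vanish A M 0 hv)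
      haveI : Module.Free A M := Module.free_of_flat_of_isLocalRing
      rw [CategoryTheory.hasProjectiveDimensionLT_zero_iff_isZero, ModuleCat.isZero_iff_subsingleton]
      let b := Module.Free.chooseBasis A M
      have : IsEmpty (Module.Free.ChooseBasisIndex A M) := ⟨fun i => by
        haveI := hc
        have h0 : ModuleCat.ofHom (b.coord i) = (0 : ModuleCat.of A M ⟶ ModuleCat.of A A) :=
          (Abelian.Ext.mk₀_bijective _ _).1 (Subsingleton.elim _ _)
        have := congrArg (fun f => f.hom (b i)) h0
        simp at this⟩
      exact b.repr.toEquiv.subsingleton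
  · haveI := hlt; exact not_subsingleton (Abelian.Ext (ModuleCat.of A M) (ModuleCat.of A A) d) (CategoryTheory.HasProjectiveDimensionLT.subsingleton _ d d le_rfl _)

end Groth.Agent.S10933
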