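import Groth.Statements.S10935
-- import your own Groth.Agent.* helpers here
import Mathlib
import Groth.Agent.H4Ass.FlatAss
import Groth.Agent.CurveCohLib.SubBundle

set_option autoImplicit false
universe u
open CategoryTheory CategoryTheory.Limits AlgebraicGeometry
open FlatMor

namespace Groth.Agent.S10935

set_option backward.isDefEq.respectTransparency false in
set_option backward.isDefEq.respectTransparency.types false in
/-- Let Y be an integral, regular (every local ring a regular local ring), one-dimensional scheme with
generic point η, X a Noetherian scheme and f : X → Y a morphism. Then f is flat if and only if every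
associated point x of X — a point such that the maximal ideal of O_{X,x} is an associated prime of
O_{X,x} — satisfies f(x) = η. -/
theorem result {X Y : Scheme.{u}} (f : X ⟶ Y)
    [IsIntegral Y] (hreg : ∀ y : Y, IsRegularLocalRing (Y.presheaf.stalk y))
    (hY : topologicalKrullDim ↥Y = 1) [IsNoetherian X] :
    Flat f ↔ ∀ x : X, Curv2.IsAssPoint (Coh.structureModule X) x → f.base x = genericPoint ↥Y := by
  have hdim : ∀ x : X, ringKrullDim (Y.presheaf.stalk (f x)) ≤ 1 := fun x =>
    (CurveCohLib.ringKrullDim_stalk_le_topologicalKrullDim _).trans hY.le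
  constructor
  · intro hf x hx
    by_contra hne
    haveI := hreg (f x)
    haveI := RegLoc6.isDomain_of_isRegularLocalRing (Y.presheaf.stalk (f x))
    haveI := H4Ass.isPrincipalIdealRing_of_regular (Y.presheaf.stalk (f x)) (hdim x)
    have hnf : ¬ IsField (Y.presheaf.stalk (f x)) := fun hF => by
      have h0 := ringKrullDim_eq_zero_of_isField hF
      rw [ringKrullDim_stalk_eq_coheight] at h0
      have hmax : IsMax (f x) := Order.coheight_eq_zero.mp (by exact_mod_cast h0)
      exact hne (((genericPoint_specializes (f x)).antisymm (hmax (genericPoint_specializes (f x)))).eq.symm)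
    obtain ⟨r, hr, hr0⟩ : ∃ r ∈ IsLocalRing.maximalIdeal (Y.presheaf.stalk (f x)), r ≠ 0 := by
      refine Submodule.exists_mem_ne_zero_of_ne_bot ?_
      exact fun h => hnf (IsLocalRing.isField_iff_maximalIdeal_eq.mpr h)
    have hfl : (f.stalkMap x).hom.Flat := Flat.stalkMap f x
    algebraize [(f.stalkMap x).hom]
    refine H4Ass.not_mem_nonZeroDivisors_of_isAssPoint hx (g := f.stalkMap x r) ?_ ?_
    · exact fun hu => hr ((f.toLRSHom.prop x).map_nonunit r hu)
    · rw [mem_nonZeroDivisors_iff_right]
      intro z hz
      haveI : Module.Flat (Y.presheaf.stalk (f x)) (X.presheaf.stalk x) := hfl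
      have htor := (Module.Flat.flat_iff_torsion_eq_bot_of_isBezout
        (R := Y.presheaf.stalk (f x)) (M := X.presheaf.stalk x)).mp inferInstance
      have : z ∈ Submodule.torsion (Y.presheaf.stalk (f x)) (X.presheaf.stalk x) :=
        ⟨⟨r, mem_nonZeroDivisors_of_ne_zero hr0⟩, by
          rw [Submonoid.mk_smul, Algebra.smul_def, mul_comm]; exact hz⟩
      rwa [htor, Submodule.mem_bot] at this
  · intro h
    exact H4Ass.flat_of_assPoints f (fun x => hreg _) hdim fun x hx => by
      rw [show f x = genericPoint Y from h x hx]
      exact Field.toIsField Y.functionField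

end Groth.Agent.S10935
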