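import Groth.Statements.S10939
import Groth.Agent.S15708
import Groth.Agent.S11296
import Groth.Agent.AmpleFamGen.CoverDim

set_option backward.isDefEq.respectTransparency false

set_option autoImplicit false
universe u
open CategoryTheory CategoryTheory.Limits AlgebraicGeometry
open Variety

namespace Groth.Agent.S10939

/-- Let k be a field, P = P^n_k = Proj k[x_0, …, x_n], and i_X : X → P, i_Y : Y → P closed immersions
with X of dimension r. Then there are homogeneous polynomials h_1, …, h_{r+1} of positive degree,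
with basic opens D_j = D_+(h_j) and hypersurfaces H_j = P ∖ D_j, such that every H_j contains Y and
X ∖ Y = ⋃_j (X ∖ H_j), i.e. every point of X outside Y lies in some D_j; moreover each X ∖ H_j = X ∩
D_j is affine. (The published statement takes X and Y reduced; the assertion only concerns the
underlying closed sets.) -/
theorem result (k : Type u) [Field k] (n r : ℕ)
    {X Y : Scheme.{u}} (iX : X ⟶ CohB1.ProjSpace n k) (iY : Y ⟶ CohB1.ProjSpace n k)
    [IsClosedImmersion iX] [IsClosedImmersion iY] (hX : topologicalKrullDim ↥X = r) :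
    ∃ (h : Fin (r + 1) → MvPolynomial (Fin (n + 1)) k) (D : Fin (r + 1) → (CohB1.ProjSpace n k).Opens),
      (∀ j, D j = Proj.basicOpen (CohB1.polyGrading n k) (h j)) ∧
      (∀ j, ∃ d : ℕ, 0 < d ∧ (h j).IsHomogeneous d) ∧
      (∀ j, Set.range iY.base ⊆ (D j : Set ↥(CohB1.ProjSpace n k))ᶜ) ∧
      (Set.range iX.base \ Set.range iY.base ⊆ ⋃ j, (D j : Set ↥(CohB1.ProjSpace n k))) ∧
      ∀ j, IsAffineOpen (iX ⁻¹ᵁ (D j)) := by
  classical
  haveI hP : IsNoetherian (Proj (CohB1.polyGrading n k)) := Proj16.isNoetherian_proj _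
  haveI : TopologicalSpace.NoetherianSpace ↥(CohB1.ProjSpace n k) :=
    (inferInstance : TopologicalSpace.NoetherianSpace ↥(Proj (CohB1.polyGrading n k)))
  haveI : TopologicalSpace.NoetherianSpace ↥X := iX.isClosedEmbedding.isInducing.noetherianSpace
  let Yt : Set (ProjectiveSpectrum (CohB1.polyGrading n k)) := Set.range iY.base
  have hYc : IsClosed Yt := iY.isClosedEmbedding.isClosed_range
  let J := (ProjectiveSpectrum.vanishingIdeal Yt).toIdeal
  let ht : X → ℕ∞ := fun x => Order.height (AmpleFamGen.ptClosure x)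
  have hle : ∀ x, ht x ≤ (r : ℕ∞) := fun x => by
    have := (Order.height_le_krullDim (AmpleFamGen.ptClosure x)).trans hX.le
    exact WithBot.coe_le_coe.1 this
  let D : MvPolynomial (Fin (n + 1)) k → (CohB1.ProjSpace n k).Opens :=
    fun p => Proj.basicOpen (CohB1.polyGrading n k) p
  have key : ∀ m : ℕ, ∃ h : Fin m → MvPolynomial (Fin (n + 1)) k,
      (∀ j, ∃ d : ℕ, 0 < d ∧ h j ∈ CohB1.polyGrading n k d) ∧ (∀ j, h j ∈ J) ∧
      ∀ x : X, iX x ∉ Set.range iY.base → (∀ j, iX x ∉ D (h j)) → ht x + (m : ℕ∞) ≤ (r : ℕ∞) := by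
    intro m
    induction m with
    | zero => exact ⟨fun i => i.elim0, fun i => i.elim0, fun i => i.elim0, fun x _ _ => by simpa using hle x⟩
    | succ m ih =>
      obtain ⟨h, hhd, hhJ, hhx⟩ := ih
      let Z : Set X := ⋂ j, (((iX ⁻¹ᵁ D (h j) : X.Opens) : Set X))ᶜ
      have hZc : IsClosed Z := isClosed_iInter fun j => (iX ⁻¹ᵁ D (h j)).2.isClosed_compl
      obtain ⟨S, hSf, hSc, hSi, hSU⟩ := TopologicalSpace.NoetherianSpace.exists_finite_set_isClosed_irreducible hZc
      have hgen : ∀ C : S, ∃ x, IsGenericPoint x (C.1 : Set X) := fun C =>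
        QuasiSober.sober (hSi C.1 C.2) (hSc C.1 C.2)
      choose η hη using hgen
      haveI := hSf.to_subtype
      haveI : Fintype S := Fintype.ofFinite S
      let pr : X → Ideal (MvPolynomial (Fin (n + 1)) k) := fun x =>
        (show ProjectiveSpectrum (CohB1.polyGrading n k) from iX x).asHomogeneousIdeal.toIdeal
      let Pf := (Finset.univ.filter fun C => iX (η C) ∉ Set.range iY.base).image fun C => pr (η C)
      obtain ⟨z, d, hd, hzd, hzJ, hzP⟩ := S15708.result (CohB1.polyGrading n k) J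
        (ProjectiveSpectrum.vanishingIdeal Yt).isHomogeneous Pf (by
          intro p hp
          obtain ⟨C, hC, rfl⟩ := Finset.mem_image.1 hp
          let x' : ProjectiveSpectrum (CohB1.polyGrading n k) := iX (η C)
          refine ⟨x'.isPrime, x'.not_irrelevant_le, fun hle' => (Finset.mem_filter.1 hC).2 ?_⟩
          have h1 : x' ∈ ProjectiveSpectrum.zeroLocus (CohB1.polyGrading n k)
              (ProjectiveSpectrum.vanishingIdeal Yt : Set (MvPolynomial (Fin (n + 1)) k)) :=
            (ProjectiveSpectrum.mem_zeroLocus _ _ _).2 hle'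
          rw [ProjectiveSpectrum.zeroLocus_vanishingIdeal_eq_closure, hYc.closure_eq] at h1
          exact h1)
      refine ⟨Fin.snoc h z, fun j => ?_, fun j => ?_, fun x hxY hx => ?_⟩
      · induction j using Fin.lastCases with
        | last => rw [Fin.snoc_last]; exact ⟨d, hd, hzd⟩
        | cast i => rw [Fin.snoc_castSucc]; exact hhd i
      · induction j using Fin.lastCases with
        | last => rw [Fin.snoc_last]; exact hzJ
        | cast i => rw [Fin.snoc_castSucc]; exact hhJ i
      have hxz : iX x ∉ D z := by simpa using hx (Fin.last m)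
      have hxZ : x ∈ Z := Set.mem_iInter.2 fun i => by
        have := hx i.castSucc
        rw [Fin.snoc_castSucc] at this
        exact this
      rw [hSU] at hxZ
      obtain ⟨C, hC, hxC⟩ := hxZ
      have hηZ : η ⟨C, hC⟩ ∈ Z := by rw [hSU]; exact ⟨C, hC, (hη ⟨C, hC⟩).mem⟩
      have hspec : η ⟨C, hC⟩ ⤳ x := (hη ⟨C, hC⟩).specializes hxC
      have hηY : iX (η ⟨C, hC⟩) ∉ Set.range iY.base := fun hh =>
        hxY ((hspec.map iX.continuous).mem_closed iY.isClosedEmbedding.isClosed_range hh)
      have hlt : AmpleFamGen.ptClosure x < AmpleFamGen.ptClosure (η ⟨C, hC⟩) := by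
        refine lt_of_le_of_ne ?_ fun e => hxz ?_
        · show closure {x} ⊆ closure {η ⟨C, hC⟩}
          rw [(hη ⟨C, hC⟩).def]
          exact closure_minimal (Set.singleton_subset_iff.2 hxC) (hSc C hC)
        · have e' : closure {x} = closure {η ⟨C, hC⟩} :=
            congrArg (fun D : TopologicalSpace.IrreducibleCloseds X => (D : Set X)) e
          rw [(inseparable_iff_closure_eq.2 e').eq]
          exact hzP _ (Finset.mem_image.2 ⟨⟨C, hC⟩, Finset.mem_filter.2 ⟨Finset.mem_univ _, hηY⟩, rfl⟩)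
      have h1 : ht x + 1 ≤ ht (η ⟨C, hC⟩) := Order.height_add_one_le hlt
      calc ht x + ((m + 1 : ℕ) : ℕ∞) = ht x + 1 + (m : ℕ∞) := by push_cast; ring
        _ ≤ ht (η ⟨C, hC⟩) + (m : ℕ∞) := add_le_add h1 le_rfl
        _ ≤ (r : ℕ∞) := hhx _ hηY fun j => Set.mem_iInter.1 hηZ j
  obtain ⟨h, hhd, hhJ, hhx⟩ := key (r + 1)
  refine ⟨h, fun j => D (h j), fun j => rfl, fun j => ?_, fun j => ?_, ?_, fun j => ?_⟩
  · obtain ⟨d, hd, hm⟩ := hhd j
    exact ⟨d, hd, (MvPolynomial.mem_homogeneousSubmodule _ _).1 hm⟩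
  · rintro p hp hpD
    exact (ProjectiveSpectrum.mem_basicOpen _ _ _).1 hpD ((ProjectiveSpectrum.mem_vanishingIdeal _ _).1 (hhJ j) _ hp)
  · rintro p ⟨⟨x, rfl⟩, hpY⟩
    by_contra hc
    simp only [Set.mem_iUnion, not_exists] at hc
    have h1 := hhx x hpY hc
    have h2 : ((r + 1 : ℕ) : ℕ∞) ≤ (r : ℕ∞) := le_trans le_add_self h1
    exact absurd (Nat.cast_le.1 h2) (by omega)
  · obtain ⟨d, hd, hm⟩ := hhd j
    exact IsAffineOpen.preimage (Proj.isAffineOpen_basicOpen _ _ hm hd) iX

end Groth.Agent.S10939
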