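import Groth.Statements.S10940
import Groth.Statements.S10940
import Groth.Agent.AmpleFamGen.CoverDim
import Groth.Agent.AmpleVan.Pull
import Groth.Agent.TwistFlat.Base

set_option backward.isDefEq.respectTransparency false
set_option backward.isDefEq.respectTransparency.types false

set_option autoImplicit false
universe u
open CategoryTheory CategoryTheory.Limits AlgebraicGeometry
open Variety

namespace Groth.Agent.S10940

/-- Let k be a field and X a quasi-projective variety over k of dimension r: an integral scheme with an
immersion j : X → P^n_k. Then X admits a cover by r + 1 affine open subschemes. (Consequently the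
cohomology of every quasi-coherent O_X-module vanishes above degree r; that consequence is the
general vanishing above the number of affines in a cover and is not restated here. The published
statement is for varieties over an algebraically closed field; the argument, r + 1 hypersurfaces
through the boundary of the closure of X, works over any field, so k is an arbitrary field here.) -/
theorem result (k : Type u) [Field k] (n r : ℕ)
    {X : Scheme.{u}} (j : X ⟶ CohB1.ProjSpace n k) [IsImmersion j] [IsIntegral X]
    (hX : topologicalKrullDim ↥X = r) :
    ∃ U : Fin (r + 1) → X.Opens, (∀ i, IsAffineOpen (U i)) ∧ ⨆ i, U i = ⊤ := by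
  classical
  haveI : IsProper (CohB1.ProjSpace.toSpec n k) := PnCoh.Chow.isProper_toSpec n k
  let T := Finset.image (fun j : Fin (n + 1) =>
    (MvPolynomial.X j : MvPolynomial (Fin (n + 1)) k)) Finset.univ
  have hT : CohB1.IsAmple (Twist.twistProjSpace n k 1) := by
    refine AmpleX.isAmple_twist_one (CohB1.polyGrading n k) T (fun f hf => ?_)
      (top_le_iff.1 fun y _ => ?_)
    · obtain ⟨j, -, rfl⟩ := Finset.mem_image.1 hf
      exact ProjPt.X_mem j
    · obtain ⟨j, hj⟩ := ProjUPX.cov_X y
      exact TopologicalSpace.Opens.mem_iSup.2 ⟨⟨_, Finset.mem_image.2 ⟨j, Finset.mem_univ _, rfl⟩⟩, hj⟩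
  haveI := hT.2.1
  haveI : IsLocallyNoetherian (CohB1.ProjSpace n k) := LocallyOfFiniteType.isLocallyNoetherian (CohB1.ProjSpace.toSpec n k)
  haveI : IsNoetherian (CohB1.ProjSpace n k) := { }
  haveI : TopologicalSpace.NoetherianSpace X := j.isEmbedding.isInducing.noetherianSpace
  haveI : CompactSpace X := inferInstance
  exact AmpleFamGen.exists_affine_cover_dim (AmpleVan.isAmple_pullback_of_isEmbedding j j.isEmbedding hT) r hX.le

end Groth.Agent.S10940
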