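import Groth.Statements.S10941
import Groth.Agent.DimFormula.FlatFibres
import Groth.Agent.FibDim.BaseField
import Groth.Agent.FibDim.FlatBC

set_option autoImplicit false
universe u
open CategoryTheory CategoryTheory.Limits AlgebraicGeometry
open FlatMor

namespace Groth.Agent.S10941

/-- Let k be a field, X, Y and Y' schemes of finite type over k with Y irreducible, f : X → Y a flat
k-morphism and n a natural number such that every irreducible component of X has dimension dim Y +
n. Let g : Y' → Y be a k-morphism and f' : X ×_Y Y' → Y' the base change of f. Then for every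
irreducible closed subset V of Y', every irreducible component of the preimage of V under f' (with
the subspace topology) has dimension dim V + n. In particular (Y' = Y) every irreducible component
of f⁻¹(V) has dimension dim V + n for every irreducible closed V ⊆ Y. -/
theorem result (k : Type u) [Field k]
    {X Y Y' : Scheme.{u}} (qX : X ⟶ Spec (CommRingCat.of k)) (qY : Y ⟶ Spec (CommRingCat.of k))
    (qY' : Y' ⟶ Spec (CommRingCat.of k))
    [LocallyOfFiniteType qX] [QuasiCompact qX] [LocallyOfFiniteType qY] [QuasiCompact qY]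
    [LocallyOfFiniteType qY'] [QuasiCompact qY']
    [IrreducibleSpace ↥Y] (f : X ⟶ Y) (hf : f ≫ qY = qX) [Flat f] (n : ℕ)
    (hX : ∀ Z : Set ↥X, Z ∈ irreducibleComponents ↥X →
      topologicalKrullDim ↥Z = topologicalKrullDim ↥Y + (n : WithBot ℕ∞))
    (g : Y' ⟶ Y) (hg : g ≫ qY = qY')
    (V : Set ↥Y') (hV : IsClosed V) (hVirr : IsIrreducible V)
    (W : Set ↥((pullback.snd f g).base ⁻¹' V))
    (hW : W ∈ irreducibleComponents ↥((pullback.snd f g).base ⁻¹' V)) :
    topologicalKrullDim ↥W = topologicalKrullDim ↥V + (n : WithBot ℕ∞) := by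
  haveI : LocallyOfFiniteType (f ≫ qY) := hf ▸ ‹LocallyOfFiniteType qX›
  haveI : LocallyOfFiniteType f := locallyOfFiniteType_of_comp f qY
  haveI : IsLocallyNoetherian Y := LocallyOfFiniteType.isLocallyNoetherian qY
  obtain ⟨d, hd⟩ : ∃ d : ℕ, topologicalKrullDim ↥Y = (d : WithBot ℕ∞) :=
    ⟨_, Groth.Agent.VarDim.topologicalKrullDim_eq_deg_genericPoint qY⟩
  have hY : ∀ Z ∈ irreducibleComponents (Y : Type u), topologicalKrullDim Z = (d : WithBot ℕ∞) := by
    intro Z hZ
    rw [irreducibleComponents_eq_singleton, Set.mem_singleton_iff] at hZ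
    subst hZ
    rw [(Homeomorph.Set.univ ↥Y).isHomeomorph.topologicalKrullDim_eq, hd]
  have hfib := (Groth.Agent.DimFormula.equidim_iff f qX qY hf d n hY).1 fun Z hZ => by
    rw [hX Z hZ, hd, Nat.cast_add]
  -- the base change
  let q := pullback.snd f g
  let p := pullback.fst f g
  have h : IsPullback p q f g := IsPullback.of_hasPullback f g
  let qX' := q ≫ qY'
  haveI : LocallyOfFiniteType q := inferInstanceAs (LocallyOfFiniteType (pullback.snd f g))
  haveI : LocallyOfFiniteType qX' := inferInstanceAs (LocallyOfFiniteType (pullback.snd f g ≫ qY'))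
  haveI : Flat q := inferInstanceAs (Flat (pullback.snd f g))
  have hc : IsClosed (q.base ⁻¹' V) := hV.preimage q.continuous
  haveI : QuasiSober ↥(q.base ⁻¹' V) := hc.isClosedEmbedding_subtypeVal.quasiSober
  obtain ⟨w, rfl, hw⟩ := Groth.Agent.FDescent.exists_maximal_of_mem_irreducibleComponents hW
  have hmax : ∀ v, v ⤳ w.1 → q v ∈ V → v = w.1 := fun v hv hvV =>
    congrArg Subtype.val (hw ⟨v, hvV⟩ ((subtype_specializes_iff _ _).2 hv))
  have hgen := hVirr.isGenericPoint_genericPoint hV
  obtain ⟨v, hv, hqv⟩ := Flat.generalizingMap q (hgen.specializes w.2)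
  have hvw : v = w.1 := hmax v hv (by rw [hqv]; exact hgen.mem)
  subst hvw
  have hfm : Groth.Agent.FibDim.FibMax q w.1 := fun u hu hqu => hmax u hu (by rw [hqu]; exact w.2)
  have hrd : Groth.Agent.FibDim.rd q w.1 = n := by
    rw [Groth.Agent.FibDim.rd_baseChange_eq_of_minimal h w.1 fun u hu _ hqu => hfm u hu hqu]
    obtain ⟨T, hT, hdim⟩ := Groth.Agent.DimFormula.exists_component_fiber f
      (Groth.Agent.FibDim.fibMax_of_baseChange h hfm)
    have h' := hfib _ T hT
    rw [hdim] at h'
    exact_mod_cast h'
  have himg : Subtype.val '' closure ({w} : Set ↥(q.base ⁻¹' V)) = closure {w.1} := by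
    rw [← hc.isClosedEmbedding_subtypeVal.closure_image_eq, Set.image_singleton]
  have hVdim : topologicalKrullDim ↥V = ((Groth.Agent.VarDim.deg qY' (q w.1) : ℕ∞) : WithBot ℕ∞) := by
    rw [← Groth.Agent.VarDim.topologicalKrullDim_closure_singleton qY',
      (Homeomorph.setCongr (show closure {q w.1} = V by rw [hqv]; exact hgen.def)).isHomeomorph.topologicalKrullDim_eq]
  refine (Groth.Agent.FibDim.topologicalKrullDim_range_closed _).trans ?_
  rw [himg, hVdim, Groth.Agent.VarDim.topologicalKrullDim_closure_singleton qX',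
    Groth.Agent.VarDim.deg_eq_add q qY' (p := qX') rfl w.1, ← Groth.Agent.DimFormula.rd_eq_fdeg, hrd]
  push_cast
  rfl

end Groth.Agent.S10941
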