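import Groth.Statements.S10947
import Groth.Agent.S10940
import Groth.Agent.AmpleFamGen.Divisorial
import Groth.Agent.QCoh.Bound
import Groth.Agent.PnCoh.Finite.SerreVanishing
import Groth.Agent.QCoh.Support
-- import your own Groth.Agent.* helpers here

set_option autoImplicit false
universe u
open CategoryTheory AlgebraicGeometry
open Coherent

namespace Groth.Agent.S10947

/-- Let k be a field and X a quasi-projective scheme over k, given with an immersion ι : X → P^N_k into
a projective space. If n is a natural number with H^i(X, E) = 0 for all finite locally free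
O_X-modules E and all i > n, then H^i(X, F) = 0 for all coherent O_X-modules F (quasi-coherent of
finite type) and all i > n. -/
theorem result
    (k : Type u) [Field k] (N : ℕ) {X : Scheme.{u}} (ι : X ⟶ CohB1.ProjSpace N k) [IsImmersion ι]
    (n : ℕ) (h : ∀ E : X.Modules, FlatMod.IsFinLocFree E → ∀ i : ℕ, n < i → Subsingleton (Coh.HH X E i))
    (F : X.Modules) (hF : Coh.IsCoh F) (i : ℕ) (hi : n < i) :
    Subsingleton (Coh.HH X F i) := by
    classical
    haveI : IsProper (CohB1.ProjSpace.toSpec N k) := Groth.Agent.PnCoh.Chow.isProper_toSpec N k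
    have hT : CohB1.IsAmple (Twist.twistProjSpace N k 1) := by
      refine Groth.Agent.AmpleX.isAmple_twist_one (CohB1.polyGrading N k) (Finset.image (fun j : Fin (N + 1) =>
          (MvPolynomial.X j : MvPolynomial (Fin (N + 1)) k)) Finset.univ) (fun f hf => ?_)
        (top_le_iff.1 fun y _ => ?_)
      · obtain ⟨j, -, rfl⟩ := Finset.mem_image.1 hf
        exact Groth.Agent.ProjPt.X_mem j
      · obtain ⟨j, hj⟩ := Groth.Agent.ProjUPX.cov_X y
        exact TopologicalSpace.Opens.mem_iSup.2 ⟨⟨_, Finset.mem_image.2 ⟨j, Finset.mem_univ _, rfl⟩⟩, hj⟩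
    haveI := hT.2.1
    haveI : IsLocallyNoetherian (CohB1.ProjSpace N k) := LocallyOfFiniteType.isLocallyNoetherian (CohB1.ProjSpace.toSpec N k)
    haveI : IsNoetherian (CohB1.ProjSpace N k) := { }
    haveI : TopologicalSpace.NoetherianSpace X := ι.isEmbedding.isInducing.noetherianSpace
    haveI : CompactSpace X := inferInstance
    haveI : IsLocallyNoetherian X := LocallyOfFiniteType.isLocallyNoetherian ι
    have hamp := Groth.Agent.AmpleVan.isAmple_pullback_of_isEmbedding ι ι.isEmbedding hT
    have hfam : MoreMor.HasAmpleFamily X := ⟨inferInstance, fun x => by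
      obtain ⟨m, s, hx, hs⟩ := hamp.2.2 x
      exact ⟨_, m + 1, s, hamp.1, Nat.le_add_left 1 m, hx, hs⟩⟩
    have hres := Groth.Agent.AmpleFamGen.hasResolutionProperty_of_ampleFamily hfam
    haveI : QuasiSeparatedSpace X := inferInstance
    obtain ⟨d, hd⟩ := Groth.Agent.QCoh.exists_HH_bound (X := X)
    suffices key : ∀ (t : ℕ) (F : X.Modules), Coh.IsCoh F → ∀ i, n < i → d ≤ i + t → Subsingleton (Coh.HH X F i) from
      key d F hF i hi (Nat.le_add_left d i)
    intro t
    induction t with
    | zero => exact fun F hF i _ hd' => hd F hF.1 i hd'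
    | succ t ih =>
      intro F hF i hi hd'
      obtain ⟨E, π, hE, hπ⟩ := hres F hF.1 hF.2
      haveI := hπ
      have hfp := Groth.Agent.QCoh.isFP_of_isFinLocFree hE
      have hEc : Coh.IsCoh E := Groth.Agent.QCoh.isCoh_iff_isFP.2 hfp
      have hK := Groth.Agent.QCoh.isCoh_kernel hEc hF π
      exact Groth.Agent.PnCoh.Finite.subsingleton_HH_X₃ (S := ShortComplex.mk (Limits.kernel.ι π) π (Limits.kernel.condition π))
        { exact := ShortComplex.exact_kernel π, mono_f := inferInstance, epi_g := inferInstance } i
        (h E hE i hi) (ih (Limits.kernel π) hK (i + 1) (by omega) (by omega))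

end Groth.Agent.S10947
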