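import Groth.Statements.S10962
import Groth.Agent.PnCoh.TwistH0
import Groth.Agent.S0844
import Groth.Agent.HilbEv.Basic
import Groth.Agent.AmpleX.Generated
import Groth.Agent.AVHomLib.CurveDegPos
import Groth.Agent.AmpleX.RelAffine
-- import your own Groth.Agent.* helpers here

set_option autoImplicit false
universe u
set_option maxHeartbeats 1600000
set_option linter.style.haveILetI false
open CategoryTheory CategoryTheory.Limits AlgebraicGeometry TopologicalSpace
open SDiv

namespace Groth.Agent.S10962

/-- Let R be a nonzero ring and n ≥ 1, and let X be projective n-space over R. For an integer d, the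
Serre twist O_X(d) is ample if and only if d > 0. (Ample is taken in the sense that X is
quasi-compact and covered by the affine open non-vanishing loci X_s of global sections s of positive
tensor powers; for the quasi-compact separated scheme X this agrees with the definition through
finitely many generating sections with quasi-affine non-vanishing loci. The published remark also
asserts that O_X(d) is very ample relative to R for d > 0; that clause is not part of this row.) -/
theorem result (R : Type u) [CommRing R] [Nontrivial R] (n : ℕ) (hn : 1 ≤ n) (d : ℤ) :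
    CohB1.IsAmple (Twist.twistProjSpace n R d) ↔ 0 < d := by
  open Groth.Agent Groth.Agent.H23.PicMul in
    classical
    letI := MvPolynomial.gradedAlgebra (σ := Fin (n + 1)) (R := R)
    let g : Fin (n + 1) → MvPolynomial (Fin (n + 1)) R := fun j => MvPolynomial.X j
    have hg : ∀ j, g j ∈ MvPolynomial.homogeneousSubmodule (Fin (n + 1)) R 1 := fun j => ProjPt.X_mem j
    have hcov : ⨆ j, PnCoh.Finite.D (MvPolynomial.homogeneousSubmodule (Fin (n + 1)) R) (g j) = ⊤ :=
      top_le_iff.1 fun y _ => TopologicalSpace.Opens.mem_iSup.2 (ProjUPX.cov_X y)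
    have hinv : ∀ a : ℤ, PicF.IsInvertible (Twist.twistProjSpace n R a) := fun a =>
      PnCoh.Finite.isInvertible_twist g hg hcov a
    have hmul : ∀ a b : ℤ, PicF.cl (Twist.twistProjSpace n R a) * PicF.cl (Twist.twistProjSpace n R b) =
        PicF.cl (Twist.twistProjSpace n R (a + b)) := fun a b =>
      (cl_tensor _ _).symm.trans (cl_eq_iff.2 (PnCoh.Finite.twist_tensor_iso g hg hcov a b))
    have hzero : PicF.cl (Twist.twistProjSpace n R 0) = 1 := by
      refine (cl_eq_iff.2 (PnCoh.Finite.twist_tensorPow_iso g hg hcov 0)).trans ?_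
      rw [cl_tensorPow, pow_zero]
      rfl
    have hpow : ∀ (a : ℤ) (m : ℕ), PicF.cl (Twist.twistProjSpace n R a) ^ m =
        PicF.cl (Twist.twistProjSpace n R ((m : ℤ) * a)) := by
      intro a m
      induction m with
      | zero => rw [pow_zero, Nat.cast_zero, zero_mul, hzero]
      | succ m ih => rw [pow_succ, ih, hmul]; push_cast; ring_nf
    have hX : Nonempty (CohB1.ProjSpace n R) := by
      let f : MvPolynomial (Fin (n + 1)) R := MvPolynomial.X 0
      haveI hN : Nontrivial (Localization.Away f) := by
        haveI : Nontrivial (Localization.Away f) :=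
          (IsLocalization.Away.lift f (S := Localization.Away f) (g := MvPolynomial.aeval (R := R) (fun _ : Fin (n + 1) => (1 : R)) |>.toRingHom)
            (by show IsUnit (MvPolynomial.aeval (R := R) (fun _ : Fin (n + 1) => (1 : R)) (MvPolynomial.X 0)); simp)).domain_nontrivial
        exact this
      haveI : Nontrivial (HomogeneousLocalization.Away (MvPolynomial.homogeneousSubmodule (Fin (n + 1)) R) f) :=
        ⟨⟨0, 1, fun h => zero_ne_one (α := Localization.Away f)
          (HomogeneousLocalization.val_zero.symm.trans ((congrArg HomogeneousLocalization.val h).trans HomogeneousLocalization.val_one))⟩⟩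
      obtain ⟨y⟩ : Nonempty (Spec (CommRingCat.of (HomogeneousLocalization.Away
          (MvPolynomial.homogeneousSubmodule (Fin (n + 1)) R) f))) :=
        (inferInstance : Nonempty (PrimeSpectrum _))
      exact ⟨((Proj.basicOpenIsoSpec (MvPolynomial.homogeneousSubmodule (Fin (n + 1)) R) f (ProjPt.X_mem 0)
        one_pos).inv.base y).1⟩
    have hsep : (CohB1.ProjSpace n R).IsSeparated :=
      (inferInstance : (Proj (MvPolynomial.homogeneousSubmodule (Fin (n + 1)) R)).IsSeparated)
    have hneg : ∀ e : ℤ, e < 0 → ¬ CohB1.IsAmple (Twist.twistProjSpace n R e) := by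
      rintro e he ⟨hi, -, hx⟩
      obtain ⟨x⟩ := hX
      obtain ⟨m, s, hxs, -⟩ := hx x
      have hsub : Subsingleton Γ(CohB1.tensorPow (Twist.twistProjSpace n R e) (m + 1), ⊤) := by
        obtain ⟨iso⟩ := cl_eq_iff.1 (((cl_tensorPow _ (m + 1)).trans (hpow e (m + 1))))
        have hlt : ((m + 1 : ℕ) : ℤ) * e < 0 := Int.mul_neg_of_pos_of_neg (by positivity) he
        haveI : Subsingleton (Coh.HH (CohB1.ProjSpace n R)
            (CohB1.tensorPow (Twist.twistProjSpace n R e) (m + 1)) 0) :=
          QCoh.subsingleton_HH_of_iso iso.symm _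
            (Groth.Agent.S0844.result R n _ 0 (fun h => absurd h.2 (not_le.2 hlt)) (fun h => absurd h.1 (by omega)))
        exact (CategoryTheory.Sheaf.H.equiv₀
          (Coh.toAb (CohB1.tensorPow (Twist.twistProjSpace n R e) (m + 1))) Limits.isTerminalTop).symm.injective.subsingleton
      have hs : s = 0 := by
        ext W r
        exact (InvX.app_eq_smul s (show Γ(CohB1.ProjSpace n R, W) from r)).trans ((congrArg ((show Γ(CohB1.ProjSpace n R, W) from r) • ·) ((congrArg _ (hsub.elim (InvX.one s) 0)).trans (map_zero _))).trans (smul_zero _))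
      rw [hs, AVHomLib.genLocus_eq_bot_of_eq_zero (InvX.isInvertible_tensorPow hi _)] at hxs
      exact hxs
    constructor
    · intro h
      by_contra hd
      push_neg at hd
      haveI : CompactSpace (CohB1.ProjSpace n R) := h.2.1
      obtain ⟨n₀, -, hn₀⟩ := AmpleX.eventually_ample_tensor h (hinv (-1))
      obtain ⟨iso⟩ := cl_eq_iff.1 (show PicF.cl (CohB1.tensorMod (CohB1.tensorPow (Twist.twistProjSpace n R d) n₀)
          (Twist.twistProjSpace n R (-1))) = PicF.cl (Twist.twistProjSpace n R ((n₀ : ℤ) * d + -1)) by
        rw [cl_tensor, cl_tensorPow, hpow, hmul])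
      have : (n₀ : ℤ) * d ≤ 0 := mul_nonpos_of_nonneg_of_nonpos (Int.natCast_nonneg _) hd
      exact hneg _ (by omega) (AmpleX.isAmple_of_iso iso (hn₀ n₀ le_rfl).1)
    · intro hd
      obtain ⟨m, rfl⟩ : ∃ m : ℕ, d = m := ⟨d.toNat, by omega⟩
      obtain ⟨iso⟩ := PnCoh.Finite.twist_tensorPow_iso g hg hcov m
      exact AmpleX.isAmple_of_iso iso.symm (AmpleX.isAmple_tensorPow (HilbEv.isAmple_O1 n R) (by exact_mod_cast hd))

end Groth.Agent.S10962
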