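import Groth.Statements.S1099
import Groth.Agent.DQGen.CountHom
import Groth.Agent.DQGen.Compact
-- import your own Groth.Agent.* helpers here

set_option autoImplicit false
universe u
open CategoryTheory CategoryTheory.Limits AlgebraicGeometry Opposite
attribute [local instance] HasDerivedCategory.standard
open Perf

namespace Groth.Agent.S1099

/-- Let the scheme X be quasi-compact and quasi-separated, K ∈ D(O_X) with quasi-coherent cohomology
sheaves whose sections over affine opens are countable, E a perfect object of D(O_X), and U ⊆ X a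
quasi-compact open (restriction to U assumed exact). Then for every i the group of morphisms E|_U ⟶
K|_U[i] in D(O_U) is countable. -/
theorem result (X : Scheme.{u}) [CompactSpace ↥X] [QuasiSeparatedSpace ↥X]
    (K : DCoh.D X) (hK : DCoh.IsQCohD K) (hKc : ∀ V : X.Opens, IsAffineOpen V → ∀ i : ℤ, Countable ((DCoh.HD K i).val.obj (op V)))
    (E : DCoh.D X) (hE : DCoh.IsPerfect E) (U : X.Opens) (hU : IsCompact (U : Set X)) [PreservesFiniteLimits (Scheme.Modules.restrictFunctor U.ι)] (i : ℤ) :
    Countable ((DCoh.restrictD U.ι).obj E ⟶ ((DCoh.restrictD U.ι).obj K)⟦i⟧) := by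
  haveI : CompactSpace (U : Scheme.{u}) := DQGen.compactSpace_opens hU
  haveI : QuasiSeparatedSpace (U : Scheme.{u}) := DQGen.quasiSeparatedSpace_of_imm U.ι
  let K' := K⟦i⟧
  have hKc' : DQGen.CountSec K' := fun V hV n => by
    haveI := hKc V hV (i + n)
    let e := ((DerivedCategory.homologyFunctor X.Modules 0).shiftIso i n (i + n) rfl).app K
    exact @Function.Injective.countable _ _ (hKc V hV (i + n)) _
      ((SheafOfModules.forget _ ⋙ PresheafOfModules.evaluation _ (op V)).mapIso e).toLinearEquiv.toEquiv.injective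
  have hc := DQGen.countHom (U : Scheme.{u}) _ (DQGen.isPerfect_rho U.ι hE) _
    (KFlatLib.isQCohD_rho U.ι (KFlatLib.isQCohD_shift hK i)) (hKc'.rho U.ι)
  refine @Function.Injective.countable _ _ hc (fun φ : (DCoh.restrictD U.ι).obj E ⟶ ((DCoh.restrictD U.ι).obj K)⟦i⟧ =>
    φ ≫ (((KFlatLib.rho U.ι).commShiftIso i).app K).inv) fun φ φ' h => ?_
  exact (cancel_mono _).1 h


end Groth.Agent.S1099
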