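import Groth.Statements.S1102
import Groth.Agent.PushAmp.PushPC
import Groth.Agent.KFlatLib.Perfect.DLocal

set_option autoImplicit false
universe u
open CategoryTheory CategoryTheory.Limits AlgebraicGeometry
attribute [local instance] HasDerivedCategory.standard
open Perf

namespace Groth.Agent.S1102

/-- For a closed immersion i : Z ⟶ X with pseudo-coherent direct image i_*O_Z (exactness of i_* carried
as binders, true for closed immersions), E ∈ D(O_Z) is m-pseudo-coherent exactly when its termwise
direct image i_*E = Ri_*E is. -/
theorem result {Z X : Scheme.{u}} (i : Z ⟶ X) [IsClosedImmersion i]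
    [(Scheme.Modules.pushforward i).Additive] [PreservesFiniteLimits (Scheme.Modules.pushforward i)] [PreservesFiniteColimits (Scheme.Modules.pushforward i)]
    (hO : ∀ m : ℤ, DCoh.IsPseudoCoherentD m (DCoh.inD X ((Scheme.Modules.pushforward i).obj (Coh.structureModule Z))))
    (E : DCoh.D Z) (m : ℤ) :
    DCoh.IsPseudoCoherentD m E ↔ DCoh.IsPseudoCoherentD m ((Scheme.Modules.pushforward i).mapDerivedCategory.obj E) := by
  have hs : Groth.Agent.PushAmp.PushPC i := fun k =>
    ((Groth.Agent.KFlatLib.isPseudoCoherentD_iff _ _).1 (hO k)).of_iso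
      (((Scheme.Modules.pushforward i).mapDerivedCategorySingleFunctor 0).app (Coh.structureModule Z)).symm
  rw [Groth.Agent.KFlatLib.isPseudoCoherentD_iff, Groth.Agent.KFlatLib.isPseudoCoherentD_iff]
  exact Groth.Agent.PushAmp.locPC_pushD_iff i hs m E

end Groth.Agent.S1102
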