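import Groth.Statements.S1108
import Groth.Agent.AmpleX.Generated
import Groth.Agent.AmpleX.Separated
import Groth.Agent.AmpleVan.FinGen
import Groth.Agent.Lib.CurveTensor
import Groth.Agent.SheafHomX.Coherent
import Groth.Agent.KFlatLib.Perfect.Tensor

set_option autoImplicit false
universe u
open CategoryTheory AlgebraicGeometry
open Perf

set_option backward.isDefEq.respectTransparency false
set_option backward.isDefEq.respectTransparency.types false

namespace Groth.Agent.S1108

open Limits in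
/-- Tensoring preserves epimorphisms. -/
theorem epi_tensor {X : Scheme.{u}} (G : X.Modules) {A B : X.Modules} (p : A ⟶ B) [Epi p] :
    Epi ((DCoh.tensorBi.obj G).map p) := by
  haveI : PreservesColimitsOfSize.{u, u} ((DCoh.tensorBi (X := X)).obj G) :=
    ⟨fun {K} _ => preservesColimitsOfShape_of_natIso ((KFlatLib.tensorBiFlipIso X).app G)⟩
  haveI : PreservesFiniteColimits ((DCoh.tensorBi (X := X)).obj G) :=
    PreservesColimitsOfSize.preservesFiniteColimits _
  exact ((DCoh.tensorBi (X := X)).obj G).map_epi p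

/-- A scheme X admitting an ample invertible O_X-module has the resolution property: every
quasi-coherent O_X-module of finite type is a quotient of a finite locally free O_X-module. -/
theorem result (X : Scheme.{u}) (L : X.Modules) (hL : CohB1.IsAmple L) : PerfAux.HasResolutionProperty X := by
  haveI : CompactSpace X := hL.2.1
  haveI : X.IsSeparated := AmpleX.isSeparated_of_isAmple hL
  intro F hF hft
  obtain ⟨n₀, hn₀⟩ := AmpleX.eventually_generated hL hF hft
  obtain ⟨G, iso, ι, s, hs⟩ := hn₀ n₀ le_rfl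
  have hP := InvX.isInvertible_tensorPow hL.1 n₀
  have hPF : Coh.IsCoh ((DCoh.tensorBi.obj (CohB1.tensorPow L n₀)).obj F) :=
    CurveTensor.isCoh_tensor (H23.PullPush.isFinLocFree_of_isInvertible hP) ⟨hF, hft⟩
  obtain ⟨c⟩ := H23.PicMul.comm (CohB1.tensorPow L n₀) F
  have hG : Coh.IsCoh G := SheafHomX.isCoh_of_iso (c ≪≫ iso.symm) hPF
  obtain ⟨k, j, hj⟩ := AmpleVan.exists_fin_generatedBy hG s hs
  obtain ⟨p, hp⟩ := InvX.exists_epi_freeMod hj
  obtain ⟨M, hM, ⟨e⟩⟩ := H23.PicInv.exists_inverse hP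
  obtain ⟨a⟩ := H23.PicMul.assoc F (CohB1.tensorPow L n₀) M
  obtain ⟨v⟩ := H23.PicMul.unit F
  obtain ⟨c'⟩ := H23.PicMul.comm M (CohB1.tensorMod F (CohB1.tensorPow L n₀))
  haveI := hp
  haveI := epi_tensor M (p ≫ iso.hom)
  let ε : (DCoh.tensorBi.obj M).obj (CohB1.tensorMod F (CohB1.tensorPow L n₀)) ≅ F :=
    c' ≪≫ a ≪≫ (DCoh.tensorBi.obj F).mapIso e ≪≫ v
  exact ⟨(DCoh.tensorBi.obj M).obj (FlatMod.freeMod X k), (DCoh.tensorBi.obj M).map (p ≫ iso.hom) ≫ ε.hom,
    KFlatLib.isFinLocFree_tensor (H23.PullPush.isFinLocFree_of_isInvertible hM)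
      (KFlatLib.isFinLocFree_freeMod k), inferInstance⟩

end Groth.Agent.S1108
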