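import Groth.Statements.S11081
import Groth.Agent.DiffTame.Basic
import Mathlib

set_option autoImplicit false
universe u
attribute [local instance] FractionRing.liftAlgebra
open CAlg

namespace Groth.Agent.S11081

attribute [local instance] Ideal.Quotient.field

theorem trace_pi' {k : Type*} [Field k] {ι : Type*} [Fintype ι] [DecidableEq ι] (R : ι → Type*)
    [∀ i, CommRing (R i)] [∀ i, Algebra k (R i)] [∀ i, FiniteDimensional k (R i)] (x : ∀ i, R i) :
    Algebra.trace k (∀ i, R i) x = ∑ i, Algebra.trace k (R i) (x i) := by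
  have h : LinearMap.mul k (∀ i, R i) x = ∑ i, (LinearMap.single k R i ∘ₗ LinearMap.mul k (R i) (x i)) ∘ₗ
      LinearMap.proj i := by
    refine LinearMap.ext fun v => funext fun j => ?_
    simp [LinearMap.sum_apply, Finset.sum_apply, Pi.single_apply]
  rw [Algebra.trace_apply]
  show LinearMap.trace k _ (LinearMap.mul k (∀ i, R i) x) = _
  rw [h, map_sum]
  refine Finset.sum_congr rfl fun i _ => ?_
  rw [LinearMap.trace_comp_comm' (LinearMap.proj i) (LinearMap.single k R i ∘ₗ LinearMap.mul k (R i) (x i)),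
    Algebra.trace_apply]
  congr 1
  ext v
  simp

theorem trace_quot_pow (A B : Type*) [CommRing A] [CommRing B] [IsDedekindDomain B] [Algebra A B]
    [Module.Finite A B] (p : Ideal A) [p.IsMaximal] (Q : Ideal B) [Q.IsMaximal] (hQ : Q ≠ ⊥)
    [Q.LiesOver p] (c : ℕ) (hc : c ≠ 0) [Algebra (A ⧸ p) (B ⧸ Q ^ c)]
    [IsScalarTower A (A ⧸ p) (B ⧸ Q ^ c)] (y : B) :
    Algebra.trace (A ⧸ p) (B ⧸ Q ^ c) (Ideal.Quotient.mk _ y) =
      c • Algebra.trace (A ⧸ p) (B ⧸ Q) (Ideal.Quotient.mk Q y) := by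
  classical
  haveI : Module.Finite (A ⧸ p) (B ⧸ Q ^ c) := Module.Finite.of_restrictScalars_finite A _ _
  obtain ⟨π, hπQ, hπ2⟩ : ∃ π, π ∈ Q ∧ π ∉ Q ^ 2 := by
    by_contra! h
    exact (Ideal.pow_right_strictAnti Q hQ (Ideal.IsPrime.ne_top inferInstance) (show 1 < 2 by norm_num)).not_ge
      (by simp only [pow_one]; exact h)
  set t := Ideal.Quotient.mk (Q ^ c) π with ht
  have hcop : ∀ (b : B), b ∉ Q → IsUnit (Ideal.Quotient.mk (Q ^ c) b) := by
    intro b hb
    obtain ⟨z, i, hi, hz⟩ := (inferInstance : Q.IsMaximal).exists_inv hb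
    have h1 : Ideal.span {b} ⊔ Q = ⊤ := by
      rw [Ideal.eq_top_iff_one, ← hz]
      exact Submodule.add_mem_sup (Ideal.mem_span_singleton'.mpr ⟨z, rfl⟩) hi
    have h2 : Ideal.span {b} ⊔ Q ^ c = ⊤ := Ideal.sup_pow_eq_top h1
    obtain ⟨u, hu, v, hv, huv⟩ := Submodule.mem_sup.mp ((Ideal.eq_top_iff_one _).mp h2)
    obtain ⟨r, rfl⟩ := Ideal.mem_span_singleton'.mp hu
    refine IsUnit.of_mul_eq_one (Ideal.Quotient.mk _ r) ?_
    rw [mul_comm, ← map_mul, ← map_one (Ideal.Quotient.mk (Q ^ c)), Ideal.Quotient.eq, ← huv]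
    simpa using hv
  have hne : ∀ i, i < c → t ^ i ≠ 0 := by
    intro i hi h0
    rw [ht, ← map_pow, Ideal.Quotient.eq_zero_iff_mem] at h0
    have hd : Q ^ c ∣ Ideal.span {π} ^ i := by
      rw [Ideal.dvd_iff_le, Ideal.span_singleton_pow, Ideal.span_singleton_le_iff_mem]; exact h0
    have hd1 : ¬ Q ^ 2 ∣ Ideal.span {π} := by
      rw [Ideal.dvd_iff_le, Ideal.span_singleton_le_iff_mem]; exact hπ2
    obtain ⟨J, hJ⟩ : Q ∣ Ideal.span {π} := by
      rw [Ideal.dvd_iff_le, Ideal.span_singleton_le_iff_mem]; exact hπQ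
    have hp : Prime Q := Ideal.prime_of_isPrime hQ inferInstance
    have hJQ : ¬ Q ∣ J := fun h => hd1 (by rw [hJ, pow_two]; exact mul_dvd_mul_left Q h)
    rw [hJ, mul_pow, ← Nat.add_sub_cancel' hi.le, pow_add,
      mul_dvd_mul_iff_left (pow_ne_zero i hp.ne_zero)] at hd
    exact hJQ (hp.dvd_of_dvd_pow ((dvd_pow_self Q (by omega)).trans hd))
  have hspan : ∀ b : B, Ideal.Quotient.mk (Q ^ c) b ∈ Ideal.span {t} ↔ b ∈ Q := by
    intro b
    constructor
    · intro h
      rw [ht, Ideal.mem_span_singleton'] at h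
      obtain ⟨z, hz⟩ := h
      obtain ⟨z, rfl⟩ := Ideal.Quotient.mk_surjective z
      rw [← map_mul, Ideal.Quotient.eq] at hz
      have h2 := sub_mem (Q.mul_mem_left z hπQ) (Ideal.pow_le_self hc hz)
      simpa using h2
    · intro hb
      have hle : Q ≤ Ideal.span {π} ⊔ Q ^ c := by
        obtain ⟨J, hJ⟩ : Q ∣ Ideal.span {π} := by
          rw [Ideal.dvd_iff_le, Ideal.span_singleton_le_iff_mem]; exact hπQ
        have hJQ : ¬ J ≤ Q := fun h => hπ2 (by
          rw [← Ideal.span_singleton_le_iff_mem, hJ, pow_two]; exact Ideal.mul_mono_right h)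
        obtain ⟨x, hxJ, hxQ⟩ := SetLike.not_le_iff_exists.mp hJQ
        have htop : J ⊔ Q = ⊤ := by
          obtain ⟨z, i, hi, hz⟩ := (inferInstance : Q.IsMaximal).exists_inv hxQ
          rw [Ideal.eq_top_iff_one, ← hz]
          exact Submodule.add_mem_sup (J.mul_mem_left z hxJ) hi
        have htop' : J ⊔ Q ^ (c - 1) = ⊤ := Ideal.sup_pow_eq_top htop
        refine le_of_eq ?_
        rw [hJ, show Q ^ c = Q * Q ^ (c - 1) by rw [← pow_succ', Nat.sub_add_cancel (Nat.pos_of_ne_zero hc)],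
          ← Ideal.mul_sup, htop', Ideal.mul_top]
      obtain ⟨u, hu, v, hv, rfl⟩ := Submodule.mem_sup.mp (hle hb)
      rw [map_add, Ideal.Quotient.eq_zero_iff_mem.mpr hv, add_zero]
      obtain ⟨r, rfl⟩ := Ideal.mem_span_singleton'.mp hu
      rw [map_mul]
      exact Ideal.mul_mem_left _ _ (Ideal.mem_span_singleton_self t)
  rw [Groth.Agent.DiffTame.trace_eq_nsmul (k := A ⧸ p) t c
    (by rw [ht, ← map_pow, Ideal.Quotient.eq_zero_iff_mem]; exact Ideal.pow_mem_pow hπQ c) hne
    (fun v hv => by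
      obtain ⟨b, rfl⟩ := Ideal.Quotient.mk_surjective v
      exact hcop b fun h => hv ((hspan b).mpr h))
    (fun hu => by
      have h1 := Ideal.span_singleton_eq_top.mpr hu
      exact (Ideal.ne_top_iff_one Q).mp (Ideal.IsPrime.ne_top inferInstance)
        ((hspan 1).mp (by rw [h1]; exact Submodule.mem_top)))]
  congr 1
  let f : B →+* (B ⧸ Q ^ c) ⧸ Ideal.span {t} := (Ideal.Quotient.mk _).comp (Ideal.Quotient.mk _)
  have hf : Function.Surjective f := Ideal.Quotient.mk_surjective.comp Ideal.Quotient.mk_surjective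
  have hkf : RingHom.ker f = Q := Ideal.ext fun b => by
    rw [RingHom.mem_ker, RingHom.comp_apply, Ideal.Quotient.eq_zero_iff_mem, hspan]
  let ε : (B ⧸ Q) ≃+* (B ⧸ Q ^ c) ⧸ Ideal.span {t} :=
    (Ideal.quotEquivOfEq hkf.symm).trans (RingHom.quotientKerEquivOfSurjective hf)
  let εA : (B ⧸ Q) ≃ₐ[A ⧸ p] (B ⧸ Q ^ c) ⧸ Ideal.span {t} :=
    AlgEquiv.ofRingEquiv (f := ε) fun a => by
      obtain ⟨a, rfl⟩ := Ideal.Quotient.mk_surjective a
      rw [IsScalarTower.algebraMap_apply (A ⧸ p) (B ⧸ Q ^ c) ((B ⧸ Q ^ c) ⧸ Ideal.span {t})]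
      have h1 : algebraMap (A ⧸ p) (B ⧸ Q ^ c) (Ideal.Quotient.mk p a) =
          Ideal.Quotient.mk (Q ^ c) (algebraMap A B a) :=
        (IsScalarTower.algebraMap_apply A (A ⧸ p) (B ⧸ Q ^ c) a).symm
      rw [h1]
      rfl
  exact Algebra.trace_eq_of_algEquiv εA (Ideal.Quotient.mk Q y)


/-- Let A be a Dedekind domain, B a Dedekind domain which is a finitely generated torsion-free A-algebra
whose fraction field is separable over that of A (B is the integral closure of A in a finite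
separable extension), p a nonzero prime ideal of A and y an element of B. Then the class modulo p of
the trace of y from B to A is the sum over the primes Q of B lying over p of e(Q|p) times the trace,
from B/Q to A/p, of the class of y modulo Q. -/
theorem result (A B : Type u) [CommRing A] [CommRing B]
    [IsDedekindDomain A] [IsDedekindDomain B] [Algebra A B] [Module.Finite A B] [Module.IsTorsionFree A B]
    [Algebra.IsSeparable (FractionRing A) (FractionRing B)]
    (p : Ideal A) [p.IsMaximal] (hp : p ≠ ⊥) (y : B) :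
    Ideal.Quotient.mk p (Algebra.intTrace A B y) =
      ∑ᶠ Q : p.primesOver B,
        Q.1.ramificationIdx A •
          Algebra.trace (A ⧸ p) (B ⧸ Q.1) (Ideal.Quotient.mk Q.1 y) := by
  classical
  let P := p.map (algebraMap A B)
  have hP : P ≠ ⊥ := Ideal.map_ne_bot_of_ne_bot hp
  let ι := {Q : Ideal B // Q ∈ (UniqueFactorizationMonoid.factors P).toFinset}
  have hmem : ∀ Q : Ideal B, Q ∈ (UniqueFactorizationMonoid.factors P).toFinset ↔ Q ∈ p.primesOver B :=
    fun Q => IsDedekindDomain.mem_primesOverFinset_iff (B := B) hp (P := Q)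
  let e : ι ≃ p.primesOver B := Equiv.subtypeEquivRight hmem
  have hle : ∀ Q : ι, P ≤ Q.1 ^ (UniqueFactorizationMonoid.factors P).count Q.1 := by
    intro Q
    refine Ideal.le_of_dvd ?_
    have h1 := Multiset.prod_dvd_prod_of_le (Multiset.le_count_iff_replicate_le.mp
      (le_refl ((UniqueFactorizationMonoid.factors P).count Q.1)))
    rw [Multiset.prod_replicate] at h1
    exact h1.trans (UniqueFactorizationMonoid.factors_prod hP).dvd
  letI : ∀ Q : ι, Algebra (A ⧸ p) (B ⧸ Q.1 ^ (UniqueFactorizationMonoid.factors P).count Q.1) :=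
    fun Q => Ideal.Quotient.algebraQuotientOfLEComap (Ideal.map_le_iff_le_comap.mp (hle Q))
  haveI : ∀ Q : ι, IsScalarTower A (A ⧸ p) (B ⧸ Q.1 ^ (UniqueFactorizationMonoid.factors P).count Q.1) :=
    fun Q => IsScalarTower.of_algebraMap_eq fun a => rfl
  haveI : ∀ Q : ι, Module.Finite (A ⧸ p) (B ⧸ Q.1 ^ (UniqueFactorizationMonoid.factors P).count Q.1) :=
    fun Q => Module.Finite.of_restrictScalars_finite A _ _
  let E : (B ⧸ P) ≃ₐ[A ⧸ p] (∀ Q : ι, B ⧸ Q.1 ^ (UniqueFactorizationMonoid.factors P).count Q.1) :=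
    AlgEquiv.ofRingEquiv (f := IsDedekindDomain.quotientEquivPiFactors hP) fun a => by
      obtain ⟨a, rfl⟩ := Ideal.Quotient.mk_surjective a
      rfl
  have hE : E (Ideal.Quotient.mk P y) =
      fun Q : ι => Ideal.Quotient.mk (Q.1 ^ (UniqueFactorizationMonoid.factors P).count Q.1) y := rfl
  rw [← Algebra.trace_quotient_eq_of_isDedekindDomain (R := A) (S := B), ← Algebra.trace_eq_of_algEquiv E,
    hE, trace_pi', ← finsum_comp_equiv e, finsum_eq_sum_of_fintype]
  refine Finset.sum_congr rfl fun Q _ => ?_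
  haveI : Q.1.IsPrime := ((hmem Q.1).mp Q.2).1
  haveI : Q.1.LiesOver p := ((hmem Q.1).mp Q.2).2
  haveI : Q.1.IsMaximal := Ideal.IsMaximal.of_liesOver_isMaximal Q.1 p
  have hQ : Q.1 ≠ ⊥ := Ideal.ne_bot_of_liesOver_of_ne_bot hp Q.1
  rw [trace_quot_pow A B p Q.1 hQ _ (by
      exact (Multiset.count_pos.mpr (Multiset.mem_toFinset.mp Q.2)).ne') y,
    ← Ideal.IsDedekindDomain.ramificationIdx_eq_factors_count p Q.1 hP]
  rfl

end Groth.Agent.S11081
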