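import Groth.Statements.S11082
import Mathlib
import Groth.Agent.OmegaField.Basis

set_option autoImplicit false
universe u v
open CAlg

namespace Groth.Agent.S11082

/-- Let k be an algebraically closed field, F a field extension of k which is finitely generated as a
field, and x a transcendence basis of F over k indexed by a type ι. Then F is a separable algebraic
extension of the subfield k(x) generated by the family (x is a separating transcendence basis) if
and only if the differentials d(x i) form a basis of the F-vector space of Kähler differentials of F
over k, i.e. they are linearly independent over F and span it. -/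
theorem result (k : Type u) (F : Type v)
    [Field k] [IsAlgClosed k] [Field F] [Algebra k F] (hF : (⊤ : IntermediateField k F).FG)
    {ι : Type v} (x : ι → F) (hx : IsTranscendenceBasis k x) :
    Algebra.IsSeparable (IntermediateField.adjoin k (Set.range x)) F ↔
      (LinearIndependent F (fun i : ι => KaehlerDifferential.D k F (x i)) ∧
        Submodule.span F (Set.range fun i : ι => KaehlerDifferential.D k F (x i)) = ⊤) := by
  classical
  let K' := IntermediateField.adjoin k (Set.range x)
  constructor
  · intro hsep
    obtain ⟨b, hb⟩ := Groth.Agent.OmegaField.exists_basis k F x hx.1 hsep
    have : (fun i : ι => KaehlerDifferential.D k F (x i)) = b := funext fun i => (hb i).symm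
    rw [this]
    exact ⟨b.linearIndependent, b.span_eq⟩
  · rintro ⟨-, hspan⟩
    haveI : Algebra.EssFiniteType k F := IntermediateField.essFiniteType_iff.mpr hF |> fun h => by
      exact (Algebra.EssFiniteType.iff_of_algEquiv IntermediateField.topEquiv).mp h
    haveI : Algebra.EssFiniteType K' F := Algebra.EssFiniteType.of_comp k K' F
    haveI : Algebra.FormallyUnramified K' F := by
      refine ⟨?_⟩
      have hsurj := KaehlerDifferential.map_surjective k K' F
      have hzero : KaehlerDifferential.map k K' F F = 0 := by
        refine LinearMap.ext_on hspan ?_
        rintro _ ⟨i, rfl⟩
        rw [KaehlerDifferential.map_D, LinearMap.zero_apply]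
        exact (KaehlerDifferential.D K' F).map_algebraMap ⟨x i, IntermediateField.subset_adjoin k _ ⟨i, rfl⟩⟩
      exact subsingleton_of_forall_eq 0 fun y => by
        obtain ⟨z, rfl⟩ := hsurj y
        rw [hzero, LinearMap.zero_apply]
    exact Algebra.FormallyUnramified.isSeparable K' F

end Groth.Agent.S11082
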