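import Groth.Statements.S11085
-- import your own Groth.Agent.* helpers here
import Mathlib
import Groth.Agent.KrullAki.Basic
import Groth.Agent.ValRank1.Basic
import Groth.Agent.VarDim.Basic
import Groth.Agent.EGA41Lib.IntDim

set_option autoImplicit false
universe u
open CAlg

namespace Groth.Agent.S11085

theorem mem_of_isIntegral {R F : Type*} [CommRing R] [Field F] [Algebra R F]
    {O : ValuationSubring F} (h : ∀ r : R, algebraMap R F r ∈ O) {x : F} (hx : IsIntegral R x) :
    x ∈ O := by
  let φ : R →+* O := (algebraMap R F).codRestrict O.toSubring h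
  have hx' : IsIntegral O x := by
    obtain ⟨p, hp, hp0⟩ := hx
    refine ⟨p.map φ, hp.map φ, ?_⟩
    rw [Polynomial.eval₂_map]
    exact hp0
  obtain ⟨y, hy⟩ := IsIntegrallyClosed.isIntegral_iff.mp hx'
  exact hy ▸ y.2

open Polynomial in
theorem krullDimLE_one_adjoin_singleton {k F : Type u} [Field k] [CommRing F] [Algebra k F] (u : F) :
    ringKrullDim (Algebra.adjoin k ({u} : Set F)) ≤ 1 := by
  let f : k[X] →ₐ[k] Algebra.adjoin k ({u} : Set F) :=
    Polynomial.aeval ⟨u, Algebra.self_mem_adjoin_singleton k u⟩
  have hf : Function.Surjective f := by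
    rintro ⟨x, hx⟩
    rw [Algebra.adjoin_singleton_eq_range_aeval] at hx
    obtain ⟨p, hp⟩ := hx
    refine ⟨p, Subtype.ext ?_⟩
    rw [Polynomial.coe_aeval_mk_apply]
    exact hp
  refine (ringKrullDim_le_of_surjective f.toRingHom hf).trans ?_
  rw [Polynomial.ringKrullDim_of_isNoetherianRing, ringKrullDim_eq_zero_of_field]
  rfl

set_option maxHeartbeats 1000000 in
open IsDedekindDomain in
/-- In a function field of one variable, finitely many valuation rings over `k` have `u` in their
maximal ideal. -/
theorem finite_zeros {k A F : Type u} [Field k] [CommRing A] [IsDomain A] [Algebra k A]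
    [Algebra.FiniteType k A] [Field F] [Algebra A F] [IsFractionRing A F] [Algebra k F]
    [IsScalarTower k A F] (htr : Algebra.trdeg k F = 1) (u : F) (hu : Transcendental k u) :
    {O : ValuationSubring F | (algebraMap k F).range ≤ O.toSubring ∧ u ∈ O ∧ u⁻¹ ∉ O}.Finite := by
  classical
  have hu0 : u ≠ 0 := fun h => hu (h ▸ isAlgebraic_zero)
  let R := Algebra.adjoin k ({u} : Set F)
  have hind : AlgebraicIndependent k (fun _ : PUnit.{u + 1} => u) :=
    algebraicIndependent_unique_type_iff.mpr hu
  have hbasis : IsTranscendenceBasis k (fun _ : PUnit.{u + 1} => u) :=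
    hind.isTranscendenceBasis_of_trdeg_le_of_finite (by simp [htr])
  have halg : Algebra.IsAlgebraic R F := by
    have := hbasis.isAlgebraic
    rwa [Set.range_const] at this
  obtain ⟨S, hS⟩ := Algebra.FiniteType.out (R := k) (A := A)
  have hch : ∀ a : A, ∃ r : R, r ≠ 0 ∧ IsIntegral R (r • algebraMap A F a) := fun a => by
    obtain ⟨r, hr, hri⟩ := (halg.isAlgebraic (algebraMap A F a)).exists_integral_multiple
    exact ⟨r, hr, hri⟩
  choose r hr0 hri using hch
  let T : Finset F := S.image fun a => r a • algebraMap A F a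
  let B := Algebra.adjoin R (T : Set F)
  have hTint : ∀ t ∈ (T : Set F), IsIntegral R t := by
    intro t ht
    obtain ⟨a, -, rfl⟩ := Finset.mem_image.mp ht
    exact hri a
  have hBint : Algebra.IsIntegral R B := by
    refine ⟨fun x => ?_⟩
    have hle : B ≤ integralClosure R F := Algebra.adjoin_le hTint
    exact (isIntegral_algHom_iff B.val Subtype.val_injective).mp (hle x.2)
  have : Algebra.FiniteType k R :=
    (Subalgebra.fg_iff_finiteType _).mp ⟨{u}, by rw [Finset.coe_singleton]⟩
  have : IsNoetherianRing R := Algebra.FiniteType.isNoetherianRing k R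
  have : Algebra.FiniteType R B := (Subalgebra.fg_iff_finiteType _).mp ⟨T, rfl⟩
  have : IsNoetherianRing B := Algebra.FiniteType.isNoetherianRing R B
  have : Ring.KrullDimLE 1 B := Ring.krullDimLE_iff.2
    ((Groth.Agent.EGA41Lib.ringKrullDim_le_of_integral (A := R) (B := B)).trans
      (krullDimLE_one_adjoin_singleton u))
  have hkey : ∀ a : A, ∃ b ∈ B, b ≠ 0 ∧ b * algebraMap A F a ∈ B := by
    intro a
    have ha : a ∈ Algebra.adjoin k (S : Set A) := by rw [hS]; trivial
    induction ha using Algebra.adjoin_induction with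
    | mem x hx =>
      refine ⟨(r x : F), B.algebraMap_mem (r x), fun h => hr0 x (Subtype.ext h), ?_⟩
      exact Algebra.subset_adjoin (Finset.mem_image_of_mem _ hx)
    | algebraMap c =>
      refine ⟨1, B.one_mem, one_ne_zero, ?_⟩
      rw [one_mul, ← IsScalarTower.algebraMap_apply]
      exact B.algebraMap_mem (algebraMap k R c)
    | add x y _ _ hx hy =>
      obtain ⟨b, hb, hb0, hbx⟩ := hx
      obtain ⟨c, hc, hc0, hcy⟩ := hy
      refine ⟨b * c, B.mul_mem hb hc, mul_ne_zero hb0 hc0, ?_⟩
      rw [map_add, show b * c * (algebraMap A F x + algebraMap A F y)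
        = c * (b * algebraMap A F x) + b * (c * algebraMap A F y) by ring]
      exact B.add_mem (B.mul_mem hc hbx) (B.mul_mem hb hcy)
    | mul x y _ _ hx hy =>
      obtain ⟨b, hb, hb0, hbx⟩ := hx
      obtain ⟨c, hc, hc0, hcy⟩ := hy
      refine ⟨b * c, B.mul_mem hb hc, mul_ne_zero hb0 hc0, ?_⟩
      rw [map_mul, show b * c * (algebraMap A F x * algebraMap A F y)
        = (b * algebraMap A F x) * (c * algebraMap A F y) by ring]
      exact B.mul_mem hbx hcy
  have : IsFractionRing B F := by
    refine IsFractionRing.of_field _ _ fun z => ?_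
    obtain ⟨p, q, hq, rfl⟩ := IsFractionRing.div_surjective (A := A) z
    obtain ⟨b, hb, hb0, hbp⟩ := hkey p
    obtain ⟨c, hc, hc0, hcq⟩ := hkey q
    refine ⟨⟨_, B.mul_mem hc hbp⟩, ⟨_, B.mul_mem hb hcq⟩, ?_⟩
    show algebraMap A F p / algebraMap A F q =
      (c * (b * algebraMap A F p)) / (b * (c * algebraMap A F q))
    have : algebraMap A F q ≠ 0 := IsFractionRing.to_map_ne_zero_of_mem_nonZeroDivisors hq
    field_simp
  let C := integralClosure B F
  have : IsNoetherianRing C := Groth.Agent.KrullAki.isNoetherianRing_subalgebra C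
  have : Ring.KrullDimLE 1 C := Groth.Agent.KrullAki.krullDimLE_one_subalgebra C
  have : IsFractionRing C F := Groth.Agent.KrullAki.isFractionRing_subalgebra C
  have : IsIntegrallyClosed C := (isIntegrallyClosed_iff F).mpr fun {x} hx =>
    ⟨⟨x, isIntegral_trans (R := B) (A := C) x hx⟩, rfl⟩
  have : IsDedekindDomain C :=
    { maximalOfPrime := fun {P} hP hPp =>
        Ring.krullDimLE_one_iff_of_noZeroDivisors.1 ‹Ring.KrullDimLE 1 C› P hP hPp }
  let uC : C := algebraMap R C ⟨u, Algebra.self_mem_adjoin_singleton k u⟩
  have huC : algebraMap C F uC = u := rfl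
  have hI : Ideal.span {uC} ≠ 0 := by
    rw [Ne, Submodule.zero_eq_bot, Ideal.span_singleton_eq_bot]
    intro h
    exact hu0 (huC ▸ h ▸ map_zero _)
  refine ((Ideal.finite_factors hI).image
    fun v : HeightOneSpectrum C => (v.valuation F).valuationSubring).subset ?_
  rintro O ⟨hk, huO, huO'⟩
  have hR : ∀ x : R, algebraMap R F x ∈ O := by
    rintro ⟨x, hx⟩
    show x ∈ O
    induction hx using Algebra.adjoin_induction with
    | mem y hy => exact (Set.mem_singleton_iff.mp hy) ▸ huO
    | algebraMap c => exact hk ⟨c, rfl⟩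
    | add _ _ _ _ hx hy => exact O.add_mem _ _ hx hy
    | mul _ _ _ _ hx hy => exact O.mul_mem _ _ hx hy
  have hB : ∀ x : B, algebraMap B F x ∈ O := fun x =>
    mem_of_isIntegral hR ((hBint.isIntegral x).map B.val)
  have hC : ∀ x : C, algebraMap C F x ∈ O := fun x => mem_of_isIntegral hB x.2
  have hne : O ≠ ⊤ := fun h => huO' (h ▸ ValuationSubring.mem_top _)
  obtain ⟨v, hv⟩ := (Groth.Agent.ValRank1.eq_valuationSubring_iff O).mp ⟨fun _ ⟨x, hx⟩ => hx ▸ hC x, hne⟩
  refine ⟨v, ?_, hv.symm⟩
  show v.asIdeal ∣ Ideal.span {uC}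
  rw [Ideal.dvd_iff_le, Ideal.span_singleton_le_iff_mem,
    ← HeightOneSpectrum.valuation_lt_one_iff_mem (K := F)]
  change v.valuation F u < 1
  rw [hv, Valuation.mem_valuationSubring_iff, not_le, map_inv₀] at huO'
  have hpos : 0 < v.valuation F u := (Valuation.pos_iff _).mpr hu0
  exact (one_lt_inv₀ hpos).mp huO'

/-- Let k be a field, A a finitely generated k-algebra which is an integral domain of Krull dimension
one (the coordinate ring of an affine curve), and F its field of fractions. Then the set of
valuation subrings of F which contain k but do not contain A is finite. (The published statement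
speaks of all valuation rings of F different from F and not containing A, over an algebraically
closed k; valuation rings not containing k must be excluded — for k an algebraic closure of a
rational function field in one variable t over a finite field and F = k(x), the t-adic valuation of
k has infinitely many extensions to F, none of whose rings contains A — and the published proof,
through the valuation at infinity of k(x), treats valuation rings containing k; it does not use that
k is algebraically closed.) -/
theorem result (k A F : Type u) [Field k]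
    [CommRing A] [IsDomain A] [Algebra k A] [Algebra.FiniteType k A] (hA : ringKrullDim A = 1)
    [Field F] [Algebra A F] [IsFractionRing A F] [Algebra k F] [IsScalarTower k A F] :
    {O : ValuationSubring F | (algebraMap k F).range ≤ O.toSubring ∧
        ¬ (algebraMap A F).range ≤ O.toSubring}.Finite := by
  classical
  have htrA : Algebra.trdeg k A = 1 := by
    obtain ⟨n, hn, hn'⟩ := Groth.Agent.VarDim.exists_dim_eq_trdeg k A
    rw [hA] at hn
    have h1 : n = 1 := by exact_mod_cast hn.symm
    rw [hn', h1, Nat.cast_one]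
  have htr : Algebra.trdeg k F = 1 := by
    have : FaithfulSMul A F :=
      (faithfulSMul_iff_algebraMap_injective A F).mpr (IsFractionRing.injective A F)
    have : Algebra.IsAlgebraic A F := IsLocalization.isAlgebraic F (nonZeroDivisors A)
    have h := trdeg_add_eq k A (A := F)
    rw [htrA, trdeg_eq_zero (R := A), add_zero] at h
    exact h.symm
  obtain ⟨S, hS⟩ := Algebra.FiniteType.out (R := k) (A := A)
  let T : Set F :=
    {x | Transcendental k x} ∩ ((fun a => (algebraMap A F a)⁻¹) '' (S : Set A))
  have hT : T.Finite := (S.finite_toSet.image _).inter_of_right _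
  refine (hT.biUnion fun x hx => finite_zeros (A := A) htr x hx.1).subset ?_
  rintro O ⟨hk, hAO⟩
  have hex : ∃ a ∈ S, algebraMap A F a ∉ O := by
    by_contra! h
    apply hAO
    rintro _ ⟨a, rfl⟩
    have ha : a ∈ Algebra.adjoin k (S : Set A) := by rw [hS]; trivial
    induction ha using Algebra.adjoin_induction with
    | mem x hx => exact h x hx
    | algebraMap c => rw [← IsScalarTower.algebraMap_apply]; exact hk ⟨c, rfl⟩
    | add _ _ _ _ hx hy => rw [map_add]; exact O.add_mem _ _ hx hy
    | mul _ _ _ _ hx hy => rw [map_mul]; exact O.mul_mem _ _ hx hy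
  obtain ⟨a, haS, haO⟩ := hex
  have htra : Transcendental k (algebraMap A F a)⁻¹ := fun h =>
    haO (mem_of_isIntegral (fun c => hk ⟨c, rfl⟩) (IsAlgebraic.inv_iff.mp h).isIntegral)
  refine Set.mem_biUnion (x := (algebraMap A F a)⁻¹) ⟨htra, a, haS, rfl⟩
    ⟨hk, (O.mem_or_inv_mem _).resolve_left haO, ?_⟩
  rwa [inv_inv]

end Groth.Agent.S11085
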