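import Groth.Statements.S11086
import Mathlib

set_option autoImplicit false
universe u
attribute [local instance] FractionRing.liftAlgebra
open CAlg

namespace Groth.Agent.S11086

open scoped nonZeroDivisors
section
variable {A B L : Type*} (K : Type*) [CommRing A] [Field K] [CommRing B] [Field L]
  [Algebra A K] [Algebra B L] [Algebra A B] [Algebra K L] [Algebra A L]
  [IsScalarTower A K L] [IsScalarTower A B L] [IsDomain A] [IsFractionRing A K] [IsIntegrallyClosed A]
  [IsDedekindDomain B] [Module.IsTorsionFree A B] [IsFractionRing B L] [IsIntegralClosure B A L]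
  [FiniteDimensional K L] [Algebra.IsSeparable K L]

theorem mem_different_iff (b : B) : b ∈ differentIdeal A B ↔
    ∀ d ∈ Submodule.traceDual A K (1 : Submodule B L), algebraMap B L b * d ∈ (algebraMap B L).range := by
  have h : algebraMap B L b ∈ IsLocalization.coeSubmodule L (differentIdeal A B) ↔ b ∈ differentIdeal A B := by
    rw [IsLocalization.coeSubmodule, Submodule.mem_map]
    exact ⟨fun ⟨y, hy, hyb⟩ => (IsFractionRing.injective B L hyb) ▸ hy, fun h => ⟨b, h, rfl⟩⟩
  rw [← h, coeSubmodule_differentIdeal A K, Submodule.mem_div_iff_forall_mul_mem]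
  simp only [Submodule.mem_one, RingHom.mem_range]

theorem mem_dual_iff (x : L) : x ∈ Submodule.traceDual A K (1 : Submodule B L) ↔
    ∀ b : B, Algebra.trace K L (x * algebraMap B L b) ∈ (algebraMap A K).range := by
  rw [Submodule.mem_traceDual]
  refine ⟨fun h b => by simpa [Algebra.traceForm_apply] using h _ (Submodule.mem_one.mpr ⟨b, rfl⟩), fun h a ha => ?_⟩
  obtain ⟨b, rfl⟩ := Submodule.mem_one.mp ha
  simpa [Algebra.traceForm_apply] using h b

end

/-- Let A be a Dedekind domain, B a Dedekind domain which is a finitely generated torsion-free A-algebra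
with fraction field separable over that of A (the integral closure of A in a finite separable
extension), and S a submonoid of A consisting of non-zero-divisors. Let A_S and B_S be localizations
of A at S and of B at the image of S, with B_S an algebra over A_S compatibly with A and B (so A_S
is integrally closed and B_S is a Dedekind domain, torsion-free over A_S). Then the ideal of B_S
generated by the different of B over A is the different of B_S over A_S. -/
theorem result (A B : Type u) [CommRing A] [CommRing B]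
    [IsDedekindDomain A] [IsDedekindDomain B] [Algebra A B] [Module.Finite A B] [Module.IsTorsionFree A B]
    [Algebra.IsSeparable (FractionRing A) (FractionRing B)]
    (S : Submonoid A) (hS : S ≤ nonZeroDivisors A)
    (Aₛ Bₛ : Type u) [CommRing Aₛ] [CommRing Bₛ] [Algebra A Aₛ] [Algebra B Bₛ] [Algebra Aₛ Bₛ]
    [Algebra A Bₛ] [IsScalarTower A Aₛ Bₛ] [IsScalarTower A B Bₛ]
    [IsLocalization S Aₛ] [IsLocalization (Algebra.algebraMapSubmonoid B S) Bₛ]
    [IsDomain Aₛ] [IsIntegrallyClosed Aₛ] [IsDedekindDomain Bₛ] [Module.IsTorsionFree Aₛ Bₛ] :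
    Ideal.map (algebraMap B Bₛ) (differentIdeal A B) = differentIdeal Aₛ Bₛ := by
  classical
  let K := FractionRing A
  let L := FractionRing B
  let f : Aₛ →+* K := IsLocalization.map _ (T := A⁰) (RingHom.id A) hS
  have hS' : Algebra.algebraMapSubmonoid B S ≤ B⁰ :=
    Submonoid.map_le_of_le_comap _ <| hS.trans
      (nonZeroDivisors_le_comap_nonZeroDivisors_of_injective _ (FaithfulSMul.algebraMap_injective _ _))
  let g : Bₛ →+* L := IsLocalization.map _ (M := Algebra.algebraMapSubmonoid B S) (T := B⁰) (RingHom.id B) hS'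
  let := f.toAlgebra
  let := g.toAlgebra
  let := ((algebraMap K L).comp f).toAlgebra
  have : IsScalarTower A Aₛ K := IsScalarTower.of_algebraMap_eq'
    (by rw [RingHom.algebraMap_toAlgebra, IsLocalization.map_comp, RingHomCompTriple.comp_eq])
  let _ := IsFractionRing.isFractionRing_of_isDomain_of_isLocalization S Aₛ K
  have : IsScalarTower B Bₛ L := IsScalarTower.of_algebraMap_eq'
    (by rw [RingHom.algebraMap_toAlgebra, IsLocalization.map_comp, RingHomCompTriple.comp_eq])
  have : IsScalarTower Aₛ K L := IsScalarTower.of_algebraMap_eq' rfl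
  have : IsScalarTower Aₛ Bₛ L := by
    apply IsScalarTower.of_algebraMap_eq'
    apply IsLocalization.ringHom_ext S
    rw [RingHom.algebraMap_toAlgebra, RingHom.algebraMap_toAlgebra (R := Bₛ), RingHom.comp_assoc,
      RingHom.comp_assoc, ← IsScalarTower.algebraMap_eq, IsScalarTower.algebraMap_eq A B Bₛ,
      IsLocalization.map_comp, RingHom.comp_id, ← RingHom.comp_assoc, IsLocalization.map_comp,
      RingHom.comp_id, ← IsScalarTower.algebraMap_eq, ← IsScalarTower.algebraMap_eq]
  let _ := IsFractionRing.isFractionRing_of_isDomain_of_isLocalization (Algebra.algebraMapSubmonoid B S) Bₛ L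
  haveI : IsIntegralClosure B A L := IsIntegralClosure.of_isIntegrallyClosed _ _ _
  haveI : FiniteDimensional K L := .of_isLocalization A B A⁰
  haveI : Module.Finite Aₛ Bₛ := .of_isLocalization A B S
  haveI : IsIntegralClosure Bₛ Aₛ L := IsIntegralClosure.of_isIntegrallyClosed _ _ _
  ext x
  obtain ⟨b, ⟨_, s, hs, rfl⟩, rfl⟩ := IsLocalization.exists_mk'_eq (Algebra.algebraMapSubmonoid B S) x
  rw [IsLocalization.mk'_mem_map_algebraMap_iff, IsLocalization.mk'_mem_iff, mem_different_iff (A := Aₛ) (L := L) K]
  constructor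
  · rintro ⟨_, ⟨t, ht, rfl⟩, htb⟩ d hd
    rw [mem_different_iff (A := A) (L := L) K] at htb
    rw [mem_dual_iff] at hd
    obtain ⟨T, hT⟩ := (Module.Finite.fg_top : (⊤ : Submodule A B).FG)
    choose a ha using hd
    have hcl : ∀ c : T, ∃ (n : A) (u : S), a (algebraMap B Bₛ c.1) * algebraMap A Aₛ u = algebraMap A Aₛ n := fun c =>
      (IsLocalization.surj S (a (algebraMap B Bₛ c.1))).elim fun p hp => ⟨p.1, p.2, hp⟩
    choose n u hu using hcl
    have hU : (∏ c, (u c : A)) ∈ S := Submonoid.prod_mem _ fun c _ => (u c).2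
    set U := ∏ c, (u c : A)
    have hmem : algebraMap A L U * d ∈ Submodule.traceDual A K (1 : Submodule B L) := by
      rw [mem_dual_iff]
      intro b
      have hb : b ∈ Submodule.span A (T : Set B) := hT ▸ Submodule.mem_top
      induction hb using Submodule.span_induction with
      | zero => exact ⟨0, by simp⟩
      | add x y _ _ h1 h2 =>
        rw [map_add, mul_add, map_add]
        exact add_mem h1 h2
      | smul r x _ h1 =>
        obtain ⟨v, hv⟩ := h1
        refine ⟨r * v, ?_⟩
        rw [map_mul (algebraMap A K), hv, Algebra.smul_def r x, map_mul (algebraMap B L),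
          ← IsScalarTower.algebraMap_apply A B L r, IsScalarTower.algebraMap_apply A K L r,
          mul_left_comm (algebraMap A L U * d), ← Algebra.smul_def (algebraMap A K r), map_smul, smul_eq_mul]
      | mem c hc =>
        refine ⟨(∏ c' ∈ Finset.univ.erase (⟨c, hc⟩ : T), (u c' : A)) * n ⟨c, hc⟩, ?_⟩
        rw [mul_assoc, IsScalarTower.algebraMap_apply A K L, ← Algebra.smul_def, map_smul, smul_eq_mul]
        rw [show U = (∏ c' ∈ Finset.univ.erase (⟨c, hc⟩ : T), (u c' : A)) * u ⟨c, hc⟩ from
          (Finset.prod_erase_mul _ _ (Finset.mem_univ _)).symm]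
        rw [IsScalarTower.algebraMap_apply B Bₛ L c, ← ha, IsScalarTower.algebraMap_apply A Aₛ K, IsScalarTower.algebraMap_apply A Aₛ K,
          ← map_mul, map_mul (algebraMap A Aₛ), map_mul (algebraMap A Aₛ), ← hu ⟨c, hc⟩]
        congr 1
        ring
    obtain ⟨w, hw⟩ := htb _ hmem
    have hu' := IsLocalization.map_units Bₛ (⟨_, Submonoid.mem_map_of_mem _ (S.mul_mem ht hU)⟩ : Algebra.algebraMapSubmonoid B S)
    obtain ⟨v, hv⟩ := hu'
    refine ⟨↑v⁻¹ * algebraMap B Bₛ w, ?_⟩
    rw [map_mul, ← IsScalarTower.algebraMap_apply, hw]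
    have h1 : algebraMap Bₛ L ↑v⁻¹ * algebraMap B L (algebraMap A B (t * U)) = 1 := by
      rw [IsScalarTower.algebraMap_apply B Bₛ L, ← map_mul, ← hv, Units.inv_mul, map_one]
    rw [← IsScalarTower.algebraMap_apply B Bₛ L]
    simp only [map_mul, ← IsScalarTower.algebraMap_apply] at h1 ⊢
    linear_combination (algebraMap B L b * d) * h1
  · intro h
    obtain ⟨T, hT⟩ : (Submodule.traceDual A K (1 : Submodule B L)).FG := by
      rw [← FractionalIdeal.coe_dual_one]
      exact FractionalIdeal.fg_of_isNoetherianRing (le_refl _) _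
    have hS1 : ∀ d ∈ Submodule.traceDual A K (1 : Submodule B L),
        d ∈ Submodule.traceDual Aₛ K (1 : Submodule Bₛ L) := by
      intro d hd
      rw [mem_dual_iff] at hd ⊢
      intro y
      obtain ⟨c, ⟨_, u, hu, rfl⟩, rfl⟩ := IsLocalization.exists_mk'_eq (Algebra.algebraMapSubmonoid B S) y
      obtain ⟨v, hv⟩ := hd c
      obtain ⟨w, hw⟩ := IsLocalization.map_units Aₛ (⟨u, hu⟩ : S)
      refine ⟨↑w⁻¹ * algebraMap A Aₛ v, ?_⟩
      have e : algebraMap Bₛ L (IsLocalization.mk' Bₛ c (⟨_, u, hu, rfl⟩ : Algebra.algebraMapSubmonoid B S)) =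
          algebraMap K L (algebraMap Aₛ K ↑w⁻¹) * algebraMap B L c := by
        rw [← IsScalarTower.algebraMap_apply Aₛ K L, IsScalarTower.algebraMap_apply Aₛ Bₛ L,
          IsScalarTower.algebraMap_apply B Bₛ L, ← map_mul]
        congr 1
        rw [IsLocalization.mk'_eq_iff_eq_mul, mul_comm _ (algebraMap B Bₛ c), mul_assoc]
        simp only
        rw [← IsScalarTower.algebraMap_apply A B Bₛ, IsScalarTower.algebraMap_apply A Aₛ Bₛ, ← map_mul, ← hw,
          Units.inv_mul, map_one, mul_one]
      rw [e, mul_left_comm, ← Algebra.smul_def, map_smul, smul_eq_mul, ← hv, map_mul,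
        ← IsScalarTower.algebraMap_apply]
    have hcl : ∀ d : T, ∃ (u : S) (w : B), algebraMap B L (algebraMap A B u * b) * d.1 = algebraMap B L w := by
      intro d
      obtain ⟨y, hy⟩ := h d.1 (hS1 _ (hT ▸ Submodule.subset_span d.2))
      obtain ⟨⟨w, ⟨_, u, hu, rfl⟩⟩, hw⟩ := IsLocalization.surj (Algebra.algebraMapSubmonoid B S) y
      refine ⟨⟨u, hu⟩, w, ?_⟩
      rw [map_mul, IsScalarTower.algebraMap_apply B Bₛ L w, ← hw, map_mul, hy]
      rw [← IsScalarTower.algebraMap_apply B Bₛ L b, ← IsScalarTower.algebraMap_apply B Bₛ L]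
      simp only [← IsScalarTower.algebraMap_apply]
      ring
    choose u w hw using hcl
    refine ⟨algebraMap A B (∏ d, (u d : A)), ⟨_, Submonoid.prod_mem _ fun d _ => (u d).2, rfl⟩, ?_⟩
    rw [mem_different_iff (A := A) (L := L) K]
    intro d hd
    rw [← hT] at hd
    induction hd using Submodule.span_induction with
    | zero => exact ⟨0, by simp⟩
    | add x y _ _ h1 h2 => rw [mul_add]; exact add_mem h1 h2
    | smul r x _ h1 =>
      rw [Algebra.smul_def, mul_left_comm]
      exact mul_mem (RingHom.mem_range_self _ r) h1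
    | mem c hc =>
      refine ⟨algebraMap A B (∏ d' ∈ Finset.univ.erase (⟨c, hc⟩ : T), (u d' : A)) * w ⟨c, hc⟩, ?_⟩
      rw [← Finset.prod_erase_mul _ _ (Finset.mem_univ (⟨c, hc⟩ : T)), map_mul (algebraMap A B), mul_assoc,
        map_mul, map_mul, ← hw ⟨c, hc⟩, mul_assoc]

end Groth.Agent.S11086
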