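import Groth.Statements.S11087
import Groth.Agent.FormCat.HenselDomain
import Groth.Agent.Hensel.Local
import Mathlib

set_option autoImplicit false
universe u
attribute [local instance] FractionRing.liftAlgebra
open CAlg

namespace Groth.Agent.S11087

/-- Let A be a complete discrete valuation ring and K a perfect field contained in A such that K → A →
A/m is bijective. Let B be a Dedekind domain which is a finite torsion-free A-algebra with fraction
field separable over that of A (the integral closure of A in a finite separable extension of its
fraction field). Then for every maximal ideal M of B and every b in B there is exactly one element c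
of B which is algebraic over K and congruent to b modulo M; in other words the algebraic closure of
K in B is a subfield mapping isomorphically onto B/M. -/
theorem result (K A B : Type u) [Field K]
    [PerfectField K] [CommRing A] [IsDomain A] [IsDiscreteValuationRing A]
    [IsAdicComplete (IsLocalRing.maximalIdeal A) A]
    [Algebra K A] (hK : Function.Bijective ((IsLocalRing.residue A).comp (algebraMap K A)))
    [CommRing B] [IsDedekindDomain B] [Algebra A B] [Module.Finite A B] [Module.IsTorsionFree A B]
    [Algebra.IsSeparable (FractionRing A) (FractionRing B)] [Algebra K B] [IsScalarTower K A B]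
    (M : Ideal B) [M.IsMaximal] (b : B) :
    ∃! c : B, IsAlgebraic K c ∧ b - c ∈ M := by
  classical
  haveI : HenselianLocalRing A := Hensel.henselianLocalRing_of_henselianRing A
  haveI : IsLocalRing B := FormCat.isLocalRing_of_finite_domain A B
  haveI : HenselianLocalRing B := Hensel.henselianLocalRing_of_finite A B
  have hM : M = IsLocalRing.maximalIdeal B := IsLocalRing.eq_maximalIdeal inferInstance
  subst hM
  let k := IsLocalRing.ResidueField B
  haveI : IsLocalHom (algebraMap A B) := by
    constructor
    intro a ha
    by_contra hn
    have h1 : algebraMap A B a ∈ IsLocalRing.maximalIdeal B := by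
      haveI := Ideal.isMaximal_comap_of_isIntegral_of_isMaximal (R := A) (IsLocalRing.maximalIdeal B)
      have h2 := IsLocalRing.eq_maximalIdeal this
      exact (h2 ▸ (show a ∈ IsLocalRing.maximalIdeal A from hn) : a ∈ (IsLocalRing.maximalIdeal B).comap (algebraMap A B))
    exact h1 ha
  -- the residue field is finite over `K`
  haveI : Module.Finite K (IsLocalRing.ResidueField A) := by
    let e : K →ₗ[K] IsLocalRing.ResidueField A := Algebra.linearMap K _
    refine Module.Finite.of_surjective e fun x => ?_
    obtain ⟨c, hc⟩ := hK.2 x
    exact ⟨c, hc⟩
  haveI : Module.Finite (IsLocalRing.ResidueField A) k := inferInstance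
  haveI : IsScalarTower K (IsLocalRing.ResidueField A) k := IsScalarTower.of_algebraMap_eq fun c => by
    show IsLocalRing.residue B (algebraMap K B c) = _
    rw [IsScalarTower.algebraMap_apply K A B]
    rfl
  haveI : Module.Finite K k := Module.Finite.trans (IsLocalRing.ResidueField A) k
  haveI : Algebra.IsSeparable K k := Algebra.IsAlgebraic.isSeparable_of_perfectField
  let x : k := IsLocalRing.residue B b
  let g := minpoly K x
  have hsep : g.Separable := Algebra.IsSeparable.isSeparable K x
  have hint : IsIntegral K x := Algebra.IsIntegral.isIntegral x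
  have hev : ∀ q : Polynomial K, IsLocalRing.residue B ((q.map (algebraMap K B)).eval b) = Polynomial.aeval x q := by
    intro q
    rw [Polynomial.eval_map, ← Polynomial.aeval_def]
    exact (Polynomial.aeval_algHom_apply (IsScalarTower.toAlgHom K B k) b q).symm
  obtain ⟨c, hc, hcb⟩ := HenselianLocalRing.is_henselian (g.map (algebraMap K B)) ((minpoly.monic hint).map _) b
    (by rw [← IsLocalRing.residue_eq_zero_iff, hev]; exact minpoly.aeval K x)
    (by
      rw [Polynomial.derivative_map, ← IsLocalRing.residue_ne_zero_iff_isUnit, hev]
      exact hsep.aeval_derivative_ne_zero (minpoly.aeval K x))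
  have hcalg : IsAlgebraic K c := ⟨g, (minpoly.monic hint).ne_zero, by
    rw [Polynomial.aeval_def, ← Polynomial.eval_map]; exact hc⟩
  refine ⟨c, ⟨hcalg, by rw [← neg_sub]; exact neg_mem hcb⟩, ?_⟩
  rintro d ⟨hd, hdb⟩
  by_contra hne
  have hdc : IsAlgebraic K (d - c) := (hd.isIntegral.sub hcalg.isIntegral).isAlgebraic
  have hmem : d - c ∈ IsLocalRing.maximalIdeal B := by
    rw [show d - c = -((c - b) + (b - d)) by ring]
    exact neg_mem (add_mem hcb hdb)
  have hne' : d - c ≠ 0 := sub_ne_zero.mpr hne
  have hu := hdc.isIntegral
  let P := minpoly K (d - c)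
  have h0 : P.coeff 0 ≠ 0 := minpoly.coeff_zero_ne_zero hu hne'
  have h1 : Polynomial.aeval (d - c) P = 0 := minpoly.aeval _ _
  rw [← Polynomial.X_mul_divX_add P, map_add, map_mul, Polynomial.aeval_X, Polynomial.aeval_C] at h1
  have h2 : algebraMap K B (P.coeff 0) ∈ IsLocalRing.maximalIdeal B := by
    rw [eq_neg_of_add_eq_zero_right h1]
    exact neg_mem (Ideal.mul_mem_right _ _ hmem)
  exact h2 ((Ne.isUnit h0).map _)

end Groth.Agent.S11087
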