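import Groth.Statements.S11088
import Groth.Agent.FormCat.HenselDomain
import Groth.Agent.Hensel.Local

set_option autoImplicit false
set_option linter.style.haveILetI false
universe u
attribute [local instance] FractionRing.liftAlgebra
open CAlg

namespace Groth.Agent.S11088

/-- Let A be a complete discrete valuation ring with maximal ideal m and B a Dedekind domain which is a
finite torsion-free A-algebra with fraction field separable over that of A (the integral closure of
A in a finite separable extension). Then for every maximal ideal M of B, with f the degree of B/M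
over A/m, and every nonzero x in B, the multiplicity of m in the ideal generated by the norm of x
equals f times the multiplicity of M in the ideal generated by x: v(N(x)) = f · w(x). -/
theorem result (A B : Type u) [CommRing A] [IsDomain A] [IsDiscreteValuationRing A]
    [IsAdicComplete (IsLocalRing.maximalIdeal A) A]
    [CommRing B] [IsDedekindDomain B] [Algebra A B] [Module.Finite A B] [Module.IsTorsionFree A B]
    [Algebra.IsSeparable (FractionRing A) (FractionRing B)]
    (M : Ideal B) [M.IsMaximal] (x : B) (hx : x ≠ 0) :
    emultiplicity (IsLocalRing.maximalIdeal A) (Ideal.span {Algebra.intNorm A B x}) =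
      (M.inertiaDeg A : ℕ∞) * emultiplicity M (Ideal.span {x}) := by
  classical
  haveI : HenselianLocalRing A := Hensel.henselianLocalRing_of_henselianRing A
  haveI : IsLocalRing B := FormCat.isLocalRing_of_finite_domain A B
  let m := IsLocalRing.maximalIdeal A
  have hm0 : m ≠ ⊥ := IsDiscreteValuationRing.not_a_field A
  haveI : M.LiesOver m := ⟨(IsLocalRing.eq_maximalIdeal (Ideal.isMaximal_comap_of_isIntegral_of_isMaximal M)).symm⟩
  have hover : (m.primesOver B).toFinset = {M} := by
    ext Q
    rw [Set.mem_toFinset, Finset.mem_singleton]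
    refine ⟨fun hQ => ?_, fun h => h ▸ ⟨inferInstance, inferInstance⟩⟩
    haveI := hQ.1
    haveI := hQ.2
    have hQm : Q.IsMaximal := Ideal.IsMaximal.of_liesOver_isMaximal Q m
    rw [IsLocalRing.eq_maximalIdeal hQm, ← IsLocalRing.eq_maximalIdeal (I := M) inferInstance]
  haveI : Subsingleton (m.primesOver B) := ⟨fun P Q => Subtype.ext
    ((Finset.mem_singleton.1 (hover ▸ Set.mem_toFinset.2 P.2)).trans (Finset.mem_singleton.1 (hover ▸ Set.mem_toFinset.2 Q.2)).symm)⟩
  have hn : M.ramificationIdx A * M.inertiaDeg A = Module.finrank A B := by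
    rw [← Ideal.sum_ramification_inertia_eq_finrank m B, Fintype.sum_subsingleton _ (⟨M, inferInstance, inferInstance⟩ : m.primesOver B)]
  have hM0 : M ≠ ⊥ := fun h => hm0 (by rw [Ideal.LiesOver.over (p := m) (P := M), h, Ideal.under_bot])
  obtain ⟨s, hs⟩ := Ideal.exists_relNorm_eq_pow_of_isPrime M m
  have hmap : m.map (algebraMap A B) = M ^ M.ramificationIdx A := by
    rw [Ideal.map_algebraMap_eq_finsetProd_pow hm0, hover, Finset.prod_singleton]
  have hmpr : Prime m := Ideal.prime_of_isPrime hm0 inferInstance
  have hsf : s = M.inertiaDeg A := by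
    have h := congrArg (Ideal.relNorm A) hmap
    rw [Ideal.relNorm_algebraMap B m, map_pow, hs, ← pow_mul, ← hn] at h
    have h2 : M.ramificationIdx A * M.inertiaDeg A = s * M.ramificationIdx A :=
      (pow_inj_of_not_isUnit hmpr.not_unit hm0).1 h
    have he : M.ramificationIdx A ≠ 0 := fun h0 => by
      rw [h0, zero_mul] at hn
      exact absurd hn.symm Module.finrank_pos.ne'
    exact (mul_left_cancel₀ he (h2.trans (mul_comm _ _))).symm
  have hMpr : Prime M := Ideal.prime_of_isPrime hM0 inferInstance
  have hx' : Ideal.span {x} ≠ (0 : Ideal B) := fun h => hx (Ideal.span_singleton_eq_bot.1 h)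
  obtain ⟨w, hw⟩ : ∃ w : ℕ, Ideal.span {x} = M ^ w := by
    refine ⟨(UniqueFactorizationMonoid.normalizedFactors (Ideal.span {x})).card, ?_⟩
    conv_lhs => rw [← Ideal.prod_normalizedFactors_eq_self hx']
    rw [← Multiset.prod_replicate]
    refine congrArg Multiset.prod (Multiset.eq_replicate_card.2 fun Q hQ => ?_)
    have hQp := UniqueFactorizationMonoid.prime_of_normalized_factor Q hQ
    haveI := Ideal.isPrime_of_prime hQp
    have hQm : Q.IsMaximal := Ring.DimensionLEOne.maximalOfPrime hQp.ne_zero inferInstance
    rw [IsLocalRing.eq_maximalIdeal hQm, ← IsLocalRing.eq_maximalIdeal (I := M) inferInstance]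
  rw [← Ideal.relNorm_singleton A x, hw, map_pow, hs, hsf, ← pow_mul,
    emultiplicity_pow_self_of_prime hmpr, emultiplicity_pow_self_of_prime hMpr, Nat.cast_mul]

end Groth.Agent.S11088
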