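import Groth.Statements.S11089
import Groth.Agent.FormCat.HenselDomain
import Groth.Agent.Hensel.Local
import Mathlib

set_option autoImplicit false
universe u
attribute [local instance] FractionRing.liftAlgebra
open CAlg

namespace Groth.Agent.S11089

/-- Let A be a complete discrete valuation ring containing a field K with K → A → A/m bijective, and B a
Dedekind domain which is a finite torsion-free A-algebra of rank m with fraction field separable
over that of A (the integral closure of A in a finite separable extension E of F = Frac A). If the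
extension is totally ramified — the maximal ideal M of B has ramification index m — and m is a unit
in A, then some uniformizer u of B (an element of M not in M²) satisfies u^m ∈ A and generates E
over F: its minimal polynomial over A has degree m. -/
theorem result (K A B : Type u) [Field K]
    [CommRing A] [IsDomain A] [IsDiscreteValuationRing A]
    [IsAdicComplete (IsLocalRing.maximalIdeal A) A]
    [Algebra K A] (hK : Function.Bijective ((IsLocalRing.residue A).comp (algebraMap K A)))
    [CommRing B] [IsDedekindDomain B] [Algebra A B] [Module.Finite A B] [Module.IsTorsionFree A B]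
    [Algebra.IsSeparable (FractionRing A) (FractionRing B)]
    (M : Ideal B) [M.IsMaximal] (hram : M.ramificationIdx A = Module.finrank A B)
    (hm : IsUnit ((Module.finrank A B : ℕ) : A)) :
    ∃ u : B, u ∈ M ∧ u ∉ M ^ 2 ∧ u ^ Module.finrank A B ∈ (algebraMap A B).range ∧
      (minpoly A u).natDegree = Module.finrank A B := by
  classical
  set m := Module.finrank A B with hmdef
  haveI : HenselianLocalRing A := Hensel.henselianLocalRing_of_henselianRing A
  haveI : IsLocalRing B := FormCat.isLocalRing_of_finite_domain A B
  haveI : HenselianLocalRing B := Hensel.henselianLocalRing_of_finite A B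
  have hM : M = IsLocalRing.maximalIdeal B := IsLocalRing.eq_maximalIdeal inferInstance
  subst hM
  set M := IsLocalRing.maximalIdeal B with hMdef
  haveI hlo : M.LiesOver (IsLocalRing.maximalIdeal A) := by
    haveI := Ideal.isMaximal_comap_of_isIntegral_of_isMaximal (R := A) M
    exact ⟨(IsLocalRing.eq_maximalIdeal this).symm⟩
  obtain ⟨π, hπ⟩ := IsDiscreteValuationRing.exists_irreducible A
  have hinj : Function.Injective (algebraMap A B) := FaithfulSMul.algebraMap_injective A B
  have hpiB : algebraMap A B π ≠ 0 := (map_ne_zero_iff _ hinj).mpr hπ.ne_zero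
  have hpiM : algebraMap A B π ∈ M := by
    have h1 : π ∈ IsLocalRing.maximalIdeal A := hπ.1
    rw [Ideal.LiesOver.over (P := M) (p := IsLocalRing.maximalIdeal A)] at h1
    exact h1
  have hnf : ¬ IsField B := fun h => by
    have hbot := IsLocalRing.isField_iff_maximalIdeal_eq.mp h
    have hpiM' : algebraMap A B π ∈ IsLocalRing.maximalIdeal B := hpiM
    rw [hbot, Ideal.mem_bot] at hpiM'
    exact hpiB hpiM'
  have hiff : IsDiscreteValuationRing B ↔ IsDedekindDomain B :=
    (IsDiscreteValuationRing.TFAE B hnf).out 0 2
  haveI : IsDiscreteValuationRing B := hiff.mpr inferInstance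
  obtain ⟨ϖ, hϖ⟩ := IsDiscreteValuationRing.exists_irreducible B
  have hMϖ : M = Ideal.span {ϖ} := (IsDiscreteValuationRing.irreducible_iff_uniformizer ϖ).mp hϖ
  have hmA : IsLocalRing.maximalIdeal A = Ideal.span {π} :=
    (IsDiscreteValuationRing.irreducible_iff_uniformizer π).mp hπ
  obtain ⟨e, w, hw⟩ := IsDiscreteValuationRing.eq_unit_mul_pow_irreducible hpiB hϖ
  have hmap : (IsLocalRing.maximalIdeal A).map (algebraMap A B) = M ^ e := by
    rw [hmA, Ideal.map_span, Set.image_singleton, hw, hMϖ, Ideal.span_singleton_pow,
      Ideal.span_singleton_mul_left_unit w.isUnit]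
  have hMne : M ≠ ⊥ := IsDiscreteValuationRing.not_a_field B
  have hmap0 : (IsLocalRing.maximalIdeal A).map (algebraMap A B) ≠ ⊥ := by
    rw [hmap]; exact pow_ne_zero e hMne
  have he : M.ramificationIdx A = e := by
    rw [Ideal.IsDedekindDomain.ramificationIdx_eq_normalizedFactors_count
      (IsLocalRing.maximalIdeal A) M hmap0, hmap, UniqueFactorizationMonoid.normalizedFactors_pow,
      UniqueFactorizationMonoid.normalizedFactors_irreducible
        (Ideal.prime_of_isPrime hMne inferInstance).irreducible, normalize_eq,
      Multiset.count_nsmul, Multiset.count_singleton_self, mul_one]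
  have hem : e = m := he.symm.trans hram
  subst hem
  have hmpos : 0 < m := hram ▸ M.ramificationIdx_pos A
  -- residue fields agree
  have hres : ∀ b : B, ∃ c : K, b - algebraMap A B (algebraMap K A c) ∈ M := by
    haveI : Subsingleton ((IsLocalRing.maximalIdeal A).primesOver B) :=
      ⟨fun P Q => Subtype.ext (by
        haveI := P.2.1; haveI := Q.2.1; haveI := P.2.2; haveI := Q.2.2
        haveI : P.1.IsMaximal := Ideal.IsMaximal.of_liesOver_isMaximal P.1 (IsLocalRing.maximalIdeal A)
        haveI : Q.1.IsMaximal := Ideal.IsMaximal.of_liesOver_isMaximal Q.1 (IsLocalRing.maximalIdeal A)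
        exact (IsLocalRing.eq_maximalIdeal (I := P.1) inferInstance).trans
          (IsLocalRing.eq_maximalIdeal (I := Q.1) inferInstance).symm)⟩
    let M' : (IsLocalRing.maximalIdeal A).primesOver B := ⟨M, inferInstance, hlo⟩
    letI : Fintype ((IsLocalRing.maximalIdeal A).primesOver B) := Fintype.ofSubsingleton M'
    have h := Ideal.sum_ramification_inertia_eq_finrank (IsLocalRing.maximalIdeal A) B
    rw [Fintype.sum_subsingleton _ M'] at h
    have h1 : m * M.inertiaDeg A = m := by
      have h0 : M.ramificationIdx A * M.inertiaDeg A = m := h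
      rwa [hram] at h0
    have hf : M.inertiaDeg A = 1 := mul_left_cancel₀ hmpos.ne' (by rw [mul_one]; exact h1)
    rw [Ideal.inertiaDeg_eq_of_isMaximal (IsLocalRing.maximalIdeal A) M] at hf
    letI : Field (A ⧸ IsLocalRing.maximalIdeal A) := Ideal.Quotient.field _
    intro b
    obtain ⟨q, hq⟩ := (finrank_eq_one_iff_of_nonzero' (1 : B ⧸ M) one_ne_zero).mp hf (Ideal.Quotient.mk M b)
    obtain ⟨a, rfl⟩ := Ideal.Quotient.mk_surjective q
    obtain ⟨c, hc⟩ := hK.2 (IsLocalRing.residue A a)
    refine ⟨c, ?_⟩
    rw [← Ideal.Quotient.eq, ← hq, Algebra.smul_def, mul_one,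
      Ideal.Quotient.algebraMap_mk_of_liesOver, Ideal.Quotient.eq, ← map_sub]
    have h2 : a - algebraMap K A c ∈ IsLocalRing.maximalIdeal A := by
      rw [← IsLocalRing.residue_eq_zero_iff, map_sub, sub_eq_zero]; exact hc.symm
    rw [Ideal.LiesOver.over (P := M) (p := IsLocalRing.maximalIdeal A)] at h2
    exact h2
  obtain ⟨c, hc⟩ := hres w
  have hc0 : c ≠ 0 := by
    rintro rfl
    simp only [map_zero, sub_zero] at hc
    exact hc w.isUnit
  set cA : A := algebraMap K A c⁻¹ with hcA
  have hcc : algebraMap A B cA * algebraMap A B (algebraMap K A c) = 1 := by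
    rw [← map_mul, ← map_mul, inv_mul_cancel₀ hc0, map_one, map_one]
  set t : B := algebraMap A B cA * w with ht
  have ht1 : (1 : B) - t ∈ M := by
    have h3 : (1 : B) - t = -(algebraMap A B cA * ((w : B) - algebraMap A B (algebraMap K A c))) := by
      rw [mul_sub, hcc, ht]; ring
    rw [h3]; exact neg_mem (M.mul_mem_left _ hc)
  obtain ⟨v, hv, hv1⟩ := HenselianLocalRing.is_henselian (Polynomial.X ^ m - Polynomial.C t)
    (Polynomial.monic_X_pow_sub_C t hmpos.ne') 1
    (by simpa [-IsLocalRing.mem_maximalIdeal] using ht1)
    (by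
      have h4 : IsUnit (m : B) := by simpa using hm.map (algebraMap A B)
      simpa [Polynomial.derivative_X_pow] using h4)
  have hvm : v ^ m = t := by
    simpa [Polynomial.IsRoot, sub_eq_zero] using hv
  have hvu : IsUnit v := by
    by_contra hn
    have h5 : (1 : B) ∈ M := by
      have := sub_mem (show v ∈ M from hn) hv1
      simpa using this
    exact (Ideal.ne_top_iff_one M).mp (IsLocalRing.maximalIdeal.isMaximal B).ne_top h5
  set u : B := v * ϖ with hu
  set π' : A := cA * π with hπ'
  have hum : u ^ m = algebraMap A B π' := by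
    rw [hu, mul_pow, hvm, ht, hπ', map_mul, hw, mul_assoc]
  have huM : u ∈ M := M.mul_mem_left _ (hMϖ ▸ Ideal.mem_span_singleton_self ϖ)
  have hu0 : u ≠ 0 := mul_ne_zero hvu.ne_zero hϖ.ne_zero
  have hmA' : ∀ a ∈ IsLocalRing.maximalIdeal A, algebraMap A B π' ∣ algebraMap A B a := by
    intro a ha
    rw [hmA, Ideal.mem_span_singleton] at ha
    have hcu : IsUnit cA := (isUnit_iff_ne_zero.mpr (inv_ne_zero hc0)).map (algebraMap K A)
    exact map_dvd _ (hcu.mul_left_dvd.mpr ha)
  refine ⟨u, huM, ?_, ⟨π', hum.symm⟩, ?_⟩
  · intro h
    rw [hMϖ, Ideal.span_singleton_pow, Ideal.mem_span_singleton, hu, hvu.dvd_mul_left] at h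
    obtain ⟨r, hr⟩ := h
    refine hϖ.1 (IsUnit.of_mul_eq_one r ?_)
    apply mul_left_cancel₀ hϖ.ne_zero
    rw [mul_one]
    conv_rhs => rw [hr]
    ring
  · have hint : IsIntegral A u := Algebra.IsIntegral.isIntegral u
    set p := minpoly A u with hp
    apply le_antisymm
    · have hq : (Polynomial.X ^ m - Polynomial.C π' : Polynomial A).Monic :=
        Polynomial.monic_X_pow_sub_C π' hmpos.ne'
      have h6 := minpoly.min A u hq (by simp [hum])
      have := Polynomial.natDegree_le_natDegree h6
      rwa [Polynomial.natDegree_X_pow_sub_C] at this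
    · by_contra hlt
      push Not at hlt
      have hsum : ∑ j ∈ Finset.range (p.natDegree + 1), algebraMap A B (p.coeff j) * u ^ j = 0 := by
        have := minpoly.aeval A u
        rw [Polynomial.aeval_eq_sum_range] at this
        simpa [Algebra.smul_def] using this
      have hall : ∀ i, i ≤ p.natDegree → p.coeff i ∈ IsLocalRing.maximalIdeal A := by
        intro i
        induction i using Nat.strong_induction_on with
        | _ i ih =>
        intro hi
        have hdvd : u ^ (i + 1) ∣ algebraMap A B (p.coeff i) * u ^ i := by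
          rw [← Finset.add_sum_erase _ _ (Finset.mem_range.mpr (Nat.lt_succ_of_le hi))] at hsum
          rw [eq_neg_of_add_eq_zero_left hsum, dvd_neg]
          refine Finset.dvd_sum fun j hj => ?_
          rcases lt_or_gt_of_ne (Finset.ne_of_mem_erase hj) with hji | hji
          · refine dvd_mul_of_dvd_left ?_ _
            exact ((pow_dvd_pow u (by omega : i + 1 ≤ m)).trans hum.dvd).trans
              (hmA' _ (ih j hji (by omega)))
          · exact dvd_mul_of_dvd_right (pow_dvd_pow u hji) _
        obtain ⟨r, hr⟩ := hdvd
        have h7 : algebraMap A B (p.coeff i) = u * r :=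
          mul_right_cancel₀ (pow_ne_zero i hu0) (by rw [hr]; ring)
        rw [Ideal.LiesOver.over (P := M) (p := IsLocalRing.maximalIdeal A)]
        show algebraMap A B (p.coeff i) ∈ M
        rw [h7]
        exact M.mul_mem_right _ huM
      have h8 := hall p.natDegree le_rfl
      have h9 : p.coeff p.natDegree = 1 := (minpoly.monic hint).coeff_natDegree
      rw [h9] at h8
      exact (Ideal.ne_top_iff_one _).mp (IsLocalRing.maximalIdeal.isMaximal A).ne_top h8

end Groth.Agent.S11089
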