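import Groth.Statements.S11090
import Groth.Agent.AVRosati.Factor
import Groth.Agent.AVTorsLib.Factor
import Groth.Agent.H23.EquidimFibres
import Groth.Agent.IsogLib.Kernel
import Groth.Agent.GrpSchLib.SmoothReduced
-- import your own Groth.Agent.* helpers here

set_option autoImplicit false
universe u
open CategoryTheory CategoryTheory.Limits MonoidalCategory CartesianMonoidalCategory MonObj GrpObj AlgebraicGeometry
open AbVar

set_option backward.isDefEq.respectTransparency false
set_option backward.isDefEq.respectTransparency.types false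
set_option synthInstance.maxHeartbeats 400000
set_option maxHeartbeats 1000000
set_option linter.style.haveILetI false
attribute [-instance] CategoryTheory.catToReflQuiver

namespace Groth.Agent.S11090

/-- Let k be an algebraically closed field and E, E′, E″ elliptic curves over k, i.e. group schemes over
Spec k whose underlying schemes are proper, smooth, integral and one-dimensional. Let φ : E → E′ be
a homomorphism which is finite, surjective and étale (a separable isogeny) and ψ : E → E″ a
homomorphism such that every k-valued point of E sent to the unit by φ is sent to the unit by ψ.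
Then there is a unique homomorphism ρ : E′ → E″ with ψ = ρ ∘ φ. (The published statement prints ψ as
a map from E″ to E and calls it an isogeny; its proof treats ψ as a map from E to E″, as here, and
this row allows any homomorphism ψ, the extra case of trivial ψ being immediate.) -/
theorem result (k : Type u) [Field k] [IsAlgClosed k]
    (E E' E'' : Over (Spec (CommRingCat.of k)))
    [GrpObj E] [IsProper E.hom] [Smooth E.hom] [IsIntegral E.left] (hE : topologicalKrullDim E.left = 1)
    [GrpObj E'] [IsProper E'.hom] [Smooth E'.hom] [IsIntegral E'.left] (hE' : topologicalKrullDim E'.left = 1)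
    [GrpObj E''] [IsProper E''.hom] [Smooth E''.hom] [IsIntegral E''.left] (hE'' : topologicalKrullDim E''.left = 1)
    (φ : E ⟶ E') [IsMonHom φ] [IsFinite φ.left] [Surjective φ.left] [Etale φ.left]
    (ψ : E ⟶ E'') [IsMonHom ψ]
    (hker : ∀ P : 𝟙_ (Over (Spec (CommRingCat.of k))) ⟶ E, P ≫ φ = η[E'] → P ≫ ψ = η[E'']) :
    ∃! ρ : E' ⟶ E'', IsMonHom ρ ∧ φ ≫ ρ = ψ := by
  haveI : GeometricallyIntegral E.hom := Groth.Agent.H23.EquidimFibres.geometricallyIntegral_of_isAlgClosed
  haveI : GeometricallyIntegral E'.hom := Groth.Agent.H23.EquidimFibres.geometricallyIntegral_of_isAlgClosed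
  let M := Over.mk (pullback.snd φ.left η[E'].left)
  let n : M ⟶ E := Over.homMk (pullback.fst φ.left η[E'].left) (by
    show pullback.fst φ.left η[E'].left ≫ E.hom = pullback.snd φ.left η[E'].left
    rw [← Over.w φ, pullback.condition_assoc, Over.w η[E']]
    exact Category.comp_id _)
  have hM : IsPullback n (toUnit M) φ η[E'] := by
    refine IsPullback.of_map (Over.forget _) ?_ (IsPullback.of_hasPullback φ.left η[E'].left)
    ext1
    exact pullback.condition
  haveI : Etale M.hom := inferInstanceAs (Etale (pullback.snd φ.left η[E'].left))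
  haveI : AlgebraicGeometry.IsReduced (Spec (CommRingCat.of k)) := inferInstance
  haveI : AlgebraicGeometry.IsReduced M.left := Groth.Agent.GrpSchLib.isReduced_of_smooth_field (M.hom : M.left ⟶ Spec (CommRingCat.of k))
  haveI : JacobsonSpace ↥(Spec (CommRingCat.of k)) := inferInstanceAs (JacobsonSpace (PrimeSpectrum k))
  haveI : JacobsonSpace ↥(𝟙_ (Over (Spec (CommRingCat.of k)))).left := inferInstanceAs (JacobsonSpace (PrimeSpectrum k))
  haveI : JacobsonSpace ↥M.left := LocallyOfFiniteType.jacobsonSpace (M.hom : M.left ⟶ Spec (CommRingCat.of k))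
  have hn : n ≫ ψ = 1 := by
    refine Groth.Agent.AVTorsLib.hom_ext_of_dense _ _ Set.univ ?_ fun a _ => ?_
    · have hd : Dense (closedPoints M.left) := dense_iff_closure_eq.2 closure_closedPoints
      refine hd.mono fun w hw => ?_
      obtain ⟨a, ha⟩ := Groth.Agent.AVTorsLib.exists_pnt_eq (X := M) hw
      exact ⟨a, trivial, ha⟩
    · rw [MonObj.comp_one, ← Category.assoc]
      have h := hker (a ≫ n) (by
        rw [Category.assoc, hM.w, ← Category.assoc, toUnit_unique (a ≫ toUnit M) (𝟙 _)]
        exact Category.id_comp _)
      rw [h, MonObj.one_eq_one]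
  obtain ⟨ρ, hρ, hφρ⟩ := Groth.Agent.AVRosati.Factor.exists_factor φ ψ (fun T g hg => by
    obtain ⟨l, hl⟩ := Groth.Agent.IsogLib.exists_kernel_lift φ hM g hg
    rw [← hl, Category.assoc, hn, MonObj.comp_one])
  exact ⟨ρ, ⟨hρ, hφρ⟩, fun ρ' h => Groth.Agent.AVRosati.Factor.cancel_surjective φ (h.2.trans hφρ.symm)⟩


end Groth.Agent.S11090
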