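import Groth.Statements.S11092
import Mathlib
import Groth.Agent.S11083

set_option autoImplicit false
universe u v
open CAlg

open scoped TensorProduct

namespace Groth.Agent.S11092

/-- Let k be an algebraically closed field, K a field finitely generated over k admitting a one-element
transcendence basis over k (a function field of dimension one), and L a finite extension field of K
with the compatible k-algebra structure. Then the K-linear map from the Kähler differentials of K
over k to those of L over k induced by the inclusion is either the zero map or injective, and it is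
injective if and only if L is separable over K. (The published statement takes K ⊆ L to be the
function fields of two elliptic curves related by a nonzero homomorphism; its proof uses only that
they are function fields of dimension one over k.) -/
theorem result (k : Type u) (K L : Type v)
    [Field k] [IsAlgClosed k] [Field K] [Field L] [Algebra k K] [Algebra k L] [Algebra K L]
    [IsScalarTower k K L] (hK : (⊤ : IntermediateField k K).FG)
    (hx : ∃ x : K, IsTranscendenceBasis k (fun _ : Unit => x)) [FiniteDimensional K L] :
    (KaehlerDifferential.map k k K L = 0 ∨ Function.Injective (KaehlerDifferential.map k k K L)) ∧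
      (Function.Injective (KaehlerDifferential.map k k K L) ↔ Algebra.IsSeparable K L) := by
  classical
  obtain ⟨x, hx⟩ := hx
  have hx1 : IsTranscendenceBasis k (fun _ : Fin 1 => x) :=
    hx.comp_equiv (Equiv.equivPUnit (Fin 1))
  have hrK : Module.rank K (Ω[K⁄k]) = 1 := by simpa using S11083.result k K hK 1 _ hx1
  obtain ⟨S, hS⟩ := hK
  haveI : Algebra.EssFiniteType k K := IntermediateField.essFiniteType_iff.mpr ⟨S, hS⟩ |> fun h => by
    exact (Algebra.EssFiniteType.iff_of_algEquiv IntermediateField.topEquiv).mp h
  haveI : Algebra.EssFiniteType k L := Algebra.EssFiniteType.comp k K L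
  have hL : (⊤ : IntermediateField k L).FG := IntermediateField.fg_top k L
  obtain ⟨t, ht, -⟩ := exists_isTranscendenceBasis_and_isSeparable_of_perfectField k L
  have hcard : t.card = 1 := by
    haveI : FaithfulSMul K L := inferInstance
    have h1 := lift_trdeg_add_eq k K L
    rw [trdeg_eq_zero (R := K) (A := L), Cardinal.lift_zero, add_zero] at h1
    have h2 := ht.lift_cardinalMk_eq_trdeg
    have h3 := hx1.lift_cardinalMk_eq_trdeg
    simp only [Cardinal.mk_fintype, Fintype.card_coe, Fintype.card_fin, Cardinal.lift_natCast, Cardinal.lift_id'] at h2 h3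
    simp only [Cardinal.lift_id] at h1
    rw [← h1, ← h3] at h2
    simpa using h2
  have hrL : Module.rank L (Ω[L⁄k]) = 1 := by
    simpa using S11083.result k L hL 1 (fun i => ((Finset.equivFinOfCardEq hcard).symm i : L))
      (ht.comp_equiv (Finset.equivFinOfCardEq hcard).symm)
  set φ := KaehlerDifferential.map k k K L
  haveI : Module.Finite K (Ω[K⁄k]) := Module.finite_of_rank_eq_nat hrK
  have hdi : φ = 0 ∨ Function.Injective φ := by
    rcases eq_or_ne φ 0 with h | h
    · exact Or.inl h
    · refine Or.inr (LinearMap.ker_eq_bot.mp ?_)
      haveI : IsSimpleModule K (Ω[K⁄k]) := isSimpleModule_iff_finrank_eq_one.mpr (Module.finrank_eq_of_rank_eq (by simpa using hrK))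
      exact (IsSimpleOrder.eq_bot_or_eq_top _).resolve_right fun htop => h (LinearMap.ker_eq_top.mp htop)
  refine ⟨hdi, fun hinj => ?_, fun hsep => ?_⟩
  · haveI : Algebra.EssFiniteType K L := Algebra.EssFiniteType.of_comp k K L
    haveI : Algebra.FormallyUnramified K L := by
      refine ⟨subsingleton_of_forall_eq 0 fun y => ?_⟩
      obtain ⟨z, rfl⟩ := KaehlerDifferential.map_surjective k K L y
      obtain ⟨w, hw⟩ : ∃ w, w ≠ (0 : Ω[K⁄k]) := by
        have : 0 < Module.rank K (Ω[K⁄k]) := by rw [hrK]; exact one_pos
        haveI := rank_pos_iff_nontrivial.mp this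
        exact exists_ne 0
      have hfr : Module.finrank L (Ω[L⁄k]) = 1 := Module.finrank_eq_of_rank_eq (by simpa using hrL)
      obtain ⟨c, rfl⟩ := exists_smul_eq_of_finrank_eq_one hfr (show φ w ≠ 0 from fun h => hw (hinj (h.trans (map_zero φ).symm))) z
      rw [map_smul]
      have : KaehlerDifferential.map k K L L (φ w) = 0 := by
        refine ((KaehlerDifferential.exact_mapBaseChange_map k K L) (φ w)).mpr ⟨1 ⊗ₜ w, ?_⟩
        rw [KaehlerDifferential.mapBaseChange_tmul, one_smul]
      rw [this, smul_zero]
    exact Algebra.FormallyUnramified.isSeparable K L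
  · haveI : Algebra.FormallyEtale K L := Algebra.FormallyEtale.of_isSeparable K L
    intro a b hab
    have h1 : (1 : L) ⊗ₜ[K] a = (1 : L) ⊗ₜ[K] b := by
      apply (KaehlerDifferential.tensorKaehlerEquivOfFormallyEtale k K L).injective
      rw [KaehlerDifferential.tensorKaehlerEquivOfFormallyEtale_apply, KaehlerDifferential.tensorKaehlerEquivOfFormallyEtale_apply,
        KaehlerDifferential.mapBaseChange_tmul, KaehlerDifferential.mapBaseChange_tmul, one_smul, one_smul]
      exact hab
    exact Module.FaithfullyFlat.tensorProduct_mk_injective (A := K) (B := L) _ h1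

end Groth.Agent.S11092
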