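import Groth.Statements.S11095
import Groth.Agent.GeomField.Field
import Mathlib.FieldTheory.LinearDisjoint
import Mathlib.FieldTheory.AlgebraicClosure

set_option autoImplicit false
universe u
open CAlg

open scoped TensorProduct

namespace Groth.Agent.S11095

/-- Let K₀ be a perfect field, K an algebraic extension of K₀ and F₀ a field extension of K₀ such that
K₀ is algebraically closed in F₀. Then the K₀-algebra F₀ ⊗ K is a field; consequently F₀ and K,
embedded in it by x ↦ x ⊗ 1 and y ↦ 1 ⊗ y, are linearly disjoint over K₀. -/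
theorem result (K₀ F₀ K : Type u)
    [Field K₀] [PerfectField K₀] [Field F₀] [Algebra K₀ F₀] [Field K] [Algebra K₀ K]
    [Algebra.IsAlgebraic K₀ K] (h : algebraicClosure K₀ F₀ = ⊥) :
    IsField (TensorProduct K₀ F₀ K) := by
  have key : ∀ t : Finset (TensorProduct K₀ F₀ K), ∃ L : IntermediateField K₀ K, FiniteDimensional K₀ L ∧
      ∀ x ∈ t, x ∈ Set.range (Algebra.TensorProduct.map (AlgHom.id K₀ F₀) L.val) := by
    intro t
    obtain ⟨V, hV, hsub⟩ := TensorProduct.exists_finite_submodule_right_of_setFinite
      (t : Set (TensorProduct K₀ F₀ K)) t.finite_toSet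
    obtain ⟨gs, hgs⟩ := Module.Finite.iff_fg.mp hV
    haveI : FiniteDimensional K₀ (IntermediateField.adjoin K₀ (gs : Set K)) :=
      IntermediateField.finiteDimensional_adjoin fun x _ => Algebra.IsIntegral.isIntegral x
    refine ⟨IntermediateField.adjoin K₀ (gs : Set K), inferInstance, fun x hx => ?_⟩
    obtain ⟨y, rfl⟩ := hsub hx
    have hle : ∀ v ∈ V, v ∈ IntermediateField.adjoin K₀ (gs : Set K) := by
      intro v hv
      rw [← hgs] at hv
      induction hv using Submodule.span_induction with
      | mem x hx => exact IntermediateField.subset_adjoin _ _ hx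
      | zero => exact zero_mem _
      | add x y _ _ h1 h2 => exact add_mem h1 h2
      | smul c x _ h1 => exact IntermediateField.smul_mem _ h1
    clear hx
    induction y using TensorProduct.induction_on with
    | zero => exact ⟨0, by rw [map_zero, map_zero]⟩
    | tmul f v => exact ⟨f ⊗ₜ ⟨v.1, hle _ v.2⟩, rfl⟩
    | add a b ha hb =>
      obtain ⟨a', ha⟩ := ha
      obtain ⟨b', hb⟩ := hb
      exact ⟨a' + b', by rw [map_add, map_add, ha, hb]⟩
  haveI : IsDomain (TensorProduct K₀ F₀ K) := by
    haveI : Nontrivial (TensorProduct K₀ F₀ K) :=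
      (Algebra.TensorProduct.includeRight_injective (R := K₀) (A := F₀) (B := K)
        (RingHom.injective _)).nontrivial
    haveI : NoZeroDivisors (TensorProduct K₀ F₀ K) := ⟨fun {x y} hxy => by
      classical
      obtain ⟨L, hL, hmem⟩ := key {x, y}
      obtain ⟨x', rfl⟩ := hmem x (Finset.mem_insert_self _ _)
      obtain ⟨y', rfl⟩ := hmem y (Finset.mem_insert_of_mem (Finset.mem_singleton_self _))
      have hinj : Function.Injective (Algebra.TensorProduct.map (AlgHom.id K₀ F₀) L.val) :=
        Module.Flat.lTensor_preserves_injective_linearMap L.val.toLinearMap Subtype.val_injective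
      haveI : FiniteDimensional K₀ L := hL
      haveI := Groth.Agent.GeomField.isDomain_tensor_of_separable (k := K₀) L F₀ fun a ha => by
        have : a ∈ algebraicClosure K₀ F₀ := mem_algebraicClosure_iff'.mpr ha.isIntegral
        rwa [h, IntermediateField.mem_bot] at this
      rw [← map_mul, ← map_zero (Algebra.TensorProduct.map (AlgHom.id K₀ F₀) L.val)] at hxy
      rcases mul_eq_zero.mp (hinj hxy) with h0 | h0
      · left; rw [h0, map_zero]
      · right; rw [h0, map_zero]⟩
    exact NoZeroDivisors.to_isDomain _
  exact Algebra.TensorProduct.isField_of_isAlgebraic K₀ F₀ K (Or.inr inferInstance)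

end Groth.Agent.S11095
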