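import Groth.Statements.S11105
-- import your own Groth.Agent.* helpers here
import Groth.Agent.H4Decomp.Basic

set_option autoImplicit false
universe u
open Hensel

namespace Groth.Agent.S11105

/-- Let R be a discrete valuation ring with fraction field K, K^s a separable closure of K, R^s the
integral closure of R in K^s and P^s a maximal ideal of R^s. Let D be the decomposition group of P^s
— the subgroup of automorphisms of K^s over K carrying P^s into (hence onto) itself — and L its
fixed field. Then the integral closure of R in L, localized at the prime Q = P^s ∩ L below P^s, is a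
Henselian local ring (this local ring is the Henselization of R). -/
theorem result (R K Ks : Type u) [CommRing R] [IsDomain R]
    [IsDiscreteValuationRing R] [Field K] [Algebra R K] [IsFractionRing R K]
    [Field Ks] [Algebra K Ks] [IsSepClosure K Ks] [Algebra R Ks] [IsScalarTower R K Ks]
    (Ps : Ideal (integralClosure R Ks)) [Ps.IsMaximal]
    (L : IntermediateField K Ks)
    (hL : L = IntermediateField.fixedField
      (Subgroup.closure {σ : Ks ≃ₐ[K] Ks | ∀ x : integralClosure R Ks, x ∈ Ps →
        ∃ h : σ (x : Ks) ∈ integralClosure R Ks, (⟨σ (x : Ks), h⟩ : integralClosure R Ks) ∈ Ps}))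
    (Q : Ideal (integralClosure R L)) [Q.IsPrime]
    (hQ : ∀ y : integralClosure R L, y ∈ Q ↔
      ∃ x : integralClosure R Ks, x ∈ Ps ∧ (x : Ks) = ((y : L) : Ks)) :
    HenselianLocalRing (Localization.AtPrime Q) := by
  refine H4Decomp.henselianLocalRing Ps _ ?_ L hL Q hQ
  intro σ hσ
  induction hσ using Subgroup.closure_induction with
  | mem σ hσ =>
    revert σ
    intro σ hσ x
    have hmem : ∀ y : integralClosure R Ks, σ (y : Ks) ∈ integralClosure R Ks := fun y =>
      y.2.map (σ.restrictScalars R)
    refine ⟨hmem x, fun hx => (hσ x hx).2, fun hx => ?_⟩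
    by_contra hxn
    obtain ⟨y, i, hi, hyi⟩ := Ideal.IsMaximal.exists_inv (inferInstance : Ps.IsMaximal) hxn
    have h1 : (⟨σ (y : Ks), hmem y⟩ : integralClosure R Ks) * ⟨σ (x : Ks), hmem x⟩ + ⟨σ (i : Ks), hmem i⟩ = 1 :=
      Subtype.ext (by
        show σ (y : Ks) * σ (x : Ks) + σ (i : Ks) = 1
        rw [← map_mul, ← map_add, ← map_one σ]
        exact congrArg σ (congrArg Subtype.val hyi))
    exact Ideal.IsMaximal.ne_top (inferInstance : Ps.IsMaximal) ((Ideal.eq_top_iff_one _).mpr
      (h1 ▸ add_mem (Ideal.mul_mem_left _ _ hx) (hσ i hi).2))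
  | one =>
    intro x
    exact ⟨x.2, Iff.rfl⟩
  | mul σ τ _ _ hs ht =>
    intro x
    obtain ⟨h1, h1'⟩ := ht x
    obtain ⟨h2, h2'⟩ := hs ⟨_, h1⟩
    exact ⟨h2, h1'.trans h2'⟩
  | inv σ _ hs =>
    intro x
    have hi : σ.symm (x : Ks) ∈ integralClosure R Ks := x.2.map (σ.symm.restrictScalars R)
    obtain ⟨h1, h1'⟩ := hs ⟨_, hi⟩
    refine ⟨hi, Iff.symm (h1'.trans ?_)⟩
    have : (⟨σ (σ.symm (x : Ks)), h1⟩ : integralClosure R Ks) = x := Subtype.ext (σ.apply_symm_apply _)
    exact Iff.of_eq (congrArg (· ∈ Ps) this)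

end Groth.Agent.S11105
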