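import Groth.Statements.S11108
import Groth.Agent.AlgSpDec.HenselLift
import Groth.Agent.EtFound.Henselian
import Mathlib
-- import your own Groth.Agent.* helpers here

set_option autoImplicit false
universe u
open CategoryTheory AlgebraicGeometry
open Neron

set_option backward.isDefEq.respectTransparency false
attribute [-instance] CategoryTheory.catToReflQuiver

namespace Groth.Agent.S11108

/-- Let R be a strictly Henselian discrete valuation ring — Henselian with algebraically closed residue
field — and p : X → Spec R a smooth morphism. Then the image of the reduction map from R-valued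
points of X to the special fibre is dense in the special fibre: every point of X over the closed
point of Spec R lies in the closure of the set of points s(𝔪), s a section of p and 𝔪 the closed
point. -/
theorem result (R : Type u) [CommRing R] [IsDomain R]
    [IsDiscreteValuationRing R] [HenselianLocalRing R] [IsAlgClosed (IsLocalRing.ResidueField R)]
    {X : Scheme.{u}} (p : X ⟶ Spec (CommRingCat.of R)) [Smooth p]
    (x : X) (hx : p.base x = IsLocalRing.closedPoint R) :
    x ∈ closure {y : X | ∃ s : Spec (CommRingCat.of R) ⟶ X, s ≫ p = 𝟙 _ ∧
      s.base (IsLocalRing.closedPoint R) = y} := by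
  let k := IsLocalRing.ResidueField R
  haveI : IsClosedImmersion (Groth.Agent.EtFound.cpt R) :=
    IsClosedImmersion.spec_of_surjective _ Ideal.Quotient.mk_surjective
  let F := Limits.pullback p (Groth.Agent.EtFound.cpt R)
  let f : F ⟶ Spec (CommRingCat.of k) := Limits.pullback.snd p (Groth.Agent.EtFound.cpt R)
  haveI : JacobsonSpace ↥F := LocallyOfFiniteType.jacobsonSpace f
  obtain ⟨z, hz⟩ : x ∈ Set.range (Limits.pullback.fst p (Groth.Agent.EtFound.cpt R)).base := by
    rw [Scheme.Pullback.range_fst]
    exact ⟨default, (Groth.Agent.EtFound.cpt_base R default).trans hx.symm⟩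
  rw [← hz]
  have hcl : z ∈ closure (closedPoints ↥F) := by rw [closure_closedPoints]; trivial
  refine map_mem_closure (Limits.pullback.fst p (Groth.Agent.EtFound.cpt R)).continuous hcl ?_
  intro w hw
  let u := pointOfClosedPoint f w hw
  have hu : u ≫ f = 𝟙 _ := pointOfClosedPoint_comp f w hw
  have huw : u (IsLocalRing.closedPoint k) = w := pointOfClosedPoint_apply f w hw _
  obtain ⟨σ, hσ, hσ'⟩ := Groth.Agent.AlgSpDec.exists_smooth_section R p
    (u ≫ Limits.pullback.fst p (Groth.Agent.EtFound.cpt R))
    (by rw [Category.assoc, Limits.pullback.condition, ← Category.assoc, hu, Category.id_comp])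
  refine ⟨σ, hσ, ?_⟩
  have h1 := congrArg (fun m => m.base (IsLocalRing.closedPoint k)) hσ'
  simp only [Scheme.Hom.comp_base, TopCat.coe_comp, Function.comp_apply] at h1
  rw [Groth.Agent.EtFound.cpt_base] at h1
  rw [h1]
  exact congrArg _ huw


end Groth.Agent.S11108
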