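import Groth.Statements.S11114
import Groth.Agent.DQGen.Basic
import Groth.Agent.KFlatLib.Scheme.RGammaPush


set_option autoImplicit false
set_option backward.isDefEq.respectTransparency false
set_option backward.isDefEq.respectTransparency.types false
universe u
open CategoryTheory CategoryTheory.Limits AlgebraicGeometry
attribute [local instance] HasDerivedCategory.standard
open DCoh

namespace Groth.Agent.S11114

open Groth.Agent.KFlatLib ZeroObject Opposite TopologicalSpace CategoryTheory.Pretriangulated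
attribute [local instance] HasDerivedCategory.standard

/-- A complex with exact sections over all affine opens is exact. -/
private theorem exactAt_of_sections {Y : Scheme.{u}} (I : CochainComplex Y.Modules ℤ) (i : ℤ)
    (h : ∀ U : Y.Opens, IsAffineOpen U →
      (((DCoh.gammaAb (U : Scheme.{u})).mapHomologicalComplex (ComplexShape.up ℤ)).obj
        ((rCx U.ι).obj I)).ExactAt i) : I.ExactAt i := by
  rw [HomologicalComplex.exactAt_iff, exact_iff_stalk]
  intro x
  rw [ShortComplex.moduleCat_exact_iff]
  intro g hg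
  obtain ⟨V, hxV, s, rfl⟩ :=
    TopCat.Presheaf.exists_germ_eq (Scheme.Modules.presheaf (I.sc i).X₂) (x := x) g
  have hg' : (Scheme.Modules.presheaf (I.sc i).X₃).germ V x hxV ((I.sc i).g.app V s) = 0 :=
    (DerSch.stalkFunctor_map_germ x (I.sc i).g V hxV s).symm.trans hg
  rw [← map_zero ((Scheme.Modules.presheaf (I.sc i).X₃).germ V x hxV).hom] at hg'
  obtain ⟨V', hxV', i₁, i₂, hV'⟩ :=
    TopCat.Presheaf.germ_eq _ x hxV hxV _ _ hg'
  obtain ⟨U, hU, hxU, hUV⟩ := exists_isAffineOpen_mem_and_subset (X := Y) (U := V') hxV'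
  let W := U.ι ''ᵁ ⊤
  have hWU : W ≤ U := U.ι_image_le ⊤
  have hxW : x ∈ W := U.ι_image_top.ge hxU
  have hWV : W ≤ V := hWU.trans ((SetLike.coe_subset_coe.1 hUV).trans i₁.le)
  let s' := (Scheme.Modules.presheaf (I.sc i).X₂).map (homOfLE hWV).op s
  have hds : (I.sc i).g.app W s' = 0 := by
    have n1 := ((I.sc i).g.mapPresheaf.naturality (homOfLE hWV).op)
    have e1 : (I.sc i).g.app W s' = (Scheme.Modules.presheaf (I.sc i).X₃).map (homOfLE hWV).op ((I.sc i).g.app V s) :=
      ConcreteCategory.congr_hom n1 s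
    rw [e1, show (homOfLE hWV).op = i₁.op ≫ (homOfLE (hWU.trans (SetLike.coe_subset_coe.1 hUV))).op from rfl,
      Functor.map_comp, ConcreteCategory.comp_apply, hV', map_zero, map_zero]
  have hex := h U hU
  rw [HomologicalComplex.exactAt_iff, ShortComplex.ab_exact_iff] at hex
  obtain ⟨t, ht⟩ := hex s' hds
  refine ⟨(Scheme.Modules.presheaf (I.sc i).X₁).germ W x hxW t, ?_⟩
  refine (DerSch.stalkFunctor_map_germ x (I.sc i).f W hxW t).trans ?_
  rw [show (I.sc i).f.app W t = s' from ht]
  exact TopCat.Presheaf.germ_res_apply _ _ x hxW s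

/-- An object with vanishing derived sections over all affine opens is zero. -/
private theorem isZero_of_RGamma {Y : Scheme.{u}} [∀ U : Y.Opens, DCoh.HasRΓ (U : Scheme.{u})]
    (C : DCoh.D Y) (h : ∀ U : Y.Opens, IsAffineOpen U →
      IsZero ((DCoh.RΓ (U : Scheme.{u})).obj ((DCoh.restrictD U.ι).obj C))) : IsZero C := by
  obtain ⟨I, s, hI, hs⟩ := exists_kInjective_res (DerivedCategory.Q.objPreimage C)
  haveI := hs
  let e : DerivedCategory.Q.obj I ≅ C :=
    (asIso (DerivedCategory.Q.map s)).symm ≪≫ DerivedCategory.Q.objObjPreimageIso C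
  have hac : I.Acyclic := fun i => exactAt_of_sections I i fun U hU => by
    haveI := isKInjective_rCx U.ι I
    have hunit := isIso_rightDerivedUnit_of_kInjective (DCoh.gammaKh (U : Scheme.{u})) ((rCx U.ι).obj I)
    let e1 : (DCoh.restrictD U.ι).obj C ≅ DerivedCategory.Qh.obj
        ((HomotopyCategory.quotient _ (ComplexShape.up ℤ)).obj ((rCx U.ι).obj I)) :=
      (DCoh.restrictD U.ι).mapIso e.symm ≪≫
        (Scheme.Modules.restrictFunctor U.ι).mapDerivedCategoryFactors.app I ≪≫
        ((DerivedCategory.quotientCompQhIso _).app _).symm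
    have hz : IsZero (DerivedCategory.Q.obj (((DCoh.gammaAb (U : Scheme.{u})).mapHomologicalComplex
        (ComplexShape.up ℤ)).obj ((rCx U.ι).obj I))) :=
      (h U hU).of_iso (((DerivedCategory.quotientCompQhIso _).app _).symm ≪≫
        DerivedCategory.Qh.mapIso
          (((DCoh.gammaAb (U : Scheme.{u})).mapHomotopyCategoryFactors (ComplexShape.up ℤ)).app _).symm ≪≫
        @asIso _ _ _ _ _ hunit ≪≫ (DCoh.RΓ (U : Scheme.{u})).mapIso e1.symm)
    rw [HomologicalComplex.exactAt_iff_isZero_homology]
    exact (Functor.map_isZero (DerivedCategory.homologyFunctor _ i) hz).of_iso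
      ((DerivedCategory.homologyFunctorFactors _ i).app _).symm
  let Z : CochainComplex Y.Modules ℤ := 0
  have hZ : IsZero Z := isZero_zero _
  haveI := isIso_Q_map (0 : Z ⟶ I) (quasiIso_zero_of_acyclic _ hZ hac)
  exact ((Functor.map_isZero DerivedCategory.Q hZ).of_iso
    (asIso (DerivedCategory.Q.map (0 : Z ⟶ I))).symm).of_iso e.symm

/-- Let Y be a quasi-compact quasi-separated scheme and assume the unbounded derived functor of global
sections RΓ(U, -) exists for every open U of Y (existence binder). A morphism φ : G₁ ⟶ G₂ in D(O_Y)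
is an isomorphism if and only if for every affine open U of Y the morphism RΓ(U, φ|_U) of D(Ab),
obtained from φ through restriction to U and derived global sections, is an isomorphism. -/
theorem result {Y : Scheme.{u}} [CompactSpace Y] [QuasiSeparatedSpace Y]
    [hR : ∀ U : Y.Opens, DCoh.HasRΓ (U : Scheme.{u})] {G₁ G₂ : DCoh.D Y} (φ : G₁ ⟶ G₂) :
    IsIso φ ↔ ∀ U : Y.Opens, IsAffineOpen U →
      IsIso ((DCoh.RΓ (U : Scheme.{u})).map ((DCoh.restrictD U.ι).map φ)) := by
  refine ⟨fun _ U _ => inferInstance, fun h => ?_⟩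
  obtain ⟨C, g, w, hT⟩ := distinguished_cocone_triangle φ
  refine (Triangle.isZero₃_iff_isIso₁ _ hT).1 (isZero_of_RGamma C fun U hU => ?_)
  haveI := h U hU
  obtain ⟨-, c, hc⟩ := exists_rightDerived_triangle (DCoh.gammaAb (U : Scheme.{u}))
    ((DCoh.restrictD U.ι).mapTriangle.obj (Triangle.mk φ g w))
    ((DCoh.restrictD U.ι).map_distinguished _ hT)
  exact (Triangle.isZero₃_iff_isIso₁ _ hc).2 (h U hU)

end Groth.Agent.S11114
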