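import Groth.Statements.S1112
import Groth.Agent.PushAmp.FinitePC

set_option autoImplicit false
universe u
open CategoryTheory CategoryTheory.Limits AlgebraicGeometry
attribute [local instance] HasDerivedCategory.standard
open Perf

namespace Groth.Agent.S1112

/-- For a finite morphism f : X ⟶ Y whose direct image of the structure sheaf is a pseudo-coherent
O_Y-module, and E ∈ D(O_X) with quasi-coherent cohomology (Rf_* assumed to exist), E is
m-pseudo-coherent exactly when Rf_*E is. -/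
theorem result {X Y : Scheme.{u}} (f : X ⟶ Y) [IsFinite f] [DCoh.HasRpush f]
    (hO : ∀ m : ℤ, DCoh.IsPseudoCoherentD m (DCoh.inD Y ((Scheme.Modules.pushforward f).obj (Coh.structureModule X))))
    (E : DCoh.D X) (hE : DCoh.IsQCohD E) (m : ℤ) :
    DCoh.IsPseudoCoherentD m E ↔ DCoh.IsPseudoCoherentD m ((DCoh.Rpush f).obj E) := by
  have hO' : ∀ k, Groth.Agent.KFlatLib.LocPC k (DCoh.inD Y ((Scheme.Modules.pushforward f).obj (Coh.structureModule X))) :=
    fun k => (Groth.Agent.KFlatLib.isPseudoCoherentD_iff _ _).1 (hO k)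
  rw [Groth.Agent.KFlatLib.isPseudoCoherentD_iff, Groth.Agent.KFlatLib.isPseudoCoherentD_iff]
  constructor
  · intro h
    refine Groth.Agent.KFlatLib.LocPC.of_local fun y => ?_
    obtain ⟨V, hV, hy, -⟩ := exists_isAffineOpen_mem_and_subset (X := Y) (x := y) (U := ⊤) trivial
    exact ⟨_, V.ι, inferInstance, ⟨⟨y, hy⟩, rfl⟩,
      (Groth.Agent.PushAmp.locPC_rpush_affine_iff f hO' hE hV m).1 (h.restrict (f ⁻¹ᵁ V).ι)⟩
  · intro h
    refine Groth.Agent.KFlatLib.LocPC.of_local fun x => ?_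
    obtain ⟨V, hV, hy, -⟩ := exists_isAffineOpen_mem_and_subset (X := Y) (x := f.base x) (U := ⊤) trivial
    exact ⟨_, (f ⁻¹ᵁ V).ι, inferInstance, ⟨(⟨x, hy⟩ : (f ⁻¹ᵁ V : Scheme.{u})), rfl⟩,
      (Groth.Agent.PushAmp.locPC_rpush_affine_iff f hO' hE hV m).2 (h.restrict V.ι)⟩

end Groth.Agent.S1112
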