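import Groth.Statements.S11129
import Groth.Agent.QcqsColim.FTSub
import Groth.Agent.Exactness.QCohCategory
import Groth.Agent.QCoh.Support
import Mathlib.Data.DFinsupp.WellFounded
-- import your own Groth.Agent.* helpers here

set_option autoImplicit false
universe u
open CategoryTheory AlgebraicGeometry
open QCohCat

namespace Groth.Agent.S11129

instance mono_homMk {Y : Scheme.{u}} {A B : QCohCat.QCoh Y} (f : A.obj ⟶ B.obj) [Mono f] :
    Mono (ObjectProperty.homMk f : A ⟶ B) :=
  (QCohCat.isQCoh Y).ι.mono_of_mono_map (show Mono f from inferInstance)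

open Groth.Agent.QCoh CategoryTheory.Limits in
theorem aux (Y : Scheme.{u}) [IsNoetherian Y] (M : QCohCat.QCoh Y) :
    IsNoetherianObject M ↔ Coh.IsCoh M.obj := by
  classical
  constructor
  · intro hM
    let F := M.obj
    have hF : Coh.IsQCoh F := M.2
    let o : QcqsColim.FTIndex F → Subobject M := fun N =>
      haveI : Mono (ObjectProperty.homMk N.1.ι : (⟨_, isQCoh_of_ftOn hF N.2⟩ : QCohCat.QCoh Y) ⟶ M) :=
        (QCohCat.isQCoh Y).ι.mono_of_mono_map (show Mono N.1.ι from inferInstance)
      Subobject.mk (ObjectProperty.homMk N.1.ι : (⟨_, isQCoh_of_ftOn hF N.2⟩ : QCohCat.QCoh Y) ⟶ M)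
    have mono_o : ∀ {a b : QcqsColim.FTIndex F}, a ≤ b → o a ≤ o b := fun {a b} h =>
      Subobject.mk_le_mk_of_comm (ObjectProperty.homMk (QcqsColim.incl h))
        (ObjectProperty.hom_ext _ (QcqsColim.incl_ι h))
    have refl_o : ∀ {a b : QcqsColim.FTIndex F}, o a ≤ o b → a ≤ b := fun {a b} h O s hs => by
      haveI : Mono (ObjectProperty.homMk a.1.ι : (⟨_, isQCoh_of_ftOn hF a.2⟩ : QCohCat.QCoh Y) ⟶ M) :=
        (QCohCat.isQCoh Y).ι.mono_of_mono_map (show Mono a.1.ι from inferInstance)
      haveI : Mono (ObjectProperty.homMk b.1.ι : (⟨_, isQCoh_of_ftOn hF b.2⟩ : QCohCat.QCoh Y) ⟶ M) :=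
        (QCohCat.isQCoh Y).ι.mono_of_mono_map (show Mono b.1.ι from inferInstance)
      obtain ⟨t, rfl⟩ := a.1.exists_app_eq hs
      have h1 : (Subobject.ofMkLEMk _ _ h).hom ≫ b.1.ι = a.1.ι :=
        congrArg InducedCategory.Hom.hom (Subobject.ofMkLEMk_comp h)
      rw [← h1]
      exact b.1.ι_app_mem O _
    haveI := hM
    obtain ⟨_, ⟨N, rfl⟩, hmax⟩ := (wellFounded_gt (α := Subobject M)).has_min (Set.range o) (Set.range_nonempty o)
    have hmem : ∀ (W : Y.Opens), IsAffineOpen W → ∀ s : Γ(F, W), s ∈ N.1.mem W := fun W hW s => by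
      obtain ⟨N', hN', hmem⟩ := exists_ftOn_contains hF hW (extStep_qcqs hW.isCompact) {s} (Set.finite_singleton _)
      let c : QcqsColim.FTIndex F := ⟨QcqsColim.supSub N.1 N', QcqsColim.ftOn_supSub N.2 hN'⟩
      have hc : N ≤ c := fun O t ht => QcqsColim.mem_supSub_left _ _ O ht
      have h2 : o N = o c := (mono_o hc).eq_of_not_lt (hmax _ ⟨c, rfl⟩)
      exact refl_o h2.ge W (QcqsColim.mem_supSub_right N.1 N' W (hmem rfl))
    have hall : ∀ O (s : Γ(F, O)), s ∈ N.1.mem O := fun O s => N.1.of_locally O s fun x hx => by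
      obtain ⟨P, hP, hxP, hPO⟩ := exists_isAffineOpen_mem_and_subset (X := Y) (x := x) (U := O) hx
      exact ⟨P, hPO, hxP, hmem P hP _⟩
    refine ⟨hF, isFT_of_finite hF (fun W : Y.affineOpens => W.1)
      (top_unique fun x _ => ?_) (fun W => W.2) fun W => ?_⟩
    · obtain ⟨P, hP, hxP, -⟩ := exists_isAffineOpen_mem_and_subset (X := Y) (x := x) (U := ⊤) trivial
      exact TopologicalSpace.Opens.mem_iSup.2 ⟨⟨P, hP⟩, hxP⟩
    · haveI := finite_of_isFT (isQCoh_of_ftOn hF N.2) (isFT_of_ftOn hF N.2) W.2
      exact Module.Finite.of_surjective (appLin N.1.ι W.1) fun s => N.1.exists_app_eq (hall W.1 s)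
  · intro hM
    obtain ⟨S, hSf, hS⟩ := isCompact_iff_finite_and_eq_biUnion_affineOpens.mp
      (show IsCompact ((⊤ : Y.Opens) : Set Y) from isCompact_univ)
    haveI : Finite S := hSf.to_subtype
    haveI : ∀ W : S, IsNoetherian Γ(Y, W.1.1) Γ(M.obj, W.1.1) := fun W => by
      haveI : IsNoetherianRing Γ(Y, W.1.1) := IsLocallyNoetherian.component_noetherian W.1
      haveI := finite_of_isFT hM.1 hM.2 W.1.2
      infer_instance
    let Φ : Subobject M → ∀ W : S, Submodule Γ(Y, W.1.1) Γ(M.obj, W.1.1) := fun P W =>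
      LinearMap.range (appLin P.arrow.hom W.1.1)
    have hΦ : StrictMono Φ := by
      refine Monotone.strictMono_of_injective ?_ ?_
      · intro P Q h W
        rintro _ ⟨y, rfl⟩
        refine ⟨(Subobject.ofLE P Q h).hom.app W.1.1 y, ?_⟩
        exact congrArg (fun ψ : (P : QCohCat.QCoh Y).obj ⟶ M.obj => ψ.app W.1.1 y)
          (congrArg InducedCategory.Hom.hom (Subobject.ofLE_arrow h))
      · intro P Q h
        have key : ∀ P Q : Subobject M, Φ P = Φ Q → P ≤ Q := fun P Q h => by
          let g := P.arrow ≫ cokernel.π Q.arrow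
          have hg : g = 0 := by
            have hz : ∀ (W : S) (y : Γ((P : QCohCat.QCoh Y).obj, W.1.1)), g.hom.app W.1.1 y = 0 := fun W y => by
              have h0 : P.arrow.hom.app W.1.1 y ∈ Φ Q W := h ▸ ⟨y, rfl⟩
              obtain ⟨z, hz⟩ := h0
              change (cokernel.π Q.arrow).hom.app W.1.1 (P.arrow.hom.app W.1.1 y) = 0
              rw [← hz]
              exact congrArg (fun ψ : (Q : QCohCat.QCoh Y).obj ⟶ (cokernel Q.arrow).obj => ψ.app W.1.1 z)
                (congrArg InducedCategory.Hom.hom (cokernel.condition Q.arrow))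
            apply ObjectProperty.hom_ext
            refine Scheme.Modules.hom_ext _ _ fun O => ?_
            ext y
            refine eq_zero_of_locally O _ fun x hx => ?_
            have hxS : x ∈ (⊤ : Y.Opens) := trivial
            rw [hS] at hxS
            obtain ⟨W, hxW'⟩ := TopologicalSpace.Opens.mem_iSup.1 hxS
            obtain ⟨hW, hxW⟩ := TopologicalSpace.Opens.mem_iSup.1 hxW' 
            obtain ⟨b, hb, hxb⟩ := W.2.exists_basicOpen_le (V := O) ⟨x, hx⟩ hxW
            refine ⟨Y.basicOpen b, homOfLE hb, hxb, ?_⟩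
            rw [← map_app_comm]
            set y' := (P : QCohCat.QCoh Y).obj.presheaf.map (homOfLE hb).op y
            obtain ⟨n, z, hz'⟩ := exists_pow_smul_eq_map (P : QCohCat.QCoh Y).2 W.2 b y'
            have h3 : g.hom.app (Y.basicOpen b) (rf Y (Y.basicOpen_le b) b ^ n • y') = 0 := by
              rw [show rf Y (Y.basicOpen_le b) b ^ n • y' = _ from hz'.symm]
              exact (map_app_comm g.hom (homOfLE (Y.basicOpen_le b)) z).trans
                ((congrArg _ (hz ⟨W, hW⟩ z)).trans (map_zero _))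
            rw [Scheme.Modules.Hom.app_smul] at h3
            exact ((isUnit_rf_basicOpen b).pow n).smul_eq_zero.1 h3
          exact Subobject.le_of_comm (Abelian.monoLift Q.arrow P.arrow hg) (Abelian.monoLift_comp _ _ hg)
        exact le_antisymm (key P Q h) (key Q P h.symm)
    dsimp only [IsNoetherianObject]
    rw [ObjectProperty.is_iff, isNoetherianObject]
    haveI : WellFoundedLT (∀ W : S, (Submodule Γ(Y, W.1.1) Γ(M.obj, W.1.1))ᵒᵈ) := inferInstance
    haveI : WellFoundedGT (∀ W : S, Submodule Γ(Y, W.1.1) Γ(M.obj, W.1.1)) :=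
      ⟨InvImage.wf (fun f W => OrderDual.toDual (f W)) (wellFounded_lt (α := ∀ W : S, (Submodule Γ(Y, W.1.1) Γ(M.obj, W.1.1))ᵒᵈ))
        |> Subrelation.wf (fun {a b} h => by
          refine ⟨fun W => h.1 W, fun hh => h.2 fun W => hh W⟩)⟩
    exact hΦ.wellFoundedGT

/-- For a noetherian scheme Y, an object M of the category QCoh(O_Y) of quasi-coherent O_Y-modules (a
full subcategory of all O_Y-modules) is a noetherian object of that category if and only if M is
coherent (quasi-coherent of finite type). (The published statement also records that QCoh(O_Y) is a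
locally noetherian category; only the characterisation of its noetherian objects is stated here.) -/
theorem result (Y : Scheme.{u}) [IsNoetherian Y] (M : QCohCat.QCoh Y) :
    IsNoetherianObject M ↔ Coh.IsCoh M.obj := by
    exact Groth.Agent.S11129.aux Y M

end Groth.Agent.S11129
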