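import Groth.Statements.S11164
import Groth.Agent.KFlatLib.Scheme.LocalDevissage
import Groth.Agent.KFlatLib.Scheme.RGammaPush
import Groth.Agent.InvX.Tensor
import Mathlib.Algebra.Category.ModuleCat.Biproducts
import Mathlib.RingTheory.Flat.Basic
-- import your own Groth.Agent.* helpers here

set_option autoImplicit false
universe u
open CategoryTheory CategoryTheory.Limits AlgebraicGeometry
attribute [local instance] HasDerivedCategory.standard
open Coherent

namespace Groth.Agent.S11164

/-- Every O_X-module on a scheme X is a quotient of a flat O_X-module; precisely, for every O_X-module F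
there are opens U_i of X and an epimorphism ∐ j_{U_i !} O_{U_i} ⟶ F, and such a direct sum of
extensions by zero of structure sheaves of opens is flat (all its stalks are flat over the local
rings). -/
theorem result {X : Scheme.{u}} (F : X.Modules) :
    ∃ (ι : Type u) (U : ι → X.Opens) (p : (∐ fun i => CxOX.extZeroUnit (U i).ι) ⟶ F),
      Epi p ∧ FlatMod.IsFlat (∐ fun i => CxOX.extZeroUnit (U i).ι) := by
    let J : Type u := Σ U : X.Opens, (Coh.structureModule (U : Scheme.{u}) ⟶ (Scheme.Modules.restrictFunctor U.ι).obj F)
    refine ⟨J, fun i => i.1, Limits.Sigma.desc fun i => ((CxOX.extZeroAdj i.1.ι).homEquiv _ _).symm i.2, ?_, ?_⟩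
    · refine ⟨fun {Z} φ ψ h => Scheme.Modules.hom_ext _ _ fun V => ?_⟩
      ext s
      have key : ∀ (a : Coh.structureModule (V : Scheme.{u}) ⟶ (Scheme.Modules.restrictFunctor V.ι).obj F),
          a ≫ (Scheme.Modules.restrictFunctor V.ι).map φ = a ≫ (Scheme.Modules.restrictFunctor V.ι).map ψ := fun a => by
        refine ((CxOX.extZeroAdj V.ι).homEquiv _ _).symm.injective ?_
        rw [Adjunction.homEquiv_naturality_right_symm, Adjunction.homEquiv_naturality_right_symm]
        have := congrArg (fun t => Limits.Sigma.ι (fun i : J => CxOX.extZeroUnit i.1.ι) ⟨V, a⟩ ≫ t) h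
        simpa only [Limits.Sigma.ι_desc_assoc] using this
      have hgen : ∀ (W : X.Opens), W = V → ∀ t : Γ(F, W), (∀ a : Coh.structureModule (V : Scheme.{u}) ⟶ _,
          a ≫ (Scheme.Modules.restrictFunctor V.ι).map φ = a ≫ (Scheme.Modules.restrictFunctor V.ι).map ψ) →
          φ.app W t = ψ.app W t := by
        intro W hW t hk
        subst hW
        let t' : Γ((Scheme.Modules.restrictFunctor W.ι).obj F, ⊤) :=
          F.presheaf.map (eqToHom W.ι_image_top).op t
        have h2 := congrArg Groth.Agent.InvX.one (hk (Groth.Agent.InvX.ofSect t'))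
        have h3 : φ.app (W.ι ''ᵁ ⊤) (F.presheaf.map (eqToHom W.ι_image_top).op t) =
            ψ.app (W.ι ''ᵁ ⊤) (F.presheaf.map (eqToHom W.ι_image_top).op t) := by
          have e := Groth.Agent.InvX.one_ofSect t'
          refine Eq.trans ?_ ((h2).trans ?_)
          · exact (congrArg (fun z => φ.app (W.ι ''ᵁ ⊤) z) e).symm
          · exact congrArg (fun z => ψ.app (W.ι ''ᵁ ⊤) z) e
        rw [Groth.Agent.QCoh.map_app_comm, Groth.Agent.QCoh.map_app_comm] at h3
        have hinj : Function.Injective (Z.presheaf.map (eqToHom W.ι_image_top).op) :=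
          (ConcreteCategory.bijective_of_isIso _).1
        exact hinj h3
      exact hgen V rfl s key
    · intro x
      haveI := fun i : J => Groth.Agent.KFlatLib.isFlat_lsh i.1.ι
        (Groth.Agent.KFlatLib.isFlat_structureModule (X := (i.1 : Scheme.{u}))) x
      let G : J → ModuleCat.{u} (X.presheaf.stalk x) := fun i =>
        (DerSch.stalkFunctor X x).obj (CxOX.extZeroUnit i.1.ι)
      haveI : ∀ i, Module.Flat (X.presheaf.stalk x) (G i) := fun i =>
        Groth.Agent.KFlatLib.isFlat_lsh i.1.ι
          (Groth.Agent.KFlatLib.isFlat_structureModule (X := (i.1 : Scheme.{u}))) x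
      classical
      let e : (DerSch.stalkFunctor X x).obj (∐ fun i : J => CxOX.extZeroUnit i.1.ι) ≅
          ModuleCat.of (X.presheaf.stalk x) (DirectSum J fun i => G i) :=
        Limits.PreservesCoproduct.iso (DerSch.stalkFunctor X x) _ ≪≫ ModuleCat.coprodIsoDirectSum G
      haveI : Module.Flat (X.presheaf.stalk x) (ModuleCat.of (X.presheaf.stalk x) (DirectSum J fun i => G i)) :=
        inferInstanceAs (Module.Flat (X.presheaf.stalk x) (DirectSum J fun i => G i))
      exact Module.Flat.of_linearEquiv e.toLinearEquiv

end Groth.Agent.S11164
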