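import Groth.Statements.S11189
import Groth.Agent.Deform.QuotSepRight
import Groth.Agent.Deform.QuotRight
import Groth.Agent.Deform.Observ
import Groth.Agent.Deform.Borel.General
import Groth.Agent.Deform.Blanchard.Const
import Groth.Agent.GrpSchLib.SmoothReduced

set_option autoImplicit false
universe u
open CategoryTheory MonoidalCategory CartesianMonoidalCategory MonObj GrpObj AlgebraicGeometry
open scoped TensorProduct
open AGF

namespace Groth.Agent.S11189
attribute [local instance] CategoryTheory.Hom.monoid CategoryTheory.Hom.group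
set_option linter.style.haveILetI false
set_option maxHeartbeats 1000000
open Groth.Agent.Deform
open Chev (Pt pimg)
attribute [local instance] GModStable.algΓ

/-- A separated morphism of finite type to an affine scheme, quasi-finite at all closed points, has quasi-affine source. -/
theorem isQuasiAffine_of_closed {X V : Scheme.{u}} [IsAffine V] [JacobsonSpace X] [CompactSpace X] (f : X ⟶ V)
    [LocallyOfFiniteType f] [IsSeparated f] [QuasiCompact f]
    (h : ∀ x : X, IsClosed ({x} : Set X) → ∀ z, f z = f x → z = x) : X.IsQuasiAffine := by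
  have h1 : ∀ x : X, IsClosed ({x} : Set X) → x ∈ f.quasiFiniteLocus := by
    intro x hx
    rw [Scheme.Hom.mem_quasiFiniteLocus, Scheme.Hom.quasiFiniteAt_iff_isOpen_singleton_asFiber]
    haveI : Subsingleton ↥(f ⁻¹' {f x}) :=
      ⟨fun a b => Subtype.ext ((h x hx a.1 a.2).trans (h x hx b.1 b.2).symm)⟩
    haveI : Subsingleton (f.fiber (f x)) := (f.fiberHomeo (f x)).toEquiv.subsingleton
    exact isOpen_discrete _
  haveI : LocallyQuasiFinite f := by
    rw [← Scheme.Hom.quasiFiniteLocus_eq_top_iff, eq_top_iff]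
    intro x _
    by_contra hx
    obtain ⟨g, hg1, hg⟩ := nonempty_inter_closedPoints
      (Z := (f.quasiFiniteLocus : Set X)ᶜ) ⟨x, hx⟩ f.quasiFiniteLocus.isOpen.isClosed_compl.isLocallyClosed
    exact hg1 (h1 g hg)
  haveI : IsAffine f.normalization := isAffine_of_isAffineHom f.fromNormalization
  exact Scheme.IsQuasiAffine.of_isImmersion f.toNormalization

variable {k : Type u} [Field k] {G H X : Over (Spec (CommRingCat.of k))} [GrpObj G] [GrpObj H]

theorem appTop_comp_apply {A B C : Scheme.{u}} (f : A ⟶ B) (g : B ⟶ C) (φ : Γ(C, ⊤)) :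
    (f ≫ g).appTop φ = f.appTop (g.appTop φ) := by
  rw [Scheme.Hom.comp_appTop]; rfl

theorem observable_of_quasiAffine (i : H ⟶ G) (q : G ⟶ X)
    (sq : IsPullback (fst G H) ((G ◁ i) ≫ μ[G]) q q) (hq : X.left.IsQuasiAffine) : AGF.IsObservableIn k i := by
  intro g hg
  have key : g ≫ q = (1 : VecGrp.pt k k ⟶ G) ≫ q := by
    have h2 : (g ≫ q).left.appTop = ((1 : VecGrp.pt k k ⟶ G) ≫ q).left.appTop := by
      ext φ
      have hinv : AGF.IsRTransInv i (q.left.appTop φ) := by
        have h := congrArg (fun m : G ⊗ H ⟶ X => m.left.appTop φ) sq.w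
        simp only [Over.comp_left, appTop_comp_apply] at h
        exact h.symm
      have h := congrArg (fun f => (lift (1 : VecGrp.pt k k ⟶ G) (𝟙 (VecGrp.pt k k))).left.appTop f)
        (hg _ hinv)
      simp only [← appTop_comp_apply, ← Over.comp_left, Category.assoc] at h
      have e1 : lift (1 : VecGrp.pt k k ⟶ G) (𝟙 (VecGrp.pt k k)) ≫ (G ◁ g) ≫ μ[G] ≫ q = g ≫ q := by
        rw [lift_whiskerLeft_assoc, Category.id_comp, ← Category.assoc, ← Hom.mul_def, _root_.one_mul]
      have e2 : lift (1 : VecGrp.pt k k ⟶ G) (𝟙 (VecGrp.pt k k)) ≫ fst G (VecGrp.pt k k) ≫ q =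
          (1 : VecGrp.pt k k ⟶ G) ≫ q := lift_fst_assoc _ _ _
      rw [e1, e2] at h
      exact h
    apply Over.OverMorphism.ext
    haveI : Mono X.left.toSpecΓ := inferInstance
    rw [← cancel_mono X.left.toSpecΓ, Scheme.toSpecΓ_naturality, Scheme.toSpecΓ_naturality, h2]
  obtain ⟨x, hx⟩ := (QuotRight.right_iff i q sq 1 g).1 key.symm
  exact ⟨x, by rw [hx, _root_.one_mul]⟩

theorem quasiAffine_of_observable [IsAlgClosed k] [IsAffine G.left] [Smooth G.hom] [Smooth H.hom]
    (i : H ⟶ G) [IsMonHom i] [IsClosedImmersion i.left] [LocallyOfFiniteType X.hom] (q : G ⟶ X)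
    [Flat q.left] [Surjective q.left]
    (sq : IsPullback (fst G H) ((G ◁ i) ≫ μ[G]) q q) (hobs : AGF.IsObservableIn k i) : X.left.IsQuasiAffine := by
  haveI : IsReduced G.left := GrpSchLib.isReduced_of_smooth_field G.hom
  haveI : IsReduced H.left := GrpSchLib.isReduced_of_smooth_field H.hom
  haveI : IsAffine H.left := isAffine_of_isAffineHom i.left
  haveI : IsLocallyNoetherian X.left := LocallyOfFiniteType.isLocallyNoetherian X.hom
  haveI : LocallyOfFiniteType (q.left ≫ X.hom) := by rw [Over.w q]; infer_instance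
  haveI : LocallyOfFiniteType q.left := locallyOfFiniteType_of_comp q.left X.hom
  haveI : LocallyOfFinitePresentation q.left := inferInstance
  haveI : IsSeparated X.hom := QuotSepRight.isSeparated_of_isPullback i q sq
  haveI : CompactSpace X.left := q.left.surjective.compactSpace q.left.continuous
  haveI : JacobsonSpace X.left := LocallyOfFiniteType.jacobsonSpace X.hom
  classical
  obtain ⟨s, hs, hsep⟩ := Observ.exists_separating i hobs
  let a : MvPolynomial ↥s k →ₐ[k] Γ(G.left, ⊤) := MvPolynomial.aeval fun f : ↥s => f.1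
  let V : Over (Spec (CommRingCat.of k)) := VecGrp.pt k (MvPolynomial ↥s k)
  let φl : G.left ⟶ V.left := G.left.toSpecΓ ≫ Spec.map (CommRingCat.ofHom a.toRingHom)
  have hφw : φl ≫ V.hom = G.hom := by
    show (G.left.toSpecΓ ≫ Spec.map (CommRingCat.ofHom a.toRingHom)) ≫
      Spec.map (CommRingCat.ofHom (algebraMap k (MvPolynomial ↥s k))) = G.hom
    rw [Category.assoc, ← Spec.map_comp, ← CommRingCat.ofHom_comp, AlgHom.toRingHom_eq_coe, AlgHom.comp_algebraMap]
    show G.left.toSpecΓ ≫ Spec.map ((Scheme.ΓSpecIso (CommRingCat.of k)).inv ≫ G.hom.appTop) = G.hom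
    rw [Spec.map_comp, ← Category.assoc, ← Scheme.toSpecΓ_naturality, Category.assoc, toSpecΓ_SpecMap_ΓSpecIso_inv,
      Category.comp_id]
  let φ : G ⟶ V := Over.homMk φl hφw
  have hφ : ∀ f : ↥s, φ.left.appTop ((Scheme.ΓSpecIso (CommRingCat.of (MvPolynomial ↥s k))).inv (MvPolynomial.X f)) = f.1 := by
    intro f
    show φl.appTop _ = _
    simp only [φl, appTop_comp_apply]
    rw [← CommRingCat.comp_apply, ← CommRingCat.comp_apply, ← Category.assoc,
      ← Scheme.ΓSpecIso_inv_naturality, Category.assoc, Scheme.toSpecΓ_appTop, Iso.inv_hom_id]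
    simp [a]
  obtain ⟨ψ, hψ⟩ := QuotDescent.exists_descOver q φ (fun T x y e => by
    obtain ⟨h, rfl⟩ := (QuotRight.right_iff i q sq x y).1 e
    apply Over.OverMorphism.ext
    show x.left ≫ φl = (x * (h ≫ i)).left ≫ φl
    simp only [φl]
    rw [← Category.assoc, ← Category.assoc, Scheme.toSpecΓ_naturality, Scheme.toSpecΓ_naturality, Category.assoc,
      Category.assoc, ← Spec.map_comp, ← Spec.map_comp]
    congr 2
    ext1
    refine MvPolynomial.ringHom_ext (fun c => ?_) (fun f => ?_)
    · show x.left.appTop (a (MvPolynomial.C c)) = (x * (h ≫ i)).left.appTop (a (MvPolynomial.C c))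
      rw [← MvPolynomial.algebraMap_eq, a.commutes]
      show x.left.appTop (G.hom.appTop _) = (x * (h ≫ i)).left.appTop (G.hom.appTop _)
      rw [← appTop_comp_apply, ← appTop_comp_apply, Over.w x, Over.w (x * (h ≫ i))]
    · show x.left.appTop (a (MvPolynomial.X f)) = (x * (h ≫ i)).left.appTop (a (MvPolynomial.X f))
      have e2 : x * (h ≫ i) = lift x h ≫ (G ◁ i) ≫ μ[G] := by
        rw [lift_whiskerLeft_assoc, Hom.mul_def]
      have e3 : a (MvPolynomial.X f) = f.1 := MvPolynomial.aeval_X _ _
      have e4 := congrArg (fun t => (lift x h).left.appTop t) (hs f.1 f.2)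
      simp only [← appTop_comp_apply, ← Over.comp_left, lift_fst] at e4
      rw [e3, e2, e4])
  haveI : LocallyOfFiniteType (ψ.left ≫ V.hom) := by rw [Over.w ψ]; infer_instance
  haveI : LocallyOfFiniteType ψ.left := locallyOfFiniteType_of_comp ψ.left V.hom
  haveI : IsSeparated (ψ.left ≫ V.hom) := by rw [Over.w ψ]; infer_instance
  haveI : IsSeparated ψ.left := IsSeparated.of_comp ψ.left V.hom
  haveI : IsAffine V.left := inferInstanceAs (IsAffine (Spec _))
  haveI : QuasiCompact ψ.left := HasAffineProperty.iff_of_isAffine.mpr ‹CompactSpace X.left›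
  haveI : LocallyOfFiniteType V.hom := by
    show LocallyOfFiniteType (Spec.map (CommRingCat.ofHom (algebraMap k (MvPolynomial ↥s k))))
    rw [HasRingHomProperty.Spec_iff (P := @LocallyOfFiniteType), CommRingCat.hom_ofHom, RingHom.finiteType_algebraMap]
    infer_instance
  refine isQuasiAffine_of_closed ψ.left (fun x hx => ?_)
  obtain ⟨r, hr⟩ := Blanchard.exists_pt_of_closed hx
  have hcl : ∀ x' : X.left, IsClosed ({x'} : Set X.left) → ψ.left x' = ψ.left x → x' = x := by
    intro x' hx' e
    obtain ⟨r', hr'⟩ := Blanchard.exists_pt_of_closed hx'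
    obtain ⟨g, hg⟩ := Borel.exists_pt_over q r
    obtain ⟨g', hg'⟩ := Borel.exists_pt_over q r'
    have e1 : g ≫ φ = g' ≫ φ := by
      rw [← hψ, reassoc_of% hg, reassoc_of% hg']
      apply Blanchard.pt_ext
      show (r ≫ ψ).left (IsLocalRing.closedPoint k) = (r' ≫ ψ).left (IsLocalRing.closedPoint k)
      simp only [Over.comp_left, Scheme.Hom.comp_apply]
      rw [show r.left (IsLocalRing.closedPoint k) = x from hr,
        show r'.left (IsLocalRing.closedPoint k) = x' from hr', e]
    obtain ⟨h, hh⟩ := hsep (toUnit _ ≫ g) (toUnit _ ≫ g') (fun f hf => by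
      show (Scheme.ΓSpecIso (CommRingCat.of k)).hom ((toUnit (VecGrp.pt k k) ≫ g).left.appTop f) =
        (Scheme.ΓSpecIso (CommRingCat.of k)).hom ((toUnit (VecGrp.pt k k) ≫ g').left.appTop f)
      rw [← show φ.left.appTop _ = f from hφ ⟨f, hf⟩, ← appTop_comp_apply, ← appTop_comp_apply, ← Over.comp_left, ← Over.comp_left,
        Category.assoc, Category.assoc, e1])
    have e2 : (toUnit (VecGrp.pt k k) ≫ g) ≫ q = (toUnit (VecGrp.pt k k) ≫ g') ≫ q :=
      (QuotRight.right_iff i q sq _ _).2 ⟨h, hh⟩
    have e3 := congrArg (fun m : VecGrp.pt k k ⟶ X => m.left (IsLocalRing.closedPoint k)) e2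
    simp only [Category.assoc, hg, hg', Over.comp_left, Scheme.Hom.comp_apply] at e3
    have e4 : (toUnit (VecGrp.pt k k)).left (IsLocalRing.closedPoint k) = IsLocalRing.closedPoint k :=
      Subsingleton.elim (α := PrimeSpectrum k) _ _
    rw [e4] at e3
    rw [← hr, ← hr']
    exact e3.symm
  intro z hz
  by_contra hne
  have hyc : IsClosed ({ψ.left x} : Set V.left) := by
    have := Blanchard.isClosed_pimg (r ≫ ψ)
    rwa [show pimg (r ≫ ψ) = ψ.left x by rw [← hr]; rfl] at this
  obtain ⟨x', hx'1, hx'⟩ := nonempty_inter_closedPoints (Z := ψ.left ⁻¹' {ψ.left x} \ {x}) ⟨z, hz, hne⟩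
    ((hyc.preimage ψ.left.continuous).isLocallyClosed.inter hx.isOpen_compl.isLocallyClosed)
  exact hx'1.2 (hcl x' hx' hx'1.1)

/-- Let k be an algebraically closed field, G a linear algebraic group over k (an affine smooth group
scheme over k) and H a closed subgroup of G (a smooth closed subgroup scheme, i : H → G), and let X,
with G-action a and base point o, be the quotient G/H. Then H is observable in G if and only if X is
quasi-affine (quasi-compact and an open subscheme of an affine scheme). -/
theorem result (k : Type u) [Field k] [IsAlgClosed k]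
    (G : Over (Spec (CommRingCat.of k))) [GrpObj G] [IsAffine G.left] [Smooth G.hom]
    (H : Over (Spec (CommRingCat.of k))) [GrpObj H] [Smooth H.hom] (i : H ⟶ G) [IsMonHom i]
    [IsClosedImmersion i.left]
    (X : Over (Spec (CommRingCat.of k))) (a : AlgGrp.Action G X) (o : 𝟙_ (Over (Spec (CommRingCat.of k))) ⟶ X)
    (hX : AGF.IsQuotient i X a o) :
    AGF.IsObservableIn k i ↔ X.left.IsQuasiAffine := by
  obtain ⟨hft, hflat, hsurj, hpb⟩ := hX
  exact ⟨fun h => quasiAffine_of_observable i (a.orbitMap o) hpb h,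
    fun h => observable_of_quasiAffine i (a.orbitMap o) hpb h⟩

end Groth.Agent.S11189
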