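import Groth.Statements.S1119
import Groth.Agent.PushAmp.TensorBound
import Groth.Agent.S1103

set_option autoImplicit false
universe u
open CategoryTheory CategoryTheory.Limits AlgebraicGeometry Opposite
attribute [local instance] HasDerivedCategory.standard
open Perf

namespace Groth.Agent.S1119

/-- Let A be a ring, π : X ⟶ Spec A with X quasi-compact and quasi-separated, and K a cochain complex of
O_X-modules whose image in D(O_X) is bounded above with quasi-coherent cohomology sheaves. Assuming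
Rπ_* and - ⊗^L K exist: if Rπ_*(E ⊗^L K) is pseudo-coherent on Spec A for every perfect E ∈ D(O_X),
then Rπ_*(E ⊗^L K) is pseudo-coherent for every pseudo-coherent E ∈ D(O_X). (The source phrases the
condition with RΓ(X, -) valued in D(A); on the affine base the two formulations correspond under
D(A) ≃ D_QCoh(Spec A).) -/
theorem result (A : Type u) [CommRing A] (X : Scheme.{u}) [CompactSpace ↥X] [QuasiSeparatedSpace ↥X]
    (π : X ⟶ Spec (CommRingCat.of A)) [DCoh.HasRpush π]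
    (K : CochainComplex X.Modules ℤ) (hK : DCoh.IsQCohD (DCoh.toD X K)) (b : ℤ) [(DCoh.toD X K).IsLE b] [DCoh.HasLTensorCx K]
    (h : ∀ E : DCoh.D X, DCoh.IsPerfect E → ∀ m : ℤ, DCoh.IsPseudoCoherentD m ((DCoh.Rpush π).obj ((DCoh.LTensorCx K).obj E)))
    (E : DCoh.D X) (hE : ∀ m : ℤ, DCoh.IsPseudoCoherentD m E) (m : ℤ) :
    DCoh.IsPseudoCoherentD m ((DCoh.Rpush π).obj ((DCoh.LTensorCx K).obj E)) := by
  haveI : QuasiSeparated π := inferInstance
  haveI : QuasiCompact π := inferInstance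
  haveI : HasInjectiveResolutions X.Modules := Groth.Agent.KFlatLib.hasInjectiveResolutions_modules
  obtain ⟨N, hN⟩ := Groth.Agent.KFlatLib.exists_Rpush_bound π
  obtain ⟨r, hr⟩ := Groth.Agent.S1103.result X Set.univ isClosed_univ (by simp)
  have hEq : DCoh.IsQCohD E := fun i =>
    Groth.Agent.KFlatLib.isQCoh_HD_of_pseudoCoherent (hE (i - 1)) i (by omega)
  obtain ⟨P, α, hP, -, hα⟩ := hr (m - b - N - 1) E hEq (hE _) (fun i _ => Set.subset_univ _)
  obtain ⟨C, g, d, hT⟩ := CategoryTheory.Pretriangulated.distinguished_cocone_triangle α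
  have hC : ∀ i, m - b - N - 1 ≤ i → IsZero (DCoh.HD C i) :=
    Groth.Agent.DQGen.isZero_obj₃_of_isPcMap hT hα
  haveI : C.IsLE (m - b - N - 2) := (DerivedCategory.isLE_iff C _).2 fun i hi => hC i (by omega)
  have hCq : DCoh.IsQCohD C := Groth.Agent.KFlatLib.isQCohD_obj₃ hT (Groth.Agent.DQGen.isQCohD_of_isPerfect hP) hEq
  obtain ⟨T', hT', ⟨e₁⟩, ⟨e₂⟩, ⟨e₃⟩⟩ := Groth.Agent.PushAmp.exists_ltensor_triangle K _ hT
  obtain ⟨c, hc⟩ := Groth.Agent.KFlatLib.exists_rpush_triangle π T' hT'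
  have hP1 : DCoh.IsPerfect (P⟦(1 : ℤ)⟧) :=
    (Groth.Agent.KFlatLib.isPerfect_iff _).2 (((Groth.Agent.KFlatLib.isPerfect_iff _).1 hP).shift 1)
  have h3 : Groth.Agent.KFlatLib.LocPC (m - 1) ((DCoh.Rpush π).obj T'.obj₃) :=
    ((Groth.Agent.KFlatLib.isPseudoCoherentD_iff _ _).1 (h _ hP1 (m - 1))).of_iso ((DCoh.Rpush π).mapIso e₃.symm)
  haveI : ((DCoh.LTensorCx K).obj C).IsLE (m - N - 2) := (DerivedCategory.isLE_iff _ _).2 fun i hi =>
    Groth.Agent.PushAmp.isZero_hd_ltensor K b C (m - b - N - 2) i (by omega)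
  have hz : ∀ i, m - 1 ≤ i → IsZero (DCoh.HD ((DCoh.Rpush π).obj ((DCoh.LTensorCx K).obj C)) i) := fun i hi => by
    refine Groth.Agent.KFlatLib.isZero_of_isZero_restrict _ fun y =>
      ⟨⊤, trivial, Groth.Agent.KFlatLib.isZero_restrict_hd_rpush π
        (Groth.Agent.KFlatLib.isQCohD_ltensor K hK hCq) (m - N - 2) ⊤ N ?_ i (by omega)⟩
    exact fun M hM p hp => (Scheme.Modules.restrictFunctor _).map_isZero (hN M hM p hp)
  have h2 : Groth.Agent.KFlatLib.LocPC (m - 1) ((DCoh.Rpush π).obj T'.obj₂) :=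
    (Groth.Agent.PushAmp.locPC_of_isZero_above hz).of_iso ((DCoh.Rpush π).mapIso e₂.symm)
  have h1 := (Groth.Agent.KFlatLib.locPC_two_of_three (m - 1) _ hc).2.2 (h2.mono (by omega)) h3
  rw [show m - 1 + 1 = m by omega] at h1
  exact (Groth.Agent.KFlatLib.isPseudoCoherentD_iff _ _).2 (h1.of_iso ((DCoh.Rpush π).mapIso e₁))

end Groth.Agent.S1119
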