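import Groth.Statements.S11190
import Groth.Agent.Deform.ObsExt

set_option autoImplicit false
universe u
open CategoryTheory MonoidalCategory CartesianMonoidalCategory MonObj GrpObj AlgebraicGeometry
open scoped TensorProduct
open AGF

namespace Groth.Agent.S11190
attribute [local instance] CategoryTheory.Hom.monoid CategoryTheory.Hom.group
set_option linter.style.haveILetI false
set_option maxHeartbeats 1000000
open Groth.Agent.Deform.GModStable Groth.Agent.Deform.RTrans Groth.Agent.Deform.ObsVanish Groth.Agent.Deform.ObsSemi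
attribute [local instance] Groth.Agent.Deform.GModStable.algΓ
/-- Let k be an algebraically closed field, G a linear algebraic group over k (an affine smooth group
scheme over k) and H a closed subgroup of G (a smooth closed subgroup scheme, i : H → G). Then H is
observable in G if and only if each finite-dimensional rational H-module occurs as an H-submodule of
some rational G-module of finite dimension (it embeds, H-equivariantly along i, into one). -/
theorem result (k : Type u) [Field k] [IsAlgClosed k]
    (G : Over (Spec (CommRingCat.of k))) [GrpObj G] [IsAffine G.left] [Smooth G.hom]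
    (H : Over (Spec (CommRingCat.of k))) [GrpObj H] [Smooth H.hom] (i : H ⟶ G) [IsMonHom i]
    [IsClosedImmersion i.left] :
    AGF.IsObservableIn k i ↔
      ∀ (V : Type u) [AddCommGroup V] [Module k V] [Module.Finite k V] (σ : VecGrp.GMod H V), σ.ExtendsAlong i := by
  haveI : IsAffine H.left := isAffine_of_isAffineHom i.left
  haveI : IsReduced G.left := Groth.Agent.GrpSchLib.isReduced_of_smooth_field G.hom
  haveI : IsReduced H.left := Groth.Agent.GrpSchLib.isReduced_of_smooth_field H.hom
  refine ⟨fun hobs V _ _ _ σ => Groth.Agent.Deform.ObsExt.extends_of_observable i hobs σ, fun hext => ?_⟩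
  obtain ⟨V, _, _, _, ρ, v, hv, hst, χ, hχ⟩ := Groth.Agent.Deform.ObsLine.exists_line i
  obtain ⟨φ, hφ⟩ := exists_dual_one (k := k) hv
  have hmul : ∀ (B : Type u) [CommRing B] [Algebra k B] (y y' : VecGrp.pt k B ⟶ H),
      VecGrp.chiVal χ (y * y') = VecGrp.chiVal χ y * VecGrp.chiVal χ y' := by
    intro B _ _ y y'
    have h := hχ B (y * y')
    rw [MonObj.mul_comp, map_mul, LinearEquiv.mul_apply, hχ, map_smul, hχ, smul_smul] at h
    have h2 := congrArg (pr φ B) h
    rw [pr_smul_one, pr_smul_one, hφ, map_one, _root_.mul_one, _root_.mul_one] at h2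
    rw [← h2, mul_comm]
  have hone : ∀ (B : Type u) [CommRing B] [Algebra k B], VecGrp.chiVal χ (1 : VecGrp.pt k B ⟶ H) = 1 := by
    intro B _ _
    have h := hχ B 1
    rw [MonObj.one_comp, map_one] at h
    have h2 := congrArg (pr φ B) h
    rw [pr_smul_one, hφ, map_one, _root_.mul_one] at h2
    rw [← h2]
    show pr φ B ((1 : B) ⊗ₜ[k] v) = 1
    rw [← one_smul B ((1 : B) ⊗ₜ[k] v), pr_smul_one, hφ, map_one, _root_.mul_one]
  let c : ∀ (B : Type u) [CommRing B] [Algebra k B], (VecGrp.pt k B ⟶ H) →* B := fun B _ _ =>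
    { toFun := fun y => VecGrp.chiVal χ y⁻¹
      map_one' := by rw [inv_one, hone]
      map_mul' := fun y y' => by rw [_root_.mul_inv_rev, hmul, mul_comm] }
  have hc : ∀ (B : Type u) [CommRing B] [Algebra k B] (y : VecGrp.pt k B ⟶ H), c B y = VecGrp.chiVal χ⁻¹ y := by
    intro B _ _ y
    have h1 : c B y * VecGrp.chiVal χ y = 1 := by
      show VecGrp.chiVal χ y⁻¹ * _ = 1
      rw [← hmul, inv_mul_cancel, hone]
    have h2 : VecGrp.chiVal χ⁻¹ y * VecGrp.chiVal χ y = 1 := by
      rw [chiVal_eq, chiVal_eq]; exact gmFn_inv_fn χ y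
    calc c B y = c B y * (VecGrp.chiVal χ⁻¹ y * VecGrp.chiVal χ y) := by rw [h2, _root_.mul_one]
      _ = VecGrp.chiVal χ⁻¹ y * (c B y * VecGrp.chiVal χ y) := by ring
      _ = _ := by rw [h1, _root_.mul_one]
  let σ : VecGrp.GMod H k :=
    { ρ := fun B _ _ => (LinearMap.GeneralLinearGroup.generalLinearEquiv B (B ⊗[k] k)).toMonoidHom.comp
        (MonoidHom.toHomUnits
          { toFun := fun y => c B y • (LinearMap.id : B ⊗[k] k →ₗ[B] B ⊗[k] k)
            map_one' := by rw [map_one, one_smul]; rfl
            map_mul' := fun y y' => LinearMap.ext fun z => by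
              rw [map_mul, LinearMap.smul_apply, LinearMap.id_apply, Module.End.mul_apply, LinearMap.smul_apply,
                LinearMap.id_apply, LinearMap.smul_apply, LinearMap.id_apply, mul_smul] })
      naturality := fun {B B'} _ _ _ _ a y x => by
        show VecGrp.Wmap a (c B y • x) = c B' (VecGrp.ptMap a ≫ y) • VecGrp.Wmap a x
        rw [VecGrp.Wmap_smul]
        congr 1
        show a (VecGrp.chiVal χ y⁻¹) = VecGrp.chiVal χ (VecGrp.ptMap a ≫ y)⁻¹
        rw [chiVal_eq, chiVal_eq, ← GrpObj.comp_inv, fn_ptMap]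
        rfl }
  obtain ⟨W, _, _, _, σW, ψ, hψ, heq⟩ := hext k σ
  refine observable_of_line i ρ hv χ hχ σW (w := ψ 1) (fun h => one_ne_zero (hψ (h.trans (map_zero ψ).symm))) ?_
    fun g ⟨a, _, ha⟩ => hst g ⟨a, ha⟩
  intro B _ _ y
  have h := heq B y ((1 : B) ⊗ₜ[k] (1 : k))
  rw [LinearMap.baseChange_tmul] at h
  rw [← h]
  show ψ.baseChange B (c B y • ((1 : B) ⊗ₜ[k] (1 : k))) = _
  rw [map_smul, LinearMap.baseChange_tmul, hc]

end Groth.Agent.S11190
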