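import Groth.Statements.S11193
import Groth.Agent.Deform.ObsExt

set_option autoImplicit false
universe u
open CategoryTheory MonoidalCategory CartesianMonoidalCategory MonObj GrpObj AlgebraicGeometry
open scoped TensorProduct
open AGF

namespace Groth.Agent.S11193
attribute [local instance] CategoryTheory.Hom.monoid CategoryTheory.Hom.group
set_option linter.style.haveILetI false
set_option maxHeartbeats 1000000
open Groth.Agent.Deform.GModStable Groth.Agent.Deform.RTrans Groth.Agent.Deform.ObsVanish Groth.Agent.Deform.ObsSemi
attribute [local instance] Groth.Agent.Deform.GModStable.algΓ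
/-- Let k be an algebraically closed field, G a linear algebraic group over k (an affine smooth group
scheme over k) and H a closed subgroup of G (a smooth closed subgroup scheme, i : H → G), with H of
finite index in G (equivalently, H is also open in G). Then each finite-dimensional rational
H-module occurs as an H-submodule of some rational G-module of finite dimension. -/
theorem result (k : Type u) [Field k] [IsAlgClosed k]
    (G : Over (Spec (CommRingCat.of k))) [GrpObj G] [IsAffine G.left] [Smooth G.hom]
    (H : Over (Spec (CommRingCat.of k))) [GrpObj H] [Smooth H.hom] (i : H ⟶ G) [IsMonHom i]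
    [IsClosedImmersion i.left] [IsOpenImmersion i.left]
    (V : Type u) [AddCommGroup V] [Module k V] [Module.Finite k V] (σ : VecGrp.GMod H V) :
    σ.ExtendsAlong i := by
  haveI : IsAffine H.left := isAffine_of_isAffineHom i.left
  haveI : IsReduced G.left := Groth.Agent.GrpSchLib.isReduced_of_smooth_field G.hom
  haveI : IsReduced H.left := Groth.Agent.GrpSchLib.isReduced_of_smooth_field H.hom
  obtain ⟨e, he, hei⟩ := Groth.Agent.Deform.ObsOpen.exists_indicator i
  refine Groth.Agent.Deform.ObsExt.extends_of_observable i (fun g hg => ?_) σ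
  have hinv : AGF.IsRTransInv i e := rTransInv_of_pts i e fun x y => by
    rcases IsIdempotentElem.iff_eq_zero_or_one.1 (he.map (fn (x * (y ≫ i)))) with h | h <;>
      rcases IsIdempotentElem.iff_eq_zero_or_one.1 (he.map (fn x)) with h' | h' <;> rw [h, h']
    · obtain ⟨z, hz⟩ := (hei x).1 h'
      exact absurd (h.symm.trans ((hei _).2 ⟨z * y, by rw [MonObj.mul_comp, hz]⟩)) zero_ne_one
    · obtain ⟨z, hz⟩ := (hei _).1 h
      exact absurd (h'.symm.trans ((hei _).2 ⟨z * y⁻¹, by rw [MonObj.mul_comp, hz, GrpObj.inv_comp, mul_inv_cancel_right]⟩)) zero_ne_one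
  have h := eval_of_rTransInv g e (hg e hinv) (1 : VecGrp.pt k k ⟶ G) (𝟙 _)
  rw [Category.id_comp, _root_.one_mul, (hei 1).2 ⟨1, MonObj.one_comp i⟩] at h
  exact (hei g).1 h

end Groth.Agent.S11193
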