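import Groth.Statements.S11195
import Groth.Agent.Deform.ObsExt

set_option autoImplicit false
universe u
open CategoryTheory MonoidalCategory CartesianMonoidalCategory MonObj GrpObj AlgebraicGeometry
open scoped TensorProduct
open AGF

namespace Groth.Agent.S11195
attribute [local instance] CategoryTheory.Hom.monoid CategoryTheory.Hom.group
set_option linter.style.haveILetI false
set_option maxHeartbeats 1000000
open Groth.Agent.Deform.GModStable Groth.Agent.Deform.RTrans Groth.Agent.Deform.ObsVanish Groth.Agent.Deform.ObsSemi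
attribute [local instance] Groth.Agent.Deform.GModStable.algΓ
/-- Let k be an algebraically closed field, G a linear algebraic group over k, K a closed subgroup of G
and H a closed subgroup of K (j : K → G, i : H → K smooth closed subgroup schemes). When H is
observable in K, and K in G, H is also observable in G. -/
theorem result (k : Type u) [Field k] [IsAlgClosed k]
    (G : Over (Spec (CommRingCat.of k))) [GrpObj G] [IsAffine G.left] [Smooth G.hom]
    (K : Over (Spec (CommRingCat.of k))) [GrpObj K] [Smooth K.hom] (j : K ⟶ G) [IsMonHom j] [IsClosedImmersion j.left]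
    (H : Over (Spec (CommRingCat.of k))) [GrpObj H] [Smooth H.hom] (i : H ⟶ K) [IsMonHom i] [IsClosedImmersion i.left]
    (hH : AGF.IsObservableIn k i) (hK : AGF.IsObservableIn k j) :
    AGF.IsObservableIn k (i ≫ j) := by
  haveI : IsAffine K.left := isAffine_of_isAffineHom j.left
  haveI : IsAffine H.left := isAffine_of_isAffineHom i.left
  haveI : IsReduced G.left := Groth.Agent.GrpSchLib.isReduced_of_smooth_field G.hom
  haveI : IsReduced K.left := Groth.Agent.GrpSchLib.isReduced_of_smooth_field K.hom
  haveI : IsReduced H.left := Groth.Agent.GrpSchLib.isReduced_of_smooth_field H.hom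
  haveI : IsClosedImmersion (i ≫ j).left := by rw [Over.comp_left]; infer_instance
  obtain ⟨V, _, _, _, ρ, v, hv, hst, χ, hχ⟩ := Groth.Agent.Deform.ObsLine.exists_line (i ≫ j)
  let ρK : VecGrp.GMod K V :=
    { ρ := fun B _ _ =>
        { toFun := fun y => ρ.ρ B (y ≫ j)
          map_one' := by rw [MonObj.one_comp, map_one]
          map_mul' := fun y y' => by rw [MonObj.mul_comp, map_mul] }
      naturality := fun {B B'} _ _ _ _ a y x => by
        show _ = ρ.ρ B' ((VecGrp.ptMap a ≫ y) ≫ j) _
        rw [Category.assoc]
        exact ρ.naturality a (y ≫ j) x }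
  obtain ⟨N, _, _, _, σ, w, hw, hσ⟩ := exists_inverse i hH χ ρK hv (fun B _ _ y => by
    show ρ.ρ B ((y ≫ i) ≫ j) _ = _
    rw [Category.assoc]
    exact hχ B y)
  obtain ⟨W, _, _, _, σW, ψ, hψ, heq⟩ := Groth.Agent.Deform.ObsExt.extends_of_observable j hK σ
  refine observable_of_line (i ≫ j) ρ hv χ hχ σW (w := ψ w) (fun h => hw (hψ (h.trans (map_zero ψ).symm))) ?_
    fun g ⟨a, _, ha⟩ => hst g ⟨a, ha⟩
  intro B _ _ y
  have h := heq B (y ≫ i) ((1 : B) ⊗ₜ[k] w)
  rw [hσ, map_smul, LinearMap.baseChange_tmul, Category.assoc] at h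
  exact h.symm

end Groth.Agent.S11195
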