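import Groth.Statements.S11196
import Groth.Agent.Deform.ObsSolvable
import Groth.Agent.GrpSchLib.IdentityComp
import Mathlib.AlgebraicGeometry.Morphisms.FlatMono

set_option autoImplicit false
universe u
open CategoryTheory MonoidalCategory CartesianMonoidalCategory MonObj GrpObj AlgebraicGeometry
open scoped TensorProduct
open AGF

namespace Groth.Agent.S11196
attribute [local instance] CategoryTheory.Hom.monoid CategoryTheory.Hom.group
set_option linter.style.haveILetI false
set_option maxHeartbeats 1000000
open Groth.Agent.Deform Groth.Agent.GrpSchLib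

theorem exists_open_connected {k : Type u} [Field k] [IsAlgClosed k] (G : Over (Spec (CommRingCat.of k))) [GrpObj G]
    [LocallyOfFiniteType G.hom] : ∃ (G₀ : Over (Spec (CommRingCat.of k))) (_ : GrpObj G₀) (j : G₀ ⟶ G) (_ : IsMonHom j),
      IsOpenImmersion j.left ∧ ConnectedSpace G₀.left ∧
        Set.range j.left = connectedComponent (η[G].left (IsLocalRing.closedPoint k)) := by
  obtain ⟨G₀, g₀, j, hj, hcl, hfl, hr, -, -⟩ := exists_identityComponent (G := G)
  haveI : IsLocallyNoetherian G.left := LocallyOfFiniteType.isLocallyNoetherian G.hom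
  haveI : LocallyOfFinitePresentation j.left := inferInstance
  haveI : Mono j.left := inferInstance
  refine ⟨G₀, g₀, j, hj, IsOpenImmersion.of_flat_of_mono j.left, ?_, hr⟩
  refine connectedSpace_iff_univ.2 ⟨?_, ?_⟩
  · obtain ⟨x, hx⟩ := hr.ge mem_connectedComponent
    exact ⟨x, trivial⟩
  · rw [← j.left.isClosedEmbedding.isInducing.isPreconnected_image, Set.image_univ, hr]
    exact isPreconnected_connectedComponent

theorem isSolvableGrp_of_mono {k : Type u} [Field k] {G G₀ : Over (Spec (CommRingCat.of k))} [GrpObj G] [GrpObj G₀]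
    (j : G₀ ⟶ G) [IsMonHom j] [Mono j] (hs : Red.IsSolvableGrp G) : Red.IsSolvableGrp G₀ := by
  obtain ⟨n, hn⟩ := hs
  refine ⟨n, fun X => ?_⟩
  let φ : (X ⟶ G₀) →* (X ⟶ G) :=
    { toFun := fun x => x ≫ j, map_one' := MonObj.one_comp j, map_mul' := fun x y => MonObj.mul_comp x y j }
  have h := map_derivedSeries_le_derivedSeries φ n
  rw [hn X, le_bot_iff, Subgroup.map_eq_bot_iff_of_injective _ (fun x y hxy => (cancel_mono j).1 hxy)] at h
  exact h
/-- Let k be an algebraically closed field, G a linear algebraic group over k (an affine smooth group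
scheme over k) and H a closed subgroup of G (a smooth closed subgroup scheme, i : H → G), with G
solvable. Then H is observable in G. -/
theorem result (k : Type u) [Field k] [IsAlgClosed k]
    (G : Over (Spec (CommRingCat.of k))) [GrpObj G] [IsAffine G.left] [Smooth G.hom]
    (H : Over (Spec (CommRingCat.of k))) [GrpObj H] [Smooth H.hom] (i : H ⟶ G) [IsMonHom i]
    [IsClosedImmersion i.left]
    (hs : Red.IsSolvableGrp G) :
    AGF.IsObservableIn k i := by
  haveI : IsAffine H.left := isAffine_of_isAffineHom i.left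
  obtain ⟨G₀, _, jG, _, _, _, hrG⟩ := exists_open_connected G
  obtain ⟨H₀, _, jH, _, _, _, hrH⟩ := exists_open_connected H
  have hsub : Set.range (jH ≫ i).left ⊆ Set.range jG.left := by
    have h1 : _root_.IsPreconnected (Set.range (jH ≫ i).left) := isPreconnected_range (jH ≫ i).left.continuous
    rw [hrG]
    refine h1.subset_connectedComponent ⟨η[H₀].left (IsLocalRing.closedPoint k), ?_⟩
    rw [← Scheme.Hom.comp_apply, ← Over.comp_left, IsMonHom.one_hom (jH ≫ i)]
  haveI : Mono jG := (Over.forget _).mono_of_mono_map (inferInstanceAs (Mono jG.left))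
  let i₀ : H₀ ⟶ G₀ := Over.homMk (IsOpenImmersion.lift jG.left (jH ≫ i).left hsub) (by
    rw [← Over.w jG, ← Category.assoc, IsOpenImmersion.lift_fac, Over.w (jH ≫ i)])
  have hc : i₀ ≫ jG = jH ≫ i := Over.OverMorphism.ext (IsOpenImmersion.lift_fac _ _ _)
  haveI : IsMonHom i₀ :=
    { one_hom := by rw [← cancel_mono jG, Category.assoc, hc, IsMonHom.one_hom (jH ≫ i), IsMonHom.one_hom jG]
      mul_hom := by
        rw [← cancel_mono jG, Category.assoc, Category.assoc, hc, IsMonHom.mul_hom jG, IsMonHom.mul_hom (jH ≫ i),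
          ← Category.assoc, tensorHom_comp_tensorHom, hc] }
  haveI := Groth.Agent.Deform.ObsOpen.isClosedImmersion_of_open jG
  haveI := Groth.Agent.Deform.ObsOpen.isClosedImmersion_of_open jH
  haveI := Groth.Agent.Deform.ObsOpen.isClosedImmersion_restrict i jG jH i₀ hc
  haveI := Groth.Agent.Deform.ObsOpen.smooth_of_open jG
  haveI := Groth.Agent.Deform.ObsOpen.smooth_of_open jH
  haveI : IsAffine G₀.left := isAffine_of_isAffineHom jG.left
  exact Groth.Agent.Deform.ObsOpen.bwd i jG jH i₀ hc
    (Groth.Agent.Deform.ObsSolvable.observable_of_solvable_connected i₀ (isSolvableGrp_of_mono jG hs))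

end Groth.Agent.S11196
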