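import Groth.Statements.S11200
import Groth.Agent.Deform.Observ
import Groth.Agent.GrpSchLib.SepPoints
import Groth.Agent.GrpSchLib.AffineHopf
import Groth.Agent.GrpSchLib.CentralGm
import Groth.Agent.ComodLib.Chevalley
import Groth.Agent.S6094

set_option autoImplicit false
universe u
open CategoryTheory MonoidalCategory CartesianMonoidalCategory MonObj GrpObj AlgebraicGeometry
open scoped TensorProduct
open AGF

namespace Groth.Agent.S11200
attribute [local instance] CategoryTheory.Hom.monoid CategoryTheory.Hom.group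
set_option backward.isDefEq.respectTransparency false
set_option linter.style.haveILetI false
set_option maxHeartbeats 1000000
open Groth.Agent.GrpSchLib.AffineHopf in
open WithConv Bialgebra Coalgebra in
/-- Let k be an algebraically closed field, G a linear algebraic group over k (an affine smooth group
scheme over k) and H a closed subgroup of G (a smooth closed subgroup scheme, i : H → G). If H has
no non-trivial character (every homomorphism from H to the multiplicative group is trivial), then H
is observable in G. -/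
theorem result (k : Type u) [Field k] [IsAlgClosed k]
    (G : Over (Spec (CommRingCat.of k))) [GrpObj G] [IsAffine G.left] [Smooth G.hom]
    (H : Over (Spec (CommRingCat.of k))) [GrpObj H] [Smooth H.hom] (i : H ⟶ G) [IsMonHom i]
    [IsClosedImmersion i.left]
    (hχ : ∀ (χ : H ⟶ Red.Gm (Spec (CommRingCat.of k))), IsMonHom χ → χ = 1) :
    AGF.IsObservableIn k i := by
  haveI : IsAffine H.left := isAffine_of_isAffineHom i.left
  haveI : IsReduced G.left := Groth.Agent.GrpSchLib.isReduced_of_smooth_field G.hom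
  haveI : IsReduced H.left := Groth.Agent.GrpSchLib.isReduced_of_smooth_field H.hom
  obtain ⟨A, _, _, ⟨eG⟩⟩ := exists_hopf G
  obtain ⟨B, _, _, ⟨eH⟩⟩ := exists_hopf H
  obtain ⟨eD⟩ := nonempty_DS_iso k ℤ
  let εH : sp k B ≅ H := (Grp.forget _).mapIso eH
  let εG : sp k A ≅ G := (Grp.forget _).mapIso eG
  haveI : IsIso εH.hom.left := ((Over.forget _).mapIso εH).isIso_hom
  haveI : IsIso εG.inv.left := ((Over.forget _).mapIso εG).isIso_inv
  haveI : IsIso εG.hom.left := ((Over.forget _).mapIso εG).isIso_hom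
  haveI : IsMonHom εH.hom := inferInstanceAs (IsMonHom eH.hom.hom.hom)
  haveI : IsMonHom εH.inv := inferInstanceAs (IsMonHom eH.inv.hom.hom)
  haveI : IsMonHom εG.inv := inferInstanceAs (IsMonHom eG.inv.hom.hom)
  obtain ⟨π, hπ⟩ := exists_bialgHom (εH.hom ≫ i ≫ εG.inv)
  have hcl : IsClosedImmersion (Spec.map (CommRingCat.ofHom (π : A →ₐ[k] B).toRingHom)) := by
    have e : Spec.map (CommRingCat.ofHom (π : A →ₐ[k] B).toRingHom) =
        εH.hom.left ≫ i.left ≫ εG.inv.left := congrArg CommaMorphism.left hπ.symm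
    rw [e]
    exact (MorphismProperty.cancel_left_of_respectsIso @IsClosedImmersion _ _).2
      ((MorphismProperty.cancel_right_of_respectsIso @IsClosedImmersion i.left _).2 ‹_›)
  have hs : Function.Surjective π := by
    intro y
    obtain ⟨x, hx⟩ := (IsClosedImmersion.isAffine_surjective_of_isAffine
      (f := Spec.map (CommRingCat.ofHom (π : A →ₐ[k] B).toRingHom))).2 ((Scheme.ΓSpecIso (CommRingCat.of B)).inv y)
    refine ⟨(Scheme.ΓSpecIso (CommRingCat.of A)).hom x, ?_⟩
    show (CommRingCat.ofHom (π : A →ₐ[k] B).toRingHom) ((Scheme.ΓSpecIso (CommRingCat.of A)).hom x) = y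
    rw [← CommRingCat.comp_apply, ← Scheme.ΓSpecIso_naturality, CommRingCat.comp_apply, hx,
      ← CommRingCat.comp_apply, Iso.inv_hom_id]
    rfl
  haveI : Algebra.FiniteType k A := by
    have hw : εG.hom.left ≫ G.hom = Spec.map (CommRingCat.ofHom (algebraMap k A)) := Over.w εG.hom
    haveI : LocallyOfFiniteType (Spec.map (CommRingCat.ofHom (algebraMap k A))) :=
      hw ▸ (MorphismProperty.cancel_left_of_respectsIso @LocallyOfFiniteType _ G.hom).2 inferInstance
    exact RingHom.finiteType_algebraMap.1 ((HasRingHomProperty.Spec_iff (P := @LocallyOfFiniteType)).1 this)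
  have hchar : ∀ χ : B, IsGroupLikeElem k χ → χ = 1 := by
    intro χ hg
    obtain ⟨f, hf⟩ := Groth.Agent.GrpSchLib.CentralGm.exists_character (k := k) hg
    have h1 := hχ (εH.inv ≫ spMap (f : MonoidAlgebra k (Multiplicative ℤ) →ₐ[k] B) ≫ eD.hom.hom.hom) inferInstance
    have h2 : spMap (f : MonoidAlgebra k (Multiplicative ℤ) →ₐ[k] B) = 1 := by
      have h3 := congrArg (fun t => εH.hom ≫ t ≫ eD.inv.hom.hom) h1
      have i1 : εH.hom ≫ εH.inv = 𝟙 _ := εH.hom_inv_id
      have i2 : eD.hom.hom.hom ≫ eD.inv.hom.hom = 𝟙 _ := congrArg (fun t => t.hom.hom) eD.hom_inv_id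
      simp only [MonObj.one_comp, MonObj.comp_one, Category.assoc, i2, Category.comp_id] at h3
      rw [← Category.assoc, i1, Category.id_comp] at h3
      exact h3
    have h4 : spMap (f : MonoidAlgebra k (Multiplicative ℤ) →ₐ[k] B) * spMap (f : MonoidAlgebra k (Multiplicative ℤ) →ₐ[k] B) = spMap (f : MonoidAlgebra k (Multiplicative ℤ) →ₐ[k] B) := by
      rw [h2, _root_.one_mul]
    rw [spMap_mul] at h4
    have h5 := congr($(spMap_injective h4) (MonoidAlgebra.single (Multiplicative.ofAdd (1 : ℤ)) (1 : k)))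
    rw [AlgHom.convMul_apply, MonoidAlgebra.comul_single] at h5
    simp at h5
    rw [← hf]
    have hu : IsUnit (f (MonoidAlgebra.single (Multiplicative.ofAdd (1 : ℤ)) (1 : k))) :=
      IsUnit.map f ((Group.isUnit (Multiplicative.ofAdd (1 : ℤ))).map (MonoidAlgebra.of k (Multiplicative ℤ)))
    exact hu.mul_left_cancel (h5.trans (_root_.mul_one _).symm)
  obtain ⟨V, _, _, _, _, v, -, hrep, htriv⟩ := Groth.Agent.ComodLib.exists_line_stabilizer π hs (fun χ hg hV => by
    obtain rfl := hchar χ hg
    exact ⟨1, one_pos, 1, IsGroupLikeElem.one, by simp, hV⟩)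
  obtain ⟨m, hm, -⟩ := (Groth.Agent.S6094.result k A V).1
  let ρ : VecGrp.GMod G V :=
    { ρ := fun R _ _ =>
        { toFun := fun g => m.ρ R (g ≫ εG.inv)
          map_one' := by rw [MonObj.one_comp, map_one]
          map_mul' := fun g g' => by rw [MonObj.mul_comp, map_mul] }
      naturality := fun {R R'} _ _ _ _ φ g x => by
        show _ = m.ρ R' ((VecGrp.ptMap φ ≫ g) ≫ εG.inv) _
        rw [Category.assoc]
        exact m.naturality φ (g ≫ εG.inv) x }
  refine Groth.Agent.Deform.Observ.observable_of_stab i ρ v fun g => ?_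
  let a : A →ₐ[k] k := (Spec.mapMulEquiv.symm (g ≫ εG.inv)).ofConv
  have hga : g ≫ εG.inv = spMap a := (Spec.mapMulEquiv.apply_symm_apply _).symm
  have hfix : ρ.ρ k g ((1 : k) ⊗ₜ[k] v) = (1 : k) ⊗ₜ[k] v ↔
      LinearMap.lTensor V a.toLinearMap (HopfRep.Comod.coact (k := k) (A := A) v) = v ⊗ₜ[k] (1 : k) := by
    show m.ρ k (g ≫ εG.inv) ((1 : k) ⊗ₜ[k] v) = _ ↔ _
    rw [hm, ← (TensorProduct.comm k V k).injective.eq_iff (b := v ⊗ₜ[k] (1 : k)), TensorProduct.comm_tmul]
  rw [hfix]
  constructor
  · intro hv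
    have hk := (hrep k a).2 ⟨1, hv⟩
    have hle : ∀ x y : A, π x = π y → a x = a y := fun x y h => sub_eq_zero.1 (by
      rw [← map_sub]; exact hk _ (by show π (x - y) = 0; rw [map_sub, h, sub_self]))
    let b : B →ₐ[k] k := AlgHom.ofLinearMap
      { toFun := fun y => a (Function.surjInv hs y)
        map_add' := fun y y' => (hle _ (Function.surjInv hs y + Function.surjInv hs y')
          (by simp [Function.surjInv_eq])).trans (map_add a _ _)
        map_smul' := fun c y => (hle _ (c • Function.surjInv hs y)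
          (by simp [Function.surjInv_eq])).trans (map_smul a c _) }
      ((hle _ 1 (by simp [Function.surjInv_eq])).trans (map_one a))
      (fun y y' => (hle _ (Function.surjInv hs y * Function.surjInv hs y')
        (by simp [Function.surjInv_eq])).trans (map_mul a _ _))
    have hb : b.comp (π : A →ₐ[k] B) = a := AlgHom.ext fun x => hle _ x (Function.surjInv_eq hs _)
    refine ⟨spMap b ≫ εH.hom, ?_⟩
    have i2 : εG.inv ≫ εG.hom = 𝟙 _ := εG.inv_hom_id
    have h3 : spMap b ≫ εH.hom ≫ i ≫ εG.inv = spMap a := by rw [hπ, spMap_comp, hb]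
    have h4 := congrArg (· ≫ εG.hom) (h3.trans hga.symm)
    simp only [Category.assoc, i2, Category.comp_id] at h4
    rw [Category.assoc]
    exact h4
  · rintro ⟨h, rfl⟩
    obtain ⟨b, hb⟩ := exists_eq_spMap (h ≫ εH.inv)
    have i1 : εH.inv ≫ εH.hom = 𝟙 _ := εH.inv_hom_id
    have ha : a = b.comp (π : A →ₐ[k] B) := by
      apply spMap_injective
      rw [← hga, ← spMap_comp, ← hb, ← hπ, Category.assoc, Category.assoc, reassoc_of% i1]
    rw [ha, AlgHom.comp_toLinearMap, LinearMap.lTensor_comp_apply]
    refine (congrArg _ htriv).trans ?_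
    simp

end Groth.Agent.S11200
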