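import Groth.Statements.S11201
import Groth.Agent.Deform.ObsRadObs
import Groth.Agent.S11196
import Groth.Agent.S11195
import Groth.Agent.S11200


set_option autoImplicit false
universe u
open CategoryTheory MonoidalCategory CartesianMonoidalCategory MonObj GrpObj AlgebraicGeometry
open scoped TensorProduct
open AGF

namespace Groth.Agent.S11201
attribute [local instance] CategoryTheory.Hom.monoid CategoryTheory.Hom.group
set_option linter.style.haveILetI false
set_option maxHeartbeats 1000000
open Groth.Agent.Deform Groth.Agent.GrpSchLib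
open Chev (Pt)

theorem isSolvable_pts {k : Type u} [Field k] {R : Over (Spec (CommRingCat.of k))} [GrpObj R]
    (h : Red.IsSolvableGrp R) : Group.IsSolvable (Pt R) := by
  obtain ⟨n, hn⟩ := h
  exact ⟨⟨n, hn _⟩⟩

/-- Let k be an algebraically closed field, G a linear algebraic group over k (an affine smooth group
scheme over k) and H a closed subgroup of G (a smooth closed subgroup scheme, i : H → G). Let R ⊆ H
be the radical of H: a smooth connected solvable closed normal subgroup of H through which every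
smooth connected solvable closed normal subgroup of H factors. Then H is observable in G if and only
if R is observable in G. -/
theorem result (k : Type u) [Field k] [IsAlgClosed k]
    (G : Over (Spec (CommRingCat.of k))) [GrpObj G] [IsAffine G.left] [Smooth G.hom]
    (H : Over (Spec (CommRingCat.of k))) [GrpObj H] [Smooth H.hom] (i : H ⟶ G) [IsMonHom i]
    [IsClosedImmersion i.left]
    (R : Over (Spec (CommRingCat.of k))) [GrpObj R] [Smooth R.hom] [ConnectedSpace R.left] (r : R ⟶ H) [IsMonHom r]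
    [IsClosedImmersion r.left] (hn : AlgGrp.IsNormalHom r) (hsol : Red.IsSolvableGrp R)
    (hmax : ∀ (R' : Over (Spec (CommRingCat.of k))) [GrpObj R'] (r' : R' ⟶ H) [IsMonHom r'], IsClosedImmersion r'.left → Smooth R'.hom →
      ConnectedSpace R'.left → AlgGrp.IsNormalHom r' → Red.IsSolvableGrp R' → ∃ f : R' ⟶ R, f ≫ r = r') :
    AGF.IsObservableIn k i ↔ AGF.IsObservableIn k (r ≫ i) := by
  classical
  haveI : IsAffine H.left := isAffine_of_isAffineHom i.left
  haveI : IsSeparated H.hom := GrpSchLib.AntiAffine.isSeparated_grp H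
  haveI : IsSeparated G.hom := GrpSchLib.AntiAffine.isSeparated_grp G
  obtain ⟨G₀, _, jG, _, _, _, hrG⟩ := S11196.exists_open_connected G
  obtain ⟨H₀, _, jH, _, _, _, hrH⟩ := S11196.exists_open_connected H
  have hsub : Set.range (jH ≫ i).left ⊆ Set.range jG.left := by
    have h1 : _root_.IsPreconnected (Set.range (jH ≫ i).left) := isPreconnected_range (jH ≫ i).left.continuous
    rw [hrG]
    refine h1.subset_connectedComponent ⟨η[H₀].left (IsLocalRing.closedPoint k), ?_⟩
    rw [← Scheme.Hom.comp_apply, ← Over.comp_left, IsMonHom.one_hom (jH ≫ i)]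
  haveI : Mono jG := (Over.forget _).mono_of_mono_map (inferInstanceAs (Mono jG.left))
  haveI : Mono jH := (Over.forget _).mono_of_mono_map (inferInstanceAs (Mono jH.left))
  let i₀ : H₀ ⟶ G₀ := Over.homMk (IsOpenImmersion.lift jG.left (jH ≫ i).left hsub) (by
    rw [← Over.w jG, ← Category.assoc, IsOpenImmersion.lift_fac, Over.w (jH ≫ i)])
  have hc : i₀ ≫ jG = jH ≫ i := Over.OverMorphism.ext (IsOpenImmersion.lift_fac _ _ _)
  haveI : IsMonHom i₀ :=
    { one_hom := by rw [← cancel_mono jG, Category.assoc, hc, IsMonHom.one_hom (jH ≫ i), IsMonHom.one_hom jG]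
      mul_hom := by
        rw [← cancel_mono jG, Category.assoc, Category.assoc, hc, IsMonHom.mul_hom jG, IsMonHom.mul_hom (jH ≫ i),
          ← Category.assoc, tensorHom_comp_tensorHom, hc] }
  haveI := ObsOpen.isClosedImmersion_of_open jG
  haveI := ObsOpen.isClosedImmersion_of_open jH
  haveI := ObsOpen.isClosedImmersion_restrict i jG jH i₀ hc
  haveI := ObsOpen.smooth_of_open jG
  haveI := ObsOpen.smooth_of_open jH
  haveI : IsAffine G₀.left := isAffine_of_isAffineHom jG.left
  haveI : IsAffine H₀.left := isAffine_of_isAffineHom jH.left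
  have hjHn : AlgGrp.IsNormalHom jH := ObsRadObs.isNormalHom_component jH hrH
  haveI : Group.IsSolvable (Pt R) := isSolvable_pts hsol
  haveI : IsAffine R.left := isAffine_of_isAffineHom r.left
  have hsubR : Set.range r.left ⊆ Set.range jH.left := by
    rw [hrH]
    refine (isPreconnected_range r.left.continuous).subset_connectedComponent
      ⟨η[R].left (IsLocalRing.closedPoint k), ?_⟩
    rw [← Scheme.Hom.comp_apply, ← Over.comp_left, IsMonHom.one_hom r]
  let r₀ : R ⟶ H₀ := Over.homMk (IsOpenImmersion.lift jH.left r.left hsubR) (by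
    rw [← Over.w jH, ← Category.assoc, IsOpenImmersion.lift_fac, Over.w r])
  have hr₀ : r₀ ≫ jH = r := Over.OverMorphism.ext (IsOpenImmersion.lift_fac _ _ _)
  haveI : IsMonHom r₀ :=
    { one_hom := by rw [← cancel_mono jH, Category.assoc, hr₀, IsMonHom.one_hom r, IsMonHom.one_hom jH]
      mul_hom := by
        rw [← cancel_mono jH, Category.assoc, Category.assoc, hr₀, IsMonHom.mul_hom jH, IsMonHom.mul_hom r,
          ← Category.assoc, tensorHom_comp_tensorHom, hr₀] }
  haveI : IsClosedImmersion r₀.left := by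
    haveI : IsClosedImmersion (r₀.left ≫ jH.left) := by rw [← Over.comp_left, hr₀]; infer_instance
    exact IsClosedImmersion.of_comp r₀.left jH.left
  have hn₀ : AlgGrp.IsNormalHom r₀ := by
    intro X g x
    obtain ⟨y, hy⟩ := hn X (g ≫ jH) x
    refine ⟨y, (cancel_mono jH).1 ?_⟩
    rw [MonObj.mul_comp, MonObj.mul_comp, GrpObj.inv_comp, Category.assoc, Category.assoc, hr₀, ← hy]
  obtain ⟨J, gJ, j, hj, hjc, hJs, hJc, hJsol, hjn, hchar, huniv⟩ := Luna.exists_radical H₀
  haveI := hj; haveI := hjc; haveI := hJs; haveI := hJc; haveI := hJsol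
  haveI : IsAffine J.left := isAffine_of_isAffineHom j.left
  haveI : IsAffineHom J.hom := isAffineHom_of_isAffine _
  haveI : QuasiCompact J.hom := inferInstance
  haveI : IsClosedImmersion (j ≫ jH).left := inferInstanceAs (IsClosedImmersion (j.left ≫ jH.left))
  obtain ⟨fJ, hfJ⟩ := hmax J (j ≫ jH) inferInstance hJs hJc (Luna.isNormalHom_of_char jH hjHn j hchar)
    (Borel.isSolvableGrp_of_pts J)
  have huR : ∀ (U : Over (Spec (CommRingCat.of k))) [GrpObj U] [IsAffine U.left] [Smooth U.hom] [ConnectedSpace U.left]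
      [Group.IsSolvable (Pt U)] (f : U ⟶ H₀) [IsMonHom f],
      (∀ (g : Pt H₀) (x : Pt U), ∃ x' : Pt U, x' ≫ f = g * (x ≫ f) * g⁻¹) → ∃ f' : U ⟶ R, f' ≫ r₀ = f := by
    intro U _ _ _ _ _ f _ hconj
    obtain ⟨f', hf'⟩ := huniv U f hconj
    refine ⟨f' ≫ fJ, (cancel_mono jH).1 ?_⟩
    rw [Category.assoc, Category.assoc, hr₀, hfJ, ← Category.assoc, hf']
  have hc' : (r₀ ≫ i₀) ≫ jG = 𝟙 R ≫ (r ≫ i) := by
    rw [Category.id_comp, Category.assoc, hc, ← Category.assoc, hr₀]
  haveI : IsClosedImmersion (r ≫ i).left := inferInstanceAs (IsClosedImmersion (r.left ≫ i.left))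
  haveI : IsClosedImmersion (r₀ ≫ i₀).left := inferInstanceAs (IsClosedImmersion (r₀.left ≫ i₀.left))
  haveI : IsOpenImmersion (𝟙 R : R ⟶ R).left := inferInstanceAs (IsOpenImmersion (𝟙 R.left))
  constructor
  · intro h
    exact ObsOpen.bwd (r ≫ i) jG (𝟙 R) (r₀ ≫ i₀) hc'
      (S11195.result k G₀ H₀ i₀ R r₀ (ObsRadObs.observable_radical r₀ hn₀ huR) (ObsOpen.fwd i jG jH i₀ hc h))
  · intro h
    exact ObsOpen.bwd i jG jH i₀ hc
      (ObsRadObs.observable_of_radical i₀ r₀ hn₀ huR (ObsOpen.fwd (r ≫ i) jG (𝟙 R) (r₀ ≫ i₀) hc' h))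

end Groth.Agent.S11201
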