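import Groth.Statements.S11202
import Groth.Agent.Deform.ObsRadObs
import Groth.Agent.S11196
import Groth.Agent.S11195
import Groth.Agent.S11200


set_option autoImplicit false
universe u
open CategoryTheory MonoidalCategory CartesianMonoidalCategory MonObj GrpObj AlgebraicGeometry
open scoped TensorProduct
open AGF

namespace Groth.Agent.S11202
attribute [local instance] CategoryTheory.Hom.monoid CategoryTheory.Hom.group
set_option linter.style.haveILetI false
set_option maxHeartbeats 1000000
open Groth.Agent.Deform Groth.Agent.GrpSchLib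
open Chev (Pt)

theorem isSolvable_pts {k : Type u} [Field k] {R : Over (Spec (CommRingCat.of k))} [GrpObj R]
    (h : Red.IsSolvableGrp R) : Group.IsSolvable (Pt R) := by
  obtain ⟨n, hn⟩ := h
  exact ⟨⟨n, hn _⟩⟩

/-- Let k be an algebraically closed field, G a linear algebraic group over k (an affine smooth group
scheme over k) and H a closed subgroup of G (a smooth closed subgroup scheme, i : H → G). If the
radical of H is unipotent — every smooth connected solvable closed normal subgroup of H contains no
non-trivial subtorus — then H is observable in G. -/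
theorem result (k : Type u) [Field k] [IsAlgClosed k]
    (G : Over (Spec (CommRingCat.of k))) [GrpObj G] [IsAffine G.left] [Smooth G.hom]
    (H : Over (Spec (CommRingCat.of k))) [GrpObj H] [Smooth H.hom] (i : H ⟶ G) [IsMonHom i]
    [IsClosedImmersion i.left]
    (hrad : ∀ (R : Over (Spec (CommRingCat.of k))) [GrpObj R] (r : R ⟶ H) [IsMonHom r], IsClosedImmersion r.left → Smooth R.hom →
      ConnectedSpace R.left → AlgGrp.IsNormalHom r → Red.IsSolvableGrp R → Red.HasNoSubtorus k R) :
    AGF.IsObservableIn k i := by
  classical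
  haveI : IsAffine H.left := isAffine_of_isAffineHom i.left
  haveI : IsSeparated H.hom := GrpSchLib.AntiAffine.isSeparated_grp H
  haveI : IsSeparated G.hom := GrpSchLib.AntiAffine.isSeparated_grp G
  obtain ⟨G₀, _, jG, _, _, _, hrG⟩ := S11196.exists_open_connected G
  obtain ⟨H₀, _, jH, _, _, _, hrH⟩ := S11196.exists_open_connected H
  have hsub : Set.range (jH ≫ i).left ⊆ Set.range jG.left := by
    have h1 : _root_.IsPreconnected (Set.range (jH ≫ i).left) := isPreconnected_range (jH ≫ i).left.continuous
    rw [hrG]
    refine h1.subset_connectedComponent ⟨η[H₀].left (IsLocalRing.closedPoint k), ?_⟩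
    rw [← Scheme.Hom.comp_apply, ← Over.comp_left, IsMonHom.one_hom (jH ≫ i)]
  haveI : Mono jG := (Over.forget _).mono_of_mono_map (inferInstanceAs (Mono jG.left))
  haveI : Mono jH := (Over.forget _).mono_of_mono_map (inferInstanceAs (Mono jH.left))
  let i₀ : H₀ ⟶ G₀ := Over.homMk (IsOpenImmersion.lift jG.left (jH ≫ i).left hsub) (by
    rw [← Over.w jG, ← Category.assoc, IsOpenImmersion.lift_fac, Over.w (jH ≫ i)])
  have hc : i₀ ≫ jG = jH ≫ i := Over.OverMorphism.ext (IsOpenImmersion.lift_fac _ _ _)
  haveI : IsMonHom i₀ :=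
    { one_hom := by rw [← cancel_mono jG, Category.assoc, hc, IsMonHom.one_hom (jH ≫ i), IsMonHom.one_hom jG]
      mul_hom := by
        rw [← cancel_mono jG, Category.assoc, Category.assoc, hc, IsMonHom.mul_hom jG, IsMonHom.mul_hom (jH ≫ i),
          ← Category.assoc, tensorHom_comp_tensorHom, hc] }
  haveI := ObsOpen.isClosedImmersion_of_open jG
  haveI := ObsOpen.isClosedImmersion_of_open jH
  haveI := ObsOpen.isClosedImmersion_restrict i jG jH i₀ hc
  haveI := ObsOpen.smooth_of_open jG
  haveI := ObsOpen.smooth_of_open jH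
  haveI : IsAffine G₀.left := isAffine_of_isAffineHom jG.left
  haveI : IsAffine H₀.left := isAffine_of_isAffineHom jH.left
  have hjHn : AlgGrp.IsNormalHom jH := ObsRadObs.isNormalHom_component jH hrH
  refine ObsOpen.bwd i jG jH i₀ hc (S11200.result k G₀ H₀ i₀ fun χ hχm => ?_)
  haveI := hχm
  refine ObsRadical.hom_gm_trivial (fun R _ r _ hrc hRs hRc _ hRsol hchar => ?_) χ
  haveI := hrc; haveI := hRs; haveI := hRc; haveI := hRsol
  haveI : IsAffine R.left := isAffine_of_isAffineHom r.left
  haveI : IsAffineHom R.hom := isAffineHom_of_isAffine _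
  haveI : QuasiCompact R.hom := inferInstance
  haveI : IsClosedImmersion (r ≫ jH).left := inferInstanceAs (IsClosedImmersion (r.left ≫ jH.left))
  exact hrad R (r ≫ jH) inferInstance hRs hRc (Luna.isNormalHom_of_char jH hjHn r hchar)
    (Borel.isSolvableGrp_of_pts R)

end Groth.Agent.S11202
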