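import Groth.Statements.S11211
import Groth.Agent.Weitz.Covariant
import Groth.Agent.Weitz.Jordan


set_option autoImplicit false
universe u
open CategoryTheory MonoidalCategory CartesianMonoidalCategory MonObj GrpObj AlgebraicGeometry
open scoped TensorProduct
open AGF

namespace Groth.Agent.S11211
open MvPolynomial

/-- Let k be an algebraically closed field of characteristic zero, n a natural number and M a nilpotent
n × n matrix over k; let δ be the k-derivation of the polynomial ring k[X₁, …, Xₙ] with δ(Xⱼ) = Σᵢ
Mᵢⱼ Xᵢ (the derivation of the linear action of the additive group on an n-dimensional module; its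
kernel is the ring of invariant polynomial functions). Assume finite generation of invariants of
reductive groups over k on finitely generated algebras (a standard result, carried as a hypothesis).
Then the kernel of δ is a finitely generated k-subalgebra. -/
theorem result (k : Type u) [Field k] [IsAlgClosed k] [CharZero k] (thmA : VecGrp.ReductiveInvariantsFG k)
    (n : ℕ) (M : Matrix (Fin n) (Fin n) k) (hM : IsNilpotent M) :
    ∃ S : Subalgebra k (MvPolynomial (Fin n) k), S.FG ∧
      ∀ f : MvPolynomial (Fin n) k, f ∈ S ↔
        MvPolynomial.mkDerivation k (fun j : Fin n => ∑ i : Fin n, M i j • (MvPolynomial.X i : MvPolynomial (Fin n) k)) f = 0 := by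
  classical
  obtain ⟨r, d, b, hb⟩ := Groth.Agent.Weitz.exists_chain_basis (Matrix.toLin' M) (hM.map (Matrix.toLinAlgEquiv' (R := k) (n := Fin n)) :)
  let σ := Σ i, Fin (d i)
  let T : Groth.Agent.Weitz.Triple k σ :=
    { wt := fun s => 2 * ((s.2 : ℕ) : ℤ) - ((d s.1 : ℕ) : ℤ) + 1
      e := mkDerivation k fun s : σ => if h : (s.2 : ℕ) + 1 < d s.1 then (X (⟨s.1, ⟨s.2 + 1, h⟩⟩ : σ) : MvPolynomial σ k) else 0
      f := mkDerivation k fun s : σ => if h : 0 < (s.2 : ℕ) then
        (((s.2 : ℕ) * (d s.1 - s.2) : ℕ) : k) • (X (⟨s.1, ⟨s.2 - 1, lt_of_le_of_lt (Nat.sub_le _ _) s.2.isLt⟩⟩ : σ) : MvPolynomial σ k) else 0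
      e_wt := by
        rintro ⟨i, j⟩
        rw [mkDerivation_X]
        split_ifs with h
        · convert! isWeightedHomogeneous_X k _ _ using 1
          simp
          ring
        · exact isWeightedHomogeneous_zero _ _ _
      f_wt := by
        rintro ⟨i, j⟩
        rw [mkDerivation_X]
        split_ifs with h
        · refine (weightedHomogeneousSubmodule k _ _).smul_mem _ ?_
          show IsWeightedHomogeneous _ _ _
          convert! isWeightedHomogeneous_X k _ _ using 1
          show _ = 2 * (((j : ℕ) - 1 : ℕ) : ℤ) - ((d i : ℕ) : ℤ) + 1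
          simp at h ⊢
          omega
        · exact isWeightedHomogeneous_zero _ _ _
      e_deg := by
        rintro ⟨i, j⟩
        rw [mkDerivation_X]
        split_ifs with h
        · exact isHomogeneous_X _ _
        · exact isHomogeneous_zero _ _ _
      f_deg := by
        rintro ⟨i, j⟩
        rw [mkDerivation_X]
        split_ifs with h
        · exact (homogeneousSubmodule σ k 1).smul_mem _ (isHomogeneous_X _ _)
        · exact isHomogeneous_zero _ _ _
      bracket := by
        rintro ⟨i, j, hj⟩
        simp only [mkDerivation_X]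
        by_cases h0 : 0 < j <;> by_cases h1 : j + 1 < d i
        · have h2 : j - 1 + 1 < d i := by omega
          simp only [h0, h1, h2, hj, dite_true, Derivation.map_smul, mkDerivation_X, Nat.succ_pos, Nat.add_sub_cancel,
            Nat.sub_add_cancel (show 1 ≤ j from h0)]
          rw [← sub_smul]
          congr 1
          push_cast [Nat.cast_sub hj.le, Nat.cast_sub h1.le]
          ring
        · have h2 : j - 1 + 1 < d i := by omega
          simp only [h0, h1, h2, hj, dite_true, dite_false, Derivation.map_smul, mkDerivation_X, map_zero, sub_zero,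
            Nat.sub_add_cancel (show 1 ≤ j from h0)]
          congr 1
          rw [show d i - j = 1 by omega, show d i = j + 1 by omega]
          push_cast
          ring
        · obtain rfl : j = 0 := by omega
          simp only [h0, h1, dite_true, dite_false, Derivation.map_smul, mkDerivation_X, Nat.succ_pos, map_zero,
            zero_sub, Nat.add_sub_cancel, Nat.zero_add, Nat.one_pos, Nat.one_mul, Nat.sub_self]
          rw [← neg_smul]
          congr 1
          push_cast [Nat.cast_sub (show 1 ≤ d i by omega)]
          ring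
        · obtain rfl : j = 0 := by omega
          simp only [h0, h1, dite_false, map_zero, sub_zero]
          rw [show ((2 * ((0 : ℕ) : ℤ) - (d i : ℤ) + 1 : ℤ)) = 0 by omega]
          simp }
  let L : (Fin n → k) →ₗ[k] MvPolynomial (Fin n) k := Fintype.linearCombination k fun i => X i
  let φ : MvPolynomial σ k →ₐ[k] MvPolynomial (Fin n) k := aeval fun s => L (b s)
  let ψ : MvPolynomial (Fin n) k →ₐ[k] MvPolynomial σ k := aeval fun i => b.constr k (fun s => (X s : MvPolynomial σ k)) (Pi.single i 1)
  have hψL : ∀ v, ψ (L v) = b.constr k (fun s => (X s : MvPolynomial σ k)) v := by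
    refine fun v => LinearMap.congr_fun ((Pi.basisFun k (Fin n)).ext (f₁ := ψ.toLinearMap ∘ₗ L) fun i => ?_) v
    simp [L, ψ, Fintype.linearCombination_apply_single]
  have hφc : ∀ v, φ (b.constr k (fun s => (X s : MvPolynomial σ k)) v) = L v := by
    refine fun v => LinearMap.congr_fun (b.ext (f₁ := φ.toLinearMap ∘ₗ b.constr k (fun s => (X s : MvPolynomial σ k))) fun s => ?_) v
    simp [φ, Module.Basis.constr_basis]
  have h1 : φ.comp ψ = AlgHom.id k _ := MvPolynomial.algHom_ext fun i => by
    rw [AlgHom.comp_apply, show ψ (X i) = b.constr k (fun s => (X s : MvPolynomial σ k)) (Pi.single i 1) from aeval_X _ i,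
      hφc]
    simp [L, Fintype.linearCombination_apply_single]
  have h2 : ψ.comp φ = AlgHom.id k _ := MvPolynomial.algHom_ext fun s => by
    rw [AlgHom.comp_apply, show φ (X s) = L (b s) from aeval_X _ s, hψL, Module.Basis.constr_basis, AlgHom.id_apply]
  let δ := MvPolynomial.mkDerivation k (fun j : Fin n => ∑ i : Fin n, M i j • (MvPolynomial.X i : MvPolynomial (Fin n) k))
  have hδL : ∀ v, δ (L v) = L (Matrix.toLin' M v) := by
    refine fun v => LinearMap.congr_fun ((Pi.basisFun k (Fin n)).ext (f₁ := δ.toLinearMap ∘ₗ L)
      (f₂ := L ∘ₗ Matrix.toLin' M) fun j => ?_) v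
    simp [δ, L, Fintype.linearCombination_apply]
  have hδ : ∀ p, δ (φ p) = φ (T.e p) := by
    intro p
    induction p using MvPolynomial.induction_on with
    | C a =>
      rw [derivation_C, map_zero, show φ (MvPolynomial.C a) = MvPolynomial.C a from aeval_C _ a, derivation_C]
    | add p q hp hq => simp only [map_add, hp, hq]
    | mul_X p s hp =>
      simp only [map_mul, Derivation.leibniz, smul_eq_mul, map_add, hp]
      rw [show δ (φ (X s)) = φ (T.e (X s)) by
        rw [show φ (X s) = L (b s) from aeval_X _ s, hδL, hb s.1 s.2]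
        simp only [T, mkDerivation_X]
        split_ifs with h
        · exact (aeval_X (fun t : σ => L (b t)) _).symm
        · rw [map_zero, map_zero]]
  refine ⟨T.kerE.map φ, T.kerE_fg.map φ, fun p => ⟨?_, fun hp => ?_⟩⟩
  · rintro ⟨q, (hq : T.e q = 0), rfl⟩
    show δ (φ q) = 0
    rw [hδ, hq, map_zero]
  · refine ⟨ψ p, ?_, AlgHom.congr_fun h1 p⟩
    show T.e (ψ p) = 0
    apply Function.LeftInverse.injective (g := ψ) (f := φ) (AlgHom.congr_fun h2)
    rw [← hδ, map_zero]
    show δ (φ.comp ψ p) = 0
    rw [h1]
    exact hp

end Groth.Agent.S11211
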