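import Groth.Statements.S11212
import Groth.Agent.S11196
import Groth.Agent.Deform.ObsTorus
import Groth.Agent.Deform.ObsRadObs
import Groth.Agent.Deform.Luna.RadTorus
import Groth.Agent.Deform.ObsOpen

set_option autoImplicit false
universe u
open CategoryTheory MonoidalCategory CartesianMonoidalCategory MonObj GrpObj AlgebraicGeometry
open scoped TensorProduct
open AGF

namespace Groth.Agent.S11212
attribute [local instance] CategoryTheory.Hom.monoid CategoryTheory.Hom.group
set_option linter.style.haveILetI false
set_option maxHeartbeats 1000000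
open Groth.Agent.Deform
open Chev (Pt)

/-- Let k be an algebraically closed field, G a linear algebraic group over k (an affine smooth group
scheme over k) and H a closed subgroup of G (a smooth closed subgroup scheme, i : H → G), with the
identity component of H reductive. Assume the following standard results of geometric invariant
theory for groups with reductive identity component, carried as hypotheses: finite generation of
invariants on finitely generated algebras, and that for such a group acting on an affine variety the
quotient map sends disjoint closed invariant subsets to disjoint sets. Then H is observable in G. -/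
theorem result (k : Type u) [Field k] [IsAlgClosed k]
    (G : Over (Spec (CommRingCat.of k))) [GrpObj G] [IsAffine G.left] [Smooth G.hom]
    (H : Over (Spec (CommRingCat.of k))) [GrpObj H] [Smooth H.hom] (i : H ⟶ G) [IsMonHom i]
    [IsClosedImmersion i.left]
    (hH : VecGrp.IsReductiveGrp k H) (thmA : VecGrp.ReductiveInvariantsFG k)
    (thmAbiv : AGF.ReductiveQuotSeparates k) :
    AGF.IsObservableIn k i := by
  classical
  obtain ⟨hHa, hHs, H₀, gH, jH, hjHm, hjHo, hred⟩ := hH
  haveI := hjHm; haveI := hjHo; haveI := hHa
  haveI : ConnectedSpace H₀.left := hred.2.2.1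
  haveI : IsSeparated H.hom := GrpSchLib.AntiAffine.isSeparated_grp H
  haveI : IsSeparated G.hom := GrpSchLib.AntiAffine.isSeparated_grp G
  obtain ⟨G₀, _, jG, _, _, _, hrG⟩ := S11196.exists_open_connected G
  have hsub : Set.range (jH ≫ i).left ⊆ Set.range jG.left := by
    have h1 : _root_.IsPreconnected (Set.range (jH ≫ i).left) := isPreconnected_range (jH ≫ i).left.continuous
    rw [hrG]
    refine h1.subset_connectedComponent ⟨η[H₀].left (IsLocalRing.closedPoint k), ?_⟩
    rw [← Scheme.Hom.comp_apply, ← Over.comp_left, IsMonHom.one_hom (jH ≫ i)]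
  haveI : Mono jG := (Over.forget _).mono_of_mono_map (inferInstanceAs (Mono jG.left))
  let i₀ : H₀ ⟶ G₀ := Over.homMk (IsOpenImmersion.lift jG.left (jH ≫ i).left hsub) (by
    rw [← Over.w jG, ← Category.assoc, IsOpenImmersion.lift_fac, Over.w (jH ≫ i)])
  have hc : i₀ ≫ jG = jH ≫ i := Over.OverMorphism.ext (IsOpenImmersion.lift_fac _ _ _)
  haveI : IsMonHom i₀ :=
    { one_hom := by rw [← cancel_mono jG, Category.assoc, hc, IsMonHom.one_hom (jH ≫ i), IsMonHom.one_hom jG]
      mul_hom := by
        rw [← cancel_mono jG, Category.assoc, Category.assoc, hc, IsMonHom.mul_hom jG, IsMonHom.mul_hom (jH ≫ i),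
          ← Category.assoc, tensorHom_comp_tensorHom, hc] }
  haveI := ObsOpen.isClosedImmersion_of_open jG
  haveI := ObsOpen.isClosedImmersion_of_open jH
  haveI := ObsOpen.isClosedImmersion_restrict i jG jH i₀ hc
  haveI := ObsOpen.smooth_of_open jG
  haveI := ObsOpen.smooth_of_open jH
  haveI : IsAffine G₀.left := isAffine_of_isAffineHom jG.left
  haveI : IsAffine H₀.left := isAffine_of_isAffineHom jH.left
  obtain ⟨J, gJ, j, hj, hjc, hJs, hJc, hJsol, hjn, -, huniv⟩ := Luna.exists_radical H₀
  haveI := hj; haveI := hjc; haveI := hJs; haveI := hJc; haveI := hJsol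
  haveI : IsClosedImmersion (j ≫ i₀).left := inferInstanceAs (IsClosedImmersion (j.left ≫ i₀.left))
  exact ObsOpen.bwd i jG jH i₀ hc (ObsRadObs.observable_of_radical i₀ j hjn huniv
    (ObsTorus.observable_of_torus (Luna.solvable_normal_torus hred j hjn).1 (j ≫ i₀)))

end Groth.Agent.S11212
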