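import Groth.Statements.S11216
import Groth.Agent.Deform.ObsExt
import Mathlib.RingTheory.Ideal.Height
import Mathlib.RingTheory.Ideal.AssociatedPrime.Localization
import Mathlib.RingTheory.LocalProperties.Submodule

set_option autoImplicit false
universe u
open CategoryTheory MonoidalCategory CartesianMonoidalCategory MonObj GrpObj AlgebraicGeometry
open scoped TensorProduct
open AGF

namespace Groth.Agent.S11216
attribute [local instance] CategoryTheory.Hom.monoid CategoryTheory.Hom.group
set_option linter.style.haveILetI false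
set_option linter.unusedSectionVars false
set_option maxHeartbeats 1000000
open Groth.Agent.Deform.GModStable Groth.Agent.Deform.RTrans Groth.Agent.Deform.ObsVanish Groth.Agent.Deform.ObsExt
attribute [local instance] Groth.Agent.Deform.GModStable.algΓ

section
variable {k : Type u} [Field k] [IsAlgClosed k] {G : Over (Spec (CommRingCat.of k))} [GrpObj G] [IsAffine G.left]
  [IsReduced G.left] [LocallyOfFiniteType G.hom] {H : Over (Spec (CommRingCat.of k))} [GrpObj H] [IsAffine H.left]
  [IsReduced H.left] [LocallyOfFiniteType H.hom] (i : H ⟶ G)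

theorem algebraMap_mem_inv (c : k) : algebraMap k Γ(G.left, ⊤) c ∈ AGF.rTransInv i :=
  rTransInv_of_pts i _ fun x y => by rw [AlgHom.commutes, AlgHom.commutes]

theorem lt_mem (g : VecGrp.pt k k ⟶ G) (f : Γ(G.left, ⊤)) (hf : f ∈ AGF.rTransInv i) :
    lt g f ∈ AGF.rTransInv i :=
  rTransInv_of_pts i _ fun x y => by rw [fn_lt, fn_lt, ← _root_.mul_assoc, eval_of_rTransInv i f hf]

theorem isNoetherianRing_inv (hfg : AGF.SubringFGOver k G (AGF.rTransInv i)) :
    IsNoetherianRing (AGF.rTransInv i) := by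
  classical
  obtain ⟨s, hs, hle⟩ := hfg
  let Rs : Subalgebra k Γ(G.left, ⊤) := Algebra.adjoin k (s : Set Γ(G.left, ⊤))
  have he : Rs.toSubring = AGF.rTransInv i := by
    refine le_antisymm ?_ (hle.trans ?_)
    · intro x hx
      induction hx using Algebra.adjoin_induction with
      | mem x hx => exact hs hx
      | algebraMap c => exact algebraMap_mem_inv i c
      | add x y _ _ hx hy => exact add_mem hx hy
      | mul x y _ _ hx hy => exact mul_mem hx hy
    · rw [Subring.closure_le]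
      rintro x (⟨c, rfl⟩ | hx)
      · exact Rs.algebraMap_mem c
      · exact Algebra.subset_adjoin hx
  haveI : Algebra.FiniteType k Rs := (Subalgebra.fg_iff_finiteType Rs).1 ⟨s, rfl⟩
  haveI : IsNoetherianRing Rs := Algebra.FiniteType.isNoetherianRing k _
  rw [← he]
  exact (inferInstance : IsNoetherianRing Rs)

theorem finitePresentation_subtype [IsNoetherianRing (AGF.rTransInv i)] :
    (AGF.rTransInv i).subtype.FinitePresentation := by
  refine RingHom.FinitePresentation.of_finiteType.1 ?_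
  haveI := Groth.Agent.Deform.ObsVanish.finiteType G
  let j : k →+* AGF.rTransInv i := (algebraMap k Γ(G.left, ⊤)).codRestrict _ (algebraMap_mem_inv i)
  have h1 : (algebraMap k Γ(G.left, ⊤)).FiniteType := RingHom.finiteType_algebraMap.2 inferInstance
  have h2 : ((AGF.rTransInv i).subtype.comp j).FiniteType := by
    rwa [show (AGF.rTransInv i).subtype.comp j = algebraMap k Γ(G.left, ⊤) from RingHom.ext fun c => rfl]
  exact RingHom.FiniteType.of_comp_finiteType h2

theorem exists_fn_ker (m : Ideal Γ(G.left, ⊤)) [m.IsMaximal] :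
    ∃ w : VecGrp.pt k k ⟶ G, ∀ f, f ∈ m ↔ fn w f = 0 := by
  haveI := Groth.Agent.Deform.ObsVanish.finiteType G
  obtain ⟨ψ, hψ⟩ := Groth.Agent.ComodLib.exists_point (k := k) m Ideal.IsPrime.ne_top'
  obtain ⟨x, hx⟩ := exists_fn_eq ψ
  refine ⟨x, fun f => ?_⟩
  rw [(‹m.IsMaximal›).eq_of_le (RingHom.ker_ne_top _) hψ, hx]
  exact RingHom.mem_ker

/-- The image of the spectrum in the spectrum of the invariants is open. -/
theorem isOpen_range_inv [Nonempty G.left] [IsNoetherianRing (AGF.rTransInv i)] :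
    IsOpen (Set.range (PrimeSpectrum.comap (AGF.rTransInv i).subtype)) := by
  haveI : Nontrivial Γ(G.left, ⊤) := (fn (1 : VecGrp.pt k k ⟶ G)).toRingHom.domain_nontrivial
  obtain ⟨h, hn, hD⟩ := Groth.Agent.ComodLib.exists_basicOpen_subset_range (AGF.rTransInv i).subtype
    (finitePresentation_subtype i) Subtype.val_injective
  let L : (VecGrp.pt k k ⟶ G) → (AGF.rTransInv i →+* AGF.rTransInv i) := fun g =>
    ((lt g).toRingHom.comp (AGF.rTransInv i).subtype).codRestrict _ fun f => lt_mem i g f f.2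
  have hLinv : ∀ g f, L g (L g⁻¹ f) = f := fun g f => Subtype.ext (by
    show lt g (lt g⁻¹ (f : Γ(G.left, ⊤))) = f
    exact eq_of_rational fun x => by rw [fn_lt, fn_lt, inv_mul_cancel_left])
  have key : Set.range (PrimeSpectrum.comap (AGF.rTransInv i).subtype) =
      ⋃ g : VecGrp.pt k k ⟶ G, (PrimeSpectrum.basicOpen (L g h) : Set _) := by
    refine Set.Subset.antisymm ?_ (Set.iUnion_subset fun g => ?_)
    · rintro _ ⟨P, rfl⟩
      obtain ⟨m, hm, hPm⟩ := Ideal.exists_le_maximal P.asIdeal P.2.ne_top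
      haveI := hm
      obtain ⟨w, hw⟩ := exists_fn_ker m
      obtain ⟨x, hx⟩ : ∃ x : VecGrp.pt k k ⟶ G, fn x (h : Γ(G.left, ⊤)) ≠ 0 := by
        by_contra hh
        push_neg at hh
        have h0 : (h : Γ(G.left, ⊤)) = 0 := eq_zero_of_rational _ hh
        exact hn (by rw [show h = 0 from Subtype.ext h0]; exact IsNilpotent.zero)
      refine Set.mem_iUnion.2 ⟨x * w⁻¹, ?_⟩
      rw [SetLike.mem_coe, PrimeSpectrum.mem_basicOpen, PrimeSpectrum.comap_asIdeal, Ideal.mem_comap]
      intro hP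
      have h0 := (hw _).1 (hPm hP)
      change fn w (lt (x * w⁻¹) (h : Γ(G.left, ⊤))) = 0 at h0
      rw [fn_lt, inv_mul_cancel_right] at h0
      exact hx h0
    · intro q hq
      rw [SetLike.mem_coe, PrimeSpectrum.mem_basicOpen] at hq
      obtain ⟨P, hP⟩ := hD (PrimeSpectrum.comap (L g) q) hq
      refine ⟨PrimeSpectrum.comap (lt g⁻¹).toRingHom P, PrimeSpectrum.ext (Ideal.ext fun f => ?_)⟩
      have h1 := SetLike.ext_iff.1 (congrArg PrimeSpectrum.asIdeal hP) (L g⁻¹ f)
      simp only [PrimeSpectrum.comap_asIdeal, Ideal.mem_comap] at h1 ⊢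
      rw [hLinv] at h1
      exact h1
  rw [key]
  exact isOpen_iUnion fun g => (PrimeSpectrum.basicOpen _).2

end

/-- Primes outside the open image have height at least two. -/
theorem two_le_height {A : Type u} [CommRing A] [IsNoetherianRing A] {Γ' : Type u} [CommRing Γ']
    [IsNoetherianRing Γ'] [Nontrivial Γ'] [_root_.IsReduced Γ'] (φ : A →+* Γ') (hφ : Function.Injective φ)
    (hopen : IsOpen (Set.range (PrimeSpectrum.comap φ)))
    (hsat : ∀ a t : A, (∀ g, g * φ t = 0 → g = 0) → ∀ F : Γ', φ a = F * φ t → F ∈ φ.range)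
    (p : PrimeSpectrum A) (hp : p ∉ Set.range (PrimeSpectrum.comap φ)) : (2 : ℕ∞) ≤ p.asIdeal.height := by
  classical
  by_contra hht
  have hgen : ∀ Q : PrimeSpectrum Γ', ¬ p.asIdeal ≤ (PrimeSpectrum.comap φ Q).asIdeal := fun Q hle =>
    hp (((PrimeSpectrum.le_iff_specializes p _).1 hle).mem_open hopen ⟨Q, rfl⟩)
  have hmin : ∀ q ∈ minimalPrimes A, ∃ Q ∈ minimalPrimes Γ', Q.comap φ = q := by
    intro q hq
    haveI := Ideal.minimalPrimes_isPrime hq
    obtain ⟨Q, hQ, e⟩ := Ideal.exists_comap_eq_of_mem_minimalPrimes_of_injective hφ q hq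
    haveI := hQ
    obtain ⟨Q₀, hQ₀, hle⟩ := Ideal.exists_minimalPrimes_le (I := (⊥ : Ideal Γ')) (J := Q) bot_le
    haveI := Ideal.minimalPrimes_isPrime hQ₀
    exact ⟨Q₀, hQ₀, le_antisymm ((Ideal.comap_mono hle).trans e.le)
      (hq.2 ⟨inferInstance, bot_le⟩ ((Ideal.comap_mono hle).trans e.le))⟩
  let S := (minimalPrimes.finite_of_isNoetherianRing Γ').toFinset
  obtain ⟨t, htp, ht⟩ : ∃ t ∈ p.asIdeal, ∀ Q ∈ minimalPrimes Γ', φ t ∉ Q := by
    by_contra hh
    push_neg at hh
    have hsub : (p.asIdeal : Set A) ⊆ ⋃ Q ∈ (↑S : Set (Ideal Γ')), (Ideal.comap φ Q : Set A) := fun t ht => by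
      obtain ⟨Q, hQ, htQ⟩ := hh t ht
      exact Set.mem_biUnion ((Set.Finite.mem_toFinset _).2 hQ) htQ
    obtain ⟨Q, hQ, hle⟩ := (Ideal.subset_union_prime (f := fun Q : Ideal Γ' => Ideal.comap φ Q) ⊥ ⊥
      (fun Q hQ _ _ => by
        haveI := Ideal.minimalPrimes_isPrime ((Set.Finite.mem_toFinset _).1 hQ)
        exact inferInstance)).1 hsub
    exact hgen ⟨Q, Ideal.minimalPrimes_isPrime ((Set.Finite.mem_toFinset _).1 hQ)⟩ hle
  have hnzd : ∀ g : Γ', g * φ t = 0 → g = 0 := by
    intro g hg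
    have h0 : g ∈ nilradical Γ' := by
      rw [nilradical, ← Ideal.sInf_minimalPrimes, Ideal.mem_sInf]
      intro Q hQ
      haveI := Ideal.minimalPrimes_isPrime hQ
      exact ((Ideal.IsPrime.mem_or_mem ‹_› (hg ▸ Q.zero_mem : g * φ t ∈ Q))).resolve_right (ht Q hQ)
    rwa [nilradical_eq_zero, Ideal.zero_eq_bot, Ideal.mem_bot] at h0
  have hpmin : p.asIdeal ∈ (Ideal.span {t}).minimalPrimes := by
    refine ⟨⟨p.2, (Ideal.span_singleton_le_iff_mem _).2 htp⟩, fun q hq hqp => ?_⟩
    haveI := hq.1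
    by_contra hne
    have hlt : q < p.asIdeal := lt_of_le_not_ge hqp hne
    have h1 := Ideal.height_add_one_le_of_lt_of_isPrime hlt
    have h2 : q.height = 0 := by
      have h3 := h1.trans_lt (not_le.1 hht)
      by_contra h0
      exact absurd h3 (not_lt.2 ((show (2 : ℕ∞) = 1 + 1 from rfl).le.trans
        (add_le_add (Order.one_le_iff_pos.2 (pos_iff_ne_zero.2 h0)) le_rfl)))
    obtain ⟨Q, hQ, e⟩ := hmin q (Ideal.height_eq_zero_iff.1 h2)
    exact ht Q hQ (e.ge (hq.2 (Ideal.mem_span_singleton_self t)))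
  have hass : p.asIdeal ∈ associatedPrimes A (A ⧸ Ideal.span {t}) :=
    Module.associatedPrimes.minimalPrimes_annihilator_subset_associatedPrimes A _
      (by rwa [Ideal.annihilator_quotient])
  obtain ⟨-, x, hx⟩ := isAssociatedPrime_iff.1 hass
  obtain ⟨a, rfl⟩ := Ideal.Quotient.mk_surjective x
  have hpa : ∀ c, c ∈ p.asIdeal ↔ c * a ∈ Ideal.span {t} := fun c => by
    rw [hx, Submodule.mem_colon_singleton, Submodule.mem_bot, ← Ideal.Quotient.eq_zero_iff_mem]
    rfl
  have hmem : φ a ∈ Ideal.span {φ t} := by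
    refine Submodule.mem_of_localization_maximal (fun P _ => Localization.AtPrime P)
      (fun P _ => Algebra.linearMap Γ' _) (φ a) _ fun P hP => ?_
    obtain ⟨c, hcp, hcP⟩ := SetLike.not_le_iff_exists.1 (hgen ⟨P, hP.isPrime⟩)
    obtain ⟨b, hb⟩ := Ideal.mem_span_singleton'.1 ((hpa c).1 hcp)
    rw [Submodule.mem_localized₀]
    refine ⟨φ (c * a), ?_, ⟨φ c, hcP⟩, ?_⟩
    · rw [← hb, map_mul]
      exact Ideal.mem_span_singleton'.2 ⟨φ b, rfl⟩
    · rw [IsLocalizedModule.mk'_eq_iff, Submonoid.smul_def, ← map_smul, smul_eq_mul, map_mul]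
  obtain ⟨F, hF⟩ := Ideal.mem_span_singleton'.1 hmem
  obtain ⟨F', hF'⟩ := hsat a t hnzd F hF.symm
  refine p.2.ne_top ((Ideal.eq_top_iff_one _).2 ((hpa 1).2 ?_))
  rw [_root_.one_mul]
  exact Ideal.mem_span_singleton'.2 ⟨F', hφ (by rw [map_mul, hF', hF])⟩
/-- (b) ⇒ (i): let k be an algebraically closed field, G a linear algebraic group over k (an affine
smooth group scheme over k) and H a closed subgroup of G (a smooth closed subgroup scheme, i : H →
G), with H observable in G and k[G]^H finitely generated over the constants; let X = Spec k[G]^H and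
φ : G → X the morphism given by the inclusion k[G]^H ⊆ k[G]. Then the image of φ (the orbit of the
base point) is open in X and every point of X outside the image has codimension at least 2 (its
prime ideal has height ≥ 2). (The published statement also asserts that G/H maps isomorphically onto
the image, and that finite generation is equivalent to an orbit-closure condition in a
representation; neither is stated here.) -/
theorem result (k : Type u) [Field k] [IsAlgClosed k]
    (G : Over (Spec (CommRingCat.of k))) [GrpObj G] [IsAffine G.left] [Smooth G.hom]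
    (H : Over (Spec (CommRingCat.of k))) [GrpObj H] [Smooth H.hom] (i : H ⟶ G) [IsMonHom i]
    [IsClosedImmersion i.left]
    (hobs : AGF.IsObservableIn k i) (hfg : AGF.SubringFGOver k G (AGF.rTransInv i)) :
    IsOpen (Set.range ⇑(G.left.toSpecΓ ≫ Spec.map (CommRingCat.ofHom (AGF.rTransInv i).subtype)).base) ∧
      ∀ x : ↥(Spec (CommRingCat.of ↥(AGF.rTransInv i))),
        x ∉ Set.range ⇑(G.left.toSpecΓ ≫ Spec.map (CommRingCat.ofHom (AGF.rTransInv i).subtype)).base →
          (2 : ℕ∞) ≤ x.asIdeal.height := by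
  haveI : IsAffine H.left := isAffine_of_isAffineHom i.left
  haveI : IsReduced G.left := Groth.Agent.GrpSchLib.isReduced_of_smooth_field G.hom
  haveI : IsReduced H.left := Groth.Agent.GrpSchLib.isReduced_of_smooth_field H.hom
  haveI : Nonempty G.left := ⟨η[G].left (IsLocalRing.closedPoint k)⟩
  haveI := isNoetherianRing_inv i hfg
  haveI := Groth.Agent.Deform.ObsVanish.finiteType G
  haveI : IsNoetherianRing Γ(G.left, ⊤) := Algebra.FiniteType.isNoetherianRing k _
  haveI : Nontrivial Γ(G.left, ⊤) := (fn (1 : VecGrp.pt k k ⟶ G)).toRingHom.domain_nontrivial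
  haveI : _root_.IsReduced Γ(G.left, ⊤) := inferInstance
  have hr : Set.range ⇑(G.left.toSpecΓ ≫ Spec.map (CommRingCat.ofHom (AGF.rTransInv i).subtype)).base =
      Set.range (PrimeSpectrum.comap (AGF.rTransInv i).subtype) := by
    refine Set.Subset.antisymm ?_ ?_
    · rintro _ ⟨z, rfl⟩
      exact ⟨G.left.toSpecΓ z, rfl⟩
    · rintro _ ⟨P, rfl⟩
      obtain ⟨z, hz⟩ := G.left.toSpecΓ.surjective P
      exact ⟨z, (Scheme.Hom.comp_apply _ _ z).trans (congrArg _ hz)⟩
  rw [hr]
  refine ⟨isOpen_range_inv i, fun x hx => two_le_height (AGF.rTransInv i).subtype Subtype.val_injective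
    (isOpen_range_inv i) (fun a t ht F hF => ⟨⟨F, ?_⟩, rfl⟩) x hx⟩
  refine rTransInv_of_pts i F fun z y => ?_
  have h1 : tr (y ≫ i) F = F := by
    have hinv : ∀ f : AGF.rTransInv i, tr (y ≫ i) (f : Γ(G.left, ⊤)) = f := fun f =>
      eq_of_rational fun w => by rw [fn_tr]; exact eval_of_rTransInv i _ f.2 w y
    have h2 := congrArg (tr (y ≫ i)) hF
    change tr (y ≫ i) (a : Γ(G.left, ⊤)) = tr (y ≫ i) (F * (t : Γ(G.left, ⊤))) at h2
    rw [map_mul, hinv, hinv] at h2
    refine sub_eq_zero.1 (ht _ ?_)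
    change (a : Γ(G.left, ⊤)) = F * (t : Γ(G.left, ⊤)) at hF
    show (tr (y ≫ i) F - F) * (t : Γ(G.left, ⊤)) = 0
    rw [sub_mul, ← h2, ← hF, sub_self]
  rw [← fn_tr, h1]

end Groth.Agent.S11216
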