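import Groth.Statements.S11219
import Groth.Agent.Deform.ObsLine

set_option autoImplicit false
universe u
open CategoryTheory MonoidalCategory CartesianMonoidalCategory MonObj GrpObj AlgebraicGeometry
open scoped TensorProduct
open AGF

namespace Groth.Agent.S11219
attribute [local instance] CategoryTheory.Hom.monoid CategoryTheory.Hom.group
set_option linter.style.haveILetI false
set_option maxHeartbeats 1000000
open Groth.Agent.Deform.GModStable Groth.Agent.Deform.RTrans Groth.Agent.Deform.ObsVanish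
attribute [local instance] Groth.Agent.Deform.GModStable.algΓ

theorem isDomain_functions {k : Type u} [Field k] [IsAlgClosed k] (G : Over (Spec (CommRingCat.of k)))
    [IsAffine G.left] [Smooth G.hom] [IsReduced G.left] [ConnectedSpace G.left] : IsDomain Γ(G.left, ⊤) := by
  haveI : ConnectedSpace (PrimeSpectrum Γ(G.left, ⊤)) :=
    (Scheme.homeoOfIso G.left.isoSpec).surjective.connectedSpace (Scheme.homeoOfIso G.left.isoSpec).continuous
  haveI : Nonempty G.left := ConnectedSpace.toNonempty
  haveI : Nontrivial Γ(G.left, ⊤) := PrimeSpectrum.nonempty_iff_nontrivial.1 inferInstance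
  obtain ⟨P, hP⟩ : (minimalPrimes Γ(G.left, ⊤)).Nonempty := by
    obtain ⟨p, hp, -⟩ := Ideal.exists_minimalPrimes_le (I := (⊥ : Ideal Γ(G.left, ⊤)))
      (J := (Classical.arbitrary (PrimeSpectrum Γ(G.left, ⊤))).asIdeal) bot_le
    exact ⟨p, hp⟩
  haveI := Ideal.minimalPrimes_isPrime hP
  obtain ⟨e, he, hePt⟩ := exists_idempotent hP
  have hP0 : P = ⊥ := by
    refine (Submodule.eq_bot_iff _).2 fun p hp => eq_zero_of_rational (G := G) p fun x => (hePt x).1 ?_ p hp
    obtain rfl | rfl : e = 0 ∨ e = 1 := by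
      have hcl : IsClopen (PrimeSpectrum.basicOpen e : Set (PrimeSpectrum Γ(G.left, ⊤))) :=
        PrimeSpectrum.isClopen_basicOpen_of_mul_add e (1 - e) (by rw [mul_sub, _root_.mul_one, he.eq, sub_self]) (by ring)
      rcases isClopen_iff.1 hcl with h | h
      · exact Or.inl (PrimeSpectrum.basicOpen_injOn_isIdempotentElem he IsIdempotentElem.zero (SetLike.ext' (by simpa using h)))
      · exact Or.inr (PrimeSpectrum.basicOpen_injOn_isIdempotentElem he IsIdempotentElem.one (SetLike.ext' (by simpa using h)))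
    · obtain ⟨c, hc, -⟩ := exists_pt_of_not_mem_radical (G := G) (I := P) (a := 1) (by
        rw [Ideal.IsPrime.radical ‹_›]; exact fun h => Ideal.IsPrime.ne_top ‹_› ((Ideal.eq_top_iff_one _).2 h))
      exact absurd ((map_zero (fn c)).symm.trans ((hePt c).2 hc)) zero_ne_one
    · exact map_one _
  haveI : (⊥ : Ideal Γ(G.left, ⊤)).IsPrime := hP0 ▸ inferInstance
  exact IsDomain.of_bot_isPrime _
open Groth.Agent.Deform.ObsLine
/-- Let k be an algebraically closed field, G a linear algebraic group over k (an affine smooth group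
scheme over k) and H a closed subgroup of G (a smooth closed subgroup scheme, i : H → G), with G
connected. Then H is observable in G if and only if every right-H-invariant rational function on G
is a quotient of two right-H-invariant global functions: whenever global functions a, b with b ≠ 0
satisfy a(xh)·b(x) = a(x)·b(xh) on G × H, there are right-H-invariant global functions a′, b′ with
b′ ≠ 0 and a·b′ = a′·b. (The published condition concerns the identity component of G and its
intersection with H; for connected G it reads as stated.) -/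
theorem result (k : Type u) [Field k] [IsAlgClosed k]
    (G : Over (Spec (CommRingCat.of k))) [GrpObj G] [IsAffine G.left] [Smooth G.hom]
    (H : Over (Spec (CommRingCat.of k))) [GrpObj H] [Smooth H.hom] (i : H ⟶ G) [IsMonHom i]
    [IsClosedImmersion i.left] [ConnectedSpace G.left] :
    AGF.IsObservableIn k i ↔
      ∀ a b : Γ(G.left, ⊤), b ≠ 0 →
        ((G ◁ i) ≫ μ[G]).left.appTop a * (fst G H).left.appTop b = (fst G H).left.appTop a * ((G ◁ i) ≫ μ[G]).left.appTop b →
        ∃ a' b' : Γ(G.left, ⊤), AGF.IsRTransInv i a' ∧ AGF.IsRTransInv i b' ∧ b' ≠ 0 ∧ a * b' = a' * b := by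
  haveI : IsAffine H.left := isAffine_of_isAffineHom i.left
  haveI : IsReduced G.left := Groth.Agent.GrpSchLib.isReduced_of_smooth_field G.hom
  haveI : IsReduced H.left := Groth.Agent.GrpSchLib.isReduced_of_smooth_field H.hom
  haveI : IsDomain Γ(G.left, ⊤) := isDomain_functions G
  constructor
  · intro hobs a b hb hab
    have hpt : ∀ (x : VecGrp.pt k k ⟶ G) (y : VecGrp.pt k k ⟶ H),
        fn (x * (y ≫ i)) a * fn x b = fn x a * fn (x * (y ≫ i)) b := by
      intro x y
      rw [fn_graph, fn_graph]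
      have h := congrArg (fn (lift x y)) hab
      rw [map_mul, map_mul] at h
      change fn (lift x y) (((G ◁ i) ≫ μ[G]).left.appTop a) * fn (lift x y ≫ fst G H) b =
        fn (lift x y ≫ fst G H) a * fn (lift x y) (((G ◁ i) ≫ μ[G]).left.appTop b) at h
      rwa [lift_fst] at h
    have htr : ∀ y : VecGrp.pt k k ⟶ H, tr (y ≫ i) a * b = a * tr (y ≫ i) b := fun y =>
      eq_of_rational fun x => by rw [map_mul, map_mul, fn_tr, fn_tr]; exact hpt x y
    have htrinj : ∀ (d : VecGrp.pt k k ⟶ G) (f : Γ(G.left, ⊤)), tr d f = 0 → f = 0 := fun d f h =>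
      eq_zero_of_rational f fun x => by
        rw [← inv_mul_cancel_right x d, ← fn_tr, h, map_zero]
    let I : Ideal Γ(G.left, ⊤) :=
      { carrier := {q | b ∣ a * q}
        add_mem' := fun {p q} hp hq => by
          show b ∣ a * (p + q)
          rw [mul_add]; exact dvd_add hp hq
        zero_mem' := by show b ∣ a * 0; rw [mul_zero]; exact dvd_zero b
        smul_mem' := fun c q hq => by
          show b ∣ a * (c * q)
          rw [mul_left_comm]; exact Dvd.dvd.mul_left hq c }
    obtain ⟨c, hc, hcI, hc0⟩ := exists_invariant_vanishing i hobs I (fun x y h q ⟨r, hr⟩ => by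
        rw [← fn_tr]
        refine h _ ⟨tr (y ≫ i) r, mul_left_cancel₀ (fun h0 => hb (htrinj _ _ h0)) (b := a * tr (y ≫ i) q) (a := tr (y ≫ i) b) ?_⟩
        have h1 : tr (y ≫ i) a * tr (y ≫ i) q = tr (y ≫ i) b * tr (y ≫ i) r := by rw [← map_mul, hr, map_mul]
        linear_combination b * h1 - (tr (y ≫ i) q) * htr y)
      (fun h0 => hb ((Submodule.eq_bot_iff _).1 h0 b ⟨a, mul_comm a b⟩))
    obtain ⟨n, ⟨a', ha'⟩⟩ := Ideal.mem_radical_iff.1 hcI
    refine ⟨a', c ^ n, rTransInv_of_pts i a' fun x y => ?_, rTransInv_of_pts i _ fun x y => by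
      rw [map_pow, map_pow, eval_of_rTransInv i c hc], pow_ne_zero n hc0, ha'.trans (mul_comm b a')⟩
    have hcn : tr (y ≫ i) (c ^ n) = c ^ n := eq_of_rational fun z => by
      rw [fn_tr, map_pow, map_pow, eval_of_rTransInv i c hc]
    have h1 : tr (y ≫ i) a * c ^ n = tr (y ≫ i) b * tr (y ≫ i) a' := by
      conv_lhs => rw [← hcn, ← map_mul, ha', map_mul]
    have h2 : tr (y ≫ i) a' = a' := by
      refine mul_left_cancel₀ (mul_ne_zero hb fun h0 => hb (htrinj (y ≫ i) b h0)) ?_
      linear_combination (c ^ n) * htr y - b * h1 + (tr (y ≫ i) b) * ha'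
    rw [← fn_tr, h2]
  · intro hcond
    obtain ⟨V, _, _, _, ρ, v, hv, hst, χ, hχ⟩ := exists_line i
    obtain ⟨φ₀, hφ₀⟩ := Groth.Agent.Deform.ObsSemi.exists_dual_one (k := k) hv
    intro g hg
    have hg' : ∀ f, AGF.IsRTransInv i f → ∀ x : VecGrp.pt k k ⟶ G, fn (x * g) f = fn x f := fun f hf x => by
      have := eval_of_rTransInv g f (hg f hf) x (𝟙 _)
      rwa [Category.id_comp] at this
    have hb0 : Groth.Agent.Deform.ObsSemi.mc ρ φ₀ v ≠ 0 := fun h0 => by
      have := Groth.Agent.Deform.ObsSemi.fn_mc ρ φ₀ v (1 : VecGrp.pt k k ⟶ G)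
      rw [h0, map_zero, map_one] at this
      change (0 : k) = pr φ₀ k ((1 : k) ⊗ₜ[k] v) at this
      rw [← one_smul k ((1 : k) ⊗ₜ[k] v), Groth.Agent.Deform.ObsSemi.pr_smul_one, hφ₀, map_one, _root_.mul_one] at this
      exact zero_ne_one this
    refine hst g ⟨pr φ₀ k (ρ.ρ k g ((1 : k) ⊗ₜ[k] v)), ?_⟩
    apply (TensorProduct.lid k V).injective
    rw [← sub_eq_zero, ← Module.forall_dual_apply_eq_zero_iff k]
    intro φ
    have e : ∀ z : k ⊗[k] V, pr φ k z = φ (TensorProduct.lid k V z) := by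
      intro z
      induction z using TensorProduct.induction_on with
      | zero => simp
      | tmul b m => simp [pr, mul_comm]
      | add p q hp hq => simp only [map_add, hp, hq]
    rw [map_sub, sub_eq_zero, ← e, ← e, Groth.Agent.Deform.ObsSemi.pr_smul_one, Algebra.algebraMap_self, RingHom.id_apply]
    haveI : IsAffine (G ⊗ H).left := inferInstanceAs (IsAffine (Limits.pullback G.hom H.hom))
    obtain ⟨a', b', ha', hb', hb'0, hab⟩ := hcond (Groth.Agent.Deform.ObsSemi.mc ρ φ v) _ hb0 (by
      have h : ∀ (B : Type u) [CommRing B] [Algebra k B] (x : VecGrp.pt k B ⟶ G) (y : VecGrp.pt k B ⟶ H),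
          fn (x * (y ≫ i)) (Groth.Agent.Deform.ObsSemi.mc ρ φ v) * fn x (Groth.Agent.Deform.ObsSemi.mc ρ φ₀ v) =
            fn x (Groth.Agent.Deform.ObsSemi.mc ρ φ v) * fn (x * (y ≫ i)) (Groth.Agent.Deform.ObsSemi.mc ρ φ₀ v) := by
        intro B _ _ x y
        simp only [Groth.Agent.Deform.ObsSemi.fn_mc, map_mul, LinearEquiv.mul_apply, hχ, map_smul, smul_eq_mul]
        ring
      have h2 := h _ (uPt (G ⊗ H) ≫ fst G H) (uPt (G ⊗ H) ≫ snd G H)
      rw [fn_graph, fn_graph, show lift (uPt (G ⊗ H) ≫ fst G H) (uPt (G ⊗ H) ≫ snd G H) = uPt (G ⊗ H) by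
        apply CartesianMonoidalCategory.hom_ext <;> simp, fn_uPt, fn_uPt] at h2
      change _ * fn (uPt (G ⊗ H)) ((fst G H).left.appTop _) = fn (uPt (G ⊗ H)) ((fst G H).left.appTop _) * _ at h2
      rw [fn_uPt, fn_uPt] at h2
      exact h2)
    have key : tr g (Groth.Agent.Deform.ObsSemi.mc ρ φ v) * Groth.Agent.Deform.ObsSemi.mc ρ φ₀ v =
        Groth.Agent.Deform.ObsSemi.mc ρ φ v * tr g (Groth.Agent.Deform.ObsSemi.mc ρ φ₀ v) := by
      refine mul_left_cancel₀ hb'0 ?_
      have h1 := congrArg (tr g) hab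
      rw [map_mul, map_mul, show tr g b' = b' from eq_of_rational fun z => by rw [fn_tr, hg' b' hb'],
        show tr g a' = a' from eq_of_rational fun z => by rw [fn_tr, hg' a' ha']] at h1
      linear_combination (Groth.Agent.Deform.ObsSemi.mc ρ φ₀ v) * h1 - (tr g (Groth.Agent.Deform.ObsSemi.mc ρ φ₀ v)) * hab
    have h3 := congrArg (fn (1 : VecGrp.pt k k ⟶ G)) key
    rw [map_mul, map_mul, fn_tr, fn_tr, _root_.one_mul, Groth.Agent.Deform.ObsSemi.fn_mc, Groth.Agent.Deform.ObsSemi.fn_mc,
      Groth.Agent.Deform.ObsSemi.fn_mc, Groth.Agent.Deform.ObsSemi.fn_mc, map_one] at h3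
    change _ * pr φ₀ k ((1 : k) ⊗ₜ[k] v) = pr φ k ((1 : k) ⊗ₜ[k] v) * _ at h3
    rw [← one_smul k ((1 : k) ⊗ₜ[k] v), Groth.Agent.Deform.ObsSemi.pr_smul_one, Groth.Agent.Deform.ObsSemi.pr_smul_one,
      hφ₀, map_one, _root_.mul_one, _root_.one_mul, Algebra.algebraMap_self, RingHom.id_apply, _root_.mul_one, one_smul] at h3
    rw [h3, mul_comm]

end Groth.Agent.S11219
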