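import Groth.Statements.S11229
import Groth.Agent.Deform.ObsUnip


set_option autoImplicit false
universe u
open CategoryTheory MonoidalCategory CartesianMonoidalCategory MonObj GrpObj AlgebraicGeometry
open scoped TensorProduct
open AGF

namespace Groth.Agent.S11229
attribute [local instance] CategoryTheory.Hom.monoid CategoryTheory.Hom.group
set_option linter.style.haveILetI false
set_option maxHeartbeats 1000000
open Groth.Agent.Deform Groth.Agent.Deform.ObsExt Groth.Agent.Deform.ObsUnip

/-- Let k an algebraically closed field, G a connected reductive linear algebraic group over k, B a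
Borel subgroup of G with unipotent radical U (a maximal unipotent subgroup), and let A be a
commutative k-algebra with a rational action of G by algebra automorphisms. Then A has a nonzero
nilpotent element if and only if A^U does; equivalently A is reduced if and only if A^U is reduced. -/
theorem result (k : Type u) [Field k] [IsAlgClosed k]
    (G : Over (Spec (CommRingCat.of k))) [GrpObj G] (hG : Red.IsReductiveOver k G)
    (Bo : Over (Spec (CommRingCat.of k))) [GrpObj Bo] (iB : Bo ⟶ G) (hB : Red.IsBorelOver k iB)
    (U : Over (Spec (CommRingCat.of k))) [GrpObj U] (u : U ⟶ Bo) (hU : Par.IsUnipotentRadical u)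
    (A : Type u) [CommRing A] [Algebra k A] (ρ : VecGrp.GMod G A) (hρ : ρ.IsMult) :
    IsReduced A ↔ IsReduced ↥(ρ.fixedSubalgebra hρ (u ≫ iB)) := by
  haveI := hB.1
  haveI := hB.2.1
  haveI : IsAffine G.left := hG.1
  haveI : IsAffine Bo.left := isAffine_of_isAffineHom iB.left
  obtain ⟨hum, -, hUa, hUs, hUc, hUn⟩ := Luna.unipotentRadical_props hU
  haveI := hum; haveI := hUa; haveI := hUs; haveI := hUc
  constructor
  · intro h
    exact isReduced_of_injective (ρ.fixedSubalgebra hρ (u ≫ iB)).val Subtype.val_injective
  · intro h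
    by_contra hA
    have hN : (nilradical A).restrictScalars k ≠ ⊥ := fun h0 => hA ⟨fun x hx => by
      have : x ∈ (nilradical A).restrictScalars k := hx
      rwa [h0, Submodule.mem_bot] at this⟩
    obtain ⟨x, ⟨n, hn⟩, hx0, hfix⟩ := exists_fixed_mem hUn (pull ρ (u ≫ iB)) _ hN fun g x hx => by
      obtain ⟨n, hn⟩ := hx
      exact ⟨n, show _ = (0 : A) by rw [← act_alg_pow _ (isMult_pull hρ (u ≫ iB)), show x ^ n = (0 : A) from hn, map_zero]⟩
    exact hx0 (congrArg Subtype.val (IsNilpotent.eq_zero (x := (⟨x, hfix⟩ : ↥(ρ.fixedSubalgebra hρ (u ≫ iB))))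
      ⟨n, Subtype.ext hn⟩))

end Groth.Agent.S11229
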