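import Groth.Statements.S11230
import Groth.Agent.Deform.ObsUnip


set_option autoImplicit false
universe u
open CategoryTheory MonoidalCategory CartesianMonoidalCategory MonObj GrpObj AlgebraicGeometry
open scoped TensorProduct
open AGF

namespace Groth.Agent.S11230
attribute [local instance] CategoryTheory.Hom.monoid CategoryTheory.Hom.group
set_option linter.style.haveILetI false
set_option maxHeartbeats 1000000
open Groth.Agent.Deform Groth.Agent.Deform.ObsExt Groth.Agent.Deform.ObsUnip

/-- Let k an algebraically closed field, G a connected reductive linear algebraic group over k, B a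
Borel subgroup of G with unipotent radical U (a maximal unipotent subgroup), and let A be a
commutative k-algebra with a rational action of G by algebra automorphisms. Then A has zero divisors
(two nonzero elements with product zero) if and only if the algebra of invariants A^U does. -/
theorem result (k : Type u) [Field k] [IsAlgClosed k]
    (G : Over (Spec (CommRingCat.of k))) [GrpObj G] (hG : Red.IsReductiveOver k G)
    (Bo : Over (Spec (CommRingCat.of k))) [GrpObj Bo] (iB : Bo ⟶ G) (hB : Red.IsBorelOver k iB)
    (U : Over (Spec (CommRingCat.of k))) [GrpObj U] (u : U ⟶ Bo) (hU : Par.IsUnipotentRadical u)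
    (A : Type u) [CommRing A] [Algebra k A] (ρ : VecGrp.GMod G A) (hρ : ρ.IsMult) :
    (∃ a b : A, a ≠ 0 ∧ b ≠ 0 ∧ a * b = 0) ↔
      ∃ a b : ↥(ρ.fixedSubalgebra hρ (u ≫ iB)), a ≠ 0 ∧ b ≠ 0 ∧ a * b = 0 := by
  haveI := hB.1
  haveI := hB.2.1
  haveI : IsAffine G.left := hG.1
  haveI : IsAffine Bo.left := isAffine_of_isAffineHom iB.left
  obtain ⟨hum, -, hUa, hUs, hUc, hUn⟩ := Luna.unipotentRadical_props hU
  haveI := hum; haveI := hUa; haveI := hUs; haveI := hUc
  constructor
  · rintro ⟨a, b, ha, hb, hab⟩
    let σ := pull ρ (u ≫ iB)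
    have hσ : σ.IsMult := isMult_pull hρ (u ≫ iB)
    by_cases hred : IsReduced A
    · let Va : Submodule k A := Submodule.span k (Set.range fun g => act σ g a)
      let Vb : Submodule k A := Submodule.span k (Set.range fun g => act σ g b)
      have hst : ∀ c : A, ∀ (g : VecGrp.pt k k ⟶ U) (x : A), x ∈ Submodule.span k (Set.range fun g => act σ g c) →
          act σ g x ∈ Submodule.span k (Set.range fun g => act σ g c) := fun c g x hx => by
        refine (show Submodule.span k (Set.range fun g => act σ g c) ≤
          (Submodule.span k (Set.range fun g => act σ g c)).comap (act σ g) from Submodule.span_le.2 ?_) hx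
        rintro _ ⟨g', rfl⟩
        exact Submodule.subset_span ⟨g * g', act_mul σ g g' c⟩
      have hne : ∀ c : A, c ≠ 0 → Submodule.span k (Set.range fun g => act σ g c) ≠ ⊥ := fun c hc h0 =>
        hc (by
          have : c ∈ Submodule.span k (Set.range fun g => act σ g c) := Submodule.subset_span ⟨1, act_one σ c⟩
          rwa [h0, Submodule.mem_bot] at this)
      obtain ⟨x, hx, hx0, hxf⟩ := exists_fixed_mem hUn σ Va (hne a ha) (hst a)
      obtain ⟨y, hy, hy0, hyf⟩ := exists_fixed_mem hUn σ Vb (hne b hb) (hst b)
      refine ⟨⟨x, hxf⟩, ⟨y, hyf⟩, fun h => hx0 (congrArg Subtype.val h), fun h => hy0 (congrArg Subtype.val h),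
        Subtype.ext (IsNilpotent.eq_zero (show IsNilpotent (x * y) from ?_))⟩
      rw [nilpotent_iff_mem_prime]
      intro p hp
      haveI : p.IsPrime := hp
      rcases orbit_dichotomy σ hσ p hab with h | h
      · exact p.mul_mem_right _ ((Submodule.span_le (p := p.restrictScalars k)).2 (Set.range_subset_iff.2 h) hx)
      · exact p.mul_mem_left _ ((Submodule.span_le (p := p.restrictScalars k)).2 (Set.range_subset_iff.2 h) hy)
    · have hN : (nilradical A).restrictScalars k ≠ ⊥ := fun h0 => hred ⟨fun x hx => by
        have : x ∈ (nilradical A).restrictScalars k := hx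
        rwa [h0, Submodule.mem_bot] at this⟩
      obtain ⟨x, hxn, hx0, hfix⟩ := exists_fixed_mem hUn σ _ hN fun g x hx => by
        obtain ⟨n, hn⟩ := hx
        exact ⟨n, show _ = (0 : A) by rw [← act_alg_pow _ hσ, show x ^ n = (0 : A) from hn, map_zero]⟩
      let z : ↥(ρ.fixedSubalgebra hρ (u ≫ iB)) := ⟨x, hfix⟩
      have hz : IsNilpotent z := by
        obtain ⟨n, hn⟩ := hxn
        exact ⟨n, Subtype.ext hn⟩
      have hz0 : z ≠ 0 := fun h => hx0 (congrArg Subtype.val h)
      obtain ⟨n, hn⟩ := hz
      classical
      let m := Nat.find (p := fun n => z ^ n = 0) ⟨n, hn⟩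
      have hm : z ^ m = 0 := Nat.find_spec (p := fun n => z ^ n = 0) ⟨n, hn⟩
      have hmin : ∀ j, j < m → z ^ j ≠ 0 := fun j hj => Nat.find_min (p := fun n => z ^ n = 0) ⟨n, hn⟩ hj
      match hmm : m with
      | 0 => exact absurd (by rw [← _root_.mul_one z, ← pow_zero z, ← hmm]; rw [hmm, hm, mul_zero]) hz0
      | 1 => exact absurd (by rwa [pow_one] at hm) hz0
      | j + 2 => exact ⟨z ^ (j + 1), z, hmin _ (Nat.lt_succ_self _), hz0, by rw [← pow_succ, hm]⟩
  · rintro ⟨a, b, ha, hb, hab⟩
    exact ⟨a, b, fun h => ha (Subtype.ext h), fun h => hb (Subtype.ext h), congrArg Subtype.val hab⟩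

end Groth.Agent.S11230
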