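import Groth.Statements.S11231
import Groth.Agent.Deform.ObsUnip


set_option autoImplicit false
universe u
open CategoryTheory MonoidalCategory CartesianMonoidalCategory MonObj GrpObj AlgebraicGeometry
open scoped TensorProduct
open AGF

namespace Groth.Agent.S11231
attribute [local instance] CategoryTheory.Hom.monoid CategoryTheory.Hom.group
set_option linter.style.haveILetI false
set_option maxHeartbeats 1000000
open Groth.Agent.Deform Groth.Agent.Deform.ObsExt Groth.Agent.Deform.ObsUnip

/-- Let k an algebraically closed field, G a connected reductive linear algebraic group over k, B a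
Borel subgroup of G with unipotent radical U (a maximal unipotent subgroup), and let A be a
commutative k-algebra with a rational action of G by algebra automorphisms. If A is an integrally
closed domain then so is A^U. (The published statement is for A normal; its proof reduces to the
case of a domain, which is the case stated here.) -/
theorem result (k : Type u) [Field k] [IsAlgClosed k]
    (G : Over (Spec (CommRingCat.of k))) [GrpObj G] (hG : Red.IsReductiveOver k G)
    (Bo : Over (Spec (CommRingCat.of k))) [GrpObj Bo] (iB : Bo ⟶ G) (hB : Red.IsBorelOver k iB)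
    (U : Over (Spec (CommRingCat.of k))) [GrpObj U] (u : U ⟶ Bo) (hU : Par.IsUnipotentRadical u)
    (A : Type u) [CommRing A] [IsDomain A] [Algebra k A] [IsIntegrallyClosed A]
    (ρ : VecGrp.GMod G A) (hρ : ρ.IsMult) :
    IsIntegrallyClosed ↥(ρ.fixedSubalgebra hρ (u ≫ iB)) := by
  haveI := hB.1
  haveI := hB.2.1
  haveI : IsAffine G.left := hG.1
  haveI : IsAffine Bo.left := isAffine_of_isAffineHom iB.left
  obtain ⟨hum, -, hUa, hUs, hUc, hUn⟩ := Luna.unipotentRadical_props hU
  haveI := hum; haveI := hUa; haveI := hUs; haveI := hUc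
  let S := ρ.fixedSubalgebra hρ (u ≫ iB)
  let K := FractionRing ↥S
  rw [isIntegrallyClosed_iff K]
  intro x hx
  obtain ⟨f, g, hg, rfl⟩ := IsFractionRing.div_surjective (A := ↥S) x
  have hg0 : (g : A) ≠ 0 := fun h => nonZeroDivisors.ne_zero hg (Subtype.ext h)
  let F := FractionRing A
  let φ : K →ₐ[↥S] F := IsFractionRing.liftAlgHom (g := Algebra.ofId ↥S F)
    ((IsFractionRing.injective A F).comp Subtype.val_injective)
  have hφ : ∀ s : ↥S, φ (algebraMap ↥S K s) = algebraMap A F (s : A) := fun s => φ.commutes s
  obtain ⟨c, hc⟩ := IsIntegrallyClosed.isIntegral_iff.1 ((hx.map φ).tower_top (A := A))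
  rw [map_div₀, hφ, hφ, eq_div_iff ((map_ne_zero_iff _ (IsFractionRing.injective A F)).2 hg0), ← map_mul] at hc
  have hcf : c * (g : A) = (f : A) := IsFractionRing.injective A F hc
  have hcU : c ∈ S := fixes_of_pts (pull ρ (u ≫ iB)) c fun w => by
    refine mul_right_cancel₀ hg0 ?_
    have e := act_alg_mul _ (isMult_pull hρ (u ≫ iB)) w c (g : A)
    rw [hcf, act_of_fixes (σ := pull ρ (u ≫ iB)) g.2, act_of_fixes (σ := pull ρ (u ≫ iB)) f.2, ← hcf] at e
    exact e.symm
  refine ⟨⟨c, hcU⟩, ?_⟩
  rw [eq_div_iff (IsFractionRing.to_map_ne_zero_of_mem_nonZeroDivisors hg), ← map_mul]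
  exact congrArg _ (Subtype.ext hcf)

end Groth.Agent.S11231
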