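import Groth.Statements.S11232
import Groth.Agent.Deform.ObsUnip


set_option autoImplicit false
universe u
open CategoryTheory MonoidalCategory CartesianMonoidalCategory MonObj GrpObj AlgebraicGeometry
open scoped TensorProduct
open AGF

namespace Groth.Agent.S11232
attribute [local instance] CategoryTheory.Hom.monoid CategoryTheory.Hom.group
set_option linter.style.haveILetI false
set_option maxHeartbeats 1000000
open Groth.Agent.Deform Groth.Agent.Deform.ObsExt Groth.Agent.Deform.ObsUnip
attribute [local instance] GModStable.algΓ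

/-- Let k be an algebraically closed field, G a connected linear algebraic group over k (affine, smooth,
connected) admitting no nontrivial character (every homomorphism to the multiplicative group is
trivial), and A a commutative k-algebra which is a unique factorization domain whose group of units
consists of the nonzero scalars, carrying a rational action of G by algebra automorphisms. Then the
algebra of invariants A^G is a unique factorization domain. -/
theorem result (k : Type u) [Field k] [IsAlgClosed k]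
    (G : Over (Spec (CommRingCat.of k))) [GrpObj G] [IsAffine G.left] [Smooth G.hom] [ConnectedSpace G.left]
    (hχ : ∀ χ : G ⟶ Red.Gm (Spec (CommRingCat.of k)), IsMonHom χ → χ = 1)
    (A : Type u) [CommRing A] [IsDomain A] [Algebra k A] [UniqueFactorizationMonoid A]
    (hunits : ∀ x : Aˣ, (x : A) ∈ Set.range (algebraMap k A))
    (ρ : VecGrp.GMod G A) (hρ : ρ.IsMult) :
    UniqueFactorizationMonoid ↥(ρ.fixedSubalgebra hρ (𝟙 G)) := by
  classical
  haveI : IsReduced G.left := Groth.Agent.GrpSchLib.isReduced_of_smooth_field G.hom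
  haveI : IsDomain Γ(G.left, ⊤) := ObsOpen.isDomain_functions G
  let S := ρ.fixedSubalgebra hρ (𝟙 G)
  have mem : ∀ x : A, (∀ g : VecGrp.pt k k ⟶ G, act ρ g x = x) → x ∈ S := fun x hx B _ _ h => by
    rw [Category.comp_id]
    exact fixes_of_pts ρ x hx B h
  have fixedS : ∀ (x : S) (g : VecGrp.pt k k ⟶ G), act ρ g (x : A) = x := fun x g =>
    act_of_fixes (σ := ρ) (fun B _ _ h => by have := x.2 B h; rwa [Category.comp_id] at this) g
  have actU : ∀ (g : VecGrp.pt k k ⟶ G) (c : A) , IsUnit c → act ρ g c = c := fun g c hc => by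
    obtain ⟨u, rfl⟩ := hc
    obtain ⟨a, ha⟩ := hunits u
    rw [← ha, Algebra.algebraMap_eq_smul_one, map_smul, act_alg_one ρ hρ]
  have cancel : ∀ (x : S) (p c : A), p ≠ 0 → (∀ g, act ρ g p = p) → (x : A) = p * c → c ∈ S := fun x p c hp0 hp e =>
    mem c fun g => mul_left_cancel₀ hp0 (by
      have := fixedS x g
      rw [e, act_alg_mul ρ hρ, hp g] at this
      exact this)
  have key : ∀ (x : S) (p : A), (x : A) ≠ 0 → Prime p → p ∣ (x : A) → ∀ g, act ρ g p = p := by
    intro x p hx hp hpx
    let T : Finset A := (UniqueFactorizationMonoid.factors (x : A)).toFinset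
    have hline : ∀ g : VecGrp.pt k k ⟶ G, ∃ q ∈ T, act ρ g p ∈ Submodule.span k {q} := by
      intro g
      have hd : act ρ g p ∣ (x : A) := by
        obtain ⟨c, hc⟩ := hpx
        exact ⟨act ρ g c, by rw [← act_alg_mul ρ hρ, ← hc, fixedS]⟩
      have hirr : Irreducible (act ρ g p) := by
        refine ⟨fun hu => hp.not_unit ?_, fun a b e => ?_⟩
        · have := act_inv_act ρ g p
          rw [actU g⁻¹ _ hu] at this
          rwa [← this]
        · have e2 : p = act ρ g⁻¹ a * act ρ g⁻¹ b := by rw [← act_alg_mul ρ hρ, ← e, act_inv_act]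
          have back : ∀ c, IsUnit (act ρ g⁻¹ c) → IsUnit c := fun c hc => by
            have := act_inv_act ρ g⁻¹ c
            rw [_root_.inv_inv, actU g _ hc] at this
            rwa [← this]
          exact (hp.irreducible.isUnit_or_isUnit e2).imp (back a) (back b)
      obtain ⟨q, hq, hqa⟩ := UniqueFactorizationMonoid.exists_mem_factors_of_dvd hx hirr hd
      obtain ⟨u, hu⟩ := hqa.symm
      obtain ⟨a, ha⟩ := hunits u
      refine ⟨q, Multiset.mem_toFinset.2 hq, Submodule.mem_span_singleton.2 ⟨a, ?_⟩⟩
      rw [Algebra.smul_def, ha, _root_.mul_comm, hu]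
    have hall : ∃ q ∈ T, ∀ g, act ρ g p ∈ Submodule.span k {q} := by
      by_contra hc
      push_neg at hc
      choose g hg using hc
      choose φ hφ hφW using fun (q : A) (h : q ∈ T) =>
        (Submodule.span k {q}).exists_dual_map_eq_bot_of_notMem (hg q h) inferInstance
      have h0 : ∏ q ∈ T.attach, ObsSemi.mc ρ (φ q.1 q.2) p = 0 := ObsVanish.eq_of_rational fun y => by
        obtain ⟨q, hq, hy⟩ := hline y
        rw [map_prod, map_zero]
        refine Finset.prod_eq_zero (Finset.mem_attach _ ⟨q, hq⟩) ?_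
        rw [fn_mc_act]
        have h2 := Submodule.mem_map_of_mem (f := φ q hq) hy
        rwa [hφW q hq, Submodule.mem_bot] at h2
      obtain ⟨q, -, hq0⟩ := Finset.prod_eq_zero_iff.1 h0
      exact hφ q.1 q.2 (by rw [← fn_mc_act, hq0, map_zero])
    obtain ⟨q, -, hall⟩ := hall
    have hp1 := hall 1
    rw [act_one, Submodule.mem_span_singleton] at hp1
    obtain ⟨c, hc⟩ := hp1
    have hc0 : c ≠ 0 := fun h => hp.ne_zero (by rw [← hc, h, zero_smul])
    have hst : ∀ g : VecGrp.pt k k ⟶ G, ∃ a : k, ρ.ρ k g ((1 : k) ⊗ₜ[k] p) = a • ((1 : k) ⊗ₜ[k] p) := fun g => by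
      obtain ⟨a, ha⟩ := Submodule.mem_span_singleton.1 (hall g)
      refine ⟨a * c⁻¹, ?_⟩
      rw [act_apply, ← TensorProduct.tmul_smul, ← ha, ← hc, smul_smul, _root_.mul_assoc, inv_mul_cancel₀ hc0, _root_.mul_one]
    obtain ⟨χ, hχm, hχ'⟩ := ObsSemi.exists_char (𝟙 G) ρ hp.ne_zero (fun y => by rw [Category.comp_id]; exact hst y)
    intro g
    have h1 := hχ' k g
    rw [Category.comp_id, chiVal_of_comp_eq_one (by rw [hχ χ hχm, MonObj.comp_one]), one_smul, act_apply] at h1
    exact (TensorProduct.lid k A).symm.injective (by simpa using h1)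
  have primeS : ∀ p : S, Prime (p : A) → Prime p := by
    intro p hp
    have dvdS : ∀ x : S, (p : A) ∣ (x : A) → p ∣ x := fun x ⟨c, hc⟩ =>
      ⟨⟨c, cancel x p c hp.ne_zero (fixedS p) hc⟩, Subtype.ext hc⟩
    refine ⟨fun h => hp.ne_zero (congrArg Subtype.val h), fun h => hp.not_unit (h.map S.val), fun a b hab => ?_⟩
    exact (hp.dvd_or_dvd (map_dvd S.val hab)).imp (dvdS a) (dvdS b)
  refine UniqueFactorizationMonoid.of_exists_prime_factors fun x hx => ?_
  have hx' : (x : A) ≠ 0 := fun h => hx (Subtype.ext h)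
  let f := UniqueFactorizationMonoid.factors (x : A)
  have hmem : ∀ q ∈ f, q ∈ S := fun q hq => mem q (key x q hx' (UniqueFactorizationMonoid.prime_of_factor q hq)
    (UniqueFactorizationMonoid.dvd_of_mem_factors hq))
  let fS : Multiset S := f.attach.map fun q => ⟨q.1, hmem q.1 q.2⟩
  refine ⟨fS, fun b hb => ?_, ?_⟩
  · obtain ⟨q, -, rfl⟩ := Multiset.mem_map.1 hb
    exact primeS _ (UniqueFactorizationMonoid.prime_of_factor q.1 q.2)
  have hprod : (fS.prod : A) = f.prod := by
    show S.val fS.prod = _
    rw [map_multiset_prod, Multiset.map_map]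
    exact congrArg _ (Multiset.attach_map_val f)
  obtain ⟨u, hu⟩ := UniqueFactorizationMonoid.factors_prod hx'
  obtain ⟨a, ha⟩ := hunits u
  have ha0 : a ≠ 0 := fun h => u.ne_zero (by rw [← ha, h, map_zero])
  refine ⟨((Ne.isUnit ha0).map (algebraMap k S)).unit, Subtype.ext ?_⟩
  show (fS.prod : A) * algebraMap k A a = (x : A)
  rw [hprod, ha]
  exact hu

end Groth.Agent.S11232
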