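import Groth.Statements.S11234
import Groth.Agent.Deform.ObsExt
import Groth.Agent.GrpSchLib.GLnHom
import Groth.Agent.GrpSchLib.Syntomic
import Mathlib.Tactic.TFAE

set_option autoImplicit false
universe u
open CategoryTheory MonoidalCategory CartesianMonoidalCategory MonObj GrpObj AlgebraicGeometry
open scoped TensorProduct
open AGF

namespace Groth.Agent.S11234
attribute [local instance] CategoryTheory.Hom.monoid CategoryTheory.Hom.group
set_option linter.style.haveILetI false
set_option linter.unusedSectionVars false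
set_option maxHeartbeats 1000000
open Groth.Agent.Deform.GModStable Groth.Agent.Deform.RTrans Groth.Agent.Deform.ObsVanish Groth.Agent.Deform.ObsSemi
open Groth.Agent.Deform.ObsExt Groth.Agent.Deform.Observ
open Groth.Agent.GrpSchLib.Kunneth (Fn ev IsRepMatrix)
attribute [local instance] Groth.Agent.Deform.GModStable.algΓ

theorem smooth_GLnBase {k : Type u} [Field k] (n : ℕ) : Smooth (FrB.GLn n (Spec (CommRingCat.of k))).hom := by
  haveI : Smooth (FrB.GLZ.{u} n).hom := by
    refine (HasRingHomProperty.Spec_iff (P := @Smooth)).mpr ?_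
    haveI := Groth.Agent.GrpSchLib.Syntomic.formallySmooth_GLn (ULift.{u} ℤ) n
    haveI : Algebra.FiniteType (ULift.{u} ℤ) (CoordGrp.GLn n (ULift.{u} ℤ)) :=
      @Algebra.FiniteType.of_surjective _ _ _ _ _ _ _ _
        (inferInstance : Algebra.FiniteType (ULift.{u} ℤ) (MvPolynomial (CoordGrp.GLPoly.Idx n) (ULift.{u} ℤ)))
        (CoordGrp.GLn.mk n (ULift.{u} ℤ)) Ideal.Quotient.mk_surjective
    haveI : IsNoetherianRing (ULift.{u} ℤ) := isNoetherianRing_of_ringEquiv ℤ ULift.ringEquiv.symm
    haveI : Algebra.FinitePresentation (ULift.{u} ℤ) (CoordGrp.GLn n (ULift.{u} ℤ)) :=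
      Algebra.FinitePresentation.of_finiteType.mp inferInstance
    exact RingHom.smooth_algebraMap.mpr ⟨inferInstance, inferInstance⟩
  exact MorphismProperty.pullback_snd (P := @Smooth) _ _ inferInstance

/-- A non-invariant vector in a representation gives two homomorphisms. -/
theorem invariant_of_hom_eq {k : Type u} [Field k] [IsAlgClosed k]
    {G : Over (Spec (CommRingCat.of k))} [GrpObj G] [IsAffine G.left] [Smooth G.hom] [IsReduced G.left]
    {H : Over (Spec (CommRingCat.of k))} [GrpObj H] [IsAffine H.left] [IsReduced H.left] [LocallyOfFiniteType H.hom]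
    (i : H ⟶ G) [IsMonHom i]
    (hyp : ∀ (G' : Over (Spec (CommRingCat.of k))) [GrpObj G'] [IsAffine G'.left] [Smooth G'.hom]
        (r s : G ⟶ G') [IsMonHom r] [IsMonHom s], i ≫ r = i ≫ s → r = s)
    {N : Type u} [AddCommGroup N] [Module k N] [Module.Finite k N] (σ : VecGrp.GMod G N) (w : N)
    (hw : w ∈ σ.fixedUnder i) (g : VecGrp.pt k k ⟶ G) : act σ g w = w := by
  classical
  let u := Module.finBasis k N
  let d := Module.finrank k N
  let M : Matrix (Fin d) (Fin d) (Fn G) := fun a b => mc σ (u.coord a) (u b)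
  haveI : IsAffine (G ⊗ G).left := inferInstanceAs (IsAffine (Limits.pullback G.hom G.hom))
  have hrepr : ∀ (B : Type u) [CommRing B] [Algebra k B] (z : B ⊗[k] N) (a : Fin d),
      pr (u.coord a) B z = (Algebra.TensorProduct.basis B u).repr z a := by
    intro B _ _ z a
    induction z using TensorProduct.induction_on with
    | zero => simp
    | add p q hp hq => simp only [map_add, Finsupp.add_apply, hp, hq]
    | tmul b x =>
      rw [show (b ⊗ₜ[k] x : B ⊗[k] N) = b • ((1 : B) ⊗ₜ[k] x) by
        rw [TensorProduct.smul_tmul', smul_eq_mul, _root_.mul_one], pr_smul_one, map_smul, Finsupp.smul_apply,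
        Algebra.TensorProduct.basis_repr_tmul]
      simp
  have hM : ∀ (B : Type u) [CommRing B] [Algebra k B] (x : VecGrp.pt k B ⟶ G) (z : B ⊗[k] N) (a : Fin d),
      (Algebra.TensorProduct.basis B u).repr (σ.ρ B x z) a =
        ∑ b, fn x (M a b) * (Algebra.TensorProduct.basis B u).repr z b := by
    intro B _ _ x z a
    conv_lhs => rw [← (Algebra.TensorProduct.basis B u).sum_repr z]
    rw [map_sum, map_sum, Finsupp.finset_sum_apply]
    refine Finset.sum_congr rfl fun b _ => ?_
    rw [map_smul, map_smul, Finsupp.smul_apply, smul_eq_mul, Algebra.TensorProduct.basis_apply, mul_comm]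
    congr 1
    rw [show fn x (M a b) = pr (u.coord a) B (σ.ρ B x ((1 : B) ⊗ₜ[k] u b)) from fn_mc σ _ _ x, hrepr]
  have hMmul : M.map (ev (fst G G * snd G G)) = M.map (ev (fst G G)) * M.map (ev (snd G G)) := by
    ext a b
    rw [Matrix.map_apply, Matrix.mul_apply]
    have h1 : ∀ (x : G ⊗ G ⟶ G) (f : Fn G), ev x f = fn (uPt (G ⊗ G) ≫ x) f := fun x f => (fn_uPt _).symm
    simp only [Matrix.map_apply, h1, MonObj.comp_mul]
    rw [fn_mc, map_mul, LinearEquiv.mul_apply, hrepr, hM]
    refine Finset.sum_congr rfl fun c _ => ?_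
    rw [← hrepr, ← fn_mc]
  have hMone : ∀ (T : Over (Spec (CommRingCat.of k))), M.map (ev (1 : T ⟶ G)) = 1 := by
    intro T
    haveI : IsAffine (𝟙_ (Over (Spec (CommRingCat.of k)))).left := inferInstanceAs (IsAffine (Spec (CommRingCat.of k)))
    have hη : M.map (ev η[G]) = 1 := by
      ext a b
      rw [Matrix.map_apply, show ev η[G] (M a b) = fn (uPt (𝟙_ (Over (Spec (CommRingCat.of k)))) ≫ η[G]) (M a b) from
        (fn_uPt _).symm, MonObj.one_eq_one, MonObj.comp_one, fn_mc, map_one]
      show pr (u.coord a) _ ((1 : Γ((𝟙_ (Over (Spec (CommRingCat.of k)))).left, ⊤)) ⊗ₜ[k] u b) = _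
      rw [hrepr, Algebra.TensorProduct.basis_repr_tmul, Matrix.one_apply]
      simp [Finsupp.single_apply, eq_comm]
    ext a b
    rw [Matrix.map_apply, show (1 : T ⟶ G) = toUnit T ≫ η[G] by rw [MonObj.one_eq_one, MonObj.comp_one],
      ← Groth.Agent.GrpSchLib.Kunneth.ev_ev, ← Matrix.map_apply (M := M) (f := ev η[G]), hη, Matrix.one_apply,
      Matrix.one_apply]
    split_ifs <;> simp
  have hMrep : IsRepMatrix M := ⟨fun T x y => by
    have e : M.map (ev (x * y)) = (M.map (ev (fst G G * snd G G))).map (ev (lift x y)) := by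
      rw [Matrix.map_map]
      ext a b
      show ev (x * y) (M a b) = ev (lift x y) (ev _ (M a b))
      rw [Groth.Agent.GrpSchLib.Kunneth.ev_ev, MonObj.comp_mul, lift_fst, lift_snd]
    rw [e, hMmul, Matrix.map_mul, Matrix.map_map, Matrix.map_map]
    congr 1 <;> ext a b <;> show ev (lift x y) (ev _ (M a b)) = _ <;>
      rw [Groth.Agent.GrpSchLib.Kunneth.ev_ev, Matrix.map_apply] <;> simp, hMone⟩
  let c : Matrix (Fin d) (Fin 1) (Fn G) := fun a _ => algebraMap k (Fn G) (u.repr w a)
  let P : Matrix (Fin d ⊕ Fin 1) (Fin d ⊕ Fin 1) (Fn G) := Matrix.fromBlocks M 0 0 1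
  let Q : Matrix (Fin d ⊕ Fin 1) (Fin d ⊕ Fin 1) (Fn G) := Matrix.fromBlocks M (c - M * c) 0 1
  let e := (finSumFinEquiv (m := d) (n := 1))
  let c₀ : ∀ T : Over (Spec (CommRingCat.of k)), Matrix (Fin d) (Fin 1) (Fn T) :=
    fun T a _ => algebraMap k (Fn T) (u.repr w a)
  have hc : ∀ (T : Over (Spec (CommRingCat.of k))) (x : T ⟶ G), c.map (ev x) = c₀ T := fun T x =>
    Matrix.ext fun a b => AlgHom.commutes _ _
  have hQ : ∀ (T : Over (Spec (CommRingCat.of k))) (x : T ⟶ G),
      Q.map (ev x) = Matrix.fromBlocks (M.map (ev x)) (c₀ T - M.map (ev x) * c₀ T) 0 1 := by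
    intro T x
    rw [Matrix.fromBlocks_map]
    congr 1
    · rw [Matrix.map_sub _ (map_sub _), Matrix.map_mul, hc]
    · exact Matrix.map_zero _ (map_zero _)
    · exact Matrix.map_one _ (map_zero _) (map_one _)
  have hP : ∀ (T : Over (Spec (CommRingCat.of k))) (x : T ⟶ G),
      P.map (ev x) = Matrix.fromBlocks (M.map (ev x)) 0 0 1 := by
    intro T x
    rw [Matrix.fromBlocks_map]
    congr 1
    · exact Matrix.map_zero _ (map_zero _)
    · exact Matrix.map_zero _ (map_zero _)
    · exact Matrix.map_one _ (map_zero _) (map_one _)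
  have mk : ∀ R : Matrix (Fin d ⊕ Fin 1) (Fin d ⊕ Fin 1) (Fn G),
      (∀ (T : Over (Spec (CommRingCat.of k))) (x y : T ⟶ G), R.map (ev (x * y)) = R.map (ev x) * R.map (ev y)) →
      (∀ (T : Over (Spec (CommRingCat.of k))), R.map (ev (1 : T ⟶ G)) = 1) →
      IsRepMatrix (Matrix.reindex e e R) := fun R h1 h2 =>
    ⟨fun T x y => by
      rw [Matrix.reindex_apply, ← Matrix.submatrix_map, ← Matrix.submatrix_map, ← Matrix.submatrix_map, h1,
        Matrix.submatrix_mul_equiv],
    fun T => by rw [Matrix.reindex_apply, ← Matrix.submatrix_map, h2, Matrix.submatrix_one_equiv]⟩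
  have hPrep := mk P (fun T x y => by
      rw [hP, hP, hP, hMrep.mul, Matrix.fromBlocks_multiply]; simp)
    (fun T => by rw [hP, hMrep.one, Matrix.fromBlocks_one])
  have hQrep := mk Q (fun T x y => by
      rw [hQ, hQ, hQ, hMrep.mul, Matrix.fromBlocks_multiply]
      simp [Matrix.mul_sub, Matrix.mul_assoc, sub_add_sub_comm])
    (fun T => by rw [hQ, hMrep.one, Matrix.one_mul, sub_self, Matrix.fromBlocks_one])
  haveI := hPrep.isMonHom_hom
  haveI := hQrep.isMonHom_hom
  haveI : IsAffine (FrB.GLZ.{u} (d + 1)).left := inferInstanceAs (IsAffine (Spec _))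
  haveI : IsAffineHom (FrB.GLn (d + 1) (Spec (CommRingCat.of k))).hom := inferInstanceAs (IsAffineHom (Limits.pullback.snd _ _))
  haveI : IsAffine (FrB.GLn (d + 1) (Spec (CommRingCat.of k))).left :=
    isAffine_of_isAffineHom (FrB.GLn (d + 1) (Spec (CommRingCat.of k))).hom
  haveI := smooth_GLnBase (k := k) (d + 1)
  have hMc : M.map (ev i) * c₀ H = c₀ H := by
    ext a b
    rw [Matrix.mul_apply]
    have hz := hw Γ(H.left, ⊤) (uPt H)
    have h := congrArg (fun z => (Algebra.TensorProduct.basis Γ(H.left, ⊤) u).repr z a) hz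
    simp only [hM, Algebra.TensorProduct.basis_repr_tmul, Finsupp.smul_apply, Finsupp.mapRange_apply, one_smul] at h
    refine Eq.trans (Finset.sum_congr rfl fun b' _ => ?_) h
    show ev i (M a b') * _ = _
    congr 1
    rw [← fn_uPt (ev i (M a b'))]
    rfl
  have hrs : i ≫ hPrep.hom = i ≫ hQrep.hom := by
    rw [IsRepMatrix.hom, IsRepMatrix.hom, Groth.Agent.GrpSchLib.Kunneth.comp_matPt,
      Groth.Agent.GrpSchLib.Kunneth.comp_matPt]
    refine Groth.Agent.GrpSchLib.Kunneth.matPt_congr ?_
    rw [Matrix.reindex_apply, Matrix.reindex_apply, ← Matrix.submatrix_map, ← Matrix.submatrix_map, hP, hQ, hMc, sub_self]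
  have hPQ : P = Q :=
    (Matrix.reindex e e).injective (Groth.Agent.GrpSchLib.Kunneth.matPt_injective (hyp _ hPrep.hom hQrep.hom hrs))
  have hcM : M * c = c := (sub_eq_zero.1 ((Matrix.fromBlocks_inj.1 hPQ).2.1).symm).symm
  apply u.repr.injective
  refine Finsupp.ext fun a => ?_
  have h := congrArg (fn g) (congrFun (congrFun hcM a) 0)
  rw [Matrix.mul_apply, map_sum] at h
  have h2 := hM k g ((1 : k) ⊗ₜ[k] w) a
  rw [act_apply, Algebra.TensorProduct.basis_repr_tmul, Finsupp.smul_apply, Finsupp.mapRange_apply, one_smul] at h2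
  simp only [Algebra.algebraMap_self, RingHom.id_apply] at h2
  rw [h2]
  refine Eq.trans (Finset.sum_congr rfl fun b _ => ?_) (h.trans ?_)
  · show fn g (M a b) * _ = fn g (M a b * algebraMap k Γ(G.left, ⊤) (u.repr w b))
    rw [map_mul, AlgHom.commutes, Algebra.TensorProduct.basis_repr_tmul]
    simp
  · show fn g (algebraMap k Γ(G.left, ⊤) (u.repr w a)) = u.repr w a
    rw [AlgHom.commutes]
    rfl
/-- Let k be an algebraically closed field, G a linear algebraic group over k (affine, smooth) and H a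
smooth closed subgroup of G. The following are equivalent: (b) every global function on G invariant
under right translation by H is a constant; (c) for every rational G-module E, the H-invariants of E
coincide with the G-invariants; (e) two homomorphisms from G to a linear algebraic group which agree
on H are equal. (The published list also contains the statement that H is epimorphic in the sense of
its hull under the stabilizer correspondence, and the statement that complementary H-stable
subspaces of a rational G-module are G-stable; this row states the other three.) -/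
theorem result (k : Type u) [Field k] [IsAlgClosed k]
    (G : Over (Spec (CommRingCat.of k))) [GrpObj G] [IsAffine G.left] [Smooth G.hom]
    (H : Over (Spec (CommRingCat.of k))) [GrpObj H] [Smooth H.hom] (i : H ⟶ G) [IsMonHom i]
    [IsClosedImmersion i.left] :
    List.TFAE [
      ∀ f : Γ(G.left, ⊤), ((G ◁ i) ≫ μ[G]).left.appTop f = (fst G H).left.appTop f →
        ∃ c : k, f = G.hom.appTop ((Scheme.ΓSpecIso (CommRingCat.of k)).inv c),
      ∀ (E : Type u) [AddCommGroup E] [Module k E] (ρ : VecGrp.GMod G E),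
        ρ.fixedUnder i = ρ.fixedUnder (𝟙 G),
      ∀ (G' : Over (Spec (CommRingCat.of k))) [GrpObj G'] [IsAffine G'.left] [Smooth G'.hom]
        (r s : G ⟶ G') [IsMonHom r] [IsMonHom s], i ≫ r = i ≫ s → r = s] := by
  haveI : IsAffine H.left := isAffine_of_isAffineHom i.left
  haveI : IsReduced G.left := Groth.Agent.GrpSchLib.isReduced_of_smooth_field G.hom
  haveI : IsReduced H.left := Groth.Agent.GrpSchLib.isReduced_of_smooth_field H.hom
  tfae_have 1 → 2 := by
    intro hyp E _ _ ρ
    refine le_antisymm (fun v hv => ?_) (fun v hv B _ _ y => ?_)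
    · intro B _ _ y
      rw [Category.comp_id]
      have hrat : ∀ g : VecGrp.pt k k ⟶ G, ρ.ρ k g ((1 : k) ⊗ₜ[k] v) = (1 : k) ⊗ₜ[k] v := fun g => by
        refine fixed_of_rTransInv i ρ g (fun f hf => ?_) v hv
        obtain ⟨c, rfl⟩ := hyp f hf
        refine rTransInv_of_rational g _ fun x => ?_
        show fn (x * g) (algebraMap k Γ(G.left, ⊤) c) = fn x (algebraMap k Γ(G.left, ⊤) c)
        rw [AlgHom.commutes, AlgHom.commutes]
      have h := semi_of_pts (𝟙 G) ρ v 1 (fun g => by rw [Category.comp_id, map_one, one_smul]; exact hrat g) B y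
      rwa [Category.comp_id, map_one, one_smul] at h
    · have h := hv B (y ≫ i)
      rwa [Category.comp_id] at h
  tfae_have 2 → 1 := by
    intro hyp f hf
    refine ⟨fn (1 : VecGrp.pt k k ⟶ G) f, eq_of_rational fun x => ?_⟩
    show fn x f = fn x (algebraMap k Γ(G.left, ⊤) (fn (1 : VecGrp.pt k k ⟶ G) f))
    rw [AlgHom.commutes, Algebra.algebraMap_self, RingHom.id_apply]
    have hfix : f ∈ (reg (G := G)).fixedUnder i := by
      intro B _ _ y
      have h := semi_of_pts i (reg (G := G)) f 1 (fun z => by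
        apply (Algebra.TensorProduct.lid k Γ(G.left, ⊤)).injective
        rw [map_one, one_smul, Groth.Agent.Deform.ObsSolvable.lid_reg, Algebra.TensorProduct.lid_tmul, one_smul]
        exact eq_of_rational fun w => by rw [fn_tr]; exact eval_of_rTransInv i f hf w z) B y
      rwa [map_one, one_smul] at h
    rw [hyp] at hfix
    have h := congrArg (Algebra.TensorProduct.lid k Γ(G.left, ⊤)) (hfix k x)
    rw [Category.comp_id, Groth.Agent.Deform.ObsSolvable.lid_reg, Algebra.TensorProduct.lid_tmul, one_smul] at h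
    have h2 := congrArg (fn (1 : VecGrp.pt k k ⟶ G)) h
    rwa [fn_tr, _root_.one_mul] at h2
  tfae_have 1 → 3 := by
    intro hyp G' _ _ _ r s _ _ hrs
    have hconst : ∀ f : Γ(G'.left, ⊤), ∃ c : k, ∀ x : VecGrp.pt k k ⟶ G, fn ((x ≫ r) * (x ≫ s)⁻¹) f = c := by
      intro f
      let f' : Γ(G.left, ⊤) := (r * s⁻¹).left.appTop f
      have hf' : ∀ x : VecGrp.pt k k ⟶ G, fn x f' = fn ((x ≫ r) * (x ≫ s)⁻¹) f := fun x => by
        rw [← GrpObj.comp_inv, ← MonObj.comp_mul]
        rfl
      obtain ⟨c, hc⟩ := hyp f' (rTransInv_of_pts i f' fun x y => by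
        rw [hf', hf', MonObj.mul_comp, MonObj.mul_comp, Category.assoc, Category.assoc, hrs, _root_.mul_inv_rev]
        simp only [_root_.mul_assoc, mul_inv_cancel_left])
      refine ⟨c, fun x => ?_⟩
      rw [← hf', hc]
      exact AlgHom.commutes _ c
    have hrs' : ∀ x : VecGrp.pt k k ⟶ G, x ≫ r = x ≫ s := fun x => by
      rw [← mul_inv_eq_one]
      rw [← ptMap_fn_uPt ((x ≫ r) * (x ≫ s)⁻¹), ← ptMap_fn_uPt (1 : VecGrp.pt k k ⟶ G')]
      congr 2
      refine AlgHom.ext fun f => ?_
      obtain ⟨c, hc⟩ := hconst f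
      rw [hc]
      have h1 := hc 1
      rw [MonObj.one_comp, MonObj.one_comp, inv_one, _root_.mul_one] at h1
      exact h1.symm
    have hfn : fn (uPt G ≫ r) = fn (uPt G ≫ s) := AlgHom.ext fun f => eq_of_rational fun x => by
      rw [← AlgHom.comp_apply, ← AlgHom.comp_apply, ← fn_ptMap, ← fn_ptMap, ← Category.assoc, ← Category.assoc,
        ptMap_fn_uPt, hrs']
    have h : uPt G ≫ r = uPt G ≫ s := by rw [← ptMap_fn_uPt (uPt G ≫ r), hfn, ptMap_fn_uPt]
    apply Over.OverMorphism.ext
    exact (cancel_epi G.left.isoSpec.inv).1 (congrArg CommaMorphism.left h)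
  tfae_have 3 → 1 := by
    intro hyp f hf
    obtain ⟨N, hfN, hN, hst⟩ := exists_fg_stable (reg (G := G)) (k ∙ f) (Submodule.fg_span_singleton f)
    obtain ⟨σ, hσ⟩ := exists_restrict _ N hst
    haveI : Module.Finite k N := Module.Finite.iff_fg.2 hN
    let w : N := ⟨f, hfN (Submodule.mem_span_singleton_self f)⟩
    have hw : w ∈ σ.fixedUnder i := by
      intro B _ _ y
      apply Module.Flat.lTensor_preserves_injective_linearMap N.subtype N.injective_subtype
      show N.subtype.baseChange B _ = N.subtype.baseChange B _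
      rw [hσ, LinearMap.baseChange_tmul]
      have h := semi_of_pts i (reg (G := G)) f 1 (fun z => by
        apply (Algebra.TensorProduct.lid k Γ(G.left, ⊤)).injective
        rw [map_one, one_smul, Groth.Agent.Deform.ObsSolvable.lid_reg, Algebra.TensorProduct.lid_tmul, one_smul]
        exact eq_of_rational fun v => by rw [fn_tr]; exact eval_of_rTransInv i f hf v z) B y
      rwa [map_one, one_smul] at h
    refine ⟨fn (1 : VecGrp.pt k k ⟶ G) f, eq_of_rational fun x => ?_⟩
    show fn x f = fn x (algebraMap k Γ(G.left, ⊤) (fn (1 : VecGrp.pt k k ⟶ G) f))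
    rw [AlgHom.commutes, Algebra.algebraMap_self, RingHom.id_apply]
    have h := invariant_of_hom_eq i hyp σ w hw x
    have h2 := hσ k x ((1 : k) ⊗ₜ[k] w)
    rw [act_apply, h, LinearMap.baseChange_tmul] at h2
    have h3 := congrArg (Algebra.TensorProduct.lid k Γ(G.left, ⊤)) h2
    rw [Algebra.TensorProduct.lid_tmul, one_smul, Groth.Agent.Deform.ObsSolvable.lid_reg] at h3
    have h4 := congrArg (fn (1 : VecGrp.pt k k ⟶ G)) h3
    rw [fn_tr, _root_.one_mul] at h4
    exact h4.symm
  tfae_finish

end Groth.Agent.S11234
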