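import Groth.Statements.S11241
import Groth.Agent.Deform.ObsUnip


set_option autoImplicit false
universe u
open CategoryTheory MonoidalCategory CartesianMonoidalCategory MonObj GrpObj AlgebraicGeometry
open scoped TensorProduct
open AGF

namespace Groth.Agent.S11241
attribute [local instance] CategoryTheory.Hom.monoid CategoryTheory.Hom.group
set_option linter.style.haveILetI false
set_option maxHeartbeats 1000000
open Groth.Agent.Deform Groth.Agent.Deform.ObsExt Groth.Agent.Deform.ObsUnip

/-- Let k be an algebraically closed field and H a connected unipotent linear algebraic group over k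
(affine, smooth, connected, with no nontrivial subtorus), acting rationally by algebra automorphisms
on a commutative k-algebra A which is an integral domain. An H-invariant element of the fraction
field of A is a quotient of two H-invariant elements of A: if a₀, b₀ ∈ A with b₀ ≠ 0 satisfy
(h·a₀)·b₀ = a₀·(h·b₀) for every point h of H (invariance of a₀/b₀), then there are a, b ∈ A^H with b
≠ 0 and a·b₀ = b·a₀. (The published statement allows any unipotent H; this row takes H connected.) -/
theorem result (k : Type u) [Field k] [IsAlgClosed k]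
    (H : Over (Spec (CommRingCat.of k))) [GrpObj H] [IsAffine H.left] [Smooth H.hom] [ConnectedSpace H.left]
    (hH : Red.HasNoSubtorus k H)
    (A : Type u) [CommRing A] [IsDomain A] [Algebra k A] (ρ : VecGrp.GMod H A) (hρ : ρ.IsMult)
    (a₀ b₀ : A) (hb₀ : b₀ ≠ 0)
    (hinv : ∀ (B : Type u) [CommRing B] [Algebra k B] (h : VecGrp.pt k B ⟶ H),
      ρ.ρ B h ((1 : B) ⊗ₜ[k] a₀) * ((1 : B) ⊗ₜ[k] b₀) = ((1 : B) ⊗ₜ[k] a₀) * ρ.ρ B h ((1 : B) ⊗ₜ[k] b₀)) :
    ∃ a b : A, a ∈ ρ.fixedUnder (𝟙 H) ∧ b ∈ ρ.fixedUnder (𝟙 H) ∧ b ≠ 0 ∧ a * b₀ = b * a₀ := by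
  let N : Submodule k A :=
    { carrier := {b | ∃ a, a * b₀ = b * a₀}
      add_mem' := by
        rintro _ _ ⟨a, ha⟩ ⟨a', ha'⟩
        exact ⟨a + a', by rw [add_mul, add_mul, ha, ha']⟩
      zero_mem' := ⟨0, by rw [zero_mul, zero_mul]⟩
      smul_mem' := by
        rintro c b ⟨a, ha⟩
        exact ⟨c • a, by rw [smul_mul_assoc, smul_mul_assoc, ha]⟩ }
  have hinv' : ∀ g : VecGrp.pt k k ⟶ H, act ρ g a₀ * b₀ = a₀ * act ρ g b₀ := fun g => by
    have h := hinv k g
    rw [act_apply, act_apply, Algebra.TensorProduct.tmul_mul_tmul, Algebra.TensorProduct.tmul_mul_tmul] at h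
    exact (TensorProduct.lid k A).symm.injective (by simpa using h)
  have key : ∀ (g : VecGrp.pt k k ⟶ H) (a b : A), a * b₀ = b * a₀ → act ρ g a * b₀ = act ρ g b * a₀ := by
    intro g a b e
    have e2 : act ρ g a * act ρ g b₀ = act ρ g b * act ρ g a₀ := by
      rw [← act_alg_mul ρ hρ, ← act_alg_mul ρ hρ, e]
    refine mul_right_cancel₀ (act_ne_zero ρ g hb₀) ?_
    linear_combination b₀ * e2 + act ρ g b * hinv' g
  obtain ⟨b, ⟨a, hab⟩, hb, hfix⟩ := exists_fixed_mem hH ρ N
    (N.ne_bot_iff.2 ⟨b₀, ⟨a₀, mul_comm _ _⟩, hb₀⟩) (fun g x ⟨a, ha⟩ => ⟨_, key g a x ha⟩)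
  refine ⟨a, b, ?_, ?_, hb, hab⟩
  · intro B _ _ h
    rw [Category.comp_id]
    refine fixes_of_pts ρ a (fun g => mul_right_cancel₀ hb₀ ?_) B h
    rw [key g a b hab, act_of_fixes hfix, hab]
  · intro B _ _ h
    rw [Category.comp_id]
    exact hfix B h

end Groth.Agent.S11241
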