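import Groth.Statements.S11246
import Groth.Agent.Deform.ObsUnip


set_option autoImplicit false
universe u
open CategoryTheory MonoidalCategory CartesianMonoidalCategory MonObj GrpObj AlgebraicGeometry
open scoped TensorProduct
open AGF

namespace Groth.Agent.S11246
attribute [local instance] CategoryTheory.Hom.monoid CategoryTheory.Hom.group
set_option linter.style.haveILetI false
set_option maxHeartbeats 1000000
open Groth.Agent.Deform Groth.Agent.Deform.ObsExt Groth.Agent.Deform.ObsUnip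

/-- Let k be an algebraically closed field and H a connected solvable linear algebraic group over k
(affine, smooth, connected, solvable) with maximal torus T and unipotent radical U (so H = T·U),
acting rationally by algebra automorphisms on a commutative k-algebra A which is an integral domain.
Let χ be a character of H and let a₀, b₀ ∈ A, b₀ ≠ 0, be such that H acts on the fraction a₀/b₀
through χ: (h·a₀)·b₀ = χ(h)·a₀·(h·b₀) for every point h of H. Then there are U-invariant elements a,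
b ∈ A with b ≠ 0 and a·b₀ = b·a₀ (so a₀/b₀ = a/b), and a character θ of T such that b is a
T-semi-invariant of weight θ and a is a T-semi-invariant of weight θ + χ|_T. -/
theorem result (k : Type u) [Field k] [IsAlgClosed k]
    (H : Over (Spec (CommRingCat.of k))) [GrpObj H] [IsAffine H.left] [Smooth H.hom] [ConnectedSpace H.left]
    (hsolv : Red.IsSolvableGrp H)
    (T : Over (Spec (CommRingCat.of k))) [GrpObj T] (iT : T ⟶ H) [IsMonHom iT] (hT : AGF.IsMaxTorus iT)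
    (U : Over (Spec (CommRingCat.of k))) [GrpObj U] (uH : U ⟶ H) (hU : Par.IsUnipotentRadical uH)
    (χ : H ⟶ Red.Gm (Spec (CommRingCat.of k))) [IsMonHom χ]
    (A : Type u) [CommRing A] [IsDomain A] [Algebra k A] (ρ : VecGrp.GMod H A) (hρ : ρ.IsMult)
    (a₀ b₀ : A) (hb₀ : b₀ ≠ 0)
    (hχ : ∀ (B : Type u) [CommRing B] [Algebra k B] (h : VecGrp.pt k B ⟶ H),
      ρ.ρ B h ((1 : B) ⊗ₜ[k] a₀) * ((1 : B) ⊗ₜ[k] b₀) =
        VecGrp.chiVal χ h • (((1 : B) ⊗ₜ[k] a₀) * ρ.ρ B h ((1 : B) ⊗ₜ[k] b₀))) :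
    ∃ a b : A, a ∈ ρ.fixedUnder uH ∧ b ∈ ρ.fixedUnder uH ∧ b ≠ 0 ∧ a * b₀ = b * a₀ ∧
      ∃ θ : T ⟶ Red.Gm (Spec (CommRingCat.of k)), IsMonHom θ ∧
        (∀ (B : Type u) [CommRing B] [Algebra k B] (t : VecGrp.pt k B ⟶ T),
          ρ.ρ B (t ≫ iT) ((1 : B) ⊗ₜ[k] b) = VecGrp.chiVal θ t • ((1 : B) ⊗ₜ[k] b)) ∧
        (∀ (B : Type u) [CommRing B] [Algebra k B] (t : VecGrp.pt k B ⟶ T),
          ρ.ρ B (t ≫ iT) ((1 : B) ⊗ₜ[k] a) =
            (VecGrp.chiVal θ t * VecGrp.chiVal χ (t ≫ iT)) • ((1 : B) ⊗ₜ[k] a)) := by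
  haveI : IsReduced H.left := Groth.Agent.GrpSchLib.isReduced_of_smooth_field H.hom
  obtain ⟨hum, -, hUa, hUs, hUc, hUn⟩ := Luna.unipotentRadical_props hU
  haveI := hum; haveI := hUa; haveI := hUs; haveI := hUc
  let N : Submodule k A :=
    { carrier := {b | ∃ a, a * b₀ = b * a₀}
      add_mem' := by
        rintro _ _ ⟨a, ha⟩ ⟨a', ha'⟩
        exact ⟨a + a', by rw [add_mul, add_mul, ha, ha']⟩
      zero_mem' := ⟨0, by rw [zero_mul, zero_mul]⟩
      smul_mem' := by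
        rintro c b ⟨a, ha⟩
        exact ⟨c • a, by rw [smul_mul_assoc, smul_mul_assoc, ha]⟩ }
  have hχ' : ∀ g : VecGrp.pt k k ⟶ H, act ρ g a₀ * b₀ = VecGrp.chiVal χ g • (a₀ * act ρ g b₀) := fun g => by
    have h := hχ k g
    rw [act_apply, act_apply, Algebra.TensorProduct.tmul_mul_tmul, Algebra.TensorProduct.tmul_mul_tmul,
      ← TensorProduct.tmul_smul] at h
    exact (TensorProduct.lid k A).symm.injective (by simpa using h)
  have key : ∀ (g : VecGrp.pt k k ⟶ H) (a b : A), a * b₀ = b * a₀ →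
      act ρ g a * b₀ = (VecGrp.chiVal χ g • act ρ g b) * a₀ := by
    intro g a b e
    have e2 : act ρ g a * act ρ g b₀ = act ρ g b * act ρ g a₀ := by
      rw [← act_alg_mul ρ hρ, ← act_alg_mul ρ hρ, e]
    refine mul_right_cancel₀ (act_ne_zero ρ g hb₀) ?_
    have hh := hχ' g
    rw [Algebra.smul_def] at hh ⊢
    linear_combination b₀ * e2 + act ρ g b * hh
  have hu : ∀ g : VecGrp.pt k k ⟶ H, (VecGrp.chiVal χ g) ≠ 0 := fun g h0 => by
    have h := ObsSemi.gmFn_inv_fn χ g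
    rw [← ObsSemi.chiVal_eq χ, h0, mul_zero] at h
    exact zero_ne_one h
  obtain ⟨b, ⟨a, hab⟩, hb, θ, hθm, hθ⟩ := exists_eigen_mem hsolv ρ N
    (N.ne_bot_iff.2 ⟨b₀, ⟨a₀, mul_comm _ _⟩, hb₀⟩) (fun g x ⟨a, ha⟩ => by
      refine ⟨(VecGrp.chiVal χ g)⁻¹ • act ρ g a, ?_⟩
      rw [smul_mul_assoc, key g a x ha, smul_mul_assoc, smul_smul, inv_mul_cancel₀ (hu g), one_smul])
  haveI := hθm
  have hact : ∀ g : VecGrp.pt k k ⟶ H, act ρ g a = (VecGrp.chiVal θ g * VecGrp.chiVal χ g) • a := fun g => by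
    refine mul_right_cancel₀ hb₀ ?_
    rw [key g a b hab, hθ g, smul_smul, _root_.mul_comm (VecGrp.chiVal χ g), smul_mul_assoc, smul_mul_assoc, hab]
  have hU1 : ∀ (φ : H ⟶ Red.Gm (Spec (CommRingCat.of k))) (_ : IsMonHom φ) (h : VecGrp.pt k k ⟶ U),
      VecGrp.chiVal φ (h ≫ uH) = 1 := fun φ hφ h => by
    haveI := hφ
    have e : VecGrp.chiVal φ (h ≫ uH) = VecGrp.chiVal (uH ≫ φ) h := by simp [VecGrp.chiVal]
    rw [e]
    exact chiVal_eq_one hUn (uH ≫ φ) h
  have hsa := ObsSemi.semi_of_pts (𝟙 H) ρ a (Red.gmFn θ * Red.gmFn χ) (fun y => by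
    rw [Category.comp_id, act_apply, hact, map_mul, ← ObsSemi.chiVal_eq, ← ObsSemi.chiVal_eq, TensorProduct.tmul_smul])
  refine ⟨a, b, ?_, ?_, hb, hab, iT ≫ θ, inferInstance, fun B _ _ t => ?_, fun B _ _ t => ?_⟩
  · rw [mem_fixedUnder_iff]
    refine fixes_of_pts _ a fun h => ?_
    rw [act_pull, hact, hU1 θ hθm, hU1 χ inferInstance, _root_.one_mul, one_smul]
  · rw [mem_fixedUnder_iff]
    refine fixes_of_pts _ b fun h => ?_
    rw [act_pull, hθ, hU1 θ hθm, one_smul]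
  · have e : VecGrp.chiVal (iT ≫ θ) t = VecGrp.chiVal θ (t ≫ iT) := by simp [VecGrp.chiVal]
    rw [e]
    exact semi_of_act ρ b θ hθ B (t ≫ iT)
  · have e : VecGrp.chiVal (iT ≫ θ) t = VecGrp.chiVal θ (t ≫ iT) := by simp [VecGrp.chiVal]
    have := hsa B (t ≫ iT)
    rw [Category.comp_id, map_mul, ← ObsSemi.chiVal_eq, ← ObsSemi.chiVal_eq] at this
    rw [e]
    exact this

end Groth.Agent.S11246
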