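import Groth.Statements.S11289
import Groth.Agent.H9DefExt.Main

set_option linter.style.haveILetI false
set_option backward.isDefEq.respectTransparency false
set_option backward.isDefEq.respectTransparency.types false


set_option autoImplicit false
universe u
open CategoryTheory CategoryTheory.Limits AlgebraicGeometry
open Deform

namespace Groth.Agent.S11289

/-- Let k be an algebraically closed field and X a nonsingular variety over k (an integral scheme,
separated, quasi-compact and smooth over Spec k). Call X rigid when every infinitesimal deformation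
of X is trivial: for every local Artinian k-algebra A with a k-algebra augmentation e : A → k, every
scheme Y flat over Spec A and every morphism i : X → Y making X the fibre of Y over the closed point
Spec k → Spec A, there is an isomorphism of Y with the product X ×_k Spec A over Spec A under which
i becomes the canonical inclusion of X. Then X is rigid if and only if H^1(X, T_X) = 0, written here
as the vanishing of Ext^1(Ω_{X/k}, O_X) in the category of O_X-modules (the same group, Ω_{X/k}
being locally free). The Artinian algebras A range over the universe of X. -/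
theorem result
    {k : Type u} [Field k] [IsAlgClosed k]
    (X : Scheme.{u}) [X.Over (Spec (CommRingCat.of k))] [IsIntegral X]
    [Smooth (X ↘ Spec (CommRingCat.of k))] [IsSeparated (X ↘ Spec (CommRingCat.of k))]
    [QuasiCompact (X ↘ Spec (CommRingCat.of k))] [HasExt.{u} X.Modules] :
    (∀ (A : Type u) [CommRing A] [Algebra k A] [IsLocalRing A] [IsArtinianRing A] (e : A →ₐ[k] k)
        (Y : Scheme.{u}) (f : Y ⟶ Spec (CommRingCat.of A)) (i : X ⟶ Y), Flat f →
        IsPullback i (X ↘ Spec (CommRingCat.of k)) f (Spec.map (CommRingCat.ofHom e.toRingHom)) →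
        ∃ φ : Y ≅ pullback (X ↘ Spec (CommRingCat.of k)) (Spec.map (CommRingCat.ofHom (algebraMap k A))),
          φ.hom ≫ pullback.snd _ _ = f ∧ i ≫ φ.hom ≫ pullback.fst _ _ = 𝟙 X) ↔
    Subsingleton (Abelian.Ext.{u} (Omega.sheaf (X ↘ Spec (CommRingCat.of k))) (Coh.structureModule X) 1) := by
  refine Iff.trans ⟨fun h A => ⟨fun a b => ?_⟩, fun h A => ?_⟩ Groth.Agent.H9DefExt.subsingleton_obj_iff
  · intro _ _ _ _ e Y f i hf hsq
    let C : ArtFun.Art k k :=
      { carrier := A, res := e, res_surjective := fun c => ⟨algebraMap k A c, e.commutes c⟩ }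
    let ξ : ArtFun.DefSch X (X ↘ Spec (CommRingCat.of k)) C := ⟨Y, f, hf, i, hsq⟩
    let η := ArtFun.DefSch.trivial X (X ↘ Spec (CommRingCat.of k)) (Groth.Agent.DefGlueLib.flat_str _) C
    obtain ⟨ψ⟩ := Groth.Agent.DefGlueLib.cl_eq_iff.1 ((h C).elim ξ.cl η.cl)
    exact ⟨ψ.iso, ψ.hom_f, (congrArg (· ≫ pullback.fst _ _) ψ.i_hom).trans
      (ArtFun.DefSch.baseChange_i_fst _ _) |> (Category.assoc _ _ _).symm.trans⟩
  · obtain ⟨ξ, rfl⟩ := Groth.Agent.DefGlueLib.cl_surjective a
    obtain ⟨η, rfl⟩ := Groth.Agent.DefGlueLib.cl_surjective b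
    obtain ⟨φ, hφ, hφi⟩ := h A A.res ξ.total ξ.f ξ.i ξ.flat ξ.isPullback
    obtain ⟨ψ, hψ, hψi⟩ := h A A.res η.total η.f η.i η.flat η.isPullback
    refine Groth.Agent.DefGlueLib.cl_eq_iff.2 ⟨⟨φ ≪≫ ψ.symm, ?_, ?_⟩⟩
    · rw [Iso.trans_hom, Iso.symm_hom, Category.assoc, ← hψ, Iso.inv_hom_id_assoc, hφ]
    · rw [Iso.trans_hom, Iso.symm_hom, ← Category.assoc, Iso.comp_inv_eq]
      refine pullback.hom_ext ?_ ?_
      · rw [Category.assoc, Category.assoc, hφi, hψi]
      · rw [Category.assoc, Category.assoc, hφ, hψ]
        exact (ArtFun.DefSch.i_f ξ).trans (ArtFun.DefSch.i_f η).symm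

end Groth.Agent.S11289
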