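import Groth.Statements.S11290
import Groth.Agent.H9DefObs.Theory
import Mathlib.AlgebraicGeometry.Morphisms.Separated

set_option linter.style.haveILetI false
set_option backward.isDefEq.respectTransparency false
set_option backward.isDefEq.respectTransparency.types false
open scoped TensorProduct


set_option autoImplicit false
universe u
open CategoryTheory CategoryTheory.Limits AlgebraicGeometry
open Deform

namespace Groth.Agent.S11290

/-- Let k be an algebraically closed field and X a nonsingular variety over k (integral, separated,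
quasi-compact and smooth over Spec k) with H^2(X, T_X) = 0, written as the vanishing of
Ext^2(Ω_{X/k}, O_X) in the category of O_X-modules. Then X is unobstructed: for every local Artinian
k-algebra A', every t in the maximal ideal of A' annihilated by the maximal ideal (so that A' → A =
A'/(t) is a small extension), every k-algebra augmentation e : A → k and every infinitesimal
deformation of X over A — a scheme Y flat over Spec A with a morphism i : X → Y making X the fibre
over the point Spec k → Spec A given by e — there are a scheme Y' flat over Spec A' and a morphism Y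
→ Y' making Y the base change of Y' along Spec A → Spec A' (a lifting of the deformation to A'). -/
theorem result
    {k : Type u} [Field k] [IsAlgClosed k]
    (X : Scheme.{u}) [X.Over (Spec (CommRingCat.of k))] [IsIntegral X]
    [Smooth (X ↘ Spec (CommRingCat.of k))] [IsSeparated (X ↘ Spec (CommRingCat.of k))]
    [QuasiCompact (X ↘ Spec (CommRingCat.of k))] [HasExt.{u} X.Modules]
    (h2 : Subsingleton (Abelian.Ext.{u} (Omega.sheaf (X ↘ Spec (CommRingCat.of k))) (Coh.structureModule X) 2))
    (A' : Type u) [CommRing A'] [Algebra k A'] [IsLocalRing A'] [IsArtinianRing A']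
    (t : A') (ht : t ∈ IsLocalRing.maximalIdeal A') (htm : ∀ a ∈ IsLocalRing.maximalIdeal A', a * t = 0)
    (e : (A' ⧸ Ideal.span {t}) →ₐ[k] k)
    (Y : Scheme.{u}) (f : Y ⟶ Spec (CommRingCat.of (A' ⧸ Ideal.span {t}))) (i : X ⟶ Y) (hf : Flat f)
    (hY : IsPullback i (X ↘ Spec (CommRingCat.of k)) f (Spec.map (CommRingCat.ofHom e.toRingHom))) :
    ∃ (Y' : Scheme.{u}) (f' : Y' ⟶ Spec (CommRingCat.of A')) (j : Y ⟶ Y'), Flat f' ∧
      IsPullback j f f' (Spec.map (CommRingCat.ofHom (Ideal.Quotient.mk (Ideal.span {t})))) := by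
  haveI : X.IsSeparated := ⟨by
    rw [← terminal.comp_from (X ↘ Spec (CommRingCat.of k))]
    infer_instance⟩
  haveI : CompactSpace X := QuasiCompact.compactSpace_of_compactSpace (X ↘ Spec (CommRingCat.of k))
  let R : ArtFun.Art k k :=
    { carrier := A'
      res := e.comp (Ideal.Quotient.mkₐ k (Ideal.span {t}))
      res_surjective := fun c => ⟨algebraMap k A' c, AlgHom.commutes _ c⟩ }
  have hK : Ideal.span {t} ≤ IsLocalRing.maximalIdeal R := (Ideal.span_singleton_le_iff_mem _).2 ht
  let p := ArtFun.Art.quotMk R _ hK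
  have hker : RingHom.ker p.toAlgHom = Ideal.span {t} :=
    Ideal.ext fun a => RingHom.mem_ker.trans Ideal.Quotient.eq_zero_iff_mem
  have hp : ArtFun.Art.IsSemismallExt p := ⟨Ideal.Quotient.mk_surjective, le_bot_iff.1 (by
    rw [hker, Ideal.mul_le]
    intro a ha b hb
    obtain ⟨c, rfl⟩ := Ideal.mem_span_singleton'.1 hb
    rw [Ideal.mem_bot, mul_left_comm, htm a ha, mul_zero])⟩
  have hres : (R.quot _ hK).res = e := AlgHom.ext fun a => by
    obtain ⟨a, rfl⟩ := Ideal.Quotient.mk_surjective a
    rfl
  let ξ : ArtFun.DefSch X (X ↘ Spec (CommRingCat.of k)) (R.quot _ hK) :=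
    { total := Y
      f := f
      flat := hf
      i := i
      isPullback := by
        rw [show ArtFun.Art.specRes (R.quot _ hK) = Spec.map (CommRingCat.ofHom e.toRingHom) from
          congrArg (fun g : _ →ₐ[k] k => Spec.map (CommRingCat.ofHom g.toRingHom)) hres]
        exact hY }
  haveI := h2
  have h0 : Groth.Agent.H9DefObs.obsClass ξ hp = 0 := @Subsingleton.elim _ (by
    refine ⟨fun a b => ?_⟩
    have hz : ∀ z : Abelian.Ext.{u} (Omega.sheaf (X ↘ Spec (CommRingCat.of k))) (Coh.structureModule X) 2 ⊗[k]
        ↥(RingHom.ker p.toAlgHom), z = 0 := fun z => by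
      induction z using TensorProduct.induction_on with
      | zero => rfl
      | tmul v j => rw [Subsingleton.elim v 0, TensorProduct.zero_tmul]
      | add a b ha hb => rw [ha, hb, add_zero]
    rw [hz a, hz b]) _ _
  obtain ⟨u', hu'⟩ := (Groth.Agent.H9DefObs.obsClass_eq_zero_iff ξ hp).1 h0
  obtain ⟨ξ', rfl⟩ := Groth.Agent.DefGlueLib.cl_surjective u'
  obtain ⟨φ⟩ := Groth.Agent.DefGlueLib.cl_eq_iff.1 hu'
  refine ⟨ξ'.total, ξ'.f, φ.iso.inv ≫ pullback.fst _ _, ξ'.flat, ?_⟩
  refine (IsPullback.of_hasPullback ξ'.f (ArtFun.Art.specMap p)).of_iso φ.iso (Iso.refl _) (Iso.refl _) (Iso.refl _)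
    ?_ ?_ ?_ ?_
  · simp
  · simpa using φ.hom_f.symm
  · simp
  · simp; rfl
end Groth.Agent.S11290
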