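import Groth.Statements.S12422
-- import your own Groth.Agent.* helpers here
import Groth.Agent.H4NS.RegOmega

set_option autoImplicit false
set_option linter.style.haveILetI false
set_option backward.isDefEq.respectTransparency false
set_option backward.isDefEq.respectTransparency.types false
universe u
open CategoryTheory CategoryTheory.Limits AlgebraicGeometry
open NonsingVar

namespace Groth.Agent.S12422

/-- Let k be an algebraically closed field, X an irreducible scheme which is separated and of finite
type over k, n = dim X, and (Ω, d) a sheaf of relative differentials of X over k, i.e. d : O_X → Ω a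
universal k-derivation. Then Ω is locally free of rank n if and only if every local ring of X is
regular (X is a nonsingular variety over k). -/
theorem result (k : Type u) [Field k] [IsAlgClosed k] (n : ℕ)
    (X : Scheme.{u}) [X.Over (Spec (CommRingCat.of k))] [IrreducibleSpace ↥X]
    [IsSeparated (X ↘ (Spec (CommRingCat.of k)))] [LocallyOfFiniteType (X ↘ (Spec (CommRingCat.of k)))]
    [QuasiCompact (X ↘ (Spec (CommRingCat.of k)))]
    (hn : topologicalKrullDim ↥X = (n : WithBot ℕ∞))
    (Ω : X.Modules) (d : OmegaSh.Der (X ↘ (Spec (CommRingCat.of k))) Ω) (hd : OmegaSh.IsUniversal d) :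
    FlatMod.IsFinLocFreeOfRank n Ω ↔ ∀ x : ↥X, IsRegularLocalRing ↑(X.presheaf.stalk x) := by
  let f := X ↘ (Spec (CommRingCat.of k))
  haveI : IsLocallyNoetherian (Spec (CommRingCat.of k)) := inferInstance
  haveI : IsLocallyNoetherian X := LocallyOfFiniteType.isLocallyNoetherian f
  haveI : LocallyOfFinitePresentation f := inferInstance
  haveI : JacobsonSpace X := LocallyOfFiniteType.jacobsonSpace f
  constructor
  · intro hfree
    have hcl : ∀ z : X, IsClosed ({z} : Set X) → IsRegularLocalRing (X.presheaf.stalk z) := by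
      intro z hz
      obtain ⟨U, hzU, ⟨e⟩⟩ := hfree z
      exact (H4NS.isRegularLocalRing_iff_of_free f hd hn e hzU hz).2 rfl
    intro x
    by_contra hx
    have hne : ((f.smoothLocus : Set X)ᶜ).Nonempty :=
      ⟨x, fun h => hx ((SmoothReg.mem_smoothLocus_iff_isRegularLocalRing f x).1 h)⟩
    obtain ⟨z, hz, hzc⟩ := nonempty_inter_closedPoints hne f.smoothLocus.2.isClosed_compl.isLocallyClosed
    exact hz ((SmoothReg.mem_smoothLocus_iff_isRegularLocalRing f z).2 (hcl z hzc))
  · intro hreg x
    haveI : Smooth f := Scheme.Hom.smoothLocus_eq_top_iff.1 <| eq_top_iff.2 fun z _ =>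
      (SmoothReg.mem_smoothLocus_iff_isRegularLocalRing f z).2 (hreg z)
    obtain ⟨U, m, hxU, ⟨e⟩, -⟩ := S5019.result f Ω d hd x
    obtain ⟨z, hzU, hzc⟩ := nonempty_inter_closedPoints (Z := (U : Set X)) ⟨x, hxU⟩ U.2.isLocallyClosed
    obtain rfl := (H4NS.isRegularLocalRing_iff_of_free f hd hn e hzU hzc).1 (hreg z)
    exact ⟨U, hxU, ⟨e⟩⟩

end Groth.Agent.S12422
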