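import Groth.Statements.S12423
-- import your own Groth.Agent.* helpers here
import Groth.Agent.H4NS.KernelLocFree
import Groth.Agent.H4NS.RegOmega
import Groth.Agent.PPSheaf.GrCoh
import Groth.Agent.Synt29.ConormalSeq
import Groth.Agent.KRRReg.LamPull
import Groth.Agent.KRRReg.ConormalRank
import Groth.Agent.S12422
import Groth.Agent.S5020
import Groth.Agent.S1488
import Groth.Agent.S9370

set_option autoImplicit false
set_option linter.style.haveILetI false
set_option backward.isDefEq.respectTransparency false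
set_option backward.isDefEq.respectTransparency.types false
universe u
open CategoryTheory CategoryTheory.Limits AlgebraicGeometry
open NonsingVar

namespace Groth.Agent.S12423

/-- On a connected scheme a finite locally free module has a rank. -/
theorem exists_rank {X : AlgebraicGeometry.Scheme.{u}} [PreconnectedSpace X] [Nonempty X]
    {M : X.Modules} (h : FlatMod.IsFinLocFree M) : ∃ n, FlatMod.IsFinLocFreeOfRank n M := by
  obtain ⟨x₀⟩ := ‹Nonempty X›
  refine ⟨Module.finrank (X.presheaf.stalk x₀) (M.presheaf.stalk x₀), fun x => ?_⟩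
  obtain ⟨U, m, hxU, ⟨e⟩⟩ := h x
  obtain ⟨_, ⟨V, hV, rfl⟩, hxV, hle⟩ := X.isBasis_affineOpens.exists_subset_of_mem_open hxU U.2
  obtain ⟨l⟩ := Groth.Agent.QCoh.free_sections hV hle e
  have h1 := Groth.Agent.QCoh.finrank_stalk_of_freeChart hV (Groth.Agent.QCoh.isQCoh_of_isFinLocFree h) l hxV
  rw [← (Groth.Agent.QCoh.isLocallyConstant_rank h).apply_eq_of_preconnectedSpace x x₀, h1]
  exact ⟨U, hxU, ⟨e⟩⟩

/-- Let k be an algebraically closed field, X a nonsingular variety over k (integral, separated and of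
finite type over k, all local rings regular) of dimension n, i : Y → X an irreducible closed
subscheme of dimension q with ideal sheaf I, (Ω_X, d_X) and (Ω_Y, d_Y) sheaves of differentials of X
and Y over k (universal derivations), and φ : I/I² → i^*Ω_X the canonical map from the conormal
sheaf (class of a local section s of I ↦ pullback of d_X s). Then Y is nonsingular if and only if
(1) Ω_Y is locally free and (2) φ is a monomorphism (the conormal sequence 0 → I/I² → i^*Ω_X → Ω_Y →
0 is exact on the left too). Moreover in that case I/I² is locally free of rank n − q, the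
codimension of Y. (The clause that I is then locally generated by n − q sections is not restated.) -/
theorem result (k : Type u) [Field k]
    [IsAlgClosed k] (n q : ℕ)
    (X : Scheme.{u}) [X.Over (Spec (CommRingCat.of k))] [IsIntegral X] [IsSeparated (X ↘ (Spec (CommRingCat.of k)))]
    [LocallyOfFiniteType (X ↘ (Spec (CommRingCat.of k)))] [QuasiCompact (X ↘ (Spec (CommRingCat.of k)))]
    (hreg : ∀ x : ↥X, IsRegularLocalRing ↑(X.presheaf.stalk x))
    (hn : topologicalKrullDim ↥X = (n : WithBot ℕ∞))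
    (Y : Scheme.{u}) (i : Y ⟶ X) [IsClosedImmersion i] [IrreducibleSpace ↥Y]
    (hq : topologicalKrullDim ↥Y = (q : WithBot ℕ∞))
    (ΩX : X.Modules) (dX : OmegaSh.Der (X ↘ (Spec (CommRingCat.of k))) ΩX) (hX : OmegaSh.IsUniversal dX)
    (ΩY : Y.Modules) (dY : OmegaSh.Der (i ≫ (X ↘ (Spec (CommRingCat.of k)))) ΩY) (hY : OmegaSh.IsUniversal dY)
    (φ : Omega.conormal i ⟶ (Scheme.Modules.pullback i).obj ΩX) (hφ : OmegaSh.IsConormalDiff i dX φ) :
    ((∀ y : ↥Y, IsRegularLocalRing ↑(Y.presheaf.stalk y)) ↔ (FlatMod.IsFinLocFree ΩY ∧ Mono φ)) ∧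
      ((∀ y : ↥Y, IsRegularLocalRing ↑(Y.presheaf.stalk y)) →
        FlatMod.IsFinLocFreeOfRank (n - q) (Omega.conormal i)) := by
  let f := X ↘ (Spec (CommRingCat.of k))
  letI : Y.Over (Spec (CommRingCat.of k)) := ⟨i ≫ f⟩
  haveI : IsLocallyNoetherian X := LocallyOfFiniteType.isLocallyNoetherian f
  haveI : IsLocallyNoetherian Y := LocallyOfFiniteType.isLocallyNoetherian (i ≫ f)
  haveI : IsSeparated (Y ↘ Spec (CommRingCat.of k)) := inferInstanceAs (IsSeparated (i ≫ f))
  haveI : LocallyOfFiniteType (Y ↘ Spec (CommRingCat.of k)) := inferInstanceAs (LocallyOfFiniteType (i ≫ f))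
  haveI : QuasiCompact (Y ↘ Spec (CommRingCat.of k)) := inferInstanceAs (QuasiCompact (i ≫ f))
  have hX' : FlatMod.IsFinLocFreeOfRank n ΩX := (S12422.result k n X hn ΩX dX hX).2 hreg
  have h₂ := KRRReg.isFinLocFreeOfRank_pullback i hX'
  have h₂' : FlatMod.IsFinLocFree ((Scheme.Modules.pullback i).obj ΩX) := fun y =>
    let ⟨U, hy, he⟩ := h₂ y; ⟨U, n, hy, he⟩
  obtain ⟨c, hc, -⟩ := S9370.result f (i ≫ f) i (𝟙 _) (Category.comp_id _) ΩX dX hX ΩY dY hY
  haveI : Epi c := Synt29.ConormalSeq.epi_diffCompat f i _ _ hX _ _ hY c hc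
  have w := Synt29.ConormalSeq.comp_eq_zero f i _ _ _ _ φ hφ c hc
  have hseq : ∀ m, FlatMod.IsFinLocFreeOfRank m ΩY → Mono φ →
      FlatMod.IsFinLocFreeOfRank (n - m) (Omega.conormal i) ∧ m ≤ n := by
    intro m hm hmono
    have hS : (ShortComplex.mk φ c w).ShortExact :=
      { exact := Synt29.ConormalSeq.exact_conormal_diffCompat f i _ _ hX _ _ hY φ hφ c hc w
        mono_f := hmono
        epi_g := inferInstance }
    have key : ∀ y : Y, ∃ (U : Y.Opens) (e : ℕ), y ∈ U ∧ e + m = n ∧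
        Nonempty ((Omega.conormal i).restrict U.ι ≅ FlatMod.freeMod (U : Scheme.{u}) e) := by
      intro y
      obtain ⟨U₂, hy₂, ⟨e₂⟩⟩ := h₂ y
      obtain ⟨U₃, hy₃, ⟨e₃⟩⟩ := hm y
      exact H4NS.exists_free_X₁ hS (QCoh.isQCoh_pullback i (PPSheaf.GrCoh.isQCoh_idealMod _)) h₂'
        (fun z => let ⟨U, hz, he⟩ := hm z; ⟨U, m, hz, he⟩) hy₂ hy₃ e₂ e₃
    refine ⟨fun y => ?_, ?_⟩
    · obtain ⟨U, e, hy, he, hU⟩ := key y
      obtain rfl : e = n - m := by omega
      exact ⟨U, hy, hU⟩
    · obtain ⟨U, e, hy, he, hU⟩ := key (Classical.arbitrary Y)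
      omega
  have hfwd : (∀ y : ↥Y, IsRegularLocalRing ↑(Y.presheaf.stalk y)) →
      FlatMod.IsFinLocFreeOfRank q ΩY ∧ Mono φ := by
    intro hYreg
    haveI : JacobsonSpace Y := LocallyOfFiniteType.jacobsonSpace (i ≫ f)
    haveI : Smooth (i ≫ f) := Scheme.Hom.smoothLocus_eq_top_iff.1 <| eq_top_iff.2 fun z _ =>
      (SmoothReg.mem_smoothLocus_iff_isRegularLocalRing (i ≫ f) z).2 (hYreg z)
    exact ⟨(S12422.result k q Y hq ΩY dY hY).2 hYreg,
      S5020.result i f ((S1488.result (i ≫ f)).1 inferInstance).2 _ _ hX φ hφ⟩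
  refine ⟨⟨fun h => ⟨fun y => let ⟨U, hy, he⟩ := (hfwd h).1 y; ⟨U, q, hy, he⟩, (hfwd h).2⟩, ?_⟩,
    fun h => (hseq q (hfwd h).1 (hfwd h).2).1⟩
  rintro ⟨hfree, hmono⟩
  obtain ⟨m, hm⟩ := exists_rank hfree
  obtain ⟨hC, hmn⟩ := hseq m hm hmono
  haveI : JacobsonSpace Y := LocallyOfFiniteType.jacobsonSpace (i ≫ f)
  obtain ⟨y, -, hyc⟩ := nonempty_inter_closedPoints (Z := (Set.univ : Set Y)) Set.univ_nonempty
    isOpen_univ.isLocallyClosed
  have hiy : IsClosed ({i y} : Set X) := by
    simpa using i.isClosedEmbedding.isClosedMap _ hyc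
  obtain ⟨U, hyU, ⟨e⟩⟩ := hm y
  have h1 := H4NS.finrank_cotangentSpace_stalk (i ≫ f) hY e hyU hyc
  have h2 : ringKrullDim (Y.presheaf.stalk y) = q :=
    (SmoothReg.ringKrullDim_stalk_closedPoint (i ≫ f) hyc).trans hq
  have h3 : ringKrullDim (X.presheaf.stalk (i y)) = n :=
    (SmoothReg.ringKrullDim_stalk_closedPoint f hiy).trans hn
  obtain ⟨a, ha⟩ := KRRReg.exists_gens_card_rank i hC y
  have h4 := ringKrullDim_le_ringKrullDim_quotient_add_spanFinrank (RingHom.ker (i.stalkMap y).hom)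
    ((IsLocalRing.le_maximalIdeal (RingHom.ker_ne_top _)).trans (IsLocalRing.ringJacobson_eq_maximalIdeal _).ge)
  rw [h3, ringKrullDim_eq_of_ringEquiv (RingHom.quotientKerEquivOfSurjective (i.stalkMap_surjective y)),
    h2] at h4
  have h5 : (RingHom.ker (i.stalkMap y).hom).spanFinrank ≤ n - m := by
    rw [← ha]
    refine (Submodule.spanFinrank_span_le_ncard_of_finite (Set.finite_range a)).trans ?_
    rw [← Set.image_univ]
    exact (Set.ncard_image_le Set.finite_univ).trans (by simp)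
  have h6 := ringKrullDim_le_spanFinrank_maximalIdeal (Y.presheaf.stalk y)
  rw [h1, h2, Nat.cast_le] at h6
  have h7 : n ≤ q + (n - m) := by
    have h8 : (n : WithBot ℕ∞) ≤ ((q + (n - m) : ℕ) : WithBot ℕ∞) := by
      push_cast
      exact h4.trans (add_le_add le_rfl (by exact_mod_cast h5))
    exact_mod_cast h8
  obtain rfl : m = q := by omega
  exact (S12422.result k m Y hq ΩY dY hY).1 hm

end Groth.Agent.S12423
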