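import Groth.Statements.S11310
import Groth.Agent.ExtShX.Adjunction
import Groth.Agent.S12422
import Groth.Agent.S12423

set_option autoImplicit false
universe u
open CategoryTheory CategoryTheory.Limits AlgebraicGeometry
open NonsingVar

namespace Groth.Agent.S11310

/-- Let k be an algebraically closed field, X a nonsingular variety over k (integral, separated and of
finite type over k, all local rings regular) of dimension m + r, and i : Y → X a nonsingular closed
subvariety (integral closed subscheme with regular local rings) of dimension m, so of codimension r,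
with conormal sheaf I/I². Let ω_X be an (m + r)-th exterior power of the sheaf of differentials of X
over k, ω_Y an m-th exterior power of that of Y over k, and L an r-th exterior power of the conormal
sheaf. Then i^*ω_X and ω_Y ⊗ L are isomorphic O_Y-modules (existence of an isomorphism only; the
published statement also names no map). Since L is invertible with dual the r-th exterior power of
the normal sheaf N = (I/I²)^∨, this is the adjunction formula ω_Y ≅ ω_X ⊗ ∧^r N; for r = 1 it reads
ω_Y ≅ ω_X ⊗ L(Y) ⊗ O_Y. -/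
theorem result (k : Type u) [Field k] [IsAlgClosed k]
    (m r : ℕ) (X : Scheme.{u}) [X.Over (Spec (CommRingCat.of k))] [IsIntegral X] [IsSeparated (X ↘ (Spec (CommRingCat.of k)))]
    [LocallyOfFiniteType (X ↘ (Spec (CommRingCat.of k)))] [QuasiCompact (X ↘ (Spec (CommRingCat.of k)))]
    (hreg : ∀ x : ↥X, IsRegularLocalRing ↑(X.presheaf.stalk x))
    (hX : topologicalKrullDim ↥X = ((m + r : ℕ) : WithBot ℕ∞))
    (Y : Scheme.{u}) (i : Y ⟶ X) [IsClosedImmersion i] [IsIntegral Y]
    (hregY : ∀ y : ↥Y, IsRegularLocalRing ↑(Y.presheaf.stalk y))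
    (hY : topologicalKrullDim ↥Y = (m : WithBot ℕ∞))
    (ωX : X.Modules) (hωX : ExtPow.IsExtPow (m + r) (Omega.sheaf (X ↘ (Spec (CommRingCat.of k)))) ωX)
    (ωY : Y.Modules) (hωY : ExtPow.IsExtPow m (Omega.sheaf (i ≫ (X ↘ (Spec (CommRingCat.of k))))) ωY)
    (L : Y.Modules) (hL : ExtPow.IsExtPow r (Omega.conormal i) L) :
    Nonempty ((Scheme.Modules.pullback i).obj ωX ≅ CohB1.tensorMod ωY L) := by
  let f := X ↘ (Spec (CommRingCat.of k))
  haveI : IsLocallyNoetherian X := LocallyOfFiniteType.isLocallyNoetherian f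
  haveI : IsLocallyNoetherian Y := LocallyOfFiniteType.isLocallyNoetherian (i ≫ f)
  haveI : LocallyOfFinitePresentation f := inferInstance
  haveI : LocallyOfFinitePresentation (i ≫ f) := inferInstance
  haveI : Smooth f := Scheme.Hom.smoothLocus_eq_top_iff.1 <| eq_top_iff.2 fun z _ =>
    (Groth.Agent.SmoothReg.mem_smoothLocus_iff_isRegularLocalRing f z).2 (hreg z)
  haveI : Smooth (i ≫ f) := Scheme.Hom.smoothLocus_eq_top_iff.1 <| eq_top_iff.2 fun z _ =>
    (Groth.Agent.SmoothReg.mem_smoothLocus_iff_isRegularLocalRing (i ≫ f) z).2 (hregY z)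
  obtain ⟨φ, c, w, hse⟩ := Groth.Agent.ExtShX.exists_conormal_shortExact f i
  letI : Y.Over (Spec (CommRingCat.of k)) := ⟨i ≫ f⟩
  haveI : IsSeparated (Y ↘ Spec (CommRingCat.of k)) := inferInstanceAs (IsSeparated (i ≫ f))
  haveI : LocallyOfFiniteType (Y ↘ Spec (CommRingCat.of k)) := inferInstanceAs (LocallyOfFiniteType (i ≫ f))
  haveI : QuasiCompact (Y ↘ Spec (CommRingCat.of k)) := inferInstanceAs (QuasiCompact (i ≫ f))
  have hu := Groth.Agent.OmegaUniv.isUniversal_dOmega f
  have hv := Groth.Agent.OmegaUniv.isUniversal_dOmega (i ≫ f)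
  obtain ⟨φ', hφ'⟩ := Groth.Agent.GrpOmega.exists_conormalDiff f i _ (OmegaSh.dOmega f)
  have hC := (Groth.Agent.S12423.result k (m + r) m X hreg hX Y i hY _ _ hu _ _ hv φ' hφ').2 hregY
  rw [Nat.add_sub_cancel_left] at hC
  exact Groth.Agent.ExtShX.nonempty_det_tensor hse (Nat.add_comm r m) hC
    ((Groth.Agent.S12422.result k m Y hY _ _ hv).2 hregY)
    (Groth.Agent.QCoh.isQCoh_pullback i (Groth.Agent.OmegaUniv.isQCoh_omega f)) hL hωY
    (Groth.Agent.ExtPowSh.isExtPow_pullback i (Groth.Agent.OmegaUniv.isQCoh_omega f) hωX)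

end Groth.Agent.S11310
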