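import Groth.Statements.S11323
import Groth.Agent.ExtShX.PointStalk

set_option autoImplicit false
universe u
open CategoryTheory AlgebraicGeometry TopologicalSpace
open Coherent

namespace Groth.Agent.S11323

set_option linter.style.haveILetI false
set_option backward.isDefEq.respectTransparency false
set_option backward.isDefEq.respectTransparency.types false
set_option maxHeartbeats 1000000


/-- Let X be a Noetherian scheme, F a coherent O_X-module, G any O_X-module, x a point of X and i ≥ 0.
Then the stalk at x of the Ext sheaf Ext^i(F, G) — the i-th right derived functor of the internal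
Hom functor Hom(F, -) on O_X-modules (its existence and that of injective resolutions are the stated
instance hypotheses, both true), evaluated at G — is isomorphic, as a module over the local ring at
x, to Ext^i of the stalks F_x, G_x computed in the category of modules over that local ring. (Stalks
are taken as fibres at the point of the site of opens given by x; existence of an isomorphism only.) -/
theorem result (X : Scheme.{u}) [IsNoetherian X]
    (F G : X.Modules) (hF : Coh.IsCoh F)
    [ModSite.HasSheafHom (O := X.sheaf) F] [HasInjectiveResolutions (ModSite.Mod X.sheaf)]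
    (x : X) (i : ℕ) :
    Nonempty (ModSite.stalkMod (Opens.pointGrothendieckTopology x) ((ModSite.extSh (O := X.sheaf) F i).obj G)
      ≃ₗ[ModSite.stalkRing (Opens.pointGrothendieckTopology x) X.sheaf]
      Abelian.Ext (ModSite.stalkMod (O := X.sheaf) (Opens.pointGrothendieckTopology x) F)
        (ModSite.stalkMod (O := X.sheaf) (Opens.pointGrothendieckTopology x) G) i) := by
  obtain ⟨a⟩ := Groth.Agent.ExtShX.extSh_iso F i G
  obtain ⟨l⟩ := Groth.Agent.ExtShX.exists_stalk_ext_linear hF G x i
  obtain ⟨Φ, hΦ⟩ := Groth.Agent.ExtShX.exists_ext_semilinear (Groth.Agent.ExtShX.pointRing x)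
    (M := (DerSch.stalkFunctor X x).obj F) (N := (DerSch.stalkFunctor X x).obj G)
    (M' := ModSite.stalkMod (O := X.sheaf) (Opens.pointGrothendieckTopology x) F)
    (N' := ModSite.stalkMod (O := X.sheaf) (Opens.pointGrothendieckTopology x) G)
    (Groth.Agent.ExtShX.pointStalk F x) (Groth.Agent.ExtShX.pointStalk G x)
    (Groth.Agent.ExtShX.pointStalk_smul F x) (Groth.Agent.ExtShX.pointStalk_smul G x) i
  let H : X.Modules := (ModSite.extSh (O := X.sheaf) F i).obj G
  let ψ : H.presheaf.stalk x ≃ₗ[X.presheaf.stalk x] _ :=
    ((DerSch.stalkFunctor X x).mapIso a).toLinearEquiv.trans l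
  let t := Groth.Agent.ExtShX.pointStalk H x
  refine ⟨{ t.symm.trans (ψ.toAddEquiv.trans Φ) with map_smul' := fun r m => ?_ }⟩
  obtain ⟨r, rfl⟩ := (Groth.Agent.ExtShX.pointRing x).surjective r
  obtain ⟨m, rfl⟩ := t.surjective m
  show Φ (ψ (t.symm (Groth.Agent.ExtShX.pointRing x r • t m))) = Groth.Agent.ExtShX.pointRing x r • Φ (ψ (t.symm (t m)))
  rw [← Groth.Agent.ExtShX.pointStalk_smul H x r m, t.symm_apply_apply, t.symm_apply_apply, map_smul ψ]
  exact hΦ r _

end Groth.Agent.S11323
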