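import Groth.Statements.S6033
import Groth.Agent.S6032
import Groth.Agent.S6023

set_option autoImplicit false
universe u
open CategoryTheory CategoryTheory.Limits TopologicalSpace AlgebraicGeometry
open LocCohZ

namespace Groth.Agent.S6033

theorem exists_list {A : Type u} [CommRing A] [NoetherianSpace (PrimeSpectrum A)]
    (U : (Spec (CommRingCat.of A)).Opens) :
    ∃ fs : List A, U = LocCoh.puncturedOpen A (Ideal.span {a | a ∈ fs}) := by
  obtain ⟨t, ht⟩ := PrimeSpectrum.isCompact_isOpen_iff.1
    ⟨NoetherianSpace.isCompact (α := PrimeSpectrum A) (U.carrier : Set (PrimeSpectrum A)), U.2⟩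
  refine ⟨t.toList, TopologicalSpace.Opens.ext ?_⟩
  show U.carrier = (PrimeSpectrum.zeroLocus (R := A) _)ᶜ
  rw [PrimeSpectrum.zeroLocus_span]
  refine ht.symm.trans ?_
  congr 2
  ext a
  simp

theorem subsingleton_koszul {A : Type u} [CommRing A] (fs : List A) (M : Type u) [AddCommGroup M] [Module A M]
    (h : TopCat.Sheaf.IsFlasque (Coh.toAb (AlgebraicGeometry.tilde (R := CommRingCat.of A) (ModuleCat.of A M))))
    (i : ℕ) (hi : 0 < i) : Subsingleton (CohIII.koszulHLim fs (ModuleCat.of A M) i) := by
  obtain ⟨e⟩ := Groth.Agent.S6032.result A fs M i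
  haveI := (@Groth.Agent.S6023.result _ (Coh.toAb (AlgebraicGeometry.tilde (R := CommRingCat.of A) (ModuleCat.of A M))) h).1 _ _
    (le_top : LocCoh.puncturedOpen A (Ideal.span {a | a ∈ fs}) ≤ ⊤) i hi
  exact e.toEquiv.subsingleton

theorem isFlasque_of_koszul {A : Type u} [CommRing A] [NoetherianSpace (PrimeSpectrum A)]
    (M : Type u) [AddCommGroup M] [Module A M]
    (h : ∀ fs : List A, Subsingleton (CohIII.koszulHLim fs (ModuleCat.of A M) 1)) :
    TopCat.Sheaf.IsFlasque (Coh.toAb (AlgebraicGeometry.tilde (R := CommRingCat.of A) (ModuleCat.of A M))) := by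
  let F := AlgebraicGeometry.tilde (R := CommRingCat.of A) (ModuleCat.of A M)
  have hsurj : ∀ U : (Spec (CommRingCat.of A)).Opens,
      Function.Surjective ((Coh.toAb F).obj.map (homOfLE (le_top : U ≤ ⊤)).op) := by
    intro U s
    obtain ⟨fs, rfl⟩ := exists_list U
    obtain ⟨e⟩ := Groth.Agent.S6032.result A fs M 1
    haveI := h fs
    haveI := e.symm.toEquiv.subsingleton
    obtain ⟨z, hz⟩ := Groth.Agent.LCZLib.exact_delta
      (X := (Spec (CommRingCat.of A)).toPresheafedSpace.carrier) (Coh.toAb F)
      (le_top : LocCoh.puncturedOpen A (Ideal.span {a | a ∈ fs}) ≤ ⊤) 0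
      (Groth.Agent.KCLib.secU (Coh.toAb F) _ s) (Subsingleton.elim _ _)
    obtain ⟨t, rfl⟩ := (Groth.Agent.KCLib.secU (Coh.toAb F) ⊤).surjective z
    exact ⟨t, (Groth.Agent.KCLib.secU (Coh.toAb F) _).injective
      ((Groth.Agent.KCLib.res_secU (Coh.toAb F) le_top t).symm.trans hz)⟩
  refine ⟨fun {U V} i => (AddCommGrpCat.epi_iff_surjective _).2 fun s => ?_⟩
  obtain ⟨t, ht⟩ := hsurj V.unop s
  refine ⟨(Coh.toAb F).obj.map (homOfLE (le_top : U.unop ≤ ⊤)).op t, ?_⟩
  refine Eq.trans ?_ ht
  rw [← ConcreteCategory.comp_apply, ← Functor.map_comp]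
  rfl

/-- Let A be a commutative ring such that the underlying space of X = Spec A is Noetherian. Then M~ is
flasque for every injective A-module M if and only if colim_n H^1(f^n, M) = 0 (direct limit of
Koszul cohomology of the powers) for every finite family f of elements of A and every injective
A-module M; and in that case colim_n H^i(f^n, M) = 0 for all i > 0 as well. -/
theorem result (A : Type u) [CommRing A]
    [NoetherianSpace (PrimeSpectrum A)] :
    ((∀ (M : Type u) [AddCommGroup M] [Module A M], Module.Injective A M →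
        TopCat.Sheaf.IsFlasque (Coh.toAb (AlgebraicGeometry.tilde (R := CommRingCat.of A) (ModuleCat.of A M)))) ↔
      ∀ (fs : List A) (M : Type u) [AddCommGroup M] [Module A M], Module.Injective A M →
        Subsingleton (CohIII.koszulHLim fs (ModuleCat.of A M) 1)) ∧
    ((∀ (M : Type u) [AddCommGroup M] [Module A M], Module.Injective A M →
        TopCat.Sheaf.IsFlasque (Coh.toAb (AlgebraicGeometry.tilde (R := CommRingCat.of A) (ModuleCat.of A M)))) →
      ∀ (fs : List A) (M : Type u) [AddCommGroup M] [Module A M], Module.Injective A M →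
        ∀ i : ℕ, 0 < i → Subsingleton (CohIII.koszulHLim fs (ModuleCat.of A M) i)) := by
  refine ⟨⟨fun h fs M _ _ hM => subsingleton_koszul fs M (h M hM) 1 one_pos,
    fun h M _ _ hM => isFlasque_of_koszul M fun fs => h fs M hM⟩,
    fun h fs M _ _ hM i hi => subsingleton_koszul fs M (h M hM) i hi⟩

end Groth.Agent.S6033
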