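import Groth.Statements.S11333
import Groth.Agent.CurveFrob.Basic
import Groth.Agent.CurveCohLib.RegularCurve

set_option linter.style.haveILetI false
set_option backward.isDefEq.respectTransparency false
set_option backward.isDefEq.respectTransparency.types false
set_option autoImplicit false
universe u
open CategoryTheory CategoryTheory.Limits AlgebraicGeometry
open Curves

namespace Groth.Agent.S11333

/-- Let f : X → Y be a finite morphism over k of curves over an algebraically closed field k (integral,
proper over k, of dimension one, all local rings regular), sending the generic point of X to that of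
Y, such that the function field extension K(X)/K(Y) is purely inseparable. Then X and Y are
isomorphic as schemes (the isomorphism need not be compatible with the k-structures; existence of an
isomorphism only). -/
theorem result (k : Type u) [Field k] [IsAlgClosed k] (X : Scheme.{u}) [X.Over (Spec (CommRingCat.of k))]
    [IsIntegral X] [IsProper (X ↘ (Spec (CommRingCat.of k)))] (hdimX : topologicalKrullDim X = 1)
    (hregX : ∀ x : X, IsRegularLocalRing (X.presheaf.stalk x))
    (Y : Scheme.{u}) [Y.Over (Spec (CommRingCat.of k))]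
    [IsIntegral Y] [IsProper (Y ↘ (Spec (CommRingCat.of k)))] (hdimY : topologicalKrullDim Y = 1)
    (hregY : ∀ x : Y, IsRegularLocalRing (Y.presheaf.stalk x))
    (f : X ⟶ Y) [IsFinite f] (hf : f ≫ (Y ↘ (Spec (CommRingCat.of k))) = X ↘ (Spec (CommRingCat.of k)))
    (e : f (genericPoint X) = genericPoint Y) :
    letI := ((Y.presheaf.stalkSpecializes (specializes_of_eq e) ≫ f.stalkMap (genericPoint X)).hom).toAlgebra
    IsPurelyInseparable Y.functionField X.functionField → Nonempty (X ≅ Y) := by
  intro hpi
  haveI : Smooth (X ↘ Spec (CommRingCat.of k)) :=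
    Groth.Agent.CurveCohLib.RegularCurve.smooth_of_regular k fun x _ => hregX x
  haveI : Smooth (Y ↘ Spec (CommRingCat.of k)) :=
    Groth.Agent.CurveCohLib.RegularCurve.smooth_of_regular k fun x _ => hregY x
  letI := ((Y.presheaf.stalkSpecializes (specializes_of_eq e) ≫ f.stalkMap (genericPoint X)).hom).toAlgebra
  letI : Algebra k X.functionField := Groth.Agent.CurveFF.ffAlg k X
  letI : Algebra k Y.functionField := Groth.Agent.CurveFF.ffAlg k Y
  let fX := X ↘ Spec (CommRingCat.of k)
  let fY := Y ↘ Spec (CommRingCat.of k)
  let u : Y.functionField ⟶ X.functionField :=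
    Y.presheaf.stalkSpecializes (specializes_of_eq e) ≫ f.stalkMap (genericPoint X)
  have hu : Groth.Agent.CurveLuroth.ffC fY ≫ u = Groth.Agent.CurveLuroth.ffC fX := by
    apply Spec.map_injective
    simp only [u, Spec.map_comp, Category.assoc, Groth.Agent.CurveLuroth.spec_ffC]
    rw [Scheme.SpecMap_stalkSpecializes_fromSpecStalk_assoc, Scheme.SpecMap_stalkMap_fromSpecStalk_assoc]
    exact congrArg _ hf
  haveI : IsScalarTower k Y.functionField X.functionField := IsScalarTower.of_algebraMap_eq fun c => by
    show Curv2.stalkMap k X (genericPoint X) c = u.hom (Curv2.stalkMap k Y (genericPoint Y) c)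
    rw [← Groth.Agent.CurveFrob.ffC_apply X c, ← Groth.Agent.CurveFrob.ffC_apply Y c]
    exact congr($(hu.symm) c)
  haveI : IsPurelyInseparable Y.functionField X.functionField := hpi
  haveI := Groth.Agent.CurveFF.essFiniteType k X hdimX
  obtain ⟨τ, φ, hφ⟩ := Groth.Agent.CurveFrob.exists_frob_equiv (k := k) (K := X.functionField)
    (L := Y.functionField) (Groth.Agent.CurveFF.trdeg_eq_one k X hdimX)
  let τ' : CommRingCat.of k ≅ CommRingCat.of k := τ.toCommRingCatIso
  let fX' := fX ≫ Spec.map τ'.hom
  haveI : IsProper fX := inferInstanceAs (IsProper (X ↘ Spec (CommRingCat.of k)))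
  haveI : IsProper fY := inferInstanceAs (IsProper (Y ↘ Spec (CommRingCat.of k)))
  haveI : IsProper fX' := inferInstance
  have hX' : Groth.Agent.CurveLuroth.ffC fX' = τ'.hom ≫ Groth.Agent.CurveLuroth.ffC fX := by
    apply Spec.map_injective
    simp only [fX', Spec.map_comp, Category.assoc, Groth.Agent.CurveLuroth.spec_ffC]
  have hv : ∀ (Z : Scheme.{u}) [Z.Over (Spec (CommRingCat.of k))] [IsIntegral Z]
      [IsProper (Z ↘ Spec (CommRingCat.of k))], topologicalKrullDim Z = 1 →
      (∀ z : Z, IsRegularLocalRing (Z.presheaf.stalk z)) → ∀ z : Z, ValuationRing (Z.presheaf.stalk z) :=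
    fun Z _ _ _ hd hr => Groth.Agent.CurveLuroth.valuationRing_stalk (k := k) hd fun z hz => by
      haveI : Smooth (Z ↘ Spec (CommRingCat.of k)) :=
        Groth.Agent.CurveCohLib.RegularCurve.smooth_of_regular k fun x _ => hr x
      haveI := Groth.Agent.CurveFF.isDVR k Z hd hz
      infer_instance
  obtain ⟨i, -⟩ := Groth.Agent.CurveLuroth.exists_iso_of_functionField fY fX' (hv Y hdimY hregY) (hv X hdimX hregX)
    φ.toCommRingCatIso (by
      rw [hX']
      ext c
      show φ ((Groth.Agent.CurveLuroth.ffC fY).hom c) = (Groth.Agent.CurveLuroth.ffC fX).hom (τ c)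
      exact ((congrArg φ (Groth.Agent.CurveFrob.ffC_apply Y c)).trans (hφ c)).trans
        (Groth.Agent.CurveFrob.ffC_apply X (τ c)).symm)
  exact ⟨i.symm⟩

end Groth.Agent.S11333
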