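import Groth.Statements.S11337
import Groth.Agent.CliffEq.Curve

set_option autoImplicit false
set_option linter.style.haveILetI false
set_option backward.isDefEq.respectTransparency false
set_option backward.isDefEq.respectTransparency.types false
set_option maxHeartbeats 1000000
-- import your own Groth.Agent.* helpers here

set_option autoImplicit false
universe u
open CategoryTheory CategoryTheory.Limits AlgebraicGeometry
open Curves

namespace Groth.Agent.S11337

/-- Let k be an algebraically closed field and X a curve over k (an integral scheme, proper over k, of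
dimension one, with all local rings regular), and L an invertible O_X-module with an inverse M such
that H^0(X, L) ≠ 0, H^0(X, Ω_{X/k} ⊗ M) ≠ 0, L is isomorphic neither to O_X nor to Ω_{X/k}, and 2
(dim_k H^0(X, L) - 1) = deg L. Then X is hyperelliptic and L is a multiple of the g^1_2: there is an
invertible module N of degree 2 with two k-linearly independent global sections (a g^1_2) such that
L ≅ N^{⊗ r} with r = dim_k H^0(X, L) - 1. (Only the implication from equality is stated here; the
converse, that on a hyperelliptic curve the effective special multiples of the g^1_2 attain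
equality, is not part of this statement.) -/
theorem result (k : Type u) [Field k] [IsAlgClosed k] (X : Scheme.{u}) [X.Over (Spec (CommRingCat.of k))]
    [IsIntegral X] [IsProper (X ↘ (Spec (CommRingCat.of k)))] (hdim : topologicalKrullDim X = 1)
    (hreg : ∀ x : X, IsRegularLocalRing (X.presheaf.stalk x))
    (L M : X.Modules) (hL : PicF.IsInvertible L) (hM : ClSub.IsInverseOf L M)
    (hs : Nontrivial (Coh.HH X L 0)) (hsp : Nontrivial (Coh.HH X (CohB1.tensorMod (Omega.sheaf (X ↘ (Spec (CommRingCat.of k)))) M) 0))
    (h0 : IsEmpty (L ≅ Coh.structureModule X)) (hK : IsEmpty (L ≅ (Omega.sheaf (X ↘ (Spec (CommRingCat.of k))))))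
    (heq : 2 * (Module.finrank k (Coh.HH X L 0) : ℤ) = Curv2.deg k X L 1 + 2) :
    ∃ (N : X.Modules) (s : Fin 2 → LinSer.Sect X N), LinSer.IsLinSer k X N 2 1 s ∧
      Nonempty (L ≅ CohB1.tensorPow N (Module.finrank k (Coh.HH X L 0) - 1)) := by
  open Groth.Agent in
  haveI := CurveCohLib.RegularCurve.smooth_of_regular k fun x _ => hreg x
  haveI := Groth.Agent.CurveCohLib.isNoetherian_of_proper (k := k) (X := X)
  have hM' := Groth.Agent.CurveFF.isInvertible_of_inverse k hdim hL hM
  have h1 := Groth.Agent.CurveFF.finrank_h1_pos k hdim hL hM hsp hM'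
  have h2 := Groth.Agent.CurveCohLib.Clifford.h0_add_h1_le k hdim hL hs h1
  have hdeg := Groth.Agent.CurveCohLib.Clifford.deg_eq k hdim hL
  haveI := Groth.Agent.CurveCohLib.finite_HH (k := k) (Groth.Agent.CurveDeg.isCoh_of_isInvertible hL) 0
  haveI := Groth.Agent.CurveCohLib.finite_HH (k := k) (Groth.Agent.CurveDeg.isCoh_of_isInvertible hL) 1
  haveI := hs
  haveI := h1
  have hp0 := Module.finrank_pos (R := k) (M := Coh.HH X L 0)
  have hp1 := Module.finrank_pos (R := k) (M := Coh.HH X L 1)
  have hr : 2 ≤ Module.finrank k (Coh.HH X L 0) := by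
    by_contra hlt
    obtain ⟨s, hsne⟩ := Groth.Agent.CurveRR.exists_hom_ne_zero k (P := L) (by omega)
    haveI : IsIso s := (Groth.Agent.CurveDeg.deg_le_and_isIso k hdim.le
      Groth.Agent.CurveDeg.isInvertible_structureModule hL s hsne).2 (by
        rw [Groth.Agent.CurveDeg.deg_structureModule]; omega)
    exact h0.false (asIso s).symm
  have hlt : Curv2.deg k X L 1 < 2 * (Curv2.genus k X : ℤ) - 2 := by
    by_contra hge
    obtain ⟨e⟩ := Groth.Agent.CurveBC.nonempty_iso_omega k X hdim
      (Groth.Agent.CurveCohLib.Clifford.finrank_h0_structure k) hL (by omega) (by omega)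
    exact hK.false e
  exact Groth.Agent.CliffEq.exists_g12 k hdim hL hr heq hlt

end Groth.Agent.S11337
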