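import Groth.Statements.S11343
import Groth.Agent.SurfRR.Divisors
import Groth.Agent.SurfRR.Chain
import Groth.Agent.Big.RealAmple
import Groth.Agent.CurveCohLib.RegularCurve
-- import your own Groth.Agent.* helpers here

set_option autoImplicit false
set_option backward.isDefEq.respectTransparency false
set_option backward.isDefEq.respectTransparency.types false
universe u
open CategoryTheory CategoryTheory.Limits AlgebraicGeometry
open Surf

namespace Groth.Agent.S11343

open Groth.Agent Groth.Agent.H23.PicMul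

/-- Let X be a surface over an algebraically closed field k (an integral scheme of dimension two with
all local rings regular, admitting a closed immersion into some P^n_k over k), and H an ample
invertible O_X-module. Some integer n₀ has the property that H^2(X, L) = 0 for every invertible
module L with (L·H) > n₀; here (L·H) = χ(O_X) - χ(L) - χ(H) + χ(L ⊗ H) is the intersection number
(packaged as FGA.intNum). -/
theorem result (k : Type u) [Field k] [IsAlgClosed k] (X : Scheme.{u}) [X.Over (Spec (CommRingCat.of k))]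
    [IsIntegral X] (hdim : topologicalKrullDim X = 2) (hreg : ∀ x : X, IsRegularLocalRing (X.presheaf.stalk x))
    (hproj : ∃ (n : ℕ) (ι : X ⟶ CohB1.ProjSpace n k), IsClosedImmersion ι ∧ ι ≫ CohB1.ProjSpace.toSpec n k = (X ↘ (Spec (CommRingCat.of k))))
    (H : X.Modules) (hH : CohB1.IsAmple H) :
    ∃ n₀ : ℤ, ∀ L : X.Modules, PicF.IsInvertible L → n₀ < FGA.intNum k X 2 ![L, H] (Coh.structureModule X) → Subsingleton (Coh.HH X L 2) := by
  obtain ⟨N, ι, hι, hι'⟩ := hproj
  haveI := hι
  haveI : IsProper (X ↘ Spec (CommRingCat.of k)) := ExtShX.isProper_over (ι : X ⟶ PnVan.P k N) hι'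
  haveI : Smooth (X ↘ Spec (CommRingCat.of k)) :=
    CurveCohLib.RegularCurve.smooth_of_regular k fun x _ => hreg x
  haveI := SurfStab.smoothOfRelativeDimension_two (k := k) hdim
  obtain ⟨W, hW, hWi⟩ := SurfRR.Chain.exists_canonical k hdim
  obtain ⟨hWc, t, ht⟩ := ExtShX.SmoothDual.exists_dualizing (n := 2) (ι : X ⟶ PnVan.P k N) hι' hW
  refine ⟨FGA.intNum k X 2 ![W, H] (Coh.structureModule X), fun L hL hlt => ?_⟩
  haveI : IsNoetherian X := CurveCohLib.isNoetherian_of_proper (k := k)
  haveI : EnoughInjectives X.Modules := inferInstanceAs (EnoughInjectives (SheafOfModules _))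
  haveI : HasExt.{u} X.Modules := inferInstance
  have hLc := AmpleVan.isCoh_invertible hL
  haveI := CurveCohLib.finite_HH (k := k) hLc 2
  obtain ⟨D, hD, ⟨δ⟩⟩ := H23.PicInv.exists_inverse hL
  have hLD : PicF.cl L * PicF.cl D = 1 := Big.cl_mul_eq_one ⟨δ⟩
  have hLf := H23.PullPush.isFinLocFree_of_isInvertible hL
  obtain ⟨φ⟩ := SurfRR.nonempty_hom_iso_tensor hL hLD W
  obtain ⟨e⟩ := (ExtShX.duality_cm (ι : X ⟶ PnVan.P k N) hι' hdim
    (fun x hx => ExtShX.SmoothDual.cm_hyp (X ↘ Spec (CommRingCat.of k)) 2 x hx) hWc t ht hLc 0).1 (by omega)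
  obtain ⟨g⟩ := PnDual.nonempty_ext_linearEquiv_HH (A := k) hLf W 0
  obtain ⟨h⟩ := ExtShX.nonempty_HH_equiv_of_iso (A := k) φ 0
  have heq : Module.finrank k (Coh.HH X (CohB1.tensorMod W D) 0) = Module.finrank k (Coh.HH X L 2) :=
    ((e.symm.trans g).trans h).finrank_eq.symm.trans Subspace.dual_finrank_eq
  by_contra hne
  rw [not_subsingleton_iff_nontrivial] at hne
  have hpos : 0 < Module.finrank k (Coh.HH X L 2) := Module.finrank_pos
  have hWD := H23.PicMul.isInvertible_tensor hWi hD
  have hsec : Nontrivial (Coh.HH X (CohB1.tensorMod W D) 0) := Module.nontrivial_of_finrank_pos (R := k) (heq ▸ hpos)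
  have hnn := SurfRR.intNum_nonneg_of_section k hdim hWD hsec hH.1 fun C hCi hCd => by
    haveI := hCi
    have h1 := Big.RealForm.cdeg_pos_of_ample k hH C.subschemeι
      ((AmpleDev.dim_eq_one_of_closedImmersion C.subschemeι C.range_subschemeι).trans hCd)
    rw [Big.cdeg_eq] at h1
    exact_mod_cast h1.le
  have hadd := Big.pair_add k hdim.le hWi hD hH.1
  have hinv := Big.pair_inverse k hdim.le hL hD hLD hH.1
  rw [hinv, ← Big.intNum_eq_pair k hdim.le hWD hH.1, ← Big.intNum_eq_pair k hdim.le hWi hH.1,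
    ← Big.intNum_eq_pair k hdim.le hL hH.1] at hadd
  have h0 : FGA.intNum k X 2 ![CohB1.tensorMod W D, H] (Coh.structureModule X) =
      FGA.intNum k X 2 ![W, H] (Coh.structureModule X) - FGA.intNum k X 2 ![L, H] (Coh.structureModule X) := by
    exact_mod_cast (show (FGA.intNum k X 2 ![CohB1.tensorMod W D, H] (Coh.structureModule X) : ℚ) =
      (FGA.intNum k X 2 ![W, H] (Coh.structureModule X) : ℚ) - (FGA.intNum k X 2 ![L, H] (Coh.structureModule X) : ℚ) by linarith)
  omega

end Groth.Agent.S11343
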