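import Groth.Statements.S11344
import Groth.Agent.Big.Hodge
import Groth.Agent.CurveCohLib.SmoothCurve
import Groth.Agent.AmpleVan.Pull

set_option autoImplicit false
universe u
open CategoryTheory CategoryTheory.Limits AlgebraicGeometry
open Surf

attribute [-instance] CategoryTheory.catToReflQuiver

namespace Groth.Agent.S11344

open Groth.Agent Groth.Agent.H23.PicMul

/-- Let X be a surface over an algebraically closed field k (an integral scheme of dimension two with
all local rings regular, admitting a closed immersion into some P^n_k over k), H an ample invertible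
O_X-module, and L an invertible module with (L·H) > 0 and (L·L) > 0, where (L·M) = χ(O_X) - χ(L) -
χ(M) + χ(L ⊗ M) is the intersection number (packaged as FGA.intNum). Then for all n large enough the
tensor power L^{⊗ n} has a nonzero global section (some effective divisor is linearly equivalent to
nD). -/
theorem result (k : Type u) [Field k] [IsAlgClosed k] (X : Scheme.{u}) [X.Over (Spec (CommRingCat.of k))]
    [IsIntegral X] (hdim : topologicalKrullDim X = 2) (hreg : ∀ x : X, IsRegularLocalRing (X.presheaf.stalk x))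
    (hproj : ∃ (n : ℕ) (ι : X ⟶ CohB1.ProjSpace n k), IsClosedImmersion ι ∧ ι ≫ CohB1.ProjSpace.toSpec n k = (X ↘ (Spec (CommRingCat.of k))))
    (H : X.Modules) (hH : CohB1.IsAmple H) (L : X.Modules) (hL : PicF.IsInvertible L)
    (hLH : 0 < FGA.intNum k X 2 ![L, H] (Coh.structureModule X)) (hLL : 0 < FGA.intNum k X 2 ![L, L] (Coh.structureModule X)) :
    ∃ N : ℕ, ∀ n : ℕ, N ≤ n → Nontrivial (Coh.HH X (CohB1.tensorPow L n) 0) := by
  obtain ⟨n, ι, hι, hιs⟩ := hproj
  haveI := hι
  haveI := PnCoh.Chow.isProper_toSpec n k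
  haveI : IsProper (X ↘ Spec (CommRingCat.of k)) := hιs ▸ inferInstance
  obtain ⟨c, hc⟩ := Big.exists_quad k hdim.le hL hH.1
  have h3 : 0 < c 3 := by
    have : (0 : ℚ) < 2 * c 3 := Big.intNum_self_eq k hdim.le hL hc ▸ Int.cast_pos.2 hLL
    linarith
  have h4 : 0 < c 4 := Big.intNum_eq_quad k hdim.le hL hH.1 hc ▸ Int.cast_pos.2 hLH
  obtain ⟨n₀, hn⟩ := Big.exists_growth_of_quad k hdim hH hL hc h3 h4
  refine ⟨n₀, fun m h => Module.nontrivial_of_finrank_pos (R := k) ?_⟩
  have h' : (0 : ℚ) ≤ c 3 / 2 * (m : ℚ) ^ 2 := by positivity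
  exact_mod_cast lt_of_le_of_lt h' (hn m h)

end Groth.Agent.S11344
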