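import Groth.Statements.S11351
import Groth.Agent.GenusOnePt.Maps
import Groth.Agent.S11584

set_option autoImplicit false
set_option linter.style.haveILetI false
set_option backward.isDefEq.respectTransparency false
set_option backward.isDefEq.respectTransparency.types false
universe u
open CategoryTheory CategoryTheory.Limits AlgebraicGeometry
open Curves

namespace Groth.Agent.S11351

/-- Take an algebraically closed field k of characteristic different from 2 and an elliptic curve X over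
k (integral, proper over k, of dimension one, all local rings regular, of genus dim_k H^1(X, O_X) =
1), and let f₁, f₂ : X → P^1_k be two finite morphisms over k of degree 2 (the direct image of O_X
is locally free of rank 2). Then there are an automorphism σ of X over k and an automorphism τ of
P^1_k over k such that f₂ ∘ σ = τ ∘ f₁. -/
theorem result (k : Type u) [Field k] [IsAlgClosed k] (X : Scheme.{u}) [X.Over (Spec (CommRingCat.of k))]
    [IsIntegral X] [IsProper (X ↘ (Spec (CommRingCat.of k)))] (hdim : topologicalKrullDim X = 1)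
    (hreg : ∀ x : X, IsRegularLocalRing (X.presheaf.stalk x)) (hchar : ringChar k ≠ 2) (hg : Curv2.genus k X = 1)
    (f₁ f₂ : X ⟶ (CohB1.ProjSpace 1 k)) [IsFinite f₁] [IsFinite f₂]
    (hf₁ : f₁ ≫ CohB1.ProjSpace.toSpec 1 k = (X ↘ (Spec (CommRingCat.of k)))) (hf₂ : f₂ ≫ CohB1.ProjSpace.toSpec 1 k = (X ↘ (Spec (CommRingCat.of k))))
    (hd₁ : FlatMod.IsFinLocFreeOfRank 2 ((Scheme.Modules.pushforward f₁).obj (Coh.structureModule X)))
    (hd₂ : FlatMod.IsFinLocFreeOfRank 2 ((Scheme.Modules.pushforward f₂).obj (Coh.structureModule X))) :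
    ∃ (σ : X ≅ X) (τ : (CohB1.ProjSpace 1 k) ≅ (CohB1.ProjSpace 1 k)), σ.hom ≫ (X ↘ (Spec (CommRingCat.of k))) = (X ↘ (Spec (CommRingCat.of k))) ∧
      τ.hom ≫ CohB1.ProjSpace.toSpec 1 k = CohB1.ProjSpace.toSpec 1 k ∧ σ.hom ≫ f₂ = f₁ ≫ τ.hom := by
  haveI : Smooth (X ↘ Spec (CommRingCat.of k)) := Groth.Agent.CurveCohLib.RegularCurve.smooth_of_regular k fun x _ => hreg x
  haveI : SmoothOfRelativeDimension 1 (X ↘ Spec (CommRingCat.of k)) := Groth.Agent.HypEll.smooth_one _ hdim
  haveI : SmoothOfRelativeDimension 1 ((CohB1.ProjSpace 1 k) ↘ Spec (CommRingCat.of k)) :=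
    Groth.Agent.ExtShX.DetPn.smooth_toSpec 1 k
  haveI : Smooth ((CohB1.ProjSpace 1 k) ↘ Spec (CommRingCat.of k)) := SmoothOfRelativeDimension.smooth 1 _
  haveI : IsProper ((CohB1.ProjSpace 1 k) ↘ Spec (CommRingCat.of k)) := Groth.Agent.PnCoh.Chow.isProper_toSpec 1 k
  haveI : IsIntegral (CohB1.ProjSpace 1 k) := Groth.Agent.H23.PnChart.isIntegral_projSpace 1 k
  haveI := Groth.Agent.CurveCohLib.isNoetherian_of_proper (k := k) (X := (CohB1.ProjSpace 1 k))
  have hdY : topologicalKrullDim (CohB1.ProjSpace 1 k) = 1 := by simpa using Groth.Agent.S10829.result k 1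
  have h2 : (2 : k) ≠ 0 := Ring.two_ne_zero hchar
  have hY1 : Subsingleton (Coh.HH (CohB1.ProjSpace 1 k) (Coh.structureModule (CohB1.ProjSpace 1 k)) 1) := by
    haveI := Groth.Agent.CurveCohLib.finite_HH (k := k)
      (Groth.Agent.QCoh.isCoh_structureModule' (X := (CohB1.ProjSpace 1 k))) 1
    exact Module.finrank_zero_iff.1 (Groth.Agent.S7810.projLine_facts k).2
  have hdata : ∀ (f : X ⟶ CohB1.ProjSpace 1 k) [IsFinite f],
      f ≫ CohB1.ProjSpace.toSpec 1 k = X ↘ Spec (CommRingCat.of k) →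
      FlatMod.IsFinLocFreeOfRank 2 ((Scheme.Modules.pushforward f).obj (Coh.structureModule X)) →
      f (genericPoint X) = genericPoint (CohB1.ProjSpace 1 k) ∧ f.residueDegree (genericPoint X) = 2 := by
    intro f _ hf hd
    have e := Groth.Agent.S11584.generic_of_finite hdY.le f hdim
    have hc := (Groth.Agent.H23.CoverPush.isCover_iff f).2 ⟨inferInstance, hd⟩
    refine ⟨e, ?_⟩
    rw [← Groth.Agent.HypEll.finrank_eq X hdim _ hdY f hf e (genericPoint (CohB1.ProjSpace 1 k))]
    exact hc.2 _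
  obtain ⟨e₁, hdeg₁⟩ := hdata f₁ hf₁ hd₁
  obtain ⟨e₂, hdeg₂⟩ := hdata f₂ hf₂ hd₂
  exact Groth.Agent.GenusOnePt.exists_iso_maps hdim hdY hY1 (Groth.Agent.S7810.projLine_facts k).1 hg h2
    f₁ f₂ hf₁ hf₂ e₁ e₂ hdeg₁ hdeg₂

end Groth.Agent.S11351
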