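import Groth.Statements.S11370
import Groth.Agent.Nakai.NefProper

set_option autoImplicit false
universe u
open CategoryTheory CategoryTheory.Limits AlgebraicGeometry TopologicalSpace
open Variety
open Groth.Agent.H23.PicMul

attribute [-instance] CategoryTheory.catToReflQuiver

namespace Groth.Agent.S11370

/-- Let X be proper over an algebraically closed field k and L an invertible O_X-module such that (L ·
C) = χ(O_C ⊗ L) - χ(O_C) ≥ 0 for every integral closed subscheme C ⊆ X of dimension one. Then for
every integral closed subscheme Z ⊆ X of dimension d > 0 the intersection number (L^d · Z) is ≥ 0;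
here (L^d · Z) is the coefficient of n_1⋯n_d in any rational polynomial P with χ(X, O_Z ⊗ L^{⊗n_1} ⊗
⋯ ⊗ L^{⊗n_d}) = P(n_1, …, n_d) for all exponents in ℕ^d. (The published statement is phrased for a
Cartier divisor D; it depends on D only through L = O_X(D), and the printed reduction to integral X
covers every invertible L.) -/
theorem result (k : Type u) [Field k] [IsAlgClosed k] (X : Scheme.{u})
    [X.Over (Spec (CommRingCat.of k))] [IsProper (X ↘ (Spec (CommRingCat.of k)))]
    (L : X.Modules) (hL : PicF.IsInvertible L)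
    (hnef : ∀ C : X.IdealSheafData, IsIntegral C.subscheme →
      topologicalKrullDim (C.support : Set X) = 1 → 0 ≤ (Curv2.euler k X (CohB1.tensorMod (ClSub.quotMod C) L) - Curv2.euler k X (ClSub.quotMod C)))
    (Z : X.IdealSheafData) [IsIntegral Z.subscheme] (d : ℕ) (hd : 0 < d)
    (hZ : topologicalKrullDim (Z.support : Set X) = d)
    (P : MvPolynomial (Fin d) ℚ)
    (hP : ∀ n : Fin d → ℕ, (Curv2.euler k X (Curv2.tensorPows (ClSub.quotMod Z) d (fun _ => L) n) : ℚ) =
      MvPolynomial.eval (fun i => (n i : ℚ)) P) :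
    0 ≤ MvPolynomial.coeff (Finsupp.equivFunOnFinite.symm fun _ : Fin d => 1) P := by
  have hN : Nakai.Nef k L := by
    intro W i hi hW hdim q hq hqn
    haveI := hi
    haveI := hW
    let C := Scheme.IdealSheafData.vanishingIdeal
      (⟨Set.range i, i.isClosedEmbedding.isClosed_range⟩ : TopologicalSpace.Closeds X)
    have hr : Set.range C.subschemeι = Set.range i := H23.RedSub.range_vanishingIdeal _
    haveI : IsIntegral C.subscheme := by
      have e : (⟨Set.range i, i.isClosedEmbedding.isClosed_range⟩ : TopologicalSpace.Closeds X) =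
          TopologicalSpace.Closeds.closure {i (genericPoint W)} :=
        TopologicalSpace.Closeds.ext (QCoh.range_eq_closure i)
      show IsIntegral (Scheme.IdealSheafData.vanishingIdeal _).subscheme
      rw [e]
      exact QCoh.isIntegral_closure_point _
    have hC := hnef C inferInstance (by
      rw [← C.range_subschemeι, hr, ← AmpleDev.dim_eq_one_of_closedImmersion i rfl]
      exact hdim)
    obtain ⟨φ⟩ := QCoh.push_structure_iso C.subschemeι i hr.symm
    have h := fun n => ((Nakai.χ_congr k φ n).symm.trans (hqn n))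
    have h1 := h 1
    have h0 := h 0
    rw [Polynomial.eval_eq_sum_range' (Nat.lt_succ_of_le hq)] at h1 h0
    simp [Finset.sum_range_succ] at h1 h0
    have e1 : Snapper.χ k L (ClSub.quotMod C) 1 = (Curv2.euler k X (CohB1.tensorMod (ClSub.quotMod C) L) : ℚ) :=
      congrArg Int.cast (CurveCohLib.euler_congr (k := k) (H23.PicMul.cl_eq_iff.1 (by
        show PicF.cl (CohB1.tensorMod _ (CohB1.tensorPow L 1)) = _
        rw [H23.PicMul.cl_tensor, H23.PicMul.cl_tensor, H23.PicMul.cl_tensorPow, pow_one])).some)
    have e0 : Snapper.χ k L (ClSub.quotMod C) 0 = (Curv2.euler k X (ClSub.quotMod C) : ℚ) :=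
      congrArg Int.cast (CurveCohLib.euler_congr (k := k) (H23.PicMul.cl_eq_iff.1 (by
        show PicF.cl (CohB1.tensorMod _ (CohB1.tensorPow L 0)) = _
        rw [H23.PicMul.cl_tensor, H23.PicMul.cl_tensorPow, pow_zero, mul_one])).some)
    have hC' : (0 : ℚ) ≤ (Curv2.euler k X (CohB1.tensorMod (ClSub.quotMod C) L) : ℚ) -
        (Curv2.euler k X (ClSub.quotMod C) : ℚ) := by exact_mod_cast hC
    rw [← e1, ← e0] at hC'
    linarith
  letI : Z.subscheme.Over (Spec (CommRingCat.of k)) := ⟨Z.subschemeι ≫ (X ↘ Spec (CommRingCat.of k))⟩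
  haveI : IsProper (Z.subscheme ↘ Spec (CommRingCat.of k)) :=
    inferInstanceAs (IsProper (Z.subschemeι ≫ (X ↘ Spec (CommRingCat.of k))))
  haveI := CurveCohLib.isNoetherian_of_proper (k := k) (X := Z.subscheme)
  have hdim : topologicalKrullDim Z.subscheme = d :=
    (AmpleDev.dim_eq_one_of_closedImmersion Z.subschemeι Z.range_subschemeι).trans hZ
  have hL' := PicClLib.isInvertible_pullback Z.subschemeι hL
  obtain ⟨q, hq, hqn⟩ := Nakai.exists_poly k hL' (QCoh.isCoh_structureModule' (X := Z.subscheme))
    (C := (⊤ : TopologicalSpace.Closeds Z.subscheme)) (fun x _ => trivial) (d := d)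
    ((Topology.IsInducing.subtypeVal.topologicalKrullDim_le).trans hdim.le)
  rw [Nakai.coeff_eq k hq (fun n => (Nakai.χ_push k Z.subschemeι rfl hL QCoh.isQCoh_structureModule n).trans (hqn n)) P hP]
  exact mul_nonneg (Nakai.coeff_nonneg_of_nef k hL' (hN.pullback k Z.subschemeι rfl hL) hdim hq hqn) (Nat.cast_nonneg _)

end Groth.Agent.S11370
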