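import Groth.Statements.S11371
import Groth.Agent.Nakai.Corollaries
import Groth.Agent.H23.PicInv
import Groth.Agent.Lib.CurveDeg

set_option autoImplicit false
universe u
open CategoryTheory CategoryTheory.Limits AlgebraicGeometry TopologicalSpace
open Variety

attribute [-instance] CategoryTheory.catToReflQuiver

namespace Groth.Agent.S11371

open Groth.Agent
open Groth.Agent.H23.PicMul

theorem euler_sub_eq_deg (k : Type u) [Field k] {X : Scheme.{u}}
    [X.Over (Spec (CommRingCat.of k))] [IsProper (X ↘ (Spec (CommRingCat.of k)))]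
    {M : X.Modules} (hM : PicF.IsInvertible M) (C : X.IdealSheafData) [IsIntegral C.subscheme]
    (hdim : topologicalKrullDim C.subscheme = 1) :
    (Curv2.euler k X (CohB1.tensorMod (ClSub.quotMod C) M) : ℚ) - (Curv2.euler k X (ClSub.quotMod C) : ℚ) =
      (@Curv2.deg k _ C.subscheme ⟨C.subschemeι ≫ (X ↘ Spec (CommRingCat.of k))⟩
        ((Scheme.Modules.pullback C.subschemeι).obj M) 1 : ℚ) := by
  letI : C.subscheme.Over (Spec (CommRingCat.of k)) := ⟨C.subschemeι ≫ (X ↘ Spec (CommRingCat.of k))⟩
  haveI : IsProper (C.subscheme ↘ Spec (CommRingCat.of k)) :=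
    inferInstanceAs (IsProper (C.subschemeι ≫ (X ↘ Spec (CommRingCat.of k))))
  obtain ⟨q, hq, hqn⟩ := Nakai.exists_push_poly k C.subschemeι hM (hdim.trans Nat.cast_one.symm)
  exact (Nakai.coeff_one_eq_sub k (M := ClSub.quotMod C) hq hqn).symm.trans
    (Nakai.coeff_one_eq_deg k hdim (PicClLib.isInvertible_pullback C.subschemeι hM) hq fun n =>
      (Nakai.χ_push k C.subschemeι rfl hM QCoh.isQCoh_structureModule n).symm.trans (hqn n))

/-- Let X be proper over an algebraically closed field k and L, L' invertible O_X-modules that are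
numerically equivalent: (L · C) = (L' · C), i.e. χ(O_C ⊗ L) = χ(O_C ⊗ L'), for every integral closed
subscheme C ⊆ X of dimension one. If L is ample then L' is ample. (The published statement is
phrased for Cartier divisors; it depends on them only through the associated invertible modules, and
the printed reduction to integral X covers every invertible module.) -/
theorem result (k : Type u) [Field k] [IsAlgClosed k] (X : Scheme.{u})
    [X.Over (Spec (CommRingCat.of k))] [IsProper (X ↘ (Spec (CommRingCat.of k)))]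
    (L L' : X.Modules) (hL : PicF.IsInvertible L) (hL' : PicF.IsInvertible L')
    (hnum : ∀ C : X.IdealSheafData, IsIntegral C.subscheme →
      topologicalKrullDim (C.support : Set X) = 1 →
        Curv2.euler k X (CohB1.tensorMod (ClSub.quotMod C) L) =
          Curv2.euler k X (CohB1.tensorMod (ClSub.quotMod C) L'))
    (hamp : CohB1.IsAmple L) : CohB1.IsAmple L' := by
  obtain ⟨D, hD, ⟨δ⟩⟩ := H23.PicInv.exists_inverse hL
  let N := CohB1.tensorMod L' D
  have hN : PicF.IsInvertible N := H23.PicMul.isInvertible_tensor hL' hD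
  have hnef : Nakai.Nef k N := (Nakai.nef_iff_euler k hN).2 fun C hC hd => by
    haveI := hC
    have hdim : topologicalKrullDim C.subscheme = 1 :=
      (AmpleDev.dim_eq_one_of_closedImmersion C.subschemeι C.range_subschemeι).trans hd
    letI : C.subscheme.Over (Spec (CommRingCat.of k)) := ⟨C.subschemeι ≫ (X ↘ Spec (CommRingCat.of k))⟩
    haveI : IsProper (C.subscheme ↘ Spec (CommRingCat.of k)) :=
      inferInstanceAs (IsProper (C.subschemeι ≫ (X ↘ Spec (CommRingCat.of k))))
    have hLC := PicClLib.isInvertible_pullback C.subschemeι hL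
    have hLC' := PicClLib.isInvertible_pullback C.subschemeι hL'
    have hDC := PicClLib.isInvertible_pullback C.subschemeι hD
    obtain ⟨φ⟩ : Nonempty ((Scheme.Modules.pullback C.subschemeι).obj N ≅
        (DCoh.tensorBi.obj ((Scheme.Modules.pullback C.subschemeι).obj L')).obj
          ((Scheme.Modules.pullback C.subschemeι).obj D)) := H23.PicMul.cl_eq_iff.1 (by
      show PicF.pullCl _ (PicF.cl (CohB1.tensorMod L' D)) = PicF.cl (CohB1.tensorMod _ _)
      rw [H23.PicMul.cl_tensor, H23.PicMul.cl_tensor, H23.PicMul.pullCl_mul]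
      rfl)
    obtain ⟨ψ⟩ : Nonempty ((DCoh.tensorBi.obj ((Scheme.Modules.pullback C.subschemeι).obj L)).obj
          ((Scheme.Modules.pullback C.subschemeι).obj D) ≅ Coh.structureModule C.subscheme) :=
      H23.PicMul.cl_eq_iff.1 (by
        show PicF.cl (CohB1.tensorMod _ _) = _
        obtain ⟨τ⟩ := PicClLib.nonempty_pullback_structureModule C.subschemeι
        rw [H23.PicMul.cl_tensor, ← H23.PicMul.cl_eq_iff.2 ⟨τ⟩]
        show _ = PicF.pullCl _ (PicF.cl (Coh.structureModule X))
        rw [← H23.PicMul.cl_eq_iff.2 ⟨δ⟩, H23.PicMul.cl_tensor, H23.PicMul.pullCl_mul]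
        rfl)
    have h1 := euler_sub_eq_deg k hN C hdim
    have h2 := euler_sub_eq_deg k hL C hdim
    have h3 := euler_sub_eq_deg k hL' C hdim
    rw [CurveRR.deg_congr k φ 1, CurveRR.deg_tensor k hdim hLC' hDC] at h1
    have h4 := CurveRR.deg_congr k ψ 1
    rw [CurveRR.deg_tensor k hdim hLC hDC, CurveDeg.deg_structureModule] at h4
    have h4' := congrArg (Int.cast : ℤ → ℚ) h4
    have h5 := congrArg (Int.cast : ℤ → ℚ) (hnum C hC hd)
    push_cast at h1 h4' h5
    exact_mod_cast (by linarith : (0 : ℚ) ≤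
      (Curv2.euler k X (CohB1.tensorMod (ClSub.quotMod C) N) : ℚ) - (Curv2.euler k X (ClSub.quotMod C) : ℚ))
  refine AmpleX.isAmple_of_iso (H23.PicMul.cl_eq_iff.1 ?_).some (Nakai.isAmple_comb k hN hnef hamp 1 one_pos)
  rw [Nakai.cl_comb, pow_one, pow_one, H23.PicMul.cl_tensor, mul_assoc, mul_comm (PicF.cl D),
    ← H23.PicMul.cl_tensor, H23.PicMul.cl_eq_iff.2 ⟨δ⟩, ← H23.PicMul.one_def, mul_one]

end Groth.Agent.S11371
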