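import Groth.Statements.S11393
import Groth.Agent.Big.AmpleConn

set_option autoImplicit false
universe u
open CategoryTheory CategoryTheory.Limits AlgebraicGeometry TopologicalSpace
open Variety

attribute [-instance] CategoryTheory.catToReflQuiver

namespace Groth.Agent.S11393

open Groth.Agent Groth.Agent.H23.PicMul

/-- Let X be proper over an algebraically closed field k and 𝓘 a quasi-coherent ideal whose closed
subscheme Y is connected (and nonempty); let Y_m be the closed subscheme of 𝓘^{m+1} and A = lim_m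
Γ(Y_m, O_{Y_m}) the ring of formal-regular functions along Y (global sections of the structure sheaf
of the formal completion), formed as the limit in commutative rings along the restriction maps
Γ(Y_{m+1}, O) → Γ(Y_m, O). Then A is a local ring, and every element a of A differs from the image
of some constant c ∈ k by an element whose image in each Γ(Y_m, O_{Y_m}) is nilpotent (so the
residue field of A is k through the structure map). (The published statement also asserts that A is
a complete local ring; that clause is not included here.) -/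
theorem result (k : Type u) [Field k] [IsAlgClosed k] (X : Scheme.{u})
    [X.Over (Spec (CommRingCat.of k))] [IsProper (X ↘ (Spec (CommRingCat.of k)))]
    (𝓘 : X.IdealSheafData) (hY : _root_.IsConnected (𝓘.support : Set X)) :
    IsLocalRing ↑(limit (Functor.ofOpSequence
        (X := fun m : ℕ => Γ((𝓘 ^ (m + 1)).subscheme, ⊤))
        (fun m : ℕ => (Scheme.IdealSheafData.inclusion (Lef.pow_succ_le 𝓘 m)).appTop))) ∧
      ∀ a : ↑(limit (Functor.ofOpSequence
        (X := fun m : ℕ => Γ((𝓘 ^ (m + 1)).subscheme, ⊤))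
        (fun m : ℕ => (Scheme.IdealSheafData.inclusion (Lef.pow_succ_le 𝓘 m)).appTop))),
        ∃ c : k, ∀ m : ℕ, IsNilpotent (Sub.sub (α := ↑Γ((𝓘 ^ (m + 1)).subscheme, ⊤))
          ((limit.π (Functor.ofOpSequence
              (X := fun m : ℕ => Γ((𝓘 ^ (m + 1)).subscheme, ⊤))
              (fun m : ℕ => (Scheme.IdealSheafData.inclusion (Lef.pow_succ_le 𝓘 m)).appTop)) (Opposite.op m)).hom a)
          (((𝓘 ^ (m + 1)).subschemeι ≫ (X ↘ Spec (CommRingCat.of k))).appTop.hom
            ((Scheme.ΓSpecIso (CommRingCat.of k)).inv.hom c))) := by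
  classical
  let f := X ↘ Spec (CommRingCat.of k)
  haveI : IsLocallyNoetherian X := LocallyOfFiniteType.isLocallyNoetherian f
  let Y : ℕ → Scheme.{u} := fun m => (𝓘 ^ (m + 1)).subscheme
  let ct : ∀ m, k →+* Γ(Y m, ⊤) := fun m =>
    ((𝓘 ^ (m + 1)).subschemeι ≫ f).appTop.hom.comp (Scheme.ΓSpecIso (CommRingCat.of k)).inv.hom
  have hloc : ∀ m, (∀ g : Γ(Y m, ⊤), IsUnit g ∨ IsNilpotent g) ∧
      ∀ g : Γ(Y m, ⊤), ∃ c : k, IsNilpotent (g - ct m c) := fun m => by
    letI : (Y m).Over (Spec (CommRingCat.of k)) := ⟨(𝓘 ^ (m + 1)).subschemeι ≫ f⟩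
    haveI : IsProper ((Y m) ↘ Spec (CommRingCat.of k)) :=
      inferInstanceAs (IsProper ((𝓘 ^ (m + 1)).subschemeι ≫ f))
    haveI : ConnectedSpace (Y m) := by
      have h : _root_.IsConnected (Set.range (𝓘 ^ (m + 1)).subschemeι) := by
        rw [Scheme.IdealSheafData.range_subschemeι, Scheme.IdealSheafData.support_pow_succ]; exact hY
      refine connectedSpace_iff_univ.2 ?_
      obtain ⟨_, ⟨z, -⟩⟩ := h.1
      exact ⟨⟨z, trivial⟩, (𝓘 ^ (m + 1)).subschemeι.isEmbedding.isInducing.isPreconnected_image.1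
        (by rw [Set.image_univ]; exact h.2)⟩
    exact ⟨Groth.Agent.Big.AmpleConn.isUnit_or_isNilpotent k,
      Groth.Agent.Big.AmpleConn.exists_sub_const_isNilpotent k⟩
  let F := Functor.ofOpSequence (X := fun m : ℕ => Γ(Y m, ⊤))
    (fun m : ℕ => (Scheme.IdealSheafData.inclusion (Lef.pow_succ_le 𝓘 m)).appTop)
  have htrans : ∀ (m : ℕ) (a : ↑(limit F)),
      (Scheme.IdealSheafData.inclusion (Lef.pow_succ_le 𝓘 m)).appTop ((limit.π F (Opposite.op (m + 1))).hom a) =
        (limit.π F (Opposite.op m)).hom a := fun m a => by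
    have h := limit.w F (homOfLE (Nat.le_succ m)).op
    rw [Functor.ofOpSequence_map_homOfLE_succ] at h
    exact ConcreteCategory.congr_hom h a
  have hct : ∀ (m : ℕ) (c : k),
      (Scheme.IdealSheafData.inclusion (Lef.pow_succ_le 𝓘 m)).appTop (ct (m + 1) c) = ct m c := fun m c => by
    show ((((𝓘 ^ (m + 1 + 1)).subschemeι ≫ f).appTop ≫
      (Scheme.IdealSheafData.inclusion (Lef.pow_succ_le 𝓘 m)).appTop).hom _) = _
    rw [← Scheme.Hom.comp_appTop, ← Category.assoc, Scheme.IdealSheafData.inclusion_subschemeι]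
    rfl
  let ev : ↑(limit F) → ∀ m : ℕ, Γ(Y m, ⊤) := fun a m => (limit.π F (Opposite.op m)).hom a
  have key : ∀ a : ↑(limit F), ∃ c : k, ∀ m, IsNilpotent (ev a m - ct m c) := fun a => by
    choose c hc using fun m => (hloc m).2 (ev a m)
    have hstep : ∀ m, c (m + 1) = c m := fun m => by
      have h1 := (hc (m + 1)).map (Scheme.IdealSheafData.inclusion (Lef.pow_succ_le 𝓘 m)).appTop.hom
      rw [map_sub, hct, show (Scheme.IdealSheafData.inclusion (Lef.pow_succ_le 𝓘 m)).appTop (ev a (m + 1)) = ev a m from htrans m a] at h1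
      have h2 : IsNilpotent (ct m (c (m + 1) - c m)) := by
        have h3 := Commute.isNilpotent_sub (Commute.all _ _) (hc m) h1
        rw [sub_sub_sub_cancel_left, ← map_sub] at h3
        exact h3
      by_contra hne
      haveI : Nontrivial Γ(Y m, ⊤) := by
        by_contra hn
        rw [not_nontrivial_iff_subsingleton] at hn
        obtain ⟨x, hx⟩ := hY.1
        rw [← Scheme.IdealSheafData.support_pow_succ 𝓘 m, ← Scheme.IdealSheafData.range_subschemeι] at hx
        obtain ⟨z, -⟩ := hx
        have hz : z ∈ (Y m).basicOpen (1 : Γ(Y m, ⊤)) := by rw [Scheme.basicOpen_of_isUnit _ isUnit_one]; trivial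
        rw [hn.elim (1 : Γ(Y m, ⊤)) 0, Scheme.basicOpen_zero] at hz
        exact hz
      exact h2.not_isUnit ((Ne.isUnit (sub_ne_zero.2 hne)).map (ct m))
    refine ⟨c 0, fun m => ?_⟩
    have hcm : c m = c 0 := by induction m with
      | zero => rfl
      | succ n ih => rw [hstep, ih]
    rw [← hcm]; exact hc m
  have hF0 : Nontrivial ↑(limit F) := by
    refine ⟨⟨1, 0, fun h => ?_⟩⟩
    have h0 := congrArg (limit.π F (Opposite.op 0)).hom h
    rw [map_one, map_zero] at h0
    obtain ⟨x, hx⟩ := hY.1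
    rw [← Scheme.IdealSheafData.support_pow_succ 𝓘 0, ← Scheme.IdealSheafData.range_subschemeι] at hx
    obtain ⟨z, -⟩ := hx
    have hz : z ∈ (Y 0).basicOpen (1 : Γ(Y 0, ⊤)) := by rw [Scheme.basicOpen_of_isUnit _ isUnit_one]; trivial
    rw [show (1 : Γ(Y 0, ⊤)) = 0 from h0, Scheme.basicOpen_zero] at hz
    exact hz
  refine ⟨?_, fun a => key a⟩
  refine IsLocalRing.of_isUnit_or_isUnit_one_sub_self fun a => ?_
  have hunit : ∀ (b : ↑(limit F)), (∀ m, IsUnit ((limit.π F (Opposite.op m)).hom b)) → IsUnit b := fun b hb =>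
    Groth.Agent.Big.AmpleConn.isUnit_limit F b fun j => hb j.unop
  obtain ⟨c, hc⟩ := key a
  by_cases h : c = 0
  · refine Or.inr (hunit _ fun m => ?_)
    rw [map_sub, map_one]
    refine IsNilpotent.isUnit_one_sub ?_
    have := hc m
    rwa [h, map_zero, sub_zero] at this
  · refine Or.inl (hunit _ fun m => ?_)
    have := (IsNilpotent.isUnit_add_left_of_commute (hc m) ((Ne.isUnit h).map (ct m)) (Commute.all _ _))
    rwa [add_sub_cancel] at this

end Groth.Agent.S11393
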