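import Groth.Statements.S11410
import Groth.Agent.Deform.Isotropy

set_option autoImplicit false
universe u
open CategoryTheory MonoidalCategory CartesianMonoidalCategory MonObj GrpObj AlgebraicGeometry CategoryTheory.Limits
open AlgGrp

namespace Groth.Agent.S11410
attribute [local instance] CategoryTheory.Hom.monoid CategoryTheory.Hom.group
set_option linter.style.haveILetI false
set_option maxHeartbeats 1000000
open Groth.Agent.Deform

/-- Over an algebraically closed field k, let G be an algebraic group (a smooth k-group scheme of finite
type) acting on a variety X (an integral, separated k-scheme of finite type), faithfully in the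
sense that every rational point of G acting as the identity of X is the identity element. Then for
every rational point x of X, the isotropy subgroup scheme of x (a closed subgroup scheme of G whose
points are exactly the points of G fixing x) is affine. -/
theorem result (k : Type u) [Field k] [IsAlgClosed k]
    (G X : Over (Spec (CommRingCat.of k))) [GrpObj G] [Smooth G.hom] [QuasiCompact G.hom]
    [LocallyOfFiniteType X.hom] [QuasiCompact X.hom] [IsSeparated X.hom] [IsIntegral X.left]
    (a : AlgGrp.Action G X)
    (hfaith : ∀ g : 𝟙_ (Over (Spec (CommRingCat.of k))) ⟶ G, lift (toUnit X ≫ g) (𝟙 X) ≫ a.act = 𝟙 X → g = η[G])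
    (x : 𝟙_ (Over (Spec (CommRingCat.of k))) ⟶ X) (St : Over (Spec (CommRingCat.of k))) [GrpObj St] (s : St ⟶ G) [IsMonHom s] [IsClosedImmersion s.left]
    (hs : ∀ (T : Over (Spec (CommRingCat.of k))) (g : T ⟶ G), (∃ t : T ⟶ St, t ≫ s = g) ↔ lift g (toUnit T ≫ x) ≫ a.act = toUnit T ≫ x) :
    IsAffine St.left := by
  haveI : IsLocallyNoetherian X.left := LocallyOfFiniteType.isLocallyNoetherian X.hom
  haveI : IsSeparated G.hom := GrpSchLib.AntiAffine.isSeparated_grp G
  haveI : LocallyOfFiniteType St.hom := by rw [← Over.w s]; infer_instance
  haveI : QuasiCompact St.hom := by rw [← Over.w s]; infer_instance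
  haveI : Mono s := (Over.forget _).mono_of_mono_map (inferInstanceAs (Mono s.left))
  let b : AlgGrp.Action St X :=
    { act := (s ▷ X) ≫ a.act
      one_act := by rw [← Category.assoc, ← comp_whiskerRight, IsMonHom.one_hom s, a.one_act]
      mul_act := by
        rw [← Category.assoc, ← comp_whiskerRight, IsMonHom.mul_hom s, comp_whiskerRight, Category.assoc, a.mul_act]
        simp only [← Category.assoc]
        congr 1
        simp only [MonoidalCategory.tensorHom_def, comp_whiskerRight, Category.assoc, MonoidalCategory.whiskerLeft_comp,
          associator_naturality_left, associator_naturality_middle_assoc, associator_naturality_left_assoc]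
        simp only [← whisker_exchange, ← whisker_exchange_assoc, ← MonoidalCategory.whiskerLeft_comp]
        simp only [MonoidalCategory.whiskerLeft_comp, Category.assoc] }
  have hb : ∀ (T : Over (Spec (CommRingCat.of k))) (g : T ⟶ St) (y : T ⟶ X),
      lift g y ≫ b.act = lift (g ≫ s) y ≫ a.act := fun T g y => by
    show lift g y ≫ (s ▷ X) ≫ a.act = _
    rw [lift_whiskerRight_assoc]
  refine Isotropy.isAffine_of_fixedPt b x (fun T g => ?_) fun g hg => ?_
  · rw [hb]
    exact (hs T (g ≫ s)).1 ⟨g, rfl⟩
  · refine (cancel_mono s).1 ?_
    rw [IsMonHom.one_hom s]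
    refine hfaith _ ?_
    rw [hb, Category.assoc] at hg
    exact hg

end Groth.Agent.S11410
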