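import Groth.Statements.S11396
import Groth.Agent.Deform.AVTrace.Slice
import Groth.Agent.Deform.AVTrace.Cut
import Groth.Agent.Deform.Blanchard.Const
import Groth.Agent.GrpSchLib.MonoSubgroup
import Groth.Agent.ConsPropLib.Noetherian
import Groth.Agent.S11410


set_option autoImplicit false
universe u
open CategoryTheory MonoidalCategory CartesianMonoidalCategory MonObj GrpObj AlgebraicGeometry CategoryTheory.Limits
open AlgGrp

namespace Groth.Agent.S11396
set_option maxHeartbeats 1000000
attribute [local instance] CategoryTheory.Hom.monoid CategoryTheory.Hom.group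

open scoped MonObj

/-- The stabilizer of a rational point of a separated scheme. -/
theorem exists_stabilizer {k : Type u} [Field k] {A X : Over (Spec (CommRingCat.of k))} [GrpObj A]
    [IsSeparated X.hom] (a : AlgGrp.Action A X) (x : 𝟙_ (Over (Spec (CommRingCat.of k))) ⟶ X) :
    ∃ (St : Over (Spec (CommRingCat.of k))) (_ : GrpObj St) (s : St ⟶ A), IsMonHom s ∧ IsClosedImmersion s.left ∧
      ∀ (T : Over (Spec (CommRingCat.of k))) (g : T ⟶ A),
        (∃ t : T ⟶ St, t ≫ s = g) ↔ lift g (toUnit T ≫ x) ≫ a.act = toUnit T ≫ x := by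
  let σ := a.orbitMap x
  let s : pullback σ x ⟶ A := pullback.fst σ x
  haveI : IsClosedImmersion x.left := by
    haveI : IsClosedImmersion (x.left ≫ X.hom) := by
      have h : x.left ≫ X.hom = 𝟙 _ := Over.w x
      rw [h]; infer_instance
    exact IsClosedImmersion.of_comp x.left X.hom
  haveI hsc : IsClosedImmersion s.left :=
    MorphismProperty.of_isPullback ((IsPullback.of_hasPullback σ x).flip.map (Over.forget _)) ‹_›
  haveI : Mono s := (Over.forget _).mono_of_mono_map (inferInstanceAs (Mono s.left))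
  have hσ : ∀ (T : Over (Spec (CommRingCat.of k))) (g : T ⟶ A),
      g ≫ σ = lift g (toUnit T ≫ x) ≫ a.act := fun T g => by
    show g ≫ lift (𝟙 A) (toUnit A ≫ x) ≫ a.act = _
    rw [← Category.assoc, comp_lift, Category.comp_id, ← Category.assoc, toUnit_unique (g ≫ toUnit A) (toUnit T)]
  have hfix : ∀ (T : Over (Spec (CommRingCat.of k))) (g : T ⟶ A),
      (∃ t : T ⟶ pullback σ x, t ≫ s = g) ↔ lift g (toUnit T ≫ x) ≫ a.act = toUnit T ≫ x := fun T g => by
    rw [← hσ]
    constructor
    · rintro ⟨t, rfl⟩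
      rw [Category.assoc, pullback.condition, ← Category.assoc, toUnit_unique (t ≫ pullback.snd σ x) (toUnit T)]
    · exact fun h => ⟨pullback.lift g (toUnit T) h, pullback.lift_fst _ _ _⟩
  have hone : ∀ T : Over (Spec (CommRingCat.of k)), lift (1 : T ⟶ A) (toUnit T ≫ x) ≫ a.act = toUnit T ≫ x :=
    fun T => Deform.AVTrace.act_one' a _
  obtain ⟨e, he⟩ := (hfix _ η[A]).2 (by
    have := hone (𝟙_ (Over (Spec (CommRingCat.of k))))
    rwa [← MonObj.one_eq_one] at this)
  obtain ⟨mu', hm⟩ := (hfix _ ((fst (pullback σ x) (pullback σ x) ≫ s) * (snd _ _ ≫ s))).2 (by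
    rw [← Deform.Bundle.act_act, (hfix _ (snd _ _ ≫ s)).1 ⟨_, rfl⟩, (hfix _ (fst _ _ ≫ s)).1 ⟨_, rfl⟩])
  obtain ⟨inv', hv⟩ := (hfix _ s⁻¹).2 (by
    conv_lhs => rw [← (hfix _ s).1 ⟨𝟙 _, Category.id_comp s⟩]
    rw [Deform.Bundle.act_act, inv_mul_cancel, hone])
  obtain ⟨str, hs⟩ := GrpSchLib.exists_grpObj_of_mono s e he mu' hm inv' hv
  exact ⟨_, str, s, hs, hsc, hfix⟩

/-- The dimension of a product with a connected smooth group. -/
theorem deg_prod {k : Type u} [Field k] [IsAlgClosed k] (A Y : Over (Spec (CommRingCat.of k))) [GrpObj A]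
    [IsProper A.hom] [Smooth A.hom] [LocallyOfFiniteType Y.hom] [IsIntegral A.left] [IsIntegral Y.left]
    [IsIntegral (A ⊗ Y).left] [LocallyOfFiniteType (A ⊗ Y).hom] :
    VarDim.deg A.hom (genericPoint A.left) + VarDim.deg Y.hom (genericPoint Y.left) ≤
      VarDim.deg (A ⊗ Y).hom (genericPoint (A ⊗ Y).left) := by
  haveI : JacobsonSpace A.left := LocallyOfFiniteType.jacobsonSpace A.hom
  let p := (fst A Y).left
  let q := (snd A Y).left
  haveI : LocallyOfFiniteType Y.hom := inferInstance
  haveI : Flat Y.hom := S13633.flat_over_field _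
  haveI : UniversallyOpen Y.hom := inferInstance
  haveI : LocallyOfFiniteType p := inferInstanceAs (LocallyOfFiniteType (pullback.fst A.hom Y.hom))
  haveI : UniversallyOpen p := inferInstanceAs (UniversallyOpen (pullback.fst A.hom Y.hom))
  haveI : IsDominant p := by
    haveI : Surjective Y.hom := ⟨fun z => ⟨genericPoint Y.left, Subsingleton.elim (α := PrimeSpectrum k) _ _⟩⟩
    haveI : Surjective p := inferInstanceAs (Surjective (pullback.fst A.hom Y.hom))
    infer_instance
  have hp : p (genericPoint (A ⊗ Y).left) = genericPoint A.left := CurveModel.map_genericPoint p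
  have h1 := VarDim.deg_eq_add p A.hom (Over.w (fst A Y)) (genericPoint (A ⊗ Y).left)
  rw [hp] at h1
  obtain ⟨U, hU, hUdeg⟩ := VarDim.exists_open_fdeg_le p A.hom (genericPoint (A ⊗ Y).left)
  -- a rational slice through the open set
  obtain ⟨a₁, ha₁, ha₁c⟩ := nonempty_inter_closedPoints (Z := p '' (U : Set (A ⊗ Y).left))
    ⟨_, Set.mem_image_of_mem p hU⟩ (p.isOpenMap _ U.2).isLocallyClosed
  obtain ⟨g, hg⟩ := Deform.Blanchard.exists_pt_of_closed ha₁c
  obtain ⟨u, hu, hua⟩ := ha₁
  let sec : Y ⟶ A ⊗ Y := lift (toUnit Y ≫ g) (𝟙 Y)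
  have hpre : u ∈ Set.range sec.left := by
    have hsq : IsPullback sec (toUnit Y) (fst A Y) g := by
      refine IsPullback.of_right (h₁₂ := snd A Y) (h₂₂ := toUnit A) (v₁₃ := toUnit Y) ?_ (lift_fst _ _) ?_
      · rw [lift_snd, toUnit_unique (g ≫ toUnit A) (𝟙 _)]
        exact IsPullback.of_horiz_isIso ⟨by simp⟩
      · exact (IsPullback.of_is_product (tensorProductIsBinaryProduct A Y) isTerminalTensorUnit).flip.of_iso
          (Iso.refl _) (Iso.refl _) (Iso.refl _) (Iso.refl _) (by simp [BinaryFan.snd]) (by simp [BinaryFan.fst])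
          (toUnit_unique _ _) (toUnit_unique _ _)
    obtain ⟨y, hy, -⟩ := Scheme.exists_preimage_of_isPullback (hsq.map (Over.forget _)) u
      (IsLocalRing.closedPoint k : PrimeSpectrum k) (hua.trans hg.symm)
    exact ⟨y, hy⟩
  obtain ⟨y, rfl⟩ := hpre
  have hmem : sec.left (genericPoint Y.left) ∈ U :=
    ((genericPoint_specializes y).map sec.left.continuous).mem_open U.2 hu
  have h2 := hUdeg _ hmem (genericPoint_specializes _)
  have h3 : VarDim.deg Y.hom (genericPoint Y.left) = VarDim.deg (A ⊗ Y).hom (sec.left (genericPoint Y.left)) := by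
    refine le_antisymm ?_ (VarDim.deg_map_le sec.left (A ⊗ Y).hom (Over.w sec) _)
    have h := VarDim.deg_map_le q Y.hom (Over.w (snd A Y)) (sec.left (genericPoint Y.left))
    have he : q (sec.left (genericPoint Y.left)) = genericPoint Y.left :=
      congrArg (fun f : Y ⟶ Y => f.left (genericPoint Y.left)) (lift_snd (toUnit Y ≫ g) (𝟙 Y))
    rwa [he] at h
  have h4 := VarDim.deg_eq_add p A.hom (Over.w (fst A Y)) (sec.left (genericPoint Y.left))
  have h5 : p (sec.left (genericPoint Y.left)) = a₁ := by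
    rw [← hg]
    exact (congrArg (fun f : Y ⟶ A => f.left (genericPoint Y.left)) (lift_fst (toUnit Y ≫ g) (𝟙 Y))).trans
      (congrArg g.left (Subsingleton.elim (α := PrimeSpectrum k) _ _))
  rw [h5, (VarDim.closedPoint_iff_deg_eq_zero A.hom a₁).1 ha₁c] at h4
  omega


/-- Over an algebraically closed field k, let A be an abelian variety (a proper, smooth, connected
k-group scheme) acting on a smooth variety X (integral, separated, of finite type over k),
faithfully in the sense that every rational point of A acting as the identity of X is the identity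
element. Then there exist a k-morphism φ : X → A and a positive integer n such that φ(a · x) = φ(x)
· aⁿ for all points a of A and x of X (with values in any k-scheme). -/
theorem result (k : Type u) [Field k] [IsAlgClosed k]
    (A X : Over (Spec (CommRingCat.of k))) [GrpObj A] [IsProper A.hom] [Smooth A.hom] [ConnectedSpace ↥A.left]
    [LocallyOfFiniteType X.hom] [QuasiCompact X.hom] [IsSeparated X.hom] [IsIntegral X.left] [Smooth X.hom]
    (a : AlgGrp.Action A X)
    (hfaith : ∀ g : 𝟙_ (Over (Spec (CommRingCat.of k))) ⟶ A, lift (toUnit X ≫ g) (𝟙 X) ≫ a.act = 𝟙 X → g = η[A]) :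
    ∃ (φ : X ⟶ A) (n : ℕ), 0 < n ∧
      ∀ (T : Over (Spec (CommRingCat.of k))) (g : T ⟶ A) (x : T ⟶ X), lift g x ≫ a.act ≫ φ = (x ≫ φ) * g ^ n := by
  haveI : GeometricallyIntegral A.hom := Deform.AVFactor.geometricallyIntegral_smooth A
  haveI : IsIntegral A.left := GeometricallyIntegral.isIntegral_of_subsingleton A.hom
  haveI : QuasiCompact A.hom := inferInstance
  haveI : JacobsonSpace X.left := LocallyOfFiniteType.jacobsonSpace X.hom
  -- a rational point, its orbit and a transversal slice
  obtain ⟨x₀, -, hx₀⟩ := VarDim.exists_closed_specialization X.hom (genericPoint X.left)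
  obtain ⟨x, hx⟩ := Deform.Blanchard.exists_pt_of_closed hx₀
  let σ := a.orbitMap x
  let o := σ.left (genericPoint A.left)
  have hσ : ∀ g : Deform.Chev.Pt A, Deform.Chev.pimg (g ≫ σ) = σ.left (Deform.Chev.pimg g) := fun g => rfl
  have hone : η[A] ≫ σ = x := by
    show η[A] ≫ lift (𝟙 A) (toUnit A ≫ x) ≫ a.act = x
    rw [← Category.assoc, comp_lift, Category.comp_id, ← Category.assoc (η[A]) (toUnit A) x,
      toUnit_unique (η[A] ≫ toUnit A) (𝟙 _), Category.id_comp]
    have := congrArg (fun m => lift (𝟙 _) x ≫ m) a.one_act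
    simpa [lift_whiskerRight_assoc] using this
  have ho : o ⤳ x₀ := by
    rw [← hx, ← hone, hσ]
    exact (genericPoint_specializes _).map σ.left.continuous
  obtain ⟨P, N, hxN, hPx, hdim, hcut⟩ := Deform.AVTrace.exists_cut X.hom ho hx₀
  obtain ⟨T, j, hj, hTi, hjr, hjη⟩ := ConsPropLib.exists_integral_closure P
  haveI := hj
  haveI := hTi
  obtain ⟨t₀, ht₀⟩ : x₀ ∈ Set.range j := by rw [hjr]; exact specializes_iff_mem_closure.1 hPx
  let U := j ⁻¹ᵁ N
  have ht₀U : t₀ ∈ U := show j t₀ ∈ N from ht₀ ▸ hxN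
  haveI : Nonempty U := ⟨⟨t₀, ht₀U⟩⟩
  let Y' : Over (Spec (CommRingCat.of k)) := Over.mk (U.ι ≫ j ≫ X.hom)
  haveI : IsIntegral Y'.left := inferInstanceAs (IsIntegral U.toScheme)
  haveI : LocallyOfFiniteType Y'.hom := inferInstanceAs (LocallyOfFiniteType (U.ι ≫ j ≫ X.hom))
  let ι' : Y' ⟶ X := Over.homMk (U.ι ≫ j) (Category.assoc _ _ _)
  have hinj : Function.Injective ι'.left := fun p q h =>
    U.ι.isOpenEmbedding.injective (j.isClosedEmbedding.injective h)
  obtain ⟨y₀, hy₀⟩ := Deform.Blanchard.exists_pt_of_closed (A := Y') (p := ⟨t₀, ht₀U⟩) (by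
    have h := hx₀.preimage ι'.left.continuous
    convert h using 1
    ext p
    refine ⟨fun hp => by rw [Set.mem_singleton_iff.1 hp]; exact ht₀, fun hp => hinj ?_⟩
    exact (Set.mem_singleton_iff.1 hp).trans ht₀.symm)
  have hy₀x : y₀ ≫ ι' = x := Deform.Blanchard.pt_ext (by
    rw [hx]
    exact (congrArg ι'.left hy₀).trans ht₀)
  let π := (A ◁ ι') ≫ a.act
  have hπ : ∀ (g : Deform.Chev.Pt A) (y : Deform.Chev.Pt Y'), lift g y ≫ π = lift g (y ≫ ι') ≫ a.act :=
    fun g y => lift_whiskerLeft_assoc _ _ _ _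
  haveI : IsLocallyNoetherian Y'.left := LocallyOfFiniteType.isLocallyNoetherian Y'.hom
  haveI hW : IsIntegral (A ⊗ Y').left := inferInstanceAs (IsIntegral (pullback A.hom Y'.hom))
  haveI : LocallyOfFiniteType (A ⊗ Y').hom :=
    inferInstanceAs (LocallyOfFiniteType (pullback.fst A.hom Y'.hom ≫ A.hom))
  haveI : LocallyOfFiniteType π.left :=
    haveI : LocallyOfFiniteType (π.left ≫ X.hom) := by rw [Over.w π]; infer_instance
    locallyOfFiniteType_of_comp π.left X.hom
  -- finiteness over the base point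
  obtain ⟨St, hSt, s, hs, hsc, hfix⟩ := exists_stabilizer a x
  haveI := hs
  haveI := hsc
  haveI : IsAffine St.left := S11410.result k A X a hfaith x St s hfix
  haveI : IsProper St.hom := by rw [← Over.w s]; infer_instance
  haveI : IsFinite St.hom := IsFinite.iff_isProper_and_isAffineHom.mpr ⟨inferInstance, inferInstance⟩
  have hfinSt : Finite (Deform.Chev.Pt St) := by
    haveI : Finite St.left := by
      rw [← Set.finite_univ_iff, show (Set.univ : Set St.left) = St.hom ⁻¹' {IsLocalRing.closedPoint k} from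
        Set.ext fun p => ⟨fun _ => Subsingleton.elim (α := PrimeSpectrum k) _ _, fun _ => trivial⟩]
      exact St.hom.finite_preimage_singleton _
    exact Finite.of_injective Deform.Chev.pimg fun _ _ h => Deform.Blanchard.pt_ext h
  have hfin : (π.left ⁻¹' {x₀}).Finite := by
    haveI : JacobsonSpace (A ⊗ Y').left := LocallyOfFiniteType.jacobsonSpace (A ⊗ Y').hom
    have hS : IsClosed (π.left ⁻¹' {x₀}) := hx₀.preimage π.left.continuous
    have hsub : (π.left ⁻¹' {x₀}) ∩ closedPoints _ ⊆
        Set.range fun g : Deform.Chev.Pt St => Deform.Chev.pimg (lift (g ≫ s) y₀) := by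
      rintro z ⟨hz, hzc⟩
      obtain ⟨w, rfl⟩ := Deform.Blanchard.exists_pt_of_closed (A := A ⊗ Y') hzc
      obtain ⟨g, y, rfl⟩ : ∃ g y, w = lift g y := ⟨w ≫ fst _ _, w ≫ snd _ _, by simp [← comp_lift]⟩
      have h1 : lift g (y ≫ ι') ≫ a.act = x := by
        rw [← hπ]
        exact Deform.Blanchard.pt_ext ((Set.mem_singleton_iff.1 hz).trans hx.symm)
      have h2 : y ≫ ι' = g⁻¹ ≫ σ := by
        show _ = g⁻¹ ≫ lift (𝟙 A) (toUnit A ≫ x) ≫ a.act
        rw [← Category.assoc g⁻¹, comp_lift, Category.comp_id, ← Category.assoc g⁻¹ (toUnit A) x,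
          toUnit_unique (g⁻¹ ≫ toUnit A) (𝟙 _), Category.id_comp, ← h1, Deform.Bundle.act_act, inv_mul_cancel,
          Deform.AVTrace.act_one']
      have h3 : ι'.left (Deform.Chev.pimg y) = x₀ := by
        refine hcut _ ((Deform.Chev.pimg y).2) ?_ (specializes_iff_mem_closure.2 (hjr ▸ ⟨_, rfl⟩))
        show o ⤳ Deform.Chev.pimg (y ≫ ι')
        rw [h2, hσ]
        exact (genericPoint_specializes _).map σ.left.continuous
      obtain rfl : y = y₀ := Deform.Blanchard.pt_ext (hinj (h3.trans (by rw [hy₀]; exact ht₀.symm)))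
      obtain ⟨g', hg'⟩ := (hfix _ g).2 (by
        rw [toUnit_unique (toUnit _) (𝟙 _), Category.id_comp]
        rw [hy₀x] at h1
        exact h1)
      exact ⟨g', by rw [← hg']⟩
    have hcl : ((π.left ⁻¹' {x₀}) ∩ closedPoints _).Finite := (Set.finite_range _).subset hsub
    rw [← closure_inter_closedPoints hS]
    have : IsClosed ((π.left ⁻¹' {x₀}) ∩ closedPoints _) := by
      rw [← Set.biUnion_of_singleton ((π.left ⁻¹' {x₀}) ∩ closedPoints _)]
      exact hcl.isClosed_biUnion fun z hz => hz.2
    rwa [this.closure_eq]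
  let p₀ := Deform.Chev.pimg (lift (1 : Deform.Chev.Pt A) y₀)
  have hp₀ : π.left p₀ = x₀ := by
    show Deform.Chev.pimg (lift (1 : Deform.Chev.Pt A) y₀ ≫ π) = _
    rw [hπ, Deform.AVTrace.act_one', hy₀x, hx]
  have hqp : π.left.QuasiFiniteAt p₀ := by
    haveI : Finite (π.left.fiber (π.left p₀)) :=
      (π.left.fiberHomeo (π.left p₀)).finite_iff.mpr (by rw [hp₀]; exact hfin.to_subtype)
    exact Scheme.Hom.quasiFiniteAt_iff_isOpen_singleton_asFiber.mpr (isOpen_discrete _)
  have hq : π.left.QuasiFiniteAt (genericPoint (A ⊗ Y').left) :=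
    (genericPoint_specializes p₀).mem_open π.left.quasiFiniteLocus.isOpen hqp
  -- dominance
  have hgen : π.left (genericPoint (A ⊗ Y').left) = genericPoint X.left := by
    refine (VarDim.eq_of_specializes_of_deg_le X.hom (genericPoint_specializes _) ?_).symm
    have h0 : VarDim.fdeg π.left (genericPoint (A ⊗ Y').left) = 0 := by
      letI := (π.left.residueFieldMap (genericPoint (A ⊗ Y').left)).hom.toAlgebra
      haveI : Module.Finite _ _ := MorLib.GF.finite_residueFieldMap' π.left _ hq
      show Cardinal.toNat (Algebra.trdeg (X.left.residueField _) ((A ⊗ Y').left.residueField _)) = 0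
      rw [trdeg_eq_zero]
      simp
    have h1 := VarDim.deg_eq_add π.left X.hom (Over.w π) (genericPoint (A ⊗ Y').left)
    have h2 : VarDim.deg X.hom o ≤ VarDim.deg A.hom (genericPoint A.left) :=
      VarDim.deg_map_le σ.left X.hom (Over.w σ) _
    have h3 : VarDim.deg X.hom P ≤ VarDim.deg Y'.hom (genericPoint Y'.left) := by
      refine le_trans (le_of_eq ?_) (VarDim.deg_map_le ι'.left X.hom (Over.w ι') _)
      congr 1
      show P = j (U.ι (genericPoint U.toScheme))
      rw [genericPoint_eq_of_isOpenImmersion, hjη]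
    have h4 := deg_prod A Y'
    omega
  haveI : IsDominant π.left := ⟨by
    refine dense_iff_closure_eq.2 (Set.eq_univ_of_forall fun p => ?_)
    exact closure_mono (Set.singleton_subset_iff.2 (Set.mem_range_self _))
      (specializes_iff_mem_closure.1 (show π.left (genericPoint (A ⊗ Y').left) ⤳ p from hgen ▸ genericPoint_specializes p))⟩
  exact Deform.AVTrace.exists_equivariant_of_slice A X Y' a ι' hq

end Groth.Agent.S11396
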