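import Groth.Statements.S11397
import Groth.Agent.Deform.Chev.Components
import Groth.Agent.VarDim.Top


set_option autoImplicit false
universe u
open CategoryTheory MonoidalCategory CartesianMonoidalCategory MonObj GrpObj AlgebraicGeometry CategoryTheory.Limits
open AlgGrp

namespace Groth.Agent.S11397
set_option linter.style.haveILetI false
open CategoryTheory CategoryTheory.Limits MonoidalCategory CartesianMonoidalCategory MonObj GrpObj AlgebraicGeometry
attribute [local instance] CategoryTheory.Hom.monoid CategoryTheory.Hom.group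

/-- Over an algebraically closed field k, let G be an algebraic group (a smooth k-group scheme of finite
type) which is not proper over k. Then G has a smooth closed subgroup scheme which is affine and of
positive dimension. -/
theorem result (k : Type u) [Field k] [IsAlgClosed k]
    (G : Over (Spec (CommRingCat.of k))) [GrpObj G] [Smooth G.hom] [QuasiCompact G.hom] (hG : ¬ IsProper G.hom) :
    ∃ (H : Over (Spec (CommRingCat.of k))) (_ : GrpObj H) (j : H ⟶ G), IsMonHom j ∧ IsClosedImmersion j.left ∧
      Smooth H.hom ∧ IsAffine H.left ∧ 0 < topologicalKrullDim ↥H.left := by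
  obtain ⟨N, iN, i, G₀, iG₀, i₀, j, Q, iQ, q, ⟨hi, hic, hNs, hNq, hNc, hNa, hn, hji⟩, ⟨hi₀, hc₀, ho₀, hs₀, hq₀, -, hr⟩,
    ⟨hq, hqf, hqs, hk, hQ, -, -⟩, hlarge⟩ := Deform.Chev.exists_affPart G
  haveI := hi; haveI := hic; haveI := hNs; haveI := hNq; haveI := hNc; haveI := hNa; haveI := hi₀; haveI := hc₀
  haveI := ho₀; haveI := hs₀; haveI := hq₀; haveI := hq; haveI := hQ
  refine ⟨N, iN, i, hi, hic, hNs, hNa, ?_⟩
  haveI : IsIntegral N.left := GrpSchLib.Kunneth.isIntegral_grp N
  by_contra hdim
  rw [VarDim.topologicalKrullDim_eq_deg_genericPoint N.hom] at hdim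
  have hd : VarDim.deg N.hom (genericPoint N.left) = 0 := by
    by_contra hne
    apply hdim
    have : (0 : ℕ∞) < VarDim.deg N.hom (genericPoint N.left) := by exact_mod_cast Nat.pos_of_ne_zero hne
    exact_mod_cast this
  have hsing := (VarDim.closedPoint_iff_deg_eq_zero N.hom _).mpr hd
  have huniv : ({genericPoint N.left} : Set N.left) = Set.univ := by rw [← hsing.closure_eq, genericPoint_closure]
  haveI hsub : Subsingleton N.left := ⟨fun a b => (huniv.ge (Set.mem_univ a) : a = _).trans (huniv.ge (Set.mem_univ b) : b = _).symm⟩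
  haveI : IsIso N.hom := by
    haveI := GrpSchLib.AntiAffine.isSeparated_grp N
    haveI : IsClosedImmersion (η[N].left ≫ N.hom) := by
      rw [Over.w η[N]]; exact inferInstanceAs (IsClosedImmersion (𝟙 (Spec (CommRingCat.of k))))
    haveI : IsClosedImmersion η[N].left := IsClosedImmersion.of_comp η[N].left N.hom
    haveI : Surjective η[N].left := ⟨fun x => ⟨(IsLocalRing.closedPoint k : PrimeSpectrum k), Subsingleton.elim _ _⟩⟩
    haveI := isIso_of_isClosedImmersion_of_surjective η[N].left
    exact IsIso.of_isIso_fac_left (f := η[N].left) (g := N.hom) (h := 𝟙 _) (Over.w η[N])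
  haveI : Mono i₀ := (Over.forget _).mono_of_mono_map (inferInstanceAs (Mono i₀.left))
  haveI : IsMonHom j := by
    constructor
    · rw [← cancel_mono i₀, Category.assoc, hji, IsMonHom.one_hom i₀, IsMonHom.one_hom]
    · rw [← cancel_mono i₀, Category.assoc, hji, Category.assoc, IsMonHom.mul_hom i₀, IsMonHom.mul_hom,
        ← Category.assoc (j ⊗ₘ j), MonoidalCategory.tensorHom_comp_tensorHom, hji]
  haveI : Mono q := Deform.AntiAffineParts.mono_of_trivial q j hk
  haveI := Deform.Chev.quasiCompact_of_grp q
  haveI : IsClosedImmersion q.left := S3036.result k G₀ Q q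
  haveI : IsProper G₀.hom := by rw [← Over.w q]; infer_instance
  exact hG (Deform.Chev.isProper_of_neutral i₀ hr)

end Groth.Agent.S11397
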