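import Groth.Statements.S11398
import Groth.Agent.Deform.Chev.Components


set_option autoImplicit false
universe u
open CategoryTheory MonoidalCategory CartesianMonoidalCategory MonObj GrpObj AlgebraicGeometry CategoryTheory.Limits
open AlgGrp

namespace Groth.Agent.S11398
set_option linter.style.haveILetI false
open CategoryTheory CategoryTheory.Limits MonoidalCategory CartesianMonoidalCategory MonObj GrpObj AlgebraicGeometry
attribute [local instance] CategoryTheory.Hom.monoid CategoryTheory.Hom.group

/-- Over an algebraically closed field k, every algebraic group G (a smooth k-group scheme of finite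
type) has a largest connected affine normal algebraic subgroup G_aff: a homomorphism and closed
immersion i : N → G from a smooth, connected, affine k-group scheme, normal in G, through which
every other such subgroup factors. Moreover the quotient G/G_aff has trivial G_aff: for every flat
surjective homomorphism q : G → Q of k-group schemes of finite type with kernel i, every smooth
connected affine normal closed subgroup of Q is the trivial group. -/
theorem result (k : Type u) [Field k] [IsAlgClosed k]
    (G : Over (Spec (CommRingCat.of k))) [GrpObj G] [Smooth G.hom] [QuasiCompact G.hom] :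
    ∃ (N : Over (Spec (CommRingCat.of k))) (_ : GrpObj N) (i : N ⟶ G), (IsMonHom i ∧ IsClosedImmersion i.left ∧ Smooth N.hom ∧
      ConnectedSpace ↥N.left ∧ IsAffine N.left ∧ AlgGrp.IsNormalHom i) ∧
      (∀ (N' : Over (Spec (CommRingCat.of k))) [GrpObj N'] (i' : N' ⟶ G) [IsMonHom i'] [IsClosedImmersion i'.left]
        [Smooth N'.hom] [ConnectedSpace ↥N'.left] [IsAffine N'.left], AlgGrp.IsNormalHom i' → ∃ f : N' ⟶ N, f ≫ i = i') ∧
      (∀ (Q : Over (Spec (CommRingCat.of k))) [GrpObj Q] [LocallyOfFiniteType Q.hom] [QuasiCompact Q.hom] (q : G ⟶ Q) [IsMonHom q]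
        [Surjective q.left] [Flat q.left], AlgGrp.IsKernel i q →
        ∀ (N'' : Over (Spec (CommRingCat.of k))) [GrpObj N''] (i'' : N'' ⟶ Q) [IsMonHom i''] [IsClosedImmersion i''.left]
          [Smooth N''.hom] [ConnectedSpace ↥N''.left] [IsAffine N''.left], AlgGrp.IsNormalHom i'' → IsIso N''.hom) := by
  obtain ⟨N, iN, i, G₀, iG₀, i₀, j, Q, iQ, q, ⟨hi, hic, hNs, -, hNc, hNa, hn, hji⟩, ⟨hi₀, hc₀, ho₀, hs₀, hq₀, -, hr⟩,
    ⟨hq, hqf, hqs, hk, hQ, -, -⟩, hlarge⟩ := Deform.Chev.exists_affPart G
  haveI := hi; haveI := hi₀; haveI := hc₀; haveI := ho₀; haveI := hq; haveI := hqf; haveI := hqs; haveI := hQ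
  refine ⟨N, iN, i, ⟨hi, hic, hNs, hNc, hNa, hn⟩, fun N' _ i' _ _ _ _ _ _ => hlarge N' i', ?_⟩
  intro Q' _ _ _ q' _ _ _ hk' N'' _ i'' _ _ _ _ _ _
  haveI : Mono i₀ := (Over.forget _).mono_of_mono_map (inferInstanceAs (Mono i₀.left))
  haveI : IsMonHom j := by
    constructor
    · rw [← cancel_mono i₀, Category.assoc, hji, IsMonHom.one_hom i₀, IsMonHom.one_hom]
    · rw [← cancel_mono i₀, Category.assoc, hji, Category.assoc, IsMonHom.mul_hom i₀, IsMonHom.mul_hom,
        ← Category.assoc (j ⊗ₘ j), MonoidalCategory.tensorHom_comp_tensorHom, hji]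
  exact Deform.Chev.isIso_of_affine_quot i₀ hr j q hk q' (hji.symm ▸ hk') i''

end Groth.Agent.S11398
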