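import Groth.Statements.S11399
import Groth.Agent.Deform.Chev.Components


set_option autoImplicit false
universe u
open CategoryTheory MonoidalCategory CartesianMonoidalCategory MonObj GrpObj AlgebraicGeometry CategoryTheory.Limits
open AlgGrp

namespace Groth.Agent.S11399
set_option linter.style.haveILetI false
open CategoryTheory CategoryTheory.Limits MonoidalCategory CartesianMonoidalCategory MonObj GrpObj AlgebraicGeometry
attribute [local instance] CategoryTheory.Hom.monoid CategoryTheory.Hom.group

/-- Over an algebraically closed field k, let G be a connected algebraic group (smooth k-group scheme of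
finite type) and let i : N → G be its largest connected affine normal algebraic subgroup G_aff (a
homomorphism and closed immersion from a smooth, connected, affine k-group scheme, normal in G,
through which every other such subgroup factors). Then G_aff is the largest connected affine
algebraic subgroup of G: every homomorphism and closed immersion from a smooth, connected, affine
k-group scheme into G factors through i. -/
theorem result (k : Type u) [Field k] [IsAlgClosed k]
    (G : Over (Spec (CommRingCat.of k))) [GrpObj G] [Smooth G.hom] [QuasiCompact G.hom] [ConnectedSpace ↥G.left]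
    (N : Over (Spec (CommRingCat.of k))) [GrpObj N] (i : N ⟶ G) [IsMonHom i] [IsClosedImmersion i.left]
    [Smooth N.hom] [ConnectedSpace ↥N.left] [IsAffine N.left] (hN : AlgGrp.IsNormalHom i)
    (hNmax : ∀ (N' : Over (Spec (CommRingCat.of k))) [GrpObj N'] (i' : N' ⟶ G) [IsMonHom i'] [IsClosedImmersion i'.left]
      [Smooth N'.hom] [ConnectedSpace ↥N'.left] [IsAffine N'.left], AlgGrp.IsNormalHom i' → ∃ f : N' ⟶ N, f ≫ i = i')
    (H : Over (Spec (CommRingCat.of k))) [GrpObj H] (h : H ⟶ G) [IsMonHom h] [IsClosedImmersion h.left]
    [Smooth H.hom] [ConnectedSpace ↥H.left] [IsAffine H.left] :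
    ∃ f : H ⟶ N, f ≫ i = h := by
  obtain ⟨N', iN', i', G₀, iG₀, i₀, j, Q, iQ, q, ⟨hi, hic, hNs, -, hNc, hNa, hn, -⟩, -, -, hlarge⟩ :=
    Deform.Chev.exists_affPart G
  haveI := hi; haveI := hic; haveI := hNs; haveI := hNc; haveI := hNa
  obtain ⟨f, hf⟩ := hlarge H h
  obtain ⟨g, hg⟩ := hNmax N' i' hn
  exact ⟨f ≫ g, by rw [Category.assoc, hg, hf]⟩

end Groth.Agent.S11399
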