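import Groth.Statements.S11401
import Groth.Agent.Deform.SpecialGrp.AffPart

set_option autoImplicit false
universe u
open CategoryTheory MonoidalCategory CartesianMonoidalCategory MonObj GrpObj AlgebraicGeometry CategoryTheory.Limits
open AlgGrp

namespace Groth.Agent.S11401
attribute [local instance] CategoryTheory.Hom.monoid CategoryTheory.Hom.group
set_option linter.style.haveILetI false
set_option maxHeartbeats 2000000
open Groth.Agent

/-- Over an algebraically closed field k, let G be a connected algebraic group (smooth k-group scheme of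
finite type), let i : N → G be its largest connected affine normal algebraic subgroup G_aff (a
homomorphism and closed immersion from a smooth, connected, affine k-group scheme, normal in G,
through which every other such subgroup factors), and let α : G → A be a flat surjective
homomorphism with kernel i onto a proper smooth k-group scheme A (so A = G/G_aff). Then α is a
Zariski-locally trivial principal bundle: every point of A has an open neighbourhood over which α
admits a section. -/
theorem result (k : Type u) [Field k] [IsAlgClosed k]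
    (G : Over (Spec (CommRingCat.of k))) [GrpObj G] [Smooth G.hom] [QuasiCompact G.hom] [ConnectedSpace ↥G.left]
    (N : Over (Spec (CommRingCat.of k))) [GrpObj N] (i : N ⟶ G) [IsMonHom i] [IsClosedImmersion i.left]
    [Smooth N.hom] [ConnectedSpace ↥N.left] [IsAffine N.left] (hN : AlgGrp.IsNormalHom i)
    (hNmax : ∀ (N' : Over (Spec (CommRingCat.of k))) [GrpObj N'] (i' : N' ⟶ G) [IsMonHom i'] [IsClosedImmersion i'.left]
      [Smooth N'.hom] [ConnectedSpace ↥N'.left] [IsAffine N'.left], AlgGrp.IsNormalHom i' → ∃ f : N' ⟶ N, f ≫ i = i')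
    (A : Over (Spec (CommRingCat.of k))) [GrpObj A] [IsProper A.hom] [Smooth A.hom] (α : G ⟶ A) [IsMonHom α]
    [Surjective α.left] [Flat α.left] (hker : AlgGrp.IsKernel i α) (y : ↥A.left) :
    ∃ U : A.left.Opens, y ∈ U ∧ ∃ s : ↑U ⟶ G.left, s ≫ α.left = U.ι := by
  haveI : IsAffineHom N.hom := isAffineHom_of_isAffine _
  haveI : ConnectedSpace ↥A.left := α.left.surjective.connectedSpace α.left.continuous
  obtain ⟨B, G', gB, gG', iB, j, hiB, hj, hG'l, hs, hSp, hk⟩ := Deform.SpecialGrp.exists_reduction G N i A α hker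
  haveI := hiB; haveI := hj; haveI := hG'l; haveI := hs
  haveI : IsIntegral A.left := GrpSchLib.Kunneth.isIntegral_grp A
  haveI : LocallyOfFiniteType ((j ≫ α).left ≫ A.hom) := by rw [Over.w (j ≫ α)]; infer_instance
  haveI : LocallyOfFiniteType (j ≫ α).left := locallyOfFiniteType_of_comp (j ≫ α).left A.hom
  obtain ⟨U, hU, s, hsU⟩ := Deform.SpecialGrp.exists_section_open hSp (Deform.SpecialGrp.leftMul iB) (j ≫ α)
    (Deform.SpecialGrp.isPullback_leftMul iB (j ≫ α) hk)
  haveI : JacobsonSpace A.left := LocallyOfFiniteType.jacobsonSpace A.hom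
  haveI : IsLocallyNoetherian A.left := LocallyOfFiniteType.isLocallyNoetherian A.hom
  -- a closed point in the closure of `y`
  obtain ⟨c, hc, hcc⟩ := nonempty_inter_closedPoints (X := ↥A.left) (Z := closure {y})
    ⟨y, subset_closure rfl⟩ isClosed_closure.isLocallyClosed
  obtain ⟨a, rfl⟩ := Deform.Chev.exists_pimg_eq (G := A) hcc
  obtain ⟨w, hw⟩ := Deform.Chev.exists_pt_open (G := A) hU
  obtain ⟨g, hg⟩ := Deform.Borel.exists_pt_over α (a * w⁻¹)
  let t : A ⟶ A := (toUnit A ≫ (a * w⁻¹)⁻¹) * 𝟙 A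
  have hta : a ≫ t = w := by
    simp only [t, MonObj.comp_mul, Category.comp_id, ← Category.assoc]
    rw [toUnit_unique (a ≫ toUnit A) (𝟙 _), Category.id_comp, _root_.mul_inv_rev, _root_.inv_inv,
      inv_mul_cancel_right]
  have hy : y ∈ t.left ⁻¹ᵁ U := by
    have hmem : Deform.Chev.pimg a ∈ t.left ⁻¹ᵁ U := by
      show t.left (Deform.Chev.pimg a) ∈ U
      rw [show t.left (Deform.Chev.pimg a) = Deform.Chev.pimg (a ≫ t) from rfl, hta]
      exact hw
    obtain ⟨_, h1, rfl⟩ := mem_closure_iff.mp hc _ (t.left ⁻¹ᵁ U).2 hmem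
    exact h1
  refine ⟨t.left ⁻¹ᵁ U, hy, ?_⟩
  let V : Over (Spec (CommRingCat.of k)) := Over.mk (U.ι ≫ A.hom)
  let V' : Over (Spec (CommRingCat.of k)) := Over.mk ((t.left ⁻¹ᵁ U).ι ≫ A.hom)
  let ι₀ : V ⟶ A := Over.homMk U.ι rfl
  let ι₁ : V' ⟶ A := Over.homMk (t.left ⁻¹ᵁ U).ι rfl
  let r : V' ⟶ V := Over.homMk (t.left ∣_ U) (by
    show (t.left ∣_ U) ≫ U.ι ≫ A.hom = (t.left ⁻¹ᵁ U).ι ≫ A.hom
    rw [morphismRestrict_ι_assoc, Over.w t])
  let S : V ⟶ G' := Over.homMk s (by
    show s ≫ G'.hom = U.ι ≫ A.hom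
    rw [← Over.w (j ≫ α), ← Category.assoc, hsU])
  have hS : S ≫ j ≫ α = ι₀ := Over.OverMorphism.ext hsU
  have hr : r ≫ ι₀ = ι₁ ≫ t := Over.OverMorphism.ext (morphismRestrict_ι t.left U)
  refine ⟨((toUnit V' ≫ g) * (r ≫ S ≫ j)).left, ?_⟩
  have h : ((toUnit V' ≫ g) * (r ≫ S ≫ j)) ≫ α = ι₁ := by
    rw [MonObj.mul_comp, Category.assoc, Category.assoc, Category.assoc, hS, hg, hr]
    simp only [t, MonObj.comp_mul, Category.comp_id, ← Category.assoc]
    rw [toUnit_unique (ι₁ ≫ toUnit A) (toUnit V')]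
    simp only [MonObj.comp_mul, GrpObj.comp_inv]
    group
  exact congrArg (fun m => Over.Hom.left m) h

end Groth.Agent.S11401
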