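import Groth.Statements.S11402
import Groth.Agent.Deform.AVFactor


set_option autoImplicit false
universe u
open CategoryTheory MonoidalCategory CartesianMonoidalCategory MonObj GrpObj AlgebraicGeometry CategoryTheory.Limits
open AlgGrp

namespace Groth.Agent.S11402
set_option linter.style.haveILetI false

open CategoryTheory CategoryTheory.Limits MonoidalCategory CartesianMonoidalCategory MonObj GrpObj AlgebraicGeometry

attribute [local instance] CategoryTheory.Hom.monoid CategoryTheory.Hom.group


/-- Over an algebraically closed field k, let G be a connected algebraic group (smooth k-group scheme of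
finite type), let i : N → G be its largest connected affine normal algebraic subgroup G_aff (a
homomorphism and closed immersion from a smooth, connected, affine k-group scheme, normal in G,
through which every other such subgroup factors), and let α : G → A be a flat surjective
homomorphism with kernel i onto a proper smooth k-group scheme A (so A = G/G_aff is an abelian
variety). Then α is the Albanese morphism of G: every k-morphism (not necessarily a homomorphism)
from G to an abelian variety B (a proper, smooth, connected k-group scheme) factors uniquely through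
α. -/
theorem result (k : Type u) [Field k] [IsAlgClosed k]
    (G : Over (Spec (CommRingCat.of k))) [GrpObj G] [Smooth G.hom] [QuasiCompact G.hom] [ConnectedSpace ↥G.left]
    (N : Over (Spec (CommRingCat.of k))) [GrpObj N] (i : N ⟶ G) [IsMonHom i] [IsClosedImmersion i.left]
    [Smooth N.hom] [ConnectedSpace ↥N.left] [IsAffine N.left] (hN : AlgGrp.IsNormalHom i)
    (hNmax : ∀ (N' : Over (Spec (CommRingCat.of k))) [GrpObj N'] (i' : N' ⟶ G) [IsMonHom i'] [IsClosedImmersion i'.left]
      [Smooth N'.hom] [ConnectedSpace ↥N'.left] [IsAffine N'.left], AlgGrp.IsNormalHom i' → ∃ f : N' ⟶ N, f ≫ i = i')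
    (A : Over (Spec (CommRingCat.of k))) [GrpObj A] [IsProper A.hom] [Smooth A.hom] (α : G ⟶ A) [IsMonHom α]
    [Surjective α.left] [Flat α.left] (hker : AlgGrp.IsKernel i α)
    (B : Over (Spec (CommRingCat.of k))) [GrpObj B] [IsProper B.hom] [Smooth B.hom] [ConnectedSpace ↥B.left] (f : G ⟶ B) :
    ∃! g : A ⟶ B, α ≫ g = f := by
  let c : 𝟙_ (Over (Spec (CommRingCat.of k))) ⟶ B := η[G] ≫ f
  let f' : G ⟶ B := f * (toUnit G ≫ c)⁻¹
  have hf' : η[G] ≫ f' = 1 := by
    simp only [f', MonObj.comp_mul, GrpObj.comp_inv, ← Category.assoc]
    rw [toUnit_unique (η[G] ≫ toUnit G) (𝟙 _), Category.id_comp]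
    exact mul_inv_cancel _
  haveI := Deform.AVFactor.isMonHom_of_one f' hf'
  haveI : ConnectedSpace ↥A.left := α.left.surjective.connectedSpace α.left.continuous
  haveI : LocallyOfFiniteType A.hom := inferInstance
  have hi : i ≫ f' = toUnit N ≫ η[B] := by
    rw [Deform.AVFactor.eq_one_of_affine (i ≫ f'), Hom.one_def]
  obtain ⟨φ, -, hφ, huniq⟩ := S3280.result k G N A B α i hker f' hi
  refine ⟨φ * (toUnit A ≫ c), ?_, fun g hg => ?_⟩
  · simp only [MonObj.comp_mul, hφ, comp_toUnit_assoc, f', inv_mul_cancel_right]
  · have h := huniq (g * (toUnit A ≫ c)⁻¹) (by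
      simp only [MonObj.comp_mul, GrpObj.comp_inv, comp_toUnit_assoc, f', hg])
    rw [← h, inv_mul_cancel_right]

end Groth.Agent.S11402
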