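import Groth.Statements.S11413
import Groth.Agent.Deform.FiniteDescent.Basic
import Groth.Agent.Deform.Chev.FiniteField
import Groth.Agent.ConsPropLib.NoethApprox
import Groth.Agent.GrpLimLib.Basic
import Groth.Agent.S0591


set_option autoImplicit false
universe u
open CategoryTheory MonoidalCategory CartesianMonoidalCategory MonObj GrpObj AlgebraicGeometry CategoryTheory.Limits
open AlgGrp

namespace Groth.Agent.S11413
set_option maxHeartbeats 1000000
open scoped MonObj
open Groth.Agent.ConsPropLib
attribute [local instance] CategoryTheory.Hom.monoid CategoryTheory.Hom.group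

/-- Division on a group of finite presentation over a limit is defined over a stage. -/
theorem exists_model {I : Type u} [SmallCategory I] [IsCofiltered I] (D : I ⥤ Scheme.{u}) {c : Cone D}
    (hc : IsLimit c) [∀ (i i' : I) (f : i ⟶ i'), IsAffineHom (D.map f)] [∀ i, CompactSpace (D.obj i)]
    [∀ i, QuasiSeparatedSpace (D.obj i)] (G : Over c.pt) [GrpObj G]
    [LocallyOfFinitePresentation G.hom] [QuasiCompact G.hom] [IsSeparated G.hom] :
    ∃ (i : I) (X' : Over (D.obj i)) (e' : (Over.pullback (c.π.app i)).obj X' ≅ G) (d : X' ⊗ X' ⟶ X'),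
      QuasiCompact X'.hom ∧ LocallyOfFiniteType X'.hom ∧
      (Over.pullback (c.π.app i)).map d ≫ e'.hom =
        ((Over.pullback (c.π.app i)).map (fst X' X') ≫ e'.hom) / ((Over.pullback (c.π.app i)).map (snd X' X') ≫ e'.hom) := by
  obtain ⟨i₀, X₀, f₀, g₀, hlfp, hqc, hqs, hsq⟩ := S0591.result D c hc G.left G.hom
  haveI := hlfp; haveI := hqc; haveI := hqs
  let X : Over (D.obj i₀) := Over.mk f₀
  haveI : LocallyOfFinitePresentation X.hom := hlfp
  haveI : QuasiCompact (X ⊗ X).hom := inferInstanceAs (QuasiCompact (pullback.fst f₀ f₀ ≫ f₀))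
  haveI : QuasiSeparated (X ⊗ X).hom := inferInstanceAs (QuasiSeparated (pullback.fst f₀ f₀ ≫ f₀))
  let F := Over.pullback (c.π.app i₀)
  let e : F.obj X ≅ G := Over.isoMk hsq.isoPullback.symm (hsq.isoPullback_inv_snd)
  let u : F.obj (X ⊗ X) ⟶ F.obj X := ((F.map (fst X X) ≫ e.hom) / (F.map (snd X X) ≫ e.hom)) ≫ e.inv
  obtain ⟨i, f, ui, hui⟩ := GrpLimLib.exists_map_fst_eq D hc u
  let X' := Red.bc (D.map f) X
  let F' := Over.pullback (c.π.app i)
  let E := Over.pullback (D.map f)
  let e' : F'.obj X' ≅ G := GrpLimLib.cmp (c.w f) X ≪≫ e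
  have hnat : ∀ w : X ⊗ X ⟶ X, F'.map (E.map w) ≫ (GrpLimLib.cmp (c.w f) X).hom =
      (GrpLimLib.cmp (c.w f) (X ⊗ X)).hom ≫ F.map w := fun w => by
    apply GrpLimLib.hom_ext₁
    simp only [Over.comp_left, Category.assoc, F, F', E, GrpLimLib.cmp_hom_fst, GrpLimLib.map_left_fst]
    rw [← Category.assoc (GrpLimLib.cmp _ _).hom.left, GrpLimLib.cmp_hom_fst]
    simp only [GrpLimLib.pr, Category.assoc]
    rw [← Category.assoc, GrpLimLib.map_left_fst, Category.assoc]
    congr 1
    exact GrpLimLib.map_left_fst w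
  refine ⟨i, X', e', Functor.LaxMonoidal.μ E X X ≫ ui,
    inferInstanceAs (QuasiCompact (pullback.snd f₀ (D.map f))),
    inferInstanceAs (LocallyOfFiniteType (pullback.snd f₀ (D.map f))), ?_⟩
  have h1 : F'.map ui ≫ e'.hom = ((GrpLimLib.cmp (c.w f) (X ⊗ X)).hom ≫
      ((F.map (fst X X) ≫ e.hom) / (F.map (snd X X) ≫ e.hom))) := by
    show F'.map ui ≫ (GrpLimLib.cmp _ X).hom ≫ e.hom = _
    rw [show F'.map ui = _ from hui]
    simp only [u, Category.assoc, Iso.inv_hom_id_assoc, Iso.inv_hom_id, Category.comp_id]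
  have hf : fst X' X' = Functor.LaxMonoidal.μ E X X ≫ E.map (fst X X) := (Functor.Monoidal.μ_fst E X X).symm
  have hs : snd X' X' = Functor.LaxMonoidal.μ E X X ≫ E.map (snd X X) := (Functor.Monoidal.μ_snd E X X).symm
  show F'.map (Functor.LaxMonoidal.μ E X X ≫ ui) ≫ e'.hom =
    (F'.map (fst X' X') ≫ e'.hom) / (F'.map (snd X' X') ≫ e'.hom)
  rw [Functor.map_comp, Category.assoc, h1, GrpObj.comp_div, GrpObj.comp_div, hf, hs, Functor.map_comp,
    Functor.map_comp]
  congr 1
  · rw [Category.assoc]
    congr 1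
    rw [← Category.assoc, ← hnat, Category.assoc]
    rfl
  · rw [Category.assoc]
    congr 1
    rw [← Category.assoc, ← hnat, Category.assoc]
    rfl


/-- Let k be an algebraically closed field of characteristic p > 0 which is algebraic over its prime
field (every element x satisfies x^(p^n) = x for some n ≥ 1), so that k is an algebraic closure of a
finite field. Over such a field k, anti-affine algebraic groups are abelian varieties: every smooth
k-group scheme of finite type whose only global functions are the constants is proper over k. -/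
theorem result (k : Type u) [Field k] [IsAlgClosed k]
    (p : ℕ) [Fact p.Prime] [CharP k p] (halg : ∀ x : k, ∃ n : ℕ, 0 < n ∧ x ^ p ^ n = x)
    (G : Over (Spec (CommRingCat.of k))) [GrpObj G] [Smooth G.hom] [QuasiCompact G.hom]
    (hG : Function.Bijective ((Scheme.ΓSpecIso (CommRingCat.of k)).inv ≫ G.hom.appTop).hom) : IsProper G.hom := by
  haveI : IsSeparated G.hom := GrpSchLib.AntiAffine.isSeparated_grp G
  haveI : ∀ (i j : (Finset k)ᵒᵖ) (f : i ⟶ j), IsAffineHom ((NoethApprox.diagram (CommRingCat.of k)).map f) :=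
    fun _ _ f => NoethApprox.isAffineHom_map _ f
  haveI : ∀ i : (Finset k)ᵒᵖ, CompactSpace ((NoethApprox.diagram (CommRingCat.of k)).obj i) := fun _ => inferInstance
  haveI : ∀ i : (Finset k)ᵒᵖ, QuasiSeparatedSpace ((NoethApprox.diagram (CommRingCat.of k)).obj i) :=
    fun _ => inferInstance
  obtain ⟨i, X', e', d, hqc, hlft, hd⟩ := @exists_model _ _ _ (NoethApprox.diagram (CommRingCat.of k))
    (NoethApprox.cone _) (NoethApprox.isLimit _) _ _ _ G ‹GrpObj G›
    (inferInstanceAs (LocallyOfFinitePresentation G.hom)) ‹QuasiCompact G.hom› ‹IsSeparated G.hom›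
  -- the stage is the spectrum of a finite field
  let R := Algebra.adjoin ℤ ((i.unop : Finset k) : Set k)
  haveI : Finite R := by
    haveI : Module.Finite ℤ R := Module.Finite.iff_fg.2 (fg_adjoin_of_finite (Finset.finite_toSet _) fun x _ => by
      obtain ⟨n, hn, hx⟩ := halg x
      have h1 : 1 < p ^ n := Nat.one_lt_pow hn.ne' (Fact.out : p.Prime).one_lt
      exact ⟨Polynomial.X ^ p ^ n - Polynomial.X,
        Polynomial.monic_X_pow_sub (by rw [Polynomial.degree_X]; exact_mod_cast h1),
        by simp [hx]⟩)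
    haveI : AddGroup.FG R := Module.Finite.iff_addGroup_fg.1 inferInstance
    exact AddCommGroup.finite_of_fg_isAddTorsion _ fun x => isOfFinAddOrder_iff_nsmul_eq_zero.2
      ⟨p, (Fact.out : p.Prime).pos, Subtype.ext (by simp [nsmul_eq_mul, CharP.cast_eq_zero])⟩
  letI : Field R := (Finite.isDomain_to_isField R).toField
  let φ : R →+* k := R.val.toRingHom
  let X₁ : Over (Spec (CommRingCat.of R)) := X'
  let e₁ : (Over.pullback (Spec.map (CommRingCat.ofHom φ))).obj X₁ ≅ G := e'
  haveI : QuasiCompact X₁.hom := hqc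
  haveI : LocallyOfFiniteType X₁.hom := hlft
  haveI : Nonempty X₁.left :=
    ⟨(pullback.fst X₁.hom (Spec.map (CommRingCat.ofHom φ))) (e₁.inv.left (η[G].left (IsLocalRing.closedPoint k : PrimeSpectrum k)))⟩
  obtain ⟨str⟩ := Deform.FiniteDescent.exists_grpObj_of_div φ (X := X₁) e₁ d hd
  letI := str
  have hGb : Function.Bijective G.hom.appTop := (GrpSchLib.AntiAffine.bijective_appTop_iff _).1 hG
  have hb : Function.Bijective ((Over.pullback (Spec.map (CommRingCat.ofHom φ))).obj X₁).hom.appTop := by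
    rw [← Over.w e₁.hom, Scheme.Hom.comp_appTop]
    haveI : IsIso e₁.hom.left := ((Over.forget _).mapIso e₁).isIso_hom
    exact (ConcreteCategory.bijective_of_isIso (e₁.hom.left.app ⊤)).comp hGb
  haveI : IsProper X₁.hom := Deform.Chev.FiniteField.isProper_of_antiAffine X₁
    (Deform.FiniteDescent.bijective_appTop_of_bc φ hb)
  haveI : IsProper ((Over.pullback (Spec.map (CommRingCat.ofHom φ))).obj X₁).hom :=
    inferInstanceAs (IsProper (pullback.snd X₁.hom (Spec.map (CommRingCat.ofHom φ))))
  rw [← Over.w e₁.inv]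
  haveI : IsIso e₁.inv.left := ((Over.forget _).mapIso e₁).isIso_inv
  exact (MorphismProperty.cancel_left_of_respectsIso @IsProper e₁.inv.left _).mpr ‹_›

end Groth.Agent.S11413
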