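import Groth.Statements.S11414
import Groth.Agent.Deform.Borel.GB
import Groth.Agent.Deform.Borel.General
import Groth.Agent.Deform.Borel.FixedPoint
import Groth.Agent.Deform.Chev.StructCor

set_option autoImplicit false
universe u
open CategoryTheory MonoidalCategory CartesianMonoidalCategory MonObj GrpObj AlgebraicGeometry CategoryTheory.Limits
open AlgGrp

namespace Groth.Agent.S11414
attribute [local instance] CategoryTheory.Hom.monoid CategoryTheory.Hom.group
set_option linter.style.haveILetI false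
set_option maxHeartbeats 4000000
open Groth.Agent

/-- Over an algebraically closed field k, let G be a connected algebraic group (smooth k-group scheme of
finite type), let i : N → G be its largest connected affine normal algebraic subgroup G_aff (a
homomorphism and closed immersion from a smooth, connected, affine k-group scheme, normal in G,
through which every other such subgroup factors), let H be a closed subgroup scheme of G and X = G/H
a quotient (a k-scheme with a G-action and a rational point o whose orbit map is flat and surjective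
and identifies G × H with G ×_X G). Then X is proper over k exactly when some Borel subgroup of
G_aff lies in H (factors through H). (The published statement adds, for such a Borel subgroup B, an
isomorphism of G/B with the product of G/G_aff and G_aff/B; it is not stated here.) -/
theorem result (k : Type u) [Field k] [IsAlgClosed k]
    (G : Over (Spec (CommRingCat.of k))) [GrpObj G] [Smooth G.hom] [QuasiCompact G.hom] [ConnectedSpace ↥G.left]
    (N : Over (Spec (CommRingCat.of k))) [GrpObj N] (i : N ⟶ G) [IsMonHom i] [IsClosedImmersion i.left]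
    [Smooth N.hom] [ConnectedSpace ↥N.left] [IsAffine N.left] (hN : AlgGrp.IsNormalHom i)
    (hNmax : ∀ (N' : Over (Spec (CommRingCat.of k))) [GrpObj N'] (i' : N' ⟶ G) [IsMonHom i'] [IsClosedImmersion i'.left]
      [Smooth N'.hom] [ConnectedSpace ↥N'.left] [IsAffine N'.left], AlgGrp.IsNormalHom i' → ∃ f : N' ⟶ N, f ≫ i = i')
    (H : Over (Spec (CommRingCat.of k))) [GrpObj H] (h : H ⟶ G) [IsMonHom h] [IsClosedImmersion h.left]
    (X : Over (Spec (CommRingCat.of k))) (a : AlgGrp.Action G X) (o : 𝟙_ (Over (Spec (CommRingCat.of k))) ⟶ X) (hX : AGF.IsQuotient h X a o) :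
    IsProper X.hom ↔ ∃ (B : Over (Spec (CommRingCat.of k))) (_ : GrpObj B) (b : B ⟶ N) (f : B ⟶ H),
      Red.IsBorelOver k b ∧ f ≫ h = b ≫ i := by
  classical
  haveI : IsAffineHom N.hom := isAffineHom_of_isAffine _
  haveI := GrpSchLib.AntiAffine.isSeparated_grp G
  haveI : Mono i := (Over.forget _).mono_of_mono_map (inferInstanceAs (Mono i.left))
  obtain ⟨A, gA, α, hα, hαf, hαs, hker, hA, hAs, hAc⟩ := Deform.Chev.StructCor.exists_quot_of_max i hNmax
  haveI := hα; haveI := hαf; haveI := hαs; haveI := hA; haveI := hAs; haveI := hAc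
  obtain ⟨hXl, hof, hos, sq⟩ := id hX
  haveI := hXl; haveI := hof; haveI := hos
  constructor
  · intro hP
    haveI := hP
    obtain ⟨B₀, gB₀, iB₀, hB₀, -, -⟩ := Deform.Borel.exists_borel N
    obtain ⟨hb₀m, hb₀c, hB₀s, hB₀cn, hB₀sol, hB₀max⟩ := id hB₀
    haveI := hb₀m; haveI := hb₀c; haveI := hB₀s; haveI := hB₀cn
    haveI : IsAffine B₀.left := isAffine_of_isAffineHom iB₀.left
    haveI : Group.IsSolvable (Deform.Chev.Pt B₀) := Deform.Borel.isSolvable_pts_of_grp hB₀sol
    haveI : Nonempty X.left := ⟨Deform.Chev.pimg o⟩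
    obtain ⟨x, hx⟩ := Deform.Borel.exists_fixedPt B₀ X (a.restrict (iB₀ ≫ i))
    obtain ⟨g, hg⟩ := Deform.Borel.exists_pt_over (a.orbitMap o) x
    obtain ⟨φ, hφ⟩ := hN N (toUnit N ≫ g⁻¹) (𝟙 N)
    obtain ⟨ψ, hψ⟩ := hN N (toUnit N ≫ g) (𝟙 N)
    rw [Category.id_comp] at hφ hψ
    replace hφ : φ ≫ i = i ≫ Deform.Borel.conj g⁻¹ := by rw [← hφ, Deform.Borel.comp_conj]
    replace hψ : ψ ≫ i = i ≫ Deform.Borel.conj g := by rw [← hψ, Deform.Borel.comp_conj]
    have h1 : φ ≫ ψ = 𝟙 N := by
      rw [← cancel_mono i, Category.assoc, hψ, reassoc_of% hφ, Deform.Borel.conj_left_inv, Category.comp_id,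
        Category.id_comp]
    have h2 : ψ ≫ φ = 𝟙 N := by
      rw [← cancel_mono i, Category.assoc, hφ, reassoc_of% hψ, Deform.Borel.conj_right_inv, Category.comp_id,
        Category.id_comp]
    haveI : IsMonHom φ := Deform.isMonHom_of_comp φ i (i := i ≫ Deform.Borel.conj g⁻¹) hφ
    haveI : IsMonHom ψ := Deform.isMonHom_of_comp ψ i (i := i ≫ Deform.Borel.conj g) hψ
    haveI : IsIso φ.left := ((Over.forget _).mapIso (⟨φ, ψ, h1, h2⟩ : N ≅ N)).isIso_hom
    haveI : IsIso ψ.left := ((Over.forget _).mapIso (⟨ψ, φ, h2, h1⟩ : N ≅ N)).isIso_hom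
    have hbB : Red.IsBorelOver k (iB₀ ≫ φ) := by
      refine ⟨inferInstance, inferInstanceAs (IsClosedImmersion (iB₀.left ≫ φ.left)), hB₀s, hB₀cn, hB₀sol,
        fun B' _ i' _ f hi'c hBs hBc hBsol hf => ?_⟩
      haveI := hi'c
      exact hB₀max B' (i' ≫ ψ) f (inferInstanceAs (IsClosedImmersion (i'.left ≫ ψ.left))) hBs hBc hBsol
        (by rw [reassoc_of% hf, h1, Category.comp_id])
    -- the conjugate fixes the origin
    let bG : B₀ ⟶ G := (iB₀ ≫ φ) ≫ i
    have hbG : bG = (toUnit B₀ ≫ g)⁻¹ * (iB₀ ≫ i) * (toUnit B₀ ≫ g) := by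
      show (iB₀ ≫ φ) ≫ i = _
      rw [Category.assoc, hφ, ← Category.assoc, Deform.Borel.comp_conj]
      simp only [AGF.conjBy, GrpObj.comp_inv, _root_.inv_inv]
    have hxg : toUnit B₀ ≫ x = lift (toUnit B₀ ≫ g) (toUnit B₀ ≫ o) ≫ a.act := by
      rw [← hg, ← Category.assoc, GrpSchLib.comp_orbitMap, toUnit_unique (toUnit B₀) (toUnit B₀)]
    have hfix : lift (iB₀ ≫ i) (toUnit B₀ ≫ x) ≫ a.act = toUnit B₀ ≫ x := by
      have := hx B₀ (𝟙 B₀)
      rw [AlgGrp.Action.restrict] at this
      simp only [lift_whiskerRight_assoc, Category.id_comp] at this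
      exact this
    have horb : (1 : B₀ ⟶ G) ≫ a.orbitMap o = bG ≫ a.orbitMap o := by
      rw [GrpSchLib.comp_orbitMap, GrpSchLib.comp_orbitMap, GrpSchLib.act_one, hbG, ← GrpSchLib.act_mul, ← hxg,
        ← GrpSchLib.act_mul, hfix, hxg, GrpSchLib.act_mul, inv_mul_cancel, GrpSchLib.act_one]
    obtain ⟨w, hw1, hw2⟩ := sq.exists_lift (1 : B₀ ⟶ G) bG horb
    refine ⟨B₀, gB₀, iB₀ ≫ φ, w ≫ snd G H, hbB, ?_⟩
    show _ = bG
    rw [← hw2]
    have hw : w = lift (w ≫ fst G H) (w ≫ snd G H) := by rw [← comp_lift, lift_fst_snd, Category.comp_id]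
    conv_rhs => rw [hw, hw1, lift_whiskerLeft_assoc, ← Hom.mul_def, _root_.one_mul]
  · rintro ⟨B, gB, b, f, hB, hf⟩
    obtain ⟨hbm, hbc, hBs, hBcn, -, -⟩ := id hB
    haveI := hbm; haveI := hbc
    -- the group acts on the quotient abelian variety
    let aA : AlgGrp.Action G A :=
      { act := (fst G A ≫ α) * snd G A
        one_act := by
          rw [MonObj.comp_mul, whiskerRight_fst_assoc, IsMonHom.one_hom, MonObj.one_eq_one, MonObj.comp_one,
            _root_.one_mul, whiskerRight_snd, leftUnitor_hom]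
        mul_act := by
          rw [MonObj.mul_eq_mul G, MonObj.comp_mul, whiskerRight_snd, whiskerRight_fst_assoc, MonObj.mul_comp,
            MonObj.comp_mul, MonObj.comp_mul, whiskerLeft_fst_assoc, whiskerLeft_snd, MonObj.comp_mul]
          simp [_root_.mul_assoc, MonObj.comp_mul] }
    have horb : aA.orbitMap η[A] = α := by
      have := GrpSchLib.comp_orbitMap aA η[A] (𝟙 G)
      rw [Category.id_comp] at this
      rw [this, MonObj.comp_mul, lift_fst_assoc, lift_snd, Category.id_comp, MonObj.one_eq_one, MonObj.comp_one,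
        _root_.mul_one]
    have hQ : AGF.IsQuotient i A aA η[A] := by
      refine ⟨inferInstance, by rw [horb]; infer_instance, by rw [horb]; infer_instance, ?_⟩
      rw [horb]
      refine ⟨⟨?_⟩, ⟨CategoryTheory.Limits.PullbackCone.IsLimit.mk ?_
        (fun s => lift s.fst (hker.lift (s.fst⁻¹ * s.snd) (toUnit _) (by
          rw [MonObj.mul_comp, GrpObj.inv_comp, s.condition, inv_mul_cancel, Hom.one_def]))) ?_ ?_ ?_⟩⟩
      · rw [Category.assoc, show μ[G] ≫ α = (fst G G ≫ α) * (snd G G ≫ α) by
          rw [MonObj.mul_eq_mul G, MonObj.mul_comp], MonObj.comp_mul, whiskerLeft_fst_assoc,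
          whiskerLeft_snd_assoc, hker.w, MonObj.one_eq_one, MonObj.comp_one, MonObj.comp_one, _root_.mul_one]
      · rw [Category.assoc, show μ[G] ≫ α = (fst G G ≫ α) * (snd G G ≫ α) by
          rw [MonObj.mul_eq_mul G, MonObj.mul_comp], MonObj.comp_mul, whiskerLeft_fst_assoc,
          whiskerLeft_snd_assoc, hker.w, MonObj.one_eq_one, MonObj.comp_one, MonObj.comp_one, _root_.mul_one]
      · intro s; exact lift_fst _ _
      · intro s
        rw [lift_whiskerLeft_assoc, ← Hom.mul_def, hker.lift_fst, mul_inv_cancel_left]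
      · intro s m h1 h2
        apply CartesianMonoidalCategory.hom_ext
        · rw [lift_fst, h1]
        · rw [lift_snd, ← cancel_mono i, hker.lift_fst, ← h2, ← h1]
          have hm : m = lift (m ≫ fst G N) (m ≫ snd G N) := by rw [← comp_lift, lift_fst_snd, Category.comp_id]
          conv_rhs => arg 2; rw [hm, lift_whiskerLeft_assoc, ← Hom.mul_def]
          rw [inv_mul_cancel_left]
    have hiN : Deform.Borel.ClosedImg i := fun X' C hC hst =>
      GrpSchLib.ProperQuotImage.isClosed_image i aA η[A] hQ C hC hst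
    have hbi : Deform.Borel.ClosedImg (b ≫ i) := fun X' C hC hst => by
      obtain ⟨D, hD, hDst, hDim⟩ :=
        Deform.Borel.exists_saturation (Deform.Borel.closedImg_of_isBorelOver b hB) i hC hst
      rw [← hDim]
      exact hiN X' D hD hDst
    haveI := Deform.Borel.isSeparated_quot h a o hX
    exact Deform.Borel.isProper_of_closedImg hbi (a.orbitMap o) fun g c => by
      rw [← hf, ← Category.assoc]
      exact Deform.Borel.mul_comp_orbitMap sq g (c ≫ f)

end Groth.Agent.S11414
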