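import Groth.Statements.S11416
import Groth.Agent.Deform.AntiAffineParts
import Groth.Agent.GrpSchLib.AntiAffineGMod
import Groth.Agent.GrpSchLib.AntiAffineSmoothAny
import Groth.Agent.Deform.FieldHom.MonoAffine
import Groth.Agent.Deform.ObsUnip
import Groth.Agent.Deform.ObsRadObs

set_option autoImplicit false
universe u
open CategoryTheory MonoidalCategory CartesianMonoidalCategory MonObj GrpObj AlgebraicGeometry CategoryTheory.Limits
open AlgGrp

namespace Groth.Agent.S11416
attribute [local instance] CategoryTheory.Hom.monoid CategoryTheory.Hom.group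
set_option linter.style.haveILetI false
set_option maxHeartbeats 1000000
open Groth.Agent.Deform
open Chev (Pt)
open scoped TensorProduct

/-- Over an algebraically closed field k, let G be an algebraic group (a smooth k-group scheme of finite
type) and M a rational G-module, not necessarily finite-dimensional: a k-vector space with a
G-module structure (points of G with values in a k-algebra B act B-linearly on B ⊗ M, naturally in
B) such that every vector lies in a finite-dimensional subspace N with B ⊗ N stable under all
B-points of G. If the representation is faithful, in the sense that every rational point of G acting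
as the identity on M is the identity element, then G is affine. -/
theorem result (k : Type u) [Field k] [IsAlgClosed k]
    (G : Over (Spec (CommRingCat.of k))) [GrpObj G] [Smooth G.hom] [QuasiCompact G.hom]
    (M : Type u) [AddCommGroup M] [Module k M] (m : VecGrp.GMod G M)
    (hlf : ∀ v : M, ∃ N : Submodule k M, v ∈ N ∧ Module.Finite k ↥N ∧
      ∀ (B : Type u) [CommRing B] [Algebra k B] (g : VecGrp.pt k B ⟶ G) (x : VecGrp.W k M B),
        x ∈ Submodule.baseChange B N → m.ρ B g x ∈ Submodule.baseChange B N)
    (hfaith : ∀ g : VecGrp.pt k k ⟶ G, m.ρ k g = 1 → g = 1) :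
    IsAffine G.left := by
  classical
  obtain ⟨K, gK, κ, hκ, hκc, hKl, hKq, hK, I, gI, p, hp, hI, hIl, hpf, hps, hk⟩ := AntiAffineParts.exists_ant G
  haveI := hκ; haveI := hκc; haveI := hKl; haveI := hKq; haveI := hp; haveI := hI; haveI := hIl
  haveI : Smooth K.hom := GrpSchLib.AntiAffineSmooth.smooth hK
  haveI : IsReduced K.left := GrpSchLib.isReduced_of_smooth_field K.hom
  haveI : IsSeparated K.hom := GrpSchLib.AntiAffine.isSeparated_grp K
  haveI : Mono κ := (Over.forget _).mono_of_mono_map (inferInstanceAs (Mono κ.left))
  have htriv : Red.IsTrivialGrp K := Borel.isTrivialGrp_of_pts fun x => by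
    let g : VecGrp.pt k k ⟶ K := toUnit _ ≫ x
    have h1 : m.ρ k (g ≫ κ) = 1 := by
      refine LinearEquiv.ext fun z => ?_
      induction z using TensorProduct.induction_on with
      | zero => rw [map_zero]; rfl
      | add a b ha hb => rw [map_add, ha, hb]; rfl
      | tmul c v =>
        obtain ⟨N, hvN, hfin, hN⟩ := hlf v
        haveI := hfin
        have hle : ∀ (B : Type u) [CommRing B] [Algebra k B],
            Submodule.baseChange B N ≤ LinearMap.range (N.subtype.baseChange B) := by
          intro B _ _
          rw [Submodule.baseChange_eq_span, Submodule.span_le]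
          rintro _ ⟨w, hw, rfl⟩
          exact ⟨(1 : B) ⊗ₜ[k] ⟨w, hw⟩, by simp⟩
        obtain ⟨σ, hσ⟩ := Observ.exists_restrict m N fun B _ _ g x hx =>
          hle B (hN B g _ (Submodule.tmul_mem_baseChange_of_mem _ hx))
        have h2 := GrpSchLib.Kunneth.gmod_eq_one hK (ObsUnip.pull σ κ) k g
        have h3 := hσ k (g ≫ κ) (c ⊗ₜ[k] ⟨v, hvN⟩)
        rw [show σ.ρ k (g ≫ κ) = (ObsUnip.pull σ κ).ρ k g from rfl, h2, LinearEquiv.coe_one, id_eq,
          LinearMap.baseChange_tmul] at h3
        exact h3.symm
    have h4 : g ≫ κ = 1 := hfaith _ h1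
    have h5 : g = 1 := (cancel_mono κ).1 (by rw [h4, MonObj.one_comp])
    obtain ⟨s, hs⟩ := ObsRadObs.exists_uo (k := k)
    have h6 : s ≫ g = 1 := by rw [h5, MonObj.comp_one]
    rw [show s ≫ g = (s ≫ toUnit _) ≫ x from (Category.assoc _ _ _).symm, hs, Category.id_comp] at h6
    exact h6
  haveI : IsIso K.hom := htriv
  haveI : Mono p := AntiAffineParts.mono_of_trivial p κ hk
  haveI : QuasiCompact G.hom := inferInstance
  haveI : QuasiCompact p.left := by
    haveI : QuasiCompact (p.left ≫ I.hom) := by rw [Over.w p]; infer_instance
    haveI : IsAffineHom I.hom := isAffineHom_of_isAffine _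
    exact QuasiCompact.of_comp p.left I.hom
  haveI := FieldHom.isClosedImmersion_of_mono p
  exact isAffine_of_isAffineHom p.left

end Groth.Agent.S11416
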