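import Groth.Statements.S11418
-- import your own Groth.Agent.* helpers here

set_option autoImplicit false
universe u
open CategoryTheory MonoidalCategory CartesianMonoidalCategory MonObj GrpObj AlgebraicGeometry CategoryTheory.Limits
open AlgGrp

namespace Groth.Agent.S11418
attribute [local instance] CategoryTheory.Hom.monoid CategoryTheory.Hom.group
set_option linter.style.haveILetI false
set_option maxHeartbeats 1000000

/-- Over an algebraically closed field k, let G be an affine algebraic group (smooth affine k-group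
scheme of finite type) and π : X → Y a principal G-bundle of k-schemes of finite type: G acts on X,
π is G-invariant, faithfully flat, and the square formed by the action, the second projection G × X
→ X and π is cartesian. Then the map θ sending a G-equivariant morphism f : X → G (for the
conjugation action on G, i.e. f(g·x) = g f(x) g⁻¹ on points) to the automorphism x ↦ f(x)·x is a
bijection onto the bundle automorphisms: every G-equivariant automorphism φ of X with π ∘ φ = π
equals θ(f) for exactly one such f. -/
theorem result (k : Type u) [Field k] [IsAlgClosed k]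
    (G X Y : Over (Spec (CommRingCat.of k))) [GrpObj G] [Smooth G.hom] [QuasiCompact G.hom] [IsAffine G.left]
    [LocallyOfFiniteType X.hom] [QuasiCompact X.hom] [LocallyOfFiniteType Y.hom] [QuasiCompact Y.hom]
    (a : AlgGrp.Action G X) (π : X ⟶ Y) (hinv : a.act ≫ π = snd G X ≫ π) [Flat π.left] [Surjective π.left]
    (hcart : IsPullback (snd G X) a.act π π)
    (φ : X ≅ X) (hφ : φ.hom ≫ π = π) (hφeq : (G ◁ φ.hom) ≫ a.act = a.act ≫ φ.hom) :
    ∃! f : X ⟶ G, (∀ (S : Over (Spec (CommRingCat.of k))) (g : S ⟶ G) (x : S ⟶ X),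
        lift g x ≫ a.act ≫ f = g * (x ≫ f) * g⁻¹) ∧ φ.hom = lift f (𝟙 X) ≫ a.act := by
  let h : X ⟶ G ⊗ X := hcart.lift (𝟙 X) φ.hom (by rw [Category.id_comp, hφ])
  have h1 : h ≫ snd G X = 𝟙 X := hcart.lift_fst _ _ _
  have h2 : h ≫ a.act = φ.hom := hcart.lift_snd _ _ _
  have hh : h = lift (h ≫ fst G X) (𝟙 X) := CartesianMonoidalCategory.hom_ext _ _ (by simp) (by simp [h1])
  have uniq : ∀ (S : Over (Spec (CommRingCat.of k))) (g g' : S ⟶ G) (x : S ⟶ X),
      lift g x ≫ a.act = lift g' x ≫ a.act → g = g' := by
    intro S g g' x e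
    have : lift g x = lift g' x := hcart.hom_ext (by rw [lift_snd, lift_snd]) e
    simpa using congrArg (· ≫ fst G X) this
  have assoc : ∀ (S : Over (Spec (CommRingCat.of k))) (g g' : S ⟶ G) (x : S ⟶ X),
      lift (g * g') x ≫ a.act = lift g (lift g' x ≫ a.act) ≫ a.act := by
    intro S g g' x
    have e := congrArg (lift (lift g g') x ≫ ·) a.mul_act
    simp only [lift_whiskerRight_assoc, lift_lift_associator_hom_assoc, lift_whiskerLeft_assoc] at e
    exact e
  refine ⟨h ≫ fst G X, ⟨fun S g x => ?_, by rw [← hh, h2]⟩, fun f' hf' => ?_⟩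
  · apply uniq S _ _ (lift g x ≫ a.act)
    have hy : ∀ y : S ⟶ X, lift (y ≫ h ≫ fst G X) y ≫ a.act = y ≫ φ.hom := fun y => by
      rw [← h2, ← Category.assoc y h a.act]
      conv_rhs => rw [hh, comp_lift, Category.comp_id]
    have he : lift g x ≫ a.act ≫ φ.hom = lift g (x ≫ φ.hom) ≫ a.act := by
      rw [← hφeq, ← Category.assoc, lift_whiskerLeft]
    conv_rhs => rw [← assoc, inv_mul_cancel_right, assoc, hy x, ← he]
    rw [← Category.assoc (lift g x) a.act (h ≫ fst G X), hy, Category.assoc]
  · have := uniq X f' (h ≫ fst G X) (𝟙 X) (by rw [← hh, h2, ← hf'.2])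
    exact this

end Groth.Agent.S11418
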