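import Groth.Statements.S11419
import Groth.Agent.Deform.SpecialGrp.AffPart
import Groth.Agent.Deform.Borel.GenUnion
import Groth.Agent.Deform.Borel.Normalizer
import Groth.Agent.Deform.Chev.StructCor
import Groth.Agent.GrpSchLib.AntiAffineSmooth

set_option autoImplicit false
universe u
open CategoryTheory MonoidalCategory CartesianMonoidalCategory MonObj GrpObj AlgebraicGeometry CategoryTheory.Limits
open AlgGrp

namespace Groth.Agent.S11419
attribute [local instance] CategoryTheory.Hom.monoid CategoryTheory.Hom.group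
set_option linter.style.haveILetI false
set_option maxHeartbeats 4000000
open Groth.Agent

/-- Over an algebraically closed field k, let G be a connected algebraic group (smooth k-group scheme of
finite type), let i : N → G be its largest connected affine normal algebraic subgroup G_aff (a
homomorphism and closed immersion from a smooth, connected, affine k-group scheme, normal in G,
through which every other such subgroup factors), let j : M → G be its largest anti-affine subgroup
scheme G_ant (a homomorphism and closed immersion from a k-group scheme M whose only global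
functions are the constants, through which every other such subgroup scheme factors), and let h : H
→ G be a maximal connected solvable algebraic subgroup (maximal among smooth, connected, solvable
closed subgroup schemes). Then H contains G_ant; there is a Borel subgroup B of G_aff contained in H
with H = B · G_ant (the multiplication B × G_ant → H is surjective); and every other maximal
connected solvable algebraic subgroup of G is conjugate to H by a rational point of G. (The
published statement also identifies B with the scheme-theoretic intersection of G_aff and H, says H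
is its own set-theoretic normalizer, and gives G/H ≅ G_aff/B; those clauses are not stated here.) -/
theorem result (k : Type u) [Field k] [IsAlgClosed k]
    (G : Over (Spec (CommRingCat.of k))) [GrpObj G] [Smooth G.hom] [QuasiCompact G.hom] [ConnectedSpace ↥G.left]
    (N : Over (Spec (CommRingCat.of k))) [GrpObj N] (i : N ⟶ G) [IsMonHom i] [IsClosedImmersion i.left]
    [Smooth N.hom] [ConnectedSpace ↥N.left] [IsAffine N.left] (hN : AlgGrp.IsNormalHom i)
    (hNmax : ∀ (N' : Over (Spec (CommRingCat.of k))) [GrpObj N'] (i' : N' ⟶ G) [IsMonHom i'] [IsClosedImmersion i'.left]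
      [Smooth N'.hom] [ConnectedSpace ↥N'.left] [IsAffine N'.left], AlgGrp.IsNormalHom i' → ∃ f : N' ⟶ N, f ≫ i = i')
    (M : Over (Spec (CommRingCat.of k))) [GrpObj M] (j : M ⟶ G) [IsMonHom j] [IsClosedImmersion j.left]
    (hM : Function.Bijective ((Scheme.ΓSpecIso (CommRingCat.of k)).inv ≫ M.hom.appTop).hom)
    (hMmax : ∀ (M' : Over (Spec (CommRingCat.of k))) [GrpObj M'] (j' : M' ⟶ G) [IsMonHom j'] [IsClosedImmersion j'.left],
      Function.Bijective ((Scheme.ΓSpecIso (CommRingCat.of k)).inv ≫ M'.hom.appTop).hom → ∃ f : M' ⟶ M, f ≫ j = j')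
    (H : Over (Spec (CommRingCat.of k))) [GrpObj H] (h : H ⟶ G) (hH : Red.IsBorelOver k h) :
    (∃ f : M ⟶ H, f ≫ h = j) ∧
    (∃ (B : Over (Spec (CommRingCat.of k))) (_ : GrpObj B) (b : B ⟶ N) (f : B ⟶ H), Red.IsBorelOver k b ∧ f ≫ h = b ≫ i ∧
        ∀ f' : M ⟶ H, f' ≫ h = j → Surjective ((f ⊗ₘ f') ≫ μ[H]).left) ∧
    (∀ (H' : Over (Spec (CommRingCat.of k))) [GrpObj H'] (h' : H' ⟶ G), Red.IsBorelOver k h' →
        ∃ (g : 𝟙_ (Over (Spec (CommRingCat.of k))) ⟶ G) (e : H' ≅ H), e.hom ≫ h = AGF.conjBy g h') := by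
  classical
  haveI : IsAffineHom N.hom := isAffineHom_of_isAffine _
  haveI := GrpSchLib.AntiAffine.isSeparated_grp G
  haveI := GrpSchLib.AntiAffine.isSeparated_grp N
  haveI : LocallyOfFiniteType M.hom := by rw [← Over.w j]; infer_instance
  haveI : QuasiCompact M.hom := by rw [← Over.w j]; infer_instance
  have hMb : Function.Bijective M.hom.appTop := (GrpSchLib.AntiAffine.bijective_appTop_iff M.hom).mp hM
  haveI : Smooth M.hom := GrpSchLib.AntiAffineSmooth.smooth hMb
  haveI : ConnectedSpace M.left := GrpSchLib.AntiAffine.connectedSpace_of_bijective hMb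
  haveI : Mono j := (Over.forget _).mono_of_mono_map (inferInstanceAs (Mono j.left))
  haveI : Mono i := (Over.forget _).mono_of_mono_map (inferInstanceAs (Mono i.left))
  have hcen : ∀ {S : Over (Spec (CommRingCat.of k))} (x : S ⟶ M) (y : S ⟶ G), (x ≫ j) * y = y * (x ≫ j) :=
    fun x y => GrpSchLib.AntiAffine.commute hMb j (by rw [IsMonHom.one_hom, MonObj.one_eq_one]) x y
  haveI : Group.IsSolvable (Deform.Chev.Pt M) := Group.isSolvable_of_comm fun x y => by
    rw [← cancel_mono j, MonObj.mul_comp, MonObj.mul_comp, hcen]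
  obtain ⟨J, gJ, iJ, hJ⟩ := Deform.Borel.exists_univBorel G
  have hJB := hJ.isBorelOver
  obtain ⟨hJm, hJc, hJs, hJcn, hJsol, huniv⟩ := id hJ
  haveI := hJm; haveI := hJc
  obtain ⟨g₁, e₁, he₁, h₁⟩ := hJ.conj_of_borel h hH
  haveI := he₁
  obtain ⟨hhm, hhc, hHs, hHcn, hHsol, hHmax⟩ := id hH
  haveI := hhm; haveI := hhc; haveI := hHs; haveI := hHcn
  haveI : Mono h.left := @IsPreimmersion.instMonoScheme _ _ h.left (@IsClosedImmersion.instIsPreimmersion _ _ h.left hhc)
  haveI : Mono h := (Over.forget _).mono_of_mono_map ‹Mono h.left›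
  haveI : QuasiCompact H.hom := by rw [← Over.w h]; infer_instance
  haveI : Group.IsSolvable (Deform.Chev.Pt H) := Deform.Borel.isSolvable_pts_of_grp hHsol
  have h₁' : e₁.inv ≫ h = iJ ≫ Deform.Borel.conj g₁⁻¹ := by
    rw [Iso.inv_comp_eq, reassoc_of% h₁, ← Deform.Borel.comp_conj, Category.assoc, Deform.Borel.conj_right_inv,
      Category.comp_id]
  have hcentral : ∀ (g : Deform.Chev.Pt G), j ≫ Deform.Borel.conj g = j := fun g => by
    rw [Deform.Borel.comp_conj]
    show (toUnit M ≫ g) * j * (toUnit M ≫ g)⁻¹ = j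
    have := hcen (𝟙 M) (toUnit M ≫ g)
    rw [Category.id_comp] at this
    rw [← this, mul_inv_cancel_right]
  have hMH : ∃ f : M ⟶ H, f ≫ h = j := by
    obtain ⟨g, f, -, hf⟩ := huniv M j
    refine ⟨f ≫ e₁.inv, ?_⟩
    rw [Category.assoc, h₁', reassoc_of% hf, ← Deform.Borel.comp_conj, hcentral, hcentral]
  refine ⟨hMH, ?_, fun H' _ h' hH' => ?_⟩
  swap
  · obtain ⟨g, f, -, hf⟩ := hJ.borel_conj h' h hH' hH
    exact ⟨g, f, hf⟩
  -- a Borel subgroup of the affine part inside `H`
  obtain ⟨B₀, gB₀, iB₀, hB₀, -, -⟩ := Deform.Borel.exists_borel N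
  obtain ⟨hb₀m, hb₀c, hB₀s, hB₀cn, hB₀sol, hB₀max⟩ := id hB₀
  haveI := hb₀m; haveI := hb₀c; haveI := hB₀s; haveI := hB₀cn
  haveI : IsAffine B₀.left := isAffine_of_isAffineHom iB₀.left
  haveI : IsAffineHom B₀.hom := isAffineHom_of_isAffine _
  haveI : Group.IsSolvable (Deform.Chev.Pt B₀) := Deform.Borel.isSolvable_pts_of_grp hB₀sol
  obtain ⟨g₂, f₂, hf₂m, hf₂⟩ := huniv B₀ (iB₀ ≫ i)
  haveI := hf₂m
  let x : Deform.Chev.Pt G := g₁⁻¹ * g₂
  -- conjugation on the affine part
  have hres : ∀ g : Deform.Chev.Pt G, ∃ φ : N ⟶ N, φ ≫ i = i ≫ Deform.Borel.conj g := fun g => by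
    obtain ⟨φ, hφ⟩ := hN N (toUnit N ≫ g) (𝟙 N)
    rw [Category.id_comp] at hφ
    exact ⟨φ, by rw [← hφ, Deform.Borel.comp_conj]⟩
  choose φ hφ using hres
  haveI : ∀ g, IsMonHom (φ g) := fun g => Deform.isMonHom_of_comp (φ g) i (i := i ≫ Deform.Borel.conj g) (hφ g)
  have hφinv : ∀ g, φ g ≫ φ g⁻¹ = 𝟙 N := fun g => by
    rw [← cancel_mono i, Category.assoc, hφ, reassoc_of% (hφ g), Deform.Borel.conj_right_inv, Category.comp_id,
      Category.id_comp]
  haveI : ∀ g, IsIso (φ g) := fun g => ⟨φ g⁻¹, hφinv g, by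
    have := hφinv g⁻¹
    rwa [_root_.inv_inv] at this⟩
  let b : B₀ ⟶ N := iB₀ ≫ φ x
  haveI : IsIso (φ x).left := ((Over.forget _).mapIso (asIso (φ x))).isIso_hom
  haveI : IsClosedImmersion b.left := inferInstanceAs (IsClosedImmersion (iB₀.left ≫ (φ x).left))
  have hbB : Red.IsBorelOver k b := by
    refine ⟨inferInstance, inferInstance, hB₀s, hB₀cn, hB₀sol, fun B' _ i' _ f hi'c hBs hBc hBsol hf => ?_⟩
    haveI := hi'c
    haveI : IsIso (φ x⁻¹).left := ((Over.forget _).mapIso (asIso (φ x⁻¹))).isIso_hom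
    exact hB₀max B' (i' ≫ φ x⁻¹) f (inferInstanceAs (IsClosedImmersion (i'.left ≫ (φ x⁻¹).left))) hBs hBc hBsol
      (by rw [reassoc_of% hf]; show iB₀ ≫ φ x ≫ φ x⁻¹ = iB₀; rw [hφinv, Category.comp_id])
  obtain ⟨f, hfh, hfm⟩ : ∃ f : B₀ ⟶ H, f ≫ h = b ≫ i ∧ IsMonHom f := by
    refine ⟨f₂ ≫ e₁.inv, ?_, inferInstance⟩
    rw [Category.assoc, h₁', reassoc_of% hf₂, ← Deform.Borel.comp_conj, Category.assoc, Category.assoc,
      Deform.Borel.conj_mul, Category.assoc, hφ]
  haveI : IsMonHom b := inferInstance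
  refine ⟨B₀, gB₀, b, f, hbB, hfh, fun f' hf' => ?_⟩
  -- the rational points of `H` in `N` form `B`
  haveI := hfm
  haveI : IsMonHom f' := Deform.isMonHom_of_comp f' h (i := j) hf'
  let HN : Subgroup (Deform.Chev.Pt N) :=
    { carrier := {n | ∃ y : Deform.Chev.Pt H, y ≫ h = n ≫ i}
      one_mem' := ⟨1, by rw [MonObj.one_comp, MonObj.one_comp]⟩
      mul_mem' := fun {n n'} ⟨y, hy⟩ ⟨y', hy'⟩ => ⟨y * y', by rw [MonObj.mul_comp, MonObj.mul_comp, hy, hy']⟩
      inv_mem' := fun {n} ⟨y, hy⟩ => ⟨y⁻¹, by rw [GrpObj.inv_comp, GrpObj.inv_comp, hy]⟩ }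
  obtain ⟨Y, gY, jY, hjY, hjYc, hYs, hYq, hYcn, hYH, -, hlift⟩ := Deform.Borel.exists_neutral_fin HN
    (C := i.left ⁻¹' Set.range h.left) (h.left.isClosedEmbedding.isClosed_range.preimage i.left.continuous)
    (fun n => by
      refine ⟨fun hn => ?_, fun ⟨y, hy⟩ => ⟨Deform.Chev.pimg y, ?_⟩⟩
      · rw [Set.mem_preimage, ← Deform.Chev.pimg_comp] at hn
        exact Deform.Borel.exists_lift_pt h hn
      · rw [← Deform.Chev.pimg_comp, hy, Deform.Chev.pimg_comp])
  haveI := hjY; haveI := hjYc; haveI := hYs; haveI := hYq; haveI := hYcn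
  haveI : Mono jY := (Over.forget _).mono_of_mono_map (inferInstanceAs (Mono jY.left))
  choose yH hyH using hYH
  haveI : Group.IsSolvable (Deform.Chev.Pt Y) := by
    let Φ : Deform.Chev.Pt Y →* Deform.Chev.Pt H :=
      { toFun := yH
        map_one' := by rw [← cancel_mono h, hyH, MonObj.one_comp, MonObj.one_comp, MonObj.one_comp]
        map_mul' := fun u v => by
          rw [← cancel_mono h, MonObj.mul_comp, hyH, hyH, hyH, MonObj.mul_comp, MonObj.mul_comp] }
    refine Group.isSolvable_of_isSolvable_injective (f := Φ) fun u v huv => ?_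
    have e : yH u ≫ h = yH v ≫ h := congrArg (· ≫ h) huv
    rw [hyH, hyH] at e
    exact (cancel_mono jY).mp ((cancel_mono i).mp e)
  haveI : IsAffine Y.left := isAffine_of_isAffineHom jY.left
  obtain ⟨u, hu, huj⟩ := hlift B₀ b fun t => ⟨t ≫ f, by simp only [Category.assoc, hfh]⟩
  haveI := hu
  haveI : IsIso u := hbB.2.2.2.2.2 Y jY u hjYc hYs hYcn (Deform.Borel.isSolvableGrp_of_pts Y) huj
  -- `H` is the product of `B` and the anti-affine part
  obtain ⟨A, gA, α, hα, hαf, hαs, hker, hA, hAs, hAc⟩ := Deform.Chev.StructCor.exists_quot_of_max i hNmax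
  haveI := hα; haveI := hαf; haveI := hαs; haveI := hA; haveI := hAs; haveI := hAc
  obtain ⟨K, gK, κ, hκ, hκc, hKl, hKq, hKb, I, gI, p, hp, hI, hIl, hpf, hps, hkI⟩ := Deform.AntiAffineParts.exists_ant G
  haveI := hκ; haveI := hκc; haveI := hKl; haveI := hKq; haveI := hp; haveI := hI; haveI := hIl
  haveI := hpf; haveI := hps
  obtain ⟨q, hq⟩ := hMmax K κ ((GrpSchLib.AntiAffine.bijective_appTop_iff K.hom).mpr hKb)
  haveI hκα := Deform.AntiAffineParts.surjective_proper hKb κ p hkI α
  haveI : Surjective (j ≫ α).left := by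
    haveI : Surjective (q.left ≫ (j ≫ α).left) := by rw [← Over.comp_left, reassoc_of% hq]; exact hκα
    exact Surjective.of_comp q.left (j ≫ α).left
  set F := (f ⊗ₘ f') ≫ μ[H] with hF
  haveI : LocallyOfFiniteType (B₀ ⊗ M).hom :=
    inferInstanceAs (LocallyOfFiniteType (CategoryTheory.Limits.pullback.fst B₀.hom M.hom ≫ B₀.hom))
  haveI : QuasiCompact (B₀ ⊗ M).hom :=
    inferInstanceAs (QuasiCompact (CategoryTheory.Limits.pullback.fst B₀.hom M.hom ≫ B₀.hom))
  have hpts : ∀ y : Deform.Chev.Pt H, ∃ z : Deform.Chev.Pt (B₀ ⊗ M), z ≫ F = y := by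
    intro y
    obtain ⟨m, hm⟩ := Deform.Borel.exists_pt_over (j ≫ α) (y ≫ h ≫ α)
    obtain ⟨n, hn⟩ := Deform.Chev.exists_lift_kernel i α hker ((y ≫ h) * (m ≫ j)⁻¹) (by
      rw [MonObj.mul_comp, GrpObj.inv_comp, Category.assoc, Category.assoc, hm, mul_inv_cancel])
    have hnH : n ∈ HN := ⟨y * (m ≫ f')⁻¹, by
      rw [MonObj.mul_comp, GrpObj.inv_comp, Category.assoc, hf', hn]⟩
    obtain ⟨b', hb'⟩ : ∃ b' : Deform.Chev.Pt B₀, b' ≫ b = n := by
      refine Deform.Borel.norm_mem_borel N b hbB n fun c => ?_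
      obtain ⟨w, -, hw⟩ := hlift B₀ (b ≫ Deform.Borel.conj n) fun t => by
        rw [← Category.assoc, Deform.Borel.pt_conj]
        exact mul_mem (mul_mem hnH ⟨t ≫ f, by simp only [Category.assoc, hfh]⟩) (inv_mem hnH)
      refine ⟨c ≫ w ≫ inv u, ?_⟩
      rw [show b = u ≫ jY from huj.symm]
      simp only [Category.assoc, IsIso.inv_hom_id_assoc]
      rw [hw, ← Category.assoc, Deform.Borel.pt_conj]
      simp only [Category.assoc, huj]
    refine ⟨lift b' m, ?_⟩
    rw [hF, lift_map_assoc, ← Hom.mul_def, ← cancel_mono h, MonObj.mul_comp, Category.assoc, Category.assoc, hfh, hf',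
      reassoc_of% hb', hn, inv_mul_cancel_right]
  haveI : IsMonHom ((CartesianMonoidalCategory.fst M B₀ ≫ f') * (CartesianMonoidalCategory.snd M B₀ ≫ f)) :=
    Deform.SpecialGrp.isMonHom_mulPair f' f fun T a c => by
      rw [← cancel_mono h, MonObj.mul_comp, MonObj.mul_comp, Category.assoc, hf', hcen]
  refine ⟨fun z => ?_⟩
  have hcl : IsClosed (Set.range F.left) := by
    haveI : LocallyOfFiniteType (M ⊗ B₀).hom :=
      inferInstanceAs (LocallyOfFiniteType (CategoryTheory.Limits.pullback.fst M.hom B₀.hom ≫ M.hom))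
    haveI : QuasiCompact (M ⊗ B₀).hom :=
      inferInstanceAs (QuasiCompact (CategoryTheory.Limits.pullback.fst M.hom B₀.hom ≫ M.hom))
    obtain ⟨I', gI', r, d, hr, hd, hrd, hdc, -, hrs, -, -⟩ := GrpSchLib.ImageFactor.exists_image
      ((CartesianMonoidalCategory.fst M B₀ ≫ f') * (CartesianMonoidalCategory.snd M B₀ ≫ f))
    haveI := hdc; haveI := hrs
    have e : Set.range F.left = Set.range d.left := by
      have e1 : (β_ B₀ M).hom ≫ r ≫ d = F := by
        rw [hrd, hF, MonObj.comp_mul, braiding_hom_fst_assoc, braiding_hom_snd_assoc]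
        have hswap : (f ⊗ₘ f') ≫ μ[H] = (CartesianMonoidalCategory.fst B₀ M ≫ f) * (CartesianMonoidalCategory.snd B₀ M ≫ f') := by
          rw [Hom.mul_def]
          congr 1
        rw [hswap, ← cancel_mono h, MonObj.mul_comp, MonObj.mul_comp, Category.assoc, Category.assoc, hf', hcen]
      haveI : IsIso (β_ B₀ M).hom.left := ((Over.forget _).mapIso (β_ B₀ M)).isIso_hom
      rw [← e1, Over.comp_left, Over.comp_left]
      ext w
      constructor
      · rintro ⟨v, rfl⟩; exact ⟨_, rfl⟩
      · rintro ⟨v, rfl⟩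
        obtain ⟨v', rfl⟩ := r.left.surjective v
        obtain ⟨v'', rfl⟩ := (β_ B₀ M).hom.left.surjective v'
        exact ⟨v'', rfl⟩
    rw [e]; exact d.left.isClosedEmbedding.isClosed_range
  haveI : JacobsonSpace H.left := LocallyOfFiniteType.jacobsonSpace H.hom
  have hall : Set.range F.left = Set.univ := by
    refine Set.univ_subset_iff.mp ?_
    rw [← closure_closedPoints (X := H.left)]
    refine closure_minimal (fun w hw => ?_) hcl
    obtain ⟨y, rfl⟩ := Deform.Chev.exists_pimg_eq hw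
    obtain ⟨z', hz'⟩ := hpts y
    exact ⟨Deform.Chev.pimg z', by rw [← Deform.Chev.pimg_comp, hz']⟩
  exact Set.eq_univ_iff_forall.mp hall z

end Groth.Agent.S11419
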