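import Groth.Statements.S11420
import Groth.Agent.Deform.Blanchard.Main


set_option autoImplicit false
universe u
open CategoryTheory MonoidalCategory CartesianMonoidalCategory MonObj GrpObj AlgebraicGeometry CategoryTheory.Limits
open AlgGrp

namespace Groth.Agent.S11420
attribute [local instance] CategoryTheory.Hom.monoid CategoryTheory.Hom.group
set_option linter.style.haveILetI false
set_option maxHeartbeats 1000000
open Groth.Agent.Deform

/-- Over an algebraically closed field k, let X and Y be complete varieties (proper, integral, separated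
k-schemes of finite type) and let a connected k-group scheme of finite type G act on X × Y. Then
there are unique actions of G on X and on Y such that the given action is the product action g·(x,
y) = (g·x, g·y). (This is the form, for actions of connected group schemes, of the identification of
the neutral component of the automorphism group scheme of X × Y with the product of those of X and
Y; the representability of these group schemes is not asserted here.) -/
theorem result (k : Type u) [Field k] [IsAlgClosed k]
    (G X Y : Over (Spec (CommRingCat.of k))) [GrpObj G] [LocallyOfFiniteType G.hom] [QuasiCompact G.hom] [ConnectedSpace ↥G.left]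
    [IsProper X.hom] [IsIntegral X.left]
    [IsProper Y.hom] [IsIntegral Y.left]
    (a : AlgGrp.Action G (X ⊗ Y)) :
    ∃ (b : AlgGrp.Action G X) (c : AlgGrp.Action G Y),
      a.act = lift ((G ◁ fst X Y) ≫ b.act) ((G ◁ snd X Y) ≫ c.act) ∧
      ∀ (b' : AlgGrp.Action G X) (c' : AlgGrp.Action G Y),
        a.act = lift ((G ◁ fst X Y) ≫ b'.act) ((G ◁ snd X Y) ≫ c'.act) → b' = b ∧ c' = c := by
  haveI : IsAlgClosed k := ‹_›
  have hΓ : ∀ (Z : Over (Spec (CommRingCat.of k))) [IsProper Z.hom] [IsIntegral Z.left],
      ∀ U : (𝟙_ (Over (Spec (CommRingCat.of k)))).left.Opens, IsIso ((toUnit Z).left.app U) := by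
    intro Z _ _ U
    have hfield : IsField Γ(Z.left, ⊤) := isField_of_universallyClosed (K := k) Z.hom
    have hint : Z.hom.appTop.hom.IsIntegral := isIntegral_appTop_of_universallyClosed Z.hom
    let cst : k →+* Γ(Z.left, ⊤) := ((Scheme.ΓSpecIso (CommRingCat.of k)).inv ≫ Z.hom.appTop).hom
    have hcst : Function.Bijective cst := by
      letI := hfield.toField
      letI := cst.toAlgebra
      haveI : Algebra.IsIntegral k Γ(Z.left, ⊤) := by
        refine ⟨fun t => ?_⟩
        have := RingHom.IsIntegral.trans _ _ (RingHom.isIntegral_of_surjective _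
          ((Scheme.ΓSpecIso (CommRingCat.of k)).symm.commRingCatIsoToRingEquiv.surjective)) hint
        exact this t
      exact IsAlgClosed.algebraMap_bijective_of_isIntegral
    have htop : IsIso Z.hom.appTop := by
      rw [ConcreteCategory.isIso_iff_bijective]
      have := hcst.comp ((Scheme.ΓSpecIso (CommRingCat.of k)).commRingCatIsoToRingEquiv.bijective)
      convert this using 1
      ext c
      show _ = Z.hom.appTop ((Scheme.ΓSpecIso (CommRingCat.of k)).inv ((Scheme.ΓSpecIso (CommRingCat.of k)).hom c))
      exact (congrArg (fun z => Z.hom.appTop z)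
        ((Scheme.ΓSpecIso (CommRingCat.of k)).commRingCatIsoToRingEquiv.symm_apply_apply c)).symm
    by_cases hU : (IsLocalRing.closedPoint k : PrimeSpectrum k) ∈ U
    · have : U = ⊤ := top_le_iff.1 fun x _ => by
        rwa [Subsingleton.elim (α := PrimeSpectrum k) x (IsLocalRing.closedPoint k)]
      subst this
      exact htop
    · have : U = ⊥ := le_bot_iff.1 fun x hx => hU (by
        rwa [Subsingleton.elim (α := PrimeSpectrum k) (IsLocalRing.closedPoint k) x])
      subst this
      haveI : Subsingleton Γ(Z.left, (toUnit Z).left ⁻¹ᵁ ⊥) := inferInstanceAs (Subsingleton Γ(Z.left, ⊥))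
      exact (ConcreteCategory.isIso_iff_bijective _).2
        ⟨fun x y _ => Subsingleton.elim x y, fun y => ⟨0, Subsingleton.elim _ _⟩⟩
  -- projections
  have hflat : ∀ A : Over (Spec (CommRingCat.of k)), Flat A.hom := fun A => AssLib.flat_over_field A.hom
  haveI := hflat X
  haveI := hflat Y
  haveI : LocallyOfFiniteType (X ⊗ Y).hom :=
    inferInstanceAs (LocallyOfFiniteType (pullback.fst X.hom Y.hom ≫ X.hom))
  haveI : IsProper (fst X Y).left := MorphismProperty.pullback_fst (P := @IsProper) _ _ inferInstance
  haveI : IsProper (snd X Y).left := MorphismProperty.pullback_snd (P := @IsProper) _ _ inferInstance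
  haveI : IsProper (toUnit X).left := (‹IsProper X.hom› : IsProper X.hom)
  haveI : IsProper (toUnit Y).left := (‹IsProper Y.hom› : IsProper Y.hom)
  have hf1 : ∀ U, IsIso ((fst X Y).left.app U) :=
    Blanchard.isIso_app_of_flat (f := (toUnit Y).left) (g := X.hom) (g' := (snd X Y).left) (f' := (fst X Y).left)
      (IsPullback.of_hasPullback X.hom Y.hom).flip (hΓ Y)
  have hf2 : ∀ U, IsIso ((snd X Y).left.app U) :=
    Blanchard.isIso_app_of_flat (f := (toUnit X).left) (g := Y.hom) (g' := (fst X Y).left) (f' := (snd X Y).left)
      (IsPullback.of_hasPullback X.hom Y.hom) (hΓ X)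
  have e : lift (toUnit (X ⊗ Y) ≫ η[G]) (𝟙 (X ⊗ Y)) = (λ_ (X ⊗ Y)).inv ≫ (η[G] ▷ (X ⊗ Y)) := by
    apply CartesianMonoidalCategory.hom_ext
    · rw [lift_fst, Category.assoc, whiskerRight_fst, ← Category.assoc]
      exact congrArg (· ≫ η[G]) (toUnit_unique _ _)
    · rw [lift_snd, Category.assoc, whiskerRight_snd, leftUnitor_inv_snd]
  haveI := SteinLib.geometricallyConnected_of_isIso_app (fst X Y).left hf1
  haveI := SteinLib.geometricallyConnected_of_isIso_app (snd X Y).left hf2
  obtain ⟨b, hb, hbu⟩ := Blanchard.exists_action (fst X Y) hf1 a (Blanchard.const_field _ (a.act ≫ fst X Y) (by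
    rw [e, Category.assoc, reassoc_of% a.one_act, Iso.inv_hom_id_assoc]))
  obtain ⟨c, hc, hcu⟩ := Blanchard.exists_action (snd X Y) hf2 a (Blanchard.const_field _ (a.act ≫ snd X Y) (by
    rw [e, Category.assoc, reassoc_of% a.one_act, Iso.inv_hom_id_assoc]))
  refine ⟨b, c, ?_, fun b' c' h => ⟨hbu b' ?_, hcu c' ?_⟩⟩
  · apply CartesianMonoidalCategory.hom_ext
    · rw [lift_fst, hb]
    · rw [lift_snd, hc]
  · show _ = a.act ≫ fst X Y
    rw [h, lift_fst]
  · show _ = a.act ≫ snd X Y
    rw [h, lift_snd]

end Groth.Agent.S11420
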