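import Groth.Statements.S1143
import Groth.Agent.H9PiOne.SplitNormal
import Groth.Agent.H9PiOne.SplitAlgebra
import Groth.Agent.S0539
import Groth.Agent.S12237

set_option linter.style.haveILetI false
set_option backward.isDefEq.respectTransparency false
set_option backward.isDefEq.respectTransparency.types false
-- import your own Groth.Agent.* helpers here

set_option autoImplicit false
universe u
open Pi1
attribute [-instance] CategoryTheory.catToReflQuiver

namespace Groth.Agent.S1143

open AlgebraicGeometry CategoryTheory CategoryTheory.Limits in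
/-- A finite etale K-scheme that splits over L comes from a finite etale A-scheme (this is the
essential-image part of exactness of the sequence π₁(Spec L) → π₁(Spec K) → π₁(Spec A) → 1; the
surjectivity and composition parts of the exact sequence are separate facts). Let A be a normal
local domain with fraction field K, let R be a strict henselization of A (with A → R local) and L a
fraction field of R, with compatible algebra structures (A → K → L and A → R → L agree). If V is
finite etale over Spec K and its base change to Spec L is split (a finite disjoint union of copies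
of Spec L), then V is isomorphic to the restriction to Spec K of a finite etale cover Y of Spec A
(only the existence of such Y and of an isomorphism is asserted). -/
theorem result (A : Type u) [CommRing A] [IsDomain A]
    [IsLocalRing A] [IsIntegrallyClosed A] (R : Type u) [CommRing R] [IsLocalRing R] [Algebra A R] [IsLocalHom (algebraMap A R)] [Hensel.IsStrictHenselization A R]
    (K L : Type u) [Field K] [Field L] [Algebra A K] [IsFractionRing A K] [Algebra R L] [IsFractionRing R L]
    [Algebra K L] [Algebra A L] [IsScalarTower A K L] [IsScalarTower A R L]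
    (V : FEt.Cat (Spec (CommRingCat.of K)))
    (hV : Pi1.IsSplit ((FEt.restrict (Spec.map (CommRingCat.ofHom (algebraMap K L)))).obj V)) :
    ∃ Y : FEt.Cat (Spec (CommRingCat.of A)),
      Nonempty ((FEt.restrict (Spec.map (CommRingCat.ofHom (algebraMap A K)))).obj Y ≅ V) := by
  let v : V.left ⟶ Spec (CommRingCat.of K) := V.hom
  haveI : IsFinite v := V.prop.1
  haveI : IsAffine V.left := isAffine_of_isAffineHom v
  let W : Type u := Γ(V.left, ⊤)
  let ψ : CommRingCat.of K ⟶ CommRingCat.of W := (Scheme.ΓSpecIso (CommRingCat.of K)).inv ≫ v.appTop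
  letI : Algebra K W := ψ.hom.toAlgebra
  have hVs : V.left.isoSpec.inv ≫ v = Spec.map (CommRingCat.ofHom (algebraMap K W)) := by
    rw [← Scheme.isoSpec_inv_naturality, Scheme.isoSpec_Spec_inv, ← Spec.map_comp]
    rfl
  haveI : IsFinite (Spec.map (CommRingCat.ofHom (algebraMap K W))) := hVs ▸ inferInstance
  haveI : Module.Finite K W := RingHom.finite_algebraMap.1 ((IsFinite.SpecMap_iff _).1 ‹_›)
  letI : Algebra A W := ((algebraMap K W).comp (algebraMap A K)).toAlgebra
  haveI : IsScalarTower A K W := IsScalarTower.of_algebraMap_eq' rfl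
  haveI := S0539.result A R
  haveI hRn := (Hensel.isHenzLike_of_isStrictHenselization A R).normal_iff.1 ⟨inferInstance, inferInstance⟩
  haveI := hRn.1
  haveI := hRn.2
  obtain ⟨ι, hι, e, he⟩ := hV
  obtain ⟨φ⟩ := H9PiOne.exists_algEquiv_of_split (K := K) (L := L) (W := W) v V.left.isoSpec hVs ι e he
  obtain ⟨B, _, _, hBf, hBe, ⟨θ⟩⟩ := H9PiOne.exists_finite_etale_model (S12237.result A R) φ
  refine ⟨MorphismProperty.Over.mk ⊤ (Spec.map (CommRingCat.ofHom (algebraMap A B)))
    ⟨(IsFinite.SpecMap_iff _).2 (RingHom.finite_algebraMap.2 hBf),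
      (HasRingHomProperty.Spec_iff (P := @Etale)).2 (RingHom.etale_algebraMap.2 hBe)⟩, ⟨?_⟩⟩
  refine MorphismProperty.Over.isoMk (pullbackSymmetry _ _ ≪≫ pullbackSpecIso A K B ≪≫
    (Scheme.Spec.mapIso θ.toRingEquiv.toCommRingCatIso.op).symm ≪≫ V.left.isoSpec.symm) ?_
  show ((pullbackSymmetry (Spec.map (CommRingCat.ofHom (algebraMap A B))) (Spec.map (CommRingCat.ofHom (algebraMap A K)))).hom ≫
    (pullbackSpecIso A K B).hom ≫ Spec.map θ.toRingEquiv.toCommRingCatIso.inv ≫ V.left.isoSpec.inv) ≫ v = pullback.snd _ _
  rw [Category.assoc, Category.assoc, Category.assoc, hVs, ← Spec.map_comp,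
    show CommRingCat.ofHom (algebraMap K W) ≫ θ.toRingEquiv.toCommRingCatIso.inv =
      CommRingCat.ofHom (algebraMap K (TensorProduct A K B)) from CommRingCat.hom_ext (RingHom.ext θ.symm.commutes),
    pullbackSpecIso_hom_fst', pullbackSymmetry_hom_comp_fst]

end Groth.Agent.S1143
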