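import Groth.Statements.S11435
import Groth.Agent.GITQuot.OrbitProper

set_option autoImplicit false
universe u
open CategoryTheory MonoidalCategory CartesianMonoidalCategory MonObj GrpObj AlgebraicGeometry Topology
open GIT

open scoped MonoidalCategory
namespace Groth.Agent.S11435

/-- Over an algebraically closed field k, let a group scheme G of finite type act on a scheme X of
finite type and let x be a k-rational point of X. Then the orbit morphism ψ_x : G × Spec k → X ×
Spec k, g ↦ (g · x, pt), is proper if and only if the orbit of x (the image of ψ_x) is closed and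
the stabilizer of x (the fibre of ψ_x over (x, pt)) is proper over k. -/
theorem result (k : Type u) [Field k] [IsAlgClosed k]
    (G X : Over (Spec (CommRingCat.of k))) [GrpObj G] [LocallyOfFiniteType G.hom] [QuasiCompact G.hom]
    [LocallyOfFiniteType X.hom] [QuasiCompact X.hom] (a : AlgGrp.Action G X)
    (x : 𝟙_ (Over (Spec (CommRingCat.of k))) ⟶ X) :
    IsProper (GIT.psi a x).left ↔
      IsClosed (Set.range (GIT.psi a x).left.base) ∧
        IsProper (Limits.pullback.snd (GIT.psi a x).left (lift x (𝟙 (𝟙_ (Over (Spec (CommRingCat.of k)))))).left ≫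
          (𝟙_ (Over (Spec (CommRingCat.of k)))).hom) := by
  haveI : IsIso (𝟙_ (Over (Spec (CommRingCat.of k)))).hom := inferInstanceAs (IsIso (𝟙 _))
  have hpsi : GIT.psi a x = (ρ_ G).hom ≫ a.orbitMap x ≫ (ρ_ X).inv := by
    refine CartesianMonoidalCategory.hom_ext _ _ ?_ (toUnit_unique _ _)
    simp only [GIT.psi, AlgGrp.Action.orbitMap, lift_fst, Category.assoc, rightUnitor_inv_fst, Category.comp_id,
      rightUnitor_hom]
    rw [← Category.assoc (fst G _), comp_lift, Category.comp_id]
    congr 1
    refine CartesianMonoidalCategory.hom_ext _ _ ?_ ?_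
    · simp
    · rw [lift_snd, whiskerLeft_snd, ← Category.assoc]
      congr 1
      exact toUnit_unique _ _
  haveI : IsIso (ρ_ G).hom.left := ((Over.forget _).mapIso (ρ_ G)).isIso_hom
  haveI : IsIso (ρ_ X).inv.left := ((Over.forget _).mapIso (ρ_ X)).isIso_inv
  have hx : lift x (𝟙 (𝟙_ (Over (Spec (CommRingCat.of k))))) = x ≫ (ρ_ X).inv := by
    refine CartesianMonoidalCategory.hom_ext _ _ ?_ (toUnit_unique _ _)
    simp
  have sq : IsPullback (Limits.pullback.fst (GIT.psi a x).left (lift x (𝟙 _)).left ≫ (ρ_ G).hom.left)
      (Limits.pullback.snd (GIT.psi a x).left (lift x (𝟙 _)).left) (a.orbitMap x).left x.left := by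
    refine (IsPullback.of_hasPullback (GIT.psi a x).left (lift x (𝟙 _)).left).of_iso (Iso.refl _)
      ((Over.forget _).mapIso (ρ_ G)) (Iso.refl _) ((Over.forget _).mapIso (ρ_ X)) ?_ ?_ ?_ ?_
    · simp
    · simp
    · show (GIT.psi a x).left ≫ (ρ_ X).hom.left = _
      rw [hpsi, ← Over.comp_left]
      simp
    · show (lift x (𝟙 _)).left ≫ (ρ_ X).hom.left = _
      rw [hx, ← Over.comp_left]
      simp
  have hrange : IsClosed (Set.range (GIT.psi a x).left.base) ↔ IsClosed (Set.range (a.orbitMap x).left) := by
    rw [hpsi, Over.comp_left, Over.comp_left, Scheme.Hom.comp_base, Scheme.Hom.comp_base, TopCat.coe_comp,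
      TopCat.coe_comp, Set.range_comp, (ρ_ G).hom.left.surjective.range_eq, Set.image_univ, Set.range_comp]
    exact ((ρ_ X).inv.left.homeomorph.isClosed_image).trans Iff.rfl
  have hproper : IsProper (GIT.psi a x).left ↔ IsProper (a.orbitMap x).left := by
    rw [hpsi, Over.comp_left, Over.comp_left, MorphismProperty.cancel_left_of_respectsIso (P := @IsProper),
      MorphismProperty.cancel_right_of_respectsIso (P := @IsProper)]
  constructor
  · intro h
    haveI := h
    refine ⟨(GIT.psi a x).left.isClosedMap.isClosed_range, ?_⟩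
    infer_instance
  · rintro ⟨hcl, hst⟩
    refine hproper.mpr (GITQuot.OrbitProper.isProper_orbitMap a x (hrange.mp hcl) ?_)
    rw [MorphismProperty.cancel_right_of_respectsIso (P := @IsProper)] at hst
    rw [← sq.isoPullback_inv_snd]
    exact (MorphismProperty.cancel_left_of_respectsIso (P := @IsProper) _ _).mpr hst

end Groth.Agent.S11435
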