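import Groth.Statements.S11462
import Groth.Agent.Hartogs.Basic
import Groth.Agent.FlatLoc6.Depth
import Groth.Agent.ParaFX.Ufd
import Mathlib.AlgebraicGeometry.StructureSheaf
import Mathlib.RingTheory.Artinian.Ring

set_option linter.style.haveILetI false
set_option backward.isDefEq.respectTransparency false
set_option backward.isDefEq.respectTransparency.types false


set_option autoImplicit false
universe u
open CategoryTheory AlgebraicGeometry Opposite
open DefT

namespace Groth.Agent.S11462

/-- Let C be a local Artin ring with maximal ideal m, A a Noetherian C-algebra flat over C such that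
Spec(A/mA) is a normal scheme, and U ⊆ X = Spec A an open subset whose closed complement has
codimension ≥ 2, i.e. every prime of A not in U has height at least 2. Then the restriction map Γ(X,
O_X) → Γ(U, O_X) is bijective. (The published statement assumes only that A is flat over C with
normal special fibre; this row also assumes A Noetherian: for a valuation ring of rank two over a
field, which is normal and flat, the functions on the complement of the closed point are not all
global.) -/
theorem result (C : Type u) [CommRing C]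
    [IsLocalRing C] [IsArtinianRing C] (A : Type u) [CommRing A] [IsNoetherianRing A] [Algebra C A]
    [Module.Flat C A]
    (hnorm : Pi1.IsNormalScheme (Spec (CommRingCat.of (A ⧸ (IsLocalRing.maximalIdeal C).map (algebraMap C A)))))
    (U : (Spec (CommRingCat.of A)).Opens)
    (hU : ∀ p : ↥(Spec (CommRingCat.of A)), p ∉ U → (2 : ℕ∞) ≤ p.asIdeal.height) :
    Function.Bijective ((Spec (CommRingCat.of A)).presheaf.map (homOfLE (le_top : U ≤ ⊤)).op) := by
  refine Groth.Agent.Hartogs.spec_bijective A U fun p hp => ?_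
  set I : Ideal A := (IsLocalRing.maximalIdeal C).map (algebraMap C A) with hI
  have hnil : IsNilpotent I := by
    have h : IsNilpotent (IsLocalRing.maximalIdeal C) := by
      rw [← IsLocalRing.jacobson_eq_maximalIdeal ⊥ bot_ne_top]
      exact IsArtinianRing.isNilpotent_jacobson_bot
    obtain ⟨n, hn⟩ := h
    exact ⟨n, by rw [hI, ← Ideal.map_pow, hn, Ideal.zero_eq_bot, Ideal.map_bot, ← Ideal.zero_eq_bot]⟩
  have hIp : I ≤ p.asIdeal := by
    obtain ⟨n, hn⟩ := hnil
    intro x hx
    exact p.2.mem_of_pow_mem n ((hn ▸ Ideal.pow_mem_pow hx n : x ^ n ∈ (0 : Ideal A)) ▸ p.asIdeal.zero_mem)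
  let B := Localization.AtPrime p.asIdeal
  haveI : IsLocalHom (algebraMap C B) := ⟨fun c hc => by
    by_contra h
    have h1 : algebraMap C A c ∈ p.asIdeal := hIp (Ideal.mem_map_of_mem _ ((IsLocalRing.mem_maximalIdeal c).2 h))
    have h2 : algebraMap A B (algebraMap C A c) ∈ IsLocalRing.maximalIdeal B :=
      (IsLocalization.AtPrime.to_map_mem_maximal_iff B p.asIdeal _).2 h1
    rw [← IsScalarTower.algebraMap_apply] at h2
    exact h2 hc⟩
  haveI : Module.Flat A B := IsLocalization.flat B p.asIdeal.primeCompl
  haveI : Module.Flat C B := Module.Flat.trans C A B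
  haveI : IsNoetherianRing B := IsLocalization.isNoetherianRing p.asIdeal.primeCompl B inferInstance
  let J : Ideal B := I.map (algebraMap A B)
  have hJ : (IsLocalRing.maximalIdeal C).map (algebraMap C B) = J := by
    show _ = ((IsLocalRing.maximalIdeal C).map (algebraMap C A)).map (algebraMap A B)
    rw [Ideal.map_map, ← IsScalarTower.algebraMap_eq]
  haveI : Nontrivial (B ⧸ J) := Ideal.Quotient.nontrivial_iff.2 fun h => (IsLocalRing.maximalIdeal.isMaximal B).ne_top
    (top_le_iff.1 (h ▸ hJ ▸ IsLocalRing.map_maximalIdeal_le (algebraMap C B)))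
  haveI : IsLocalRing (B ⧸ J) := IsLocalRing.of_surjective' (Ideal.Quotient.mk J) Ideal.Quotient.mk_surjective
  have key : (2 : ℕ∞) ≤ LocCoh.depth (B ⧸ J) (B ⧸ J) := by
    let p0 : PrimeSpectrum (A ⧸ I) := ⟨p.asIdeal.map (Ideal.Quotient.mk I),
      Ideal.map_isPrime_of_surjective Ideal.Quotient.mk_surjective (by rw [Ideal.mk_ker]; exact hIp)⟩
    haveI : p0.asIdeal.IsPrime := p0.2
    have hM : Algebra.algebraMapSubmonoid (A ⧸ I) p.asIdeal.primeCompl = p0.asIdeal.primeCompl := by
      ext y
      obtain ⟨a, rfl⟩ := Ideal.Quotient.mk_surjective y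
      constructor
      · rintro ⟨b, hb, e⟩ hmem
        have e' : Ideal.Quotient.mk I b = Ideal.Quotient.mk I a := e
        rw [← e'] at hmem
        obtain ⟨c, hc, ec⟩ := (Ideal.mem_map_iff_of_surjective _ Ideal.Quotient.mk_surjective).1 hmem
        exact hb (by simpa using sub_mem hc (hIp (Ideal.Quotient.eq.1 ec)))
      · exact fun hy => ⟨a, fun h => hy (Ideal.mem_map_of_mem _ h), rfl⟩
    haveI hloc : IsLocalization.AtPrime (B ⧸ J) p0.asIdeal := by
      show IsLocalization p0.asIdeal.primeCompl (B ⧸ J)
      rw [← hM]; infer_instance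
    obtain ⟨hdom, hic⟩ := hnorm p0
    let e : (Spec (CommRingCat.of (A ⧸ I))).presheaf.stalk p0 ≃+* (B ⧸ J) :=
      (StructureSheaf.stalkIso (A ⧸ I) p0).toRingEquiv.symm.trans
        (IsLocalization.algEquiv p0.asIdeal.primeCompl (Localization.AtPrime p0.asIdeal) (B ⧸ J)).toRingEquiv
    haveI : IsDomain (B ⧸ J) := e.symm.toMulEquiv.isDomain _
    haveI : IsIntegrallyClosed (B ⧸ J) := IsIntegrallyClosed.of_equiv e
    refine Groth.Agent.ParaFX.two_le_depth_of_normal (B ⧸ J) ?_
    have hJnil : PrimeSpectrum.zeroLocus (J : Set B) = Set.univ := by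
      refine Set.eq_univ_of_forall fun q => ?_
      obtain ⟨n, hn⟩ := hnil
      refine SetLike.coe_subset_coe.2 fun x hx => ?_
      refine q.2.mem_of_pow_mem n ?_
      have := Ideal.pow_mem_pow hx n
      rw [show J ^ n = (I ^ n).map (algebraMap A B) from (Ideal.map_pow _ _ _).symm, hn, Ideal.zero_eq_bot,
        Ideal.map_bot, Ideal.mem_bot] at this
      rw [this]; exact zero_mem _
    rw [ringKrullDim_quotient, hJnil,
      Order.krullDim_eq_of_orderIso (OrderIso.Set.univ)]
    show (2 : WithBot ℕ∞) ≤ ringKrullDim B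
    rw [IsLocalization.AtPrime.ringKrullDim_eq_height p.asIdeal B]
    exact WithBot.coe_le_coe.2 (hU p hp)
  have hd := Groth.Agent.FlatLoc6.depth_tensor (A := C) (B := B) (N := B) C
  rw [Groth.Agent.Hensel.depth_congr (TensorProduct.AlgebraTensorModule.rid C B B),
    Groth.Agent.FlatLoc6.depth_fibMod] at hd
  rw [hd]
  refine le_add_left ?_
  refine key.trans (le_of_eq ?_)
  refine (Groth.Agent.Alg6.depth_eq_of_semilinear (Ideal.Quotient.mk J) Ideal.Quotient.mk_surjective ?_ ?_).symm
  · exact (Submodule.quotEquivOfEq _ J (by simp [Groth.Agent.FlatLoc6.mN, EGA4.mB, hJ])).toAddEquiv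
  · intro r x
    obtain ⟨x, rfl⟩ := Submodule.Quotient.mk_surjective _ x
    rfl
end Groth.Agent.S11462
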