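import Groth.Statements.S11469
import Groth.Agent.H9SmallExt.Basic

set_option linter.style.haveILetI false
set_option backward.isDefEq.respectTransparency false
set_option backward.isDefEq.respectTransparency.types false


set_option autoImplicit false
universe u
open scoped TensorProduct
open DefT

namespace Groth.Agent.S11469

/-- Let C' be a local Artin ring with maximal ideal m, J ⊊ C' a proper ideal with mJ = 0, A' a
C'-algebra, M' an A'-module flat over C', and M₀ = M'/mM'. Then (1) every A'-linear endomorphism σ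
of M' that is the identity modulo JM' is bijective, and there is exactly one A'-linear τ : M₀ → M₀
⊗_{C'} J such that, for all x ∈ M' and all z ∈ M' ⊗_{C'} J mapping to σ(x) − x in M', the image of z
in M₀ ⊗_{C'} J is τ applied to the class of x; and (2) every A'-linear τ : M₀ → M₀ ⊗_{C'} J comes in
this way from some such σ. Thus the automorphisms of the extension M' inducing the identity on
M'/JM' correspond to Hom(M₀, M₀ ⊗ J). -/
theorem result (C' : Type u) [CommRing C'] [IsLocalRing C']
    [IsArtinianRing C'] (J : Ideal C') (hJ : IsLocalRing.maximalIdeal C' * J = ⊥) (hJne : J ≠ ⊤)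
    (A' : Type u) [CommRing A'] [Algebra C' A'] (M' : Type u) [AddCommGroup M'] [Module A' M'] [Module C' M']
    [IsScalarTower C' A' M'] [Module.Flat C' M'] :
    (∀ σ : M' →ₗ[A'] M', (∀ x : M', σ x - x ∈ (J.map (algebraMap C' A')) • (⊤ : Submodule A' M')) →
      Function.Bijective σ ∧
        ∃! τ : (M' ⧸ ((IsLocalRing.maximalIdeal C').map (algebraMap C' A')) • (⊤ : Submodule A' M')) →ₗ[A'] ((M' ⧸ ((IsLocalRing.maximalIdeal C').map (algebraMap C' A')) • (⊤ : Submodule A' M')) ⊗[C'] ↥J),
          (∀ (x : M') (z : M' ⊗[C'] ↥J), TensorProduct.rid C' M' (LinearMap.lTensor M' (Submodule.subtype J) z) = σ x - x →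
            LinearMap.rTensor ↥J ((Submodule.mkQ (((IsLocalRing.maximalIdeal C').map (algebraMap C' A')) • (⊤ : Submodule A' M'))).restrictScalars C') z =
              τ (Submodule.mkQ _ x))) ∧
    (∀ τ : (M' ⧸ ((IsLocalRing.maximalIdeal C').map (algebraMap C' A')) • (⊤ : Submodule A' M')) →ₗ[A'] ((M' ⧸ ((IsLocalRing.maximalIdeal C').map (algebraMap C' A')) • (⊤ : Submodule A' M')) ⊗[C'] ↥J),
      ∃ σ : M' →ₗ[A'] M', (∀ x : M', σ x - x ∈ (J.map (algebraMap C' A')) • (⊤ : Submodule A' M')) ∧
          (∀ (x : M') (z : M' ⊗[C'] ↥J), TensorProduct.rid C' M' (LinearMap.lTensor M' (Submodule.subtype J) z) = σ x - x →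
            LinearMap.rTensor ↥J ((Submodule.mkQ (((IsLocalRing.maximalIdeal C').map (algebraMap C' A')) • (⊤ : Submodule A' M'))).restrictScalars C') z =
              τ (Submodule.mkQ _ x))) := by
  set m := IsLocalRing.maximalIdeal C' with hm
  have hJm : J ≤ m := IsLocalRing.le_maximalIdeal hJne
  have hinj := H9SmallExt.e_injective C' A' M' J
  have hr := H9SmallExt.range_e C' A' M' J
  let N : Submodule A' M' := (m.map (algebraMap C' A')) • ⊤
  let qE := LinearEquiv.ofBijective _ (H9SmallExt.q_bijective A' M' J m hJ)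
  let eE := LinearEquiv.ofInjective _ hinj
  refine ⟨fun σ hσ => ⟨?_, ?_⟩, fun τ => ?_⟩
  · let δ : M' →ₗ[A'] M' := σ - LinearMap.id
    have hδJ : ∀ x, δ x ∈ (J.map (algebraMap C' A')) • (⊤ : Submodule A' M') := hσ
    have hδ2 : ∀ x, δ (δ x) = 0 := by
      intro x
      refine Submodule.smul_induction_on (hδJ x) ?_ (fun a b ha hb => by rw [map_add, ha, hb, add_zero])
      intro a ha y _
      induction ha using Submodule.span_induction with
      | mem b hb =>
        obtain ⟨c, hc, rfl⟩ := hb
        rw [map_smul]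
        obtain ⟨z, hz⟩ := (hr.symm ▸ hδJ y : δ y ∈ LinearMap.range (H9SmallExt.e C' A' M' J))
        rw [← hz, ← map_smul, algebraMap_smul, H9SmallExt.smul_tensor_eq_zero M' J m hJ (hJm hc), map_zero]
      | zero => simp
      | add b c _ _ hb hc => rw [add_smul, map_add, hb, hc, add_zero]
      | smul r b _ hb => rw [smul_eq_mul, mul_smul, map_smul, hb, smul_zero]
    have hσe : ∀ x, σ x = x + δ x := fun x => by simp [δ]
    refine ⟨fun a b hab => ?_, fun y => ⟨y - δ y, ?_⟩⟩
    · have h0 : (a - b) + δ (a - b) = 0 := by rw [← hσe, map_sub, hab, sub_self]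
      have h1 : δ (a - b) = 0 := by
        have := congrArg δ h0
        rwa [map_add, hδ2, add_zero, map_zero] at this
      rw [h1, add_zero, sub_eq_zero] at h0
      exact h0
    · rw [hσe, map_sub, hδ2, sub_zero, sub_add_cancel]
  · let d : M' →ₗ[A'] M' ⊗[C'] ↥J := eE.symm.toLinearMap ∘ₗ
      LinearMap.codRestrict _ (σ - LinearMap.id) (fun x => hr.symm ▸ hσ x)
    have hd : ∀ x, H9SmallExt.e C' A' M' J (d x) = σ x - x := fun x =>
      congrArg Subtype.val (eE.apply_symm_apply ⟨σ x - x, hr.symm ▸ hσ x⟩)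
    have hzero : ∀ c ∈ m, ∀ z : (M' ⧸ N) ⊗[C'] ↥J, c • z = 0 := fun c hc z =>
      H9SmallExt.smul_tensor_eq_zero _ J m hJ hc z
    let τ := N.liftQ (H9SmallExt.q A' M' J m ∘ₗ d)
      (fun y hy => H9SmallExt.mem_smul_eq_zero A' M' m hzero _ hy)
    refine ⟨τ, ?_, ?_⟩
    · intro x z hz
      have hzd : z = d x := hinj (by rw [hd, H9SmallExt.e_apply]; exact hz)
      rw [hzd, ← H9SmallExt.q_apply]
      rfl
    · intro τ' hτ'
      refine Submodule.linearMap_qext _ (LinearMap.ext fun x => ?_)
      show τ' (Submodule.mkQ N x) = H9SmallExt.q A' M' J m (d x)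
      rw [← hτ' x (d x) (by rw [← H9SmallExt.e_apply C' A' M' J]; exact hd x), H9SmallExt.q_apply]
  · let d : M' →ₗ[A'] M' ⊗[C'] ↥J := qE.symm.toLinearMap ∘ₗ τ ∘ₗ N.mkQ
    refine ⟨LinearMap.id + H9SmallExt.e C' A' M' J ∘ₗ d, fun x => ?_, ?_⟩
    · rw [← hr]; exact ⟨d x, by simp⟩
    · intro x z hz
      have hzd : z = d x := hinj (by rw [H9SmallExt.e_apply, hz]; simp)
      rw [hzd, ← H9SmallExt.q_apply]
      exact qE.apply_symm_apply _
end Groth.Agent.S11469
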