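import Groth.Statements.S11479
import Groth.Agent.FamHom.Separated

set_option autoImplicit false
universe u
open CategoryTheory CategoryTheory.Limits AlgebraicGeometry
open Curves

namespace Groth.Agent.S11479

/-- Let X be a nonsingular projective curve over an algebraically closed field k (smooth, proper,
integral, of dimension one), T a nonsingular integral curve over k and t₀ a k-point of T. Let E and
E' be locally free sheaves of rank r on X ×_k T, and for a k-point t of T write E_t for the pullback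
of E along the fibre inclusion X → X ×_k T at t. Suppose E_t ≅ E'_t for every k-point t ≠ t₀, and
that E_{t₀} and E'_{t₀} are both stable: every locally free subsheaf G of rank s, 0 < s < r,
satisfies deg G / s < deg / r (written cross-multiplied, degrees computed as χ(G) − s·χ(O_X)). Then
E_{t₀} ≅ E'_{t₀} (existence of an isomorphism). -/
theorem result (k : Type u) [Field k] [IsAlgClosed k] (X : Scheme.{u})
    [X.Over (Spec (CommRingCat.of k))] (hX : Curve.IsSmoothProperCurve k X (X ↘ Spec (CommRingCat.of k)))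
    (T : Scheme.{u}) [T.Over (Spec (CommRingCat.of k))] [IsIntegral T] [Smooth (T ↘ Spec (CommRingCat.of k))]
    (hT : topologicalKrullDim T = 1) (t₀ : Spec (CommRingCat.of k) ⟶ T) (ht₀ : t₀ ≫ (T ↘ Spec (CommRingCat.of k)) = 𝟙 _)
    (r : ℕ) (E E' : (pullback (X ↘ Spec (CommRingCat.of k)) (T ↘ Spec (CommRingCat.of k))).Modules)
    (hE : FlatMod.IsFinLocFreeOfRank r E) (hE' : FlatMod.IsFinLocFreeOfRank r E')
    (hiso : ∀ (t : Spec (CommRingCat.of k) ⟶ T) (j : X ⟶ pullback (X ↘ Spec (CommRingCat.of k)) (T ↘ Spec (CommRingCat.of k))),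
      t ≫ (T ↘ Spec (CommRingCat.of k)) = 𝟙 _ → t ≠ t₀ → j ≫ pullback.fst _ _ = 𝟙 X →
      j ≫ pullback.snd _ _ = (X ↘ Spec (CommRingCat.of k)) ≫ t →
      Nonempty ((Scheme.Modules.pullback j).obj E ≅ (Scheme.Modules.pullback j).obj E'))
    (j₀ : X ⟶ pullback (X ↘ Spec (CommRingCat.of k)) (T ↘ Spec (CommRingCat.of k)))
    (hj₀ : j₀ ≫ pullback.fst _ _ = 𝟙 X) (hj₀' : j₀ ≫ pullback.snd _ _ = (X ↘ Spec (CommRingCat.of k)) ≫ t₀)
    (hst : (∀ (G : X.Modules) (s : ℕ) (ι : G ⟶ ((Scheme.Modules.pullback j₀).obj E)), Mono ι →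
        FlatMod.IsFinLocFreeOfRank s G → 0 < s → s < r → Curv2.deg k X G s * (r : ℤ) < Curv2.deg k X ((Scheme.Modules.pullback j₀).obj E) r * (s : ℤ)))
    (hst' : (∀ (G : X.Modules) (s : ℕ) (ι : G ⟶ ((Scheme.Modules.pullback j₀).obj E')), Mono ι →
        FlatMod.IsFinLocFreeOfRank s G → 0 < s → s < r → Curv2.deg k X G s * (r : ℤ) < Curv2.deg k X ((Scheme.Modules.pullback j₀).obj E') r * (s : ℤ))) :
    Nonempty ((Scheme.Modules.pullback j₀).obj E ≅ (Scheme.Modules.pullback j₀).obj E') := by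
  haveI := hX.1
  haveI := hX.2.1
  haveI := hX.2.2.1
  have hd : topologicalKrullDim X ≤ 1 := hX.2.2.2.le
  have hE₀ := Groth.Agent.KRRReg.isFinLocFreeOfRank_pullback j₀ hE
  have hE₀' := Groth.Agent.KRRReg.isFinLocFreeOfRank_pullback j₀ hE'
  have hEf := Groth.Agent.CurveStable.isFinLocFree_of_rank hE₀
  have hEf' := Groth.Agent.CurveStable.isFinLocFree_of_rank hE₀'
  rcases Nat.eq_zero_or_pos r with rfl | hr
  · haveI := Groth.Agent.CurveSlope.isLocallyNoetherian' k (X := X)
    exact ⟨(Groth.Agent.CurveBundle.isZero_of_rk_zero hEf (Groth.Agent.CurveBundle.rk_eq hE₀)).iso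
      (Groth.Agent.CurveBundle.isZero_of_rk_zero hEf' (Groth.Agent.CurveBundle.rk_eq hE₀'))⟩
  obtain ⟨⟨f, hf⟩, heu⟩ := Groth.Agent.FamHom.exists_hom_ne_zero hd (T ↘ Spec (CommRingCat.of k)) hT t₀ ht₀ hr
    hE hE' hiso j₀ hj₀ hj₀'
  have hdeg : Curv2.deg k X ((Scheme.Modules.pullback j₀).obj E) r =
      Curv2.deg k X ((Scheme.Modules.pullback j₀).obj E') r := by
    unfold Curv2.deg; rw [heu]
  haveI : IsIso f := Groth.Agent.CurveBundle.isIso_of_slopes k hd r _ _ hE₀ hE₀' hdeg
    (fun K J a b i l hi hl ha har hb hbr hKr hJr => by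
      linarith [hst K a i hi hKr ha har, hst' J b l hl hJr hb hbr]) f hf
  exact ⟨asIso f⟩

end Groth.Agent.S11479
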