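import Groth.Statements.S11486
import Groth.Agent.PnVan.Split
open Groth.Agent

set_option autoImplicit false
universe u
open VBPn

namespace Groth.Agent.S11486

open CategoryTheory CategoryTheory.Limits AlgebraicGeometry in
/-- Let k be a characteristic-zero algebraically closed field and E a finite locally free O-module of
rank r on P^n_k. Then E splits as a direct sum of twisting sheaves O(a_1) ⊕ ⋯ ⊕ O(a_r) if and only
if H^i(P^n_k, E ⊗ O(d)) = 0 for every 0 < i < n and every integer d. -/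
theorem result (k : Type u) [Field k] [IsAlgClosed k] [CharZero k]
    (n r : ℕ) (E : (CohB1.ProjSpace n k).Modules) (hE : FlatMod.IsFinLocFreeOfRank r E) :
    (∃ a : Fin r → ℤ, Nonempty (E ≅ ∐ fun j : Fin r => Twist.twistProjSpace n k (a j))) ↔
      ∀ (i : ℕ) (d : ℤ), 0 < i → i < n →
        Subsingleton (Coh.HH (CohB1.ProjSpace n k) (CohB1.tensorMod E (Twist.twistProjSpace n k d)) i) := by
  haveI : Nonempty (CohB1.ProjSpace n k) :=
    haveI := Groth.Agent.H23.PnChart.isIntegral_projSpace n k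
    inferInstance
  have hlf : FlatMod.IsFinLocFree E := fun x => let ⟨U, hx, he⟩ := hE x; ⟨U, r, hx, he⟩
  have hc : Coh.IsCoh (X := Groth.Agent.PnVan.P k n) E :=
    QCoh.isCoh_iff_isFP.2 (QCoh.isFP_of_isFinLocFree (X := Groth.Agent.PnVan.P k n) hlf)
  constructor
  · rintro ⟨a, e⟩ i d h1 h2
    exact ((Groth.Agent.PnVan.iso_sigma_iff (k := k) (r := n) hc).1 ⟨r, a, e⟩).mid d i h1 h2
  · intro h
    obtain ⟨b, a, ⟨e⟩⟩ := (Groth.Agent.PnVan.iso_sigma_iff (k := k) (r := n) hc).2
      ⟨hc, fun d i h1 h2 => h i d h1 h2, fun hn =>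
        Groth.Agent.PnVan.negVan_of_isFinLocFree (k := k) (r := n) 0 hn hlf⟩
    obtain rfl : r = b := Groth.Agent.PnVan.rank_unique hE
      (Groth.Agent.PnVan.rank_of_iso e.symm (Groth.Agent.PnVan.isFinLocFreeOfRank_sigma _ fun j =>
        Groth.Agent.PnVan.invertible_twist (a j)))
    exact ⟨a, ⟨e⟩⟩

end Groth.Agent.S11486
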