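import Groth.Statements.S11504
import Groth.Agent.PnEuler.Simple
import Groth.Agent.ExtShX.PnSmooth
-- import your own Groth.Agent.* helpers here

set_option autoImplicit false
universe u
open VBPn

namespace Groth.Agent.S11504

open CategoryTheory CategoryTheory.Limits AlgebraicGeometry in
/-- Let k be an algebraically closed field of characteristic zero. The sheaf of relative differentials
Ω^1 of P^n_k → Spec k is simple: every O-module endomorphism of it is a homothety, i.e. its
underlying map of abelian sheaves is multiplication by some scalar c ∈ k. The published statement is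
for the tangent bundle T, the dual of Ω^1; the two are equivalent since dualising identifies their
endomorphisms. Simplicity implies indecomposability. -/
theorem result (k : Type u) [Field k] [IsAlgClosed k] [CharZero k] (n : ℕ)
    (φ : Omega.sheaf (CohB1.ProjSpace.toSpec n k) ⟶ Omega.sheaf (CohB1.ProjSpace.toSpec n k)) :
    ∃ c : k, (SheafOfModules.toSheaf (CohB1.ProjSpace n k).ringCatSheaf).map φ =
      Coh.smulAb (Omega.sheaf (CohB1.ProjSpace.toSpec n k)) (Coh.toGlobal (CohB1.ProjSpace.toSpec n k) c) := by
  haveI := Groth.Agent.ExtShX.DetPn.quasiSeparated_toSpec n k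
  obtain ⟨c, rfl⟩ := Groth.Agent.PnEuler.endo_omega n k φ
  exact ⟨c, rfl⟩

end Groth.Agent.S11504
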