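import Groth.Statements.S11518
import Groth.Agent.PnEuler.Tango
import Groth.Agent.ExtShX.PnSmooth
-- import your own Groth.Agent.* helpers here

set_option autoImplicit false
universe u
open VBPn

namespace Groth.Agent.S11518

open CategoryTheory CategoryTheory.Limits AlgebraicGeometry in
/-- Let k be an algebraically closed field of characteristic zero. For every n there is a finite locally
free O-module F of rank n − 1 on P^n_k which is simple, i.e. every endomorphism of F is a homothety
(its underlying map of abelian sheaves is multiplication by a scalar in k); in particular F is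
indecomposable. (For n ≤ 2 the assertion is trivial. The published statement also gives the total
Chern class (1 − 2h)/(1 − h)^{n+1}; this row does not state it.) -/
theorem result (k : Type u) [Field k] [IsAlgClosed k] [CharZero k] (n : ℕ) :
    ∃ F : (CohB1.ProjSpace n k).Modules, FlatMod.IsFinLocFreeOfRank (n - 1) F ∧
      ∀ φ : F ⟶ F, ∃ c : k, (SheafOfModules.toSheaf (CohB1.ProjSpace n k).ringCatSheaf).map φ =
        Coh.smulAb F (Coh.toGlobal (CohB1.ProjSpace.toSpec n k) c) := by
  haveI := Groth.Agent.ExtShX.DetPn.quasiSeparated_toSpec n k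
  rcases Nat.lt_or_ge n 2 with hn | hn
  · have hz : Limits.IsZero (FlatMod.freeMod (CohB1.ProjSpace n k) 0) := Groth.Agent.QCoh.isZero_freeMod_zero' _
    refine ⟨FlatMod.freeMod (CohB1.ProjSpace n k) 0, ?_, fun φ => ⟨0, ?_⟩⟩
    · rw [show n - 1 = 0 by omega]
      exact fun x => ⟨⊤, trivial, ⟨((Scheme.Modules.restrictFunctor (⊤ : (CohB1.ProjSpace n k).Opens).ι).map_isZero hz).iso (Groth.Agent.QCoh.isZero_freeMod_zero' _)⟩⟩
    · rw [hz.eq_of_src φ (Groth.Agent.PnEuler.sc n k (FlatMod.freeMod (CohB1.ProjSpace n k) 0) 0)]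
      rfl
  · obtain ⟨F, hF, h⟩ := Groth.Agent.PnEuler.exists_simple n k hn
    refine ⟨F, hF, fun φ => ?_⟩
    obtain ⟨c, hc⟩ := h φ
    exact ⟨c, by rw [hc]; rfl⟩

end Groth.Agent.S11518
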