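import Groth.Statements.S11519
import Groth.Agent.PnEuler.NullProp
import Groth.Agent.ExtShX.PnSmooth
-- import your own Groth.Agent.* helpers here

set_option autoImplicit false
universe u
open VBPn

namespace Groth.Agent.S11519

open CategoryTheory CategoryTheory.Limits AlgebraicGeometry in
/-- Let k be an algebraically closed field of characteristic zero and a, a' : O(−1) → Ω^1 ⊗ O(1) two
bundle monomorphisms of O-modules on P^3_k, i.e. monomorphisms whose cokernels E, E' are finite
locally free of rank 2 (null-correlation bundles up to duality). Then E ≅ E' if and only if a' = c·a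
for a nonzero constant c ∈ k: the underlying map of abelian sheaves of a' equals that of a followed
by multiplication by c on Ω^1 ⊗ O(1). -/
theorem result (k : Type u) [Field k] [IsAlgClosed k] [CharZero k]
    (a a' : Twist.twistProjSpace 3 k (-1) ⟶
      CohB1.tensorMod (Omega.sheaf (CohB1.ProjSpace.toSpec 3 k)) (Twist.twistProjSpace 3 k 1))
    [Mono a] [Mono a'] (hE : FlatMod.IsFinLocFreeOfRank 2 (cokernel a)) (hE' : FlatMod.IsFinLocFreeOfRank 2 (cokernel a')) :
    Nonempty (cokernel a ≅ cokernel a') ↔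
      ∃ c : k, c ≠ 0 ∧ (SheafOfModules.toSheaf (CohB1.ProjSpace 3 k).ringCatSheaf).map a' =
        (SheafOfModules.toSheaf (CohB1.ProjSpace 3 k).ringCatSheaf).map a ≫
          Coh.smulAb (CohB1.tensorMod (Omega.sheaf (CohB1.ProjSpace.toSpec 3 k)) (Twist.twistProjSpace 3 k 1))
            (Coh.toGlobal (CohB1.ProjSpace.toSpec 3 k) c) := by
  haveI := Groth.Agent.ExtShX.DetPn.quasiSeparated_toSpec 3 k
  constructor
  · rintro ⟨e⟩
    obtain ⟨c, hc, h⟩ := Groth.Agent.PnEuler.exists_scalar_of_coker_iso 3 k a (by norm_num) a'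
      (fun hz => absurd hE' (Groth.Agent.PnEuler.not_rank_two_of_isZero 3 k hz)) e
    refine ⟨c, hc, ?_⟩
    rw [h]
    exact (SheafOfModules.toSheaf _).map_comp _ _
  · rintro ⟨c, hc, h⟩
    haveI := Groth.Agent.PnEuler.isIso_sc 3 k (CohB1.tensorMod (Omega.sheaf (CohB1.ProjSpace.toSpec 3 k)) (Twist.twistProjSpace 3 k 1)) hc
    refine ⟨cokernel.mapIso a a' (Iso.refl _) (asIso (Groth.Agent.PnEuler.sc 3 k (CohB1.tensorMod (Omega.sheaf (CohB1.ProjSpace.toSpec 3 k)) (Twist.twistProjSpace 3 k 1)) c)) ?_⟩
    rw [Iso.refl_hom, Category.id_comp, asIso_hom]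
    exact ((SheafOfModules.toSheaf _).map_injective (by rw [h]; exact ((SheafOfModules.toSheaf _).map_comp _ _)))

end Groth.Agent.S11519
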