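import Groth.Statements.S11523
import Mathlib.CategoryTheory.Simple
import Mathlib.CategoryTheory.Subobject.ArtinianObject
import Mathlib.CategoryTheory.Subobject.NoetherianObject

set_option autoImplicit false
universe v u v' u'
open CategoryTheory CategoryTheory.Limits
open PervT

namespace Groth.Agent.S11523

/-- Let `u : A ⥤ B` be a fully faithful exact functor of abelian categories admitting a left adjoint and
a right adjoint `uStar`. Suppose every object of `A` has finite length (it is both an artinian and a
noetherian object) and that `u` sends simple objects to simple objects. Then for every object `Y` of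
`B` the counit `u (uStar Y) ⟶ Y` of the adjunction `u ⊣ uStar` is a monomorphism. (The published
statement also lists two further conditions equivalent to this one: that for every object `Y` of `B`
the unit `Y ⟶ u (L Y)` of the adjunction `L ⊣ u` of the left adjoint `L` is an epimorphism, and that
the essential image of `u` is stable under subobjects and quotients; this row states only the counit
condition.) -/
theorem result {A : Type u} [Category.{v} A] [Abelian A] {B : Type u'} [Category.{v'} B] [Abelian B]
    (u : A ⥤ B) [u.Full] [u.Faithful] [PreservesFiniteLimits u] [PreservesFiniteColimits u] [u.IsRightAdjoint]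
    (uStar : B ⥤ A) (adj : u ⊣ uStar)
    (hlen : ∀ X : A, IsArtinianObject X ∧ IsNoetherianObject X)
    (hsimple : ∀ X : A, Simple X → Simple (u.obj X)) (Y : B) :
    Mono (adj.counit.app Y) := by
  haveI : u.Additive := u.additive_of_preserves_binary_products
  set X := uStar.obj Y
  set ε := adj.counit.app Y
  by_contra hne
  let k : kernel ε ⟶ u.obj X := kernel.ι ε
  have hk : ∀ (S₀ : A) (g : S₀ ⟶ X), u.map g ≫ ε = 0 → g = 0 := fun S₀ g hg => by
    refine (adj.homEquiv S₀ Y).symm.injective ?_
    simp only [Adjunction.homEquiv_counit, Functor.map_zero, zero_comp, X, ε] at hg ⊢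
    exact hg
  haveI := (hlen X).2
  let P : Subobject X → Prop := fun N => Mono (k ≫ u.map (cokernel.π N.arrow))
  have hP0 : P ⊥ := by
    haveI : IsIso (cokernel.π (⊥ : Subobject X).arrow) := by
      rw [Subobject.bot_arrow]
      exact cokernel.π_zero_isIso
    show Mono (k ≫ u.map (cokernel.π (⊥ : Subobject X).arrow))
    infer_instance
  obtain ⟨N, hN, hmax⟩ := wellFounded_gt.has_min {N : Subobject X | P N} ⟨⊥, hP0⟩
  let π := cokernel.π N.arrow
  haveI : Mono (k ≫ u.map π) := hN
  have hk0 : k ≠ 0 := fun h => hne (Preadditive.mono_of_kernel_zero h)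
  have hC : ¬ IsZero (cokernel N.arrow) := fun hz => by
    have h0 : k ≫ u.map π = 0 := (u.map_isZero hz).eq_of_tgt _ _
    have h1 : 𝟙 (kernel ε) = 0 := zero_of_comp_mono (k ≫ u.map π) (by rw [Category.id_comp, h0])
    exact hk0 (by rw [← Category.id_comp k, h1, zero_comp])
  haveI := (hlen (cokernel N.arrow)).1
  obtain ⟨S, hS⟩ := exists_simple_subobject hC
  haveI := hS
  haveI : Simple (u.obj (S : A)) := hsimple _ hS
  let m := k ≫ u.map π
  by_cases hpb : pullback.fst (u.map S.arrow) m = 0
  · let π' := cokernel.π S.arrow
    have hm : Mono (m ≫ u.map π') := Preadditive.mono_of_cancel_zero _ fun {T} g hg => by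
      rw [← Category.assoc] at hg
      have hker := Limits.isLimitForkMapOfIsLimit' u _ (Abelian.monoIsKernelOfCokernel _ (cokernelIsCokernel S.arrow))
      obtain ⟨a, ha⟩ := KernelFork.IsLimit.lift' hker (g ≫ m) hg
      have ha' : a ≫ u.map S.arrow = g ≫ m := ha
      have h0 : a = 0 := by
        rw [← pullback.lift_fst (f := u.map S.arrow) (g := m) a g ha', hpb, comp_zero]
      exact zero_of_comp_mono m (by rw [← ha', h0, zero_comp])
    let N' : Subobject X := Subobject.mk (kernel.ι (π ≫ π'))
    have hcol : IsColimit (CokernelCofork.ofπ (π ≫ π') (kernel.condition (π ≫ π'))) :=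
      Abelian.epiIsCokernelOfKernel (Fork.ofι (kernel.ι (π ≫ π')) (by simp)) (kernelIsKernel (π ≫ π'))
    let e : cokernel N'.arrow ≅ cokernel S.arrow :=
      cokernel.mapIso _ (kernel.ι (π ≫ π')) (Subobject.underlyingIso _) (Iso.refl _) (by simp [N']) ≪≫
        (cokernelIsCokernel _).coconePointUniqueUpToIso hcol
    have he : π ≫ π' = cokernel.π N'.arrow ≫ e.hom := by
      have h1 := (cokernelIsCokernel (kernel.ι (π ≫ π'))).comp_coconePointUniqueUpToIso_hom hcol WalkingParallelPair.one
      simp only [e, Iso.trans_hom, cokernel.mapIso_hom, cokernel.π_desc_assoc, Iso.refl_hom, Category.id_comp]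
      exact h1.symm
    have hPN' : P N' := by
      have h2 : k ≫ u.map (cokernel.π N'.arrow) = (m ≫ u.map π') ≫ u.map e.inv := by
        simp only [m, Category.assoc, ← Functor.map_comp]
        rw [← Category.assoc π π' e.inv, he, Category.assoc, e.hom_inv_id, Category.comp_id]
      show Mono (k ≫ u.map (cokernel.π N'.arrow))
      rw [h2]
      infer_instance
    have hle : N ≤ N' := Subobject.le_mk_of_comm (kernel.lift _ N.arrow (by rw [← Category.assoc, cokernel.condition, zero_comp]))
      (kernel.lift_ι _ _ _)
    rcases hle.lt_or_eq with hlt | heq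
    · exact hmax N' hPN' hlt
    · have h3 : S.arrow = 0 := by
        rw [← cancel_epi (pullback.snd π S.arrow), comp_zero, ← pullback.condition]
        have h4 : pullback.fst π S.arrow ≫ (π ≫ π') = 0 := by
          rw [← Category.assoc, pullback.condition, Category.assoc, cokernel.condition, comp_zero]
        have h5 : pullback.fst π S.arrow ≫ cokernel.π N'.arrow = 0 := by
          rw [he, ← Category.assoc] at h4
          exact (cancel_mono e.hom).1 (h4.trans zero_comp.symm)
        rw [← heq] at h5
        exact h5
      exact id_nonzero (S : A) ((cancel_mono S.arrow).1 (by rw [h3, comp_zero, comp_zero]))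
  · haveI : Epi (pullback.fst (u.map S.arrow) m) := epi_of_nonzero_to_simple hpb
    haveI := strongEpi_of_epi (pullback.fst (u.map S.arrow) m)
    have sq : CommSq (pullback.snd (u.map S.arrow) m) (pullback.fst (u.map S.arrow) m) m (u.map S.arrow) :=
      ⟨pullback.condition.symm⟩
    have hl : sq.lift ≫ m = u.map S.arrow := sq.fac_right
    let g := u.preimage (sq.lift ≫ k)
    have hg : g = 0 := hk _ g (by
      simp only [g, Functor.map_preimage, Category.assoc, k, kernel.condition, comp_zero])
    have : sq.lift ≫ k = 0 := by
      rw [← u.map_preimage (sq.lift ≫ k)]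
      exact (congrArg u.map hg).trans (u.map_zero _ _)
    have hz : u.map S.arrow = 0 := by
      rw [← hl]
      simp only [m, ← Category.assoc, this, zero_comp]
    exact id_nonzero (S : A) ((cancel_mono S.arrow).1 (by
      rw [u.map_injective (hz.trans (u.map_zero _ _).symm), comp_zero, comp_zero]))

end Groth.Agent.S11523
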