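import Groth.Statements.S1184
import Groth.Agent.RelCurveDiv.Scheme
-- import your own Groth.Agent.* helpers here

set_option autoImplicit false
set_option backward.isDefEq.respectTransparency false
set_option backward.isDefEq.respectTransparency.types false
open CategoryTheory CategoryTheory.Limits AlgebraicGeometry
universe u
open HilbD

-- keep the elaboration of the statement identical to the frozen one
attribute [-instance] CategoryTheory.catToReflQuiver

namespace Groth.Agent.S1184

/-- Let f : X ⟶ S be smooth of relative dimension 1 and D the closed subscheme of X defined by a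
quasi-coherent ideal sheaf I. Then I is the ideal of an effective Cartier divisor with D flat over S
if and only if the projection from D to S is flat, locally quasi-finite and locally finitely
presented; and both hold as soon as D is finite locally free over S. -/
theorem result {X S : Scheme.{u}} (f : X ⟶ S) [SmoothOfRelativeDimension 1 f]
    (I : X.IdealSheafData) :
    ((BlowUp.IsEffCartierIdeal I ∧ Flat (I.subschemeι ≫ f)) ↔
      (LocallyQuasiFinite (I.subschemeι ≫ f) ∧ Flat (I.subschemeι ≫ f) ∧ LocallyOfFinitePresentation (I.subschemeι ≫ f))) ∧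
    (Mor2.IsFinLocFree (I.subschemeι ≫ f) → BlowUp.IsEffCartierIdeal I ∧ Flat (I.subschemeι ≫ f)) := by
  refine ⟨⟨fun ⟨hI, hF⟩ => ?_, fun ⟨h1, h2, h3⟩ => ?_⟩, RelCurveDiv.isEffCartier_of_finLocFree f I⟩
  · haveI := hF
    obtain ⟨h1, h3⟩ := RelCurveDiv.quasiFinite_and_fp_of_isEffCartier f I hI
    exact ⟨h1, hF, h3⟩
  · haveI := h1; haveI := h2; haveI := h3
    exact ⟨RelCurveDiv.isEffCartier_of_quasiFinite_flat f I, h2⟩

end Groth.Agent.S1184
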