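import Groth.Statements.S1185
import Groth.Agent.FormalPatch.NormalGamma
import Groth.Agent.S0263

set_option linter.style.haveILetI false
set_option backward.isDefEq.respectTransparency false
set_option backward.isDefEq.respectTransparency.types false


set_option autoImplicit false
universe u
open Pi1

attribute [-instance] CategoryTheory.catToReflQuiver

namespace Groth.Agent.S1185

open AlgebraicGeometry CategoryTheory CategoryTheory.Limits in
/-- Finiteness of the sections and the extension criterion; the normality of the sections and the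
equivalence of categories are not asserted: Let A be a normal Noetherian local domain of Krull
dimension at least 2 with punctured spectrum U, and V a finite etale cover of U. Then the ring of
global sections of V is finite over A (through the map induced by V ⟶ U ⟶ Spec A), and V is the
restriction of a finite etale cover of Spec A if and only if that ring is etale over A. -/
theorem result (A : Type u) [CommRing A] [IsDomain A] [IsNoetherianRing A]
    [IsLocalRing A] [IsIntegrallyClosed A] (hdim : (2 : WithBot ℕ∞) ≤ ringKrullDim A)
    (V : FEt.Cat (FEt.puncturedSpec A : Scheme.{u})) :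
    (((V.hom ≫ (FEt.puncturedSpec A).ι).appTop).hom.comp (Scheme.ΓSpecIso (CommRingCat.of A)).inv.hom).Finite ∧
    ((∃ Y : FEt.Cat (Spec (CommRingCat.of A)), Nonempty ((FEt.restrict (FEt.puncturedSpec A).ι).obj Y ≅ V)) ↔
      (((V.hom ≫ (FEt.puncturedSpec A).ι).appTop).hom.comp (Scheme.ΓSpecIso (CommRingCat.of A)).inv.hom).Etale) := by
  let v : V.left ⟶ (FEt.puncturedSpec A : Scheme.{u}) := V.hom
  haveI : IsFinite v := V.prop.1
  haveI : Etale v := V.prop.2
  let p : CommRingCat.of A ⟶ Γ(V.left, ⊤) :=
    (Scheme.ΓSpecIso (CommRingCat.of A)).inv ≫ (v ≫ (FEt.puncturedSpec A).ι).appTop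
  letI : Algebra A Γ(V.left, ⊤) := p.hom.toAlgebra
  have hfin : p.hom.Finite := Groth.Agent.FormalPatch.finite_gamma A hdim v rfl
  refine ⟨hfin, fun hY => (Groth.Agent.S0263.result A
    (Groth.Agent.ParaFX.two_le_depth_of_normal A hdim) V hY).2, fun het => ?_⟩
  have hprop : FEt.prop (Spec.map p) :=
    ⟨(IsFinite.SpecMap_iff p).2 hfin, (HasRingHomProperty.Spec_iff (P := @Etale)).2 het⟩
  have H := Groth.Agent.FormalPatch.isOpenImmersion_toSpecΓ A v
  exact ⟨MorphismProperty.Over.mk ⊤ (Spec.map p) hprop,
    ⟨MorphismProperty.Over.isoMk H.isoPullback.symm H.isoPullback_inv_snd⟩⟩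
end Groth.Agent.S1185
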