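import Groth.Statements.S1191
import Groth.Agent.EssFPDescent.AssUniv
-- import your own Groth.Agent.* helpers here

set_option autoImplicit false
universe u
open FlatMor

namespace Groth.Agent.S1191

attribute [local instance] Algebra.TensorProduct.rightAlgebra

open TensorProduct in
/-- For a finitely presented algebra S over R, a finitely presented S-module N and a prime q of S over
p, some element of S outside q maps into every associated prime of the fibre module of N over p that
is not contained in the extension of q to the fibre ring. -/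
theorem result {R S : Type u} [CommRing R] [CommRing S] [Algebra R S] [Algebra.FinitePresentation R S]
    (N : Type u) [AddCommGroup N] [Module S N] [Module R N] [IsScalarTower R S N] [Module.FinitePresentation S N]
    (p : Ideal R) [p.IsPrime] (q : Ideal S) [q.IsPrime] [q.LiesOver p] :
    ∃ g : S, g ∉ q ∧ ∀ r ∈ associatedPrimes (p.Fiber S) (FlatCA.fiberMod p S N),
      ¬ r ≤ FlatCA.fiberIdeal p q → (1 : p.ResidueField) ⊗ₜ[R] g ∈ r := by
  classical
  haveI : IsNoetherianRing (p.Fiber S) := Algebra.FiniteType.isNoetherianRing p.ResidueField _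
  haveI : Module.Finite (p.Fiber S) (FlatCA.fiberMod p S N) :=
    inferInstanceAs (Module.Finite (p.Fiber S) (TensorProduct S (p.Fiber S) N))
  let ι := (Algebra.TensorProduct.includeRight (R := R) (A := p.ResidueField) (B := S)).toRingHom
  let A := (associatedPrimes.finite (p.Fiber S) (FlatCA.fiberMod p S N)).toFinset.filter
    fun r => ¬ r ≤ FlatCA.fiberIdeal p q
  have hA : ∀ r, r ∈ A ↔ r ∈ associatedPrimes (p.Fiber S) (FlatCA.fiberMod p S N) ∧ ¬ r ≤ FlatCA.fiberIdeal p q :=
    fun r => by simp [A]
  have hex : ∀ r : A, ∃ g : S, g ∉ q ∧ g ∈ (r : Ideal (p.Fiber S)).comap ι := by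
    rintro ⟨r, hr⟩
    by_contra hne
    push Not at hne
    refine ((hA r).1 hr).2 ?_
    rw [← EssFPDescent.map_includeRight_eq p r _ rfl]
    exact Ideal.map_mono fun g hg => Classical.byContradiction fun hgq => hne g hgq hg
  choose g hgq hgr using hex
  refine ⟨∏ r : A, g r, fun h => ?_, fun r hr hrq => ?_⟩
  · obtain ⟨r, -, hr⟩ := (Ideal.IsPrime.prod_mem_iff (p := q)).1 h
    exact hgq r hr
  · show ι (∏ r : A, g r) ∈ r
    obtain ⟨c, hc⟩ := Finset.dvd_prod_of_mem g (Finset.mem_univ (⟨r, (hA r).2 ⟨hr, hrq⟩⟩ : A))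
    rw [hc, map_mul]
    exact Ideal.mul_mem_right _ _ (hgr ⟨r, (hA r).2 ⟨hr, hrq⟩⟩)

end Groth.Agent.S1191
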