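import Groth.Statements.S1194
import Groth.Agent.S2107
import Groth.Agent.AssFiber.Basic
import Groth.Agent.W4Lib.Flat
-- import your own Groth.Agent.* helpers here

set_option autoImplicit false
universe u
open FlatMor TensorProduct

namespace Groth.Agent.S1194

open IsLocalRing in
/-- Let R → S be a local homomorphism of local rings which is essentially of finite presentation, and N
a finitely presented S-module flat over R. Then multiplication by any element of S acting
injectively on N/𝔪_R N is a universally injective map of R-modules on N, and the localization map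
from N to its localization at all such elements is universally injective over R. -/
theorem result {R S : Type u} [CommRing R] [IsLocalRing R] [CommRing S] [IsLocalRing S] [Algebra R S]
    [IsLocalHom (algebraMap R S)] (hS : FlatCA.EssFinitePresentation R S)
    (N : Type u) [AddCommGroup N] [Module S N] [Module R N] [IsScalarTower R S N] [Module.FinitePresentation S N] [Module.Flat R N] :
    (∀ s ∈ FlatCA.nzdFiber R S N, FlatCA.UnivInj R ((LinearMap.lsmul S N s).restrictScalars R)) ∧
    FlatCA.UnivInj R ((LocalizedModule.mkLinearMap (FlatCA.nzdFiber R S N) N).restrictScalars R) := by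
  classical
  set m := IsLocalRing.maximalIdeal R
  have hinj : ∀ s ∈ FlatCA.nzdFiber R S N, Function.Injective (LinearMap.lsmul S N s) ∧
      Module.Flat R (N ⧸ LinearMap.range (LinearMap.lsmul S N s)) := by
    intro s hs
    refine S2107.result hS (LinearMap.lsmul S N s) fun x hx => ?_
    have h0 : s • FlatCA.toFiberMod m (S := S) N x = 0 := by
      rw [← map_smul]; exact AssFiber.toFiberMod_eq_zero_of_mem m N hx
    obtain ⟨r, hr, hrx⟩ := AssFiber.exists_smul_mem_of_toFiberMod_eq_zero m N (hs _ h0)
    obtain ⟨v, hv⟩ := (IsLocalRing.notMem_maximalIdeal.1 hr).map (algebraMap R S)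
    have h2 := Submodule.smul_mem _ (↑v⁻¹ : S) hrx
    rwa [smul_smul, ← hv, Units.inv_mul, one_smul] at h2
  have hu : ∀ s ∈ FlatCA.nzdFiber R S N, FlatCA.UnivInj R ((LinearMap.lsmul S N s).restrictScalars R) := by
    intro s hs Q _ _
    obtain ⟨hi, hf⟩ := hinj s hs
    haveI := hf
    exact W4Lib.lTensor_injective_of_flat_quotient (g := (LinearMap.range (LinearMap.lsmul S N s)).mkQ.restrictScalars R)
      (f := (LinearMap.lsmul S N s).restrictScalars R) hi (LinearMap.exact_map_mkQ_range _) (Submodule.mkQ_surjective _) Q
  refine ⟨hu, fun Q _ _ => ?_⟩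
  let W := FlatCA.nzdFiber R S N
  let f := LocalizedModule.mkLinearMap W N
  let φ := AlgebraTensorModule.rTensor R Q f
  rw [LinearMap.lTensor_inj_iff_rTensor_inj, injective_iff_map_eq_zero]
  intro z hz
  obtain ⟨s, hs⟩ := (IsLocalizedModule.eq_zero_iff W φ).1 (hz : φ z = 0)
  have key : ∀ w : N ⊗[R] Q, (s : S) • w = ((LinearMap.lsmul S N (s : S)).restrictScalars R).rTensor Q w := by
    intro w
    induction w using TensorProduct.induction_on with
    | zero => simp
    | tmul n q => rw [smul_tmul']; rfl
    | add a b ha hb => rw [smul_add, map_add, ha, hb]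
  refine (LinearMap.lTensor_inj_iff_rTensor_inj _ _).1 (hu s s.2 Q) ?_
  rw [← key, map_zero]
  exact hs

end Groth.Agent.S1194
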