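import Groth.Statements.S1195
import Groth.Agent.EssFPDescent.AssUniv
import Groth.Agent.EssFPDescent.FlatAnn
-- import your own Groth.Agent.* helpers here

set_option autoImplicit false
universe u
open FlatMor TensorProduct

namespace Groth.Agent.S1195

open TensorProduct in
/-- Let S be a finitely presented R-algebra, N a finitely presented S-module flat over R, and S' a flat
S-algebra such that every prime q of S (over p in R) whose extension to the fibre ring over p is an
associated prime of the fibre module of N is the contraction of a prime of S'. Then the base change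
map N → S' ⊗_S N is universally injective as a map of R-modules. -/
theorem result {R S S' : Type u} [CommRing R] [CommRing S] [CommRing S'] [Algebra R S] [Algebra S S'] [Algebra R S'] [IsScalarTower R S S']
    [Algebra.FinitePresentation R S] [Module.Flat S S']
    (N : Type u) [AddCommGroup N] [Module S N] [Module R N] [IsScalarTower R S N] [Module.FinitePresentation S N] [Module.Flat R N]
    (h : ∀ (p : Ideal R) (q : Ideal S) [p.IsPrime] [q.IsPrime] [q.LiesOver p],
      FlatCA.fiberIdeal p q ∈ associatedPrimes (p.Fiber S) (FlatCA.fiberMod p S N) →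
      ∃ q' : Ideal S', q'.IsPrime ∧ q'.comap (algebraMap S S') = q) :
    FlatCA.UnivInj R ((TensorProduct.mk S S' N 1).restrictScalars R) := by
  classical
  intro Q _ _
  rw [LinearMap.lTensor_inj_iff_rTensor_inj, injective_iff_map_eq_zero]
  intro z hz
  by_contra hne
  let e := AlgebraTensorModule.assoc R S S S' N Q
  have key : ∀ w : N ⊗[R] Q, e (((TensorProduct.mk S S' N 1).restrictScalars R).rTensor Q w) = (1 : S') ⊗ₜ[S] w := by
    intro w
    induction w using TensorProduct.induction_on with
    | zero => rw [map_zero, map_zero, TensorProduct.tmul_zero]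
    | tmul n x => rfl
    | add a b ha hb => rw [map_add, map_add, ha, hb, TensorProduct.tmul_add]
  have h1 : (1 : S') ⊗ₜ[S] z = 0 := by rw [← key, hz, map_zero]
  have htop : (Submodule.span S {z}).annihilator.map (algebraMap S S') = ⊤ := EssFPDescent.map_annihilator_eq_top z h1
  obtain ⟨m, hm, hIm⟩ := Ideal.exists_le_maximal _ (show (Submodule.span S {z}).annihilator ≠ ⊤ from fun hI => hne (by
    have : (1 : S) ∈ (Submodule.span S {z}).annihilator := hI ▸ Submodule.mem_top
    rw [← one_smul S z]
    exact Submodule.mem_annihilator.1 this z (Submodule.mem_span_singleton_self z)))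
  obtain ⟨q, hq, -⟩ := Ideal.exists_minimalPrimes_le hIm
  haveI := hq.1.1
  haveI : q.LiesOver (q.comap (algebraMap R S)) := ⟨rfl⟩
  obtain ⟨r, hr, hrq⟩ := EssFPDescent.exists_ass_fiber N Q z (q.comap (algebraMap R S)) q hq
  have hfi : FlatCA.fiberIdeal (q.comap (algebraMap R S)) q = r :=
    EssFPDescent.map_includeRight_eq (q.comap (algebraMap R S)) r q hrq
  obtain ⟨q', hq', hcomap⟩ := h _ q (hfi ▸ hr)
  refine hq'.ne_top (top_le_iff.1 (htop ▸ Ideal.map_le_iff_le_comap.2 (hcomap ▸ hq.1.2)))

end Groth.Agent.S1195
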