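import Groth.Statements.S1196
import Groth.Agent.S1194
import Groth.Agent.EssFPDescent.FlatAnn
import Groth.Agent.AssFiber.Basic
-- import your own Groth.Agent.* helpers here

set_option autoImplicit false
universe u
open FlatMor TensorProduct

namespace Groth.Agent.S1196

attribute [local instance] Algebra.TensorProduct.rightAlgebra

open TensorProduct IsLocalRing in
/-- Let R → S be a local homomorphism of local rings, essentially of finite presentation, N a finitely
presented S-module flat over R, and S' a flat S-algebra such that every prime of S which is an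
associated prime of N/𝔪_R N is the contraction of a prime of S'. Then N → S' ⊗_S N is universally
injective as a map of R-modules. -/
theorem result {R S S' : Type u} [CommRing R] [IsLocalRing R] [CommRing S] [IsLocalRing S] [CommRing S'] [Algebra R S] [IsLocalHom (algebraMap R S)] [Algebra S S'] [Algebra R S'] [IsScalarTower R S S']
    (hS : FlatCA.EssFinitePresentation R S) [Module.Flat S S']
    (N : Type u) [AddCommGroup N] [Module S N] [Module R N] [IsScalarTower R S N] [Module.FinitePresentation S N] [Module.Flat R N]
    (h : ∀ q ∈ associatedPrimes S (FlatCA.fiberMod (maximalIdeal R) S N),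
      ∃ q' : Ideal S', q'.IsPrime ∧ q'.comap (algebraMap S S') = q) :
    FlatCA.UnivInj R ((TensorProduct.mk S S' N 1).restrictScalars R) := by
  classical
  intro Q _ _
  rw [LinearMap.lTensor_inj_iff_rTensor_inj, injective_iff_map_eq_zero]
  intro z hz
  set m := IsLocalRing.maximalIdeal R
  haveI : Algebra.EssFiniteType R S := by
    obtain ⟨S₀, _, _, _, _, W, hfp, hloc⟩ := hS
    haveI : Algebra.EssFiniteType S₀ S := Algebra.EssFiniteType.of_isLocalization _ W
    exact Algebra.EssFiniteType.comp R S₀ S
  haveI : IsNoetherianRing (m.Fiber S) := Algebra.EssFiniteType.isNoetherianRing m.ResidueField _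
  haveI : Module.Finite (m.Fiber S) (FlatCA.fiberMod m S N) :=
    inferInstanceAs (Module.Finite (m.Fiber S) (TensorProduct S (m.Fiber S) N))
  let ι := (Algebra.TensorProduct.includeRight (R := R) (A := m.ResidueField) (B := S)).toRingHom
  let e := AlgebraTensorModule.assoc R S S S' N Q
  have key : ∀ w : N ⊗[R] Q, e (((TensorProduct.mk S S' N 1).restrictScalars R).rTensor Q w) = (1 : S') ⊗ₜ[S] w := by
    intro w
    induction w using TensorProduct.induction_on with
    | zero => rw [map_zero, map_zero, TensorProduct.tmul_zero]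
    | tmul n x => rfl
    | add a b ha hb => rw [map_add, map_add, ha, hb, TensorProduct.tmul_add]
  have htop : (Submodule.span S {z}).annihilator.map (algebraMap S S') = ⊤ :=
    EssFPDescent.map_annihilator_eq_top z (by rw [← key, hz, map_zero])
  have hass : ∀ r ∈ associatedPrimes (m.Fiber S) (FlatCA.fiberMod m S N),
      r.comap ι ∈ associatedPrimes S (FlatCA.fiberMod m S N) := by
    intro r hr
    obtain ⟨hp, x, hx⟩ := hr
    refine ⟨Ideal.IsPrime.comap ι, x, ?_⟩
    rw [hx, Ideal.comap_radical]
    congr 1
  let A := (associatedPrimes.finite (m.Fiber S) (FlatCA.fiberMod m S N)).toFinset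
  have hnsub : ¬ (((Submodule.span S {z}).annihilator : Set S) ⊆
      ⋃ r ∈ (A : Set (Ideal (m.Fiber S))), (r.comap ι : Set S)) := by
    rw [Ideal.subset_union_prime (f := fun r : Ideal (m.Fiber S) => r.comap ι) ⊥ ⊥ fun r hr _ _ =>
      haveI := IsAssociatedPrime.isPrime (((associatedPrimes.finite (m.Fiber S) (FlatCA.fiberMod m S N)).mem_toFinset).1 hr); Ideal.IsPrime.comap _]
    rintro ⟨r, hr, hle⟩
    obtain ⟨q', hq', hcomap⟩ := h _ (hass r ((Set.Finite.mem_toFinset _).1 hr))
    exact hq'.ne_top (top_le_iff.1 (htop ▸ Ideal.map_le_iff_le_comap.2 (hcomap ▸ hle)))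
  obtain ⟨s, hsz, hs⟩ := Set.not_subset.1 hnsub
  have hsreg : s ∈ FlatCA.nzdFiber R S N := by
    intro x hx
    by_contra hx0
    have h1 : ι s ∈ ⋃ r ∈ associatedPrimes (m.Fiber S) (FlatCA.fiberMod m S N), (r : Set (m.Fiber S)) := by
      rw [biUnion_associatedPrimes_eq_zero_divisors]
      exact ⟨x, hx0, (AssFiber.algebraMap_smul_fiberMod m N s x).trans hx⟩
    obtain ⟨r, hr, hsr⟩ := Set.mem_iUnion₂.1 h1
    exact hs (Set.mem_biUnion ((Set.Finite.mem_toFinset _).2 hr) hsr)
  have key2 : ∀ w : N ⊗[R] Q, ((LinearMap.lsmul S N s).restrictScalars R).rTensor Q w = s • w := by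
    intro w
    induction w using TensorProduct.induction_on with
    | zero => simp
    | tmul n x => rw [smul_tmul']; rfl
    | add a b ha hb => rw [map_add, smul_add, ha, hb]
  have hu := (S1194.result hS N).1 s hsreg Q
  rw [LinearMap.lTensor_inj_iff_rTensor_inj] at hu
  refine hu ?_
  rw [key2, map_zero]
  exact Submodule.mem_annihilator.1 hsz z (Submodule.mem_span_singleton_self z)

end Groth.Agent.S1196
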