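import Groth.Statements.S1199
import Groth.Agent.AssFiber.Basic
-- import your own Groth.Agent.* helpers here

set_option autoImplicit false
universe u
open FlatMor TensorProduct

namespace Groth.Agent.S1199

open TensorProduct in
/-- Elements of `N ⊗ Q` lying in all `I ^ n` multiples vanish. -/
theorem eq_zero_of_forall_mem {R S : Type u} [CommRing R] [CommRing S] [Algebra R S] [IsNoetherianRing S] (I : Ideal R)
    (N : Type u) [AddCommGroup N] [Module S N] [Module R N] [IsScalarTower R S N] [Module.Finite S N]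
    (Q : Type u) [AddCommGroup Q] [Module R Q] [Module.Finite R Q]
    (h : ∀ q ∈ associatedPrimes S (N ⊗[R] Q), I.map (algebraMap R S) ⊔ q ≠ ⊤) (z : N ⊗[R] Q)
    (hz : ∀ n : ℕ, z ∈ (I ^ n • ⊤ : Submodule R (N ⊗[R] Q))) : z = 0 := by
  haveI : Module.Finite S (N ⊗[R] Q) := by
    obtain ⟨k, π, hπ⟩ := Module.Finite.exists_fin' R Q
    haveI : Module.Finite S (N ⊗[R] (Fin k → R)) :=
      Module.Finite.equiv (TensorProduct.piScalarRight R S N (Fin k)).symm
    exact Module.Finite.of_surjective (AlgebraTensorModule.lTensor S N π) (LinearMap.lTensor_surjective N hπ)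
  by_contra hne
  let J := I.map (algebraMap R S)
  have hJ : z ∈ (⨅ n : ℕ, J ^ n • ⊤ : Submodule S (N ⊗[R] Q)) := by
    refine Submodule.mem_iInf _ |>.2 fun n => ?_
    rw [← Ideal.map_pow]
    refine Submodule.smul_induction_on (hz n) (fun a ha m _ => ?_) fun u v hu hv => add_mem hu hv
    rw [← algebraMap_smul S a m]
    exact Submodule.smul_mem_smul (Ideal.mem_map_of_mem _ ha) trivial
  obtain ⟨⟨r, hr⟩, hrz⟩ := (J.mem_iInf_smul_pow_eq_bot_iff z).1 hJ
  have h1 : (1 - r) • z = 0 := by
    show (1 - r) • z = 0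
    rw [sub_smul, one_smul, sub_eq_zero]
    exact hrz.symm
  obtain ⟨q, hq, hle⟩ := exists_le_isAssociatedPrime_of_isNoetherianRing S z hne
  refine h q hq ((Ideal.eq_top_iff_one _).2 ?_)
  rw [show (1 : S) = r + (1 - r) by ring]
  exact add_mem (Submodule.mem_sup_left hr) (Submodule.mem_sup_right (hle (Submodule.mem_colon_singleton.2 ((Submodule.mem_bot S).2 h1))))

/-- Let R → S be a map of Noetherian rings, I an ideal of R and N a finite S-module. Assume that for
every finite R-module Q and every associated prime q of the S-module N ⊗_R Q the ideal IS + q is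
proper. Then the canonical map from N to its I-adic completion is universally injective as a map of
R-modules. -/
theorem result {R S : Type u} [CommRing R] [CommRing S] [Algebra R S] [IsNoetherianRing R] [IsNoetherianRing S] (I : Ideal R)
    (N : Type u) [AddCommGroup N] [Module S N] [Module R N] [IsScalarTower R S N] [Module.Finite S N]
    (h : ∀ (Q : Type u) [AddCommGroup Q] [Module R Q], Module.Finite R Q →
      ∀ q ∈ associatedPrimes S (N ⊗[R] Q), I.map (algebraMap R S) ⊔ q ≠ ⊤) :
    FlatCA.UnivInj R (AdicCompletion.of I N) := by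
  classical
  intro Q _ _
  rw [LinearMap.lTensor_inj_iff_rTensor_inj, injective_iff_map_eq_zero]
  intro z hz
  let c := AdicCompletion.of I N
  obtain ⟨Q₀, hQ₀, hzQ⟩ := TensorProduct.exists_finite_submodule_right_of_setFinite {z} (Set.finite_singleton z)
  obtain ⟨z₀, hz₀⟩ := hzQ (Set.mem_singleton z)
  obtain ⟨Q₁, hle, hfg, hzero⟩ := AssFiber.exists_fg_lTensor_inclusion_eq_zero (N := AdicCompletion I N) Q₀
    (Module.Finite.iff_fg.1 hQ₀) (c.rTensor Q₀ z₀) (by
      rw [← LinearMap.comp_apply, LinearMap.lTensor_comp_rTensor, ← LinearMap.rTensor_comp_lTensor,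
        LinearMap.comp_apply]
      exact (congrArg _ hz₀).trans hz)
  haveI : Module.Finite R Q₁ := Module.Finite.iff_fg.2 hfg
  let z₁ := (Submodule.inclusion hle).lTensor N z₀
  have hz₁ : c.rTensor Q₁ z₁ = 0 := by
    rw [← LinearMap.comp_apply, LinearMap.rTensor_comp_lTensor, ← LinearMap.lTensor_comp_rTensor,
      LinearMap.comp_apply]
    exact hzero
  have h1 : z₁ = 0 := by
    refine eq_zero_of_forall_mem I N Q₁ (h Q₁ inferInstance) z₁ fun n => ?_
    let T : Submodule R N := I ^ n • ⊤
    have h2 : T.mkQ.rTensor Q₁ z₁ = 0 := by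
      rw [← AdicCompletion.eval_comp_of I N n, LinearMap.rTensor_comp, LinearMap.comp_apply]
      show (AdicCompletion.eval I N n).rTensor Q₁ (c.rTensor Q₁ z₁) = 0
      rw [hz₁, map_zero]
    obtain ⟨w, hw⟩ := ((rTensor_exact (R := R) (M := ↥T) (N := N) (P := N ⧸ T) Q₁ (f := T.subtype) (g := T.mkQ)
      (LinearMap.exact_subtype_mkQ T) T.mkQ_surjective) z₁).1 h2
    rw [← hw]
    clear hw h2
    induction w using TensorProduct.induction_on with
    | zero => rw [map_zero]; exact zero_mem _
    | add a b ha hb => rw [map_add]; exact add_mem ha hb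
    | tmul t x =>
      rw [LinearMap.rTensor_tmul, Submodule.subtype_apply]
      refine Submodule.smul_induction_on (p := fun y => y ⊗ₜ[R] x ∈ (I ^ n • ⊤ : Submodule R (N ⊗[R] Q₁))) (show (t : N) ∈ I ^ n • (⊤ : Submodule R N) from t.2) (fun a ha m _ => ?_)
        fun u v hu hv => ?_
      · rw [← smul_tmul']
        exact Submodule.smul_mem_smul ha trivial
      · rw [add_tmul]; exact add_mem hu hv
  rw [← hz₀, ← Submodule.subtype_comp_inclusion _ _ hle, LinearMap.lTensor_comp, LinearMap.comp_apply]
  show Q₁.subtype.lTensor N z₁ = 0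
  rw [h1, map_zero]

end Groth.Agent.S1199
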