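import Groth.Statements.S1200
import Groth.Agent.S1199
import Groth.Agent.EssFPDescent.AssNoeth
-- import your own Groth.Agent.* helpers here

set_option autoImplicit false
universe u
open FlatMor

namespace Groth.Agent.S1200

/-- Let R → S be a map of Noetherian rings, I an ideal of R and N a finite S-module which is flat over
R. Assume that for every prime q of S, over p in R, whose extension to the fibre ring over p is an
associated prime of the fibre module of N, the ideal IS + q is proper. Then the canonical map from N
to its I-adic completion is universally injective as a map of R-modules. -/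
theorem result {R S : Type u} [CommRing R] [CommRing S] [Algebra R S] [IsNoetherianRing R] [IsNoetherianRing S] (I : Ideal R)
    (N : Type u) [AddCommGroup N] [Module S N] [Module R N] [IsScalarTower R S N] [Module.Finite S N] [Module.Flat R N]
    (h : ∀ (p : Ideal R) (q : Ideal S) [p.IsPrime] [q.IsPrime] [q.LiesOver p],
      FlatCA.fiberIdeal p q ∈ associatedPrimes (p.Fiber S) (FlatCA.fiberMod p S N) → I.map (algebraMap R S) ⊔ q ≠ ⊤) :
    FlatCA.UnivInj R (AdicCompletion.of I N) := by
  classical
  refine S1199.result (S := S) I N fun Q _ _ _ q hq => ?_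
  obtain ⟨hqp, z, hz⟩ := hq
  have hcol : (⊥ : Submodule S (TensorProduct R N Q)).colon {z} = (Submodule.span S {z}).annihilator := by
    ext t
    rw [Submodule.mem_colon_singleton, Submodule.mem_annihilator_span_singleton, Submodule.mem_bot]
  have hmin : q ∈ (Submodule.span S {z}).annihilator.minimalPrimes := by
    rw [← hcol]
    refine ⟨⟨hqp, hz ▸ Ideal.le_radical⟩, fun P hP _ => ?_⟩
    rw [hz]
    exact hP.1.radical_le_iff.2 hP.2
  haveI := hqp
  haveI : q.LiesOver (q.comap (algebraMap R S)) := ⟨rfl⟩
  obtain ⟨r, hr, hrq⟩ := EssFPDescent.exists_ass_fiber_noeth N Q z (q.comap (algebraMap R S)) q hmin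
  refine h (q.comap (algebraMap R S)) q ?_
  rw [show FlatCA.fiberIdeal (q.comap (algebraMap R S)) q = r from
    EssFPDescent.map_includeRight_eq (q.comap (algebraMap R S)) r q hrq]
  exact hr

end Groth.Agent.S1200
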