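import Groth.Statements.S1202
import Groth.Agent.H4RG.SpreadGen
-- import your own Groth.Agent.* helpers here

set_option autoImplicit false
set_option backward.isDefEq.respectTransparency.types false
set_option linter.style.haveILetI false
universe u
open FlatMor

open scoped TensorProduct
attribute [local instance] Algebra.TensorProduct.rightAlgebra
namespace Groth.Agent.S1202

open TensorProduct in
/-- Ring form, X = Spec S and S = Spec R affine: let S be a finitely presented R-algebra, N a finitely
presented S-module and q a prime of S over p such that N_q is flat over R. Then there are an étale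
R-algebra R' with a prime p' over p having the same residue field, an étale S-algebra S' with a
prime q' over q having the same residue field, and a compatible R'-algebra structure on S' with q'
over p', such that S' ⊗_S N is a projective R'-module. -/
theorem result {R S : Type u} [CommRing R] [CommRing S] [Algebra R S] [Algebra.FinitePresentation R S]
    (N : Type u) [AddCommGroup N] [Module S N] [Module R N] [IsScalarTower R S N] [Module.FinitePresentation S N]
    (p : Ideal R) [p.IsPrime] (q : Ideal S) [q.IsPrime] [q.LiesOver p] (hflat : FlatCA.FlatAt R q N) :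
    ∃ (R' S' : Type u) (_ : CommRing R') (_ : CommRing S') (_ : Algebra R R') (_ : Algebra S S') (_ : Algebra R' S')
      (_ : Algebra R S') (_ : IsScalarTower R R' S') (_ : IsScalarTower R S S')
      (p' : Ideal R') (q' : Ideal S') (_ : p'.IsPrime) (_ : q'.IsPrime),
      FlatCA.IsEtaleNhd R R' p p' ∧ FlatCA.IsEtaleNhd S S' q q' ∧ q'.LiesOver p' ∧
      Module.Projective R' (RestrictScalars R' S' (S' ⊗[S] N)) := by
  classical
  let K := p.ResidueField
  let L := q.ResidueField
  let m : K →ₐ[R] L := Ideal.ResidueField.mapₐ p q (Algebra.ofId R S) (q.over_def p)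
  letI : Algebra K L := m.toRingHom.toAlgebra
  haveI : IsScalarTower R K L := IsScalarTower.of_algebraMap_eq fun r => (m.commutes r).symm
  obtain ⟨R', _, _, _, ε, g, hg⟩ := H4RG.spreads_of_flat (K := K) (L := L) (H4RG.fracPoint_residueField p) q
    (Ideal.ker_algebraMap_residueField q) N hflat
  letI := ε.toRingHom.toAlgebra
  let SA := R' ⊗[R] S
  let S' := Localization.Away g
  let φ : SA →ₐ[S] L :=
    { (H4RG.pt L S ε).toRingHom with
      commutes' := fun s => by
        show H4RG.pt L S ε ((1 : R') ⊗ₜ[R] s) = _
        rw [H4RG.pt_tmul, map_one, map_one, one_mul] }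
  have hu : ∀ y : Submonoid.powers g, IsUnit (φ y) := by
    rintro ⟨_, n, rfl⟩
    rw [map_pow]
    exact (isUnit_iff_ne_zero.2 fun h0 => H4RG.Good.notMem hg (RingHom.mem_ker.2 h0)).pow n
  let φ' : S' →ₐ[S] L := IsLocalization.liftAlgHom (A := S) (S := S') (M := Submonoid.powers g) (f := φ) hu
  haveI : (RingHom.ker ε).IsPrime := RingHom.ker_isPrime _
  haveI : (RingHom.ker φ').IsPrime := RingHom.ker_isPrime _
  haveI : Algebra.Etale S SA := by
    haveI : Algebra.Etale S (S ⊗[R] R') := inferInstance
    exact Algebra.Etale.of_equiv (Algebra.TensorProduct.commRight R S R')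
  haveI : Algebra.Etale SA S' := Algebra.Etale.of_isLocalizationAway g
  haveI : Algebra.Etale S S' := Algebra.Etale.comp S SA S'
  obtain ⟨e⟩ := H4RG.exists_stage_equiv (R := R) (R' := R') N g
  have hproj := H4RG.Good.proj hg
  haveI : Module.Projective R' (S' ⊗[S] N) := Module.Projective.of_equiv e
  refine ⟨R', S', inferInstance, inferInstance, inferInstance, inferInstance, inferInstance, inferInstance,
    inferInstance, IsScalarTower.of_algebraMap_eq fun r => ?_, RingHom.ker ε, RingHom.ker φ', inferInstance,
    inferInstance, H4RG.isEtaleNhd_of_point p ε _ rfl, H4RG.isEtaleNhd_of_point q φ' _ rfl, ⟨?_⟩,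
    H4RG.projective_restrictScalars⟩
  · rw [IsScalarTower.algebraMap_apply R SA S', IsScalarTower.algebraMap_apply R S SA,
      ← IsScalarTower.algebraMap_apply S SA S']
  · ext a
    rw [Ideal.under_def, Ideal.mem_comap, RingHom.mem_ker, RingHom.mem_ker, IsScalarTower.algebraMap_apply R' SA S',
      show φ' (algebraMap SA S' (algebraMap R' SA a)) = φ (algebraMap R' SA a) from IsLocalization.lift_eq _ _]
    show _ ↔ H4RG.pt L S ε (a ⊗ₜ[R] (1 : S)) = 0
    rw [H4RG.pt_tmul, map_one, mul_one]
    exact (map_eq_zero _).symm

end Groth.Agent.S1202
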