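import Groth.Statements.S1204
-- import your own Groth.Agent.* helpers here
import Groth.Agent.H4RG.FibreBasis
import Groth.Agent.H4RG.DevissageBasis

set_option backward.isDefEq.respectTransparency.types false

set_option autoImplicit false
universe u
open FlatMor

namespace Groth.Agent.S1204

attribute [local instance] Algebra.TensorProduct.rightAlgebra

open TensorProduct IsLocalRing in
/-- Let R be a local ring and S a finitely presented flat R-algebra with geometrically integral fibres,
so that 𝔭 = 𝔪_R S is a prime of S; let q be a prime of S over 𝔪_R and N a finite S-module. Then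
there is an S-linear map α from a finite free module S^r to N inducing a bijection after base change
to κ(𝔭); and for any such α the following are equivalent: N_q is flat over R; α is universally
injective over R and the cokernel of α is flat over R at q; α is injective and the cokernel is flat
at q; α localized at 𝔭 is bijective and the cokernel is flat at q; α localized at q is injective and
the cokernel is flat at q. -/
theorem result {R S : Type u} [CommRing R] [IsLocalRing R] [CommRing S] [Algebra R S] [Algebra.FinitePresentation R S] [Module.Flat R S]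
    (hgi : FlatCA.GeomIntegralFibres R S) [((maximalIdeal R).map (algebraMap R S)).IsPrime]
    (q : Ideal S) [q.IsPrime] [q.LiesOver (maximalIdeal R)]
    (N : Type u) [AddCommGroup N] [Module S N] [Module R N] [IsScalarTower R S N] [Module.Finite S N] :
    (∃ (r : ℕ) (α : (Fin r → S) →ₗ[S] N), Function.Bijective (α.baseChange ((maximalIdeal R).map (algebraMap R S)).ResidueField)) ∧
    ∀ (r : ℕ) (α : (Fin r → S) →ₗ[S] N), Function.Bijective (α.baseChange ((maximalIdeal R).map (algebraMap R S)).ResidueField) →
      [FlatCA.FlatAt R q N,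
       FlatCA.UnivInj R (α.restrictScalars R) ∧ FlatCA.FlatAt R q (N ⧸ LinearMap.range α),
       Function.Injective α ∧ FlatCA.FlatAt R q (N ⧸ LinearMap.range α),
       Function.Bijective (LocalizedModule.map ((maximalIdeal R).map (algebraMap R S)).primeCompl α) ∧ FlatCA.FlatAt R q (N ⧸ LinearMap.range α),
       Function.Injective (LocalizedModule.map q.primeCompl α) ∧ FlatCA.FlatAt R q (N ⧸ LinearMap.range α)].TFAE := by
  classical
  let m := maximalIdeal R
  let P := m.map (algebraMap R S)
  have hqm : q.comap (algebraMap R S) = m := (Ideal.LiesOver.over (p := m) (P := q)).symm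
  have hPq : P ≤ q := Ideal.map_le_iff_le_comap.2 hqm.ge
  have hPm : P.comap (algebraMap R S) = m :=
    le_antisymm ((Ideal.comap_mono hPq).trans hqm.le) Ideal.le_comap_map
  have hWle : P.primeCompl ≥ q.primeCompl := fun x hx hxP => hx (hPq hxP)
  refine ⟨?_, fun r α hα => ?_⟩
  · obtain ⟨r, α, -, hb⟩ := Groth.Agent.H4RG.exists_baseChange_bijective (D := S) N P.ResidueField
    exact ⟨r, α, hb⟩
  haveI : Module.Flat R (Fin r → S) := Module.Flat.trans R S (Fin r → S)
  have hk : ∀ s ∈ P.primeCompl, ∀ (Q : Type u) [AddCommGroup Q] [Module R Q] (w : (Fin r → S) ⊗[R] Q), s • w = 0 →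
      ∃ u ∈ (⊥ : Submonoid S), u • w = 0 := fun s hs Q _ _ w hw =>
    Groth.Agent.H4RG.exists_kill_pi ⊥ s (fun Q _ _ w hw => by
      obtain ⟨a, ha, haw⟩ := Groth.Agent.H4RG.exists_kill_of_fibre_ne_zero hgi m s
        (Groth.Agent.H4RG.algebraMap_fiber_ne_zero m P hPm s hs) Q w hw
      refine ⟨1, one_mem _, ?_⟩
      have hu : IsUnit (algebraMap R S a) := (IsLocalRing.notMem_maximalIdeal.1 ha).map _
      rw [one_smul]
      exact hu.smul_eq_zero.1 haw) Q w hw
  have h41 : Function.Bijective (LocalizedModule.map P.primeCompl α) → Groth.Agent.H4RG.Kills R (⊥ : Submonoid S) α :=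
    fun hb => Groth.Agent.H4RG.kills_of_bijective P.primeCompl ⊥ α hb hk
  have hsurj := Groth.Agent.H4RG.surjective_map_of_baseChange P α hα.2
  tfae_have 1 → 2 := fun h => by
    have hb := Groth.Agent.H4RG.bijective_map_of_flatAt m P rfl (Groth.Agent.H4RG.flatAt_mono hPq h) α hα
    exact ⟨Groth.Agent.H4RG.univInj_of_kills_bot α (h41 hb),
      Groth.Agent.H4RG.flatAt_coker ⊥ q bot_le α (h41 hb) h⟩
  tfae_have 2 → 3 := fun h => ⟨by
    have h1 := h.1 R
    rw [LinearMap.lTensor_inj_iff_rTensor_inj] at h1
    intro x y hxy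
    have h2 := h1 (a₁ := x ⊗ₜ[R] (1 : R)) (a₂ := y ⊗ₜ[R] (1 : R)) (by
      rw [LinearMap.rTensor_tmul, LinearMap.rTensor_tmul]
      exact congrArg (fun t => t ⊗ₜ[R] (1 : R)) hxy)
    simpa using congrArg (TensorProduct.rid R _) h2, h.2⟩
  tfae_have 3 → 4 := fun h => ⟨⟨LocalizedModule.map_injective _ α h.1, hsurj⟩, h.2⟩
  tfae_have 4 → 5 := fun h => ⟨((h41 h.1).mono bot_le).injective_map, h.2⟩
  tfae_have 5 → 1 := fun h => Groth.Agent.H4RG.flatAt_of_coker q α h.1 h.2
  tfae_finish

end Groth.Agent.S1204
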