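import Groth.Statements.S1205
-- import your own Groth.Agent.* helpers here
import Groth.Agent.H4RG.FibreBasis
import Groth.Agent.H4RG.DevissageBasis

set_option backward.isDefEq.respectTransparency.types false

set_option autoImplicit false
universe u
open FlatMor

namespace Groth.Agent.S1205

attribute [local instance] Algebra.TensorProduct.rightAlgebra

open TensorProduct in
/-- Let S be a finitely presented flat R-algebra with geometrically integral fibres, q a prime of S over
the prime 𝔯 of R, so that 𝔭 = 𝔯S is a prime of S, and N a finitely presented S-module. Then there is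
an S-linear map α from a finite free module S^r to N inducing a bijection after base change to κ(𝔭);
and for any such α the following are equivalent: N_q is flat over R; for some f ∈ R outside 𝔯 the
localization α_f is universally injective over R and for some g ∈ S outside q the localization of
the cokernel at g is flat over R; α localized at (the image of) 𝔯 is universally injective over R
and the cokernel is flat over R at q; α localized at 𝔯 is injective and the cokernel is flat at q; α
localized at 𝔭 is bijective and the cokernel is flat at q; α localized at q is injective and the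
cokernel is flat at q. (Universal injectivity over R_f or R_𝔯 of a map of modules over these
localizations is the same as over R, which is how it is written.) -/
theorem result {R S : Type u} [CommRing R] [CommRing S] [Algebra R S] [Algebra.FinitePresentation R S] [Module.Flat R S]
    (hgi : FlatCA.GeomIntegralFibres R S) (rr : Ideal R) [rr.IsPrime] [(rr.map (algebraMap R S)).IsPrime]
    (q : Ideal S) [q.IsPrime] [q.LiesOver rr]
    (N : Type u) [AddCommGroup N] [Module S N] [Module R N] [IsScalarTower R S N] [Module.FinitePresentation S N] :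
    (∃ (r : ℕ) (α : (Fin r → S) →ₗ[S] N), Function.Bijective (α.baseChange (rr.map (algebraMap R S)).ResidueField)) ∧
    ∀ (r : ℕ) (α : (Fin r → S) →ₗ[S] N), Function.Bijective (α.baseChange (rr.map (algebraMap R S)).ResidueField) →
      [FlatCA.FlatAt R q N,
       (∃ f : R, f ∉ rr ∧ FlatCA.UnivInj R ((LocalizedModule.map (Submonoid.powers (algebraMap R S f)) α).restrictScalars R)) ∧
         (∃ g : S, g ∉ q ∧ Module.Flat R (LocalizedModule (Submonoid.powers g) (N ⧸ LinearMap.range α))),
       FlatCA.UnivInj R ((LocalizedModule.map (Algebra.algebraMapSubmonoid S rr.primeCompl) α).restrictScalars R) ∧ FlatCA.FlatAt R q (N ⧸ LinearMap.range α),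
       Function.Injective (LocalizedModule.map (Algebra.algebraMapSubmonoid S rr.primeCompl) α) ∧ FlatCA.FlatAt R q (N ⧸ LinearMap.range α),
       Function.Bijective (LocalizedModule.map (rr.map (algebraMap R S)).primeCompl α) ∧ FlatCA.FlatAt R q (N ⧸ LinearMap.range α),
       Function.Injective (LocalizedModule.map q.primeCompl α) ∧ FlatCA.FlatAt R q (N ⧸ LinearMap.range α)].TFAE := by
  classical
  let P := rr.map (algebraMap R S)
  have hqr : q.comap (algebraMap R S) = rr := (Ideal.LiesOver.over (p := rr) (P := q)).symm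
  have hPq : P ≤ q := Ideal.map_le_iff_le_comap.2 hqr.ge
  have hPr : P.comap (algebraMap R S) = rr :=
    le_antisymm ((Ideal.comap_mono hPq).trans hqr.le) Ideal.le_comap_map
  let W := Algebra.algebraMapSubmonoid S rr.primeCompl
  have hWP : W ≤ P.primeCompl := by
    rintro _ ⟨a, ha, rfl⟩ hmem
    exact ha (hPr.le hmem)
  have hWq : W ≤ q.primeCompl := by
    rintro _ ⟨a, ha, rfl⟩ hmem
    exact ha (hqr.le hmem)
  refine ⟨?_, fun r α hα => ?_⟩
  · obtain ⟨r, α, -, hb⟩ := Groth.Agent.H4RG.exists_baseChange_bijective (D := S) N P.ResidueField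
    exact ⟨r, α, hb⟩
  haveI : Module.Flat R (Fin r → S) := Module.Flat.trans R S (Fin r → S)
  haveI : Module.FinitePresentation S (N ⧸ LinearMap.range α) :=
    Module.finitePresentation_of_surjective (LinearMap.range α).mkQ (Submodule.mkQ_surjective _) (by
      rw [Submodule.ker_mkQ]; exact Module.Finite.iff_fg.1 inferInstance)
  have hsurj := Groth.Agent.H4RG.surjective_map_of_baseChange P α hα.2
  have hA : Function.Bijective (LocalizedModule.map P.primeCompl α) →
      ∃ f : R, f ∉ rr ∧ Groth.Agent.H4RG.Kills R (Submonoid.powers (algebraMap R S f)) α := fun hb => by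
    obtain ⟨h, hh, hbh⟩ := Module.FinitePresentation.exists_notMem_bijective α P
      (LocalizedModule.mkLinearMap P.primeCompl (Fin r → S)) (LocalizedModule.mkLinearMap P.primeCompl N) hb
    have hopen := PrimeSpectrum.isOpenMap_comap_of_hasGoingDown_of_finitePresentation (R := R) (S := S) _
      (PrimeSpectrum.isOpen_basicOpen (a := h))
    obtain ⟨_, ⟨f, rfl⟩, hf, hsub⟩ := PrimeSpectrum.isTopologicalBasis_basic_opens.exists_subset_of_mem_open
      (show (⟨rr, inferInstance⟩ : PrimeSpectrum R) ∈ PrimeSpectrum.comap (algebraMap R S) '' (PrimeSpectrum.basicOpen h : Set _) from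
        ⟨⟨P, inferInstance⟩, hh, PrimeSpectrum.ext hPr⟩) hopen
    refine ⟨f, hf, Groth.Agent.H4RG.kills_of_bijective (Submonoid.powers h) _ α hbh ?_⟩
    rintro _ ⟨n, rfl⟩ Q _ _ w hw
    refine Groth.Agent.H4RG.exists_kill_pi _ _ (fun Q _ _ w hw => ?_) Q w hw
    let I : Ideal R := (Submodule.span R {w}).annihilator
    have hrad : f ∈ I.radical := by
      rw [Ideal.radical_eq_sInf]
      refine Submodule.mem_sInf.2 ?_
      rintro r' ⟨hle, hr'⟩
      by_contra hfr'
      obtain ⟨⟨Z, hZ⟩, hhZ, hZr⟩ := hsub (show (⟨r', hr'⟩ : PrimeSpectrum R) ∈ _ from hfr')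
      obtain ⟨a, ha, haw⟩ := Groth.Agent.H4RG.exists_kill_of_fibre_ne_zero hgi r' (h ^ n)
        (Groth.Agent.H4RG.algebraMap_fiber_ne_zero r' Z (congrArg PrimeSpectrum.asIdeal hZr) _
          (fun hm => hhZ (hZ.mem_of_pow_mem _ hm))) Q w hw
      exact ha (hle ((Submodule.mem_annihilator_span_singleton _ _).2 (by rwa [algebraMap_smul] at haw)))
    obtain ⟨k, hk⟩ := hrad
    refine ⟨algebraMap R S f ^ k, ⟨k, rfl⟩, ?_⟩
    rw [← map_pow, algebraMap_smul]
    exact (Submodule.mem_annihilator_span_singleton _ _).1 hk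
  have hpow : ∀ f : R, f ∉ rr → Submonoid.powers (algebraMap R S f) ≤ W := fun f hf =>
    Submonoid.powers_le.2 ⟨f, hf, rfl⟩
  have hg : FlatCA.FlatAt R q (N ⧸ LinearMap.range α) →
      ∃ g : S, g ∉ q ∧ Module.Flat R (LocalizedModule (Submonoid.powers g) (N ⧸ LinearMap.range α)) := fun h => by
    obtain ⟨g, hg, hW⟩ := Groth.Agent.FlatModel.exists_flat_nhd (R := R) (N ⧸ LinearMap.range α) q h
    exact ⟨g, hg, hW _ (Submonoid.mem_powers g)⟩
  tfae_have 1 → 2 := fun h => by
    have hb := Groth.Agent.H4RG.bijective_map_of_flatAt rr P rfl (Groth.Agent.H4RG.flatAt_mono hPq h) α hα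
    obtain ⟨f, hf, hk⟩ := hA hb
    exact ⟨⟨f, hf, (Groth.Agent.H4RG.kills_iff_univInj_localized _ α).1 hk⟩,
      hg (Groth.Agent.H4RG.flatAt_coker _ q ((hpow f hf).trans hWq) α hk h)⟩
  tfae_have 2 → 3 := fun h => by
    obtain ⟨⟨f, hf, hui⟩, g, hgq, hflat⟩ := h
    refine ⟨(Groth.Agent.H4RG.kills_iff_univInj_localized W α).1
      (((Groth.Agent.H4RG.kills_iff_univInj_localized _ α).2 hui).mono (hpow f hf)), ?_⟩
    refine (Groth.Agent.FlatModel.flat_localized_iff q.primeCompl (LocalizedModule.mkLinearMap q.primeCompl _)).2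
      fun J y hy => ?_
    obtain ⟨s, hs, hsy⟩ := (Groth.Agent.FlatModel.flat_localized_iff (Submonoid.powers g)
      (LocalizedModule.mkLinearMap (Submonoid.powers g) _)).1 hflat J y hy
    exact ⟨s, Submonoid.powers_le.2 (show g ∈ q.primeCompl from hgq) hs, hsy⟩
  tfae_have 3 → 4 := fun h => ⟨((Groth.Agent.H4RG.kills_iff_univInj_localized W α).2 h.1).injective_map, h.2⟩
  tfae_have 4 → 5 := fun h => ⟨⟨Groth.Agent.H4RG.injective_map_mono h.1 hWP, hsurj⟩, h.2⟩
  tfae_have 5 → 6 := fun h => by
    obtain ⟨f, hf, hk⟩ := hA h.1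
    exact ⟨(hk.mono ((hpow f hf).trans hWq)).injective_map, h.2⟩
  tfae_have 6 → 1 := fun h => Groth.Agent.H4RG.flatAt_of_coker q α h.1 h.2
  tfae_finish

end Groth.Agent.S1205
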