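import Groth.Statements.S12066
import Groth.Agent.S0238
import Groth.Agent.FComplLib.Sys

set_option linter.style.haveILetI false
set_option backward.isDefEq.respectTransparency false
set_option backward.isDefEq.respectTransparency.types false


set_option autoImplicit false
universe u
open CategoryTheory AlgebraicGeometry
open FSch

namespace Groth.Agent.S12066

/-- Let 𝔛 be a locally Noetherian formal scheme with an ideal of definition, presented as the adic
system of its thickenings X_0 → X_1 → ⋯ (each X_n locally Noetherian). Then the functor "fibre over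
X_0", from the category of étale covers of 𝔛 (adic systems R_n → X_n of finite étale covers) to the
category of finite étale covers of the scheme X_0, is an equivalence of categories. -/
theorem result (𝔛 : FSch.Sys.{u}) (h𝔛 : 𝔛.IsLocNoethFormal) :
    (FSch.EtCov.level 𝔛 0).IsEquivalence := by
  classical
  obtain ⟨h1, -, -⟩ := h𝔛
  haveI hι : ∀ n, (FEt.restrict (𝔛.ι n)).IsEquivalence := fun n => by
    haveI := (h1 n).1
    haveI : Surjective (𝔛.ι n) := ⟨(h1 n).2⟩
    exact Groth.Agent.S0238.result (𝔛.ι n)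
  haveI hX : ∀ n, (FEt.restrict (𝔛.toX n)).IsEquivalence := fun n => by
    haveI := FComplLib.isClosedImmersion_toX h1 n
    haveI := FComplLib.surjective_toX h1 n
    exact Groth.Agent.S0238.result (𝔛.toX n)
  -- morphisms agreeing on the smallest level agree
  have huniq : ∀ (R : EtCov 𝔛) (n : ℕ) (W : FEt.Cat (𝔛.X n)) (a b : R.obj.left.X n ⟶ W.left),
      a ≫ W.hom = (R.obj.hom : Hom _ _).app n → b ≫ W.hom = (R.obj.hom : Hom _ _).app n →
      R.obj.left.toX n ≫ a = R.obj.left.toX n ≫ b → a = b := by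
    intro R n W a b ha hb h
    let A : (EtCov.level 𝔛 n).obj R ⟶ W := MorphismProperty.Over.homMk a ha
    let B : (EtCov.level 𝔛 n).obj R ⟶ W := MorphismProperty.Over.homMk b hb
    suffices A = B by exact congrArg (fun q => q.left) this
    apply (FEt.restrict (𝔛.toX n)).map_injective
    apply MorphismProperty.Over.Hom.ext
    apply Limits.pullback.hom_ext
    · have hp := FComplLib.isPullback_toX R.property.1 n
      rw [show ((FEt.restrict (𝔛.toX n)).map A).left ≫ Limits.pullback.fst W.hom (𝔛.toX n) =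
          Limits.pullback.fst ((R.obj.hom : Hom _ _).app n) (𝔛.toX n) ≫ a from Limits.pullback.lift_fst _ _ _,
        show ((FEt.restrict (𝔛.toX n)).map B).left ≫ Limits.pullback.fst W.hom (𝔛.toX n) =
          Limits.pullback.fst ((R.obj.hom : Hom _ _).app n) (𝔛.toX n) ≫ b from Limits.pullback.lift_fst _ _ _]
      have e : Limits.pullback.fst ((R.obj.hom : Hom _ _).app n) (𝔛.toX n) =
          hp.flip.flip.lift (Limits.pullback.fst _ _) (Limits.pullback.snd _ _) Limits.pullback.condition ≫
            R.obj.left.toX n := (hp.lift_fst _ _ _).symm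
      rw [e, Category.assoc, Category.assoc, h]
    · exact (MorphismProperty.Over.w ((FEt.restrict (𝔛.toX n)).map A)).trans
        (MorphismProperty.Over.w ((FEt.restrict (𝔛.toX n)).map B)).symm
  have htoX : ∀ {A B : Sys.{u}} (f : A ⟶ B) (n : ℕ), A.toX n ≫ (f : Hom _ _).app n = (f : Hom _ _).app 0 ≫ B.toX n := by
    intro A B f n
    induction n with
    | zero => simp [Sys.toX]
    | succ n ih =>
      simp only [Sys.toX, Category.assoc]
      rw [← (f : Hom _ _).comm n, reassoc_of% ih]
  haveI : (EtCov.level 𝔛 0).Faithful := ⟨fun {R R'} φ ψ h => by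
    have h0 : (φ.hom.left : Hom _ _).app 0 = (ψ.hom.left : Hom _ _).app 0 :=
      congrArg (fun q => q.left) h
    apply ObjectProperty.hom_ext
    apply Over.OverMorphism.ext
    refine Hom.ext (funext fun n => ?_)
    refine huniq R n ((EtCov.level 𝔛 n).obj R') _ _ ?_ ?_ ?_
    · exact MorphismProperty.Over.w ((EtCov.level 𝔛 n).map φ)
    · exact MorphismProperty.Over.w ((EtCov.level 𝔛 n).map ψ)
    · rw [htoX, htoX, h0]⟩
  haveI : (EtCov.level 𝔛 0).Full := ⟨fun {R R'} g => by
    have hg : ∀ n, ∃ φ : R.obj.left.X n ⟶ R'.obj.left.X n,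
        φ ≫ (R'.obj.hom : Hom _ _).app n = (R.obj.hom : Hom _ _).app n ∧
          R.obj.left.toX n ≫ φ = g.left ≫ R'.obj.left.toX n := by
      intro n
      let eR : ∀ S : EtCov 𝔛, (EtCov.level 𝔛 0).obj S ≅
          (FEt.restrict (𝔛.toX n)).obj ((EtCov.level 𝔛 n).obj S) := fun S =>
        MorphismProperty.Over.isoMk (FComplLib.isPullback_toX S.property.1 n).isoPullback
          (FComplLib.isPullback_toX S.property.1 n).isoPullback_hom_snd
      let ψ := (FEt.restrict (𝔛.toX n)).preimage ((eR R).inv ≫ g ≫ (eR R').hom)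
      refine ⟨ψ.left, MorphismProperty.Over.w ψ, ?_⟩
      have h2 := (FEt.restrict (𝔛.toX n)).map_preimage ((eR R).inv ≫ g ≫ (eR R').hom)
      rw [Iso.eq_inv_comp] at h2
      have h3 : (eR R).hom.left ≫ ((FEt.restrict (𝔛.toX n)).map ψ).left ≫
            Limits.pullback.fst ((R'.obj.hom : Hom _ _).app n) (𝔛.toX n) =
          g.left ≫ (eR R').hom.left ≫ Limits.pullback.fst ((R'.obj.hom : Hom _ _).app n) (𝔛.toX n) := by
        have h4 := congrArg (fun q => q.left) h2
        exact (Category.assoc _ _ _).symm.trans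
          ((congrArg (· ≫ Limits.pullback.fst ((R'.obj.hom : Hom _ _).app n) (𝔛.toX n)) h4).trans
            (Category.assoc _ _ _))
      have m1 : ((FEt.restrict (𝔛.toX n)).map ψ).left ≫ Limits.pullback.fst _ (𝔛.toX n) =
          Limits.pullback.fst ((R.obj.hom : Hom _ _).app n) (𝔛.toX n) ≫ ψ.left := Limits.pullback.lift_fst _ _ _
      have m2 : ∀ S : EtCov 𝔛, (eR S).hom.left ≫ Limits.pullback.fst ((S.obj.hom : Hom _ _).app n) (𝔛.toX n) =
          S.obj.left.toX n := fun S => by
        exact (FComplLib.isPullback_toX S.property.1 n).isoPullback_hom_fst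
      erw [m1, reassoc_of% (m2 R), m2 R'] at h3
      exact h3
    choose φ hφ hφ0 using hg
    have hcomm : ∀ n, φ n ≫ R'.obj.left.ι n = R.obj.left.ι n ≫ φ (n + 1) := by
      intro n
      have hw : (R.obj.left.ι n ≫ φ (n + 1)) ≫ (R'.obj.hom : Hom _ _).app (n + 1) =
          (R.obj.hom : Hom _ _).app n ≫ 𝔛.ι n := by
        rw [Category.assoc, hφ, ← (R.obj.hom : Hom _ _).comm n]
      let ψ := (R'.property.1 n).lift (R.obj.left.ι n ≫ φ (n + 1)) ((R.obj.hom : Hom _ _).app n) hw
      have h1' : ψ ≫ R'.obj.left.ι n = R.obj.left.ι n ≫ φ (n + 1) := (R'.property.1 n).lift_fst _ _ _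
      have h2' : ψ ≫ (R'.obj.hom : Hom _ _).app n = (R.obj.hom : Hom _ _).app n :=
        (R'.property.1 n).lift_snd _ _ _
      have hψ : φ n = ψ := by
        refine huniq R n ((EtCov.level 𝔛 n).obj R') _ _ (hφ n) h2' ?_
        refine (R'.property.1 n).hom_ext ?_ ?_
        · simp only [Category.assoc, h1']
          rw [reassoc_of% (hφ0 n)]
          have := hφ0 (n + 1)
          simp only [Sys.toX, Category.assoc] at this
          exact this.symm
        · simp only [Category.assoc, h2', hφ]
      rw [hψ, h1']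
    have hw : (⟨φ, hcomm⟩ : R.obj.left ⟶ R'.obj.left) ≫ R'.obj.hom = R.obj.hom :=
      Hom.ext (funext fun n => hφ n)
    refine ⟨⟨Over.homMk _ hw⟩, ?_⟩
    apply MorphismProperty.Over.Hom.ext
    have := hφ0 0
    simp only [Sys.toX, Category.id_comp, Category.comp_id] at this
    exact this⟩
  haveI : (EtCov.level 𝔛 0).EssSurj := ⟨fun U => by
    let R : ∀ n, FEt.Cat (𝔛.X n) :=
      fun n => Nat.rec U (fun n V => (FEt.restrict (𝔛.ι n)).objPreimage V) n
    let e : ∀ n, (FEt.restrict (𝔛.ι n)).obj (R (n + 1)) ≅ R n := fun n =>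
      (FEt.restrict (𝔛.ι n)).objObjPreimageIso (R n)
    have hsnd : ∀ n, (e n).inv.left ≫ Limits.pullback.snd (R (n + 1)).hom (𝔛.ι n) = (R n).hom := fun n =>
      MorphismProperty.Over.w (e n).inv
    let ι' : ∀ n, (R n).left ⟶ (R (n + 1)).left := fun n =>
      (e n).inv.left ≫ Limits.pullback.fst (R (n + 1)).hom (𝔛.ι n)
    have hcomm : ∀ n, (R n).hom ≫ 𝔛.ι n = ι' n ≫ (R (n + 1)).hom := fun n => by
      simp only [ι', Category.assoc, Limits.pullback.condition]
      rw [reassoc_of% (hsnd n)]
    let P : Sys.{u} := ⟨fun n => (R n).left, ι'⟩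
    let f : P ⟶ 𝔛 := ⟨fun n => (R n).hom, hcomm⟩
    have hpb : IsAdicHom f := fun n => by
      haveI : IsIso (e n).inv.left := ⟨(e n).hom.left,
        congrArg (fun q => q.left) (e n).inv_hom_id, congrArg (fun q => q.left) (e n).hom_inv_id⟩
      refine (IsPullback.of_hasPullback (R (n + 1)).hom (𝔛.ι n)).of_iso (asIso (e n).inv.left).symm
        (Iso.refl _) (Iso.refl _) (Iso.refl _) ?_ ?_ ?_ ?_
      · simp [P, ι']
      · simp [f, ← hsnd n]
      · simp [f]
      · simp
    exact ⟨⟨Over.mk f, hpb, fun n => ⟨(R n).prop.1, (R n).prop.2⟩⟩,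
      ⟨MorphismProperty.Over.isoMk (Iso.refl _) (by simp [EtCov.level, f]; rfl)⟩⟩⟩
  exact { }
end Groth.Agent.S12066
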