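import Groth.Statements.S1210
import Groth.Agent.H4RG.PureEtale
-- import your own Groth.Agent.* helpers here

set_option autoImplicit false
universe u
open FlatMor TensorProduct IsLocalRing Groth.Agent.H4RG

namespace Groth.Agent.S1210

open TensorProduct in
/-- Ring form, X = Spec S and S = Spec R affine: let S be a finitely presented R-algebra, N a finite
S-module and q a prime of S over p with N_q flat over R. Then there is an étale R-algebra R' with a
prime p' over p having the same residue field such that, writing A for the local ring of R' at p',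
S_A for the base change of S to A and N_A for that of N: there is an element g of S_A, outside every
prime of S_A lying over both q and the maximal ideal of A (there is exactly one such prime), with
the localization of N_A at g finitely presented over (S_A)_g and flat over A. The base change is
stated for any model of the tensor product. -/
theorem result {R S : Type u} [CommRing R] [CommRing S] [Algebra R S] [Algebra.FinitePresentation R S]
    (N : Type u) [AddCommGroup N] [Module S N] [Module R N] [IsScalarTower R S N] [Module.Finite S N]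
    (p : Ideal R) [p.IsPrime] (q : Ideal S) [q.IsPrime] [q.LiesOver p] (hflat : FlatCA.FlatAt R q N) :
    ∃ (R' : Type u) (_ : CommRing R') (_ : Algebra R R') (p' : Ideal R') (_ : p'.IsPrime), FlatCA.IsEtaleNhd R R' p p' ∧
      ∀ (SA NA : Type u) [CommRing SA] [Algebra R SA] [Algebra S SA] [Algebra (Localization.AtPrime p') SA]
        [IsScalarTower R S SA] [IsScalarTower R (Localization.AtPrime p') SA]
        [Algebra.IsPushout R S (Localization.AtPrime p') SA]
        [AddCommGroup NA] [Module SA NA] [Module S NA] [IsScalarTower S SA NA]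
        [Module (Localization.AtPrime p') NA] [IsScalarTower (Localization.AtPrime p') SA NA]
        (f : N →ₗ[S] NA), IsBaseChange SA f →
        ∃ g : SA, (∀ (Q : Ideal SA) [Q.IsPrime], Q.LiesOver q → Q.LiesOver (IsLocalRing.maximalIdeal (Localization.AtPrime p')) → g ∉ Q) ∧
          Module.FinitePresentation (Localization.Away g) (LocalizedModule (Submonoid.powers g) NA) ∧
          Module.Flat (Localization.AtPrime p') (LocalizedModule (Submonoid.powers g) NA) := by
  classical
  haveI : Module.Flat R (LocalizedModule q.primeCompl N) := hflat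
  obtain ⟨c, π, hπ⟩ := Module.Finite.exists_fin' S N
  haveI := fp_of_flat (R := R) N q hflat
  obtain ⟨G, hG, hk⟩ := exists_relations_loc π hπ q.primeCompl
  let μ := presMap π hG
  have hμ : Function.Surjective μ := presMap_surjective π hG hπ
  let N0 := Pres (G : Set (Fin c → S))
  let iN := LocalizedModule.mkLinearMap q.primeCompl N
  haveI hloc : IsLocalizedModule q.primeCompl (iN.comp μ) :=
    isLocalizedModule_comp μ hμ q.primeCompl (presMap_killed π hG q.primeCompl hk)
  haveI : Module.Flat R (LocalizedModule q.primeCompl N0) :=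
    Module.Flat.of_linearEquiv ((IsLocalizedModule.iso q.primeCompl (iN.comp μ)).restrictScalars R)
  obtain ⟨B1, g1, h1⟩ := exists_pureOnNbhds N p q hflat
  obtain ⟨B2, g2, h2⟩ := exists_pureOnNbhds N0 p q ‹_›
  obtain ⟨B, α, β, hα, hβ⟩ := B1.exists_hom₂ B2
  obtain ⟨hp', hnhd⟩ := isEtaleNhd_nbhd p B
  haveI := hp'
  refine ⟨B.B, inferInstance, inferInstance, RingHom.ker B.toK, hp', hnhd, ?_⟩
  intro SA NA _ _ _ _ _ _ _ _ _ _ _ _ _ f hf
  let A := Localization.AtPrime (RingHom.ker B.toK)
  haveI : Algebra.IsPushout R A S SA := Algebra.IsPushout.symm inferInstance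
  let e := Algebra.IsPushout.equiv R A S SA
  -- the point of the closed fibre
  have hu : ∀ b : (RingHom.ker B.toK).primeCompl, IsUnit (B.toK b.1) := fun b =>
    isUnit_iff_ne_zero.2 fun h => b.2 (RingHom.mem_ker.2 h)
  let τ : A →ₐ[R] p.ResidueField := IsLocalization.liftAlgHom (A := R) (S := A) (M := (RingHom.ker B.toK).primeCompl) (f := B.toK) hu
  have hτ : ∀ a : A, τ a = 0 ↔ a ∈ maximalIdeal A := fun a => by
    obtain ⟨b, s, rfl⟩ := IsLocalization.exists_mk'_eq (RingHom.ker B.toK).primeCompl a
    rw [IsLocalization.AtPrime.mk'_mem_maximal_iff A (RingHom.ker B.toK) b s, RingHom.mem_ker]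
    show IsLocalization.lift hu (IsLocalization.mk' A b s) = 0 ↔ _
    rw [IsLocalization.lift_mk', Units.mul_left_eq_zero]
    rfl
  let ι := Ideal.ResidueField.mapₐ p q (Algebra.ofId R S) (Ideal.LiesOver.over (P := q) (p := p))
  let σ : SA →+* q.ResidueField := (Algebra.TensorProduct.lift (ι.comp τ)
    (IsScalarTower.toAlgHom R S q.ResidueField) fun _ _ => .all _ _).toRingHom.comp e.symm.toRingEquiv.toRingHom
  have hσ : ∀ (a : A) (s : S), σ (algebraMap A SA a * algebraMap S SA s) = ι (τ a) * algebraMap S q.ResidueField s := by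
    intro a s
    rw [← Algebra.IsPushout.equiv_tmul R A S SA a s]
    show Algebra.TensorProduct.lift (ι.comp τ) (IsScalarTower.toAlgHom R S q.ResidueField) (fun _ _ => .all _ _)
      (e.symm (e (a ⊗ₜ[R] s))) = _
    rw [AlgEquiv.symm_apply_apply, Algebra.TensorProduct.lift_tmul]
    rfl
  let QA : Ideal SA := RingHom.ker σ
  haveI : QA.IsPrime := RingHom.ker_isPrime _
  have hQS : QA.comap (algebraMap S SA) = q := by
    ext s
    rw [Ideal.mem_comap, RingHom.mem_ker, ← one_mul (algebraMap S SA s), ← map_one (algebraMap A SA), hσ, map_one,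
      map_one, one_mul, Ideal.algebraMap_residueField_eq_zero]
  have hQA : QA.comap (algebraMap A SA) = maximalIdeal A := by
    ext a
    rw [Ideal.mem_comap, RingHom.mem_ker, ← mul_one (algebraMap A SA a), ← map_one (algebraMap S SA), hσ, map_one,
      mul_one, ← hτ]
    exact map_eq_zero ι.toRingHom
  have hQq : QA.LiesOver q := ⟨hQS.symm⟩
  have hQm : QA.LiesOver (maximalIdeal A) := ⟨hQA.symm⟩
  -- the two modules
  let NA0 := SA ⊗[S] N0
  let f0 : N0 →ₗ[S] NA0 := TensorProduct.mk S SA N0 1
  have hf0 : IsBaseChange SA f0 := TensorProduct.isBaseChange S N0 SA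
  let gA := e (Algebra.TensorProduct.map (IsScalarTower.toAlgHom R B.B A) (AlgHom.id R S)
    (Algebra.TensorProduct.map α (AlgHom.id R S) g1))
  let gA0 := e (Algebra.TensorProduct.map (IsScalarTower.toAlgHom R B.B A) (AlgHom.id R S)
    (Algebra.TensorProduct.map β (AlgHom.id R S) g2))
  have H1 : ∀ (Q : Ideal SA) [Q.IsPrime], Q.LiesOver q → Q.LiesOver (maximalIdeal A) → gA ∉ Q ∧
      ∀ (M : Type u) [AddCommGroup M] [Module A M] (w : NA ⊗[A] M), (∃ t ∉ Q, t • w = 0) → ∃ i : ℕ, gA ^ i • w = 0 :=
    fun Q _ a b => h1 B α hα SA NA f hf Q a b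
  have H2 : ∀ (Q : Ideal SA) [Q.IsPrime], Q.LiesOver q → Q.LiesOver (maximalIdeal A) → gA0 ∉ Q ∧
      ∀ (M : Type u) [AddCommGroup M] [Module A M] (w : NA0 ⊗[A] M), (∃ t ∉ Q, t • w = 0) → ∃ i : ℕ, gA0 ^ i • w = 0 :=
    fun Q _ a b => h2 B β hβ SA NA0 f0 hf0 Q a b
  obtain ⟨hgA, hk1⟩ := H1 QA hQq hQm
  obtain ⟨-, hk2⟩ := H2 QA hQq hQm
  refine ⟨gA * gA0, fun Q _ hq hm hmem => (‹Q.IsPrime›.mem_or_mem hmem).elim (H1 Q hq hm).1 (H2 Q hq hm).1, ?_, ?_⟩
  · let μA : NA0 →ₗ[SA] NA := hf.equiv.toLinearMap.comp (μ.baseChange SA)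
    have hμA : Function.Surjective μA := hf.equiv.surjective.comp (LinearMap.lTensor_surjective SA hμ)
    have hker : ∀ v, μA v = 0 → ∃ t ∈ Submonoid.powers (gA * gA0), t • v = 0 := by
      intro v hv
      obtain ⟨ψ0, hψ0, hψt0, hψs0⟩ := exists_tensor_equiv (R := R) (A := A) A f0 hf0
      obtain ⟨ψ, hψ, hψt, -⟩ := exists_tensor_equiv (R := R) (A := A) A f hf
      obtain ⟨z, hz⟩ := hψ0.2 ((TensorProduct.rid A NA0).symm v)
      let μA' : NA0 →ₗ[A] NA := μA.restrictScalars A
      have hcomm : ∀ y : N0 ⊗[R] A, ψ ((μ.restrictScalars R).rTensor A y) = μA'.rTensor A (ψ0 y) := fun y => by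
        induction y using TensorProduct.induction_on with
        | zero => simp
        | add a b ha hb => simp only [map_add, ha, hb]
        | tmul n a =>
          rw [LinearMap.rTensor_tmul, hψt, hψt0, LinearMap.rTensor_tmul]
          congr 1
          show f (μ n) = hf.equiv ((1 : SA) ⊗ₜ[S] μ n)
          rw [hf.equiv_tmul, one_smul]
      have hz0 : (μ.restrictScalars R).rTensor A z = 0 := hψ.1 (by
        rw [hcomm, hz, map_zero, TensorProduct.rid_symm_apply, LinearMap.rTensor_tmul, show μA' v = 0 from hv, zero_tmul])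
      let φ : N0 ⊗[R] A →ₗ[S] LocalizedModule q.primeCompl N ⊗[R] A := AlgebraTensorModule.rTensor R A (iN.comp μ)
      have hφ : φ z = 0 := by
        show ((iN.comp μ).restrictScalars R).rTensor A z = 0
        rw [show (iN.comp μ).restrictScalars R = (iN.restrictScalars R).comp (μ.restrictScalars R) from rfl,
          LinearMap.rTensor_comp_apply, hz0, map_zero]
      obtain ⟨⟨t, htq⟩, ht⟩ := (IsLocalizedModule.eq_zero_iff q.primeCompl φ).1 hφ
      have htQ : algebraMap S SA t ∉ QA := fun hmem => htq (hQS.le hmem)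
      obtain ⟨i, hi⟩ := hk2 A (ψ0 z) ⟨algebraMap S SA t, htQ,
        by rw [← hψs0, show t • z = 0 from ht, map_zero]⟩
      refine ⟨(gA * gA0) ^ i, ⟨i, rfl⟩, ?_⟩
      rw [hz, TensorProduct.rid_symm_apply, smul_tmul'] at hi
      have h0 := congrArg (TensorProduct.rid A NA0) hi
      rw [TensorProduct.rid_tmul, one_smul, map_zero] at h0
      rw [mul_pow, mul_smul, h0, smul_zero]
    haveI := isLocalizedModule_comp μA hμA (Submonoid.powers (gA * gA0)) hker
    let W := Submonoid.powers (gA * gA0)
    haveI : Module.FinitePresentation SA NA0 := inferInstance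
    have hFP : Module.FinitePresentation (Localization W) (LocalizedModule W NA0) := inferInstance
    exact @Module.FinitePresentation.of_equiv (Localization W) (LocalizedModule W NA0) (LocalizedModule W NA) _ _ _ _ _
      ((IsLocalizedModule.iso (Submonoid.powers (gA * gA0))
        ((LocalizedModule.mkLinearMap (Submonoid.powers (gA * gA0)) NA).comp μA)).extendScalarsOfIsLocalization
        (Submonoid.powers (gA * gA0)) (Localization.Away (gA * gA0))) hFP
  · refine flat_of_pure NA QA (gA * gA0) (fun M _ _ w hw => ?_) (flat_at_bc (R := R) (A := A) f hf q QA hQS.le)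
    obtain ⟨i, hi⟩ := hk1 M w hw
    exact ⟨i, by rw [mul_pow, mul_comm, mul_smul, hi, smul_zero]⟩

end Groth.Agent.S1210
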