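import Groth.Statements.S12104
import Groth.Agent.Deform.SmallGrp.TypeR
import Mathlib.AlgebraicGeometry.Sites.Fpqc

set_option autoImplicit false
open CategoryTheory MonoidalCategory CartesianMonoidalCategory MonObj GrpObj AlgebraicGeometry
universe u
open RedSub

namespace Groth.Agent.S12104
attribute [local instance] CategoryTheory.Hom.monoid CategoryTheory.Hom.group
set_option linter.style.haveILetI false
/-- Let G be a reductive S-group and (M, h : H ⟶ G_M) a representing pair for the functor of subgroups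
of type (RC) of G (type (R) with closed root sets on the geometric fibres; every such subgroup of a
base change G_{S'} has the same points as the pullback of h along exactly one S-morphism S' ⟶ M).
Suppose (Cl₁, cl₁ : M ⟶ Cl₁) and (Cl₂, cl₂ : M ⟶ Cl₂) are two pairs with the following properties:
Clᵢ finite and etale over S; clᵢ smooth, surjective, quasi-compact, locally of finite presentation
and locally quasi-projective with connected geometric fibres; and two subgroups of type (RC) of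
G_{S'} with classifying maps g₁, g₂ : S' ⟶ M have the same image under clᵢ if and only if at every
point of S' their geometric fibres are conjugate under a point of the geometric fibre of G. Then
there is exactly one S-isomorphism e : Cl₁ ≅ Cl₂ with cl₁ ≫ e.hom = cl₂. -/
theorem result {S : Scheme.{u}} (G : Over S) [GrpObj G] (hG : Red.IsReductive G)
    (M : Over S) (H : Over M.left) [GrpObj H] (h : H ⟶ Red.bc M.hom G) (hh : RedSub.IsTypeR h)
    (hRC : (∀ (s : ↥M.left) (D' : Red.SplitRed (Red.geomFibre s (Red.bc M.hom G))) (t' : D'.T ⟶ Red.geomFibre s _),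
        t' ≫ (Over.pullback (Red.geomPt s)).map h = D'.i →
        ∀ a b c : D'.idx, (∃ v, v ≫ (Over.pullback (Red.geomPt s)).map h = D'.u a) →
          (∃ v, v ≫ (Over.pullback (Red.geomPt s)).map h = D'.u b) → D'.P.root a + D'.P.root b = D'.P.root c →
          ∃ v, v ≫ (Over.pullback (Red.geomPt s)).map h = D'.u c))
    (huniv : ∀ (S' : Scheme.{u}) (f : S' ⟶ S) (H' : Over S') [GrpObj H'] (h' : H' ⟶ Red.bc f G), RedSub.IsTypeR h' →
        (∀ (s : ↥S') (D' : Red.SplitRed (Red.geomFibre s (Red.bc f G))) (t' : D'.T ⟶ Red.geomFibre s _),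
        t' ≫ (Over.pullback (Red.geomPt s)).map h' = D'.i →
        ∀ a b c : D'.idx, (∃ v, v ≫ (Over.pullback (Red.geomPt s)).map h' = D'.u a) →
          (∃ v, v ≫ (Over.pullback (Red.geomPt s)).map h' = D'.u b) → D'.P.root a + D'.P.root b = D'.P.root c →
          ∃ v, v ≫ (Over.pullback (Red.geomPt s)).map h' = D'.u c) →
        ∃! g : S' ⟶ M.left, g ≫ M.hom = f ∧ RedSub.SamePoints G f h' M h g) 
    (Cl₁ : Over S) (cl₁ : M ⟶ Cl₁) (Cl₂ : Over S) (cl₂ : M ⟶ Cl₂)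
    (hCl₁ : IsFinite Cl₁.hom ∧ Etale Cl₁.hom ∧ Smooth cl₁.left ∧ Surjective cl₁.left ∧
      QuasiCompact cl₁.left ∧ LocallyOfFinitePresentation cl₁.left ∧ RedSub.IsLocallyQuasiProjective (Over.mk cl₁.left) ∧
      (∀ c : ↥Cl₁.left, ConnectedSpace ↥(Red.geomFibre c (Over.mk cl₁.left)).left) ∧
      ∀ (S' : Scheme.{u}) (f : S' ⟶ S) (H₁ H₂ : Over S') [GrpObj H₁] [GrpObj H₂] (h₁ : H₁ ⟶ Red.bc f G)
        (h₂ : H₂ ⟶ Red.bc f G) (g₁ g₂ : S' ⟶ M.left), RedSub.IsTypeR h₁ → RedSub.IsTypeR h₂ →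
        g₁ ≫ M.hom = f → g₂ ≫ M.hom = f → RedSub.SamePoints G f h₁ M h g₁ → RedSub.SamePoints G f h₂ M h g₂ →
        (g₁ ≫ cl₁.left = g₂ ≫ cl₁.left ↔
          ∀ s : ↥S', ∃ gpt : 𝟙_ _ ⟶ Red.geomFibre s (Red.bc f G),
            RedSub.ConjEq ((Over.pullback (Red.geomPt s)).map h₁) ((Over.pullback (Red.geomPt s)).map h₂) gpt))
    (hCl₂ : IsFinite Cl₂.hom ∧ Etale Cl₂.hom ∧ Smooth cl₂.left ∧ Surjective cl₂.left ∧
      QuasiCompact cl₂.left ∧ LocallyOfFinitePresentation cl₂.left ∧ RedSub.IsLocallyQuasiProjective (Over.mk cl₂.left) ∧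
      (∀ c : ↥Cl₂.left, ConnectedSpace ↥(Red.geomFibre c (Over.mk cl₂.left)).left) ∧
      ∀ (S' : Scheme.{u}) (f : S' ⟶ S) (H₁ H₂ : Over S') [GrpObj H₁] [GrpObj H₂] (h₁ : H₁ ⟶ Red.bc f G)
        (h₂ : H₂ ⟶ Red.bc f G) (g₁ g₂ : S' ⟶ M.left), RedSub.IsTypeR h₁ → RedSub.IsTypeR h₂ →
        g₁ ≫ M.hom = f → g₂ ≫ M.hom = f → RedSub.SamePoints G f h₁ M h g₁ → RedSub.SamePoints G f h₂ M h g₂ →
        (g₁ ≫ cl₂.left = g₂ ≫ cl₂.left ↔
          ∀ s : ↥S', ∃ gpt : 𝟙_ _ ⟶ Red.geomFibre s (Red.bc f G),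
            RedSub.ConjEq ((Over.pullback (Red.geomPt s)).map h₁) ((Over.pullback (Red.geomPt s)).map h₂) gpt)) :
    ∃! e : Cl₁ ≅ Cl₂, cl₁ ≫ e.hom = cl₂ := by
  haveI := hG.1
  haveI := hG.2.1
  have desc : ∀ (A B : Over S) (a : M ⟶ A) (b : M ⟶ B) [Smooth a.left] [Surjective a.left] [QuasiCompact a.left],
      (∀ (S' : Scheme.{u}) (g₁ g₂ : S' ⟶ M.left), g₁ ≫ a.left = g₂ ≫ a.left → g₁ ≫ b.left = g₂ ≫ b.left) →
      ∃ c : A ⟶ B, a ≫ c = b := by
    intro A B a b _ _ _ hab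
    let c := EffectiveEpi.desc a.left b.left fun {Z} g₁ g₂ e => hab Z g₁ g₂ e
    refine ⟨Over.homMk c ?_, Over.OverMorphism.ext (EffectiveEpi.fac a.left b.left (fun {Z} g₁ g₂ e => hab Z g₁ g₂ e))⟩
    rw [← cancel_epi a.left, ← Category.assoc, show a.left ≫ c = b.left from EffectiveEpi.fac a.left b.left (fun {Z} g₁ g₂ e => hab Z g₁ g₂ e), Over.w b, Over.w a]
  obtain ⟨-, -, hs₁, hsu₁, hq₁, -, -, -, hcl₁⟩ := hCl₁
  obtain ⟨-, -, hs₂, hsu₂, hq₂, -, -, -, hcl₂⟩ := hCl₂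
  haveI := hs₁; haveI := hsu₁; haveI := hq₁; haveI := hs₂; haveI := hsu₂; haveI := hq₂
  have key : ∀ (S' : Scheme.{u}) (g₁ g₂ : S' ⟶ M.left), g₁ ≫ M.hom = g₂ ≫ M.hom →
      (g₁ ≫ cl₁.left = g₂ ≫ cl₁.left ↔ g₁ ≫ cl₂.left = g₂ ≫ cl₂.left) := by
    intro S' g₁ g₂ he
    obtain ⟨H₁, iH₁, h₁, hR₁, hp₁⟩ := Deform.SmallGrp.exists_pullback_family M h hh g₁ (g₂ ≫ M.hom) he
    obtain ⟨H₂, iH₂, h₂, hR₂, hp₂⟩ := Deform.SmallGrp.exists_pullback_family M h hh g₂ (g₂ ≫ M.hom) rfl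
    exact (hcl₁ S' _ H₁ H₂ h₁ h₂ g₁ g₂ hR₁ hR₂ he rfl hp₁ hp₂).trans
      (hcl₂ S' _ H₁ H₂ h₁ h₂ g₁ g₂ hR₁ hR₂ he rfl hp₁ hp₂).symm
  obtain ⟨e, he⟩ := desc Cl₁ Cl₂ cl₁ cl₂ fun S' g₁ g₂ h' =>
    (key S' g₁ g₂ (by rw [← Over.w cl₁, reassoc_of% h'])).mp h'
  obtain ⟨e', he'⟩ := desc Cl₂ Cl₁ cl₂ cl₁ fun S' g₁ g₂ h' =>
    (key S' g₁ g₂ (by rw [← Over.w cl₂, reassoc_of% h'])).mpr h'
  haveI : Epi cl₁ := (Over.forget _).epi_of_epi_map (inferInstanceAs (Epi cl₁.left))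
  haveI : Epi cl₂ := (Over.forget _).epi_of_epi_map (inferInstanceAs (Epi cl₂.left))
  refine ⟨⟨e, e', by rw [← cancel_epi cl₁, reassoc_of% he, he', Category.comp_id],
    by rw [← cancel_epi cl₂, reassoc_of% he', he, Category.comp_id]⟩, he, fun x hx => Iso.ext ?_⟩
  rw [← cancel_epi cl₁]
  exact hx.trans he.symm

end Groth.Agent.S12104
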