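import Groth.Statements.S12113
import Groth.Agent.BalLib.Descent
-- import your own Groth.Agent.* helpers here

set_option autoImplicit false
universe u
open CategoryTheory CategoryTheory.Limits MonoidalCategory CartesianMonoidalCategory MonObj AlgebraicGeometry
open SGA7

namespace Groth.Agent.S12113

open MonoidalCategory CartesianMonoidalCategory MonObj GrpObj

theorem hasLocSec_tensor {S : Scheme.{u}} {E P : Over S} {v : E ⟶ P} (hv : Groth.Agent.BalLib.HasLocSec v) :
    Groth.Agent.BalLib.HasLocSec (v ⊗ₘ v) := by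
  obtain ⟨R, hR, hsec⟩ := hv
  refine ⟨R.pullback (fst P P).left ⊓ R.pullback (snd P P).left,
    Scheme.fppfTopology.intersection_covering (Scheme.fppfTopology.pullback_stable _ hR)
      (Scheme.fppfTopology.pullback_stable _ hR), fun T a ha => ?_⟩
  obtain ⟨s₁, hs₁⟩ := hsec _ ha.1
  obtain ⟨s₂, hs₂⟩ := hsec _ ha.2
  let T' : Over S := Over.mk (a ≫ (P ⊗ P).hom)
  let a' : T' ⟶ P ⊗ P := Over.homMk a rfl
  let t₁ : T' ⟶ E := Over.homMk s₁ (by
    show s₁ ≫ E.hom = a ≫ (P ⊗ P).hom
    rw [← Over.w v, ← Category.assoc, hs₁, Category.assoc, Over.w (fst P P)])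
  let t₂ : T' ⟶ E := Over.homMk s₂ (by
    show s₂ ≫ E.hom = a ≫ (P ⊗ P).hom
    rw [← Over.w v, ← Category.assoc, hs₂, Category.assoc, Over.w (snd P P)])
  refine ⟨(lift t₁ t₂).left, ?_⟩
  have : lift t₁ t₂ ≫ (v ⊗ₘ v) = a' := by
    rw [lift_map]
    refine CartesianMonoidalCategory.hom_ext _ _ ?_ ?_
    · rw [lift_fst]; exact Over.OverMorphism.ext hs₁
    · rw [lift_snd]; exact Over.OverMorphism.ext hs₂
  exact congrArg CommaMorphism.left this

theorem exists_ker {S : Scheme.{u}} {P G E : Over S} [GrpObj P] [GrpObj G] [GrpObj E] {u : G ⟶ E} {v : E ⟶ P}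
    (hex : NonAbH1.IsExactSeq Scheme.fppfPrecoverage u v) {T : Over S} (e : T ⟶ E) (he : e ≫ v = 1) :
    ∃ g : T ⟶ G, g ≫ u = e := by
  haveI := hex.2.1
  have h1 : (1 : T ⟶ E) ≫ v = e ≫ v := by rw [he, MonObj.one_comp]
  let l := hex.2.2.2.1.lift 1 e h1
  refine ⟨l ≫ snd E G, ?_⟩
  have hm : (E ◁ u) ≫ μ[E] = fst E G * (snd E G ≫ u) := by
    rw [Hom.mul_def]
    congr 1
  have h2 : l ≫ ((E ◁ u) ≫ μ[E]) = e := hex.2.2.2.1.lift_snd 1 e h1
  rw [hm, MonObj.comp_mul, ← Category.assoc, show l ≫ fst E G = 1 from hex.2.2.2.1.lift_fst 1 e h1,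
    _root_.one_mul] at h2
  exact h2

theorem ker_inj {S : Scheme.{u}} {P G E : Over S} [GrpObj P] [GrpObj G] [GrpObj E] {u : G ⟶ E} {v : E ⟶ P}
    (hex : NonAbH1.IsExactSeq Scheme.fppfPrecoverage u v) {T : Over S} {g g' : T ⟶ G} (h : g ≫ u = g' ≫ u) :
    g = g' := by
  have hm : (E ◁ u) ≫ μ[E] = fst E G * (snd E G ≫ u) := by
    rw [Hom.mul_def]
    congr 1
  have : lift (1 : T ⟶ E) g = lift (1 : T ⟶ E) g' := by
    refine hex.2.2.2.1.hom_ext (by rw [lift_fst, lift_fst]) ?_
    rw [hm, MonObj.comp_mul, MonObj.comp_mul, lift_fst, lift_fst, lift_snd_assoc, lift_snd_assoc, h]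
  simpa using congrArg (· ≫ snd E G) this

/-- Group schemes, fppf site: over a base scheme S, let P and G be S-group schemes with G commutative,
and let u : G → E, v : E → P and u' : G → E', v' : E' → P be homomorphisms forming sequences 1 → G →
E → P → 1 and 1 → G → E' → P → 1 exact for the fppf topology. Suppose every morphism of S-schemes P
×_S P → G trivial on P × e_P and on e_P × P is trivial. Let f : E → E' be a morphism of S-schemes
over P (f ≫ v' = v) and under G (u ≫ f = u'), preserving the unit section, and compatible with left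
and right translations by G: for all points g of G and x of E with values in any S-scheme, f(u(g) x)
= u'(g) f(x) and f(x u(g)) = f(x) u'(g). Then f is a homomorphism of S-group schemes: such
extensions have no non-multiplicative morphisms of their underlying rigidified bitorsors. (The
published statement is for sheaves of groups on an arbitrary topos and phrased as full faithfulness
of the functor from extensions to rigidified bitorsors; this row is the case of representable
sheaves on the fppf site of S, with G commutative so that the defect of multiplicativity descends to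
P ×_S P as in the printed argument. Morphisms to a group scheme form a group; trivial means equal to
its unit.) -/
theorem result (S : Scheme.{u})
    (P G E E' : Over S) [GrpObj P] [GrpObj G] [GrpObj E] [GrpObj E'] [IsCommMonObj G]
    (u : G ⟶ E) (v : E ⟶ P) (hex : NonAbH1.IsExactSeq Scheme.fppfPrecoverage u v)
    (u' : G ⟶ E') (v' : E' ⟶ P) (hex' : NonAbH1.IsExactSeq Scheme.fppfPrecoverage u' v')
    (hPP : ∀ c : P ⊗ P ⟶ G, lift (𝟙 P) (toUnit P ≫ η[P]) ≫ c = 1 → lift (toUnit P ≫ η[P]) (𝟙 P) ≫ c = 1 → c = 1)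
    (f : E ⟶ E') (hv : f ≫ v' = v) (hu : u ≫ f = u') (h1 : η[E] ≫ f = η[E'])
    (hl : ∀ (T : Over S) (g : T ⟶ G) (x : T ⟶ E), ((g ≫ u) * x) ≫ f = (g ≫ u') * (x ≫ f))
    (hr : ∀ (T : Over S) (g : T ⟶ G) (x : T ⟶ E), (x * (g ≫ u)) ≫ f = (x ≫ f) * (g ≫ u')) :
    IsMonHom f := by
  haveI := hex.1
  haveI := hex.2.1
  haveI := hex'.1
  haveI := hex'.2.1
  have hloc := Groth.Agent.BalLib.hasLocSec_of_isLocallyTrivialFor v hex.2.2.2.2
  have hd : ((fst E E * snd E E) ≫ f * ((fst E E ≫ f) * (snd E E ≫ f))⁻¹) ≫ v' = 1 := by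
    simp only [MonObj.mul_comp, GrpObj.inv_comp, Category.assoc, hv]
    exact mul_inv_cancel _
  obtain ⟨c, hc⟩ := exists_ker hex' _ hd
  have hcp : ∀ {T : Over S} (x y : T ⟶ E),
      (lift x y ≫ c) ≫ u' = (x * y) ≫ f * ((x ≫ f) * (y ≫ f))⁻¹ := fun x y => by
    simp only [Category.assoc, hc, MonObj.comp_mul, GrpObj.comp_inv]
    simp only [← Category.assoc, MonObj.comp_mul, lift_fst, lift_snd]
  have hright : ∀ {T : Over S} (x y : T ⟶ E) (h : T ⟶ G), lift x (y * (h ≫ u)) ≫ c = lift x y ≫ c := fun x y h => by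
    refine ker_inj hex' ?_
    rw [hcp, hcp, ← _root_.mul_assoc x, hr, hr]
    group
  have hleft : ∀ {T : Over S} (x y : T ⟶ E) (g : T ⟶ G), lift (x * (g ≫ u)) y ≫ c = lift x y ≫ c := fun x y g => by
    refine ker_inj hex' ?_
    obtain ⟨g', hg'⟩ := exists_ker hex (y⁻¹ * (g ≫ u) * y) (by
      rw [MonObj.mul_comp, MonObj.mul_comp, GrpObj.inv_comp, Category.assoc, hex.2.2.1, MonObj.comp_one,
        _root_.mul_one, inv_mul_cancel])
    have hsw : (g ≫ u) * y = y * (g' ≫ u) := by
      rw [hg']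
      group
    have hsw' : (g ≫ u') * (y ≫ f) = (y ≫ f) * (g' ≫ u') := by rw [← hl, hsw, hr]
    rw [hcp, hcp, _root_.mul_assoc x, hsw, ← _root_.mul_assoc, hr, hr, _root_.mul_assoc (x ≫ f), hsw']
    group
  have hinv : ∀ (T : Over S) (a b : T ⟶ E ⊗ E), a ≫ (v ⊗ₘ v) = b ≫ (v ⊗ₘ v) → a ≫ c = b ≫ c := fun T a b hab => by
    have e₁ := congrArg (· ≫ fst P P) hab
    have e₂ := congrArg (· ≫ snd P P) hab
    simp only [Category.assoc, tensorHom_fst, tensorHom_snd] at e₁ e₂
    obtain ⟨g, hg⟩ := exists_ker hex ((a ≫ fst E E)⁻¹ * (b ≫ fst E E)) (by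
      rw [MonObj.mul_comp, GrpObj.inv_comp, Category.assoc, Category.assoc, e₁, inv_mul_cancel])
    obtain ⟨h, hh⟩ := exists_ker hex ((a ≫ snd E E)⁻¹ * (b ≫ snd E E)) (by
      rw [MonObj.mul_comp, GrpObj.inv_comp, Category.assoc, Category.assoc, e₂, inv_mul_cancel])
    have hb : b = lift ((a ≫ fst E E) * (g ≫ u)) ((a ≫ snd E E) * (h ≫ u)) := by
      rw [hg, hh, mul_inv_cancel_left, mul_inv_cancel_left]
      apply CartesianMonoidalCategory.hom_ext <;> simp
    have ha : a = lift (a ≫ fst E E) (a ≫ snd E E) := by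
      apply CartesianMonoidalCategory.hom_ext <;> simp
    rw [hb, hright, hleft, ← ha]
  obtain ⟨cb, hcb, -⟩ := (hasLocSec_tensor hloc).existsUnique_desc c hinv
  have hone : ∀ {T : Over S}, (1 : T ⟶ E) ≫ f = 1 := fun {T} => by
    rw [Hom.one_def, Category.assoc, h1, Hom.one_def]
  have hc1 : ∀ {T : Over S} (x y : T ⟶ E), x = 1 ∨ y = 1 → lift x y ≫ c = 1 := fun x y hxy => by
    refine ker_inj hex' ?_
    rw [hcp, MonObj.one_comp]
    rcases hxy with rfl | rfl <;> simp [hone]
  have hcb1 : cb = 1 := by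
    refine hPP cb (hloc.hom_ext ?_) (hloc.hom_ext ?_)
    · have e : v ≫ lift (𝟙 P) (toUnit P ≫ η[P]) = lift (𝟙 E) (1 : E ⟶ E) ≫ (v ⊗ₘ v) := by
        rw [comp_lift, lift_map, Category.comp_id, Category.id_comp, MonObj.one_comp, ← Hom.one_def, MonObj.comp_one]
      rw [← Category.assoc, e, Category.assoc, hcb, hc1 _ _ (Or.inr rfl), MonObj.comp_one]
    · have e : v ≫ lift (toUnit P ≫ η[P]) (𝟙 P) = lift (1 : E ⟶ E) (𝟙 E) ≫ (v ⊗ₘ v) := by
        rw [comp_lift, lift_map, Category.comp_id, Category.id_comp, MonObj.one_comp, ← Hom.one_def, MonObj.comp_one]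
      rw [← Category.assoc, e, Category.assoc, hcb, hc1 _ _ (Or.inl rfl), MonObj.comp_one]
  rw [hcb1, MonObj.comp_one] at hcb
  refine { one_hom := h1, mul_hom := ?_ }
  have h := hcp (fst E E) (snd E E)
  rw [← hcb, MonObj.comp_one, MonObj.one_comp] at h
  have h' := eq_of_mul_inv_eq_one h.symm
  rw [Hom.mul_def, lift_fst_snd, Category.id_comp] at h'
  rw [h', Hom.mul_def, ← lift_map, lift_fst_snd, Category.id_comp]

end Groth.Agent.S12113
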