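import Groth.Statements.S12134
import Groth.Agent.GrFlat5.Strata
-- import your own Groth.Agent.* helpers here

set_option autoImplicit false
universe u
open scoped TensorProduct
open EGA43

namespace Groth.Agent.S12134

open TensorProduct in
/-- Flatness of a kernel between projective quotients. -/
theorem flat_map_mkQ {T N : Type u} [CommRing T] [AddCommGroup N] [Module T N] (R₁ R₂ : Submodule T N)
    (h : R₁ ≤ R₂) [Module.Projective T (N ⧸ R₁)] [Module.Projective T (N ⧸ R₂)] :
    Module.Flat T ↥(R₂.map R₁.mkQ) := by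
  let g : (N ⧸ R₁) →ₗ[T] N ⧸ R₂ := Submodule.factor h
  obtain ⟨s, hs⟩ := Module.projective_lifting_property g LinearMap.id fun y => by
    obtain ⟨x, rfl⟩ := Submodule.mkQ_surjective _ y
    exact ⟨Submodule.Quotient.mk x, rfl⟩
  have hmem : ∀ z, z - s (g z) ∈ R₂.map R₁.mkQ := fun z => by
    have hg : g (z - s (g z)) = 0 := by
      rw [map_sub, ← LinearMap.comp_apply g s, hs, LinearMap.id_apply, sub_self]
    obtain ⟨x, hx⟩ := Submodule.mkQ_surjective R₁ (z - s (g z))
    refine ⟨x, ?_, hx⟩
    rw [← hx] at hg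
    exact (Submodule.Quotient.mk_eq_zero R₂).1 hg
  refine Module.Flat.of_retract (R₂.map R₁.mkQ).subtype
    ((LinearMap.id - s ∘ₗ g).codRestrict _ hmem) ?_
  refine LinearMap.ext fun z => Subtype.ext ?_
  have hz : g z.1 = 0 := by
    obtain ⟨x, hx, e⟩ := z.2
    rw [← e]
    exact (Submodule.Quotient.mk_eq_zero R₂).2 hx
  show z.1 - s (g z.1) = z.1
  rw [hz, map_zero, sub_zero]

open TensorProduct in
theorem projective_quot_range {A T B M : Type u} [CommRing A] [CommRing T] [Algebra A T] [CommRing B] [Algebra A B]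
    [AddCommGroup M] [Module A M] [Module B M] [IsScalarTower A B M] (L : Submodule B M)
    [Module.Projective T (T ⊗[A] (M ⧸ L))] :
    Module.Projective T ((T ⊗[A] M) ⧸ LinearMap.range (LinearMap.baseChange T (L.restrictScalars A).subtype)) := by
  let q : T ⊗[A] M →ₗ[T] T ⊗[A] (M ⧸ L) := LinearMap.baseChange T (L.mkQ.restrictScalars A)
  have hex : Function.Exact (LinearMap.baseChange T (L.restrictScalars A).subtype) q :=
    lTensor_exact T (f := (L.restrictScalars A).subtype) (g := L.mkQ.restrictScalars A)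
      (fun x => ⟨fun hx => ⟨⟨x, (Submodule.Quotient.mk_eq_zero L).1 hx⟩, rfl⟩,
        fun ⟨y, hy⟩ => hy ▸ (Submodule.Quotient.mk_eq_zero L).2 y.2⟩) L.mkQ_surjective
  have hq : Function.Surjective q := LinearMap.lTensor_surjective T L.mkQ_surjective
  exact Module.Projective.of_equiv (((Submodule.quotEquivOfEq _ _ (LinearMap.exact_iff.1 hex).symm).trans
    (q.quotKerEquivOfSurjective hq)).symm)

open TensorProduct in
theorem flat_map_range {A T M : Type u} [CommRing A] [CommRing T] [Algebra A T] [AddCommGroup M] [Module A M]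
    (L₁ L₂ : Submodule A M) (hle : L₁ ≤ L₂)
    (h₁ : Module.Projective T ((T ⊗[A] M) ⧸ LinearMap.range (LinearMap.baseChange T L₁.subtype)))
    (h₂ : Module.Projective T ((T ⊗[A] M) ⧸ LinearMap.range (LinearMap.baseChange T L₂.subtype))) :
    Module.Flat T ↥(Submodule.map (LinearMap.range (LinearMap.baseChange T L₁.subtype)).mkQ
      (LinearMap.range (LinearMap.baseChange T L₂.subtype))) := by
  refine flat_map_mkQ _ _ ?_
  rintro _ ⟨z, rfl⟩
  refine ⟨LinearMap.baseChange T (Submodule.inclusion hle) z, ?_⟩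
  rw [← LinearMap.comp_apply, ← LinearMap.baseChange_comp, Submodule.subtype_comp_inclusion]

open TensorProduct in
theorem flat_gr {A T B M : Type u} [CommRing A] [CommRing T] [Algebra A T] [CommRing B] [Algebra A B]
    [AddCommGroup M] [Module A M] [Module B M] [IsScalarTower A B M] (J : Ideal B)
    (h : ∀ k, Module.Projective T (T ⊗[A] (M ⧸ (J ^ k • ⊤ : Submodule B M)))) (n : ℕ) :
    Module.Flat T
      ↥(Submodule.map
          (LinearMap.range (LinearMap.baseChange T
            ((J ^ (n + 1) • (⊤ : Submodule B M)).restrictScalars A).subtype)).mkQ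
          (LinearMap.range (LinearMap.baseChange T
            ((J ^ n • (⊤ : Submodule B M)).restrictScalars A).subtype))) := by
  haveI := h n
  haveI := h (n + 1)
  exact flat_map_range ((J ^ (n + 1) • (⊤ : Submodule B M)).restrictScalars A)
    ((J ^ n • (⊤ : Submodule B M)).restrictScalars A)
    (fun x hx => (Submodule.smul_mono (Ideal.pow_le_pow_right (I := J) n.le_succ) (le_refl (⊤ : Submodule B M))) hx)
    (projective_quot_range (A := A) (T := T) (J ^ (n + 1) • (⊤ : Submodule B M)))
    (projective_quot_range (A := A) (T := T) (J ^ n • (⊤ : Submodule B M)))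

open AlgebraicGeometry CategoryTheory in
/-- Suppose A₀ is a Noetherian ring and B₀ is a finitely generated A₀-algebra; fix an ideal J₀ ⊆ B₀ and
a finite B₀-module M₀. Then Spec A₀ admits finitely many affine subschemes S_1, …, S_m — presented
as immersions Spec A_i → Spec A₀ — whose underlying sets are mutually disjoint with union all of
Spec A₀, such that each S_i is open in S_i ∪ S_{i+1} ∪ … ∪ S_m, and such that for each i, setting
N_i = A_i ⊗_{A₀} M₀, the graded module associated to the J₀-adic filtration on N_i is A_i-flat.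
Concretely, for every n the A_i-module J₀ⁿN_i / J₀ⁿ⁺¹N_i is flat, where this quotient is encoded as
the image of J₀ⁿN_i inside N_i / J₀ⁿ⁺¹N_i, and J₀ⁿN_i denotes the image in N_i of A_i ⊗_{A₀} J₀ⁿM₀. -/
theorem result {A₀ : Type u} [CommRing A₀] [IsNoetherianRing A₀]
    {B₀ : Type u} [CommRing B₀] [Algebra A₀ B₀] [Algebra.FiniteType A₀ B₀] (J₀ : Ideal B₀)
    (M₀ : Type u) [AddCommGroup M₀] [Module B₀ M₀] [Module A₀ M₀] [IsScalarTower A₀ B₀ M₀]
    [Module.Finite B₀ M₀] :
    ∃ (m : ℕ) (A : Fin m → Type u) (_ : ∀ i, CommRing (A i)) (_ : ∀ i, Algebra A₀ (A i)),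
      (∀ i, IsImmersion (Spec.map (CommRingCat.ofHom (algebraMap A₀ (A i))))) ∧
      (∀ i j, i ≠ j → Disjoint (Set.range (Spec.map (CommRingCat.ofHom (algebraMap A₀ (A i)))))
        (Set.range (Spec.map (CommRingCat.ofHom (algebraMap A₀ (A j)))))) ∧
      (⋃ i, Set.range (Spec.map (CommRingCat.ofHom (algebraMap A₀ (A i)))) = Set.univ) ∧
      (∀ i, ∃ U : Set (Spec (CommRingCat.of A₀)), IsOpen U ∧
        U ∩ (⋃ j, ⋃ (_ : i ≤ j), Set.range (Spec.map (CommRingCat.ofHom (algebraMap A₀ (A j))))) =
          Set.range (Spec.map (CommRingCat.ofHom (algebraMap A₀ (A i))))) ∧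
      ∀ i (n : ℕ), Module.Flat (A i)
        ↥(Submodule.map
            (LinearMap.range (LinearMap.baseChange (A i)
              ((J₀ ^ (n + 1) • (⊤ : Submodule B₀ M₀)).restrictScalars A₀).subtype)).mkQ
            (LinearMap.range (LinearMap.baseChange (A i)
              ((J₀ ^ n • (⊤ : Submodule B₀ M₀)).restrictScalars A₀).subtype))) := by
  classical
  obtain ⟨E, hE⟩ := GrFlat5.exists_finset_pieces (A := A₀) J₀ M₀
  let L : List (Finset A₀) := E.powerset.toList.mergeSort fun a b => decide (b.card ≤ a.card)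
  have hmemL : ∀ S, S ∈ L ↔ S ⊆ E := fun S => by simp [L]
  have hnd : L.Nodup := (List.mergeSort_perm _ _).nodup_iff.2 E.powerset.nodup_toList
  have hpair : L.Pairwise fun a b => b.card ≤ a.card :=
    (List.pairwise_mergeSort (fun a b c => by simpa using fun h1 h2 => le_trans h2 h1)
      (fun a b => by simpa using le_total _ _) _).imp (by simp)
  let e : Fin L.length → A₀ := fun i => ∏ t ∈ L[i], t
  let I : Fin L.length → Ideal A₀ := fun i => Ideal.span (e '' {j | j < i})
  let A : Fin L.length → Type u := fun i =>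
    Localization.Away (e i) ⧸ (I i).map (algebraMap A₀ (Localization.Away (e i)))
  letI : ∀ i, CommRing (A i) := fun i =>
    inferInstanceAs (CommRing (Localization.Away (e i) ⧸ (I i).map (algebraMap A₀ (Localization.Away (e i)))))
  letI : ∀ i, Algebra A₀ (A i) := fun i =>
    inferInstanceAs (Algebra A₀ (Localization.Away (e i) ⧸ (I i).map (algebraMap A₀ (Localization.Away (e i)))))
  let ι : ∀ i, Localization.Away (e i) →+* A i := fun i => Ideal.Quotient.mk _
  have hcomp : ∀ i, algebraMap A₀ (A i) = (ι i).comp (algebraMap A₀ (Localization.Away (e i))) := fun i => rfl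
  -- on each stratum every element of `E` is a unit or zero
  have hdich : ∀ i, ∀ t ∈ E, IsUnit (algebraMap A₀ (A i) t) ∨ algebraMap A₀ (A i) t = 0 := by
    intro i t ht
    have hu : IsUnit (algebraMap A₀ (A i) (e i)) := by
      rw [hcomp]
      exact (IsLocalization.Away.algebraMap_isUnit (e i)).map (ι i)
    by_cases htS : t ∈ L[i]
    · exact Or.inl (isUnit_of_dvd_unit (map_dvd _ (Finset.dvd_prod_of_mem _ htS)) hu)
    · obtain ⟨j, hj, hjeq⟩ := List.getElem_of_mem
        ((hmemL (insert t L[i])).2 (Finset.insert_subset ht ((hmemL _).1 (List.getElem_mem _))))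
      have hcard : (L[i]).card < (L[j]).card := by rw [hjeq, Finset.card_insert_of_notMem htS]; omega
      have hji : j < i.1 := by
        rcases lt_trichotomy j i.1 with h | h | h
        · exact h
        · exact absurd hcard (by simp [h])
        · exact absurd (List.pairwise_iff_getElem.1 hpair i.1 j i.2 hj h) (not_le.2 hcard)
      have h0 : algebraMap A₀ (A i) (e ⟨j, hj⟩) = 0 := by
        rw [hcomp]
        exact Ideal.Quotient.eq_zero_iff_mem.2
          (Ideal.mem_map_of_mem _ (Ideal.subset_span ⟨⟨j, hj⟩, hji, rfl⟩))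
      have hej : e ⟨j, hj⟩ = t * e i := by
        show ∏ x ∈ L[j], x = _
        rw [hjeq, Finset.prod_insert htS]
      rw [hej, map_mul] at h0
      exact Or.inr (hu.mul_left_eq_zero.1 h0)
  -- the underlying sets
  let S : Fin L.length → Set (PrimeSpectrum A₀) := fun i =>
    (PrimeSpectrum.basicOpen (e i) : Set (PrimeSpectrum A₀)) ∩ PrimeSpectrum.zeroLocus (I i : Set A₀)
  have hS : ∀ i, Set.range (PrimeSpectrum.comap (algebraMap A₀ (A i))) = S i := by
    intro i
    rw [hcomp, PrimeSpectrum.comap_comp, Set.range_comp,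
      range_comap_of_surjective _ (ι i) Ideal.Quotient.mk_surjective]
    rw [show RingHom.ker (ι i) = (I i).map (algebraMap A₀ (Localization.Away (e i))) from Ideal.mk_ker,
      show PrimeSpectrum.zeroLocus (((I i).map (algebraMap A₀ (Localization.Away (e i)))) : Set (Localization.Away (e i))) =
        PrimeSpectrum.comap (algebraMap A₀ (Localization.Away (e i))) ⁻¹' PrimeSpectrum.zeroLocus (I i : Set A₀) from
        (PrimeSpectrum.zeroLocus_span _).trans (PrimeSpectrum.preimage_comap_zeroLocus _ _).symm,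
      Set.image_preimage_eq_inter_range, PrimeSpectrum.localization_away_comap_range _ (e i)]
    exact Set.inter_comm _ _
  have hrange : ∀ i, Set.range (Spec.map (CommRingCat.ofHom (algebraMap A₀ (A i)))) = S i := hS
  refine ⟨L.length, A, inferInstance, inferInstance, fun i => ?_, fun i j hij => ?_, ?_, fun i => ?_, fun i n => ?_⟩
  · rw [hcomp, CommRingCat.ofHom_comp, Spec.map_comp]
    haveI : IsClosedImmersion (Spec.map (CommRingCat.ofHom (ι i))) :=
      IsClosedImmersion.spec_of_surjective (CommRingCat.ofHom (ι i)) Ideal.Quotient.mk_surjective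
    haveI : IsOpenImmersion (Spec.map (CommRingCat.ofHom (algebraMap A₀ (Localization.Away (e i))))) :=
      IsOpenImmersion.of_isLocalization (e i)
    infer_instance
  · rw [hrange i, hrange j]
    refine Set.disjoint_left.2 fun x hxi hxj => ?_
    rcases lt_or_gt_of_ne hij with h | h
    · exact hxi.1 (hxj.2 (Ideal.subset_span ⟨i, h, rfl⟩))
    · exact hxj.1 (hxi.2 (Ideal.subset_span ⟨j, h, rfl⟩))
  · simp only [hrange]
    refine Set.eq_univ_of_forall fun x => ?_
    have hex : ∃ i : Fin L.length, e i ∉ x.asIdeal := by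
      obtain ⟨k, hk, hk0⟩ := List.getElem_of_mem ((hmemL ∅).2 (Finset.empty_subset _))
      refine ⟨⟨k, hk⟩, ?_⟩
      show ∏ t ∈ L[k], t ∉ x.asIdeal
      rw [hk0, Finset.prod_empty]
      exact (Ideal.ne_top_iff_one _).1 x.isPrime.ne_top
    obtain ⟨i, hi, hmin⟩ := WellFounded.has_min (r := ((· < ·) : Fin L.length → Fin L.length → Prop)) wellFounded_lt {i | e i ∉ x.asIdeal} hex
    refine Set.mem_iUnion.2 ⟨i, hi, ?_⟩
    refine (PrimeSpectrum.mem_zeroLocus _ _).2 (Ideal.span_le.2 ?_)
    rintro _ ⟨j, hj, rfl⟩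
    by_contra h
    exact hmin j h hj
  · refine ⟨(PrimeSpectrum.basicOpen (e i) : Set (PrimeSpectrum A₀)), (PrimeSpectrum.basicOpen (e i)).2, ?_⟩
    simp only [hrange]
    refine Set.Subset.antisymm (fun x hx => ?_) fun x hx => ⟨hx.1, Set.mem_iUnion₂.2 ⟨i, le_rfl, hx⟩⟩
    obtain ⟨j, hij, hxj⟩ := Set.mem_iUnion₂.1 hx.2
    rcases hij.eq_or_lt with rfl | h
    · exact hxj
    · exact absurd (hxj.2 (Ideal.subset_span ⟨i, h, rfl⟩)) hx.1
  · exact flat_gr (A := A₀) (T := A i) J₀ (hE (A i) (hdich i)) n

end Groth.Agent.S12134
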