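import Groth.Statements.S12148
import Groth.Agent.ProjQ.Comp
-- import your own Groth.Agent.* helpers here

set_option autoImplicit false
universe u
open CategoryTheory CategoryTheory.Limits AlgebraicGeometry TopologicalSpace Opposite
open scoped HomogeneousIdeal
noncomputable section
open EGA2

namespace Groth.Agent.S12148

/-- Let q : X → Y be a morphism, L an invertible O_X-module with 𝒮L = ⊕ L^{⊗n} (whose Proj, with its
charts, is X), v : 𝒯 → 𝒮 a graded homomorphism of quasi-coherent positively graded O_Y-algebras, ψ♭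
= u : 𝒮 → q_*𝒮L a graded q-morphism and ψ'♭ = u' its composite with v; let r = r_{L,ψ} : G(ψ) →
Proj(𝒮) and r' = r_{L,ψ'} : G(ψ') → Proj(𝒯) be the associated morphisms. If v is (TN)-surjective
(there is n with v : 𝒯_k → 𝒮_k surjective for every k ≥ n, on sections over affine opens) and r' is
dominant, then r is dominant. -/
theorem result {Y X P PL P' : Scheme.{u}} (q : X ⟶ Y)
    (L : X.Modules) (hL : PicF.IsInvertible L) (hLq : Coh.IsQCoh L)
    (𝒮 : RelProj.QCGrAlg Y) (𝒮L : RelProj.QCGrAlg X) (j : L ⟶ 𝒮L.toModule) (hj : RelProj.IsGrSymAlg L 𝒮L j)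
    (u : RelProj.QGrHom q 𝒮 𝒮L)
    (p : P ⟶ Y) (chart : ∀ (U : Y.Opens) (hU : IsAffineOpen U), (((p ⁻¹ᵁ U : P.Opens) : Scheme.{u}) ≅ Proj (𝒮.deg U hU)))
    (hP : RelProj.IsRelProj 𝒮 p chart)
    (pL : PL ⟶ X) (chartL : ∀ (U : X.Opens) (hU : IsAffineOpen U), (((pL ⁻¹ᵁ U : PL.Opens) : Scheme.{u}) ≅ Proj (𝒮L.deg U hU)))
    (hPL : RelProj.IsRelProj 𝒮L pL chartL)
    (r : ((RelProj.domQ u pL chartL : PL.Opens) : Scheme.{u}) ⟶ P)
    (hr : RelProj.IsProjQMapOn u p chart pL chartL (RelProj.domQ u pL chartL) r)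
    (𝒯 : RelProj.QCGrAlg Y) (v : 𝒯.toQCAlg ⟶ 𝒮.toQCAlg) (hv : RelProj.IsGradedHom v)
    (u' : RelProj.QGrHom q 𝒯 𝒮L) (hu' : ∀ U : Y.Opens, u'.app U = v.hom.app (op U) ≫ u.app U)
    (p' : P' ⟶ Y) (chart' : ∀ (U : Y.Opens) (hU : IsAffineOpen U), (((p' ⁻¹ᵁ U : P'.Opens) : Scheme.{u}) ≅ Proj (𝒯.deg U hU)))
    (hP' : RelProj.IsRelProj 𝒯 p' chart')
    (r' : ((RelProj.domQ u' pL chartL : PL.Opens) : Scheme.{u}) ⟶ P')
    (hr' : RelProj.IsProjQMapOn u' p' chart' pL chartL (RelProj.domQ u' pL chartL) r')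
    (hTN : ∃ n : ℕ, ∀ k, n ≤ k → ∀ (U : Y.Opens) (hU : IsAffineOpen U), ∀ y ∈ 𝒮.deg U hU k,
      ∃ x ∈ 𝒯.deg U hU k, (v.hom.app (op U)).hom x = y) (hdom : IsDominant r') :
    IsDominant r := by
    obtain ⟨n, hn⟩ := hTN
    have hΦtop := Groth.Agent.ProjQ.domQ_ofHom_eq_top_of_TN (chartB := chart) v hv hP ⟨n, hn⟩
    obtain ⟨Φ, hΦ, -⟩ := Groth.Agent.ProjQ.existsUnique_projQMap (RelProj.QGrHom.ofHom v hv) hP hP'
    haveI : IsClosedImmersion Φ := Groth.Agent.ProjQ.ofHom_of_away v hv hP' hP @IsClosedImmersion hΦ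
      fun U hU d f hd hf => IsClosedImmersion.spec_of_surjective _
        (Groth.Agent.ProjQ.awayMap_surjective_TN (RelProj.gradedHomAt v hv U hU) hd hf n fun k hk => hn k hk U hU)
    haveI := Groth.Agent.ProjQ.isIso_ι_of_eq_top hΦtop
    have h1 := Groth.Agent.ProjQ.compMor_comp v hv u u' hu' hP hPL hr hΦ hr'
    have h2 := Groth.Agent.ProjQ.compMor_ι v hv u u' hu' hP hPL hr
    set c := Groth.Agent.ProjQ.compMor v hv u u' hu' hP hPL hr
    haveI : IsDominant c := ⟨fun y => by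
      rw [Φ.isEmbedding.closure_eq_preimage_closure_image, Set.mem_preimage, ← Set.range_comp,
        ← TopCat.coe_comp, ← Scheme.Hom.comp_base, h1]
      exact hdom.denseRange _⟩
    have h3 : IsDominant (c ≫ (RelProj.domQ (RelProj.QGrHom.ofHom v hv) p chart).ι) := inferInstance
    refine ⟨h3.denseRange.mono ?_⟩
    rw [h2]
    rintro _ ⟨z, rfl⟩
    exact ⟨_, (Scheme.Hom.comp_apply _ _ z).symm⟩

end Groth.Agent.S12148
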