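import Groth.Statements.S12149
import Groth.Agent.ProjQ.Comp
-- import your own Groth.Agent.* helpers here

set_option autoImplicit false
universe u
open CategoryTheory CategoryTheory.Limits AlgebraicGeometry TopologicalSpace Opposite
open scoped HomogeneousIdeal
noncomputable section
open EGA2

namespace Groth.Agent.S12149

/-- Let q : X → Y be a morphism, L an invertible O_X-module with 𝒮L = ⊕ L^{⊗n} (whose Proj, with its
charts, is X), v : 𝒯 → 𝒮 a graded homomorphism of quasi-coherent positively graded O_Y-algebras, ψ♭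
= u : 𝒮 → q_*𝒮L a graded q-morphism and ψ'♭ = u' its composite with v; let r = r_{L,ψ} : G(ψ) →
Proj(𝒮) and r' = r_{L,ψ'} : G(ψ') → Proj(𝒯) be the associated morphisms. If v is (TN)-injective
(there is n with v injective on 𝒯_k for every k ≥ n, on sections over affine opens) and r is
dominant, then r' is dominant. -/
theorem result {Y X P PL P' : Scheme.{u}} (q : X ⟶ Y)
    (L : X.Modules) (hL : PicF.IsInvertible L) (hLq : Coh.IsQCoh L)
    (𝒮 : RelProj.QCGrAlg Y) (𝒮L : RelProj.QCGrAlg X) (j : L ⟶ 𝒮L.toModule) (hj : RelProj.IsGrSymAlg L 𝒮L j)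
    (u : RelProj.QGrHom q 𝒮 𝒮L)
    (p : P ⟶ Y) (chart : ∀ (U : Y.Opens) (hU : IsAffineOpen U), (((p ⁻¹ᵁ U : P.Opens) : Scheme.{u}) ≅ Proj (𝒮.deg U hU)))
    (hP : RelProj.IsRelProj 𝒮 p chart)
    (pL : PL ⟶ X) (chartL : ∀ (U : X.Opens) (hU : IsAffineOpen U), (((pL ⁻¹ᵁ U : PL.Opens) : Scheme.{u}) ≅ Proj (𝒮L.deg U hU)))
    (hPL : RelProj.IsRelProj 𝒮L pL chartL)
    (r : ((RelProj.domQ u pL chartL : PL.Opens) : Scheme.{u}) ⟶ P)
    (hr : RelProj.IsProjQMapOn u p chart pL chartL (RelProj.domQ u pL chartL) r)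
    (𝒯 : RelProj.QCGrAlg Y) (v : 𝒯.toQCAlg ⟶ 𝒮.toQCAlg) (hv : RelProj.IsGradedHom v)
    (u' : RelProj.QGrHom q 𝒯 𝒮L) (hu' : ∀ U : Y.Opens, u'.app U = v.hom.app (op U) ≫ u.app U)
    (p' : P' ⟶ Y) (chart' : ∀ (U : Y.Opens) (hU : IsAffineOpen U), (((p' ⁻¹ᵁ U : P'.Opens) : Scheme.{u}) ≅ Proj (𝒯.deg U hU)))
    (hP' : RelProj.IsRelProj 𝒯 p' chart')
    (r' : ((RelProj.domQ u' pL chartL : PL.Opens) : Scheme.{u}) ⟶ P')
    (hr' : RelProj.IsProjQMapOn u' p' chart' pL chartL (RelProj.domQ u' pL chartL) r')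
    (hTN : ∃ n : ℕ, ∀ k, n ≤ k → ∀ (U : Y.Opens) (hU : IsAffineOpen U), ∀ x ∈ 𝒯.deg U hU k,
      (v.hom.app (op U)).hom x = 0 → x = 0) (hdom : IsDominant r) :
    IsDominant r' := by
    obtain ⟨n, hn⟩ := hTN
    obtain ⟨Φ, hΦ, -⟩ := Groth.Agent.ProjQ.existsUnique_projQMap (RelProj.QGrHom.ofHom v hv) hP hP'
    have h1 := Groth.Agent.ProjQ.compMor_comp v hv u u' hu' hP hPL hr hΦ hr'
    have h2 := Groth.Agent.ProjQ.compMor_ι v hv u u' hu' hP hPL hr
    set c := Groth.Agent.ProjQ.compMor v hv u u' hu' hP hPL hr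
    haveI : IsDominant c := ⟨fun y => mem_closure_iff.2 fun O hO hyO => by
      obtain ⟨_, ⟨y', hy', rfl⟩, ⟨x, hx⟩⟩ := mem_closure_iff.1 (hdom.denseRange y.1) _
        ((RelProj.domQ (RelProj.QGrHom.ofHom v hv) p chart).ι.isOpenEmbedding.isOpenMap O hO) ⟨y, hyO, rfl⟩
      have hm : x.1 ∈ RelProj.domQ u' pL chartL :=
        (Groth.Agent.ProjQ.mem_domQ_comp_iff v hv u u' hu' hP hPL hr x).2 (hx ▸ y'.2)
      refine ⟨y', hy', ⟨x.1, hm⟩, (RelProj.domQ (RelProj.QGrHom.ofHom v hv) p chart).ι.isOpenEmbedding.injective ?_⟩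
      rw [← Scheme.Hom.comp_apply, h2, Scheme.Hom.comp_apply, ← hx]
      exact congrArg r (Subtype.ext (Scheme.homOfLE_apply _ _))⟩
    haveI : IsDominant Φ := ⟨fun y => mem_closure_iff.2 fun O hO hyO => by
      obtain ⟨U, hU, hyU, -⟩ := exists_isAffineOpen_mem_and_subset (X := Y) (x := p' y) (U := ⊤) trivial
      obtain ⟨w, rfl⟩ := Groth.Agent.ProjQ.exists_emb (chart := chart') hU hyU
      obtain ⟨d, f, hd, hf, hwf, hsub⟩ := Groth.Agent.Proj16.exists_basicOpen_subset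
        (hO.preimage (RelProj.emb p' chart' U hU).continuous) hyO
      obtain ⟨w', -, hw'⟩ := Groth.Agent.Proj16.exists_point (𝒮.deg U hU) (Ideal.IsHomogeneous.bot (𝒮.deg U hU)) hd
        ((RelProj.gradedHomAt v hv U hU).map_mem hf) (by
          rintro ⟨k, hk⟩
          refine hwf (w.isPrime.mem_of_pow_mem (n + k) ?_)
          rw [hn ((n + k) • d) (le_trans (Nat.le_add_right n k) (Nat.le_mul_of_pos_right _ hd)) U hU (f ^ (n + k))
            (SetLike.pow_mem_graded (n + k) hf)]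
          · exact zero_mem _
          · show RelProj.gradedHomAt v hv U hU (f ^ (n + k)) = 0
            rw [map_pow, pow_add]
            exact mul_eq_zero_of_right _ (Ideal.mem_bot.1 hk))
      have hz : RelProj.emb p chart U hU w' ∈ Groth.Agent.ProjQ.pbasic chart U hU (RelProj.gradedHomAt v hv U hU f) :=
        Groth.Agent.ProjQ.emb_mem_pbasic.2 hw'
      have hzU := Groth.Agent.ProjQ.pbasic_le hz
      let z : ((RelProj.domQ (RelProj.QGrHom.ofHom v hv) p chart : P.Opens) : Scheme.{u}) :=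
        ⟨_, (Groth.Agent.ProjQ.mem_domQ_ofHom_iff v hv hP hU hzU).2 ⟨d, f, hd, hf, hz⟩⟩
      rw [← Groth.Agent.ProjQ.ofHom_gradedAt_self v hv U hU] at hz
      obtain ⟨w1, hw1, e⟩ := (Groth.Agent.ProjQ.apply_mem_iff (RelProj.QGrHom.ofHom v hv) hP' hP hΦ z hU hU le_rfl hzU
        hd f hf).2 hz
      exact ⟨Φ z, e ▸ hsub hw1, z, rfl⟩⟩
    rw [← h1]
    infer_instance

end Groth.Agent.S12149
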