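import Groth.Statements.S12150
import Groth.Agent.ProjQ.ImmCrit
-- import your own Groth.Agent.* helpers here

set_option autoImplicit false
universe u
open CategoryTheory CategoryTheory.Limits AlgebraicGeometry TopologicalSpace Opposite
open scoped HomogeneousIdeal
noncomputable section
open EGA2

namespace Groth.Agent.S12150

/-- Let q : X → Y be a morphism with Y affine, L an invertible O_X-module with 𝒮L = ⊕ L^{⊗n} (whose Proj
is X), 𝒮 a quasi-coherent positively graded O_Y-algebra with S = Γ(Y, 𝒮), ψ♭ = u : 𝒮 → q_*𝒮L a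
graded q-morphism and r = r_{L,ψ} : G(ψ) → P = Proj(𝒮). For a family s_a ∈ S_{n_a} (n_a > 0) put f_a
= ψ♭(s_a) ∈ Γ(X, L^{⊗n_a}) and let X_{f_a} be the open where f_a does not vanish; conditions: (i)
the X_{f_a} cover X; (ii) the X_{f_a} are affine; (iii) every function t on X_{f_a} is of the form
ψ♭(s') f_a^{-m} with m > 0 and s' ∈ S_{m n_a} (that is, t f_a^m = ψ♭(s') in 𝒮L(X_{f_a})). Then r is
everywhere defined (G(ψ) = X) and an immersion if and only if there is a family (s_a) satisfying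
(i), (ii) and (iii). -/
theorem result {Y X P PL : Scheme.{u}} (q : X ⟶ Y)
    (L : X.Modules) (hL : PicF.IsInvertible L) (hLq : Coh.IsQCoh L)
    (𝒮 : RelProj.QCGrAlg Y) (𝒮L : RelProj.QCGrAlg X) (j : L ⟶ 𝒮L.toModule) (hj : RelProj.IsGrSymAlg L 𝒮L j)
    (u : RelProj.QGrHom q 𝒮 𝒮L)
    (p : P ⟶ Y) (chart : ∀ (U : Y.Opens) (hU : IsAffineOpen U), (((p ⁻¹ᵁ U : P.Opens) : Scheme.{u}) ≅ Proj (𝒮.deg U hU)))
    (hP : RelProj.IsRelProj 𝒮 p chart)
    (pL : PL ⟶ X) (chartL : ∀ (U : X.Opens) (hU : IsAffineOpen U), (((pL ⁻¹ᵁ U : PL.Opens) : Scheme.{u}) ≅ Proj (𝒮L.deg U hU)))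
    (hPL : RelProj.IsRelProj 𝒮L pL chartL)
    (r : ((RelProj.domQ u pL chartL : PL.Opens) : Scheme.{u}) ⟶ P)
    (hr : RelProj.IsProjQMapOn u p chart pL chartL (RelProj.domQ u pL chartL) r)
    (hY : IsAffineOpen (⊤ : Y.Opens)) :
    (RelProj.domQ u pL chartL = ⊤ ∧ IsImmersion r) ↔
      ∃ (ι : Type u) (n : ι → ℕ) (s : ι → 𝒮.presheaf.obj (op ⊤)) (XT : ι → X.Opens),
        (∀ a, 0 < n a ∧ s a ∈ 𝒮.deg ⊤ hY (n a)) ∧
        (∀ a, XT a = (⨆ V : {V : X.affineOpens //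
          ((𝒮L.deg V.1 V.2 (n a) : AddSubgroup (𝒮L.presheaf.obj (op (V.1 : X.Opens)))) : Set (𝒮L.presheaf.obj (op (V.1 : X.Opens)))) ⊆
            (Ideal.span {(u.appLE ⊤ (V.1 : X.Opens) (le_top.trans (Scheme.Hom.preimage_top q).ge)).hom (s a)} : Set (𝒮L.presheaf.obj (op (V.1 : X.Opens))))},
          (V.1.1 : X.Opens))) ∧
        (⨆ a, XT a) = ⊤ ∧ (∀ a, IsAffineOpen (XT a)) ∧
        (∀ (a : ι) (t : X.presheaf.obj (op (XT a))), ∃ (m : ℕ) (_ : 0 < m) (s' : 𝒮.presheaf.obj (op ⊤)) (_ : s' ∈ 𝒮.deg ⊤ hY (m * n a)),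
            (𝒮L.str.app (op (XT a))).hom t * ((u.appLE ⊤ (XT a) (le_top.trans (Scheme.Hom.preimage_top q).ge)).hom (s a)) ^ m =
              (u.appLE ⊤ (XT a) (le_top.trans (Scheme.Hom.preimage_top q).ge)).hom s') := by
    haveI := Groth.Agent.ProjQ.isIso_structure hLq hj hPL hL
    constructor
    · rintro ⟨hdom, himm⟩
      obtain ⟨F, hle, -⟩ := Groth.Agent.ProjQ.exists_family u hY hL hLq hj hPL hP hr hdom r.coborderRange r.liftCoborder
        r.liftCoborder_ι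
      refine ⟨F.ι, F.deg, F.sec, fun a => Groth.Agent.ProjQ.genOpen (𝒮L := 𝒮L) u (F.deg a) (F.sec a),
        fun a => ⟨F.deg_pos a, F.sec_mem a⟩, fun a => rfl, F.cover, F.affine, fun a t => ?_⟩
      have h1 := Groth.Agent.ProjQ.kmap_of_factor u hY hL hLq hj hPL hP hr (F.deg_pos a) (F.sec_mem a) r.coborderRange
        r.liftCoborder r.liftCoborder_ι @IsClosedImmersion inferInstance (hle a) (F.affine a)
      exact (Groth.Agent.ProjQ.theta_surjective_iff u hY hL hLq hj hPL hP hr (F.deg_pos a) (F.sec_mem a) (F.affine a)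
        le_rfl).1 (Groth.Agent.ProjQ.surjective_of_isClosedImmersion _ h1) t
    · rintro ⟨ι, n, s, XT, hns, hXT, hcov, haff, hsurj⟩
      obtain rfl : XT = fun a => Groth.Agent.ProjQ.genOpen (𝒮L := 𝒮L) u (n a) (s a) := funext hXT
      let F : Groth.Agent.ProjQ.Family (𝒮L := 𝒮L) u hY := ⟨ι, n, s, fun a => (hns a).1, fun a => (hns a).2, hcov, haff⟩
      refine ⟨F.domQ_eq_top u hY hL hLq hj hPL, ?_⟩
      obtain ⟨r', hr', hcl⟩ := F.exists_factor u hY hL hLq hj hPL hP hr @IsClosedImmersion fun a =>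
        IsClosedImmersion.spec_of_surjective _
          ((Groth.Agent.ProjQ.theta_surjective_iff u hY hL hLq hj hPL hP hr (hns a).1 (hns a).2 (haff a) le_rfl).2 (hsurj a))
      rw [← hr']
      haveI := hcl
      infer_instance

end Groth.Agent.S12150
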