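import Groth.Statements.S12154
import Groth.Agent.ProjQ.Comp
-- import your own Groth.Agent.* helpers here

set_option autoImplicit false
universe u
open CategoryTheory CategoryTheory.Limits AlgebraicGeometry TopologicalSpace Opposite
open scoped HomogeneousIdeal
noncomputable section
open EGA2

namespace Groth.Agent.S12154

/-- Let q : X → Y be a morphism, L an invertible O_X-module with 𝒮L = ⊕ L^{⊗n} (whose Proj, with its
charts, is X), v : 𝒯 → 𝒮 a graded homomorphism of quasi-coherent positively graded O_Y-algebras, ψ♭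
= u : 𝒮 → q_*𝒮L a graded q-morphism and ψ'♭ = u' its composite with v; let r = r_{L,ψ} : G(ψ) →
Proj(𝒮) and r' = r_{L,ψ'} : G(ψ') → Proj(𝒯), with r' everywhere defined and v (TN)-surjective (v :
𝒯_k → 𝒮_k surjective for all large k, on sections over affine opens). If r' is an open immersion, so
is r; if r' is a closed immersion, so is r. -/
theorem result {Y X P PL P' : Scheme.{u}} (q : X ⟶ Y)
    (L : X.Modules) (hL : PicF.IsInvertible L) (hLq : Coh.IsQCoh L)
    (𝒮 : RelProj.QCGrAlg Y) (𝒮L : RelProj.QCGrAlg X) (j : L ⟶ 𝒮L.toModule) (hj : RelProj.IsGrSymAlg L 𝒮L j)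
    (u : RelProj.QGrHom q 𝒮 𝒮L)
    (p : P ⟶ Y) (chart : ∀ (U : Y.Opens) (hU : IsAffineOpen U), (((p ⁻¹ᵁ U : P.Opens) : Scheme.{u}) ≅ Proj (𝒮.deg U hU)))
    (hP : RelProj.IsRelProj 𝒮 p chart)
    (pL : PL ⟶ X) (chartL : ∀ (U : X.Opens) (hU : IsAffineOpen U), (((pL ⁻¹ᵁ U : PL.Opens) : Scheme.{u}) ≅ Proj (𝒮L.deg U hU)))
    (hPL : RelProj.IsRelProj 𝒮L pL chartL)
    (r : ((RelProj.domQ u pL chartL : PL.Opens) : Scheme.{u}) ⟶ P)
    (hr : RelProj.IsProjQMapOn u p chart pL chartL (RelProj.domQ u pL chartL) r)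
    (𝒯 : RelProj.QCGrAlg Y) (v : 𝒯.toQCAlg ⟶ 𝒮.toQCAlg) (hv : RelProj.IsGradedHom v)
    (u' : RelProj.QGrHom q 𝒯 𝒮L) (hu' : ∀ U : Y.Opens, u'.app U = v.hom.app (op U) ≫ u.app U)
    (p' : P' ⟶ Y) (chart' : ∀ (U : Y.Opens) (hU : IsAffineOpen U), (((p' ⁻¹ᵁ U : P'.Opens) : Scheme.{u}) ≅ Proj (𝒯.deg U hU)))
    (hP' : RelProj.IsRelProj 𝒯 p' chart')
    (r' : ((RelProj.domQ u' pL chartL : PL.Opens) : Scheme.{u}) ⟶ P')
    (hr' : RelProj.IsProjQMapOn u' p' chart' pL chartL (RelProj.domQ u' pL chartL) r')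
    (hTN : ∃ n : ℕ, ∀ k, n ≤ k → ∀ (U : Y.Opens) (hU : IsAffineOpen U), ∀ y ∈ 𝒮.deg U hU k,
      ∃ x ∈ 𝒯.deg U hU k, (v.hom.app (op U)).hom x = y)
    (hdef : RelProj.domQ u' pL chartL = ⊤) :
    (IsOpenImmersion r' → IsOpenImmersion r) ∧ (IsClosedImmersion r' → IsClosedImmersion r) := by
    obtain ⟨n, hn⟩ := hTN
    have hΦtop := Groth.Agent.ProjQ.domQ_ofHom_eq_top_of_TN (chartB := chart) v hv hP ⟨n, hn⟩
    obtain ⟨Φ, hΦ, -⟩ := Groth.Agent.ProjQ.existsUnique_projQMap (RelProj.QGrHom.ofHom v hv) hP hP'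
    haveI : IsClosedImmersion Φ := Groth.Agent.ProjQ.ofHom_of_away v hv hP' hP @IsClosedImmersion hΦ
      fun U hU d f hd hf => IsClosedImmersion.spec_of_surjective _
        (Groth.Agent.ProjQ.awayMap_surjective_TN (RelProj.gradedHomAt v hv U hU) hd hf n fun k hk => hn k hk U hU)
    have hle := Groth.Agent.ProjQ.domQ_comp_le v hv u u' hu' (p' := pL) (chart' := chartL)
    have htop : RelProj.domQ u pL chartL = ⊤ := top_unique (hdef.ge.trans hle)
    haveI : IsIso (PL.homOfLE hle) := by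
      haveI := Groth.Agent.ProjQ.isIso_ι_of_eq_top hdef
      haveI := Groth.Agent.ProjQ.isIso_ι_of_eq_top htop
      exact IsIso.of_isIso_fac_right (PL.homOfLE_ι hle)
    haveI := Groth.Agent.ProjQ.isIso_ι_of_eq_top hΦtop
    have h1 := Groth.Agent.ProjQ.compMor_comp v hv u u' hu' hP hPL hr hΦ hr'
    have h2 := Groth.Agent.ProjQ.compMor_ι v hv u u' hu' hP hPL hr
    have sq : IsPullback (Groth.Agent.ProjQ.compMor v hv u u' hu' hP hPL hr) (𝟙 _) Φ r' := by
      refine IsPullback.mk' (by rw [Category.id_comp, h1]) (fun T a b _ hb => by simpa using hb) fun T a b hab => ?_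
      refine ⟨b, ?_, Category.comp_id b⟩
      rw [← cancel_mono Φ, Category.assoc, h1, hab]
    have key : ∀ (Pr : MorphismProperty Scheme.{u}) [Pr.IsStableUnderBaseChange] [Pr.RespectsIso], Pr r' → Pr r := by
      intro Pr _ _ h
      have h3 : Pr (Groth.Agent.ProjQ.compMor v hv u u' hu' hP hPL hr) := MorphismProperty.of_isPullback sq.flip h
      have h4 := (MorphismProperty.cancel_right_of_respectsIso Pr _
        (RelProj.domQ (RelProj.QGrHom.ofHom v hv) p chart).ι).mpr h3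
      rw [h2] at h4
      exact (MorphismProperty.cancel_left_of_respectsIso Pr (PL.homOfLE hle) r).mp h4
    exact ⟨key @IsOpenImmersion, key @IsClosedImmersion⟩

end Groth.Agent.S12154
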