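import Groth.Statements.S12166
import Groth.Agent.ProjQ.SameBase
-- import your own Groth.Agent.* helpers here

set_option autoImplicit false
universe u
open CategoryTheory CategoryTheory.Limits AlgebraicGeometry TopologicalSpace Opposite
open scoped HomogeneousIdeal
noncomputable section
open EGA2

namespace Groth.Agent.S12166

/-- Let φ : 𝒜 → ℬ be a graded homomorphism of quasi-coherent positively graded O_Y-algebras which is a
(TN)-isomorphism (φ : 𝒜_k → ℬ_k bijective for all large k, on sections over affine opens), PA =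
Proj(𝒜), PB = Proj(ℬ) with their charts. Then Proj(φ) is defined on all of PB and is an isomorphism
PB → PA. -/
theorem result {Y PA PB : Scheme.{u}} (𝒜 ℬ : RelProj.QCGrAlg Y)
    (φ : 𝒜.toQCAlg ⟶ ℬ.toQCAlg) (hφ : RelProj.IsGradedHom φ)
    (hTN : ∃ n : ℕ, ∀ k, n ≤ k → ∀ (U : Y.Opens) (hU : IsAffineOpen U),
      (∀ x ∈ 𝒜.deg U hU k, (φ.hom.app (op U)).hom x = 0 → x = 0) ∧
        ∀ y ∈ ℬ.deg U hU k, ∃ x ∈ 𝒜.deg U hU k, (φ.hom.app (op U)).hom x = y)
    (pA : PA ⟶ Y) (chartA : ∀ (U : Y.Opens) (hU : IsAffineOpen U), (((pA ⁻¹ᵁ U : PA.Opens) : Scheme.{u}) ≅ Proj (𝒜.deg U hU)))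
    (hA : RelProj.IsRelProj 𝒜 pA chartA)
    (pB : PB ⟶ Y) (chartB : ∀ (U : Y.Opens) (hU : IsAffineOpen U), (((pB ⁻¹ᵁ U : PB.Opens) : Scheme.{u}) ≅ Proj (ℬ.deg U hU)))
    (hB : RelProj.IsRelProj ℬ pB chartB) :
    RelProj.domQ (RelProj.QGrHom.ofHom φ hφ) pB chartB = ⊤ ∧
      ∀ h : PB ⟶ PA, RelProj.IsProjQMap (RelProj.QGrHom.ofHom φ hφ) pA chartA pB chartB h → IsIso h := by
    obtain ⟨n, hn⟩ := hTN
    refine ⟨Groth.Agent.ProjQ.domQ_ofHom_eq_top_of_TN φ hφ hB ⟨n, fun k hk U hU => (hn k hk U hU).2⟩, fun h hh => ?_⟩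
    have key := Groth.Agent.ProjQ.ofHom_of_away' φ hφ hA hB (MorphismProperty.isomorphisms Scheme.{u}) hh
      fun U hU d f hd hf => by
        haveI : IsIso (CommRingCat.ofHom (HomogeneousLocalization.Away.map (RelProj.gradedHomAt φ hφ U hU) f)) :=
          (ConcreteCategory.isIso_iff_bijective _).mpr
            ⟨Groth.Agent.ProjQ.awayMap_injective_TN (RelProj.gradedHomAt φ hφ U hU) hd hf n fun k hk => (hn k hk U hU).1,
              Groth.Agent.ProjQ.awayMap_surjective_TN (RelProj.gradedHomAt φ hφ U hU) hd hf n fun k hk => (hn k hk U hU).2⟩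
        exact (MorphismProperty.isomorphisms.iff _).mpr inferInstance
    exact (MorphismProperty.isomorphisms.iff _).mp key

end Groth.Agent.S12166
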