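import Groth.Statements.S12193
import Groth.Agent.AlgSpDec.RedImage
import Groth.Agent.AlgSpDec.OneFlat
import Groth.Agent.AlgSpLib.OpenMor
import Groth.Agent.AlgSpLib.EtaleSmoothLocal
-- import your own Groth.Agent.* helpers here

set_option autoImplicit false
universe u

set_option backward.isDefEq.respectTransparency false
set_option backward.isDefEq.respectTransparency.types false
open CategoryTheory CategoryTheory.Limits AlgebraicGeometry
open AlgSp

namespace Groth.Agent.S12193

open AlgSp Groth.Agent.AlgSpLib Groth.Agent.AlgSpPts Groth.Agent.AlgSpDec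

/-- Let X be a reduced algebraic space over S, f : X → Y a morphism of algebraic spaces over S, and Z →
Y the scheme theoretic image of f. Then forming the scheme theoretic image commutes with etale base
change: for every etale morphism V → Y of algebraic spaces and cartesian squares X ×_Y V, Z ×_Y V,
the closed subspace Z ×_Y V → V is the scheme theoretic image of X ×_Y V → V. -/
theorem result {S : Scheme.{u}} {X Y Z V XV ZV : AlgSp.Space S} (f : X ⟶ Y)
    (i : Z ⟶ Y) (hX : AlgSp.IsReducedSp X.obj) (hZ : AlgSp.IsSchImage f.hom i.hom) (b : V ⟶ Y)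
    (hb : AlgSp.IsEtaleMor b.hom) (f₁ : XV ⟶ X) (fV : XV ⟶ V) (i₁ : ZV ⟶ Z) (iV : ZV ⟶ V)
    (sqX : IsPullback f₁.hom fV.hom f.hom b.hom) (sqZ : IsPullback i₁.hom iV.hom i.hom b.hom) :
    AlgSp.IsSchImage fV.hom iV.hom := by
  have hZr := (isRedInduced_of_schImage Y.property hX hZ)
  obtain ⟨hic, hrange, hZred⟩ := hZr
  have hiV : RepWith @IsClosedImmersion iV.hom := repWith_of_isPullback sqZ hic
  obtain ⟨f', hf'⟩ := hZ.2.1
  refine ⟨hiV, ⟨sqZ.lift (f₁.hom ≫ f') fV.hom (by rw [Category.assoc, hf', sqX.w]), sqZ.lift_snd _ _ _⟩, ?_⟩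
  intro Z' i' hZ' hi' ⟨f'', hf''⟩
  have hle := locP_etale_of_isEtaleMor hb
  have hi₁ : IsEtaleMor i₁.hom :=
    isEtaleMor_of_isPullback sqZ.flip V.property Y.property Z.property hb
  obtain ⟨T, a, ha, has⟩ := ZV.property.atlas
  have hZVr : IsReducedSp ZV.obj :=
    ⟨T, a, ha, has, Groth.Agent.AlgSpDec.isReduced_chart hZred (hi₁ a ha)⟩
  refine exists_factor_reduced hZVr iV.hom hi' ?_
  have hcl : IsClosed (Set.range (Points.map i')) :=
    (isClosedMap_map (repWith_mono (fun _ _ e (_ : IsClosedImmersion e) => inferInstanceAs (UniversallyClosed e)) _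
      hi')).isClosed_range
  have hopen : IsOpenMap (Points.map b.hom) :=
    Groth.Agent.AlgSpLib.isOpenMap_map_of_fppf V.property Y.property b.hom
      (locP_mono (P := @Etale) (fun _ _ g (_ : Etale g) => inferInstanceAs (Flat g)) hle)
      (locP_mono (P := @Etale) (fun _ _ g (_ : Etale g) => inferInstanceAs (LocallyOfFinitePresentation g)) hle)
  rintro _ ⟨z, rfl⟩
  refine closure_minimal (s := Points.map b.hom ⁻¹' Set.range (Points.map f.hom)) ?_ hcl ?_
  · rintro v ⟨x, hx⟩
    obtain ⟨p, -, rfl⟩ := exists_point_of_isPullback sqX hx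
    exact ⟨Points.map f'' p, by rw [← Points.map_comp, hf'']⟩
  · apply hopen.preimage_closure_subset_closure_preimage
    rw [Set.mem_preimage, ← Points.map_comp, ← sqZ.w, Points.map_comp, ← hrange]
    exact Set.mem_range_self _

end Groth.Agent.S12193
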