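import Groth.Statements.S12199
import Groth.Agent.AlgSpDec.PointLocusInst

set_option autoImplicit false
set_option linter.style.haveILetI false
universe u
open CategoryTheory CategoryTheory.Limits AlgebraicGeometry MonoidalCategory MonObj
open AlgSp

namespace Groth.Agent.S12199

open Groth.Agent.AlgSpDec Groth.Agent.AlgSpDec.PointLocus Groth.Agent.MorLib.UnrLocus in
theorem key {Q : ∀ {X Y : Scheme.{u}}, (X ⟶ Y) → X → Prop} (hQ : PtProp @Q)
    {P : MorphismProperty Scheme.{u}}
    (hP : ∀ {X Y : Scheme.{u}} (h : X ⟶ Y) [LocallyOfFiniteType h], P h ↔ ∀ x, Q h x)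
    (R : ∀ (U V : Scheme.{u}), (U ⟶ V) → U → Prop)
    (hR : ∀ {U V : Scheme.{u}} (h : U ⟶ V) [LocallyOfFiniteType h] (u : U), R U V h u ↔ Q h u)
    {S : Scheme.{u}} {B : Sp S} (hB : IsAlgSpace B) (G : Over B) [GrpObj G] (hG : IsAlgSpace G.left)
    (hlft : LocP @LocallyOfFiniteType G.hom) :
    LocP P G.hom ↔ ∀ b : Points B, HasAtMor R G.hom (Points.map (η[G]).left b) := by
  have hiff : ∀ g : Points G.left, HasAtMor R G.hom g ↔ At @Q G.hom g := by
    intro g
    constructor
    · rintro ⟨U, V, a, b, h, u, ha, hb, w, hx, hu⟩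
      haveI : LocallyOfFiniteType h.left := hlft a b h ha hb w
      exact ⟨U, V, a, b, h, u, ha, hb, w, hx, (hR h.left u).1 hu⟩
    · rintro ⟨U, V, a, b, h, u, ha, hb, w, hx, hu⟩
      haveI : LocallyOfFiniteType h.left := hlft a b h ha hb w
      exact ⟨U, V, a, b, h, u, ha, hb, w, hx, (hR h.left u).2 hu⟩
  rw [locP_iff hQ hP hG hB hlft]
  refine ⟨fun H b => (hiff _).2 (H _), fun H g => ?_⟩
  refine (at_translate hQ (GrpGroupoid.groupoid G) hG hB hlft g).2 ?_
  have h := (hiff _).1 (H (Points.map G.hom g))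
  rw [← Points.map_comp] at h
  exact h

/-- Let B be an algebraic space over S and G a group algebraic space over B with unit section e : B → G,
and suppose G is locally of finite type over B. Under this assumption, G → B is unramified exactly
when it is unramified at e(b) for every point b of |B|, and G → B is locally quasi-finite exactly
when it is quasi-finite at e(b) for every point b of |B|. Here 'unramified (resp. quasi-finite) at a
point' is the some-chart-diagram form: there are etale charts of G and B and a compatible morphism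
of schemes which is unramified (resp. locally quasi-finite of finite type) on an open neighbourhood
of a point over e(b). -/
theorem result (S : Scheme.{u}) (B : AlgSp.Sp S) (hB : AlgSp.IsAlgSpace B)
    (G : Over B) [GrpObj G] (hG : AlgSp.IsAlgSpace G.left) (hlft : AlgSp.LocP @LocallyOfFiniteType G.hom) :
    (AlgSp.LocP (@LocallyOfFiniteType ⊓ @FormallyUnramified) G.hom ↔
        ∀ b : AlgSp.Points B, AlgSp.HasAtMor
          (fun U _ h u => ∃ W : U.Opens, u ∈ W ∧ LocallyOfFiniteType (W.ι ≫ h) ∧ FormallyUnramified (W.ι ≫ h))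
          G.hom (AlgSp.Points.map (η[G]).left b)) ∧
    (AlgSp.LocP (@LocallyQuasiFinite ⊓ @LocallyOfFiniteType) G.hom ↔
        ∀ b : AlgSp.Points B, AlgSp.HasAtMor
          (fun U _ h u => ∃ W : U.Opens, u ∈ W ∧ LocallyQuasiFinite (W.ι ≫ h) ∧ LocallyOfFiniteType (W.ι ≫ h))
          G.hom (AlgSp.Points.map (η[G]).left b)) := by
  refine ⟨key Groth.Agent.AlgSpDec.PointLocus.ptProp_unram
      (fun h _ => Groth.Agent.AlgSpDec.PointLocus.unram_iff_forall h) _ ?_ hB G hG hlft,
    key Groth.Agent.AlgSpDec.PointLocus.ptProp_lqf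
      (fun h _ => Groth.Agent.AlgSpDec.PointLocus.lqf_iff_forall h) _ ?_ hB G hG hlft⟩
  · intro U V h _ u
    exact ⟨fun ⟨W, hu, _, hW⟩ => ⟨W, hu, hW⟩, fun ⟨W, hu, hW⟩ => ⟨W, hu, inferInstance, hW⟩⟩
  · intro U V h _ u
    have hd : ∀ (W : U.Opens) (w : W), FlatMor.fibreDimAt (W.ι ≫ h) w = FlatMor.fibreDimAt h (W.ι w) :=
      fun W w => Groth.Agent.AlgSpDec.fibreDimAt_etale_comp W.ι h w
    constructor
    · rintro ⟨W, hu, hW, _⟩
      exact (hd W ⟨u, hu⟩).symm.trans ((Groth.Agent.AlgSpDec.lqf_iff_fibreDimAt _).1 hW ⟨u, hu⟩)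
    · intro hu
      refine ⟨⟨_, Groth.Agent.AlgSpDec.PointLocus.ptProp_lqf.isOpen h⟩, hu,
        (Groth.Agent.AlgSpDec.lqf_iff_fibreDimAt _).2 fun w => (hd _ w).trans w.2, inferInstance⟩

end Groth.Agent.S12199
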