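import Groth.Statements.S1221
-- import your own Groth.Agent.* helpers here
import Groth.Agent.H4RG.FibreKill
import Groth.Agent.H4RG.PureProj
import Groth.Agent.H4RG.ImpurityBC

set_option backward.isDefEq.respectTransparency.types false

set_option autoImplicit false
universe u
open FlatMor

namespace Groth.Agent.S1221

open TensorProduct

attribute [local instance] Algebra.TensorProduct.rightAlgebra

/-- Let B be a finite type A-algebra, N a finite B-module and p a prime of A such that N is flat over A
at every prime of B over p. Let q' be a prime of B lying over a prime p' ⊆ p, such that the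
extension of q' to the fibre ring over p' is an associated prime of the fibre module of N (a point
of the relative assassin). If q' is contained in some prime of B over p, then it is contained in a
prime q over p whose extension to the fibre ring over p is an associated prime of the fibre module
over p. -/
theorem result {A B : Type u} [CommRing A] [CommRing B] [Algebra A B] [Algebra.FiniteType A B]
    (N : Type u) [AddCommGroup N] [Module B N] [Module A N] [IsScalarTower A B N] [Module.Finite B N] (p : Ideal A) [p.IsPrime]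
    (hflat : ∀ (q : Ideal B) [q.IsPrime], q.LiesOver p → FlatCA.FlatAt A q N)
    (p' : Ideal A) [p'.IsPrime] (hp' : p' ≤ p) (q' : Ideal B) [q'.IsPrime] [q'.LiesOver p']
    (hass : FlatCA.fiberIdeal p' q' ∈ associatedPrimes (p'.Fiber B) (FlatCA.fiberMod p' B N))
    (hspec : ∃ (t : Ideal B), t.IsPrime ∧ q' ≤ t ∧ t.LiesOver p) :
    ∃ (q : Ideal B) (_ : q.IsPrime), q' ≤ q ∧ q.LiesOver p ∧
      FlatCA.fiberIdeal p q ∈ associatedPrimes (p.Fiber B) (FlatCA.fiberMod p B N) := by
  classical
  by_contra hne
  push Not at hne
  let F := p.Fiber B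
  haveI : IsNoetherianRing F := Algebra.FiniteType.isNoetherianRing p.ResidueField F
  haveI : Module.Finite F (FlatCA.fiberMod p B N) := inferInstanceAs (Module.Finite F (F ⊗[B] N))
  have hfin : (associatedPrimes F (FlatCA.fiberMod p B N)).Finite := associatedPrimes.finite F (FlatCA.fiberMod p B N)
  -- a function of `q'` outside the associated points of the fibre
  obtain ⟨x, hxq', hx⟩ : ∃ x ∈ q', ∀ Q ∈ associatedPrimes F (FlatCA.fiberMod p B N), algebraMap B F x ∉ Q := by
    by_contra hno
    push Not at hno
    have hsub : (q' : Set B) ⊆ ⋃ Q ∈ (↑hfin.toFinset : Set (Ideal F)), (Q.comap (algebraMap B F) : Ideal B) :=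
      fun x hx => by
        obtain ⟨Q, hQ, hxQ⟩ := hno x hx
        exact Set.mem_iUnion₂.2 ⟨Q, hfin.mem_toFinset.2 hQ, hxQ⟩
    obtain ⟨Q, hQ, hle⟩ := (Ideal.subset_union_prime (⊥ : Ideal F) ⊥ fun Q hQ _ _ => by
      haveI := (hfin.mem_toFinset.1 hQ).isPrime
      exact Ideal.comap_isPrime _ _).1 hsub
    have hQ' := hfin.mem_toFinset.1 hQ
    haveI := hQ'.isPrime
    exact hne (Q.comap (algebraMap B F)) (Ideal.comap_isPrime _ _) hle ⟨(H4RG.comap_fiber_eq p Q).symm⟩
      (by rw [H4RG.fiberIdeal_comap]; exact hQ')
  -- an element of the fibre over `p'` with support at `q'`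
  obtain ⟨e⟩ := H4RG.exists_fiber_equiv (R := A) (S := B) N p'
  obtain ⟨hprime, z, hz⟩ := hass
  let I := Algebra.TensorProduct.includeRight (R := A) (A := p'.ResidueField) (B := B)
  have hxI : algebraMap B (p'.Fiber B) x ∈ FlatCA.fiberIdeal p' q' := Ideal.mem_map_of_mem _ hxq'
  obtain ⟨k, hk⟩ := (hz.le hxI : algebraMap B (p'.Fiber B) x ∈ _)
  rw [← map_pow, Submodule.mem_colon_singleton, Submodule.mem_bot] at hk
  let w₀ := e.symm z
  have hk0 : x ^ k • w₀ = 0 := by
    refine e.injective (((map_smul e _ _).trans ?_).trans (map_zero e).symm)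
    rw [e.apply_symm_apply]
    exact (IsScalarTower.algebraMap_smul (M := (p'.Fiber B) ⊗[B] N) (p'.Fiber B) (x ^ k) z).symm.trans hk
  -- the local rings
  obtain ⟨t, htp, hq't, htover⟩ := hspec
  haveI := htp
  have htA : t.comap (algebraMap A B) = p := htover.over.symm
  let Ap := Localization.AtPrime p
  let Bt := Localization.AtPrime t
  let L := LocalizedModule t.primeCompl N
  let i := LocalizedModule.mkLinearMap t.primeCompl N
  let φ : Ap →+* Bt := Localization.localRingHom p t (algebraMap A B) htA.symm
  letI : Algebra Ap Bt := φ.toAlgebra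
  haveI : IsScalarTower A Ap Bt := IsScalarTower.of_algebraMap_eq fun a =>
    ((Localization.localRingHom_to_map p t (algebraMap A B) htA.symm a).trans
      (IsScalarTower.algebraMap_apply A B Bt a).symm).symm
  letI : Module Ap L := Module.compHom L φ
  haveI : IsScalarTower Ap Bt L := IsScalarTower.of_algebraMap_smul fun _ _ => rfl
  haveI : IsScalarTower A Ap L := IsScalarTower.of_algebraMap_smul fun a y => by
    show φ (algebraMap A Ap a) • y = a • y
    rw [show φ (algebraMap A Ap a) = algebraMap A Bt a from (IsScalarTower.algebraMap_apply A Ap Bt a).symm,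
      algebraMap_smul]
  haveI : Module.Flat A L := hflat t htover
  haveI : Module.Flat Ap L := (Module.flat_iff_of_isLocalization Ap p.primeCompl L).2 inferInstance
  haveI : Algebra.EssFiniteType A Bt := Algebra.EssFiniteType.comp A B Bt
  haveI : Algebra.EssFiniteType Ap Bt := Algebra.EssFiniteType.of_comp A Ap Bt
  haveI : Module.Finite Bt L := Module.Finite.of_isLocalizedModule t.primeCompl i
  haveI : IsLocalHom (algebraMap Ap Bt) := Localization.isLocalHom_localRingHom p t (algebraMap A B) htA.symm
  have hmax : (IsLocalRing.maximalIdeal Bt).comap (algebraMap Ap Bt) = IsLocalRing.maximalIdeal Ap :=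
    IsLocalRing.maximalIdeal_comap (algebraMap Ap Bt)
  let t' := algebraMap B Bt (x ^ k)
  -- injectivity on the closed fibre
  have hfib : ∀ v : L ⊗[Ap] IsLocalRing.ResidueField Ap, t' • v = 0 → v = 0 := fun v hv => by
    haveI : TensorProduct.CompatibleSMul A Ap L p.ResidueField := IsLocalization.tensorProduct_compatibleSMul p.primeCompl Ap L p.ResidueField
    let eC : L ⊗[Ap] p.ResidueField →ₗ[A] L ⊗[A] p.ResidueField :=
      ((TensorProduct.equivOfCompatibleSMul A Ap A L p.ResidueField).restrictScalars A).toLinearMap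
    have hinj : ∀ u : L ⊗[A] p.ResidueField, x ^ k • u = 0 → u = 0 := fun u hu => by
      have h := H4RG.injective_loc_rTensor (A := A) (S := B) (M := N) (L := L) t.primeCompl i p.ResidueField (x ^ k)
        fun z0 hz0 => ⟨1, Submonoid.one_mem _, by
          rw [one_smul]
          refine H4RG.eq_zero_of_notMem_assoc N p (x ^ k) (fun P hP _ hPass hxP => ?_) z0 hz0
          exact hx _ hPass (Ideal.mem_map_of_mem _ (hP.mem_of_pow_mem k hxP))⟩
      exact h (by rw [map_zero, H4RG.rTensor_lsmul]; exact hu)
    have hcomm : ∀ u : L ⊗[Ap] p.ResidueField, eC (t' • u) = x ^ k • eC u := fun u => by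
      induction u using TensorProduct.induction_on with
      | zero => simp
      | add a b ha hb => simp only [smul_add, map_add, ha, hb]
      | tmul l c =>
        rw [TensorProduct.smul_tmul', algebraMap_smul]
        show eC ((x ^ k • l) ⊗ₜ[Ap] c) = _
        show (x ^ k • l) ⊗ₜ[A] c = x ^ k • (l ⊗ₜ[A] c)
        rw [TensorProduct.smul_tmul']
    exact ((TensorProduct.equivOfCompatibleSMul A Ap A L p.ResidueField).injective
      ((hinj (eC v) (by rw [← hcomm, hv, map_zero])).trans (map_zero _).symm))
  -- the element dies at `t`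
  let ψ : Ap →+* p'.ResidueField := IsLocalization.lift (M := p.primeCompl) (g := algebraMap A p'.ResidueField)
    fun u => isUnit_iff_ne_zero.2 fun h0 => u.2 (hp' (Ideal.algebraMap_residueField_eq_zero.1 h0))
  letI : Algebra Ap p'.ResidueField := ψ.toAlgebra
  haveI : IsScalarTower A Ap p'.ResidueField :=
    IsScalarTower.of_algebraMap_eq fun a => (IsLocalization.lift_eq _ a).symm
  haveI : TensorProduct.CompatibleSMul A Ap L p'.ResidueField := IsLocalization.tensorProduct_compatibleSMul p.primeCompl Ap L p'.ResidueField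
  let eC' := (TensorProduct.equivOfCompatibleSMul A Ap A L p'.ResidueField).symm
  let y := eC' (TensorProduct.AlgebraTensorModule.rTensor A p'.ResidueField i w₀)
  have hsmul : ∀ (b : B) (u : L ⊗[A] p'.ResidueField), eC' (b • u) = algebraMap B Bt b • eC' u := fun b u => by
    induction u using TensorProduct.induction_on with
    | zero => simp
    | add a c ha hc => simp only [smul_add, map_add, ha, hc]
    | tmul l c =>
      show eC' ((b • l) ⊗ₜ[A] c) = algebraMap B Bt b • (l ⊗ₜ[Ap] c)
      rw [TensorProduct.smul_tmul', algebraMap_smul]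
      rfl
  obtain ⟨u, hu, huy⟩ := H4RG.exists_kill_tensor_of_fibre L (IsLocalRing.maximalIdeal Bt) hmax t'
    (fun v hv => ⟨1, fun h => (IsLocalRing.maximalIdeal.isMaximal Bt).ne_top ((Ideal.eq_top_iff_one _).2 h),
      by rw [hfib v hv, smul_zero]⟩) p'.ResidueField y (by rw [← hsmul, ← map_smul, hk0, map_zero, map_zero])
  rw [(IsLocalRing.notMem_maximalIdeal.1 hu).smul_eq_zero] at huy
  obtain ⟨⟨s, hs⟩, hs0⟩ := (IsLocalizedModule.eq_zero_iff t.primeCompl
    (TensorProduct.AlgebraTensorModule.rTensor A p'.ResidueField i)).1 (eC'.injective (huy.trans (map_zero _).symm))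
  change s • w₀ = 0 at hs0
  have hs1 : algebraMap B (p'.Fiber B) s ∈ FlatCA.fiberIdeal p' q' := hz.ge (Ideal.le_radical (by
    rw [Submodule.mem_colon_singleton, Submodule.mem_bot]
    have h1 : s • z = 0 := by rw [← e.apply_symm_apply z, ← map_smul, hs0, map_zero]
    exact (IsScalarTower.algebraMap_smul (M := (p'.Fiber B) ⊗[B] N) (p'.Fiber B) s z).trans h1))
  refine hs (hq't ?_)
  have hcomap : (FlatCA.fiberIdeal p' q').comap (algebraMap B (p'.Fiber B)) = q' := by
    obtain ⟨zq, hzq⟩ := (PrimeSpectrum.preimageEquivFiber A B ⟨p', inferInstance⟩).symm.surjective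
      ⟨⟨q', inferInstance⟩, PrimeSpectrum.ext (Ideal.over_def q' p').symm⟩
    have h2 : zq.asIdeal.comap (algebraMap B (p'.Fiber B)) = q' := congrArg (fun w => w.1.asIdeal) hzq
    exact le_antisymm ((Ideal.comap_mono (Ideal.map_le_iff_le_comap.2 h2.ge)).trans h2.le) Ideal.le_comap_map
  exact hcomap.le hs1

end Groth.Agent.S1221
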