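import Groth.Statements.S12210
import Groth.Agent.PuncDim.Basic
-- import your own Groth.Agent.* helpers here

set_option autoImplicit false
set_option linter.style.haveILetI false
set_option backward.isDefEq.respectTransparency.types false
universe u
open CategoryTheory CategoryTheory.Limits AlgebraicGeometry
open Divisors

namespace Groth.Agent.S12210

open AlgebraicGeometry CategoryTheory IsLocalRing in
theorem one_le_ringKrullDim_of_mem_closure (X : Scheme.{u}) [IsLocallyNoetherian X] (U : X.Opens)
    (ξ : X) (hU : ξ ∈ closure (U : Set X)) (hξ : ξ ∉ U) : 1 ≤ ringKrullDim (X.presheaf.stalk ξ) := by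
  classical
  by_contra hlt
  obtain ⟨D, hD, hxD, -⟩ := exists_isAffineOpen_mem_and_subset (x := ξ) (U := ⊤) trivial
  haveI : IsNoetherianRing Γ(X, D) := IsLocallyNoetherian.component_noetherian ⟨D, hD⟩
  let P := hD.primeIdealOf ⟨ξ, hxD⟩
  have hPmin : P.asIdeal ∈ minimalPrimes Γ(X, D) := by
    obtain ⟨e⟩ := SchTop.nonempty_stalk_equiv hD hxD
    rw [ringKrullDim_eq_of_ringEquiv e, IsLocalization.AtPrime.ringKrullDim_eq_height P.asIdeal] at hlt
    rw [← Ideal.height_eq_zero_iff]
    · have h : P.asIdeal.height < 1 := by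
        have := not_le.1 hlt
        exact_mod_cast this
      exact ENat.lt_one_iff_eq_zero.1 h
  let W : Set (PrimeSpectrum Γ(X, D)) :=
    (⋃ q ∈ (minimalPrimes Γ(X, D)) \ {P.asIdeal}, PrimeSpectrum.zeroLocus (q : Set Γ(X, D)))ᶜ
  have hW : IsOpen W := ((minimalPrimes.finite_of_isNoetherianRing Γ(X, D)).sdiff.isClosed_biUnion
    fun q _ => PrimeSpectrum.isClosed_zeroLocus _).isOpen_compl
  have hPW : P ∈ W := by
    simp only [W, Set.mem_compl_iff, Set.mem_iUnion, not_exists]
    intro q hq hqP
    exact hq.2 (le_antisymm hqP (hPmin.2 ⟨hq.1.1.1, bot_le⟩ hqP))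
  let W' : Set X := hD.fromSpec '' W
  have hW' : IsOpen W' := hD.fromSpec.isOpenEmbedding.isOpenMap _ hW
  obtain ⟨y, ⟨p, hpW, rfl⟩, hyU⟩ :=
    mem_closure_iff.1 hU W' hW' ⟨P, hPW, hD.fromSpec_primeIdealOf ⟨ξ, hxD⟩⟩
  obtain ⟨q, hq, hqp⟩ := Ideal.exists_minimalPrimes_le (I := ⊥) (J := (p : PrimeSpectrum Γ(X, D)).asIdeal) bot_le
  have hqP : q = P.asIdeal := by
    by_contra hne
    exact hpW (Set.mem_biUnion (show q ∈ minimalPrimes Γ(X, D) \ {P.asIdeal} from ⟨hq, hne⟩) hqp)
  have hsp : hD.fromSpec P ⤳ hD.fromSpec p :=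
    ((PrimeSpectrum.le_iff_specializes _ _).1 (show P.asIdeal ≤ _ from hqP ▸ hqp)).map hD.fromSpec.continuous
  refine hξ ?_
  have hmem := hsp.mem_open U.isOpen hyU
  rw [hD.fromSpec_primeIdealOf ⟨ξ, hxD⟩] at hmem
  exact hmem



/-- Let X be locally Noetherian and U an open subscheme whose inclusion is an affine morphism. If ξ is a
point outside U which is maximal under generization among points outside U (a generic point of an
irreducible component of the complement) and ξ lies in the closure of U, then the local ring of X at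
ξ has dimension exactly one. (The case X separated and U an affine open is the corresponding special
case, since then the inclusion of U is affine.) -/
theorem result (X : Scheme.{u}) [IsLocallyNoetherian X]
    (U : X.Opens) [IsAffineHom U.ι] (ξ : X) (hξ : ξ ∉ U) (hgen : ∀ y : X, y ∉ U → y ⤳ ξ → y = ξ)
    (hcl : ξ ∈ closure (U : Set X)) :
    ringKrullDim (X.presheaf.stalk ξ) = 1 := by
  exact le_antisymm (Groth.Agent.PuncDim.ringKrullDim_le_one_of_isAffineHom X U ξ hξ hgen)
    (one_le_ringKrullDim_of_mem_closure X U ξ hcl hξ)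

end Groth.Agent.S12210
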