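import Groth.Statements.S12213
import Groth.Agent.KerSeq9.Basic
import Groth.Agent.H23.AMonFree
import Groth.Agent.S5427
import Mathlib.RingTheory.Flat.FaithfullyFlat.Basic

set_option linter.style.haveILetI false
set_option backward.isDefEq.respectTransparency.types false

set_option autoImplicit false
universe u
open CategoryTheory AlgebraicGeometry MonoidalCategory CartesianMonoidalCategory MonObj GrpObj
open EtCoh

namespace Groth.Agent.S12213

/-- For a scheme S and an integer n ≥ 1 the Kummer sequence 1 → μ_n → G_m → G_m → 1 over S, the last map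
being the n-th power, is a short exact sequence for the fppf topology. Here G_m = D_S(ℤ), μ_n =
D_S(ℤ/n) mapped into G_m by the morphism of diagonalisable groups induced by ℤ → ℤ/n, and exactness
means: both maps are homomorphisms with trivial composite, (g, z) ↦ (g, gz) identifies G_m ×_S μ_n
with the fibre product of the n-th power map with itself, and the n-th power map acquires sections
on the members of some fppf covering family of its target. (For n = 0 the sequence is not exact; n ≥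
1 is assumed.) -/
theorem result {S : Scheme.{u}} (n : ℕ) (hn : 0 < n) :
    NonAbH1.IsExactSeq Scheme.fppfPrecoverage
      (Red.DSmap S (Int.castAddHom (ZMod n))) (Red.chi S (n : ℤ)) := by


  have hv0 : IsMonHom (Red.chi S (n : ℤ)) := Groth.Agent.S5427.isMonHom_DSmap S _
  haveI := hv0
  have hu0 : IsMonHom (Red.DSmap S (Int.castAddHom (ZMod n))) := Groth.Agent.S5427.isMonHom_DSmap S _
  haveI : IsClosedImmersion (Red.DSmap S (Int.castAddHom (ZMod n))).left :=
    Groth.Agent.S5427.isClosedImmersion_DSmap S _ ZMod.intCast_surjective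
  haveI : Mono (Red.DSmap S (Int.castAddHom (ZMod n))) := Over.mono_of_mono_left _
  let tp := fun (M : Type) [AddCommGroup M] (m : M) =>
    (MonoidAlgebra.single (Multiplicative.ofAdd m) (1 : ULift.{u} ℤ) : KerSeq9.CoordM.{u} M)
  have huv : Red.DSmap S (Int.castAddHom (ZMod n)) ≫ Red.chi S (n : ℤ) = 1 := by
    refine KerSeq9.ptOfUnit_inj (Units.ext ?_)
    rw [KerSeq9.ringHomOfPt_chi, KerSeq9.unitOfPt_one, zpow_natCast, Units.val_pow_eq_pow_val,
      GmPts.val_unitOfPt, ← GmPts.ringHomOfPt_tPow_one, ← KerSeq9.fnM_gm]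
    rw [← Category.id_comp (Red.DSmap S (Int.castAddHom (ZMod n))), KerSeq9.fnM_comp_DSmap,
      RingHom.comp_apply, ← map_pow]
    have h : KerSeq9.mapC (Int.castAddHom (ZMod n)) (GmPts.tPow.{u} 1) ^ n = 1 := by
      simp [KerSeq9.mapC, GmPts.tPow, MonoidAlgebra.single_pow, ← ofAdd_nsmul, MonoidAlgebra.one_def]
    rw [h, map_one, Units.val_one]
  have hker : ∀ (T : Over S) (z : T ⟶ Red.Gm S), z ≫ Red.chi S (n : ℤ) = 1 →
      ∃ g, g ≫ Red.DSmap S (Int.castAddHom (ZMod n)) = z := by
    intro T z hz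
    let w := GmPts.unitOfPt z
    have hw : w ^ n = 1 := Units.ext (by
      rw [← zpow_natCast, ← KerSeq9.ringHomOfPt_chi, hz, KerSeq9.unitOfPt_one])
    let a : ZMod n →+ Additive (Γ(T.left, ⊤))ˣ := ZMod.lift n ⟨zmultiplesHom _ (Additive.ofMul w), by
      simp [← ofMul_pow, hw]⟩
    let f : KerSeq9.CoordM.{u} (ZMod n) →+* Γ(T.left, ⊤) :=
      MonoidAlgebra.liftNCRingHom ((algebraMap ℤ Γ(T.left, ⊤)).comp ULift.ringEquiv.toRingHom)
        ((Units.coeHom _).comp (AddMonoidHom.toMultiplicativeLeft a)) (fun _ _ => Commute.all _ _)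
    refine ⟨KerSeq9.ptM f, KerSeq9.ptOfUnit_inj (Units.ext ?_)⟩
    rw [GmPts.val_unitOfPt, ← GmPts.ringHomOfPt_tPow_one, ← KerSeq9.fnM_gm, KerSeq9.fnM_comp_DSmap,
      KerSeq9.fnM_ptM, RingHom.comp_apply]
    have h1 : KerSeq9.mapC (Int.castAddHom (ZMod n)) (GmPts.tPow.{u} 1) = tp (ZMod n) 1 := by
      simp [KerSeq9.mapC, GmPts.tPow, tp]
    have h2 : a ((1 : ℤ) : ZMod n) = Additive.ofMul w := by
      change ZMod.lift n _ ((1 : ℤ) : ZMod n) = _
      rw [ZMod.lift_coe]
      simp
    have h3 : a 1 = Additive.ofMul w := by rw [← Int.cast_one]; exact h2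
    rw [h1]
    simp [f, tp, h3, w]
  refine ⟨hu0, hv0, huv, KerSeq9.isPullback_of_kernel _ _ huv hker, ?_⟩
  let e : ℤ × Fin n ≃ ℤ :=
    { toFun := fun a => (n : ℤ) * a.1 + (a.2 : ℕ)
      invFun := fun m => (m / n, ⟨(m % n).toNat, by
        have := Int.emod_lt_of_pos m (by exact_mod_cast hn : (0 : ℤ) < n)
        have := Int.emod_nonneg m (by omega : (n : ℤ) ≠ 0)
        omega⟩)
      left_inv := fun a => by
        obtain ⟨a, b, hb⟩ := a
        refine Prod.ext ?_ (Fin.ext ?_)
        · change ((n : ℤ) * a + (b : ℕ)) / n = a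
          rw [add_comm, Int.add_mul_ediv_left _ _ (by omega : (n : ℤ) ≠ 0),
            Int.ediv_eq_zero_of_lt (by omega) (by omega), zero_add]
        · change (((n : ℤ) * a + (b : ℕ)) % n).toNat = b
          rw [add_comm, Int.add_mul_emod_self_left, Int.emod_eq_of_lt (by omega) (by omega)]
          omega
      right_inv := fun m => by
        change (n : ℤ) * (m / n) + (((m % n).toNat : ℕ) : ℤ) = m
        rw [Int.toNat_of_nonneg (Int.emod_nonneg m (by omega))]
        exact Int.mul_ediv_add_emod m n }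
  haveI : Nonempty (Fin n) := ⟨⟨0, hn⟩⟩
  have hff := Groth.Agent.H23.AMonFree.faithfullyFlat (zmultiplesHom ℤ (n : ℤ)) e (fun a b z => by
    simp [e]; ring) (ULift.{u} ℤ)
  let v₀ : Spec (CommRingCat.of (KerSeq9.CoordM.{u} ℤ)) ⟶ Spec (CommRingCat.of (KerSeq9.CoordM.{u} ℤ)) :=
    (Red.diagMap (ULift.{u} ℤ) (zmultiplesHom ℤ (n : ℤ))).left
  have hv₀ : v₀ = Spec.map (CommRingCat.ofHom (KerSeq9.mapC (zmultiplesHom ℤ (n : ℤ)))) := rfl
  have hff' : (KerSeq9.mapC.{u} (zmultiplesHom ℤ (n : ℤ))).FaithfullyFlat := hff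
  have h1 : Flat v₀ := by
    rw [hv₀, HasRingHomProperty.Spec_iff (P := @Flat)]; exact hff'.flat
  have h2 : Surjective v₀ := by
    rw [hv₀]
    exact ⟨(RingHom.FaithfullyFlat.iff_flat_and_comap_surjective.mp hff').2⟩
  have h3 : IsAffineHom v₀ := isAffineHom_of_isAffine _
  haveI : Flat (Red.chi S (n : ℤ)).left := MorphismProperty.overPullbackMap (P := @Flat) _ _ h1
  haveI : Surjective (Red.chi S (n : ℤ)).left := MorphismProperty.overPullbackMap (P := @Surjective) _ _ h2
  haveI : IsAffineHom (Red.chi S (n : ℤ)).left := MorphismProperty.overPullbackMap (P := @IsAffineHom) _ _ h3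
  have h4 : LocallyOfFinitePresentation v₀ := by
    rw [hv₀, HasRingHomProperty.Spec_iff (P := @LocallyOfFinitePresentation)]
    haveI : IsNoetherianRing (ULift.{u} ℤ) := isNoetherianRing_of_ringEquiv ℤ ULift.ringEquiv.symm
    haveI hN : IsNoetherianRing (KerSeq9.CoordM.{u} ℤ) := Algebra.FiniteType.isNoetherianRing (ULift.{u} ℤ) _
    refine RingHom.FinitePresentation.of_finiteType.1 ?_
    refine RingHom.FiniteType.of_comp_finiteType (f := algebraMap (ULift.{u} ℤ) (KerSeq9.CoordM.{u} ℤ)) ?_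
    have he : (KerSeq9.mapC.{u} (zmultiplesHom ℤ (n : ℤ))).comp (algebraMap (ULift.{u} ℤ) (KerSeq9.CoordM.{u} ℤ)) =
        algebraMap (ULift.{u} ℤ) (KerSeq9.CoordM.{u} ℤ) := RingHom.ext fun x => by simp [KerSeq9.mapC]
    change ((KerSeq9.mapC.{u} (zmultiplesHom ℤ (n : ℤ))).comp (algebraMap (ULift.{u} ℤ) (KerSeq9.CoordM.{u} ℤ))).FiniteType
    rw [he]
    exact RingHom.finiteType_algebraMap.2 inferInstance
  haveI : LocallyOfFinitePresentation (Red.chi S (n : ℤ)).left :=
    MorphismProperty.overPullbackMap (P := @LocallyOfFinitePresentation) _ _ h4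
  refine ⟨Presieve.singleton (Red.chi S (n : ℤ)).left, (Red.chi S (n : ℤ)).left.singleton_mem_fppfPrecoverage, ?_⟩
  rintro _ f ⟨⟩
  exact ⟨𝟙 _, Category.id_comp _⟩

end Groth.Agent.S12213
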