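import Groth.Statements.S12214
-- import your own Groth.Agent.* helpers here
import Groth.Agent.S1237
import Groth.Agent.FlatModel.Local

set_option backward.isDefEq.respectTransparency.types false

set_option autoImplicit false
universe u
open FlatMor

namespace Groth.Agent.S12214

/-- Let R → S be a ring map of finite presentation, M a finite S-module, and assume R has finitely many
weakly associated primes. Then for every g ∈ S whose basic open D(g) is contained in the flat locus
U = {q : M_q is flat over R}, the localization M_g is a finitely presented S_g-module which is flat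
over R. (Openness of U is the companion statement.) -/
theorem result {R S : Type u} [CommRing R] [CommRing S] [Algebra R S]
    [Algebra.FinitePresentation R S] (hR : (FlatCA.weakAss R R).Finite)
    (M : Type u) [AddCommGroup M] [Module S M] [Module R M] [IsScalarTower R S M] [Module.Finite S M]
    (g : S) (hg : ∀ (q : Ideal S) [q.IsPrime], g ∉ q → FlatCA.FlatAt R q M) :
    Module.FinitePresentation (Localization.Away g) (LocalizedModule (Submonoid.powers g) M) ∧
      Module.Flat R (LocalizedModule (Submonoid.powers g) M) := by
  classical
  let W := Submonoid.powers g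
  refine ⟨?_, ?_⟩
  · let Sg := Localization W
    let Mg := LocalizedModule W M
    let iM := LocalizedModule.mkLinearMap W M
    let s : Set Sg := {r | ∃ g' : S, algebraMap S Sg g' = r ∧
      Module.FinitePresentation (Localization.Away g') (LocalizedModule (Submonoid.powers g') M)}
    have hs : Ideal.span s = ⊤ := by
      by_contra hne
      obtain ⟨m, hm, hle⟩ := Ideal.exists_le_maximal _ hne
      haveI : (m.comap (algebraMap S Sg)).IsPrime := Ideal.comap_isPrime _ _
      have hgm : g ∉ m.comap (algebraMap S Sg) := fun h =>
        hm.ne_top (Ideal.eq_top_of_isUnit_mem _ h (IsLocalization.map_units Sg (⟨g, Submonoid.mem_powers g⟩ : W)))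
      obtain ⟨g', hg', hfp, -⟩ := (Groth.Agent.S1237.result hR M).2 _ (hg _ hgm)
      exact hg' (hle (Ideal.subset_span ⟨g', rfl, hfp⟩))
    refine Module.FinitePresentation.of_localizationSpan (R := Sg) (M := Mg) s hs ?_
    rintro ⟨_, g', rfl, hfp⟩
    let r := algebraMap S Sg g'
    let Rr := Localization (Submonoid.powers r)
    let T := LocalizedModule (Submonoid.powers r) Mg
    let S' := Localization.Away g'
    let M' := LocalizedModule (Submonoid.powers g') M
    haveI : Module.FinitePresentation S' M' := hfp
    let φ : S' →+* Rr := IsLocalization.Away.lift g' (g := algebraMap S Rr) (by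
      rw [IsScalarTower.algebraMap_apply S Sg Rr]
      exact IsLocalization.map_units Rr (⟨r, Submonoid.mem_powers r⟩ : Submonoid.powers r))
    letI : Algebra S' Rr := φ.toAlgebra
    haveI : IsScalarTower S S' Rr := IsScalarTower.of_algebraMap_eq fun x => (IsLocalization.Away.lift_eq g' _ x).symm
    have h1 : IsBaseChange Sg iM := IsLocalizedModule.isBaseChange W Sg iM
    have h2 : IsBaseChange Rr (LocalizedModule.mkLinearMap (Submonoid.powers r) Mg) :=
      IsLocalizedModule.isBaseChange (Submonoid.powers r) Rr _
    let f : M →ₗ[S] T := ((LocalizedModule.mkLinearMap (Submonoid.powers r) Mg).restrictScalars S).comp iM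
    have h12 : IsBaseChange Rr f := h1.comp h2
    have h3 : IsBaseChange S' (LocalizedModule.mkLinearMap (Submonoid.powers g') M) :=
      IsLocalizedModule.isBaseChange (Submonoid.powers g') S' _
    letI : Module S' T := Module.compHom T φ
    haveI : IsScalarTower S' Rr T := IsScalarTower.of_algebraMap_smul fun _ _ => rfl
    haveI : IsScalarTower S S' T := IsScalarTower.of_algebraMap_smul fun x y => by
      show φ (algebraMap S S' x) • y = x • y
      rw [IsLocalization.Away.lift_eq, algebraMap_smul]
    let q := h3.lift f
    have hq : IsBaseChange Rr q := (h3.comp_iff (T := Rr) (h := q)).1 (by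
      rw [show (q.restrictScalars S) ∘ₗ (LocalizedModule.mkLinearMap (Submonoid.powers g') M) = f from
        LinearMap.ext fun n => h3.lift_eq f n]
      exact h12)
    show Module.FinitePresentation Rr T
    exact Module.FinitePresentation.of_equiv (M := TensorProduct S' Rr M') hq.equiv
  · refine (FlatModel.flat_localized_iff W (LocalizedModule.mkLinearMap W M)).2 fun J y hy => ?_
    by_contra hne
    push Not at hne
    let A : Ideal S := (Submodule.span S {y}).annihilator
    obtain ⟨Q, hQ, hAQ, hQd⟩ := Ideal.exists_le_prime_disjoint A W
      (Set.disjoint_left.2 fun x hx hxW => hne x hxW ((Submodule.mem_annihilator_span_singleton _ _).1 hx))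
    obtain ⟨u, hu, huy⟩ := (FlatModel.flat_localized_iff Q.primeCompl (LocalizedModule.mkLinearMap Q.primeCompl M)).1
      (hg Q fun h => Set.disjoint_left.1 hQd h (Submonoid.mem_powers g)) J y hy
    exact hu (hAQ ((Submodule.mem_annihilator_span_singleton _ _).2 huy))

end Groth.Agent.S12214
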