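import Groth.Statements.S6021
import Groth.Agent.LCZLib.Local
-- import your own Groth.Agent.* helpers here

set_option autoImplicit false
universe u
open CategoryTheory CategoryTheory.Limits TopologicalSpace
open LocCohZ

namespace Groth.Agent.S6021

/-- Consider a topological space X carrying an abelian sheaf F, a closed subset Z whose open complement
is U, and a natural number N > 0. Assume that, for each open V of X and each i < N, restricting
H^i(V, F) → H^i(V ∩ U, F) gives a bijection. Then ℋ^i_Z(F), the local cohomology sheaves, are zero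
for every i ≤ N (no separate injectivity hypothesis in degree N is needed, since it follows
automatically). -/
theorem result {X : TopCat.{u}} (F : CohTop.Ab X) (U : Opens X) (N : ℕ) (hN : 0 < N)
    (h : ∀ (V : Opens X) (i : ℕ), i < N → Function.Bijective (CohTop.res F i (inf_le_left : V ⊓ U ≤ V))) :
    ∀ i : ℕ, i ≤ N → IsZero ((LocCohZ.HZsh U i).obj F) := by
  obtain ⟨k, rfl⟩ : ∃ k, N = k + 1 := ⟨N - 1, by omega⟩
  intro i hi
  have hs : ∀ V : Opens X, (∀ j, j ≤ k → Subsingleton (LocCohZ.HZ F j (inf_le_left : V ⊓ U ≤ V))) := fun V =>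
    (Groth.Agent.LCZLib.subsingleton_HZ_iff F _ k).2 ⟨fun j hj => h V j (by omega), (h V k (by omega)).1⟩
  rcases eq_or_lt_of_le hi with rfl | hi'
  · refine Groth.Agent.LCZLib.isZero_HZsh_top U F k fun V => ?_
    have key : ∀ (W : Opens X) (hW : W ≤ V), W = V ⊓ U → Function.Surjective (CohTop.res F k hW) := by
      intro W hW e; subst e; exact (h V k (by omega)).2
    exact key _ inf_le_right (inf_comm U V)
  · refine (Groth.Agent.LCZLib.isZero_HZsh_iff U F (k + 1)).2 (fun V j hj => ?_) i (by omega)
    exact (Groth.Agent.LCZLib.subsingleton_HZ_congr F j (inf_le_left : V ⊓ U ≤ V) inf_le_right (inf_comm U V)).1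
      (hs V j (by omega))

end Groth.Agent.S6021
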