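import Groth.Statements.S6039
import Groth.Agent.LCZLib.DepthGlobal
import Groth.Agent.S6021
-- import your own Groth.Agent.* helpers here

set_option autoImplicit false
universe u
open CategoryTheory CategoryTheory.Limits TopologicalSpace AlgebraicGeometry Opposite
open LocCohZ

namespace Groth.Agent.S6039

open Abelian in
theorem res0_bijective_iff {X : TopCat.{u}} (F : CohTop.Ab X) {W V : Opens X} (h : W ≤ V) :
    Function.Bijective (CohTop.res F 0 h) ↔ Function.Bijective (F.obj.map (homOfLE h).op).hom := by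
  let J := Opens.grothendieckTopology X
  let e : ∀ A : Opens X, CohTop.HU F 0 A ≃ F.obj.obj (op A) := fun A =>
    (Ext.addEquiv₀ (X := CohCx.freeSheaf J A) (Y := F)).toEquiv.trans (CohFree.homEquivSect J A F).toEquiv
  have he : ∀ x, e W (CohTop.res F 0 h x) = (F.obj.map (homOfLE h).op).hom (e V x) := fun x => by
    obtain ⟨φ, rfl⟩ := (Ext.mk₀_bijective _ _).2 x
    have : CohTop.res F 0 h (Ext.mk₀ φ) = Ext.mk₀ (CohCx.freeSheafMap J (homOfLE h) ≫ φ) := Ext.mk₀_comp_mk₀ _ _
    rw [this]
    show CohFree.evalGen J W F (Ext.addEquiv₀ (Ext.mk₀ (CohCx.freeSheafMap J (homOfLE h) ≫ φ))) =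
      (F.obj.map (homOfLE h).op).hom (CohFree.evalGen J V F (Ext.addEquiv₀ (Ext.mk₀ φ)))
    rw [← Ext.addEquiv₀_symm_apply, ← Ext.addEquiv₀_symm_apply, AddEquiv.apply_symm_apply, AddEquiv.apply_symm_apply,
      CohFree.evalGen_freeSheafMap_comp]
  refine (Equiv.comp_bijective (CohTop.res F 0 h) (e W)).symm.trans ?_
  rw [show ⇑(e W) ∘ ⇑(CohTop.res F 0 h) = ⇑(F.obj.map (homOfLE h).op).hom ∘ ⇑(e V) from funext he]
  exact Equiv.bijective_comp (e V) _

/-- Let X be a locally Noetherian scheme, Y a closed subset with open complement U and M a coherent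
O_X-module. Then depth M_x ≥ 2 for every x ∈ Y if and only if, for every open V of X, the
restriction map Γ(V, M) → Γ(V ∩ U, M) is bijective. -/
theorem result (X : Scheme.{u}) [IsLocallyNoetherian X] (U : X.Opens)
    (M : X.Modules) (hM : Coh.IsCoh M) :
    (∀ x : X, x ∉ (U : Set X) → (2 : ℕ∞) ≤ LocCoh.depth (X.presheaf.stalk x) (M.presheaf.stalk x)) ↔
      ∀ V : X.Opens, Function.Bijective (M.val.map (homOfLE (inf_le_left : V ⊓ U ≤ V)).op).hom := by
  constructor
  · intro h V
    have hz := (Groth.Agent.LCZLib.isZero_HZsh_iff_depth U M hM 2).2 h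
    have hb := ((Groth.Agent.LCZLib.isZero_HZsh_iff (X := X.carrier) U (Coh.toAb M) 2).1 hz V)
    have := ((Groth.Agent.LCZLib.subsingleton_HZ_iff (X := X.carrier) (Coh.toAb M) (inf_le_left : V ⊓ U ≤ V) 1).1
      (fun i hi => (Groth.Agent.LCZLib.subsingleton_HZ_congr (X := X.carrier) (Coh.toAb M) i _ _ (inf_comm U V)).2
        (hb i (by omega)))).1 0 (by omega)
    exact (res0_bijective_iff (X := X.carrier) (Coh.toAb M) (inf_le_left : V ⊓ U ≤ V)).1 this
  · intro h
    refine (Groth.Agent.LCZLib.isZero_HZsh_iff_depth U M hM 2).1 fun i hi => ?_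
    refine Groth.Agent.S6021.result (X := X.carrier) (Coh.toAb M) U 1 Nat.one_pos (fun V j hj => ?_) i (by omega)
    obtain rfl : j = 0 := by omega
    exact (res0_bijective_iff (X := X.carrier) (Coh.toAb M) (inf_le_left : V ⊓ U ≤ V)).2 (h V)


end Groth.Agent.S6039
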