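import Groth.Statements.S12226
import Groth.Agent.S6039
import Groth.Agent.RefX.Ext

set_option autoImplicit false
universe u
open CategoryTheory CategoryTheory.Limits AlgebraicGeometry TopologicalSpace
open LocCoh

namespace Groth.Agent.S12226

/-- Let j : U → X be the inclusion of an open subscheme of a Noetherian scheme X and F a coherent
O_X-module such that F' = j_*(F|_U) is coherent. Then (a) for every point x of X outside U the stalk
F'_x has depth at least 2 over O_{X,x}, and (b) F → F' is the unique map with these properties: for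
every coherent O_X-module G and every map φ : F → G whose restriction to U is an isomorphism and
such that depth(G_x) ≥ 2 for all x outside U, there is exactly one map ψ : G → F' whose composite
with φ is the canonical map F → j_*(F|_U), and this ψ is an isomorphism. (The compatibility of this
construction with flat base change is not part of this statement.) -/
theorem result (X : Scheme.{u}) [IsNoetherian X] (U : X.Opens)
    (F : X.Modules) (hF : Coh.IsCoh F) (hF' : Coh.IsCoh ((Coh.push U.ι).obj (F.restrict U.ι))) :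
    (∀ x : ↥X, x ∉ U → (2 : ℕ∞) ≤ LocCoh.depth (X.presheaf.stalk x)
        (((Coh.push U.ι).obj (F.restrict U.ι)).presheaf.stalk x)) ∧
    ∀ (G : X.Modules) (hG : Coh.IsCoh G) (φ : F ⟶ G),
      IsIso ((Scheme.Modules.restrictFunctor U.ι).map φ) →
      (∀ x : ↥X, x ∉ U → (2 : ℕ∞) ≤ LocCoh.depth (X.presheaf.stalk x) (G.presheaf.stalk x)) →
        (∃! ψ : G ⟶ (Coh.push U.ι).obj (F.restrict U.ι),
            φ ≫ ψ = (Scheme.Modules.restrictAdjunction U.ι).unit.app F) ∧
          ∀ ψ : G ⟶ (Coh.push U.ι).obj (F.restrict U.ι),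
            φ ≫ ψ = (Scheme.Modules.restrictAdjunction U.ι).unit.app F → IsIso ψ := by
  let adj := Scheme.Modules.restrictAdjunction U.ι
  let F' := (Coh.push U.ι).obj (F.restrict U.ι)
  have hext : Groth.Agent.RefX.ExtendsAcross U F' := by
    intro W
    have key : ∀ (O O' : X.Opens) (h : O' ≤ O) (he : U.ι ⁻¹ᵁ O = U.ι ⁻¹ᵁ O'),
        Function.Bijective (AModX.res F' h) := by
      intro O O' h he
      have h1 : (U.ι ''ᵁ (U.ι ⁻¹ᵁ O')) = U.ι ''ᵁ (U.ι ⁻¹ᵁ O) := by rw [he]
      haveI : IsIso (F.presheaf.map (homOfLE h1.le).op) := by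
        rw [show (homOfLE h1.le) = eqToHom h1 from Subsingleton.elim _ _]
        infer_instance
      exact (ConcreteCategory.isIso_iff_bijective (F.presheaf.map (homOfLE h1.le).op)).1 inferInstance
    refine key W (W ⊓ U) inf_le_left (TopologicalSpace.Opens.ext (Set.ext fun x => ?_))
    exact ⟨fun hx => ⟨hx, x.2⟩, fun hx => hx.1⟩
  refine ⟨fun x hx => ((Groth.Agent.S6039.result X U F' hF').2 fun V => hext V) x hx, fun G hG φ hφ hd => ?_⟩
  haveI := hφ
  haveI : IsIso (adj.unit.app G) := Groth.Agent.RefX.isIso_unit_of_extendsAcross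
    (fun W => (Groth.Agent.S6039.result X U G hG).1 (fun x hx => hd x hx) W)
  let R := Scheme.Modules.restrictFunctor U.ι
  let P := Scheme.Modules.pushforward U.ι
  let ψ₀ : G ⟶ F' := adj.unit.app G ≫ P.map (inv (R.map φ))
  have hn : φ ≫ adj.unit.app G = adj.unit.app F ≫ P.map (R.map φ) := adj.unit.naturality φ
  have h0 : φ ≫ ψ₀ = adj.unit.app F := by
    show φ ≫ adj.unit.app G ≫ P.map (inv (R.map φ)) = _
    rw [← Category.assoc, hn, Category.assoc, ← Functor.map_comp, IsIso.hom_inv_id, P.map_id]
    exact Category.comp_id _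
  have huniq : ∀ ψ : G ⟶ F', φ ≫ ψ = adj.unit.app F → ψ = ψ₀ := fun ψ h => by
    apply (adj.homEquiv G _).symm.injective
    have h1 : R.map φ ≫ (adj.homEquiv G _).symm ψ = R.map φ ≫ (adj.homEquiv G _).symm ψ₀ := by
      rw [← adj.homEquiv_naturality_left_symm φ ψ, ← adj.homEquiv_naturality_left_symm φ ψ₀, h, h0]
    exact (cancel_epi (R.map φ)).1 h1
  haveI : IsIso ψ₀ := inferInstanceAs (IsIso (adj.unit.app G ≫ P.map (inv (R.map φ))))
  exact ⟨⟨ψ₀, h0, huniq⟩, fun ψ h => (huniq ψ h) ▸ inferInstance⟩

end Groth.Agent.S12226
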