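import Groth.Statements.S12233
import Groth.Agent.TorZero.Core
import Groth.Agent.TorZero.Local
-- import your own Groth.Agent.* helpers here

set_option autoImplicit false
set_option backward.isDefEq.respectTransparency false
universe u
open scoped TensorProduct
open CAlg

namespace Groth.Agent.S12233

attribute [local instance] Algebra.TensorProduct.rightAlgebra

/-- Let R → S, R → R', S → S' and R' → S' be local homomorphisms of Noetherian local rings forming a
commutative square, I ⊊ R an ideal, M a finite S-module, I' = IR' and M' = M ⊗_S S' (given through a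
base-change map f : M → M'). Assume (1) S' is a localization of S ⊗_R R' via the induced map, (2)
M/IM is flat over R/I, and (3) the map Tor_1^R(M, R/I) → Tor_1^{R'}(M', R'/I') is zero — with
Tor_1(−, R/I) computed as the kernel of I ⊗_R M → M, this says that every element of that kernel
goes to zero under the natural map I ⊗_R M → I' ⊗_{R'} M'. Then M' is flat over R'. -/
theorem result
    (R S R' S' : Type u) [CommRing R] [CommRing S] [CommRing R'] [CommRing S']
    [IsLocalRing R] [IsLocalRing S] [IsLocalRing R'] [IsLocalRing S']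
    [IsNoetherianRing R] [IsNoetherianRing S] [IsNoetherianRing R'] [IsNoetherianRing S']
    [Algebra R S] [Algebra R R'] [Algebra S S'] [Algebra R' S'] [Algebra R S']
    [IsScalarTower R S S'] [IsScalarTower R R' S']
    [IsLocalHom (algebraMap R S)] [IsLocalHom (algebraMap R R')] [IsLocalHom (algebraMap S S')]
    [IsLocalHom (algebraMap R' S')]
    (I : Ideal R) (hI : I ≠ ⊤) (M : Type u) [AddCommGroup M] [Module S M] [Module R M] [IsScalarTower R S M]
    [Module.Finite S M]
    (M' : Type u) [AddCommGroup M'] [Module S' M'] [Module R' M'] [IsScalarTower R' S' M']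
    [Module S M'] [IsScalarTower S S' M'] [Module R M'] [IsScalarTower R R' M'] [IsScalarTower R S M']
    (f : M →ₗ[S] M') (hf : IsBaseChange S' f)
    (h1 : ∃ W : Submonoid (S ⊗[R] R'),
      letI : Algebra (S ⊗[R] R') S' :=
        (Algebra.TensorProduct.lift (IsScalarTower.toAlgHom R S S') (IsScalarTower.toAlgHom R R' S')
          (fun s r => Commute.all _ _)).toRingHom.toAlgebra;
      IsLocalization W S')
    (h2 : Module.Flat (R ⧸ I) ((R ⧸ I) ⊗[R] M))
    (h3 : ∀ x : ↥I ⊗[R] M, (Submodule.subtype I).rTensor M x = 0 →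
      (TensorProduct.mapOfCompatibleSMul R' R R ↥(I.map (algebraMap R R')) M')
        ((TensorProduct.map (Algebra.idealMap R' I) (f.restrictScalars R)) x) = 0) :
    Module.Flat R' M' := by
  classical
  obtain ⟨W, hW⟩ := h1
  let ψa : S ⊗[R] R' →ₐ[R] S' := Algebra.TensorProduct.lift (IsScalarTower.toAlgHom R S S') (IsScalarTower.toAlgHom R R' S')
    fun s r => Commute.all _ _
  let ψ : S ⊗[R] R' →+* S' := ψa.toRingHom
  have hψl : ∀ t : S, ψ (t ⊗ₜ[R] (1 : R')) = algebraMap S S' t := fun t => by
    show ψa _ = _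
    simp [ψa]
  have hψr : ∀ r : R', ψ ((1 : S) ⊗ₜ[R] r) = algebraMap R' S' r := fun r => by
    show ψa _ = _
    simp [ψa]
  letI : Algebra (S ⊗[R] R') S' := ψ.toAlgebra
  haveI : IsLocalization W S' := hW
  obtain ⟨Φ, hΦe, hΦs⟩ := EssFPDescent.exists_modelMap (R := R') (T₀ := S) (C₀ := M) ψ f.toAddMonoidHom (fun t c => by
    show f (t • c) = ψ (t ⊗ₜ[R] (1 : R')) • f c
    rw [map_smul, hψl, algebraMap_smul])
  letI : Module (S ⊗[R] R') M' := Module.compHom M' ψ
  haveI : IsScalarTower R' (S ⊗[R] R') M' := IsScalarTower.of_algebraMap_smul fun r x => by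
    show ψ ((1 : S) ⊗ₜ[R] r) • x = r • x
    rw [hψr, algebraMap_smul]
  haveI : IsScalarTower (S ⊗[R] R') S' M' := IsScalarTower.of_algebraMap_smul fun t x => rfl
  let ΦL : EssFPDescent.CT (R₀ := R) S M R' →ₗ[S ⊗[R] R'] M' := { toFun := Φ, map_add' := Φ.map_add, map_smul' := hΦs }
  haveI hΦloc : IsLocalizedModule W ΦL := by
    refine ⟨fun w => ?_, fun y => ?_, fun {x y} hxy => ?_⟩
    · obtain ⟨u, hu⟩ := IsLocalization.map_units S' w
      refine (Module.End.isUnit_iff _).2 (Function.bijective_iff_has_inverse.2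
        ⟨fun x => (↑u⁻¹ : S') • x, fun x => ?_, fun x => ?_⟩)
      · show (↑u⁻¹ : S') • algebraMap (S ⊗[R] R') S' (w : S ⊗[R] R') • x = x
        rw [smul_smul, ← hu, Units.inv_mul, one_smul]
      · show algebraMap (S ⊗[R] R') S' (w : S ⊗[R] R') • (↑u⁻¹ : S') • x = x
        rw [smul_smul, ← hu, Units.mul_inv, one_smul]
    · refine hf.inductionOn y _ ?_ (fun m => ?_) (fun c n hn => ?_) (fun a b ha hb => ?_)
      · exact ⟨⟨0, 1⟩, by rw [one_smul, map_zero]⟩
      · exact ⟨⟨EssFPDescent.emb (R₀ := R) S M (A := R') m, 1⟩, by rw [one_smul]; exact (hΦe m).symm⟩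
      · obtain ⟨⟨x, w⟩, hx⟩ := hn
        obtain ⟨⟨t, v⟩, ht⟩ := IsLocalization.surj W c
        refine ⟨⟨t • x, v * w⟩, ?_⟩
        show ((v : S ⊗[R] R') * w) • (c • n) = ΦL (t • x)
        rw [map_smul, ← hx]
        show ψ ((v : S ⊗[R] R') * w) • c • n = ψ t • ψ (w : S ⊗[R] R') • n
        rw [smul_smul, smul_smul, map_mul, show ψ t = c * ψ v from ht.symm]
        congr 1
        ring
      · obtain ⟨⟨x, w⟩, hx⟩ := ha
        obtain ⟨⟨x', w'⟩, hx'⟩ := hb
        refine ⟨⟨(w' : S ⊗[R] R') • x + (w : S ⊗[R] R') • x', w * w'⟩, ?_⟩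
        rw [map_add, map_smul, map_smul, ← hx, ← hx', smul_add]
        simp only [Submonoid.smul_def, Submonoid.coe_mul, smul_smul]
        rw [mul_comm (w' : S ⊗[R] R')]
    · let N₀ := S' ⊗[S ⊗[R] R'] (EssFPDescent.CT (R₀ := R) S M R')
      let k : EssFPDescent.CT (R₀ := R) S M R' →ₗ[S ⊗[R] R'] N₀ := TensorProduct.mk (S ⊗[R] R') S' _ 1
      haveI : IsLocalizedModule W k := (isLocalizedModule_iff_isBaseChange W S' k).2 (TensorProduct.isBaseChange _ _ _)
      let g₀ : M →ₗ[S] N₀ :=
        { toFun := fun m => k (EssFPDescent.emb (R₀ := R) S M (A := R') m)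
          map_add' := fun a b => by rw [map_add, map_add]
          map_smul' := fun t m => by
            rw [RingHom.id_apply, ← EssFPDescent.tmul_one_smul_emb, map_smul]
            rw [← algebraMap_smul S' t (k _), ← hψl]
            exact (algebraMap_smul S' (t ⊗ₜ[R] (1 : R')) _).symm }
      let L := hf.lift g₀
      have hL : ∀ x : EssFPDescent.CT (R₀ := R) S M R', L (ΦL x) = k x := by
        intro x
        obtain ⟨n, v, hv⟩ := Module.Finite.exists_fin (R := S) (M := M)
        obtain ⟨z, rfl⟩ := EssFPDescent.exists_eq_sum_smul (R := R') v hv x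
        rw [map_sum, map_sum, map_sum]
        refine Finset.sum_congr rfl fun i _ => ?_
        rw [ΦL.map_smul, k.map_smul, ← algebraMap_smul S' (z i) (ΦL _), L.map_smul, algebraMap_smul]
        congr 1
        show L (Φ (EssFPDescent.emb (R₀ := R) S M (A := R') (v i))) = _
        rw [hΦe]
        exact hf.lift_eq g₀ (v i)
      exact IsLocalizedModule.exists_of_eq (S := W) (f := k) (by rw [← hL, ← hL, hxy])
  let I' := I.map (algebraMap R R')
  have hK : LocalCrit.KeepsInjective I M := haveI := h2; LocalCrit.keepsInjective_of_flat I M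
  have hle : I' ≤ IsLocalRing.maximalIdeal R' :=
    (Ideal.map_mono (IsLocalRing.le_maximalIdeal hI)).trans (IsLocalRing.map_maximalIdeal_le _)
  haveI : Module.Finite S' M' := Module.Finite.equiv hf.equiv
  refine LocalCrit.flat_of_le_jacobson (B := S') I' ?_ ?_ ?_
  · exact ((Ideal.map_mono hle).trans (IsLocalRing.map_maximalIdeal_le _)).trans (IsLocalRing.maximalIdeal_le_jacobson _)
  · refine EssFPDescent.rTensor_injective_of_killed I' W ΦL ((EssFPDescent.killed_iff (R₀ := R) S M (A := R') I' W).1 ?_)
    intro y hy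
    let φm := TensorProduct.AlgebraTensorModule.rTensor R' (I' : Ideal R') ΦL
    suffices hΨ : ∀ c : R, φm (EssFPDescent.eTo (R₀ := R) S M I' (c • y)) = 0 by
      have h0 := hΨ 1
      rw [one_smul] at h0
      obtain ⟨w, hw⟩ := (IsLocalizedModule.eq_zero_iff W φm).1 h0
      refine ⟨w, w.2, EssFPDescent.eTo_injective (R₀ := R) S M I' ?_⟩
      rw [EssFPDescent.eTo_ρ, map_zero]
      exact hw
    refine Submodule.span_induction ?_ (fun c => by rw [smul_zero, map_zero, map_zero])
      (fun a b _ _ ha hb c => by rw [smul_add, map_add, map_add, ha, hb, add_zero])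
      (fun d a _ ha c => by rw [smul_smul]; exact ha _) (TorZero.mem_span_of_lTensor_eq_zero I hK y hy)
    rintro _ ⟨r, κ, hκ, rfl⟩ c
    rw [← map_smul]
    have hx : (Submodule.subtype I).rTensor M (TensorProduct.comm R M I (c • κ)) = 0 := by
      have hcomm : ∀ z : M ⊗[R] I, (Submodule.subtype I).rTensor M (TensorProduct.comm R M I z) =
          TensorProduct.comm R M R (I.subtype.lTensor M z) := by
        intro z
        induction z using TensorProduct.induction_on with
        | zero => simp
        | tmul m a => rfl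
        | add a b ha hb => simp only [map_add, ha, hb]
      rw [hcomm, map_smul, hκ, smul_zero, map_zero]
    have key : ∀ z : M ⊗[R] I, φm (EssFPDescent.eTo (R₀ := R) S M I' ((TorZero.mulInto I r).lTensor M z)) =
        TensorProduct.comm R' I' M' (r • (TensorProduct.mapOfCompatibleSMul R' R R I' M')
          ((TensorProduct.map (Algebra.idealMap R' I) (f.restrictScalars R)) (TensorProduct.comm R M I z))) := by
      intro z
      induction z using TensorProduct.induction_on with
      | zero => simp
      | add a b ha hb => simp only [map_add, smul_add, ha, hb]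
      | tmul m a =>
        rw [LinearMap.lTensor_tmul, EssFPDescent.eTo_tmul, TensorProduct.comm_tmul, TensorProduct.map_tmul,
          TensorProduct.mapOfCompatibleSMul_tmul, TensorProduct.smul_tmul', TensorProduct.comm_tmul]
        show Φ (EssFPDescent.emb (R₀ := R) S M (A := R') m) ⊗ₜ[R'] TorZero.mulInto I r a = _
        rw [hΦe]
        rfl
    rw [key, h3 _ hx, smul_zero, map_zero]
  · intro N N' _ _ _ _ g hN hN' hg
    have h1 := TorZero.keepsInjective_equiv I' (TorZero.commCT S M R') (TorZero.keepsInjective_baseChange I hK) g hN hN' hg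
    exact (LinearMap.lTensor_inj_iff_rTensor_inj _ _).1
      (TorZero.lTensor_injective_localized W ΦL g ((LinearMap.lTensor_inj_iff_rTensor_inj _ _).2 h1))

end Groth.Agent.S12233
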