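import Groth.Statements.S12241
import Groth.Agent.H4RG.DevShrinkAt

set_option autoImplicit false
universe u
open FlatMor

namespace Groth.Agent.S12241

open TensorProduct in
/-- All schemes are affine and standard opens are rendered as localizations away from one element. Let R
→ S be of finite type, N a finite S-module, p ⊆ R and q ⊆ S primes with q over p, and (C, D, G, n;
z, y) a one-step dévissage of N/S/R at q: (C, D, G, n) is a one-step dévissage over p (C a finitely
presented quotient of S carrying a finite module G identified with N, D smooth of relative dimension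
n over R with geometrically irreducible fibres, D → C finite, n the dimension of the support of N ⊗
κ(p)), z is a prime of C over q and over the prime y of D, the local dimension at q of that support
is n, z is the only prime of C over y, and κ(y)/κ(p) is purely transcendental. Then for every u ∈ S
outside q (an open neighbourhood D(u) of the point q) there is a standard shrinking inside D(u):
elements g ∉ p, hX ∉ q, hZ ∉ z, hY ∉ y with u invertible in S[1/hX], and ring and module structures
making S[1/hX], C[1/hZ], D[1/hY] algebras over R[1/g], C[1/hZ] an algebra over S[1/hX] and over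
D[1/hY], all compatibly with the given maps, such that (C[1/hZ], D[1/hY], G[1/hZ], n) is a one-step
dévissage of N[1/hX] over S[1/hX] relative to R[1/g] at the extended prime of q, with the extended
primes of z and y as its points (z-point over the q-point and the y-point, unique over the y-point,
purely transcendental residue field over that of pR[1/g], and local dimension n of the fibre support
at the q-point). -/
theorem result
    (R S : Type u) [CommRing R] [CommRing S] [Algebra R S] [Algebra.FiniteType R S]
    (N : Type u) [AddCommGroup N] [Module S N] [Module R N] [IsScalarTower R S N] [Module.Finite S N]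
    (p : Ideal R) [p.IsPrime] (q : Ideal S) [q.IsPrime] [q.LiesOver p]
    (C D G : Type u) [CommRing C] [CommRing D] [Algebra S C] [Algebra R C] [IsScalarTower R S C]
    [Algebra R D] [Algebra D C] [IsScalarTower R D C] [AddCommGroup G] [Module C G] [Module S G]
    [IsScalarTower S C G] (n : ℕ)
    (h : FlatCA.IsOneStepDevissage R S N p C D G n)
    (z : Ideal C) [z.IsPrime] (y : Ideal D) [y.IsPrime] [z.LiesOver q] [z.LiesOver y] [y.LiesOver p]
    (h1 : ∃ (ξ : PrimeSpectrum (p.Fiber S)) (hξ : ξ ∈ Module.support (p.Fiber S) (FlatCA.fiberMod p S N)),
      ξ.asIdeal = FlatCA.fiberIdeal p q ∧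
      FlatMor.localDim (Module.support (p.Fiber S) (FlatCA.fiberMod p S N)) ⟨ξ, hξ⟩ = n)
    (h3 : ∀ (z₁ : Ideal C) [z₁.IsPrime], z₁.LiesOver y → z₁ = z)
    (h4 : FlatCA.PurelyTranscendental p y)
    (u : S) (hu : u ∉ q) :
    ∃ (g : R) (hX : S) (hZ : C) (hY : D), g ∉ p ∧ hX ∉ q ∧ hZ ∉ z ∧ hY ∉ y ∧
      IsUnit (algebraMap S (Localization.Away hX) u) ∧
      ∃ (_ : Algebra (Localization.Away g) (Localization.Away hX)) (_ : IsScalarTower R (Localization.Away g) (Localization.Away hX))
        (_ : Algebra (Localization.Away g) (Localization.Away hZ)) (_ : IsScalarTower R (Localization.Away g) (Localization.Away hZ))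
        (_ : Algebra (Localization.Away g) (Localization.Away hY)) (_ : IsScalarTower R (Localization.Away g) (Localization.Away hY))
        (_ : Algebra (Localization.Away hX) (Localization.Away hZ)) (_ : IsScalarTower S (Localization.Away hX) (Localization.Away hZ))
        (_ : IsScalarTower (Localization.Away g) (Localization.Away hX) (Localization.Away hZ))
        (_ : Algebra (Localization.Away hY) (Localization.Away hZ)) (_ : IsScalarTower D (Localization.Away hY) (Localization.Away hZ))
        (_ : IsScalarTower (Localization.Away g) (Localization.Away hY) (Localization.Away hZ))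
        (_ : Module (Localization.Away g) (LocalizedModule (Submonoid.powers hX) N)) (_ : IsScalarTower (Localization.Away g) (Localization.Away hX) (LocalizedModule (Submonoid.powers hX) N))
        (_ : Module (Localization.Away hX) (LocalizedModule (Submonoid.powers hZ) G)) (_ : IsScalarTower (Localization.Away hX) (Localization.Away hZ) (LocalizedModule (Submonoid.powers hZ) G))
        (_ : (Ideal.map (algebraMap R (Localization.Away g)) p).IsPrime) (_ : (Ideal.map (algebraMap D (Localization.Away hY)) y).IsPrime) (_ : (Ideal.map (algebraMap D (Localization.Away hY)) y).LiesOver (Ideal.map (algebraMap R (Localization.Away g)) p)),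
        FlatCA.IsOneStepDevissage (Localization.Away g) (Localization.Away hX) (LocalizedModule (Submonoid.powers hX) N) (Ideal.map (algebraMap R (Localization.Away g)) p) (Localization.Away hZ) (Localization.Away hY) (LocalizedModule (Submonoid.powers hZ) G) n ∧
        (∃ (ξ : PrimeSpectrum ((Ideal.map (algebraMap R (Localization.Away g)) p).Fiber (Localization.Away hX)))
            (hξ : ξ ∈ Module.support ((Ideal.map (algebraMap R (Localization.Away g)) p).Fiber (Localization.Away hX)) (FlatCA.fiberMod (Ideal.map (algebraMap R (Localization.Away g)) p) (Localization.Away hX) (LocalizedModule (Submonoid.powers hX) N))),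
          ξ.asIdeal = FlatCA.fiberIdeal (Ideal.map (algebraMap R (Localization.Away g)) p) (Ideal.map (algebraMap S (Localization.Away hX)) q) ∧
          FlatMor.localDim (Module.support ((Ideal.map (algebraMap R (Localization.Away g)) p).Fiber (Localization.Away hX)) (FlatCA.fiberMod (Ideal.map (algebraMap R (Localization.Away g)) p) (Localization.Away hX) (LocalizedModule (Submonoid.powers hX) N))) ⟨ξ, hξ⟩ = n) ∧
        (Ideal.map (algebraMap C (Localization.Away hZ)) z).LiesOver (Ideal.map (algebraMap S (Localization.Away hX)) q) ∧ (Ideal.map (algebraMap C (Localization.Away hZ)) z).LiesOver (Ideal.map (algebraMap D (Localization.Away hY)) y) ∧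
        (∀ (z₂ : Ideal (Localization.Away hZ)) [z₂.IsPrime], z₂.LiesOver (Ideal.map (algebraMap D (Localization.Away hY)) y) → z₂ = Ideal.map (algebraMap C (Localization.Away hZ)) z) ∧
        FlatCA.PurelyTranscendental (Ideal.map (algebraMap R (Localization.Away g)) p) (Ideal.map (algebraMap D (Localization.Away hY)) y) := by
  obtain ⟨-, hsurj, -, hfin, -, hsm, -⟩ := id h
  haveI : Algebra.IsIntegral D C := Algebra.IsIntegral.of_finite D C
  haveI : Algebra.Smooth R D := by
    haveI : AlgebraicGeometry.SmoothOfRelativeDimension n (AlgebraicGeometry.Spec.map (CommRingCat.ofHom (algebraMap R D))) := hsm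
    exact RingHom.smooth_algebraMap.1 ((AlgebraicGeometry.HasRingHomProperty.Spec_iff (P := @AlgebraicGeometry.Smooth)).1
      (AlgebraicGeometry.SmoothOfRelativeDimension.smooth (n := n) (AlgebraicGeometry.Spec.map (CommRingCat.ofHom (algebraMap R D)))))
  have hq0 : z.comap (algebraMap S C) = q := (inferInstance : z.LiesOver q).over.symm
  have hy0 : z.comap (algebraMap D C) = y := (inferInstance : z.LiesOver y).over.symm
  have hp0 : y.comap (algebraMap R D) = p := (inferInstance : y.LiesOver p).over.symm
  have huz : algebraMap S C u ∉ z := fun hc => hu (hq0 ▸ hc)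
  obtain ⟨b, hb, hbu⟩ := H4RG.exists_inside y z h3 (algebraMap S C u) huz
  obtain ⟨g, hg, hne⟩ := H4RG.exists_base_of_smooth p y b hb
  obtain ⟨l, hl⟩ := hsurj (algebraMap D C b)
  have hgy : algebraMap R D g ∉ y := fun hc => hg (hp0 ▸ hc)
  have hY : b * algebraMap R D g ∉ y := fun hc => (Ideal.IsPrime.mem_or_mem ‹y.IsPrime› hc).elim hb hgy
  have hx : algebraMap S C (u * (l * algebraMap R S g)) = algebraMap S C u * algebraMap D C (b * algebraMap R D g) := by
    rw [map_mul, map_mul, map_mul, hl, ← IsScalarTower.algebraMap_apply, ← IsScalarTower.algebraMap_apply]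
  have hX : u * (l * algebraMap R S g) ∉ q := by
    intro hc
    rw [← hq0, Ideal.mem_comap, hx] at hc
    exact (Ideal.IsPrime.mem_or_mem ‹z.IsPrime› hc).elim huz fun hc => hY (hy0 ▸ hc)
  obtain ⟨hZ, hZz, H⟩ := H4RG.exists_standardShrinking_core N p q G n h z y h1 h3 h4 g (u * (l * algebraMap R S g))
    (b * algebraMap R D g) hg hX hY
    (by rw [IsScalarTower.algebraMap_apply R S (Localization.Away _)]
        exact IsLocalization.Away.isUnit_of_dvd (u * (l * algebraMap R S g)) ((dvd_mul_left _ _).trans (dvd_mul_left _ _)))
    (by rw [IsScalarTower.algebraMap_apply R D (Localization.Away _)]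
        exact IsLocalization.Away.isUnit_of_dvd (b * algebraMap R D g) (dvd_mul_left _ _))
    (fun P hP => by
      obtain ⟨Q, hQb, rfl⟩ := hne P hP
      exact ⟨Q, fun hc => (Q.isPrime.mem_or_mem hc).elim hQb hP, rfl⟩)
    (H4RG.isLocalization_away_right _ _ (H4RG.isUnit_of_mem_radical _ _ hbu
      (IsLocalization.Away.isUnit_of_dvd (algebraMap D C (b * algebraMap R D g)) (by rw [map_mul]; exact dvd_mul_right _ _))) hx)
  exact ⟨g, u * (l * algebraMap R S g), hZ, b * algebraMap R D g, hg, hX, hZz, hY,
    IsLocalization.Away.isUnit_of_dvd (u * (l * algebraMap R S g)) (dvd_mul_right _ _), H⟩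

end Groth.Agent.S12241
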