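import Groth.Statements.S12244
import Groth.Agent.H4RG.DevBaseChange

set_option autoImplicit false
universe u
open FlatMor

namespace Groth.Agent.S12244

open TensorProduct in
/-- All schemes are affine. Let R → S be of finite type, N a finite S-module, p ⊆ R and q ⊆ S primes, 𝒟
a complete dévissage of N/S/R over p in the prelude's algebraic form and 𝒜 a datum making it a
complete dévissage at q (primes qB_i ⊆ B_i over p with purely transcendental residue fields, unique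
primes qA_i ⊆ A_i over them, threaded through q and through the maps B_i → A_{i+1}, relative
dimensions d_i of R → B_i equal to the local dimension of the fibre support of M_i at qB_i). Let R →
R' be a ring map and p' a prime over p with κ(p) → κ(p') bijective, S' the base change of S, N' = N
⊗_S S', and q' a prime of S' over q and over p'. Let 𝒟' be a complete dévissage of N'/S'/R' over p'
of the same length whose rings A'_i, B'_i (i below the length) are base changes of A_i, B_i along R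
→ R' compatibly with B_i → A_i, B_i → A_{i+1}, S → A_0 and S' → A'_0, and whose modules M'_i are
base changes of M_i along A_i → A'_i compatibly with N ≅ M_0 and N' ≅ M'_0. Assume moreover that at
every index at or beyond the length the ring B'_i has a prime over p' and A'_i a prime over that one
(the structure's families run over all natural numbers and constrain nothing at those indices, while
a datum at a point asks for such primes at every index; the condition touches only this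
unconstrained tail and holds, for instance, when the tail repeats the last genuine step — without it
the zero ring could sit there and no datum would exist). Then 𝒟' is a complete dévissage at q' with
the same relative dimensions: there is a datum 𝒜' for (𝒟', q') with d' = d whose primes qB'_i, qA'_i
lie over qB_i, qA_i for every step i below the length. -/
theorem result
    (R S : Type u) [CommRing R] [CommRing S] [Algebra R S] [Algebra.FiniteType R S]
    (N : Type u) [AddCommGroup N] [Module S N] [Module.Finite S N]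
    (p : Ideal R) [p.IsPrime] (q : Ideal S) [q.IsPrime] (𝒟 : FlatCA.CompleteDevissage R S N p)
    (𝒜 : FlatCA.CompleteDevissageAt R S N p q 𝒟)
    (R' : Type u) [CommRing R'] [Algebra R R'] (p' : Ideal R') [p'.IsPrime] [hp' : p'.LiesOver p]
    (hκ : Function.Bijective (Ideal.ResidueField.mapₐ p p' (Algebra.ofId R R') hp'.over))
    (S' : Type u) [CommRing S'] [Algebra R' S'] [Algebra R S'] [Algebra S S'] [IsScalarTower R R' S']
    [IsScalarTower R S S'] [Algebra.IsPushout R R' S S']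
    (N' : Type u) [AddCommGroup N'] [Module S' N'] [Module S N'] [IsScalarTower S S' N']
    (f : N →ₗ[S] N') (hf : IsBaseChange S' f)
    (q' : Ideal S') [q'.IsPrime] [q'.LiesOver q] [q'.LiesOver p']
    (𝒟' : FlatCA.CompleteDevissage R' S' N' p') (hn : 𝒟'.n = 𝒟.n)
    (htail : ∀ i, 𝒟.n ≤ i → ∃ (Q : Ideal (𝒟'.B i)) (P : Ideal (𝒟'.A i)),
      Q.IsPrime ∧ P.IsPrime ∧ Q.LiesOver p' ∧ P.LiesOver Q)
    [aA : ∀ i : Fin 𝒟.n, Algebra (𝒟.A i) (𝒟'.A i)] [rA : ∀ i : Fin 𝒟.n, Algebra R (𝒟'.A i)]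
      [∀ i : Fin 𝒟.n, IsScalarTower R (R') (𝒟'.A i)] [∀ i : Fin 𝒟.n, IsScalarTower R (𝒟.A i) (𝒟'.A i)]
      [aB : ∀ i : Fin 𝒟.n, Algebra (𝒟.B i) (𝒟'.B i)] [rB : ∀ i : Fin 𝒟.n, Algebra R (𝒟'.B i)]
      [∀ i : Fin 𝒟.n, IsScalarTower R (R') (𝒟'.B i)] [∀ i : Fin 𝒟.n, IsScalarTower R (𝒟.B i) (𝒟'.B i)]
      [bA : ∀ i : Fin 𝒟.n, Algebra (𝒟.B i) (𝒟'.A i)] [∀ i : Fin 𝒟.n, IsScalarTower (𝒟.B i) (𝒟.A i) (𝒟'.A i)]
      [∀ i : Fin 𝒟.n, IsScalarTower (𝒟.B i) (𝒟'.B i) (𝒟'.A i)]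
      [bA' : ∀ i : Fin 𝒟.n, Algebra (𝒟.B i) (𝒟'.A (i + 1))]
      [∀ i : Fin 𝒟.n, IsScalarTower (𝒟.B i) (𝒟'.B i) (𝒟'.A (i + 1))]
      [sA : Algebra S (𝒟'.A 0)] [IsScalarTower S (S') (𝒟'.A 0)]
      [mA : ∀ i : Fin 𝒟.n, Module (𝒟.A i) (𝒟'.M i)] [∀ i : Fin 𝒟.n, IsScalarTower (𝒟.A i) (𝒟'.A i) (𝒟'.M i)]
      (gM : ∀ i : Fin 𝒟.n, 𝒟.M i →ₗ[𝒟.A i] 𝒟'.M i)
    (hbc : (letI := aA ⟨0, 𝒟.pos⟩; IsScalarTower S (𝒟.A 0) (𝒟'.A 0)) ∧
      (∀ x : N, 𝒟'.isoN (f x) = gM ⟨0, 𝒟.pos⟩ (𝒟.isoN x)) ∧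
      (∀ (i : Fin 𝒟.n) (h : (i : ℕ) + 1 < 𝒟.n),
        letI := aA ⟨i + 1, h⟩; IsScalarTower (𝒟.B i) (𝒟.A (i + 1)) (𝒟'.A (i + 1))) ∧
      ∀ i : Fin 𝒟.n,
        Algebra.IsPushout R R' (𝒟.A i) (𝒟'.A i) ∧ Algebra.IsPushout R R' (𝒟.B i) (𝒟'.B i) ∧
        IsBaseChange (𝒟'.A i) (gM i)) :
    ∃ 𝒜' : FlatCA.CompleteDevissageAt R' S' N' p' q' 𝒟', 𝒜'.d = 𝒜.d ∧
      ∀ i : Fin 𝒟.n, (𝒜'.qB i).LiesOver (𝒜.qB i) ∧ (𝒜'.qA i).LiesOver (𝒜.qA i) := by
  obtain ⟨h0, -, hlink, hall⟩ := hbc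
  haveI hqA := 𝒜.hqA
  haveI hqB := 𝒜.hqB
  have hpA := fun i => (hall i).1
  have hpB := fun i => (hall i).2.1
  have hA : ∀ i : Fin 𝒟.n, (𝒜.qA i).comap (algebraMap R (𝒟.A i)) = p := fun i => by
    rw [IsScalarTower.algebraMap_eq R (𝒟.B i) (𝒟.A i), ← Ideal.comap_comap]
    exact (congrArg (Ideal.comap (algebraMap R (𝒟.B i))) (𝒜.overA i).over.symm).trans (𝒜.overB i).over.symm
  refine H4RG.exists_devissageAt p q 𝒜 p' hκ q' (fun Q hQ hQp hQq => ?_) 𝒟' hn htail gM h0 hlink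
    (fun i => (hall i).2.2) (fun i => ?_) (fun i => ?_) (fun i => ⟨?_, ?_⟩) (fun i => ⟨?_, ?_⟩) (fun i Q _ hQ h => ?_)
    (fun i => ?_)
  · haveI := hQ
    exact H4RG.prime_unique_of_pushout (X := S) p p' hκ Q q' hQp (Ideal.LiesOver.over (P := q') (p := p')).symm
      (hQq.trans (Ideal.LiesOver.over (P := q') (p := q)))
  · haveI := hpA i
    haveI := hpB i
    exact H4RG.isPushout_step (R := R) (R' := R')
  · haveI := hpB i
    exact H4RG.smoothRelDim_baseChange (X := 𝒟.B i) (𝒜.relDim i i.2)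
  · haveI := hpA i
    exact H4RG.exists_prime_of_pushout (X := 𝒟.A i) p p' hκ (𝒜.qA i) (hA i)
  · haveI := hpA i
    intro Q₁ Q₂ _ _ h₁ h₁' h₂ h₂'
    exact H4RG.prime_unique_of_pushout (X := 𝒟.A i) p p' hκ Q₁ Q₂ h₁ h₂ (h₁'.trans h₂'.symm)
  · haveI := hpB i
    exact H4RG.exists_prime_of_pushout (X := 𝒟.B i) p p' hκ (𝒜.qB i) (𝒜.overB i).over.symm
  · haveI := hpB i
    intro Q₁ Q₂ _ _ h₁ h₁' h₂ h₂'
    exact H4RG.prime_unique_of_pushout (X := 𝒟.B i) p p' hκ Q₁ Q₂ h₁ h₂ (h₁'.trans h₂'.symm)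
  · haveI := hpB i
    exact H4RG.bijective_mapₐ_of_pushout (X := 𝒟.B i) p p' hκ (𝒜.qB i) Q (𝒜.overB i) ⟨hQ.symm⟩ ⟨h⟩
  · haveI := hpB i
    exact ⟨H4RG.mapsTo_fib (X := 𝒟.B i) (X' := 𝒟'.B i) p p',
      (H4RG.isOpenEmbedding_fib_of_pushout p p' hp' hκ (H4RG.mapsTo_fib (X := 𝒟.B i) (X' := 𝒟'.B i) p p')).1⟩

end Groth.Agent.S12244
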