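import Groth.Statements.S12245
-- import your own Groth.Agent.* helpers here
import Groth.Agent.H4RG.DevStepData

set_option autoImplicit false
universe u
open FlatMor

namespace Groth.Agent.S12245

open Groth.Agent.H4RG in
attribute [local instance] Algebra.TensorProduct.rightAlgebra in
set_option backward.isDefEq.respectTransparency.types false in
set_option maxHeartbeats 1000000 in
open TensorProduct AlgebraicGeometry in
/-- All schemes are affine. Let R → S be of finite type, N a finite S-module, p ⊆ R and q ⊆ S primes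
with q over p, and (C, D, G, n; z, y) a one-step dévissage of N/S/R at q (one-step dévissage over p;
z a prime of C over q and over the prime y of D, unique over y; κ(y)/κ(p) purely transcendental;
local dimension of the fibre support at q equal to n). Let (R, p) → (R', p') and (D, y) → (D', y')
be elementary étale ring maps at those primes (étale, prime over prime, trivial residue field
extension) with D' an R'-algebra compatibly with D and R, and y' over p'. Then there are: an
elementary étale ring map (R', p') → (R'', p''); an R''-algebra D'' which is an affine open of the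
base change of D' to R'' (an open immersion on spectra out of a pushout T of D' along R' → R''),
compatibly with D' and R'', with a prime y'' over y' and over p''; the base change C'' of C along D
→ D'' with a prime z'' over z and y'' and the base change G'' of G to C''; an elementary étale ring
map (S, q) → (S'', q'') with S'' an R''-algebra compatibly with R → S and a surjection S'' → C''
compatible with S → C and with D'' → C'' over R'', z'' lying over q''; and the base change N'' of N
to S'' — such that (C'', D'', G'', n; z'', y'') is a one-step dévissage of N''/S''/R'' at q''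
(including the four pointed conditions). -/
theorem result
    (R S : Type u) [CommRing R] [CommRing S] [Algebra R S] [Algebra.FiniteType R S]
    (N : Type u) [AddCommGroup N] [Module S N] [Module R N] [IsScalarTower R S N] [Module.Finite S N]
    (p : Ideal R) [p.IsPrime] (q : Ideal S) [q.IsPrime] [q.LiesOver p]
    (C D G : Type u) [CommRing C] [CommRing D] [Algebra S C] [Algebra R C] [IsScalarTower R S C]
    [Algebra R D] [Algebra D C] [IsScalarTower R D C] [AddCommGroup G] [Module C G] [Module S G]
    [IsScalarTower S C G] (n : ℕ)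
    (h : FlatCA.IsOneStepDevissage R S N p C D G n)
    (z : Ideal C) [z.IsPrime] (y : Ideal D) [y.IsPrime] [z.LiesOver q] [z.LiesOver y] [y.LiesOver p]
    (h1 : ∃ (ξ : PrimeSpectrum (p.Fiber S)) (hξ : ξ ∈ Module.support (p.Fiber S) (FlatCA.fiberMod p S N)),
      ξ.asIdeal = FlatCA.fiberIdeal p q ∧
      FlatMor.localDim (Module.support (p.Fiber S) (FlatCA.fiberMod p S N)) ⟨ξ, hξ⟩ = n)
    (h3 : ∀ (z₁ : Ideal C) [z₁.IsPrime], z₁.LiesOver y → z₁ = z)
    (h4 : FlatCA.PurelyTranscendental p y)
    (R' : Type u) [CommRing R'] [Algebra R R'] (p' : Ideal R') [p'.IsPrime] (hR' : FlatCA.IsEtaleNhd R R' p p')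
    (D' : Type u) [CommRing D'] [Algebra D D'] [Algebra R' D'] [Algebra R D'] [IsScalarTower R R' D']
    [IsScalarTower R D D'] (y' : Ideal D') [y'.IsPrime] (hD' : FlatCA.IsEtaleNhd D D' y y') [y'.LiesOver p'] :
    ∃ (R'' : Type u) (_ : CommRing R'') (_ : Algebra R' R'') (_ : Algebra R R'') (_ : IsScalarTower R R' R'')
      (p'' : Ideal R'') (_ : p''.IsPrime),
      FlatCA.IsEtaleNhd R' R'' p' p'' ∧
    ∃ (T : Type u) (_ : CommRing T) (_ : Algebra R' T) (_ : Algebra R'' T) (_ : Algebra D' T)
      (_ : IsScalarTower R' R'' T) (_ : IsScalarTower R' D' T),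
      Algebra.IsPushout R' R'' D' T ∧
    ∃ (D'' : Type u) (_ : CommRing D'') (_ : Algebra T D'') (_ : Algebra D' D'') (_ : Algebra R'' D'')
      (_ : Algebra D D'') (_ : Algebra R D'') (_ : IsScalarTower D' T D'') (_ : IsScalarTower R'' T D'')
      (_ : IsScalarTower D D' D'') (_ : IsScalarTower R R'' D'') (_ : IsScalarTower R D D'')
      (y'' : Ideal D'') (_ : y''.IsPrime) (_ : y''.LiesOver y') (_ : y''.LiesOver p''),
      IsOpenImmersion (Spec.map (CommRingCat.ofHom (algebraMap T D''))) ∧
    ∃ (C'' : Type u) (_ : CommRing C'') (_ : Algebra C C'') (_ : Algebra D'' C'') (_ : Algebra D C'')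
      (_ : Algebra R'' C'') (_ : IsScalarTower D D'' C'') (_ : IsScalarTower D C C'') (_ : IsScalarTower R'' D'' C'')
      (z'' : Ideal C'') (_ : z''.IsPrime) (_ : z''.LiesOver z) (_ : z''.LiesOver y''),
      Algebra.IsPushout D D'' C C'' ∧
    ∃ (G'' : Type u) (_ : AddCommGroup G'') (_ : Module C'' G'') (_ : Module C G'') (_ : IsScalarTower C C'' G'')
      (gG : G →ₗ[C] G''), IsBaseChange C'' gG ∧
    ∃ (S'' : Type u) (_ : CommRing S'') (_ : Algebra S S'') (_ : Algebra R'' S'') (_ : Algebra R S'')
      (_ : IsScalarTower R S S'') (_ : IsScalarTower R R'' S'') (q'' : Ideal S'') (_ : q''.IsPrime)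
      (_ : Algebra S'' C'') (_ : Algebra S C'') (_ : IsScalarTower S S'' C'') (_ : IsScalarTower S C C'')
      (_ : IsScalarTower R'' S'' C'') (_ : Module S'' G'') (_ : IsScalarTower S'' C'' G''),
      FlatCA.IsEtaleNhd S S'' q q'' ∧ z''.LiesOver q'' ∧
    ∃ (N'' : Type u) (_ : AddCommGroup N'') (_ : Module S'' N'') (_ : Module S N'') (_ : IsScalarTower S S'' N'')
      (_ : Module R'' N'') (_ : IsScalarTower R'' S'' N'') (gN : N →ₗ[S] N''), IsBaseChange S'' gN ∧
      FlatCA.IsOneStepDevissage R'' S'' N'' p'' C'' D'' G'' n ∧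
      (∃ (ξ : PrimeSpectrum (p''.Fiber S'')) (hξ : ξ ∈ Module.support (p''.Fiber S'') (FlatCA.fiberMod p'' S'' N'')),
        ξ.asIdeal = FlatCA.fiberIdeal p'' q'' ∧
        FlatMor.localDim (Module.support (p''.Fiber S'') (FlatCA.fiberMod p'' S'' N'')) ⟨ξ, hξ⟩ = n) ∧
      (∀ (z₂ : Ideal C'') [z₂.IsPrime], z₂.LiesOver y'' → z₂ = z'') ∧
      FlatCA.PurelyTranscendental p'' y'' := by
  obtain ⟨⟨e⟩, hsurj, hfp, hfinDC, hfinG, hn, hgi, -⟩ := h
  haveI := hfinDC
  haveI := hfinG
  obtain ⟨R₁, _, _, p₁, _, P, _, u, f, hR₁, hW, hPp, hnW, hu, hf, hstage⟩ :=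
    exists_stage hsurj hfp hn p q z y h3 h4 p' hR' y' hD'
  haveI : Algebra.Smooth R₁ (R₁ ⊗[R'] D') := smooth_of_relDim hnW
  haveI : P.LiesOver p₁ := ⟨hPp.symm⟩
  obtain ⟨d, G₁, hd, hG, hud, hfG, hGd, hne⟩ := exists_open_base p₁ P u hu f hf
  let W := R₁ ⊗[R'] D'
  let R'' := Localization.Away G₁
  let D'' := Localization.Away d
  let T := Localization.Away (algebraMap R₁ W G₁)
  letI : Algebra R R₁ := ((algebraMap R' R₁).comp (algebraMap R R')).toAlgebra
  haveI : IsScalarTower R R' R₁ := IsScalarTower.of_algebraMap_eq fun _ => rfl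
  letI : Algebra D W := ((algebraMap D' W).comp (algebraMap D D')).toAlgebra
  haveI : IsScalarTower D D' W := IsScalarTower.of_algebraMap_eq fun _ => rfl
  haveI : IsScalarTower R R₁ W := IsScalarTower.of_algebraMap_eq fun r => by
    show algebraMap R W r = algebraMap R₁ W (algebraMap R' R₁ (algebraMap R R' r))
    rw [← IsScalarTower.algebraMap_apply R' R₁ W, ← IsScalarTower.algebraMap_apply R R' W]
  haveI : IsScalarTower R D W := IsScalarTower.of_algebraMap_eq fun r => by
    show algebraMap R W r = algebraMap D' W (algebraMap D D' (algebraMap R D r))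
    rw [← IsScalarTower.algebraMap_apply R D D', IsScalarTower.algebraMap_apply R R' D',
      ← IsScalarTower.algebraMap_apply R' D' W, ← IsScalarTower.algebraMap_apply R R' W]
  have uG : IsUnit (algebraMap R₁ D'' G₁) := by
    rw [IsScalarTower.algebraMap_apply R₁ W D'']
    exact IsLocalization.Away.isUnit_of_dvd d hGd
  have uT : IsUnit (algebraMap R₁ T G₁) := by
    rw [IsScalarTower.algebraMap_apply R₁ W T]
    exact IsLocalization.Away.algebraMap_isUnit _
  letI : Algebra R'' D'' := (IsLocalization.Away.lift G₁ uG).toAlgebra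
  haveI : IsScalarTower R₁ R'' D'' := IsScalarTower.of_algebraMap_eq fun x => (IsLocalization.Away.lift_eq G₁ uG x).symm
  letI : Algebra R'' T := (IsLocalization.Away.lift G₁ uT).toAlgebra
  haveI : IsScalarTower R₁ R'' T := IsScalarTower.of_algebraMap_eq fun x => (IsLocalization.Away.lift_eq G₁ uT x).symm
  have uW : IsUnit (algebraMap W D'' (algebraMap R₁ W G₁)) := IsLocalization.Away.isUnit_of_dvd d hGd
  letI : Algebra T D'' := (IsLocalization.Away.lift (algebraMap R₁ W G₁) uW).toAlgebra
  haveI : IsScalarTower W T D'' := IsScalarTower.of_algebraMap_eq fun x => (IsLocalization.Away.lift_eq _ uW x).symm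
  haveI : IsScalarTower R'' T D'' := IsScalarTower.of_algebraMap_eq' (IsLocalization.ringHom_ext (Submonoid.powers G₁)
    (RingHom.ext fun x => by
      show algebraMap R'' D'' (algebraMap R₁ R'' x) = algebraMap T D'' (algebraMap R'' T (algebraMap R₁ R'' x))
      rw [← IsScalarTower.algebraMap_apply R₁ R'' D'', ← IsScalarTower.algebraMap_apply R₁ R'' T,
        IsScalarTower.algebraMap_apply R₁ W T, ← IsScalarTower.algebraMap_apply W T D'',
        ← IsScalarTower.algebraMap_apply R₁ W D'']))
  haveI : IsScalarTower D' T D'' := IsScalarTower.of_algebraMap_eq fun x => by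
    rw [IsScalarTower.algebraMap_apply D' W T, ← IsScalarTower.algebraMap_apply W T D'',
      ← IsScalarTower.algebraMap_apply D' W D'']
  haveI : IsScalarTower R R'' D'' := IsScalarTower.of_algebraMap_eq fun x => by
    rw [IsScalarTower.algebraMap_apply R R₁ R'', ← IsScalarTower.algebraMap_apply R₁ R'' D'',
      ← IsScalarTower.algebraMap_apply R R₁ D'']
  haveI : IsScalarTower R D D'' := IsScalarTower.of_algebraMap_eq fun x => by
    rw [IsScalarTower.algebraMap_apply R W D'', IsScalarTower.algebraMap_apply R D W,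
      ← IsScalarTower.algebraMap_apply D W D'']
  haveI : IsScalarTower D D' D'' := IsScalarTower.of_algebraMap_eq fun x => by
    rw [IsScalarTower.algebraMap_apply D W D'', IsScalarTower.algebraMap_apply D D' W,
      ← IsScalarTower.algebraMap_apply D' W D'']
  haveI : IsScalarTower R' R'' T := IsScalarTower.of_algebraMap_eq fun x => by
    rw [IsScalarTower.algebraMap_apply R' R₁ R'', ← IsScalarTower.algebraMap_apply R₁ R'' T,
      ← IsScalarTower.algebraMap_apply R' R₁ T]
  haveI : IsScalarTower R' D' T := IsScalarTower.of_algebraMap_eq fun x => by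
    rw [IsScalarTower.algebraMap_apply R' W T, IsScalarTower.algebraMap_apply R' D' W,
      ← IsScalarTower.algebraMap_apply D' W T]
  haveI : Algebra.IsPushout R₁ R'' W T := isPushout_away G₁
  have hT : Algebra.IsPushout R' R'' D' T := Algebra.IsPushout.comp_iff (R := R') (S := R₁) (R' := D') (S' := W) |>.2 ‹_›
  haveI : IsLocalization.Away (algebraMap W T d) D'' := isLocalization_away_of_tower (algebraMap R₁ W G₁) d
  have hopen : IsOpenImmersion (Spec.map (CommRingCat.ofHom (algebraMap T D''))) := .of_isLocalization (algebraMap W T d)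
  obtain ⟨hgi'', hn'', ⟨SL⟩⟩ := hstage d G₁ hd hG hud hfG hGd hne
    (fun r => by rw [IsScalarTower.algebraMap_apply R R₁ R'', IsScalarTower.algebraMap_apply R R' R₁])
    (fun x => IsScalarTower.algebraMap_apply D D' D'' x)
  obtain ⟨hpp, hpc⟩ := isPrime_map_away G₁ p₁ hG
  obtain ⟨hyy, hyc⟩ := isPrime_map_away d P hd
  haveI := hpp
  haveI := hyy
  let p'' : Ideal R'' := p₁.map (algebraMap R₁ R'')
  let y'' : Ideal D'' := P.map (algebraMap W D'')
  haveI hy''p : y''.LiesOver p'' := ⟨(map_comap_away G₁ _ p₁ (by
    rw [Ideal.comap_comap, ← IsScalarTower.algebraMap_eq, IsScalarTower.algebraMap_eq R₁ W D'', ← Ideal.comap_comap]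
    exact (congrArg (Ideal.comap (algebraMap R₁ W)) hyc).trans hPp)).symm⟩
  have hR'R'' : FlatCA.IsEtaleNhd R' R'' p' p'' :=
    isEtaleNhd_trans p' p₁ p'' hR₁ (isEtaleNhd_away G₁ ⟨_, hpp⟩ p₁ hpc)
  have hR'' : FlatCA.IsEtaleNhd R R'' p p'' := isEtaleNhd_trans p p' p'' hR' hR'R''
  have hy' : FlatCA.IsEtaleNhd D' D'' y' y'' :=
    isEtaleNhd_trans y' P y'' hW (isEtaleNhd_away d ⟨_, hyy⟩ P hyc)
  haveI : y''.LiesOver y' := hy'.2.choose
  have hD'' : FlatCA.IsEtaleNhd D D'' y y'' := isEtaleNhd_trans y y' y'' hD' hy'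
  haveI hzy'' : SL.z'.LiesOver y'' := ⟨SL.comapD.symm⟩
  haveI : SL.z'.LiesOver z := ⟨SL.comapC.symm⟩
  obtain ⟨e''⟩ := SL.exists_moduleEquiv e
  haveI := hR''.1
  haveI := SL.etale.1
  let q'' : Ideal SL.S' := SL.z'.comap (algebraMap SL.S' SL.C')
  have hq''p : q''.comap (algebraMap R'' SL.S') = p'' := by
    show (SL.z'.comap (algebraMap SL.S' SL.C')).comap (algebraMap R'' SL.S') = _
    rw [Ideal.comap_comap, ← IsScalarTower.algebraMap_eq, IsScalarTower.algebraMap_eq R'' D'' SL.C', ← Ideal.comap_comap,
      SL.comapD]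
    exact hy''p.over.symm
  have hloc : LocAt p'' (SL.S' ⊗[S] N) (⟨q'', inferInstance⟩ : PrimeSpectrum SL.S') n :=
    LocAt.etale (R := R) (X := S) p p'' (TensorProduct.isBaseChange S N SL.S')
      ((locAt_iff p N q (‹q.LiesOver p›).over.symm _).1 h1) ⟨q'', inferInstance⟩ hq''p
      (PrimeSpectrum.ext SL.etale.2.choose.over.symm)
  have hfinS : Module.Finite SL.S' SL.C' := Module.Finite.of_surjective (Algebra.linearMap SL.S' SL.C') (SL.surjective hsurj)
  haveI : Module.Finite D'' SL.C' := SL.moduleFinite
  have hdim : Module.supportDim (p''.Fiber SL.S') (FlatCA.fiberMod p'' SL.S' (SL.S' ⊗[S] N)) = n := by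
    refine le_antisymm ?_ (le_supportDim_of_locAt p'' _ hloc)
    rw [supportDim_fiberMod p'' (SL.S' ⊗[S] N)]
    have heq : suppOver SL.S' p'' (SL.S' ⊗[S] N) = suppOver SL.S' p'' (SL.C' ⊗[C] G) :=
      Set.ext fun Q => and_congr Iff.rfl (by rw [e''.annihilator_eq])
    rw [heq, krullDim_suppOver_of_finite (R := R'') (X := SL.S') (Y := SL.C') p'' (SL.C' ⊗[C] G),
      ← krullDim_suppOver_of_finite (R := R'') (X := D'') (Y := SL.C') p'' (SL.C' ⊗[C] G)]
    refine le_trans ?_ (krullDim_fib_le n hn'' ⟨p'', inferInstance⟩)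
    exact Order.krullDim_le_of_strictMono
      (fun P => (⟨P.1, PrimeSpectrum.ext P.2.1⟩ : ↥(FibDim.fib (B := D'') (⟨p'', inferInstance⟩ : PrimeSpectrum R''))))
      (fun a b h => h)
  exact ⟨R'', inferInstance, inferInstance, inferInstance, inferInstance, p'', inferInstance, hR'R'',
    T, inferInstance, inferInstance, inferInstance, inferInstance, inferInstance, inferInstance, hT,
    D'', inferInstance, inferInstance, inferInstance, inferInstance, inferInstance, inferInstance, inferInstance,
    inferInstance, inferInstance, inferInstance, inferInstance, y'', inferInstance, inferInstance, inferInstance, hopen,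
    SL.C', inferInstance, inferInstance, inferInstance, inferInstance, inferInstance, inferInstance, inferInstance,
    inferInstance, SL.z', inferInstance, inferInstance, inferInstance, SL.pushD,
    SL.C' ⊗[C] G, inferInstance, inferInstance, inferInstance, inferInstance, TensorProduct.mk C SL.C' G 1,
    TensorProduct.isBaseChange C G SL.C',
    SL.S', inferInstance, inferInstance, inferInstance, inferInstance, inferInstance, inferInstance, q'', inferInstance,
    inferInstance, inferInstance, inferInstance, inferInstance, inferInstance, inferInstance, inferInstance,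
    SL.etale, ⟨rfl⟩,
    SL.S' ⊗[S] N, inferInstance, inferInstance, inferInstance, inferInstance, inferInstance, inferInstance,
    TensorProduct.mk S SL.S' N 1, TensorProduct.isBaseChange S N SL.S',
    ⟨⟨e''⟩, SL.surjective hsurj, SL.finitePresentation hfp, SL.moduleFinite, inferInstance, hn'', hgi'', hdim⟩,
    (locAt_iff p'' _ q'' hq''p _).2 hloc, fun z₂ hz₂ h => SL.uniq z₂ hz₂ h.over.symm,
    purelyTranscendental_transport p p'' y y'' hR''.2.choose hD''.2.choose hR''.2.choose_spec hD''.2.choose_spec h4⟩

end Groth.Agent.S12245
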