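import Groth.Statements.S1225
import Groth.Agent.H4RG.SMulClosed
import Groth.Agent.H4RG.ImpurityBC
-- import your own Groth.Agent.* helpers here

set_option autoImplicit false
set_option backward.isDefEq.respectTransparency.types false
set_option linter.style.haveILetI false
universe u
open FlatMor
open scoped TensorProduct
attribute [local instance] Algebra.TensorProduct.rightAlgebra

namespace Groth.Agent.S1225

open IsLocalRing in
/-- Ring form, X = Spec B affine: let A be a local ring, B a finite type A-algebra and N a finite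
B-module which is flat over A and pure along the closed fibre. Then a B-linear map φ from N to any
B-module is injective if and only if its localization at q is injective for every prime q of B over
𝔪_A whose extension to the closed fibre ring is an associated prime of the closed fibre module. -/
theorem result {A B : Type u} [CommRing A] [IsLocalRing A] [CommRing B] [Algebra A B] [Algebra.FiniteType A B]
    (N : Type u) [AddCommGroup N] [Module B N] [Module A N] [IsScalarTower A B N] [Module.Finite B N] [Module.Flat A N]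
    (hpure : FlatCA.IsPureAlong A B N (maximalIdeal A))
    (N' : Type u) [AddCommGroup N'] [Module B N'] (φ : N →ₗ[B] N') :
    Function.Injective φ ↔ ∀ (q : Ideal B) [q.IsPrime], q.LiesOver (maximalIdeal A) →
      FlatCA.fiberIdeal (maximalIdeal A) q ∈ associatedPrimes ((maximalIdeal A).Fiber B) (FlatCA.fiberMod (maximalIdeal A) B N) →
      Function.Injective (LocalizedModule.map q.primeCompl φ) := by
  refine ⟨fun hinj q _ _ _ => LocalizedModule.map_injective q.primeCompl φ hinj, fun h => ?_⟩
  classical
  rw [injective_iff_map_eq_zero]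
  intro x hx
  let m := maximalIdeal A
  let F := m.Fiber B
  haveI : IsNoetherianRing F := Algebra.FiniteType.isNoetherianRing m.ResidueField F
  haveI : Module.Finite F (FlatCA.fiberMod m B N) := inferInstanceAs (Module.Finite F (F ⊗[B] N))
  let S := associatedPrimes F (FlatCA.fiberMod m B N)
  have hfin : S.Finite := associatedPrimes.finite F (FlatCA.fiberMod m B N)
  obtain ⟨t, ht, htx⟩ : ∃ t : B, (∀ Q ∈ S, algebraMap B F t ∉ Q) ∧ t • x = 0 := by
    by_contra hne
    push Not at hne
    have hsub : ((Submodule.span B {x}).annihilator : Set B) ⊆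
        ⋃ Q ∈ (↑hfin.toFinset : Set (Ideal F)), (Q.comap (algebraMap B F) : Ideal B) := fun t ht => by
      by_contra h0
      refine hne t (fun Q hQ hm => h0 ?_) ((Submodule.mem_annihilator_span_singleton _ _).1 ht)
      exact Set.mem_iUnion₂.2 ⟨Q, hfin.mem_toFinset.2 hQ, hm⟩
    obtain ⟨Q, hQ, hle⟩ := (Ideal.subset_union_prime (⊥ : Ideal F) ⊥ fun Q hQ _ _ => by
      haveI := (hfin.mem_toFinset.1 hQ).isPrime
      exact Ideal.comap_isPrime _ _).1 hsub
    have hQ' : Q ∈ S := hfin.mem_toFinset.1 hQ
    haveI : Q.IsPrime := hQ'.isPrime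
    let q := Q.comap (algebraMap B F)
    haveI : q.IsPrime := Ideal.comap_isPrime _ _
    have h0 : LocalizedModule.mkLinearMap q.primeCompl N x = 0 := by
      refine h q ⟨(H4RG.comap_fiber_eq m Q).symm⟩ (by rw [H4RG.fiberIdeal_comap]; exact hQ') ?_
      rw [LocalizedModule.mkLinearMap_apply, LocalizedModule.map_mk, hx, map_zero, LocalizedModule.zero_mk]
    obtain ⟨u, hu⟩ := (IsLocalizedModule.eq_zero_iff q.primeCompl (LocalizedModule.mkLinearMap q.primeCompl N)).1 h0
    exact u.2 (hle ((Submodule.mem_annihilator_span_singleton _ _).2 hu))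
  by_contra hne
  have hw : x ⊗ₜ[A] (1 : A) ≠ 0 := fun h0 => hne (by simpa using congrArg (TensorProduct.rid A N) h0)
  obtain ⟨Q, p', _, _, hQp, hJ, hass⟩ := H4RG.exists_assoc_of_ne_zero (B := B) N A (x ⊗ₜ[A] (1 : A)) hw
  obtain ⟨P', hP', hQP', hP'm⟩ : ∃ P' : Ideal B, P'.IsPrime ∧ Q ≤ P' ∧ P'.comap (algebraMap A B) = m := by
    by_contra hno
    push Not at hno
    haveI : m.LiesOver m := ⟨(Ideal.comap_id m).symm⟩
    refine hpure A B N LinearMap.id p' m Q ⟨inferInstance, ⟨(Ideal.comap_id m).symm⟩, ?_⟩
      ⟨inferInstance, IsBaseChange.ofEquiv (LinearEquiv.refl B N), IsLocalRing.le_maximalIdeal (Ideal.IsPrime.ne_top ‹_›),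
        ⟨(Ideal.comap_id m).symm⟩, hQp, hass, fun P' hP' hQ hov => hno P' hP' hQ hov.over.symm⟩
    exact ⟨RingHom.injective _, fun z => ⟨z, DFunLike.congr_fun (Ideal.ResidueField.mapₐ_id m) z⟩⟩
  have hfib : ∀ v : N ⊗[A] ResidueField A, t • v = 0 → ∃ u ∉ P', u • v = 0 := by
    intro v hv
    letI : Algebra m.ResidueField (ResidueField A) :=
        (Ideal.ResidueField.lift m (algebraMap A (ResidueField A))
          (fun a ha => by
            rw [RingHom.mem_ker, IsLocalRing.ResidueField.algebraMap_eq, IsLocalRing.residue_eq_zero_iff]; exact ha)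
          fun a ha => isUnit_iff_ne_zero.2 fun h0 => ha (by
            rwa [IsLocalRing.ResidueField.algebraMap_eq, IsLocalRing.residue_eq_zero_iff] at h0)).toAlgebra
    haveI : IsScalarTower A m.ResidueField (ResidueField A) := IsScalarTower.of_algebraMap_eq fun a =>
      (Ideal.ResidueField.lift_algebraMap m _ _ _ a).symm
    refine H4RG.exists_kill_extension P' m.ResidueField (ResidueField A) t (fun v hv => ⟨1, hP'.one_notMem, ?_⟩) v hv
    rw [one_smul]
    exact H4RG.eq_zero_of_notMem_assoc N m t (fun P _ hP hassP htP => ht _ hassP (Ideal.mem_map_of_mem _ htP)) v hv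
  obtain ⟨u, hu, hux⟩ := H4RG.exists_smul_eq_zero_of_fibre N P' hP'm t hfib x htx
  refine hu (hQP' (hJ ?_))
  rw [Submodule.mem_annihilator_span_singleton, TensorProduct.smul_tmul', hux, TensorProduct.zero_tmul]

end Groth.Agent.S1225
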