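import Groth.Statements.S12255
import Groth.Agent.H9T1Fin.Main
import Groth.Agent.H9DefExt.Main
import Groth.Agent.PnCoh.Chow.Proper
import Groth.Agent.H6PnSm.Basic
import Groth.Agent.TwistFlat.Base
import Groth.Agent.PicGlue.ProjSpaceBC

set_option linter.style.haveILetI false
set_option backward.isDefEq.respectTransparency false
set_option backward.isDefEq.respectTransparency.types false
-- import your own Groth.Agent.* helpers here

set_option autoImplicit false
universe u
open CategoryTheory CategoryTheory.Limits AlgebraicGeometry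
open Deform

namespace Groth.Agent.S12255

/-- Let k be an algebraically closed field and X a projective k-scheme, given with a closed immersion
into some P^n_k over k, such that H^0(X, T_X) = Hom_{O_X}(Ω_{X/k}, O_X) = 0 (no infinitesimal
automorphisms). Then the local moduli functor Def_X, of isomorphism classes of deformations of X
over local Artinian k-algebras with residue field k, is prorepresentable by a complete local
Noetherian k-algebra with residue field k. -/
theorem result
    {k : Type u} [Field k] [IsAlgClosed k] (X : Scheme.{u}) (x : X ⟶ Spec (CommRingCat.of k))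
    [LocallyOfFiniteType x] [IsSeparated x] [QuasiCompact x]
    (hproj : ∃ (n : ℕ) (c : X ⟶ CohB1.ProjSpaceOver n (Spec (CommRingCat.of k))),
      IsClosedImmersion c ∧ c ≫ CohB1.ProjSpaceOver.toBase n (Spec (CommRingCat.of k)) = x)
    (h0 : Subsingleton (Omega.sheaf x ⟶ Coh.structureModule X)) :
    ArtFun.IsProrepresentable (ArtFun.defFunctor (Λ := k) X x) := by
  letI : X.Over (Spec (CommRingCat.of k)) := ⟨x⟩
  haveI hsub : Subsingleton (Omega.sheaf (X ↘ Spec (CommRingCat.of k)) ⟶ Coh.structureModule X) := h0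
  obtain ⟨n, c, hc, hcx⟩ := hproj
  haveI := hc
  haveI : IsProper (CohB1.ProjSpaceOver.toBase n (Spec (CommRingCat.of k))) := Groth.Agent.TwistFlat.isProper_toBase n
  haveI : Smooth (CohB1.ProjSpaceOver.toBase n (Spec (CommRingCat.of k))) := by
    haveI := Groth.Agent.H6PnSm.smooth_toSpec.{u} n (ULift.{u} ℤ)
    exact MorphismProperty.pullback_snd (P := @Smooth) _ _ inferInstance
  haveI hpr : IsProper (X ↘ Spec (CommRingCat.of k)) := (hcx ▸ inferInstance : IsProper x)
  haveI : QuasiSeparated (X ↘ Spec (CommRingCat.of k)) := inferInstance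
  haveI : CompactSpace ↥(CohB1.ProjSpaceOver n (Spec (CommRingCat.of k))) :=
    QuasiCompact.compactSpace_of_compactSpace (CohB1.ProjSpaceOver.toBase n (Spec (CommRingCat.of k)))
  haveI : (CohB1.ProjSpaceOver n (Spec (CommRingCat.of k))).IsSeparated := ⟨by
    rw [← terminalIsTerminal.hom_ext
      (CohB1.ProjSpaceOver.toBase n (Spec (CommRingCat.of k)) ≫ terminal.from _) (terminal.from _)]
    infer_instance⟩
  haveI : X.IsSeparated := ⟨by
    rw [← terminalIsTerminal.hom_ext (x ≫ terminal.from _) (terminal.from X)]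
    infer_instance⟩
  obtain ⟨T⟩ := Groth.Agent.ArtFunLib.nonempty_tangentStr
    (Groth.Agent.DefGlueLib.h0_defFunctor (Λ := k) (x := X ↘ Spec (CommRingCat.of k)))
    Groth.Agent.DefGlueLib.heps_defFunctor
  letI := T
  obtain ⟨e, -⟩ := Groth.Agent.PicGlue.exists_projSpace_iso n k
  let i : X ⟶ Groth.Agent.PnVan.P k n := c ≫ e.inv
  haveI : IsClosedImmersion i := inferInstanceAs (IsClosedImmersion (c ≫ e.inv))
  exact (Groth.Agent.ArtFunLib.Hull.isProrepresentable_iff Function.surjective_id
    (Groth.Agent.DefGlueLib.h0_defFunctor (Λ := k) (x := X ↘ Spec (CommRingCat.of k)))).2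
    ⟨Groth.Agent.ArtFunLib.hbar_of_s1 Groth.Agent.DefGlueLib.s1_defFunctor,
      Groth.Agent.DefGlueLib.heps_defFunctor,
      Groth.Agent.H9T1Fin.finite_tangent (c := c) (p := CohB1.ProjSpaceOver.toBase n (Spec (CommRingCat.of k))) hcx i,
      fun B A A' p₁ p₂ f h hf => ⟨Groth.Agent.DefGlueLib.injective_cmp h hf.1 fun ξ σ =>
          ⟨ArtFun.DefSch.Iso.refl ξ, Groth.Agent.DefGlueLib.iso_ext (by
            rw [Groth.Agent.H9DefAut.iso_hom_eq_id _ σ,
              Groth.Agent.H9DefAut.iso_hom_eq_id _ ((ArtFun.DefSch.Iso.refl ξ).baseChange f)])⟩,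
        Groth.Agent.DefGlueLib.surjective_cmp h hf.1⟩⟩

end Groth.Agent.S12255
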