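import Groth.Statements.S12259
import Groth.Agent.H9DefExt.Main
import Groth.Agent.SheafHomX.Coherent
import Groth.Agent.Lib.CurveDeg
import Groth.Agent.PnCoh.Chow.Proper
import Groth.Agent.CurveCohLib.SmoothCurve
import Groth.Agent.CurveCohLib.Proper
import Groth.Agent.S1613
import Groth.Agent.KRRReg.PushOne

set_option linter.style.haveILetI false
set_option backward.isDefEq.respectTransparency false
set_option backward.isDefEq.respectTransparency.types false


set_option autoImplicit false
universe u
open CategoryTheory CategoryTheory.Limits AlgebraicGeometry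
open Deform

namespace Groth.Agent.S12259

/-- Let k be an algebraically closed field and X a nonsingular connected projective curve over k, i.e. X
is smooth over k, connected, of dimension one and a closed subscheme of some projective space P^n_k,
and assume its genus g = dim_k H^1(X, O_X) is at least 2. Then the local moduli functor Def_X
(isomorphism classes of deformations of X over local Artinian k-algebras with residue field k) is
prorepresentable by a complete local Noetherian k-algebra with residue field k. (The published
statement treats every genus and identifies the prorepresenting ring with a power series ring in 0,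
1 or 3g − 3 variables; this row is the prorepresentability for g ≥ 2 only.) -/
theorem result
    {k : Type u} [Field k] [IsAlgClosed k] (X : Scheme.{u}) [X.Over (Spec (CommRingCat.of k))]
    [Smooth (X ↘ Spec (CommRingCat.of k))] [IsSeparated (X ↘ Spec (CommRingCat.of k))]
    [QuasiCompact (X ↘ Spec (CommRingCat.of k))] [ConnectedSpace X]
    (hdim : topologicalKrullDim X = 1)
    (hproj : ∃ (n : ℕ) (c : X ⟶ CohB1.ProjSpaceOver n (Spec (CommRingCat.of k))),
      IsClosedImmersion c ∧ c ≫ CohB1.ProjSpaceOver.toBase n (Spec (CommRingCat.of k)) = X ↘ Spec (CommRingCat.of k))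
    (hg : 2 ≤ Curv2.genus k X) :
    ArtFun.IsProrepresentable (ArtFun.defFunctor (Λ := k) X (X ↘ Spec (CommRingCat.of k))) := by
  obtain ⟨n, c, hc, hcx⟩ := hproj
  haveI := hc
  haveI : IsProper (CohB1.ProjSpaceOver.toBase n (Spec (CommRingCat.of k))) := by
    haveI : IsProper (CohB1.ProjSpace.toSpec n (ULift.{u} ℤ)) := Groth.Agent.PnCoh.Chow.isProper_toSpec _ _
    exact MorphismProperty.pullback_snd _ _ inferInstance
  haveI hpr : IsProper (X ↘ Spec (CommRingCat.of k)) := hcx ▸ inferInstance
  haveI := QuasiCompact.compactSpace_of_compactSpace (X ↘ Spec (CommRingCat.of k))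
  haveI hint : IsIntegral X := Groth.Agent.CurveCohLib.isIntegral_of_smooth_connected (X ↘ Spec (CommRingCat.of k))
  haveI hsub : Subsingleton (Omega.sheaf (X ↘ Spec (CommRingCat.of k)) ⟶ Coh.structureModule X) :=
    ⟨fun a b => (Groth.Agent.S1613.result k X ⟨hpr, inferInstance, hint, hdim⟩ hg a).trans
      (Groth.Agent.S1613.result k X ⟨hpr, inferInstance, hint, hdim⟩ hg b).symm⟩
  obtain ⟨T⟩ := Groth.Agent.ArtFunLib.nonempty_tangentStr
    (Groth.Agent.DefGlueLib.h0_defFunctor (Λ := k) (x := X ↘ Spec (CommRingCat.of k)))
    Groth.Agent.DefGlueLib.heps_defFunctor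
  letI := T
  refine (Groth.Agent.ArtFunLib.Hull.isProrepresentable_iff Function.surjective_id
    (Groth.Agent.DefGlueLib.h0_defFunctor (Λ := k))).2 ⟨Groth.Agent.ArtFunLib.hbar_of_s1 Groth.Agent.DefGlueLib.s1_defFunctor,
      Groth.Agent.DefGlueLib.heps_defFunctor, ?_, Groth.Agent.H9DefExt.hsq_defFunctor_of_subsingleton⟩
  haveI : HasExt.{u} X.Modules := IsGrothendieckAbelian.hasExt _
  haveI : IsLocallyNoetherian X := LocallyOfFiniteType.isLocallyNoetherian (X ↘ Spec (CommRingCat.of k))
  obtain ⟨e⟩ := Groth.Agent.H9DefExt.nonempty_tangent_ext (k := k) (X := X)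
  obtain ⟨e'⟩ := Groth.Agent.PnDual.nonempty_ext_linearEquiv_HH (A := k)
    (Groth.Agent.H9DefExt.isFinLocFree_omega (k := k) (X := X)) (Coh.structureModule X) 1
  haveI := Groth.Agent.CurveCohLib.finite_HH (k := k) (X := X) (Groth.Agent.CurveDeg.isCoh_of_isFinLocFree
    (Groth.Agent.SheafHomX.isFinLocFree_hom (Groth.Agent.H9DefExt.isFinLocFree_omega (k := k) (X := X))
      (Groth.Agent.KRRReg.isFinLocFree_structure X))) 1
  exact Module.Finite.equiv (e.trans e').symm
end Groth.Agent.S12259
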