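import Groth.Statements.S1226
-- import your own Groth.Agent.* helpers here
import Groth.Agent.H4RG.ImpurityEtale

set_option backward.isDefEq.respectTransparency.types false

set_option autoImplicit false
universe u
open FlatMor

namespace Groth.Agent.S1226

attribute [local instance] Algebra.TensorProduct.rightAlgebra

/-- Ring form, X = Spec B affine: let B be a finite type A-algebra, N a finite B-module and p a prime of
A; let A' be an A-algebra with a prime p' over p such that A' is of finite type over A and
quasi-finite at p', and let B', N' be the base changes of B, N. If N is pure along the fibre over p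
then N' is pure along the fibre over p'. -/
theorem result {A B : Type u} [CommRing A] [CommRing B] [Algebra A B] [Algebra.FiniteType A B]
    (N : Type u) [AddCommGroup N] [Module B N] [Module.Finite B N] (p : Ideal A) [p.IsPrime]
    (A' B' N' : Type u) [CommRing A'] [CommRing B'] [Algebra A A'] [Algebra B B'] [Algebra A' B'] [Algebra A B']
    [IsScalarTower A B B'] [IsScalarTower A A' B'] [Algebra.IsPushout A B A' B']
    [AddCommGroup N'] [Module B' N'] [Module B N'] [IsScalarTower B B' N'] (f : N →ₗ[B] N') (hf : IsBaseChange B' f)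
    (p' : Ideal A') [p'.IsPrime] [p'.LiesOver p] [Algebra.FiniteType A A'] [Algebra.QuasiFiniteAt A p']
    (h : FlatCA.IsPureAlong A B N p) : FlatCA.IsPureAlong A' B' N' p' := by
  intro A2 B2 N2 _ _ _ _ _ _ _ _ _ _ _ _ _ _ g2 t' t _ _ P _ het himp
  obtain ⟨het1, hover, -⟩ := het
  haveI := het1
  haveI := hover
  letI : Algebra A A2 := ((algebraMap A' A2).comp (algebraMap A A')).toAlgebra
  haveI : IsScalarTower A A' A2 := IsScalarTower.of_algebraMap_eq fun _ => rfl
  haveI : Algebra.FiniteType A A2 := Algebra.FiniteType.trans (R := A) (S := A') (A := A2) inferInstance inferInstance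
  haveI : Algebra.QuasiFiniteAt A t := H4RG.quasiFiniteAt_etale A' A2 p' t
  haveI : t.LiesOver p := Ideal.LiesOver.trans t p' p
  have hQ : ∃ _ : t.IsPrime, Algebra.FiniteType A A2 ∧ Algebra.QuasiFiniteAt A t :=
    ⟨‹_›, ‹_›, ‹_›⟩
  obtain ⟨A4, B4, N4, _, _, _, _, _, _, _, _, _, _, _, _, _, _, f4, v', v, _, _, P4, _, himp4, _, hft, hqf⟩ :=
    H4RG.isImpurity_of_baseChange (p := p) hf himp
      (fun X [CommRing X] [Algebra A X] T => ∃ _ : T.IsPrime, Algebra.FiniteType A X ∧ Algebra.QuasiFiniteAt A T)
      hQ
  haveI := hft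
  haveI := hqf
  obtain ⟨A5, B5, N5, _, _, _, _, _, _, _, _, _, _, _, _, _, _, f5, w', w, _, _, P5, _, himp5, _, het5⟩ :=
    H4RG.hasImpurity_etale himp4
  exact h A5 B5 N5 f5 w' w P5 het5 himp5

end Groth.Agent.S1226
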