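import Groth.Statements.S12268
import Groth.Agent.AffDefLib.HullDim
import Groth.Agent.AffDefLib.TangentT1

set_option linter.style.haveILetI false
set_option backward.isDefEq.respectTransparency false
set_option backward.isDefEq.respectTransparency.types false


set_option autoImplicit false
universe u
open CategoryTheory CategoryTheory.Limits AlgebraicGeometry
open Deform

namespace Groth.Agent.S12268

set_option maxHeartbeats 2000000 in
/-- Let k be an algebraically closed field and B₀ a k-algebra with a finite presentation P =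
k[X_i]/(f_s); let T¹ = T¹(B₀/k, B₀) and T² = T²(B₀/k, B₀) be the first and second cotangent modules
computed from P, and assume T¹ is finite-dimensional over k. Then for every semiuniversal formal
deformation of Spec B₀ — a complete local Noetherian k-algebra R̄ with residue field k carrying a
miniversal family for the functor Def_{B₀} of isomorphism classes of deformations — one has dim R̄ ≤
dim_k T¹; if T² is finite-dimensional as well, dim_k T¹ ≤ dim R̄ + dim_k T²; and dim R̄ = dim_k T¹
holds exactly when Spec B₀ is unobstructed, i.e. Def_{B₀}(B) → Def_{B₀}(A) is surjective for every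
surjection B → A of local Artinian k-algebras with residue field k. (The published statement writes
the lower bound as dim_k T¹ − dim_k T² ≤ dim R̄, empty when T² is infinite-dimensional, and allows a
localisation of the polynomial ring as ambient algebra.) -/
theorem result
    {k : Type u} [Field k] [IsAlgClosed k] (B₀ : Type u) [CommRing B₀] [Algebra k B₀] {ι σ : Type u} [Finite ι] [Finite σ]
    (P : Algebra.Presentation k B₀ ι σ)
    [Module.Finite k (CotT.T1 P B₀)] (H : ArtFun.Hull (ArtFun.defFunctor (Λ := k) (Spec (CommRingCat.of B₀)) (Spec.map (CommRingCat.ofHom (algebraMap k B₀))))) :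
    ringKrullDim H.ring.carrier ≤ ((Module.finrank k (CotT.T1 P B₀) : ℕ∞) : WithBot ℕ∞) ∧
      (Module.Finite k (CotT.T2 P B₀) →
        ((Module.finrank k (CotT.T1 P B₀) : ℕ∞) : WithBot ℕ∞) ≤
          ringKrullDim H.ring.carrier + ((Module.finrank k (CotT.T2 P B₀) : ℕ∞) : WithBot ℕ∞)) ∧
      (ringKrullDim H.ring.carrier = ((Module.finrank k (CotT.T1 P B₀) : ℕ∞) : WithBot ℕ∞) ↔
        ArtFun.IsSmoothFunctor (ArtFun.defFunctor (Λ := k) (Spec (CommRingCat.of B₀)) (Spec.map (CommRingCat.ofHom (algebraMap k B₀))))) := by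
  classical
  have h0 : ArtFun.H0 (ArtFun.defFunctor (Λ := k) (Spec (CommRingCat.of B₀)) (Groth.Agent.AffDefLib.str k B₀)) :=
    Groth.Agent.DefGlueLib.h0_defFunctor
  have h2 : ArtFun.Heps (ArtFun.defFunctor (Λ := k) (Spec (CommRingCat.of B₀)) (Groth.Agent.AffDefLib.str k B₀)) :=
    Groth.Agent.DefGlueLib.heps_defFunctor
  obtain ⟨T⟩ := Groth.Agent.ArtFunLib.nonempty_tangentStr h0 h2
  obtain ⟨e⟩ := Groth.Agent.AffDefLib.finrank_tangent B₀ P
  obtain ⟨h₁, h₂, h₃⟩ := Groth.Agent.AffDefLib.hull_bounds H
  rw [e.finrank_eq] at h₁ h₂ h₃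
  refine ⟨h₁, fun hT2 => h₂ _ ?_, h₃ h0⟩
  refine Groth.Agent.AffDefLib.liftsUpTo_of_linear Groth.Agent.DefGlueLib.s1_defFunctor fun A' A p hp u => ?_
  obtain ⟨Φ, hΦ⟩ := Groth.Agent.AffDefLib.exists_obs_linear P hp u
  exact ⟨Φ, fun l hl h => hΦ l hl h⟩
end Groth.Agent.S12268
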