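import Groth.Statements.S12271
import Groth.Agent.H9HilbLink.ObsBounds
import Groth.Agent.TwistFlat.Base

set_option linter.style.haveILetI false
set_option backward.isDefEq.respectTransparency false
set_option backward.isDefEq.respectTransparency.types false


set_option autoImplicit false
universe u
open CategoryTheory CategoryTheory.Limits AlgebraicGeometry
attribute [local instance] HasDerivedCategory.standard
open Deform

namespace Groth.Agent.S12271

/-- Let k be an algebraically closed field, Y a separated k-scheme of finite type and i : X → Y a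
regular closed immersion over k (its ideal is locally generated by a regular sequence) with X
projective over k; let N = Hom_{O_X}(I/I², O_X) be the normal sheaf (sheaf Hom of the conormal sheaf
of i, as a right adjoint, assumed to exist). Let R̄ be a complete local Noetherian k-algebra with
residue field k prorepresenting the local Hilbert functor of X in Y (closed subschemes of Y ×_k Spec
A flat over A restricting to X, X ⊆ Y given by the kernel ideal of i), i.e. carrying a universal
family — the formal universal deformation of X in Y. Then dim R̄ ≤ h⁰(X, N); h⁰(X, N) ≤ dim R̄ +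
h¹(X, N); and dim R̄ = h⁰(X, N) if and only if X is unobstructed in Y, i.e. the local Hilbert
functor takes every surjection B → A of local Artinian k-algebras with residue field k to a
surjective map. (The published statement writes the second bound as h⁰(N) − h¹(N) ≤ dim R̄.) -/
theorem result
    {k : Type u} [Field k] [IsAlgClosed k] (Y : Scheme.{u}) (y : Y ⟶ Spec (CommRingCat.of k))
    [LocallyOfFiniteType y] [IsSeparated y] [QuasiCompact y]
    (X : Scheme.{u}) [X.Over (Spec (CommRingCat.of k))] (i : X ⟶ Y) [IsClosedImmersion i] (hi : i ≫ y = X ↘ (Spec (CommRingCat.of k)))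
    (hreg : Mor2.IsRegularClosedImmersion i)
    (hproj : ∃ (n : ℕ) (c : X ⟶ CohB1.ProjSpaceOver n (Spec (CommRingCat.of k))),
      IsClosedImmersion c ∧ c ≫ CohB1.ProjSpaceOver.toBase n (Spec (CommRingCat.of k)) = X ↘ (Spec (CommRingCat.of k)))
    [DCoh.HasSheafHom (Omega.conormal i)]
    (R : ArtFun.ProRep (ArtFun.localHilb Y y i.ker)) :
    ringKrullDim R.ring.carrier ≤ ((Module.finrank k (Coh.HH X ((DCoh.sheafHom (Omega.conormal i)).obj (Coh.structureModule X)) 0) : ℕ∞) : WithBot ℕ∞) ∧
      ((Module.finrank k (Coh.HH X ((DCoh.sheafHom (Omega.conormal i)).obj (Coh.structureModule X)) 0) : ℕ∞) : WithBot ℕ∞) ≤ ringKrullDim R.ring.carrier + ((Module.finrank k (Coh.HH X ((DCoh.sheafHom (Omega.conormal i)).obj (Coh.structureModule X)) 1) : ℕ∞) : WithBot ℕ∞) ∧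
      (ringKrullDim R.ring.carrier = ((Module.finrank k (Coh.HH X ((DCoh.sheafHom (Omega.conormal i)).obj (Coh.structureModule X)) 0) : ℕ∞) : WithBot ℕ∞) ↔ ArtFun.IsSmoothFunctor (ArtFun.localHilb Y y i.ker)) := by
  let _ : Y.Over (Spec (CommRingCat.of k)) := ⟨y⟩
  haveI : IsLocallyNoetherian Y := LocallyOfFiniteType.isLocallyNoetherian y
  haveI : IsProper (X ↘ Spec (CommRingCat.of k)) := by
    obtain ⟨m, c, hc, he⟩ := hproj
    haveI := hc
    haveI := Groth.Agent.TwistFlat.isProper_toBase (r := m) (Y := Spec (CommRingCat.of k))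
    rw [← he]
    infer_instance
  haveI := Groth.Agent.H9HilbLink.finite_HH_normal (k := k) i hi 1
  have hT := Groth.Agent.H9HilbLink.hasObsTheory_HH (k := k) i hi
    (Groth.Agent.H9Hilb.locLifts_of_regular (Groth.Agent.H9HilbLink.isRegularClosedImmersion_image i hreg))
  obtain ⟨T⟩ := Groth.Agent.ArtFunLib.nonempty_tangentStr (F := ArtFun.localHilb Y y i.ker)
    Groth.Agent.H9Hilb.h0_localHilb
    (fun _ _ _ _ h => Groth.Agent.H9Hilb.bijective_cmp h (ArtFun.Art.dual k k).res_surjective)
  let _ : ArtFun.TangentStr (ArtFun.localHilb Y (Y ↘ Spec (CommRingCat.of k)) i.ker) := T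
  obtain ⟨h₁, h₂, -⟩ := Groth.Agent.H9HilbLink.bounds_of_universal R.ring.res R.universal (W := Coh.HH X
    ((DCoh.sheafHom (Omega.conormal i)).obj (Coh.structureModule X)) 1) hT
  have hc := Groth.Agent.H9HilbLink.finrank_cotangent R.ring.res R.universal
  have ht : Module.finrank k (ArtFun.TangentSpace (ArtFun.localHilb Y y i.ker)) = _ :=
    Groth.Agent.H9HilbLink.finrank_tangent_HH (k := k) i hi
  rw [ht] at h₁ h₂ hc
  refine ⟨by exact_mod_cast h₁, by exact_mod_cast h₂, fun h B A p hp u => ?_, fun hs => ?_⟩
  · obtain ⟨φ, hφ⟩ := (R.universal A).2 u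
    obtain ⟨ψ, hψ⟩ := Groth.Agent.H9HilbLink.isSmoothFunctor_of_dim R.ring (h.trans (by rw [hc]; rfl)) p hp φ
    exact ⟨R.family.app B ψ, (R.family.natural p ψ).symm.trans ((congrArg (R.family.app A) hψ).trans hφ)⟩
  · have := Groth.Agent.H9HilbLink.isRegularLocalRing _ R.universal hs
    rw [← (isRegularLocalRing_iff _).1 this, IsLocalRing.spanFinrank_maximalIdeal_eq_finrank_cotangentSpace, hc]
    rfl
end Groth.Agent.S12271
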