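import Groth.Statements.S12272
import Groth.Agent.H9Hilb.Normal
import Groth.Agent.ArtFunLib.HilbInjective

set_option linter.style.haveILetI false
set_option backward.isDefEq.respectTransparency false
set_option backward.isDefEq.respectTransparency.types false


set_option autoImplicit false
universe u
open CategoryTheory CategoryTheory.Limits AlgebraicGeometry
attribute [local instance] HasDerivedCategory.standard
open Deform

namespace Groth.Agent.S12272

/-- Let k be an algebraically closed field, Y a separated k-scheme of finite type and i : X → Y a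
regular closed immersion over k with X projective over k; let N = Hom_{O_X}(I/I², O_X) be the normal
sheaf (sheaf Hom of the conormal sheaf of i, as a right adjoint, assumed to exist). Then X is rigid
in Y, meaning that for every local Artinian k-algebra A with residue field k there is at most one
closed subscheme of Y ×_k Spec A flat over Spec A restricting to X on the closed fibre (necessarily
X ×_k Spec A), if and only if H⁰(X, N) = 0. -/
theorem result
    {k : Type u} [Field k] [IsAlgClosed k] (Y : Scheme.{u}) (y : Y ⟶ Spec (CommRingCat.of k))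
    [LocallyOfFiniteType y] [IsSeparated y] [QuasiCompact y]
    (X : Scheme.{u}) [X.Over (Spec (CommRingCat.of k))] (i : X ⟶ Y) [IsClosedImmersion i] (hi : i ≫ y = X ↘ (Spec (CommRingCat.of k)))
    (hreg : Mor2.IsRegularClosedImmersion i)
    (hproj : ∃ (n : ℕ) (c : X ⟶ CohB1.ProjSpaceOver n (Spec (CommRingCat.of k))),
      IsClosedImmersion c ∧ c ≫ CohB1.ProjSpaceOver.toBase n (Spec (CommRingCat.of k)) = X ↘ (Spec (CommRingCat.of k)))
    [DCoh.HasSheafHom (Omega.conormal i)] :
    (∀ A : ArtFun.Art k k, Subsingleton ((ArtFun.localHilb Y y i.ker).obj A)) ↔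
      Subsingleton (Coh.HH X ((DCoh.sheafHom (Omega.conormal i)).obj (Coh.structureModule X)) 0) := by
  let _ : Y.Over (Spec (CommRingCat.of k)) := ⟨y⟩
  obtain ⟨e₁⟩ := Groth.Agent.ExtShX.exists_hom_HH0 (A := k)
    ((Groth.Agent.SheafHomX.hom (Omega.conormal i)).obj (Coh.structureModule X))
  have hHH : Subsingleton (Coh.HH X ((DCoh.sheafHom (Omega.conormal i)).obj (Coh.structureModule X)) 0) ↔
      Subsingleton ((Scheme.Modules.pullback i).obj (ClSub.idealMod i.ker) ⟶ Coh.structureModule X) := by
    have e₂ := (Groth.Agent.ExtShX.evLin (A := k) (Omega.conormal i) (Coh.structureModule X)).symm.trans e₁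
    constructor
    · intro h
      have := Groth.Agent.AmpleVan.subsingleton_of_iso
        ((Groth.Agent.AmpleVan.sheafHomIso (Omega.conormal i)).app (Coh.structureModule X)) 0 h
      exact e₂.toEquiv.subsingleton
    · intro h
      have : Subsingleton (Omega.conormal i ⟶ Coh.structureModule X) := h
      have := e₂.toEquiv.symm.subsingleton
      exact Groth.Agent.AmpleVan.subsingleton_of_iso
        ((Groth.Agent.AmpleVan.sheafHomIso (Omega.conormal i)).app (Coh.structureModule X)).symm 0 this
  rw [hHH]
  have : IsClosedImmersion i := inferInstance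
  have hpush : Subsingleton ((Scheme.Modules.pullback i).obj (ClSub.idealMod i.ker) ⟶ Coh.structureModule X) ↔
      Subsingleton (ClSub.idealMod i.ker ⟶ (Scheme.Modules.pushforward i).obj (Coh.structureModule X)) :=
    ((Scheme.Modules.pullbackPushforwardAdjunction i).homEquiv _ _).subsingleton_congr
  have hq : Nonempty ((Scheme.Modules.pushforward i).obj (Coh.structureModule X) ≅ ClSub.quotMod i.ker) :=
    Groth.Agent.H9Hilb.nonempty_iso_quotMod i
  obtain ⟨q⟩ := hq
  rw [hpush, ((Iso.refl (ClSub.idealMod i.ker)).homCongr q).subsingleton_congr]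
  constructor
  · intro h
    have := h (ArtFun.Art.dual k k)
    exact ⟨fun a b => by
      obtain ⟨I, rfl⟩ := Groth.Agent.H9Hilb.theta_surjective (x := y) a
      obtain ⟨J, rfl⟩ := Groth.Agent.H9Hilb.theta_surjective (x := y) b
      rw [Subsingleton.elim I J]⟩
  · intro h A
    have h0 : ArtFun.H0 (ArtFun.localHilb Y y i.ker) := Groth.Agent.H9Hilb.h0_localHilb
    exact ⟨fun I J => Groth.Agent.ArtFunLib.HilbInjective.injective Y y i.ker h (ArtFun.Art.toBase A) A.res_surjective
      (h0.2.elim _ _)⟩
end Groth.Agent.S12272
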