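import Groth.Statements.S12279
import Groth.Agent.H9LiftLF.Small

set_option linter.style.haveILetI false
set_option backward.isDefEq.respectTransparency false
set_option backward.isDefEq.respectTransparency.types false
-- import your own Groth.Agent.* helpers here

set_option autoImplicit false
universe u
open CategoryTheory CategoryTheory.Limits AlgebraicGeometry
open scoped TensorProduct
attribute [local instance] HasDerivedCategory.standard
open DefT

namespace Groth.Agent.S12279

/-- Let k be a field and X₀ a k-scheme; let C' → C be a surjection of local Artinian k-algebras with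
residue field k whose kernel J is annihilated by the maximal ideal of C', X' a deformation of X₀
over C' (a scheme flat over Spec C' with a morphism from X₀ identifying X₀ with the closed fibre)
and X = X' ×_{Spec C'} Spec C its base change. Let F be a finite locally free O_X-module, F₀ its
restriction to X₀ and End F₀ = Hom_{O_{X₀}}(F₀, F₀) its sheaf of endomorphisms (the sheaf Hom,
assumed to exist as the right adjoint of tensoring with F₀). If H^1(X₀, End F₀) = 0, then any two
finite locally free O_{X'}-modules F' and F'' whose restrictions to X are both isomorphic to F are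
isomorphic. (The published statement says that the set of extensions of F over X', when non-empty,
is a torsor under H^1(X₀, End F₀ ⊗ J), for deformations over arbitrary local Artin rings; this row
states the consequence when H^1(X₀, End F₀) = 0, over local Artinian k-algebras, and compares the
extensions only as O_{X'}-modules.) -/
theorem result
    {k : Type u} [Field k] (X₀ : Scheme.{u}) (x : X₀ ⟶ Spec (CommRingCat.of k))
    {C' C : ArtFun.Art k k} (p : C' ⟶ C) (hp : ArtFun.Art.IsSemismallExt p)
    (X' : ArtFun.DefSch X₀ x C')
    (F : (X'.baseChange p).total.Modules) (hF : FlatMod.IsFinLocFree F)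
    [DCoh.HasSheafHom ((Scheme.Modules.pullback (X'.baseChange p).i).obj F)]
    (h1 : Subsingleton (Coh.HH X₀ ((DCoh.sheafHom ((Scheme.Modules.pullback (X'.baseChange p).i).obj F)).obj
        ((Scheme.Modules.pullback (X'.baseChange p).i).obj F)) 1))
    (F' F'' : X'.total.Modules) (hF' : FlatMod.IsFinLocFree F') (hF'' : FlatMod.IsFinLocFree F'')
    (e' : Nonempty ((Scheme.Modules.pullback (pullback.fst X'.f (ArtFun.Art.specMap p))).obj F' ≅ F))
    (e'' : Nonempty ((Scheme.Modules.pullback (pullback.fst X'.f (ArtFun.Art.specMap p))).obj F'' ≅ F)) :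
    Nonempty (F' ≅ F'') := by
  letI : X'.total.Over (Spec (CommRingCat.of C')) := ⟨X'.f⟩
  haveI : Flat (X'.total ↘ Spec (CommRingCat.of C')) := X'.flat
  haveI : IsClosedImmersion (ArtFun.Art.specMap p) := IsClosedImmersion.spec_of_surjective _ hp.1
  haveI : IsClosedImmersion (pullback.fst X'.f (ArtFun.Art.specMap p)) :=
    MorphismProperty.pullback_fst _ _ inferInstance
  haveI : IsClosedImmersion X'.i := MorphismProperty.of_isPullback (P := @IsClosedImmersion) X'.isPullback.flip
    (IsClosedImmersion.spec_of_surjective (CommRingCat.ofHom C'.res.toRingHom) C'.res_surjective)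
  haveI : HasExt.{u} X₀.Modules := IsGrothendieckAbelian.hasExt _
  obtain ⟨e'⟩ := e'
  obtain ⟨e''⟩ := e''
  let i₁ := (X'.baseChange p).i
  let t : ∀ (M : X'.total.Modules), ((Scheme.Modules.pullback (pullback.fst X'.f (ArtFun.Art.specMap p))).obj M ≅ F) →
      ((Scheme.Modules.pullback X'.i).obj M ≅ (Scheme.Modules.pullback i₁).obj F) := fun M e =>
    (Scheme.Modules.pullbackCongr (X'.baseChange_i_fst p).symm).app M ≪≫
      ((Scheme.Modules.pullbackComp i₁ (pullback.fst X'.f (ArtFun.Art.specMap p))).app M).symm ≪≫
        (Scheme.Modules.pullback i₁).mapIso e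
  have h := Groth.Agent.H9LiftLF.subsingleton_ext_of_HH x
    (Groth.Agent.KFlatLib.isFinLocFree_pullback i₁ hF) h1
  have hm : RingHom.ker C'.res.toRingHom = IsLocalRing.maximalIdeal C' :=
    Ideal.ext fun a => (ArtFun.Art.mem_maximalIdeal_iff C' a).symm
  refine Groth.Agent.H9LiftLF.exists_iso_small (j := pullback.fst X'.f (ArtFun.Art.specMap p)) (i := X'.i)
    p.toAlgHom.toRingHom C'.res.toRingHom hp.1 C'.res_surjective hm ?_ (IsNoetherian.noetherian _) ?_
    (IsPullback.of_hasPullback X'.f (ArtFun.Art.specMap p)) X'.isPullback hF' hF'' (e' ≪≫ e''.symm) ?_ ?_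
  · rw [hm]
    refine IsLocalRing.le_maximalIdeal fun htop => ?_
    have h1 : p.toAlgHom (1 : C') = 0 := RingHom.mem_ker.1 (htop ▸ Submodule.mem_top : (1 : C') ∈ RingHom.ker p.toAlgHom.toRingHom)
    rw [map_one] at h1
    exact one_ne_zero h1
  · rw [hm]
    exact hp.2
  · exact Groth.Agent.H9LiftLF.subsingleton_ext_of_iso (t F' e') (t F'' e'').symm h
  · exact Groth.Agent.H9LiftLF.subsingleton_ext_of_iso (t F'' e'') (t F' e').symm h

end Groth.Agent.S12279
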