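import Groth.Statements.S1228
import Groth.Agent.S1219
-- import your own Groth.Agent.* helpers here

set_option autoImplicit false
set_option backward.isDefEq.respectTransparency.types false
set_option linter.style.haveILetI false
universe u
open FlatMor

namespace Groth.Agent.S1228

open TensorProduct in
/-- Ring form, S = Spec A and X = Spec B affine, test schemes affine: let B be a finitely presented
A-algebra, N a finitely presented B-module which is flat over A and pure relative to Spec A, and u a
surjective B-linear map from N to a B-module N'. Then the functor 'u becomes an isomorphism after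
base change' is represented by a closed subscheme of Spec A: there is an ideal I of A such that for
every A-algebra A' the base change A' ⊗_A N → A' ⊗_A N' is bijective if and only if IA' = 0. If N'
is finitely presented then I is finitely generated. -/
theorem result {A B : Type u} [CommRing A] [CommRing B] [Algebra A B] [Algebra.FinitePresentation A B]
    (N : Type u) [AddCommGroup N] [Module B N] [Module A N] [IsScalarTower A B N] [Module.FinitePresentation B N] [Module.Flat A N]
    (hpure : FlatCA.IsPure A B N)
    (N' : Type u) [AddCommGroup N'] [Module B N'] [Module A N'] [IsScalarTower A B N'] (u : N →ₗ[B] N') (hu : Function.Surjective u) :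
    ∃ I : Ideal A, (∀ (A' : Type u) [CommRing A'] [Algebra A A'],
        Function.Bijective ((u.restrictScalars A).baseChange A') ↔ I.map (algebraMap A A') = ⊥) ∧
      (Module.FinitePresentation B N' → I.FG) := by
  classical
  haveI : Module.Projective A N := (S1219.result N).2 hpure
  obtain ⟨s, hs⟩ := Module.projective_def.1 (inferInstance : Module.Projective A N)
  let uA := u.restrictScalars A
  let C : Set A := {a | ∃ k : N, u k = 0 ∧ ∃ x : N, s k x = a}
  refine ⟨Ideal.span C, fun A' _ _ => ⟨fun hb => ?_, fun hI => ?_⟩, fun hfp => ?_⟩
  · rw [Ideal.map_eq_bot_iff_le_ker, Ideal.span_le]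
    rintro _ ⟨k, hk, x, rfl⟩
    have h0 : (1 : A') ⊗ₜ[A] k = 0 := hb.1 (by
      rw [LinearMap.baseChange_tmul, show uA k = 0 from hk, tmul_zero, map_zero])
    have := congrArg (((TensorProduct.rid A A').toLinearMap).comp (((Finsupp.lapply x).comp s).lTensor A')) h0
    rw [map_zero] at this
    simpa [Algebra.algebraMap_eq_smul_one, RingHom.mem_ker] using this
  · refine ⟨(injective_iff_map_eq_zero _).2 fun w hw => ?_, fun y => ?_⟩
    · have hex : Function.Exact (LinearMap.ker uA).subtype uA := LinearMap.exact_subtype_ker_map uA
      obtain ⟨v, rfl⟩ := (lTensor_exact A' hex hu w).1 hw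
      clear hw
      induction v using TensorProduct.induction_on with
      | zero => rw [map_zero]
      | add a b ha hb => rw [map_add, ha, hb, add_zero]
      | tmul a k =>
        rw [LinearMap.lTensor_tmul, Submodule.subtype_apply, ← hs (k : N), Finsupp.linearCombination_apply,
          Finsupp.sum, tmul_sum]
        refine Finset.sum_eq_zero fun x _ => ?_
        rw [← smul_tmul, Algebra.smul_def]
        have h0 : algebraMap A A' (s (k : N) x) = 0 := by
          have := Ideal.mem_map_of_mem (algebraMap A A') (Ideal.subset_span (show s (k : N) x ∈ C from ⟨k, k.2, x, rfl⟩))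
          rwa [hI, Ideal.mem_bot] at this
        rw [h0, zero_mul, zero_tmul]
    · obtain ⟨w, hw⟩ := LinearMap.lTensor_surjective A' (g := uA) hu y
      exact ⟨w, hw⟩
  · obtain ⟨G, hG⟩ := Module.FinitePresentation.fg_ker u hu
    let T : Finset A := G.biUnion fun g => (s g).support.image fun x => s g x
    refine ⟨T, le_antisymm (Submodule.span_le.2 fun a ha => ?_) (Submodule.span_le.2 ?_)⟩
    · obtain ⟨g, hg, ha⟩ := Finset.mem_biUnion.1 ha
      obtain ⟨x, -, rfl⟩ := Finset.mem_image.1 ha
      exact Ideal.subset_span ⟨g, LinearMap.mem_ker.1 (hG ▸ Submodule.subset_span hg), x, rfl⟩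
    · rintro _ ⟨k, hk, x, rfl⟩
      have hk' : k ∈ Submodule.span B (G : Set N) := hG.symm ▸ LinearMap.mem_ker.2 hk
      clear hk
      induction hk' using Submodule.span_induction generalizing x with
      | mem g hg =>
        by_cases hx : x ∈ (s g).support
        · exact Submodule.subset_span (Finset.mem_biUnion.2 ⟨g, hg, Finset.mem_image.2 ⟨x, hx, rfl⟩⟩)
        · rw [Finsupp.notMem_support_iff.1 hx]; exact zero_mem _
      | zero => rw [map_zero, Finsupp.coe_zero, Pi.zero_apply]; exact zero_mem _
      | add a b _ _ ha hb => rw [map_add, Finsupp.add_apply]; exact add_mem (ha x) (hb x)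
      | smul b g _ ih =>
        have : s (b • g) x = (s g).sum fun y c => c * s (b • y) x := by
          conv_lhs => rw [← hs g, Finsupp.linearCombination_apply, Finsupp.sum, Finset.smul_sum, map_sum,
            Finsupp.finset_sum_apply]
          refine Finset.sum_congr rfl fun y _ => ?_
          rw [smul_comm, map_smul, Finsupp.smul_apply, smul_eq_mul, id_eq]
        rw [this]
        exact sum_mem fun y _ => Ideal.mul_mem_right _ _ (ih y)

end Groth.Agent.S1228
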