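import Groth.Statements.S12282
import Groth.Agent.H9HilbLink.ObsBounds
import Groth.Agent.TwistFlat.Base

set_option linter.style.haveILetI false
set_option backward.isDefEq.respectTransparency false
set_option backward.isDefEq.respectTransparency.types false


set_option autoImplicit false
universe u
open CategoryTheory CategoryTheory.Limits AlgebraicGeometry
open scoped TensorProduct
attribute [local instance] HasDerivedCategory.standard
open DefT

namespace Groth.Agent.S12282

/-- Let k be an algebraically closed field, X = P^n_k, and (H, Z) a Hilbert scheme of X over k: H is a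
locally Noetherian k-scheme and Z ⊆ X ×_k H a closed subscheme, proper and flat over H, such that
every closed subscheme of X ×_k T proper and flat over a locally Noetherian k-scheme T is the
pull-back of Z along a unique k-morphism T → H. Let Y ⊆ X be a closed subscheme, regarded as a
k-scheme through X, with ideal sheaf I and normal sheaf N = Hom_{O_Y}(I/I², O_Y) (the sheaf Hom,
assumed to exist as the right adjoint of tensoring with I/I²), and let y ∈ H be the k-point
classifying Y (the pull-back of Z along Spec k → H is Y). If Y → X is a regular closed immersion (Y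
is a local complete intersection in X), then the dimension of H at y is at least h^0(Y, N) − h^1(Y,
N), written dim_k H^0(Y, N) ≤ dim O_{H,y} + dim_k H^1(Y, N); and when equality holds, O_{H,y} is a
complete intersection ring (its completion is the quotient of a regular local ring modulo a regular
sequence). -/
theorem result
    {k : Type u} [Field k] [IsAlgClosed k] (n : ℕ)
    (H : Over (Spec (CommRingCat.of k))) (Z : FGA.HilbSet (CohB1.ProjSpaceOver.toBase n (Spec (CommRingCat.of k))) H) (hH : FGA.HilbRepresentedBy (CohB1.ProjSpaceOver.toBase n (Spec (CommRingCat.of k))) H Z)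
    (Y : Scheme.{u}) [Y.Over (Spec (CommRingCat.of k))] (i : Y ⟶ CohB1.ProjSpaceOver n (Spec (CommRingCat.of k))) [IsClosedImmersion i]
    (hi : i ≫ CohB1.ProjSpaceOver.toBase n (Spec (CommRingCat.of k)) = Y ↘ Spec (CommRingCat.of k))
    (hreg : Mor2.IsRegularClosedImmersion i)
    [DCoh.HasSheafHom (Omega.conormal i)]
    (y : Over.mk (𝟙 (Spec (CommRingCat.of k))) ⟶ H)
    (hy : FGA.hilbPull (CohB1.ProjSpaceOver.toBase n (Spec (CommRingCat.of k))) y Z.1 = i.ker.comap (pullback.fst (CohB1.ProjSpaceOver.toBase n (Spec (CommRingCat.of k))) (Over.mk (𝟙 (Spec (CommRingCat.of k)))).hom)) :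
    (Module.finrank k (Coh.HH Y ((DCoh.sheafHom (Omega.conormal i)).obj (Coh.structureModule Y)) 0) : WithBot ℕ∞) ≤
        ringKrullDim (H.left.presheaf.stalk (y.left.base (IsLocalRing.closedPoint k))) + (Module.finrank k (Coh.HH Y ((DCoh.sheafHom (Omega.conormal i)).obj (Coh.structureModule Y)) 1) : WithBot ℕ∞) ∧
      (ringKrullDim (H.left.presheaf.stalk (y.left.base (IsLocalRing.closedPoint k))) + (Module.finrank k (Coh.HH Y ((DCoh.sheafHom (Omega.conormal i)).obj (Coh.structureModule Y)) 1) : WithBot ℕ∞) =
          (Module.finrank k (Coh.HH Y ((DCoh.sheafHom (Omega.conormal i)).obj (Coh.structureModule Y)) 0) : WithBot ℕ∞) →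
        Pi1.IsCompleteIntersection (H.left.presheaf.stalk (y.left.base (IsLocalRing.closedPoint k)))) := by
  haveI := Groth.Agent.TwistFlat.isProper_toBase (r := n) (Y := Spec (CommRingCat.of k))
  let _ : (CohB1.ProjSpaceOver n (Spec (CommRingCat.of k))).Over (Spec (CommRingCat.of k)) :=
    ⟨CohB1.ProjSpaceOver.toBase n (Spec (CommRingCat.of k))⟩
  haveI : IsLocallyNoetherian (CohB1.ProjSpaceOver n (Spec (CommRingCat.of k))) :=
    LocallyOfFiniteType.isLocallyNoetherian (CohB1.ProjSpaceOver.toBase n (Spec (CommRingCat.of k)))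
  haveI : IsProper (Y ↘ Spec (CommRingCat.of k)) := hi ▸ inferInstance
  haveI := Groth.Agent.H9HilbLink.finite_HH_normal (k := k) i hi 1
  have hT := Groth.Agent.H9HilbLink.hasObsTheory_HH (k := k) i hi
    (Groth.Agent.H9Hilb.locLifts_of_regular (Groth.Agent.H9HilbLink.isRegularClosedImmersion_image i hreg))
  haveI : IsLocallyNoetherian H.left := hH.1
  letI := Groth.Agent.H9HilbLink.stalkAlg H.hom y.left
  obtain ⟨ξ, hξ⟩ := Groth.Agent.H9HilbLink.exists_universal_family hH i.ker y hy
  obtain ⟨T⟩ := Groth.Agent.ArtFunLib.nonempty_tangentStr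
    (F := ArtFun.localHilb _ (CohB1.ProjSpaceOver.toBase n (Spec (CommRingCat.of k))) i.ker)
    Groth.Agent.H9Hilb.h0_localHilb
    (fun _ _ _ _ h => Groth.Agent.H9Hilb.bijective_cmp h (ArtFun.Art.dual k k).res_surjective)
  let _ : ArtFun.TangentStr (ArtFun.localHilb _
      (CohB1.ProjSpaceOver n (Spec (CommRingCat.of k)) ↘ Spec (CommRingCat.of k)) i.ker) := T
  obtain ⟨-, h₂, h₃⟩ := Groth.Agent.H9HilbLink.bounds_of_universal _ hξ (W := Coh.HH Y
    ((DCoh.sheafHom (Omega.conormal i)).obj (Coh.structureModule Y)) 1) hT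
  rw [show Module.finrank k (ArtFun.TangentSpace (ArtFun.localHilb _
      (CohB1.ProjSpaceOver.toBase n (Spec (CommRingCat.of k))) i.ker)) = _ from
    Groth.Agent.H9HilbLink.finrank_tangent_HH (k := k) i hi] at h₂ h₃
  exact ⟨h₂, h₃⟩
end Groth.Agent.S12282
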