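import Groth.Statements.S1229
import Groth.Agent.H4RG.FlatIdealFG
-- import your own Groth.Agent.* helpers here

set_option autoImplicit false
set_option backward.isDefEq.respectTransparency.types false
universe u
open FlatMor

namespace Groth.Agent.S1229

open IsLocalRing in
/-- Let A be a henselian local ring, A → B a local homomorphism of local rings which is essentially of
finite type, and M a finite B-module. Then some ideal I of A has the following property: for any
local ring A' with a local structure map from A, writing B', M' for the base changes of B, M to A'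
(any models), M' is flat over A' at all primes of B' lying above both maximal ideals exactly when
IA' = 0. If A → B is essentially of finite presentation and M is finitely presented over B then I is
finitely generated. -/
theorem result {A B : Type u} [CommRing A] [HenselianLocalRing A] [CommRing B] [IsLocalRing B] [Algebra A B]
    [IsLocalHom (algebraMap A B)] [Algebra.EssFiniteType A B]
    (M : Type u) [AddCommGroup M] [Module B M] [Module A M] [IsScalarTower A B M] [Module.Finite B M] :
    ∃ I : Ideal A,
      (∀ (A' B' M' : Type u) [CommRing A'] [IsLocalRing A'] [Algebra A A'] [IsLocalHom (algebraMap A A')]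
        [CommRing B'] [Algebra B B'] [Algebra A' B'] [Algebra A B'] [IsScalarTower A B B'] [IsScalarTower A A' B']
        [Algebra.IsPushout A B A' B']
        [AddCommGroup M'] [Module B' M'] [Module B M'] [IsScalarTower B B' M'] [Module A' M'] [IsScalarTower A' B' M']
        (f : M →ₗ[B] M'), IsBaseChange B' f →
        ((∀ (q : Ideal B') [q.IsPrime], (maximalIdeal A').map (algebraMap A' B') ⊔ (maximalIdeal B).map (algebraMap B B') ≤ q →
            FlatCA.FlatAt A' q M') ↔ I.map (algebraMap A A') = ⊥)) ∧
      (FlatCA.EssFinitePresentation A B → Module.FinitePresentation B M → I.FG) := by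
  obtain ⟨I, hIm, hflat, hmin⟩ := Groth.Agent.H4RG.exists_flattening_ideal (A := A) (B := B) M
  haveI := hflat
  refine ⟨I, ?_, ?_⟩
  · intro A' B' M' _ _ _ _ _ _ _ _ _ _ _ _ _ _ _ _ _ f hf
    rw [Groth.Agent.H4RG.flatAbove_iff_flatPts (A := A) (A' := A') f hf]
    refine ⟨fun h => ?_, fun h => ?_⟩
    · exact (Ideal.map_eq_bot_iff_le_ker _).2 (hmin A' h)
    · exact Groth.Agent.H4RG.flatPts_of_flat_quot M I A' ((Ideal.map_eq_bot_iff_le_ker _).1 h)
  · intro hB hM
    haveI := hM
    obtain ⟨n, a, R₀, _, _, _, K₀, P, _, hP, ⟨e⟩⟩ := Groth.Agent.H4RG.exists_presented_model hB M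
    obtain ⟨J, hJ, hJI, hJflat⟩ := Groth.Agent.H4RG.exists_fg_flat_quot K₀ P hP e I hIm hflat
    haveI := hJflat
    haveI : Nontrivial (A ⧸ J) := Ideal.Quotient.nontrivial_iff.2 fun h =>
      (maximalIdeal.isMaximal A).ne_top (top_le_iff.1 (h ▸ hJI.trans hIm))
    haveI := IsLocalRing.of_surjective' (Ideal.Quotient.mk J) Ideal.Quotient.mk_surjective
    haveI : IsLocalHom (algebraMap A (A ⧸ J)) := IsLocalHom.of_surjective _ Ideal.Quotient.mk_surjective
    have hIJ : I ≤ J := by
      have := hmin (A ⧸ J) (Groth.Agent.H4RG.flatPts_of_flat_quot M J (A ⧸ J)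
        (by rw [Ideal.Quotient.algebraMap_eq, Ideal.mk_ker]))
      rwa [Ideal.Quotient.algebraMap_eq, Ideal.mk_ker] at this
    rwa [le_antisymm hIJ hJI]

end Groth.Agent.S1229
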