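import Groth.Statements.S1230
import Groth.Agent.H4RG.SMulClosed
-- import your own Groth.Agent.* helpers here

set_option autoImplicit false
set_option backward.isDefEq.respectTransparency.types false
set_option linter.style.haveILetI false
universe u
open FlatMor
open scoped TensorProduct
attribute [local instance] Algebra.TensorProduct.rightAlgebra

namespace Groth.Agent.S1230

open TensorProduct in
/-- Ring form, X = Spec B, X' = Spec B' affine: let B be a finite type A-algebra, N a finite B-module
flat over A, and B' a flat B-algebra such that every prime q of B, over p in A, whose extension to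
the fibre ring over p is an associated prime of the fibre module of N is the contraction of a prime
of B'. Then the canonical map N → B' ⊗_B N is injective and remains injective after tensoring over A
with any A-algebra. -/
theorem result {A B B' : Type u} [CommRing A] [CommRing B] [CommRing B'] [Algebra A B] [Algebra B B'] [Algebra A B'] [IsScalarTower A B B']
    [Algebra.FiniteType A B] [Module.Flat B B']
    (N : Type u) [AddCommGroup N] [Module B N] [Module A N] [IsScalarTower A B N] [Module.Finite B N] [Module.Flat A N]
    (h : ∀ (p : Ideal A) (q : Ideal B) [p.IsPrime] [q.IsPrime] [q.LiesOver p],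
      FlatCA.fiberIdeal p q ∈ associatedPrimes (p.Fiber B) (FlatCA.fiberMod p B N) →
      ∃ q' : Ideal B', q'.IsPrime ∧ q'.comap (algebraMap B B') = q) :
    ∀ (A' : Type u) [CommRing A'] [Algebra A A'],
      Function.Injective (((TensorProduct.mk B B' N 1).restrictScalars A).baseChange A') := by
  intro A' _ _
  let e := TensorProduct.AlgebraTensorModule.assoc A B B B' N A'
  let F := (TensorProduct.mk B B' N 1).restrictScalars A
  have hc : ∀ v : A' ⊗[A] N,
      e (TensorProduct.comm A A' (B' ⊗[B] N) (F.baseChange A' v)) = (1 : B') ⊗ₜ[B] (TensorProduct.comm A A' N v) := fun v => by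
    induction v using TensorProduct.induction_on with
    | zero => simp
    | add a b ha hb => simp only [map_add, TensorProduct.tmul_add, ha, hb]
    | tmul a n => rfl
  rw [injective_iff_map_eq_zero]
  intro v hv
  by_contra hne
  have hw : (1 : B') ⊗ₜ[B] (TensorProduct.comm A A' N v) = 0 := by rw [← hc, hv, map_zero, map_zero]
  obtain ⟨Q, p, _, _, hQp, hJ, hass⟩ := H4RG.exists_assoc_of_ne_zero (B := B) N A' (TensorProduct.comm A A' N v)
    fun h0 => hne ((TensorProduct.comm A A' N).injective (h0.trans (map_zero _).symm))
  obtain ⟨q', _, hq'⟩ := h p Q hass
  exact ‹q'.IsPrime›.ne_top ((Ideal.eq_top_iff_one _).2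
    (H4RG.mem_of_flat_kill _ 1 hw q' (hJ.trans hq'.ge)))

end Groth.Agent.S1230
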