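import Groth.Statements.S12314
-- import your own Groth.Agent.* helpers here

set_option autoImplicit false
universe u
open CategoryTheory CategoryTheory.Limits AlgebraicGeometry MonObj
open SGA7


namespace Groth.Agent.S12314

/-- Let R be a henselian discrete valuation ring with fraction field K and residue field k, Ω a
separable closure of K, W a valuation subring of Ω lying over R, A and C abelian varieties over K
(proper, geometrically integral commutative group schemes), and u : C → A an isogeny, in the form: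
there are a homomorphism v : A → C and an integer n > 0 with v ∘ u = n and u ∘ v = n. Let ℓ be a
prime invertible in k and consider the ℓ-adic Tate modules of the Ω-points of C and A; call an
element fixed when all its components are fixed by the inertia group at W (for such ℓ the fixed part
is the inertia invariants). Then T_ℓ(u) maps the fixed part of T_ℓ(C) into the fixed part of T_ℓ(A)
and induces an isogeny between them: T_ℓ(u) is injective, and n times every fixed element of T_ℓ(A)
is the image of a fixed element of T_ℓ(C). (The case of a prime equal to the residue characteristic,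
where the fixed part is defined through the Néron model, is not stated.) -/
theorem result (R K Ω : Type u) [CommRing R] [IsDomain R] [IsDiscreteValuationRing R] [HenselianLocalRing R]
    [Field K] [Algebra R K] [IsFractionRing R K] [Field Ω] [Algebra K Ω] [IsSepClosure K Ω]
    (W : ValuationSubring Ω) (hW : SGA7.LiesOver K R W)
    (A C : Over (Spec (CommRingCat.of K))) [GrpObj A] [IsCommMonObj A] [IsProper A.hom] [GeometricallyIntegral A.hom]
    [GrpObj C] [IsCommMonObj C] [IsProper C.hom] [GeometricallyIntegral C.hom]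
    (u : C ⟶ A) [IsMonHom u] (v : A ⟶ C) [IsMonHom v] (n : ℕ) (hn : 0 < n)
    (huv : u ≫ v = (𝟙 C) ^ n) (hvu : v ≫ u = (𝟙 A) ^ n)
    (l : ℕ) (hl : l.Prime) (hlp : (l : IsLocalRing.ResidueField R) ≠ 0) :
    (∀ z : AbDual.TateMod C l (SGA7.pt Ω),
      (∀ (τ : Ω ≃ₐ[K] Ω) (m : ℕ), SGA7.IsInertia W τ →
        SGA7.galAct τ (AbDual.TateMod.component C l (SGA7.pt Ω) m z).toMul =
          (AbDual.TateMod.component C l (SGA7.pt Ω) m z).toMul) →
      (∀ (τ : Ω ≃ₐ[K] Ω) (m : ℕ), SGA7.IsInertia W τ →
        SGA7.galAct τ (AbDual.TateMod.component A l (SGA7.pt Ω) m (AbDual.tateMap u z)).toMul =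
          (AbDual.TateMod.component A l (SGA7.pt Ω) m (AbDual.tateMap u z)).toMul)) ∧
    (∀ z : AbDual.TateMod C l (SGA7.pt Ω), AbDual.tateMap (l := l) (T := SGA7.pt Ω) u z = 0 → z = 0) ∧
    (∀ y : AbDual.TateMod A l (SGA7.pt Ω),
      (∀ (τ : Ω ≃ₐ[K] Ω) (m : ℕ), SGA7.IsInertia W τ →
        SGA7.galAct τ (AbDual.TateMod.component A l (SGA7.pt Ω) m y).toMul =
          (AbDual.TateMod.component A l (SGA7.pt Ω) m y).toMul) →
      ∃ z : AbDual.TateMod C l (SGA7.pt Ω),
        (∀ (τ : Ω ≃ₐ[K] Ω) (m : ℕ), SGA7.IsInertia W τ →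
        SGA7.galAct τ (AbDual.TateMod.component C l (SGA7.pt Ω) m z).toMul =
          (AbDual.TateMod.component C l (SGA7.pt Ω) m z).toMul) ∧
        AbDual.tateMap (l := l) (T := SGA7.pt Ω) u z = n • y) := by
  have hgal : ∀ {P Q : Over (Spec (CommRingCat.of K))} (w : P ⟶ Q) (τ : Ω ≃ₐ[K] Ω) (x : SGA7.Pts Ω P),
      SGA7.galAct τ (x ≫ w) = SGA7.galAct τ x ≫ w := fun w τ x => (Category.assoc _ _ _).symm
  have hpow : ∀ {P : Over (Spec (CommRingCat.of K))} [GrpObj P] [IsCommMonObj P] (x : SGA7.Pts Ω P) (m : ℕ),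
      x ≫ (𝟙 P) ^ m = x ^ m := fun x m => by rw [MonObj.comp_pow, Category.comp_id]
  have hvu' : ∀ y : AbDual.TateMod A l (SGA7.pt Ω),
      AbDual.tateMap (l := l) (T := SGA7.pt Ω) u (AbDual.tateMap v y) = n • y := by
    intro y
    refine AbDual.TateMod.ext fun m => ?_
    show Additive.ofMul (((y : ℕ → Additive (SGA7.pt Ω ⟶ A)) m).toMul ≫ v ≫ u) =
      n • (y : ℕ → Additive (SGA7.pt Ω ⟶ A)) m
    · rw [hvu, hpow]; rfl
  refine ⟨fun z hz τ m hτ => ?_, fun z hz => ?_, fun y hy => ⟨AbDual.tateMap v y, fun τ m hτ => ?_, hvu' y⟩⟩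
  · rw [AbDual.tateMap_component, hgal, hz τ m hτ]
  · have h0 : n • z = 0 := by
      refine AbDual.TateMod.ext fun m => ?_
      show n • (z : ℕ → Additive (SGA7.pt Ω ⟶ C)) m = 0
      have hm : ((z : ℕ → Additive (SGA7.pt Ω ⟶ C)) m).toMul ≫ u = 1 :=
        congrArg Additive.toMul (congrArg (fun q : AbDual.TateMod A l (SGA7.pt Ω) => (q : ℕ → Additive (SGA7.pt Ω ⟶ A)) m) hz)
      have h1 : (((z : ℕ → Additive (SGA7.pt Ω ⟶ C)) m).toMul) ^ n = 1 := by
        rw [← hpow, ← huv, ← Category.assoc, hm, MonObj.one_comp v]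
      exact congrArg Additive.ofMul h1
    refine AbDual.TateMod.ext fun m => ?_
    let x : ℕ → Additive (SGA7.pt Ω ⟶ C) := (z : ℕ → Additive (SGA7.pt Ω ⟶ C))
    have hx : ∀ j, n • x j = 0 := fun j =>
      congrArg (fun q : AbDual.TateMod C l (SGA7.pt Ω) => (q : ℕ → Additive (SGA7.pt Ω ⟶ C)) j) h0
    have hco : ∀ j s, l ^ s • x (j + s) = x j := by
      intro j s
      induction s with
      | zero => simp
      | succ s ih => rw [pow_succ, mul_nsmul', ← add_assoc, AbDual.TateMod.compat z (j + s)]; exact ih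
    obtain ⟨s, n', hn', rfl⟩ := Nat.exists_eq_pow_mul_and_not_dvd hn.ne' l hl.ne_one
    show x m = 0
    have e1 : n' • x m = 0 := by
      rw [← hco m s, ← mul_nsmul', mul_comm]
      exact hx (m + s)
    have e2 : l ^ m • x m = 0 := AbDual.TateMod.torsion z m
    have hcop : Nat.gcd n' (l ^ m) = 1 :=
      Nat.Coprime.pow_right m ((hl.coprime_iff_not_dvd.2 hn').symm)
    have := gcd_nsmul_eq_zero.2 ⟨e1, e2⟩
    rwa [hcop, one_nsmul] at this
  · rw [AbDual.tateMap_component, hgal, hy τ m hτ]

end Groth.Agent.S12314
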