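import Groth.Agent.H4RG.FlatRel
import Groth.Statements.S1238
-- import your own Groth.Agent.* helpers here

set_option autoImplicit false
universe u
open FlatMor

namespace Groth.Agent.S1238

/-- Ring form, X = Spec S, S = Spec R affine: let R be a ring with finitely many weakly associated
primes and S a finite type R-algebra. Then the set of primes q of S with S_q flat over R is open in
Spec S, and every such q has a basic open neighbourhood D(g) with S_g flat and of finite
presentation over R. -/
theorem result {R S : Type u} [CommRing R] [CommRing S] [Algebra R S] [Algebra.FiniteType R S]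
    (hR : (FlatCA.weakAss R R).Finite) :
    IsOpen {q : PrimeSpectrum S | Module.Flat R (Localization.AtPrime q.asIdeal)} ∧
    ∀ (q : Ideal S) [q.IsPrime], Module.Flat R (Localization.AtPrime q) → ∃ g : S, g ∉ q ∧
      Algebra.FinitePresentation R (Localization.Away g) ∧ Module.Flat R (Localization.Away g) := by
  refine ⟨isOpen_iff_forall_mem_open.2 fun q hq => ?_, fun q _ hq => ?_⟩
  · obtain ⟨g, hg, hfl, -⟩ := Groth.Agent.H4RG.exists_relFP_nhd hR S q.asIdeal hq
    exact ⟨PrimeSpectrum.basicOpen g, fun q' hq' => Groth.Agent.H4RG.flatAt_of_powers g hfl q'.asIdeal hq',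
      PrimeSpectrum.isOpen_basicOpen, hg⟩
  · obtain ⟨g, hg, hfl, hrel⟩ := Groth.Agent.H4RG.exists_relFP_nhd hR S q hq
    exact ⟨g, hg, Groth.Agent.H4RG.algebra_fp_of_relFP hrel, hfl⟩

end Groth.Agent.S1238
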