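import Groth.Agent.H4RG.DenseFP
import Groth.Statements.S1239
-- import your own Groth.Agent.* helpers here

set_option autoImplicit false
universe u
open FlatMor

namespace Groth.Agent.S1239

/-- Ring form, X = Spec B, S = Spec A affine; a retrocompact open of Spec A is a finite union of basic
opens: let B be a finitely presented A-algebra and N a finite B-module which is flat over A. Let
f_1, …, f_n be elements of A such that the map from A to the product of the localizations A_{f_i} is
injective (the open D(f_1) ∪ … ∪ D(f_n) is scheme-theoretically dense). If each localization N_{f_i}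
is finitely presented over B_{f_i}, then N is finitely presented over B. -/
theorem result {A B : Type u} [CommRing A] [CommRing B] [Algebra A B] [Algebra.FinitePresentation A B]
    (N : Type u) [AddCommGroup N] [Module B N] [Module A N] [IsScalarTower A B N] [Module.Finite B N] [Module.Flat A N]
    {n : ℕ} (f : Fin n → A)
    (hdense : Function.Injective (RingHom.pi (fun i => algebraMap A (Localization.Away (f i)))))
    (hfp : ∀ i, Module.FinitePresentation (Localization.Away (algebraMap A B (f i)))
      (LocalizedModule (Submonoid.powers (algebraMap A B (f i))) N)) :
    Module.FinitePresentation B N := by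
  classical
  obtain ⟨c, π, hπ⟩ := Module.Finite.exists_fin' B N
  choose G hG hk using fun i => haveI := hfp i
    Groth.Agent.H4RG.exists_relations_loc π hπ (Submonoid.powers (algebraMap A B (f i)))
  refine Groth.Agent.H4RG.fp_of_dense (R := A) N π hπ (Finset.univ.biUnion G) (fun v hv => ?_) fun k hk' => ?_
  · obtain ⟨i, -, hi⟩ := Finset.mem_biUnion.1 hv
    exact hG i v hi
  · choose s hs hsk using fun i => hk i k hk'
    choose e he using hs
    refine ⟨n, fun i => f i ^ e i, fun a b hab => hdense (funext fun i => ?_), fun i => ?_⟩
    · have h1 : f i ^ e i * a = f i ^ e i * b := congrFun hab i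
      have hu := IsLocalization.map_units (Localization.Away (f i)) (⟨f i ^ e i, e i, rfl⟩ : Submonoid.powers (f i))
      refine hu.mul_right_injective ?_
      show algebraMap A _ (f i ^ e i) * algebraMap A _ a = algebraMap A _ (f i ^ e i) * algebraMap A _ b
      rw [← map_mul, ← map_mul, h1]
    · rw [← algebraMap_smul B (f i ^ e i), map_pow, show algebraMap A B (f i) ^ e i = s i from he i]
      exact Submodule.span_mono (Finset.coe_subset.2 (Finset.subset_biUnion_of_mem G (Finset.mem_univ i))) (hsk i)

end Groth.Agent.S1239
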