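import Groth.Statements.S1241
import Groth.Agent.H4RG.StageCover
-- import your own Groth.Agent.* helpers here

set_option autoImplicit false
set_option backward.isDefEq.respectTransparency.types false
set_option linter.style.haveILetI false
universe u
open FlatMor

open scoped TensorProduct
attribute [local instance] Algebra.TensorProduct.rightAlgebra
namespace Groth.Agent.S1241

open TensorProduct in
/-- Ring form, X = Spec S and S = Spec R affine: let S be a finitely presented R-algebra, N a finitely
presented S-module and p a prime of R such that N_q is flat over R for every prime q of S over p.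
Then there are an étale R-algebra R' with a prime p' over p having the same residue field, and an
étale S-algebra S' with a compatible R'-algebra structure, such that every prime of S over p is the
contraction of a prime of S' and S' ⊗_S N is a projective R'-module. -/
theorem result {R S : Type u} [CommRing R] [CommRing S] [Algebra R S] [Algebra.FinitePresentation R S]
    (N : Type u) [AddCommGroup N] [Module S N] [Module R N] [IsScalarTower R S N] [Module.FinitePresentation S N]
    (p : Ideal R) [p.IsPrime] (hflat : ∀ (q : Ideal S) [q.IsPrime], q.LiesOver p → FlatCA.FlatAt R q N) :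
    ∃ (R' S' : Type u) (_ : CommRing R') (_ : CommRing S') (_ : Algebra R R') (_ : Algebra S S') (_ : Algebra R' S')
      (_ : Algebra R S') (_ : IsScalarTower R R' S') (_ : IsScalarTower R S S')
      (p' : Ideal R') (_ : p'.IsPrime),
      FlatCA.IsEtaleNhd R R' p p' ∧ Algebra.Etale S S' ∧
      (∀ (q : Ideal S) [q.IsPrime], q.LiesOver p → ∃ q' : Ideal S', q'.IsPrime ∧ q'.comap (algebraMap S S') = q) ∧
      Module.Projective R' (RestrictScalars R' S' (S' ⊗[S] N)) := by
  classical
  let K := p.ResidueField
  obtain ⟨R', _, _, _, ε, t, ht, hproj⟩ := H4RG.exists_stage_cover N p hflat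
  let SA := R' ⊗[R] S
  let S' := Localization.Away t
  haveI : (RingHom.ker ε).IsPrime := RingHom.ker_isPrime _
  haveI : Algebra.Etale S SA := by
    haveI : Algebra.Etale S (S ⊗[R] R') := inferInstance
    exact Algebra.Etale.of_equiv (Algebra.TensorProduct.commRight R S R')
  haveI : Algebra.Etale SA S' := Algebra.Etale.of_isLocalizationAway t
  haveI : Algebra.Etale S S' := Algebra.Etale.comp S SA S'
  obtain ⟨e⟩ := H4RG.exists_stage_equiv (R := R) (R' := R') N t
  haveI : Module.Projective R' (S' ⊗[S] N) := Module.Projective.of_equiv e
  refine ⟨R', S', inferInstance, inferInstance, inferInstance, inferInstance, inferInstance, inferInstance,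
    inferInstance, IsScalarTower.of_algebraMap_eq fun r => ?_, RingHom.ker ε, inferInstance,
    H4RG.isEtaleNhd_of_point p ε _ rfl, inferInstance, fun q _ hqp => ?_, H4RG.projective_restrictScalars⟩
  · rw [IsScalarTower.algebraMap_apply R SA S', IsScalarTower.algebraMap_apply R S SA,
      ← IsScalarTower.algebraMap_apply S SA S']
  haveI := hqp
  obtain ⟨_, _⟩ := H4RG.exists_point_instances p q (hqp.over.symm)
  let φ : SA →ₐ[S] q.ResidueField :=
    { (H4RG.pt q.ResidueField S ε).toRingHom with
      commutes' := fun s => by
        show H4RG.pt q.ResidueField S ε ((1 : R') ⊗ₜ[R] s) = _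
        rw [H4RG.pt_tmul, map_one, map_one, one_mul] }
  have hI : (RingHom.ker ε).map (algebraMap R' SA) ≤ RingHom.ker φ := Ideal.map_le_iff_le_comap.2 fun a ha => by
    rw [Ideal.mem_comap, RingHom.mem_ker]
    show H4RG.pt q.ResidueField S ε (a ⊗ₜ[R] (1 : S)) = 0
    rw [H4RG.pt_tmul, RingHom.mem_ker.1 ha, map_zero, zero_mul]
  have ht1 : φ t = 1 := by
    have := RingHom.mem_ker.1 (hI ht)
    rwa [map_sub, map_one, sub_eq_zero] at this
  have hu : ∀ y : Submonoid.powers t, IsUnit (φ y) := by
    rintro ⟨_, n, rfl⟩
    rw [map_pow, ht1, one_pow]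
    exact isUnit_one
  let φ' : S' →ₐ[S] q.ResidueField := IsLocalization.liftAlgHom (A := S) (S := S') (M := Submonoid.powers t) (f := φ) hu
  refine ⟨RingHom.ker φ', RingHom.ker_isPrime _, ?_⟩
  ext s
  rw [Ideal.mem_comap, RingHom.mem_ker, AlgHom.commutes, Ideal.algebraMap_residueField_eq_zero]

end Groth.Agent.S1241
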