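import Groth.Statements.S1242
import Groth.Agent.H4RG.OpenPiece
-- import your own Groth.Agent.* helpers here

set_option autoImplicit false
set_option backward.isDefEq.respectTransparency.types false
set_option linter.style.haveILetI false
universe u
open FlatMor
open scoped TensorProduct
attribute [local instance] Algebra.TensorProduct.rightAlgebra

namespace Groth.Agent.S1242

open TensorProduct in
/-- Ring form, X = Spec S and S = Spec R affine: let S be a finitely presented R-algebra, N a finite
S-module and q a prime of S over p with N_q flat over R. Then there is an étale R-algebra R' with a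
prime p' over p having the same residue field such that, writing A for the local ring of R' at p'
and S_A, N_A for the base changes (any models): there is an étale S_A-algebra C, finitely presented
over A, with a prime over q whose residue field equals that of q, such that C ⊗ N_A is a finitely
presented C-module and a free A-module. -/
theorem result {R S : Type u} [CommRing R] [CommRing S] [Algebra R S] [Algebra.FinitePresentation R S]
    (N : Type u) [AddCommGroup N] [Module S N] [Module R N] [IsScalarTower R S N] [Module.Finite S N]
    (p : Ideal R) [p.IsPrime] (q : Ideal S) [q.IsPrime] [q.LiesOver p] (hflat : FlatCA.FlatAt R q N) :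
    ∃ (R' : Type u) (_ : CommRing R') (_ : Algebra R R') (p' : Ideal R') (_ : p'.IsPrime), FlatCA.IsEtaleNhd R R' p p' ∧
      ∀ (SA NA : Type u) [CommRing SA] [Algebra R SA] [Algebra S SA] [Algebra (Localization.AtPrime p') SA]
        [IsScalarTower R S SA] [IsScalarTower R (Localization.AtPrime p') SA]
        [Algebra.IsPushout R S (Localization.AtPrime p') SA]
        [AddCommGroup NA] [Module SA NA] [Module S NA] [IsScalarTower S SA NA]
        (f : N →ₗ[S] NA), IsBaseChange SA f →
        ∃ (C : Type u) (_ : CommRing C) (_ : Algebra SA C) (_ : Algebra (Localization.AtPrime p') C)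
          (_ : IsScalarTower (Localization.AtPrime p') SA C) (_ : Algebra S C) (_ : IsScalarTower S SA C)
          (x' : Ideal C) (_ : x'.IsPrime) (hx : x'.LiesOver q),
          Algebra.Etale SA C ∧ Algebra.FinitePresentation (Localization.AtPrime p') C ∧
          Function.Bijective (Ideal.ResidueField.mapₐ q x' (Algebra.ofId S C) hx.over) ∧
          Module.FinitePresentation C (C ⊗[SA] NA) ∧
          Module.Free (Localization.AtPrime p') (RestrictScalars (Localization.AtPrime p') C (C ⊗[SA] NA)) := by
  obtain ⟨R', _, _, p', _, het, hmain⟩ := H4RG.exists_free_nhd_local N p q hflat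
  refine ⟨R', inferInstance, inferInstance, p', inferInstance, het, ?_⟩
  intro SA NA _ _ _ _ _ _ _ _ _ _ _ f hf
  let A := Localization.AtPrime p'
  letI : Module A NA := Module.compHom NA (algebraMap A SA)
  haveI : IsScalarTower A SA NA := IsScalarTower.of_algebraMap_smul fun _ _ => rfl
  obtain ⟨g, φ, hg, -, -, hfp, hfree⟩ := hmain SA NA f hf
  let C := Localization.Away g
  haveI : Algebra.IsPushout R A S SA := Algebra.IsPushout.symm inferInstance
  have hu : ∀ y : Submonoid.powers g, IsUnit (φ y) := by
    rintro ⟨_, n, rfl⟩
    rw [map_pow]
    exact (isUnit_iff_ne_zero.2 hg).pow n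
  let φ' : C →ₐ[S] q.ResidueField := IsLocalization.liftAlgHom (A := S) (S := C) (M := Submonoid.powers g) (f := φ) hu
  let x' := RingHom.ker φ'
  haveI : x'.IsPrime := RingHom.ker_isPrime _
  have hx : x'.LiesOver q := ⟨by
    ext s
    rw [Ideal.under_def, Ideal.mem_comap, RingHom.mem_ker, φ'.commutes, Ideal.algebraMap_residueField_eq_zero]⟩
  haveI : Algebra.Etale SA C := Algebra.Etale.of_isLocalizationAway g
  haveI : Algebra.FinitePresentation A SA := Algebra.FinitePresentation.equiv (Algebra.IsPushout.equiv R A S SA)
  haveI : Algebra.FinitePresentation A C := Algebra.FinitePresentation.trans A SA C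
  obtain ⟨e⟩ := H4RG.exists_open_equiv (A := A) NA g
  refine ⟨C, inferInstance, inferInstance, inferInstance, inferInstance, inferInstance, inferInstance, x', inferInstance,
    hx, inferInstance, inferInstance, H4RG.bijective_residue_of_point q φ' x' rfl, ?_, Module.Free.of_equiv e⟩
  exact @Module.FinitePresentation.of_equiv C (LocalizedModule (Submonoid.powers g) NA) (C ⊗[SA] NA) _ _ _ _ _
    ((IsLocalizedModule.isBaseChange (Submonoid.powers g) C (LocalizedModule.mkLinearMap (Submonoid.powers g) NA)).equiv).symm
    hfp

end Groth.Agent.S1242
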