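import Groth.Statements.S12432
import Groth.Agent.CurveCohLib.Clifford
import Groth.Agent.CurveCohLib.Skyscraper
import Groth.Agent.CurveEmbed.P1
import Groth.Agent.InvX.Pullback
import Groth.Agent.PicClLib.Basic
import Groth.Agent.CliffEq.Curve
import Groth.Agent.CurveVA.Converse

set_option autoImplicit false
set_option linter.style.haveILetI false
set_option backward.isDefEq.respectTransparency false
set_option backward.isDefEq.respectTransparency.types false
set_option maxHeartbeats 4000000
-- import your own Groth.Agent.* helpers here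

set_option autoImplicit false
universe u
open CategoryTheory CategoryTheory.Limits AlgebraicGeometry
open Curves

namespace Groth.Agent.S12432

attribute [local instance] Groth.Agent.H9PB.CurveFinFF.ffAlg

/-- In degree d = 6 the curve is canonical. Take k algebraically closed and suppose X is a curve over k
(integral, proper over k, one-dimensional, with every local ring regular), equipped with a closed
immersion i : X → P^3_k over k whose image lies in no plane — that is, any nonzero global section of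
O(1) on P^3_k pulls back to a nonzero global section of i^*O(1). Assume the hyperplane section is
special, meaning H^1(X, i^*O(1)) ≠ 0, and that deg i^*O(1) = 6. Then i^*O(1) is isomorphic to the
canonical sheaf Ω_{X/k}, and X has genus 4 (so X is a canonical curve of genus 4; the isomorphism is
asserted to exist as O_X-modules). -/
theorem result (k : Type u) [Field k] [IsAlgClosed k] (X : Scheme.{u}) [X.Over (Spec (CommRingCat.of k))]
    [IsIntegral X] [IsProper (X ↘ (Spec (CommRingCat.of k)))] (hdim : topologicalKrullDim X = 1)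
    (hreg : ∀ x : X, IsRegularLocalRing (X.presheaf.stalk x))
    (i : X ⟶ CohB1.ProjSpace 3 k) [IsClosedImmersion i] (hi : i ≫ CohB1.ProjSpace.toSpec 3 k = (X ↘ (Spec (CommRingCat.of k))))
    (hplane : ∀ s : LinSer.Sect (CohB1.ProjSpace 3 k) (Twist.twistProjSpace 3 k 1), s ≠ 0 →
      OmegaSh.pullSect i (Twist.twistProjSpace 3 k 1) ⊤ s ≠ 0)
    (hspecial : Nontrivial (Coh.HH X ((Scheme.Modules.pullback i).obj (Twist.twistProjSpace 3 k 1)) 1))
    (hdeg : Curv2.deg k X ((Scheme.Modules.pullback i).obj (Twist.twistProjSpace 3 k 1)) 1 = 6) :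
    Nonempty (((Scheme.Modules.pullback i).obj (Twist.twistProjSpace 3 k 1)) ≅ Omega.sheaf (X ↘ (Spec (CommRingCat.of k)))) ∧ Curv2.genus k X = 4 := by
  open Groth.Agent in
  haveI := CurveCohLib.RegularCurve.smooth_of_regular k fun x _ => hreg x
  haveI := Groth.Agent.CurveCohLib.isNoetherian_of_proper (k := k) (X := X)
  let P := CohB1.ProjSpace 3 k
  letI : P.Over (Spec (CommRingCat.of k)) := ⟨CohB1.ProjSpace.toSpec 3 k⟩
  let M : P.Modules := Twist.twistProjSpace 3 k 1
  let L : X.Modules := (Scheme.Modules.pullback i).obj M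
  have hM : PicF.IsInvertible M :=
    PnCoh.Finite.isInvertible_twist (fun j : ULift.{u} (Fin (3 + 1)) => MvPolynomial.X j.down)
      (fun j => ProjPt.X_mem j.down) (by
        refine top_le_iff.1 ((AmpleEmbed.iSup_basicOpen_X 3 k).ge.trans (iSup_le fun j => ?_))
        exact le_iSup_of_le (ULift.up j) le_rfl) (1 : ℤ)
  have hL : PicF.IsInvertible L := PicClLib.isInvertible_pullback i hM
  haveI := Groth.Agent.CurveCohLib.finite_HH (k := k) (CurveDeg.isCoh_of_isInvertible hL) 0
  haveI := Groth.Agent.CurveCohLib.finite_HH (k := k) (QCoh.isCoh_structureModule' (X := X)) 1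
  let eM : Coh.HH P M 0 ≃+ Γ(M, ⊤) := Sheaf.H.equiv₀ (Coh.toAb M) isTerminalTop
  let eL : Coh.HH X L 0 ≃+ Γ(L, ⊤) := Sheaf.H.equiv₀ (Coh.toAb L) isTerminalTop
  let φ : Coh.HH P M 0 →ₗ[k] Coh.HH X L 0 :=
    { toFun := fun t => eL.symm (OmegaSh.pullSect i M ⊤ (eM t))
      map_add' := fun s t => by simp only [map_add]
      map_smul' := fun a t => by
        refine eL.injective ((AddEquiv.apply_symm_apply eL _).trans ?_)
        refine Eq.trans ?_ (CurveCohLib.h0Equiv_smul (k := k) L a _).symm
        refine Eq.trans (congrArg (OmegaSh.pullSect i M ⊤) (CurveCohLib.h0Equiv_smul (k := k) M a t)) ?_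
        refine (Scheme.Modules.Hom.app_smul ((Scheme.Modules.pullbackPushforwardAdjunction i).unit.app M) _ _).trans ?_
        refine congrArg₂ (fun (u : Γ(X, ⊤)) (v : Γ(L, ⊤)) => u • v) ?_ (AddEquiv.apply_symm_apply eL _).symm
        show i.appTop ((CohB1.ProjSpace.toSpec 3 k).appTop ((Scheme.ΓSpecIso (CommRingCat.of k)).inv a)) = _
        rw [← CommRingCat.comp_apply, ← Scheme.Hom.comp_appTop, hi]
        show _ = (X.presheaf.map (𝟙 (Opposite.op ⊤))) _
        rw [X.presheaf.map_id]
        rfl }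
  have hφ : Function.Injective φ := (injective_iff_map_eq_zero φ).2 fun t ht => by
    by_contra ht0
    refine hplane (eM t) (fun h => ht0 (eM.injective (h.trans (map_zero eM).symm))) ?_
    have h := congrArg eL ht
    exact (AddEquiv.apply_symm_apply eL _).symm.trans (h.trans (map_zero eL))
  obtain ⟨ψ⟩ := S0843.result k 3 1
  haveI : Module.Finite k (Coh.HH P M 0) := Module.Finite.of_injective φ hφ
  haveI : Module.Finite k ↥(MvPolynomial.homogeneousSubmodule (Fin (3 + 1)) k 1) :=
    Module.Finite.equiv ψ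
  have hcard : 3 + 1 ≤ Module.finrank k ↥(MvPolynomial.homogeneousSubmodule (Fin (3 + 1)) k 1) := by
    have hli : LinearIndependent k (fun j : Fin (3 + 1) =>
        (⟨MvPolynomial.X j, MvPolynomial.isHomogeneous_X k j⟩ :
          ↥(MvPolynomial.homogeneousSubmodule (Fin (3 + 1)) k 1))) :=
      LinearIndependent.of_comp (MvPolynomial.homogeneousSubmodule (Fin (3 + 1)) k 1).subtype
        (MvPolynomial.linearIndependent_X _ _)
    simpa using hli.fintype_card_le_finrank
  have hsec : 3 + 1 ≤ Module.finrank k (Coh.HH X L 0) :=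
    hcard.trans (ψ.finrank_eq.symm.le.trans (LinearMap.finrank_le_finrank_of_injective hφ))
  have hs2 : 2 ≤ Module.finrank k (Coh.HH X L 0) := le_trans (by norm_num) hsec
  have hsec4 : 4 ≤ Module.finrank k (Coh.HH X ((Scheme.Modules.pullback i).obj (Twist.twistProjSpace 3 k 1)) 0) := hsec
  haveI := CurveCohLib.finite_HH (k := k) (CurveDeg.isCoh_of_isInvertible hL) 1
  haveI : Nontrivial (Coh.HH X L 1) := hspecial
  have hp1 := Module.finrank_pos (R := k) (M := Coh.HH X L 1)
  have h2 := CurveCohLib.Clifford.h0_add_h1_le k hdim hL (Module.nontrivial_of_finrank_pos (R := k) (by omega)) hspecial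
  have hdeg' := CurveCohLib.Clifford.deg_eq k hdim hL
  have hd : Curv2.deg k X L 1 = 6 := hdeg
  have h0O := CurveCohLib.Clifford.finrank_h0_structure k (X := X)
  rcases le_or_gt (2 * (Curv2.genus k X : ℤ) - 2) 6 with hle | hlt
  · have hge : Curv2.genus k X = 4 := by omega
    exact ⟨CurveBC.nonempty_iso_omega k X hdim h0O hL (by omega) (by omega), hge⟩
  exfalso
  obtain ⟨N, t, ⟨hN, hNd, hNt⟩, ⟨e⟩⟩ := CliffEq.exists_g12 k hdim hL hs2 (by omega) (by omega)
  have hK := H9PB.CurveFinFF.isFunctionField k X hdim h0O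
  obtain ⟨D, hD⟩ := H9PB.CurveFinFF.exists_hasClass k hdim hN
  have hDl : 2 ≤ FunFld.ell D := by
    rw [← CliffEq.finrank_eq_ell k hdim hD]
    exact CurveCohLib.Pencil.le_h0_of_linIndep k (CurveDeg.isCoh_of_isInvertible hN) t hNt
  obtain ⟨E, hE, hDE⟩ := CliffEq.exists_effective hK (D := D) (by omega)
  have hEd : E.deg = 2 := by rw [← CliffEq.deg_congr hK hDE, hD.deg k hdim h0O, hNd]; norm_num
  obtain ⟨P₁, hP₁⟩ : ∃ P₁, E P₁ ≠ 0 := by
    by_contra! hall
    rw [Finsupp.ext (g := (0 : FunFld.Divisor k X.functionField)) hall, FFLib.Divisor.deg_zero] at hEd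
    omega
  have hE₁ : Finsupp.single P₁ 1 ≤ E := fun R => by
    classical
    have := hE R
    rw [Finsupp.zero_apply] at this
    rw [Finsupp.single_apply]
    split_ifs with hR <;> subst_vars <;> omega
  have hE1d : (E - Finsupp.single P₁ 1).deg = 1 := by
    rw [FFLib.Divisor.deg_sub, FFLib.Divisor.deg_single, FFLib.deg_eq_one hK.1, hEd]; norm_num
  obtain ⟨Q₁, hQ₁⟩ : ∃ Q₁, (E - Finsupp.single P₁ 1 : FunFld.Divisor k X.functionField) Q₁ ≠ 0 := by
    by_contra! hall
    rw [Finsupp.ext (g := (0 : FunFld.Divisor k X.functionField)) hall, FFLib.Divisor.deg_zero] at hE1d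
    omega
  have hE₂ : Finsupp.single Q₁ 1 ≤ E - Finsupp.single P₁ 1 := fun R => by
    classical
    have := (sub_nonneg.2 hE₁) R
    rw [Finsupp.zero_apply] at this
    rw [Finsupp.single_apply]
    split_ifs with hR <;> subst_vars <;> omega
  have hEeq : E = Finsupp.single P₁ 1 + Finsupp.single Q₁ 1 := by
    have := CliffEq.eq_zero_of_deg hK (sub_nonneg.2 hE₂) (by
      rw [FFLib.Divisor.deg_sub, hE1d, FFLib.Divisor.deg_single, FFLib.deg_eq_one hK.1]; norm_num)
    rw [sub_eq_zero, sub_eq_iff_eq_add] at this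
    rw [this, add_comm]
  obtain ⟨p, hp⟩ := (H9PB.CurveFinFF.pl k X hdim).surjective P₁
  obtain ⟨q, hq⟩ := (H9PB.CurveFinFF.pl k X hdim).surjective Q₁
  have hpc : ∀ z : H9PB.CurveFinFF.Pt X, ∃ h : PicF.IsInvertible (CurvePoint.ptMod z.1 z.2),
      H9PB.CurveFinFF.HasClass k hdim (CurvePoint.ptMod z.1 z.2) h
        (-Finsupp.single (H9PB.CurveFinFF.pl k X hdim z) 1) := fun z => by
    have hI := CurvePoint.isInvertible_ptMod z.1 z.2 k hdim
    obtain ⟨U, h, e', he'⟩ := InvX.exists_frame hI (genericPoint X)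
    refine ⟨hI, U, e', he', h, ?_⟩
    rw [sub_neg_eq_add]
    exact H9PB.CurveFinFF.divisor_ptMod k hdim z hI he' h hK.1
  obtain ⟨hI₁, hc₁⟩ := hpc p
  obtain ⟨hI₂, hc₂⟩ := hpc q
  obtain ⟨hP3, hP3c⟩ := CliffEq.exists_class_pow k hdim hD (Module.finrank k (Coh.HH X L 0) - 1)
  have hLc := hP3c.iso k hdim hL e.symm
  have hT := hLc.tensor k hdim (hc₁.tensor k hdim hc₂)
  have h4 : Module.finrank k (Coh.HH X L 0) = 4 := by omega
  rw [h4, hp, hq] at hT
  have hval := CurveVA.h0_twist₂ k i hi hdim hL p.2 q.2 (Iso.refl _)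
  rw [CliffEq.finrank_eq_ell k hdim hT] at hval
  have hcl : FunFld.ell ((4 - 1) • D + (-Finsupp.single P₁ 1 + -Finsupp.single Q₁ 1)) = FunFld.ell (2 • D) := by
    refine FFLib.ell_congr hK.1 ?_
    convert hDE using 1
    rw [hEeq]
    abel
  rw [hcl] at hval
  have hell := CliffEq.ell_nsmul_add hK (D := (0 : FunFld.Divisor k X.functionField))
    (by rw [FFLib.ell_zero hK]; omega) (N := D) (by
      by_contra hne
      have := CurveCohLib.Clifford.dichotomy k hdim hN (m := 2) (by
        rw [CliffEq.finrank_eq_ell k hdim hD]; omega)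
      omega) 2
  rw [zero_add, FFLib.ell_zero hK] at hell
  omega

end Groth.Agent.S12432
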