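import Groth.Statements.S12439
import Groth.Agent.NNAdapt.Chain
-- import your own Groth.Agent.* helpers here

set_option autoImplicit false
universe u
open Variety

namespace Groth.Agent.S12439

/-- Let k be a field, A an integral domain which is a finitely generated k-algebra of Krull dimension d,
and q_{h(1)} ⊊ … ⊊ q_{h(r)} a chain of prime ideals with dim A/q_{h(i)} = d − h(i), where 0 ≤ h(i) ≤
d. Then (1) there is a finite injective k-algebra homomorphism φ : k[T_1, …, T_d] → A with
φ⁻¹(q_{h(i)}) = (T_1, …, T_{h(i)}) for every i (variables indexed from 0 below: the ideal generated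
by the T_l with l < h(i)); and (2) for every such φ the given chain extends to a chain of primes q_0
⊊ … ⊊ q_d of A with φ⁻¹(q_j) = (T_1, …, T_j) for all j ≤ d. -/
theorem result (k A : Type u) [Field k]
    [CommRing A] [IsDomain A] [Algebra k A] [Algebra.FiniteType k A] (d : ℕ) (hd : ringKrullDim A = (d : WithBot ℕ∞))
    (r : ℕ) (q : Fin r → PrimeSpectrum A) (hq : StrictMono q) (h : Fin r → ℕ) (hh : ∀ i, h i ≤ d)
    (hdim : ∀ i, ringKrullDim (A ⧸ (q i).asIdeal) = ((d - h i : ℕ) : WithBot ℕ∞)) :
    (∃ φ : MvPolynomial (Fin d) k →ₐ[k] A, φ.toRingHom.Finite ∧ Function.Injective φ ∧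
      ∀ i, (q i).asIdeal.comap φ = Ideal.span (MvPolynomial.X '' {l : Fin d | (l : ℕ) < h i})) ∧
    (∀ φ : MvPolynomial (Fin d) k →ₐ[k] A, φ.toRingHom.Finite → Function.Injective φ →
      (∀ i, (q i).asIdeal.comap φ = Ideal.span (MvPolynomial.X '' {l : Fin d | (l : ℕ) < h i})) →
      ∃ Q : ℕ → PrimeSpectrum A,
        (∀ j, j ≤ d → (Q j).asIdeal.comap φ = Ideal.span (MvPolynomial.X '' {l : Fin d | (l : ℕ) < j})) ∧
        (∀ j, j < d → Q j < Q (j + 1)) ∧ (∀ i, Q (h i) = q i)) := by
    refine ⟨?_, ?_⟩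
    · obtain ⟨s, g, hginj, hgfin⟩ := exists_finite_inj_algHom_of_fg k A
      letI := g.toRingHom.toAlgebra
      haveI : Module.Finite (MvPolynomial (Fin s) k) A := hgfin
      have hs : s = d := by
        have h1 := Groth.Agent.EGA41Lib.ringKrullDim_eq_of_integral (A := MvPolynomial (Fin s) k) (B := A) hginj
        rw [hd, Groth.Agent.NNAdapt.dim_mv] at h1
        exact_mod_cast h1.symm
      subst hs
      obtain ⟨ψ, hψ, hψc⟩ := Groth.Agent.NNAdapt.adapt s r (fun i => (q i).asIdeal.comap g.toRingHom) h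
        (fun i => inferInstance) (fun i j hij => Ideal.comap_mono (hq.monotone hij)) hh
        (fun i => by rw [← Groth.Agent.NNAdapt.dim_quot_comap g.toRingHom hgfin]; exact hdim i)
      refine ⟨g.comp ψ, hgfin.comp hψ, ?_, fun i => hψc i⟩
      exact Groth.Agent.NNAdapt.injective_of_finite (g.comp ψ).toRingHom (hgfin.comp hψ) hd
    · intro φ hfin hinj hc
      letI := φ.toRingHom.toAlgebra
      haveI : Module.Finite (MvPolynomial (Fin d) k) A := hfin
      have hmono : StrictMono h := by
        intro i j hij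
        by_contra hle
        push Not at hle
        have h1 : (q i).asIdeal.comap φ.toRingHom < (q j).asIdeal.comap φ.toRingHom :=
          Ideal.IsIntegral.comap_lt_comap (R := MvPolynomial (Fin d) k) (hq hij)
        have h2 : (q j).asIdeal.comap φ.toRingHom ≤ (q i).asIdeal.comap φ.toRingHom := by
          show (q j).asIdeal.comap φ ≤ (q i).asIdeal.comap φ
          rw [hc i, hc j]
          exact Groth.Agent.NNAdapt.XI_mono hle
        exact lt_irrefl _ (lt_of_lt_of_le h1 h2)
      obtain ⟨Q, h1, h2⟩ := Groth.Agent.NNAdapt.exists_chain (k := k) (d := d) hinj hq hmono hc d le_rfl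
      refine ⟨Q, fun j hj => (h1 j (by omega) hj).1, fun j hj => ?_, fun i => (h1 _ (by omega) (hh i)).2.2 i rfl⟩
      refine lt_of_le_of_ne (h2 j (by omega) hj) fun he => ?_
      have e1 := (h1 j (by omega) hj.le).1
      rw [he, (h1 (j + 1) (by omega) hj).1] at e1
      exact Groth.Agent.NNAdapt.X_not_mem_XI (k := k) (n := d) ⟨j, hj⟩ (lt_irrefl j)
        (e1 ▸ Ideal.subset_span ⟨⟨j, hj⟩, show j < j + 1 by omega, rfl⟩)

end Groth.Agent.S12439
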