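import Groth.Statements.S1244
-- import your own Groth.Agent.* helpers here
import Groth.Agent.MorLib.IndQA

set_option backward.isDefEq.respectTransparency.types false

set_option autoImplicit false
universe u
open FlatMor

namespace Groth.Agent.S1244

open AlgebraicGeometry CategoryTheory in
/-- Let A be the limit of an inverse system of rings (A_n) indexed by the natural numbers whose
transition maps are surjective with locally nilpotent kernels. Let T → Spec A be a monomorphism of
schemes which is locally of finite type. If each Spec A_n → Spec A factors through T, then T → Spec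
A is an isomorphism. -/
theorem result {A : Type u} [CommRing A] (A' : ℕ → Type u) [∀ n, CommRing (A' n)]
    (φ : ∀ n, A' (n + 1) →+* A' n) (π : ∀ n, A →+* A' n) (hlim : FlatCA.IsRingLimit A A' φ π)
    (hsurj : ∀ n, Function.Surjective (φ n)) (hnil : ∀ n, ∀ x ∈ RingHom.ker (φ n), IsNilpotent x)
    {T : Scheme.{u}} (h : T ⟶ Spec (CommRingCat.of A)) [Mono h] [LocallyOfFiniteType h]
    (hsec : ∀ n, ∃ g : Spec (CommRingCat.of (A' n)) ⟶ T, g ≫ h = Spec.map (CommRingCat.ofHom (π n))) :
    IsIso h := by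
  classical
  haveI : LocallyQuasiFinite h := LocallyQuasiFinite.of_injective (f := h) h.injective
  haveI : IsSeparated h := inferInstance
  obtain ⟨hcomp, hext, hlift⟩ := hlim
  choose g hg using hsec
  have hSπ : ∀ n, Spec.map (CommRingCat.ofHom (φ n)) ≫ Spec.map (CommRingCat.ofHom (π (n + 1))) =
      Spec.map (CommRingCat.ofHom (π n)) := fun n => by
    rw [← Spec.map_comp, ← CommRingCat.ofHom_comp, hcomp]
  have hgc : ∀ n, Spec.map (CommRingCat.ofHom (φ n)) ≫ g (n + 1) = g n := fun n => by
    rw [← cancel_mono h, Category.assoc, hg, hg, hSπ]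
  -- the kernel of the first projection lies in every maximal ideal
  have hnilπ : ∀ n (a : A), π 0 a = 0 → IsNilpotent (π n a) := by
    intro n
    induction n with
    | zero => intro a ha; rw [ha]; exact IsNilpotent.zero
    | succ n ih =>
      intro a ha
      obtain ⟨k, hk⟩ := ih a ha
      have : π (n + 1) a ^ k ∈ RingHom.ker (φ n) := by
        rw [RingHom.mem_ker, map_pow, ← RingHom.comp_apply, hcomp, hk]
      obtain ⟨l, hl⟩ := hnil n _ this
      exact ⟨k * l, by rw [pow_mul]; exact hl⟩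
  have hmax : ∀ m : Ideal A, m.IsMaximal → RingHom.ker (π 0) ≤ m := by
    intro m hm a ha
    by_contra ham
    obtain ⟨y, i, hi, hyi⟩ := hm.exists_inv ham
    have hu : ∀ n, IsUnit (π n i) := fun n => by
      have : π n i = 1 - π n (y * a) := by
        rw [← map_one (π n), ← map_sub]
        congr 1
        exact eq_sub_of_add_eq' hyi
      rw [this]
      refine IsNilpotent.isUnit_one_sub ?_
      rw [map_mul]
      exact (Commute.all _ _).isNilpotent_mul_left (hnilπ n a ha)
    obtain ⟨j, hj⟩ := hlift (fun n => ((hu n).unit⁻¹ : (A' n)ˣ).val) fun n => by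
      have h1 : φ n (((hu (n + 1)).unit⁻¹ : (A' (n + 1))ˣ).val) * π n i = 1 := by
        rw [← hcomp n, RingHom.comp_apply, ← map_mul, IsUnit.val_inv_mul, map_one]
      exact ((hu n).mul_left_inj).1 (h1.trans (IsUnit.val_inv_mul (hu n)).symm)
    refine hm.ne_top ((Ideal.eq_top_iff_one _).2 ?_)
    have : j * i = 1 := hext _ _ fun n => by rw [map_mul, hj, IsUnit.val_inv_mul, map_one]
    exact this ▸ m.mul_mem_left j hi
  -- a quasi-affine open containing all the sections
  have hK : IsCompact (Set.range (g 0).base) := isCompact_range (g 0).continuous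
  have hcov : Set.range (g 0).base ⊆ ⋃ V : T.affineOpens, ((V : T.Opens) : Set T) := fun x _ => by
    obtain ⟨_, ⟨V, hV, rfl⟩, hxV, -⟩ := T.isBasis_affineOpens.exists_subset_of_mem_open (Set.mem_univ x) isOpen_univ
    exact Set.mem_iUnion.2 ⟨⟨V, hV⟩, hxV⟩
  obtain ⟨s, hs⟩ := hK.elim_finite_subcover (fun V : T.affineOpens => ((V : T.Opens) : Set T)) (fun V => V.1.2) hcov
  let U : T.Opens := ⨆ V ∈ s, (V : T.Opens)
  have hUset : (U : Set T) = ⋃ V ∈ s, ((V : T.Opens) : Set T) := by simp [U]
  have hUc : IsCompact (U : Set T) := hUset ▸ s.isCompact_biUnion fun V _ => V.2.isCompact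
  have hU0 : Set.range (g 0).base ⊆ (U : Set T) := hUset ▸ hs
  have hUn : ∀ n, Set.range (g n).base ⊆ (U : Set T) := by
    intro n
    induction n with
    | zero => exact hU0
    | succ n ih =>
      rintro _ ⟨x, rfl⟩
      obtain ⟨y, rfl⟩ : x ∈ Set.range (Spec.map (CommRingCat.ofHom (φ n))).base := by
        have hr := range_comap_of_surjective (A' n) (φ n) (hsurj n)
        show x ∈ Set.range (PrimeSpectrum.comap (φ n))
        rw [hr]
        let x' : PrimeSpectrum (A' (n + 1)) := x
        refine (PrimeSpectrum.mem_zeroLocus x' _).2 fun a ha => ?_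
        obtain ⟨k, hk⟩ := hnil n a ha
        exact x'.isPrime.mem_of_pow_mem k (hk ▸ x'.asIdeal.zero_mem)
      exact ih ⟨y, by rw [← hgc n]; rfl⟩
  let X : Scheme.{u} := U
  let h' : X ⟶ Spec (CommRingCat.of A) := U.ι ≫ h
  haveI : CompactSpace X := isCompact_iff_compactSpace.mp hUc
  haveI : LocallyQuasiFinite h' := inferInstance
  haveI : X.IsQuasiAffine := MorLib.IQA.qa_of_locallyQuasiFinite h'
  let g' : ∀ n, Spec (CommRingCat.of (A' n)) ⟶ X := fun n =>
    IsOpenImmersion.lift U.ι (g n) (by rw [Scheme.Opens.range_ι]; exact hUn n)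
  have hg' : ∀ n, g' n ≫ U.ι = g n := fun n => IsOpenImmersion.lift_fac _ _ _
  have hgh : ∀ n, g' n ≫ h' = Spec.map (CommRingCat.ofHom (π n)) := fun n => by
    rw [← Category.assoc, hg', hg]
  have hg'c : ∀ n, Spec.map (CommRingCat.ofHom (φ n)) ≫ g' (n + 1) = g' n := fun n => by
    rw [← cancel_mono U.ι, Category.assoc, hg', hg', hgc]
  let β : ∀ n, Γ(X, ⊤) →+* A' n := fun n => (Spec.preimage (g' n ≫ X.toSpecΓ)).hom
  have hβ : ∀ n, Spec.map (CommRingCat.ofHom (β n)) = g' n ≫ X.toSpecΓ := fun n => Spec.map_preimage _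
  have hβc : ∀ n, (φ n).comp (β (n + 1)) = β n := fun n => by
    have : CommRingCat.ofHom ((φ n).comp (β (n + 1))) = CommRingCat.ofHom (β n) := Spec.map_injective (by
      rw [CommRingCat.ofHom_comp, Spec.map_comp, hβ, hβ, ← Category.assoc, hg'c])
    exact congrArg CommRingCat.Hom.hom this
  choose ρ hρ using fun r : Γ(X, ⊤) => hlift (fun n => β n r) fun n => RingHom.congr_fun (hβc n) r
  let ρh : Γ(X, ⊤) →+* A :=
    { toFun := ρ
      map_one' := hext _ _ fun n => by rw [hρ, map_one, map_one]
      map_mul' := fun a b => hext _ _ fun n => by rw [hρ, map_mul, map_mul, hρ, hρ]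
      map_zero' := hext _ _ fun n => by rw [hρ, map_zero, map_zero]
      map_add' := fun a b => hext _ _ fun n => by rw [hρ, map_add, map_add, hρ, hρ] }
  let s0 : Spec (CommRingCat.of A) ⟶ Spec Γ(X, ⊤) := Spec.map (CommRingCat.ofHom ρh)
  have hs0 : ∀ n, Spec.map (CommRingCat.ofHom (π n)) ≫ s0 = g' n ≫ X.toSpecΓ := fun n => by
    rw [← hβ, ← Spec.map_comp]
    congr 1
    exact CommRingCat.hom_ext (RingHom.ext fun r => hρ r n)
  have hrange : Set.range s0.base ⊆ Set.range X.toSpecΓ.base := by
    rintro _ ⟨x, rfl⟩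
    obtain ⟨m, hm, hxm⟩ := Ideal.exists_le_maximal x.asIdeal x.isPrime.ne_top
    have hspec : x ⤳ (⟨m, hm.isPrime⟩ : PrimeSpectrum A) := (PrimeSpectrum.le_iff_specializes _ _).1 hxm
    have hm' : (⟨m, hm.isPrime⟩ : PrimeSpectrum A) ∈ Set.range (Spec.map (CommRingCat.ofHom (π 0))).base := by
      have hs0' : Function.Surjective (π 0) := fun y => by
        choose nx hnx using fun n (z : A' n) => hsurj n z
        let w : ∀ n, A' n := fun n => Nat.rec (motive := fun n => A' n) y (fun k z => nx k z) n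
        obtain ⟨a, ha⟩ := hlift w fun n => hnx n (w n)
        exact ⟨a, ha 0⟩
      show _ ∈ Set.range (PrimeSpectrum.comap (π 0))
      rw [range_comap_of_surjective (A' 0) (π 0) hs0', PrimeSpectrum.mem_zeroLocus]
      exact hmax m hm
    obtain ⟨y, hy⟩ := hm'
    have hmem : (⟨m, hm.isPrime⟩ : PrimeSpectrum A) ∈ s0.base ⁻¹' Set.range X.toSpecΓ.base := by
      refine ⟨(g' 0).base y, ?_⟩
      rw [← hy]
      show (g' 0 ≫ X.toSpecΓ).base y = (Spec.map (CommRingCat.ofHom (π 0)) ≫ s0).base y
      rw [hs0]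
    exact hspec.mem_open (X.toSpecΓ.opensRange.2.preimage s0.continuous) hmem
  let t : Spec (CommRingCat.of A) ⟶ X := IsOpenImmersion.lift X.toSpecΓ s0 hrange
  have ht : t ≫ X.toSpecΓ = s0 := IsOpenImmersion.lift_fac _ _ _
  have htg : ∀ n, Spec.map (CommRingCat.ofHom (π n)) ≫ t = g' n := fun n => by
    rw [← cancel_mono X.toSpecΓ, Category.assoc, ht, hs0]
  have hsec : (t ≫ U.ι) ≫ h = 𝟙 _ := by
    obtain ⟨σ, hσ⟩ := Spec.map_surjective ((t ≫ U.ι) ≫ h)
    rw [← hσ, ← Spec.map_id]
    congr 1
    refine CommRingCat.hom_ext (RingHom.ext fun a => hext _ _ fun n => ?_)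
    have : CommRingCat.ofHom ((π n).comp σ.hom) = CommRingCat.ofHom (π n) := Spec.map_injective (by
      rw [CommRingCat.ofHom_comp, CommRingCat.ofHom_hom, Spec.map_comp, hσ, Category.assoc, ← Category.assoc (Spec.map _),
        htg, hgh])
    exact RingHom.congr_fun (congrArg CommRingCat.Hom.hom this) a
  exact ⟨t ≫ U.ι, by rw [← cancel_mono h, Category.assoc, hsec, Category.comp_id, Category.id_comp], hsec⟩

end Groth.Agent.S1244
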