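import Groth.Statements.S1245
-- import your own Groth.Agent.* helpers here
import Groth.Agent.H4RG.ImpurityDown

set_option backward.isDefEq.respectTransparency.types false

set_option autoImplicit false
universe u
open FlatMor

namespace Groth.Agent.S1245

attribute [local instance] Algebra.TensorProduct.rightAlgebra

/-- Ring form, X = Spec B affine, base change rings affine: let B be a finite type A-algebra, N a finite
B-module and p a prime of A. If there is an impurity of N above p, then there is one whose base
change A → A' is of finite presentation and whose point t is a closed point of the fibre of Spec A'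
over p (the extension of t to the fibre ring is maximal). -/
theorem result {A B : Type u} [CommRing A] [CommRing B] [Algebra A B] [Algebra.FiniteType A B]
    (N : Type u) [AddCommGroup N] [Module B N] [Module.Finite B N] (p : Ideal A) [p.IsPrime]
    (h : FlatCA.HasImpurity A B N p (fun _ _ _ _ => True)) :
    FlatCA.HasImpurity A B N p (fun A' _ _ t => Algebra.FinitePresentation A A' ∧ (FlatCA.fiberIdeal p t).IsMaximal) := by
  classical
  obtain ⟨A', B', N', _, _, _, _, _, _, _, _, _, _, _, _, _, _, f, t', t, _, _, P, _, himp, -⟩ := h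
  obtain ⟨F, hF⟩ := H4RG.exists_impurity_down himp
  let C := MvPolynomial F A
  let φ : C →ₐ[A] A' := MvPolynomial.aeval fun a => (a : A')
  letI : Algebra C A' := φ.toRingHom.toAlgebra
  haveI : IsScalarTower A C A' := IsScalarTower.of_algebraMap_eq fun r => (φ.commutes r).symm
  obtain ⟨P0, _, s, himp0, hs, hsep⟩ := hF C fun a ha =>
    ⟨MvPolynomial.X ⟨a, ha⟩, MvPolynomial.aeval_X _ _⟩
  let D := Localization.Away s
  haveI : Algebra.FinitePresentation C D := IsLocalization.Away.finitePresentation s
  haveI : Algebra.FinitePresentation A D := Algebra.FinitePresentation.trans A C D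
  let u' := t'.comap (algebraMap C A')
  let u := t.comap (algebraMap C A')
  have hle : u' ≤ u := himp0.2.2.1
  have hd : ∀ v : Ideal C, v.IsPrime → v ≤ u → Disjoint (Submonoid.powers s : Set C) v := fun v _ hv =>
    Set.disjoint_left.2 fun y hy hyv => by
      obtain ⟨n, rfl⟩ := hy
      exact hs (Ideal.IsPrime.mem_of_pow_mem (Ideal.comap_isPrime _ _) n (hv hyv))
  haveI : (u'.map (algebraMap C D)).IsPrime :=
    IsLocalization.isPrime_of_isPrime_disjoint (Submonoid.powers s) D u' inferInstance (hd u' inferInstance hle)
  haveI : (u.map (algebraMap C D)).IsPrime :=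
    IsLocalization.isPrime_of_isPrime_disjoint (Submonoid.powers s) D u inferInstance (hd u inferInstance le_rfl)
  have h3 := IsLocalization.under_map_of_isPrime_disjoint (Submonoid.powers s) D (I := u') inferInstance
    (hd u' inferInstance hle)
  have hu := IsLocalization.under_map_of_isPrime_disjoint (Submonoid.powers s) D (I := u) inferInstance
    (hd u inferInstance le_rfl)
  haveI : (u.map (algebraMap C D)).LiesOver p := ⟨by
    rw [Ideal.under_def] at hu ⊢
    rw [IsScalarTower.algebraMap_eq A C D, ← Ideal.comap_comap, hu]
    exact himp0.2.2.2.1.over⟩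
  have hne : FlatCA.fiberIdeal p (u.map (algebraMap C D)) ≠ ⊤ := fun hh => by
    refine Ideal.IsPrime.ne_top ‹(u.map (algebraMap C D)).IsPrime› ((Ideal.eq_top_iff_one _).2 ?_)
    refine H4RG.mem_of_mem_fiberIdeal p _ ?_
    rw [hh]
    exact Submodule.mem_top
  obtain ⟨M, hM, hMle⟩ := Ideal.exists_le_maximal _ hne
  haveI := hM
  let t2 := M.comap (algebraMap D (p.Fiber D))
  haveI : t2.IsPrime := Ideal.comap_isPrime _ _
  have hT : u.map (algebraMap C D) ≤ t2 := fun y hy => hMle (Ideal.mem_map_of_mem _ hy)
  refine H4RG.exists_impurity_push himp0 s hsep D (u'.map (algebraMap C D)) t2 ((Ideal.map_mono hle).trans hT) h3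
    (Ideal.map_le_iff_le_comap.1 hT) (fun hst => ?_) ⟨(H4RG.comap_fiber_eq p M).symm.trans (Ideal.under_def _ _).symm⟩ _ ⟨inferInstance, ?_⟩
  · exact Ideal.IsPrime.ne_top ‹t2.IsPrime› (Ideal.eq_top_of_isUnit_mem _ hst (IsLocalization.Away.algebraMap_isUnit s))
  · rw [show FlatCA.fiberIdeal p t2 = M from H4RG.fiberIdeal_comap p M]
    exact hM

end Groth.Agent.S1245
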