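import Groth.Statements.S12458
import Groth.Agent.FibVanQCohH4
import Groth.Agent.CohBasic.RpushAbZero

set_option backward.isDefEq.respectTransparency false
set_option backward.isDefEq.respectTransparency.types false
-- import your own Groth.Agent.* helpers here

set_option autoImplicit false
universe u
open CategoryTheory AlgebraicGeometry
open Lim

namespace Groth.Agent.S12458

/-- Let f : X → Y be proper and y ∈ Y a point whose fibre X_y has dimension at most d. Then there is an
affine open neighbourhood V of y such that for the restriction f⁻¹(V) → V the higher direct images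
R^i of every quasi-coherent module on f⁻¹(V) vanish for all i > d. (f⁻¹(V) and V are then
quasi-compact and quasi-separated, so the pair satisfies the hypotheses of the top-degree base
change statement; its conclusions (a)–(c) are that statement applied to this pair. The published
statement assumes dim X_y = d; at most d is what its proof uses.) -/
theorem result {X Y : Scheme.{u}} (f : X ⟶ Y) [IsProper f]
    (y : Y) (d : ℕ) (hd : topologicalKrullDim ↥(f.fiber y) ≤ d) :
    ∃ V : Y.Opens, y ∈ V ∧ IsAffineOpen V ∧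
      ∀ (M : (↑(f ⁻¹ᵁ V) : Scheme.{u}).Modules) (i : ℕ), Coh.IsQCoh M → d < i →
        Limits.IsZero ((Coh.RpushAb (f ∣_ V) i).obj (Coh.toAb M)) := by
  obtain ⟨V, hyV, hV, hvan⟩ := Groth.Agent.FibVanQCohH4.exists_affine_nhd f y d hd
  refine ⟨V, hyV, hV, fun M i hM hi => ?_⟩
  obtain ⟨q, rfl⟩ := Nat.exists_eq_add_of_le' (Nat.lt_of_le_of_lt (Nat.zero_le d) hi)
  haveI : IsAffine (V : Scheme.{u}) := hV
  refine Groth.Agent.CohBasic.isZero_RpushAb_of_HH (f ∣_ V) hM q (fun _ : Unit => ⊤)
    (fun _ => isAffineOpen_top _) (fun _ => ⟨(), trivial⟩) fun _ => ?_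
  refine hvan _ (((f ∣_ V) ⁻¹ᵁ ⊤).ι ≫ (f ⁻¹ᵁ V).ι) ?_ _ (Groth.Agent.QCoh.isQCoh_restrict _ hM) _ hi
  have hsurj : Function.Surjective ((f ∣_ V) ⁻¹ᵁ ⊤).ι := fun x => ⟨⟨x, trivial⟩, rfl⟩
  have e : Set.range (((f ∣_ V) ⁻¹ᵁ ⊤).ι ≫ (f ⁻¹ᵁ V).ι) = Set.range (f ⁻¹ᵁ V).ι :=
    hsurj.range_comp (f ⁻¹ᵁ V).ι
  rw [e, Scheme.Opens.range_ι]
  rfl

end Groth.Agent.S12458
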