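import Groth.Statements.S12460
import Mathlib
-- import your own Groth.Agent.* helpers here

set_option autoImplicit false
universe u
open CategoryTheory AlgebraicGeometry
open Props

namespace Groth.Agent.S12460

set_option backward.isDefEq.respectTransparency.types false

theorem regLocus_eq (R : CommRingCat.{u}) :
    EGA4.regLocus R = {p : (Spec R) | IsRegularLocalRing ((Spec R).presheaf.stalk p)} := by
  ext p
  let e : (Spec R).presheaf.stalk p ≃+* Localization.AtPrime p.asIdeal :=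
    (StructureSheaf.stalkIso R p).symm.toRingEquiv
  exact ⟨fun (h : IsRegularLocalRing (Localization.AtPrime p.asIdeal)) => (haveI := h; IsRegularLocalRing.of_ringEquiv e.symm),
    fun (h : IsRegularLocalRing ((Spec R).presheaf.stalk p)) => (haveI := h; IsRegularLocalRing.of_ringEquiv e)⟩

theorem regular_comp {Y Z : Scheme.{u}} (j : Y ⟶ Z) [IsOpenImmersion j] (y : Y) :
    IsRegularLocalRing (Y.presheaf.stalk y) ↔ IsRegularLocalRing (Z.presheaf.stalk (j y)) := by
  let e : Z.presheaf.stalk (j y) ≃+* Y.presheaf.stalk y := (asIso (j.stalkMap y)).commRingCatIsoToRingEquiv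
  exact ⟨fun h => (haveI := h; IsRegularLocalRing.of_ringEquiv e.symm),
    fun h => (haveI := h; IsRegularLocalRing.of_ringEquiv e)⟩

/-- (1) ⇔ (3) ⇔ (4): let X be a locally Noetherian scheme. Then X is J-2 — for every morphism Y → X
locally of finite type the set of points y with O_{Y,y} a regular local ring is open in Y — if and
only if for every affine open U of X the ring Γ(X, U) is J-2 (every finite type algebra over it has
open regular locus), if and only if every point of X lies in such an affine open. (Schemes Y over X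
are taken in the universe of X.) -/
theorem result (X : Scheme.{u}) [IsLocallyNoetherian X] :
    ((∀ (Y : Scheme.{u}) (g : Y ⟶ X), LocallyOfFiniteType g →
        IsOpen {y : Y | IsRegularLocalRing (Y.presheaf.stalk y)}) ↔
      ∀ U : X.affineOpens, EGA4.IsJ2 Γ(X, U)) ∧
    ((∀ (Y : Scheme.{u}) (g : Y ⟶ X), LocallyOfFiniteType g →
        IsOpen {y : Y | IsRegularLocalRing (Y.presheaf.stalk y)}) ↔
      ∀ x : X, ∃ U : X.affineOpens, x ∈ (U : X.Opens) ∧ EGA4.IsJ2 Γ(X, U)) := by
  have h12 : (∀ (Y : Scheme.{u}) (g : Y ⟶ X), LocallyOfFiniteType g →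
      IsOpen {y : Y | IsRegularLocalRing (Y.presheaf.stalk y)}) → ∀ U : X.affineOpens, EGA4.IsJ2 Γ(X, U) := by
    intro h U S _ _ hS
    haveI := hS
    have : LocallyOfFiniteType (Spec.map (CommRingCat.ofHom (algebraMap Γ(X, U) S)) ≫ U.2.fromSpec) := by
      haveI : LocallyOfFiniteType (Spec.map (CommRingCat.ofHom (algebraMap Γ(X, U) S))) :=
        (HasRingHomProperty.Spec_iff (P := @LocallyOfFiniteType)).2 (RingHom.finiteType_algebraMap.2 hS)
      infer_instance
    have h' := h _ _ this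
    rwa [← regLocus_eq (CommRingCat.of S)] at h'
  have h31 : (∀ x : X, ∃ U : X.affineOpens, x ∈ (U : X.Opens) ∧ EGA4.IsJ2 Γ(X, U)) →
      ∀ (Y : Scheme.{u}) (g : Y ⟶ X), LocallyOfFiniteType g →
        IsOpen {y : Y | IsRegularLocalRing (Y.presheaf.stalk y)} := by
    intro h Y g hg
    rw [isOpen_iff_forall_mem_open]
    intro y hy
    obtain ⟨U, hU, hJ⟩ := h (g y)
    obtain ⟨_, ⟨V, hV, rfl⟩, hyV, hVU⟩ :=
      Y.isBasis_affineOpens.exists_subset_of_mem_open (show y ∈ g ⁻¹ᵁ U.1 from hU) (g ⁻¹ᵁ U.1).2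
    letI := (g.appLE U.1 V hVU).hom.toAlgebra
    have hft : (g.appLE U.1 V hVU).hom.FiniteType := g.finiteType_appLE U.2 hV hVU
    have hopen := hJ Γ(Y, V) hft
    rw [regLocus_eq Γ(Y, V)] at hopen
    refine ⟨hV.fromSpec '' {p | IsRegularLocalRing ((Spec Γ(Y, V)).presheaf.stalk p)}, ?_,
      hV.fromSpec.isOpenEmbedding.isOpenMap _ hopen, ?_⟩
    · rintro _ ⟨p, hp, rfl⟩
      exact (regular_comp hV.fromSpec p).1 hp
    · obtain ⟨p, hp⟩ : y ∈ Set.range hV.fromSpec := by rw [hV.range_fromSpec]; exact hyV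
      exact ⟨p, (regular_comp hV.fromSpec p).2 (hp ▸ hy), hp⟩
  have h23 : (∀ U : X.affineOpens, EGA4.IsJ2 Γ(X, U)) →
      ∀ x : X, ∃ U : X.affineOpens, x ∈ (U : X.Opens) ∧ EGA4.IsJ2 Γ(X, U) := by
    intro h x
    obtain ⟨_, ⟨V, hV, rfl⟩, hxV, -⟩ :=
      X.isBasis_affineOpens.exists_subset_of_mem_open (Set.mem_univ x) isOpen_univ
    exact ⟨⟨V, hV⟩, hxV, h _⟩
  exact ⟨⟨h12, fun h => h31 (h23 h)⟩, ⟨fun h => h23 (h12 h), h31⟩⟩

end Groth.Agent.S12460
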