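import Groth.Statements.S12461
import Groth.Agent.QCohGab.Groth
import Groth.Agent.QCoh.Qcqs
import Groth.Agent.KFlatLib.Scheme.ClosedPush
import Mathlib.CategoryTheory.Adjunction.AdjointFunctorTheorems
-- import your own Groth.Agent.* helpers here

set_option autoImplicit false
universe u
open CategoryTheory CategoryTheory.Limits AlgebraicGeometry
open QCohSub

namespace Groth.Agent.S12461

/-- Let i : Z → X be a closed immersion of schemes. The functor i_* : QCoh(O_Z) → QCoh(O_X) has a right
adjoint i^! : QCoh(O_X) → QCoh(O_Z). Stated as: there is a functor L between the full subcategories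
of quasi-coherent modules which agrees with i_* after the inclusion into all O_X-modules (this
determines L up to isomorphism, the inclusion being fully faithful) and which is a left adjoint. -/
theorem result {Z X : Scheme.{u}} (i : Z ⟶ X) [IsClosedImmersion i] :
    ∃ L : QCohCat.QCoh Z ⥤ QCohCat.QCoh X,
      Nonempty (L ⋙ (QCohCat.isQCoh X).ι ≅ (QCohCat.isQCoh Z).ι ⋙ Coh.push i) ∧ L.IsLeftAdjoint := by
    let L : QCohCat.QCoh Z ⥤ QCohCat.QCoh X :=
      (QCohCat.isQCoh X).lift ((QCohCat.isQCoh Z).ι ⋙ Coh.push i)
        (fun M => Groth.Agent.QCoh.isQCoh_pushforward i M.property)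
    refine ⟨L, ⟨Iso.refl _⟩, ?_⟩
    haveI : PreservesColimitsOfSize.{u, u} (Scheme.Modules.pushforward i) :=
      ⟨fun {K} _ => Groth.Agent.KFlatLib.preservesColimitsOfShape_push i K⟩
    haveI : PreservesColimitsOfSize.{u, u} (QCohCat.isQCoh Z).ι := ⟨fun {J} _ => inferInstance⟩
    haveI : PreservesColimitsOfSize.{u, u} (L ⋙ (QCohCat.isQCoh X).ι) :=
      inferInstanceAs (PreservesColimitsOfSize.{u, u} ((QCohCat.isQCoh Z).ι ⋙ Scheme.Modules.pushforward i))
    haveI : ReflectsColimitsOfSize.{u, u} (QCohCat.isQCoh X).ι := fullyFaithful_reflectsColimits _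
    haveI : PreservesColimitsOfSize.{u, u} L := preservesColimits_of_reflects_of_preserves L (QCohCat.isQCoh X).ι
    exact isLeftAdjoint_of_preservesColimits_of_isSeparating (Groth.Agent.QCohGab.isSeparating_gen Z) _

end Groth.Agent.S12461
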