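import Groth.Statements.S12469
import Groth.Agent.VeryAmpleX.SigApps

set_option autoImplicit false
universe u
open CategoryTheory CategoryTheory.Limits AlgebraicGeometry TopologicalSpace Opposite
open scoped HomogeneousIdeal
open EGA2

namespace Groth.Agent.S12469

open Groth.Agent.H23.PicMul in
/-- Let q : X → Y be a morphism of schemes, L an invertible O_X-module and K an invertible O_Y-module.
Then L is very ample relative to q (isomorphic to the inverse image of O(1) along a Y-immersion of X
into the projective bundle P(E) of a quasi-coherent O_Y-module E) if and only if L ⊗ q^*K is. -/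
theorem result {X Y : Scheme.{u}} (q : X ⟶ Y) (L : X.Modules)
    (hL : PicF.IsInvertible L) (K : Y.Modules) (hK : PicF.IsInvertible K) :
    RelProj.IsRelVeryAmple q L ↔
      RelProj.IsRelVeryAmple q (CohB1.tensorMod L ((Scheme.Modules.pullback q).obj K)) := by
  refine ⟨VeryAmpleX.Sig.isRelVeryAmple_tensor_pullback hK, fun h => ?_⟩
  obtain ⟨K', hK', hKK'⟩ := H23.PicInv.exists_inverse hK
  have h' := VeryAmpleX.Sig.isRelVeryAmple_tensor_pullback hK' h
  refine VeryAmpleX.Sig.isRelVeryAmple_of_iso' ((H23.PicMul.assoc _ _ _).some ≪≫ (H23.PicMul.cl_eq_iff.1 ?_).some) h'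
  have e : PicF.cl K * PicF.cl K' = 1 := (H23.PicMul.cl_tensor K K').symm.trans (H23.PicMul.cl_eq_iff.2 hKK')
  rw [H23.PicMul.cl_tensor, H23.PicMul.cl_tensor]
  show _ * (PicF.pullCl q (PicF.cl K) * PicF.pullCl q (PicF.cl K')) = _
  rw [← H23.PicMul.pullCl_mul, e, H23.PicMul.pullCl_one, mul_one]

end Groth.Agent.S12469
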