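import Groth.Statements.S12475
import Groth.Agent.VeryAmpleX.SigProduct

set_option autoImplicit false
universe u
open CategoryTheory CategoryTheory.Limits AlgebraicGeometry TopologicalSpace Opposite
open scoped HomogeneousIdeal
open EGA2

namespace Groth.Agent.S12475

/-- Let Y₁ → S and Y₂ → S be schemes over S, f₁ : X₁ → Y₁ and f₂ : X₂ → Y₂ morphisms (so that X₁, X₂ are
S-schemes through them), P with projections p₁, p₂ a fibre product X₁ ×_S X₂, Q with projections q₁,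
q₂ a fibre product Y₁ ×_S Y₂, and h : P → Q the morphism f₁ ×_S f₂, that is, the one with h ≫ q₁ =
p₁ ≫ f₁ and h ≫ q₂ = p₂ ≫ f₂. If L₁ is an invertible O_{X₁}-module very ample relative to f₁ and L₂
an invertible O_{X₂}-module very ample relative to f₂ (each isomorphic to the inverse image of O(1)
along an immersion over the base into the projective bundle of a quasi-coherent module on the base),
then the external tensor product p₁^*L₁ ⊗ p₂^*L₂ is very ample relative to h. -/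
theorem result {S X₁ X₂ Y₁ Y₂ P Q : Scheme.{u}} (y₁ : Y₁ ⟶ S) (y₂ : Y₂ ⟶ S)
    (f₁ : X₁ ⟶ Y₁) (f₂ : X₂ ⟶ Y₂) (p₁ : P ⟶ X₁) (p₂ : P ⟶ X₂) (hP : IsPullback p₁ p₂ (f₁ ≫ y₁) (f₂ ≫ y₂))
    (q₁ : Q ⟶ Y₁) (q₂ : Q ⟶ Y₂) (hQ : IsPullback q₁ q₂ y₁ y₂) (h : P ⟶ Q)
    (hh₁ : h ≫ q₁ = p₁ ≫ f₁) (hh₂ : h ≫ q₂ = p₂ ≫ f₂)
    (L₁ : X₁.Modules) (hL₁ : PicF.IsInvertible L₁) (hva₁ : RelProj.IsRelVeryAmple f₁ L₁)
    (L₂ : X₂.Modules) (hL₂ : PicF.IsInvertible L₂) (hva₂ : RelProj.IsRelVeryAmple f₂ L₂) :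
    RelProj.IsRelVeryAmple h
      (CohB1.tensorMod ((Scheme.Modules.pullback p₁).obj L₁) ((Scheme.Modules.pullback p₂).obj L₂)) := by
  let X₁' := pullback f₁ q₁
  let X₂' := pullback f₂ q₂
  have w₁ : p₁ ≫ f₁ = h ≫ q₁ := hh₁.symm
  have w₂ : p₂ ≫ f₂ = h ≫ q₂ := hh₂.symm
  let a₁ : P ⟶ X₁' := pullback.lift p₁ h w₁
  let a₂ : P ⟶ X₂' := pullback.lift p₂ h w₂
  have ha₁ : a₁ ≫ pullback.fst f₁ q₁ = p₁ := pullback.lift_fst _ _ _
  have ha₁' : a₁ ≫ pullback.snd f₁ q₁ = h := pullback.lift_snd _ _ _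
  have ha₂ : a₂ ≫ pullback.fst f₂ q₂ = p₂ := pullback.lift_fst _ _ _
  have ha₂' : a₂ ≫ pullback.snd f₂ q₂ = h := pullback.lift_snd _ _ _
  have hw : a₁ ≫ pullback.snd f₁ q₁ = a₂ ≫ pullback.snd f₂ q₂ := ha₁'.trans ha₂'.symm
  have cond : ∀ s : PullbackCone (pullback.snd f₁ q₁) (pullback.snd f₂ q₂),
      (s.fst ≫ pullback.fst f₁ q₁) ≫ f₁ ≫ y₁ = (s.snd ≫ pullback.fst f₂ q₂) ≫ f₂ ≫ y₂ := fun s => by
    simp only [Category.assoc]
    rw [pullback.condition_assoc, pullback.condition_assoc, hQ.w, s.condition_assoc]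
  have hsq : IsPullback a₁ a₂ (pullback.snd f₁ q₁) (pullback.snd f₂ q₂) := by
    refine IsPullback.of_isLimit' ⟨hw⟩ (PullbackCone.IsLimit.mk _
      (fun s => hP.lift (s.fst ≫ pullback.fst f₁ q₁) (s.snd ≫ pullback.fst f₂ q₂) (cond s)) ?_ ?_ ?_)
    · intro s
      have e1 : hP.lift _ _ (cond s) ≫ h = s.fst ≫ pullback.snd f₁ q₁ := hQ.hom_ext
        (by rw [Category.assoc, hh₁, hP.lift_fst_assoc, Category.assoc, Category.assoc, pullback.condition])
        (by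
          rw [Category.assoc, hh₂, hP.lift_snd_assoc, Category.assoc, pullback.condition]
          simp only [Category.assoc]; rw [s.condition_assoc])
      apply pullback.hom_ext
      · rw [Category.assoc, ha₁, hP.lift_fst]
      · rw [Category.assoc, ha₁', e1]
    · intro s
      have e1 : hP.lift _ _ (cond s) ≫ h = s.snd ≫ pullback.snd f₂ q₂ := hQ.hom_ext
        (by
          rw [Category.assoc, hh₁, hP.lift_fst_assoc, Category.assoc, pullback.condition]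
          rw [reassoc_of% s.condition, Category.assoc])
        (by rw [Category.assoc, hh₂, hP.lift_snd_assoc, Category.assoc, Category.assoc, pullback.condition])
      apply pullback.hom_ext
      · rw [Category.assoc, ha₂, hP.lift_snd]
      · rw [Category.assoc, ha₂', e1]
    · intro s m h1 h2
      apply hP.hom_ext
      · rw [hP.lift_fst, ← h1, Category.assoc, ha₁]
      · rw [hP.lift_snd, ← h2, Category.assoc, ha₂]
  have v₁ := VeryAmpleX.Sig.isRelVeryAmple_baseChange' (IsPullback.of_hasPullback f₁ q₁) hva₁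
  have v₂ := VeryAmpleX.Sig.isRelVeryAmple_baseChange' (IsPullback.of_hasPullback f₂ q₂) hva₂
  have v := VeryAmpleX.Sig.isRelVeryAmple_product hsq v₁ v₂
  rw [ha₁'] at v
  refine VeryAmpleX.Sig.isRelVeryAmple_of_iso' (H23.PicMul.cl_eq_iff.1 ?_).some v
  rw [H23.PicMul.cl_tensor, H23.PicMul.cl_tensor]
  congr 1
  · show PicF.pullCl a₁ (PicF.pullCl (pullback.fst f₁ q₁) (PicF.cl L₁)) = PicF.pullCl p₁ (PicF.cl L₁)
    rw [PicClLib.pullCl_comp, ha₁]
  · show PicF.pullCl a₂ (PicF.pullCl (pullback.fst f₂ q₂) (PicF.cl L₂)) = PicF.pullCl p₂ (PicF.cl L₂)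
    rw [PicClLib.pullCl_comp, ha₂]

end Groth.Agent.S12475
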