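import Groth.Statements.S12477
import Groth.Agent.VeryAmpleX.SigCoprod

set_option autoImplicit false
universe u
open CategoryTheory CategoryTheory.Limits AlgebraicGeometry TopologicalSpace Opposite
open scoped HomogeneousIdeal
open EGA2

namespace Groth.Agent.S12477

/-- Let X and X' be schemes with disjoint union X ⨿ X', let f'' : X ⨿ X' → Y be a morphism (given by a
morphism f on X and a morphism f' on X') and L'' an invertible module on X ⨿ X' (given by an
invertible O_X-module L and an invertible O_{X'}-module L'). Then L'' is very ample relative to f''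
(isomorphic to the inverse image of O(1) along a Y-immersion of X into the projective bundle P(E) of
a quasi-coherent O_Y-module E) if and only if L, the inverse image of L'' on X, is very ample
relative to f and L', the inverse image of L'' on X', is very ample relative to f'. -/
theorem result {X X' Y : Scheme.{u}} (f'' : X ⨿ X' ⟶ Y) (L'' : (X ⨿ X').Modules)
    (hL'' : PicF.IsInvertible L'') :
    RelProj.IsRelVeryAmple f'' L'' ↔
      RelProj.IsRelVeryAmple (coprod.inl ≫ f'') ((Scheme.Modules.pullback (coprod.inl : X ⟶ X ⨿ X')).obj L'') ∧
        RelProj.IsRelVeryAmple (coprod.inr ≫ f'') ((Scheme.Modules.pullback (coprod.inr : X' ⟶ X ⨿ X')).obj L'') := by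
  have hc := isCompl_range_inl_inr X X'
  exact ⟨fun h => ⟨VeryAmpleX.isRelVeryAmple_immersion_comp coprod.inl rfl h, VeryAmpleX.isRelVeryAmple_immersion_comp coprod.inr rfl h⟩,
    fun h => VeryAmpleX.Sig.isRelVeryAmple_of_disjoint coprod.inl coprod.inr (TopologicalSpace.Opens.ext hc.disjoint.inter_eq)
      (TopologicalSpace.Opens.ext hc.codisjoint.eq_top) f'' h.1 h.2⟩

end Groth.Agent.S12477
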