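import Groth.Statements.S1248
-- import your own Groth.Agent.* helpers here
import Groth.Agent.H4RG.ImpurityDown
import Groth.Agent.Hensel.NbhdPoints
import Groth.Agent.H4RG.SpreadGen

set_option backward.isDefEq.respectTransparency.types false

set_option autoImplicit false
universe u
open FlatMor

namespace Groth.Agent.S1248

attribute [local instance] Algebra.TensorProduct.rightAlgebra

open IsLocalRing in
/-- Ring form, X = Spec B affine: let B be a finite type A-algebra, N a finite B-module and p a prime of
A. If there is an impurity of N above p whose base change ring A' is a henselization of the local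
ring A_p (compatibly with A → A_p) and whose point t is the maximal ideal, then there is an impurity
of N above p for which (A', t) is an elementary étale ring map at p. -/
theorem result {A B : Type u} [CommRing A] [CommRing B] [Algebra A B] [Algebra.FiniteType A B]
    (N : Type u) [AddCommGroup N] [Module B N] [Module.Finite B N] (p : Ideal A) [p.IsPrime]
    (h : FlatCA.HasImpurity A B N p (fun A' _ _ t => ∃ (_ : IsLocalRing A') (_ : Algebra (Localization.AtPrime p) A')
        (_ : IsScalarTower A (Localization.AtPrime p) A') (_ : IsLocalHom (algebraMap (Localization.AtPrime p) A')),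
        Hensel.IsHenselization (Localization.AtPrime p) A' ∧ t = maximalIdeal A')) :
    FlatCA.HasImpurity A B N p (fun A' _ _ t => ∃ _ : t.IsPrime, FlatCA.IsEtaleNhd A A' p t) := by
  classical
  obtain ⟨A', B', N', _, _, _, _, _, _, _, _, _, _, _, _, _, _, f, t', t, _, _, P, _, himp, _, _, _, _, hhz, hteq⟩ := h
  haveI := hhz
  obtain ⟨e, he⟩ := Hensel.exists_algEquiv_henz_residueField A p A'
  obtain ⟨F, hF⟩ := H4RG.exists_impurity_down himp
  have hstage : ∀ s : Finset A', ∃ Nb : Hensel.Nbhd A p.ResidueField,
      (↑s : Set A') ⊆ Set.range fun b => e (Hensel.Henz.ofB Nb b) := fun s => by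
    induction s using Finset.induction with
    | empty =>
      obtain ⟨Nb, -, -⟩ := Hensel.Henz.exists_ofB (0 : Hensel.Henz A p.ResidueField)
      exact ⟨Nb, by simp⟩
    | insert x s _ ih =>
      obtain ⟨N1, h1⟩ := ih
      obtain ⟨N2, b2, hb2⟩ := Hensel.Henz.exists_ofB (e.symm x)
      obtain ⟨N3, α, β, hα, hβ⟩ := N1.exists_hom₂ N2
      refine ⟨N3, fun y hy => ?_⟩
      rcases Finset.mem_insert.1 hy with rfl | hy
      · exact ⟨β b2, by
          show e (Hensel.Henz.ofB N3 (β b2)) = _
          rw [← AlgHom.comp_apply (Hensel.Henz.ofB N3) β, Hensel.Henz.ofB_comp β hβ, hb2, AlgEquiv.apply_symm_apply]⟩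
      · obtain ⟨b, hb⟩ := h1 hy
        exact ⟨α b, by
          show e (Hensel.Henz.ofB N3 (α b)) = _
          rw [← AlgHom.comp_apply (Hensel.Henz.ofB N3) α, Hensel.Henz.ofB_comp α hα]
          exact hb⟩
  obtain ⟨Nb, hNb⟩ := hstage F
  let φ : Nb.B →ₐ[A] A' := e.toAlgHom.comp (Hensel.Henz.ofB Nb)
  letI : Algebra Nb.B A' := φ.toRingHom.toAlgebra
  haveI : IsScalarTower A Nb.B A' := IsScalarTower.of_algebraMap_eq fun r => (φ.commutes r).symm
  obtain ⟨P0, _, s, himp0, -, -⟩ := hF Nb.B hNb
  refine ⟨_, _, _, _, _, _, _, _, _, _, _, _, _, _, _, _, _, _, _, _, _, _, _, _, himp0, inferInstance,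
    H4RG.isEtaleNhd_of_point p Nb.toK _ ?_⟩
  ext b
  rw [RingHom.mem_ker, Ideal.mem_comap, hteq]
  show _ ↔ (e.toAlgHom.toRingHom (Hensel.Henz.ofB Nb b)) ∈ IsLocalRing.maximalIdeal A'
  rw [← Ideal.mem_comap, he, Hensel.maximalIdeal_henz_residueField, RingHom.mem_ker, Hensel.Henz.proj_ofB]

end Groth.Agent.S1248
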