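import Groth.Statements.S12482

set_option autoImplicit false
universe u
open Dual

namespace Groth.Agent.S12482

theorem coeff_mem_of_relation {A : Type*} [CommRing A] : ∀ (p : ℕ) (x : Fin p → A)
    (_ : ∀ (i : Fin p) (a : A), a * x i ∈ Ideal.span (x '' {j | j < i}) →
      a ∈ Ideal.span (x '' {j | j < i}))
    (a : Fin p → A), ∑ i, a i * x i = 0 → ∀ i, a i ∈ Ideal.span (Set.range x) := by
  intro p
  induction p with
  | zero => intro x _ a _ i; exact i.elim0
  | succ p ih =>
    intro x hx a ha
    have himg : x '' {j | j < Fin.last p} = Set.range (x ∘ Fin.castSucc) := by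
      rw [Set.range_comp, Fin.range_castSucc]
      congr 1
    rw [Fin.sum_univ_castSucc] at ha
    have h1 : a (Fin.last p) * x (Fin.last p) ∈ Ideal.span (Set.range (x ∘ Fin.castSucc)) := by
      rw [eq_neg_of_add_eq_zero_right ha]
      exact neg_mem (sum_mem fun i _ => Ideal.mul_mem_left _ _ (Ideal.subset_span ⟨i, rfl⟩))
    have h2 : a (Fin.last p) ∈ Ideal.span (Set.range (x ∘ Fin.castSucc)) := by
      rw [← himg] at h1 ⊢
      exact hx _ _ h1
    obtain ⟨b, hb⟩ := (Ideal.mem_span_range_iff_exists_fun).1 h2
    have hx' : ∀ (i : Fin p) (c : A), c * (x ∘ Fin.castSucc) i ∈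
        Ideal.span ((x ∘ Fin.castSucc) '' {j | j < i}) →
        c ∈ Ideal.span ((x ∘ Fin.castSucc) '' {j | j < i}) := by
      intro i c
      have e : (x ∘ Fin.castSucc) '' {j | j < i} = x '' {j | j < i.castSucc} := by
        ext y
        constructor
        · rintro ⟨j, hj, rfl⟩
          exact ⟨j.castSucc, hj, rfl⟩
        · rintro ⟨j, hj, rfl⟩
          refine ⟨j.castPred (Fin.ne_of_lt (lt_of_lt_of_le hj (Fin.le_last _))), ?_, ?_⟩
          · exact hj
          · simp
      rw [e]
      exact hx i.castSucc c
    have h3 : ∑ i : Fin p, (a i.castSucc + b i * x (Fin.last p)) * (x ∘ Fin.castSucc) i = 0 := by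
      calc ∑ i : Fin p, (a i.castSucc + b i * x (Fin.last p)) * (x ∘ Fin.castSucc) i
          = ∑ i : Fin p, a i.castSucc * x i.castSucc
            + (∑ i, b i * (x ∘ Fin.castSucc) i) * x (Fin.last p) := by
            rw [Finset.sum_mul, ← Finset.sum_add_distrib]
            exact Finset.sum_congr rfl fun i _ => by simp only [Function.comp_apply]; ring
        _ = 0 := by rw [hb]; exact ha
    have h4 := ih _ hx' _ h3
    have hle : Ideal.span (Set.range (x ∘ Fin.castSucc)) ≤ Ideal.span (Set.range x) :=
      Ideal.span_mono (Set.range_comp_subset_range _ _)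
    intro i
    induction i using Fin.lastCases with
    | last => exact hle h2
    | cast i =>
      have := sub_mem (hle (h4 i)) (Ideal.mul_mem_left _ (b i)
        (Ideal.subset_span (Set.mem_range_self (Fin.last p))))
      simpa using this


/-- Let `A` be a commutative ring, `x_1, …, x_p` a sequence of elements of `A` such that each `x_i` is a
non-zero-divisor on `A/(x_1, …, x_{i-1})`, and `J` the ideal generated by the `x_i`. Then `J/J²` is
a free `(A/J)`-module with basis the classes of the `x_i`: there is a basis of `J/J²` over `A/J`,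
indexed by `1, …, p`, whose `i`-th vector is the class of `x_i`. (The other assertions of the
published statement, on the Koszul complex and on Ext and Tor against `A/J`, are stated separately.) -/
theorem result (A : Type u) [CommRing A] (p : ℕ) (x : Fin p → A)
    (hreg : RingTheory.Sequence.IsWeaklyRegular A (List.ofFn x)) :
    ∃ b : Module.Basis (Fin p) (A ⧸ Ideal.span (Set.range x)) (Ideal.span (Set.range x)).Cotangent,
      ∀ i, b i = (Ideal.span (Set.range x)).toCotangent ⟨x i, Ideal.subset_span (Set.mem_range_self i)⟩ := by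
  have hwr : ∀ (i : Fin p) (a : A), a * x i ∈ Ideal.span (x '' {j | j < i}) →
      a ∈ Ideal.span (x '' {j | j < i}) := by
    intro i a h
    have hi : (i : ℕ) < (List.ofFn x).length := by simp
    have h1 := hreg.regular_mod_prev i hi
    have e : (Ideal.ofList ((List.ofFn x).take i) • ⊤ : Submodule A A)
        = Ideal.span (x '' {j | j < i}) := by
      rw [smul_eq_mul, Ideal.mul_top, Ideal.ofList]
      congr 1
      ext y
      simp only [Set.mem_setOf_eq, List.mem_take_iff_getElem, List.getElem_ofFn, List.length_ofFn,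
        Set.mem_image]
      constructor
      · rintro ⟨j, hj, rfl⟩
        exact ⟨⟨j, by omega⟩, show j < (i : ℕ) by omega, rfl⟩
      · rintro ⟨j, hj, rfl⟩
        exact ⟨j, lt_min (show (j : ℕ) < i from hj) j.isLt, rfl⟩
    rw [isSMulRegular_quotient_iff_mem_of_smul_mem] at h1
    rw [← e] at h ⊢
    refine h1 a ?_
    simpa [mul_comm] using h
  set J := Ideal.span (Set.range x) with hJ
  let v : Fin p → J.Cotangent := fun i => J.toCotangent ⟨x i, Ideal.subset_span (Set.mem_range_self i)⟩
  have hli : LinearIndependent (A ⧸ J) v := by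
    rw [Fintype.linearIndependent_iff]
    intro g hg
    choose a ha using fun i => Ideal.Quotient.mk_surjective (g i)
    have h1 : J.toCotangent (∑ i, a i • (⟨x i, Ideal.subset_span (Set.mem_range_self i)⟩ : J)) = 0 := by
      rw [map_sum]
      refine (Finset.sum_congr rfl fun i _ => ?_).trans hg
      rw [map_smul, ← ha i]
      rfl
    rw [Ideal.toCotangent_eq_zero, pow_two] at h1
    have h2 : ∀ z ∈ J * J, ∃ c : Fin p → A, (∀ i, c i ∈ J) ∧ z = ∑ i, c i * x i := by
      intro z hz
      refine Submodule.mul_induction_on hz (fun u hu w hw => ?_) (fun u w hu hw => ?_)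
      · obtain ⟨b, rfl⟩ := (Ideal.mem_span_range_iff_exists_fun).1 hw
        exact ⟨fun i => u * b i, fun i => J.mul_mem_right _ hu,
          by rw [Finset.mul_sum]; exact Finset.sum_congr rfl fun i _ => by ring⟩
      · obtain ⟨c, hc, rfl⟩ := hu
        obtain ⟨d, hd, rfl⟩ := hw
        exact ⟨fun i => c i + d i, fun i => J.add_mem (hc i) (hd i),
          by rw [← Finset.sum_add_distrib]; exact Finset.sum_congr rfl fun i _ => by ring⟩
    obtain ⟨c, hc, hc'⟩ := h2 _ h1
    rw [Submodule.coe_sum] at hc'
    have h3 : ∑ i, (a i - c i) * x i = 0 := by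
      simp only [sub_mul, Finset.sum_sub_distrib]
      rw [sub_eq_zero, ← hc']
      exact Finset.sum_congr rfl fun i _ => by simp
    intro i
    have h4 := J.add_mem (coeff_mem_of_relation p x hwr _ h3 i) (hc i)
    rw [← ha i, Ideal.Quotient.eq_zero_iff_mem]
    simpa using h4
  have hsp : ⊤ ≤ Submodule.span (A ⧸ J) (Set.range v) := by
    intro m _
    obtain ⟨⟨z, hz⟩, rfl⟩ := J.toCotangent_surjective m
    obtain ⟨b, hb⟩ := (Ideal.mem_span_range_iff_exists_fun).1 hz
    have e : (⟨z, hz⟩ : J) = ∑ i, b i • (⟨x i, Ideal.subset_span (Set.mem_range_self i)⟩ : J) := by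
      apply Subtype.ext
      rw [Submodule.coe_sum]
      simp [hb]
    rw [e, map_sum]
    refine Submodule.sum_mem _ fun i _ => ?_
    rw [map_smul]
    exact Submodule.smul_mem _ (Ideal.Quotient.mk J (b i)) (Submodule.subset_span (Set.mem_range_self i))
  exact ⟨Module.Basis.mk hli hsp, fun i => by rw [Module.Basis.mk_apply]⟩

end Groth.Agent.S12482
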