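import Groth.Statements.S12483
import Groth.Agent.Lib.PnDualSheafHom
-- import your own Groth.Agent.* helpers here

set_option autoImplicit false
universe u
open CategoryTheory CategoryTheory.Limits AlgebraicGeometry
open Coherent

namespace Groth.Agent.S12483

theorem aux (R : Type u) [CommRing R] {X : Scheme.{u}} [X.Over (Spec (CommRingCat.of R))] [HasExt.{u} X.Modules]
    {A : X.Modules} (hA : FlatMod.IsFinLocFree A) (B : X.Modules) (p : ℕ) :
    Nonempty (Abelian.Ext A B p ≃+ Coh.HH X ((Groth.Agent.SheafHomX.hom A).obj B) p) := by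
  obtain ⟨e⟩ := Groth.Agent.PnDual.nonempty_ext_linearEquiv_HH (A := R) hA B p
  exact ⟨e.toAddEquiv⟩

/-- Let `X` be a scheme, `A` an `O_X`-module which is finite locally free (every point has an open
neighbourhood over which `A` is isomorphic to some `O^n`) and for which the internal Hom functor
`Hom_{O_X}(A, -)` exists (right adjoint of `A ⊗ -`), `B` any `O_X`-module and `p ≥ 0`. Then
`Ext^p_{O_X}(X; A, B)`, the Ext group computed in the category of `O_X`-modules, is isomorphic to
`H^p(X, Hom_{O_X}(A, B))`. (Existence of an isomorphism of abelian groups only; the published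
isomorphisms are canonical, the edge maps of the local-to-global spectral sequence for Ext. The
published statement is for an arbitrary ringed space; this row is the case of a scheme.) -/
theorem result (X : Scheme.{u}) [HasExt.{u} X.Modules]
    (A B : X.Modules) (hA : FlatMod.IsFinLocFree A) [DCoh.HasSheafHom A] (p : ℕ) :
    Nonempty (Abelian.Ext A B p ≃+ Coh.HH X ((DCoh.sheafHom A).obj B) p) := by
  letI : X.Over (Spec (CommRingCat.of Γ(X, ⊤))) := ⟨X.toSpecΓ⟩
  obtain ⟨e⟩ := aux Γ(X, ⊤) hA B p
  exact ⟨e.trans (((Sheaf.functorH _ p).mapIso ((SheafOfModules.toSheaf X.ringCatSheaf).mapIso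
    ((Groth.Agent.AmpleVan.sheafHomIso A).app B).symm))).addCommGroupIsoToAddEquiv⟩

end Groth.Agent.S12483
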