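import Groth.Statements.S1250
-- import your own Groth.Agent.* helpers here
import Groth.Agent.H4RG.ElemDev

set_option backward.isDefEq.respectTransparency.types false

set_option autoImplicit false
universe u
open FlatMor

namespace Groth.Agent.S1250

open TensorProduct

/-- Given an elementary dévissage E of N at q over p in dimension n, the following are equivalent: N_q
is flat over R; G_z is flat over R'; G_y (G viewed as a D-module) is flat over R'. Also equivalent
to each other: N becomes flat over R on some basic open D(g) ∋ q of Spec S; G becomes flat over R'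
on some basic open of Spec C containing z; G as a D-module becomes flat over R' on some basic open
of Spec D containing y. -/
theorem result {R S : Type u} [CommRing R] [CommRing S] [Algebra R S] [Algebra.FiniteType R S]
    (N : Type u) [AddCommGroup N] [Module S N] [Module R N] [IsScalarTower R S N] [Module.Finite S N]
    (p : Ideal R) [p.IsPrime] (q : Ideal S) [q.IsPrime] [q.LiesOver p] (n : ℕ) (E : FlatCA.ElemDevissage R S N p q n) :
    [FlatCA.FlatAt R q N, FlatCA.FlatAt E.R' E.z E.G, FlatCA.FlatAt E.R' E.y E.G].TFAE ∧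
    [∃ g : S, g ∉ q ∧ Module.Flat R (LocalizedModule (Submonoid.powers g) N),
     ∃ g : E.C, g ∉ E.z ∧ Module.Flat E.R' (LocalizedModule (Submonoid.powers g) E.G),
     ∃ g : E.D, g ∉ E.y ∧ Module.Flat E.R' (LocalizedModule (Submonoid.powers g) E.G)].TFAE := by
  haveI : Algebra.Etale R E.R' := E.etaleR.1
  haveI : Algebra.Etale S E.S' := E.etaleS.1
  haveI : Module.Flat S E.S' := inferInstance
  haveI := E.finiteDC
  haveI : Algebra.IsIntegral E.D E.C := Algebra.IsIntegral.of_finite E.D E.C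
  let e : E.S' ⊗[S] N ≃ₗ[E.S'] E.G := E.isBaseChange.equiv.trans E.iso
  have hzq : E.z.comap (algebraMap E.S' E.C) = E.q' := (Ideal.LiesOver.over (p := E.q') (P := E.z)).symm
  have hzy : E.z.comap (algebraMap E.D E.C) = E.y := (Ideal.LiesOver.over (p := E.y) (P := E.z)).symm
  have hqq : E.q'.comap (algebraMap S E.S') = q := by
    haveI := E.etaleS.2.choose
    exact (Ideal.LiesOver.over (p := q) (P := E.q')).symm
  have hSC : ∀ (Q' : Ideal E.S') [Q'.IsPrime], FlatCA.FlatAt R (Q'.comap (algebraMap S E.S')) N ↔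
      ∀ (Z : Ideal E.C) [Z.IsPrime], Z.comap (algebraMap E.S' E.C) = Q' → FlatCA.FlatAt E.R' Z E.G :=
    fun Q' _ => Groth.Agent.H4RG.flatAt_iff_forall_over_etale e E.surjC Q'
  have hDC : ∀ (Y : Ideal E.D) [Y.IsPrime], FlatCA.FlatAt E.R' Y E.G ↔
      ∀ (Z : Ideal E.C) [Z.IsPrime], Z.comap (algebraMap E.D E.C) = Y → FlatCA.FlatAt E.R' Z E.G :=
    fun Y _ => Groth.Agent.H4RG.flatAt_iff_forall_over (R := E.R') (T := E.D) (C := E.C) Y
  refine ⟨?_, ?_⟩
  · tfae_have 1 ↔ 2 := by
      refine ⟨fun h => (hSC E.q').1 (Groth.Agent.H4RG.flatAt_congr hqq.symm h) E.z hzq, fun h => ?_⟩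
      refine Groth.Agent.H4RG.flatAt_congr hqq ((hSC E.q').2 fun Z _ hZ => ?_)
      exact Groth.Agent.H4RG.flatAt_congr (Ideal.comap_injective_of_surjective _ E.surjC (hzq.trans hZ.symm)) h
    tfae_have 2 ↔ 3 := by
      refine ⟨fun h => (hDC E.y).2 fun Z _ hZ => ?_, fun h => (hDC E.y).1 h E.z hzy⟩
      exact Groth.Agent.H4RG.flatAt_congr (E.uniq Z ⟨hZ.symm⟩).symm h
    tfae_finish
  · have key := Groth.Agent.H4RG.nhd_tfae E.surjC (fun Q => FlatCA.FlatAt R Q.asIdeal N)
      (fun Z => FlatCA.FlatAt E.R' Z.asIdeal E.G) (fun Y => FlatCA.FlatAt E.R' Y.asIdeal E.G)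
      ⟨q, inferInstance⟩ ⟨E.q', inferInstance⟩ ⟨E.z, inferInstance⟩ ⟨E.y, inferInstance⟩
      (PrimeSpectrum.ext hqq) (PrimeSpectrum.ext hzq) (PrimeSpectrum.ext hzy)
      (fun Z hZ => PrimeSpectrum.ext (E.uniq Z.asIdeal ⟨(congrArg PrimeSpectrum.asIdeal hZ).symm⟩))
      (fun Q' => ⟨fun h Z hZ => (hSC Q'.asIdeal).1 h Z.asIdeal (congrArg PrimeSpectrum.asIdeal hZ),
        fun h => (hSC Q'.asIdeal).2 fun Z _ hZ => h ⟨Z, inferInstance⟩ (PrimeSpectrum.ext hZ)⟩)
      (fun Y => ⟨fun h Z hZ => (hDC Y.asIdeal).1 h Z.asIdeal (congrArg PrimeSpectrum.asIdeal hZ),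
        fun h => (hDC Y.asIdeal).2 fun Z _ hZ => h ⟨Z, inferInstance⟩ (PrimeSpectrum.ext hZ)⟩)
    have conv : ∀ {R₀ T M : Type u} [CommRing R₀] [CommRing T] [Algebra R₀ T] [AddCommGroup M] [Module T M]
        [Module R₀ M] [IsScalarTower R₀ T M] (P : Ideal T),
        (∃ g : T, g ∉ P ∧ Module.Flat R₀ (LocalizedModule (Submonoid.powers g) M)) ↔
          ∃ g : T, g ∉ P ∧ ∀ Q : PrimeSpectrum T, g ∉ Q.asIdeal → FlatCA.FlatAt R₀ Q.asIdeal M :=
      fun P => exists_congr fun g => and_congr_right fun _ => (Groth.Agent.H4RG.flat_away_iff g).trans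
        ⟨fun h Q => h Q.asIdeal, fun h Q _ => h ⟨Q, inferInstance⟩⟩
    rw [conv q, conv E.z, conv E.y]
    exact key

end Groth.Agent.S1250
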