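import Groth.Statements.S1251
-- import your own Groth.Agent.* helpers here
import Groth.Agent.H4RG.ElemDevFP

set_option backward.isDefEq.respectTransparency.types false

set_option autoImplicit false
universe u
open FlatMor

namespace Groth.Agent.S1251

open TensorProduct

/-- Given an elementary dévissage E of N at q over p in dimension n, with S of finite presentation over
R: the finite map D → C is of finite presentation; the following are equivalent: N_q is a finitely
presented S_q-module; G_z is a finitely presented C_z-module; G_y is a finitely presented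
D_y-module. Also equivalent to each other: N is finitely presented on some basic open of Spec S
containing q; G is finitely presented on some basic open of Spec C containing z; G as a D-module is
finitely presented on some basic open of Spec D containing y. -/
theorem result {R S : Type u} [CommRing R] [CommRing S] [Algebra R S] [Algebra.FinitePresentation R S]
    (N : Type u) [AddCommGroup N] [Module S N] [Module R N] [IsScalarTower R S N] [Module.Finite S N]
    (p : Ideal R) [p.IsPrime] (q : Ideal S) [q.IsPrime] [q.LiesOver p] (n : ℕ) (E : FlatCA.ElemDevissage R S N p q n) :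
    Algebra.FinitePresentation E.D E.C ∧
    [Module.FinitePresentation (Localization.AtPrime q) (LocalizedModule q.primeCompl N),
     Module.FinitePresentation (Localization.AtPrime E.z) (LocalizedModule E.z.primeCompl E.G),
     Module.FinitePresentation (Localization.AtPrime E.y) (LocalizedModule E.y.primeCompl E.G)].TFAE ∧
    [∃ g : S, g ∉ q ∧ Module.FinitePresentation (Localization.Away g) (LocalizedModule (Submonoid.powers g) N),
     ∃ g : E.C, g ∉ E.z ∧ Module.FinitePresentation (Localization.Away g) (LocalizedModule (Submonoid.powers g) E.G),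
     ∃ g : E.D, g ∉ E.y ∧ Module.FinitePresentation (Localization.Away g) (LocalizedModule (Submonoid.powers g) E.G)].TFAE := by
  classical
  haveI : Algebra.Etale R E.R' := E.etaleR.1
  haveI : Algebra.Etale S E.S' := E.etaleS.1
  haveI : Module.Flat S E.S' := inferInstance
  haveI := E.finiteDC
  haveI := E.fpC
  haveI : Algebra.FinitePresentation R E.S' := Algebra.FinitePresentation.trans R S E.S'
  haveI : Algebra.FinitePresentation E.R' E.S' :=
    Algebra.FinitePresentation.of_restrict_scalars_finitePresentation R E.R' E.S'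
  haveI : Algebra.FinitePresentation E.R' E.C := Algebra.FinitePresentation.trans E.R' E.S' E.C
  haveI : Algebra.FinitePresentation E.R' E.D := by
    have hs : AlgebraicGeometry.Smooth (AlgebraicGeometry.Spec.map (CommRingCat.ofHom (algebraMap E.R' E.D))) :=
      @AlgebraicGeometry.SmoothOfRelativeDimension.smooth n _ _ _ E.smooth
    have h2 : (algebraMap E.R' E.D).Smooth :=
      (AlgebraicGeometry.HasRingHomProperty.Spec_iff (P := @AlgebraicGeometry.Smooth)).1 hs
    have h3 : (algebraMap E.R' E.D).FinitePresentation := h2.finitePresentation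
    exact RingHom.finitePresentation_algebraMap.1 h3
  haveI hfpDC : Algebra.FinitePresentation E.D E.C :=
    Algebra.FinitePresentation.of_restrict_scalars_finitePresentation E.R' E.D E.C
  haveI hDC : Module.FinitePresentation E.D E.C := Module.FinitePresentation.of_finite_of_finitePresentation _ _
  haveI : Module.Finite E.S' E.C := Module.Finite.of_surjective (Algebra.linearMap E.S' E.C) E.surjC
  haveI hSC : Module.FinitePresentation E.S' E.C := Module.FinitePresentation.of_finite_of_finitePresentation _ _
  haveI : Algebra.IsIntegral E.S' E.C := Algebra.IsIntegral.of_finite E.S' E.C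
  haveI : Algebra.IsIntegral E.D E.C := Algebra.IsIntegral.of_finite E.D E.C
  have hzq : E.z.comap (algebraMap E.S' E.C) = E.q' := (Ideal.LiesOver.over (p := E.q') (P := E.z)).symm
  have hzy : E.z.comap (algebraMap E.D E.C) = E.y := (Ideal.LiesOver.over (p := E.y) (P := E.z)).symm
  have hqq : E.q'.comap (algebraMap S E.S') = q := by
    haveI := E.etaleS.2.choose
    exact (Ideal.LiesOver.over (p := q) (P := E.q')).symm
  let e : E.S' ⊗[S] N ≃ₗ[E.S'] E.G := E.isBaseChange.equiv.trans E.iso
  have hcongr : ∀ (W : Submonoid E.S'),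
      Module.FinitePresentation (Localization W) (LocalizedModule W (E.S' ⊗[S] N)) ↔
        Module.FinitePresentation (Localization W) (LocalizedModule W E.G) := fun W => by
    haveI := IsLocalizedModule.of_linearEquiv_right W (LocalizedModule.mkLinearMap W E.G) e
    let eW := (IsLocalizedModule.linearEquiv W (LocalizedModule.mkLinearMap W (E.S' ⊗[S] N))
      ((LocalizedModule.mkLinearMap W E.G) ∘ₗ e.toLinearMap)).extendScalarsOfIsLocalization W (Localization W)
    exact LinearEquiv.finitePresentation_iff (R := Localization W) (M := LocalizedModule W (E.S' ⊗[S] N))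
      (N := LocalizedModule W E.G) eW
  refine ⟨hfpDC, ?_, ?_⟩
  · tfae_have 1 → 2 := fun h => by
      obtain ⟨alg, -, -, ⟨eq⟩⟩ := Groth.Agent.H4RG.baseChange_aux q E.q' hqq N
      letI := alg
      haveI := h
      exact Groth.Agent.H4RG.fp_of_fp_finite E.q' E.z hzq
        (Groth.Agent.H4RG.exists_dvd_of_unique E.q' E.z fun Z hZ hZq =>
          Ideal.comap_injective_of_surjective _ E.surjC (hZq.trans hzq.symm))
        ((hcongr E.q'.primeCompl).1 ((LinearEquiv.finitePresentation_iff (R := Localization.AtPrime E.q')
          (N := LocalizedModule E.q'.primeCompl (E.S' ⊗[S] N)) eq).1 inferInstance))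
    tfae_have 2 → 1 := fun h =>
      Groth.Agent.H4RG.fp_of_baseChange q E.q' hqq N ((hcongr E.q'.primeCompl).2
        (Groth.Agent.H4RG.fp_of_fp_fp E.q' E.z hzq
          (Groth.Agent.H4RG.exists_dvd_of_unique E.q' E.z fun Z hZ hZq =>
            Ideal.comap_injective_of_surjective _ E.surjC (hZq.trans hzq.symm)) h))
    have hdiv := Groth.Agent.H4RG.exists_dvd_of_unique E.y E.z fun Z hZ hZy =>
      @FlatCA.ElemDevissage.uniq _ _ _ _ _ _ _ _ _ _ _ _ _ E Z hZ ⟨hZy.symm⟩
    tfae_have 2 → 3 := fun h => Groth.Agent.H4RG.fp_of_fp_fp E.y E.z hzy hdiv h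
    tfae_have 3 → 2 := fun h => Groth.Agent.H4RG.fp_of_fp_finite E.y E.z hzy hdiv h
    tfae_finish
  · tfae_have 1 → 2 := fun ⟨g, hg, h⟩ => by
      refine ⟨algebraMap E.S' E.C (algebraMap S E.S' g), fun hm => hg ?_,
        (Groth.Agent.H4RG.fp_away_restrict (algebraMap S E.S' g)).1
          ((hcongr _).1 (Groth.Agent.H4RG.fp_away_baseChange g h))⟩
      rw [← hqq, ← hzq]
      exact hm
    tfae_have 2 → 3 := fun ⟨g, hg, h⟩ => by
      obtain ⟨u, hu, c, hc⟩ : ∃ u ∉ E.y, ∃ c, g * c = algebraMap E.D E.C u :=
        Groth.Agent.H4RG.exists_dvd_of_unique E.y E.z (fun Z hZ hZy =>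
          @FlatCA.ElemDevissage.uniq _ _ _ _ _ _ _ _ _ _ _ _ _ E Z hZ ⟨hZy.symm⟩) g hg
      refine ⟨u, hu, (Groth.Agent.H4RG.fp_away_restrict u).2 hDC ?_⟩
      rw [← hc]
      exact Groth.Agent.H4RG.fp_away_mul g c h
    tfae_have 3 → 2 := fun ⟨d, hd, h⟩ =>
      ⟨algebraMap E.D E.C d, fun hm => hd (hzy ▸ hm), (Groth.Agent.H4RG.fp_away_restrict d).1 h⟩
    tfae_have 2 → 1 := fun ⟨g, hg, h⟩ => by
      obtain ⟨g', rfl⟩ := E.surjC g
      have hopen := PrimeSpectrum.isOpenMap_comap_of_hasGoingDown_of_finitePresentation (R := S) (S := E.S') _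
        (PrimeSpectrum.isOpen_basicOpen (a := g'))
      obtain ⟨_, ⟨f, rfl⟩, hf, hsub⟩ := PrimeSpectrum.isTopologicalBasis_basic_opens.exists_subset_of_mem_open
        (show (⟨q, inferInstance⟩ : PrimeSpectrum S) ∈
            PrimeSpectrum.comap (algebraMap S E.S') '' (PrimeSpectrum.basicOpen g' : Set _) from
          ⟨⟨E.q', inferInstance⟩, fun hm => hg (show g' ∈ E.z.comap (algebraMap E.S' E.C) from hzq.symm ▸ hm),
            PrimeSpectrum.ext hqq⟩) hopen
      exact ⟨f, hf, Groth.Agent.H4RG.fp_away_descend g' f (fun Q hQ => hsub hQ)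
        ((hcongr _).2 ((Groth.Agent.H4RG.fp_away_restrict g').2 hSC h))⟩
    tfae_finish

end Groth.Agent.S1251
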