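import Groth.Statements.S1253
-- import your own Groth.Agent.* helpers here
import Groth.Agent.H4RG.DevissageChain
import Groth.Agent.H4RG.ElemDev
import Groth.Agent.H4RG.FlatPtsPrime

set_option backward.isDefEq.respectTransparency.types false

set_option autoImplicit false
universe u
open FlatMor

namespace Groth.Agent.S1253

open IsLocalRing in
/-- Let R be a local ring, S a finitely presented R-algebra, N a finite S-module and q a prime of S over
𝔪_R with N_q flat over R. If N/S/R admits a complete dévissage at q, then N is of finite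
presentation over S and free over R; more precisely N is R-isomorphic to the product over the steps
of the dévissage of the free modules B_i^{r_i}, with B_i and r_i the dévissage's own smooth algebras
and ranks. -/
theorem result {R S : Type u} [CommRing R] [IsLocalRing R] [CommRing S] [Algebra R S] [Algebra.FinitePresentation R S]
    (N : Type u) [AddCommGroup N] [Module S N] [Module R N] [IsScalarTower R S N] [Module.Finite S N]
    (q : Ideal S) [q.IsPrime] [q.LiesOver (maximalIdeal R)] (hflat : FlatCA.FlatAt R q N)
    (D : FlatCA.CompleteDevissage R S N (maximalIdeal R)) (hD : Nonempty (FlatCA.CompleteDevissageAt R S N (maximalIdeal R) q D)) :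
    Module.FinitePresentation S N ∧ Module.Free R N ∧
      Nonempty (N ≃ₗ[R] (∀ i : Fin D.n, Fin (D.r i) → D.B i)) := by
  classical
  obtain ⟨At⟩ := hD
  haveI := At.hqA
  haveI := At.hqB
  haveI := At.overA
  haveI := At.overB
  have hn : D.n - 1 + 1 = D.n := Nat.succ_pred_eq_of_pos D.pos
  have hover : ∀ i, (At.qA i).comap (algebraMap (D.B i) (D.A i)) = At.qB i := fun i =>
    (Ideal.LiesOver.over (p := At.qB i) (P := At.qA i)).symm
  have hoverB : ∀ i, (At.qB i).comap (algebraMap R (D.B i)) = maximalIdeal R := fun i =>
    (Ideal.LiesOver.over (p := maximalIdeal R) (P := At.qB i)).symm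
  haveI htA : ∀ i, IsScalarTower R (D.A i) (D.M i) := Groth.Agent.H4RG.tower_A D
  have htoB : ∀ i, i < D.n → FlatCA.FlatAt R (At.qA i) (D.M i) → FlatCA.FlatAt R (At.qB i) (D.M i) := fun i hi h => by
    haveI := D.finiteBA i hi
    haveI : Algebra.IsIntegral (D.B i) (D.A i) := Algebra.IsIntegral.of_finite (D.B i) (D.A i)
    haveI := Groth.Agent.H4RG.tower_A D i
    exact (Groth.Agent.H4RG.flatAt_iff_forall_over (R := R) (T := D.B i) (C := D.A i) (At.qB i)).2 fun Z hZ hZq =>
      Groth.Agent.H4RG.flatAt_congr (At.uniq i hi Z ⟨hZq.symm⟩).symm h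
  have hstep : ∀ i, i < D.n → FlatCA.FlatAt R (At.qB i) (D.M i) →
      Function.Injective (D.α i) ∧ (i + 1 < D.n → FlatCA.FlatAt R (At.qB (i + 1)) (D.M (i + 1))) := fun i hi h => by
    haveI := D.smooth i hi
    haveI : Module.Flat R (D.B i) := Algebra.Smooth.flat R (D.B i)
    haveI := D.hp i
    haveI := Groth.Agent.H4RG.finite_step D i hi
    obtain ⟨hle, hP⟩ := Groth.Agent.H4RG.comap_generic D i (At.qB i) (hoverB i)
    have hb := Groth.Agent.H4RG.bijective_map_of_flatAt (maximalIdeal R) _ rfl (Groth.Agent.H4RG.flatAt_mono hle h)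
      (D.α i) (D.fibreIso i hi)
    have hk := Groth.Agent.H4RG.kills_bot_of_bijective
      (Groth.Agent.H4RG.geomIntegralFibres_of_smooth (D.geomIrred i hi)) _ hP (D.α i) hb
    refine ⟨fun x y hxy => ?_, fun hi' => ?_⟩
    · obtain ⟨u, hu, huv⟩ := (Groth.Agent.H4RG.injective_map_iff ⊥ (D.α i)).1 hk.injective_map (x - y)
        (by rw [map_sub, hxy, sub_self])
      rw [Submonoid.mem_bot.1 hu, one_smul, sub_eq_zero] at huv
      exact huv
    · haveI := Groth.Agent.H4RG.tower_step D i
      haveI := Groth.Agent.H4RG.tower_A D (i + 1)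
      haveI : Module.Finite (D.B i) (D.A (i + 1)) :=
        Module.Finite.of_surjective (Algebra.linearMap (D.B i) (D.A (i + 1))) (D.surjBA' i hi')
      haveI : Algebra.IsIntegral (D.B i) (D.A (i + 1)) := Algebra.IsIntegral.of_finite (D.B i) (D.A (i + 1))
      refine htoB (i + 1) hi' ?_
      exact (Groth.Agent.H4RG.flatAt_iff_forall_over (R := R) (T := D.B i) (C := D.A (i + 1)) (At.qB i)).1
        ((Groth.Agent.H4RG.flatAt_congr_equiv (D.isoCoker i hi') (At.qB i)).1
          (Groth.Agent.H4RG.flatAt_coker ⊥ (At.qB i) bot_le (D.α i) hk h)) (At.qA (i + 1)) (At.qStep i hi')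
  have hflat0 : FlatCA.FlatAt R (At.qB 0) (D.M 0) := by
    haveI := Groth.Agent.H4RG.tower_zero D
    haveI := Groth.Agent.H4RG.tower_A D 0
    haveI : Module.Finite S (D.A 0) := Module.Finite.of_surjective (Algebra.linearMap S (D.A 0)) D.surjSA
    haveI : Algebra.IsIntegral S (D.A 0) := Algebra.IsIntegral.of_finite S (D.A 0)
    exact htoB 0 D.pos ((Groth.Agent.H4RG.flatAt_iff_forall_over (R := R) (T := S) (C := D.A 0) q).1
      ((Groth.Agent.H4RG.flatAt_congr_equiv D.isoN q).1 hflat) (At.qA 0) At.q0)
  have hflatB : ∀ i, i < D.n → FlatCA.FlatAt R (At.qB i) (D.M i) := by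
    intro i
    induction i with
    | zero => exact fun _ => hflat0
    | succ i ih => exact fun hi => (hstep i (by omega) (ih (by omega))).2 hi
  have hinj : ∀ i, i < D.n → Function.Injective (D.α i) := fun i hi => (hstep i hi (hflatB i hi)).1
  have hFP : ∀ k i, i + k + 1 = D.n → Module.FinitePresentation (D.B i) (D.M i) := by
    intro k
    induction k with
    | zero =>
      intro i hi
      obtain rfl : i = D.n - 1 := by omega
      exact Module.FinitePresentation.of_equiv (LinearEquiv.ofBijective (D.α (D.n - 1)) ⟨hinj _ (by omega), D.cokerLast⟩)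
    | succ k ih =>
      intro i hi
      have hi' : i + 1 < D.n := by omega
      haveI := ih (i + 1) (by omega)
      haveI := D.finiteBA (i + 1) hi'
      haveI : Module.FinitePresentation (D.A (i + 1)) (D.M (i + 1)) :=
        Groth.Agent.H4RG.fp_of_fp_of_finite (B := D.B (i + 1))
      haveI : Module.Finite (D.B i) (D.A (i + 1)) :=
        Module.Finite.of_surjective (Algebra.linearMap (D.B i) (D.A (i + 1))) (D.surjBA' i hi')
      haveI := D.fpBA' i hi'
      haveI : Module.FinitePresentation (D.B i) (D.A (i + 1)) :=
        Module.FinitePresentation.of_finite_of_finitePresentation _ _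
      haveI : Module.FinitePresentation (D.B i) (D.M (i + 1)) :=
        Module.FinitePresentation.trans (D.B i) (D.M (i + 1)) (D.A (i + 1))
      exact Groth.Agent.H4RG.fp_of_exact (D.α i) (Groth.Agent.H4RG.next D i hi') (hinj i (by omega))
        (Groth.Agent.H4RG.next_surjective D i hi') (Groth.Agent.H4RG.next_exact D i hi')
  have hFPS : Module.FinitePresentation S N := by
    haveI := hFP (D.n - 1) 0 (by omega)
    haveI := D.finiteBA 0 D.pos
    haveI : Module.FinitePresentation (D.A 0) (D.M 0) := Groth.Agent.H4RG.fp_of_fp_of_finite (B := D.B 0)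
    haveI : Module.Finite S (D.A 0) := Module.Finite.of_surjective (Algebra.linearMap S (D.A 0)) D.surjSA
    haveI := D.fpSA
    haveI : Module.FinitePresentation S (D.A 0) := Module.FinitePresentation.of_finite_of_finitePresentation _ _
    haveI : Module.FinitePresentation S (D.M 0) := Module.FinitePresentation.trans S (D.M 0) (D.A 0)
    exact Module.FinitePresentation.of_equiv D.isoN.symm
  let b : ∀ i, D.M i →ₗ[R] D.M (i + 1) := fun i =>
    if hi : i + 1 < D.n then
      (haveI := Groth.Agent.H4RG.tower_step D i
       (Groth.Agent.H4RG.next D i hi).restrictScalars R) else 0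
  obtain ⟨hproj, ⟨e⟩⟩ := Groth.Agent.H4RG.projective_chain (R := R) (D.n - 1) (fun i => Fin (D.r i) → D.B i) D.M
    (fun i => (D.α i).restrictScalars R) b
    (fun i hi => by
      haveI := D.smooth i (by omega)
      haveI := Groth.Agent.H4RG.projective_of_smooth (D.geomIrred i (by omega))
      exact Groth.Agent.H4RG.projective_fin R (D.B i) (D.r i))
    (fun i hi => hinj i (by omega))
    (fun i hi => by
      simp only [b, dif_pos (show i + 1 < D.n by omega)]
      exact Groth.Agent.H4RG.next_exact D i (by omega))
    (fun i hi => by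
      simp only [b, dif_pos (show i + 1 < D.n by omega)]
      exact Groth.Agent.H4RG.next_surjective D i (by omega))
    D.cokerLast
  let eR := Groth.Agent.H4RG.isoR D
  haveI : Module.Projective R N := by
    haveI := hproj
    exact Module.Projective.of_equiv eR.symm
  refine ⟨hFPS, Groth.Agent.H4RG.free_of_projective_countable
    (Groth.Agent.H4RG.countablyGenerated_of_finite R (S := S) N), ⟨?_⟩⟩
  exact (eR.trans e).trans
    (LinearEquiv.piCongrLeft R (fun i : Fin D.n => Fin (D.r i) → D.B i) (finCongr hn))

end Groth.Agent.S1253
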