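import Groth.Statements.S12540
import Groth.Agent.Deform.QuotSepRight
import Groth.Agent.Deform.SpecialGrp.Basic
import Groth.Agent.ChevGen.Main

set_option autoImplicit false
universe u
open CategoryTheory MonoidalCategory CartesianMonoidalCategory MonObj GrpObj AlgebraicGeometry
open AlgGrp

namespace Groth.Agent.S12540
attribute [local instance] CategoryTheory.Hom.monoid CategoryTheory.Hom.group
set_option linter.style.haveILetI false
set_option maxHeartbeats 2000000
open Groth.Agent CategoryTheory.Limits

/-- Over an algebraically closed field k, let G be an algebraic group (a smooth k-group scheme of finite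
type), h : H → G a closed subgroup scheme, and h' : H' → H a closed subgroup scheme of H which is
reduced with the same underlying space as H (the reduced subgroup scheme H_red; it is a subgroup of
G through h' ≫ h). Let X, with its G-action and base point, be the quotient G/H, and X' the quotient
G/H' (each locally of finite type over k, with flat surjective orbit map identifying G × H with G
×_X G, respectively G × H' with G ×_{X'} G). Then X is affine if and only if X' is affine. (The
published statement adds the same equivalence with the identity component of H_red; that clause is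
not stated here.) -/
theorem result (k : Type u) [Field k] [IsAlgClosed k]
    (G : Over (Spec (CommRingCat.of k))) [GrpObj G] [Smooth G.hom] [QuasiCompact G.hom]
    (H : Over (Spec (CommRingCat.of k))) [GrpObj H] (h : H ⟶ G) [IsMonHom h] [IsClosedImmersion h.left]
    (H' : Over (Spec (CommRingCat.of k))) [GrpObj H'] (h' : H' ⟶ H) [IsMonHom h'] [IsClosedImmersion h'.left]
    [Surjective h'.left] [IsReduced H'.left]
    (X : Over (Spec (CommRingCat.of k))) (a : AlgGrp.Action G X) (o : 𝟙_ (Over (Spec (CommRingCat.of k))) ⟶ X)
    (hX : AGF.IsQuotient h X a o)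
    (X' : Over (Spec (CommRingCat.of k))) (a' : AlgGrp.Action G X') (o' : 𝟙_ (Over (Spec (CommRingCat.of k))) ⟶ X')
    (hX' : AGF.IsQuotient (h' ≫ h) X' a' o') :
    IsAffine X.left ↔ IsAffine X'.left := by
  obtain ⟨hXl, hof, hos, sq⟩ := hX
  obtain ⟨hX'l, hof', hos', sq'⟩ := hX'
  haveI := hXl; haveI := hof; haveI := hos; haveI := hX'l; haveI := hof'; haveI := hos'
  haveI : IsLocallyNoetherian X.left := LocallyOfFiniteType.isLocallyNoetherian X.hom
  haveI : IsLocallyNoetherian X'.left := LocallyOfFiniteType.isLocallyNoetherian X'.hom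
  haveI : LocallyOfFiniteType ((a.orbitMap o).left ≫ X.hom) := by rw [Over.w (a.orbitMap o)]; infer_instance
  haveI : LocallyOfFiniteType (a.orbitMap o).left := locallyOfFiniteType_of_comp _ X.hom
  haveI : LocallyOfFinitePresentation (a.orbitMap o).left := inferInstance
  haveI : LocallyOfFiniteType ((a'.orbitMap o').left ≫ X'.hom) := by rw [Over.w (a'.orbitMap o')]; infer_instance
  haveI : LocallyOfFiniteType (a'.orbitMap o').left := locallyOfFiniteType_of_comp _ X'.hom
  haveI : LocallyOfFinitePresentation (a'.orbitMap o').left := inferInstance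
  haveI : IsClosedImmersion (h' ≫ h).left := inferInstanceAs (IsClosedImmersion (h'.left ≫ h.left))
  haveI : IsSeparated X.hom := Deform.QuotSepRight.isSeparated_of_isPullback h (a.orbitMap o) sq
  haveI : IsSeparated X'.hom := Deform.QuotSepRight.isSeparated_of_isPullback (h' ≫ h) (a'.orbitMap o') sq'
  haveI : QuasiCompact (a.orbitMap o).left := by
    haveI : QuasiCompact ((a.orbitMap o).left ≫ X.hom) := by rw [Over.w (a.orbitMap o)]; infer_instance
    exact QuasiCompact.of_comp _ X.hom
  haveI : QuasiCompact (a'.orbitMap o').left := by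
    haveI : QuasiCompact ((a'.orbitMap o').left ≫ X'.hom) := by rw [Over.w (a'.orbitMap o')]; infer_instance
    exact QuasiCompact.of_comp _ X'.hom
  haveI : CompactSpace G.left := QuasiCompact.compactSpace_of_compactSpace G.hom
  haveI : CompactSpace X.left := ⟨by
    rw [← (a.orbitMap o).left.surjective.range_eq]; exact isCompact_range (a.orbitMap o).left.continuous⟩
  obtain ⟨Ψ, hΨ⟩ := Deform.SpecialGrp.exists_descQC (a'.orbitMap o') (a.orbitMap o) (fun T x y e => by
    obtain ⟨w, hw1, hw2⟩ := sq'.exists_lift x y e
    have e2 := congrArg (((G ◁ h') : G ⊗ H' ⟶ G ⊗ H) ≫ ·) sq.w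
    simp only [whiskerLeft_fst_assoc, Category.assoc] at e2
    rw [← hw1, ← hw2]
    simp only [MonoidalCategory.whiskerLeft_comp, Category.assoc] at e2 ⊢
    rw [e2])
  let s : G.left ⟶ pullback (a.orbitMap o).left Ψ.left :=
    pullback.lift (𝟙 _) (a'.orbitMap o').left (by rw [Category.id_comp, ← Over.comp_left, hΨ])
  have hQs : Surjective s := by
    let Φ : pullback (a.orbitMap o).left (a.orbitMap o).left ⟶ pullback (a.orbitMap o).left Ψ.left :=
      pullback.map _ _ _ _ (𝟙 _) (a'.orbitMap o').left (𝟙 _) (by simp) (by rw [Category.comp_id, ← Over.comp_left, hΨ])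
    haveI : Surjective Φ := ⟨by
      rw [← Set.range_eq_univ, Scheme.Pullback.range_map]
      simp [(a'.orbitMap o').left.surjective.range_eq]⟩
    have sqm : IsPullback (fst G H).left ((G ◁ h) ≫ μ[G]).left (a.orbitMap o).left (a.orbitMap o).left :=
      sq.map (Over.forget _)
    let e := sqm.isoPullback
    haveI : Surjective (G ◁ h').left := ⟨by
      rw [← Set.range_eq_univ, show (G ◁ h').left = pullback.map G.hom H'.hom G.hom H.hom (𝟙 _) h'.left (𝟙 _)
        (by simp) (by rw [Category.comp_id, Over.w h']) from by
          apply pullback.hom_ext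
          · rw [pullback.lift_fst, Category.comp_id]
            exact congrArg (fun m => Over.Hom.left m) (whiskerLeft_fst G h')
          · rw [pullback.lift_snd]
            exact congrArg (fun m => Over.Hom.left m) (whiskerLeft_snd G h'), Scheme.Pullback.range_map]
      simp [h'.left.surjective.range_eq]⟩
    haveI : Surjective ((G ◁ h').left ≫ e.hom ≫ Φ) :=
      MorphismProperty.comp_mem _ _ _ ‹Surjective (G ◁ h').left›
        (MorphismProperty.comp_mem _ _ _ inferInstance ‹Surjective Φ›)
    have hfac : (G ◁ h').left ≫ e.hom ≫ Φ = (fst G H').left ≫ s := by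
      have e1 : (G ◁ h').left ≫ (fst G H).left = (fst G H').left := by rw [← Over.comp_left, whiskerLeft_fst]
      have e2 : (G ◁ h').left ≫ ((G ◁ h) ≫ μ[G]).left ≫ (a'.orbitMap o').left =
          (fst G H').left ≫ (a'.orbitMap o').left := by
        rw [← Over.comp_left, ← Over.comp_left, ← Over.comp_left, sq'.w]
        congr 1
        rw [MonoidalCategory.whiskerLeft_comp]; simp only [Category.assoc]
      apply pullback.hom_ext
      · simp only [Φ, s, Category.assoc, pullback.lift_fst, Category.comp_id]
        rw [sqm.isoPullback_hom_fst]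
        exact e1
      · simp only [Φ, s, Category.assoc, pullback.lift_snd]
        rw [← Category.assoc e.hom, sqm.isoPullback_hom_snd]
        exact e2
    haveI : Surjective ((fst G H').left ≫ s) := by rw [← hfac]; infer_instance
    exact Surjective.of_comp (fst G H').left s
  haveI := hQs
  haveI : UniversallyClosed (pullback.fst (a.orbitMap o).left Ψ.left) := by
    haveI : UniversallyClosed (s ≫ pullback.fst (a.orbitMap o).left Ψ.left) := by
      rw [pullback.lift_fst]; infer_instance
    exact UniversallyClosed.of_comp_surjective s _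
  haveI : UniversallyClosed Ψ.left :=
    MorphismProperty.of_pullback_fst_of_descendsAlong (Q := @Surjective ⊓ @Flat ⊓ @QuasiCompact)
      ⟨⟨‹Surjective (a.orbitMap o).left›, ‹Flat (a.orbitMap o).left›⟩, ‹QuasiCompact (a.orbitMap o).left›⟩ ‹_›
  haveI : IsSeparated (Ψ.left ≫ X.hom) := by rw [Over.w Ψ]; infer_instance
  haveI : IsSeparated Ψ.left := IsSeparated.of_comp Ψ.left X.hom
  haveI : LocallyOfFiniteType (Ψ.left ≫ X.hom) := by rw [Over.w Ψ]; infer_instance
  haveI : LocallyOfFiniteType Ψ.left := locallyOfFiniteType_of_comp Ψ.left X.hom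
  haveI : IsProper Ψ.left := IsProper.mk
  have hinj : Function.Injective Ψ.left := by
    intro x y e
    obtain ⟨g, hg⟩ := (a.orbitMap o).left.surjective (Ψ.left x)
    obtain ⟨p, hp1, hp2⟩ := Scheme.Pullback.exists_preimage_pullback g x hg
    obtain ⟨q, hq1, hq2⟩ := Scheme.Pullback.exists_preimage_pullback g y (hg.trans e)
    obtain ⟨p', rfl⟩ := s.surjective p
    obtain ⟨q', rfl⟩ := s.surjective q
    have hs : ∀ z, (pullback.fst (a.orbitMap o).left Ψ.left) (s z) = z := fun z => by
      rw [← Scheme.Hom.comp_apply, pullback.lift_fst]; rfl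
    rw [hs] at hp1 hq1
    subst hp1; subst hq1
    rw [← hp2, ← hq2]
  haveI : LocallyQuasiFinite Ψ.left := LocallyQuasiFinite.of_finite_preimage_singleton _ fun x =>
    (Set.subsingleton_singleton.preimage hinj).finite
  haveI : IsFinite Ψ.left := IsFinite.of_isProper_of_locallyQuasiFinite Ψ.left
  haveI : Surjective Ψ.left := by
    haveI : Surjective ((a'.orbitMap o').left ≫ Ψ.left) := by rw [← Over.comp_left, hΨ]; infer_instance
    exact Surjective.of_comp (a'.orbitMap o').left Ψ.left
  constructor
  · intro hA
    exact isAffine_of_isAffineHom Ψ.left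
  · intro hA
    haveI : X.left.IsSeparated := ⟨by
      rw [Subsingleton.elim (terminal.from X.left) (X.hom ≫ terminal.from _)]
      infer_instance⟩
    exact ChevGen.isAffine_of_finite_surjective Ψ.left

end Groth.Agent.S12540
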