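import Groth.Statements.S1257
-- import your own Groth.Agent.* helpers here
import Groth.Agent.H4RG.FreeProd

set_option backward.isDefEq.respectTransparency.types false

set_option autoImplicit false
universe u
open FlatMor

namespace Groth.Agent.S1257

open TensorProduct in
/-- Ring form, X = Spec S and S = Spec R affine: let S be a finite type R-algebra, N a finite S-module
and q a prime of S over p with N_q flat over R. Then there is an étale R-algebra R' with a prime p'
over p having the same residue field such that, writing A for the local ring of R' at p' and S_A,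
N_A for the base changes (any models): there is an étale S_A-algebra C with a prime over q whose
residue field equals that of q, such that C ⊗ N_A is a free A-module. -/
theorem result {R S : Type u} [CommRing R] [CommRing S] [Algebra R S] [Algebra.FiniteType R S]
    (N : Type u) [AddCommGroup N] [Module S N] [Module R N] [IsScalarTower R S N] [Module.Finite S N]
    (p : Ideal R) [p.IsPrime] (q : Ideal S) [q.IsPrime] [q.LiesOver p] (hflat : FlatCA.FlatAt R q N) :
    ∃ (R' : Type u) (_ : CommRing R') (_ : Algebra R R') (p' : Ideal R') (_ : p'.IsPrime), FlatCA.IsEtaleNhd R R' p p' ∧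
      ∀ (SA NA : Type u) [CommRing SA] [Algebra R SA] [Algebra S SA] [Algebra (Localization.AtPrime p') SA]
        [IsScalarTower R S SA] [IsScalarTower R (Localization.AtPrime p') SA]
        [Algebra.IsPushout R S (Localization.AtPrime p') SA]
        [AddCommGroup NA] [Module SA NA] [Module S NA] [IsScalarTower S SA NA]
        (f : N →ₗ[S] NA), IsBaseChange SA f →
        ∃ (C : Type u) (_ : CommRing C) (_ : Algebra SA C) (_ : Algebra (Localization.AtPrime p') C)
          (_ : IsScalarTower (Localization.AtPrime p') SA C) (_ : Algebra S C) (_ : IsScalarTower S SA C)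
          (x' : Ideal C) (_ : x'.IsPrime) (hx : x'.LiesOver q),
          Algebra.Etale SA C ∧ Function.Bijective (Ideal.ResidueField.mapₐ q x' (Algebra.ofId S C) hx.over) ∧
          Module.Free (Localization.AtPrime p') (RestrictScalars (Localization.AtPrime p') C (C ⊗[SA] NA)) := by
  obtain ⟨R', _, _, _, ε, P, _, hP, hmain⟩ := H4RG.exists_free_point N p q hflat
  refine ⟨R', inferInstance, inferInstance, P, inferInstance, H4RG.isEtaleNhd_of_point p ε P hP, ?_⟩
  intro SA NA _ _ _ _ _ _ _ _ _ _ _ f hf
  let A := Localization.AtPrime P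
  obtain ⟨τ, -, hτ2⟩ := H4RG.exists_localPoint ε P hP
  let m : p.ResidueField →ₐ[R] q.ResidueField := Ideal.ResidueField.mapₐ p q (Algebra.ofId R S) (q.over_def p)
  obtain ⟨φ, hφ⟩ := H4RG.exists_pushout_point (R := R) (S := S) (A := A) (SA := SA) (L := q.ResidueField) (m.comp τ)
  obtain ⟨g, hg, hfree, -⟩ := hmain SA
  haveI : (RingHom.ker φ).IsPrime := RingHom.ker_isPrime _
  have hQS : (RingHom.ker φ).LiesOver q := ⟨by
    ext s
    rw [Ideal.under_def, Ideal.mem_comap, RingHom.mem_ker, φ.commutes, Ideal.algebraMap_residueField_eq_zero]⟩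
  have hQA : (RingHom.ker φ).LiesOver (IsLocalRing.maximalIdeal A) := ⟨by
    ext a
    rw [Ideal.under_def, Ideal.mem_comap, RingHom.mem_ker, hφ, ← hτ2]
    exact (map_eq_zero m.toRingHom).symm⟩
  have hφg : φ g ≠ 0 := fun h => hg _ hQS hQA (RingHom.mem_ker.2 h)
  let C := Localization.Away g
  let φC : C →ₐ[S] q.ResidueField :=
    IsLocalization.Away.liftAlgHom g (f := φ) (isUnit_iff_ne_zero.2 hφg)
  let x' : Ideal C := RingHom.ker φC
  haveI : x'.IsPrime := RingHom.ker_isPrime _
  have hx : x'.LiesOver q := ⟨by
    ext s
    rw [Ideal.under_def, Ideal.mem_comap, RingHom.mem_ker, φC.commutes, Ideal.algebraMap_residueField_eq_zero]⟩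
  haveI := hfree
  let e2 : C ⊗[SA] NA ≃ₗ[C] C ⊗[S] N :=
    (TensorProduct.AlgebraTensorModule.congr (LinearEquiv.refl C C) hf.equiv.symm).trans
      (TensorProduct.AlgebraTensorModule.cancelBaseChange S SA C C N)
  haveI : Module.Free A (C ⊗[SA] NA) := Module.Free.of_equiv (e2.restrictScalars A).symm
  exact ⟨C, inferInstance, inferInstance, inferInstance, inferInstance, inferInstance, inferInstance, x', inferInstance,
    hx, Algebra.Etale.of_isLocalizationAway g, H4RG.bijective_residue_of_point q φC x' rfl, H4RG.free_restrictScalars⟩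

end Groth.Agent.S1257
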