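import Groth.Statements.S12627
import Groth.Agent.ECEtale.Tangent
-- import your own Groth.Agent.* helpers here

set_option autoImplicit false
universe u
open CategoryTheory CategoryTheory.Limits MonoidalCategory CartesianMonoidalCategory MonObj GrpObj AlgebraicGeometry
open AbVar

namespace Groth.Agent.S12627

/-- Let `k` be an algebraically closed field and `E₁`, `E₂` elliptic curves over `k`, i.e. group schemes
over `Spec k` whose underlying schemes are proper, smooth, integral and one-dimensional. If `φ, φ' :
E₁ → E₂` are homomorphisms with `φ` finite, surjective and étale (a separable isogeny) and `φ'` not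
étale (the zero homomorphism or an inseparable isogeny), then their sum under the group law of `E₂`
— the composite of `(φ, φ')` with the multiplication of `E₂` — is finite, surjective and étale, i.e.
again a separable isogeny. (The published statement is for arbitrary morphisms `φ, φ'` and takes
`φ'` inseparable; this row takes homomorphisms, the case its proof treats — a morphism of elliptic
curves is a homomorphism followed by a translation, which changes neither the hypotheses nor the
conclusion — and allows `φ'` to be the zero map, that case being immediate.) -/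
theorem result (k : Type u) [Field k] [IsAlgClosed k]
    (E₁ E₂ : Over (Spec (CommRingCat.of k)))
    [GrpObj E₁] [IsProper E₁.hom] [Smooth E₁.hom] [IsIntegral E₁.left] (hE₁ : topologicalKrullDim E₁.left = 1)
    [GrpObj E₂] [IsProper E₂.hom] [Smooth E₂.hom] [IsIntegral E₂.left] (hE₂ : topologicalKrullDim E₂.left = 1)
    (φ φ' : E₁ ⟶ E₂) [IsMonHom φ] [IsMonHom φ'] [IsFinite φ.left] [Surjective φ.left] [Etale φ.left]
    (hφ' : ¬ Etale φ'.left) :
    IsFinite (φ * φ').left ∧ Surjective (φ * φ').left ∧ Etale (φ * φ').left := by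
  haveI : GeometricallyIntegral E₁.hom := Groth.Agent.H23.EquidimFibres.geometricallyIntegral_of_isAlgClosed
  haveI : GeometricallyIntegral E₂.hom := Groth.Agent.H23.EquidimFibres.geometricallyIntegral_of_isAlgClosed
  haveI : IsCommMonObj E₁ := isCommMonObj_of_isProper_of_geometricallyIntegral E₁
  haveI : IsCommMonObj E₂ := isCommMonObj_of_isProper_of_geometricallyIntegral E₂
  obtain ⟨t, -, ha, hb⟩ := Groth.Agent.ECEtale.exists_tangent (E := E₁) (E' := E₂) hE₁ hE₂
  have h1 : t ≫ φ ≠ 1 := hb φ ‹_›
  have h2 : t ≫ φ' = 1 := by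
    by_contra h
    exact hφ' (ha φ' h).2.2
  haveI : IsMonHom (φ * φ') := by
    constructor
    · rw [MonObj.comp_mul, IsMonHom.one_hom, IsMonHom.one_hom]
      have e1 : η[E₂] = (1 : 𝟙_ _ ⟶ E₂) := by
        rw [Hom.one_def, toUnit_unique (toUnit _) (𝟙 _), Category.id_comp]
      rw [e1, _root_.mul_one]
    · have hm : μ[E₁] = fst E₁ E₁ * snd E₁ E₁ := by rw [Hom.mul_def, lift_fst_snd, Category.id_comp]
      have hh : ∀ f : E₁ ⟶ E₂, IsMonHom f → (fst E₁ E₁ * snd E₁ E₁) ≫ f = (fst E₁ E₁ ≫ f) * (snd E₁ E₁ ≫ f) :=
        fun f hf => @MonObj.mul_comp _ _ _ _ _ _ _ _ (fst E₁ E₁) (snd E₁ E₁) f hf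
      rw [MonObj.comp_mul, hm, hh φ ‹_›, hh φ' ‹_›, _root_.mul_mul_mul_comm, ← MonObj.comp_mul, ← MonObj.comp_mul,
        Hom.mul_def (fst E₁ E₁ ≫ _), lift_fst_comp_snd_comp]
  refine ha (φ * φ') ?_
  rw [MonObj.comp_mul, h2, _root_.mul_one]
  exact h1


end Groth.Agent.S12627
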