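import Groth.Statements.S1263
import Groth.Agent.H4RG.LocalModels
-- import your own Groth.Agent.* helpers here

set_option autoImplicit false
set_option backward.isDefEq.respectTransparency.types false
set_option linter.style.haveILetI false
universe u
open FlatMor
open scoped TensorProduct
attribute [local instance] Algebra.TensorProduct.rightAlgebra

namespace Groth.Agent.S1263

/-- Ring form, X = Spec S and S = Spec R affine: let S be a finite type R-algebra and q a prime of S
over p with S_q flat over R. Then there is an étale R-algebra R' with a prime p' over p having the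
same residue field such that, writing A for the local ring of R' at p' and S_A for the base change
(any model): some g ∈ S_A outside every prime over both q and the maximal ideal of A has (S_A)_g
flat and of finite presentation over A. -/
theorem result {R S : Type u} [CommRing R] [CommRing S] [Algebra R S] [Algebra.FiniteType R S]
    (p : Ideal R) [p.IsPrime] (q : Ideal S) [q.IsPrime] [q.LiesOver p] (hflat : Module.Flat R (Localization.AtPrime q)) :
    ∃ (R' : Type u) (_ : CommRing R') (_ : Algebra R R') (p' : Ideal R') (_ : p'.IsPrime), FlatCA.IsEtaleNhd R R' p p' ∧
      ∀ (SA : Type u) [CommRing SA] [Algebra R SA] [Algebra S SA] [Algebra (Localization.AtPrime p') SA]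
        [IsScalarTower R S SA] [IsScalarTower R (Localization.AtPrime p') SA]
        [Algebra.IsPushout R S (Localization.AtPrime p') SA],
        ∃ g : SA, (∀ (Q : Ideal SA) [Q.IsPrime], Q.LiesOver q → Q.LiesOver (IsLocalRing.maximalIdeal (Localization.AtPrime p')) → g ∉ Q) ∧
          Module.Flat (Localization.AtPrime p') (Localization.Away g) ∧
          Algebra.FinitePresentation (Localization.AtPrime p') (Localization.Away g) := by
  have hS : FlatCA.FlatAt R q S := Module.Flat.of_linearEquiv
    ((IsLocalizedModule.iso q.primeCompl (Algebra.linearMap S (Localization.AtPrime q))).restrictScalars R)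
  obtain ⟨R', _, _, p', _, het, hmain⟩ := H4RG.exists_free_nhd_local' S p q hS
  refine ⟨R', inferInstance, inferInstance, p', inferInstance, het, ?_⟩
  intro SA _ _ _ _ _ _ _
  let A := Localization.AtPrime p'
  have hf : IsBaseChange SA (Algebra.linearMap S SA) :=
    IsBaseChange.of_equiv (TensorProduct.AlgebraTensorModule.rid S SA SA) fun x => by
      simp [Algebra.smul_def]
  obtain ⟨g, hg, hfree, SP, _, _, _, _, _, _, g', hg', hsurj, _, hfp⟩ := hmain SA SA (Algebra.linearMap S SA) hf
  refine ⟨g, hg, ?_, ?_⟩
  · exact Module.Flat.of_linearEquiv ((IsLocalizedModule.iso (Submonoid.powers g)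
      (Algebra.linearMap SA (Localization.Away g))).restrictScalars A).symm
  · let Cg := Localization.Away g
    let C' := Localization.Away g'
    haveI : Algebra.FinitePresentation A C' := Algebra.FinitePresentation.trans A SP C'
    let ψ : C' →+* Cg := IsLocalization.Away.lift g' (g := (algebraMap SA Cg).comp (algebraMap SP SA)) (by
      rw [RingHom.comp_apply, hg']
      exact IsLocalization.Away.algebraMap_isUnit g)
    letI : Algebra C' Cg := ψ.toAlgebra
    haveI : IsScalarTower SP C' Cg := IsScalarTower.of_algebraMap_eq fun x => (IsLocalization.lift_eq _ x).symm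
    haveI : IsScalarTower A C' Cg := IsScalarTower.of_algebraMap_eq fun a => by
      rw [IsScalarTower.algebraMap_apply A SP C', ← IsScalarTower.algebraMap_apply SP C' Cg,
        IsScalarTower.algebraMap_apply SP SA Cg, ← IsScalarTower.algebraMap_apply A SP SA,
        ← IsScalarTower.algebraMap_apply A SA Cg]
    haveI := H4RG.isLocalizedModule_powers_image (S := SA) (M := SA) g'
    subst hg'
    let e1 := IsLocalizedModule.linearEquiv (Submonoid.powers g')
      (LocalizedModule.mkLinearMap (Submonoid.powers g') SA)
      ((LocalizedModule.mkLinearMap (Submonoid.powers (algebraMap SP SA g')) SA).restrictScalars SP)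
    let e2 := (IsLocalizedModule.iso (Submonoid.powers (algebraMap SP SA g')) (Algebra.linearMap SA Cg)).restrictScalars SP
    let e := (e1.trans e2).extendScalarsOfIsLocalization (Submonoid.powers g') C'
    haveI : Module.FinitePresentation C' Cg := Module.FinitePresentation.of_equiv (R := C') e
    exact Algebra.FinitePresentation.trans A C' Cg

end Groth.Agent.S1263
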