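import Groth.Statements.S12659
import Groth.Agent.H9PB.ChernOps
import Groth.Agent.H9PB.GrassFrame

set_option autoImplicit false
universe u
open CategoryTheory CategoryTheory.Limits AlgebraicGeometry
open Cyc

namespace Groth.Agent.S12659

/-- Chern class caps commute with proper pushforward: for f : X → Y proper, E finite locally free of
rank r on Y and α a k-cycle on X, f_*(c_j(f^*E) ∩ α) = c_j(E) ∩ f_*α in CH_{k-j}(Y). The caps of
f^*E are taken through the base-changed bundle P' = X ×_Y P (a cartesian square) with O_{P'}(1) the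
pullback of O_P(1) and the induced dimension function on P'; f_* is the proper pushforward of
cycles. Setting: (X, δ) with Cyc.IsSetup stands for a scheme locally of finite type over the base
(S, δ) (X locally Noetherian with universally catenary local rings, δ a dimension function); (p : P
→ X, O_P(1), q) is the projective bundle of E given by its universal property (KRR.IsProjBundle), p
is proper and δP is the induced dimension function (Cyc.DeltaCompat); a tuple γ with Cyc.IsChernCap
represents (c_0(E) ∩ α, …, c_r(E) ∩ α) through the defining relation Σ_i (-1)^i c_1(O_P(1))^i ∩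
p^*(γ_{r-i}) ∼_rat 0 on P, and classes are compared up to rational equivalence of representing
cycles. -/
theorem result (X Y : Scheme.{u}) (δX : X → ℤ) (δY : Y → ℤ) (hX : Cyc.IsSetup X δX) (hY : Cyc.IsSetup Y δY) (f : X ⟶ Y) [IsProper f] (hf : Cyc.DeltaCompat f δX δY) (r : ℕ) (E : Y.Modules) (hPE : FlatMod.IsFinLocFreeOfRank r E) (P : Scheme.{u}) (π : P ⟶ Y) (O1 : P.Modules) (q : (Scheme.Modules.pullback π).obj E ⟶ O1) (hP : KRR.IsProjBundle π E O1 q) [IsProper π] (δP : P → ℤ) (hPs : Cyc.IsSetup P δP) (hπ : Cyc.DeltaCompat π δP δY) (P' : Scheme.{u}) (π' : P' ⟶ X) (f' : P' ⟶ P) (hsq : IsPullback f' π' π f) (δP' : P' → ℤ) (hPs' : Cyc.IsSetup P' δP') (hπ' : Cyc.DeltaCompat π' δP' δX) (k : ℤ) (α : AlgebraicCycle X ℤ) (hα : α ∈ Cyc.Zk X δX k) (γ : Fin (r + 1) → AlgebraicCycle X ℤ) (hγ : Cyc.IsChernCap π' δX δP' ((Scheme.Modules.pullback f').obj O1) r k α γ) (γ' : Fin (r + 1) → AlgebraicCycle Y ℤ) (hγ' : Cyc.IsChernCap π δY δP O1 r k (AlgebraicCycle.map f δX δY α) γ') (j : Fin (r + 1)) : Cyc.RatEquiv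 δY (k - ((j : ℕ) : ℤ)) (AlgebraicCycle.map f δX δY (γ j)) (γ' j) := by
  match r with
  | 0 =>
    obtain rfl : j = 0 := Fin.ext (Nat.lt_one_iff.1 j.2)
    rw [hγ.1, hγ'.1]
    show Cyc.RatEquivZero _ _ _
    rw [sub_self]
    exact (H9PB.ratSub hY _).zero_mem
  | n + 1 =>
    have hfr : H9PB.Charted π O1 n := H9PB.charted_of_isProjBundle hP hPE
    have hfr' := H9PB.charted_of_isPullback hP hPE hsq
    haveI : IsProper π' := MorphismProperty.of_isPullback hsq ‹_›
    have hL := H9PB.Model.isInvertible_of_rank hP.invertible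
    obtain ⟨h0, hm, hr⟩ := (hfr'.isCap_iff (PicClLib.isInvertible_pullback f' hL) hX hPs' hπ').1 hγ
    obtain ⟨h0', hm', hr'⟩ := (hfr.isCap_iff hL hY hPs hπ).1 hγ'
    refine hfr.isCap_unique hL hY hPs hπ (γ := fun i => H9PB.pushAdd f δX δY (γ i))
      (fun i => Bivar.cycMap_mem_Zk f δX δY _ (hm i)) hm'
      (sub_mem (hfr.pushAdd_rel hfr' hL hX hY hPs hPs' hπ hπ' hf hsq hm hr) hr') ?_ j
    rw [h0, h0']
    show AlgebraicCycle.map f δX δY α - AlgebraicCycle.map f δX δY α ∈ _
    rw [sub_self]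
    exact zero_mem _

end Groth.Agent.S12659
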