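import Groth.Statements.S12660
import Groth.Agent.H9PB.ChernOps
import Groth.Agent.H9PB.GrassFrame

set_option autoImplicit false
universe u
open CategoryTheory CategoryTheory.Limits AlgebraicGeometry
open Cyc

namespace Groth.Agent.S12660

/-- Chern class caps commute with flat pullback: for f : X → Y flat of relative dimension c, E finite
locally free of rank r on Y and α a k-cycle on Y, f^*(c_j(E) ∩ α) = c_j(f^*E) ∩ f^*α in
CH_{k+c-j}(X). Flat pullbacks of cycles are taken coefficientwise (Cyc.pullFun); the caps of f^*E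
are taken through the base-changed bundle P' = X ×_Y P (a cartesian square) with O_{P'}(1) the
pullback of O_P(1) and the induced dimension function on P'. (The published statement writes the
same letter for the rank of E and the relative dimension of f; the two are independent here, as in
its proof.) Setting: (X, δ) with Cyc.IsSetup stands for a scheme locally of finite type over the
base (S, δ) (X locally Noetherian with universally catenary local rings, δ a dimension function); (p
: P → X, O_P(1), q) is the projective bundle of E given by its universal property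
(KRR.IsProjBundle), p is proper and δP is the induced dimension function (Cyc.DeltaCompat); a tuple
γ with Cyc.IsChernCap represents (c_0(E) ∩ α, …, c_r(E) ∩ α) through the defining relation Σ_i
(-1)^i c_1(O_P(1))^i ∩ p^*(γ_{r-i}) ∼_rat 0 on P, and classes are compared up to rational
equivalence of representing cycles. -/
theorem result (X Y : Scheme.{u}) (δX : X → ℤ) (δY : Y → ℤ) (hX : Cyc.IsSetup X δX) (hY : Cyc.IsSetup Y δY) (f : X ⟶ Y) [Flat f] [LocallyOfFiniteType f] (c : ℕ) (hc : Cyc.HasRelDim f c) (hf : Cyc.DeltaCompat f δX δY) (r : ℕ) (E : Y.Modules) (hPE : FlatMod.IsFinLocFreeOfRank r E) (P : Scheme.{u}) (π : P ⟶ Y) (O1 : P.Modules) (q : (Scheme.Modules.pullback π).obj E ⟶ O1) (hP : KRR.IsProjBundle π E O1 q) [IsProper π] (δP : P → ℤ) (hPs : Cyc.IsSetup P δP) (hπ : Cyc.DeltaCompat π δP δY) (P' : Scheme.{u}) (π' : P' ⟶ X) (f' : P' ⟶ P) (hsq : IsPullback f' π' π f) (δP' : P' → ℤ) (hPs' : Cyc.IsSetup P' δP') (hπ' : Cyc.DeltaCompat π' δP' δX) (k : ℤ) (α : AlgebraicCycle Y ℤ) (hα :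 α ∈ Cyc.Zk Y δY k) (αX : AlgebraicCycle X ℤ) (hαX : ⇑αX = Cyc.pullFun f δX δY c ⇑α) (γ : Fin (r + 1) → AlgebraicCycle Y ℤ) (hγ : Cyc.IsChernCap π δY δP O1 r k α γ) (γ' : Fin (r + 1) → AlgebraicCycle X ℤ) (hγ' : Cyc.IsChernCap π' δX δP' ((Scheme.Modules.pullback f').obj O1) r (k + c) αX γ') (β : Fin (r + 1) → AlgebraicCycle X ℤ) (hβ : ∀ j, ⇑(β j) = Cyc.pullFun f δX δY c ⇑(γ j)) (j : Fin (r + 1)) : Cyc.RatEquiv δX (k + c - ((j : ℕ) : ℤ)) (β j) (γ' j) := by
  haveI := hX.1
  haveI := hY.1
  let F := H9PB.flatAdd f (H23.FlatShift.hasShift_of_hasRelDim f hc hf) hX.2.2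
  have hβ' : ∀ i, β i = F (γ i) := fun i => DFunLike.coe_injective (hβ i)
  match r with
  | 0 =>
    obtain rfl : j = 0 := Fin.ext (Nat.lt_one_iff.1 j.2)
    rw [hγ'.1, show β 0 = αX from DFunLike.coe_injective ((hβ 0).trans (by rw [hγ.1, hαX]))]
    show Cyc.RatEquivZero _ _ _
    rw [sub_self]
    exact (H9PB.ratSub hX _).zero_mem
  | n + 1 =>
    have hfr : H9PB.Charted π O1 n := H9PB.charted_of_isProjBundle hP hPE
    have hfr' := H9PB.charted_of_isPullback hP hPE hsq
    haveI : IsProper π' := MorphismProperty.of_isPullback hsq ‹_›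
    have hL := H9PB.Model.isInvertible_of_rank hP.invertible
    obtain ⟨h0, hm, hr⟩ := (hfr.isCap_iff hL hY hPs hπ).1 hγ
    obtain ⟨h0', hm', hr'⟩ := (hfr'.isCap_iff (PicClLib.isInvertible_pullback f' hL) hX hPs' hπ').1 hγ'
    rw [hβ']
    refine hfr'.isCap_unique (PicClLib.isInvertible_pullback f' hL) hX hPs' hπ' (γ := fun i => F (γ i)) (fun i => ?_) hm'
      (sub_mem (hfr.flatAdd_rel hfr' hL hX hY hPs hPs' hπ hπ' hf hsq hc hm hr) hr') ?_ j
    · have := H9PB.flatAdd_mem f (H23.FlatShift.hasShift_of_hasRelDim f hc hf) hX.2.2 (hm i)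
      rwa [show k - ((i : ℕ) : ℤ) + c = k + c - ((i : ℕ) : ℤ) by ring] at this
    rw [h0', show F (γ 0) = αX from DFunLike.coe_injective (by rw [h0, hαX]; rfl), sub_self]
    exact zero_mem _

end Groth.Agent.S12660
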