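import Groth.Statements.S12662
import Groth.Agent.H9PB.ChernComm
import Groth.Agent.H9PB.GrassFrame

set_option autoImplicit false
universe u
open CategoryTheory CategoryTheory.Limits AlgebraicGeometry
open Cyc

namespace Groth.Agent.S12662

/-- For E, F finite locally free of ranks r, s on X and α ∈ CH_k(X), c_i(E) ∩ c_j(F) ∩ α = c_j(F) ∩
c_i(E) ∩ α in CH_{k-i-j}(X). Both bundles enter through their projective bundles (P, O_P(1)), (Q,
O_Q(1)); the iterated caps are represented by nested tuples (a tuple for F over the i-th component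
of a tuple for E over α, and symmetrically). (The published statement also asserts that c_j(E) is
central in the bivariant ring A^*(X) and commutes with every bivariant class of a morphism X' → X;
only the displayed consequence for two Chern classes is stated here.) Setting: (X, δ) with
Cyc.IsSetup stands for a scheme locally of finite type over the base (S, δ) (X locally Noetherian
with universally catenary local rings, δ a dimension function); (p : P → X, O_P(1), q) is the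
projective bundle of E given by its universal property (KRR.IsProjBundle), p is proper and δP is the
induced dimension function (Cyc.DeltaCompat); a tuple γ with Cyc.IsChernCap represents (c_0(E) ∩ α,
…, c_r(E) ∩ α) through the defining relation Σ_i (-1)^i c_1(O_P(1))^i ∩ p^*(γ_{r-i}) ∼_rat 0 on P,
and classes are compared up to rational equivalence of representing cycles. -/
theorem result (X : Scheme.{u}) (δ : X → ℤ) (hX : Cyc.IsSetup X δ) (r s : ℕ) (E : X.Modules) (hPE : FlatMod.IsFinLocFreeOfRank r E) (P : Scheme.{u}) (p : P ⟶ X) (O1 : P.Modules) (q : (Scheme.Modules.pullback p).obj E ⟶ O1) (hP : KRR.IsProjBundle p E O1 q) [IsProper p] (δP : P → ℤ) (hPs : Cyc.IsSetup P δP) (hδ : Cyc.DeltaCompat p δP δ) (F : X.Modules) (hQE : FlatMod.IsFinLocFreeOfRank s F) (Q : Scheme.{u}) (p' : Q ⟶ X) (O1' : Q.Modules) (q' : (Scheme.Modules.pullback p').obj F ⟶ O1') (hQ : KRR.IsProjBundle p' F O1' q') [IsProper p'] (δQ : Q → ℤ) (hQs : Cyc.IsSetup Q δQ) (hδ'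 : Cyc.DeltaCompat p' δQ δ) (k : ℤ) (α : AlgebraicCycle X ℤ) (hα : α ∈ Cyc.Zk X δ k) (i : Fin (r + 1)) (j : Fin (s + 1)) (γ : Fin (r + 1) → AlgebraicCycle X ℤ) (hγ : Cyc.IsChernCap p δ δP O1 r k α γ) (ε : Fin (s + 1) → AlgebraicCycle X ℤ) (hε : Cyc.IsChernCap p' δ δQ O1' s (k - ((i : ℕ) : ℤ)) (γ i) ε) (φ : Fin (s + 1) → AlgebraicCycle X ℤ) (hφ : Cyc.IsChernCap p' δ δQ O1' s k α φ) (ψ : Fin (r + 1) → AlgebraicCycle X ℤ) (hψ : Cyc.IsChernCap p δ δP O1 r (k - ((j : ℕ) : ℤ)) (φ j) ψ) : Cyc.RatEquiv δ (k - ((i : ℕ) : ℤ) - ((j : ℕ) : ℤ)) (ε j) (ψ i) := by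
  match r, s with
  | 0, 0 =>
    obtain rfl : i = 0 := Fin.ext (Nat.lt_one_iff.1 i.2)
    obtain rfl : j = 0 := Fin.ext (Nat.lt_one_iff.1 j.2)
    rw [hε.1, hψ.1, hγ.1, hφ.1]
    show Cyc.RatEquivZero _ _ _
    rw [sub_self]
    exact (H9PB.ratSub hX _).zero_mem
  | 0, m + 1 =>
    obtain rfl : i = 0 := Fin.ext (Nat.lt_one_iff.1 i.2)
    rw [hγ.1] at hε
    rw [hψ.1]
    simp only [Fin.val_zero, Nat.cast_zero, sub_zero] at hε ⊢
    have hfr := H9PB.charted_of_isProjBundle hQ hQE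
    have hL := H9PB.Model.isInvertible_of_rank hQ.invertible
    exact ((hfr.isCap_iff hL hX hQs hδ').1 hε).unique hfr hL hX hQs hδ' ((hfr.isCap_iff hL hX hQs hδ').1 hφ) j
  | n + 1, 0 =>
    obtain rfl : j = 0 := Fin.ext (Nat.lt_one_iff.1 j.2)
    rw [hφ.1] at hψ
    rw [hε.1]
    simp only [Fin.val_zero, Nat.cast_zero, sub_zero] at hψ ⊢
    have hfr := H9PB.charted_of_isProjBundle hP hPE
    have hL := H9PB.Model.isInvertible_of_rank hP.invertible
    exact ((hfr.isCap_iff hL hX hPs hδ).1 hγ).unique hfr hL hX hPs hδ ((hfr.isCap_iff hL hX hPs hδ).1 hψ) i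
  | n + 1, m + 1 =>
    have hfr := H9PB.charted_of_isProjBundle hP hPE
    have hL := H9PB.Model.isInvertible_of_rank hP.invertible
    have hfr' := H9PB.charted_of_isProjBundle hQ hQE
    have hL' := H9PB.Model.isInvertible_of_rank hQ.invertible
    have hfrP := H9PB.charted_of_isPullback hQ hQE (IsPullback.of_hasPullback p' p)
    have hγ' := (hfr.isCap_iff hL hX hPs hδ).1 hγ
    choose η hη using fun l => hfr'.exists_isCap hL' hX hQs hδ' (hγ'.mem l)
    have hψ' := (hfr.isCap_iff hL hX hPs hδ).1 hψ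
    have hφ' := (hfr'.isCap_iff hL' hX hQs hδ').1 hφ
    have hε' := (hfr'.isCap_iff hL' hX hQs hδ').1 hε
    have hrel := hfr.isCap_comm hL hX hPs hδ hfr' hL' hQs hδ' hfrP hγ' hη j
    have h0 : η 0 j - ψ 0 ∈ H9PB.ratSub hX (k - ((j : ℕ) : ℤ)) := by
      have h := hη 0
      rw [hγ'.zero] at h
      simp only [Fin.val_zero, Nat.cast_zero, sub_zero] at h
      rw [hψ'.zero]
      exact h.unique hfr' hL' hX hQs hδ' hφ' j
    have h1 : η i j - ψ i ∈ H9PB.ratSub hX (k - ((j : ℕ) : ℤ) - ((i : ℕ) : ℤ)) :=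
      hfr.isCap_unique hL hX hPs hδ (γ := fun l => η l j) (γ' := ψ) (k := k - ((j : ℕ) : ℤ)) (fun l => by
        have := (hη l).mem j
        rwa [show k - ((l : ℕ) : ℤ) - ((j : ℕ) : ℤ) = k - ((j : ℕ) : ℤ) - ((l : ℕ) : ℤ) by ring] at this)
        hψ'.mem (sub_mem hrel hψ'.rel) h0 i
    have h2 : η i j - ε j ∈ H9PB.ratSub hX (k - ((i : ℕ) : ℤ) - ((j : ℕ) : ℤ)) :=
      (hη i).unique hfr' hL' hX hQs hδ' hε' j
    rw [show k - ((j : ℕ) : ℤ) - ((i : ℕ) : ℤ) = k - ((i : ℕ) : ℤ) - ((j : ℕ) : ℤ) by ring] at h1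
    show _ ∈ H9PB.ratSub hX _
    have h3 := sub_mem h1 h2
    rwa [sub_sub_sub_cancel_left] at h3

end Groth.Agent.S12662
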