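import Groth.Statements.S12665
import Groth.Agent.H9PB.Whitney


set_option autoImplicit false
universe u
open CategoryTheory CategoryTheory.Limits AlgebraicGeometry
open Cyc

namespace Groth.Agent.S12665

/-- For a short exact sequence 0 → E₁ → E → E₂ → 0 of finite locally free modules of ranks r₁, r₁ + r₂,
r₂ on X, c(E) = c(E₁) c(E₂), that is c_j(E) ∩ α ∼_rat Σ_{a+b=j} c_a(E₁) ∩ (c_b(E₂) ∩ α) for every
k-cycle α and every j; the inner caps are represented by a tuple for E₂ over α and, for each of its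
components, a tuple for E₁ over it. Setting: (X, δ) with Cyc.IsSetup stands for a scheme locally of
finite type over the base (S, δ) (X locally Noetherian with universally catenary local rings, δ a
dimension function); (p : P → X, O_P(1), q) is the projective bundle of E given by its universal
property (KRR.IsProjBundle), p is proper and δP is the induced dimension function (Cyc.DeltaCompat);
a tuple γ with Cyc.IsChernCap represents (c_0(E) ∩ α, …, c_r(E) ∩ α) through the defining relation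
Σ_i (-1)^i c_1(O_P(1))^i ∩ p^*(γ_{r-i}) ∼_rat 0 on P, and classes are compared up to rational
equivalence of representing cycles. -/
theorem result (X : Scheme.{u}) (δ : X → ℤ) (hX : Cyc.IsSetup X δ) (r₁ r₂ : ℕ) (E₁ : X.Modules) (hP₁E : FlatMod.IsFinLocFreeOfRank r₁ E₁) (P₁ : Scheme.{u}) (p₁ : P₁ ⟶ X) (O₁ : P₁.Modules) (q₁ : (Scheme.Modules.pullback p₁).obj E₁ ⟶ O₁) (hP₁ : KRR.IsProjBundle p₁ E₁ O₁ q₁) [IsProper p₁] (δ₁ : P₁ → ℤ) (hP₁s : Cyc.IsSetup P₁ δ₁) (hδ₁ : Cyc.DeltaCompat p₁ δ₁ δ) (E : X.Modules) (hPE : FlatMod.IsFinLocFreeOfRank (r₁ + r₂) E) (P : Scheme.{u}) (p : P ⟶ X) (O1 : P.Modules) (q : (Scheme.Modules.pullback p).obj E ⟶ O1) (hP : KRR.IsProjBundle p E O1 q) [IsProper p] (δP : P → ℤ) (hPs : Cyc.IsSetup P δP) (hδ : Cyc.DeltaCompat p δP δ) (E₂ : X.Modules) (hP₂E : FlatMod.IsFinLocFreeOfRank r₂ E₂) (P₂ : Scheme.{u}) (p₂ : P₂ ⟶ X) (O₂ : P₂.Modules)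 (q₂ : (Scheme.Modules.pullback p₂).obj E₂ ⟶ O₂) (hP₂ : KRR.IsProjBundle p₂ E₂ O₂ q₂) [IsProper p₂] (δ₂ : P₂ → ℤ) (hP₂s : Cyc.IsSetup P₂ δ₂) (hδ₂ : Cyc.DeltaCompat p₂ δ₂ δ) (a : E₁ ⟶ E) (b : E ⟶ E₂) (hab : a ≫ b = 0) (hex : (ShortComplex.mk a b hab).ShortExact) (k : ℤ) (α : AlgebraicCycle X ℤ) (hα : α ∈ Cyc.Zk X δ k) (γ₂ : Fin (r₂ + 1) → AlgebraicCycle X ℤ) (hγ₂ : Cyc.IsChernCap p₂ δ δ₂ O₂ r₂ k α γ₂) (ε : Fin (r₂ + 1) → Fin (r₁ + 1) → AlgebraicCycle X ℤ) (hε : ∀ b : Fin (r₂ + 1), Cyc.IsChernCap p₁ δ δ₁ O₁ r₁ (k - ((b : ℕ) : ℤ)) (γ₂ b) (ε b)) (γ : Fin (r₁ + r₂ + 1) → AlgebraicCycle X ℤ) (hγ : Cyc.IsChernCap p δ δP O1 (r₁ + r₂) k α γ) (j : Fin (r₁ + r₂ + 1)) : Cyc.RatEquiv δ (k - ((j : ℕ) : ℤ)) (γ j) (∑ a : Fin (r₁ + 1), ∑ b : Fin (r₂ + 1), if (a : ℕ) + (b : ℕ) = (j : ℕ) then ε b a else 0) := by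
  classical
  obtain ⟨x, hx⟩ := H9PB.Rep.single hα
  have h := H9PB.whitney hX hP₁E hP₂E hPE a b hab hex
  have hj := congrArg (fun f : Polynomial (AddMonoid.End (H9PB.GCH X δ)) => f.coeff (j : ℕ)) h
  simp only [H9PB.coeff_totC, Polynomial.coeff_mul] at hj
  have h1 := H9PB.rep_opC hX hPE hx (H9PB.IsCapR.of_isChernCap hPE hX hP hδ hγ) j
  refine H9PB.Rep.ratEquiv hX h1 ?_
  rw [hj]
  have hsum : ∑ a : Fin (r₁ + 1), ∑ b : Fin (r₂ + 1), (if (a : ℕ) + (b : ℕ) = (j : ℕ) then ε b a else 0) =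
      ∑ y ∈ Finset.HasAntidiagonal.antidiagonal (j : ℕ), (if hy : y.1 < r₁ + 1 ∧ y.2 < r₂ + 1 then
        ε ⟨y.2, hy.2⟩ ⟨y.1, hy.1⟩ else 0) := by
    rw [← Fintype.sum_prod_type', ← Finset.sum_filter]
    refine Finset.sum_bij_ne_zero (fun y _ _ => ((y.1 : ℕ), (y.2 : ℕ))) (fun y hy _ => by simpa using hy)
      (fun y _ _ y' _ _ e => ?_) (fun y hy hne => ?_) (fun y hy _ => by simp [y.1.2, y.2.2])
    · simp only [Prod.mk.injEq] at e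
      exact Prod.ext (Fin.ext e.1) (Fin.ext e.2)
    · by_cases hlt : y.1 < r₁ + 1 ∧ y.2 < r₂ + 1
      · rw [dif_pos hlt] at hne
        exact ⟨(⟨y.1, hlt.1⟩, ⟨y.2, hlt.2⟩), by simpa using hy, hne, rfl⟩
      · rw [dif_neg hlt] at hne
        exact absurd rfl hne
  rw [hsum]
  refine H9PB.Rep.endSum fun y hy => ?_
  have hy' : y.1 + y.2 = (j : ℕ) := Finset.HasAntidiagonal.mem_antidiagonal.1 hy
  by_cases hlt : y.1 < r₁ + 1 ∧ y.2 < r₂ + 1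
  · rw [dif_pos hlt]
    have h3 := H9PB.rep_opC hX hP₁E
      (H9PB.rep_opC hX hP₂E hx (H9PB.IsCapR.of_isChernCap hP₂E hX hP₂ hδ₂ hγ₂) ⟨y.2, hlt.2⟩)
      (H9PB.IsCapR.of_isChernCap hP₁E hX hP₁ hδ₁ (hε ⟨y.2, hlt.2⟩)) ⟨y.1, hlt.1⟩
    rw [show k - ((y.2 : ℕ) : ℤ) - ((y.1 : ℕ) : ℤ) = k - ((j : ℕ) : ℤ) by omega] at h3
    exact h3
  · rw [dif_neg hlt]
    have hz : H9PB.opC hX hP₁E y.1 * H9PB.opC hX hP₂E y.2 = 0 := by
      rcases not_and_or.1 hlt with h | h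
      · rw [H9PB.opC_eq_zero hX hP₁E (by omega), zero_mul]
      · rw [H9PB.opC_eq_zero hX hP₂E (by omega), mul_zero]
    show H9PB.Rep ((H9PB.opC hX hP₁E y.1 * H9PB.opC hX hP₂E y.2) x) _ _
    rw [hz]
    exact H9PB.Rep.zero _

end Groth.Agent.S12665
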