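import Groth.Statements.S12666
import Groth.Agent.H9PB.RootsPull


set_option autoImplicit false
universe u
open CategoryTheory CategoryTheory.Limits AlgebraicGeometry
open Cyc

namespace Groth.Agent.S12666

/-- For E finite locally free of rank r and L invertible on X, c_i(E ⊗ L) = Σ_{j=0}^{i} C(r-i+j, j)
c_{i-j}(E) c_1(L)^j for i ≤ r, as cap operations on every k-cycle α: c_i(E ⊗ L) ∩ α ∼_rat Σ_j
C(r-i+j, j) c_1(L)^j ∩ (c_{i-j}(E) ∩ α), where c_1(L)^j ∩ - is the j-fold iterated cap on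
coefficient functions with any nonzero rational sections (Cyc.c1PowFun) and E ⊗ L is the tensor
product of O_X-modules (CohB1.tensorMod). Setting: (X, δ) with Cyc.IsSetup stands for a scheme
locally of finite type over the base (S, δ) (X locally Noetherian with universally catenary local
rings, δ a dimension function); (p : P → X, O_P(1), q) is the projective bundle of E given by its
universal property (KRR.IsProjBundle), p is proper and δP is the induced dimension function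
(Cyc.DeltaCompat); a tuple γ with Cyc.IsChernCap represents (c_0(E) ∩ α, …, c_r(E) ∩ α) through the
defining relation Σ_i (-1)^i c_1(O_P(1))^i ∩ p^*(γ_{r-i}) ∼_rat 0 on P, and classes are compared up
to rational equivalence of representing cycles. -/
theorem result (X : Scheme.{u}) (δ : X → ℤ) (hX : Cyc.IsSetup X δ) (r : ℕ) (E : X.Modules) (hPE : FlatMod.IsFinLocFreeOfRank r E) (P : Scheme.{u}) (p : P ⟶ X) (O1 : P.Modules) (q : (Scheme.Modules.pullback p).obj E ⟶ O1) (hP : KRR.IsProjBundle p E O1 q) [IsProper p] (δP : P → ℤ) (hPs : Cyc.IsSetup P δP) (hδ : Cyc.DeltaCompat p δP δ) (L : X.Modules) (hL : PicF.IsInvertible L) (hP'E : FlatMod.IsFinLocFreeOfRank r (CohB1.tensorMod E L)) (P' : Scheme.{u}) (p' : P' ⟶ X) (O1' : P'.Modules) (q' : (Scheme.Modules.pullback p').obj (CohB1.tensorMod E L) ⟶ O1') (hP' : KRR.IsProjBundle p' (CohB1.tensorMod E L) O1' q') [IsProper p'] (δP' : P' → ℤ) (hPs'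 : Cyc.IsSetup P' δP') (hδ' : Cyc.DeltaCompat p' δP' δ) (k : ℤ) (α : AlgebraicCycle X ℤ) (hα : α ∈ Cyc.Zk X δ k) (γ : Fin (r + 1) → AlgebraicCycle X ℤ) (hγ : Cyc.IsChernCap p δ δP O1 r k α γ) (γ' : Fin (r + 1) → AlgebraicCycle X ℤ) (hγ' : Cyc.IsChernCap p' δ δP' O1' r k α γ') (t : ℕ → (ξ : X) → Cyc.secFibre L ξ) (ht : ∀ m ξ, t m ξ ≠ 0) (i : Fin (r + 1)) (ζ : Fin (r + 1) → AlgebraicCycle X ℤ) (hζ : ∀ j : Fin (r + 1), (j : ℕ) ≤ (i : ℕ) → ⇑(ζ j) = Cyc.c1PowFun δ L t j ⇑(γ ⟨(i : ℕ) - (j : ℕ), Nat.lt_of_le_of_lt (Nat.sub_le _ _) i.isLt⟩)) : Cyc.RatEquiv δ (k - ((i : ℕ) : ℤ)) (γ' i) (∑ j : Fin (r + 1), if (j : ℕ) ≤ (i : ℕ) then ((Nat.choose (r - i + j) j : ℕ) : ℤ) • ζ j else 0) := by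
  haveI := hX.1
  obtain ⟨x, hx⟩ := H9PB.Rep.single hα
  obtain ⟨e⟩ : Nonempty (CohB1.tensorMod E L ≅ CohB1.tensorMod L E) := ⟨CurveTensor.commIso E L⟩
  have hT := (ConsPropLib.isFinLocFreeOfRank_iso e).1 hP'E
  have h1 := H9PB.rep_opC hX hP'E hx (H9PB.IsCapR.of_isChernCap hP'E hX hP' hδ' hγ') i
  refine H9PB.Rep.ratEquiv hX h1 ?_
  have e1 : H9PB.opC hX hP'E (i : ℕ) = H9PB.opC hX hT (i : ℕ) := by
    rw [← H9PB.coeff_totC, ← H9PB.coeff_totC, H9PB.totC_iso hX hP'E hT e rfl]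
  rw [e1, H9PB.opC_tensor hX hPE hL hT (Nat.le_of_lt_succ i.2), ← Finset.sum_filter]
  let f : ℕ → AlgebraicCycle X ℤ := fun j =>
    if hj : j < r + 1 then ((Nat.choose (r - i + j) j : ℕ) : ℤ) • ζ ⟨j, hj⟩ else 0
  have hsum : ∑ j ∈ Finset.univ.filter (fun j : Fin (r + 1) => (j : ℕ) ≤ (i : ℕ)),
      ((Nat.choose (r - i + j) j : ℕ) : ℤ) • ζ j = ∑ j ∈ Finset.range ((i : ℕ) + 1), f j := by
    refine Finset.sum_bij (fun j _ => (j : ℕ)) (fun j hj => ?_) (fun a _ b _ h => Fin.ext h) (fun b hb => ?_)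
      fun j _ => (dif_pos (c := (j : ℕ) < r + 1) (t := fun hj => ((Nat.choose (r - i + j) j : ℕ) : ℤ) • ζ ⟨(j : ℕ), hj⟩) (e := fun _ => 0) j.2).symm
    · simp only [Finset.mem_filter, Finset.mem_univ, true_and] at hj
      exact Finset.mem_range.2 (Nat.lt_succ_of_le hj)
    · rw [Finset.mem_range] at hb
      exact ⟨⟨b, by have := i.2; omega⟩, Finset.mem_filter.2 ⟨Finset.mem_univ _, Nat.le_of_lt_succ hb⟩, rfl⟩
  rw [hsum]
  refine H9PB.Rep.endSum fun j hj => ?_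
  rw [Finset.mem_range] at hj
  have hjr : j < r + 1 := by have := i.2; omega
  simp only [f, dif_pos hjr]
  show H9PB.Rep (((Nat.choose (r - i + j) j : ℕ) : ℤ) • ((H9PB.opL hX hL ^ j * H9PB.opC hX hPE ((i : ℕ) - j)) x)) _ _
  refine H9PB.Rep.zsmul ?_ _
  have hl : (i : ℕ) - j < r + 1 := Nat.lt_of_le_of_lt (Nat.sub_le _ _) i.isLt
  have h2 := H9PB.rep_opC hX hPE hx (H9PB.IsCapR.of_isChernCap hPE hX hP hδ hγ) ⟨(i : ℕ) - j, hl⟩
  have h3 : ∀ (n : ℕ), H9PB.Rep ((H9PB.opL hX hL ^ n * H9PB.opC hX hPE ((i : ℕ) - j)) x)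
      (k - (((i : ℕ) - j : ℕ) : ℤ) - (n : ℤ)) (H9PB.powHom hL hX.2.2 t ht n (γ ⟨(i : ℕ) - j, hl⟩)) := by
    intro n
    induction n with
    | zero => simpa [H9PB.powHom] using h2
    | succ n ih =>
      have h4 := H9PB.rep_opL hX hL ih (t n) (ht n)
      rw [pow_succ', mul_assoc, Nat.cast_succ, ← sub_sub]
      exact h4
  have h5 := h3 j
  have hj' : (((i : ℕ) - j : ℕ) : ℤ) + (j : ℤ) = ((i : ℕ) : ℤ) := by omega
  rw [show k - (((i : ℕ) - j : ℕ) : ℤ) - (j : ℤ) = k - ((i : ℕ) : ℤ) by omega] at h5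
  rwa [show ζ ⟨j, hjr⟩ = H9PB.powHom hL hX.2.2 t ht j (γ ⟨(i : ℕ) - j, hl⟩) from
    DFunLike.coe_injective ((hζ ⟨j, hjr⟩ (Nat.le_of_lt_succ hj)).trans (H9PB.coe_powHom hL hX.2.2 t ht j _).symm)]

end Groth.Agent.S12666
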