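import Groth.Statements.S12669
import Groth.Agent.H9PB.RootsTensor


set_option autoImplicit false
universe u
open CategoryTheory CategoryTheory.Limits AlgebraicGeometry
open Cyc

namespace Groth.Agent.S12669

/-- For E, F finite locally free of ranks r, s on X, c_2(E ⊗ F) = r c_2(F) + s c_2(E) + C(r,2) c_1(F)^2
+ (rs - 1) c_1(F) c_1(E) + C(s,2) c_1(E)^2, as cap operations on every k-cycle α; products of
classes are iterated caps represented by nested tuples (a tuple for F, resp. E, over the first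
component of a tuple for F; a tuple for E over the first component of a tuple for E), c_2 of a
module of rank < 2 is 0, and E ⊗ F (CohB1.tensorMod, rank rs) enters through its own projective
bundle. Stated for r, s ≥ 1. Setting: (X, δ) with Cyc.IsSetup stands for a scheme locally of finite
type over the base (S, δ) (X locally Noetherian with universally catenary local rings, δ a dimension
function); (p : P → X, O_P(1), q) is the projective bundle of E given by its universal property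
(KRR.IsProjBundle), p is proper and δP is the induced dimension function (Cyc.DeltaCompat); a tuple
γ with Cyc.IsChernCap represents (c_0(E) ∩ α, …, c_r(E) ∩ α) through the defining relation Σ_i
(-1)^i c_1(O_P(1))^i ∩ p^*(γ_{r-i}) ∼_rat 0 on P, and classes are compared up to rational
equivalence of representing cycles. -/
theorem result (X : Scheme.{u}) (δ : X → ℤ) (hX : Cyc.IsSetup X δ) (r s : ℕ) (hr : 1 ≤ r) (hs : 1 ≤ s) (E : X.Modules) (hPE : FlatMod.IsFinLocFreeOfRank r E) (P : Scheme.{u}) (p : P ⟶ X) (O1 : P.Modules) (q : (Scheme.Modules.pullback p).obj E ⟶ O1) (hP : KRR.IsProjBundle p E O1 q) [IsProper p] (δP : P → ℤ) (hPs : Cyc.IsSetup P δP) (hδ : Cyc.DeltaCompat p δP δ) (F : X.Modules) (hQE : FlatMod.IsFinLocFreeOfRank s F) (Q : Scheme.{u}) (p' : Q ⟶ X) (O1' : Q.Modules) (q' : (Scheme.Modules.pullback p').obj F ⟶ O1') (hQ : KRR.IsProjBundle p' F O1' q') [IsProper p']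 (δQ : Q → ℤ) (hQs : Cyc.IsSetup Q δQ) (hδ' : Cyc.DeltaCompat p' δQ δ) (hTE : FlatMod.IsFinLocFreeOfRank (r * s) (CohB1.tensorMod E F)) (T : Scheme.{u}) (p'' : T ⟶ X) (O1'' : T.Modules) (q'' : (Scheme.Modules.pullback p'').obj (CohB1.tensorMod E F) ⟶ O1'') (hT : KRR.IsProjBundle p'' (CohB1.tensorMod E F) O1'' q'') [IsProper p''] (δT : T → ℤ) (hTs : Cyc.IsSetup T δT) (hδ'' : Cyc.DeltaCompat p'' δT δ) (k : ℤ) (α : AlgebraicCycle X ℤ) (hα : α ∈ Cyc.Zk X δ k) (ε : Fin (r + 1) → AlgebraicCycle X ℤ) (hε : Cyc.IsChernCap p δ δP O1 r k α ε) (φ : Fin (s + 1) → AlgebraicCycle X ℤ) (hφ : Cyc.IsChernCap p' δ δQ O1' s k α φ) (τ : Fin (r * s + 1) → AlgebraicCycle X ℤ) (hτ : Cyc.IsChernCap p'' δ δT O1'' (r * s) k α τ) (φφ : Fin (s + 1) → AlgebraicCycle X ℤ) (hφφ : Cyc.IsChernCap p' δ δQ O1' s (k - 1) (φ ⟨1, Nat.lt_succ_of_le hs⟩) φφ) (εφ : Fin (r + 1) → AlgebraicCycle X ℤ) (hεφ : Cyc.IsChernCap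 p δ δP O1 r (k - 1) (φ ⟨1, Nat.lt_succ_of_le hs⟩) εφ) (εε : Fin (r + 1) → AlgebraicCycle X ℤ) (hεε : Cyc.IsChernCap p δ δP O1 r (k - 1) (ε ⟨1, Nat.lt_succ_of_le hr⟩) εε) : Cyc.RatEquiv δ (k - 2) (if h2 : 2 ≤ r * s then τ ⟨2, Nat.lt_succ_of_le h2⟩ else 0) (((r : ℕ) : ℤ) • (if h2 : 2 ≤ s then φ ⟨2, Nat.lt_succ_of_le h2⟩ else 0) + ((s : ℕ) : ℤ) • (if h2 : 2 ≤ r then ε ⟨2, Nat.lt_succ_of_le h2⟩ else 0) + ((Nat.choose r 2 : ℕ) : ℤ) • φφ ⟨1, Nat.lt_succ_of_le hs⟩ + (((r * s : ℕ) : ℤ) - 1) • εφ ⟨1, Nat.lt_succ_of_le hr⟩ + ((Nat.choose s 2 : ℕ) : ℤ) • εε ⟨1, Nat.lt_succ_of_le hr⟩) := by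
  obtain ⟨x, hx⟩ := H9PB.Rep.single hα
  have two : ∀ (n : ℕ) {E' : X.Modules} (hE' : FlatMod.IsFinLocFreeOfRank n E')
      (γ : Fin (n + 1) → AlgebraicCycle X ℤ), H9PB.IsCapR E' n δ k α γ →
      H9PB.Rep (H9PB.opC hX hE' 2 x) (k - 2) (if h2 : 2 ≤ n then γ ⟨2, Nat.lt_succ_of_le h2⟩ else 0) := by
    intro n E' hE' γ hγ
    by_cases h2 : 2 ≤ n
    · rw [dif_pos h2]
      exact H9PB.rep_opC hX hE' hx hγ ⟨2, Nat.lt_succ_of_le h2⟩
    · rw [dif_neg h2, H9PB.opC_eq_zero hX hE' (by omega)]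
      exact H9PB.Rep.zero _
  have hφ1 := H9PB.rep_opC hX hQE hx (H9PB.IsCapR.of_isChernCap hQE hX hQ hδ' hφ) ⟨1, Nat.lt_succ_of_le hs⟩
  have hε1 := H9PB.rep_opC hX hPE hx (H9PB.IsCapR.of_isChernCap hPE hX hP hδ hε) ⟨1, Nat.lt_succ_of_le hr⟩
  simp only [Nat.cast_one] at hφ1 hε1
  have hφφ1 := H9PB.rep_opC hX hQE hφ1 (H9PB.IsCapR.of_isChernCap hQE hX hQ hδ' hφφ) ⟨1, Nat.lt_succ_of_le hs⟩
  have hεφ1 := H9PB.rep_opC hX hPE hφ1 (H9PB.IsCapR.of_isChernCap hPE hX hP hδ hεφ) ⟨1, Nat.lt_succ_of_le hr⟩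
  have hεε1 := H9PB.rep_opC hX hPE hε1 (H9PB.IsCapR.of_isChernCap hPE hX hP hδ hεε) ⟨1, Nat.lt_succ_of_le hr⟩
  simp only [Nat.cast_one, sub_sub, one_add_one_eq_two] at hφφ1 hεφ1 hεε1
  refine (two _ hTE τ (H9PB.IsCapR.of_isChernCap hTE hX hT hδ'' hτ)).ratEquiv hX ?_
  rw [(H9PB.opC_tensor₂ hX hPE hQE hTE).2]
  exact (((((two _ hQE φ (H9PB.IsCapR.of_isChernCap hQE hX hQ hδ' hφ)).zsmul _).add
    ((two _ hPE ε (H9PB.IsCapR.of_isChernCap hPE hX hP hδ hε)).zsmul _)).add (hφφ1.zsmul _)).add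
    (hεφ1.zsmul _)).add (hεε1.zsmul _)

end Groth.Agent.S12669
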