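import Groth.Statements.S12675
import Groth.Agent.H9PB.ChernOps
import Groth.Agent.H9PB.GrassFrame
import Groth.Agent.H9PB.ChernComm
import Groth.Agent.QuotRep.Frame
import Groth.Agent.KRRReg.LamPull

set_option autoImplicit false
universe u
open CategoryTheory CategoryTheory.Limits AlgebraicGeometry
open Cyc

namespace Groth.Agent.S12675

/-- Suppose X is integral of δ-dimension n and L is an O_X-module that is invertible; then L's first
Chern class on X, taken in the sense of the projective-bundle characterisation (rank r = 1), agrees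
with the Weil divisor class c_1(L) ∩ [X] of L (the divisor of a nonzero rational section,
Cyc.c1CapFun on the cycle [X]_n). The projective bundle of L is given abstractly by its universal
property, so the identification P(L) = X, O(1) = L is part of what is asserted. Setting: (X, δ) with
Cyc.IsSetup stands for a scheme locally of finite type over the base (S, δ) (X locally Noetherian
with universally catenary local rings, δ a dimension function); (p : P → X, O_P(1), q) is the
projective bundle of E given by its universal property (KRR.IsProjBundle), p is proper and δP is the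
induced dimension function (Cyc.DeltaCompat); a tuple γ with Cyc.IsChernCap represents (c_0(E) ∩ α,
…, c_r(E) ∩ α) through the defining relation Σ_i (-1)^i c_1(O_P(1))^i ∩ p^*(γ_{r-i}) ∼_rat 0 on P,
and classes are compared up to rational equivalence of representing cycles. -/
theorem result (X : Scheme.{u}) (δ : X → ℤ) (hX : Cyc.IsSetup X δ) [IsIntegral X] (n : ℤ) (hn : δ (genericPoint X) = n) (L : X.Modules) (hL : PicF.IsInvertible L) (hPE : FlatMod.IsFinLocFreeOfRank 1 L) (P : Scheme.{u}) (p : P ⟶ X) (O1 : P.Modules) (q : (Scheme.Modules.pullback p).obj L ⟶ O1) (hP : KRR.IsProjBundle p L O1 q) [IsProper p] (δP : P → ℤ) (hPs : Cyc.IsSetup P δP) (hδ : Cyc.DeltaCompat p δP δ) (α : AlgebraicCycle X ℤ) (hα : ⇑α = Cyc.subschemeFun δ n (𝟙 X)) (γ : Fin 2 → AlgebraicCycle X ℤ) (hγ : Cyc.IsChernCap p δ δP O1 1 n α γ) (s : (ξ : X) → Cyc.secFibre L ξ) (hs : ∀ ξ, s ξ ≠ 0) (β : AlgebraicCycle X ℤ) (hβ : ⇑β = Cyc.c1CapFun δ L ⇑α s) : Cyc.RatEquiv δ (n - 1) (γ 1) β := by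
  haveI := hX.1
  haveI := hPs.1
  have hfr := H9PB.charted_of_isProjBundle hP hPE
  have hO := H9PB.Model.isInvertible_of_rank hP.invertible
  have hpL := PicClLib.isInvertible_pullback p hL
  haveI := hP.epi
  haveI : IsIso q := Groth.Agent.QuotRep.isIso_of_epi_rank
    (Groth.Agent.KRRReg.isFinLocFreeOfRank_pullback p hPE) hP.invertible q
  let e := asIso q
  haveI := hfr.flat
  have hc := hfr.hasShift hPs.2.2 hδ
  have hcap := (hfr.isCap_iff hO hX hPs hδ).1 hγ
  have hαm : α ∈ Cyc.Zk X δ n := by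
    have := hcap.mem 0
    rw [hcap.zero] at this
    simpa using this
  obtain rfl : β = H9PB.cap1 hL hX.2.2 s hs α := DFunLike.coe_injective (hβ.trans (H9PB.coe_cap1 hL hX.2.2 s hs α).symm)
  let γ' : Fin 2 → AlgebraicCycle X ℤ := ![α, H9PB.cap1 hL hX.2.2 s hs α]
  have hm' : ∀ j : Fin 2, γ' j ∈ Cyc.Zk X δ (n - ((j : ℕ) : ℤ)) := Fin.forall_fin_two.2
    ⟨by simpa [γ'] using hαm, by simpa [γ'] using H9PB.cap1_mem hL hX.2.2 s hs hαm⟩
  have hv : ∀ ξ, H23.C1Pull.vPull p L s ξ ≠ 0 := H23.C1Pull.vPull_ne_zero hL hs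
  have hw := H23.RatSec.mapSec_ne_zero e hv
  let b := hfr.pullAdd hX hPs hδ α
  have hb : b ∈ Cyc.Zk P δP n := by
    have := hfr.pullAdd_mem hX hPs hδ hαm
    simpa using this
  have h1 : hfr.pullAdd hX hPs hδ (H9PB.cap1 hL hX.2.2 s hs α) =
      H9PB.cap1 hO hPs.2.2 (fun ξ => H23.RatSec.mapSec e ξ (H23.C1Pull.vPull p L s ξ)) hw b :=
    DFunLike.coe_injective (by
      rw [H9PB.Charted.coe_pullAdd, H9PB.coe_cap1, H9PB.coe_cap1, H9PB.Charted.coe_pullAdd]
      rw [H23.RatSec.c1CapFun_mapSec e hpL hO hPs.2.2 _ hv]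
      exact H23.C1Pull.pullFun_c1CapFun hL hpL hc hX.2.2 hPs.2.2 (H23.GysinLib.locFin _) hs)
  have h2 : hfr.pullAdd hX hPs hδ (H9PB.cap1 hL hX.2.2 s hs α) -
      H9PB.cap1 hO hPs.2.2 (hfr.sec hO 0) (hfr.sec_ne_zero hO 0) b ∈ H9PB.ratSub hPs (n - 1) := by
    rw [h1]
    exact H9PB.cap_ratEquiv hPs hO hb hb (by rw [Cyc.RatEquiv, sub_self]; exact (H9PB.ratSub hPs _).zero_mem)
      hw (hfr.sec_ne_zero hO 0)
  have hr : hfr.rel hO hX hPs hδ γ' ∈ H9PB.ratSub hPs (n - 1) := by
    rw [H9PB.Charted.rel_apply, Fin.sum_univ_two]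
    rw [show ((-1 : ℤ) ^ ((0 : Fin 2) : ℕ)) = 1 from rfl, show ((-1 : ℤ) ^ ((1 : Fin 2) : ℕ)) = -1 from rfl,
      one_smul, neg_one_smul, ← sub_eq_add_neg]
    exact h2
  exact hfr.isCap_unique hO hX hPs hδ (γ' := γ') hcap.mem hm' (sub_mem hcap.rel hr)
    (by rw [hcap.zero]; simp [γ']) 1

end Groth.Agent.S12675
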