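import Groth.Statements.S12676
import Groth.Agent.H9Diag.GraphPull
import Groth.Agent.H9ProdCl.Main
import Groth.Agent.S17840
import Groth.Agent.H9PB.Chow
import Groth.Agent.PnCoh.Chow.Proper

set_option linter.style.haveILetI false
set_option backward.isDefEq.respectTransparency false
set_option maxHeartbeats 2000000
-- import your own Groth.Agent.* helpers here

set_option autoImplicit false
universe u
open CategoryTheory CategoryTheory.Limits AlgebraicGeometry
attribute [local instance] HasDerivedCategory.standard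
open IntMult

namespace Groth.Agent.S12676

/-- Let f : X → Y be a morphism of nonsingular projective varieties over an algebraically closed field
and define f^*α = pr_{X,*}(Γ_f · pr_Y^*α) on Chow groups, with Γ_f ⊂ X × Y the graph and · the
intersection product of the nonsingular projective variety X × Y. If f is flat, f^*α agrees with the
flat pullback of α (relative dimension dim X - dim Y). Here X, Y and X × Y are nonsingular varieties
over the algebraically closed field K (smooth, separated, quasi-compact, integral) embedded as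
closed subschemes of projective spaces over K, with dimension functions the transcendence degree
(Cyc.IsSetup, Cyc.DeltaCompat to Spec K with value 0) and dimensions pinned at the generic points;
the product on CH_*(X × Y) is any mul with ChowOps.IsChowMul (it agrees with the Tor-formula product
IntMult.interProd on properly meeting cycles, which determines it); [Γ_f] is the prime cycle of the
image of the generic point of X under the graph morphism, pr_Y^* and f^* are coefficientwise flat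
pullbacks (Cyc.pullFun), pr_{X,*} is the proper pushforward of a representing cycle, and the two
sides are compared up to rational equivalence on X. (Parts (1)–(3) of the published statement — f^*
is a ring map, functoriality, projection formula — are not stated here.) -/
theorem result (K : Type u) [Field K] [IsAlgClosed K] (X : Scheme.{u}) (fX : X ⟶ Spec (CommRingCat.of K)) [Smooth fX] [IsSeparated fX] [QuasiCompact fX] [IsIntegral X] (δX : X → ℤ) (hX : Cyc.IsSetup X δX) (hδX : Cyc.DeltaCompat fX δX (fun _ => 0)) (dX : ℕ) (hdX : δX (genericPoint X) = dX) (NX : ℕ) (ιX : X ⟶ CohB1.ProjSpace NX K) [IsClosedImmersion ιX] (hιX : ιX ≫ CohB1.ProjSpace.toSpec NX K = fX) (Y : Scheme.{u}) (fY : Y ⟶ Spec (CommRingCat.of K)) [Smooth fY] [IsSeparated fY] [QuasiCompact fY] [IsIntegral Y] (δY : Y → ℤ) (hY : Cyc.IsSetup Y δY) (hδY : Cyc.DeltaCompat fY δY (fun _ => 0)) (dY : ℕ) (hdY : δY (genericPoint Y) = dY) (NY : ℕ) (ιY : Y ⟶ CohB1.ProjSpace NY K) [IsClosedImmersion ιY] (hιY : ιY ≫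 CohB1.ProjSpace.toSpec NY K = fY) (f : X ⟶ Y) (hf : f ≫ fY = fX) [Flat f] [IsIntegral (pullback fX fY)] (δW : ↥(pullback fX fY) → ℤ) (hW : Cyc.IsSetup (pullback fX fY) δW) (hδW : Cyc.DeltaCompat (pullback.fst fX fY ≫ fX) δW (fun _ => 0)) (hdW : δW (genericPoint ↥(pullback fX fY)) = (dX : ℤ) + (dY : ℤ)) (NW : ℕ) (ιW : (pullback fX fY) ⟶ CohB1.ProjSpace NW K) [IsClosedImmersion ιW] (hιW : ιW ≫ CohB1.ProjSpace.toSpec NW K = pullback.fst fX fY ≫ fX) (mul : (r s : ℤ) → ChowOps.CH (pullback fX fY) δW r → ChowOps.CH (pullback fX fY) δW s → ChowOps.CH (pullback fX fY) δW (r + s - ((dX : ℤ) + (dY : ℤ)))) (hmul : ChowOps.IsChowMul (pullback fX fY) δW ((dX : ℤ) + (dY : ℤ)) mul) (γ : AlgebraicCycle (pullback fX fY) ℤ) (hγ : ⇑γ = Set.indicator {(pullback.lift (𝟙 X) f (Eq.trans (Category.id_comp fX) hf.symm)) (genericPoint X)} 1) (hγk : γ ∈ Cyc.Zk (pullback fX fY) δW (dX : ℤ)) (k : ℤ) (α : AlgebraicCycle Y ℤ) (hα : α ∈ Cyc.Zk Y δY k) (αW : AlgebraicCycle (pullback fX fY) ℤ) (hαW : ⇑αW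 = Cyc.pullFun (pullback.snd fX fY) δW δY (dX : ℤ) ⇑α) (hαWk : αW ∈ Cyc.Zk (pullback fX fY) δW (k + dX)) (ζ : AlgebraicCycle (pullback fX fY) ℤ) (hζk : ζ ∈ Cyc.Zk (pullback fX fY) δW ((dX : ℤ) + (k + dX) - ((dX : ℤ) + (dY : ℤ)))) (hζ : ChowOps.cl ζ hζk = mul (dX : ℤ) (k + dX) (ChowOps.cl γ hγk) (ChowOps.cl αW hαWk)) (αX : AlgebraicCycle X ℤ) (hαX : ⇑αX = Cyc.pullFun f δX δY ((dX : ℤ) - (dY : ℤ)) ⇑α) : Cyc.RatEquiv δX (k + dX - dY) (AlgebraicCycle.map (pullback.fst fX fY) δW δX ζ) αX := by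
  classical
  haveI := hX.1
  haveI := hY.1
  haveI := hW.1
  haveI : CompactSpace X := QuasiCompact.compactSpace_of_compactSpace fX
  haveI : CompactSpace Y := QuasiCompact.compactSpace_of_compactSpace fY
  haveI : IsProper (CohB1.ProjSpace.toSpec NY K) := PnCoh.Chow.isProper_toSpec NY K
  haveI : IsProper fY := by rw [← hιY]; infer_instance
  let p := pullback.fst fX fY
  let q := pullback.snd fX fY
  haveI : IsProper p := MorphismProperty.pullback_fst (P := @IsProper) _ _ inferInstance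
  haveI : Smooth q := MorphismProperty.pullback_snd (P := @Smooth) _ _ inferInstance
  haveI : Smooth (p ≫ fX) := inferInstance
  haveI : IsSeparated (p ≫ fX) := inferInstance
  haveI : QuasiCompact (p ≫ fX) := inferInstance
  haveI : CompactSpace ↥(pullback fX fY) := QuasiCompact.compactSpace_of_compactSpace (p ≫ fX)
  haveI : LocallyOfFiniteType f := by
    haveI : LocallyOfFiniteType (f ≫ fY) := by rw [hf]; infer_instance
    exact locallyOfFiniteType_of_comp f fY
  let Γ : X ⟶ pullback fX fY := pullback.lift (𝟙 X) f (Eq.trans (Category.id_comp fX) hf.symm)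
  have hΓp : Γ ≫ p = 𝟙 X := pullback.lift_fst _ _ _
  have hΓq : Γ ≫ q = f := pullback.lift_snd _ _ _
  haveI : IsClosedImmersion (Γ ≫ p) := by rw [hΓp]; infer_instance
  haveI : IsClosedImmersion Γ := IsClosedImmersion.of_comp Γ p
  haveI : Flat (Γ ≫ q) := by rw [hΓq]; infer_instance
  set g0 := Γ (genericPoint X) with hg0
  have hpΓ : ∀ x, p (Γ x) = x := fun x => by rw [← Scheme.Hom.comp_apply, hΓp]; rfl
  have hqΓ : ∀ x, q (Γ x) = f x := fun x => by rw [← Scheme.Hom.comp_apply, hΓq]
  have hΓd : ∀ x, δW (Γ x) = δX x := fun x => by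
    rw [H9Mult.delta_eq _ hδW, H9Mult.delta_eq fX hδX]
    have h := CycLib.rd_comp Γ (p ≫ fX) x
    rw [FibDim.rd_eq_zero_of_quasiFinite Γ, add_zero, ← Category.assoc, hΓp, Category.id_comp] at h
    rw [h]
  have hg0d : δW g0 = dX := (hΓd _).trans hdX
  have hδf : Cyc.DeltaCompat f δX δY := fun x => ⟨FibDim.rd f x, (FibDim.rd_eq_rdeg f x).symm, by
    rw [H9Mult.delta_eq fX hδX, H9Mult.delta_eq fY hδY]
    have h := CycLib.rd_comp f fY x
    rw [hf] at h
    omega⟩
  obtain ⟨hc0, hrel, -⟩ := S17840.result f δX δY hY hδf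
  have hlef : ∀ x, δX x ≤ δY (f x) + ((dX : ℤ) - dY) := fun x => by
    have := H23.FlatShift.le_of_hasRelDim f hrel hδf x
    rw [hdX, hdY] at this hc0
    omega
  have hleq : ∀ z, δW z ≤ δY (q z) + (dX : ℤ) := fun z => by
    have h1 := H9Diag.delta_le_add fX fY hδX hδY hδW z
    have h2 := H9Diag.delta_le_generic fX hδX hdX (pullback.fst fX fY z)
    have h3 : δY (pullback.snd fX fY z) = δY (q z) := rfl
    omega
  have hk : ∀ y, α y ≠ 0 → δY y = k := fun y hy => by_contra fun hne => hy (hα y hne)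
  let sg : Bool → ℤ := fun i => if i then 1 else -1
  let G : Bool → Y.Modules := fun i => Cyc.cycleSheafPos (sg i • ⇑α)
  have hFP : ∀ i, H9ChowK.FinPts (sg i • ⇑α) := fun i U =>
    (H9ChowK.finPts_cycle α U).subset (Set.inter_subset_inter_right _ (Function.support_const_smul_subset _ _))
  have hk' : ∀ i w, (sg i • ⇑α) w ≠ 0 → δY w = k := fun i w hw => hk w fun h0 => hw (by simp [h0])
  have hG := fun i => H9ChowK.cohLe_cycleSheafPos hY.2.2 (hFP i) (hk' i)
  have hαG : ⇑α = Cyc.sheafFun δY k (G true) - Cyc.sheafFun δY k (G false) := by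
    funext w
    rw [Pi.sub_apply, H9ChowK.sheafFun_cycleSheafPos hY.2.2 (hFP true) (hk' true),
      H9ChowK.sheafFun_cycleSheafPos hY.2.2 (hFP false) (hk' false)]
    simp only [sg, Pi.smul_apply, smul_eq_mul, if_true, Bool.false_eq_true, if_false]
    omega
  have pW := fun i => H23.FlatShift.sheafFun_pullback q δW δY hleq k (G i) (hG i).2
  have gW : ∀ i, H9Diag.FinGen (Cyc.pullFun q δW δY dX (Cyc.sheafFun δY k (G i))) := fun i => by
    rw [(pW i).2]
    exact H9Diag.finGen_sheafFun hW.2.2 (ZClosLib.isCoh_pullback q (hG i).1) (pW i).1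
  have pX := fun i => H23.FlatShift.sheafFun_pullback (Γ ≫ q) δX δY (c := (dX : ℤ) - dY)
    (fun x => by rw [hΓq]; exact hlef x) k (G i) (hG i).2
  have hind : Set.indicator {g0} (1 : ↥(pullback fX fY) → ℤ) = Cyc.sheafFun δW dX (Cyc.closureStructureSheaf g0) := by
    funext z
    rw [← hg0d, H9Diag.sheafFun_closure hW.2.2]
    simp [Set.indicator_apply]
  let R : ↥(pullback fX fY) → ℤ := IntMult.interProd δW ((dX : ℤ) + dY) ⇑γ ⇑αW
  have hγ' : ⇑γ = Set.indicator {g0} 1 := hγ
  have hRoff : ∀ z, R z ≠ 0 → ∃ x, Γ x = z := by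
    intro z hz
    by_contra hc
    refine hz (finsum_eq_zero_of_forall_eq_zero ?_)
    rintro ⟨⟨a, b⟩, ha, -, -⟩
    by_contra h00
    have h1 : (⇑γ) a ≠ 0 := left_ne_zero_of_mul (left_ne_zero_of_mul h00)
    rw [hγ'] at h1
    exact hc ((Set.eq_of_mem_singleton (Set.mem_of_indicator_ne_zero h1) ▸ ha : g0 ⤳ z).mem_closed
      Γ.isClosedEmbedding.isClosed_range ⟨_, rfl⟩)
  have hR : ∀ x, R (Γ x) = αX x := by
    intro x
    have key : ∀ i, IntMult.interProd δW ((dX : ℤ) + dY) (Set.indicator {g0} 1)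
        (Cyc.pullFun q δW δY dX (Cyc.sheafFun δY k (G i))) (Γ x) =
        Cyc.pullFun (Γ ≫ q) δX δY ((dX : ℤ) - dY) (Cyc.sheafFun δY k (G i)) x := by
      intro i
      rw [hind, (pW i).2, H9Diag.interProd_sheafFun (p ≫ fX) hδW hdW (Cyc.closureStructureSheaf g0) _
        (H9ChowK.isCoh_closure g0) (ZClosLib.isCoh_pullback q (hG i).1) dX (k + dX)
        (fun z hz => hg0d ▸ CycLib.delta_le hW.2.2 ((H9Diag.nontrivial_closure_iff g0 z).1 hz)) (pW i).1
        (fun z hz hz' => by
          obtain ⟨y, rfl⟩ := ((H9Diag.nontrivial_closure_iff g0 z).1 hz).mem_closed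
            Γ.isClosedEmbedding.isClosed_range ⟨_, rfl⟩
          have h1 := (hG i).2 _ (H23.FlatShift.nontrivial_of_pullback q _ _ hz')
          rw [hqΓ] at h1
          have h2 := hlef y
          rw [hΓd]
          omega) (Γ x), (pX i).2, Cyc.sheafFun]
      beta_reduce
      by_cases hx : δX x = k + ((dX : ℤ) - dY)
      · rw [if_pos (by rw [hΓd]; omega), if_pos hx]
        exact H9Diag.GraphPull.chi_closure_pullback Γ q (G i) x
      · rw [if_neg (by rw [hΓd]; omega), if_neg hx]
    show IntMult.interProd δW ((dX : ℤ) + dY) ⇑γ ⇑αW (Γ x) = _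
    rw [hγ', hαW, hαX, hαG, H9Diag.pullFun_sub, H9Diag.pullFun_sub,
      H9Diag.interProd_sub_right (H9Diag.finGen_cycle γ |> fun h => hγ' ▸ h) (gW true) (gW false),
      Pi.sub_apply, Pi.sub_apply, key true, key false]
    rw [show Γ ≫ q = f from hΓq]
  let ρ : AlgebraicCycle (pullback fX fY) ℤ := ⟨R, Set.subset_univ _, fun z _ => ⟨Set.univ, Filter.univ_mem,
    ((H9ProdCl.finite_support_cycle αX).image Γ).subset fun w hw => by
      obtain ⟨x, rfl⟩ := hRoff w hw.2
      exact ⟨x, fun h0 => hw.2 ((hR x).trans h0), rfl⟩⟩⟩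
  have hαWsupp : ∀ z, αW z ≠ 0 → δW z = k + dX ∧ α (q z) ≠ 0 := fun z hz => by
    rw [hαW, Cyc.pullFun] at hz
    beta_reduce at hz
    split_ifs at hz with h
    · have h1 := left_ne_zero_of_mul hz
      exact ⟨by rw [h, hk _ h1], h1⟩
    · exact absurd rfl hz
  have hprop : IntMult.IntersectProperly δW ((dX : ℤ) + dY) ⇑γ ⇑αW := by
    intro a b z ha hb haz hbz
    rw [hγ'] at ha
    obtain rfl : a = g0 := Set.eq_of_mem_singleton (Set.mem_of_indicator_ne_zero ha)
    obtain ⟨x, rfl⟩ := haz.mem_closed Γ.isClosedEmbedding.isClosed_range ⟨_, rfl⟩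
    obtain ⟨h1, h2⟩ := hαWsupp b hb
    have h3 := CycLib.delta_le hY.2.2 (hbz.map q.continuous)
    rw [hqΓ, hk _ h2] at h3
    have h4 := hlef x
    rw [hΓd, hg0d, h1]
    omega
  have hρk : ρ ∈ Cyc.Zk (pullback fX fY) δW ((dX : ℤ) + (k + dX) - ((dX : ℤ) + (dY : ℤ))) := fun z hz => by
    by_contra h0
    obtain ⟨x, rfl⟩ := hRoff z h0
    have h1 : αX x ≠ 0 := fun h => h0 ((hR x).trans h)
    rw [hαX, Cyc.pullFun] at h1
    beta_reduce at h1
    split_ifs at h1 with h
    · have := hk _ (left_ne_zero_of_mul h1)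
      exact hz (by rw [hΓd]; omega)
    · exact h1 rfl
  have hcl := hmul (dX : ℤ) (k + dX) γ αW hγk hαWk hprop ρ hρk rfl
  rw [← hζ] at hcl
  have hrat := H9PB.ratEquiv_of_cl_eq hW hcl
  have hδp : Cyc.DeltaCompat p δW δX := fun z => ⟨FibDim.rd p z, (FibDim.rd_eq_rdeg p z).symm, by
    rw [H9Mult.delta_eq _ hδW, H9Mult.delta_eq fX hδX]
    have h : FibDim.rd (pullback.fst fX fY ≫ fX) z = _ := CycLib.rd_comp p fX z
    omega⟩
  have hmapρ : AlgebraicCycle.map p δW δX ρ = αX := by
    ext x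
    rw [CycLib.map_apply', finsum_mem_eq_sum_of_inter_support_eq _ (t := {Γ x}) ?_, Finset.sum_singleton]
    · show R (Γ x) * _ = _
      have hmc : AlgebraicCycle.mapCoeff p δW δX (Γ x) = 1 := by
        rw [AlgebraicCycle.mapCoeff, if_pos (by rw [hpΓ, hΓd])]
        have h1 := CycLib.residueDegree_comp Γ p x
        rw [hΓp, CycLib.residueDegree_preimmersion Γ, CycLib.residueDegree_preimmersion (𝟙 X)] at h1
        simpa using h1.symm
      rw [hmc, Nat.cast_one, mul_one, hR]
    · ext w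
      simp only [Set.mem_inter_iff, Set.mem_preimage, Set.mem_singleton_iff, Function.mem_support, Finset.coe_singleton]
      constructor
      · rintro ⟨hwx, hne0⟩
        refine ⟨?_, hne0⟩
        obtain ⟨y, rfl⟩ := hRoff w (left_ne_zero_of_mul hne0)
        rw [hpΓ] at hwx
        rw [hwx]
      · rintro ⟨rfl, hne0⟩
        exact ⟨hpΓ x, hne0⟩
  have hfinal := CycLib.ratEquiv_map p hW hX hδp hrat
  rw [hmapρ, show ((dX : ℤ) + (k + dX) - ((dX : ℤ) + (dY : ℤ))) = k + dX - dY by ring] at hfinal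
  exact hfinal

end Groth.Agent.S12676
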