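import Groth.Statements.S1268
import Groth.Agent.H4RG.OpenPiece
-- import your own Groth.Agent.* helpers here

set_option autoImplicit false
set_option backward.isDefEq.respectTransparency.types false
set_option linter.style.haveILetI false
universe u
open FlatMor
open scoped TensorProduct
attribute [local instance] Algebra.TensorProduct.rightAlgebra

namespace Groth.Agent.S1268

open AlgebraicGeometry CategoryTheory TensorProduct in
/-- Ring form, X = Spec S and S = Spec R affine: let S be a finitely presented R-algebra, N a finitely
presented S-module and q a prime of S over p with N_q flat over R. Then there is an étale R-algebra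
R' with a prime p' over p having the same residue field such that, for the base changes S', N' of S,
N to R' (any models), there is an S'-algebra C with Spec C → Spec S' an open immersion (an affine
open U' of X ×_S S'), containing a point lying over both q and p' (there is exactly one such point
of X ×_S S'), such that C ⊗_{S'} N' (the sections of the pulled-back module over U') is a projective
R'-module. -/
theorem result {R S : Type u} [CommRing R] [CommRing S] [Algebra R S] [Algebra.FinitePresentation R S]
    (N : Type u) [AddCommGroup N] [Module S N] [Module R N] [IsScalarTower R S N] [Module.FinitePresentation S N]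
    (p : Ideal R) [p.IsPrime] (q : Ideal S) [q.IsPrime] [q.LiesOver p] (hflat : FlatCA.FlatAt R q N) :
    ∃ (R' : Type u) (_ : CommRing R') (_ : Algebra R R') (p' : Ideal R') (_ : p'.IsPrime), FlatCA.IsEtaleNhd R R' p p' ∧
      ∀ (S' N' : Type u) [CommRing S'] [Algebra R S'] [Algebra S S'] [Algebra R' S'] [IsScalarTower R S S'] [IsScalarTower R R' S']
        [Algebra.IsPushout R S R' S']
        [AddCommGroup N'] [Module S' N'] [Module S N'] [IsScalarTower S S' N']
        (f : N →ₗ[S] N'), IsBaseChange S' f →
        ∃ (C : Type u) (_ : CommRing C) (_ : Algebra S' C) (_ : Algebra R' C) (_ : IsScalarTower R' S' C)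
          (x' : Ideal C) (_ : x'.IsPrime),
          IsOpenImmersion (Spec.map (CommRingCat.ofHom (algebraMap S' C))) ∧
          (x'.comap (algebraMap S' C)).LiesOver q ∧ (x'.comap (algebraMap S' C)).LiesOver p' ∧
          Module.Projective R' (RestrictScalars R' C (C ⊗[S'] N')) := by
  classical
  let K := p.ResidueField
  let L := q.ResidueField
  let m : K →ₐ[R] L := Ideal.ResidueField.mapₐ p q (Algebra.ofId R S) (q.over_def p)
  letI : Algebra K L := m.toRingHom.toAlgebra
  haveI : IsScalarTower R K L := IsScalarTower.of_algebraMap_eq fun r => (m.commutes r).symm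
  obtain ⟨R', _, _, _, ε, g1, hg1⟩ := H4RG.spreads_of_flat (K := K) (L := L) (H4RG.fracPoint_residueField p) q
    (Ideal.ker_algebraMap_residueField q) N hflat
  letI := ε.toRingHom.toAlgebra
  haveI : (RingHom.ker ε).IsPrime := RingHom.ker_isPrime _
  have het := H4RG.isEtaleNhd_of_point p ε _ rfl
  refine ⟨R', inferInstance, inferInstance, RingHom.ker ε, inferInstance, het, ?_⟩
  intro S' N' _ _ _ _ _ _ _ _ _ _ _ f hf
  haveI : Algebra.IsPushout R R' S S' := Algebra.IsPushout.symm inferInstance
  let SA := R' ⊗[R] S
  let e : SA ≃ₐ[R'] S' := Algebra.IsPushout.equiv R R' S S'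
  let φ : S' →+* L := (H4RG.pt L S ε).toRingHom.comp e.symm.toRingEquiv.toRingHom
  let g := e g1
  let C := Localization.Away g
  have hu : ∀ y : Submonoid.powers g, IsUnit (φ y) := by
    rintro ⟨_, n, rfl⟩
    show IsUnit (H4RG.pt L S ε (e.symm (e g1 ^ n)))
    rw [map_pow e.symm, e.symm_apply_apply, map_pow]
    exact (isUnit_iff_ne_zero.2 fun h0 => H4RG.Good.notMem hg1 (RingHom.mem_ker.2 h0)).pow n
  let φ' : C →+* L := IsLocalization.lift hu
  let x' := RingHom.ker φ'
  haveI : x'.IsPrime := RingHom.ker_isPrime _
  have hx : ∀ z : S', z ∈ x'.comap (algebraMap S' C) ↔ H4RG.pt L S ε (e.symm z) = 0 := fun z => by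
    rw [Ideal.mem_comap, RingHom.mem_ker, IsLocalization.lift_eq hu]
    rfl
  refine ⟨C, inferInstance, inferInstance, inferInstance, inferInstance, x', inferInstance,
    AlgebraicGeometry.IsOpenImmersion.of_isLocalization g, ⟨?_⟩, ⟨?_⟩, ?_⟩
  · ext s
    rw [Ideal.under_def, Ideal.mem_comap, hx, Algebra.IsPushout.equiv_symm_algebraMap_right, H4RG.pt_tmul, map_one,
      map_one, one_mul, Ideal.algebraMap_residueField_eq_zero]
  · ext a
    rw [Ideal.under_def, Ideal.mem_comap, hx, AlgEquiv.commutes e.symm, Algebra.TensorProduct.algebraMap_apply,
      H4RG.pt_tmul, map_one, mul_one, RingHom.mem_ker]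
    exact (map_eq_zero (algebraMap K L)).symm
  · have hproj := H4RG.Good.proj hg1
    let NA := SA ⊗[S] N
    letI : Algebra SA S' := e.toRingHom.toAlgebra
    haveI : IsScalarTower R' SA S' := IsScalarTower.of_algebraMap_eq fun a => (e.commutes a).symm
    haveI : IsScalarTower S SA S' := IsScalarTower.of_algebraMap_eq fun s => by
      show _ = e ((1 : R') ⊗ₜ[R] s)
      rw [Algebra.IsPushout.equiv_tmul, map_one, one_mul]
    letI : Module R' N' := Module.compHom N' (algebraMap R' S')
    haveI : IsScalarTower R' S' N' := IsScalarTower.of_algebraMap_smul fun _ _ => rfl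
    letI : Module SA N' := Module.compHom N' (algebraMap SA S')
    haveI : IsScalarTower SA S' N' := IsScalarTower.of_algebraMap_smul fun _ _ => rfl
    haveI : IsScalarTower S SA N' := IsScalarTower.of_algebraMap_smul fun s y => by
      show algebraMap SA S' (algebraMap S SA s) • y = s • y
      rw [← IsScalarTower.algebraMap_apply, algebraMap_smul]
    haveI : IsScalarTower R' SA N' := IsScalarTower.of_algebraMap_smul (R := R') (A := SA) (M := N') fun a y => by
      show algebraMap SA S' (algebraMap R' SA a) • y = a • y
      rw [← IsScalarTower.algebraMap_apply, algebraMap_smul]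
    let μ : NA →ₗ[SA] N' := (TensorProduct.isBaseChange S N SA).lift f
    have hμ : ∀ n, μ ((1 : SA) ⊗ₜ[S] n) = f n := fun n => (TensorProduct.isBaseChange S N SA).lift_eq f n
    have hμb : Function.Bijective μ := by
      let E : NA ≃ₗ[R'] N' := ((Algebra.IsPushout.cancelBaseChange R R' S SA N).trans
        (Algebra.IsPushout.cancelBaseChange R R' S S' N).symm).trans (hf.equiv.restrictScalars R')
      have hE : (μ : NA → N') = E := funext fun w => by
        obtain ⟨z, rfl⟩ := (Algebra.IsPushout.cancelBaseChange R R' S SA N).symm.surjective w
        show μ _ = hf.equiv ((Algebra.IsPushout.cancelBaseChange R R' S S' N).symm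
          (Algebra.IsPushout.cancelBaseChange R R' S SA N ((Algebra.IsPushout.cancelBaseChange R R' S SA N).symm z)))
        rw [LinearEquiv.apply_symm_apply]
        induction z using TensorProduct.induction_on with
        | zero => simp
        | add a b ha hb => simp only [map_add, ha, hb]
        | tmul a n =>
          rw [Algebra.IsPushout.cancelBaseChange_symm_tmul, Algebra.IsPushout.cancelBaseChange_symm_tmul,
            ← mul_one (algebraMap R' SA a), ← smul_eq_mul, ← smul_tmul', map_smul, hμ, hf.equiv_tmul, algebraMap_smul,
            algebraMap_smul]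
      rw [hE]; exact E.bijective
    haveI := H4RG.isLocalizedModule_powers_image (S := S') (M := N') g1
    let W := Submonoid.powers g1
    let i' := (LocalizedModule.mkLinearMap (Submonoid.powers g) N').restrictScalars SA
    haveI : IsLocalizedModule W i' := H4RG.isLocalizedModule_powers_image (S := S') (M := N') g1
    let eμ := LinearEquiv.ofBijective μ hμb
    haveI : IsLocalizedModule W (i' ∘ₗ eμ.toLinearMap) := inferInstance
    let E' := (IsLocalizedModule.linearEquiv W (LocalizedModule.mkLinearMap W NA) (i' ∘ₗ eμ.toLinearMap)).restrictScalars R'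
    haveI : Module.Projective R' (LocalizedModule (Submonoid.powers g) N') := Module.Projective.of_equiv E'
    obtain ⟨e'⟩ := H4RG.exists_open_equiv (A := R') N' g
    exact Module.Projective.of_equiv e'

end Groth.Agent.S1268
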