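import Groth.Statements.S1271
-- import your own Groth.Agent.* helpers here
import Groth.Agent.H4RG.EtaleFitting

set_option backward.isDefEq.respectTransparency.types false

set_option autoImplicit false
universe u
open FlatMor

namespace Groth.Agent.S1271

/-- Let A → B be an étale ring map, a ∈ A a nonzerodivisor and J a finitely generated ideal of B with
V(J) ⊆ V(aB), i.e. a lies in the radical of J. Then for every prime q of B there exist a finitely
generated ideal I of A with V(I) ⊆ V(a), an element g of B outside q, and a finitely generated ideal
J' of the localization B_g such that the extension of I to B_g equals the product of the extension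
of J with J'. -/
theorem result {A B : Type u} [CommRing A] [CommRing B] [Algebra A B] [Algebra.Etale A B]
    (a : A) (ha : a ∈ nonZeroDivisors A) (J : Ideal B) (hJ : J.FG) (hJa : algebraMap A B a ∈ J.radical)
    (q : Ideal B) [q.IsPrime] :
    ∃ (I : Ideal A) (g : B) (J' : Ideal (Localization.Away g)), I.FG ∧ a ∈ I.radical ∧ g ∉ q ∧ J'.FG ∧
      I.map (algebraMap A (Localization.Away g)) = J.map (algebraMap B (Localization.Away g)) * J' := by
  obtain ⟨g, hgq, hse⟩ := Algebra.IsEtaleAt.exists_isStandardEtale (R := A) q
  haveI := hse
  obtain ⟨P⟩ := Algebra.IsStandardEtale.nonempty_standardEtalePresentation (R := A) (S := Localization.Away g)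
  let C := AdjoinRoot P.f
  let h : C := AdjoinRoot.mk P.f P.g
  let E : Localization.Away h ≃ₐ[A] Localization.Away g :=
    (P.P.equivAwayAdjoinRoot.symm.trans P.equivRing.symm)
  letI : Algebra C (Localization.Away g) := (E.toAlgHom.toRingHom.comp (algebraMap C (Localization.Away h))).toAlgebra
  haveI : IsScalarTower A C (Localization.Away g) := IsScalarTower.of_algebraMap_eq fun x => by
    show _ = E (algebraMap C (Localization.Away h) (algebraMap A C x))
    rw [← IsScalarTower.algebraMap_apply, AlgEquiv.commutes]
  haveI : IsLocalization.Away h (Localization.Away g) :=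
    IsLocalization.isLocalization_of_algEquiv (Submonoid.powers h)
      (S := Localization.Away h) (P := Localization.Away g)
      { E with commutes' := fun c => rfl }
  haveI : Module.Free A C := Module.Free.of_basis (AdjoinRoot.powerBasis' P.monic_f).basis
  haveI : Module.Finite A C := P.monic_f.finite_adjoinRoot
  haveI : Module.FinitePresentation A C := Module.finitePresentation_of_projective A C
  obtain ⟨I, J', hI, haI, hJ', heq⟩ := Groth.Agent.H4RG.exists_ideal_mul_eq (A := A) (C := C)
    (B := Localization.Away g) h a (J.map (algebraMap B (Localization.Away g))) (hJ.map _) (by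
      obtain ⟨n, hn⟩ := hJa
      exact ⟨n, by
        rw [IsScalarTower.algebraMap_apply A B (Localization.Away g), ← map_pow]
        exact Ideal.mem_map_of_mem _ hn⟩)
  exact ⟨I, g, J', hI, haI, hgq, hJ', heq⟩

end Groth.Agent.S1271
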