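import Groth.Statements.S1279
import Groth.Agent.BlowSep.Basic

set_option autoImplicit false
universe u
open FlatMor

namespace Groth.Agent.S1279

open AlgebraicGeometry CategoryTheory Limits Topology in
/-- Let X be a quasi-compact and quasi-separated scheme, U ⊆ X a quasi-compact open, and T₁, T₂ ⊆ U
disjoint subsets which are closed and constructible in U. Then there is a U-admissible blow-up b :
X' → X such that the closures in X' of the preimages of T₁ and T₂ are disjoint. (Part (1), about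
strict transforms of closed subschemes, is not stated.) -/
theorem result {X : Scheme.{u}} [CompactSpace X] [QuasiSeparatedSpace X]
    (U : X.Opens) (hU : IsCompact (U : Set X)) (T₁ T₂ : Set U)
    (h₁ : IsClosed T₁) (h₂ : IsClosed T₂) (c₁ : IsConstructible T₁) (c₂ : IsConstructible T₂) (hd : Disjoint T₁ T₂) :
    ∃ (𝓘 : X.IdealSheafData) (X' : Scheme.{u}) (b : X' ⟶ X), BlowUp.IsBlowUp b 𝓘 ∧ BlowUp.IsAdmissibleFor U 𝓘 ∧
      Disjoint (closure (b.base ⁻¹' (Subtype.val '' T₁))) (closure (b.base ⁻¹' (Subtype.val '' T₂))) := by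
  have : CompactSpace U := isCompact_iff_compactSpace.1 hU
  have : QuasiSeparatedSpace U := U.2.isOpenEmbedding_subtypeVal.quasiSeparatedSpace
  have : PrespectralSpace U := U.2.isOpenEmbedding_subtypeVal.prespectralSpace
  have hW : ∀ T : Set U, IsClosed T → IsConstructible T →
      ∃ J : X.IdealSheafData, BlowUp.IsFiniteTypeIdeal J ∧
        (J.support : Set X) = (Subtype.val '' Tᶜ)ᶜ := fun T hT cT =>
    BlowSep.exists_fg_support ⟨_, U.2.isOpenMap_subtype_val _ hT.isOpen_compl⟩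
      ((BlowSep.isCompact_of_isConstructible cT.compl).image continuous_subtype_val)
  obtain ⟨J₁, hJ₁, s₁⟩ := hW T₁ h₁ c₁
  obtain ⟨J₂, hJ₂, s₂⟩ := hW T₂ h₂ c₂
  obtain ⟨X', b, hb⟩ := BlowUpLib.exists_blowUp (J₁ ⊔ J₂)
  have hT : ∀ (T : Set U) (x : U), (x : X) ∈ (Subtype.val '' Tᶜ)ᶜ ↔ x ∈ T := fun T x => by
    exact ⟨fun h => Classical.byContradiction fun h' => h ⟨x, h', rfl⟩,
      fun h ⟨y, hy, hyx⟩ => hy (Subtype.ext hyx ▸ h)⟩
  refine ⟨J₁ ⊔ J₂, X', b, hb, ⟨fun V => Submodule.FG.sup (hJ₁ V) (hJ₂ V), ?_⟩, ?_⟩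
  · rw [Scheme.IdealSheafData.support_sup, TopologicalSpace.Closeds.coe_inf, s₁, s₂,
      Set.disjoint_left]
    rintro x ⟨hx₁, hx₂⟩ hxU
    exact Set.disjoint_left.1 hd ((hT T₁ ⟨x, hxU⟩).1 hx₁) ((hT T₂ ⟨x, hxU⟩).1 hx₂)
  · have h := hb.1
    rw [Scheme.IdealSheafData.comap_sup] at h
    have hmem : ∀ (T T' : Set U) (J J' : X.IdealSheafData), (J.support : Set X) = (Subtype.val '' Tᶜ)ᶜ →
        (J'.support : Set X) = (Subtype.val '' T'ᶜ)ᶜ → Disjoint T T' →
        b.base ⁻¹' (Subtype.val '' T) ⊆ ((J.comap b).support : Set X') \ (J'.comap b).support := by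
      intro T T' J J' s s' d x ⟨t, ht, htx⟩
      simp only [Scheme.IdealSheafData.support_comap, Set.mem_sdiff]
      constructor
      · show b x ∈ (J.support : Set X)
        rw [s, ← htx]
        exact (hT T t).2 ht
      · intro h'
        have h' : b x ∈ (J'.support : Set X) := h'
        rw [s', ← htx] at h'
        exact Set.disjoint_left.1 d ht ((hT T' t).1 h')
    exact (BlowSep.disjoint_closure_of_isEffCartier _ _ h).mono
      (closure_mono (hmem T₁ T₂ J₁ J₂ s₁ s₂ hd))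
      (closure_mono (hmem T₂ T₁ J₂ J₁ s₂ s₁ hd.symm))

end Groth.Agent.S1279
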