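import Groth.Statements.S1285
-- import your own Groth.Agent.* helpers here
import Groth.Agent.H4RG.DevissageBasis

set_option backward.isDefEq.respectTransparency.types false

set_option autoImplicit false
universe u
open FlatMor

namespace Groth.Agent.S1285

open TensorProduct

/-- Let (C, D, G) be a one-step dévissage of N/S/R over the prime p (see FlatCA.IsOneStepDevissage), and
suppose pD is prime (the generic point of the fibre of Spec D). Then there are r > 0 and a D-linear
map α from D^r to G which becomes bijective after base change to the residue field of pD; moreover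
for every such α the support of the fibre module over p of the cokernel of α has dimension strictly
less than that of the fibre module of N. -/
theorem result {R S : Type u} [CommRing R] [CommRing S] [Algebra R S] [Algebra.FiniteType R S]
    (N : Type u) [AddCommGroup N] [Module S N] [Module R N] [IsScalarTower R S N] [Module.Finite S N] (p : Ideal R) [p.IsPrime]
    (C D G : Type u) [CommRing C] [CommRing D] [Algebra S C] [Algebra R C] [IsScalarTower R S C]
    [Algebra R D] [Algebra D C] [IsScalarTower R D C] [AddCommGroup G] [Module C G] [Module S G] [IsScalarTower S C G]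
    [Module D G] [IsScalarTower D C G] [Module R G] [IsScalarTower R D G]
    (n : ℕ) (h : FlatCA.IsOneStepDevissage R S N p C D G n) [(p.map (algebraMap R D)).IsPrime] :
    (∃ (r : ℕ) (α : (Fin r → D) →ₗ[D] G), 0 < r ∧ Function.Bijective (α.baseChange (p.map (algebraMap R D)).ResidueField)) ∧
    ∀ (r : ℕ) (α : (Fin r → D) →ₗ[D] G), Function.Bijective (α.baseChange (p.map (algebraMap R D)).ResidueField) →
      Module.supportDim (p.Fiber D) (FlatCA.fiberMod p D (G ⧸ LinearMap.range α)) < (n : WithBot ℕ∞) := by
  obtain ⟨⟨eN⟩, hsurj, -, hDC, hCG, hsm, -, hdim⟩ := h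
  haveI := hDC
  haveI := hCG
  haveI : Module.Finite D G := Module.Finite.trans C G
  haveI : Module.Finite S C := Module.Finite.of_surjective (Algebra.linearMap S C) hsurj
  have hS : Order.krullDim (Groth.Agent.H4RG.suppOver D p G) = (n : WithBot ℕ∞) := by
    rw [← hdim, Groth.Agent.H4RG.supportDim_fiberMod, Groth.Agent.H4RG.krullDim_suppOver_of_finite (X := D) (Y := C),
      ← Groth.Agent.H4RG.krullDim_suppOver_of_finite (X := S) (Y := C)]
    unfold Groth.Agent.H4RG.suppOver
    rw [eN.annihilator_eq]
  let Q0 : PrimeSpectrum D := ⟨p.map (algebraMap R D), inferInstance⟩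
  obtain ⟨q0, hq0⟩ : (Groth.Agent.H4RG.suppOver D p G).Nonempty := by
    by_contra hne
    haveI : IsEmpty (Groth.Agent.H4RG.suppOver D p G) := by
      rw [Set.isEmpty_coe_sort]; exact Set.not_nonempty_iff_eq_empty.1 hne
    rw [Order.krullDim_eq_bot] at hS
    exact absurd hS.symm (WithBot.coe_ne_bot)
  have hQ0p : Q0.asIdeal.comap (algebraMap R D) = p :=
    le_antisymm (le_of_le_of_eq (Ideal.comap_mono (Ideal.map_le_iff_le_comap.2 hq0.1.ge)) hq0.1) Ideal.le_comap_map
  have hle : ∀ q : PrimeSpectrum D, q.asIdeal.comap (algebraMap R D) = p → Q0.asIdeal ≤ q.asIdeal :=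
    fun q hq => Ideal.map_le_iff_le_comap.2 hq.ge
  have hfib : ∀ (G' : Type u) [AddCommGroup G'] [Module D G'], Q0 ∉ Groth.Agent.H4RG.suppOver D p G' →
      Order.krullDim (Groth.Agent.H4RG.suppOver D p G') < (n : WithBot ℕ∞) := fun G' _ _ hnot =>
    Groth.Agent.H4RG.krullDim_lt_of_forall_gt (Groth.Agent.FibDim.fib (B := D) ⟨p, inferInstance⟩)
      (Groth.Agent.H4RG.suppOver D p G') Q0 (PrimeSpectrum.ext hQ0p) (fun q hq => PrimeSpectrum.ext hq.1)
      (fun q hq => lt_of_le_of_ne (hle q hq.1) fun heq => hnot (heq ▸ hq))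
      (Groth.Agent.H4RG.krullDim_fib_le n hsm _)
  have hG : Q0 ∈ Module.support D G := by
    rw [Module.support_eq_zeroLocus]
    by_contra hnot
    exact absurd hS (hfib G fun hmem => hnot hmem.2).ne
  have hnt : Nontrivial (Q0.asIdeal.ResidueField ⊗[D] G) :=
    (Module.mem_support_iff_nontrivial_residueField_tensorProduct (M := G) Q0).1 hG
  refine ⟨?_, fun r α hα => ?_⟩
  · obtain ⟨r, α, hr, hb⟩ := Groth.Agent.H4RG.exists_baseChange_bijective (D := D) G (p.map (algebraMap R D)).ResidueField
    exact ⟨r, α, hr ▸ Module.finrank_pos (h := hnt), hb⟩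
  · rw [Groth.Agent.H4RG.supportDim_fiberMod]
    refine hfib _ fun hmem => ?_
    have hmem' : Q0 ∈ Module.support D (G ⧸ LinearMap.range α) := by
      rw [Module.support_eq_zeroLocus]; exact hmem.2
    haveI := (Module.mem_support_iff_nontrivial_residueField_tensorProduct (M := G ⧸ LinearMap.range α) Q0).1 hmem'
    refine not_subsingleton (Q0.asIdeal.ResidueField ⊗[D] (G ⧸ LinearMap.range α)) ⟨fun a b => ?_⟩
    have hz : ∀ z : Q0.asIdeal.ResidueField ⊗[D] (G ⧸ LinearMap.range α), z = 0 := fun z => by
      obtain ⟨w, rfl⟩ := LinearMap.lTensor_surjective Q0.asIdeal.ResidueField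
        (Submodule.mkQ_surjective (LinearMap.range α)) z
      obtain ⟨v, rfl⟩ := hα.2 w
      show ((LinearMap.range α).mkQ.lTensor _) (α.lTensor _ v) = 0
      rw [← LinearMap.comp_apply, ← LinearMap.lTensor_comp, LinearMap.range_mkQ_comp, LinearMap.lTensor_zero,
        LinearMap.zero_apply]
    rw [hz a, hz b]

end Groth.Agent.S1285
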