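import Groth.Statements.S1291
-- import your own Groth.Agent.* helpers here
import Groth.Agent.H4RG.EtaleFitting

set_option backward.isDefEq.respectTransparency.types false

set_option autoImplicit false
universe u
open FlatMor

namespace Groth.Agent.S1291

/-- Let A → C be finite locally free of rank d (C a finite projective A-module of constant rank d), h ∈
C such that C_h is étale over A, and J an ideal of C. Let I be the zeroth Fitting ideal of C/J
regarded as a finite A-module. Then the extension of I to C_h equals J·J' for some ideal J' of C_h
(J extended to C_h); and if J is finitely generated then so are I and J'. -/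
theorem result {A C : Type u} [CommRing A] [CommRing C] [Algebra A C] [Module.Finite A C] [Module.Projective A C]
    (d : ℕ) (hd : ∀ p : PrimeSpectrum A, Module.rankAtStalk (R := A) C p = d)
    (h : C) [Algebra.Etale A (Localization.Away h)] (J : Ideal C) :
    ∃ J' : Ideal (Localization.Away h),
      (FlatCA.fittingZero A (C ⧸ J)).map (algebraMap A (Localization.Away h)) = J.map (algebraMap C (Localization.Away h)) * J' ∧
      (J.FG → (FlatCA.fittingZero A (C ⧸ J)).FG ∧ J'.FG) := by
  have hF : FlatCA.fittingZero A (C ⧸ J) = Fitt.ideal A (C ⧸ J) 0 := congrArg Ideal.span (Set.ext fun d =>
    exists_congr fun n => exists_congr fun x => exists_congr fun a => and_congr_right fun _ =>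
      and_congr_left fun _ => ⟨fun hh i _ => hh i, fun hh i => hh i (by simp)⟩)
  rw [hF]
  haveI : Module.FinitePresentation A C := Module.finitePresentation_of_projective A C
  exact Groth.Agent.H4RG.exists_fitting_mul (A := A) (C := C) (B := Localization.Away h) h J

end Groth.Agent.S1291
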