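import Groth.Statements.S12912
import Groth.Agent.CurveCohLib.Clifford
import Groth.Agent.CurveCohLib.Skyscraper
import Groth.Agent.CurveEmbed.P1
import Groth.Agent.InvX.Pullback
import Groth.Agent.PicClLib.Basic

set_option linter.style.haveILetI false
set_option backward.isDefEq.respectTransparency false
set_option backward.isDefEq.respectTransparency.types false
set_option autoImplicit false
universe u
open CategoryTheory CategoryTheory.Limits AlgebraicGeometry
open Curves

namespace Groth.Agent.S12912

/-- Let k be an algebraically closed field and X a curve over k (integral, proper over k, of dimension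
one) with a closed immersion i : X → P^r_k over k whose image lies in no hyperplane: every nonzero
global section of O(1) on P^r_k pulls back to a nonzero global section of i^* O(1). Then deg i^*
O(1) ≥ r. -/
theorem result (k : Type u) [Field k] [IsAlgClosed k] (r : ℕ)
    (X : Scheme.{u}) [X.Over (Spec (CommRingCat.of k))] [IsIntegral X] [IsProper (X ↘ (Spec (CommRingCat.of k)))]
    (hdim : topologicalKrullDim X = 1)
    (i : X ⟶ CohB1.ProjSpace r k) [IsClosedImmersion i]
    (hi : i ≫ CohB1.ProjSpace.toSpec r k = (X ↘ (Spec (CommRingCat.of k))))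
    (hplane : ∀ s : LinSer.Sect (CohB1.ProjSpace r k) (Twist.twistProjSpace r k 1), s ≠ 0 →
      OmegaSh.pullSect i (Twist.twistProjSpace r k 1) ⊤ s ≠ 0) :
    (r : ℤ) ≤ Curv2.deg k X ((Scheme.Modules.pullback i).obj (Twist.twistProjSpace r k 1)) 1 := by
  haveI := CurveCohLib.isNoetherian_of_proper (k := k) (X := X)
  let P := CohB1.ProjSpace r k
  letI : P.Over (Spec (CommRingCat.of k)) := ⟨CohB1.ProjSpace.toSpec r k⟩
  let M : P.Modules := Twist.twistProjSpace r k 1
  let L : X.Modules := (Scheme.Modules.pullback i).obj M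
  have hM : PicF.IsInvertible M :=
    PnCoh.Finite.isInvertible_twist (fun j : ULift.{u} (Fin (r + 1)) => MvPolynomial.X j.down)
      (fun j => ProjPt.X_mem j.down) (by
        refine top_le_iff.1 ((AmpleEmbed.iSup_basicOpen_X r k).ge.trans (iSup_le fun j => ?_))
        exact le_iSup_of_le (ULift.up j) le_rfl) (1 : ℤ)
  have hL : PicF.IsInvertible L := PicClLib.isInvertible_pullback i hM
  haveI := CurveCohLib.finite_HH (k := k) (CurveDeg.isCoh_of_isInvertible hL) 0
  haveI := CurveCohLib.finite_HH (k := k) (QCoh.isCoh_structureModule' (X := X)) 1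
  let eM : Coh.HH P M 0 ≃+ Γ(M, ⊤) := Sheaf.H.equiv₀ (Coh.toAb M) isTerminalTop
  let eL : Coh.HH X L 0 ≃+ Γ(L, ⊤) := Sheaf.H.equiv₀ (Coh.toAb L) isTerminalTop
  let φ : Coh.HH P M 0 →ₗ[k] Coh.HH X L 0 :=
    { toFun := fun t => eL.symm (OmegaSh.pullSect i M ⊤ (eM t))
      map_add' := fun s t => by simp only [map_add]
      map_smul' := fun a t => by
        refine eL.injective ((AddEquiv.apply_symm_apply eL _).trans ?_)
        refine Eq.trans ?_ (CurveCohLib.h0Equiv_smul (k := k) L a _).symm
        refine Eq.trans (congrArg (OmegaSh.pullSect i M ⊤) (CurveCohLib.h0Equiv_smul (k := k) M a t)) ?_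
        refine (Scheme.Modules.Hom.app_smul ((Scheme.Modules.pullbackPushforwardAdjunction i).unit.app M) _ _).trans ?_
        refine congrArg₂ (fun (u : Γ(X, ⊤)) (v : Γ(L, ⊤)) => u • v) ?_ (AddEquiv.apply_symm_apply eL _).symm
        show i.appTop ((CohB1.ProjSpace.toSpec r k).appTop ((Scheme.ΓSpecIso (CommRingCat.of k)).inv a)) = _
        rw [← CommRingCat.comp_apply, ← Scheme.Hom.comp_appTop, hi]
        show _ = (X.presheaf.map (𝟙 (Opposite.op ⊤))) _
        rw [X.presheaf.map_id]
        rfl }
  have hφ : Function.Injective φ := (injective_iff_map_eq_zero φ).2 fun t ht => by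
    by_contra ht0
    refine hplane (eM t) (fun h => ht0 (eM.injective (h.trans (map_zero eM).symm))) ?_
    have h := congrArg eL ht
    exact (AddEquiv.apply_symm_apply eL _).symm.trans (h.trans (map_zero eL))
  obtain ⟨ψ⟩ := S0843.result k r 1
  haveI : Module.Finite k (Coh.HH P M 0) := Module.Finite.of_injective φ hφ
  haveI : Module.Finite k ↥(MvPolynomial.homogeneousSubmodule (Fin (r + 1)) k 1) :=
    Module.Finite.equiv ψ
  have hcard : r + 1 ≤ Module.finrank k ↥(MvPolynomial.homogeneousSubmodule (Fin (r + 1)) k 1) := by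
    have hli : LinearIndependent k (fun j : Fin (r + 1) =>
        (⟨MvPolynomial.X j, MvPolynomial.isHomogeneous_X k j⟩ :
          ↥(MvPolynomial.homogeneousSubmodule (Fin (r + 1)) k 1))) :=
      LinearIndependent.of_comp (MvPolynomial.homogeneousSubmodule (Fin (r + 1)) k 1).subtype
        (MvPolynomial.linearIndependent_X _ _)
    simpa using hli.fintype_card_le_finrank
  have hsec : r + 1 ≤ Module.finrank k (Coh.HH X L 0) :=
    hcard.trans (ψ.finrank_eq.symm.le.trans (LinearMap.finrank_le_finrank_of_injective hφ))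
  obtain ⟨s, hs⟩ := CurveRR.exists_hom_ne_zero k (P := L) (by omega)
  obtain ⟨hmono, hrk⟩ := CurveCohLib.Nonspecial.section_of_sub k (CurveDeg.isCoh_of_isInvertible hL) hL (𝟙 L) s hs
  haveI := hmono
  have hsur := CurveCohLib.Nonspecial.surjective_mapLin k hdim QCoh.isCoh_structureModule'
    (CurveDeg.isCoh_of_isInvertible hL) s hrk
  have h1 : Module.finrank k (Coh.HH X L 1) ≤ Curv2.genus k X :=
    LinearMap.finrank_le_finrank_of_surjective hsur
  have hdeg := CurveCohLib.Clifford.deg_eq k hdim hL
  show (r : ℤ) ≤ Curv2.deg k X L 1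
  omega

end Groth.Agent.S12912
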