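import Groth.Statements.S12913
import Groth.Agent.HilbPoly.Simple
import Groth.Agent.TFQuot.Basic
import Groth.Agent.KFlatLib.Perfect.LocFree
import Groth.Agent.Lib.CurveStable
import Groth.Agent.Lib.CurveDualPrep
import Groth.Agent.CurveCohLib.RegularCurve
import Groth.Agent.ParShLib.Degree
import Groth.Agent.ConsPropLib.FibreLocFreeRank

set_option autoImplicit false
set_option linter.style.haveILetI false
set_option backward.isDefEq.respectTransparency false
set_option backward.isDefEq.respectTransparency.types false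
set_option maxHeartbeats 1000000
-- import your own Groth.Agent.* helpers here

set_option autoImplicit false
universe u
open CategoryTheory CategoryTheory.Limits AlgebraicGeometry
open Curves

namespace Groth.Agent.S12913

open Groth.Agent Groth.Agent.CurveStable

/-- A bundle without sections, embedded through a family of forms, has a form with proper nonzero image. -/
theorem exists_form (k : Type u) [Field k] [IsAlgClosed k] {X : Scheme.{u}} [X.Over (Spec (CommRingCat.of k))]
    [IsIntegral X] [IsProper (X ↘ Spec (CommRingCat.of k))] [Smooth (X ↘ Spec (CommRingCat.of k))]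
    (hdim : topologicalKrullDim X = 1) (m : ℕ) : ∀ {N : X.Modules}, FlatMod.IsFinLocFree N → ¬ IsZero N →
      (∀ s : LinSer.Sect X N, s = 0) → ∀ p : Fin m → (N ⟶ Coh.structureModule X),
      (∀ {T : X.Modules} (g : T ⟶ N), (∀ i, g ≫ p i = 0) → g = 0) →
      ∃ c : Fin m → (Coh.structureModule X ⟶ Coh.structureModule X),
        (∑ i, p i ≫ c i) ≠ 0 ∧ ¬ Epi (∑ i, p i ≫ c i) := by
  haveI := CurveCohLib.isNoetherian_of_proper (k := k) (X := X)
  induction m with
  | zero =>
    intro N hN hz _ p hp
    exact absurd ((IsZero.iff_id_eq_zero N).2 (hp (𝟙 N) fun i => i.elim0)) hz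
  | succ m ih =>
    intro N hN hz h0 p hp
    by_cases hlast : p (Fin.last m) = 0
    · obtain ⟨c, hc, hc'⟩ := ih hN hz h0 (fun i => p i.castSucc) fun g hg => hp g fun i => by
        induction i using Fin.lastCases with
        | last => rw [hlast, comp_zero]
        | cast j => exact hg j
      have e : ∑ i, p i ≫ (Fin.snoc c 0 : Fin (m + 1) → _) i = ∑ i, p i.castSucc ≫ c i := by
        rw [Fin.sum_univ_castSucc]
        simp only [Fin.snoc_castSucc, Fin.snoc_last, comp_zero, add_zero]
      exact ⟨Fin.snoc c 0, by rw [e]; exact hc, by rw [e]; exact hc'⟩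
    by_cases hepi : Epi (p (Fin.last m))
    swap
    · have e : ∑ i, p i ≫ (Fin.snoc (fun _ => 0) (𝟙 _) : Fin (m + 1) → _) i = p (Fin.last m) := by
        rw [Fin.sum_univ_castSucc]
        simp only [Fin.snoc_castSucc, Fin.snoc_last, comp_zero, Finset.sum_const_zero, zero_add, Category.comp_id]
      exact ⟨Fin.snoc (fun _ => 0) (𝟙 _), by rw [e]; exact hlast, by rw [e]; exact hepi⟩
    generalize hP : p (Fin.last m) = P at hepi
    haveI := hepi
    -- the kernel of the last form
    have hNc := coh_of_free k hN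
    have hO : Coh.IsCoh (Coh.structureModule X) := QCoh.isCoh_structureModule'
    have hKc : Coh.IsCoh (kernel P) := QCoh.isCoh_kernel hNc hO P
    have hKf := CurveBundle.isFinLocFree_of_mono k hdim.le hKc (kernel.ι P) hN
    have hKz : ¬ IsZero (kernel P) := fun hK => by
      haveI : Mono P := Preadditive.mono_of_isZero_kernel P hK
      haveI : IsIso P := isIso_of_mono_of_epi P
      have h1 := congrArg (P.app ⊤) (h0 ((inv P).app ⊤ (show Γ(X, ⊤) from 1)))
      rw [map_zero, ← ConcreteCategory.comp_apply, ← Scheme.Modules.Hom.comp_app, IsIso.inv_hom_id] at h1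
      exact one_ne_zero (α := Γ(X, ⊤)) h1
    have hK0 : ∀ s : LinSer.Sect X (kernel P), s = 0 := fun s => by
      exact QCoh.app_injective (kernel.ι P) ⊤ ((h0 ((kernel.ι P).app ⊤ s)).trans (map_zero _).symm)
    obtain ⟨c, hc, hc'⟩ := ih hKf hKz hK0 (fun i => kernel.ι P ≫ p i.castSucc) fun g hg => by
      rw [← cancel_mono (kernel.ι P), zero_comp]
      refine hp _ fun i => ?_
      induction i using Fin.lastCases with
      | last => rw [hP, Category.assoc, kernel.condition, comp_zero]
      | cast j => simpa using hg j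
    simp only [Category.assoc, ← Preadditive.comp_sum] at hc hc'
    generalize hq : ∑ i, p i.castSucc ≫ c i = q at hc hc'
    -- a point where the restricted form is not surjective
    have hCc : Coh.IsCoh (cokernel (kernel.ι P ≫ q)) := QCoh.isCoh_cokernel hKc.1 hO _
    have hne : (CohB1.support (cokernel (kernel.ι P ≫ q))).Nonempty := by
      rw [Set.nonempty_iff_ne_empty]
      exact fun hs => hc' (Preadditive.epi_of_isZero_cokernel _ (CurveCohLib.isZero_of_subsingleton_stalks fun x =>
        not_not.1 fun hx => Set.eq_empty_iff_forall_notMem.1 hs x hx))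
    obtain ⟨x, hxS, hx⟩ := IsClosed.exists_closed_singleton (QCoh.isClosed_support_of_isFT hCc.1 hCc.2) hne
    let Φ := DerSch.stalkFunctor X x
    let φ : X.presheaf.stalk x ≃ₗ[X.presheaf.stalk x] Φ.obj (Coh.structureModule X) :=
      (KFlatLib.stalkUnitEquiv x).trans ((KFlatLib.stalkToPIso x).app _).toLinearEquiv.symm
    obtain ⟨e, he⟩ := TFQuot.st_surjective P x (φ 1)
    obtain ⟨d, hd⟩ := HilbPoly.exists_residue_eq (X ↘ Spec (CommRingCat.of k)) hx
      (IsLocalRing.residue _ (φ.symm (TFQuot.st q x e)))
    have e1 : ∑ i, p i ≫ (Fin.snoc c (- Formal.smulMod k (Coh.structureModule X) d) : Fin (m + 1) → _) i =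
        q - P ≫ Formal.smulMod k (Coh.structureModule X) d := by
      rw [Fin.sum_univ_castSucc]
      simp only [Fin.snoc_castSucc, Fin.snoc_last, Preadditive.comp_neg]
      rw [hq, hP, sub_eq_add_neg]
    refine ⟨Fin.snoc c (- Formal.smulMod k (Coh.structureModule X) d), ?_, ?_⟩
    · rw [e1]
      intro h
      have := congrArg (kernel.ι P ≫ ·) h
      simp only [Preadditive.comp_sub, kernel.condition_assoc, zero_comp, comp_zero, sub_zero] at this
      exact hc this
    rw [e1]
    intro hep
    haveI := hep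
    obtain ⟨v, hv⟩ := TFQuot.st_surjective (q - P ≫ Formal.smulMod k (Coh.structureModule X) d) x (φ 1)
    -- the image of the restricted form lies in the maximal ideal
    have hmem : ∀ w, φ.symm (TFQuot.st (kernel.ι P ≫ q) x w) ∈ IsLocalRing.maximalIdeal (X.presheaf.stalk x) := by
      intro w
      rw [IsLocalRing.mem_maximalIdeal, mem_nonunits_iff]
      intro hu
      refine hxS (subsingleton_of_forall_eq (0 : Φ.obj (cokernel (kernel.ι P ≫ q))) fun z => ?_)
      obtain ⟨y, rfl⟩ := TFQuot.st_surjective (cokernel.π (kernel.ι P ≫ q)) x z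
      obtain ⟨u, hu'⟩ := hu
      have hy : y = TFQuot.st (kernel.ι P ≫ q) x ((φ.symm y * (↑u⁻¹ : X.presheaf.stalk x)) • w) := by
        rw [map_smul]
        refine φ.symm.injective ?_
        rw [map_smul, smul_eq_mul, ← hu', mul_assoc, Units.inv_mul, mul_one]
      rw [hy, ← TFQuot.st_comp, cokernel.condition, TFQuot.st_zero]
    have hexact : ∀ z, TFQuot.st P x z = 0 → ∃ w, TFQuot.st (kernel.ι P) x w = z := fun z hz => by
      have hS : (ShortComplex.mk (kernel.ι P) P (kernel.condition P)).Exact :=
        ShortComplex.exact_of_f_is_kernel _ (kernelIsKernel P)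
      exact (ShortComplex.moduleCat_exact_iff _).1 (hS.map Φ) z hz
    obtain ⟨w, hw⟩ := hexact (v - φ.symm (TFQuot.st P x v) • e) (by
      rw [map_sub, map_smul, he, ← map_smul, smul_eq_mul, mul_one, LinearEquiv.apply_symm_apply, sub_self])
    have h1 := hmem w
    rw [TFQuot.st_comp, hw, map_sub, map_smul, map_sub, map_smul, smul_eq_mul] at h1
    have h2 := congrArg φ.symm hv
    rw [TFQuot.st_sub, TFQuot.st_comp, TFQuot.st_smulMod, map_sub, map_smul, smul_eq_mul,
      LinearEquiv.symm_apply_apply] at h2
    have r1 := (IsLocalRing.residue_eq_zero_iff _).2 h1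
    have r2 := congrArg (IsLocalRing.residue (X.presheaf.stalk x)) h2
    simp only [map_sub, map_mul, map_one] at r1 r2
    rw [hd] at r2
    refine one_ne_zero (α := IsLocalRing.ResidueField (X.presheaf.stalk x)) ?_
    rw [← r2]
    linear_combination r1

/-- A bundle without sections inside a free module is filtered by negative lines. -/
theorem exists_filt (k : Type u) [Field k] [IsAlgClosed k] {X : Scheme.{u}} [X.Over (Spec (CommRingCat.of k))]
    [IsIntegral X] [IsProper (X ↘ Spec (CommRingCat.of k))] [Smooth (X ↘ Spec (CommRingCat.of k))]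
    (hdim : topologicalKrullDim X = 1) (m : ℕ) (r : ℕ) : ∀ {N : X.Modules}, FlatMod.IsFinLocFreeOfRank r N →
      (∀ s : LinSer.Sect X N, s = 0) → ∀ p : Fin m → (N ⟶ Coh.structureModule X),
      (∀ {T : X.Modules} (g : T ⟶ N), (∀ i, g ≫ p i = 0) → g = 0) →
      ∃ (M : Fin (r + 1) → X.Modules) (f : (j : Fin r) → (M j.succ ⟶ M j.castSucc)),
        Nonempty (M 0 ≅ N) ∧ IsZero (M (Fin.last r)) ∧
          ∀ j : Fin r, Mono (f j) ∧ PicF.IsInvertible (cokernel (f j)) ∧ Curv2.deg k X (cokernel (f j)) 1 < 0 := by
  haveI := CurveCohLib.isNoetherian_of_proper (k := k) (X := X)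
  induction r with
  | zero =>
    intro N hN _ _ _
    exact ⟨fun _ => N, fun j => j.elim0, ⟨Iso.refl N⟩,
      CurveBundle.isZero_of_rk_zero (isFinLocFree_of_rank hN) (CurveBundle.rk_eq hN), fun j => j.elim0⟩
  | succ r ih =>
    intro N hN h0 p hp
    have hNf := isFinLocFree_of_rank hN
    have hrN := CurveBundle.rk_eq hN
    have hz : ¬ IsZero N := fun h => by rw [CurveSlope.rk_eq_zero_of_isZero h] at hrN; omega
    obtain ⟨c, hq0, hq1⟩ := exists_form k hdim m hNf hz h0 p hp
    generalize ∑ i, p i ≫ c i = q at hq0 hq1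
    have hO : Coh.IsCoh (Coh.structureModule X) := QCoh.isCoh_structureModule'
    have hO1 := InvEnd.isFinLocFreeOfRank_one (CurveDeg.isInvertible_structureModule (X := X))
    obtain ⟨I, π, j, hj, hπ, hfac, hK, hI, hrk, -, hpos, hle⟩ :=
      exists_decomp k hdim.le hNf (isFinLocFree_of_rank hO1) q
    haveI := hj
    haveI := hπ
    have hI0 := hpos hq0
    rw [CurveBundle.rk_eq hO1] at hle
    have hI1 : CurveBundle.rk I = 1 := by omega
    have hIr := CurveBundle.isFinLocFreeOfRank_rk hI
    rw [hI1] at hIr
    have hdeg : Curv2.deg k X I 1 < 0 := by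
      have hni : ¬ IsIso j := fun h => hq1 (by
        haveI := h
        rw [← hfac]
        exact epi_comp π j)
      have := dg_lt_of_rk_eq k hdim.le j (coh_of_free k hI) hO (by rw [hI1, CurveBundle.rk_eq hO1]) hni
      rw [← CurveSlope.deg_eq_dg k hIr, ← CurveSlope.deg_eq_dg k hO1] at this
      have h1 : Curv2.deg k X (Coh.structureModule X) 1 = 0 := by simp [Curv2.deg]
      omega
    have hKr := CurveBundle.isFinLocFreeOfRank_rk hK
    rw [show CurveBundle.rk (kernel q) = r by omega] at hKr
    obtain ⟨M, f, ⟨e0⟩, hMz, hf⟩ := ih hKr (fun s =>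
        QCoh.app_injective (kernel.ι q) ⊤ ((h0 ((kernel.ι q).app ⊤ s)).trans (map_zero _).symm))
      (fun i => kernel.ι q ≫ p i) fun g hg => by
        rw [← cancel_mono (kernel.ι q), zero_comp]
        exact hp _ fun i => by simpa using hg i
    have hw : kernel.ι q ≫ π = 0 := by
      rw [← cancel_mono j, Category.assoc, hfac, kernel.condition, zero_comp]
    have hS : (ShortComplex.mk (kernel.ι q) π hw).ShortExact :=
      { exact := ShortComplex.exact_of_f_is_kernel _ (isKernelOfComp j q (kernelIsKernel q) hw hfac) }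
    let e : cokernel (e0.hom ≫ kernel.ι q) ≅ I := cokernelEpiComp e0.hom (kernel.ι q) ≪≫
      IsColimit.coconePointUniqueUpToIso (cokernelIsCokernel _) hS.gIsCokernel
    refine ⟨Fin.cons N M, fun i => Fin.cases (motive := fun i : Fin (r + 1) =>
      (Fin.cons N M : Fin (r + 2) → X.Modules) i.succ ⟶ (Fin.cons N M : Fin (r + 2) → X.Modules) i.castSucc)
      (e0.hom ≫ kernel.ι q) (fun i => f i) i, ⟨Iso.refl N⟩, hMz, fun i => ?_⟩
    induction i using Fin.cases with
    | zero =>
      exact ⟨(inferInstance : Mono (e0.hom ≫ kernel.ι q)),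
        CurveDuality.isInvertible_of_rank_one ((ConsPropLib.isFinLocFreeOfRank_iso e).2 hIr),
        (CurveRR.deg_congr k e 1).trans_lt hdeg⟩
    | succ i => exact hf i

/-- Let k be an algebraically closed field, C a curve over k (integral, proper over k, of dimension one,
all local rings regular), and N a locally free O_C-module of rank r which admits a monomorphism into
O_C^m for some m and has no nonzero global section. Then there is a filtration N = N_0 ⊃ N_1 ⊃ ⋯ ⊃
N_r = 0 whose successive quotients are invertible sheaves of strictly negative degree; it is given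
here as modules M_0, …, M_r with M_0 ≅ N, M_r = 0 and monomorphisms M_{j+1} → M_j whose cokernels
are invertible of negative degree. -/
theorem result (k : Type u) [Field k] [IsAlgClosed k]
    (C : Scheme.{u}) [C.Over (Spec (CommRingCat.of k))] [IsIntegral C] [IsProper (C ↘ (Spec (CommRingCat.of k)))]
    (hdim : topologicalKrullDim C = 1) (hreg : ∀ x : C, IsRegularLocalRing (C.presheaf.stalk x))
    (N : C.Modules) (r : ℕ) (hN : FlatMod.IsFinLocFreeOfRank r N) (m : ℕ) (ι : N ⟶ FlatMod.freeMod C m) [Mono ι]
    (h0 : ∀ s : LinSer.Sect C N, s = 0) :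
    ∃ (M : Fin (r + 1) → C.Modules) (f : (j : Fin r) → (M j.succ ⟶ M j.castSucc)),
      Nonempty (M 0 ≅ N) ∧ IsZero (M (Fin.last r)) ∧
        ∀ j : Fin r, Mono (f j) ∧ PicF.IsInvertible (cokernel (f j)) ∧ Curv2.deg k C (cokernel (f j)) 1 < 0 := by
  haveI : Smooth (C ↘ Spec (CommRingCat.of k)) := CurveCohLib.RegularCurve.smooth_of_regular k fun x _ => hreg x
  obtain ⟨pr, hpr⟩ : ∃ pr : Fin m → (FlatMod.freeMod C m ⟶ Coh.structureModule C),
      ∀ {T : C.Modules} (g : T ⟶ FlatMod.freeMod C m), (∀ i, g ≫ pr i = 0) → g = 0 := by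
    classical
    refine ⟨fun i => Sigma.desc fun j => if j = i then 𝟙 _ else 0, fun {T} g hg => ?_⟩
    have h : 𝟙 (FlatMod.freeMod C m) = ∑ i, (Sigma.desc fun j => if j = i then 𝟙 _ else 0) ≫
        Sigma.ι (fun _ : Fin m => Coh.structureModule C) i := Sigma.hom_ext _ _ fun j => by
      simp only [Category.comp_id, Preadditive.comp_sum, Sigma.ι_desc_assoc]
      rw [Finset.sum_eq_single j] <;> simp +contextual [eq_comm]
    rw [← Category.comp_id g, h, Preadditive.comp_sum]
    exact Finset.sum_eq_zero fun i _ => by rw [← Category.assoc, hg i, zero_comp]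
  exact exists_filt k hdim m r hN h0 (fun i => ι ≫ pr i) fun g hg => by
    rw [← cancel_mono ι, zero_comp]
    exact hpr _ fun i => by simpa using hg i

end Groth.Agent.S12913
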