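import Groth.Statements.S1293
-- import your own Groth.Agent.* helpers here
import Groth.Agent.H4RG.UIMax

set_option backward.isDefEq.respectTransparency.types false

set_option autoImplicit false
universe u
open FlatMor

namespace Groth.Agent.S1293

attribute [local instance] Algebra.TensorProduct.rightAlgebra

open TensorProduct in
/-- Let B be a finitely presented A-algebra, T ⊆ B a multiplicative subset and N a finitely presented
T⁻¹B-module which admits a pure spreadout (FlatCA.HasPureSpreadout). Then (1) every x ∈ N has a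
content ideal, i.e. a smallest ideal I of A with x ∈ IN; and (2) every A-linear map u from N to a
flat A-module M such that u ⊗ A/𝔪 is injective for every maximal ideal 𝔪 of A is universally
injective over A. -/
theorem result {A B : Type u} [CommRing A] [CommRing B] [Algebra A B] [Algebra.FinitePresentation A B]
    (T : Submonoid B) (N : Type u) [AddCommGroup N] [Module (Localization T) N] [Module A N] [IsScalarTower A (Localization T) N]
    [Module.FinitePresentation (Localization T) N] (h : FlatCA.HasPureSpreadout A B T N) :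
    (∀ x : N, ∃ I : Ideal A, x ∈ I • (⊤ : Submodule A N) ∧ ∀ J : Ideal A, x ∈ J • (⊤ : Submodule A N) → I ≤ J) ∧
    ∀ (M : Type u) [AddCommGroup M] [Module A M] [Module.Flat A M] (u : N →ₗ[A] M),
      (∀ (m : Ideal A) [m.IsMaximal], Function.Injective (u.lTensor (A ⧸ m))) → FlatCA.UnivInj A u := by
  obtain ⟨C, _, _, _, _, _, _, _, _, _, _, N', _, _, _, _, g, -, -, hg, hproj, hui⟩ := h
  let gA : N' →ₗ[A] N := g.restrictScalars A
  let φ : B → Localization T := algebraMap B (Localization T)
  let L : Localization T → (N →ₗ[A] N) := fun σ => Algebra.lsmul A A N σ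
  let L' : B → (N' →ₗ[A] N') := fun b => Algebra.lsmul A A N' (algebraMap B C b)
  have hcomm : ∀ b, (L (φ b)).comp gA = gA.comp (L' b) := fun b => LinearMap.ext fun y => by
    change algebraMap B (Localization T) b • g y = g (algebraMap B C b • y)
    rw [map_smul, IsScalarTower.algebraMap_apply B C (Localization T), algebraMap_smul]
  have hinv : ∀ s ∈ T, ∃ i : Localization T, (L i).comp (L (φ s)) = LinearMap.id := fun s hs => by
    obtain ⟨i, hi⟩ := (IsLocalization.map_units (Localization T) ⟨s, hs⟩).exists_left_inv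
    refine ⟨i, LinearMap.ext fun n => ?_⟩
    change i • (algebraMap B (Localization T) s • n) = n
    rw [smul_smul, hi, one_smul]
  have hmul : ∀ a b, L (a * b) = (L a).comp (L b) := fun a b =>
    LinearMap.ext fun n => mul_smul a b n
  have key : ∀ n : N, ∃ s ∈ T, ∃ y, L (φ s) n = gA y := by
    intro n
    refine hg.inductionOn n (motive := fun n => ∃ s ∈ T, ∃ y, L (φ s) n = gA y) ?_ ?_ ?_ ?_
    · exact ⟨1, T.one_mem, 0, by simp [L, gA]⟩
    · exact fun y => ⟨1, T.one_mem, y, by simp [L, φ, gA]⟩
    · rintro σ m ⟨s, hs, y, hy⟩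
      obtain ⟨⟨b, t⟩, hbt⟩ := IsLocalization.surj T σ
      refine ⟨t * s, T.mul_mem t.2 hs, L' b y, ?_⟩
      calc L (φ (t * s)) (σ • m) = (σ * φ t) • L (φ s) m := by
            change algebraMap B (Localization T) (t * s) • σ • m =
              (σ * algebraMap B (Localization T) t) • algebraMap B (Localization T) s • m
            rw [smul_smul, smul_smul, map_mul]
            congr 1
            ring
        _ = L (φ b) (gA y) := by rw [hy, hbt]; rfl
        _ = gA (L' b y) := LinearMap.congr_fun (hcomm b) y
    · rintro m m' ⟨s, hs, y, hy⟩ ⟨s', hs', y', hy'⟩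
      refine ⟨s * s', T.mul_mem hs hs', L' s' y + L' s y', ?_⟩
      rw [map_add, map_add, ← LinearMap.comp_apply gA (L' s'), ← LinearMap.comp_apply gA (L' s),
        ← hcomm, ← hcomm, LinearMap.comp_apply, LinearMap.comp_apply, ← hy, ← hy',
        ← LinearMap.comp_apply (L (φ s')), ← LinearMap.comp_apply (L (φ s)), ← hmul, ← hmul,
        show φ (s * s') = φ s * φ s' from map_mul _ s s', mul_comm (φ s') (φ s)]
  refine ⟨fun x => ?_, fun M _ _ _ u hu => ?_⟩
  · obtain ⟨s, hs, y, hy⟩ := key x
    obtain ⟨i, hi⟩ := hinv s hs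
    obtain ⟨c, hc, hmin⟩ := Groth.Agent.H4RG.exists_content_projective (R := A) y
    refine ⟨c, ?_, fun J hJ => hmin J ?_⟩
    · have h1 := Submodule.smul_top_le_comap_smul_top c ((L i).comp gA) hc
      rwa [Submodule.mem_comap, LinearMap.comp_apply, ← hy, ← LinearMap.comp_apply (L i), hi,
        LinearMap.id_apply] at h1
    · have h1 : gA y ∈ J • (⊤ : Submodule A N) := hy ▸ Submodule.smul_top_le_comap_smul_top J (L (φ s)) hJ
      have hzero : ∀ {X : Type u} [AddCommGroup X] [Module A X] (v : X),
          (Ideal.Quotient.mk J 1) ⊗ₜ[A] v = 0 ↔ v ∈ J • (⊤ : Submodule A X) := fun v => by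
        rw [← (TensorProduct.quotTensorEquivQuotSMul _ J).map_eq_zero_iff,
          TensorProduct.quotTensorEquivQuotSMul_mk_tmul, one_smul, Submodule.Quotient.mk_eq_zero]
      refine (hzero y).1 (hui (A ⧸ J) ?_)
      rw [LinearMap.lTensor_tmul, map_zero]
      exact (hzero _).2 h1
  · intro Q _ _
    refine (injective_iff_map_eq_zero _).2 fun z hz => ?_
    have hz' : ∃ s ∈ T, ∃ w, (L (φ s)).lTensor Q z = gA.lTensor Q w := by
      clear hz
      induction z using TensorProduct.induction_on with
      | zero => exact ⟨1, T.one_mem, 0, by simp⟩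
      | tmul q n =>
        obtain ⟨s, hs, y, hy⟩ := key n
        exact ⟨s, hs, q ⊗ₜ y, by simp only [LinearMap.lTensor_tmul, hy]⟩
      | add a b ha hb =>
        obtain ⟨s, hs, w, hw⟩ := ha
        obtain ⟨s', hs', w', hw'⟩ := hb
        refine ⟨s * s', T.mul_mem hs hs', (L' s').lTensor Q w + (L' s).lTensor Q w', ?_⟩
        rw [map_add, map_add, ← LinearMap.lTensor_comp_apply, ← LinearMap.lTensor_comp_apply,
          ← hcomm, ← hcomm, LinearMap.lTensor_comp_apply, LinearMap.lTensor_comp_apply, ← hw, ← hw',
          ← LinearMap.lTensor_comp_apply, ← LinearMap.lTensor_comp_apply, ← hmul, ← hmul,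
          show φ (s * s') = φ s * φ s' from map_mul _ s s', mul_comm (φ s') (φ s)]
    obtain ⟨s, hs, w, hw⟩ := hz'
    obtain ⟨i, hi⟩ := hinv s hs
    have hv := Groth.Agent.H4RG.univInj_of_maximal (R := A) (u.comp ((L i).comp gA)) (fun m _ => by
      rw [LinearMap.lTensor_comp, LinearMap.coe_comp, LinearMap.lTensor_comp, LinearMap.coe_comp]
      refine (hu m).comp (Function.Injective.comp ?_ (hui (A ⧸ m)))
      refine Function.LeftInverse.injective (g := (L (φ s)).lTensor (A ⧸ m)) fun n => ?_
      rw [← LinearMap.lTensor_comp_apply, ← hmul, mul_comm, hmul, hi, LinearMap.lTensor_id, LinearMap.id_apply])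
    have hzi : z = (L i).lTensor Q (gA.lTensor Q w) := by
      rw [← hw, ← LinearMap.lTensor_comp_apply, hi, LinearMap.lTensor_id, LinearMap.id_apply]
    have hw0 : w = 0 := by
      refine hv Q ?_
      rw [map_zero, LinearMap.lTensor_comp_apply, LinearMap.lTensor_comp_apply, ← hzi, hz]
    rw [hzi, hw0, map_zero, map_zero]

end Groth.Agent.S1293
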