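import Groth.Statements.S1295
-- import your own Groth.Agent.* helpers here
import Groth.Agent.H4RG.PureDescent
import Groth.Agent.H4RG.PureFlatBase

set_option backward.isDefEq.respectTransparency.types false

set_option autoImplicit false
universe u
open FlatMor

namespace Groth.Agent.S1295

open TensorProduct

attribute [local instance] Algebra.TensorProduct.rightAlgebra

/-- Ring form, X = Spec B and the S_i = Spec A_i affine: let A be the colimit of a directed system of
rings (A_i), p a prime of A with contractions p_i, B a finitely presented A-algebra and N a finitely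
presented B-module which is pure along the fibre over p and flat over A at every prime of B over p.
Then for some index i there are a finitely presented A_i-algebra B_i with B ≅ B_i ⊗_{A_i} A and a
finitely presented B_i-module N_i with N ≅ N_i ⊗_{B_i} B, such that N_i is pure along the fibre over
p_i and flat over A_i at every prime of B_i over p_i. -/
theorem result {ι : Type u} [Preorder ι] (G : ι → Type u) [∀ i, CommRing (G i)]
    (g : ∀ i j, i ≤ j → G i →+* G j) {A : Type u} [CommRing A] [∀ i, Algebra (G i) A] (hcolim : FlatCA.IsDirectedColimitRing G g A)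
    {B : Type u} [CommRing B] [Algebra A B] [Algebra.FinitePresentation A B]
    (N : Type u) [AddCommGroup N] [Module B N] [Module A N] [IsScalarTower A B N] [Module.FinitePresentation B N]
    (p : Ideal A) [p.IsPrime] (hpure : FlatCA.IsPureAlong A B N p)
    (hflat : ∀ (q : Ideal B) [q.IsPrime], q.LiesOver p → FlatCA.FlatAt A q N) :
    ∃ (i : ι) (Bi Ni : Type u) (_ : CommRing Bi) (_ : Algebra (G i) Bi) (_ : Algebra Bi B) (_ : Algebra (G i) B)
      (_ : IsScalarTower (G i) A B) (_ : IsScalarTower (G i) Bi B)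
      (_ : AddCommGroup Ni) (_ : Module Bi Ni) (_ : Module (G i) Ni) (_ : IsScalarTower (G i) Bi Ni)
      (_ : Module Bi N) (_ : IsScalarTower Bi B N) (f : Ni →ₗ[Bi] N),
      Algebra.FinitePresentation (G i) Bi ∧ Algebra.IsPushout (G i) Bi A B ∧ Module.FinitePresentation Bi Ni ∧ IsBaseChange B f ∧
      FlatCA.IsPureAlong (G i) Bi Ni (p.comap (algebraMap (G i) A)) ∧
      ∀ (q : Ideal Bi) [q.IsPrime], q.LiesOver (p.comap (algebraMap (G i) A)) → FlatCA.FlatAt (G i) q Ni := by
  classical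
  letI algB : ∀ i, Algebra (G i) B := fun i => ((algebraMap A B).comp (algebraMap (G i) A)).toAlgebra
  haveI : ∀ i, IsScalarTower (G i) A B := fun i => IsScalarTower.of_algebraMap_eq fun _ => rfl
  obtain ⟨f, hf, hflA⟩ := H4RG.exists_flat_unit N p hpure hflat
  obtain ⟨i₁, x₁, rfl⟩ := hcolim.2.2.2.2.2.1 f
  obtain ⟨i₀, B₀, N₀, _, _, _, _, _, _, _, _, _, _, f₀, hi, hfp₀, hpush₀, hfpN₀, hbc₀⟩ :=
    H4RG.exists_colim_model hcolim (B := B) N i₁
  have hx₀ : algebraMap (G i₀) A (g i₁ i₀ hi x₁) = algebraMap (G i₁) A x₁ :=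
    RingHom.congr_fun (hcolim.2.2.2.2.1 i₁ i₀ hi) x₁
  obtain ⟨alg', tow', g', hkl', -, hcolim'⟩ := H4RG.exists_tail hcolim i₀
  -- flatness at a stage
  let X := Localization.Away (g i₁ i₀ hi x₁)
  obtain ⟨algX, -, towX, -, hcolimX⟩ := H4RG.exists_baseChange_system g' A hcolim' X
  haveI : ∀ m : Set.Ici i₀, IsScalarTower (G i₀) (G m.1 ⊗[G i₀] X) (A ⊗[G i₀] X) := fun m =>
    IsScalarTower.of_algebraMap_eq (R := G i₀) (S := G m.1 ⊗[G i₀] X) (A := A ⊗[G i₀] X) fun r => by
      rw [IsScalarTower.algebraMap_apply (G i₀) X (G m.1 ⊗[G i₀] X),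
        ← IsScalarTower.algebraMap_apply X (G m.1 ⊗[G i₀] X) (A ⊗[G i₀] X),
        ← IsScalarTower.algebraMap_apply (G i₀) X (A ⊗[G i₀] X)]
  letI : Module (G i₀) N := Module.compHom N (algebraMap (G i₀) A)
  haveI : IsScalarTower (G i₀) A N := IsScalarTower.of_algebraMap_smul fun _ _ => rfl
  haveI : IsScalarTower (G i₀) B₀ N := IsScalarTower.of_algebraMap_smul fun r y => by
    show algebraMap (G i₀) B₀ r • y = algebraMap (G i₀) A r • y
    rw [← algebraMap_smul B (algebraMap (G i₀) B₀ r), ← IsScalarTower.algebraMap_apply,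
      IsScalarTower.algebraMap_apply (G i₀) A B, algebraMap_smul]
  haveI : Algebra.IsPushout (G i₀) A B₀ B := Algebra.IsPushout.symm hpush₀
  have hNA : IsBaseChange A (f₀.restrictScalars (G i₀)) := H4RG.isBaseChange_restrict_pushout f₀ hbc₀
  let EA := A ⊗[G i₀] X
  haveI : Module.Flat EA (EA ⊗[A] N) := hflA EA (by
    rw [← hx₀, ← IsScalarTower.algebraMap_apply, IsScalarTower.algebraMap_apply (G i₀) X EA]
    exact (IsLocalization.Away.algebraMap_isUnit _).map _)
  haveI hflEA : Module.Flat EA (EA ⊗[G i₀] N₀) :=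
    Module.Flat.of_linearEquiv (hNA.comp (TensorProduct.isBaseChange A N EA)).equiv
  obtain ⟨j, hj⟩ := FlatSyz5.exists_flat_stage (A₀ := G i₀) (fun m : Set.Ici i₀ => G m.1 ⊗[G i₀] X)
    (fun a b h => Algebra.TensorProduct.map (g' a b h) (AlgHom.id (G i₀) X)) EA hcolimX (B₀ := B₀) N₀ hflEA
  -- the new base
  haveI : IsScalarTower (G i₀) (G j.1) B := IsScalarTower.of_algebraMap_eq fun r => by
    rw [IsScalarTower.algebraMap_apply (G j.1) A B, ← IsScalarTower.algebraMap_apply (G i₀) (G j.1) A,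
      ← IsScalarTower.algebraMap_apply (G i₀) A B]
  obtain ⟨_, _, _, _, _, fj, hpushj, hbcj⟩ := H4RG.exists_rebase (A₀ := G i₀) (Gl := G j.1) (A := A) f₀ hbc₀
  let Bj := G j.1 ⊗[G i₀] B₀
  let Nj := Bj ⊗[B₀] N₀
  have hflj : ∀ (R : Type u) [CommRing R] [Algebra (G j.1) R],
      IsUnit (algebraMap (G j.1) R (algebraMap (G i₀) (G j.1) (g i₁ i₀ hi x₁))) →
        Module.Flat R (R ⊗[G j.1] Nj) := fun R _ _ hu => by
    letI : Algebra (G i₀) R := ((algebraMap (G j.1) R).comp (algebraMap (G i₀) (G j.1))).toAlgebra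
    haveI : IsScalarTower (G i₀) (G j.1) R := IsScalarTower.of_algebraMap_eq fun _ => rfl
    let φ : G j.1 ⊗[G i₀] X →ₐ[G i₀] R := Algebra.TensorProduct.lift (IsScalarTower.toAlgHom (G i₀) (G j.1) R)
      (IsLocalization.liftAlgHom (M := Submonoid.powers (g i₁ i₀ hi x₁)) (S := X) (f := Algebra.ofId (G i₀) R)
        (by
          rintro ⟨_, n, rfl⟩
          rw [map_pow]
          exact hu.pow n)) fun _ _ => .all _ _
    letI : Algebra (G j.1 ⊗[G i₀] X) R := φ.toRingHom.toAlgebra
    haveI : IsScalarTower (G i₀) (G j.1 ⊗[G i₀] X) R := IsScalarTower.of_algebraMap_eq fun r => (φ.commutes r).symm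
    haveI := hj
    haveI : Module.Flat R (R ⊗[G i₀] N₀) :=
      Module.Flat.of_linearEquiv (TensorProduct.AlgebraTensorModule.cancelBaseChange (G i₀) (G j.1 ⊗[G i₀] X) R R N₀).symm
    exact H4RG.flat_rebase
  obtain ⟨alg'', tow'', g'', -, -, hcolim''⟩ := H4RG.exists_tail hcolim j.1
  have hxj : algebraMap (G j.1) A (algebraMap (G i₀) (G j.1) (g i₁ i₀ hi x₁)) = algebraMap (G i₁) A x₁ := by
    rw [← IsScalarTower.algebraMap_apply, hx₀]
  haveI := hpushj
  obtain ⟨l, hl⟩ := H4RG.exists_pure_stage (A₀ := G j.1) (B₀ := Bj) (N₀ := Nj) g'' hcolim'' fj hbcj p hpure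
    (algebraMap (G i₀) (G j.1) (g i₁ i₀ hi x₁)) (by rw [hxj]; exact hf) hflj
  haveI : IsScalarTower (G j.1) (G l.1) B := IsScalarTower.of_algebraMap_eq fun r => by
    rw [IsScalarTower.algebraMap_apply (G l.1) A B, ← IsScalarTower.algebraMap_apply (G j.1) (G l.1) A,
      ← IsScalarTower.algebraMap_apply (G j.1) A B]
  obtain ⟨_, _, _, _, _, fl, hpushl, hbcl⟩ := H4RG.exists_rebase (A₀ := G j.1) (Gl := G l.1) (A := A) fj hbcj
  refine ⟨l.1, G l.1 ⊗[G j.1] Bj, (G l.1 ⊗[G j.1] Bj) ⊗[Bj] Nj, inferInstance, inferInstance, inferInstance,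
    inferInstance, inferInstance, inferInstance, inferInstance, inferInstance, inferInstance, inferInstance,
    inferInstance, inferInstance, fl, inferInstance, hpushl, inferInstance, hbcl, hl, fun q _ hq => ?_⟩
  let fl' := algebraMap (G j.1) (G l.1) (algebraMap (G i₀) (G j.1) (g i₁ i₀ hi x₁))
  let R := Localization.Away fl'
  haveI : IsScalarTower (G j.1) (G l.1) R := inferInstance
  haveI := hflj R (by
    rw [IsScalarTower.algebraMap_apply (G j.1) (G l.1) R]
    exact IsLocalization.Away.algebraMap_isUnit fl')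
  refine H4RG.flatAt_of_unit fl' H4RG.flat_rebase q fun hmem => hf ?_
  have h1 : fl' ∈ p.comap (algebraMap (G l.1) A) := hq.over.ge hmem
  rw [Ideal.mem_comap, ← IsScalarTower.algebraMap_apply, hxj] at h1
  exact h1

end Groth.Agent.S1295
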