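import Groth.Statements.S13037
-- import your own Groth.Agent.* helpers here
import Groth.Agent.AlgStLib.SmoothLocusSt

set_option autoImplicit false
universe u
open CategoryTheory AlgebraicGeometry
open AlgSt

namespace Groth.Agent.S13037

/-- For a morphism f : 𝒳 → 𝒴 of algebraic stacks there is a largest open substack of 𝒳 on which f is
smooth: a strictly full open substack 𝒰 with 𝒰 → 𝒳 → 𝒴 smooth, containing every open substack with
that property. (The compatibilities of its formation with smooth precomposition and flat base change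
are not part of this statement.) -/
theorem result
    (S : Scheme.{u}) (𝒳 : AlgSt.Cat S) (𝒴 : AlgSt.Cat S)
    (h𝒳 : AlgSt.IsAlgStack Scheme.fppfPrecoverage 𝒳)
    (h𝒴 : AlgSt.IsAlgStack Scheme.fppfPrecoverage 𝒴)
    (f : 𝒳 ⥤ᵇ 𝒴) :
    ∃ Q : 𝒳.obj → Prop, AlgSt.IsOpenSubstack 𝒳 Q Scheme.fppfPrecoverage ∧
      AlgSt.LocQ (AlgSp.LocP @Smooth) (BasedFunctor.comp (AlgSt.subIncl 𝒳 Q) f) ∧
      ∀ Q' : 𝒳.obj → Prop, AlgSt.IsOpenSubstack 𝒳 Q' Scheme.fppfPrecoverage →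
        AlgSt.LocQ (AlgSp.LocP @Smooth) (BasedFunctor.comp (AlgSt.subIncl 𝒳 Q') f) → ∀ a, Q' a → Q a := by
  obtain ⟨d⟩ := Groth.Agent.AlgStLib.nonempty_smData h𝒳 h𝒴 f
  have hT := d.isOpen_T h𝒳 h𝒴
  have hQ := Groth.Agent.AlgStLib.isOpenSubstack_ptsIn h𝒳 hT
  refine ⟨Groth.Agent.AlgStLib.PtsIn d.T, hQ, ?_, fun Q' hQ' hf a ha => ?_⟩
  · exact d.locQ_comp_of_range_subset h𝒳 h𝒴 hQ.2.1 _ (Groth.Agent.AlgStLib.locQ_smooth_subIncl h𝒳 hQ)
      fun p => Groth.Agent.AlgStLib.range_subIncl_ptsIn.subset ⟨p, rfl⟩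
  · rw [Groth.Agent.AlgStLib.eq_ptsIn_range h𝒳 hQ'] at ha
    intro p φ
    obtain ⟨w, hw⟩ := ha p φ
    rw [← hw]
    exact d.range_subset h𝒳 h𝒴 hQ'.2.1 _ (Groth.Agent.AlgStLib.locQ_smooth_subIncl h𝒳 hQ') hf w

end Groth.Agent.S13037
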