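import Groth.Statements.S5161
import Groth.Agent.LC.CohDT
import Groth.Agent.LC.CohAcyclic
import Groth.Agent.S0327

set_option autoImplicit false
universe u
open AlgebraicGeometry
open LocCoh

namespace Groth.Agent.S5161

open CategoryTheory TopologicalSpace

lemma res_res (X : Scheme.{u}) {U V W : X.Opensᵒᵖ} (i : U ⟶ V) (j : V ⟶ W) (k : U ⟶ W)
    (x : X.presheaf.obj U) :
    (X.presheaf.map j).hom ((X.presheaf.map i).hom x) = (X.presheaf.map k).hom x := by
  rw [Subsingleton.elim k (i ≫ j), Functor.map_comp]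
  rfl

/-- A Noetherian local ring whose punctured spectrum is affine has dimension at most one. -/
theorem ringKrullDim_le_one_of_isAffineOpen_punctured (R : Type u) [CommRing R] [IsLocalRing R]
    [IsNoetherianRing R] (U : (Spec (CommRingCat.of R)).Opens) (hU : IsAffineOpen U)
    (hmem : ∀ q : PrimeSpectrum R, (q : (Spec (CommRingCat.of R) : Type u)) ∈ U ↔
      q ≠ IsLocalRing.closedPoint R) :
    ringKrullDim R ≤ 1 := by
  classical
  let X := Spec (CommRingCat.of R)
  let φ : R →+* Γ(X, U) :=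
    (X.presheaf.map (homOfLE le_top : U ⟶ ⊤).op).hom.comp (Scheme.ΓSpecIso (CommRingCat.of R)).inv.hom
  letI : Algebra R Γ(X, U) := φ.toAlgebra
  have : IsNoetherianRing Γ(X, U) := IsLocallyNoetherian.component_noetherian ⟨U, hU⟩
  have hne : ∀ f ∈ IsLocalRing.maximalIdeal R,
      X.basicOpen ((Scheme.ΓSpecIso (CommRingCat.of R)).inv f) ≤ U := by
    intro f hf q hq
    rw [basicOpen_eq_of_affine] at hq
    refine (hmem q).2 fun h => ?_
    subst h
    exact hq hf
  have hcov : (IsLocalRing.maximalIdeal R).map φ = ⊤ := by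
    rw [Ideal.map, ← hU.self_le_iSup_basicOpen_iff]
    intro q hq
    have hq' : (q : PrimeSpectrum R) ≠ IsLocalRing.closedPoint R := (hmem q).1 hq
    obtain ⟨f, hfm, hfq⟩ : ∃ f ∈ IsLocalRing.maximalIdeal R, f ∉ (q : PrimeSpectrum R).asIdeal := by
      by_contra h
      push_neg at h
      exact hq' (PrimeSpectrum.ext (le_antisymm
        (IsLocalRing.le_maximalIdeal (q : PrimeSpectrum R).2.ne_top) h))
    refine Opens.mem_iSup.2 ⟨⟨φ f, f, hfm, rfl⟩, ?_⟩
    have : q ∈ U ⊓ X.basicOpen ((Scheme.ΓSpecIso (CommRingCat.of R)).inv f) :=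
      ⟨hq, by rw [basicOpen_eq_of_affine]; exact hfq⟩
    rwa [← Scheme.basicOpen_res X ((Scheme.ΓSpecIso (CommRingCat.of R)).inv f)
      (homOfLE le_top : U ⟶ ⊤).op] at this
  set m := IsLocalRing.maximalIdeal R with hm
  have htop : IsAffineOpen (⊤ : X.Opens) := isAffineOpen_top X
  let e : ModuleCat.of R R ⟶ ModuleCat.of R Γ(X, U) := ModuleCat.ofHom (Algebra.linearMap R Γ(X, U))
  -- the kernel is torsion
  have hker1 : ∀ x : R, φ x = 0 → ∀ f ∈ m, ∃ n : ℕ, f ^ n * x = 0 := by
    intro x hx f hf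
    set g := (Scheme.ΓSpecIso (CommRingCat.of R)).inv f
    have hg := hne f hf
    have h0 : ((Scheme.ΓSpecIso (CommRingCat.of R)).inv x) |_ (X.basicOpen g) = 0 := by
      have := congrArg (X.presheaf.map (homOfLE hg : X.basicOpen g ⟶ U).op).hom hx
      rw [map_zero] at this
      rw [← this]
      simp only [φ, TopCat.Presheaf.restrictOpenCommRingCat_apply, RingHom.comp_apply]
      exact (res_res X (homOfLE le_top : U ⟶ ⊤).op (homOfLE hg : X.basicOpen g ⟶ U).op _ _).symm
    obtain ⟨n, hn⟩ := exists_pow_mul_eq_zero_of_res_basicOpen_eq_zero_of_isAffineOpen X htop _ g h0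
    refine ⟨n, (Scheme.ΓSpecIso (CommRingCat.of R)).commRingCatIsoToRingEquiv.symm.injective ?_⟩
    rw [map_zero, map_mul, map_pow]
    exact hn
  -- the cokernel is torsion
  have hcoker1 : ∀ b : Γ(X, U), ∀ f ∈ m, ∃ n : ℕ, φ (f ^ n) * b ∈ φ.range := by
    intro b f hf
    set g := (Scheme.ΓSpecIso (CommRingCat.of R)).inv f with hgdef
    have hg := hne f hf
    let bD : Γ(X, X.basicOpen g) := b |_ (X.basicOpen g)
    obtain ⟨n, y, hy⟩ := exists_eq_pow_mul_of_isAffineOpen X ⊤ htop g bD
    set r₁ := (X.presheaf.map (homOfLE le_top : U ⟶ ⊤).op).hom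
    have hD : X.basicOpen (r₁ g) = U ⊓ X.basicOpen g := Scheme.basicOpen_res X g _
    have h0 : (r₁ y - r₁ g ^ n * b) |_ (X.basicOpen (r₁ g)) = 0 := by
      have hle : X.basicOpen (r₁ g) ≤ X.basicOpen g := hD.le.trans inf_le_right
      have := congrArg (X.presheaf.map (homOfLE hle).op).hom hy
      simp only [bD, TopCat.Presheaf.restrictOpenCommRingCat_apply, map_mul, map_pow,
        ← CommRingCat.comp_apply, ← Functor.map_comp] at this
      simp only [r₁, TopCat.Presheaf.restrictOpenCommRingCat_apply, map_sub, map_mul, map_pow,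
        ← CommRingCat.comp_apply, ← Functor.map_comp, sub_eq_zero]
      exact this
    obtain ⟨k, hk⟩ := exists_pow_mul_eq_zero_of_res_basicOpen_eq_zero_of_isAffineOpen X hU _ _ h0
    obtain ⟨y', hy'⟩ : ∃ y' : R, (Scheme.ΓSpecIso (CommRingCat.of R)).inv y' = y :=
      ⟨(Scheme.ΓSpecIso (CommRingCat.of R)).hom y, Iso.hom_inv_id_apply (C := CommRingCat) _ _⟩
    refine ⟨k + n, f ^ k * y', ?_⟩
    have hg' : φ f = r₁ g := rfl
    have hy'' : φ y' = r₁ y := congrArg r₁ hy'
    rw [map_pow, map_mul, map_pow, hg', hy'', pow_add, mul_assoc, ← sub_eq_zero, ← mul_sub]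
    exact hk
  have huni : ∀ (M : Type u) [AddCommGroup M] [Module R M] (x : M),
      (∀ f ∈ m, ∃ n : ℕ, f ^ n • x = 0) → ∃ n : ℕ, ∀ a ∈ m ^ n, a • x = 0 := by
    intro M _ _ x h
    obtain ⟨n, hn⟩ := Ideal.exists_pow_le_of_le_radical_of_fg
      (I := m) (J := LinearMap.ker (LinearMap.toSpanSingleton R M x))
      (fun f hf => by
        obtain ⟨n, hn⟩ := h f hf
        exact ⟨n, by simpa using hn⟩)
      (IsNoetherian.noetherian _)
    exact ⟨n, fun a ha => by simpa using hn ha⟩
  have hker : LinearMap.ker e.hom ≤ DRing.torsionSub m (ModuleCat.of R R) := by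
    intro x hx
    exact huni R x (fun f hf => hker1 x hx f hf)
  have hcoker : LocCoh.IsPowerTorsion m (Γ(X, U) ⧸ LinearMap.range e.hom) := by
    intro z
    obtain ⟨b, rfl⟩ := Submodule.Quotient.mk_surjective _ z
    refine huni _ _ fun f hf => ?_
    obtain ⟨n, y, hy⟩ := hcoker1 b f hf
    refine ⟨n, ?_⟩
    rw [← Submodule.Quotient.mk_smul, Submodule.Quotient.mk_eq_zero]
    exact ⟨y, by rw [Algebra.smul_def]; exact hy⟩
  obtain ⟨d, hd⟩ : ∃ d : ℕ, ringKrullDim R = d := by
    obtain ⟨d, hd⟩ := ENat.ne_top_iff_exists.1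
      ((IsLocalRing.maximalIdeal R).height_ne_top Ideal.IsPrime.ne_top')
    exact ⟨d, by rw [← IsLocalRing.maximalIdeal_height_eq_ringKrullDim, ← hd]; rfl⟩
  rw [hd]
  by_contra hlt
  obtain ⟨i, rfl⟩ : ∃ i, d = i + 2 := ⟨d - 2, by
    have : ¬ d ≤ 1 := fun h => hlt (by exact_mod_cast h)
    omega⟩
  have hnt : Nontrivial (LocCoh.H m (i + 2) R) := Groth.Agent.S0327.result R (i + 2) hd
  have hbij := Groth.Agent.LC.H_map_bijective m e hker hcoker i
  obtain ⟨ψ, -⟩ := Groth.Agent.LC.exists_indep (R := R) (R' := Γ(X, U)) m (i + 2) Γ(X, U)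
  have hsub : Subsingleton ((localCohomology (m.map (algebraMap R Γ(X, U))) (i + 2)).obj
      (ModuleCat.of Γ(X, U) Γ(X, U))) := by
    refine subsingleton_of_forall_eq 0 fun z => ?_
    obtain ⟨n, hn⟩ := Groth.Agent.LC.isPowerTorsion_obj _ _ _ z
    have h1 : (1 : Γ(X, U)) ∈ (m.map (algebraMap R Γ(X, U))) ^ n := by
      rw [show m.map (algebraMap R Γ(X, U)) = ⊤ from hcov, Ideal.top_pow]; trivial
    simpa using hn 1 h1
  have hsub' := ψ.symm.toEquiv.subsingleton
  exact not_subsingleton (LocCoh.H m (i + 2) R) (hbij.1.subsingleton)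

/-- Let A be a Noetherian ring, X = Spec A and Y ⊆ X a closed subset whose complement U is an affine
open. Then every irreducible component of Y has codimension ≤ 1 in X, i.e. the generic point of each
irreducible component of Y is a prime of height at most 1. -/
theorem result (A : Type u) [CommRing A] [IsNoetherianRing A] (U : (Spec (CommRingCat.of A)).Opens) (hU : IsAffineOpen U) (p : PrimeSpectrum A) (hpU : (p : (Spec (CommRingCat.of A) : Type u)) ∉ (U : Set (Spec (CommRingCat.of A) : Type u))) (hmin : ∀ q : PrimeSpectrum A, q.asIdeal ≤ p.asIdeal → (q : (Spec (CommRingCat.of A) : Type u)) ∉ (U : Set (Spec (CommRingCat.of A) : Type u)) → q = p) : p.asIdeal.height ≤ 1 := by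
  have : IsNoetherianRing (Localization.AtPrime p.asIdeal) := IsLocalization.isNoetherianRing p.asIdeal.primeCompl _ inferInstance
  let j : Spec (CommRingCat.of (Localization.AtPrime p.asIdeal)) ⟶ Spec (CommRingCat.of A) :=
    Spec.map (CommRingCat.ofHom (algebraMap A (Localization.AtPrime p.asIdeal)))
  have key : ringKrullDim (Localization.AtPrime p.asIdeal) ≤ 1 := by
    refine ringKrullDim_le_one_of_isAffineOpen_punctured _ (j ⁻¹ᵁ U) (hU.preimage j) fun q => ?_
    have hcomap : PrimeSpectrum.comap (algebraMap A (Localization.AtPrime p.asIdeal))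
        (IsLocalRing.closedPoint (Localization.AtPrime p.asIdeal)) = p :=
      PrimeSpectrum.ext (Localization.AtPrime.comap_maximalIdeal (I := p.asIdeal))
    show PrimeSpectrum.comap (algebraMap A (Localization.AtPrime p.asIdeal)) q ∈ U ↔ _
    constructor
    · rintro h rfl
      exact hpU (hcomap ▸ h)
    · intro hne
      by_contra h
      refine hne (PrimeSpectrum.localization_comap_injective _ p.asIdeal.primeCompl
        ((hmin _ ?_ h).trans hcomap.symm))
      intro a ha
      by_contra hap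
      exact q.2.ne_top (q.asIdeal.eq_top_of_isUnit_mem ha (IsLocalization.map_units (M := p.asIdeal.primeCompl) _ ⟨a, hap⟩))
  rw [IsLocalization.AtPrime.ringKrullDim_eq_height p.asIdeal] at key
  exact_mod_cast key

end Groth.Agent.S5161
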