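import Groth.Statements.S13043
import Groth.Agent.S5161
import Mathlib.AlgebraicGeometry.Morphisms.Affine
import Mathlib.Topology.NoetherianSpace


set_option autoImplicit false
universe u
open CoPerf

namespace Groth.Agent.S13043

open AlgebraicGeometry CategoryTheory

/-- The points of a closed set that are maximal for generization form a finite set dominating it. -/
private theorem exists_generic {S : Scheme.{u}} [IsNoetherian S] {C : Set S} (hC : IsClosed C) :
    ∃ P : Set S, P.Finite ∧ P ⊆ C ∧ ∀ x ∈ C, ∃ η ∈ P, η ⤳ x := by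
  obtain ⟨T, hT, hTc, hTi, rfl⟩ := TopologicalSpace.NoetherianSpace.exists_finite_set_isClosed_irreducible hC
  classical
  refine ⟨(fun t : T => (hTi t t.2).genericPoint) '' Set.univ, ?_, ?_, ?_⟩
  · haveI := hT.to_subtype
    exact Set.toFinite _
  · rintro _ ⟨⟨t, ht⟩, -, rfl⟩
    exact ⟨t, ht, ((hTi t ht).isGenericPoint_genericPoint (hTc t ht)).mem⟩
  · rintro x ⟨t, ht, hx⟩
    exact ⟨_, ⟨⟨t, ht⟩, trivial, rfl⟩, ((hTi t ht).isGenericPoint_genericPoint (hTc t ht)).specializes hx⟩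

private theorem exists_top {S : Scheme.{u}} [IsNoetherian S] {C : Set S} (hC : IsClosed C) {x : S}
    (hx : x ∈ C) : ∃ η ∈ C, η ⤳ x ∧ ∀ ξ ∈ C, ξ ⤳ η → ξ = η := by
  obtain ⟨P, hP, hPC, hdom⟩ := exists_generic hC
  obtain ⟨η₀, hη₀, hη₀x⟩ := hdom x hx
  obtain ⟨η, ⟨hη, hηx⟩, hmax⟩ := Set.Finite.exists_maximalFor (fun η : S => closure ({η} : Set S))
    {η | η ∈ P ∧ η ⤳ x} (hP.subset fun _ h => h.1) ⟨η₀, hη₀, hη₀x⟩
  refine ⟨η, hPC hη, hηx, fun ξ hξ hξη => ?_⟩
  obtain ⟨η', hη', hη'ξ⟩ := hdom ξ hξ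
  have h1 : η ⤳ η' := by
    rw [specializes_iff_closure_subset]
    exact hmax ⟨hη', (hη'ξ.trans hξη).trans hηx⟩
      (specializes_iff_closure_subset.1 (hη'ξ.trans hξη))
  exact (hξη.antisymm (h1.trans hη'ξ)).eq

private theorem isAffineOpen_inf {S : Scheme.{u}} {V W : S.Opens} (hV : IsAffineHom V.ι)
    (hW : IsAffineOpen W) : IsAffineOpen (V ⊓ W) := by
  have := (hW.preimage V.ι).image_of_isOpenImmersion V.ι
  rwa [Scheme.Hom.image_preimage_eq_opensRange_inf, Scheme.Opens.opensRange_ι] at this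

private theorem isAffineHom_inf {S : Scheme.{u}} {V V' : S.Opens} (hV : IsAffineHom V.ι)
    (hV' : IsAffineHom V'.ι) : IsAffineHom (V ⊓ V').ι := by
  refine ⟨fun W hW => ?_⟩
  rw [← Scheme.Hom.isAffineOpen_iff_of_isOpenImmersion (V ⊓ V').ι,
    Scheme.Hom.image_preimage_eq_opensRange_inf, Scheme.Opens.opensRange_ι, inf_assoc]
  exact isAffineOpen_inf hV (isAffineOpen_inf hV' hW)

/-- A maximal point of the complement of an affine open inclusion is maximal in any smaller dense complement. -/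
private theorem eq_of_specializes {S : Scheme.{u}} [IsNoetherian S] {U V : S.Opens}
    (hU : Dense (U : Set S)) (hUV : U ≤ V) (hV : IsAffineHom V.ι) {η ξ : S} (hη : η ∉ V)
    (hmax : ∀ z, z ∉ V → z ⤳ η → z = η) (hξ : ξ ∉ U) (hξη : ξ ⤳ η) : ξ = η := by
  obtain ⟨W, hW, hηW, -⟩ := exists_isAffineOpen_mem_and_subset (X := S) (U := ⊤) (x := η) trivial
  have : IsNoetherianRing Γ(S, W) := IsLocallyNoetherian.component_noetherian ⟨W, hW⟩
  let A := Γ(S, W)
  let j := hW.fromSpec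
  obtain ⟨p, rfl⟩ : η ∈ Set.range j.base := by rw [hW.range_fromSpec]; exact hηW
  obtain ⟨q, rfl⟩ : ξ ∈ Set.range j.base := by
    rw [hW.range_fromSpec]; exact hξη.mem_open W.isOpen hηW
  have hemb := j.isOpenEmbedding.isInducing
  have haff : IsAffineOpen (j ⁻¹ᵁ (V ⊓ W)) :=
    (isAffineOpen_inf hV hW).preimage_of_isOpenImmersion j (by rw [hW.opensRange_fromSpec]; exact inf_le_right)
  have hp1 : (p : PrimeSpectrum A).asIdeal.height ≤ 1 := by
    refine Groth.Agent.S5161.result A (j ⁻¹ᵁ (V ⊓ W)) haff p (fun h => hη h.1) fun r hr hr' => ?_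
    have hs : j.base r ⤳ j.base p :=
      hemb.specializes_iff.2 ((PrimeSpectrum.le_iff_specializes r p).1 hr)
    exact j.isOpenEmbedding.injective (hmax _ (fun h => hr' ⟨h, hs.mem_open W.isOpen hηW⟩) hs)
  have hqp : (q : PrimeSpectrum A).asIdeal ≤ (p : PrimeSpectrum A).asIdeal :=
    (PrimeSpectrum.le_iff_specializes q p).2 (hemb.specializes_iff.1 hξη)
  by_contra hne
  have hlt : (q : PrimeSpectrum A).asIdeal < (p : PrimeSpectrum A).asIdeal :=
    lt_of_le_of_ne hqp fun h => hne (congrArg j.base (PrimeSpectrum.ext h))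
  have hq : (q : PrimeSpectrum A).asIdeal ∈ minimalPrimes A := by
    rw [← Ideal.height_eq_zero_iff]
    have := Ideal.height_strict_mono_of_isPrime hlt
    exact ENat.lt_one_iff_eq_zero.1 (this.trans_le hp1)
  classical
  obtain ⟨f, hfq, hf⟩ : ∃ f : A, f ∉ (q : PrimeSpectrum A).asIdeal ∧
      ∀ P ∈ minimalPrimes A, P ≠ (q : PrimeSpectrum A).asIdeal → f ∈ P := by
    have : ∀ P ∈ minimalPrimes A, P ≠ (q : PrimeSpectrum A).asIdeal →
        ∃ a, a ∈ P ∧ a ∉ (q : PrimeSpectrum A).asIdeal := fun P hP hPq =>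
      SetLike.not_le_iff_exists.1 fun hle => hPq (le_antisymm hle (hq.2 hP.1 hle))
    choose! a ha ha' using this
    refine ⟨∏ P ∈ (minimalPrimes.finite_of_isNoetherianRing A).toFinset.filter
      (fun P => P ≠ (q : PrimeSpectrum A).asIdeal), a P, ?_, fun P hP hPq => ?_⟩
    · exact prod_mem (S := (q : PrimeSpectrum A).asIdeal.primeCompl) fun P hP => ha' P
        ((Set.Finite.mem_toFinset _).1 (Finset.mem_filter.1 hP).1) (Finset.mem_filter.1 hP).2
    · exact Ideal.prod_mem _ (Finset.mem_filter.2 ⟨(Set.Finite.mem_toFinset _).2 hP, hPq⟩) (ha P hP hPq)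
  obtain ⟨z, hzU, hzf⟩ := (hU.preimage j.isOpenEmbedding.isOpenMap).inter_open_nonempty
    (PrimeSpectrum.basicOpen f : Set (PrimeSpectrum A)) (PrimeSpectrum.basicOpen f).isOpen ⟨q, hfq⟩
  obtain ⟨P, hP, hPz⟩ := Ideal.exists_minimalPrimes_le (bot_le : (⊥ : Ideal A) ≤ (z : PrimeSpectrum A).asIdeal)
  have hPq : P = (q : PrimeSpectrum A).asIdeal := by
    by_contra h
    exact hzU (hPz (hf P hP h))
  have hs : j.base q ⤳ j.base z :=
    hemb.specializes_iff.2 ((PrimeSpectrum.le_iff_specializes q z).1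
      (show (q : PrimeSpectrum A).asIdeal ≤ (z : PrimeSpectrum A).asIdeal from hPq ▸ hPz))
  exact hξ (hs.mem_open U.isOpen hzf)

open AlgebraicGeometry in
/-- For a Noetherian scheme S that is separated, and a dense open subset U ⊆ S that is not empty, only
finitely many open subsets V ⊇ U have an affine inclusion morphism V → S, and among them there is
one contained in all the others (a least element for inclusion). -/
theorem result
    (S : Scheme.{u}) [IsNoetherian S] [S.IsSeparated] (U : S.Opens)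
    (hne : (U : Set S).Nonempty) (hU : Dense (U : Set S)) :
    Set.Finite {V : S.Opens | U ≤ V ∧ IsAffineHom V.ι} ∧
      ∃ V₀ : S.Opens, (U ≤ V₀ ∧ IsAffineHom V₀.ι) ∧
        ∀ V : S.Opens, U ≤ V → IsAffineHom V.ι → V₀ ≤ V := by
  obtain ⟨G, hG, hGsub, hGdom⟩ := exists_generic (U.isOpen.isClosed_compl : IsClosed (U : Set S)ᶜ)
  have key : ∀ V V' : S.Opens, U ≤ V → IsAffineHom V.ι → G \ (V : Set S) ⊆ G \ (V' : Set S) → V' ≤ V := by
    intro V V' hUV hV hsub x hxV'
    by_contra hxV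
    obtain ⟨η, hη, hηx, hmax⟩ := exists_top (V.isOpen.isClosed_compl) (x := x) hxV
    obtain ⟨g, hg, hgη⟩ := hGdom η (fun h => hη (hUV h))
    have hgU : g ∉ U := hGsub hg
    have : g = η := eq_of_specializes hU hUV hV hη hmax hgU hgη
    subst this
    exact (hsub ⟨hg, hη⟩).2 (hηx.mem_open V'.isOpen hxV')
  have hfin : Set.Finite {V : S.Opens | U ≤ V ∧ IsAffineHom V.ι} := by
    refine Set.Finite.of_finite_image (f := fun V : S.Opens => G \ (V : Set S)) ?_ ?_
    · exact hG.finite_subsets.subset (by rintro _ ⟨V, -, rfl⟩; exact Set.sdiff_subset)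
    · intro V hV V' hV' h
      exact le_antisymm (key V' V hV'.1 hV'.2 h.ge) (key V V' hV.1 hV.2 h.le)
  refine ⟨hfin, ?_⟩
  classical
  have htop : IsAffineHom (⊤ : S.Opens).ι := by
    refine ⟨fun W hW => ?_⟩
    rw [← Scheme.Hom.isAffineOpen_iff_of_isOpenImmersion (⊤ : S.Opens).ι,
      Scheme.Hom.image_preimage_eq_opensRange_inf, Scheme.Opens.opensRange_ι, top_inf_eq]
    exact hW
  refine ⟨hfin.toFinset.inf id, Finset.inf_induction ⟨le_top, htop⟩
    (fun V hV V' hV' => ⟨le_inf hV.1 hV'.1, isAffineHom_inf hV.2 hV'.2⟩)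
    (fun V hV => hfin.mem_toFinset.1 hV), fun V h1 h2 => Finset.inf_le (hfin.mem_toFinset.2 ⟨h1, h2⟩)⟩

end Groth.Agent.S13043
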