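import Groth.Statements.S13047
import Mathlib

set_option autoImplicit false
universe u
open FrobAlg

namespace Groth.Agent.S13047

open TensorProduct W4c1imperftorsors Polynomial

section

variable (p : ℕ) [Fact p.Prime] (R : Type u) [CommRing R] [CharP R p] (u v : R)

/-- The algebra `R[α]/(uα, α² − v²)`. -/
local notation "BB" => (R[X] ⧸ Ideal.span {(C u * X : R[X]), X ^ 2 - C (v ^ 2)})

/-- The class of `1 ⊗ α`. -/
noncomputable def al (i : ℕ) : Twist p R BB i :=
  (1 : R) ⊗ₜ[Src p R i] (aEquiv p R BB i).symm (Ideal.Quotient.mk _ X)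

theorem tmul_const (i : ℕ) (r c : R) :
    r ⊗ₜ[Src p R i] (aEquiv p R BB i).symm (algebraMap R BB c) = algebraMap R (Twist p R BB i) (r * c ^ p ^ i) := by
  have h : (aEquiv p R BB i).symm (algebraMap R BB c) = ((srcEquiv p R i).symm c) • (1 : ASrc p R BB i) := by
    rw [Algebra.smul_def, mul_one, algebraMap_aSrc, RingEquiv.apply_symm_apply]
  rw [h, ← TensorProduct.smul_tmul, Algebra.smul_def, algebraMap_src, RingEquiv.apply_symm_apply,
    Algebra.TensorProduct.algebraMap_apply, Algebra.algebraMap_self, RingHom.id_apply, mul_comm r]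

theorem exists_form (i : ℕ) (x : Twist p R BB i) :
    ∃ a b : R, x = algebraMap R _ a + algebraMap R _ b * al p R u v i := by
  induction x using TensorProduct.induction_on with
  | zero => exact ⟨0, 0, by simp⟩
  | tmul r f =>
    obtain ⟨g, hg⟩ := Ideal.Quotient.mk_surjective (aEquiv p R BB i f)
    have hf : f = (aEquiv p R BB i).symm (Ideal.Quotient.mk _ g) := by rw [hg, RingEquiv.symm_apply_apply]
    subst hf
    clear hg
    induction g using Polynomial.induction_on' generalizing r with
    | add g g' hg hg' =>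
      obtain ⟨a, b, e⟩ := hg r
      obtain ⟨a', b', e'⟩ := hg' r
      exact ⟨a + a', b + b', by rw [map_add, map_add, TensorProduct.tmul_add, e, e', map_add, map_add]; ring⟩
    | monomial n c =>
      have hsq : Ideal.Quotient.mk (Ideal.span {(C u * X : R[X]), X ^ 2 - C (v ^ 2)}) X ^ 2 =
          algebraMap R BB (v ^ 2) := by
        rw [← map_pow]
        exact (Ideal.Quotient.eq).2 (Ideal.subset_span (by simp))
      have hmon : Ideal.Quotient.mk (Ideal.span {(C u * X : R[X]), X ^ 2 - C (v ^ 2)}) (monomial n c) =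
          algebraMap R BB (c * (v ^ 2) ^ (n / 2)) * Ideal.Quotient.mk _ X ^ (n % 2) := by
        conv_lhs => rw [← C_mul_X_pow_eq_monomial, map_mul, map_pow (Ideal.Quotient.mk _) X n, ← Nat.div_add_mod n 2, pow_add, pow_mul, hsq]
        simp only [map_mul, map_pow, ← mul_assoc]
        rfl
      rw [hmon, map_mul (aEquiv p R BB i).symm]
      have hsplit : r ⊗ₜ[Src p R i] ((aEquiv p R BB i).symm (algebraMap R BB (c * (v ^ 2) ^ (n / 2))) *
            (aEquiv p R BB i).symm (Ideal.Quotient.mk _ X ^ (n % 2))) =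
          algebraMap R (Twist p R BB i) (r * (c * (v ^ 2) ^ (n / 2)) ^ p ^ i) * al p R u v i ^ (n % 2) := by
        rw [← tmul_const p R u v i, al, Algebra.TensorProduct.tmul_pow, one_pow, Algebra.TensorProduct.tmul_mul_tmul,
          mul_one, map_pow (aEquiv p R BB i).symm]
      rw [hsplit]
      rcases Nat.mod_two_eq_zero_or_one n with h | h <;> rw [h]
      · exact ⟨r * (c * (v ^ 2) ^ (n / 2)) ^ p ^ i, 0, by rw [pow_zero, mul_one, map_zero, zero_mul, add_zero]⟩
      · exact ⟨0, r * (c * (v ^ 2) ^ (n / 2)) ^ p ^ i, by rw [pow_one, map_zero, zero_add]⟩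
  | add x y hx hy =>
    obtain ⟨a, b, rfl⟩ := hx
    obtain ⟨a', b', rfl⟩ := hy
    exact ⟨a + a', b + b', by rw [map_add, map_add]; ring⟩

theorem exists_hom (i : ℕ) {S : Type u} [CommRing S] [Algebra R S] (w : S)
    (hw : algebraMap R S (u ^ p ^ i) * w = 0) (hw2 : w ^ 2 = algebraMap R S ((v ^ 2) ^ p ^ i)) :
    ∃ Φ : Twist p R BB i →+* S, (∀ a, Φ (algebraMap R _ a) = algebraMap R S a) ∧ Φ (al p R u v i) = w := by
  let g : BB →+* S := Ideal.Quotient.lift _ (eval₂RingHom ((algebraMap R S).comp (iterateFrobenius R p i)) w)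
    (fun x hx => by
      refine (Ideal.span_le.2 ?_ : _ ≤ RingHom.ker _) hx
      rintro _ (rfl | rfl)
      · simpa [iterateFrobenius_def, map_pow] using hw
      · simp only [SetLike.mem_coe, RingHom.mem_ker, coe_eval₂RingHom, eval₂_sub, eval₂_X_pow, eval₂_C,
          RingHom.comp_apply, iterateFrobenius_def, hw2, sub_self])
  letI : Algebra (Src p R i) S := ((algebraMap R S).comp (algebraMap (Src p R i) R)).toAlgebra
  let gA : ASrc p R BB i →ₐ[Src p R i] S :=
    { toRingHom := g.comp (aEquiv p R BB i : ASrc p R BB i →+* BB)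
      commutes' := fun s => by
        change g (aEquiv p R BB i (algebraMap (Src p R i) (ASrc p R BB i) s)) = algebraMap R S (algebraMap (Src p R i) R s)
        rw [algebraMap_aSrc, RingEquiv.apply_symm_apply, algebraMap_src]
        change g (Ideal.Quotient.mk _ (C (srcEquiv p R i s))) = _
        simp [g, iterateFrobenius_def] }
  let f : R →ₐ[Src p R i] S := { toRingHom := algebraMap R S, commutes' := fun _ => rfl }
  let Φ := Algebra.TensorProduct.lift f gA (fun _ _ => Commute.all _ _)
  refine ⟨Φ.toRingHom, fun a => ?_, ?_⟩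
  · change Φ (a ⊗ₜ[Src p R i] (1 : ASrc p R BB i)) = _
    simp [Φ, f]
  · change Φ ((1 : R) ⊗ₜ[Src p R i] (aEquiv p R BB i).symm (Ideal.Quotient.mk _ X)) = w
    simp [Φ, f, gA, g]

variable (huv : u * v = 0) (hp : p ≠ 2)

include huv hp in
theorem eq_zero_iff_form (i : ℕ) (a b : R)
    (h : algebraMap R (Twist p R BB i) a + algebraMap R _ b * al p R u v i = 0) :
    a = 0 ∧ b ∈ Ideal.span {u ^ p ^ i} := by
  have hq : p ^ i ≠ 0 := pow_ne_zero _ (Fact.out : p.Prime).ne_zero
  have h1 : u ^ p ^ i * v ^ p ^ i = 0 := by rw [← mul_pow, huv, zero_pow hq]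
  obtain ⟨Φ, hΦ, hΦ'⟩ := exists_hom p R u v i (S := R) (v ^ p ^ i) h1 (by simp [← pow_mul, mul_comm])
  obtain ⟨Ψ, hΨ, hΨ'⟩ := exists_hom p R u v i (S := R) (-(v ^ p ^ i)) (by simpa using h1)
    (by simp [← pow_mul, mul_comm])
  have e1 := congrArg Φ h
  have e2 := congrArg Ψ h
  rw [map_add, map_mul, hΦ, hΦ, hΦ', map_zero] at e1
  rw [map_add, map_mul, hΨ, hΨ, hΨ', map_zero] at e2
  simp only [Algebra.algebraMap_self, RingHom.id_apply] at e1 e2
  constructor
  · have h2 : IsUnit ((2 : ℕ) : R) := (CharP.isUnit_natCast_iff (R := R) (Fact.out : p.Prime)).2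
      fun hd => hp ((Nat.prime_dvd_prime_iff_eq Fact.out Nat.prime_two).1 hd)
    refine h2.mul_right_eq_zero.1 ?_
    push_cast
    linear_combination e1 + e2
  · let I := Ideal.span {u ^ p ^ i}
    let P : (R ⧸ I)[X] := X ^ 2 - C (Ideal.Quotient.mk I ((v ^ 2) ^ p ^ i))
    have hP : P.Monic := monic_X_pow_sub_C _ two_ne_zero
    obtain ⟨Θ, hΘ, hΘ'⟩ := exists_hom p R u v i (S := AdjoinRoot P) (AdjoinRoot.root P)
      (by
        rw [IsScalarTower.algebraMap_apply R (R ⧸ I) (AdjoinRoot P), Ideal.Quotient.algebraMap_eq,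
          Ideal.Quotient.eq_zero_iff_mem.2 (Ideal.mem_span_singleton_self _), map_zero, zero_mul])
      (by
        have := AdjoinRoot.eval₂_root P
        simp only [P, eval₂_sub, eval₂_X_pow, eval₂_C, sub_eq_zero] at this
        rw [this]
        rfl)
    have e := congrArg Θ h
    rw [map_add, map_mul, hΘ, hΘ, hΘ', map_zero] at e
    have hdvd : P ∣ C (Ideal.Quotient.mk I b) * X + C (Ideal.Quotient.mk I a) := by
      rw [← AdjoinRoot.mk_eq_zero, map_add, map_mul, AdjoinRoot.mk_X, AdjoinRoot.mk_C, AdjoinRoot.mk_C, add_comm]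
      exact e
    by_contra hb
    have hb' : Ideal.Quotient.mk I b ≠ 0 := fun h0 => hb (Ideal.Quotient.eq_zero_iff_mem.1 h0)
    have : Nontrivial (R ⧸ I) := ⟨⟨_, _, hb'⟩⟩
    refine hP.not_dvd_of_natDegree_lt (fun h0 => hb' ?_) ?_ hdvd
    · simpa using congrArg (fun q => coeff q 1) h0
    · rw [natDegree_linear hb', natDegree_X_pow_sub_C]
      omega

theorem relFrob_al [CharP BB p] (i : ℕ) (hp : p ≠ 2) :
    relFrob p R BB i (al p R u v (i + 1)) =
      (algebraMap R (Twist p R BB i) (v ^ (p ^ i * (p - 1))) : Twist p R BB i) * (al (p := p) (R := R) u v i) := by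
  obtain ⟨k, hk⟩ := (Fact.out : p.Prime).odd_of_ne_two hp
  have hsq : Ideal.Quotient.mk (Ideal.span {(C u * X : R[X]), X ^ 2 - C (v ^ 2)}) X ^ 2 =
      algebraMap R BB (v ^ 2) := by
    rw [← map_pow]
    exact (Ideal.Quotient.eq).2 (Ideal.subset_span (by simp))
  change relFrobAux p R BB i ((1 : R) ⊗ₜ[Src p R (i + 1)] (aEquiv p R BB (i + 1)).symm (Ideal.Quotient.mk _ X)) = _
  rw [relFrobAux, Algebra.TensorProduct.lift_tmul, map_one, one_mul]
  change (1 : R) ⊗ₜ[Src p R i] (aEquiv p R BB i).symm (frobenius BB p (Ideal.Quotient.mk _ X)) = _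
  have hpow : frobenius BB p (Ideal.Quotient.mk _ X) =
      algebraMap R BB ((v ^ 2) ^ k) * Ideal.Quotient.mk _ X := by
    rw [frobenius_def]
    conv_lhs => rw [hk, pow_succ, pow_mul, hsq, ← map_pow]
  have hsplit : (1 : R) ⊗ₜ[Src p R i] ((aEquiv p R BB i).symm (algebraMap R BB ((v ^ 2) ^ k)) *
        (aEquiv p R BB i).symm (Ideal.Quotient.mk _ X)) =
      algebraMap R (Twist p R BB i) (1 * ((v ^ 2) ^ k) ^ p ^ i) * al p R u v i := by
    rw [← tmul_const p R u v i, al, Algebra.TensorProduct.tmul_mul_tmul, mul_one]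
  rw [hpow, map_mul (aEquiv p R BB i).symm, hsplit, one_mul, ← pow_mul, ← pow_mul]
  congr 3
  rw [show p - 1 = 2 * k by omega]
  ring

theorem u_pow_al (i : ℕ) : algebraMap R (Twist p R BB i) (u ^ p ^ i) * al p R u v i = 0 := by
  have h := tmul_const p R u v i 1 u
  rw [one_mul] at h
  rw [← h, al, Algebra.TensorProduct.tmul_mul_tmul, ← map_mul (aEquiv p R BB i).symm,
    show algebraMap R BB u * Ideal.Quotient.mk _ X = 0 from
      (map_mul (Ideal.Quotient.mk _) (C u) X).symm.trans
        (Ideal.Quotient.eq_zero_iff_mem.2 (Ideal.subset_span (by simp))),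
    map_zero, TensorProduct.tmul_zero]

include huv hp in
theorem bijective [CharP BB p] (hsep : ∀ N : ℕ, 1 ≤ N → ∀ g : R,
      (∀ n : ℕ, g ∈ Ideal.span {v ^ n} ⊔ Ideal.span {u ^ N}) → g ∈ Ideal.span {u ^ N}) :
    Function.Bijective (algebraMap R ↥(prePerf p R BB)) := by
  constructor
  · intro r r' h
    have h0 : algebraMap R (Twist p R BB 0) r = algebraMap R (Twist p R BB 0) r' :=
      congrArg (fun z : ↥(prePerf p R BB) => (z : Π j, Twist p R BB j) 0) h
    refine sub_eq_zero.1 (eq_zero_iff_form p R u v huv hp 0 (r - r') 0 ?_).1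
    rw [map_zero, zero_mul, add_zero, map_sub, h0, sub_self]
  · rintro ⟨x, hx⟩
    have hcompat : ∀ j, relFrob p R BB j (x (j + 1)) = x j := fun j => (Algebra.mem_iInf.1 hx j :)
    choose a b hab using fun j => exists_form p R u v j (x j)
    have key : ∀ j, a (j + 1) = a j ∧
        b (j + 1) * v ^ (p ^ j * (p - 1)) - b j ∈ Ideal.span {u ^ p ^ j} := fun j => by
      have h := hcompat j
      rw [hab, hab, map_add, map_mul, AlgHom.commutes, AlgHom.commutes, relFrob_al p R u v j hp, ← sub_eq_zero] at h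
      have := eq_zero_iff_form p R u v huv hp j (a (j + 1) - a j) (b (j + 1) * v ^ (p ^ j * (p - 1)) - b j) (by
        rw [← h, map_sub, map_sub, map_mul]
        ring)
      exact ⟨sub_eq_zero.1 this.1, this.2⟩
    have hb : ∀ n j, b j ∈ Ideal.span {v ^ n} ⊔ Ideal.span {u ^ p ^ j} := by
      intro n
      induction n with
      | zero => intro j; simp
      | succ n ih =>
        intro j
        obtain ⟨y, hy, z, hz, hyz⟩ := Submodule.mem_sup.1 (ih (j + 1))
        obtain ⟨y', rfl⟩ := Ideal.mem_span_singleton.1 hy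
        obtain ⟨z', rfl⟩ := Ideal.mem_span_singleton.1 hz
        obtain ⟨c, hc⟩ := Ideal.mem_span_singleton.1 (key j).2
        have he : 1 ≤ p ^ j * (p - 1) := Nat.one_le_iff_ne_zero.2 (mul_ne_zero
          (pow_ne_zero _ (Fact.out : p.Prime).ne_zero) (by have := (Fact.out : p.Prime).two_le; omega))
        obtain ⟨e, he'⟩ := Nat.exists_eq_add_of_le he
        obtain ⟨d, hd⟩ := Nat.exists_eq_add_of_le (Nat.pow_le_pow_right (Fact.out : p.Prime).pos (Nat.le_succ j))
        refine Submodule.mem_sup.2 ⟨v ^ (n + 1) * (y' * v ^ e), Ideal.mul_mem_right _ _ (Ideal.mem_span_singleton_self _),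
          u ^ p ^ j * (u ^ d * z' * v ^ (p ^ j * (p - 1)) - c), Ideal.mul_mem_right _ _ (Ideal.mem_span_singleton_self _), ?_⟩
        rw [hd, pow_add] at hyz
        rw [← hyz, he'] at hc
        rw [he']
        linear_combination hc
    refine ⟨a 0, Subtype.ext (funext fun j => ?_)⟩
    have ha : a j = a 0 := by
      induction j with
      | zero => rfl
      | succ j ih => rw [(key j).1, ih]
    obtain ⟨c, hc⟩ := Ideal.mem_span_singleton.1 (hsep (p ^ j) (Nat.one_le_pow _ _ (Fact.out : p.Prime).pos) (b j)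
      fun n => hb n j)
    change algebraMap R _ (a 0) = x j
    rw [hab, hc, map_mul, mul_right_comm, u_pow_al, zero_mul, add_zero, ha]

end

open Polynomial in
/-- Let p be an odd prime, R a commutative ring of characteristic p and u, v ∈ R with uv = 0, such that
for every N ≥ 1 an element of R lying in (v^n) + (u^N) for all n lies in (u^N) (v-adic separatedness
of R/(u^N)). Let B = R[α]/(uα, α² − v²), an R-algebra of characteristic p, with Frobenius twists
B^{p^i/R} = R ⊗_{F^i,R} B and preperfection B^{p^∞/R} = lim_i B^{p^i/R} along the relative Frobenius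
maps. Then the structure map R → B^{p^∞/R} is bijective: the preperfection of B is R. (The published
statement is for R = F_p[[u, v]]/(uv), where B arises as the preperfection of R[x, y, 1/(x − y)]/(xy
− u), so that the second preperfection of that algebra is R although the first is not perfect; the
printed computation uses only the hypotheses listed here, which that R satisfies.) -/
theorem result
    (p : ℕ) [Fact p.Prime] (hp : p ≠ 2) (R : Type u) [CommRing R] [CharP R p]
    (u v : R) (huv : u * v = 0)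
    (hsep : ∀ N : ℕ, 1 ≤ N → ∀ g : R,
      (∀ n : ℕ, g ∈ Ideal.span {v ^ n} ⊔ Ideal.span {u ^ N}) → g ∈ Ideal.span {u ^ N})
    [CharP (R[X] ⧸ Ideal.span {(C u * X : R[X]), X ^ 2 - C (v ^ 2)}) p] :
    Function.Bijective
      (algebraMap R ↥(W4c1imperftorsors.prePerf p R
        (R[X] ⧸ Ideal.span {(C u * X : R[X]), X ^ 2 - C (v ^ 2)}))) := by
  exact bijective p R u v huv hp hsep

end Groth.Agent.S13047
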