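import Groth.Statements.S13063
import Groth.Agent.H9PB.LangWeil.Components

set_option autoImplicit false
set_option maxHeartbeats 1000000
universe u
open CategoryTheory AlgebraicGeometry Limits
open Zeta

namespace Groth.Agent.S13063

/-- Let X be a scheme of finite type over a finite field k with q elements, of dimension r. For each
irreducible component Z of X of dimension r let m_Z be the number of irreducible components of its
preimage in X ×_k k̄, k̄ an algebraic closure of k, and put a_e = ∑_{Z : m_Z ∣ e} m_Z. Then there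
are constants α, α' > 0 such that for every e ≥ 1: if a_e > 0 then |N_e − a_e q^{er}| ≤ α q^{e(r −
1/2)}, and if a_e = 0 then N_e ≤ α' q^{e(r − 1)}, where N_e = ∑_{d ∣ e} d · #{closed points of
residue degree d} is the number of points of X in the degree-e extension of k. (Stated for schemes
of finite type; reducedness plays no role.) -/
theorem result {k : Type u} [Field k] [Finite k] {X : Scheme.{u}}
    (f : X ⟶ Spec (CommRingCat.of k)) [LocallyOfFiniteType f] [QuasiCompact f] (r : ℕ)
    (hr : topologicalKrullDim X = r) :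
    ∃ α α' : ℝ, 0 < α ∧ 0 < α' ∧ ∀ e : ℕ, 1 ≤ e →
      (0 < (∑ᶠ (Z : Set X) (_ : Z ∈ irreducibleComponents X ∧ topologicalKrullDim Z = r ∧
            Nat.card (irreducibleComponents ((pullback.fst f (Spec.map (CommRingCat.ofHom
              (algebraMap k (AlgebraicClosure k))))).base ⁻¹' Z)) ∣ e),
          Nat.card (irreducibleComponents ((pullback.fst f (Spec.map (CommRingCat.ofHom
              (algebraMap k (AlgebraicClosure k))))).base ⁻¹' Z))) →
        |(Zeta.nPts f e : ℝ) -
            (∑ᶠ (Z : Set X) (_ : Z ∈ irreducibleComponents X ∧ topologicalKrullDim Z = r ∧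
              Nat.card (irreducibleComponents ((pullback.fst f (Spec.map (CommRingCat.ofHom
                (algebraMap k (AlgebraicClosure k))))).base ⁻¹' Z)) ∣ e),
            Nat.card (irreducibleComponents ((pullback.fst f (Spec.map (CommRingCat.ofHom
                (algebraMap k (AlgebraicClosure k))))).base ⁻¹' Z)) : ℕ) *
              (Nat.card k : ℝ) ^ (e * r)| ≤
          α * (Nat.card k : ℝ) ^ ((e : ℝ) * ((r : ℝ) - 1 / 2))) ∧
      ((∑ᶠ (Z : Set X) (_ : Z ∈ irreducibleComponents X ∧ topologicalKrullDim Z = r ∧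
            Nat.card (irreducibleComponents ((pullback.fst f (Spec.map (CommRingCat.ofHom
              (algebraMap k (AlgebraicClosure k))))).base ⁻¹' Z)) ∣ e),
          Nat.card (irreducibleComponents ((pullback.fst f (Spec.map (CommRingCat.ofHom
              (algebraMap k (AlgebraicClosure k))))).base ⁻¹' Z))) = 0 →
        (Zeta.nPts f e : ℝ) ≤ α' * (Nat.card k : ℝ) ^ ((e : ℝ) * ((r : ℝ) - 1))) := by
  classical
  obtain ⟨Top, C, hTop, hC, hpos, hest⟩ := Groth.Agent.H9PB.LangWeil.exists_estimate f hr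
  refine ⟨C + 1, C + 1, by linarith, by linarith, fun e he => ?_⟩
  haveI : NeZero e := ⟨by omega⟩
  obtain ⟨p, hp⟩ := CharP.exists k
  haveI : Fact p.Prime := ⟨CharP.char_is_prime k p⟩
  let k' := ULift.{u} (FiniteField.Extension k p e)
  haveI : Finite k' := Finite.of_equiv _ Equiv.ulift.symm
  have hdeg : Module.finrank k k' = e :=
    (ULift.moduleEquiv : k' ≃ₗ[k] _).finrank_eq.trans (FiniteField.finrank_extension k p e)
  have hN : (Zeta.nPts f e : ℝ) = Nat.card (Groth.Agent.H9PB.LangWeil.Pts f k') := by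
    exact congrArg Nat.cast ((congrArg (Zeta.nPts f) hdeg.symm).trans (Groth.Agent.ZetaLib.pointCount_eq_nPts f k').symm)
  have hQ : ∀ s : ℝ, (Nat.card k' : ℝ) ^ s = (Nat.card k : ℝ) ^ ((e : ℝ) * s) := fun s => by
    rw [Module.natCard_eq_pow_finrank (K := k) (V := k'), hdeg, Nat.cast_pow, ← Real.rpow_natCast,
      ← Real.rpow_mul (Nat.cast_nonneg _)]
  have hsum : (∑ᶠ (Z : Set X) (_ : Z ∈ irreducibleComponents X ∧ topologicalKrullDim Z = r ∧
      Groth.Agent.H9PB.LangWeil.geomComp f Z ∣ e), Groth.Agent.H9PB.LangWeil.geomComp f Z) =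
      ∑ Z ∈ Top with Groth.Agent.H9PB.LangWeil.geomComp f Z ∣ e, Groth.Agent.H9PB.LangWeil.geomComp f Z := by
    refine finsum_cond_eq_sum_of_cond_iff _ fun {Z} _ => ?_
    rw [Finset.mem_filter, hTop, and_assoc]
  obtain ⟨h1, h2⟩ := hest k'
  rw [hdeg] at h1 h2
  have hq0 : ∀ s : ℝ, (0 : ℝ) ≤ (Nat.card k : ℝ) ^ s := fun s => Real.rpow_nonneg (Nat.cast_nonneg _) _
  refine ⟨fun _ => ?_, fun h0 => ?_⟩
  · change |(Zeta.nPts f e : ℝ) - ((∑ᶠ (Z : Set X) (_ : Z ∈ irreducibleComponents X ∧ topologicalKrullDim Z = r ∧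
      Groth.Agent.H9PB.LangWeil.geomComp f Z ∣ e), Groth.Agent.H9PB.LangWeil.geomComp f Z : ℕ) : ℝ) *
        (Nat.card k : ℝ) ^ (e * r)| ≤ _
    rw [hsum, hN, ← Real.rpow_natCast (Nat.card k : ℝ) (e * r), Nat.cast_mul, ← hQ, ← hQ]
    exact h1.trans (mul_le_mul_of_nonneg_right (by linarith) (Real.rpow_nonneg (Nat.cast_nonneg _) _))
  · change (∑ᶠ (Z : Set X) (_ : Z ∈ irreducibleComponents X ∧ topologicalKrullDim Z = r ∧
      Groth.Agent.H9PB.LangWeil.geomComp f Z ∣ e), Groth.Agent.H9PB.LangWeil.geomComp f Z) = 0 at h0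
    rw [hsum, Finset.sum_eq_zero_iff] at h0
    rw [hN, ← hQ]
    refine (h2 fun Z hZ hdvd => (hpos Z hZ).ne' (h0 Z (Finset.mem_filter.2 ⟨hZ, hdvd⟩))).trans ?_
    exact mul_le_mul_of_nonneg_right (by linarith) (Real.rpow_nonneg (Nat.cast_nonneg _) _)

end Groth.Agent.S13063
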