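import Groth.Statements.S13068
import Groth.Agent.H9PB.CurveFinFF.ClassMap
import Groth.Agent.H9PB.CurveFinFF.Zeta
import Groth.Agent.H9PB.FrobCurve
import Groth.Agent.S11036
import Groth.Agent.S11038
import Groth.Agent.S11039

set_option autoImplicit false
universe u
open CategoryTheory AlgebraicGeometry
open Zeta

namespace Groth.Agent.S13068

set_option backward.isDefEq.respectTransparency false
set_option backward.isDefEq.respectTransparency.types false
set_option linter.style.haveILetI false
open Groth.Agent Groth.Agent.H9PB

/-- Let X be a smooth, geometrically connected, projective curve of genus g over F_q (here: smooth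
proper geometrically irreducible, of dimension one). Then Z(X, t) = f(t) / ((1 − t)(1 − qt)) with f
∈ ℤ[t] of degree ≤ 2g, f(0) = 1 and f(1) = h, where h is the number of isomorphism classes of line
bundles of degree zero on X (the number of k-points of the Jacobian). -/
theorem result (k : Type u) [Field k] [Finite k]
    (X : Scheme.{u}) [X.Over (Spec (CommRingCat.of k))]
    (hX : Curve.IsSmoothProperCurve k X (X ↘ Spec (CommRingCat.of k)))
    [GeometricallyIrreducible (X ↘ Spec (CommRingCat.of k))] :
    ∃ P : Polynomial ℤ, P.natDegree ≤ 2 * Curv2.genus k X ∧ P.coeff 0 = 1 ∧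
      P.eval 1 = Nat.card {c : PicF.Cl X // ∃ L : X.Modules, PicF.cl L = c ∧ PicF.IsInvertible L ∧
          Curv2.deg k X L 1 = 0} ∧
      Zeta.zetaFun (X ↘ Spec (CommRingCat.of k)) *
          ((1 - PowerSeries.X) * (1 - PowerSeries.C (Nat.card k : ℚ) * PowerSeries.X)) =
        ((P.map (Int.castRingHom ℚ) : Polynomial ℚ) : PowerSeries ℚ) := by
  obtain ⟨hp, hs, hI, hd⟩ := hX
  haveI := FrobCurve.geometricallyConnected (X ↘ Spec (CommRingCat.of k))
  haveI := QuasiCompact.compactSpace_of_compactSpace (X ↘ Spec (CommRingCat.of k))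
  have h0 := CurveBC.finrank_h0_of_geometricallyConnected k X
  letI := CurveFinFF.ffAlg k X
  have hK := CurveFinFF.isFunctionField k X hd h0
  obtain ⟨p, hp'⟩ := S11036.result k X.functionField hK
  refine ⟨p, Polynomial.natDegree_le_iff_coeff_eq_zero.2 fun n hn => ?_, ?_, ?_, CurveFinFF.zetaFun_mul k hd h0 p hp'⟩
  · rw [← Polynomial.coeff_coe, hp']
    exact (S11039.result k X.functionField hK).1 n (by rw [CurveFinFF.genus_eq k hd h0]; exact hn)
  · rw [← Polynomial.coeff_coe, hp']
    exact FFLib.constantCoeff_numerZ hK.1
  · rw [S11038.result k X.functionField hK p hp', ← CurveFinFF.card_clDeg_zero k hd h0]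

end Groth.Agent.S13068
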