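import Groth.Statements.S13072
import Groth.Agent.GalFib.Frob
import Mathlib.Topology.JacobsonSpace

set_option linter.style.haveILetI false
set_option backward.isDefEq.respectTransparency false
set_option backward.isDefEq.respectTransparency.types false


set_option autoImplicit false
universe u
open CategoryTheory AlgebraicGeometry Limits
open Zeta


namespace Groth.Agent.S13072

/-- Case r = 1, to which the general case reduces by passing to X ×_k F_{q^r}. Let X be a variety over k
= F_q, k̄ an algebraic closure and F = Frob_{X,q} × id the induced endomorphism of X_{k̄}. A closed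
subset W ⊆ X_{k̄} is of the form Y_{k̄} for a closed Y ⊆ X (i.e. W = π⁻¹(Y), π the projection) if
and only if F(W) ⊆ W. Stated for schemes of finite type over k; F_X is pinned as the endomorphism
that is the identity on points and the q-th power on sections, F by F ≫ pr_1 = pr_1 ≫ F_X and F ≫
pr_2 = pr_2. -/
theorem result {k : Type u} [Field k] [Finite k]
    {X : Scheme.{u}} (f : X ⟶ Spec (CommRingCat.of k)) [LocallyOfFiniteType f] [QuasiCompact f]
    (FX : X ⟶ X) (hFb : FX.base = 𝟙 _) (hle : ∀ U : X.Opens, U ≤ FX ⁻¹ᵁ U)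
    (hFapp : ∀ (U : X.Opens) (s : Γ(X, U)), (FX.appLE U U (hle U)).hom s = s ^ Nat.card k)
    (F : FinFr.ext (AlgebraicClosure k) f ⟶ FinFr.ext (AlgebraicClosure k) f)
    (hF1 : F ≫ FinFr.extπ (AlgebraicClosure k) f = FinFr.extπ (AlgebraicClosure k) f ≫ FX)
    (hF2 : F ≫ FinFr.extStr (AlgebraicClosure k) f = FinFr.extStr (AlgebraicClosure k) f)
    (W : Set ↑(FinFr.ext (AlgebraicClosure k) f)) (hW : IsClosed W) :
    (∃ Y : Set X, IsClosed Y ∧ (FinFr.extπ (AlgebraicClosure k) f).base ⁻¹' Y = W) ↔
      F.base '' W ⊆ W := by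
  have hπF : ∀ w, (FinFr.extπ (AlgebraicClosure k) f).base (F.base w) =
      (FinFr.extπ (AlgebraicClosure k) f).base w := fun w => by
    have := congr(($hF1).base w)
    simp only [Scheme.Hom.comp_base, TopCat.comp_app, hFb] at this
    simpa using this
  constructor
  · rintro ⟨Y, -, rfl⟩ _ ⟨w, hw, rfl⟩
    rw [Set.mem_preimage, hπF]
    exact hw
  · intro hFW
    let π := pullback.fst f (Spec.map (CommRingCat.ofHom (algebraMap k (AlgebraicClosure k))))
    haveI : IsIntegralHom π := MorphismProperty.pullback_fst (P := @IsIntegralHom) _ _ inferInstance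
    refine ⟨π '' W, π.isClosedMap _ hW, ?_⟩
    refine Set.Subset.antisymm ?_ (Set.subset_preimage_image π W)
    haveI : LocallyOfFiniteType (pullback.snd f (Spec.map (CommRingCat.ofHom
        (algebraMap k (AlgebraicClosure k))))) := MorphismProperty.pullback_snd _ _ ‹_›
    haveI : JacobsonSpace ↥(pullback f (Spec.map (CommRingCat.ofHom
        (algebraMap k (AlgebraicClosure k))))) :=
      LocallyOfFiniteType.jacobsonSpace (pullback.snd f _)
    have hZ : IsClosed (π ⁻¹' (π '' W)) := (π.isClosedMap _ hW).preimage π.continuous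
    refine (JacobsonSpace.closure_inter_closedPoints_eq_closure hZ.isLocallyClosed |>.trans
      hZ.closure_eq).symm.le.trans (closure_minimal ?_ hW)
    rintro z ⟨⟨w, hw, hwz⟩, hz⟩
    refine Groth.Agent.GalFib.mem_of_same_image f FX hle hFapp F hF1 hF2 W
      (fun v hv => hFW ⟨v, hv, rfl⟩) w z hw hwz ?_
    rw [hwz]
    exact (Groth.Agent.GalFib.isClosed_singleton_iff f z).1 hz
end Groth.Agent.S13072
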