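import Groth.Statements.S13079
import Groth.Agent.Quot9.Comp
import Mathlib.AlgebraicGeometry.Morphisms.Flat

set_option backward.isDefEq.respectTransparency false
set_option backward.isDefEq.respectTransparency.types false


set_option autoImplicit false
universe u
open CategoryTheory AlgebraicGeometry Limits
open Zeta

namespace Groth.Agent.S13079

/-- Suppose the finite groups G and H act by algebraic k-automorphisms on schemes X and Y of finite type
over k, both admitting quotients X → X/G and Y → Y/H (equivalently, covered by invariant affine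
opens). Then X × Y has the same property for the product action of G × H and (X × Y)/(G × H) ≅ X/G ×
Y/H: the morphism X ×_k Y → X/G ×_k Y/H with components the two quotient maps is a quotient for the
product action. The product action θ and that morphism π are pinned by their composites with the
projections. -/
theorem result {k : Type u} [Field k] {G H : Type u} [Group G] [Finite G] [Group H]
    [Finite H] {X Y XG YH : Scheme.{u}} (fX : X ⟶ Spec (CommRingCat.of k))
    (fY : Y ⟶ Spec (CommRingCat.of k)) [LocallyOfFiniteType fX] [QuasiCompact fX]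
    [LocallyOfFiniteType fY] [QuasiCompact fY] (gX : XG ⟶ Spec (CommRingCat.of k))
    (gY : YH ⟶ Spec (CommRingCat.of k)) (ρ : G →* Aut X) (σ : H →* Aut Y)
    (hρ : ∀ g, (ρ g).hom ≫ fX = fX) (hσ : ∀ h, (σ h).hom ≫ fY = fY)
    (p : X ⟶ XG) (hp : p ≫ gX = fX) (q : Y ⟶ YH) (hq : q ≫ gY = fY)
    (hP : SGA1.IsQuot ρ p) (hQ : SGA1.IsQuot σ q)
    (θ : G × H →* Aut (pullback fX fY))
    (hθ1 : ∀ gh : G × H, (θ gh).hom ≫ pullback.fst fX fY = pullback.fst fX fY ≫ (ρ gh.1).hom)
    (hθ2 : ∀ gh : G × H, (θ gh).hom ≫ pullback.snd fX fY = pullback.snd fX fY ≫ (σ gh.2).hom)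
    (π : pullback fX fY ⟶ pullback gX gY) (hπ1 : π ≫ pullback.fst gX gY = pullback.fst fX fY ≫ p)
    (hπ2 : π ≫ pullback.snd gX gY = pullback.snd fX fY ≫ q) :
    SGA1.IsQuot θ π := by
  haveI hsub : Subsingleton ↥(Spec (CommRingCat.of k)) := inferInstanceAs (Subsingleton (PrimeSpectrum k))
  haveI : Flat fY := inferInstance
  haveI : Flat gX := inferInstance
  let p' : pullback fX fY ⟶ pullback gX fY :=
    pullback.map fX fY gX fY p (𝟙 Y) (𝟙 _) ((Category.comp_id _).trans hp.symm) (by simp)
  let q' : pullback gX fY ⟶ pullback gX gY :=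
    pullback.map gX fY gX gY (𝟙 XG) q (𝟙 _) (by simp) ((Category.comp_id _).trans hq.symm)
  have p'1 : p' ≫ pullback.fst gX fY = pullback.fst fX fY ≫ p := pullback.lift_fst _ _ _
  have p'2 : p' ≫ pullback.snd gX fY = pullback.snd fX fY := (pullback.lift_snd _ _ _).trans (Category.comp_id _)
  have q'1 : q' ≫ pullback.fst gX gY = pullback.fst gX fY := (pullback.lift_fst _ _ _).trans (Category.comp_id _)
  have q'2 : q' ≫ pullback.snd gX gY = pullback.snd gX fY ≫ q := pullback.lift_snd _ _ _
  have hX : IsPullback p' (pullback.fst fX fY) (pullback.fst gX fY) p :=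
    IsPullback.of_right (by rw [p'2, hp]; exact (IsPullback.of_hasPullback fX fY).flip) p'1
      (IsPullback.of_hasPullback gX fY).flip
  have hY : IsPullback q' (pullback.snd gX fY) (pullback.snd gX gY) q :=
    IsPullback.of_right (by rw [q'1, hq]; exact IsPullback.of_hasPullback gX fY) q'2
      (IsPullback.of_hasPullback gX gY)
  let s : H → (pullback gX fY ⟶ pullback gX fY) := fun h =>
    pullback.map gX fY gX fY (𝟙 XG) (σ h).hom (𝟙 _) (by simp) ((Category.comp_id _).trans (hσ h).symm)
  have s1 : ∀ h, s h ≫ pullback.fst gX fY = pullback.fst gX fY := fun h =>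
    (pullback.lift_fst _ _ _).trans (Category.comp_id _)
  have s2 : ∀ h, s h ≫ pullback.snd gX fY = pullback.snd gX fY ≫ (σ h).hom := fun h => pullback.lift_snd _ _ _
  have smul : ∀ a b, s (a * b) = s b ≫ s a := fun a b => by
    refine pullback.hom_ext ?_ ?_
    · rw [Category.assoc, s1, s1, s1]
    · rw [Category.assoc, s2, s2, reassoc_of% s2 b, SGA1Q.hom_mul]
  have sone : s 1 = 𝟙 _ := by
    refine pullback.hom_ext ?_ ?_
    · rw [s1, Category.id_comp]
    · rw [s2, SGA1Q.hom_one]; simp
  let σ' : H →* Aut (pullback gX fY) :=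
    { toFun := fun h => ⟨s h, s h⁻¹, by rw [← smul, inv_mul_cancel, sone], by rw [← smul, mul_inv_cancel, sone]⟩
      map_one' := Iso.ext sone
      map_mul' := fun a b => Iso.ext (smul a b) }
  have hN : SGA1.IsQuot (θ.comp (MonoidHom.inl G H)) p' := by
    refine SGA1Q.isQuot_baseChange hP (pullback.fst gX fY) (pullback.fst fX fY) p' hX.flip _
      (fun g => hθ1 (g, 1)) (fun g => pullback.hom_ext ?_ ?_)
    · rw [Category.assoc, p'1, ← Category.assoc]
      show ((θ (g, 1)).hom ≫ pullback.fst fX fY) ≫ p = _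
      rw [hθ1, Category.assoc, hP.inv]
    · rw [Category.assoc, p'2]
      show (θ (g, 1)).hom ≫ pullback.snd fX fY = _
      rw [hθ2, SGA1Q.hom_one, Category.comp_id]
  have hr : SGA1.IsQuot σ' q' :=
    SGA1Q.isQuot_baseChange hQ (pullback.snd gX gY) (pullback.snd gX fY) q' hY.flip σ' s2
      (fun h => pullback.hom_ext (by rw [Category.assoc, q'1]; exact s1 h)
        (by rw [Category.assoc, q'2, ← Category.assoc, show (σ' h).hom ≫ pullback.snd gX fY = _ from s2 h,
          Category.assoc, hQ.inv]))
  have e : π = p' ≫ q' := pullback.hom_ext (by rw [Category.assoc, q'1, p'1, hπ1])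
    (by rw [Category.assoc, q'2, ← Category.assoc, p'2, hπ2])
  subst e
  refine Groth.Agent.Quot9.isQuot_comp (MonoidHom.inl G H) hN hr Prod.snd (fun h => ⟨(1, h), rfl⟩) fun gh => ?_
  refine pullback.hom_ext ?_ ?_
  · rw [Category.assoc, Category.assoc, show (σ' gh.2).hom ≫ pullback.fst gX fY = _ from s1 gh.2, p'1,
      reassoc_of% hθ1 gh, hP.inv]
  · rw [Category.assoc, Category.assoc, show (σ' gh.2).hom ≫ pullback.snd gX fY = _ from s2 gh.2, p'2,
      reassoc_of% p'2, hθ2 gh]
end Groth.Agent.S13079
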