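import Groth.Statements.S13082
import Groth.Agent.QuotPts.Basic
import Groth.Agent.SGA1Q.Orbits

set_option linter.style.haveILetI false
set_option backward.isDefEq.respectTransparency false
set_option backward.isDefEq.respectTransparency.types false


set_option autoImplicit false
universe u
open CategoryTheory AlgebraicGeometry Limits
open Zeta


namespace Groth.Agent.S13082

/-- Let X be a scheme of finite type over k with an action of a finite group G by algebraic
automorphisms over k admitting a quotient π : X → X/G, and W a locally closed subscheme of X on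
which G induces an action. Then the canonical morphism W/G → π(W) is radicial and surjective: the
induced morphism φ : W/G → X/G is universally injective with set-theoretic image π(W). The action on
W is pinned along the immersion j : W → X, φ by p_W ≫ φ = j ≫ π for a quotient p_W : W → W/G. -/
theorem result {k : Type u} [Field k] {G : Type u}
    [Group G] [Finite G] {X XG W WG : Scheme.{u}} (fX : X ⟶ Spec (CommRingCat.of k))
    [LocallyOfFiniteType fX] [QuasiCompact fX] (ρ : G →* Aut X) (hρ : ∀ g, (ρ g).hom ≫ fX = fX)
    (p : X ⟶ XG) (hP : SGA1.IsQuot ρ p) (j : W ⟶ X) [IsImmersion j] (ρW : G →* Aut W)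
    (hρW : ∀ g, (ρW g).hom ≫ j = j ≫ (ρ g).hom) (pW : W ⟶ WG) (hPW : SGA1.IsQuot ρW pW)
    (φ : WG ⟶ XG) (hφ : pW ≫ φ = j ≫ p) :
    UniversallyInjective φ ∧ Set.range φ.base = p.base '' Set.range j.base := by
  haveI : Surjective pW := ⟨SGA1Q.surjective hPW⟩
  refine ⟨Groth.Agent.QuotPts.universallyInjective_of_lifts pW φ fun Ω _ a b hab => ?_, ?_⟩
  · obtain ⟨σ, hσ⟩ := Groth.Agent.QuotPts.exists_comp_eq hP (a ≫ j) (b ≫ j) (by
      rw [Category.assoc, Category.assoc, ← hφ]; exact hab)
    have he : a ≫ (ρW σ).hom = b := by
      rw [← cancel_mono j, Category.assoc, hρW σ]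
      simpa using hσ
    rw [← he, Category.assoc, hPW.inv σ]
  · rw [← Set.range_comp, ← Function.Surjective.range_comp (SGA1Q.surjective hPW) φ.base]
    exact congrArg Set.range (congrArg (fun f : W ⟶ XG => (f.base : W → XG)) hφ)
end Groth.Agent.S13082
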