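import Groth.Statements.S13083
import Groth.Agent.GalFib.Count
import Mathlib.FieldTheory.Normal.Basic

set_option linter.style.haveILetI false
set_option backward.isDefEq.respectTransparency false
set_option backward.isDefEq.respectTransparency.types false


set_option autoImplicit false
universe u
open CategoryTheory AlgebraicGeometry Limits
open Zeta


namespace Groth.Agent.S13083

/-- Let X be a variety over a perfect field k, k̄ an algebraic closure and π : X_{k̄} → X the
projection. Sending a closed point x to the sum of the points of π⁻¹(x) induces a bijection between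
effective 0-cycles of degree n on X and effective 0-cycles of degree n on X_{k̄} fixed by G(k̄/k).
Stated for schemes of finite type over k, with 0-cycles as finitely supported ℕ-valued functions on
closed points, the degree on X weighted by the residue degrees [κ(x) : k], the map being c ↦ c ∘ π,
and the Galois automorphisms τ_σ = id × Spec σ pinned by their projections. -/
theorem result {k : Type u} [Field k]
    [PerfectField k] {X : Scheme.{u}} (f : X ⟶ Spec (CommRingCat.of k)) [LocallyOfFiniteType f]
    [QuasiCompact f]
    (τ : (AlgebraicClosure k ≃ₐ[k] AlgebraicClosure k) →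
      (pullback f (Spec.map (CommRingCat.ofHom (algebraMap k (AlgebraicClosure k)))) ⟶
        pullback f (Spec.map (CommRingCat.ofHom (algebraMap k (AlgebraicClosure k))))))
    (hτ1 : ∀ σ, τ σ ≫ pullback.fst f _ = pullback.fst f _)
    (hτ2 : ∀ σ, τ σ ≫ pullback.snd f (Spec.map (CommRingCat.ofHom (algebraMap k (AlgebraicClosure k)))) =
        pullback.snd f _ ≫ Spec.map (CommRingCat.ofHom (σ : AlgebraicClosure k →+* AlgebraicClosure k)))
    (n : ℕ) :
    Set.BijOn
      (fun c : X → ℕ => c ∘ (pullback.fst f (Spec.map (CommRingCat.ofHom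
        (algebraMap k (AlgebraicClosure k))))).base)
      {c : X → ℕ | (Function.support c).Finite ∧ (∀ x, c x ≠ 0 → IsClosed ({x} : Set X)) ∧
        ∑ᶠ x, c x * EGA4loc.residueDegree f x = n}
      {d : ↑(pullback f (Spec.map (CommRingCat.ofHom (algebraMap k (AlgebraicClosure k))))) → ℕ |
        (Function.support d).Finite ∧ (∀ y, d y ≠ 0 → IsClosed ({y} : Set _)) ∧
        ∑ᶠ y, d y = n ∧ ∀ σ y, d ((τ σ).base y) = d y} := by
  classical
  set π := pullback.fst f (Spec.map (CommRingCat.ofHom (algebraMap k (AlgebraicClosure k)))) with hπ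
  haveI : Surjective π := MorphismProperty.pullback_fst (P := @Surjective) _ _ inferInstance
  have hfib := fun x hx => Groth.Agent.GalFib.encard_fibre f x hx
  have hsum : ∀ c : ↥X → ℕ, (Function.support c).Finite → (∀ x, c x ≠ 0 → IsClosed ({x} : Set ↥X)) →
      (Function.support (c ∘ π.base)).Finite ∧
      ∑ᶠ y, c (π y) = ∑ᶠ x, c x * EGA4loc.residueDegree f x := by
    intro c hc hcl
    have hsupp : Function.support (c ∘ π.base) = ⋃ x ∈ Function.support c, π ⁻¹' {x} := by
      ext y; simp
    have hf : (Function.support (c ∘ π.base)).Finite := by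
      rw [hsupp]; exact hc.biUnion fun x hx => (hfib x (hcl x hx)).1
    refine ⟨hf, ?_⟩
    let s := hc.toFinset
    let t := hf.toFinset
    rw [finsum_eq_sum_of_support_subset (s := t) _ (by simp [t, Function.comp_def]),
      finsum_eq_sum_of_support_subset (s := s) (fun x => c x * EGA4loc.residueDegree f x) (by
        intro x hx; simp only [s, Set.Finite.coe_toFinset, Function.mem_support] at hx ⊢
        exact left_ne_zero_of_mul hx)]
    rw [← Finset.sum_fiberwise_of_maps_to (t := s) (g := fun y => π y)
      (fun y hy => by simpa [s, t] using hy)]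
    refine Finset.sum_congr rfl fun x hx => ?_
    have hx' : c x ≠ 0 := by simpa [s] using hx
    have he : ((t.filter fun y => π y = x) : Set _) = π ⁻¹' {x} := by
      ext y
      simp only [t, Finset.coe_filter, Set.Finite.mem_toFinset, Function.mem_support,
        Function.comp_apply, Set.mem_setOf_eq, Set.mem_preimage, Set.mem_singleton_iff]
      exact ⟨fun h => h.2, fun h => ⟨by rw [h]; exact hx', h⟩⟩
    rw [Finset.sum_congr rfl (g := fun _ => c x) (fun y hy => by rw [(Finset.mem_filter.1 hy).2]),
      Finset.sum_const, smul_eq_mul, mul_comm, ← (hfib x (hcl x hx')).2, ← hπ, ← he,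
      Set.ncard_coe_finset]
  refine ⟨fun c ⟨hc, hcl, hn⟩ => ?_, fun c _ c' _ h => ?_, fun d ⟨hd, hdl, hn, hinv⟩ => ?_⟩
  · obtain ⟨hf, hs⟩ := hsum c hc hcl
    refine ⟨hf, fun y hy => ?_, hs.trans hn, fun σ y => ?_⟩
    · exact (Groth.Agent.GalFib.isClosed_singleton_iff f y).2 (hcl _ hy)
    · show c (π (τ σ y)) = c (π y)
      rw [← Scheme.Hom.comp_apply, hτ1]
  · funext x
    obtain ⟨y, rfl⟩ := π.surjective x
    exact congrFun h y
  · let c : ↥X → ℕ := fun x => d (π.surjective x).choose
    have hcd : c ∘ π.base = d := by
      funext y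
      obtain ⟨σ, hσ⟩ := Groth.Agent.GalFib.exists_tau_eq f _ rfl τ hτ1 hτ2
        (π.surjective (π y)).choose y (π.surjective (π y)).choose_spec
      show d (π.surjective (π y)).choose = d y
      rw [← hinv σ (π.surjective (π y)).choose]
      exact congrArg d hσ
    have hc : (Function.support c).Finite := by
      refine (hd.image π.base).subset fun x hx => ⟨(π.surjective x).choose, hx, (π.surjective x).choose_spec⟩
    have hcl : ∀ x, c x ≠ 0 → IsClosed ({x} : Set ↥X) := fun x hx => by
      have := (Groth.Agent.GalFib.isClosed_singleton_iff f _).1 (hdl _ hx)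
      rwa [← hπ, (π.surjective x).choose_spec] at this
    refine ⟨c, ⟨hc, hcl, ?_⟩, hcd⟩
    rw [← (hsum c hc hcl).2, ← hn]
    exact finsum_congr fun y => congrFun hcd y
end Groth.Agent.S13083
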