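import Groth.Statements.S13099
import Mathlib.Data.Nat.Choose.Lucas
import Mathlib.Algebra.CharP.Invertible
import Mathlib.Algebra.CharP.Algebra
import Mathlib.Algebra.CharP.Lemmas
import Mathlib.Algebra.Polynomial.Div
import Mathlib.Algebra.Polynomial.Derivative
import Mathlib.RingTheory.Ideal.Quotient.Operations
import Mathlib.Algebra.MvPolynomial.Monad
import Mathlib.Algebra.MvPolynomial.Equiv
import Mathlib.Tactic.LinearCombination

set_option autoImplicit false
universe u
open GrpSch

namespace Groth.Agent.S13099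

open MvPolynomial in
theorem coeff_aeval_var {A : Type u} [CommRing A] (l : Fin 2) (q : Polynomial A) (d : Fin 2 →₀ ℕ) :
    coeff d (Polynomial.aeval (X l : MvPolynomial (Fin 2) A) q) =
      if d = Finsupp.single l (d l) then q.coeff (d l) else 0 := by
  classical
  induction q using Polynomial.induction_on' with
  | add a b ha hb => simp only [map_add, coeff_add, ha, hb, Polynomial.coeff_add]; split <;> simp
  | monomial n a =>
    rw [Polynomial.aeval_monomial, algebraMap_eq, coeff_C_mul, coeff_X_pow, Polynomial.coeff_monomial]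
    by_cases h : d = Finsupp.single l (d l)
    · rw [if_pos h]
      by_cases hn : n = d l
      · rw [if_pos hn, if_pos (hn ▸ h.symm), mul_one]
      · rw [if_neg hn, if_neg (fun hh => hn (by rw [← hh]; simp)), mul_zero]
    · rw [if_neg h, if_neg (fun hh => h (by rw [← hh]; simp)), mul_zero]

theorem coeff_aeval_zero {A : Type u} [CommRing A] (q : Polynomial A) (i j : ℕ) :
    MvPolynomial.coeff (Finsupp.single 0 i + Finsupp.single 1 j)
      (Polynomial.aeval (MvPolynomial.X 0 : MvPolynomial (Fin 2) A) q) = if j = 0 then q.coeff i else 0 := by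
  rw [coeff_aeval_var]
  have e : (Finsupp.single 0 i + Finsupp.single 1 j : Fin 2 →₀ ℕ) 0 = i := by simp
  rw [e]
  refine if_congr ⟨fun h => ?_, fun h => by rw [h, Finsupp.single_zero, add_zero]⟩ rfl rfl
  simpa using congrArg (fun d : Fin 2 →₀ ℕ => d 1) h

theorem coeff_aeval_one {A : Type u} [CommRing A] (q : Polynomial A) (i j : ℕ) :
    MvPolynomial.coeff (Finsupp.single 0 i + Finsupp.single 1 j)
      (Polynomial.aeval (MvPolynomial.X 1 : MvPolynomial (Fin 2) A) q) = if i = 0 then q.coeff j else 0 := by
  rw [coeff_aeval_var]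
  have e : (Finsupp.single 0 i + Finsupp.single 1 j : Fin 2 →₀ ℕ) 1 = j := by simp
  rw [e]
  refine if_congr ⟨fun h => ?_, fun h => by rw [h, Finsupp.single_zero, zero_add]⟩ rfl rfl
  simpa using congrArg (fun d : Fin 2 →₀ ℕ => d 0) h

open MvPolynomial in
theorem coeff_aeval_add {A : Type u} [CommRing A] (q : Polynomial A) (i j : ℕ) :
    coeff (Finsupp.single 0 i + Finsupp.single 1 j)
      (Polynomial.aeval (X 0 + X 1 : MvPolynomial (Fin 2) A) q) = ((i + j).choose i : A) * q.coeff (i + j) := by
  classical
  induction q using Polynomial.induction_on' with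
  | add a b ha hb => simp only [map_add, coeff_add, ha, hb, Polynomial.coeff_add, mul_add]
  | monomial n a =>
    rw [Polynomial.aeval_monomial, algebraMap_eq, coeff_C_mul, add_pow, coeff_sum, Polynomial.coeff_monomial]
    have hterm : ∀ m ∈ Finset.range (n + 1),
        coeff (Finsupp.single 0 i + Finsupp.single 1 j)
          ((X 0 ^ m * X 1 ^ (n - m) * (n.choose m : MvPolynomial (Fin 2) A)) : MvPolynomial (Fin 2) A) =
        if m = i ∧ n - m = j then (n.choose m : A) else 0 := by
      intro m _
      rw [X_pow_eq_monomial, X_pow_eq_monomial, monomial_mul, ← map_natCast (C (σ := Fin 2) (R := A)), mul_comm _ (C _), C_mul_monomial,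
        coeff_monomial, one_mul, mul_one]
      refine if_congr ⟨fun h => ?_, fun h => by rw [h.1, ← h.1, h.2]⟩ rfl rfl
      exact ⟨by simpa using congrArg (fun d : Fin 2 →₀ ℕ => d 0) h,
        by simpa using congrArg (fun d : Fin 2 →₀ ℕ => d 1) h⟩
    rw [Finset.sum_congr rfl hterm]
    by_cases hn : n = i + j
    · subst hn
      rw [if_pos rfl, Finset.sum_eq_single i (fun m _ hm => if_neg fun h => hm h.1)
        (fun h => absurd (Finset.mem_range.mpr (by omega)) h), if_pos ⟨rfl, by omega⟩, mul_comm]
    · rw [if_neg hn, mul_zero, Finset.sum_eq_zero fun m hm => if_neg fun h => hn (by rw [Finset.mem_range] at hm; omega),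
        mul_zero]


open Polynomial in
theorem bij_iff (p : ℕ) [Fact p.Prime] {A : Type u} [CommRing A] [CharP A p] (I : Ideal A[X])
    (hI : I = Ideal.span ({X ^ p ^ 2} : Set A[X])) (a₁ ap : A) (φ : (A[X] ⧸ I) →ₐ[A] (A[X] ⧸ I))
    (hφ : φ (Ideal.Quotient.mk I X) = Ideal.Quotient.mk I (Polynomial.C a₁ * X + Polynomial.C ap * X ^ p)) :
    Function.Bijective φ ↔ IsUnit a₁ := by
  have hp : p.Prime := Fact.out
  set x : A[X] ⧸ I := Ideal.Quotient.mk I Polynomial.X with hx
  have hx2 : x ^ p ^ 2 = 0 := by
    rw [hx, ← map_pow]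
    exact Ideal.Quotient.eq_zero_iff_mem.mpr (hI ▸ Ideal.subset_span rfl)
  rw [map_add, map_mul, map_mul, map_pow, ← hx] at hφ
  set c := algebraMap A (A[X] ⧸ I) with hc
  have hC : ∀ a, Ideal.Quotient.mk I (Polynomial.C a) = c a := fun a => rfl
  rw [hC, hC] at hφ
  haveI : Nontrivial A := CharP.nontrivial_of_char_ne_one (R := A) hp.ne_one
  constructor
  · intro hb
    obtain ⟨f, hf⟩ := hb.2 x
    obtain ⟨f, rfl⟩ := Ideal.Quotient.mk_surjective f
    rw [show Ideal.Quotient.mk I f = Polynomial.aeval x f by
      rw [hx, ← Ideal.Quotient.mkₐ_eq_mk A, Polynomial.aeval_algHom_apply, Polynomial.aeval_X_left_apply],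
      ← Polynomial.aeval_algHom_apply, hφ] at hf
    have e : Ideal.Quotient.mk I (f.comp (Polynomial.C a₁ * Polynomial.X + Polynomial.C ap * Polynomial.X ^ p)) =
        Ideal.Quotient.mk I Polynomial.X := by
      rw [← hx, ← hf, Polynomial.comp_eq_aeval, ← Ideal.Quotient.mkₐ_eq_mk A, ← Polynomial.aeval_algHom_apply,
      map_add, map_mul, map_mul, map_pow]
      rfl
    have e2 := Polynomial.X_pow_dvd_iff.mp (Ideal.mem_span_singleton.mp (hI ▸ Ideal.Quotient.eq.mp e)) 1
      (Nat.one_lt_pow two_ne_zero hp.one_lt)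
    refine IsUnit.of_mul_eq_one_right (f.coeff 1) ?_
    have e3 : (f.comp (Polynomial.C a₁ * Polynomial.X + Polynomial.C ap * Polynomial.X ^ p)).coeff 1 =
        f.coeff 1 * a₁ := by
      have hd0 : ∀ g : A[X], g.coeff 1 = (Polynomial.derivative g).eval 0 := fun g => by
        rw [← Polynomial.coeff_zero_eq_eval_zero, Polynomial.coeff_derivative]
        simp
      rw [hd0 (f.comp _), Polynomial.derivative_comp]
      simp [hp.ne_zero, Nat.sub_ne_zero_of_lt hp.one_lt, hp.one_lt.ne, ← Polynomial.coeff_zero_eq_eval_zero, Polynomial.coeff_derivative]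
      ring
    rw [Polynomial.coeff_sub, Polynomial.coeff_X_one, e3, sub_eq_zero] at e2
    exact e2
  · intro hu
    obtain ⟨v, hv⟩ := hu.exists_left_inv
    haveI : ExpChar (A[X] ⧸ I) p := by
      haveI : CharP (A[X] ⧸ I) p := by
        refine charP_of_injective_ringHom (f := c) ?_ p
        intro a b hab
        have h := Polynomial.X_pow_dvd_iff.mp (Ideal.mem_span_singleton.mp (hI ▸ Ideal.Quotient.eq.mp
          (show Ideal.Quotient.mk I (Polynomial.C a) = Ideal.Quotient.mk I (Polynomial.C b) from hab))) 0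
          (pow_pos hp.pos 2)
        simpa [sub_eq_zero] using h
      exact ExpChar.prime hp
    have hpow : ∀ a b : A, (c a * x + c b * x ^ p) ^ p = c (a ^ p) * x ^ p := fun a b => by
      rw [add_pow_expChar, mul_pow, mul_pow, ← pow_mul, ← pow_two, hx2, mul_zero, add_zero, map_pow]
    let ψ : (A[X] ⧸ I) →ₐ[A] (A[X] ⧸ I) := Ideal.Quotient.liftₐ I
      (Polynomial.aeval (c v * x + c (-(ap * v ^ (p + 1))) * x ^ p)) (by
      intro z hz
      obtain ⟨w, rfl⟩ := Ideal.mem_span_singleton.mp (hI ▸ hz)
      rw [map_mul, map_pow, Polynomial.aeval_X,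
        show p ^ 2 = p * p from pow_two p, pow_mul, hpow, mul_pow, ← pow_mul x, ← pow_two, hx2, mul_zero, zero_mul])
    have hψx : ψ x = c v * x + c (-(ap * v ^ (p + 1))) * x ^ p :=
      (Ideal.Quotient.liftₐ_apply _ _ _ _).trans ((Ideal.Quotient.lift_mk _ _ _).trans (Polynomial.aeval_X _))
    have hext : ∀ g : (A[X] ⧸ I) →ₐ[A] (A[X] ⧸ I), g x = x → g = AlgHom.id A _ := fun g hg =>
      Ideal.Quotient.algHom_ext A (Polynomial.algHom_ext hg)
    refine (AlgEquiv.ofAlgHom φ ψ (hext _ ?_) (hext _ ?_) : (A[X] ⧸ I) ≃ₐ[A] (A[X] ⧸ I)).bijective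
    · rw [AlgHom.comp_apply, hψx, map_add, map_mul, map_mul, map_pow, hφ, hpow, hc, φ.commutes, φ.commutes, ← hc,
        mul_add, ← mul_assoc, ← map_mul, ← mul_assoc, ← map_mul, hv, map_one, one_mul, ← mul_assoc, ← map_mul, add_assoc,
        ← add_mul, ← map_add]
      have : v * ap + -(ap * v ^ (p + 1)) * a₁ ^ p = 0 := by
        rw [pow_succ]
        have hvp : v ^ p * a₁ ^ p = 1 := by rw [← mul_pow, hv, one_pow]
        linear_combination -(ap * v) * hvp
      rw [this, map_zero, zero_mul, add_zero]
    · rw [AlgHom.comp_apply, hφ, map_add, map_mul, map_mul, map_pow, hψx, hpow, hc, ψ.commutes, ψ.commutes, ← hc,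
        mul_add, ← mul_assoc, ← map_mul, ← mul_assoc, ← map_mul, mul_comm a₁, hv, map_one, one_mul, ← mul_assoc, ← map_mul,
        add_assoc, ← add_mul, ← map_add]
      have : a₁ * -(ap * v ^ (p + 1)) + ap * v ^ p = 0 := by
        rw [pow_succ]
        linear_combination -(ap * v ^ p) * hv
      rw [this, map_zero, zero_mul, add_zero]

open Polynomial in
/-- Let p be a prime and A a commutative ring of characteristic p, and consider the infinitesimal group
scheme Spec A[X]/(X^{p²}) with the additive group law. In coordinates: (1) a polynomial q ∈ A[X] of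
degree less than p² satisfies q(Y + Z) − q(Y) − q(Z) ∈ (Y^{p²}, Z^{p²}) in A[Y, Z] (that is, X ↦ q
respects the comultiplication) if and only if q = a₁ X + a_p X^p for some a₁, a_p ∈ A; (2) an
A-algebra endomorphism of A[X]/(X^{p²}) that sends the class of X to the class of a₁ X + a_p X^p is
bijective if and only if a₁ is a unit of A. (The printed statement is that the automorphism group
scheme of this group scheme is the semidirect product of the additive group by the multiplicative
group, v acting on u by v^{p−1}u; this row records the two computations it consists of, in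
coordinates.) -/
theorem result (p : ℕ) [Fact p.Prime] (A : Type u) [CommRing A] [CharP A p] :
    (∀ q : A[X], q.natDegree < p ^ 2 →
      (Polynomial.aeval (MvPolynomial.X 0 + MvPolynomial.X 1 : MvPolynomial (Fin 2) A) q -
            Polynomial.aeval (MvPolynomial.X 0 : MvPolynomial (Fin 2) A) q -
            Polynomial.aeval (MvPolynomial.X 1 : MvPolynomial (Fin 2) A) q ∈
          Ideal.span ({MvPolynomial.X 0 ^ p ^ 2, MvPolynomial.X 1 ^ p ^ 2} : Set (MvPolynomial (Fin 2) A)) ↔
        ∃ a₁ ap : A, q = Polynomial.C a₁ * X + Polynomial.C ap * X ^ p)) ∧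
    (∀ (a₁ ap : A) (φ : (A[X] ⧸ Ideal.span ({X ^ p ^ 2} : Set A[X])) →ₐ[A] (A[X] ⧸ Ideal.span ({X ^ p ^ 2} : Set A[X]))),
      φ (Ideal.Quotient.mk (Ideal.span ({X ^ p ^ 2} : Set A[X])) X) =
          Ideal.Quotient.mk (Ideal.span ({X ^ p ^ 2} : Set A[X])) (Polynomial.C a₁ * X + Polynomial.C ap * X ^ p) →
        (Function.Bijective φ ↔ IsUnit a₁)) := by
  classical
  have hp : p.Prime := Fact.out
  have hsum : ∀ x y : MvPolynomial (Fin 2) A, (x + y) ^ p = x ^ p + y ^ p := fun x y => by
    haveI : CharP (MvPolynomial (Fin 2) A) p := charP_of_injective_ringHom (MvPolynomial.C_injective (Fin 2) A) p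
    haveI : ExpChar (MvPolynomial (Fin 2) A) p := ExpChar.prime hp
    exact add_pow_expChar x y p
  refine ⟨fun q hq => ⟨fun hmem => ?_, ?_⟩, fun a₁ ap φ hφ => ?_⟩
  · have hcoef : ∀ i j, i < p ^ 2 → j < p ^ 2 → MvPolynomial.coeff (Finsupp.single 0 i + Finsupp.single 1 j)
        (Polynomial.aeval (MvPolynomial.X 0 + MvPolynomial.X 1 : MvPolynomial (Fin 2) A) q -
          Polynomial.aeval (MvPolynomial.X 0 : MvPolynomial (Fin 2) A) q -
          Polynomial.aeval (MvPolynomial.X 1 : MvPolynomial (Fin 2) A) q) = 0 := by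
      intro i j hi hj
      obtain ⟨u, v, huv⟩ := Ideal.mem_span_pair.mp hmem
      rw [← huv, MvPolynomial.coeff_add, MvPolynomial.X_pow_eq_monomial, MvPolynomial.X_pow_eq_monomial,
        MvPolynomial.coeff_mul_monomial', MvPolynomial.coeff_mul_monomial', if_neg, if_neg, add_zero]
      · intro h
        have := h 1
        simp at this
        omega
      · intro h
        have := h 0
        simp at this
        omega
    have hN : ∀ i j, i + j < p ^ 2 → ((i + j).choose i : A) * q.coeff (i + j) =
        (if j = 0 then q.coeff i else 0) + (if i = 0 then q.coeff j else 0) := by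
      intro i j hij
      have h := hcoef i j (by omega) (by omega)
      rw [sub_sub, MvPolynomial.coeff_sub, MvPolynomial.coeff_add, sub_eq_zero, coeff_aeval_add, coeff_aeval_zero,
        coeff_aeval_one] at h
      exact h
    have h0 : q.coeff 0 = 0 := by
      have := hN 0 0 (pow_pos hp.pos 2)
      simpa using this
    have hz : ∀ N, N ≠ 1 → N ≠ p → q.coeff N = 0 := by
      intro N hN1 hNp
      by_cases hlt : N < p ^ 2
      swap
      · exact Polynomial.coeff_eq_zero_of_natDegree_lt (by omega)
      by_cases hN0 : N = 0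
      · exact hN0 ▸ h0
      obtain ⟨i, hi0, hiN, hunit⟩ : ∃ i, 0 < i ∧ i < N ∧ ¬ p ∣ N.choose i := by
        by_cases hd : p ∣ N
        · obtain ⟨a, rfl⟩ := hd
          have ha : a < p := by rw [pow_two] at hlt; exact Nat.lt_of_mul_lt_mul_left hlt
          have ha2 : 2 ≤ a := by
            rcases a with _ | _ | a
            · simp at hN0
            · simp at hNp
            · omega
          refine ⟨p, hp.pos, lt_mul_of_one_lt_right hp.pos ha2, ?_⟩
          intro h
          have h1 := (Choose.choose_modEq_choose_mod_mul_choose_div_nat (n := p * a) (k := p) (p := p)).symm.trans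
            (Nat.modEq_zero_iff_dvd.mpr h)
          rw [Nat.mul_mod_right, Nat.mod_self, Nat.choose_self, one_mul, Nat.mul_div_cancel_left _ hp.pos,
            Nat.div_self hp.pos, Nat.choose_one_right] at h1
          have := Nat.le_of_dvd (by omega) (Nat.modEq_zero_iff_dvd.mp h1)
          omega
        · exact ⟨1, one_pos, by omega, by rwa [Nat.choose_one_right]⟩
      have h := hN i (N - i) (by omega)
      rw [Nat.add_sub_cancel' hiN.le, if_neg (by omega), if_neg (by omega), add_zero] at h
      have hu : IsUnit ((N.choose i : A)) := (CharP.isUnit_natCast_iff hp).mpr hunit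
      exact hu.mul_right_eq_zero.mp h
    refine ⟨q.coeff 1, q.coeff p, Polynomial.ext fun N => ?_⟩
    rw [Polynomial.coeff_add, Polynomial.coeff_C_mul, Polynomial.coeff_C_mul, Polynomial.coeff_X,
      Polynomial.coeff_X_pow]
    by_cases hN1 : N = 1
    · subst hN1
      rw [if_pos rfl, if_neg hp.one_lt.ne, mul_one, mul_zero, add_zero]
    · by_cases hNp : N = p
      · subst hNp
        rw [if_neg (Ne.symm hN1), if_pos rfl, mul_one, mul_zero, zero_add]
      · rw [hz N hN1 hNp, if_neg (Ne.symm hN1), if_neg hNp, mul_zero, mul_zero, add_zero]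
  · rintro ⟨a₁, ap, rfl⟩
    simp only [map_add, map_mul, map_pow, Polynomial.aeval_C, Polynomial.aeval_X, hsum]
    convert zero_mem (Ideal.span _) using 1
    ring
  · exact bij_iff p _ rfl a₁ ap φ hφ

end Groth.Agent.S13099
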