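import Groth.Statements.S13155
import Mathlib

set_option autoImplicit false
universe u
open CAlg

namespace Groth.Agent.S13155

/-- Let R be a discrete valuation ring of characteristic zero with uniformizer π, and A a Noetherian
integrally closed domain which is an R-algebra with injective structure map and in which πA is a
prime ideal (X = Spec A is normal, flat over R, with integral special fibre). Let m ≥ 1 and let f ∈
A be invertible in A[1/π] (so Z^m = f defines a μ_m-torsor over the generic fibre), such that S =
A[1/π][Z]/(Z^m − f) is an integral domain and, writing B for the integral closure of A in S (the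
normalization of X in that cover), πB is a prime ideal of B (the normalization has integral special
fibre). Then f is, up to a unit of A, an m-th power of a power of π: f = π^{mq}·u with q ≥ 0 and u ∈
A^×, so that the cover extends to the μ_m-torsor Z^m = u over all of X. (The published statement is
the existence and uniqueness of the extending μ_m-torsor over a normal faithfully flat R-scheme with
integral fibres, R containing a primitive m-th root of unity; this row is the affine computation
that carries the proof.) -/
theorem result (R : Type u) [CommRing R]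
    [IsDomain R] [IsDiscreteValuationRing R] [CharZero R] (ϖ : R) (hϖ : Irreducible ϖ)
    (A : Type u) [CommRing A] [IsDomain A] [IsNoetherianRing A] [IsIntegrallyClosed A] [Algebra R A]
    (hinj : Function.Injective (algebraMap R A)) (hprime : (Ideal.span {algebraMap R A ϖ}).IsPrime)
    (m : ℕ) (hm : 0 < m) (f : A) (hf : IsUnit (algebraMap A (Localization.Away (algebraMap R A ϖ)) f))
    [IsDomain (AdjoinRoot (Polynomial.X ^ m - Polynomial.C (algebraMap A (Localization.Away (algebraMap R A ϖ)) f)))]
    (hsp : (Ideal.span {algebraMap A (integralClosure A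
        (AdjoinRoot (Polynomial.X ^ m - Polynomial.C (algebraMap A (Localization.Away (algebraMap R A ϖ)) f))))
          (algebraMap R A ϖ)}).IsPrime) :
    ∃ (q : ℕ) (u : Aˣ), f = algebraMap R A ϖ ^ (m * q) * (u : A) := by
  classical
  let π : A := algebraMap R A ϖ
  have hπ0 : π ≠ 0 := fun h => hϖ.ne_zero (hinj (h.trans (map_zero _).symm))
  have hπ : Prime π := (Ideal.span_singleton_prime hπ0).mp hprime
  obtain ⟨g, hg⟩ := hf.exists_right_inv
  obtain ⟨n, y, hy⟩ := IsLocalization.Away.surj π g
  have hfy : algebraMap A (Localization.Away π) (f * y) = algebraMap A (Localization.Away π) (π ^ n) := by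
    rw [map_mul, ← hy, ← mul_assoc, hg, one_mul, map_pow]
  have hinjA : Function.Injective (algebraMap A (Localization.Away π)) :=
    IsLocalization.injective _ (powers_le_nonZeroDivisors_of_noZeroDivisors hπ0)
  obtain ⟨a, -, hass⟩ := (dvd_prime_pow hπ n).1 ⟨y, (hinjA hfy).symm⟩
  obtain ⟨u, hu⟩ := hass.symm
  by_cases hr : a % m = 0
  · refine ⟨a / m, u, ?_⟩
    rw [← hu]
    congr 2
    have := Nat.div_add_mod a m
    omega
  exfalso
  let h : Polynomial (Localization.Away π) :=
    Polynomial.X ^ m - Polynomial.C (algebraMap A (Localization.Away π) f)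
  let S := AdjoinRoot h
  let B := integralClosure A S
  let φ := algebraMap A S
  haveI : IsDomain S := ‹_›
  have hπu : IsUnit (φ π) := by
    show IsUnit (algebraMap A S π)
    rw [IsScalarTower.algebraMap_apply A (Localization.Away π) S]
    exact (IsLocalization.Away.algebraMap_isUnit π).map _
  have hroot : AdjoinRoot.root h ^ m = φ f := by
    have h1 := AdjoinRoot.eval₂_root h
    simp only [h, Polynomial.eval₂_sub, Polynomial.eval₂_X_pow, Polynomial.eval₂_C, sub_eq_zero] at h1
    rw [h1]
    show _ = algebraMap A S f
    rw [IsScalarTower.algebraMap_apply A (Localization.Away π) S, AdjoinRoot.algebraMap_eq]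
  let w : S := AdjoinRoot.root h * ((hπu.unit⁻¹ : Sˣ) : S) ^ (a / m)
  have hwm : w ^ m = φ (π ^ (a % m) * u) := by
    have ha : a = a / m * m + a % m := (Nat.div_add_mod' a m).symm
    rw [mul_pow, hroot, ← hu, map_mul, map_mul, map_pow, map_pow, ← pow_mul]
    rw [show φ π ^ a = φ π ^ (a / m * m) * φ π ^ (a % m) by rw [← pow_add, ← ha]]
    calc φ π ^ (a / m * m) * φ π ^ (a % m) * φ (u : A) * ((hπu.unit⁻¹ : Sˣ) : S) ^ (a / m * m) =
          (φ π * ((hπu.unit⁻¹ : Sˣ) : S)) ^ (a / m * m) * (φ π ^ (a % m) * φ (u : A)) := by
            rw [mul_pow]; ring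
      _ = _ := by rw [IsUnit.mul_val_inv, one_pow, one_mul]
  have hwint : IsIntegral A w := IsIntegral.of_pow hm (hwm ▸ isIntegral_algebraMap)
  let W : B := ⟨w, hwint⟩
  have hWm : W ^ m = algebraMap A B (π ^ (a % m) * u) := Subtype.ext hwm
  let P : Ideal B := Ideal.span {algebraMap A B π}
  haveI hP : P.IsPrime := hsp
  have hWP : W ∈ P := hP.mem_of_pow_mem m (by
    rw [hWm, map_mul, map_pow]
    exact P.mul_mem_right _ (Ideal.pow_mem_of_mem P (Ideal.mem_span_singleton_self _) _ (Nat.pos_of_ne_zero hr)))
  obtain ⟨V, hV⟩ := Ideal.mem_span_singleton.1 hWP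
  have hπB : algebraMap A B π ≠ 0 := fun h => hπu.ne_zero (congrArg Subtype.val h)
  rw [hV, mul_pow, map_mul, map_pow] at hWm
  have hlt : a % m < m := Nat.mod_lt _ hm
  have e : algebraMap A B π ^ m = algebraMap A B π ^ (a % m) * algebraMap A B π ^ (m - a % m - 1 + 1) := by
    rw [← pow_add]; congr 1; omega
  rw [e, mul_assoc] at hWm
  have h2 := mul_left_cancel₀ (pow_ne_zero _ hπB) hWm
  have hunit : IsUnit (algebraMap A B π) := by
    have hu2 : IsUnit (algebraMap A B π ^ (m - a % m - 1 + 1) * V ^ m) := h2 ▸ u.isUnit.map (algebraMap A B)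
    exact (isUnit_pow_iff (Nat.succ_ne_zero _)).mp (isUnit_of_mul_isUnit_left hu2)
  exact hP.ne_top (Ideal.span_singleton_eq_top.2 hunit)

end Groth.Agent.S13155
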