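import Groth.Statements.S13158
import Mathlib.RingTheory.Flat.FaithfullyFlat.Algebra
import Mathlib.Tactic

set_option autoImplicit false
universe u
open CAlg

namespace Groth.Agent.S13158

open Polynomial in
/-- one step: in an integrally closed domain with `μ^(p-1) ∣ p`, `μ^p ∣ y^p - 1 ↔ μ ∣ y - 1`. -/
theorem step {A : Type*} [CommRing A] [IsDomain A] [IsIntegrallyClosed A] {p : ℕ} (hp : p.Prime)
    {μ : A} (hμ : μ ≠ 0) (h : μ ^ (p - 1) ∣ (p : A)) (y : A) :
    μ ^ p ∣ y ^ p - 1 ↔ μ ∣ y - 1 := by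
  obtain ⟨q, hq⟩ := h
  have hp1 : 1 ≤ p := hp.one_le
  constructor
  · rintro ⟨c, hc⟩
    let e : ℕ → ℕ := fun k => p.choose k / p
    let S : Polynomial A := ∑ k ∈ Finset.Ioo 0 p, C (μ ^ (k - 1) * (e k : A)) * X ^ k
    let K := FractionRing A
    let φ := algebraMap A K
    have hφ : φ μ ≠ 0 := fun h => hμ (IsFractionRing.injective A K (by rw [map_zero]; exact h))
    let z : K := (φ y - 1) / φ μ
    have hyz : φ y = φ μ * z + 1 := by
      show φ y = φ μ * ((φ y - 1) / φ μ) + 1
      rw [mul_div_cancel₀ _ hφ]; ring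
    have hdeg : (C q * S - C c).degree < p := by
      refine lt_of_le_of_lt (degree_sub_le _ _) (max_lt ?_ (lt_of_le_of_lt degree_C_le (by exact_mod_cast hp.pos)))
      refine lt_of_le_of_lt (degree_mul_le _ _) ?_
      refine lt_of_le_of_lt (add_le_add degree_C_le le_rfl) ?_
      rw [zero_add]
      refine lt_of_le_of_lt (degree_sum_le _ _) ((Finset.sup_lt_iff (WithBot.bot_lt_coe p)).mpr fun k hk => ?_)
      exact lt_of_le_of_lt (degree_C_mul_X_pow_le k _) (WithBot.coe_lt_coe.mpr (Finset.mem_Ioo.mp hk).2)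
    have hint : IsIntegral A z := by
      refine ⟨X ^ p + (C q * S - C c), monic_X_pow_add hdeg, ?_⟩
      have h1 : (φ μ) ^ p * (z ^ p + (φ q * S.eval₂ φ z - φ c)) = 0 := by
        have h2 : (φ y) ^ p - 1 = φ μ ^ p * φ c := by rw [← map_pow, ← map_one φ, ← map_sub, hc, map_mul, map_pow]
        have h3 : φ μ ^ (p - 1) * φ q = (p : K) := by rw [← map_pow, ← map_mul, ← hq, map_natCast]
        have h4 : φ μ ^ p * (φ q * S.eval₂ φ z) =
            (p : K) * (φ μ * z) * 1 * ∑ k ∈ Finset.Ioo 0 p, (φ μ * z) ^ (k - 1) * 1 ^ (p - k - 1) * ((e k : ℕ) : K) := by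
          rw [← h3]
          simp only [S, eval₂_finsetSum, eval₂_mul, eval₂_pow, eval₂_natCast, eval₂_C, eval₂_X, map_mul,
            map_pow, map_natCast, Finset.mul_sum]
          rw [Finset.mul_sum (a := φ q), Finset.mul_sum]
          try rw [Finset.mul_sum]
          refine Finset.sum_congr rfl fun k hk => ?_
          obtain ⟨k, rfl⟩ : ∃ j, k = j + 1 := ⟨k - 1, by have := (Finset.mem_Ioo.mp hk).1; omega⟩
          obtain ⟨r, rfl⟩ : ∃ r, p = r + 1 := ⟨p - 1, by omega⟩
          simp only [add_tsub_cancel_right, one_pow]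
          clear_value z
          rw [mul_pow, pow_succ (φ μ) r, pow_succ z k]
          ring
        have h5 := add_pow_prime_eq hp (φ μ * z) 1
        rw [← hyz, one_pow] at h5
        rw [mul_add, mul_sub, h4, ← h2, h5]
        simp only [e]
        clear_value z
        rw [mul_pow]
        ring
      rw [eval₂_add, eval₂_sub, eval₂_mul, eval₂_C, eval₂_C, eval₂_X_pow]
      exact (mul_eq_zero.mp h1).resolve_left (pow_ne_zero _ hφ)
    obtain ⟨a, ha⟩ := IsIntegrallyClosed.isIntegral_iff.mp hint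
    refine ⟨a, IsFractionRing.injective A K ?_⟩
    rw [map_sub, map_one, map_mul, ha]
    show φ y - 1 = φ μ * z
    rw [hyz]; ring
  · rintro ⟨a, ha⟩
    obtain ⟨r, rfl⟩ : ∃ r, p = r + 1 := ⟨p - 1, by omega⟩
    obtain ⟨s, hs⟩ := exists_add_pow_prime_eq hp (μ * a) 1
    rw [show y = μ * a + 1 by rw [← ha]; ring, hs, hq, add_tsub_cancel_right]
    exact ⟨a ^ (r + 1) + q * a * s, by ring⟩

/-- Let R be a discrete valuation ring of characteristic zero whose maximal ideal contains the prime
number p, let n ≥ 1, and let λ be a nonzero element of R such that λ^(p^(n−1)(p−1)) divides p (the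
condition v(p) ≥ p^(n−1)(p−1)·v(λ) under which the polynomial ((1 + λT)^(p^n) − 1)/λ^(p^n) has
coefficients in R). Let A be an integrally closed integral domain which is a faithfully flat
R-algebra. Then for every unit x of A, λ^(p^n) divides x^(p^n) − 1 in A if and only if λ divides x −
1 in A. -/
theorem result (R : Type u) [CommRing R]
    [IsDomain R] [IsDiscreteValuationRing R] [CharZero R] (p n : ℕ) [Fact p.Prime] (hn : 1 ≤ n)
    (hp : (p : R) ∈ IsLocalRing.maximalIdeal R) (lam : R) (hlam : lam ≠ 0)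
    (hstar : lam ^ (p ^ (n - 1) * (p - 1)) ∣ (p : R))
    (A : Type u) [CommRing A] [IsDomain A] [IsIntegrallyClosed A] [Algebra R A] [Module.FaithfullyFlat R A]
    (x : Aˣ) :
    (algebraMap R A lam ^ p ^ n ∣ (x : A) ^ p ^ n - 1) ↔ (algebraMap R A lam ∣ (x : A) - 1) := by
  have hμ : algebraMap R A lam ≠ 0 := fun h =>
    haveI := Module.FaithfullyFlat.faithfulSMul (A := R) (B := A)
    hlam (FaithfulSMul.algebraMap_injective R A (by rw [map_zero]; exact h))
  suffices ∀ j ≤ n, algebraMap R A lam ^ p ^ j ∣ (x : A) ^ p ^ j - 1 ↔ algebraMap R A lam ∣ (x : A) - 1 from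
    this n le_rfl
  intro j hj
  induction j with
  | zero => simp
  | succ j ih =>
    rw [← ih (by omega), pow_succ, pow_mul, pow_mul]
    refine step (Fact.out) (pow_ne_zero _ hμ) ?_ _
    have h1 : lam ^ (p ^ j * (p - 1)) ∣ (p : R) :=
      (pow_dvd_pow lam (Nat.mul_le_mul_right _ (Nat.pow_le_pow_right (Fact.out : p.Prime).pos (by omega)))).trans hstar
    have := map_dvd (algebraMap R A) h1
    rwa [map_pow, map_natCast, pow_mul] at this

end Groth.Agent.S13158
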