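import Groth.Statements.S13161
import Mathlib.RingTheory.Localization.BaseChange
import Mathlib.RingTheory.DiscreteValuationRing.Basic
import Mathlib.RingTheory.Finiteness.Basic
import Mathlib.Algebra.Module.LocalizedModule.Int

set_option autoImplicit false
universe u
open scoped TensorProduct
open CAlg

namespace Groth.Agent.S13161

/-- Let R be a discrete valuation ring with fraction field K, A an R-algebra which is semireflexive as
an R-module (the map to its double dual is injective: every nonzero a ∈ A has an R-linear form f : A
→ R with f(a) ≠ 0), and B an A-algebra which is finitely generated as an A-module and flat over R.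
Suppose B ⊗ K is semireflexive as a module over A ⊗ K, which for such B amounts to: every nonzero b
∈ B has an A-linear map g : B → A ⊗_R K with g(b) ≠ 0. Then B is semireflexive as an R-module: every
nonzero b ∈ B has an R-linear form h : B → R with h(b) ≠ 0. (The published statement phrases the
hypothesis on B_K as an A_K-module; for B flat over R and finite over A this is the elementwise
condition used here.) -/
theorem result (R : Type u) [CommRing R] [IsDomain R]
    [IsDiscreteValuationRing R] (K : Type u) [Field K] [Algebra R K] [IsFractionRing R K]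
    (A B : Type u) [CommRing A] [CommRing B] [Algebra R A] [Algebra R B] [Algebra A B] [IsScalarTower R A B]
    [Module.Finite A B] [Module.Flat R B]
    (hA : ∀ a : A, a ≠ 0 → ∃ f : A →ₗ[R] R, f a ≠ 0)
    (hBK : ∀ b : B, b ≠ 0 → ∃ g : B →ₗ[A] A ⊗[R] K, g b ≠ 0) :
    ∀ b : B, b ≠ 0 → ∃ h : B →ₗ[R] R, h b ≠ 0 := by
  intro b hb
  obtain ⟨g, hg⟩ := hBK b hb
  let ι : A →ₗ[A] A ⊗[R] K :=
    { toFun := fun a => a ⊗ₜ[R] (1 : K), map_add' := fun a c => TensorProduct.add_tmul a c 1,
      map_smul' := fun a c => rfl }
  haveI hι : IsLocalizedModule (nonZeroDivisors R) (ι.restrictScalars R) := by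
    have : ι.restrictScalars R = (TensorProduct.comm R K A).toLinearMap ∘ₗ TensorProduct.mk R K A 1 := LinearMap.ext fun a => rfl
    rw [this]
    haveI := (isLocalizedModule_iff_isBaseChange (nonZeroDivisors R) K (TensorProduct.mk R K A 1)).2
      (TensorProduct.isBaseChange R A K)
    exact IsLocalizedModule.of_linearEquiv _ _ _
  have hιinj : Function.Injective ι := by
    rw [injective_iff_map_eq_zero]
    intro a ha
    obtain ⟨c, hc⟩ := (IsLocalizedModule.eq_zero_iff (nonZeroDivisors R) (ι.restrictScalars R)).1 ha
    by_contra h0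
    obtain ⟨f, hf⟩ := hA a h0
    have := congrArg f hc
    rw [Submonoid.smul_def, map_smul, map_zero, smul_eq_mul] at this
    exact hf ((mul_eq_zero.1 this).resolve_left (nonZeroDivisors.coe_ne_zero c))
  classical
  obtain ⟨s, hs⟩ := (Module.finite_def.1 (inferInstance : Module.Finite A B))
  obtain ⟨c, hc⟩ := IsLocalizedModule.exist_integer_multiples (nonZeroDivisors R) (ι.restrictScalars R) s (fun x => g x)
  have hle : ∀ x, (c : R) • g x ∈ LinearMap.range ι := fun x => by
    have hx : x ∈ Submodule.span A (s : Set B) := hs ▸ trivial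
    induction hx using Submodule.span_induction with
    | mem x hx => obtain ⟨y, hy⟩ := hc x hx; exact ⟨y, hy⟩
    | zero => simp
    | add x z _ _ hx hz => rw [map_add, smul_add]; exact add_mem hx hz
    | smul a x _ hx => rw [map_smul, smul_comm]; exact Submodule.smul_mem _ a hx
  let e := LinearEquiv.ofInjective ι hιinj
  let g' : B →ₗ[A] A := e.symm.toLinearMap ∘ₗ (((c : R) • g).codRestrict (LinearMap.range ι) hle)
  have hg' : g' b ≠ 0 := by
    intro h
    have h1 : ι (g' b) = (c : R) • g b := congrArg Subtype.val (e.apply_symm_apply ⟨_, hle b⟩)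
    rw [h, map_zero] at h1
    obtain ⟨u, hu⟩ : ∃ u : A ⊗[R] K, u = g b := ⟨_, rfl⟩
    have hinj := IsLocalizedModule.smul_injective (ι.restrictScalars R) c
    exact hg (hinj (a₁ := g b) (a₂ := 0) (by simp [Submonoid.smul_def, ← h1]))
  obtain ⟨f, hf⟩ := hA (g' b) hg'
  exact ⟨f.comp (g'.restrictScalars R), hf⟩

end Groth.Agent.S13161
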