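import Groth.Statements.S13170
import Groth.Agent.H9Twist.Tensor

set_option linter.style.haveILetI false
set_option backward.isDefEq.respectTransparency false
set_option backward.isDefEq.respectTransparency.types false


set_option autoImplicit false
universe u
open AlgebraicGeometry CategoryTheory
open ZeroCyc

namespace Groth.Agent.S13170

/-- Let B be a graded R-algebra generated by homogeneous elements f_1, …, f_s of positive degrees d_1,
…, d_s, let l be the least common multiple of the d_i and X = Proj B. For all integers a and n,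
O_X(al) ⊗ O_X(n) ≅ O_X(al + n). (The published statement asserts that the canonical multiplication
map is an isomorphism; this row asserts only that an isomorphism exists.) -/
theorem result {R A : Type u} [CommRing R] [CommRing A] [Algebra R A] (𝒜 : ℕ → Submodule R A) [GradedAlgebra 𝒜]
    {s : ℕ} (f : Fin s → A) (deg : Fin s → ℕ) (hdeg : ∀ i, 0 < deg i) (hf : ∀ i, f i ∈ 𝒜 (deg i))
    (hgen : Algebra.adjoin R (Set.range f) = ⊤) (a n : ℤ) :
    Nonempty (CohB1.tensorMod (Twist.twist 𝒜 (a * (Finset.univ.lcm deg : ℕ))) (Twist.twist 𝒜 n) ≅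
      Twist.twist 𝒜 (a * (Finset.univ.lcm deg : ℕ) + n)) := by
  refine Groth.Agent.H9Twist.nonempty_tensor_iso (fun x => ?_) n
  obtain ⟨i, hi⟩ := Groth.Agent.H9Twist.exists_gen_notMem hf hgen x
  obtain ⟨q, hq⟩ : deg i ∣ Finset.univ.lcm deg := Finset.dvd_lcm (Finset.mem_univ i)
  rw [show a * ((Finset.univ.lcm deg : ℕ) : ℤ) = (a * q) * ((deg i : ℕ) : ℤ) by
    rw [hq]; push_cast; ring]
  exact ⟨Proj.basicOpen 𝒜 (f i), hi, ⟨Groth.Agent.TwistX.powFrac (U := Proj.basicOpen 𝒜 (f i))
    (hf i) SetLike.GradedOne.one_mem (zero_add (deg i)).symm (a * q) (fun y => y.2)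
    (fun y h => y.1.isPrime.ne_top ((Ideal.eq_top_iff_one _).mpr h))⟩⟩
end Groth.Agent.S13170
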