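import Groth.Statements.S13176
import Groth.Agent.QuotPts.Basic
import Groth.Agent.SGA1Q.Orbits
import Groth.Agent.MorLib.UnivHomeo

set_option linter.style.haveILetI false
set_option backward.isDefEq.respectTransparency false
set_option backward.isDefEq.respectTransparency.types false


set_option autoImplicit false
universe u
open CategoryTheory CategoryTheory.Limits AlgebraicGeometry
open ZeroCyc


namespace Groth.Agent.S13176

/-- Let a finite group G act on a scheme X over S through ρ, let q : X → Y be a quotient of X by G over
S (affine, G-invariant, O_Y = the G-invariant sections of O_X), let S' → S be any morphism and X' =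
X ×_S S' with the induced action ρ', and let r : X' → Y' be a quotient of X' by G. Then the morphism
Y' → Y ×_S S' through which the canonical map X' → Y ×_S S' factors via r is a universal
homeomorphism. (The published statement assumes every G-orbit lies in an affine open, which is what
makes the quotients exist; here the two quotients are hypotheses.) -/
theorem result {X Y S S' Y' : Scheme.{u}} {G : Type u} [Group G] [Finite G]
    (ρ : G →* Aut X) (f : X ⟶ S) (hρ : ∀ σ : G, (ρ σ).hom ≫ f = f)
    (q : X ⟶ Y) (h : Y ⟶ S) (hq : q ≫ h = f) (hquot : SGA1.IsQuot ρ q)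
    (g : S' ⟶ S)
    (ρ' : G →* Aut (pullback f g))
    (hρ' : ∀ σ : G, (ρ' σ).hom ≫ pullback.fst f g = pullback.fst f g ≫ (ρ σ).hom ∧
      (ρ' σ).hom ≫ pullback.snd f g = pullback.snd f g)
    (r : pullback f g ⟶ Y') (hr : SGA1.IsQuot ρ' r)
    (m : Y' ⟶ pullback h g)
    (hm : r ≫ m = pullback.map f g h g q (𝟙 S') (𝟙 S)
      ((Category.comp_id f).trans hq.symm) ((Category.comp_id g).trans (Category.id_comp g).symm)) :
    FlatMor.IsUnivHomeo m := by
  haveI := SGA1Q.isIntegralHom hquot
  haveI : Surjective q := ⟨SGA1Q.surjective hquot⟩
  haveI : Surjective r := ⟨SGA1Q.surjective hr⟩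
  obtain ⟨n, hn⟩ : ∃ n, n = pullback.map f g h g q (𝟙 S') (𝟙 S)
      ((Category.comp_id f).trans hq.symm)
      ((Category.comp_id g).trans (Category.id_comp g).symm) := ⟨_, rfl⟩
  rw [← hn] at hm
  have hn1 : n ≫ pullback.fst h g = pullback.fst f g ≫ q := by rw [hn]; simp [pullback.map]
  have hn2 : n ≫ pullback.snd h g = pullback.snd f g := by rw [hn]; simp [pullback.map]
  have hpb : IsPullback (pullback.fst f g) n q (pullback.fst h g) := by
    refine IsPullback.of_bot ?_ hn1.symm (IsPullback.of_hasPullback h g)
    simp only [hn2, hq]
    exact IsPullback.of_hasPullback f g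
  haveI : UniversallyClosed (r ≫ m) := by
    rw [hm]
    exact MorphismProperty.of_isPullback (P := @UniversallyClosed) hpb inferInstance
  haveI : Surjective (r ≫ m) := by
    rw [hm]
    exact MorphismProperty.of_isPullback (P := @Surjective) hpb inferInstance
  haveI : Surjective m := Surjective.of_comp r m
  haveI : UniversallyClosed m := UniversallyClosed.of_comp_surjective r m
  haveI : UniversallyInjective m := by
    refine Groth.Agent.QuotPts.universallyInjective_of_lifts r m fun Ω _ a b hab => ?_
    rw [hm] at hab
    obtain ⟨σ, hσ⟩ := Groth.Agent.QuotPts.exists_comp_eq hquot (a ≫ pullback.fst f g)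
      (b ≫ pullback.fst f g) (by
        rw [Category.assoc, Category.assoc, ← hn1, reassoc_of% hab])
    have he : a ≫ (ρ' σ).hom = b := by
      apply pullback.hom_ext
      · rw [Category.assoc, (hρ' σ).1]
        simpa using hσ
      · rw [Category.assoc, (hρ' σ).2, ← hn2, reassoc_of% hab]
    rw [← he, Category.assoc, hr.inv σ]
  exact Groth.Agent.MorLib.isUnivHomeo_of_universallyClosed m
end Groth.Agent.S13176
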