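import Groth.Statements.S13177
import Groth.Agent.QuotPts.Basic
import Groth.Agent.SGA1Q.Orbits
import Groth.Agent.MorLib.UnivHomeo
import Groth.Agent.ExistEasy.ChowNR.Basic

set_option linter.style.haveILetI false
set_option backward.isDefEq.respectTransparency false
set_option backward.isDefEq.respectTransparency.types false


set_option autoImplicit false
universe u
open CategoryTheory CategoryTheory.Limits AlgebraicGeometry
open ZeroCyc


namespace Groth.Agent.S13177

/-- Let a finite group G act on a scheme X with quotient q : X → Y (affine, G-invariant, O_Y = the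
invariant sections), let i : Z → X be a G-stable closed subscheme with the induced action and r : Z
→ W a quotient of Z by G, and let q(Z) be the scheme-theoretic image of Z in Y. Then the morphism W
→ q(Z) through which Z → q(Z) factors via r is a schematically dominant universal homeomorphism.
(The published statement assumes the quotient of X exists; here both quotients are hypotheses.) -/
theorem result {X Y Z W : Scheme.{u}} {G : Type u} [Group G] [Finite G]
    (ρ : G →* Aut X) (q : X ⟶ Y) (hquot : SGA1.IsQuot ρ q)
    (i : Z ⟶ X) [IsClosedImmersion i] (ρZ : G →* Aut Z) (hρZ : ∀ σ : G, (ρZ σ).hom ≫ i = i ≫ (ρ σ).hom)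
    (r : Z ⟶ W) (hr : SGA1.IsQuot ρZ r)
    (m : W ⟶ (i ≫ q).ker.subscheme) (hm : r ≫ m ≫ (i ≫ q).ker.subschemeι = i ≫ q) :
    FlatMor.IsUnivHomeo m ∧ IsSchemeTheoreticallyDominant m := by
  haveI := SGA1Q.isIntegralHom hquot
  haveI : Surjective r := ⟨SGA1Q.surjective hr⟩
  have hrm : r ≫ m = (i ≫ q).toImage := by
    rw [← cancel_mono (i ≫ q).ker.subschemeι, Category.assoc, hm]
    exact ((i ≫ q).toImage_imageι).symm
  haveI : UniversallyClosed (i ≫ q).toImage := by
    have : UniversallyClosed ((i ≫ q).toImage ≫ (i ≫ q).imageι) := by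
      rw [(i ≫ q).toImage_imageι]; infer_instance
    exact UniversallyClosed.of_comp_of_isSeparated _ (i ≫ q).imageι
  haveI : UniversallyClosed (r ≫ m) := by rw [hrm]; infer_instance
  haveI : Surjective (r ≫ m) := by
    rw [hrm]
    exact ⟨Set.range_eq_univ.mp ((i ≫ q).toImage.isClosedMap.isClosed_range.closure_eq ▸
      (i ≫ q).toImage.denseRange.closure_range)⟩
  haveI : Surjective m := Surjective.of_comp r m
  haveI : UniversallyClosed m := UniversallyClosed.of_comp_surjective r m
  haveI : UniversallyInjective m := by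
    refine Groth.Agent.QuotPts.universallyInjective_of_lifts r m fun Ω _ a b hab => ?_
    obtain ⟨σ, hσ⟩ := Groth.Agent.QuotPts.exists_comp_eq hquot (a ≫ i) (b ≫ i) (by
      rw [Category.assoc, Category.assoc, ← hm, reassoc_of% hab])
    have he : a ≫ (ρZ σ).hom = b := by
      rw [← cancel_mono i, Category.assoc, hρZ σ]
      simpa using hσ
    rw [← he, Category.assoc, hr.inv σ]
  refine ⟨Groth.Agent.MorLib.isUnivHomeo_of_universallyClosed m, ⟨?_⟩⟩
  have h1 : (i ≫ q).toImage.ker = ⊥ :=
    (Groth.Agent.ExistEasy.ChowNR.isSTDom_toImage (i ≫ q)).ker_eq_bot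
  exact le_bot_iff.mp (h1 ▸ hrm ▸ r.le_ker_comp m)
end Groth.Agent.S13177
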