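import Groth.Statements.S13179
import Groth.Agent.QuotAmple.Norm
import Groth.Agent.RelQuot.Projective
import Groth.Agent.RelTwistX.Projective

set_option autoImplicit false
universe u
open CategoryTheory CategoryTheory.Limits AlgebraicGeometry
open ZeroCyc

namespace Groth.Agent.S13179

/-- Let S be a Noetherian scheme, X → S projective and G a finite group acting on X by S-automorphisms.
Then a quotient q : X → X/G by G exists (affine, G-invariant, O_{X/G} = invariant sections) with X/G
→ S projective. -/
theorem result {X S : Scheme.{u}} (f : X ⟶ S) [IsNoetherian S]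
    {G : Type u} [Group G] [Finite G] (ρ : G →* Aut X) (hρ : ∀ σ : G, (ρ σ).hom ≫ f = f)
    (hf : RelProj.IsProjective f) :
    ∃ (Y : Scheme.{u}) (q : X ⟶ Y) (h : Y ⟶ S), q ≫ h = f ∧ SGA1.IsQuot ρ q ∧ RelProj.IsProjective h := by
  haveI : IsProper f := ProjLoc.isProper_of_isProjective hf
  obtain ⟨-, -, L, hL⟩ := RelTwistX.isQuasiProjective_of_isProjective hf
  obtain ⟨Y, q, h, hh, hq, hs, hsep, hqp⟩ := QuotAmple.exists_quot_of_isRelAmple f ρ hρ hL
  haveI := hs
  haveI := hsep
  haveI := hqp.1
  haveI := hqp.2.1
  haveI : UniversallyClosed h := by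
    haveI : UniversallyClosed (q ≫ h) := by rw [hh]; infer_instance
    exact UniversallyClosed.of_comp_surjective q h
  haveI : IsProper h := { }
  exact ⟨Y, q, h, hh, hq, RelQuot.isProjective_of_isQuasiProjective hqp⟩

end Groth.Agent.S13179
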