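import Groth.Statements.S13182
import Groth.Agent.H9Twist.Embed
import Groth.Agent.H9Twist.AwayGen
import Mathlib.Data.Fintype.Option

set_option linter.style.haveILetI false
set_option backward.isDefEq.respectTransparency false
set_option backward.isDefEq.respectTransparency.types false


set_option autoImplicit false
universe u
open CategoryTheory CategoryTheory.Limits AlgebraicGeometry
open ZeroCyc

attribute [-instance] CategoryTheory.catToReflQuiver

namespace Groth.Agent.S13182

/-- Let B be a graded R-algebra generated by homogeneous elements f_1, …, f_s of positive degrees d_1,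
…, d_s, let l be the least common multiple of the d_i and X = Proj B. For n = a l with a ≥ max(1, s
− 1) there is a closed immersion i of X into a projective space over R, over Spec R, with O_X(n) ≅
i^*O(1); in particular O_X(n) is very ample relative to Spec R. (The published statement takes for i
the canonical morphism into P(B_n) given by the sections B_n; this row asserts only a closed
immersion into some projective space P^N over R with an isomorphism O_X(n) ≅ i^*O(1).) -/
theorem result {R A : Type u} [CommRing R] [CommRing A] [Algebra R A] (𝒜 : ℕ → Submodule R A) [GradedAlgebra 𝒜]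
    {s : ℕ} (f : Fin s → A) (deg : Fin s → ℕ) (hdeg : ∀ i, 0 < deg i) (hf : ∀ i, f i ∈ 𝒜 (deg i))
    (hgen : Algebra.adjoin R (Set.range f) = ⊤) (a : ℕ) (ha : 0 < a) (has : s - 1 ≤ a) :
    ∃ (N : ℕ) (i : Proj 𝒜 ⟶ CohB1.ProjSpaceOver N (Spec (CommRingCat.of R))), IsClosedImmersion i ∧
      i ≫ pullback.snd (CohB1.ProjSpace.toSpec N (ULift.{u} ℤ)) (specULiftZIsTerminal.from (Spec (CommRingCat.of R))) =
        Proj.toSpecZero 𝒜 ≫ Spec.map (CommRingCat.ofHom (algebraMap R (𝒜 0))) ∧
      Nonempty (Twist.twist 𝒜 ((a * Finset.univ.lcm deg : ℕ) : ℤ) ≅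
        (Scheme.Modules.pullback i).obj (Twist.twistOver N (Spec (CommRingCat.of R)) 1)) := by
  classical
  open Groth.Agent.H9Twist HomogeneousLocalization in
  set L := Finset.univ.lcm deg with hL
  have hdvd : ∀ l, deg l ∣ L := fun l => Finset.dvd_lcm (Finset.mem_univ l)
  have hLpos : 0 < L := Nat.pos_of_ne_zero fun h => by
    obtain ⟨i, -, hi⟩ := Finset.lcm_eq_zero_iff.1 h
    exact (hdeg i).ne' hi
  haveI : Algebra.FiniteType R A := ⟨⟨Finset.univ.image f, by rw [Finset.coe_image, Finset.coe_univ, Set.image_univ, hgen]⟩⟩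
  let E := {e : Fin s → Fin (a * L + 1) // ∑ l, (e l : ℕ) * deg l = a * L}
  obtain ⟨n, ⟨idx⟩⟩ : ∃ n, Nonempty (Fin (n + 1) ≃ Option E) :=
    ⟨Fintype.card E, ⟨(finCongr Fintype.card_option.symm).trans (Fintype.equivFin _).symm⟩⟩
  let T' : Option E → A := fun o => o.elim 0 fun e => ∏ l, f l ^ (e.1 l : ℕ)
  have hT' : ∀ o, T' o ∈ 𝒜 (a * L) := by
    rintro (_ | e)
    · exact zero_mem _
    · exact e.2 ▸ prod_pow_mem hf Finset.univ fun l => (e.1 l : ℕ)
  have hE : ∀ e : Fin s → ℕ, ∑ l, e l * deg l = a * L →
      ∃ o, T' o = ∏ l, f l ^ e l := fun e he => by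
    refine ⟨some ⟨fun l => ⟨e l, Nat.lt_succ_of_le ?_⟩, he⟩, rfl⟩
    refine le_trans (Nat.le_mul_of_pos_right _ (hdeg l)) (he ▸ ?_)
    exact Finset.single_le_sum (f := fun l => e l * deg l) (fun _ _ => Nat.zero_le _) (Finset.mem_univ l)
  refine exists_closedImmersion (algebraMap_zero_surjective hdeg hf hgen) (Nat.mul_pos ha hLpos)
    (fun j => T' (idx j)) (fun j => hT' _) Set.univ (fun x => ?_) fun j _ P hPR hPT => ?_
  · obtain ⟨i, hi⟩ := exists_gen_notMem hf hgen x
    obtain ⟨c, hc⟩ : deg i ∣ a * L := dvd_mul_of_dvd_right (hdvd i) a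
    obtain ⟨o, ho⟩ := hE (Pi.single i c) (by
      rw [Finset.sum_eq_single i (fun l _ hl => by simp [hl]) (fun h => absurd (Finset.mem_univ i) h)]
      rw [Pi.single_eq_same, hc, mul_comm])
    refine ⟨idx.symm o, trivial, ?_⟩
    show _ ∈ Proj.basicOpen 𝒜 (T' (idx (idx.symm o)))
    rw [Equiv.apply_symm_apply, ho]
    rw [Finset.prod_eq_single i (fun l _ hl => by simp [hl]) (fun h => absurd (Finset.mem_univ i) h),
      Pi.single_eq_same]
    exact Groth.Agent.TwistX.notMem_pow hi c
  · refine subring_eq_top hf hgen (hT' (idx j)) P hPR fun k e he => ?_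
    induction k generalizing e with
    | zero =>
      have h1 : ∏ l, f l ^ e l = 1 := Finset.prod_eq_one fun l _ => by
        have := (Finset.sum_eq_zero_iff.1 (he.trans (zero_smul _ _))) l (Finset.mem_univ l)
        rcases mul_eq_zero.1 this with h0 | h0
        · rw [h0, pow_zero]
        · exact absurd h0 (hdeg l).ne'
      rw [awayMk_congr (hT' (idx j)) h1 _ (by rw [zero_smul]; exact SetLike.GradedOne.one_mem)]
      convert one_mem P using 1
      apply HomogeneousLocalization.val_injective
      rw [HomogeneousLocalization.val_one, Away.val_mk, ← Localization.mk_one]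
      congr 1
      exact Subtype.ext (pow_zero _)
    | succ k ih =>
      obtain ⟨e', he'le, he'⟩ := exists_submonomial hdeg a has k e he
      obtain ⟨o, ho⟩ := hE e' he'
      have hsum : ∑ l, (e l - e' l) * deg l = k • (a * L) := by
        have h1 : ∑ l, (e l - e' l) * deg l + ∑ l, e' l * deg l = (k + 1) • (a * L) := by
          rw [← Finset.sum_add_distrib, ← he]
          exact Finset.sum_congr rfl fun l _ => by rw [← add_mul, Nat.sub_add_cancel (he'le l)]
        rw [he', add_smul, one_smul] at h1
        exact Nat.add_right_cancel h1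
      have hm1 : (∏ l, f l ^ (e l - e' l)) ∈ 𝒜 (k • (a * L)) := hsum ▸ prod_pow_mem hf Finset.univ _
      have hm2 : T' (idx (idx.symm o)) ∈ 𝒜 (1 • (a * L)) := by rw [one_smul]; exact hT' _
      have hm : (∏ l, f l ^ (e l - e' l)) * T' (idx (idx.symm o)) ∈ 𝒜 ((k + 1) • (a * L)) := by
        rw [add_smul]; exact SetLike.mul_mem_graded hm1 hm2
      rw [awayMk_congr (hT' (idx j)) (show ∏ l, f l ^ e l = _ by
        rw [Equiv.apply_symm_apply, ho, ← Finset.prod_mul_distrib]
        exact Finset.prod_congr rfl fun l _ => by rw [← pow_add, Nat.sub_add_cancel (he'le l)]) _ hm,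
        awayMk_mul (hT' (idx j)) hm1 hm2 hm]
      exact mul_mem (ih _ hsum) (hPT _)
end Groth.Agent.S13182
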