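import Groth.Statements.S13183
import Groth.Agent.H9Twist.Embed
import Groth.Agent.H9Twist.AwayGen
import Mathlib.Data.Fintype.Option

set_option linter.style.haveILetI false
set_option backward.isDefEq.respectTransparency false
set_option backward.isDefEq.respectTransparency.types false


set_option autoImplicit false
universe u
open CategoryTheory CategoryTheory.Limits AlgebraicGeometry
open ZeroCyc

attribute [-instance] CategoryTheory.catToReflQuiver CompleteLattice.toCompletePartialOrder

namespace Groth.Agent.S13183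

/-- Let B be a graded R-algebra of finite type, generated by elements of degrees between 1 and d, such
that X = Proj B is covered by the opens D_+(g), g ∈ B_1. For n ≥ d, n ≥ 1, there is a closed
immersion i of X into a projective space over R, over Spec R, with O_X(n) ≅ i^*O(1); in particular
O_X(n) is very ample relative to Spec R. (The published statement assumes neither finite generation
nor that the generators have positive degree, and its target is P(B_n) with i the canonical morphism
given by B_n; a closed immersion into a projective space of finite type over R needs X proper over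
R, so B is taken of finite type with generators of positive degree; existence of the isomorphism
only.) -/
theorem result {R A : Type u} [CommRing R] [CommRing A] [Algebra R A] (𝒜 : ℕ → Submodule R A) [GradedAlgebra 𝒜]
    (d : ℕ) (hgen : Algebra.adjoin R (⋃ i ∈ Finset.Icc 1 d, (𝒜 i : Set A)) = ⊤)
    (hcov : (⨆ g : 𝒜 1, Proj.basicOpen 𝒜 (g : A)) = ⊤) [Algebra.FiniteType R A] (n : ℕ) (hn : d ≤ n) (hn1 : 0 < n) :
    ∃ (N : ℕ) (i : Proj 𝒜 ⟶ CohB1.ProjSpaceOver N (Spec (CommRingCat.of R))), IsClosedImmersion i ∧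
      i ≫ pullback.snd (CohB1.ProjSpace.toSpec N (ULift.{u} ℤ)) (specULiftZIsTerminal.from (Spec (CommRingCat.of R))) =
        Proj.toSpecZero 𝒜 ≫ Spec.map (CommRingCat.ofHom (algebraMap R (𝒜 0))) ∧
      Nonempty (Twist.twist 𝒜 (n : ℤ) ≅
        (Scheme.Modules.pullback i).obj (Twist.twistOver N (Spec (CommRingCat.of R)) 1)) := by
  classical
  open Groth.Agent.H9Twist HomogeneousLocalization in
  -- finitely many homogeneous generators in degrees between `1` and `d`
  obtain ⟨F, hFsub, hFgen⟩ : ∃ F : Finset A, (F : Set A) ⊆ (⋃ i ∈ Finset.Icc 1 d, (𝒜 i : Set A)) ∧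
      Algebra.adjoin R (F : Set A) = ⊤ := by
    have key : ∀ y ∈ Algebra.adjoin R (⋃ i ∈ Finset.Icc 1 d, (𝒜 i : Set A)), ∃ F : Finset A,
        (F : Set A) ⊆ (⋃ i ∈ Finset.Icc 1 d, (𝒜 i : Set A)) ∧ y ∈ Algebra.adjoin R (F : Set A) := by
      intro y hy
      induction hy using Algebra.adjoin_induction with
      | mem y hy => exact ⟨{y}, by simpa using hy, Algebra.subset_adjoin (by simp)⟩
      | algebraMap r => exact ⟨∅, by simp, Subalgebra.algebraMap_mem _ r⟩
      | add y z _ _ hy hz =>
        obtain ⟨F, hF, hyF⟩ := hy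
        obtain ⟨G, hG, hzG⟩ := hz
        refine ⟨F ∪ G, by rw [Finset.coe_union]; exact Set.union_subset hF hG, add_mem ?_ ?_⟩
        · exact Algebra.adjoin_mono (Finset.coe_subset.2 Finset.subset_union_left) hyF
        · exact Algebra.adjoin_mono (Finset.coe_subset.2 Finset.subset_union_right) hzG
      | mul y z _ _ hy hz =>
        obtain ⟨F, hF, hyF⟩ := hy
        obtain ⟨G, hG, hzG⟩ := hz
        refine ⟨F ∪ G, by rw [Finset.coe_union]; exact Set.union_subset hF hG, mul_mem ?_ ?_⟩
        · exact Algebra.adjoin_mono (Finset.coe_subset.2 Finset.subset_union_left) hyF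
        · exact Algebra.adjoin_mono (Finset.coe_subset.2 Finset.subset_union_right) hzG
    obtain ⟨X, hX⟩ := Algebra.FiniteType.out (R := R) (A := A)
    choose F hF hXF using fun x : X => key x.1 (hgen ▸ trivial)
    refine ⟨X.attach.biUnion F, ?_, ?_⟩
    · intro y hy
      obtain ⟨x, -, hy⟩ := Finset.mem_biUnion.1 hy
      exact hF x hy
    · refine eq_top_iff.2 (hX.ge.trans (Algebra.adjoin_le fun x hx => ?_))
      exact Algebra.adjoin_mono (fun y hy => Finset.mem_biUnion.2 ⟨⟨x, hx⟩, Finset.mem_attach _ _, hy⟩)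
        (hXF ⟨x, hx⟩)
  have hFdeg : ∀ x : F, ∃ i, 1 ≤ i ∧ i ≤ d ∧ x.1 ∈ 𝒜 i := fun x => by
    obtain ⟨i, hi, hxi⟩ := Set.mem_iUnion₂.1 (hFsub x.2)
    exact ⟨i, (Finset.mem_Icc.1 hi).1, (Finset.mem_Icc.1 hi).2, hxi⟩
  choose dg hdg1 hdgd hdgmem using hFdeg
  let eF := (Fintype.equivFin F).symm
  let f : Fin (Fintype.card F) → A := fun l => (eF l).1
  let deg : Fin (Fintype.card F) → ℕ := fun l => dg (eF l)
  have hdeg : ∀ l, 0 < deg l := fun l => hdg1 _
  have hf : ∀ l, f l ∈ 𝒜 (deg l) := fun l => hdgmem _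
  have hgen' : Algebra.adjoin R (Set.range f) = ⊤ := by
    rw [← hFgen]
    congr 1
    ext y
    exact ⟨fun ⟨l, hl⟩ => hl ▸ (eF l).2, fun hy => ⟨eF.symm ⟨y, hy⟩, by simp [f]⟩⟩
  haveI := compactSpace hdeg hf hgen'
  obtain ⟨G, hG⟩ := isCompact_univ.elim_finite_subcover
    (fun g : 𝒜 1 => (Proj.basicOpen 𝒜 (g : A) : Set ↥(Proj 𝒜)))
    (fun g => (Proj.basicOpen 𝒜 (g : A)).isOpen) (fun x _ => by
      obtain ⟨g, hg⟩ := TopologicalSpace.Opens.mem_iSup.1 (hcov.ge (trivial : x ∈ (⊤ : (Proj 𝒜).Opens)))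
      exact Set.mem_iUnion.2 ⟨g, hg⟩)
  obtain ⟨N, ⟨idx⟩⟩ : ∃ N, Nonempty (Fin (N + 1) ≃ Option (G × Option (Fin (Fintype.card F)))) :=
    ⟨Fintype.card (G × Option (Fin (Fintype.card F))),
      ⟨(finCongr Fintype.card_option.symm).trans (Fintype.equivFin _).symm⟩⟩
  let T' : Option (G × Option (Fin (Fintype.card F))) → A := fun o => o.elim 0 fun gl =>
    gl.2.elim ((gl.1.1 : A) ^ n) fun l => f l * (gl.1.1 : A) ^ (n - deg l)
  have hpow : ∀ (g : 𝒜 1) (m : ℕ), (g : A) ^ m ∈ 𝒜 m := fun g m => by
    simpa using SetLike.pow_mem_graded m g.2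
  have hT' : ∀ o, T' o ∈ 𝒜 n := by
    rintro (_ | ⟨g, _ | l⟩)
    · exact zero_mem _
    · exact hpow _ n
    · have := SetLike.mul_mem_graded (hf l) (hpow g.1 (n - deg l))
      rwa [Nat.add_sub_cancel' ((hdgd _).trans hn)] at this
  refine exists_closedImmersion (algebraMap_zero_surjective hdeg hf hgen') hn1
    (fun j => T' (idx j)) (fun j => hT' _) {j | ∃ g, idx j = some (g, none)} (fun x => ?_) ?_
  · obtain ⟨g, hg, hxg⟩ := Set.mem_iUnion₂.1 (hG (Set.mem_univ x))
    refine ⟨idx.symm (some (⟨g, hg⟩, none)), ⟨⟨g, hg⟩, Equiv.apply_symm_apply _ _⟩, ?_⟩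
    show x ∈ Proj.basicOpen 𝒜 (T' (idx (idx.symm (some (⟨g, hg⟩, none)))))
    rw [Equiv.apply_symm_apply]
    exact Groth.Agent.TwistX.notMem_pow hxg n
  · rintro j ⟨g, hj⟩ P hPR hPT
    refine subring_eq_top hf hgen' (hT' (idx j)) P hPR fun k e he => ?_
    -- write the monomial fraction as a product of the ratios
    let c : Fin (Fintype.card F) → HomogeneousLocalization.Away 𝒜 (T' (idx j)) := fun l =>
      Away.mk 𝒜 (hT' (idx j)) 1 (T' (idx (idx.symm (some (g, some l)))))
        (by rw [one_smul]; exact hT' _)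
    suffices h : Away.mk 𝒜 (hT' (idx j)) k (∏ l, f l ^ e l) (he ▸ prod_pow_mem hf Finset.univ e) =
        ∏ l, c l ^ e l by
      rw [h]
      exact prod_mem fun l _ => pow_mem (hPT _) _
    have hTj : T' (idx j) = (g.1 : A) ^ n := by rw [hj]; rfl
    apply HomogeneousLocalization.val_injective
    have hvc : ∀ l, (c l).val = Localization.mk (f l * (g.1 : A) ^ (n - deg l))
        (⟨T' (idx j), 1, pow_one _⟩ : Submonoid.powers (T' (idx j))) := fun l => by
      rw [Away.val_mk]
      congr 1
      · rw [Equiv.apply_symm_apply]; rfl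
      · exact Subtype.ext (pow_one _)
    rw [Away.val_mk, ← HomogeneousLocalization.algebraMap_apply, map_prod]
    simp only [map_pow, HomogeneousLocalization.algebraMap_apply, hvc, Localization.mk_pow]
    rw [Localization.mk_prod, Localization.mk_eq_mk_iff, Localization.r_iff_exists]
    refine ⟨1, ?_⟩
    simp only [OneMemClass.coe_one, one_mul, SubmonoidClass.coe_finset_prod, SubmonoidClass.coe_pow, hTj,
      mul_pow, Finset.prod_mul_distrib, ← pow_mul, Finset.prod_pow_eq_pow_sum]
    rw [mul_left_comm, ← pow_add, mul_comm]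
    congr 2
    rw [smul_eq_mul] at he
    have hsum : ∑ l, n * e l = ∑ l, (n - deg l) * e l + ∑ l, e l * deg l := by
      rw [← Finset.sum_add_distrib]
      refine Finset.sum_congr rfl fun l _ => ?_
      rw [mul_comm (e l), ← add_mul, Nat.sub_add_cancel ((hdgd _).trans hn)]
    rw [← Finset.mul_sum] at hsum
    rw [hsum, he]
    ring
end Groth.Agent.S13183
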