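import Groth.Statements.S13199
import Groth.Agent.UnibFibre.Main
import Groth.Agent.S2135
import Groth.Agent.Hensel.TensorHenzFinite
import Groth.Agent.QRepLib.Naive

set_option autoImplicit false
universe u
open Hensel AlgebraicGeometry CategoryTheory

namespace Groth.Agent.S13199

/-- Let R be a Noetherian integral domain which is a strictly henselian local ring (henselian with
separably closed residue field), R' a smooth R-algebra and p a prime ideal of R' lying over the
maximal ideal of R (that is, containing its image). Then the local ring R'_p is an integral domain
and is geometrically unibranch: the integral closure of R'_p in its fraction field is a local ring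
whose residue field is purely inseparable over that of R'_p. (The published statement concludes that
every strict henselization of R'_p is an integral domain; for a local ring this is equivalent to
being an integral domain which is geometrically unibranch, the conclusion stated here.) -/
theorem result
    (R R' : Type u) [CommRing R] [IsDomain R] [IsNoetherianRing R] [HenselianLocalRing R]
    [IsSepClosed (IsLocalRing.ResidueField R)]
    [CommRing R'] [Algebra R R'] [Algebra.Smooth R R']
    (p : Ideal R') [p.IsPrime] (hp : (IsLocalRing.maximalIdeal R).map (algebraMap R R') ≤ p) :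
    IsDomain (Localization.AtPrime p) ∧ CAlg2.IsGeomUnibranch (Localization.AtPrime p) := by
  haveI := Groth.Agent.Hensel.isStrictHenselization_self R inferInstance inferInstance
  have hR : CAlg2.IsGeomUnibranch R := (Groth.Agent.S2135.result (A := R) (Ash := R)).2 ⟨⊥, by
    rw [IsDomain.minimalPrimes_eq_singleton_bot]; rfl, fun q hq => by
    rw [IsDomain.minimalPrimes_eq_singleton_bot] at hq; exact hq⟩
  -- the scheme morphism
  let g : Spec (CommRingCat.of R') ⟶ Spec (CommRingCat.of R) := Spec.map (CommRingCat.ofHom (algebraMap R R'))
  haveI : Smooth g := by
    rw [HasRingHomProperty.Spec_iff (P := @Smooth)]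
    exact RingHom.smooth_algebraMap.2 inferInstance
  let P : ↥(Spec (CommRingCat.of R')) := (⟨p, inferInstance⟩ : PrimeSpectrum R')
  have hgP : g P = IsLocalRing.closedPoint R := PrimeSpectrum.ext ((IsLocalRing.maximalIdeal.isMaximal R).eq_of_le
    (Ideal.IsPrime.ne_top (I := p.comap (algebraMap R R')) inferInstance) (Ideal.map_le_iff_le_comap.1 hp)).symm
  have hbase : CAlg2.IsGeomUnibranch ((Spec (CommRingCat.of R)).presheaf.stalk (g P)) := by
    have key : ∀ y, y = IsLocalRing.closedPoint R →
        CAlg2.IsGeomUnibranch ((Spec (CommRingCat.of R)).presheaf.stalk y) := fun y hy => by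
      subst hy
      exact UnibEtale.isGeomUnibranch_of_ringEquiv (stalkClosedPointIso (CommRingCat.of R)).commRingCatIsoToRingEquiv.symm hR
    exact key _ hgP
  have hst := UnibFibre.isGeomUnibranch_of_smooth g P hbase
  let e : (Spec (CommRingCat.of R')).presheaf.stalk P ≃+* Localization.AtPrime p :=
    (StructureSheaf.stalkIso R' ⟨p, inferInstance⟩).toRingEquiv.symm
  have hu := UnibEtale.isGeomUnibranch_of_ringEquiv e hst
  haveI := QRepLib.isReduced_of_smooth_algebra R R'
  haveI : IsReduced (Localization.AtPrime p) := isReduced_localizationPreserves p.primeCompl _ inferInstance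
  haveI : IsDomain (CAlg2.red (Localization.AtPrime p)) := hu.1.1
  exact ⟨MulEquiv.isDomain _ ((RingEquiv.quotientBot (Localization.AtPrime p)).symm.trans
    (Ideal.quotEquivOfEq (nilradical_eq_zero (Localization.AtPrime p)).symm)).toMulEquiv, hu⟩

end Groth.Agent.S13199
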