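import Groth.Statements.S13200
-- import your own Groth.Agent.* helpers here
import Groth.Agent.H4Approx.Krull
import Groth.Agent.S0596

set_option autoImplicit false
set_option linter.style.haveILetI false
universe u
open Hensel

namespace Groth.Agent.S13200

/-- Let R be an excellent local ring which is strictly henselian (henselian with separably closed
residue field), and let R^ denote its completion at the maximal ideal. An element Δ of R is a prime
element of R exactly when its image in R^ is a prime element of R^. -/
theorem result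
    (R : Type u) [CommRing R] [HenselianLocalRing R] [IsSepClosed (IsLocalRing.ResidueField R)]
    (hR : EGA4.IsExcellent R) (Δ : R) :
    Prime Δ ↔ Prime (algebraMap R (AdicCompletion (IsLocalRing.maximalIdeal R) R) Δ) := by
  classical
  haveI : IsNoetherianRing R := hR.1
  let T := AdicCompletion (IsLocalRing.maximalIdeal R) R
  have hfg : (IsLocalRing.maximalIdeal R).FG := IsNoetherian.noetherian _
  haveI : IsLocalRing T := AdicCompletion.isLocalRing_of_fg hfg
  haveI : IsNoetherianRing T := PopescuLib.noetherian_completion (IsLocalRing.maximalIdeal R)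
  haveI := H4Approx.faithfullyFlat_completion R
  haveI : IsLocalHom (algebraMap R T) := AdicCompletion.algebraMap_isLocalHom_of_fg hfg
  have hmax : IsLocalRing.maximalIdeal T = (IsLocalRing.maximalIdeal R).map (algebraMap R T) :=
    AdicCompletion.maximalIdeal_eq_map_of_fg hfg
  have hinj : Function.Injective (algebraMap R T) := FaithfulSMul.algebraMap_injective R T
  have hdvd : ∀ x : R, algebraMap R T Δ ∣ algebraMap R T x → Δ ∣ x := fun x hx => by
    rw [← Ideal.mem_span_singleton] at hx ⊢
    rw [← Ideal.comap_map_eq_self_of_faithfullyFlat (B := T) (Ideal.span {Δ}), Ideal.mem_comap,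
      Ideal.map_span, Set.image_singleton]
    exact hx
  refine ⟨fun hp => ?_, fun hp => ?_⟩
  · refine ⟨(map_ne_zero_iff _ hinj).2 hp.ne_zero, fun hu => hp.not_isUnit (IsLocalHom.map_nonunit _ hu),
      fun a b hab => ?_⟩
    by_contra hcon
    push Not at hcon
    obtain ⟨ha, hb⟩ := hcon
    obtain ⟨c, hc⟩ := hab
    obtain ⟨ka, hka⟩ : ∃ k, a ∉ Ideal.span {algebraMap R T Δ} ⊔ IsLocalRing.maximalIdeal T ^ k := by
      by_contra h
      push Not at h
      exact ha (Ideal.mem_span_singleton.1 (H4Approx.mem_of_forall_mem_sup_pow h))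
    obtain ⟨kb, hkb⟩ : ∃ k, b ∉ Ideal.span {algebraMap R T Δ} ⊔ IsLocalRing.maximalIdeal T ^ k := by
      by_contra h
      push Not at h
      exact hb (Ideal.mem_span_singleton.1 (H4Approx.mem_of_forall_mem_sup_pow h))
    obtain ⟨y, hy, hay⟩ := Groth.Agent.S0596.result R hR.2.2.1 3 1
      (fun _ => MvPolynomial.X 0 * MvPolynomial.X 1 - MvPolynomial.C Δ * MvPolynomial.X 2) ![a, b, c]
      (fun _ => by simpa using sub_eq_zero.2 hc) (max ka kb)
    have h0 : y 0 * y 1 = Δ * y 2 := sub_eq_zero.1 (by simpa using hy 0)
    have key : ∀ (i : Fin 3) (k : ℕ), k ≤ max ka kb → Δ ∣ y i →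
        (![a, b, c]) i ∈ Ideal.span {algebraMap R T Δ} ⊔ IsLocalRing.maximalIdeal T ^ k := by
      intro i k hk hd
      rw [show (![a, b, c]) i = algebraMap R T (y i) + ((![a, b, c]) i - algebraMap R T (y i)) by ring]
      refine add_mem (Ideal.mem_sup_left (Ideal.mem_span_singleton.2 (map_dvd _ hd))) (Ideal.mem_sup_right ?_)
      have := hay i
      rw [Ideal.map_pow, ← hmax] at this
      exact Ideal.pow_le_pow_right hk this
    rcases hp.dvd_or_dvd ⟨_, h0⟩ with h | h
    · exact hka (key 0 ka (le_max_left _ _) h)
    · exact hkb (key 1 kb (le_max_right _ _) h)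
  · refine ⟨fun h => hp.ne_zero (h ▸ map_zero _), fun hu => hp.not_isUnit (hu.map _), fun a b hab => ?_⟩
    have := map_dvd (algebraMap R T) hab
    rw [map_mul] at this
    exact (hp.dvd_or_dvd this).imp (hdvd a) (hdvd b)

end Groth.Agent.S13200
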