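import Groth.Statements.S17730
-- import your own Groth.Agent.* helpers here
import Groth.Agent.GorFib.SH
import Groth.Agent.Hensel.TensorHenzFinite
import Groth.Agent.FlatLoc6.GeomComp
import Groth.Agent.CplFib6.PSRegular
import Groth.Agent.UnibEtale.Basic
import Groth.Agent.S2730
import Groth.Agent.S2750

set_option autoImplicit false
set_option linter.style.haveILetI false
universe u
open Hensel

open scoped TensorProduct

namespace Groth.Agent.S17730

open IsLocalRing in
/-- Let R be a Noetherian local ring which is strictly henselian (henselian with separably closed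
residue field), Δ a prime element of R, R' a smooth R-algebra, q a prime ideal of R' containing the
image of the maximal ideal of R, and T a strict henselization of the localization R'_q. Then the
image of Δ in T is a prime element of T. (This is the published statement, that a prime element of
the étale local ring of the base at a geometric point remains prime in the étale local ring of a
smooth scheme over it at a geometric point above, written for the base the spectrum of R; the
published hypothesis that the base be smooth-factorial, meaning that all its smooth schemes are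
locally factorial, is not used by the argument and is omitted; R is taken Noetherian, which the
published statement does not state and the argument requires.) -/
theorem result
    (R R' T : Type u) [CommRing R] [IsNoetherianRing R] [HenselianLocalRing R]
    [IsSepClosed (ResidueField R)]
    [CommRing R'] [Algebra R R'] [Algebra.Smooth R R']
    (q : Ideal R') [q.IsPrime] (hq : (maximalIdeal R).map (algebraMap R R') ≤ q)
    [CommRing T] [IsLocalRing T] [Algebra (Localization.AtPrime q) T]
    [IsLocalHom (algebraMap (Localization.AtPrime q) T)]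
    [Hensel.IsStrictHenselization (Localization.AtPrime q) T]
    (Δ : R) (hΔ : Prime Δ) :
    Prime (algebraMap (Localization.AtPrime q) T
      (algebraMap R' (Localization.AtPrime q) (algebraMap R R' Δ))) := by
  classical
  haveI : IsNoetherianRing R' := Algebra.FiniteType.isNoetherianRing R R'
  haveI : Module.Flat R R' := inferInstance
  haveI := Hensel.IsStrictHenselization.henselian (R := Localization.AtPrime q) (S := T)
  have hnu : ¬ IsUnit Δ := hΔ.not_isUnit
  let J : Ideal R := Ideal.span {Δ}
  have hJ : J ≠ ⊤ := fun h => hnu (Ideal.span_singleton_eq_top.1 h)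
  have hJp : J.IsPrime := (Ideal.span_singleton_prime hΔ.ne_zero).2 hΔ
  -- the base `R ⧸ Δ` is geometrically unibranch
  let B := R ⧸ J
  haveI : IsDomain B := Ideal.Quotient.isDomain J
  haveI hB : HenselianLocalRing B := IsoNatLib.henselianLocalRing_quotient J hJ
  haveI : IsLocalHom (Ideal.Quotient.mk J) := .of_surjective _ Ideal.Quotient.mk_surjective
  have hBsep : IsSepClosed (ResidueField B) := by
    refine Hensel.isSepClosed_of_ringEquiv (RingEquiv.ofBijective (ResidueField.map (Ideal.Quotient.mk J))
      ⟨RingHom.injective _, fun x => ?_⟩)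
    obtain ⟨b, rfl⟩ := residue_surjective x
    obtain ⟨a, rfl⟩ := Ideal.Quotient.mk_surjective b
    exact ⟨residue R a, rfl⟩
  letI : IsLocalHom (algebraMap B B) := ⟨fun _ hu => hu⟩
  haveI := Hensel.isStrictHenselization_self B hB hBsep
  have hBgu : CAlg2.IsGeomUnibranch B := ((Groth.Agent.S2750.result B B).2 inferInstance).2
  -- its pullback to `R'` at `q`
  let J' : Ideal R' := J.map (algebraMap R R')
  have hJ'q : J' ≤ q := (Ideal.map_mono (IsLocalRing.le_maximalIdeal hJ)).trans hq
  let q₁ : Ideal (R' ⧸ J') := q.map (Ideal.Quotient.mk J')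
  haveI : q₁.IsPrime := Ideal.map_isPrime_of_surjective Ideal.Quotient.mk_surjective (by rwa [Ideal.mk_ker])
  let e₀ : (R' ⧸ J') ≃+* B ⊗[R] R' := (Algebra.TensorProduct.quotIdealMapEquivQuotTensor R' J).toRingEquiv
  let q₂ : Ideal (B ⊗[R] R') := q₁.comap e₀.symm.toRingHom
  haveI : q₂.IsPrime := Ideal.comap_isPrime _ _
  have hq₂ : q₂.comap (algebraMap B (B ⊗[R] R')) = maximalIdeal B := by
    refine ((IsLocalRing.maximalIdeal.isMaximal B).eq_of_le
      (Ideal.comap_isPrime _ _).ne_top fun b hb => ?_).symm
    obtain ⟨a, rfl⟩ := Ideal.Quotient.mk_surjective b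
    have ha : a ∈ maximalIdeal R := fun hu => hb (hu.map _)
    show e₀.symm (algebraMap B (B ⊗[R] R') (Ideal.Quotient.mk J a)) ∈ q₁
    rw [show e₀.symm (algebraMap B (B ⊗[R] R') (Ideal.Quotient.mk J a)) =
      algebraMap B (R' ⧸ J') (Ideal.Quotient.mk J a) from
      (Algebra.TensorProduct.quotIdealMapEquivQuotTensor R' J).symm.commutes _]
    exact Ideal.mem_map_of_mem (Ideal.Quotient.mk J') (hq (Ideal.mem_map_of_mem _ ha))
  obtain ⟨hgu, hdom⟩ := Groth.Agent.S2730.result R R'
    (FlatLoc6.isNormalHom_of_isRegularHom _ _ (CplFib6.isRegularHom_of_smooth R R')) B hBgu q₂ hq₂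
  haveI := hdom inferInstance
  -- compare with `R'_q ⧸ Δ`
  let L := Localization.AtPrime q
  let J₂ : Ideal L := J'.map (algebraMap R' L)
  let M : Submonoid (R' ⧸ J') := Submonoid.map (Ideal.Quotient.mk J') q.primeCompl
  haveI : IsLocalization M (L ⧸ J₂) :=
    IsLocalization.of_surjective q.primeCompl L (Ideal.Quotient.mk J') Ideal.Quotient.mk_surjective
      (Ideal.Quotient.mk J₂) Ideal.Quotient.mk_surjective rfl (by simp [J₂])
  have hM : Submonoid.map e₀.toMonoidHom M = q₂.primeCompl := by
    ext y
    obtain ⟨z, rfl⟩ := e₀.surjective y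
    obtain ⟨x, rfl⟩ := Ideal.Quotient.mk_surjective z
    have h1 : e₀ (Ideal.Quotient.mk J' x) ∈ q₂.primeCompl ↔ x ∈ q.primeCompl := by
      show e₀.symm (e₀ _) ∉ q₁ ↔ x ∉ q
      rw [RingEquiv.symm_apply_apply, Ideal.mem_quotient_iff_mem hJ'q]
    rw [h1]
    constructor
    · rintro ⟨_, ⟨w, hw, rfl⟩, hwe⟩
      have : Ideal.Quotient.mk J' w = Ideal.Quotient.mk J' x := e₀.injective hwe
      intro hxq
      exact hw ((Ideal.mem_quotient_iff_mem hJ'q).1 (this ▸ Ideal.mem_map_of_mem _ hxq))
    · exact fun hx => ⟨_, ⟨x, hx, rfl⟩, rfl⟩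
  let e : Localization.AtPrime q₂ ≃+* (L ⧸ J₂) :=
    (IsLocalization.ringEquivOfRingEquiv (M := M) (T := q₂.primeCompl) (L ⧸ J₂) (Localization.AtPrime q₂) e₀ hM).symm
  haveI : IsDomain (L ⧸ J₂) := e.symm.toMulEquiv.isDomain
  have hJ₂ : J₂ ≠ ⊤ := Ideal.Quotient.nontrivial_iff.1 inferInstance
  haveI : IsLocalRing (L ⧸ J₂) := IsLocalRing.of_surjective' _ Ideal.Quotient.mk_surjective
  have hgu' : CAlg2.IsGeomUnibranch (L ⧸ J₂) := UnibEtale.isGeomUnibranch_of_ringEquiv e hgu
  -- the strict henselization of the quotient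
  let J₃ : Ideal T := J₂.map (algebraMap L T)
  have hJ₃le : J₃ ≤ maximalIdeal T := by
    refine Ideal.map_le_iff_le_comap.2 fun x hx => ?_
    exact map_nonunit (algebraMap L T) x (IsLocalRing.le_maximalIdeal hJ₂ hx)
  haveI : Nontrivial (T ⧸ J₃) :=
    Ideal.Quotient.nontrivial_iff.2 fun h => (IsLocalRing.maximalIdeal.isMaximal T).ne_top (top_le_iff.1 (h ▸ hJ₃le))
  haveI : IsLocalRing (T ⧸ J₃) := IsLocalRing.of_surjective' _ Ideal.Quotient.mk_surjective
  haveI : IsLocalHom (algebraMap (L ⧸ J₂) (T ⧸ J₃)) := by
    refine ⟨fun x hx => ?_⟩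
    obtain ⟨x, rfl⟩ := Ideal.Quotient.mk_surjective x
    have hx' : IsUnit (Ideal.Quotient.mk J₃ (algebraMap L T x)) := hx
    haveI : IsLocalHom (Ideal.Quotient.mk J₃) := .of_surjective _ Ideal.Quotient.mk_surjective
    exact (IsLocalHom.map_nonunit x (IsLocalHom.map_nonunit (f := Ideal.Quotient.mk J₃) _ hx')).map _
  haveI := GorFib.isStrictHenselization_quotient L T J₂
  haveI : IsDomain (T ⧸ J₃) := (Groth.Agent.S2750.result (L ⧸ J₂) (T ⧸ J₃)).1 ⟨inferInstance, hgu'⟩
  -- conclusion
  let f : R →+* T := ((algebraMap L T).comp (algebraMap R' L)).comp (algebraMap R R')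
  have hJ₃ : J₃ = Ideal.span {f Δ} := by
    simp only [J₃, J₂, J', J, Ideal.map_span, Set.image_singleton]
    rfl
  haveI : IsLocalHom (algebraMap R L) := ⟨fun a ha => by
    by_contra h
    have h2 : algebraMap R' L (algebraMap R R' a) ∈ maximalIdeal L := by
      rw [Localization.AtPrime.map_eq_maximalIdeal.symm]
      exact Ideal.mem_map_of_mem _ (hq (Ideal.mem_map_of_mem _ h))
    rw [← IsScalarTower.algebraMap_apply] at h2
    exact h2 ha⟩
  haveI : Module.Flat R L := Module.Flat.trans R R' L
  haveI : Module.FaithfullyFlat R L := Module.FaithfullyFlat.of_flat_of_isLocalHom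
  haveI := Groth.Agent.S0539.result L T
  haveI : Module.FaithfullyFlat L T := Module.FaithfullyFlat.of_flat_of_isLocalHom
  have hf0 : f Δ ≠ 0 := by
    show algebraMap L T (algebraMap R' L (algebraMap R R' Δ)) ≠ 0
    rw [← IsScalarTower.algebraMap_apply R R' L]
    rw [map_ne_zero_iff _ (FaithfulSMul.algebraMap_injective L T),
      map_ne_zero_iff _ (FaithfulSMul.algebraMap_injective R L)]
    exact hΔ.ne_zero
  show Prime (f Δ)
  rw [← Ideal.span_singleton_prime hf0, ← hJ₃]
  exact (Ideal.Quotient.isDomain_iff_prime J₃).1 inferInstance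

end Groth.Agent.S17730
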