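import Groth.Statements.S13202
-- import your own Groth.Agent.* helpers here
import Groth.Agent.S17730
import Groth.Agent.AcycFin.StrictLoc
import Groth.Agent.S0540
import Groth.Agent.WEtLib.Stalks
import Groth.Agent.Hensel.TensorHenzFinite

set_option autoImplicit false
set_option linter.style.haveILetI false
universe u
open Hensel

open scoped TensorProduct

namespace Groth.Agent.S13202

/-- Let R be a Noetherian regular ring (every localization at a prime ideal is a regular local ring) and
Δ ∈ R. The element Δ is étale-universally prime — meaning that for every prime ideal p of R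
containing Δ and every strict henselization T of R_p, the image of Δ in T is a prime element —
exactly when for every smooth R-algebra R', every prime ideal q of R' and every strict henselization
T of R'_q, the image of Δ in T is either invertible or a prime element. (Smooth R-algebras and their
strict henselizations are taken in the universe of R.) -/
theorem result
    (R : Type u) [CommRing R] [IsNoetherianRing R]
    (hreg : ∀ (p : Ideal R) [p.IsPrime], IsRegularLocalRing (Localization.AtPrime p)) (Δ : R) :
    (∀ (p : Ideal R) [p.IsPrime], Δ ∈ p →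
        ∀ (T : Type u) [CommRing T] [IsLocalRing T] [Algebra (Localization.AtPrime p) T]
          [IsLocalHom (algebraMap (Localization.AtPrime p) T)]
          [Hensel.IsStrictHenselization (Localization.AtPrime p) T],
          Prime (algebraMap (Localization.AtPrime p) T (algebraMap R (Localization.AtPrime p) Δ))) ↔
    (∀ (R' : Type u) [CommRing R'] [Algebra R R'] [Algebra.Smooth R R'] (q : Ideal R') [q.IsPrime]
        (T : Type u) [CommRing T] [IsLocalRing T] [Algebra (Localization.AtPrime q) T]
          [IsLocalHom (algebraMap (Localization.AtPrime q) T)]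
          [Hensel.IsStrictHenselization (Localization.AtPrime q) T],
        IsUnit (algebraMap (Localization.AtPrime q) T (algebraMap R' (Localization.AtPrime q) (algebraMap R R' Δ))) ∨
          Prime (algebraMap (Localization.AtPrime q) T (algebraMap R' (Localization.AtPrime q) (algebraMap R R' Δ)))) := by
  classical
  constructor
  · intro h R' _ _ _ q _ T _ _ _ _ hT
    let L := Localization.AtPrime q
    by_cases hq : algebraMap R R' Δ ∈ q
    swap
    · exact Or.inl ((IsLocalization.map_units L (⟨_, hq⟩ : q.primeCompl)).map _)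
    refine Or.inr ?_
    let p : Ideal R := q.comap (algebraMap R R')
    let Lp := Localization.AtPrime p
    let φ₀ : Lp →+* L := Localization.localRingHom p q (algebraMap R R') rfl
    haveI : IsLocalHom φ₀ := Localization.isLocalHom_localRingHom p q (algebraMap R R') rfl
    obtain ⟨Rs, _, _, _, _, hRs⟩ := BcQCalc.exists_strictHens Lp
    have hΔs := h p hq Rs
    haveI : IsNoetherianRing Rs := (Groth.Agent.S0540.result Lp Rs).1 inferInstance
    haveI : HenselianLocalRing Rs := Hensel.IsStrictHenselization.henselian (R := Lp)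
    haveI : IsSepClosed (IsLocalRing.ResidueField Rs) := BcQCalc.isSepClosed_residueField_of_strict Lp Rs
    obtain ⟨ψ, hψl, hψ⟩ := BcQCalc.exists_strictMap (R := Rs) (R' := T) φ₀
    letI : Algebra R Rs := ((algebraMap Lp Rs).comp (algebraMap R Lp)).toAlgebra
    haveI : IsScalarTower R Lp Rs := IsScalarTower.of_algebraMap_eq fun _ => rfl
    letI : Algebra R' T := ((algebraMap L T).comp (algebraMap R' L)).toAlgebra
    haveI : IsScalarTower R' L T := IsScalarTower.of_algebraMap_eq fun _ => rfl
    letI : Algebra R T := ((algebraMap R' T).comp (algebraMap R R')).toAlgebra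
    haveI : IsScalarTower R R' T := IsScalarTower.of_algebraMap_eq fun _ => rfl
    let ψA : Rs →ₐ[R] T :=
      { ψ with
        commutes' := fun a => by
          show ψ (algebraMap Lp Rs (algebraMap R Lp a)) = algebraMap L T (algebraMap R' L (algebraMap R R' a))
          rw [show ψ (algebraMap Lp Rs (algebraMap R Lp a)) = algebraMap L T (φ₀ (algebraMap R Lp a)) from
            RingHom.congr_fun hψ _, Localization.localRingHom_to_map] }
    let Φ : R' ⊗[R] Rs →ₐ[R] T :=
      Algebra.TensorProduct.lift (IsScalarTower.toAlgHom R R' T) ψA (fun _ _ => Commute.all _ _)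
    letI : Algebra Rs (R' ⊗[R] Rs) := Algebra.TensorProduct.rightAlgebra
    haveI : Algebra.Smooth Rs (Rs ⊗[R] R') := inferInstance
    haveI : Algebra.Smooth Rs (R' ⊗[R] Rs) := Algebra.Smooth.of_equiv (Algebra.TensorProduct.commRight R Rs R')
    haveI : Algebra.WeaklyEtale R Lp := WEtLib.weaklyEtale_localization p.primeCompl
    haveI : Algebra.WeaklyEtale Lp Rs := Groth.Agent.S0736.result _ _ (Groth.Agent.S12237.result Lp Rs)
    haveI : Algebra.WeaklyEtale R Rs := Algebra.WeaklyEtale.trans R Lp Rs
    let q₂ : Ideal (R' ⊗[R] Rs) := (IsLocalRing.maximalIdeal T).comap Φ.toRingHom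
    haveI : q₂.IsPrime := Ideal.comap_isPrime _ _
    have hq₂ : (IsLocalRing.maximalIdeal Rs).map (algebraMap Rs (R' ⊗[R] Rs)) ≤ q₂ := by
      refine Ideal.map_le_iff_le_comap.2 fun a ha => ?_
      show Φ (1 ⊗ₜ a) ∈ IsLocalRing.maximalIdeal T
      rw [Algebra.TensorProduct.lift_tmul, map_one, one_mul]
      exact map_nonunit ψ a ha
    have hq₂' : ∀ x : R', x ∈ q ↔ (x ⊗ₜ[R] (1 : Rs)) ∈ q₂ := fun x => by
      show x ∈ q ↔ Φ (x ⊗ₜ 1) ∈ IsLocalRing.maximalIdeal T
      rw [Algebra.TensorProduct.lift_tmul, map_one, mul_one]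
      show x ∈ q ↔ algebraMap L T (algebraMap R' L x) ∈ IsLocalRing.maximalIdeal T
      rw [IsLocalRing.mem_maximalIdeal, mem_nonunits_iff, isUnit_map_iff, ← mem_nonunits_iff,
        ← IsLocalRing.mem_maximalIdeal, IsLocalization.AtPrime.to_map_mem_maximal_iff L q]
    let L₂ := Localization.AtPrime q₂
    have hcomap : q = q₂.comap (algebraMap R' (R' ⊗[R] Rs)) := Ideal.ext hq₂'
    let φ₁ : L →+* L₂ := Localization.localRingHom q q₂ (algebraMap R' (R' ⊗[R] Rs)) hcomap
    letI : Algebra L L₂ := φ₁.toAlgebra
    haveI : IsLocalHom (algebraMap L L₂) := Localization.isLocalHom_localRingHom q q₂ _ hcomap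
    haveI : IsScalarTower R' L L₂ := IsScalarTower.of_algebraMap_eq fun x =>
      ((Localization.localRingHom_to_map q q₂ (algebraMap R' (R' ⊗[R] Rs)) hcomap x).trans
        (IsScalarTower.algebraMap_apply R' (R' ⊗[R] Rs) L₂ x).symm).symm
    haveI : Algebra.WeaklyEtale R' L := WEtLib.weaklyEtale_localization q.primeCompl
    haveI : Algebra.WeaklyEtale (R' ⊗[R] Rs) L₂ := WEtLib.weaklyEtale_localization q₂.primeCompl
    haveI : Algebra.WeaklyEtale R' L₂ := Algebra.WeaklyEtale.trans R' (R' ⊗[R] Rs) L₂
    haveI : Algebra.WeaklyEtale L L₂ := WEtLib.cancel (A := R') (B := L) L₂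
    let θ : L₂ →+* T := IsLocalization.lift (M := q₂.primeCompl) (g := Φ.toRingHom) fun y => by
      exact IsLocalRing.notMem_maximalIdeal.1 y.2
    have hθ : ∀ y, θ (algebraMap (R' ⊗[R] Rs) L₂ y) = Φ y := fun y =>
      IsLocalization.lift_eq (M := q₂.primeCompl) _ y
    have hθφ : θ.comp (algebraMap L L₂) = algebraMap L T := by
      refine IsLocalization.ringHom_ext q.primeCompl (RingHom.ext fun x => ?_)
      show θ (algebraMap L L₂ (algebraMap R' L x)) = algebraMap L T (algebraMap R' L x)
      rw [← IsScalarTower.algebraMap_apply R' L L₂, IsScalarTower.algebraMap_apply R' (R' ⊗[R] Rs) L₂, hθ]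
      show Φ (x ⊗ₜ 1) = _
      rw [Algebra.TensorProduct.lift_tmul, map_one, mul_one]
      rfl
    haveI : IsLocalHom θ := ⟨fun z hz => by
      obtain ⟨⟨y, s⟩, hy⟩ := IsLocalization.surj q₂.primeCompl z
      simp only at hy
      have h1 : θ z * Φ s.1 = Φ y := by rw [← hθ, ← hθ, ← map_mul, hy]
      have hs : IsUnit (Φ s.1) := IsLocalRing.notMem_maximalIdeal.1 s.2
      have hy' : y ∈ q₂.primeCompl := IsLocalRing.notMem_maximalIdeal.2 (h1 ▸ hz.mul hs : IsUnit (Φ y))
      have := IsLocalization.map_units L₂ (⟨y, hy'⟩ : q₂.primeCompl)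
      simp only at this
      rw [← hy] at this
      exact isUnit_of_mul_isUnit_left this⟩
    -- the strict henselization upstairs
    obtain ⟨T₂, _, _, _, _, hT₂⟩ := BcQCalc.exists_strictHens L₂
    letI : Algebra L T₂ := ((algebraMap L₂ T₂).comp (algebraMap L L₂)).toAlgebra
    haveI : IsScalarTower L L₂ T₂ := IsScalarTower.of_algebraMap_eq fun _ => rfl
    haveI : IsLocalHom (algebraMap L T₂) := RingHom.isLocalHom_comp _ _
    haveI := AcycFin.isStrictHenselization_of_weaklyEtale (A := L) (A' := L₂) (R := T₂)
    have hP : Prime (algebraMap L₂ T₂ (algebraMap (R' ⊗[R] Rs) L₂ (algebraMap Rs (R' ⊗[R] Rs)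
        (algebraMap Lp Rs (algebraMap R Lp Δ))))) :=
      Groth.Agent.S17730.result Rs (R' ⊗[R] Rs) T₂ q₂ hq₂ _ hΔs
    haveI : HenselianLocalRing T := hT.henselian
    haveI : HenselianLocalRing T₂ := hT₂.henselian
    haveI : IsSepClosed (IsLocalRing.ResidueField T) := BcQCalc.isSepClosed_residueField_of_strict L T
    haveI : IsSepClosed (IsLocalRing.ResidueField T₂) := BcQCalc.isSepClosed_residueField_of_strict L₂ T₂
    letI : IsLocalHom (algebraMap T T) := ⟨fun _ hu => hu⟩
    haveI := Hensel.isStrictHenselization_self T ‹_› ‹_›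
    obtain ⟨χ, hχl, hχ⟩ := BcQCalc.exists_strictMap (R := T₂) (R' := T) θ
    letI : Algebra T₂ T := χ.toAlgebra
    haveI : IsLocalHom (algebraMap T₂ T) := hχl
    haveI : IsScalarTower L T₂ T := IsScalarTower.of_algebraMap_eq fun x => by
      show algebraMap L T x = χ (algebraMap L₂ T₂ (algebraMap L L₂ x))
      rw [show χ (algebraMap L₂ T₂ (algebraMap L L₂ x)) = θ (algebraMap L L₂ x) from RingHom.congr_fun hχ _]
      exact (RingHom.congr_fun hθφ x).symm
    haveI : Algebra.WeaklyEtale L T := Groth.Agent.S0736.result _ _ (Groth.Agent.S12237.result L T)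
    haveI : Algebra.WeaklyEtale L T₂ := Groth.Agent.S0736.result _ _ (Groth.Agent.S12237.result L T₂)
    haveI : Algebra.WeaklyEtale T₂ T := WEtLib.cancel (A := L) (B := T₂) T
    let E : T₂ ≃+* T := RingEquiv.ofBijective (algebraMap T₂ T) (WEtLib.bijective_algebraMap (A := T₂) (B := T))
    have hP' := (MulEquiv.prime_iff E.toMulEquiv).2 hP
    convert hP' using 1
    show _ = χ (algebraMap L₂ T₂ _)
    rw [show χ (algebraMap L₂ T₂ _) = θ _ from RingHom.congr_fun hχ _, hθ]
    show algebraMap L T (algebraMap R' L (algebraMap R R' Δ)) = Φ (algebraMap Rs (R' ⊗[R] Rs) (algebraMap R Rs Δ))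
    rw [show algebraMap Rs (R' ⊗[R] Rs) (algebraMap R Rs Δ) = algebraMap R (R' ⊗[R] Rs) Δ by
      show (1 : R') ⊗ₜ[R] algebraMap R Rs Δ = _
      rw [Algebra.algebraMap_eq_smul_one, TensorProduct.tmul_smul, Algebra.algebraMap_eq_smul_one]
      rfl]
    exact (Φ.commutes Δ).symm
  · intro h p _ hp T _ _ _ _ _
    rcases h R p T with hu | hpr
    · exfalso
      have h1 : IsUnit (algebraMap R (Localization.AtPrime p) Δ) := IsLocalHom.map_nonunit _ hu
      exact (IsLocalization.AtPrime.isUnit_to_map_iff (Localization.AtPrime p) p Δ).1 h1 hp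
    · exact hpr

end Groth.Agent.S13202
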