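import Groth.Statements.S13207
import Groth.Agent.NMPSigma.Basic
import Mathlib
-- import your own Groth.Agent.* helpers here

set_option autoImplicit false
universe u
open CategoryTheory CategoryTheory.Limits AlgebraicGeometry
open Neron

set_option backward.isDefEq.respectTransparency false
attribute [-instance] CategoryTheory.catToReflQuiver

namespace Groth.Agent.S13207

/-- Let (S_i)_{i ∈ I} be a family of schemes, (N_i → S_i)_{i ∈ I} morphisms of schemes, S = ∐ S_i and N
= ∐ N_i with the induced morphism N → S, and U ⊆ S a schematically dense open subscheme with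
preimages U_i ⊆ S_i. Then N → S is smooth with the Néron mapping property with respect to U — for
every smooth S-scheme Y, restriction to U is a bijection from S-morphisms Y → N onto U-morphisms Y
×_S U → N ×_S U — if and only if every N_i → S_i is smooth with the Néron mapping property with
respect to U_i. (The published statement is for algebraic spaces N_i tested against smooth algebraic
spaces, and has the same form for separated models; this row is the not-necessarily-separated case
for schemes tested against smooth schemes.) -/
theorem result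
    {I : Type u} (B N : I → Scheme.{u}) (f : ∀ i, N i ⟶ B i)
    (U : (∐ B).Opens) (hU : CInt.IsSchematicallyDense U) :
    (Smooth (Limits.Sigma.map f) ∧ ∀ Y : Over (∐ B), Smooth Y.hom →
        Function.Bijective (fun g : Y ⟶ Over.mk (Limits.Sigma.map f) => (Over.pullback U.ι).map g)) ↔
    ∀ i, Smooth (f i) ∧ ∀ Y : Over (B i), Smooth Y.hom →
        Function.Bijective (fun g : Y ⟶ Over.mk (f i) => (Over.pullback ((Limits.Sigma.ι B i) ⁻¹ᵁ U).ι).map g) := by
  let ιV : ∀ i, ((Limits.Sigma.ι B i) ⁻¹ᵁ U).toScheme ⟶ U.toScheme := fun i => (Limits.Sigma.ι B i) ∣_ U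
  have sqV : ∀ i, IsPullback (ιV i) ((Limits.Sigma.ι B i) ⁻¹ᵁ U).ι U.ι (Limits.Sigma.ι B i) :=
    fun i => isPullback_morphismRestrict _ U
  have sqN := fun i => Groth.Agent.NMPSigma.isPullback_sigmaMap B N f i
  rw [Groth.Agent.NMPSigma.mapProp_iff]
  constructor
  · rintro ⟨hs, hm⟩ i
    refine ⟨MorphismProperty.of_isPullback (P := @Smooth) (sqN i) hs, ?_⟩
    rw [Groth.Agent.NMPSigma.mapProp_iff]
    exact Groth.Agent.NMPSigma.mapProp_of_isPullback (sqN i) (sqV i) hm
  · intro h
    refine ⟨?_, Groth.Agent.NMPSigma.mapProp_sigma B N f U.ι _ _ ιV sqV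
      (fun i => (Groth.Agent.NMPSigma.mapProp_iff _ _).1 (h i).2)⟩
    rw [IsZariskiLocalAtTarget.iff_of_openCover (P := @Smooth) (sigmaOpenCover B)]
    intro i
    show Smooth (Limits.pullback.snd (Limits.Sigma.map f) ((sigmaOpenCover B).f i))
    have hi : (sigmaOpenCover B).f i = Limits.Sigma.ι B i := by simp
    rw [hi, ← (sqN i).isoPullback_inv_snd]
    haveI := (h i).1
    infer_instance


end Groth.Agent.S13207
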