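import Groth.Statements.S19894
-- import your own Groth.Agent.* helpers here
import Groth.Agent.H4Approx.Point

set_option autoImplicit false
set_option linter.style.haveILetI false
universe u
open IsLocalRing
open Hensel

namespace Groth.Agent.S19894

theorem mem_of_forall_mem_sup_pow {T : Type u} [CommRing T] [IsNoetherianRing T] [IsLocalRing T] {J : Ideal T}
    {x : T} (h : ∀ k : ℕ, x ∈ J ⊔ maximalIdeal T ^ k) : x ∈ J := by
  by_cases hJ : J = ⊤
  · rw [hJ]; trivial
  haveI : Nontrivial (T ⧸ J) := Ideal.Quotient.nontrivial_iff.2 hJ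
  haveI : IsLocalRing (T ⧸ J) := IsLocalRing.of_surjective' (Ideal.Quotient.mk J) Ideal.Quotient.mk_surjective
  have hne : (maximalIdeal T).map (Ideal.Quotient.mk J) ≠ ⊤ := by
    refine fun htop => (IsLocalRing.maximalIdeal.isMaximal T).ne_top (top_le_iff.1 ?_)
    rw [← Ideal.comap_top (f := Ideal.Quotient.mk J), ← htop,
      Ideal.comap_map_of_surjective _ Ideal.Quotient.mk_surjective, ← RingHom.ker_eq_comap_bot, Ideal.mk_ker]
    exact sup_le le_rfl (IsLocalRing.le_maximalIdeal hJ)
  have hmem : Ideal.Quotient.mk J x ∈ ⨅ k : ℕ, ((maximalIdeal T).map (Ideal.Quotient.mk J)) ^ k :=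
    (Ideal.mem_iInf).2 fun k => by
      have := Ideal.mem_map_of_mem (Ideal.Quotient.mk J) (h k)
      rwa [Ideal.map_sup, Ideal.map_quotient_self, bot_sup_eq, Ideal.map_pow] at this
  rw [Ideal.iInf_pow_eq_bot_of_isLocalRing _ hne, Ideal.mem_bot] at hmem
  exact Ideal.Quotient.eq_zero_iff_mem.1 hmem

/-- A divisor of a fixed element close enough to a given one is associated to it. -/
theorem exists_bound {T : Type u} [CommRing T] [IsDomain T] [IsNoetherianRing T] [IsLocalRing T]
    [UniqueFactorizationMonoid T] {D t : T} (hD : D ≠ 0) :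
    ∃ N : ℕ, ∀ a : T, a ∣ D → a - t ∈ maximalIdeal T ^ N → Associated a t := by
  classical
  haveI : Fintype {d : Associates T // d ∣ Associates.mk D} :=
    UniqueFactorizationMonoid.fintypeSubtypeDvd (Associates.mk D) (Associates.mk_ne_zero.2 hD)
  have key : ∀ d : {d : Associates T // d ∣ Associates.mk D}, ∃ k : ℕ,
      d.1 ≠ Associates.mk t → ∀ a : T, Associates.mk a = d.1 → a - t ∉ maximalIdeal T ^ k := by
    intro d
    by_contra hcon
    push Not at hcon
    obtain ⟨hne, a₀, ha₀, -⟩ := hcon 0
    refine hne ?_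
    have hmem : ∀ k, ∃ a, Associated a a₀ ∧ a - t ∈ maximalIdeal T ^ k := fun k => by
      obtain ⟨-, a, ha, hak⟩ := hcon k
      exact ⟨a, Associates.mk_eq_mk_iff_associated.1 (ha.trans ha₀.symm), hak⟩
    have h1 : t ∈ Ideal.span {a₀} := mem_of_forall_mem_sup_pow fun k => by
      obtain ⟨a, ha, hak⟩ := hmem k
      rw [show t = a - (a - t) by ring]
      exact sub_mem (Ideal.mem_sup_left (Ideal.mem_span_singleton.2 ha.symm.dvd)) (Ideal.mem_sup_right hak)
    have h2 : a₀ ∈ Ideal.span {t} := mem_of_forall_mem_sup_pow fun k => by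
      obtain ⟨a, ha, hak⟩ := hmem k
      obtain ⟨u, hu⟩ := ha
      rw [← hu, show a * (u : T) = t * u + (a - t) * u by ring]
      exact add_mem (Ideal.mem_sup_left (Ideal.mul_mem_right _ _ (Ideal.mem_span_singleton_self t)))
        (Ideal.mem_sup_right (Ideal.mul_mem_right _ _ hak))
    rw [← ha₀]
    exact Associates.mk_eq_mk_iff_associated.2
      (associated_of_dvd_dvd (Ideal.mem_span_singleton.1 h1) (Ideal.mem_span_singleton.1 h2))
  choose k hk using key
  refine ⟨Finset.univ.sup k, fun a ha hat => ?_⟩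
  by_contra hcon
  let d : {d : Associates T // d ∣ Associates.mk D} := ⟨Associates.mk a, Associates.mk_dvd_mk.2 ha⟩
  exact hk d (fun h => hcon (Associates.mk_eq_mk_iff_associated.1 h)) a rfl
    (Ideal.pow_le_pow_right (Finset.le_sup (Finset.mem_univ d)) hat)

open MvPowerSeries in
/-- Let R be a strictly henselian (henselian with separably closed residue field) excellent Noetherian
local domain which is a unique factorization domain and whose completion R^ at the maximal ideal is
also a unique factorization domain; let Δ ≠ 0 and t₁, t₂ be elements of the maximal ideal of R with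
t₁ t₂ = Δ, and let C be a local R-algebra, essentially of finite type over R with local structure
map, given with a ring isomorphism ψ from the completion C^ of C onto R^[[u,v]]/(uv − Δ) compatible
with the structure maps from R. Then there are an R-algebra homomorphism g : C → R and a ring
homomorphism ĝ : C^ → R^ inducing g (ĝ restricted to C is g followed by R → R^) such that ĝ(ψ⁻¹(u))
generates the ideal t₁R^ and ĝ(ψ⁻¹(v)) generates t₂R^. (This is the local-ring form of the statement
that, for a base scheme S with étale local ring R at a geometric point s̄, an S-scheme X of finite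
presentation and a closed point x of the geometric fibre whose completed étale local ring is
presented as R^[[u,v]]/(uv − Δ), some étale neighbourhood of s̄ carries a section of X through x
sending u, v to generators of (t₁), (t₂); the retraction g of the local ring C of X ×_S Spec R at x
is such a section by finite presentation. The source assumes S excellent and smooth-factorial and
takes R^ to be factorial; here the properties of R that the argument uses are assumed directly, so
that the statement covers in particular every strictly henselian excellent regular local ring. The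
published statement allows Δ = 0; this one assumes Δ ≠ 0.) -/
theorem result
    (R : Type u) [CommRing R] [IsNoetherianRing R] [IsDomain R] [UniqueFactorizationMonoid R] [HenselianLocalRing R]
    [IsSepClosed (ResidueField R)] (hR : EGA4.IsExcellent R)
    [IsDomain (AdicCompletion (maximalIdeal R) R)] [UniqueFactorizationMonoid (AdicCompletion (maximalIdeal R) R)]
    (Δ t₁ t₂ : R) (hΔ : Δ ≠ 0) (ht₁ : t₁ ∈ maximalIdeal R) (ht₂ : t₂ ∈ maximalIdeal R) (ht : t₁ * t₂ = Δ)
    (C : Type u) [CommRing C] [IsLocalRing C] [Algebra R C] [IsLocalHom (algebraMap R C)]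
    [Algebra.EssFiniteType R C]
    (ψ : AdicCompletion (maximalIdeal C) C ≃+*
      (MvPowerSeries (Fin 2) (AdicCompletion (maximalIdeal R) R) ⧸
        Ideal.span {(X 0 * X 1 - MvPowerSeries.C (algebraMap R (AdicCompletion (maximalIdeal R) R) Δ) :
          MvPowerSeries (Fin 2) (AdicCompletion (maximalIdeal R) R))}))
    (hψ : ψ.toRingHom.comp ((algebraMap C (AdicCompletion (maximalIdeal C) C)).comp (algebraMap R C)) =
      (Ideal.Quotient.mk _).comp ((MvPowerSeries.C : AdicCompletion (maximalIdeal R) R →+*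
        MvPowerSeries (Fin 2) (AdicCompletion (maximalIdeal R) R)).comp
          (algebraMap R (AdicCompletion (maximalIdeal R) R)))) :
    ∃ (g : C →ₐ[R] R) (ĝ : AdicCompletion (maximalIdeal C) C →+* AdicCompletion (maximalIdeal R) R),
      ĝ.comp (algebraMap C (AdicCompletion (maximalIdeal C) C)) =
        (algebraMap R (AdicCompletion (maximalIdeal R) R)).comp g.toRingHom ∧
      Ideal.span {ĝ (ψ.symm (Ideal.Quotient.mk _ (X 0)))} =
        Ideal.span {algebraMap R (AdicCompletion (maximalIdeal R) R) t₁} ∧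
      Ideal.span {ĝ (ψ.symm (Ideal.Quotient.mk _ (X 1)))} =
        Ideal.span {algebraMap R (AdicCompletion (maximalIdeal R) R) t₂} := by
  classical
  let T := AdicCompletion (maximalIdeal R) R
  let Ĉ := AdicCompletion (maximalIdeal C) C
  haveI : IsNoetherianRing C := Algebra.EssFiniteType.isNoetherianRing R C
  have hfgR : (maximalIdeal R).FG := IsNoetherian.noetherian _
  have hfgC : (maximalIdeal C).FG := IsNoetherian.noetherian _
  haveI : IsNoetherianRing T := PopescuLib.noetherian_completion (maximalIdeal R)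
  haveI : IsLocalRing T := AdicCompletion.isLocalRing_of_fg hfgR
  haveI : IsLocalRing Ĉ := AdicCompletion.isLocalRing_of_fg hfgC
  have hmaxT : maximalIdeal T = (maximalIdeal R).map (algebraMap R T) :=
    AdicCompletion.maximalIdeal_eq_map_of_fg hfgR
  have hmaxC : maximalIdeal Ĉ = (maximalIdeal C).map (algebraMap C Ĉ) :=
    AdicCompletion.maximalIdeal_eq_map_of_fg hfgC
  haveI : IsAdicComplete (maximalIdeal T) T := AdicCompletion.isAdicComplete_of_fg hfgR
  haveI : IsHausdorff (maximalIdeal R) R :=
    IsHausdorff.of_isLocalRing (maximalIdeal R) R (IsLocalRing.maximalIdeal.isMaximal R).ne_top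
  have hinj : Function.Injective (algebraMap R T) := AdicCompletion.of_injective (maximalIdeal R) R
  -- evaluation at `(t₁, t₂)`
  have htmem : ∀ i : Fin 2, (![algebraMap R T t₁, algebraMap R T t₂]) i ∈ maximalIdeal T := by
    intro i
    rw [hmaxT]
    fin_cases i
    · exact Ideal.mem_map_of_mem _ ht₁
    · exact Ideal.mem_map_of_mem _ ht₂
  obtain ⟨e, he⟩ := PSLib.exists_algHom (R := T) (maximalIdeal T) _ htmem
  have heC : ∀ x : T, e (MvPowerSeries.C x) = x := fun x => e.commutes x
  let E : (MvPowerSeries (Fin 2) T ⧸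
      Ideal.span {(X 0 * X 1 - MvPowerSeries.C (algebraMap R T Δ) : MvPowerSeries (Fin 2) T)}) →+* T :=
    Ideal.Quotient.lift _ e.toRingHom (fun a ha => by
      obtain ⟨b, rfl⟩ := Ideal.mem_span_singleton'.1 ha
      show e (b * (X 0 * X 1 - MvPowerSeries.C (algebraMap R T Δ))) = 0
      rw [map_mul, map_sub, map_mul, he, he, heC]
      simp [← ht])
  have hE : ∀ p, E (Ideal.Quotient.mk _ p) = e p := fun p => rfl
  let H : Ĉ →+* T := E.comp ψ.toRingHom
  have hHsurj : Function.Surjective H := fun x => by
    obtain ⟨y, hy⟩ := ψ.surjective (Ideal.Quotient.mk _ (MvPowerSeries.C x))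
    exact ⟨y, show E (ψ y) = x by rw [hy, hE, heC]⟩
  have hHm : (maximalIdeal Ĉ).map H ≤ maximalIdeal T := by
    refine Ideal.map_le_iff_le_comap.2 (le_of_eq ?_)
    exact (IsLocalRing.eq_maximalIdeal (Ideal.comap_isMaximal_of_surjective H hHsurj)).symm
  let h : C →ₐ[R] T :=
    { H.comp (algebraMap C Ĉ) with
      commutes' := fun r => by
        have := RingHom.congr_fun hψ r
        simp only [RingHom.comp_apply] at this
        show E (ψ (algebraMap C Ĉ (algebraMap R C r))) = _
        exact (congrArg E this).trans ((hE _).trans (heC _)) }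
  have hΔ' : algebraMap R T Δ ≠ 0 := fun h0 => hΔ (hinj (h0.trans (map_zero _).symm))
  obtain ⟨N, hN⟩ := exists_bound (t := algebraMap R T t₁) hΔ'
  obtain ⟨g, hg⟩ := H4Approx.exists_point R hR.2.2.1 C h N
  rw [← hmaxT] at hg
  have hhm : ∀ c ∈ maximalIdeal C, h c ∈ maximalIdeal T := fun c hc =>
    hHm (Ideal.mem_map_of_mem _ (hmaxC ▸ Ideal.mem_map_of_mem _ hc))
  have hgm : (maximalIdeal C).map g.toRingHom ≤ maximalIdeal R := by
    refine Ideal.map_le_iff_le_comap.2 fun c hc => ?_
    by_contra hgc
    have h1 : IsUnit (algebraMap R T (g c)) := (IsLocalRing.notMem_maximalIdeal.1 hgc).map _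
    have h2 := sub_mem (hhm c hc) (Ideal.pow_le_self (Nat.succ_ne_zero N) (hg c))
    rw [sub_sub_cancel] at h2
    exact h2 h1
  let ĝ : Ĉ →+* T := FSch.complMap (maximalIdeal C) (maximalIdeal R) g.toRingHom hgm
  have hĝ : ∀ c, ĝ (algebraMap C Ĉ c) = algebraMap R T (g c) := fun c =>
    FComplLib.complMap_algebraMap _ _ g.toRingHom hgm c
  -- `ĝ` is close to `H`
  have hclose : ∀ y : Ĉ, ĝ y - H y ∈ maximalIdeal T ^ (N + 1) := by
    intro y
    obtain ⟨c, hc⟩ := Ideal.Quotient.mk_surjective (AdicCompletion.evalₐ (maximalIdeal C) (N + 1) y)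
    have hd : y - algebraMap C Ĉ c ∈ (maximalIdeal C ^ (N + 1)).map (algebraMap C Ĉ) := by
      refine PopescuLib.mem_map_of_evalₐ_eq_zero _ hfgC _ ?_
      rw [map_sub, AlgHom.commutes, sub_eq_zero, ← hc]
      rfl
    have hmapT : ∀ φ : Ĉ →+* T, (∀ z ∈ maximalIdeal C, φ (algebraMap C Ĉ z) ∈ maximalIdeal T) →
        φ (y - algebraMap C Ĉ c) ∈ maximalIdeal T ^ (N + 1) := fun φ hφ => by
      have h1 := Ideal.mem_map_of_mem φ hd
      rw [Ideal.map_map, Ideal.map_pow] at h1
      exact Ideal.pow_right_mono (Ideal.map_le_iff_le_comap.2 hφ) _ h1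
    have e1 : ĝ y - H y = (ĝ (y - algebraMap C Ĉ c) - H (y - algebraMap C Ĉ c)) +
        (algebraMap R T (g c) - h c) := by
      rw [map_sub, map_sub, hĝ]
      show _ = _ + (algebraMap R T (g c) - H (algebraMap C Ĉ c))
      ring
    rw [e1]
    refine add_mem (sub_mem (hmapT ĝ fun z hz => ?_) (hmapT H fun z hz => hhm z hz)) ?_
    · rw [hĝ, hmaxT]
      exact Ideal.mem_map_of_mem _ (hgm (Ideal.mem_map_of_mem _ hz))
    · rw [← neg_sub]
      exact neg_mem (hg c)
  let P : MvPowerSeries (Fin 2) T →+* T := ĝ.comp (ψ.symm.toRingHom.comp (Ideal.Quotient.mk _))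
  have hab : P (X 0) * P (X 1) = algebraMap R T Δ := by
    have h1 : P (X 0) * P (X 1) = P (MvPowerSeries.C (algebraMap R T Δ)) := by
      rw [← map_mul]
      show ĝ (ψ.symm _) = ĝ (ψ.symm _)
      rw [Ideal.Quotient.eq.2 (Ideal.mem_span_singleton_self _)]
    have hψ' := RingHom.congr_fun hψ Δ
    simp only [RingHom.comp_apply] at hψ'
    rw [h1]
    show ĝ (ψ.symm (Ideal.Quotient.mk _ (MvPowerSeries.C (algebraMap R T Δ)))) = _
    rw [← hψ']
    show ĝ (ψ.symm (ψ _)) = _
    rw [RingEquiv.symm_apply_apply, hĝ, AlgHom.commutes]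
    rfl
  have hPX : ∀ i, P (X i) - (![algebraMap R T t₁, algebraMap R T t₂]) i ∈ maximalIdeal T ^ (N + 1) := fun i => by
    have := hclose (ψ.symm (Ideal.Quotient.mk _ (X i)))
    rwa [show H (ψ.symm (Ideal.Quotient.mk _ (X i))) = (![algebraMap R T t₁, algebraMap R T t₂]) i by
      show E (ψ (ψ.symm _)) = _
      rw [RingEquiv.apply_symm_apply, hE, he]] at this
  have ha : Associated (P (X 0)) (algebraMap R T t₁) :=
    hN _ ⟨_, hab.symm⟩ (Ideal.pow_le_pow_right (Nat.le_succ N) (hPX 0))
  have ht' : algebraMap R T Δ = algebraMap R T t₁ * algebraMap R T t₂ := by rw [← map_mul, ht]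
  have ht₁0 : algebraMap R T t₁ ≠ 0 := fun h0 => hΔ' (by rw [ht', h0, zero_mul])
  have hb : Associated (P (X 1)) (algebraMap R T t₂) := by
    refine Associated.of_mul_left (Associated.of_eq ?_) ha ?_
    · rw [hab, ht']
    · intro h0
      exact hΔ' (by rw [← hab, h0, zero_mul])
  exact ⟨g, ĝ, RingHom.ext hĝ, Ideal.span_singleton_eq_span_singleton.2 ha,
    Ideal.span_singleton_eq_span_singleton.2 hb⟩

end Groth.Agent.S19894
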