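import Groth.Statements.S13209
import Groth.Agent.AlgSpDec.LqfSplitZ
-- import your own Groth.Agent.* helpers here

set_option autoImplicit false
universe u
open CategoryTheory CategoryTheory.Limits AlgebraicGeometry
open Neron

set_option backward.isDefEq.respectTransparency false
attribute [-instance] CategoryTheory.catToReflQuiver

namespace Groth.Agent.S13209

/-- Let S be a scheme, U ⊆ S a schematically dense open subscheme and N → S a smooth S-scheme with the
Néron mapping property for schemes with respect to U: for every smooth S-scheme Y, composition with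
the projection Y ×_S U → Y is a bijection from S-morphisms Y → N onto S-morphisms Y ×_S U → N
(equivalently, onto U-morphisms Y ×_S U → N ×_S U). Then N also has the Néron mapping property with
respect to smooth algebraic spaces: for every algebraic space F over S (an fppf sheaf of sets on
S-schemes with representable diagonal and an étale surjective chart from a scheme) whose structure
map to h_S is smooth, composition with the first projection F × h_U → F is a bijection from
morphisms of sheaves F → h_N onto morphisms F × h_U → h_N. -/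
theorem result
    {S : Scheme.{u}} (U : S.Opens) (hU : CInt.IsSchematicallyDense U) (N : Over S) [Smooth N.hom]
    (hN : ∀ Y : Over S, Smooth Y.hom →
      Function.Bijective (fun g : Y ⟶ N => (Over.mapPullbackAdj U.ι).counit.app Y ≫ g))
    (F : AlgSp.Sp S) (hF : AlgSp.IsAlgSpace F)
    (sF : F ⟶ (AlgSp.yon S).obj (Over.mk (𝟙 S))) (hsm : AlgSp.LocP @Smooth sF) :
    Function.Bijective (fun φ : F ⟶ (AlgSp.yon S).obj N =>
      (Limits.prod.fst : F ⨯ (AlgSp.yon S).obj (Over.mk U.ι) ⟶ F) ≫ φ) := by
  classical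
  obtain ⟨V, p, hpe, hps⟩ := hF.atlas
  haveI hls : Sheaf.IsLocallySurjective p :=
    Groth.Agent.AlgSpLib.isLocallySurjective_of_etale_surjective hpe hps
  haveI : Epi p := Sheaf.epi_of_isLocallySurjective p
  haveI hVs : Smooth V.hom := by
    obtain ⟨h, hh⟩ := (AlgSp.yon S).map_surjective (p ≫ sF)
    have h1 := hsm p (𝟙 _) h hpe (AlgSp.repWith_id _ _) (by rw [Category.comp_id, hh])
    have h2 : h.left = V.hom := by
      have h3 := Over.w h
      simpa using h3
    rwa [h2] at h1
  let R := hpe.1.pullback p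
  obtain ⟨t, ht⟩ := (AlgSp.yon S).map_surjective (hpe.1.fst p)
  let s : R ⟶ V := hpe.1.snd p
  have sq : IsPullback ((AlgSp.yon S).map t) ((AlgSp.yon S).map s) p p := by
    rw [ht]; exact hpe.1.isPullback p
  haveI : Etale s.left := hpe.2 p _ s sq
  haveI hRs : Smooth R.hom := by
    rw [← Over.w s]
    infer_instance
  let W : Over S ⥤ Over S := Over.pullback U.ι ⋙ Over.map U.ι
  let cu : ∀ Y : Over S, W.obj Y ⟶ Y := fun Y => (Over.mapPullbackAdj U.ι).counit.app Y
  have hnat : ∀ {Y Y' : Over S} (f : Y ⟶ Y'), W.map f ≫ cu Y' = cu Y ≫ f := fun f =>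
    (Over.mapPullbackAdj U.ι).counit.naturality f
  let sw : ∀ Y : Over S, W.obj Y ⟶ Over.mk U.ι := fun Y =>
    Over.homMk (Limits.pullback.snd Y.hom U.ι) rfl
  have hsw : ∀ {Y Y' : Over S} (f : Y ⟶ Y'), W.map f ≫ sw Y' = sw Y := fun f => by
    ext
    exact Limits.pullback.lift_snd _ _ _
  let hU' := (AlgSp.yon S).obj (Over.mk U.ι)
  let c : (AlgSp.yon S).obj (W.obj V) ⟶ F ⨯ hU' :=
    Limits.prod.lift ((AlgSp.yon S).map (cu V) ≫ p) ((AlgSp.yon S).map (sw V))
  haveI : Sheaf.IsLocallySurjective c := by
    refine Groth.Agent.AlgSpLib.isLocallySurjective_of_lifts c fun T ξ => ?_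
    obtain ⟨T', k, x, hk, hx⟩ := Groth.Agent.AlgSpDec.exists_fppf_lift_of_locallySurjective p
      (ξ ≫ (Limits.prod.fst : F ⨯ hU' ⟶ F))
    obtain ⟨x, rfl⟩ := (AlgSp.yon S).map_surjective x
    obtain ⟨y, hy⟩ := (AlgSp.yon S).map_surjective (ξ ≫ (Limits.prod.snd : F ⨯ hU' ⟶ hU'))
    let l : T' ⟶ W.obj V := Over.homMk (Limits.pullback.lift x.left ((k ≫ y).left)
      ((Over.w x).trans (Over.w (k ≫ y)).symm)) (by
        show Limits.pullback.lift x.left _ _ ≫ Limits.pullback.snd V.hom U.ι ≫ U.ι = T'.hom
        rw [Limits.pullback.lift_snd_assoc]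
        exact Over.w (k ≫ y))
    have hl1 : l ≫ cu V = x := by
      ext
      show Limits.pullback.lift x.left _ _ ≫ ((Over.mapPullbackAdj U.ι).counit.app V).left = x.left
      rw [show ((Over.mapPullbackAdj U.ι).counit.app V).left = Limits.pullback.fst V.hom U.ι by simp]
      exact Limits.pullback.lift_fst _ _ _
    have hl2 : l ≫ sw V = k ≫ y := by
      ext
      exact Limits.pullback.lift_snd _ _ _
    refine ⟨T', k, (AlgSp.yon S).map l, hk, Limits.prod.hom_ext ?_ ?_⟩
    · rw [Category.assoc, Limits.prod.lift_fst, ← Functor.map_comp_assoc, hl1, hx, Category.assoc]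
    · rw [Category.assoc, Limits.prod.lift_snd, ← Functor.map_comp, hl2, Functor.map_comp, hy, Category.assoc]
  haveI : Epi c := Sheaf.epi_of_isLocallySurjective c
  refine ⟨fun φ₁ φ₂ h12 => ?_, fun ψ => ?_⟩
  · obtain ⟨g₁, hg₁⟩ := (AlgSp.yon S).map_surjective (p ≫ φ₁)
    obtain ⟨g₂, hg₂⟩ := (AlgSp.yon S).map_surjective (p ≫ φ₂)
    have h3 : g₁ = g₂ := (hN V hVs).1 (by
      show cu V ≫ g₁ = cu V ≫ g₂
      apply (AlgSp.yon S).map_injective
      rw [Functor.map_comp, Functor.map_comp, hg₁, hg₂]
      have h4 := congrArg (c ≫ ·) h12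
      simp only [c] at h4
      erw [Limits.prod.lift_fst_assoc, Limits.prod.lift_fst_assoc] at h4
      simpa only [Category.assoc] using h4)
    rw [← cancel_epi p, ← hg₁, ← hg₂, h3]
  · obtain ⟨m, hm⟩ := (AlgSp.yon S).map_surjective (c ≫ ψ)
    obtain ⟨g, hg⟩ := (hN V hVs).2 m
    change cu V ≫ g = m at hg
    have heq : t ≫ g = s ≫ g := (hN R hRs).1 (by
      show cu R ≫ t ≫ g = cu R ≫ s ≫ g
      rw [← Category.assoc, ← hnat t, ← Category.assoc (cu R), ← hnat s, Category.assoc, Category.assoc, hg]
      apply (AlgSp.yon S).map_injective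
      rw [Functor.map_comp, Functor.map_comp, hm, ← Category.assoc, ← Category.assoc]
      congr 1
      refine Limits.prod.hom_ext ?_ ?_
      · simp only [c, Category.assoc, Limits.prod.lift_fst, ← Functor.map_comp_assoc, hnat]
        simp only [Functor.map_comp, Category.assoc]
        rw [sq.w]
      · simp only [c, Category.assoc, Limits.prod.lift_snd, ← Functor.map_comp, hsw]
        rfl)
    obtain ⟨φ, hφ⟩ := Groth.Agent.AlgSpDec.exists_desc_of_kernelPair sq ((AlgSp.yon S).map g)
      (by rw [← Functor.map_comp, ← Functor.map_comp, heq])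
    refine ⟨φ, ?_⟩
    show Limits.prod.fst ≫ φ = ψ
    rw [← cancel_epi c, ← hm, ← hg]
    simp only [c, Functor.map_comp]
    erw [Limits.prod.lift_fst_assoc]
    rw [Category.assoc, hφ]


end Groth.Agent.S13209
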