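import Groth.Statements.S13341
set_option backward.isDefEq.respectTransparency false
set_option backward.isDefEq.respectTransparency.types false
set_option linter.style.haveILetI false

set_option autoImplicit false
open CategoryTheory
universe u
open FCompl

namespace Groth.Agent.S13341

open AlgebraicGeometry in
/-- Formal schemes are presented as locally Noetherian adic systems of thickenings and the fibre product
is taken levelwise (it presents the fibre product of formal schemes since one factor is adic over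
the base). Let 𝔖 be a locally Noetherian formal system, 𝔛 and 𝔜 locally Noetherian formal systems
over 𝔖 such that 𝔛 or 𝔜 is of finite type over 𝔖, and 𝔜 separated over 𝔖 at level 0. Then for every
𝔖-morphism f : 𝔛 → 𝔜 the graph morphism 𝔛 → 𝔛 ×_𝔖 𝔜 is a closed immersion: adic, with level 0 a
closed immersion. -/
theorem result {𝔛 𝔜 𝔖 : FSch.Sys.{u}} (h𝔖 : 𝔖.IsLocNoethFormal) (h𝔛 : 𝔛.IsLocNoethFormal)
    (h𝔜 : 𝔜.IsLocNoethFormal) (p : 𝔛 ⟶ 𝔖) (q : 𝔜 ⟶ 𝔖) (hpq : FSch.IsFiniteTypeHom p ∨ FSch.IsFiniteTypeHom q)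
    (hq : IsSeparated ((q : FSch.Hom 𝔜 𝔖).app 0)) (f : 𝔛 ⟶ 𝔜) (w : f ≫ q = p) :
    FSch.IsClosedImmHom (FSch.graph f p q w) := by
  open Limits in
  haveI := hq
  refine ⟨fun n => ?_, ?_⟩
  · haveI : IsClosedImmersion (𝔜.ι n) := (h𝔜.1 n).1
    haveI : Mono (𝔜.ι n) := inferInstance
    let g : FSch.Hom 𝔛 (FSch.pullbackSys p q) := FSch.graph f p q w
    have hg : ∀ m, g.app m ≫ pullback.fst _ _ = 𝟙 (𝔛.X m) := fun m => pullback.lift_fst _ _ _
    have hg' : ∀ m, g.app m ≫ pullback.snd _ _ = (f : FSch.Hom 𝔛 𝔜).app m := fun m => pullback.lift_snd _ _ _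
    have hi : (FSch.pullbackSys p q).ι n ≫ pullback.fst _ _ = pullback.fst _ _ ≫ 𝔛.ι n := pullback.lift_fst _ _ _
    have hi' : (FSch.pullbackSys p q).ι n ≫ pullback.snd _ _ = pullback.snd _ _ ≫ 𝔜.ι n := pullback.lift_snd _ _ _
    have hsq : 𝔛.ι n ≫ g.app (n + 1) = g.app n ≫ (FSch.pullbackSys p q).ι n := (g.comm n).symm
    refine IsPullback.of_isLimit' ⟨hsq⟩ (PullbackCone.IsLimit.mk _
      (fun s => s.snd ≫ pullback.fst _ _) (fun s => ?_) (fun s => ?_) (fun s m h1 h2 => ?_))
    · have h := s.condition =≫ pullback.fst _ _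
      rw [Category.assoc, Category.assoc, hg, Category.comp_id, hi] at h
      rw [Category.assoc]
      exact h.symm
    · have h := s.condition =≫ pullback.fst _ _
      rw [Category.assoc, Category.assoc, hg, Category.comp_id, hi] at h
      have h' := s.condition =≫ pullback.snd _ _
      rw [Category.assoc, Category.assoc, hg', hi', h, Category.assoc, Category.assoc] at h'
      refine pullback.hom_ext ?_ ?_
      · rw [Category.assoc, hg, Category.comp_id]
      · rw [Category.assoc, hg', ← cancel_mono (𝔜.ι n)]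
        simp only [Category.assoc]
        rw [(f : FSch.Hom 𝔛 𝔜).comm n]
        exact h'
    · have h := h2 =≫ pullback.fst _ _
      rwa [Category.assoc, hg, Category.comp_id] at h
  · let g : FSch.Hom 𝔛 (FSch.pullbackSys p q) := FSch.graph f p q w
    have hg : g.app 0 ≫ pullback.fst _ _ = 𝟙 (𝔛.X 0) := pullback.lift_fst _ _ _
    haveI : IsClosedImmersion (g.app 0 ≫ pullback.fst _ _) := by rw [hg]; infer_instance
    exact IsClosedImmersion.of_comp (g.app 0) (pullback.fst _ _)

end Groth.Agent.S13341
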