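import Groth.Statements.S13344
import Groth.Agent.H9FCoh.Good
import Groth.Agent.H9FCoh.KerFT
set_option backward.isDefEq.respectTransparency false
set_option backward.isDefEq.respectTransparency.types false
set_option linter.style.haveILetI false

-- import your own Groth.Agent.* helpers here

set_option autoImplicit false
open CategoryTheory CategoryTheory.Limits
universe u
open FCompl

namespace Groth.Agent.S13344

open Opposite TopologicalSpace AlgebraicGeometry

theorem final_gInv (𝔛 : FSch.Sys.{u}) (h : 𝔛.IsFormal) (n : ℕ) : (Opens.map (𝔛.gInv h n)).Final where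
  out U := by
    have : Nonempty (StructuredArrow U (Opens.map (𝔛.gInv h n))) :=
      ⟨StructuredArrow.mk (Y := ⊤) (homOfLE le_top)⟩
    refine isConnected_of_zigzag fun a b => ?_
    let t : StructuredArrow U (Opens.map (𝔛.gInv h n)) := StructuredArrow.mk (Y := ⊤) (homOfLE le_top)
    exact ⟨[t, b], by
      refine List.IsChain.cons_cons (Or.inl ⟨StructuredArrow.homMk (homOfLE le_top) (Subsingleton.elim _ _)⟩) ?_
      exact List.IsChain.cons_cons (Or.inr ⟨StructuredArrow.homMk (homOfLE le_top) (Subsingleton.elim _ _)⟩)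
        (List.IsChain.singleton _), rfl⟩

open H9FCoh in
theorem span_map_pow {A B : Type u} [CommRing A] [CommRing B] (φ : A →+* B) (I : Ideal A) (k : ℕ) {σ : Type*}
    (g : σ → A) (hg : Submodule.span A (Set.range g) = I ^ k) :
    (I.map φ) ^ k = Submodule.span B (Set.range fun j => φ (g j)) := by
  rw [← Ideal.map_pow, ← hg]
  exact (Ideal.map_span φ _).trans (congrArg Ideal.span (Set.range_comp φ g).symm)

open H9FCoh in
theorem exists_gens (𝔛 : FSch.Sys.{u}) (h : 𝔛.IsLocNoethFormal) (n : ℕ) (x : 𝔛.X 0) :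
    ∃ (U : (𝔛.X 0).Opens) (σ : Type u) (_ : Finite σ) (g : σ → Ox h U), x ∈ U ∧ (∀ j, pr h n U (g j) = 0) ∧
      ∀ (V : (𝔛.X 0).Opens) (hV : V ≤ U) (z : Ox h V), pr h n V z = 0 →
        RngSp.Nearby V fun W hW => rO h hW z ∈
          Submodule.span (Ox h W) (Set.range fun j => rO h (hW.trans hV) (g j)) := by
  obtain ⟨U, hU, hxU, -⟩ := Opens.isBasis_iff_nbhd.1 (𝔛.X 0).isBasis_affineOpens (Opens.mem_top x)
  haveI := isNoetherianRing_Ox h hU
  obtain ⟨m, g, hg⟩ := Submodule.fg_iff_exists_fin_generating_family.1 (IsNoetherian.noetherian (J h U ^ (n + 1)))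
  refine ⟨U, ULift.{u} (Fin m), inferInstance, fun j => g j.down, hxU, fun j => ?_, fun V hV z hz y hy => ?_⟩
  · rw [← RingHom.mem_ker, ker_pr h hU n, ← hg]
    exact Submodule.subset_span ⟨_, rfl⟩
  · obtain ⟨W, hW, hyW, hWV⟩ := Opens.isBasis_iff_nbhd.1 (𝔛.X 0).isBasis_affineOpens hy
    refine ⟨W, hWV, hyW, ?_⟩
    show rO h hWV z ∈ _
    rw [← span_map_pow (rO h (hWV.trans hV)) (J h U) (n + 1) (fun j : ULift.{u} (Fin m) => g j.down)
      (by rw [← hg]; congr 1; exact Set.ext fun v => ⟨fun ⟨l, e⟩ => ⟨l.down, e⟩, fun ⟨l, e⟩ => ⟨⟨l⟩, e⟩⟩),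
      map_rO_J h hU hW, ← ker_pr h hW n, RingHom.mem_ker, ← rn_pr, hz, map_zero]

end Groth.Agent.S13344

namespace Groth.Agent.S13344

open AlgebraicGeometry in
/-- On a locally Noetherian formal scheme the ideals of definition are coherent. Here the formal scheme
is presented as an adic system of locally Noetherian thickenings with common underlying space, O_𝔛 =
lim O_{X_n}, and the statement is made for the ideals of definition attached to the levels: for
every n the kernel of the canonical morphism O_𝔛 → (u_n)_* u_n^* O_𝔛 (whose target is O_{X_n}) is an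
O_𝔛-module of finite type. -/
theorem result (𝔛 : FSch.Sys.{u}) (h𝔛 : 𝔛.IsLocNoethFormal) (n : ℕ) :
    SheafOfModules.IsFiniteType (R := ModSite.ringSh (𝔛.Osh h𝔛.1))
      (kernel ((FSch.levelMor 𝔛 h𝔛.1 n).adj.unit.app (FSch.unitF 𝔛 h𝔛.1))) := by
  haveI : ((FSch.levelMor 𝔛 h𝔛.1 n).fn).Final := final_gInv 𝔛 h𝔛.1 n
  let φ := (FSch.levelMor 𝔛 h𝔛.1 n).sharpR
  let e := SheafOfModules.pullbackObjUnitToUnit φ
  haveI : IsIso e := inferInstanceAs (IsIso (SheafOfModules.pullbackObjUnitToUnit φ))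
  let η := (FSch.levelMor 𝔛 h𝔛.1 n).adj.unit.app (FSch.unitF 𝔛 h𝔛.1)
  have h : η ≫ (FSch.levelMor 𝔛 h𝔛.1 n).push.map e = SheafOfModules.unitToPushforwardObjUnit φ :=
    (Adjunction.homEquiv_unit (FSch.levelMor 𝔛 h𝔛.1 n).adj _ _ e).symm.trans
      (SheafOfModules.pullbackPushforwardAdjunction_homEquiv_pullbackObjUnitToUnit φ)
  refine H9FCoh.isFiniteType_kernel η fun x => ?_
  obtain ⟨U, σ, hσ, g, hxU, hg, hgen⟩ := exists_gens 𝔛 h𝔛 n x
  have hiff : ∀ (V : (𝔛.X 0).Opens) (z : H9FCoh.Ox h𝔛 V),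
      RngSp.mp η V z = 0 ↔ H9FCoh.pr h𝔛 n V z = 0 := fun V z => by
    have h1 : RngSp.mp ((FSch.levelMor 𝔛 h𝔛.1 n).push.map e) V (RngSp.mp η V z) = H9FCoh.pr h𝔛 n V z :=
      congrArg (fun k => RngSp.mp k V z) h
    rw [← h1]
    exact ⟨fun h0 => by rw [h0, map_zero], fun h0 =>
      ModPull.app_injective ((FSch.levelMor 𝔛 h𝔛.1 n).push.map e) (Opposite.op V) (h0.trans (map_zero _).symm)⟩
  exact ⟨U, σ, hσ, g, hxU, fun j => (hiff U _).2 (hg j), fun V hV z hz => hgen V hV z ((hiff V z).1 hz)⟩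

end Groth.Agent.S13344
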