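import Groth.Statements.S1337
import Groth.Agent.GeomLoci.NearPoint
-- import your own Groth.Agent.* helpers here

set_option autoImplicit false
universe u
open FlatMor

namespace Groth.Agent.S1337

open AlgebraicGeometry CategoryTheory Limits in
/-- Let f be of finite type and let y be a point of the target. Then the function counting the connected
components of the geometric fibres of f is constant on some subset of the closure of y which is open
in that closure and contains y. -/
theorem result {X Y : Scheme.{u}} (f : X ⟶ Y) [LocallyOfFiniteType f] [QuasiCompact f] (y : Y) :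
    ∃ V : Set ↑Y, V ⊆ closure {y} ∧ y ∈ V ∧ IsOpen (Subtype.val ⁻¹' V : Set ↑(closure ({y} : Set ↑Y))) ∧
      ∀ y' ∈ V, MoreMor.nGeomConnComp f y' = MoreMor.nGeomConnComp f y := by
  obtain ⟨V, hV, hyV, h⟩ := GeomLoci.exists_nGeom_eq_nhds f y
  refine ⟨closure {y} ∩ V, Set.inter_subset_left, ⟨subset_closure rfl, hyV⟩, ?_, fun y' hy' => (h y' hy').2⟩
  rw [Set.preimage_inter, show (Subtype.val ⁻¹' closure {y} : Set ↑(closure ({y} : Set ↑Y))) = Set.univ from
    Set.eq_univ_of_forall fun x => x.2, Set.univ_inter]
  exact hV.preimage continuous_subtype_val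

end Groth.Agent.S1337
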