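import Groth.Statements.S13384
import Groth.Agent.Deform.PowTorus
import Groth.Agent.IsogLib.Kernel


set_option autoImplicit false
universe u
open AlgGrpK

namespace Groth.Agent.S13384
open CategoryTheory CategoryTheory.Limits MonoidalCategory CartesianMonoidalCategory MonObj GrpObj AlgebraicGeometry
attribute [local instance] CategoryTheory.Hom.monoid CategoryTheory.Hom.group CategoryTheory.Hom.commMonoid
set_option linter.style.haveILetI false

open CategoryTheory AlgebraicGeometry MonoidalCategory in
/-- If an affine commutative group scheme G of finite type over a field k contains a subtorus T with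
finite quotient G/T (given as a flat surjective homomorphism with kernel T onto a finite k-group),
then G receives an isogeny — a flat surjective homomorphism with finite kernel — from the product of
a finite k-group scheme and a k-torus. (The published statement also gives two further equivalent
conditions, on the reduced identity component over an algebraic closure and on Weil restrictions of
split tori; this row states only this implication.) -/
theorem result (k : Type u) [Field k]
    (G : Over (Spec (CommRingCat.of k))) [GrpObj G] [IsCommMonObj G]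
    [LocallyOfFiniteType G.hom] [QuasiCompact G.hom] [IsAffine G.left]
    (T Q : Over (Spec (CommRingCat.of k))) [GrpObj T] [GrpObj Q] (j : T ⟶ G) (q : G ⟶ Q)
    [IsMonHom j] [IsMonHom q] [Mono j] (hT : Red.IsTorus T) (hker : AlgGrp.IsKernel j q)
    [Flat q.left] [Surjective q.left] [IsFinite Q.hom] :
    ∃ (A T' : Over (Spec (CommRingCat.of k))) (_ : GrpObj A) (_ : GrpObj T') (f : A ⊗ T' ⟶ G) (_ : IsMonHom f),
      IsFinite A.hom ∧ Red.IsTorus T' ∧ SGA7.IsIsogenyOver f ∧ Flat f.left := by
  haveI : IsAffineHom T.hom := (TransLib.multTypeFT_essFree (Deform.isMultTypeFT_of_isTorus hT)).1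
  obtain ⟨n, hn, hQ⟩ := Deform.PowTorus.exists_pow_eq_one Q
  have hmon : ∀ {X Y : Over (Spec (CommRingCat.of k))} [GrpObj X] [GrpObj Y] (f : X ⟶ Y),
      (∀ (Z : Over (Spec (CommRingCat.of k))) (a b : Z ⟶ X), (a * b) ≫ f = a ≫ f * b ≫ f) → IsMonHom f := by
    intro X Y _ _ f h
    constructor
    · have h1 := h (𝟙_ _) 1 1
      rw [_root_.one_mul, left_eq_mul] at h1
      rwa [Hom.one_def, Hom.one_def, toUnit_unique (toUnit _) (𝟙 _), Category.id_comp, Category.id_comp] at h1
    · have h1 := h (X ⊗ X) (fst X X) (snd X X)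
      rw [Hom.mul_def, Hom.mul_def, lift_fst_snd, Category.id_comp] at h1
      rw [h1, ← lift_map, lift_fst_snd, Category.id_comp]
  let pn : G ⟶ G := 𝟙 G ^ n
  haveI : IsMonHom pn := hmon pn fun Z a b => by
    simp only [pn, MonObj.comp_pow, Category.comp_id]
    exact mul_pow a b n
  have hpq : pn ≫ q = 1 := by
    rw [Deform.TorsionOrderScheme.pow_comm q n, hQ, MonObj.comp_one]
  let u : G ⟶ T := hker.lift pn (toUnit _) (by rw [hpq, Hom.one_def])
  have hu : u ≫ j = pn := hker.lift_fst _ _ _
  have hTpow := Deform.Extension.isFinite_pow_multType n hn (Deform.isMultTypeFT_of_isTorus hT)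
  obtain ⟨hTflat, hTsurj⟩ := Deform.PowTorus.flat_surjective_pow hT hn
  have hGfin : IsFinite pn.left :=
    Deform.Extension.isFinite_pow hker (Deform.Extension.covers_of_fpqc q) n hTpow (by
      rw [hQ]
      haveI : IsFinite ((1 : Q ⟶ Q).left ≫ Q.hom) := by rw [Over.w]; infer_instance
      exact IsFinite.of_comp (1 : Q ⟶ Q).left Q.hom)
  let A : Over (Spec (CommRingCat.of k)) := pullback pn η[G]
  let iA : A ⟶ G := pullback.fst pn η[G]
  have hA : IsPullback iA (toUnit A) pn η[G] := by
    rw [toUnit_unique (toUnit A) (pullback.snd pn η[G])]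
    exact IsPullback.of_hasPullback _ _
  haveI : Mono iA := IsogLib.mono_kernel pn hA
  obtain ⟨gA, hiA⟩ := IsogLib.exists_grpObj_kernel pn hA
  have hAn : ∀ {Z : Over (Spec (CommRingCat.of k))} (a : Z ⟶ A), (a ≫ iA) ^ n = 1 := fun a => by
    have h := congrArg (a ≫ ·) (IsogLib.kernel_comp pn hA)
    simpa [pn, MonObj.comp_pow] using h
  let f : A ⊗ T ⟶ G := (fst A T ≫ iA) * (snd A T ≫ j)
  have hf : ∀ {Z : Over (Spec (CommRingCat.of k))} (x : Z ⟶ A ⊗ T),
      x ≫ f = ((x ≫ fst A T) ≫ iA) * ((x ≫ snd A T) ≫ j) := fun x => by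
    simp only [f, MonObj.comp_mul, Category.assoc]
  haveI hfm : IsMonHom f := hmon f fun Z a b => by
    rw [hf, hf, hf, MonObj.mul_comp, MonObj.mul_comp, MonObj.mul_comp, MonObj.mul_comp]
    exact mul_mul_mul_comm _ _ _ _
  have sq : IsPullback f (snd A T) u (𝟙 T ^ n : T ⟶ T) := by
    refine IsPullback.of_isLimit' ⟨?_⟩ (PullbackCone.IsLimit.mk _
      (fun s => lift (hA.lift (s.fst * (s.snd ≫ j)⁻¹) (toUnit _) (by
        have h := congrArg (· ≫ j) s.condition
        simp only [Category.assoc, hu, pn, MonObj.comp_pow, Category.comp_id] at h ⊢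
        rw [mul_pow, inv_pow, h, Deform.Extension.pow_comp_hom j, mul_inv_cancel, Hom.one_def])) s.snd)
      (fun s => ?_) (fun s => lift_snd _ _) fun s m h1 h2 => ?_)
    · rw [← cancel_mono j, Category.assoc, Category.assoc, hu, ← Category.id_comp f, Category.assoc]
      show 𝟙 _ ≫ f ≫ (𝟙 G ^ n) = _
      rw [Category.id_comp, MonObj.comp_pow, Category.comp_id, Deform.TorsionOrderScheme.pow_comm j,
        show f = (fst A T ≫ iA) * (snd A T ≫ j) from rfl, mul_pow, hAn, _root_.one_mul]
      simp [MonObj.comp_pow]
    · rw [hf, lift_fst, lift_snd, hA.lift_fst, inv_mul_cancel_right]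
    · apply CartesianMonoidalCategory.hom_ext
      · rw [lift_fst, ← cancel_mono iA, hA.lift_fst, ← h1, ← h2, hf, mul_inv_cancel_right]
      · rw [lift_snd]
        exact h2
  have sq' := (sq.map (Over.forget _))
  haveI hAfin : IsFinite A.hom := by
    haveI : IsFinite (pullback.snd pn η[G]).left :=
      MorphismProperty.of_isPullback ((IsPullback.of_hasPullback pn η[G]).map (Over.forget _)) hGfin
    haveI : IsFinite (𝟙_ (Over (Spec (CommRingCat.of k)))).hom :=
      inferInstanceAs (IsFinite (𝟙 (Spec (CommRingCat.of k))))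
    rw [← Over.w (pullback.snd pn η[G])]
    infer_instance
  have hffin : IsFinite f.left := MorphismProperty.of_isPullback sq'.flip hTpow
  refine ⟨A, T, gA, inferInstance, f, hfm, hAfin, hT, ⟨MorphismProperty.of_isPullback sq'.flip hTsurj, ?_⟩,
    MorphismProperty.of_isPullback sq'.flip hTflat⟩
  intro N i hN
  haveI : IsFinite (toUnit N).left := MorphismProperty.of_isPullback (hN.map (Over.forget _)) hffin
  haveI : IsFinite (𝟙_ (Over (Spec (CommRingCat.of k)))).hom :=
    inferInstanceAs (IsFinite (𝟙 (Spec (CommRingCat.of k))))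
  rw [← Over.w (toUnit N)]
  infer_instance

end Groth.Agent.S13384
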