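import Groth.Statements.S13390
import Groth.Agent.SegreInv.Avoid

set_option linter.style.haveILetI false
set_option backward.isDefEq.respectTransparency false
set_option backward.isDefEq.respectTransparency.types false


set_option autoImplicit false
universe u
open scoped TensorProduct
open ZeroCyc


namespace Groth.Agent.S13390

/-- Let A be a commutative ring, B a graded A-algebra generated by its degree-one part B_1 with B_1 a
finitely generated A-module, and d ≥ 0. Inside the d-fold tensor power T^d_A(B) let C_k be the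
A-span of the pure tensors b_1 ⊗ ⋯ ⊗ b_d with all b_i ∈ B_k, let C = Σ_k C_k (the A-subalgebra
generated by these pure tensors; Proj C is the d-fold fibre product of X = Proj B over S = Spec A)
and let D = C ∩ TS^d_A(B) be its subring of symmetric tensors, graded by D_k = C_k ∩ TS^d_A(B), so
that Proj D is the symmetric product Sym^d(X/S). Then Proj D is covered in degree one: every t ∈ D_k
with k ≥ 1 has some power t^m, m ≥ 1, in the ideal of D generated by D_1. -/
theorem result {A B : Type u} [CommRing A] [CommRing B] [Algebra A B]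
    (𝒜 : ℕ → Submodule A B) [GradedAlgebra 𝒜] (hgen : Algebra.adjoin A (𝒜 1 : Set B) = ⊤) (hfg : (𝒜 1).FG) (d : ℕ)
    (D : Subalgebra A (⨂[A] _ : Fin d, B))
    (hD : D = Algebra.adjoin A {t | ∃ (k : ℕ) (b : Fin d → B), (∀ i, b i ∈ 𝒜 k) ∧ t = PiTensorProduct.tprod A b}
      ⊓ SymTen.TS A B d)
    (k : ℕ) (hk : 0 < k) (t : ⨂[A] _ : Fin d, B) (htD : t ∈ D)
    (htk : t ∈ Submodule.span A {s | ∃ b : Fin d → B, (∀ i, b i ∈ 𝒜 k) ∧ s = PiTensorProduct.tprod A b}) :
    ∃ m : ℕ, 0 < m ∧ (⟨t, htD⟩ : D) ^ m ∈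
      Ideal.span {x : D | (x : ⨂[A] _ : Fin d, B) ∈
        Submodule.span A {s | ∃ b : Fin d → B, (∀ i, b i ∈ 𝒜 1) ∧ s = PiTensorProduct.tprod A b}} := by
  classical
  refine Groth.Agent.SegreInv.radical_witness hgen hfg D hD k hk t htD htk _ fun P hP hIP m e => ?_
  obtain ⟨α, hα⟩ := Groth.Agent.SegreInv.exists_fibreSum_ne e.w e.j e.hj
  have hmemD := Groth.Agent.SegreInv.fibreSum_mem (𝒜 := 𝒜) e.hx D hD α
  have hmemS : _ ∈ Groth.Agent.SegreInv.segre 𝒜 d := ((le_of_eq hD) hmemD).1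
  have hgenI : (⟨_, hmemD⟩ : D) ∈ P := hIP (Ideal.subset_span (Set.mem_setOf.2
    (Submodule.sum_mem _ fun J _ => Submodule.subset_span ⟨fun i => e.x (J i), fun i => e.hx (J i), rfl⟩)))
  have h0 := e.hP _ hmemS ⟨hmemD, hgenI⟩
  have hsum : ∀ (s : Finset (Fin d → Fin m))
      (h : (∑ J ∈ s, PiTensorProduct.tprod A (fun i => e.x (J i))) ∈ Groth.Agent.SegreInv.segre 𝒜 d),
      e.π ⟨_, h⟩ = e.y * ∑ J ∈ s, ∏ i, e.w i (J i) := fun s h => by
    rw [show (⟨_, h⟩ : Groth.Agent.SegreInv.segre 𝒜 d) = ∑ J ∈ s,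
      ⟨_, Groth.Agent.SegreInv.tprod_mem_segre 𝒜 d fun i => e.hx (J i)⟩ from Subtype.ext (by simp),
      map_sum, Finset.mul_sum]
    exact Finset.sum_congr rfl fun J _ => e.hmon J
  rw [hsum] at h0
  exact mul_ne_zero e.hy hα h0
end Groth.Agent.S13390
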