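import Groth.Statements.S13392
import Groth.Agent.SegreInv.Avoid

set_option linter.style.haveILetI false
set_option backward.isDefEq.respectTransparency false
set_option backward.isDefEq.respectTransparency.types false


set_option autoImplicit false
universe u
open scoped TensorProduct
open ZeroCyc


namespace Groth.Agent.S13392

/-- Let A be a commutative ring, B a graded A-algebra generated by its degree-one part B_1 with B_1 a
finitely generated A-module, and d ≥ 0. Inside the d-fold tensor power T^d_A(B) let C_k be the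
A-span of the pure tensors b_1 ⊗ ⋯ ⊗ b_d with all b_i ∈ B_k, let C = Σ_k C_k (the A-subalgebra
generated by these pure tensors; Proj C is the d-fold fibre product of X = Proj B over S = Spec A)
and let D = C ∩ TS^d_A(B) be its subring of symmetric tensors, graded by D_k = C_k ∩ TS^d_A(B), so
that Proj D is the symmetric product Sym^d(X/S). Provided each residue field of A has d or more
elements, Sym^d(X/S) is covered by the affine opens Sym^d(X_f/S) = D_+(f ⊗ ⋯ ⊗ f) with f ∈ B_1:
every t ∈ D_k with k ≥ 1 has some power t^m, m ≥ 1, in the ideal of D generated by the tensors f ⊗ ⋯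
⊗ f, f ∈ B_1. -/
theorem result {A B : Type u} [CommRing A] [CommRing B] [Algebra A B]
    (𝒜 : ℕ → Submodule A B) [GradedAlgebra 𝒜] (hgen : Algebra.adjoin A (𝒜 1 : Set B) = ⊤) (hfg : (𝒜 1).FG) (d : ℕ)
    (hres : ∀ p : PrimeSpectrum A, (d : Cardinal) ≤ Cardinal.mk p.asIdeal.ResidueField)
    (D : Subalgebra A (⨂[A] _ : Fin d, B))
    (hD : D = Algebra.adjoin A {t | ∃ (k : ℕ) (b : Fin d → B), (∀ i, b i ∈ 𝒜 k) ∧ t = PiTensorProduct.tprod A b}
      ⊓ SymTen.TS A B d)
    (k : ℕ) (hk : 0 < k) (t : ⨂[A] _ : Fin d, B) (htD : t ∈ D)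
    (htk : t ∈ Submodule.span A {s | ∃ b : Fin d → B, (∀ i, b i ∈ 𝒜 k) ∧ s = PiTensorProduct.tprod A b}) :
    ∃ m : ℕ, 0 < m ∧ (⟨t, htD⟩ : D) ^ m ∈
      Ideal.span {x : D | ∃ f : B, f ∈ 𝒜 1 ∧
        (x : ⨂[A] _ : Fin d, B) = PiTensorProduct.tprod A (fun _ : Fin d => f)} := by
  classical
  refine Groth.Agent.SegreInv.radical_witness hgen hfg D hD k hk t htD htk _ fun P hP hIP m e => ?_
  let p : PrimeSpectrum A := ⟨RingHom.ker (algebraMap A e.F), RingHom.ker_isPrime _⟩
  haveI : p.asIdeal.IsPrime := p.isPrime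
  letI : Algebra p.asIdeal.ResidueField e.F :=
    (Ideal.ResidueField.lift p.asIdeal (algebraMap A e.F) le_rfl fun a ha =>
      IsUnit.mem_submonoid_iff _ |>.2 (isUnit_iff_ne_zero.2 ha)).toAlgebra
  haveI : IsScalarTower A p.asIdeal.ResidueField e.F := IsScalarTower.of_algebraMap_eq fun a =>
    (Ideal.ResidueField.lift_algebraMap _ _ _ _ a).symm
  obtain ⟨c, hc⟩ := Groth.Agent.SegreInv.exists_linear e.w e.j e.hj (hres p)
  obtain ⟨b, hb⟩ := IsLocalization.exist_integer_multiples_of_finite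
    (nonZeroDivisors (A ⧸ p.asIdeal)) c
  choose r hr using hb
  choose a ha using fun l => Ideal.Quotient.mk_surjective (r l)
  obtain ⟨b₀, hb₀⟩ := Ideal.Quotient.mk_surjective (b : A ⧸ p.asIdeal)
  let f : MvPolynomial (Fin m) A := ∑ l, MvPolynomial.C (a l) * MvPolynomial.X l
  have hf : f.IsHomogeneous 1 := MvPolynomial.IsHomogeneous.sum _ _ _ fun l _ => MvPolynomial.isHomogeneous_C_mul_X _ _
  have hmemS := Groth.Agent.SegreInv.tprod_mem_segre 𝒜 d
    fun _ => Groth.Agent.SegreInv.eval_form_mem e.hx hf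
  have hmemD : PiTensorProduct.tprod A (fun _ : Fin d => MvPolynomial.aeval e.x f) ∈ D :=
    (le_of_eq hD.symm) ⟨hmemS, (SymTen.tpow A B d _).2⟩
  have h0 := e.hP _ hmemS ⟨hmemD, hIP (Ideal.subset_span
    ⟨_, Groth.Agent.SegreInv.eval_form_mem e.hx hf, rfl⟩)⟩
  rw [e.form f hf] at h0
  refine mul_ne_zero (pow_ne_zero _ e.hy) (Finset.prod_ne_zero_iff.2 fun i _ => ?_) h0
  have hal : ∀ l, algebraMap A e.F (a l) = algebraMap A e.F b₀ * algebraMap p.asIdeal.ResidueField e.F (c l) := by
    intro l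
    rw [IsScalarTower.algebraMap_apply A p.asIdeal.ResidueField e.F,
      IsScalarTower.algebraMap_apply A p.asIdeal.ResidueField e.F, ← map_mul]
    congr 1
    rw [IsScalarTower.algebraMap_apply A (A ⧸ p.asIdeal) p.asIdeal.ResidueField,
      IsScalarTower.algebraMap_apply A (A ⧸ p.asIdeal) p.asIdeal.ResidueField, Ideal.Quotient.algebraMap_eq,
      ha, hb₀, hr, Algebra.smul_def]
  have hb0 : algebraMap A e.F b₀ ≠ 0 := by
    intro h
    have : (b : A ⧸ p.asIdeal) = 0 := by
      rw [← hb₀, Ideal.Quotient.eq_zero_iff_mem]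
      exact h
    exact nonZeroDivisors.coe_ne_zero b this
  simp only [f, map_sum, map_mul, MvPolynomial.aeval_C, MvPolynomial.aeval_X, hal, mul_assoc, ← Finset.mul_sum]
  exact mul_ne_zero hb0 (hc i)
end Groth.Agent.S13392
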