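import Groth.Statements.S13393
import Groth.Agent.H9SymQ.Final

set_option backward.isDefEq.respectTransparency false
set_option backward.isDefEq.respectTransparency.types false
-- import your own Groth.Agent.* helpers here

set_option autoImplicit false
universe u
open CategoryTheory CategoryTheory.Limits AlgebraicGeometry
open ZeroCyc

namespace Groth.Agent.S13393

/-- Scheme case. Let f : X → S be separated and let (Y, q, g) be a d-th symmetric product of X over S: q
: (X/S)^d → Y is a quotient of the d-fold fibre product by the symmetric group permuting the factors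
and g : Y → S its structure map. Let S' → S be a morphism, let the symmetric group act on (X/S)^d
×_S S' through the first factor (this is the d-fold fibre product of X' = X ×_S S' over S' with its
permutation action), let r : (X/S)^d ×_S S' → Y' be a quotient by that action, i.e. a symmetric
product Sym^d(X'/S'), and let m : Y' → Y ×_S S' be the morphism with r ≫ m = q × id. Then m induces
an isomorphism on residue fields at every point of Y' (trivial residue field extensions); if every
positive integer is invertible in Γ(S', O_{S'}) then m is an isomorphism; and if X' → S' is flat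
then m is a closed immersion. (The published statement is for X a separated algebraic space over S,
where the symmetric products always exist as algebraic spaces; this row is the case of schemes in
which both quotients exist as schemes, taken as hypotheses, and leaves the universal-homeomorphism
clause to the general finite-group statement.) -/
theorem result {X S S' Y Y' : Scheme.{u}} (f : X ⟶ S) [IsSeparated f] (d : ℕ)
    (q : SymProd.fibPow f d ⟶ Y) (g : Y ⟶ S) (hq : SymProd.IsSymProd f d q g)
    (gS : S' ⟶ S)
    (ρ' : ULift.{u} (Equiv.Perm (Fin d)) →* Aut (pullback (WidePullback.base fun _ : Fin d => f) gS))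
    (hρ' : ∀ σ, (ρ' σ).hom ≫ pullback.fst (WidePullback.base fun _ : Fin d => f) gS =
        pullback.fst (WidePullback.base fun _ : Fin d => f) gS ≫ SymProd.permHom f d σ.down ∧
      (ρ' σ).hom ≫ pullback.snd (WidePullback.base fun _ : Fin d => f) gS =
        pullback.snd (WidePullback.base fun _ : Fin d => f) gS)
    (r : pullback (WidePullback.base fun _ : Fin d => f) gS ⟶ Y') (hr : SGA1.IsQuot ρ' r)
    (m : Y' ⟶ pullback g gS)
    (hm : r ≫ m = pullback.map (WidePullback.base fun _ : Fin d => f) gS g gS q (𝟙 S') (𝟙 S)
      ((Category.comp_id _).trans hq.over.symm) ((Category.comp_id gS).trans (Category.id_comp gS).symm)) :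
    (∀ y : Y', IsIso (m.residueFieldMap y)) ∧
    ((∀ n : ℕ, 0 < n → IsUnit ((n : ℕ) : Γ(S', ⊤))) → IsIso m) ∧
    (Flat (pullback.snd f gS) → IsClosedImmersion m) := by
  let f' := pullback.snd f gS
  let E := asIso (H9SymQ.jPow f f' (pullback.fst f gS) gS pullback.condition d)
  have hE1 : E.hom ≫ pullback.fst (WidePullback.base fun _ : Fin d => f) gS =
      H9SymQ.powBC f f' (pullback.fst f gS) gS pullback.condition d := pullback.lift_fst _ _ _
  have hE2 : E.hom ≫ pullback.snd (WidePullback.base fun _ : Fin d => f) gS =
      WidePullback.base (fun _ : Fin d => f') := pullback.lift_snd _ _ _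
  have heq : ∀ σ, (SymProd.permActU f' d σ).hom ≫ E.hom = E.hom ≫ (ρ' σ).hom := by
    intro σ
    apply pullback.hom_ext
    · rw [Category.assoc, hE1, Category.assoc, (hρ' σ).1, reassoc_of% hE1]
      exact H9SymQ.permHom_powBC _ _ _ _ _ d σ.down
    · rw [Category.assoc, hE2, Category.assoc, (hρ' σ).2, hE2]
      exact SymProd.permHom_base _ _ _
  have hr' : SGA1.IsQuot (SymProd.permActU f' d) (E.hom ≫ r) :=
    H9SymQ.isQuot_of_iso_source E heq hr
  have hm1 : (E.hom ≫ r) ≫ m ≫ pullback.fst g gS =
      H9SymQ.powBC f f' (pullback.fst f gS) gS pullback.condition d ≫ q := by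
    rw [Category.assoc, reassoc_of% hm, pullback.lift_fst, reassoc_of% hE1]
  have hm2 : (E.hom ≫ r) ≫ m ≫ pullback.snd g gS = WidePullback.base (fun _ : Fin d => f') := by
    rw [Category.assoc, reassoc_of% hm, pullback.lift_snd, Category.comp_id, hE2]
  refine ⟨fun y => H9SymQ.isIso_residueFieldMap f f' (pullback.fst f gS) gS pullback.condition d hq
    hr' m hm1 hm2 y, fun hn => ?_, fun hflat => ?_⟩
  · refine H9SymQ.isIso_of_isQuot hr' (H9SymQ.isQuot_quotBC f d gS hq (Or.inr hn)) m ?_
    apply pullback.hom_ext
    · rw [H9SymQ.quotBC, pullback.lift_fst, Category.assoc, hm1]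
    · rw [H9SymQ.quotBC, pullback.lift_snd, Category.assoc, hm2]
  · haveI : Flat f' := hflat
    haveI := hq.isQuot.affine
    exact H9SymQ.isClosedImmersion_of_spans f f' (pullback.fst f gS) gS pullback.condition d hq hr' m
      hm1 hm2 fun S₀ S₀' Y₀ hS₀ hS₀' hY₀ hle0 hle =>
        H9SymQ.mem_invSpan_powBC f f' (pullback.fst f gS) gS pullback.condition d hS₀ hS₀' hle
          (hY₀.preimage q) (H9SymQ.preimage_stable f d hq) (H9SymQ.preimage_le_baseOpen f d hq hle0)

end Groth.Agent.S13393
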