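import Groth.Statements.S13394
import Groth.Agent.H9SymQ.Final

set_option backward.isDefEq.respectTransparency false
set_option backward.isDefEq.respectTransparency.types false
-- import your own Groth.Agent.* helpers here

set_option autoImplicit false
universe u
open CategoryTheory CategoryTheory.Limits AlgebraicGeometry
open ZeroCyc

namespace Groth.Agent.S13394

/-- Scheme case. Let f : X → S be separated, let (Y, q, g) be a d-th symmetric product of X over S (q :
(X/S)^d → Y a quotient of the d-fold fibre product by the symmetric group, g : Y → S), let i : Z → X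
be a closed immersion and (W, r, g_W) a d-th symmetric product of Z over S, let q((Z/S)^d) ⊆ Y be
the scheme-theoretic image of the composite (Z/S)^d → (X/S)^d → Y, and let m : W → q((Z/S)^d) be the
morphism through which that composite factors via r. Then m induces an isomorphism on residue fields
at every point of W (trivial residue field extensions); if every positive integer is invertible in
Γ(S, O_S) then m is an isomorphism; and if Z → S is flat then m is a closed immersion. (The
published statement is for X a separated algebraic space over S; this row is the case of schemes in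
which both symmetric products exist as schemes, taken as hypotheses, and leaves the
universal-homeomorphism clause to the general finite-group statement.) -/
theorem result {X Z S Y W : Scheme.{u}} (f : X ⟶ S) [IsSeparated f] (d : ℕ)
    (q : SymProd.fibPow f d ⟶ Y) (g : Y ⟶ S) (hq : SymProd.IsSymProd f d q g)
    (i : Z ⟶ X) [IsClosedImmersion i]
    (r : SymProd.fibPow (i ≫ f) d ⟶ W) (gW : W ⟶ S) (hr : SymProd.IsSymProd (i ≫ f) d r gW)
    (m : W ⟶ (SymProd.fibPowMap (i ≫ f) d f i rfl ≫ q).ker.subscheme)
    (hm : r ≫ m ≫ (SymProd.fibPowMap (i ≫ f) d f i rfl ≫ q).ker.subschemeι =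
      SymProd.fibPowMap (i ≫ f) d f i rfl ≫ q) :
    (∀ w : W, IsIso (m.residueFieldMap w)) ∧
    ((∀ n : ℕ, 0 < n → IsUnit ((n : ℕ) : Γ(S, ⊤))) → IsIso m) ∧
    (Flat (i ≫ f) → IsClosedImmersion m) := by
  haveI := hq.isQuot.affine
  let fi := i ≫ f
  let h := SymProd.fibPowMap fi d f i rfl ≫ q
  haveI : IsClosedImmersion (SymProd.fibPowMap fi d f i rfl) :=
    H9SymQ.isClosedImmersion_fibPowMap f fi i rfl
  let ι := h.ker.subschemeι
  let μ := m ≫ ι
  have hμ : r ≫ μ = h := hm
  have hμg : μ ≫ g = gW := H9SymQ.cancel_isQuot hr.isQuot (by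
    rw [reassoc_of% hμ, hr.over, Category.assoc, hq.over, SymProd.fibPowMap_base])
  have w : i ≫ f = fi ≫ 𝟙 S := (Category.comp_id _).symm
  haveI : IsClosedImmersion (pullback.lift i fi w) := by
    haveI : IsClosedImmersion (pullback.lift i fi w ≫ pullback.fst f (𝟙 S)) := by
      rw [pullback.lift_fst]; infer_instance
    exact IsClosedImmersion.of_comp (pullback.lift i fi w) (pullback.fst f (𝟙 S))
  have hpow : H9SymQ.powBC f fi i (𝟙 S) w d = SymProd.fibPowMap fi d f i rfl := by
    apply WidePullback.hom_ext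
    · intro j; rw [H9SymQ.powBC_π, SymProd.fibPowMap_π]
    · rw [H9SymQ.powBC_base, SymProd.fibPowMap_base, Category.comp_id]
  let mt : W ⟶ pullback g (𝟙 S) := pullback.lift μ gW (by rw [hμg, Category.comp_id])
  have hm1 : r ≫ mt ≫ pullback.fst g (𝟙 S) = H9SymQ.powBC f fi i (𝟙 S) w d ≫ q := by
    rw [pullback.lift_fst, hμ, hpow]
  have hm2 : r ≫ mt ≫ pullback.snd g (𝟙 S) = WidePullback.base (fun _ : Fin d => fi) := by
    rw [pullback.lift_snd, hr.over]
  have hmt : mt ≫ pullback.fst g (𝟙 S) = μ := pullback.lift_fst _ _ _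
  have hclosed : (∀ (S₀ : S.Opens) (S₀' : S.Opens) (Y₀ : Y.Opens), IsAffineOpen S₀ → IsAffineOpen S₀' →
      IsAffineOpen Y₀ → Y₀ ≤ g ⁻¹ᵁ S₀ → S₀' ≤ (𝟙 S) ⁻¹ᵁ S₀ →
      H9SymQ.Spans f fi i (𝟙 S) w d (S₀' := S₀') (H9SymQ.preimage_stable f d hq (Y₀ := Y₀))) →
      IsClosedImmersion m ∧ IsClosedImmersion μ := by
    intro hsp
    haveI := H9SymQ.isClosedImmersion_of_spans f fi i (𝟙 S) w d hq hr.isQuot mt hm1 hm2 hsp
    have hμc : IsClosedImmersion μ := by rw [← hmt]; infer_instance
    haveI : IsClosedImmersion (m ≫ ι) := hμc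
    exact ⟨IsClosedImmersion.of_comp m ι, hμc⟩
  refine ⟨fun x => ?_, fun hn => ?_, fun hflat => ?_⟩
  · have h1 := H9SymQ.isIso_residueFieldMap f fi i (𝟙 S) w d hq hr.isQuot mt hm1 hm2 x
    have h2 : IsIso ((mt ≫ pullback.fst g (𝟙 S)).residueFieldMap x) := by
      haveI := h1
      haveI : IsOpenImmersion (pullback.fst g (𝟙 S)) := inferInstance
      rw [Scheme.residueFieldMap_comp]
      infer_instance
    rw [Scheme.Hom.residueFieldMap_congr hmt] at h2
    have h3 : IsIso (μ.residueFieldMap x) := by
      haveI := h2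
      exact IsIso.of_isIso_comp_left
        (Y.residueFieldCongr (show (mt ≫ pullback.fst g (𝟙 S)) x = μ x by rw [hmt])).hom
        (μ.residueFieldMap x)
    refine (ConcreteCategory.isIso_iff_bijective _).2 ⟨(m.residueFieldMap x).hom.injective, fun z => ?_⟩
    obtain ⟨y, hy⟩ := (ConcreteCategory.bijective_of_isIso (μ.residueFieldMap x)).2 z
    refine ⟨ι.residueFieldMap (m x) y, ?_⟩
    rw [← hy]
    have := Scheme.residueFieldMap_comp m ι x
    exact (congr(($this).hom y)).symm
  · obtain ⟨hmc, hμc⟩ := hclosed fun S₀ S₀' Y₀ hS₀ hS₀' hY₀ hle0 hle =>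
      H9SymQ.spans_of_isUnit f fi i (𝟙 S) w d hS₀ hS₀' hle (hY₀.preimage q)
        (H9SymQ.preimage_stable f d hq) (H9SymQ.preimage_le_baseOpen f d hq hle0) hn
    haveI := hμc
    haveI := hmc
    have hker : μ.ker = h.ker := by
      refine Scheme.IdealSheafData.ext (funext fun U => ?_)
      rw [Scheme.Hom.ker_apply, Scheme.Hom.ker_apply]
      ext t
      rw [RingHom.mem_ker, RingHom.mem_ker]
      rw [← hμ, Scheme.Hom.comp_app, CommRingCat.comp_apply]
      exact (map_eq_zero_iff _ (hr.isQuot.injective _)).symm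
    haveI := IsClosedImmersion.isIso_lift ι μ (by rw [Scheme.IdealSheafData.ker_subschemeι, hker])
    have : m = IsClosedImmersion.lift ι μ (by rw [Scheme.IdealSheafData.ker_subschemeι, hker]) := by
      rw [← cancel_mono ι, IsClosedImmersion.lift_fac]
    rw [this]
    infer_instance
  · haveI : Flat fi := hflat
    exact (hclosed fun S₀ S₀' Y₀ hS₀ hS₀' hY₀ hle0 hle =>
      H9SymQ.mem_invSpan_powBC f fi i (𝟙 S) w d hS₀ hS₀' hle (hY₀.preimage q)
        (H9SymQ.preimage_stable f d hq) (H9SymQ.preimage_le_baseOpen f d hq hle0)).1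

end Groth.Agent.S13394
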