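import Groth.Statements.S13403
import Groth.Agent.FontLift.Pres
-- import your own Groth.Agent.* helpers here

set_option autoImplicit false
universe u v w
open Font

namespace Groth.Agent.S13403

/-- Let O be a complete discrete valuation ring with fraction field of characteristic zero and residue
characteristic p, and let A be an O-algebra isomorphic to a quotient O[[x_1, ..., x_m]]/(f_1, ...,
f_m) of a power series ring in m variables by m power series, with A finite and flat over O. Suppose
a is a non-zero element of O such that the module of Kähler differentials of A over O is a free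
module over A/aA (so a kills it). Let S be a finite flat O-algebra and I an ideal of S equipped with
a divided power structure which is topologically nilpotent: the divided-power ideals of I (generated
by the products of divided powers of elements of I of total degree at least n) have zero
intersection over all n. Then (1) two O-algebra maps A → S which agree modulo I are equal, and (2)
an O-algebra map A → S/I lifts to an O-algebra map A → S if and only if it lifts to an O-algebra map
A → S/aI. (The published statement asserts only (2); (1) is the uniqueness its proof establishes.) -/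
theorem result (O : Type u) [CommRing O] [IsDomain O] [IsDiscreteValuationRing O]
    [IsAdicComplete (IsLocalRing.maximalIdeal O) O] [CharZero O] (p : ℕ) [Fact p.Prime]
    (hp : (p : O) ∈ IsLocalRing.maximalIdeal O)
    (m : ℕ) (f : Fin m → MvPowerSeries (Fin m) O) (A : Type v) [CommRing A] [Algebra O A]
    (e : (MvPowerSeries (Fin m) O ⧸ Ideal.span (Set.range f)) ≃ₐ[O] A)
    [Module.Finite O A] [Module.Flat O A] (a : O) (ha : a ≠ 0) (r : ℕ)
    (hΩ : Nonempty (KaehlerDifferential O A ≃ₗ[A] (Fin r → A ⧸ Ideal.span {algebraMap O A a})))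
    (S : Type w) [CommRing S] [Algebra O S] [Module.Finite O S] [Module.Flat O S]
    (I : Ideal S) (hI : DividedPowers I) (htn : W4c1noabschz1.IsDPTopNilpotent hI) :
    Function.Injective (fun χ : A →ₐ[O] S => (Ideal.Quotient.mkₐ O I).comp χ) ∧
      Set.range (fun χ : A →ₐ[O] S => (Ideal.Quotient.mkₐ O I).comp χ) =
        Set.range (fun ψ : A →ₐ[O] (S ⧸ Ideal.span {algebraMap O S a} * I) =>
          (Ideal.Quotient.factorₐ O (Ideal.mul_le_right (I := Ideal.span {algebraMap O S a}) (J := I))).comp ψ) := by
  classical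
  let π : MvPowerSeries (Fin m) O →ₐ[O] A := e.toAlgHom.comp (Ideal.Quotient.mkₐ O _)
  have hπ : Function.Surjective π := e.surjective.comp (Ideal.Quotient.mkₐ_surjective O _)
  have hker : ∀ q, π q = 0 ↔ q ∈ Ideal.span (Set.range f) := fun q => by
    rw [← Ideal.Quotient.eq_zero_iff_mem]
    exact map_eq_zero_iff e e.injective
  have hregA : ∀ x : A, algebraMap O A a * x = 0 → x = 0 := fun x hx =>
    (smul_eq_zero.1 (show a • x = 0 by rwa [Algebra.smul_def])).resolve_left ha
  have hregS : ∀ x : S, algebraMap O S a * x = 0 → x = 0 := fun x hx =>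
    (smul_eq_zero.1 (show a • x = 0 by rwa [Algebra.smul_def])).resolve_left ha
  obtain ⟨eΩ⟩ := hΩ
  have hfA : ∀ j, π (f j) = 0 := fun j => (hker _).2 (Ideal.subset_span ⟨j, rfl⟩)
  have hkill : ∀ ω : KaehlerDifferential O A, algebraMap O A a • ω = 0 := fun ω => eΩ.injective (by
    rw [map_smul, map_zero]
    funext i
    obtain ⟨z, hz⟩ := Ideal.Quotient.mk_surjective (eΩ ω i)
    rw [Pi.smul_apply, ← hz]
    show Ideal.Quotient.mk _ (algebraMap O A a * z) = 0
    rw [map_mul, Ideal.Quotient.eq_zero_iff_mem.2 (Ideal.mem_span_singleton_self _), zero_mul])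
  obtain ⟨D, hD⟩ := FontLift.exists_newton_derivations π hπ f hker a hregA hkill
  obtain ⟨s, y, F, E, c, v, h1, h2, h3, h4, h5, h6⟩ := FontLift.exists_uniqueness_data π hπ f hker a eΩ
  refine ⟨fun χ χ' hh => ?_, Set.Subset.antisymm ?_ ?_⟩
  · have key := FontLift.solution_unique htn hregS y F E h1 h2 h3 h4 h5 c v h6 (χ.comp π) (χ'.comp π)
      (fun j => by simp [hfA j]) (fun j => by simp [hfA j])
      (fun q => Ideal.Quotient.eq.1 (AlgHom.congr_fun hh (π q)).symm)
    exact (AlgHom.ext fun x => by
      obtain ⟨q, rfl⟩ := hπ x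
      exact (AlgHom.congr_fun key q).symm)
  · rintro _ ⟨χ, rfl⟩
    exact ⟨(Ideal.Quotient.mkₐ O _).comp χ, AlgHom.ext fun x => rfl⟩
  · rintro _ ⟨ψ, rfl⟩
    have hIjac : Ideal.span {algebraMap O S a} * I ≤ Ideal.jacobson (⊥ : Ideal S) :=
      Ideal.mul_le_right.trans (FontLift.le_jac_of_topNilpotent O S htn)
    obtain ⟨θ, hθ⟩ := FontLift.exists_lift (Ideal.span {algebraMap O S a} * I) hIjac (ψ.comp π)
    obtain ⟨χ, hχ, hχθ⟩ := FontLift.exists_solution htn D hD θ (fun j => by
      rw [← Ideal.Quotient.eq_zero_iff_mem, hθ]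
      simp [hfA j])
    let χA : (MvPowerSeries (Fin m) O ⧸ Ideal.span (Set.range f)) →ₐ[O] S :=
      Ideal.Quotient.liftₐ _ χ fun q hq => (Submodule.mem_bot S).1 (FontLift.map_mem_of_f
        (θ := χ) (E := ⊥) (fun j => by simp [hχ j]) hq)
    refine ⟨χA.comp e.symm.toAlgHom, AlgHom.ext fun x => ?_⟩
    obtain ⟨q, rfl⟩ := hπ x
    show Ideal.Quotient.mk I (χA (e.symm (e (Ideal.Quotient.mk _ q)))) =
      Ideal.Quotient.factorₐ O (Ideal.mul_le_right (I := Ideal.span {algebraMap O S a}) (J := I)) (ψ (π q))
    rw [AlgEquiv.symm_apply_apply]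
    rw [show ψ (π q) = Ideal.Quotient.mk _ (θ q) from (hθ q).symm]
    exact Ideal.Quotient.eq.2 (hχθ q)


end Groth.Agent.S13403
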