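import Groth.Statements.S13406
import Groth.Agent.FontRam.Final
import Groth.Agent.FontRam.Kill
-- import your own Groth.Agent.* helpers here

set_option autoImplicit false
universe u
open Font

namespace Groth.Agent.S13406

/-- Let K be a finite extension of ℚ_p with ring of integers O (a complete discrete valuation ring of
characteristic zero with finite residue field of characteristic p) and absolute ramification index
e, so that pO = m^e. Let Γ = Spec A be a finite flat commutative group scheme over O killed by p^n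
with n ≥ 1: A is a finite flat commutative and cocommutative Hopf algebra over O whose p^n-th power
endomorphism factors through the counit. Let L ⊆ K̄ be the field generated over K = Frac O by the
coordinates of all K̄-points of Γ (the images of all O-algebra maps A → K̄), O_L the integral
closure of O in L, P its maximal ideal and e_{L/K} the ramification index. Then, writing the
different of O_L over O as P^d: (1) d < e_{L/K} · e · (n + 1/(p − 1)), i.e. v(𝔇_{L/K}) < e (n + 1/(p
− 1)) for the valuation v with v(K^×) = ℤ; and (2) for every K-automorphism σ ≠ 1 of L and every j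
such that σ acts trivially on O_L/P^j one has j + d ≤ e_{L/K} · e · (n + 1/(p − 1)) — this is the
statement that the upper-numbering ramification groups G^{(u)} of Gal(L/K) (numbered so that G^{(u)}
is the group usually written G^{u−1}) are trivial for u > e (n + 1/(p − 1)), rewritten through the
identity u_{L/K} = i_{L/K} + v(𝔇_{L/K}) between the largest u with G^{(u)} ≠ 1, the invariant
i_{L/K} = sup_{σ ≠ 1} min_{x ∈ O_L} v(σx − x) and the valuation of the different. -/
theorem result
    (O : Type u) [CommRing O] [IsDomain O] [IsDiscreteValuationRing O]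
    [IsAdicComplete (IsLocalRing.maximalIdeal O) O] [CharZero O] [Finite (IsLocalRing.ResidueField O)]
    (p : ℕ) [Fact p.Prime] (hp : (p : O) ∈ IsLocalRing.maximalIdeal O)
    (eK : ℕ) (heK : Ideal.span {(p : O)} = IsLocalRing.maximalIdeal O ^ eK)
    (A : Type u) [CommRing A] [HopfAlgebra O A] [Module.Finite O A] [Module.Flat O A] [Coalgebra.IsCocomm O A]
    (n : ℕ) (hn : 1 ≤ n)
    (hkill : SGA3b.powConv O A (p ^ n) = (Algebra.ofId O A).comp (Bialgebra.counitAlgHom O A))
    (L : IntermediateField (FractionRing O) (AlgebraicClosure (FractionRing O)))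
    (hL : L = IntermediateField.adjoin (FractionRing O)
      (⋃ φ : A →ₐ[O] AlgebraicClosure (FractionRing O), Set.range φ))
    [FiniteDimensional (FractionRing O) L] [Algebra.IsSeparable (FractionRing O) L]
    [Module.IsTorsionFree O (integralClosure O L)] (P : Ideal (integralClosure O L)) [P.IsMaximal] :
    ∃ d : ℕ, differentIdeal O (integralClosure O L) = P ^ d ∧
      (d : ℚ) < (P.ramificationIdx O : ℚ) * eK * (n + 1 / ((p : ℚ) - 1)) ∧
      ∀ σ : L ≃ₐ[FractionRing O] L, σ ≠ AlgEquiv.refl → ∀ j : ℕ,
        (∀ x : (integralClosure O L), ∃ y ∈ P ^ j, algebraMap (integralClosure O L) L y = σ (algebraMap (integralClosure O L) L x) - algebraMap (integralClosure O L) L x) →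
          (j : ℚ) + d ≤ (P.ramificationIdx O : ℚ) * eK * (n + 1 / ((p : ℚ) - 1)) := by
  classical
  let Ω := AlgebraicClosure (FractionRing O)
  haveI : FaithfulSMul O Ω := (faithfulSMul_iff_algebraMap_injective O Ω).2 (by
    rw [IsScalarTower.algebraMap_eq O (FractionRing O) Ω]
    exact (algebraMap (FractionRing O) Ω).injective.comp (IsFractionRing.injective O _))
  haveI : CharP (IsLocalRing.ResidueField O) p := by
    have h0 : (p : IsLocalRing.ResidueField O) = 0 := by
      rw [← map_natCast (IsLocalRing.residue O), IsLocalRing.residue_eq_zero_iff]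
      exact hp
    exact (CharP.charP_iff_prime_eq_zero Fact.out).2 h0
  haveI : Module.Free O A := Module.free_of_flat_of_isLocalRing
  haveI : PerfectField (IsLocalRing.ResidueField O) := PerfectField.ofFinite
  have heK1 : eK ≠ 0 := fun h => by
    rw [h, pow_zero, Ideal.one_eq_top, Ideal.span_singleton_eq_top] at heK
    exact hp heK
  have hp1 : (0 : ℚ) < (p : ℚ) - 1 := by
    have : (2 : ℚ) ≤ p := by exact_mod_cast (Fact.out : p.Prime).two_le
    linarith
  have hc : (0 : ℚ) ≤ eK / ((p : ℚ) - 1) := div_nonneg (Nat.cast_nonneg _) hp1.le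
  obtain ⟨d, hd, -, hb⟩ := Groth.Agent.FontRam.bound_of_lift O L p (n * eK) hc
    (Groth.Agent.FontRam.liftProp_of_killed O p eK heK n hkill)
    (fun h => absurd h (mul_ne_zero (by omega) heK1)) hL P
  have hT : (((n * eK : ℕ) : ℚ) + eK / ((p : ℚ) - 1)) = eK * (n + 1 / ((p : ℚ) - 1)) := by
    push_cast
    ring
  have hb' : ∀ σ : L ≃ₐ[FractionRing O] L, σ ≠ AlgEquiv.refl → ∀ j : ℕ,
      (∀ x : (integralClosure O L), ∃ y ∈ P ^ j, algebraMap (integralClosure O L) L y = σ (algebraMap (integralClosure O L) L x) - algebraMap (integralClosure O L) L x) →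
        (j : ℚ) + d ≤ (P.ramificationIdx O : ℚ) * eK * (n + 1 / ((p : ℚ) - 1)) := by
    intro σ hσ j hj
    rw [mul_assoc, ← hT]
    refine hb σ hσ j fun z => ?_
    obtain ⟨y, hy, hyz⟩ := hj z
    have e : Groth.Agent.FontRam.incl O L y =
        Groth.Agent.FontRam.incl O L (Groth.Agent.FontRam.autInt O L σ z) - Groth.Agent.FontRam.incl O L z :=
      congrArg (fun w : L => (w : Ω)) hyz
    rw [← e]
    exact (Groth.Agent.FontRam.mem_pow_iff O L P).1 hy
  refine ⟨d, hd, ?_, hb'⟩
  have he := Groth.Agent.FontRam.ram_pos O L P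
  have hTpos : (0 : ℚ) < ((n * eK : ℕ) : ℚ) + eK / ((p : ℚ) - 1) := by
    have : (0 : ℚ) < ((n * eK : ℕ) : ℚ) := by exact_mod_cast Nat.mul_pos (by omega) (Nat.pos_of_ne_zero heK1)
    linarith
  rcases Nat.eq_zero_or_pos d with hd0 | hdpos
  · rw [hd0, Nat.cast_zero, mul_assoc, ← hT]
    exact mul_pos he hTpos
  haveI := Groth.Agent.FontRam.normal_adjoin_points O L hL
  obtain ⟨θ, π, hπ, -, hx⟩ := Groth.Agent.FontRam.exists_generator O L P
  obtain ⟨d', hd', hdv⟩ := Groth.Agent.FontRam.exists_different_exponent O L P hx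
  have hdd : d' = d := by
    have key : ∀ a b : ℕ, P ^ a = P ^ b → (b : ℚ) ≤ a := fun a b hab => by
      have hπP : π ∈ P := by
        rw [← pow_one P, Groth.Agent.FontRam.mem_pow_iff, Nat.cast_one]
        exact Or.inr hπ.ge
      have h1 := hab ▸ Ideal.pow_mem_pow hπP a
      rw [Groth.Agent.FontRam.mem_pow_iff, map_pow] at h1
      have hπ0 : Groth.Agent.FontRam.incl O L π ≠ 0 := fun h => by
        rw [h, Groth.Agent.FontRam.v_zero] at hπ
        exact (one_div_pos.2 he).ne hπ
      have h2 := Groth.Agent.FontRam.v_le_of_mem O (pow_ne_zero _ hπ0) h1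
      rw [Groth.Agent.FontRam.v_pow O hπ0, hπ, mul_one_div, div_le_div_iff_of_pos_right he] at h2
      exact h2
    exact Nat.le_antisymm (by exact_mod_cast key d d' (hd.symm.trans hd')) (by exact_mod_cast key d' d (hd'.symm.trans hd))
  rw [hdd] at hdv
  obtain ⟨τ, hτ, hτ0⟩ : ∃ τ : L ≃ₐ[FractionRing O] L, τ ≠ 1 ∧ Groth.Agent.FontRam.v O
      (Groth.Agent.FontRam.incl O L (θ + π) - Groth.Agent.FontRam.incl O L (Groth.Agent.FontRam.autInt O L τ (θ + π))) ≠ 0 := by
    by_contra h
    simp only [not_exists, not_and, not_not] at h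
    have h0 : Groth.Agent.FontRam.dSum O L (θ + π) = 0 :=
      Finset.sum_eq_zero fun τ hτ => h τ (Finset.ne_of_mem_erase hτ)
    rw [h0, mul_zero] at hdv
    exact hdpos.ne' (by exact_mod_cast hdv)
  have hne := Groth.Agent.FontRam.sub_ne_zero_of_ne O L hx hτ
  obtain ⟨k, hk⟩ := Groth.Agent.FontRam.exists_v_eq O L P (z := Groth.Agent.FontRam.incl O L (θ + π) -
    Groth.Agent.FontRam.incl O L (Groth.Agent.FontRam.autInt O L τ (θ + π))) (sub_mem (θ + π : integralClosure O L).1.2
    (Groth.Agent.FontRam.autInt O L τ (θ + π) : L).2) hne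
  have hk1 : (1 : ℚ) ≤ k := by
    have h1 := (Groth.Agent.FontRam.isIntegral_iff O hne).1
      ((Groth.Agent.FontRam.isIntegral_incl O L _).sub (Groth.Agent.FontRam.isIntegral_incl O L _))
    rw [hk, le_div_iff₀ he, zero_mul] at h1
    have h2 : (0 : ℤ) ≤ k := by exact_mod_cast h1
    have h3 : k ≠ 0 := fun h => hτ0 (hk.trans (by rw [h, Int.cast_zero, zero_div]))
    have : (1 : ℤ) ≤ k := by omega
    exact_mod_cast this
  have hmem : Groth.Agent.FontRam.incl O L (Groth.Agent.FontRam.autInt O L τ (θ + π)) -
      Groth.Agent.FontRam.incl O L (θ + π) ∈ Groth.Agent.FontRam.G O (((1 : ℕ) : ℚ) / P.ramificationIdx O) := by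
    rw [← neg_sub]
    refine neg_mem (Or.inr ?_)
    refine le_trans ?_ hk.ge
    rw [Nat.cast_one]
    exact div_le_div_of_nonneg_right hk1 he.le
  have h4 := hb τ hτ 1 (Groth.Agent.FontRam.sub_mem_G_of_adjoin O L hx τ hmem)
  rw [hT, ← mul_assoc, Nat.cast_one] at h4
  linarith

end Groth.Agent.S13406
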