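import Groth.Statements.S13408
import Groth.Agent.S13403
import Groth.Agent.FontRam.Final
-- import your own Groth.Agent.* helpers here

set_option autoImplicit false
universe u
open Font

namespace Groth.Agent.S13408

/-- Let O be a complete discrete valuation ring with fraction field K of characteristic zero and perfect
residue field of characteristic p, with pO = m^e, and let A be an O-algebra isomorphic to O[[x_1,
..., x_m]]/(f_1, ..., f_m), finite and flat over O, with a non-zero element a of O, aO = m^v, such
that the Kähler differentials of A over O form a free A/aA-module. Let L ⊆ K̄ be the field generated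
over K by the images of all O-algebra maps A → K̄ (the field of definition of the K̄-points of Y =
Spec A), O_L the integral closure of O in L, P its maximal ideal, e_{L/K} the ramification index and
P^d the different. Then u_{L/K} ≤ v + e/(p − 1) for the ramification invariant u_{L/K} = i_{L/K} +
v(𝔇_{L/K}) (the largest upper-numbering break of Gal(L/K), in the numbering where G^{(u)} is the
group usually written G^{u−1}; here i_{L/K} = sup_{σ ≠ 1} min_{x ∈ O_L} v(σx − x) and v(K^×) = ℤ);
explicitly, for every K-automorphism σ ≠ 1 of L and every j such that σ acts trivially on O_L/P^j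
one has j + d ≤ e_{L/K} · (v + e/(p − 1)). (The published text places this under 'K a complete
discretely valued field of mixed characteristic'; the residue field is taken perfect here, which the
proof uses through O_L = O_K[π_L] (π_L a uniformizer of L).) -/
theorem result
    (O : Type u) [CommRing O] [IsDomain O] [IsDiscreteValuationRing O]
    [IsAdicComplete (IsLocalRing.maximalIdeal O) O] [CharZero O] [PerfectField (IsLocalRing.ResidueField O)]
    (p : ℕ) [Fact p.Prime] [CharP (IsLocalRing.ResidueField O) p]
    (eK : ℕ) (heK : Ideal.span {(p : O)} = IsLocalRing.maximalIdeal O ^ eK)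
    (m : ℕ) (f : Fin m → MvPowerSeries (Fin m) O) (A : Type u) [CommRing A] [Algebra O A]
    (eA : (MvPowerSeries (Fin m) O ⧸ Ideal.span (Set.range f)) ≃ₐ[O] A)
    [Module.Finite O A] [Module.Flat O A] (a : O) (ha : a ≠ 0) (va : ℕ)
    (hva : Ideal.span {a} = IsLocalRing.maximalIdeal O ^ va) (r : ℕ)
    (hΩ : Nonempty (KaehlerDifferential O A ≃ₗ[A] (Fin r → A ⧸ Ideal.span {algebraMap O A a})))
    (L : IntermediateField (FractionRing O) (AlgebraicClosure (FractionRing O)))
    (hL : L = IntermediateField.adjoin (FractionRing O)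
      (⋃ φ : A →ₐ[O] AlgebraicClosure (FractionRing O), Set.range φ))
    [FiniteDimensional (FractionRing O) L] [Algebra.IsSeparable (FractionRing O) L]
    [Module.IsTorsionFree O (integralClosure O L)] (P : Ideal (integralClosure O L)) [P.IsMaximal] :
    ∃ d : ℕ, differentIdeal O (integralClosure O L) = P ^ d ∧
      ∀ σ : L ≃ₐ[FractionRing O] L, σ ≠ AlgEquiv.refl → ∀ j : ℕ,
        (∀ x : (integralClosure O L), ∃ y ∈ P ^ j, algebraMap (integralClosure O L) L y = σ (algebraMap (integralClosure O L) L x) - algebraMap (integralClosure O L) L x) →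
          (j : ℚ) + d ≤ (P.ramificationIdx O : ℚ) * (va + eK / ((p : ℚ) - 1)) := by
  classical
  let Ω := AlgebraicClosure (FractionRing O)
  haveI : FaithfulSMul O Ω := (faithfulSMul_iff_algebraMap_injective O Ω).2 (by
    rw [IsScalarTower.algebraMap_eq O (FractionRing O) Ω]
    exact (algebraMap (FractionRing O) Ω).injective.comp (IsFractionRing.injective O _))
  have hp : (p : O) ∈ IsLocalRing.maximalIdeal O := by
    rw [← IsLocalRing.residue_eq_zero_iff, map_natCast]
    exact CharP.cast_eq_zero _ p
  have hp1 : (0 : ℚ) < (p : ℚ) - 1 := by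
    have : (2 : ℚ) ≤ p := by exact_mod_cast (Fact.out : p.Prime).two_le
    linarith
  have hc : (0 : ℚ) ≤ eK / ((p : ℚ) - 1) := div_nonneg (Nat.cast_nonneg _) hp1.le
  have hav : Groth.Agent.FontRam.v O (algebraMap O Ω a) = va := by
    rw [(Groth.Agent.FontRam.unif_irreducible O).maximalIdeal_eq, Ideal.span_singleton_pow,
      Ideal.span_singleton_eq_span_singleton] at hva
    obtain ⟨u, hu⟩ := hva
    haveI : Algebra.IsIntegral O O := Algebra.IsIntegral.of_finite O O
    have hU := Groth.Agent.FontRam.isU_of_isUnit O (Algebra.ofId O Ω) u.isUnit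
    have ha0 : algebraMap O Ω a ≠ 0 := (map_ne_zero_iff _ (FaithfulSMul.algebraMap_injective O Ω)).2 ha
    have h1 := congrArg (fun x => Groth.Agent.FontRam.v O (algebraMap O Ω x)) hu
    simp only [map_mul, map_pow] at h1
    rw [show algebraMap O Ω ↑u = Algebra.ofId O Ω ↑u from rfl, Groth.Agent.FontRam.v_mul O ha0 hU.1,
      Groth.Agent.FontRam.v_of_isU O hU, add_zero,
      show algebraMap O Ω (Groth.Agent.FontRam.unif O) = Groth.Agent.FontRam.pO O Ω from rfl,
      Groth.Agent.FontRam.v_pow O (Groth.Agent.FontRam.pO_ne_zero O), Groth.Agent.FontRam.v_pO, mul_one] at h1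
    exact h1
  have hlift : Groth.Agent.FontRam.LiftProp O A Ω va (eK / ((p : ℚ) - 1)) := by
    intro E hE t ht
    haveI := Groth.Agent.FontRam.module_finite_ic O E
    haveI := Groth.Agent.FontRam.isTorsionFree_ic O E
    obtain ⟨hI, htn⟩ := Groth.Agent.FontRam.exists_dp_topNilpotent O E p eK heK ht
    obtain ⟨hinj, hrange⟩ := Groth.Agent.S13403.result O p hp m f A eA a ha r hΩ (integralClosure O E)
      (Groth.Agent.FontRam.idealG O E t) hI htn
    refine ⟨fun χ χ' h => hinj (AlgHom.ext fun x => Ideal.Quotient.eq.2 (h x)), fun m' hm' ψ => ?_⟩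
    have hEq : Groth.Agent.FontRam.idealG O E m' =
        Ideal.span {algebraMap O (integralClosure O E) a} * Groth.Agent.FontRam.idealG O E t := by
      rw [Groth.Agent.FontRam.span_mul_idealG O E ha (hc.trans ht.le), hav, hm']
    obtain ⟨χ, hχ⟩ := hrange.symm.subset ⟨(Ideal.quotientEquivAlgOfEq O hEq).toAlgHom.comp ψ, rfl⟩
    refine ⟨χ, fun x z hz => Ideal.Quotient.eq.1 ?_⟩
    refine (AlgHom.congr_fun hχ x).trans ?_
    show Ideal.Quotient.factorₐ O (Ideal.mul_le_right (I := Ideal.span {algebraMap O (integralClosure O E) a})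
      (J := Groth.Agent.FontRam.idealG O E t)) (Ideal.quotientEquivAlgOfEq O hEq (ψ x)) = _
    rw [← hz]
    rfl
  have hunr : va = 0 → Algebra.FormallyUnramified O A := by
    rintro rfl
    rw [pow_zero, Ideal.one_eq_top, Ideal.span_singleton_eq_top] at hva
    have h1 : Ideal.span {algebraMap O A a} = ⊤ := Ideal.span_singleton_eq_top.2 (hva.map _)
    obtain ⟨eΩ⟩ := hΩ
    haveI : Subsingleton (A ⧸ Ideal.span {algebraMap O A a}) := Ideal.Quotient.subsingleton_iff.2 h1
    exact ⟨eΩ.toEquiv.subsingleton⟩
  obtain ⟨d, hd, -, hb⟩ := Groth.Agent.FontRam.bound_of_lift O L p va hc hlift hunr hL P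
  refine ⟨d, hd, fun σ hσ j hj => hb σ hσ j fun z => ?_⟩
  obtain ⟨y, hy, hyz⟩ := hj z
  have e : Groth.Agent.FontRam.incl O L y =
      Groth.Agent.FontRam.incl O L (Groth.Agent.FontRam.autInt O L σ z) - Groth.Agent.FontRam.incl O L z :=
    congrArg (fun w : L => (w : Ω)) hyz
  rw [← e]
  exact (Groth.Agent.FontRam.mem_pow_iff O L P).1 hy

end Groth.Agent.S13408
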