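import Groth.Statements.S1341
import Groth.Agent.CMOpen5.Open
import Groth.Agent.AssLib.FlatFibre
import Groth.Agent.FibDim.Comp
import Groth.Agent.S5752

set_option autoImplicit false
universe u
open FlatMor

namespace Groth.Agent.S1341

open IsLocalRing in
theorem isCM_of_dimZero {R : Type u} [CommRing R] [IsLocalRing R] [IsNoetherianRing R]
    (h : ∀ P : Ideal R, P.IsPrime → P = maximalIdeal R) : LocCoh.IsCohenMacaulayLocalRing R := by
  haveI : Ring.KrullDimLE 0 R := Ring.KrullDimLE.mk₀ fun P hP => h P hP ▸ inferInstance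
  have hd : LocCoh.depth R R = 0 := by
    rw [Groth.Agent.S5752.result]
    obtain ⟨P, hP⟩ := associatedPrimes.nonempty R R
    exact h P hP.isPrime ▸ hP
  refine { supportDim_eq_depth := ?_ }
  rw [Module.supportDim_self_eq_ringKrullDim, hd, ringKrullDimZero_iff_ringKrullDim_eq_zero.1 inferInstance]
  rfl

open AlgebraicGeometry in
theorem transport {X S : Scheme.{u}} {f : X ⟶ S} {x : X} {s : S} (hs : f x = s) (η : ↥(f.fiber s))
    (hη : f.fiberι s η = x) (h : LocCoh.IsCohenMacaulayLocalRing ((f.fiber s).presheaf.stalk η)) :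
    LocCoh.IsCohenMacaulayLocalRing ((f.fiber (f x)).presheaf.stalk (f.asFiber x)) := by
  subst hs
  rwa [show f.asFiber x = η from (f.fiberι _).isEmbedding.injective ((f.fiberι_asFiber x).trans hη.symm)]

open AlgebraicGeometry CategoryTheory Limits in
/-- Let f : X ⟶ S be flat and locally of finite presentation. Then the set of points of X at which f is
Cohen–Macaulay is open in X, and its intersection with every fibre of f is dense in that fibre. -/
theorem result {X S : Scheme.{u}} (f : X ⟶ S) [Flat f] [LocallyOfFinitePresentation f] :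
    IsOpen {x : ↑X | MoreMor.IsCMAt f x} ∧ ∀ s : S, Dense ((f.fiberι s) ⁻¹' {x : ↑X | MoreMor.IsCMAt f x}) := by
  refine ⟨CMOpen5.isOpen_isCMAt f, fun s => ?_⟩
  haveI : IsLocallyNoetherian (f.fiber s) := LocallyOfFiniteType.isLocallyNoetherian (f.fiberToSpecResidueField s)
  rw [dense_iff_inter_open]
  rintro O hO ⟨w, hw⟩
  obtain ⟨η, hη, hmax⟩ := FibDim.exists_maximal_generization w
  refine ⟨η, hη.mem_open hO hw, ?_⟩
  have hCM : LocCoh.IsCohenMacaulayLocalRing ((f.fiber s).presheaf.stalk η) :=
    isCM_of_dimZero ((AssLib.dimZero_iff η).2 hmax)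
  show MoreMor.IsCMAt f (f.fiberι s η)
  refine ⟨Flat.stalkMap f _, ?_⟩
  exact transport (FlatDvr.fiberι_apply_eq f η) η rfl hCM

end Groth.Agent.S1341
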