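import Groth.Statements.S13422
import Groth.Agent.SmoothQS.Basic
import Groth.Agent.Neron6.Over
import Groth.Agent.FlatBirLib.Basic
import Groth.Agent.FlatBirLib.Basic
import Mathlib
-- import your own Groth.Agent.* helpers here

set_option autoImplicit false
set_option backward.isDefEq.respectTransparency false
universe u
open CategoryTheory AlgebraicGeometry
open NeronHD

attribute [-instance] CategoryTheory.catToReflQuiver

namespace Groth.Agent.S13422

/-- Let S be a locally Noetherian scheme over a field of characteristic 0, S₀ ⊆ S a scheme-theoretically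
dense open, and N a smooth S-scheme with the weak Néron mapping property for S₀ ⊆ S: for every étale
S-scheme U, restriction to S₀ is a bijection from S-morphisms U → N onto S₀-morphisms U|S₀ → N|S₀.
Then N has the uniqueness half of the Néron mapping property: for every smooth S-scheme Z,
restriction of S-morphisms Z → N to S₀ is injective. (Case of schemes of a statement about algebraic
spaces.) -/
theorem result {k : Type u} [Field k] [CharZero k] {S : Scheme.{u}} (σ : S ⟶ Spec (CommRingCat.of k)) [IsLocallyNoetherian S] (S₀ : S.Opens) (hS₀ : CInt.IsSchematicallyDense S₀)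
    (N : Over S) [Smooth N.hom]
    (hN : ∀ U : Over S, Etale U.hom → Function.Bijective (fun g : U ⟶ N => (Over.pullback S₀.ι).map g))
    (Z : Over S) [Smooth Z.hom] :
    Function.Injective (fun g : Z ⟶ N => (Over.pullback S₀.ι).map g) := by
  intro g g' h
  change (Over.pullback S₀.ι).map g = (Over.pullback S₀.ι).map g' at h
  let t : Z.left ⟶ Limits.pullback N.hom N.hom :=
    Limits.pullback.lift g.left g'.left ((Over.w g).trans (Over.w g').symm)
  let e : Limits.pullback t (Limits.pullback.diagonal N.hom) ⟶ Z.left := Limits.pullback.fst _ _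
  have he : e ≫ g.left = e ≫ g'.left := by
    have h1 := congrArg (· ≫ Limits.pullback.fst N.hom N.hom)
      (Limits.pullback.condition (f := t) (g := Limits.pullback.diagonal N.hom))
    have h2 := congrArg (· ≫ Limits.pullback.snd N.hom N.hom)
      (Limits.pullback.condition (f := t) (g := Limits.pullback.diagonal N.hom))
    simp [t] at h1 h2
    exact h1.trans h2.symm
  have hfac : ∀ {T : Scheme.{u}} (a : T ⟶ Z.left), a ≫ g.left = a ≫ g'.left →
      ∃ b, b ≫ e = a := fun {T} a ha => by
    refine ⟨Limits.pullback.lift a (a ≫ g.left) ?_, Limits.pullback.lift_fst _ _ _⟩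
    apply Limits.pullback.hom_ext <;> simp [t, ha]
  haveI : IsImmersion e := inferInstance
  haveI : Surjective e := ⟨fun z => by
    refine Groth.Agent.SmoothQS.eq_univ_of_isLocallyClosed Z.hom
      (E := Set.range e) e.isLocallyClosed_range (fun z' hz' => ?_) z
    obtain ⟨U, τ, u, a, hτ, ha, hau⟩ :=
      Groth.Agent.SmoothQS.exists_quasiSection_of_charZero σ Z.hom z' hz'
    let a' : Over.mk τ ⟶ Z := Over.homMk a ha
    have hU : a' ≫ g = a' ≫ g' := (hN (Over.mk τ) hτ).1 (by
      show (Over.pullback S₀.ι).map (a' ≫ g) = (Over.pullback S₀.ι).map (a' ≫ g')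
      rw [Functor.map_comp, Functor.map_comp, h])
    obtain ⟨b, hb⟩ := hfac a (congrArg CommaMorphism.left hU)
    exact ⟨b u, by rw [← Scheme.Hom.comp_apply, hb, hau]⟩⟩
  haveI : IsClosedImmersion e := IsClosedImmersion.of_isPreimmersion _ (by
    rw [Set.range_eq_univ.2 e.surjective]; exact isClosed_univ)
  let O := Z.hom ⁻¹ᵁ S₀
  have hO : O.ι ≫ g.left = O.ι ≫ g'.left := by
    let c : O.toScheme ⟶ Limits.pullback Z.hom S₀.ι :=
      Limits.pullback.lift O.ι (Z.hom ∣_ S₀) (morphismRestrict_ι _ _).symm
    have hc : c ≫ Limits.pullback.fst _ _ = O.ι := Limits.pullback.lift_fst _ _ _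
    rw [← hc, Category.assoc, Category.assoc, ← Groth.Agent.Neron6.pullback_map_fst,
      ← Groth.Agent.Neron6.pullback_map_fst, h]
  obtain ⟨b, hb⟩ := hfac O.ι hO
  haveI : IsLocallyNoetherian Z.left := LocallyOfFiniteType.isLocallyNoetherian Z.hom
  have hker : O.ι.ker = ⊥ := (Groth.Agent.AlgSpDec.SchDenseFacts.iff_ker_eq_bot O).1
    (Groth.Agent.FlatBirLib.preimage_of_flat Z.hom S₀ hS₀)
  haveI : IsIso e := IsClosedImmersion.isIso_iff_ker_eq_bot.2
    (le_bot_iff.1 (hker ▸ hb ▸ Scheme.Hom.le_ker_comp b e))
  exact Over.OverMorphism.ext ((cancel_epi e).1 he)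


end Groth.Agent.S13422
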