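import Groth.Statements.S13424
import Groth.Agent.H23.FinCondSch
import Groth.Agent.QsDescend.Normal
import Mathlib.AlgebraicGeometry.Morphisms.FlatMono


set_option autoImplicit false
universe u
open CategoryTheory AlgebraicGeometry
open GrpSch

namespace Groth.Agent.S13424
set_option linter.style.haveILetI false
open Groth.Agent CategoryTheory.Limits


/-- Let S be a normal, locally Noetherian scheme over a field of characteristic 0. Let p : G → S and q :
H → S be smooth morphisms with sections e_G and e_H, and f : G → H an étale morphism over S with f ∘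
e_G = e_H (the case in view: an étale homomorphism of smooth group schemes and their unit sections).
Call such a pointed S-scheme aligned when the scheme-theoretic image of its section is étale over S.
If H is aligned then G is aligned. (The published statement has an arbitrary locally Noetherian
base; over the reducible curve xy = 0 the étale group scheme obtained from two copies of the base
glued along the complement of one branch maps to the trivial group by an étale homomorphism and is
not aligned, so the base is taken normal here, where the closure of the section is a union of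
connected components of the preimage of the image of e_H. Schemes only.) -/
theorem result {k : Type u} [Field k] [CharZero k] {S : Scheme.{u}} (σ : S ⟶ Spec (CommRingCat.of k)) [IsLocallyNoetherian S] (hS : Pi1.IsNormalScheme S)
    {G H : Scheme.{u}} (p : G ⟶ S) (q : H ⟶ S) [Smooth p] [Smooth q]
    (eG : S ⟶ G) (eH : S ⟶ H) (heG : eG ≫ p = 𝟙 S) (heH : eH ≫ q = 𝟙 S)
    (f : G ⟶ H) [Etale f] (hf : f ≫ q = p) (hfe : eG ≫ f = eH)
    (hH : Etale (eH.ker.subschemeι ≫ q)) :
    Etale (eG.ker.subschemeι ≫ p) := by
  let W := pullback f eH.ker.subschemeι
  let j : W ⟶ G := pullback.fst f eH.ker.subschemeι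
  let w : W ⟶ eH.ker.subscheme := pullback.snd f eH.ker.subschemeι
  haveI := hH
  haveI : Etale w := inferInstanceAs (Etale (pullback.snd f eH.ker.subschemeι))
  haveI : IsClosedImmersion j := inferInstanceAs (IsClosedImmersion (pullback.fst f eH.ker.subschemeι))
  let h : W ⟶ S := w ≫ eH.ker.subschemeι ≫ q
  haveI : Etale h := inferInstanceAs (Etale (w ≫ (eH.ker.subschemeι ≫ q)))
  haveI : IsLocallyNoetherian W := LocallyOfFiniteType.isLocallyNoetherian h
  have hW : Pi1.IsNormalScheme W := QsDescend.isNormalScheme_of_smooth hS h
  -- the section factors through the preimage of the image of the section of `H`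
  let s : S ⟶ W := pullback.lift eG eH.toImage (by rw [hfe]; exact eH.toImage_imageι.symm)
  have hs : s ≫ h = 𝟙 S := by
    show s ≫ w ≫ eH.ker.subschemeι ≫ q = _
    rw [← Category.assoc, pullback.lift_snd, ← Category.assoc, show eH.toImage ≫ eH.ker.subschemeι = eH from eH.toImage_imageι, heH]
  haveI : IsOpenImmersion s := by
    haveI : Etale (s ≫ h) := by rw [hs]; infer_instance
    haveI : Etale s := Etale.of_comp s h
    haveI : Mono s := by
      haveI : Mono (s ≫ h) := by rw [hs]; infer_instance
      exact mono_of_mono s h
    exact IsOpenImmersion.of_flat_of_mono s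
  have hopen : IsOpen (closure (Set.range s)) := by
    refine isOpen_iff_forall_mem_open.mpr fun x hx => ?_
    haveI := (hW x).1
    obtain ⟨V, hxV, hV⟩ := H23.FinCondSch.exists_integral_nhd x
    have hVir : IsPreirreducible (V : Set W) := by
      rw [← Scheme.Opens.range_ι V, ← Set.image_univ]
      haveI := hV
      exact (PreirreducibleSpace.isPreirreducible_univ).image _ V.ι.continuous.continuousOn
    obtain ⟨y, hyV, hys⟩ := mem_closure_iff.mp hx V V.2 hxV
    exact ⟨V, fun z hz => closure_mono Set.inter_subset_right
      (subset_closure_inter_of_isPreirreducible_of_isOpen hVir s.isOpenEmbedding.isOpen_range ⟨y, hyV, hys⟩ hz), V.2, hxV⟩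
  let C : W.Opens := ⟨closure (Set.range s), hopen⟩
  haveI : IsClosedImmersion C.ι := by
    refine .of_isPreimmersion _ ?_
    rw [Scheme.Opens.range_ι]
    exact isClosed_closure
  let t : S ⟶ C := IsOpenImmersion.lift C.ι s (by rw [Scheme.Opens.range_ι]; exact subset_closure)
  have ht : t ≫ C.ι = s := IsOpenImmersion.lift_fac _ _ _
  haveI : IsDominant t := ⟨by
    rw [DenseRange, C.ι.isEmbedding.isInducing.dense_iff]
    intro x
    rw [← Set.range_comp, ← TopCat.coe_comp, ← Scheme.Hom.comp_base, ht]
    exact x.2⟩
  haveI : IsReduced W := by
    haveI := fun x => (hW x).1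
    exact isReduced_of_isReduced_stalk _
  haveI : IsReduced (C : Scheme.{u}) := isReduced_of_isOpenImmersion C.ι
  haveI : IsLocallyNoetherian (C : Scheme.{u}) := LocallyOfFiniteType.isLocallyNoetherian (C.ι ≫ h)
  haveI : IsImmersion t := by
    haveI : IsImmersion (t ≫ C.ι) := by rw [ht]; infer_instance
    exact IsImmersion.of_comp t C.ι
  haveI : IsSchemeTheoreticallyDominant t := .of_isDominant _
  let c : (C : Scheme.{u}) ⟶ G := C.ι ≫ j
  have hker : eG.ker = c.ker := by
    rw [show eG = t ≫ c by rw [← Category.assoc, ht]; exact (pullback.lift_fst _ _ _).symm, Scheme.Hom.ker_comp,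
      t.ker_eq_bot, Scheme.IdealSheafData.map_bot]
  rw [hker]
  haveI : Etale (c ≫ p) := by
    have : c ≫ p = C.ι ≫ h := by
      rw [← hf]
      simp only [c, j, h, w, Category.assoc, pullback.condition_assoc]
    rw [this]; infer_instance
  have : c.ker.subschemeι ≫ p = inv c.toImage ≫ c ≫ p := by
    rw [IsIso.eq_inv_comp, ← Category.assoc]
    exact congrArg (· ≫ p) c.toImage_imageι
  rw [this]; infer_instance

end Groth.Agent.S13424
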