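import Groth.Statements.S1343
import Groth.Agent.CMOpen5.Affine
import Groth.Agent.FibDim.AffineSpaceFibre
import Groth.Agent.FibDim.RelDim
import Groth.Agent.FibDim.LocDim
import Groth.Agent.AlgSpPts.Sep

set_option autoImplicit false
set_option linter.style.haveILetI false
universe u
open FlatMor

namespace Groth.Agent.S1343

open AlgebraicGeometry CategoryTheory in
/-- A flat locally quasi-finite cover of a neighbourhood by affine `n`-space forces the fibre dimension to be `n`. -/
theorem fibreDimAt_eq {X S : AlgebraicGeometry.Scheme.{u}} (f : X ⟶ S) [AlgebraicGeometry.LocallyOfFiniteType f]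
    (U : X.Opens) (n : ℕ) (g : (U : AlgebraicGeometry.Scheme.{u}) ⟶ 𝔸(ULift.{u} (Fin n); S))
    (hg : g ≫ (𝔸(ULift.{u} (Fin n); S) ↘ S) = U.ι ≫ f) [AlgebraicGeometry.LocallyQuasiFinite g]
    (z : (U : AlgebraicGeometry.Scheme.{u})) (hflat : (g.stalkMap z).hom.Flat) :
    FlatMor.fibreDimAt f (U.ι z) = (n : WithBot ℕ∞) := by
  haveI : AlgebraicGeometry.LocallyOfFiniteType (g ≫ (𝔸(ULift.{u} (Fin n); S) ↘ S)) := by rw [hg]; infer_instance
  haveI : AlgebraicGeometry.LocallyOfFiniteType g :=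
    AlgebraicGeometry.locallyOfFiniteType_of_comp g (𝔸(ULift.{u} (Fin n); S) ↘ S)
  rw [← FibDim.fibreDimAt_openImmersion_comp U.ι f z, ← hg, FibDim.fibreDimAt_comp_of_flat g _ z hflat]
  obtain ⟨w, -, -, -, he⟩ := FibDim.exists_fibMax_generization g z
  obtain ⟨t, -, -, ht, he'⟩ := FibDim.exists_fibMax_generization (𝔸(ULift.{u} (Fin n); S) ↘ S) (g z)
  rw [he, he', FibDim.rd_eq_zero_of_quasiFinite g w, FibDim.rd_affineSpace_fibMax n ht]
  simp

open AlgebraicGeometry CategoryTheory Limits in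
/-- (1) ⇔ (3): let f be flat and locally of finite presentation and let x be a point whose fibre has
local dimension d at x. Then f is Cohen–Macaulay at x if and only if some open neighbourhood of x
admits a flat, locally quasi-finite morphism to affine d-space over the base, compatible with the
structure morphisms. -/
theorem result {X S : Scheme.{u}} (f : X ⟶ S) [Flat f] [LocallyOfFinitePresentation f]
    (x : X) (d : ℕ) (hd : FlatMor.fibreDimAt f x = d) :
    MoreMor.IsCMAt f x ↔ ∃ (U : X.Opens) (g : (U : Scheme.{u}) ⟶ 𝔸(ULift.{u} (Fin d); S)), x ∈ U ∧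
      g ≫ (𝔸(ULift.{u} (Fin d); S) ↘ S) = U.ι ≫ f ∧ Flat g ∧ LocallyQuasiFinite g := by
  rw [CMOpen5.isCMAt_iff]
  constructor
  · rintro ⟨n, U, hx, g, hg, hqf, hflat⟩
    have hn := fibreDimAt_eq f U n g hg ⟨x, hx⟩ hflat
    rw [show U.ι ⟨x, hx⟩ = x from rfl, hd] at hn
    obtain rfl : d = n := by exact_mod_cast hn
    haveI : LocallyOfFinitePresentation (g ≫ (𝔸(ULift.{u} (Fin d); S) ↘ S)) := by rw [hg]; infer_instance
    haveI : LocallyOfFinitePresentation g :=
      AlgSpPts.locallyOfFinitePresentation_of_comp g (𝔸(ULift.{u} (Fin d); S) ↘ S)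
    let W : (U : Scheme.{u}).Opens := ⟨{z | (g.stalkMap z).hom.Flat}, FlatLocus.isOpen_flat_locus g⟩
    let V : X.Opens := U.ι ''ᵁ W
    have hVU : V ≤ U := U.ι_image_le W
    refine ⟨V, X.homOfLE hVU ≫ g, ⟨⟨x, hx⟩, hflat, rfl⟩, ?_, ?_, inferInstance⟩
    · rw [Category.assoc, hg, Scheme.homOfLE_ι_assoc]
    · rw [Flat.iff_flat_stalkMap]
      intro z
      rw [Scheme.Hom.stalkMap_comp]
      refine (FlatLocus.flat_comp_isIso _ _).2 ?_
      obtain ⟨w, hw, hwz⟩ := z.2
      have : X.homOfLE hVU z = w := Subtype.ext (by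
        rw [← Scheme.Opens.ι_apply, ← Scheme.Hom.comp_apply, Scheme.homOfLE_ι]
        exact hwz.symm)
      have key : ∀ w', w' = w → (g.stalkMap w').hom.Flat := by rintro _ rfl; exact hw
      exact key _ this
  · rintro ⟨U, g, hx, hg, hfl, hqf⟩
    exact ⟨d, U, hx, g, hg, hqf, Flat.stalkMap g _⟩

end Groth.Agent.S1343
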