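import Groth.Statements.S13430
import Mathlib
-- import your own Groth.Agent.* helpers here

set_option autoImplicit false
universe u
open CategoryTheory MonoidalCategory CartesianMonoidalCategory MonObj GrpObj AlgebraicGeometry
open NeronHD

attribute [-instance] CategoryTheory.catToReflQuiver

namespace Groth.Agent.S13430

/-- The implication ⇐: let S be a locally Noetherian scheme over a field of characteristic 0 and S₀ ⊆ S
a scheme-theoretically dense open. Let G be a smooth group scheme over S and N a smooth S-scheme,
both with the Néron mapping property for S₀ ⊆ S (restriction to S₀ of S-morphisms from smooth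
S-schemes is bijective), and let a be an action of G on N over S whose translation map G ×_S N → N
×_S N, (g, x) ↦ (g·x, x), restricts to an isomorphism over S₀, so that N|S₀ is a pseudo-torsor under
G|S₀ and a is the unique extension of that action. If N → S is surjective, then the translation map
is an isomorphism: N is a pseudo-torsor under G over all of S (and then a torsor for the étale
topology, N → S being smooth and surjective). (Case of schemes of a statement about group algebraic
spaces; the converse 'torsor ⇒ surjective' presumes local triviality.) -/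
theorem result {k : Type u} [Field k] [CharZero k] {S : Scheme.{u}} (σ : S ⟶ Spec (CommRingCat.of k)) [IsLocallyNoetherian S] (S₀ : S.Opens) (hS₀ : CInt.IsSchematicallyDense S₀)
    (G : Over S) [GrpObj G] [Smooth G.hom]
    (hG : ∀ Z : Over S, Smooth Z.hom → Function.Bijective (fun g : Z ⟶ G => (Over.pullback S₀.ι).map g))
    (N : Over S) [Smooth N.hom] [Surjective N.hom]
    (hN : ∀ Z : Over S, Smooth Z.hom → Function.Bijective (fun g : Z ⟶ N => (Over.pullback S₀.ι).map g))
    (a : AlgGrp.Action G N)
    (h0 : IsIso ((Over.pullback S₀.ι).map (lift a.act (snd G N)))) :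
    NonAbH1.IsPseudoTorsorSch a := by
  haveI : Smooth (G ⊗ N).hom := inferInstanceAs (Smooth (Limits.pullback.fst G.hom N.hom ≫ G.hom))
  haveI : Smooth (N ⊗ N).hom := inferInstanceAs (Smooth (Limits.pullback.fst N.hom N.hom ≫ N.hom))
  let F := Over.pullback S₀.ι
  let t : G ⊗ N ⟶ N ⊗ N := lift a.act (snd G N)
  haveI : IsIso (F.map t) := h0
  obtain ⟨g, hg⟩ := (hG (N ⊗ N) inferInstance).2 (inv (F.map t) ≫ F.map (fst G N))
  let r : N ⊗ N ⟶ G ⊗ N := lift g (snd N N)
  have hg' : F.map g = inv (F.map t) ≫ F.map (fst G N) := hg
  have htg : t ≫ g = fst G N := (hG (G ⊗ N) inferInstance).1 (show F.map (t ≫ g) = F.map (fst G N) by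
    rw [F.map_comp, hg', IsIso.hom_inv_id_assoc])
  have htr : t ≫ r = 𝟙 _ := by
    apply CartesianMonoidalCategory.hom_ext
    · simp only [r, Category.assoc, lift_fst, htg, Category.id_comp]
    · simp only [r, t, Category.assoc, lift_snd, Category.id_comp]
  have hFr : F.map r = inv (F.map t) := by
    rw [← cancel_epi (F.map t), ← F.map_comp, htr, IsIso.hom_inv_id, F.map_id]
  have hFrt : F.map (r ≫ t) = 𝟙 _ := by rw [F.map_comp, hFr, IsIso.inv_hom_id]
  have hrt : r ≫ t = 𝟙 _ := by
    apply CartesianMonoidalCategory.hom_ext
    · refine (hN (N ⊗ N) inferInstance).1 (show F.map ((r ≫ t) ≫ fst N N) = F.map (𝟙 _ ≫ fst N N) from ?_)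
      rw [F.map_comp, hFrt, F.map_comp, F.map_id]
    · refine (hN (N ⊗ N) inferInstance).1 (show F.map ((r ≫ t) ≫ snd N N) = F.map (𝟙 _ ≫ snd N N) from ?_)
      rw [F.map_comp, hFrt, F.map_comp, F.map_id]
  exact ⟨⟨r, htr, hrt⟩⟩


end Groth.Agent.S13430
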