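import Groth.Statements.S1344
import Groth.Agent.CMRelDim.LocalDim
-- import your own Groth.Agent.* helpers here

set_option autoImplicit false
set_option linter.style.haveILetI false
universe u
open FlatMor

namespace Groth.Agent.S1344

open AlgebraicGeometry CategoryTheory Limits in
/-- Let f be locally of finite type between locally Noetherian schemes and Cohen–Macaulay at every
point. Then for every point x of the source with image y, the local dimension of the source at x
equals the local dimension of the target at y plus the local dimension at x of the fibre over y. -/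
theorem result {X Y : Scheme.{u}} (f : X ⟶ Y) [IsLocallyNoetherian X] [IsLocallyNoetherian Y] [LocallyOfFiniteType f]
    (hf : ∀ x : X, MoreMor.IsCMAt f x) (x : X) :
    FlatMor.localDim ↑X x = FlatMor.localDim ↑Y (f x) + FlatMor.fibreDimAt f x := by
  haveI : Flat f := Flat.iff_flat_stalkMap f |>.2 fun x => (hf x).1
  haveI : LocallyOfFinitePresentation f := LocallyOfFinitePresentation.iff_locallyOfFiniteType.2 ‹_›
  obtain ⟨U, hxU, hU⟩ := CMRelDim.exists_nhd_fibreDimAt_eq f x (hf x).2
  obtain ⟨w, -, -, he, -⟩ := FibDim.exists_fibreDimAt_eq f x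
  obtain ⟨d, hd⟩ : ∃ d : ℕ, FlatMor.fibreDimAt f x = (d : WithBot ℕ∞) :=
    ⟨FibDim.rd f w, he.trans (by norm_cast)⟩
  haveI : IsLocallyNoetherian (U : Scheme.{u}) := LocallyOfFiniteType.isLocallyNoetherian U.ι
  have hsum : ∀ u : (U : Scheme.{u}), FibDim.rd (U.ι ≫ f) u + DimFormula.fb (U.ι ≫ f) u = d := fun u => by
    have h := FibDim.fibreDimAt_openImmersion_comp U.ι f u
    rw [DimFormula.fibreDimAt_eq_add, hU (U.ι u) u.2, hd] at h
    exact_mod_cast h
  have h := CMRelDim.localDim_eq_add_of_sum (U.ι ≫ f) hsum ⟨x, hxU⟩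
  replace h := (CMRelDim.localDim_opens U ⟨x, hxU⟩).symm.trans h
  rw [hd]
  exact h

end Groth.Agent.S1344
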