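import Groth.Statements.S13458
import Groth.Agent.Synt29.OmegaMaps
-- import your own Groth.Agent.* helpers here

set_option autoImplicit false
set_option linter.style.haveILetI false
set_option backward.isDefEq.respectTransparency false
set_option backward.isDefEq.respectTransparency.types false
universe u
open CategoryTheory CategoryTheory.Limits AlgebraicGeometry TopologicalSpace
open SmVar

namespace Groth.Agent.S13458

open CategoryTheory AlgebraicGeometry in
theorem bijective_residue {X : Scheme.{u}} (η : X) (h : IsField (X.presheaf.stalk η)) :
    Function.Bijective (X.residue η).hom := by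
  refine ⟨(injective_iff_map_eq_zero _).2 fun a ha => ?_, X.residue_surjective η⟩
  by_contra h0
  obtain ⟨b, hb⟩ := h.mul_inv_cancel h0
  have h1 : (X.residue η).hom (a * b) = 1 := by rw [hb, map_one]
  rw [map_mul, ha, zero_mul] at h1
  exact zero_ne_one h1

open CategoryTheory AlgebraicGeometry in
theorem formallyEtale_specializes {Y : Scheme.{u}} [IsIntegral Y] (y η : Y) (hη : η = genericPoint Y)
    (h : η ⤳ y) :
    (Y.presheaf.stalkSpecializes h).hom.FormallySmooth ∧ IsField (Y.presheaf.stalk η) := by
  subst hη
  refine ⟨?_, Semifield.toIsField Y.functionField⟩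
  have : IsFractionRing (Y.presheaf.stalk y) Y.functionField := inferInstance
  have hs : Algebra.FormallySmooth (Y.presheaf.stalk y) Y.functionField :=
    Algebra.FormallySmooth.of_isLocalization (nonZeroDivisors (Y.presheaf.stalk y))
  exact RingHom.formallySmooth_algebraMap.2 hs

/-- Injectivity of `T ⊗_A Ω_{A/R} → Ω_{T/R}` from formal smoothness at the fraction field. -/
theorem mapBaseChange_injective (R A T L : Type u) [CommRing R] [CommRing A] [CommRing T] [CommRing L]
    [Algebra R A] [Algebra R T] [Algebra A T] [IsScalarTower R A T]
    [Algebra R L] [Algebra A L] [Algebra T L] [IsScalarTower R A L] [IsScalarTower R T L]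
    [IsScalarTower A T L] [Module.Flat A (Ω[A⁄R])] [Algebra.FormallySmooth A L]
    (hTL : Function.Injective (algebraMap T L)) :
    Function.Injective (KaehlerDifferential.mapBaseChange R A T) := by
  let i : TensorProduct A T (Ω[A⁄R]) →ₗ[A] TensorProduct A L (Ω[A⁄R]) :=
    (IsScalarTower.toAlgHom A T L).toLinearMap.rTensor _
  have hi : Function.Injective i :=
    Module.Flat.rTensor_preserves_injective_linearMap _ hTL
  have hcomm : ∀ z, KaehlerDifferential.mapBaseChange R A L (i z) =
      KaehlerDifferential.map R R T L (KaehlerDifferential.mapBaseChange R A T z) := by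
    intro z
    induction z using TensorProduct.induction_on with
    | zero => simp only [map_zero]
    | add a b ha hb => simp only [map_add, ha, hb]
    | tmul t w =>
      refine (KaehlerDifferential.mapBaseChange_tmul R A L (algebraMap T L t) w).trans ?_
      rw [KaehlerDifferential.mapBaseChange_tmul, map_smul, algebraMap_smul]
      congr 1
      have := LinearMap.congr_fun (LinearMap.ext_on (KaehlerDifferential.span_range_derivation R A)
        (f := KaehlerDifferential.map R R A L)
        (g := ((KaehlerDifferential.map R R T L).restrictScalars A).comp (KaehlerDifferential.map R R A T))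
        (by
          rintro _ ⟨b, rfl⟩
          simp [KaehlerDifferential.map_D, ← IsScalarTower.algebraMap_apply])) w
      exact this
  have hL : Function.Injective (KaehlerDifferential.mapBaseChange R A L) := by
    refine (injective_iff_map_eq_zero _).mpr fun z hz => ?_
    obtain ⟨w, rfl⟩ := (Algebra.H1Cotangent.exact_δ_mapBaseChange R A L z).mp hz
    rw [Subsingleton.elim w 0, map_zero]
  intro a b hab
  exact hi (hL (by rw [hcomm, hcomm, hab]))


/-- Let k be a field, X and Y integral schemes each smooth over Spec k and of the same dimension, and φ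
: X → Y a morphism over k which is dominant and separable: the residue field of X at its generic
point is a separable algebraic extension of the residue field of Y at the image point (the function
field of Y, as φ is dominant). Let Ω_Y and Ω_X be sheaves of differentials of Y and of X over k,
given as universal derivations, and c : φ^*Ω_Y → Ω_X the compatible map (it sends the pullback of
d_Y s to d_X(φ^♯ s)). Then c is a monomorphism of O_X-modules, so the relative cotangent sequence of
φ is exact on the left as well. (The injectivity is what is stated here; the identification of the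
cokernel with Ω_{X/Y} is the general cotangent sequence.) -/
theorem result (k : Type u) [Field k] {X Y : Scheme.{u}}
    (pX : X ⟶ Spec (CommRingCat.of k)) (pY : Y ⟶ Spec (CommRingCat.of k)) (φ : X ⟶ Y) (w : φ ≫ pY = pX)
    [IsIntegral X] [IsIntegral Y] [Smooth pX] [Smooth pY]
    (hdim : topologicalKrullDim X = topologicalKrullDim Y) (hdom : DenseRange φ.base)
    (hsep : letI := (φ.residueFieldMap (genericPoint X)).hom.toAlgebra
      Algebra.IsSeparable (Y.residueField (φ.base (genericPoint X))) (X.residueField (genericPoint X)))
    (ΩY : Y.Modules) (dY : OmegaSh.Der pY ΩY) (hY : OmegaSh.IsUniversal dY)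
    (ΩX : X.Modules) (dX : OmegaSh.Der pX ΩX) (hX : OmegaSh.IsUniversal dX)
    (c : (Scheme.Modules.pullback φ).obj ΩY ⟶ ΩX) (hc : OmegaSh.IsDiffCompat φ dY dX c) :
    Mono c := by
  subst w
  have hgen : φ.base (genericPoint X) = genericPoint Y := by
    have h := (genericPoint_spec X).image φ.continuous
    rw [Set.image_univ, hdom.closure_range] at h
    exact h.eq (genericPoint_spec Y)
  rw [Groth.Agent.Synt29.OmegaStalk.mono_iff_stalk]
  intro x
  obtain ⟨i₁, i₂, hsq⟩ := Groth.Agent.Synt29.OmegaStalk.exists_stalk_square hY hX c hc x
    (pY.stalkMap (φ x)) rfl (pY.stalkMap (φ x) ≫ φ.stalkMap x) (Scheme.Hom.stalkMap_comp φ pY x).symm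
  refine (Groth.Agent.Synt29.OmegaStalk.stalk_iff i₁ i₂
    (hsq _ (Groth.Agent.Synt29.OmegaStalk.baseMap_unit _ _))).1.2 ?_
  -- the specialisation to the generic point
  have hx : genericPoint X ⤳ x := genericPoint_specializes x
  have hy : φ (genericPoint X) ⤳ φ x := hx.map φ.continuous
  obtain ⟨hYs, hYf⟩ := formallyEtale_specializes (φ x) (φ (genericPoint X)) hgen hy
  obtain ⟨-, hXf⟩ := formallyEtale_specializes x (genericPoint X) rfl hx
  have hη : (φ.stalkMap (genericPoint X)).hom.FormallySmooth := by
    have hres : (φ.residueFieldMap (genericPoint X)).hom.FormallySmooth := by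
      letI := (φ.residueFieldMap (genericPoint X)).hom.toAlgebra
      haveI := hsep
      haveI : Algebra.FormallyEtale (Y.residueField (φ.base (genericPoint X))) (X.residueField (genericPoint X)) :=
        Algebra.FormallyEtale.of_isSeparable _ _
      exact RingHom.formallySmooth_algebraMap.2 inferInstance
    let eX := RingEquiv.ofBijective _ (bijective_residue (genericPoint X) hXf)
    have e : (φ.stalkMap (genericPoint X)).hom =
        eX.symm.toRingHom.comp ((φ.residueFieldMap (genericPoint X)).hom.comp (Y.residue _).hom) := by
      refine RingHom.ext fun a => eX.injective ?_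
      refine Eq.trans ?_ (eX.apply_symm_apply _).symm
      exact (congr($(Scheme.residue_residueFieldMap φ (genericPoint X)) a)).symm
    rw [e]
    exact ((RingHom.FormallySmooth.of_bijective (bijective_residue _ hYf)).comp hres).comp
      (RingHom.FormallySmooth.of_bijective eX.symm.bijective)
  have hψ : (φ.stalkMap x ≫ X.presheaf.stalkSpecializes hx).hom.FormallySmooth := by
    rw [← Scheme.Hom.stalkSpecializes_stalkMap]
    exact hYs.comp hη
  have hA : (pY.stalkMap (φ x)).hom.FormallySmooth := by
    rw [← Scheme.Hom.mem_smoothLocus, Scheme.Hom.smoothLocus_eq_top]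
    trivial
  let R := (Spec (CommRingCat.of k)).presheaf.stalk (pY (φ x))
  let A := Y.presheaf.stalk (φ x)
  let T := X.presheaf.stalk x
  let L := X.presheaf.stalk (genericPoint X)
  letI : Algebra R A := (pY.stalkMap (φ x)).hom.toAlgebra
  letI : Algebra A T := (φ.stalkMap x).hom.toAlgebra
  letI : Algebra R T := (pY.stalkMap (φ x) ≫ φ.stalkMap x).hom.toAlgebra
  letI : Algebra T L := (X.presheaf.stalkSpecializes hx).hom.toAlgebra
  letI : Algebra A L := (φ.stalkMap x ≫ X.presheaf.stalkSpecializes hx).hom.toAlgebra
  letI : Algebra R L :=
    (pY.stalkMap (φ x) ≫ φ.stalkMap x ≫ X.presheaf.stalkSpecializes hx).hom.toAlgebra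
  haveI : IsScalarTower R A T := IsScalarTower.of_algebraMap_eq' rfl
  haveI : IsScalarTower R A L := IsScalarTower.of_algebraMap_eq' rfl
  haveI : IsScalarTower R T L := IsScalarTower.of_algebraMap_eq' rfl
  haveI : IsScalarTower A T L := IsScalarTower.of_algebraMap_eq' rfl
  haveI : Algebra.FormallySmooth R A := hA
  haveI : Algebra.FormallySmooth A L := hψ
  have hTL : Function.Injective (algebraMap T L) := IsFractionRing.injective T X.functionField
  exact mapBaseChange_injective R A T L hTL

end Groth.Agent.S13458
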