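import Groth.Statements.S13459
import Groth.Agent.SurfRR.Curve
import Groth.Agent.SurfStab.LMEuler
import Groth.Agent.AmpleVan.LiftFibre

set_option autoImplicit false
set_option linter.style.haveILetI false
set_option backward.isDefEq.respectTransparency false
set_option backward.isDefEq.respectTransparency.types false
universe u
open CategoryTheory CategoryTheory.Limits AlgebraicGeometry
open Surf

namespace Groth.Agent.S13459

open Groth.Agent
open scoped Groth.Agent.H23.PicMul

/-- Let k be a field and S an integral surface (dimension two) which is smooth over k and projective (a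
closed immersion into some P^n_k over k). Let i : C → S be the closed immersion of an integral curve
(dimension one) all of whose local rings are regular, with ideal sheaf I ⊆ O_S, and let L be an
invertible O_S-module with an inverse L' (L ⊗ L' ≅ O_S). Then the intersection number of O_S(C) with
L, namely the alternating sum χ(O_S) − χ(I) − χ(L') + χ(I ⊗ L') formed with the inverses I = O_S(−C)
and L' (packaged as FGA.intNum), equals the degree of the restriction of L to C, the degree of a
module M on C being χ(M) − χ(O_C). -/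
theorem result (k : Type u) [Field k] (S : Scheme.{u}) [S.Over (Spec (CommRingCat.of k))]
    [IsIntegral S] (hdim : topologicalKrullDim S = 2) [Smooth (S ↘ (Spec (CommRingCat.of k)))]
    (hproj : ∃ (n : ℕ) (ι : S ⟶ CohB1.ProjSpace n k), IsClosedImmersion ι ∧ ι ≫ CohB1.ProjSpace.toSpec n k = (S ↘ (Spec (CommRingCat.of k))))
    (C : Scheme.{u}) (i : C ⟶ S) [IsClosedImmersion i] [IsIntegral C] (hC : topologicalKrullDim C = 1)
    (hCreg : ∀ c : C, IsRegularLocalRing (C.presheaf.stalk c))
    (L L' : S.Modules) (hL : PicF.IsInvertible L) (hLL' : Nonempty (CohB1.tensorMod L L' ≅ Coh.structureModule S)) :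
    letI : C.Over (Spec (CommRingCat.of k)) := ⟨i ≫ (S ↘ (Spec (CommRingCat.of k)))⟩
    FGA.intNum k S 2 ![ClSub.idealMod i.ker, L'] (Coh.structureModule S) =
      Curv2.deg k C ((Scheme.Modules.pullback i).obj L) 1 := by
  obtain ⟨N, ι, hι, hι'⟩ := hproj
  haveI := hι
  haveI : IsProper (S ↘ Spec (CommRingCat.of k)) := ExtShX.isProper_over (ι : S ⟶ PnVan.P k N) hι'
  letI : C.Over (Spec (CommRingCat.of k)) := ⟨i ≫ (S ↘ Spec (CommRingCat.of k))⟩
  have hI := SurfStab.isInvertible_ideal (k := k) hdim hC i
  obtain ⟨e⟩ := hLL'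
  obtain ⟨D, hD, ⟨δ⟩⟩ := H23.PicInv.exists_inverse hL
  have hcl : PicF.cl L * PicF.cl L' = 1 := Big.cl_mul_eq_one ⟨e⟩
  have hDcl : PicF.cl L * PicF.cl D = 1 := Big.cl_mul_eq_one ⟨δ⟩
  obtain ⟨φ⟩ : Nonempty (D ≅ L') := H23.PicMul.cl_eq_iff.1 (left_inv_eq_right_inv (by rw [mul_comm]; exact hDcl) hcl)
  exact SurfRR.intNum_ideal_inverse hdim.le hC i rfl hI hL (H23.PicMul.isInvertible_of_iso φ hD) hcl

end Groth.Agent.S13459
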