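import Groth.Statements.S13469
import Groth.Agent.S12382
import Groth.Agent.Deform.CharLift
import Groth.Agent.GrpSchLib.AffineHopf
import Groth.Agent.S14691
import Mathlib.AlgebraicGeometry.Morphisms.ClosedImmersion
import Mathlib.GroupTheory.FiniteAbelian.Basic
import Mathlib.GroupTheory.Finiteness


set_option autoImplicit false
universe u
open GmDual

namespace Groth.Agent.S13469
open CategoryTheory AlgebraicGeometry MonoidalCategory CartesianMonoidalCategory MonObj GrpObj Opposite
open Groth.Agent.GrpSchLib.AffineHopf TensorProduct WithConv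

set_option linter.style.haveILetI false

theorem surjective_of_isClosedImmersion {k : Type u} [Field k] {A B : Type u} [CommRing A] [CommRing B] [Algebra k A] [Algebra k B]
    (f₀ : A →ₐ[k] B) (h : IsClosedImmersion (spMap f₀).left) : Function.Surjective f₀ := by
  haveI : IsAffine (sp k A).left := inferInstanceAs (IsAffine (Spec (CommRingCat.of A)))
  obtain ⟨-, h2⟩ := IsClosedImmersion.isAffine_surjective_of_isAffine (spMap f₀).left
  let f : CommRingCat.of A ⟶ CommRingCat.of B := CommRingCat.ofHom f₀.toRingHom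
  intro x
  obtain ⟨y, hy⟩ := h2 ((Scheme.ΓSpecIso (CommRingCat.of B)).inv x)
  refine ⟨(Scheme.ΓSpecIso (CommRingCat.of A)).hom y, ?_⟩
  have e := congr($(Scheme.ΓSpecIso_naturality f) y)
  refine e.symm.trans ?_
  show (Scheme.ΓSpecIso (CommRingCat.of B)).hom ((spMap f₀).left.appTop y) = x
  rw [hy, ← CommRingCat.comp_apply, Iso.inv_hom_id, CommRingCat.id_apply]

theorem finiteIndex_of_affine (k : Type u) [Field k] {H G : Over (Spec (CommRingCat.of k))} [GrpObj H] [IsCommMonObj H]
    [GrpObj G] [IsCommMonObj G] [IsAffine H.left] [LocallyOfFiniteType H.hom] [IsAffine G.left] (i : H ⟶ G) [IsMonHom i]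
    [IsClosedImmersion i.left] :
    (Preadditive.leftComp (CGrpSh2.Gm Scheme.fppfPrecoverage (Spec (CommRingCat.of k)))
      (CGrpSh.ptsMap Scheme.fppfPrecoverage i)).range.FiniteIndex := by
  obtain ⟨A, _, _, ⟨eG⟩⟩ := exists_hopf G
  obtain ⟨B, _, _, ⟨eH⟩⟩ := exists_hopf H
  obtain ⟨eM⟩ := nonempty_DS_iso k ℤ
  haveI : IsIso eG.hom.hom.hom := ((Grp.forget _).mapIso eG).isIso_hom
  haveI : IsIso eG.inv.hom.hom := ((Grp.forget _).mapIso eG).isIso_inv
  haveI : IsIso eH.hom.hom.hom := ((Grp.forget _).mapIso eH).isIso_hom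
  haveI : IsIso eM.inv.hom.hom := ((Grp.forget _).mapIso eM).isIso_inv
  haveI : Coalgebra.IsCocomm k A := S14691.isCocomm_of_iso eG.hom.hom.hom
  haveI : Coalgebra.IsCocomm k B := S14691.isCocomm_of_iso eH.hom.hom.hom
  haveI : IsIso eH.hom.hom.hom.left := ((Over.forget _).mapIso ((Grp.forget _).mapIso eH)).isIso_hom
  haveI : IsIso eG.inv.hom.hom.left := ((Over.forget _).mapIso ((Grp.forget _).mapIso eG)).isIso_inv
  obtain ⟨π, hπ⟩ := exists_bialgHom (eH.hom.hom.hom ≫ i ≫ eG.inv.hom.hom)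
  have hsurj : Function.Surjective π := surjective_of_isClosedImmersion (π : A →ₐ[k] B) (by
    rw [← hπ, Over.comp_left, Over.comp_left]
    infer_instance)
  haveI : Algebra.FiniteType k B := by
    have h : LocallyOfFiniteType (sp k B).hom := by
      rw [← Over.w eH.hom.hom.hom]
      infer_instance
    exact RingHom.finiteType_algebraMap.mp ((HasRingHomProperty.Spec_iff (P := @LocallyOfFiniteType)).mp h)
  let t : MonoidAlgebra k (Multiplicative ℤ) := MonoidAlgebra.single (Multiplicative.ofAdd 1) 1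
  have ht : IsGroupLikeElem k t := MonoidAlgebra.isGroupLikeElem_single_one _
  let pr : (sp k B ⟶ Red.Gm (Spec (CommRingCat.of k))) → B := fun φ =>
    (Spec.mapMulEquiv.symm (φ ≫ eM.inv.hom.hom)).ofConv t
  have pr_mul : ∀ φ ψ, pr (φ * ψ) = pr φ * pr ψ := fun φ ψ => by
    show (Spec.mapMulEquiv.symm _).ofConv t = _
    rw [MonObj.mul_comp, map_mul]
    refine (AlgHom.convMul_apply _ _ t).trans ?_
    rw [ht.comul_eq_tmul_self, Algebra.TensorProduct.lift_tmul]
  have pr_gl : ∀ (φ : sp k B ⟶ Red.Gm (Spec (CommRingCat.of k))) [IsMonHom φ], IsGroupLikeElem k (pr φ) := by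
    intro φ _
    obtain ⟨γ, hγ⟩ := exists_bialgHom (φ ≫ eM.inv.hom.hom)
    have : pr φ = γ t := by
      show (Spec.mapMulEquiv.symm (φ ≫ eM.inv.hom.hom)).ofConv t = _
      rw [hγ, spMap_eq_mapMulEquiv, MulEquiv.symm_apply_apply]
      rfl
    rw [this]
    exact ht.map γ
  have pr_inj : Function.Injective pr := fun φ ψ h => by
    rw [← cancel_mono eM.inv.hom.hom]
    refine Spec.mapMulEquiv.symm.injective (WithConv.ofConv_injective ?_)
    exact MonoidAlgebra.algHom_ext' (MonoidHom.ext_mint h) (by ext)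
  let ev : (CGrpSh.pts Scheme.fppfPrecoverage H ⟶ CGrpSh2.Gm Scheme.fppfPrecoverage (Spec (CommRingCat.of k))) →
      (sp k B ⟶ Red.Gm (Spec (CommRingCat.of k))) := fun g =>
    ((g.hom.app (op (sp k B))) (ULift.up (Additive.ofMul eH.hom.hom.hom))).down.toMul
  have ev_pts : ∀ (φ : H ⟶ Red.Gm (Spec (CommRingCat.of k))) [IsMonHom φ],
      ev (CGrpSh.ptsMap Scheme.fppfPrecoverage φ) = eH.hom.hom.hom ≫ φ := fun φ _ => rfl
  have ev_mon : ∀ g, IsMonHom (ev g) := fun g => by
    obtain ⟨φ, hφ, rfl⟩ := S12382.exists_ptsMap (K := Scheme.fppfPrecoverage)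
      (g : CGrpSh.pts _ H ⟶ CGrpSh.pts _ (Red.Gm _))
    haveI := hφ
    show IsMonHom (eH.hom.hom.hom ≫ φ)
    infer_instance
  have ev_add : ∀ g g', ev (g + g') = ev g * ev g' := fun g g' => rfl
  have ev_inj : Function.Injective ev := fun g g' h => by
    obtain ⟨φ, hφ, rfl⟩ := S12382.exists_ptsMap (K := Scheme.fppfPrecoverage)
      (g : CGrpSh.pts _ H ⟶ CGrpSh.pts _ (Red.Gm _))
    obtain ⟨φ', hφ', rfl⟩ := S12382.exists_ptsMap (K := Scheme.fppfPrecoverage)
      (g' : CGrpSh.pts _ H ⟶ CGrpSh.pts _ (Red.Gm _))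
    haveI := hφ
    haveI := hφ'
    have e : φ = φ' := (cancel_epi eH.hom.hom.hom).mp h
    subst e
    rfl
  let T : (CGrpSh.pts Scheme.fppfPrecoverage H ⟶ CGrpSh2.Gm Scheme.fppfPrecoverage (Spec (CommRingCat.of k))) →+
      Additive (GroupLike k B) :=
    AddMonoidHom.mk' (fun g => Additive.ofMul ⟨pr (ev g), @pr_gl _ (ev_mon g)⟩) fun g g' =>
      congrArg Additive.ofMul (GroupLike.ext (show pr (ev (g + g')) = _ by rw [ev_add, pr_mul]; rfl))
  have hT : Function.Injective T := fun g g' h =>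
    ev_inj (pr_inj (congrArg (fun x : Additive (GroupLike k B) => x.toMul.val) h))
  haveI : Group.FG (GroupLike k B) := Deform.CharLift.groupFG_groupLike
  haveI : AddGroup.FG (CGrpSh.pts Scheme.fppfPrecoverage H ⟶ CGrpSh2.Gm Scheme.fppfPrecoverage (Spec (CommRingCat.of k))) := by
    haveI : Module.Finite ℤ (Additive (GroupLike k B)) := Module.Finite.iff_addGroup_fg.mpr inferInstance
    haveI := Module.Finite.of_injective T.toIntLinearMap hT
    exact Module.Finite.iff_addGroup_fg.mp inferInstance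
  set R := (Preadditive.leftComp (CGrpSh2.Gm Scheme.fppfPrecoverage (Spec (CommRingCat.of k)))
      (CGrpSh.ptsMap Scheme.fppfPrecoverage i)).range
  have htor : ∀ g, ∃ d : ℕ, 0 < d ∧ d • g ∈ R := by
    intro g
    obtain ⟨d, a, hd, ha, hab⟩ := Deform.CharLift.exists_pow_groupLike_lift π hsurj (T g).toMul.isGroupLikeElem_val
    let δ : MonoidAlgebra k (Multiplicative ℤ) →ₐc[k] A :=
      (MonoidAlgebra.liftGroupLikeBialgHom (R := k) (A := A)).comp (MonoidAlgebra.mapDomainBialgHom k (zpowersHom (GroupLike k A) ⟨a, ha⟩))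
    have hδ : δ t = a := by simp [δ, t]
    haveI : IsMonHom (spMap (δ : MonoidAlgebra k (Multiplicative ℤ) →ₐ[k] A)) := isMonHom_spMap δ
    let ψ := eG.inv.hom.hom ≫ spMap (δ : MonoidAlgebra k (Multiplicative ℤ) →ₐ[k] A) ≫ eM.hom.hom.hom
    refine ⟨d, hd, CGrpSh.ptsMap Scheme.fppfPrecoverage ψ, hT ?_⟩
    rw [map_nsmul]
    refine congrArg Additive.ofMul (GroupLike.ext ?_)
    show pr (eH.hom.hom.hom ≫ i ≫ ψ) = _
    have h1 : eH.hom.hom.hom ≫ i ≫ ψ =
        spMap ((π : A →ₐ[k] B).comp (δ : MonoidAlgebra k (Multiplicative ℤ) →ₐ[k] A)) ≫ eM.hom.hom.hom := by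
      rw [← spMap_comp, ← hπ]
      simp only [ψ, Category.assoc]
    have h2 : eM.hom.hom.hom ≫ eM.inv.hom.hom = 𝟙 _ := congrArg (fun f => f.hom.hom) eM.hom_inv_id
    show (Spec.mapMulEquiv.symm ((eH.hom.hom.hom ≫ i ≫ ψ) ≫ eM.inv.hom.hom)).ofConv t = _
    rw [h1, Category.assoc, h2, Category.comp_id, spMap_eq_mapMulEquiv, MulEquiv.symm_apply_apply]
    show π (δ t) = ((T g).toMul ^ d : GroupLike k B).val
    rw [hδ, hab, GroupLike.val_pow]
  haveI : AddGroup.FG (_ ⧸ R) := QuotientAddGroup.fg R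
  haveI : Finite (_ ⧸ R) := AddCommGroup.finite_of_fg_torsion _ fun x => by
    obtain ⟨g, rfl⟩ := QuotientAddGroup.mk_surjective x
    obtain ⟨d, hd, hdg⟩ := htor g
    exact isOfFinAddOrder_iff_nsmul_eq_zero.mpr ⟨d, hd, (QuotientAddGroup.eq_zero_iff _).mpr hdg⟩
  exact AddSubgroup.finiteIndex_of_finite_quotient

open CategoryTheory AlgebraicGeometry MonObj in
/-- Let k be a field and i : H → G a homomorphism of affine commutative k-group schemes of finite type
which is a closed immersion. Then the restriction map Ĝ(k) → Ĥ(k) on characters defined over k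
(morphisms of abelian sheaves on the big fppf site of Spec k from the sheaf of points to the
multiplicative group, restricted along i) has finite cokernel: its image is a subgroup of finite
index. -/
theorem result (k : Type u) [Field k]
    (H G : Over (Spec (CommRingCat.of k))) [GrpObj H] [IsCommMonObj H] [GrpObj G] [IsCommMonObj G]
    [IsAffine H.left] [LocallyOfFiniteType H.hom] [IsAffine G.left] [LocallyOfFiniteType G.hom]
    (i : H ⟶ G) [IsMonHom i] [IsClosedImmersion i.left] :
    (Preadditive.leftComp (CGrpSh2.Gm Scheme.fppfPrecoverage (Spec (CommRingCat.of k)))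
      (CGrpSh.ptsMap Scheme.fppfPrecoverage i)).range.FiniteIndex := by
  exact finiteIndex_of_affine k i

end Groth.Agent.S13469
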