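import Groth.Statements.S13470
import Groth.Agent.S12382
import Groth.Agent.Deform.CharLift
import Groth.Agent.GrpSchLib.AffineHopf
import Groth.Agent.S14691
import Mathlib.AlgebraicGeometry.Morphisms.ClosedImmersion


set_option autoImplicit false
universe u
open GmDual

namespace Groth.Agent.S13470
open CategoryTheory AlgebraicGeometry MonoidalCategory CartesianMonoidalCategory MonObj GrpObj Groth.Agent.GrpSchLib.AffineHopf TensorProduct

set_option linter.style.haveILetI false

theorem exists_ext (k : Type u) [Field k] [IsAlgClosed k] {H G : Over (Spec (CommRingCat.of k))} [GrpObj H] [IsCommMonObj H] [GrpObj G]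
    [IsCommMonObj G] [IsAffine H.left] [IsAffine G.left] (i : H ⟶ G) [IsMonHom i] [IsClosedImmersion i.left]
    (φ : H ⟶ Red.Gm (Spec (CommRingCat.of k))) [IsMonHom φ] :
    ∃ (ψ : G ⟶ Red.Gm (Spec (CommRingCat.of k))) (_ : IsMonHom ψ), i ≫ ψ = φ := by
  obtain ⟨A, _, _, ⟨eG⟩⟩ := exists_hopf G
  obtain ⟨B, _, _, ⟨eH⟩⟩ := exists_hopf H
  obtain ⟨eM⟩ := nonempty_DS_iso k ℤ
  haveI : IsIso eG.hom.hom.hom := ((Grp.forget _).mapIso eG).isIso_hom
  haveI : IsIso eH.hom.hom.hom := ((Grp.forget _).mapIso eH).isIso_hom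
  haveI : Coalgebra.IsCocomm k A := S14691.isCocomm_of_iso eG.hom.hom.hom
  haveI : Coalgebra.IsCocomm k B := S14691.isCocomm_of_iso eH.hom.hom.hom
  obtain ⟨π, hπ⟩ := exists_bialgHom (eH.hom.hom.hom ≫ i ≫ eG.inv.hom.hom)
  obtain ⟨γ, hγ⟩ := exists_bialgHom (eH.hom.hom.hom ≫ φ ≫ eM.inv.hom.hom)
  haveI : IsIso eG.inv.hom.hom := ((Grp.forget _).mapIso eG).isIso_inv
  haveI : IsIso eH.hom.hom.hom.left := ((Over.forget _).mapIso ((Grp.forget _).mapIso eH)).isIso_hom
  haveI : IsIso eG.inv.hom.hom.left := ((Over.forget _).mapIso ((Grp.forget _).mapIso eG)).isIso_inv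
  have hsurj : Function.Surjective π := by
    have h : IsClosedImmersion (spMap (π : A →ₐ[k] B)).left := by
      rw [← hπ, Over.comp_left, Over.comp_left]
      infer_instance
    haveI : IsAffine (sp k A).left := inferInstanceAs (IsAffine (Spec (CommRingCat.of A)))
    obtain ⟨-, h2⟩ := IsClosedImmersion.isAffine_surjective_of_isAffine (spMap (π : A →ₐ[k] B)).left
    let f : CommRingCat.of A ⟶ CommRingCat.of B := CommRingCat.ofHom (π : A →ₐ[k] B).toRingHom
    intro x
    obtain ⟨y, hy⟩ := h2 ((Scheme.ΓSpecIso (CommRingCat.of B)).inv x)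
    refine ⟨(Scheme.ΓSpecIso (CommRingCat.of A)).hom y, ?_⟩
    have e := congr($(Scheme.ΓSpecIso_naturality f) y)
    refine e.symm.trans ?_
    show (Scheme.ΓSpecIso (CommRingCat.of B)).hom ((spMap (π : A →ₐ[k] B)).left.appTop y) = x
    rw [hy, ← CommRingCat.comp_apply, Iso.inv_hom_id, CommRingCat.id_apply]
  let t : MonoidAlgebra k (Multiplicative ℤ) := MonoidAlgebra.single (Multiplicative.ofAdd 1) 1
  obtain ⟨a, ha, hab⟩ := Deform.CharLift.exists_groupLike_lift π hsurj
    ((MonoidAlgebra.isGroupLikeElem_single_one (R := k) (A := k) (Multiplicative.ofAdd (1 : ℤ))).map γ)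
  let δ : MonoidAlgebra k (Multiplicative ℤ) →ₐc[k] A :=
    (MonoidAlgebra.liftGroupLikeBialgHom (R := k) (A := A)).comp (MonoidAlgebra.mapDomainBialgHom k (zpowersHom (GroupLike k A) ⟨a, ha⟩))
  have hδ : δ t = a := by simp [δ, t]
  have he : (π : A →ₐ[k] B).comp (δ : MonoidAlgebra k (Multiplicative ℤ) →ₐ[k] A) = γ := by
    refine MonoidAlgebra.algHom_ext' (MonoidHom.ext_mint ?_) ?_
    · show π (δ t) = γ t
      rw [hδ, hab]
    · ext
  haveI : IsMonHom (spMap (δ : MonoidAlgebra k (Multiplicative ℤ) →ₐ[k] A)) := isMonHom_spMap δ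
  refine ⟨eG.inv.hom.hom ≫ spMap (δ : MonoidAlgebra k (Multiplicative ℤ) →ₐ[k] A) ≫ eM.hom.hom.hom, inferInstance, ?_⟩
  rw [← cancel_epi eH.hom.hom.hom, ← Category.assoc, ← Category.assoc, Category.assoc (eH.hom.hom.hom) i, hπ,
    ← Category.assoc, spMap_comp, he, ← hγ, Category.assoc, Category.assoc]
  have h : eM.inv.hom.hom ≫ eM.hom.hom.hom = 𝟙 _ := congrArg (fun f => f.hom.hom) eM.inv_hom_id
  rw [h, Category.comp_id]

open CategoryTheory AlgebraicGeometry MonObj in
/-- Let k be an algebraically closed field and i : H → G a homomorphism of affine commutative k-group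
schemes of finite type which is a closed immersion. Then the restriction map Ĝ(k) → Ĥ(k) on
characters defined over k (morphisms of abelian sheaves on the big fppf site of Spec k from the
sheaf of points to the multiplicative group, restricted along i) is surjective. -/
theorem result (k : Type u) [Field k] [IsAlgClosed k]
    (H G : Over (Spec (CommRingCat.of k))) [GrpObj H] [IsCommMonObj H] [GrpObj G] [IsCommMonObj G]
    [IsAffine H.left] [LocallyOfFiniteType H.hom] [IsAffine G.left] [LocallyOfFiniteType G.hom]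
    (i : H ⟶ G) [IsMonHom i] [IsClosedImmersion i.left] :
    Function.Surjective (Preadditive.leftComp (CGrpSh2.Gm Scheme.fppfPrecoverage (Spec (CommRingCat.of k)))
      (CGrpSh.ptsMap Scheme.fppfPrecoverage i)) := by
  intro g
  obtain ⟨φ, hφ, rfl⟩ := S12382.exists_ptsMap (K := Scheme.fppfPrecoverage) (g : CGrpSh.pts _ H ⟶ CGrpSh.pts _ (Red.Gm _))
  haveI := hφ
  obtain ⟨ψ, hψm, hψ⟩ := exists_ext k i φ
  haveI := hψm
  refine ⟨CGrpSh.ptsMap Scheme.fppfPrecoverage ψ, ?_⟩
  show CGrpSh.ptsMap _ i ≫ CGrpSh.ptsMap _ ψ = _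
  rw [← CGrpSh.ptsMap_comp]
  subst hψ
  rfl

end Groth.Agent.S13470
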