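import Groth.Statements.S13499
import Groth.Agent.H9Transfer.Torsion
import Mathlib.CategoryTheory.Sites.Abelian
import Mathlib.Algebra.Category.Grp.EpiMono
import Mathlib.Algebra.Homology.ShortComplex.Ab
import Mathlib.Algebra.Homology.ShortComplex.ExactFunctor

set_option linter.style.haveILetI false
set_option backward.isDefEq.respectTransparency false
set_option backward.isDefEq.respectTransparency.types false


set_option autoImplicit false
universe u
open CategoryTheory CategoryTheory.Limits AlgebraicGeometry Opposite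
open GalCoh

namespace Groth.Agent.S13499

/-- For a field k and i ≥ 2 there is an isomorphism between H^i(Spec k, Z) and H^{i-1}(Spec k, Q/Z),
étale cohomology of Spec k with coefficients in the constant sheaves Z and Q/Z (existence of an
additive isomorphism only; the published statement is for an arbitrary profinite group with trivial
action and identifies the two groups through the boundary map of 0 → Z → Q → Q/Z → 0). -/
theorem result (k : Type u) [Field k] (i : ℕ) (hi : 2 ≤ i) :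
    Nonempty (EtCoh.H (Spec (CommRingCat.of k)) (EtCoh.const (Spec (CommRingCat.of k)) ℤ) i ≃+
      EtCoh.H (Spec (CommRingCat.of k))
        (EtCoh.const (Spec (CommRingCat.of k)) (ℚ ⧸ AddSubgroup.zmultiples (1 : ℚ))) (i - 1)) := by
  let X := Spec (CommRingCat.of k)
  let C := constantSheaf X.smallEtaleTopology AddCommGrpCat.{u + 1}
  haveI : PreservesFiniteLimits C := comp_preservesFiniteLimits _ _
  haveI : C.IsLeftAdjoint := (EtCore.constAdj X).isLeftAdjoint
  haveI : PreservesFiniteColimits C := inferInstance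
  let Z := AddSubgroup.zmultiples (1 : ℚ)
  let f : AddCommGrpCat.of (ULift.{u + 1} ℤ) ⟶ AddCommGrpCat.of (ULift.{u + 1} ℚ) :=
    AddCommGrpCat.ofHom ((AddEquiv.ulift.symm : ℚ ≃+ ULift.{u + 1} ℚ).toAddMonoidHom.comp
      ((Int.castAddHom ℚ).comp (AddEquiv.ulift : ULift.{u + 1} ℤ ≃+ ℤ).toAddMonoidHom))
  let g : AddCommGrpCat.of (ULift.{u + 1} ℚ) ⟶ AddCommGrpCat.of (ULift.{u + 1} (ℚ ⧸ Z)) :=
    AddCommGrpCat.ofHom ((AddEquiv.ulift.symm : (ℚ ⧸ Z) ≃+ ULift.{u + 1} (ℚ ⧸ Z)).toAddMonoidHom.comp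
      ((QuotientAddGroup.mk' Z).comp (AddEquiv.ulift : ULift.{u + 1} ℚ ≃+ ℚ).toAddMonoidHom))
  have hfg : f ≫ g = 0 := by
    ext ⟨z⟩
    exact (QuotientAddGroup.eq_zero_iff _).2 ⟨z, show z • (1 : ℚ) = (z : ℚ) by simp⟩
  let S : ShortComplex AddCommGrpCat.{u + 1} := ShortComplex.mk f g hfg
  have hS : S.ShortExact := by
    refine ShortComplex.ShortExact.mk' ?_ ((AddCommGrpCat.mono_iff_injective _).2 ?_)
      ((AddCommGrpCat.epi_iff_surjective _).2 ?_)
    · rw [ShortComplex.ab_exact_iff]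
      rintro ⟨q⟩ hq
      have hq' : q ∈ Z := (QuotientAddGroup.eq_zero_iff q).1 (congrArg ULift.down hq)
      obtain ⟨z, hz⟩ := hq'
      exact ⟨⟨z⟩, ULift.ext _ _ (show (z : ℚ) = q by simpa using hz)⟩
    · intro a b h
      exact ULift.ext _ _ (Int.cast_injective (congrArg ULift.down h))
    · rintro ⟨y⟩
      obtain ⟨q, rfl⟩ := QuotientAddGroup.mk'_surjective Z y
      exact ⟨⟨q⟩, rfl⟩
  have hC : (S.map C).ShortExact := hS.map_of_exact C
  obtain ⟨j, rfl⟩ : ∃ j, i = j + 2 := ⟨i - 2, by omega⟩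
  have hQ : ∀ r : ℕ, 0 < r → ∀ y : EtCoh.H X (EtCoh.const X ℚ) r, y = 0 := by
    intro r hr y
    obtain ⟨s, rfl⟩ : ∃ s, r = s + 1 := ⟨r - 1, by omega⟩
    obtain ⟨n, hn, hy⟩ := isOfFinAddOrder_iff_nsmul_eq_zero.1 (Groth.Agent.H9Transfer.isOfFinAddOrder_H y)
    let d : AddCommGrpCat.of (ULift.{u + 1} ℚ) ⟶ AddCommGrpCat.of (ULift.{u + 1} ℚ) :=
      AddCommGrpCat.ofHom ((AddEquiv.ulift.symm : ℚ ≃+ ULift.{u + 1} ℚ).toAddMonoidHom.comp
        ((AddMonoidHom.mulLeft ((n : ℚ)⁻¹)).comp (AddEquiv.ulift : ULift.{u + 1} ℚ ≃+ ℚ).toAddMonoidHom))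
    have hd : n • d = 𝟙 _ := by
      ext ⟨q⟩
      show n • ((n : ℚ)⁻¹ * q) = q
      rw [nsmul_eq_mul, ← mul_assoc, mul_inv_cancel₀ (by exact_mod_cast hn.ne'), one_mul]
    have e : n • C.map d = 𝟙 (EtCoh.const X ℚ) := by
      rw [← Functor.map_nsmul, hd, CategoryTheory.Functor.map_id]
    calc y = y.comp (Abelian.Ext.mk₀ (n • C.map d)) (add_zero _) := by rw [e, Abelian.Ext.comp_mk₀_id]
      _ = y.comp (n • Abelian.Ext.mk₀ (C.map d)) (add_zero _) := by
          rw [show Abelian.Ext.mk₀ (n • C.map d) = n • Abelian.Ext.mk₀ (C.map d) from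
            map_nsmul (Abelian.Ext.addEquiv₀.symm : (_ ⟶ EtCoh.const X ℚ) ≃+ _) n _]
      _ = n • y.comp (Abelian.Ext.mk₀ (C.map d)) (add_zero _) :=
          map_nsmul ((Abelian.Ext.bilinearComp _ _ _ (s + 1) 0 (s + 1) (add_zero _)) y) n _
      _ = (n • y).comp (Abelian.Ext.mk₀ (C.map d)) (add_zero _) :=
          (map_nsmul (((Abelian.Ext.bilinearComp _ _ _ (s + 1) 0 (s + 1) (add_zero _))).flip (Abelian.Ext.mk₀ (C.map d))) n y).symm
      _ = 0 := by rw [hy, Abelian.Ext.zero_comp]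
  let δ : EtCoh.H X (EtCoh.const X (ℚ ⧸ Z)) (j + 1) →+ EtCoh.H X (EtCoh.const X ℤ) (j + 2) :=
    hC.extClass.postcomp _ rfl
  refine ⟨(AddEquiv.ofBijective δ ⟨?_, ?_⟩).symm⟩
  · refine (injective_iff_map_eq_zero δ).2 fun x hx => ?_
    obtain ⟨y, hy⟩ := Abelian.Ext.covariant_sequence_exact₃ _ hC x rfl hx
    rw [← hy, hQ (j + 1) (by omega) y, Abelian.Ext.zero_comp]
  · intro x
    exact Abelian.Ext.covariant_sequence_exact₁ _ hC x (hQ (j + 2) (by omega) _) rfl
end Groth.Agent.S13499
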