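import Groth.Statements.S1351
import Groth.Agent.S2107
import Groth.Agent.FlatMisc.ValuationLocalFP

set_option autoImplicit false
universe u
open FlatMor IsLocalRing

namespace Groth.Agent.S1351

/-- Let A be a valuation ring, A → B a local homomorphism of local rings essentially of finite type, and
u : N → M a B-linear map of finite B-modules with M flat over A. If u is injective after tensoring
with the residue field of A (that is, modulo the maximal ideal of A), then u is injective and its
cokernel is flat over A. -/
theorem result {A B : Type u} [CommRing A] [IsDomain A] [ValuationRing A] [CommRing B] [IsLocalRing B]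
    [Algebra A B] [IsLocalHom (algebraMap A B)] [Algebra.EssFiniteType A B]
    {N M : Type u} [AddCommGroup N] [Module B N] [Module A N] [IsScalarTower A B N] [Module.Finite B N]
    [AddCommGroup M] [Module B M] [Module A M] [IsScalarTower A B M] [Module.Finite B M] [Module.Flat A M]
    (u : N →ₗ[B] M)
    (hu : Function.Injective (Submodule.mapQ (IsLocalRing.maximalIdeal A • ⊤ : Submodule A N) (IsLocalRing.maximalIdeal A • ⊤ : Submodule A M) (u.restrictScalars A)
      (fun n hn => Submodule.smul_top_le_comap_smul_top _ _ hn))) :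
    Function.Injective u ∧ Module.Flat A (M ⧸ LinearMap.range u) := by
  classical
  let B₀ := Algebra.EssFiniteType.subalgebra A B
  obtain ⟨n, π, hπ⟩ := Algebra.FiniteType.iff_quotient_mvPolynomial''.mp (inferInstance : Algebra.FiniteType A B₀)
  let ι : MvPolynomial (Fin n) A →ₐ[A] B := B₀.val.comp π
  let q : Ideal (MvPolynomial (Fin n) A) := (maximalIdeal B).comap ι.toRingHom
  let σ : Localization.AtPrime q →ₐ[A] B := IsLocalization.liftAlgHom (M := q.primeCompl) (f := ι)
    fun y => IsLocalRing.notMem_maximalIdeal.1 y.2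
  have hσ : Function.Surjective σ := fun b => by
    obtain ⟨⟨t, ht⟩, hb⟩ := IsLocalization.exist_integer_multiples (Algebra.EssFiniteType.submonoid A B)
      (Finset.univ : Finset (Fin 1)) (fun _ => b)
    obtain ⟨b', hb'⟩ := hb 0 (Finset.mem_univ 0)
    obtain ⟨p, hp⟩ := hπ b'
    obtain ⟨p', hp'⟩ := hπ t
    have hu : IsUnit (ι p') := by
      show IsUnit ((π p' : B₀) : B)
      rw [hp']
      exact ht
    refine ⟨IsLocalization.mk' (M := q.primeCompl) (Localization.AtPrime q) p ⟨p', fun h => (IsLocalRing.mem_maximalIdeal _).1 h hu⟩, ?_⟩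
    rw [IsLocalization.liftAlgHom_apply]
    refine (IsLocalization.lift_mk'_spec _ _ _ _).2 ?_
    show ((π p : B₀) : B) = ((π p' : B₀) : B) * b
    rw [hp, hp']
    exact hb'.trans (Algebra.smul_def t b)
  letI : Algebra (Localization.AtPrime q) B := σ.toRingHom.toAlgebra
  haveI : IsScalarTower A (Localization.AtPrime q) B := IsScalarTower.of_algebraMap_eq fun a => (σ.commutes a).symm
  haveI : Module.Finite (Localization.AtPrime q) B := Module.Finite.of_surjective (Algebra.linearMap _ B) hσ
  letI : Module (Localization.AtPrime q) N := Module.compHom N σ.toRingHom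
  letI : Module (Localization.AtPrime q) M := Module.compHom M σ.toRingHom
  haveI : IsScalarTower (Localization.AtPrime q) B N := .of_algebraMap_smul fun _ _ => rfl
  haveI : IsScalarTower (Localization.AtPrime q) B M := .of_algebraMap_smul fun _ _ => rfl
  haveI : IsScalarTower A (Localization.AtPrime q) N := .of_algebraMap_smul fun a x => by
    show σ (algebraMap A _ a) • x = _
    rw [σ.commutes, algebraMap_smul]
  haveI : IsScalarTower A (Localization.AtPrime q) M := .of_algebraMap_smul fun a x => by
    show σ (algebraMap A _ a) • x = _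
    rw [σ.commutes, algebraMap_smul]
  haveI : Module.Finite (Localization.AtPrime q) N := Module.Finite.trans B N
  haveI : Module.Finite (Localization.AtPrime q) M := Module.Finite.trans B M
  haveI : IsLocalHom (algebraMap A (Localization.AtPrime q)) := ⟨fun a ha => by
    have h := ha.map σ
    rw [σ.commutes] at h
    exact isUnit_of_map_unit (algebraMap A B) a h⟩
  haveI : Algebra.EssFiniteType (MvPolynomial (Fin n) A) (Localization.AtPrime q) :=
    Algebra.EssFiniteType.of_isLocalization _ q.primeCompl
  haveI : Algebra.EssFiniteType A (Localization.AtPrime q) :=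
    Algebra.EssFiniteType.comp A (MvPolynomial (Fin n) A) _
  haveI : Module.FinitePresentation (Localization.AtPrime q) M :=
    Groth.Agent.FlatMisc.ValuationLocalFP.finitePresentation (A := A)
  let I := (maximalIdeal A).map (algebraMap A (Localization.AtPrime q))
  letI : Field (A ⧸ maximalIdeal A) := Ideal.Quotient.field _
  haveI : Algebra.EssFiniteType A (Localization.AtPrime q ⧸ I) :=
    Algebra.EssFiniteType.comp A (Localization.AtPrime q) _
  haveI : Algebra.EssFiniteType (A ⧸ maximalIdeal A) (Localization.AtPrime q ⧸ I) :=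
    Algebra.EssFiniteType.of_comp A _ _
  haveI : IsNoetherianRing (Localization.AtPrime q ⧸ I) :=
    Algebra.EssFiniteType.isNoetherianRing (A ⧸ maximalIdeal A) (Localization.AtPrime q ⧸ I)
  haveI : IsNoetherian (Localization.AtPrime q) (Localization.AtPrime q ⧸ I) :=
    ⟨fun J => by
      obtain ⟨s, hs⟩ := IsNoetherian.noetherian
        (Submodule.span (Localization.AtPrime q ⧸ I) (J : Set (Localization.AtPrime q ⧸ I)))
      have h := Submodule.restrictScalars_span (Localization.AtPrime q) (Localization.AtPrime q ⧸ I)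
        (M := Localization.AtPrime q ⧸ I) Ideal.Quotient.mk_surjective
      exact ⟨s, by rw [← h, hs, h, Submodule.span_eq]⟩⟩
  obtain ⟨r, φ, hφ⟩ := Module.Finite.exists_fin' (Localization.AtPrime q) N
  let p : (Fin r → Localization.AtPrime q) →ₗ[Localization.AtPrime q] Fin r → Localization.AtPrime q ⧸ I :=
    LinearMap.pi fun i => I.mkQ ∘ₗ LinearMap.proj i
  obtain ⟨s, hsK, hs⟩ : ∃ s : Finset (Fin r → Localization.AtPrime q), (s : Set (Fin r → Localization.AtPrime q)) ⊆ (LinearMap.ker φ : Set (Fin r → Localization.AtPrime q)) ∧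
      Submodule.span _ (p '' (s : Set (Fin r → Localization.AtPrime q))) = (LinearMap.ker φ).map p := by
    obtain ⟨t, ht⟩ := IsNoetherian.noetherian ((LinearMap.ker φ).map p)
    have h : ∀ y ∈ t, ∃ x ∈ LinearMap.ker φ, p x = y := fun y hy => by
      simpa using ht.le (Submodule.subset_span hy)
    choose f hf hpf using h
    refine ⟨t.attach.image fun y => f y.1 y.2, ?_, ?_⟩
    · intro x hx
      obtain ⟨y, -, rfl⟩ := Finset.mem_image.1 hx
      exact hf _ _
    · rw [← ht]
      congr 1
      ext y
      simp only [Finset.coe_image, Set.mem_image, Finset.mem_coe, Finset.mem_attach, true_and]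
      constructor
      · rintro ⟨_, ⟨z, rfl⟩, rfl⟩
        rw [hpf]
        exact z.2
      · exact fun hy => ⟨_, ⟨⟨y, hy⟩, rfl⟩, hpf y hy⟩
  let K := Submodule.span (Localization.AtPrime q) (s : Set (Fin r → Localization.AtPrime q))
  have hK : K ≤ LinearMap.ker φ := Submodule.span_le.2 hsK
  haveI : Module.FinitePresentation (Localization.AtPrime q) ((Fin r → Localization.AtPrime q) ⧸ K) :=
    Module.finitePresentation_of_surjective K.mkQ K.mkQ_surjective (by rw [K.ker_mkQ]; exact ⟨s, rfl⟩)
  let u₀ : N →ₗ[Localization.AtPrime q] M := u.restrictScalars _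
  let u' := K.liftQ (u₀ ∘ₗ φ) (fun x hx => by simp [LinearMap.mem_ker.1 (hK hx)])
  have hmem : ∀ {T : Type u} [AddCommGroup T] [Module A T] [Module (Localization.AtPrime q) T]
      [IsScalarTower A (Localization.AtPrime q) T] (x : T),
      x ∈ I • (⊤ : Submodule (Localization.AtPrime q) T) ↔ x ∈ maximalIdeal A • (⊤ : Submodule A T) :=
    fun x => by
      rw [← Submodule.restrictScalars_mem A, Ideal.smul_restrictScalars, Submodule.restrictScalars_top]
  have hpker : ∀ x, p x = 0 → x ∈ I • (⊤ : Submodule (Localization.AtPrime q) (Fin r → Localization.AtPrime q)) := by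
    intro x hx
    rw [pi_eq_sum_univ x]
    refine Submodule.sum_mem _ fun i _ => Submodule.smul_mem_smul ?_ trivial
    exact Ideal.Quotient.eq_zero_iff_mem.1 (congrFun hx i)
  have hu' : ∀ x, u' x ∈ I • (⊤ : Submodule (Localization.AtPrime q) M) → x ∈ I • (⊤ : Submodule (Localization.AtPrime q) ((Fin r → Localization.AtPrime q) ⧸ K)) := by
    intro x hx
    obtain ⟨v, rfl⟩ := K.mkQ_surjective x
    have h1 : φ v ∈ maximalIdeal A • (⊤ : Submodule A N) :=
      (Submodule.Quotient.mk_eq_zero _).1 (hu (a₁ := Submodule.Quotient.mk (φ v)) (a₂ := 0) (by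
        rw [map_zero, Submodule.mapQ_apply, Submodule.Quotient.mk_eq_zero]
        exact (hmem _).1 hx))
    have h2 : φ v ∈ Submodule.map φ (I • ⊤) := by
      rw [Submodule.map_smul'', Submodule.map_top, LinearMap.range_eq_top.2 hφ]
      exact (hmem _).2 h1
    obtain ⟨w, hw, hwv⟩ := h2
    have h3 : p (v - w) ∈ Submodule.map p K := by
      rw [Submodule.map_span, hs]
      exact Submodule.mem_map_of_mem (by rw [LinearMap.mem_ker, map_sub, hwv, sub_self])
    obtain ⟨z, hz, hzv⟩ := h3
    have h4 : K.mkQ v = K.mkQ (v - w - z) + K.mkQ w := by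
      rw [← map_add, K.mkQ_apply, K.mkQ_apply, Submodule.Quotient.eq]
      rwa [show v - (v - w - z + w) = z by abel]
    have h5 : ∀ y ∈ I • (⊤ : Submodule (Localization.AtPrime q) (Fin r → Localization.AtPrime q)),
        K.mkQ y ∈ I • (⊤ : Submodule (Localization.AtPrime q) _) := fun y hy => by
      have := Submodule.mem_map_of_mem (f := K.mkQ) hy
      rw [Submodule.map_smul'', Submodule.map_top, K.range_mkQ] at this
      exact this
    rw [h4]
    exact add_mem (h5 _ (hpker _ (by rw [map_sub, hzv, sub_self]))) (h5 _ hw)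
  obtain ⟨hinj, hflat⟩ := Groth.Agent.S2107.result
    ⟨MvPolynomial (Fin n) A, inferInstance, inferInstance, inferInstance, inferInstance, q.primeCompl,
      inferInstance, inferInstance⟩ u' hu'
  have hr : ∀ y, y ∈ LinearMap.range u' ↔ y ∈ LinearMap.range u := fun y => by
    rw [Submodule.range_liftQ]
    exact ⟨fun ⟨x, hx⟩ => ⟨φ x, hx⟩, fun ⟨x, hx⟩ => by obtain ⟨v, rfl⟩ := hφ x; exact ⟨v, hx⟩⟩
  refine ⟨(injective_iff_map_eq_zero u).2 fun x hx => ?_, ?_⟩
  · obtain ⟨v, rfl⟩ := hφ x
    have h : u' (K.mkQ v) = 0 := hx
    rw [← map_zero u'] at h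
    exact LinearMap.mem_ker.1 (hK ((Submodule.Quotient.mk_eq_zero _).1 (hinj h)))
  · haveI := hflat
    exact Module.Flat.of_linearEquiv
      ((Submodule.Quotient.restrictScalarsEquiv A (LinearMap.range u)).symm ≪≫ₗ
        Submodule.quotEquivOfEq ((LinearMap.range u).restrictScalars A) ((LinearMap.range u').restrictScalars A)
          (Submodule.ext fun y => (hr y).symm) ≪≫ₗ
        Submodule.Quotient.restrictScalarsEquiv A (LinearMap.range u'))

end Groth.Agent.S1351
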