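import Groth.Statements.S13532
import Groth.Agent.DimIneqCor.Basic
import Groth.Agent.CycLib.Finite
import Groth.Agent.FlatDense.Basic

set_option autoImplicit false
universe u
open CategoryTheory CategoryTheory.Limits AlgebraicGeometry
open ResProp

namespace Groth.Agent.S13532

/-- A morphism of finite type between locally Noetherian schemes which is birational (an isomorphism
over a dense open of the target whose preimage is dense in the source) has finite fibres over all
points of the target of codimension at most 1, i.e. whose local ring has Krull dimension at most 1. -/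
theorem result {X Y : Scheme.{u}}
    [IsLocallyNoetherian X] [IsLocallyNoetherian Y] (f : Y ⟶ X) [LocallyOfFiniteType f] [QuasiCompact f]
    (U : X.Opens) (hU : Dense (U : Set X)) (hU' : Dense ((f ⁻¹ᵁ U : Y.Opens) : Set Y)) (hiso : IsIso (f ∣_ U))
    (x : X) (hx : ringKrullDim (X.presheaf.stalk x) ≤ 1) :
    (f.base ⁻¹' {x}).Finite := by
  haveI := LocallyOfFiniteType.isLocallyNoetherian f
  have hrdU : ∀ y : Y, y ∈ f ⁻¹ᵁ U → FibDim.rd f y = 0 := fun y hy => by
    haveI : IsOpenImmersion ((f ⁻¹ᵁ U).ι ≫ f) := by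
      rw [← morphismRestrict_ι]
      infer_instance
    have h := FibDim.dim_closure_inter ((f ⁻¹ᵁ U).ι ≫ f) ⟨y, hy⟩
    haveI : Subsingleton ↥(closure {(⟨y, hy⟩ : (f ⁻¹ᵁ U).toScheme)} ∩
        ((f ⁻¹ᵁ U).ι ≫ f) ⁻¹' {((f ⁻¹ᵁ U).ι ≫ f) ⟨y, hy⟩}) :=
      ⟨fun a b => Subtype.ext (((f ⁻¹ᵁ U).ι ≫ f).isOpenEmbedding.injective (a.2.2.trans b.2.2.symm))⟩
    have h0 : topologicalKrullDim ↥(closure {(⟨y, hy⟩ : (f ⁻¹ᵁ U).toScheme)} ∩
        ((f ⁻¹ᵁ U).ι ≫ f) ⁻¹' {((f ⁻¹ᵁ U).ι ≫ f) ⟨y, hy⟩}) ≤ 0 := by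
      refine @Order.krullDim_nonpos_of_subsingleton _ _ ⟨fun a b => TopologicalSpace.IrreducibleCloseds.ext (Set.ext fun z => ?_)⟩
      obtain ⟨za, hza⟩ := a.isIrreducible.nonempty
      obtain ⟨zb, hzb⟩ := b.isIrreducible.nonempty
      exact iff_of_true (Subsingleton.elim za z ▸ hza) (Subsingleton.elim zb z ▸ hzb)
    replace h0 := h.symm.trans_le h0
    rw [FibDim.rd_opens] at h0
    have h1 : FibDim.rd f ((f ⁻¹ᵁ U).ι ⟨y, hy⟩) ≤ 0 := by exact_mod_cast h0
    exact Nat.le_zero.1 h1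
  have hmaxU : ∀ y : Y, (∀ z, z ⤳ y → z = y) → y ∈ f ⁻¹ᵁ U := fun y hy =>
    FlatDense.mem_of_dense_of_max_scheme (f ⁻¹ᵁ U) hU' hy
  have hgen : ∀ ξ : Y, closure {ξ} ∈ irreducibleComponents ↥Y → ∀ z, z ⤳ ξ → z = ξ := fun ξ hξ z hz => by
    refine (hz.antisymm ?_).eq
    exact specializes_iff_mem_closure.2 (hξ.2 isIrreducible_singleton.closure
      (closure_minimal (Set.singleton_subset_iff.2 (specializes_iff_mem_closure.1 hz)) isClosed_closure)
      (subset_closure rfl))
  have hcx : DimFormula.codim x ≤ 1 := by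
    rw [DimFormula.ringKrullDim_stalk] at hx
    exact_mod_cast hx
  have hrd : ∀ y : Y, f y = x → FibDim.rd f y = 0 := fun y hy => by
    by_cases h0 : DimFormula.codim y = 0
    · exact hrdU y (hmaxU y (DimFormula.codim_eq_zero_iff.1 h0))
    · have := DimIneqCor.codim_add_rd_le f y 0 fun ξ hξ _ => (hrdU ξ (hmaxU ξ (hgen ξ hξ))).le
      rw [hy] at this
      omega
  haveI := DimFormula.isLocallyNoetherian_fiber f x
  haveI : CompactSpace ↥(f ⁻¹' {x}) := isCompact_iff_compactSpace.1 (f.isCompact_preimage_singleton x)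
  haveI : CompactSpace ↥(f.fiber x) := (f.fiberHomeo x).symm.compactSpace
  haveI : IsNoetherian (f.fiber x) := ⟨⟩
  have hfib : Finite ↥(f.fiber x) := CycLib.finite_of_forall_maximal fun a b hab => by
    by_contra hne
    have ha := FibDim.fiber_apply_fiberι f a
    have hb := FibDim.fiber_apply_fiberι f b
    have := FibDim.rd_lt f (hab.map (f.fiberι x).continuous)
      (fun e => hne ((f.fiberι x).isEmbedding.injective e)) (hb.trans ha.symm)
    rw [hrd _ hb] at this
    omega
  exact Set.finite_coe_iff.1 ((f.fiberHomeo x).finite_iff.1 hfib)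

end Groth.Agent.S13532
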