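import Groth.Statements.S13533
import Groth.Agent.BasicElt6.Basic

set_option autoImplicit false
universe u
open ResProp

namespace Groth.Agent.S13533

open TensorProduct Groth.Agent.BasicElt6

/-- A vector with a unit coordinate spans a direct summand with free quotient. -/
theorem exists_quot_equiv {R : Type*} [CommRing R] {n : ℕ} (y : Fin (n + 1) → R) (i : Fin (n + 1))
    (hy : IsUnit (y i)) : Nonempty (((Fin (n + 1) → R) ⧸ Submodule.span R {y}) ≃ₗ[R] (Fin n → R)) := by
  obtain ⟨u, hu⟩ := hy
  let π : (Fin (n + 1) → R) →ₗ[R] (Fin n → R) :=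
    { toFun := fun v j => v (i.succAbove j) - v i * ↑u⁻¹ * y (i.succAbove j)
      map_add' := fun v w => funext fun j => by simp only [Pi.add_apply]; ring
      map_smul' := fun c v => funext fun j => by
        simp only [Pi.smul_apply, smul_eq_mul, RingHom.id_apply]; ring }
  have hsurj : Function.Surjective π := fun w => ⟨i.insertNth 0 w, funext fun j => by simp [π]⟩
  have hker : LinearMap.ker π = Submodule.span R {y} := by
    refine le_antisymm (fun v hv => Submodule.mem_span_singleton.2 ⟨v i * (↑u⁻¹ : R), ?_⟩) ?_
    · funext j
      rcases Fin.eq_self_or_eq_succAbove i j with rfl | ⟨l, rfl⟩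
      · rw [Pi.smul_apply, smul_eq_mul, ← hu, mul_assoc, Units.inv_mul, mul_one]
      · exact (sub_eq_zero.1 (congrFun (LinearMap.mem_ker.1 hv) l)).symm
    · rw [Submodule.span_singleton_le_iff_mem, LinearMap.mem_ker]
      exact funext fun j => by simp [π, ← hu]
  exact ⟨(Submodule.quotEquivOfEq _ _ hker.symm).trans (π.quotKerEquivOfSurjective hsurj)⟩

variable {A : Type u} [CommRing A]

/-- Localization of isomorphic modules. -/
noncomputable def locCongr {M M' : Type u} [AddCommGroup M] [Module A M] [AddCommGroup M'] [Module A M']
    (S : Submonoid A) (e : M ≃ₗ[A] M') : LocalizedModule S M ≃ₗ[Localization S] LocalizedModule S M' :=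
  LocalizedModule.equivTensorProduct S M ≪≫ₗ e.baseChange A (Localization S) ≪≫ₗ
    (LocalizedModule.equivTensorProduct S M').symm

theorem exists_free [IsNoetherianRing A] {k : ℕ} (hAss : ∀ p ∈ associatedPrimes A A, p.height ≤ k) :
    ∀ (j : ℕ) (M : Type u) [AddCommGroup M] [Module A M] [Module.Finite A M],
    (∀ p : PrimeSpectrum A, p.asIdeal.height ≤ k →
      Nonempty (LocalizedModule p.asIdeal.primeCompl M ≃ₗ[Localization.AtPrime p.asIdeal]
        (Fin (k + j) → Localization.AtPrime p.asIdeal))) →
    ∃ f : (Fin j → A) →ₗ[A] M, Function.Injective f ∧ ∀ p : PrimeSpectrum A, p.asIdeal.height ≤ k →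
      Nonempty (LocalizedModule p.asIdeal.primeCompl (M ⧸ LinearMap.range f) ≃ₗ[Localization.AtPrime p.asIdeal]
        (Fin k → Localization.AtPrime p.asIdeal)) := by
  intro j
  induction j with
  | zero =>
    intro M _ _ _ hM
    refine ⟨0, fun a b _ => Subsingleton.elim a b, fun p hp => ⟨?_⟩⟩
    exact (locCongr _ (Submodule.quotEquivOfEqBot _ LinearMap.range_zero)).trans (hM p hp).some
  | succ j ih =>
    intro M _ _ _ hM
    obtain ⟨x, hx⟩ := exists_basic (A := A) (M := M) (k := k) (r := k + (j + 1)) (fun p hp => rk_eq hM p hp)
      (by omega)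
    let N : Submodule A M := Submodule.span A {x}
    have h1 : ∀ p : PrimeSpectrum A, p.asIdeal.height ≤ k →
        Nonempty (LocalizedModule p.asIdeal.primeCompl (M ⧸ N) ≃ₗ[Localization.AtPrime p.asIdeal]
          (Fin (k + j) → Localization.AtPrime p.asIdeal)) := by
      intro p hp
      obtain ⟨e⟩ := hM p hp
      obtain ⟨i, hi⟩ := exists_isUnit_coord p e x (hx p hp)
      obtain ⟨q⟩ := exists_quot_equiv (e (LocalizedModule.mk x 1)) i hi
      refine ⟨(localizedQuotientEquiv p.asIdeal.primeCompl N).symm.trans ((Submodule.Quotient.equiv _ _ e ?_).trans q)⟩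
      show Submodule.map _ (N.localized' _ _ _) = _
      rw [Submodule.localized'_span, Submodule.map_span, Set.image_singleton, Set.image_singleton]
      rfl
    obtain ⟨f₁, hf₁, hq₁⟩ := ih (M ⧸ N) h1
    have hann : ∀ a : A, a • x = 0 → a = 0 := by
      intro a ha
      by_contra hne
      obtain ⟨P, hP, hle⟩ := exists_le_isAssociatedPrime_of_isNoetherianRing A a hne
      haveI := hP.isPrime
      obtain ⟨e⟩ := hM ⟨P, hP.isPrime⟩ (hAss P hP)
      obtain ⟨i, hi⟩ := exists_isUnit_coord ⟨P, hP.isPrime⟩ e x (hx _ (hAss P hP))
      have h0 : algebraMap A (Localization.AtPrime P) a * e (LocalizedModule.mk x 1) i = 0 := by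
        have h := congrArg (fun z => e (LocalizedModule.mkLinearMap P.primeCompl M z) i) ha
        simp only [map_zero, Pi.zero_apply] at h
        rw [map_smul, ← algebraMap_smul (Localization.AtPrime P) a (LocalizedModule.mkLinearMap P.primeCompl M x),
          map_smul, Pi.smul_apply, smul_eq_mul] at h
        exact h
      have h1 : algebraMap A (Localization.AtPrime P) a = 0 := hi.mul_left_eq_zero.1 h0
      obtain ⟨⟨s, hs⟩, hsa⟩ := (IsLocalization.map_eq_zero_iff P.primeCompl _ a).1 h1
      refine hs (hle ?_)
      rw [Submodule.mem_colon_singleton]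
      simpa using hsa
    obtain ⟨g, hg⟩ := Module.projective_lifting_property N.mkQ f₁ N.mkQ_surjective
    let f : (Fin (j + 1) → A) →ₗ[A] M :=
      (LinearMap.proj 0).smulRight x + g.comp (LinearMap.funLeft A A Fin.succ)
    have hf : ∀ c, N.mkQ (f c) = f₁ (fun i => c i.succ) := fun c => by
      have hxN : N.mkQ x = 0 := (Submodule.Quotient.mk_eq_zero N).2 (Submodule.mem_span_singleton_self x)
      show N.mkQ (c 0 • x + g (fun i => c i.succ)) = _
      rw [map_add, map_smul, hxN, smul_zero, zero_add]
      exact LinearMap.congr_fun hg _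
    refine ⟨f, (injective_iff_map_eq_zero f).2 fun c hc => ?_, fun p hp => ?_⟩
    · have h2 : (fun i : Fin j => c i.succ) = 0 := hf₁ (by rw [← hf, hc, map_zero, map_zero])
      have h3 : c 0 • x = 0 := by
        have : c 0 • x + g (fun i => c i.succ) = 0 := hc
        rwa [h2, map_zero, add_zero] at this
      funext i
      induction i using Fin.cases with
      | zero => exact hann _ h3
      | succ i => exact congrFun h2 i
    · let π : M →ₗ[A] (M ⧸ N) ⧸ LinearMap.range f₁ := (LinearMap.range f₁).mkQ.comp N.mkQ
      have hker : LinearMap.range f = LinearMap.ker π := by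
        refine le_antisymm ?_ fun m hm => ?_
        · rintro _ ⟨c, rfl⟩
          exact (Submodule.Quotient.mk_eq_zero _).2 ⟨_, (hf c).symm⟩
        · obtain ⟨d, hd⟩ := (Submodule.Quotient.mk_eq_zero _).1 hm
          have : m - f (Fin.cons 0 d) ∈ N := by
            rw [← Submodule.Quotient.mk_eq_zero]
            show N.mkQ (m - f (Fin.cons 0 d)) = 0
            rw [map_sub, hf, sub_eq_zero]
            simp only [Fin.cons_succ]
            exact hd.symm
          obtain ⟨a, ha⟩ := Submodule.mem_span_singleton.1 this
          refine ⟨Fin.cons a d, ?_⟩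
          have e1 : ∀ a, f (Fin.cons a d) = a • x + g d := fun a => by
            show (Fin.cons a d : Fin (j + 1) → A) 0 • x + g (fun i => (Fin.cons a d : Fin (j + 1) → A) i.succ) = _
            simp
          rw [e1, ha, e1, zero_smul, zero_add, sub_add_cancel]
      exact ⟨(locCongr _ ((Submodule.quotEquivOfEq _ _ hker).trans (π.quotKerEquivOfSurjective
        ((Submodule.mkQ_surjective _).comp (Submodule.mkQ_surjective _))))).trans (hq₁ p hp).some⟩


/-- Let k ≤ r, let A be a Noetherian ring none of whose associated primes has height greater than k, and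
let M be a finitely generated A-module which is free of rank r at every prime of height at most k.
Then M has a free submodule N of rank r - k such that M/N is free of rank k at every prime of height
at most k. Freeness of a given rank is expressed by linear isomorphisms with coordinate modules.
(The published statement has no hypothesis on the associated primes of A; for A = ℤ[X]/(X², 2X), M =
A/(X), k = 0 and r = 1 every other hypothesis holds while X annihilates M, so M contains no free
submodule of rank 1. The printed argument produces an element of M that is part of a basis at every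
prime of height at most k; the submodule it generates is free exactly when its annihilator vanishes
at the associated primes of A, which the added hypothesis guarantees.) -/
theorem result (A : Type u) [CommRing A] [IsNoetherianRing A]
    (M : Type u) [AddCommGroup M] [Module A M] [Module.Finite A M] (k r : ℕ) (hkr : k ≤ r)
    (hAss : ∀ p ∈ associatedPrimes A A, p.height ≤ k)
    (hM : ∀ p : PrimeSpectrum A, p.asIdeal.height ≤ k →
      Nonempty (LocalizedModule p.asIdeal.primeCompl M ≃ₗ[Localization.AtPrime p.asIdeal]
        (Fin r → Localization.AtPrime p.asIdeal))) :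
    ∃ N : Submodule A M, Nonempty (N ≃ₗ[A] (Fin (r - k) → A)) ∧
      ∀ p : PrimeSpectrum A, p.asIdeal.height ≤ k →
        Nonempty (LocalizedModule p.asIdeal.primeCompl (M ⧸ N) ≃ₗ[Localization.AtPrime p.asIdeal]
          (Fin k → Localization.AtPrime p.asIdeal)) := by
  obtain ⟨j, rfl⟩ : ∃ j, r = k + j := ⟨r - k, (Nat.add_sub_cancel' hkr).symm⟩
  obtain ⟨f, hf, hq⟩ := exists_free hAss j M hM
  refine ⟨LinearMap.range f, ⟨(LinearEquiv.ofInjective f hf).symm.trans
    (LinearEquiv.funCongrLeft A A (finCongr (by omega : k + j - k = j)))⟩, hq⟩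

end Groth.Agent.S13533
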