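import Groth.Statements.S13535
import Groth.Agent.H6Proj.Affine
import Groth.Agent.QCoh.AffineCohom
import Groth.Agent.QCoh.OpenSub
import Groth.Agent.QCoh.Support
import Groth.Agent.KFlatLib.Scheme.QCohTensor

set_option autoImplicit false
universe u
open CategoryTheory CategoryTheory.Limits AlgebraicGeometry
open ResProp

namespace Groth.Agent.S13535

/-- Let X and Y be proper over a Noetherian ring A and let f : Y ⟶ X be a finite A-morphism. If a
sequence (E_n) of coherent modules on X is cohomologically d-ample (d a positive integer), meaning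
that for every coherent F the groups H^i(X, F ⊗ E_n) vanish for all i ≥ d + 1 and all large n, then
so is the sequence of pullbacks (f^*E_n) on Y. -/
theorem result (A : Type u) [CommRing A] [IsNoetherianRing A]
    {X Y : Scheme.{u}} (pX : X ⟶ Spec (CommRingCat.of A)) (pY : Y ⟶ Spec (CommRingCat.of A))
    [IsProper pX] [IsProper pY] (f : Y ⟶ X) (hf : f ≫ pX = pY) [IsFinite f]
    (d : ℕ) (hd : 0 < d) (E : ℕ → X.Modules) (hE : ∀ n, Coh.IsCoh (E n))
    (hamp : ∀ F : X.Modules, Coh.IsCoh F → ∃ n₀ : ℕ, ∀ n : ℕ, n₀ ≤ n → ∀ i : ℕ, d + 1 ≤ i →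
        Subsingleton (Coh.HH X (CohB1.tensorMod F (E n)) i)) :
    ∀ F : Y.Modules, Coh.IsCoh F → ∃ n₀ : ℕ, ∀ n : ℕ, n₀ ≤ n → ∀ i : ℕ, d + 1 ≤ i →
        Subsingleton (Coh.HH Y (CohB1.tensorMod F ((Scheme.Modules.pullback f).obj (E n))) i) := by
  intro F hF
  haveI : IsLocallyNoetherian X := LocallyOfFiniteType.isLocallyNoetherian pX
  haveI : IsLocallyNoetherian Y := LocallyOfFiniteType.isLocallyNoetherian pY
  obtain ⟨n₀, hn₀⟩ := hamp _ (Groth.Agent.QCoh.isCoh_pushforward_finite f hF)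
  refine ⟨n₀, fun n hn i hi => ?_⟩
  haveI := Groth.Agent.H6Proj.isIso_projMod_affine f F (E n) hF.1 (hE n).1
  haveI := hn₀ n hn i hi
  haveI : Subsingleton (Coh.HH X ((Scheme.Modules.pushforward f).obj ((DCoh.tensorBi.obj F).obj
      ((Scheme.Modules.pullback f).obj (E n)))) i) :=
    Groth.Agent.QCoh.subsingleton_HH_of_iso (asIso (Groth.Agent.KFlatLib.projMod f F (E n))) i
      (hn₀ n hn i hi)
  obtain ⟨e⟩ := Groth.Agent.QCoh.HH_push_of_isAffineHom f
    (Groth.Agent.KFlatLib.isQCoh_tensor hF.1 (Groth.Agent.QCoh.isQCoh_pullback f (hE n).1)) i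
  exact e.toEquiv.subsingleton

end Groth.Agent.S13535
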