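import Groth.Statements.S13536
import Groth.Agent.QCoh.DevissageP
import Groth.Agent.QCoh.HHExact
import Groth.Agent.QCoh.AffineCohom
import Groth.Agent.QCoh.OpenSub
import Groth.Agent.KZ.OpenExt
import Groth.Agent.HilbPoly.Step

namespace Groth.Agent.S13536

open AlgebraicGeometry CategoryTheory CategoryTheory.Limits
open CategoryTheory.Abelian

universe w

theorem equiv_g {X : Scheme.{w}} {S : ShortComplex X.Modules} (hS : S.ShortExact) (n : ℕ)
    (h1 : Subsingleton (Coh.HH X S.X₁ n)) (h2 : Subsingleton (Coh.HH X S.X₁ (n + 1))) :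
    Nonempty (Coh.HH X S.X₂ n ≃+ Coh.HH X S.X₃ n) := by
  have hT := QCoh.toAb_shortExact hS
  let T := S.map (QCoh.toAbFunctor X)
  let m : Coh.HH X S.X₂ n →+ Coh.HH X S.X₃ n := (Ext.mk₀ T.g).postcomp _ (add_zero n)
  refine ⟨AddEquiv.ofBijective m ⟨(injective_iff_map_eq_zero m).2 fun x hx => ?_, fun x => ?_⟩⟩
  · obtain ⟨y, rfl⟩ := Ext.covariant_sequence_exact₂ _ hT x hx
    rw [h1.elim y 0]
    exact Ext.zero_comp _ _ _ _ _
  · obtain ⟨y, hy⟩ := Ext.covariant_sequence_exact₃ _ hT x rfl (h2.elim _ _)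
    exact ⟨y, hy⟩

theorem equiv_f {X : Scheme.{w}} {S : ShortComplex X.Modules} (hS : S.ShortExact) (n : ℕ)
    (h1 : Subsingleton (Coh.HH X S.X₃ n)) (h2 : Subsingleton (Coh.HH X S.X₃ (n + 1))) :
    Nonempty (Coh.HH X S.X₁ (n + 1) ≃+ Coh.HH X S.X₂ (n + 1)) := by
  have hT := QCoh.toAb_shortExact hS
  let T := S.map (QCoh.toAbFunctor X)
  let m : Coh.HH X S.X₁ (n + 1) →+ Coh.HH X S.X₂ (n + 1) := (Ext.mk₀ T.f).postcomp _ (add_zero (n + 1))
  refine ⟨AddEquiv.ofBijective m ⟨(injective_iff_map_eq_zero m).2 fun x hx => ?_, fun x => ?_⟩⟩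
  · obtain ⟨y, rfl⟩ := Ext.covariant_sequence_exact₁ _ hT x hx rfl
    rw [h1.elim y 0]
    exact Ext.zero_comp _ _ _ _ _
  · obtain ⟨y, hy⟩ := Ext.covariant_sequence_exact₂ _ hT x (h2.elim _ _)
    exact ⟨y, hy⟩

theorem vanish {X : Scheme.{w}} [IsNoetherian X] {Z : Scheme.{w}} (ι : Z ⟶ X) [IsClosedImmersion ι] (k : ℕ)
    (hcd : ∀ G : Z.Modules, Coh.IsQCoh G → ∀ i : ℕ, k + 1 ≤ i → Subsingleton (Coh.HH Z G i))
    {M : X.Modules} (hM : Coh.IsCoh M) (hs : CohB1.support M ⊆ Set.range ι.base) :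
    ∀ i : ℕ, k + 1 ≤ i → Subsingleton (Coh.HH X M i) := by
  induction QCoh.filt_of_isCoh hM with
  | @zero A hA =>
    intro i _
    have := (QCoh.toAbFunctor X).map_isZero hA
    have hid : 𝟙 (Coh.toAb A) = 0 := this.eq_of_src _ _
    refine subsingleton_of_forall_eq 0 fun x => ?_
    show (x : Ext _ ((QCoh.toAbFunctor X).obj A) i) = 0
    rw [← Ext.comp_mk₀_id x, hid, Ext.mk₀_zero, Ext.comp_zero]
  | @step N M' φ _ _ hNc hMc hex ih =>
    obtain ⟨W, i', hi', hW, I, μ, hμ, hI, hI0, ⟨e⟩⟩ := hex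
    haveI := hi'; haveI := hW; haveI := hμ
    have hc := QCoh.isCoh_cokernel hNc.1 hMc φ
    intro j hj
    refine QCoh.subsingleton_HH_X₂ (S := ShortComplex.mk φ (cokernel.π φ) (cokernel.condition φ))
      (.mk' (ShortComplex.exact_of_g_is_cokernel _ (cokernelIsCokernel φ)) ‹_› inferInstance)
      j (ih hNc ((QCoh.mem_support_of_mono hNc.1 hMc.1 φ).trans hs) j hj) ?_
    refine QCoh.subsingleton_HH_of_iso e.symm j ?_
    have hr : Set.range i' ⊆ Set.range ι.base := by
      rw [QCoh.range_eq_closure i', ← QCoh.support_push_ideal i' μ hI hI0, ← QCoh.support_iso e hc.1]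
      exact (QCoh.support_of_epi hMc.1 hc.1 (cokernel.π φ)).trans hs
    let pf : Limits.pullback i' ι ⟶ W := pullback.fst i' ι
    have : Surjective pf := ⟨fun w => by
      have : w ∈ Set.range pf := by
        rw [Scheme.Pullback.range_fst]
        exact hr ⟨w, rfl⟩
      exact this⟩
    have : IsIso pf := isIso_of_isClosedImmersion_of_surjective pf
    let j' : W ⟶ Z := inv pf ≫ pullback.snd i' ι
    have hj' : j' ≫ ι = i' := by rw [Category.assoc, ← pullback.condition, IsIso.inv_hom_id_assoc]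
    have : IsClosedImmersion (j' ≫ ι) := hj' ▸ inferInstance
    have : IsClosedImmersion j' := IsClosedImmersion.of_comp j' ι
    obtain ⟨e1⟩ := QCoh.HH_push_of_isAffineHom i' hI j
    obtain ⟨e2⟩ := QCoh.HH_push_of_isAffineHom j' hI j
    haveI := hcd _ (QCoh.isQCoh_pushforward j' hI) j hj
    haveI : Subsingleton (Coh.HH W I j) := e2.toEquiv.subsingleton
    exact e1.symm.toEquiv.subsingleton

end Groth.Agent.S13536

set_option autoImplicit false
universe u
open CategoryTheory CategoryTheory.Limits AlgebraicGeometry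
open ResProp

namespace Groth.Agent.S13536

/-- On a Noetherian scheme X let Z be a closed subscheme of cohomological dimension at most k (every
quasi-coherent module on Z has zero cohomology in degrees ≥ k + 1) and let F, F' be coherent modules
which are isomorphic on the open complement of Z. Then H^i(X, F) and H^i(X, F') are isomorphic for
all i ≥ k + 2 (existence of an additive isomorphism only; the identification depends on choices). -/
theorem result (X : Scheme.{u}) [IsNoetherian X]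
    {Z : Scheme.{u}} (ι : Z ⟶ X) [IsClosedImmersion ι] (k : ℕ)
    (hcd : ∀ G : Z.Modules, Coh.IsQCoh G → ∀ i : ℕ, k + 1 ≤ i → Subsingleton (Coh.HH Z G i))
    (U : X.Opens) (hU : (U : Set X) = (Set.range ι.base)ᶜ)
    (F F' : X.Modules) (hF : Coh.IsCoh F) (hF' : Coh.IsCoh F')
    (hiso : Nonempty (F.restrict U.ι ≅ F'.restrict U.ι)) (i : ℕ) (hi : k + 2 ≤ i) :
    Nonempty (Coh.HH X F i ≃+ Coh.HH X F' i) := by
  obtain ⟨e⟩ := hiso
  obtain ⟨G, p₁, p₂, hG, h₁, h₂⟩ := KZ.exists_span U F F' hF hF' e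
  have key : ∀ {M : X.Modules}, Coh.IsCoh M → ∀ p : G ⟶ M,
      IsIso ((Scheme.Modules.restrictFunctor U.ι).map p) → Nonempty (Coh.HH X G i ≃+ Coh.HH X M i) := by
    intro M hM p hp
    let R := Scheme.Modules.restrictFunctor U.ι
    haveI : R.IsLeftAdjoint := (Scheme.Modules.restrictAdjunction U.ι).isLeftAdjoint
    let K := kernel p
    let π : G ⟶ cokernel (kernel.ι p) := cokernel.π _
    let m : cokernel (kernel.ι p) ⟶ M := CategoryTheory.Abelian.factorThruCoimage p
    have hfac : π ≫ m = p := CategoryTheory.Abelian.coimage.fac p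
    have hK : Coh.IsCoh K := QCoh.isCoh_kernel hG hM p
    have hI : Coh.IsCoh (cokernel (kernel.ι p)) := QCoh.isCoh_cokernel hK.1 hG _
    have hC : Coh.IsCoh (cokernel m) := QCoh.isCoh_cokernel hI.1 hM _
    haveI : Mono (R.map (kernel.ι p)) := QCoh.mono_restrict_map U.ι _
    haveI : Mono (R.map m) := QCoh.mono_restrict_map U.ι _
    haveI : Epi (R.map (cokernel.π m)) := inferInstance
    haveI : IsIso (R.map π ≫ R.map m) := by
      rw [← R.map_comp, hfac]
      exact hp
    haveI : IsSplitEpi (R.map m) := IsSplitEpi.mk' ⟨inv (R.map π ≫ R.map m) ≫ R.map π, by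
      rw [Category.assoc, IsIso.inv_hom_id]⟩
    haveI : IsIso (R.map m) := isIso_of_mono_of_isSplitEpi _
    have zK : IsZero (R.obj K) := by
      have h0 : R.map (kernel.ι p) ≫ R.map p = 0 := by rw [← R.map_comp, kernel.condition, R.map_zero]
      haveI := hp
      have hz : R.map (kernel.ι p) = 0 := by rw [← cancel_mono (R.map p), h0, zero_comp]
      rw [IsZero.iff_id_eq_zero, ← cancel_mono (R.map (kernel.ι p)), hz, comp_zero, comp_zero]
    have zC : IsZero (R.obj (cokernel m)) := by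
      have h0 : R.map m ≫ R.map (cokernel.π m) = 0 := by rw [← R.map_comp, cokernel.condition, R.map_zero]
      have hz : R.map (cokernel.π m) = 0 := by rw [← cancel_epi (R.map m), h0, comp_zero]
      rw [IsZero.iff_id_eq_zero, ← cancel_epi (R.map (cokernel.π m)), hz, zero_comp, zero_comp]
    have hsub : ∀ {N : X.Modules}, IsZero (R.obj N) → CohB1.support N ⊆ Set.range ι.base := by
      intro N hN x hx
      by_contra h
      exact HilbPoly.notMem_support_of_isZero_restrict hN (x := x) (hU.ge h) hx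
    have vK := vanish ι k hcd hK (hsub zK)
    have vC := vanish ι k hcd hC (hsub zC)
    obtain ⟨a⟩ := equiv_g (S := ShortComplex.mk (kernel.ι p) π (cokernel.condition _))
      (.mk' (ShortComplex.exact_of_g_is_cokernel _ (cokernelIsCokernel _)) inferInstance inferInstance)
      i (vK i (by omega)) (vK (i + 1) (by omega))
    obtain ⟨n, rfl⟩ : ∃ n, i = n + 1 := ⟨i - 1, by omega⟩
    obtain ⟨b⟩ := equiv_f (S := ShortComplex.mk m (cokernel.π m) (cokernel.condition _))
      (.mk' (ShortComplex.exact_of_g_is_cokernel _ (cokernelIsCokernel _)) inferInstance inferInstance)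
      n (vC n (by omega)) (vC (n + 1) (by omega))
    exact ⟨a.trans b⟩
  obtain ⟨a⟩ := key hF p₁ h₁
  obtain ⟨b⟩ := key hF' p₂ h₂
  exact ⟨a.symm.trans b⟩

end Groth.Agent.S13536
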