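import Groth.Statements.S1355
-- import your own Groth.Agent.* helpers here
import Groth.Agent.GeomField.EtaleRealise

set_option backward.isDefEq.respectTransparency.types false

set_option autoImplicit false
universe u
open FlatMor

namespace Groth.Agent.S1355

open AlgebraicGeometry CategoryTheory Limits in
/-- Let f : X → S and s a point of S. The fibre of f over s is geometrically connected if and only if
for every étale morphism U → S and every point u over s, the fibre over u of the base change of f to
U is connected. -/
theorem result {X S : Scheme.{u}} (f : X ⟶ S) (s : S) :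
    GeometricallyConnected (f.fiberToSpecResidueField s) ↔
      ∀ (U : Scheme.{u}) (g : U ⟶ S) (u : U), Etale g → g u = s → ConnectedSpace ↑((pullback.snd f g).fiber u) := by
  refine ⟨fun h U g u hg hu => ?_, fun h => ?_⟩
  · subst hu
    exact h.geometrically_connectedSpace _ _ _
      (isPullback_fiberToSpecResidueField_of_isPullback (IsPullback.of_hasPullback f g) u)
  · letI : (f.fiber s).Over (Spec (CommRingCat.of (S.residueField s))) := ⟨f.fiberToSpecResidueField s⟩
    refine Groth.Agent.GeomField.geometricallyConnected_of_finiteSeparable (k := S.residueField s) (X := f.fiber s) ?_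
    intro k' _ _ _ _
    obtain ⟨V, hV, hsV, -⟩ := exists_isAffineOpen_mem_and_subset (x := s) (U := (⊤ : S.Opens)) trivial
    obtain ⟨U, g, u, hg, hu, φ, hφ, hpre, hrange⟩ := Groth.Agent.GeomField.exists_etale_realising s V hV hsV k'
    haveI := hpre
    haveI : ConnectedSpace ↥((pullback.snd f g).fiber u) := h U g u hg hu
    haveI : ConnectedSpace ↥((pullback.snd f g) ⁻¹' {u}) := ((pullback.snd f g).fiberHomeo u).connectedSpace_iff.1 this
    let p := pullback.fst (pullback.snd f g) φ
    have hr : Set.range p = (pullback.snd f g) ⁻¹' {u} := by rw [Scheme.Pullback.range_fst, hrange]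
    haveI : ConnectedSpace ↥(pullback (pullback.snd f g) φ) :=
      ((p.isEmbedding.toHomeomorph.trans (Homeomorph.setCongr hr)).connectedSpace_iff).2 ‹_›
    let b := Spec.map (CommRingCat.ofHom (algebraMap (S.residueField s) k'))
    let e : pullback (pullback.snd f g) φ ≅ pullback (f.fiberToSpecResidueField s) b :=
      pullbackLeftPullbackSndIso f g φ ≪≫ pullback.congrHom rfl hφ ≪≫
        (pullbackLeftPullbackSndIso f (S.fromSpecResidueField s) b).symm
    exact e.hom.homeomorph.connectedSpace_iff.1 inferInstance

end Groth.Agent.S1355
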