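import Groth.Statements.S13579
import Groth.Agent.DTenPro.Devissage
import Groth.Agent.H9Misc.DRingHomTensorKI
-- import your own Groth.Agent.* helpers here

set_option autoImplicit false
universe u
open CategoryTheory CategoryTheory.Limits MonoidalCategory
attribute [local instance] HasDerivedCategory.standard
open DTen Opposite MonoidalCategory

namespace Groth.Agent.S13579

lemma le_powIdeal (A : Type u) [CommRing A] [IsNoetherianRing A] (I : Ideal A) (l : List A)
    (hl : Ideal.span {a | a ∈ l} = I) (n : ℕ) :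
    ∃ m, n ≤ m ∧ I ^ (m + 1) ≤ DTenPro.powIdeal l n := by
  have h : I ≤ (DTenPro.powIdeal l n).radical := by
    rw [← hl]
    refine Ideal.span_le.2 fun a ha => ⟨n + 1, Ideal.subset_span ⟨a, ha, rfl⟩⟩
  obtain ⟨k, hk⟩ := Ideal.exists_pow_le_of_le_radical_of_fg h (IsNoetherian.noetherian I)
  exact ⟨n + k, Nat.le_add_right n k, (Ideal.pow_le_pow_right (by omega)).trans hk⟩

lemma powIdeal_le (A : Type u) [CommRing A] (I : Ideal A) (l : List A)
    (hl : Ideal.span {a | a ∈ l} = I) (n : ℕ) :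
    DTenPro.powIdeal l n ≤ (I ^ (n + 1) • ⊤ : Submodule A (ModuleCat.of A A)) := by
  refine Ideal.span_le.2 ?_
  rintro x ⟨a, ha, rfl⟩
  have : a ^ (n + 1) ∈ I ^ (n + 1) := Ideal.pow_mem_pow (hl ▸ Ideal.subset_span ha) _
  show a ^ (n + 1) ∈ (I ^ (n + 1) • ⊤ : Submodule A A)
  rwa [smul_eq_mul, Ideal.mul_top]

/-- `A/(l^(n+1)) → A/I^(n+1)`. -/
noncomputable def ρapp (A : Type u) [CommRing A] (I : Ideal A) (l : List A)
    (hl : Ideal.span {a | a ∈ l} = I) (n : ℕ) :
    (DTenPro.qTower l).obj (op n) ⟶ (CohIII.adicSystem I (ModuleCat.of A A)).obj (op n) :=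
  ModuleCat.ofHom (Submodule.factor (powIdeal_le A I l hl n))

lemma epi_ρapp (A : Type u) [CommRing A] (I : Ideal A) (l : List A)
    (hl : Ideal.span {a | a ∈ l} = I) (n : ℕ) : Epi (ρapp A I l hl n) := by
  rw [ModuleCat.epi_iff_surjective]
  intro x
  obtain ⟨a, rfl⟩ := Submodule.mkQ_surjective _ x
  exact ⟨Submodule.Quotient.mk a, rfl⟩

/-- The comparison of the two towers. -/
noncomputable def ρ (A : Type u) [CommRing A] (I : Ideal A) (l : List A)
    (hl : Ideal.span {a | a ∈ l} = I) : DTenPro.qTower l ⟶ CohIII.adicSystem I (ModuleCat.of A A) :=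
  NatTrans.ofOpSequence (ρapp A I l hl) fun n => by
    unfold CohIII.adicSystem
    rw [Functor.ofOpSequence_map_homOfLE_succ]
    refine ModuleCat.hom_ext (LinearMap.ext fun x => ?_)
    obtain ⟨a, rfl⟩ := Submodule.mkQ_surjective _ x
    rfl

lemma proIso_ρ (A : Type u) [CommRing A] [IsNoetherianRing A] (I : Ideal A) (l : List A)
    (hl : Ideal.span {a | a ∈ l} = I) : DerCA.IsProIso (ρ A I l hl) := by
  intro n
  obtain ⟨m, hm, hle⟩ := le_powIdeal A I l hl n
  have hle' : (I ^ (m + 1) • ⊤ : Submodule A A) ≤ DTenPro.powIdeal l n := by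
    rw [smul_eq_mul, Ideal.mul_top]
    exact hle
  let b : (CohIII.adicSystem I (ModuleCat.of A A)).obj (op m) ⟶ (DTenPro.qTower l).obj (op n) :=
    ModuleCat.ofHom (Submodule.factor hle')
  have h1 : (ρ A I l hl).app (op m) ≫ b = ARSys.tr (DTenPro.qTower l) hm := by
    refine ModuleCat.hom_ext (LinearMap.ext fun x => ?_)
    obtain ⟨a, rfl⟩ := Submodule.mkQ_surjective _ x
    rfl
  refine ⟨m, hm, b, h1, ?_⟩
  haveI : Epi ((ρ A I l hl).app (op m)) := epi_ρapp A I l hl m
  rw [← cancel_epi ((ρ A I l hl).app (op m)), ← Category.assoc, h1]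
  exact Groth.Agent.TowerLib.EssConst.tr_nat (ρ A I l hl) hm

lemma isKFlat_kTower (A : Type u) [CommRing A] (n : ℕᵒᵖ) :
    ∀ l : List A, KFlatLib.KFlat (curriedTensor (ModuleCat.{u} A)) ((DTenPro.kTower l).obj n)
  | [] => H9Misc.DRingHomCx.isKF_single (ModuleCat.of A A)
  | _ :: l => KFlatLib.kFlat_cone _ (isKFlat_kTower A n l) (isKFlat_kTower A n l)
/-- Let `A` be a Noetherian commutative ring (the derived tensor product on `D(A)` being assumed to
exist and to be computed by K-flat complexes), `I` an ideal and `K` a bounded cochain complex of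
finite `A`-modules. Then the inverse system of canonical morphisms `K ⊗^L_A A/I^{n+1} ⟶ K/I^{n+1}K`
in `D(A)` is an isomorphism of pro-objects. Here `K/I^{n+1}K` is written as the plain tensor product
complex `K ⊗_A (A/I^{n+1})[0]`, to which it is canonically isomorphic, and the morphisms are the
canonical maps from the derived to the plain tensor product. -/
theorem result (A : Type u) [CommRing A] [IsNoetherianRing A]
    [DTen.HasLTen A] [DTen.KFlatComputes A] (I : Ideal A) (K : DRing.Cx A) (a b : ℤ) (hK : DRing.VanishesOutside K a b)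
    (hKf : ∀ i : ℤ, Module.Finite A (K.X i)) :
    DerCA.IsProIso (Functor.whiskerLeft
      (CohIII.adicSystem I (ModuleCat.of A A) ⋙ HomologicalComplex.single (ModuleCat.{u} A) (ComplexShape.up ℤ) 0)
      (DTen.εLeft A K)) := by
  obtain ⟨s, hs⟩ := IsNoetherian.noetherian I
  let l : List A := s.toList
  have hl : Ideal.span {a | a ∈ l} = I := by simpa [l] using hs
  let κ : DTenPro.kTower l ⟶ CohIII.adicSystem I (ModuleCat.of A A) ⋙ DTenPro.S0 :=
    DTenPro.aug l ≫ Functor.whiskerRight (ρ A I l hl) DTenPro.S0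
  have hκ : DerCA.IsProIso (Functor.whiskerRight κ DerivedCategory.Q) := by
    rw [Functor.whiskerRight_comp]
    refine DTenPro.proIso_comp ?_ (DTenPro.proIso_map (DTenPro.S0 ⋙ DerivedCategory.Q) (proIso_ρ A I l hl))
    exact DTenPro.proIso_natIso
      (Functor.isoWhiskerRight (Functor.mapHomologicalComplexIdIso _ (ComplexShape.up ℤ)) DerivedCategory.Q)
      (DTenPro.proIso_aug (𝟭 (ModuleCat.{u} A)) (fun J => inferInstanceAs (Module.Finite A (A ⧸ J))) l)
  have hX : DerCA.IsProIso (Functor.whiskerRight κ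
      (DerivedCategory.Q ⋙ (DTen.LTen A).obj (DerivedCategory.Q.obj K))) :=
    DTenPro.proIso_map ((DTen.LTen A).obj (DerivedCategory.Q.obj K)) hκ
  obtain ⟨d, hd⟩ : ∃ d : ℕ, DRing.VanishesOutside K a (a + d - 1) :=
    ⟨(b - a + 1).toNat, fun i hi => hK i (by omega)⟩
  let e : DTenPro.tL K ≅ tensorLeft K := NatIso.ofComponents (fun _ => Iso.refl _)
    (fun _ => (Category.comp_id _).trans (Category.id_comp _).symm)
  have hG : DerCA.IsProIso (Functor.whiskerRight κ (tensorLeft K ⋙ DerivedCategory.Q)) := by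
    refine DTenPro.proIso_natIso (Functor.isoWhiskerRight e DerivedCategory.Q) ?_
    rw [Functor.whiskerRight_comp]
    exact DTenPro.proIso_comp (DTenPro.good_bounded l a d K hd hKf)
      (DTenPro.proIso_map (DTenPro.S0 ⋙ DTenPro.tL K ⋙ DerivedCategory.Q) (proIso_ρ A I l hl))
  have hP : DerCA.IsProIso (Functor.whiskerLeft (DTenPro.kTower l) (DTen.εLeft A K)) :=
    DTenPro.proIso_of_isIso _ fun n =>
      DTen.KFlatComputes.isIso_counit K _ (Or.inr (isKFlat_kTower A (op n) l))
  refine DTenPro.proIso_of_comp_left hX ?_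
  have sq : Functor.whiskerRight κ (DerivedCategory.Q ⋙ (DTen.LTen A).obj (DerivedCategory.Q.obj K)) ≫
      Functor.whiskerLeft (CohIII.adicSystem I (ModuleCat.of A A) ⋙ DTenPro.S0) (DTen.εLeft A K) =
      Functor.whiskerLeft (DTenPro.kTower l) (DTen.εLeft A K) ≫
        Functor.whiskerRight κ (tensorLeft K ⋙ DerivedCategory.Q) := by
    ext n
    exact (DTen.εLeft A K).naturality (κ.app n)
  exact sq ▸ DTenPro.proIso_comp hP hG


end Groth.Agent.S13579
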