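import Groth.Statements.S13578
import Groth.Agent.S13579
import Groth.Agent.KFlatLib.Ring.Resolution
-- import your own Groth.Agent.* helpers here

set_option autoImplicit false
universe u
open CategoryTheory CategoryTheory.Limits MonoidalCategory
attribute [local instance] HasDerivedCategory.standard
open DTen Opposite MonoidalCategory

namespace Groth.Agent.S13578

lemma hom_zero_of_smul {A : Type u} [CommRing A] (J : Ideal A) {M : Type u} [AddCommGroup M] [Module A M]
    (T : ModuleCat.{u} A) (hT : ∀ a ∈ J, a • 𝟙 T = 0) (h : ModuleCat.of A M ⟶ T) :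
    ModuleCat.ofHom (J • (⊤ : Submodule A M)).subtype ≫ h = 0 := by
  refine ModuleCat.hom_ext (LinearMap.ext fun x => ?_)
  show h.hom (x : M) = 0
  refine Submodule.smul_induction_on x.2 (fun a ha y _ => ?_) (fun y z hy hz => ?_)
  · rw [map_smul]
    exact LinearMap.congr_fun (congrArg ModuleCat.Hom.hom (hT a ha)) (h.hom y)
  · rw [map_add, hy, hz, add_zero]

lemma smul_single_tensor {A : Type u} [CommRing A] (M N : ModuleCat.{u} A) (a : A) (ha : a • 𝟙 N = 0) :
    a • 𝟙 ((DTenPro.tL (DTenPro.S0.obj M)).obj (DTenPro.S0.obj N)) = 0 := by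
  let e : DTenPro.tL (DTenPro.S0.obj M) ≅ DTenPro.GF (tensorRight M) :=
    (KFlatLib.symmIso KFlatLib.curriedTensorFlipIso (DTenPro.S0.obj M)).symm ≪≫
      KFlatLib.singleIso (curriedTensor (ModuleCat.{u} A)) M
  have h : a • 𝟙 ((DTenPro.GF (tensorRight M)).obj (DTenPro.S0.obj N)) = 0 := by
    have hh : (DTenPro.GF (tensorRight M)).map (DTenPro.S0.map (a • 𝟙 N)) = 0 := by
      rw [ha, Functor.map_zero, Functor.map_zero]
    rwa [DTenPro.S0_map_smul, Functor.map_smul, CategoryTheory.Functor.map_id,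
      CategoryTheory.Functor.map_id] at hh
  rw [← (e.app (DTenPro.S0.obj N)).hom_inv_id, ← Linear.comp_smul, ← Category.id_comp (e.app (DTenPro.S0.obj N)).inv,
    ← Linear.smul_comp, h, zero_comp, comp_zero]

/-- Let `A` be a Noetherian commutative ring (the derived tensor product on `D(A)` being assumed to
exist and to be computed by K-flat complexes), `I` an ideal and `M` a finite `A`-module. Then there
is an integer `n > 0` such that the inclusion `I^n M ⟶ M`, viewed in `D(A)` in degree `0`, factors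
through the canonical morphism `I ⊗^L M ⟶ M` (the map `I ⊗^L M ⟶ A ⊗^L M` induced by `I ⊆ A`,
followed by the unit isomorphism). -/
theorem result (A : Type u) [CommRing A] [IsNoetherianRing A]
    [DTen.HasLTen A] [DTen.KFlatComputes A] (I : Ideal A) (M : Type u) [AddCommGroup M] [Module A M]
    [Module.Finite A M] :
    ∃ (n : ℕ) (_ : 0 < n)
      (g : DerivedCategory.Q.obj ((HomologicalComplex.single (ModuleCat.{u} A) (ComplexShape.up ℤ) 0).obj
              (ModuleCat.of A ↥(I ^ n • (⊤ : Submodule A M)))) ⟶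
            (DTen.LTen₂ A).obj (DerivedCategory.Q.obj ((HomologicalComplex.single (ModuleCat.{u} A) (ComplexShape.up ℤ) 0).obj
              (ModuleCat.of A ↥I)),
              DerivedCategory.Q.obj ((HomologicalComplex.single (ModuleCat.{u} A) (ComplexShape.up ℤ) 0).obj
              (ModuleCat.of A M)))),
      g ≫ (DTen.LTen₂ A).map (Prod.mkHom
              (DerivedCategory.Q.map ((HomologicalComplex.single (ModuleCat.{u} A) (ComplexShape.up ℤ) 0).map
                (ModuleCat.ofHom I.subtype)))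
              (𝟙 _)) ≫
          (DTen.unitL A).app (DerivedCategory.Q.obj ((HomologicalComplex.single (ModuleCat.{u} A) (ComplexShape.up ℤ) 0).obj
              (ModuleCat.of A M))) =
        DerivedCategory.Q.map ((HomologicalComplex.single (ModuleCat.{u} A) (ComplexShape.up ℤ) 0).map
          (ModuleCat.ofHom (I ^ n • (⊤ : Submodule A M)).subtype)) := by
  let S := DTenPro.S0 (A := A)
  let MM := ModuleCat.of A M
  let SM := S.obj MM
  let AA := ModuleCat.of A A
  let Y : ℕᵒᵖ ⥤ ModuleCat.{u} A := CohIII.adicSystem I AA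
  let F := (DTen.LTen A).obj (DerivedCategory.Q.obj SM)
  -- pro-isomorphism
  have hpro := Groth.Agent.S13579.result A I SM 0 0
    (fun i hi => HomologicalComplex.isZero_single_obj_X _ _ _ _ (by omega)) (fun i => by
      rcases eq_or_ne i 0 with rfl | hi
      · exact Module.Finite.equiv (HomologicalComplex.singleObjXSelf (ComplexShape.up ℤ) 0 MM).toLinearEquiv.symm
      · haveI : Subsingleton (SM.X i) :=
          ModuleCat.subsingleton_of_isZero (HomologicalComplex.isZero_single_obj_X _ _ _ _ hi)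
        infer_instance)
  obtain ⟨m, hm, b, hb, -⟩ := hpro 0
  refine ⟨m + 1, Nat.succ_pos m, ?_⟩
  let q : ∀ j : ℕ, AA ⟶ Y.obj (op j) := fun j => ModuleCat.ofHom (Submodule.mkQ _)
  have hY : ∀ j (a : A), a ∈ I ^ (j + 1) → a • 𝟙 (Y.obj (op j)) = 0 := fun j a ha => by
    refine ModuleCat.hom_ext (LinearMap.ext fun x => ?_)
    obtain ⟨c, rfl⟩ := Submodule.mkQ_surjective _ x
    show a • (Submodule.Quotient.mk c : A ⧸ (I ^ (j + 1) • ⊤ : Submodule A A)) = 0
    rw [← Submodule.Quotient.mk_smul, Submodule.Quotient.mk_eq_zero]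
    exact Submodule.smul_mem_smul ha trivial
  -- a flat resolution
  haveI := (KFlatLib.ringCover A).quasiIso_ψ SM
  let P := (KFlatLib.ringCover A).P.obj SM
  let η : P ⟶ SM := (KFlatLib.ringCover A).ψ.app SM
  have hP : KFlatLib.KFlat (curriedTensor (ModuleCat.{u} A)) P := KFlatLib.kFlat_ringRes SM
  haveI : IsIso (DerivedCategory.Q.map η) := (DerivedCategory.isIso_Q_map_iff_quasiIso _ _).2 inferInstance
  -- the exact sequence `I → A → A/I`
  have hz : ModuleCat.ofHom I.subtype ≫ q 0 = 0 := by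
    refine ModuleCat.hom_ext (LinearMap.ext fun x => ?_)
    show (Submodule.Quotient.mk (x : A) : A ⧸ (I ^ (0 + 1) • ⊤ : Submodule A A)) = 0
    rw [Submodule.Quotient.mk_eq_zero, smul_eq_mul, Ideal.mul_top, zero_add, pow_one]
    exact x.2
  let T : ShortComplex (ModuleCat.{u} A) := ShortComplex.mk _ _ hz
  have hT : T.ShortExact :=
    { exact := by
        rw [ShortComplex.moduleCat_exact_iff]
        intro x hx
        have h : (x : A) ∈ (I ^ (0 + 1) • ⊤ : Submodule A A) := (Submodule.Quotient.mk_eq_zero _).1 hx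
        rw [smul_eq_mul, Ideal.mul_top, zero_add, pow_one] at h
        exact ⟨⟨x, h⟩, rfl⟩
      mono_f := (ModuleCat.mono_iff_injective _).2 Subtype.val_injective
      epi_g := (ModuleCat.epi_iff_surjective _).2 (Submodule.mkQ_surjective _) }
  let G := (curriedTensor (ModuleCat.{u} A)).map₂CochainComplex.obj P
  have hS : ((T.map S).map G).ShortExact := KFlatLib.shortExact₂ (curriedTensor (ModuleCat.{u} A)) P (T.map S) fun p q => by
    haveI : Module.Flat A (P.X p) := (KFlatLib.ringCover A).flat_P SM p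
    exact ((hT.map_of_exact S).map_of_exact (HomologicalComplex.eval _ (ComplexShape.up ℤ) q)).map_of_exact
      (tensorLeft (P.X p))
  -- comparison isomorphisms
  have hεP : ∀ L : DRing.Cx A, IsIso ((DTen.ε A).app (P, L)) := fun L =>
    DTen.KFlatComputes.isIso_counit P L (Or.inl hP)
  haveI : IsIso ((DTen.ε A).app (𝟙_ (DRing.Cx A), SM)) :=
    DTen.KFlatComputes.isIso_counit _ _ (Or.inl (H9Misc.DRingHomCx.isKF_single AA))
  haveI : IsIso ((DTen.ε A).app (SM, 𝟙_ (DRing.Cx A))) :=
    DTen.KFlatComputes.isIso_counit _ _ (Or.inr (H9Misc.DRingHomCx.isKF_single AA))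
  let v : SM ⊗ 𝟙_ (DRing.Cx A) ≅ SM := DTen.braidCx SM (𝟙_ (DRing.Cx A)) ≪≫ λ_ SM
  let W : F.obj (DerivedCategory.Q.obj (S.obj AA)) ⟶ DerivedCategory.Q.obj SM :=
    (DTen.symm A).app (DerivedCategory.Q.obj (𝟙_ (DRing.Cx A)), DerivedCategory.Q.obj SM) ≫
      (DTen.unitL A).app (DerivedCategory.Q.obj SM)
  have hW : W = (DTen.ε A).app (SM, 𝟙_ (DRing.Cx A)) ≫ DerivedCategory.Q.map v.hom := by
    refine (congrArg (_ ≫ ·) (DTen.unitL_app A SM)).trans ?_
    refine ((Category.assoc _ _ _).symm.trans (congrArg (· ≫ _) (DTen.symm_fac A (𝟙_ (DRing.Cx A)) SM))).trans ?_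
    exact (Category.assoc _ _ _).trans (congrArg (_ ≫ ·) (DerivedCategory.Q.map_comp _ _).symm)
  let i : S.obj (ModuleCat.of A ↥(I ^ (m + 1) • (⊤ : Submodule A M))) ⟶ SM :=
    S.map (ModuleCat.ofHom (I ^ (m + 1) • (⊤ : Submodule A M)).subtype)
  let φ : DerivedCategory.Q.obj (S.obj (ModuleCat.of A ↥(I ^ (m + 1) • (⊤ : Submodule A M)))) ⟶
      F.obj (DerivedCategory.Q.obj (S.obj AA)) :=
    DerivedCategory.Q.map (i ≫ v.inv) ≫ inv ((DTen.ε A).app (SM, 𝟙_ (DRing.Cx A)))
  have hφW : φ ≫ W = DerivedCategory.Q.map i := by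
    rw [hW]
    refine (Category.assoc _ _ _).trans ((congrArg (_ ≫ ·) (IsIso.inv_hom_id_assoc _ _)).trans ?_)
    rw [← DerivedCategory.Q.map_comp, Category.assoc, v.inv_hom_id, Category.comp_id]
  -- vanishing
  have hφq : φ ≫ F.map (DerivedCategory.Q.map (S.map (q 0))) = 0 := by
    have e1 : q m ≫ ARSys.tr Y hm = q 0 := by
      refine Eq.trans ?_ (rfl : q 0 = q 0)
      exact (show ∀ (j : ℕ) (hj : 0 ≤ j), q j ≫ ARSys.tr Y hj = q 0 by
        intro j
        induction j with
        | zero => exact fun hj => (congrArg (q 0 ≫ ·) (TowerLib.EssConst.tr_refl Y 0)).trans (Category.comp_id _)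
        | succ j ih =>
          intro hj
          rw [← TowerLib.EssConst.tr_comp Y (Nat.zero_le j) (Nat.le_succ j), ← Category.assoc]
          have hs : q (j + 1) ≫ ARSys.tr Y (Nat.le_succ j) = q j := by
            have hh : Y.map (homOfLE (Nat.le_succ j)).op = ModuleCat.ofHom (Submodule.factor
                (Submodule.smul_mono_left (Ideal.pow_le_pow_right (Nat.le_succ (j + 1))))) := by
              show (CohIII.adicSystem I AA).map (homOfLE (Nat.le_add_right j 1)).op = _
              unfold CohIII.adicSystem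
              rw [Functor.ofOpSequence_map_homOfLE_succ]
            refine (congrArg (q (j + 1) ≫ ·) hh).trans ?_
            exact ModuleCat.hom_ext (LinearMap.ext fun x => rfl)
          rw [hs]
          exact ih (Nat.zero_le j)) m hm
    have hb' : (DTen.ε A).app (SM, S.obj (Y.obj (op m))) ≫ b =
        F.map (DerivedCategory.Q.map (S.map (ARSys.tr Y hm))) := hb
    have e2 : F.map (DerivedCategory.Q.map (S.map (q 0))) = (DTen.ε A).app (SM, S.obj AA) ≫
        DerivedCategory.Q.map (SM ◁ S.map (q m)) ≫ b := by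
      have nat := (DTen.εLeft A SM).naturality (S.map (q m))
      rw [show q 0 = q m ≫ ARSys.tr Y hm from e1.symm, S.map_comp, DerivedCategory.Q.map_comp, F.map_comp,
        ← hb', ← Category.assoc]
      exact (congrArg (· ≫ b) nat).trans (Category.assoc _ _ _)
    rw [e2]
    refine (Category.assoc _ _ _).trans ((congrArg (_ ≫ ·) (IsIso.inv_hom_id_assoc _ _)).trans ?_)
    refine (Category.assoc _ _ _).symm.trans ((congrArg (· ≫ b) (DerivedCategory.Q.map_comp _ _).symm).trans ?_)
    have hzero : (i ≫ v.inv) ≫ (SM ◁ S.map (q m)) = 0 := by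
      rw [Category.assoc]
      apply HomologicalComplex.from_single_hom_ext
      rw [HomologicalComplex.comp_f, HomologicalComplex.zero_f]
      erw [HomologicalComplex.single_map_f_self]
      rw [Category.assoc, Category.assoc]
      have hT' : ∀ a ∈ I ^ (m + 1), a • 𝟙 ((SM ⊗ S.obj (Y.obj (op m))).X 0) = 0 := fun a ha => by
        have h := congrArg (fun z => HomologicalComplex.Hom.f z 0) (smul_single_tensor MM (Y.obj (op m)) a (hY m a ha))
        exact h
      rw [hom_zero_of_smul (I ^ (m + 1)) _ hT']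
      exact comp_zero
    rw [hzero, Functor.map_zero, zero_comp]
  -- lift through the triangle
  let ζ : F.obj (DerivedCategory.Q.obj (S.obj AA)) ≅ DerivedCategory.Q.obj (G.obj (S.obj AA)) :=
    (((DTen.LTen A).mapIso (asIso (DerivedCategory.Q.map η))).app _).symm ≪≫
      @asIso _ _ _ _ ((DTen.ε A).app (P, S.obj AA)) (hεP _)
  have hψ : (φ ≫ ζ.hom) ≫ DerivedCategory.Q.map (G.map (S.map (q 0))) = 0 := by
    have e : (ζ.hom ≫ DerivedCategory.Q.map (G.map (S.map (q 0)))) =
        F.map (DerivedCategory.Q.map (S.map (q 0))) ≫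
          (((DTen.LTen A).mapIso (asIso (DerivedCategory.Q.map η))).app _).inv ≫
            (DTen.ε A).app (P, S.obj (Y.obj (op 0))) := by
      refine (Category.assoc _ _ _).trans ((congrArg (_ ≫ ·) ((DTen.εLeft A P).naturality (S.map (q 0))).symm).trans ?_)
      refine (Category.assoc _ _ _).symm.trans (Eq.trans ?_ (Category.assoc _ _ _))
      exact congrArg (· ≫ _) (((DTen.LTen A).mapIso (asIso (DerivedCategory.Q.map η))).inv.naturality _).symm
    refine (Category.assoc _ _ _).trans ((congrArg (φ ≫ ·) e).trans ?_)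
    exact (Category.assoc _ _ _).symm.trans ((congrArg (· ≫ _) hφq).trans zero_comp)
  obtain ⟨g₀, hg₀⟩ := Pretriangulated.Triangle.coyoneda_exact₂ _
    (DerivedCategory.triangleOfSES_distinguished hS) (φ ≫ ζ.hom) hψ
  let SI := S.obj (ModuleCat.of A ↥I)
  haveI := hεP SI
  let g₁ : DerivedCategory.Q.obj (S.obj (ModuleCat.of A ↥(I ^ (m + 1) • (⊤ : Submodule A M)))) ⟶
      F.obj (DerivedCategory.Q.obj SI) :=
    g₀ ≫ (@asIso _ _ _ _ ((DTen.ε A).app (P, SI)) (hεP SI)).inv ≫ ((DTen.LTen A).map (DerivedCategory.Q.map η)).app _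
  have hg₁ : g₁ ≫ F.map (DerivedCategory.Q.map (S.map (ModuleCat.ofHom I.subtype))) = φ := by
    have hg₀' : φ ≫ ζ.hom = g₀ ≫ DerivedCategory.Q.map (G.map (S.map (ModuleCat.ofHom I.subtype))) := hg₀
    refine Eq.trans ?_ ((congrArg (· ≫ ζ.inv) hg₀').symm.trans ((Category.assoc _ _ _).trans
      ((congrArg (φ ≫ ·) ζ.hom_inv_id).trans (Category.comp_id _))))
    rw [Category.assoc, Category.assoc, Category.assoc]
    refine congrArg (g₀ ≫ ·) ?_
    rw [Iso.inv_comp_eq]
    refine (((DTen.LTen A).map (DerivedCategory.Q.map η)).naturality _).symm.trans ?_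
    refine Eq.trans ?_ (Category.assoc _ _ _)
    refine Eq.trans ?_ (congrArg (· ≫ ζ.inv) ((DTen.εLeft A P).naturality (S.map (ModuleCat.ofHom I.subtype))))
    refine Eq.trans ?_ (Category.assoc _ _ _).symm
    exact congrArg (_ ≫ ·) (Iso.hom_inv_id_assoc (@asIso _ _ _ _ ((DTen.ε A).app (P, S.obj AA)) (hεP _)) _).symm
  refine ⟨g₁ ≫ (DTen.symm A).app (DerivedCategory.Q.obj SI, DerivedCategory.Q.obj SM), ?_⟩
  refine Eq.trans ?_ hφW
  rw [← hg₁]
  refine (Category.assoc _ _ _).trans ((congrArg (g₁ ≫ ·) ?_).trans (Category.assoc _ _ _).symm)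
  refine (Category.assoc _ _ _).symm.trans (Eq.trans ?_ (Category.assoc _ _ _))
  exact congrArg (· ≫ _) (((DTen.symm A).naturality
    (Prod.mkHom (DerivedCategory.Q.map (S.map (ModuleCat.ofHom I.subtype))) (𝟙 (DerivedCategory.Q.obj SM)))).symm)


end Groth.Agent.S13578
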