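import Groth.Statements.S13585
import Groth.Agent.ExtShX.Adjunction
import Groth.Agent.GrpOmega.Shear
-- import your own Groth.Agent.* helpers here

set_option autoImplicit false
set_option linter.style.haveILetI false
set_option backward.isDefEq.respectTransparency false
set_option backward.isDefEq.respectTransparency.types false
universe u
open CategoryTheory CategoryTheory.Limits AlgebraicGeometry
open Canon

namespace Groth.Agent.S13585

/-- Let `f : X ⟶ Y` and `g : Y ⟶ Z` be morphisms of schemes with `g` smooth of relative dimension `n`,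
and let `Γ : X ⟶ X ×_Z Y` be the graph of `f`. Then `Γ` is a regular immersion of codimension `n`,
and the top exterior power of its conormal sheaf is `f^* ω_{Y/Z}`, where `ω_{Y/Z} = Λ^n Ω_{Y/Z}`;
that is, the canonical sheaf of the immersion `Γ` is the dual of `f^* ω_{Y/Z}`. (This row takes `X`
locally Noetherian and `g` separated, so that the graph is a closed immersion and the criterion for
sections of smooth morphisms over a locally Noetherian base, through which the published proof goes,
applies; the published statement has arbitrary preschemes.) -/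
theorem result {X Y Z : Scheme.{u}} [IsLocallyNoetherian X]
    (f : X ⟶ Y) (g : Y ⟶ Z) (n : ℕ) [SmoothOfRelativeDimension n g] [IsSeparated g]
    (ωY : Y.Modules) (hω : Canon.IsTopDiff g n ωY) :
    RegImm.IsRegularImmersionOfCodim .regular n (pullback.lift (𝟙 X) f (Category.id_comp (f ≫ g))) ∧
      ExtPow.IsExtPow n (Omega.conormal (pullback.lift (𝟙 X) f (Category.id_comp (f ≫ g))))
        ((Scheme.Modules.pullback f).obj ωY) := by
  let p : pullback (f ≫ g) g ⟶ X := pullback.fst (f ≫ g) g
  let Γ : X ⟶ pullback (f ≫ g) g := pullback.lift (𝟙 X) f (Category.id_comp (f ≫ g))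
  have hΓp : Γ ≫ p = 𝟙 X := pullback.lift_fst _ _ _
  haveI := smoothOfRelativeDimension_isStableUnderBaseChange.{u} (n := n)
  haveI : SmoothOfRelativeDimension n p := MorphismProperty.pullback_fst (P := @SmoothOfRelativeDimension n) _ _ inferInstance
  haveI : Smooth p := SmoothOfRelativeDimension.smooth n p
  haveI : IsSeparated p := inferInstanceAs (IsSeparated (pullback.fst (f ≫ g) g))
  haveI : IsIso (Γ ≫ p) := hΓp ▸ inferInstance
  haveI : IsClosedImmersion (Γ ≫ p) := inferInstance
  haveI : IsClosedImmersion Γ := IsClosedImmersion.of_comp Γ p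
  haveI : SmoothOfRelativeDimension 0 (Γ ≫ p) := inferInstance
  refine ⟨Groth.Agent.ExtShX.regularOfCodim_smooth p Γ (n := n) (m := 0), ?_⟩
  obtain ⟨φ, c, w, hse⟩ := Groth.Agent.ExtShX.exists_conormal_shortExact p Γ
  have hz : IsZero (Omega.sheaf (Γ ≫ p)) := (Groth.Agent.OmegaUniv.isZero_iff (Γ ≫ p)).2 inferInstance
  haveI := hse.mono_f
  haveI : Epi φ := hse.exact.epi_f (hz.eq_of_tgt _ _)
  haveI : IsIso φ := isIso_of_mono_of_epi φ
  obtain ⟨b⟩ := Groth.Agent.GrpOmega.nonempty_omega_baseChange (IsPullback.of_hasPullback (f ≫ g) g).flip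
  have hcomp : Γ ≫ pullback.snd (f ≫ g) g = f := pullback.lift_snd _ _ _
  let e : Omega.conormal Γ ≅ (Scheme.Modules.pullback f).obj (Omega.sheaf g) :=
    asIso φ ≪≫ (Scheme.Modules.pullback Γ).mapIso b.symm ≪≫
      (Scheme.Modules.pullbackComp Γ (pullback.snd (f ≫ g) g)).app _ ≪≫
        (Scheme.Modules.pullbackCongr hcomp).app _
  exact Groth.Agent.ExtPowSh.isExtPow_source_iso e.symm
    (Groth.Agent.ExtPowSh.isExtPow_pullback f (Groth.Agent.OmegaUniv.isQCoh_omega g) hω)

end Groth.Agent.S13585
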