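import Groth.Statements.S13589
import Groth.Agent.RGammaI.InvGlobal
-- import your own Groth.Agent.* helpers here

set_option linter.style.haveILetI false
set_option backward.isDefEq.respectTransparency false

set_option autoImplicit false
universe u
open CategoryTheory CategoryTheory.Limits MonoidalCategory
attribute [local instance] HasDerivedCategory.standard
open DTen

namespace Groth.Agent.S13589

/-- Let `A` be a Noetherian commutative ring and `F` an `A`-linear triangulated equivalence from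
`D^b_{Coh}(A)` (the full subcategory of `D(A)` of objects with bounded cohomology consisting of
finite `A`-modules, a triangulated subcategory) to itself. Then `F(A)` is an invertible object of
`D(A)`: there is an object `L` with `F(A) ⊗^L L ≅ A` and `L ⊗^L F(A) ≅ A`. The membership of `A[0]`
in `D^b_{Coh}(A)` and the fact that this subcategory is triangulated are taken as (true) hypotheses.
(The published statement asks only for an `A`-linear equivalence of categories; this row takes the
equivalence compatible with shifts and distinguished triangles, which is what the published proof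
uses and how the result is applied.) -/
theorem result (A : Type u) [CommRing A]
    [IsNoetherianRing A] [DTen.HasLTen A] [DTen.KFlatComputes A]
    (P : ObjectProperty (Dual.D A))
    (hP : ∀ K : Dual.D A, P K ↔
      ((∀ i : ℤ, Module.Finite A (Dual.HD A K i)) ∧ ∃ a b : ℤ, ∀ i : ℤ, (i < a ∨ b < i) → Subsingleton (Dual.HD A K i)))
    [P.IsTriangulated]
    (F : P.FullSubcategory ⥤ P.FullSubcategory) [F.CommShift ℤ] [F.IsTriangulated] [F.IsEquivalence]
    [F.Additive] [F.Linear A]
    (hA : P (DTen.unit A)) :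
    DTen.IsInvertible A (F.obj ⟨DTen.unit A, hA⟩).obj := by
  let X₀ : P.FullSubcategory := ⟨DTen.unit A, hA⟩
  let Q := (F.obj X₀).obj
  obtain ⟨hfin, a, b, hab⟩ := (hP Q).1 (F.obj X₀).property
  haveI : Q.IsGE a := (DerivedCategory.isGE_iff _ _).2 fun i hi =>
    @ModuleCat.isZero_of_subsingleton _ _ _ (hab i (Or.inl hi))
  haveI : Q.IsLE b := (DerivedCategory.isLE_iff _ _).2 fun i hi =>
    @ModuleCat.isZero_of_subsingleton _ _ _ (hab i (Or.inr hi))
  have hvan : ∀ (Z : P.FullSubcategory) (j : ℤ), Subsingleton (Dual.HD A Z.obj j) →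
      Subsingleton (Q ⟶ ((F.obj Z).obj)⟦j⟧) := fun Z j hj => by
    obtain ⟨e₁⟩ := Groth.Agent.KFlatLib.exists_shiftHomLEquiv (DTen.unit A) Z.obj j
    obtain ⟨e₂⟩ := Groth.Agent.KFlatLib.exists_homUnitLEquiv (A := A) Z.obj (-j) j (by omega)
    haveI := (e₁.trans e₂).injective.subsingleton
    let g₁ : (X₀ ⟶ Z⟦j⟧) ≃ (DTen.unit A ⟶ Z.obj⟦j⟧) :=
      P.fullyFaithfulι.homEquiv.trans ((Iso.refl _).homCongr ((P.ι.commShiftIso j).app Z))
    haveI := g₁.subsingleton
    let g₂ : (X₀ ⟶ Z⟦j⟧) ≃ (F.obj X₀ ⟶ (F.obj Z)⟦j⟧) :=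
      (Functor.FullyFaithful.ofFullyFaithful F).homEquiv.trans ((Iso.refl _).homCongr ((F.commShiftIso j).app Z))
    haveI := g₂.symm.subsingleton
    let g₃ : (F.obj X₀ ⟶ (F.obj Z)⟦j⟧) ≃ (Q ⟶ ((F.obj Z).obj)⟦j⟧) :=
      P.fullyFaithfulι.homEquiv.trans ((Iso.refl _).homCongr ((P.ι.commShiftIso j).app (F.obj Z)))
    exact g₃.symm.subsingleton
  obtain ⟨hu₁, hu₂, ⟨eu⟩⟩ := Groth.Agent.KFlatLib.unit_bounds (A := A)
  refine Groth.Agent.RGammaI.InvGlobal.isInvertible Q a b hfin (fun i hi => hvan X₀ i ?_) ?_ fun m hm => ?_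
  · haveI := hu₁
    haveI := hu₂
    exact ModuleCat.subsingleton_of_isZero (hi.lt_or_gt.elim
      (fun h => DerivedCategory.isZero_of_isGE (DTen.unit A) 0 i h)
      (fun h => DerivedCategory.isZero_of_isLE (DTen.unit A) 0 i h))
  · obtain ⟨e⟩ := Groth.Agent.KFlatLib.exists_homUnitLEquiv (A := A) (DTen.unit A) 0 0 (by omega)
    have hb := Groth.Agent.KFlatLib.toEnd_bijective_of_linearEquiv (DTen.unit A)
      ((Linear.homCongr A ((shiftFunctorZero (Dual.D A) ℤ).app _).symm (Iso.refl _)).trans (e.trans eu))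
    have hb' := (((Functor.FullyFaithful.ofFullyFaithful F).homEquiv (X := X₀) (Y := X₀)).trans
      P.fullyFaithfulι.homEquiv).bijective.comp (P.fullyFaithfulι.homEquiv (X := X₀) (Y := X₀)).symm.bijective |>.comp hb
    convert hb' using 1
    funext x
    change x • 𝟙 Q = P.ι.map (F.map (P.fullyFaithfulι.preimage (x • P.ι.map (𝟙 X₀))))
    rw [show P.fullyFaithfulι.preimage (x • P.ι.map (𝟙 X₀)) = x • 𝟙 X₀ from P.ι.map_injective (by
      rw [Functor.FullyFaithful.map_preimage]; rfl), F.map_smul, CategoryTheory.Functor.map_id]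
    rfl
  · have hk : P (Dual.inD A (A ⧸ m)) := (hP _).2 ⟨fun i => ?_, 0, 0, fun i hi =>
      Groth.Agent.H9Misc.DRingTel.subsingleton_homology_inD (A := A) (A ⧸ m) (by omega)⟩
    · obtain ⟨Z, ⟨eZ⟩⟩ : ∃ Z, Nonempty (F.obj Z ≅ ⟨Dual.inD A (A ⧸ m), hk⟩) :=
        ⟨_, ⟨F.objObjPreimageIso _⟩⟩
      obtain ⟨-, c, d, hcd⟩ := (hP Z.obj).1 Z.property
      refine ⟨d, fun j hj => ?_⟩
      haveI : Subsingleton (Q ⟶ (shiftFunctor (Dual.D A) j).obj (P.ι.obj (F.obj Z))) := hvan Z j (hcd j (Or.inr hj))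
      exact ((Iso.refl Q).homCongr ((shiftFunctor (Dual.D A) j).mapIso (P.ι.mapIso eZ))).symm.subsingleton
    · by_cases hi : i = 0
      · subst hi
        exact Module.Finite.equiv (M := (A ⧸ m))
          ((DerivedCategory.singleFunctorCompHomologyFunctorIso (ModuleCat.{u} A) 0).app (ModuleCat.of A (A ⧸ m))).toLinearEquiv.symm
      · haveI : Subsingleton (Dual.HD A (Dual.inD A (A ⧸ m)) i) :=
          Groth.Agent.H9Misc.DRingTel.subsingleton_homology_inD (A := A) (A ⧸ m) hi
        exact Module.Finite.of_finite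

end Groth.Agent.S13589
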