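import Groth.Statements.S13601
import Groth.Agent.H9SymQ.Final

set_option backward.isDefEq.respectTransparency false
set_option backward.isDefEq.respectTransparency.types false
-- import your own Groth.Agent.* helpers here

set_option autoImplicit false
universe u
open CategoryTheory AlgebraicGeometry
open SymProd

namespace Groth.Agent.S13601

/-- Let f : X ⟶ S be a flat morphism of schemes such that every finite set of points of X lying over a
single point of S is contained in an affine open of X, let n ≥ 0, and let (Y, q, g) be an n-th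
symmetric power of X over S: q : X ×_S ⋯ ×_S X ⟶ Y (n factors) is a quotient by the symmetric group
on n letters permuting the factors (affine, invariant, identifying sections of O_Y with invariant
sections) and g : Y ⟶ S satisfies q ≫ g = the structure map of the fibre power. Then g is flat. -/
theorem result {X S Y : Scheme.{u}} (f : X ⟶ S) [Flat f]
    (hAF : SymProd.IsAF f) (n : ℕ) (q : SymProd.fibPow f n ⟶ Y) (g : Y ⟶ S)
    (hq : SymProd.IsSymProd f n q g) : Flat g := by
  haveI := hq.isQuot.affine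
  haveI := H9SymQ.flat_base f n
  choose S₀ hS₀ hyS hStop using fun y : Y =>
    exists_isAffineOpen_mem_and_subset (x := g y) (U := ⊤) trivial
  choose Y₀ hY₀ hyY hle0 using fun y : Y =>
    exists_isAffineOpen_mem_and_subset (x := y) (U := g ⁻¹ᵁ S₀ y) (hyS y)
  refine (IsZariskiLocalAtSource.iff_of_iSup_eq_top (P := @Flat) Y₀
    (eq_top_iff.2 fun y _ => TopologicalSpace.Opens.mem_iSup.2 ⟨y, hyY y⟩)).2 fun y => ?_
  haveI : Flat (g.resLE (S₀ y) (Y₀ y) (hle0 y)) := by
    haveI : IsAffine (S₀ y).toScheme := hS₀ y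
    haveI : IsAffine (Y₀ y).toScheme := hY₀ y
    rw [HasRingHomProperty.iff_of_isAffine (P := @Flat)]
    have hV : IsAffineOpen (q ⁻¹ᵁ Y₀ y) := (hY₀ y).preimage q
    have hVS := H9SymQ.preimage_le_baseOpen f n hq (hle0 y)
    letI algB : Algebra Γ(S, S₀ y) Γ(Y, Y₀ y) := (g.appLE (S₀ y) (Y₀ y) (hle0 y)).hom.toAlgebra
    letI algA := ((CategoryTheory.Limits.WidePullback.base (fun _ : Fin n => f)).appLE (S₀ y)
      (q ⁻¹ᵁ Y₀ y) hVS).hom.toAlgebra
    haveI : Module.Flat Γ(S, S₀ y) Γ(SymProd.fibPow f n, q ⁻¹ᵁ Y₀ y) :=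
      (CategoryTheory.Limits.WidePullback.base (fun _ : Fin n => f)).flat_appLE (hS₀ y) hV hVS
    let ι : Γ(Y, Y₀ y) →ₐ[Γ(S, S₀ y)] Γ(SymProd.fibPow f n, q ⁻¹ᵁ Y₀ y) :=
      { (q.appLE (Y₀ y) (q ⁻¹ᵁ Y₀ y) le_rfl).hom with
        commutes' := fun r => by
          show (q.appLE (Y₀ y) (q ⁻¹ᵁ Y₀ y) le_rfl).hom ((g.appLE (S₀ y) (Y₀ y) (hle0 y)).hom r) = _
          rw [← RingHom.comp_apply, ← CommRingCat.hom_comp, Scheme.Hom.appLE_comp_appLE]
          exact congr(($(SGA1Q.appLE_congr_hom hq.over _ _)).hom r) }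
    have hpure := H9SymQ.lTensor_invariants_injective f n (hS₀ y) hV
      (H9SymQ.preimage_stable f n hq) hVS Γ(Y, Y₀ y) ι
      (by
        have := hq.isQuot.injective (Y₀ y)
        rw [Scheme.Hom.app_eq_appLE] at this
        exact this)
      (fun g' b => by
        have := SGA1Q.appLE_app_of_inv hq.isQuot.inv (Y₀ y) g' b
        rw [Scheme.Hom.app_eq_appLE] at this
        exact this)
      (fun a ha => by
        obtain ⟨b, hb⟩ := (hq.isQuot.range_iff (Y₀ y) a).2 ha
        rw [Scheme.Hom.app_eq_appLE] at hb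
        exact ⟨b, hb⟩)
    have hflat : Module.Flat Γ(S, S₀ y) Γ(Y, Y₀ y) := by
      refine Module.Flat.iff_rTensor_preserves_injective_linearMap.2 fun M N _ _ _ _ j hj => ?_
      have h1 : Function.Injective (j.rTensor Γ(SymProd.fibPow f n, q ⁻¹ᵁ Y₀ y) ∘
          ι.toLinearMap.lTensor M) :=
        (Module.Flat.rTensor_preserves_injective_linearMap j hj).comp (hpure M)
      intro a b hab
      refine h1 ?_
      simp only [Function.comp_apply, ← LinearMap.comp_apply, LinearMap.rTensor_comp_lTensor,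
        ← LinearMap.lTensor_comp_rTensor]
      simp only [LinearMap.comp_apply, hab]
    have key : (g.appLE (S₀ y) (Y₀ y) (hle0 y)).hom.Flat := hflat
    rw [Scheme.Hom.appTop]; erw [Scheme.Hom.resLE_app_top]
    simp only [CommRingCat.hom_comp]
    exact RingHom.Flat.comp
      (RingHom.Flat.of_bijective (ConcreteCategory.bijective_of_isIso (S₀ y).topIso.hom))
      (RingHom.Flat.comp key
        (RingHom.Flat.of_bijective (ConcreteCategory.bijective_of_isIso (Y₀ y).topIso.inv)))
  have e : (Y₀ y).ι ≫ g = g.resLE (S₀ y) (Y₀ y) (hle0 y) ≫ (S₀ y).ι :=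
    (Scheme.Hom.resLE_comp_ι _ _).symm
  rw [e]
  infer_instance

end Groth.Agent.S13601
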