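import Groth.Statements.S13602
import Groth.Statements.S13602
import Groth.Agent.GrpdLib.InvOpen
import Mathlib.AlgebraicGeometry.Limits

set_option backward.isDefEq.respectTransparency false

set_option autoImplicit false
universe u
open CategoryTheory AlgebraicGeometry
open SymProd
open CategoryTheory.Limits

namespace Groth.Agent.S13602

open CategoryTheory CategoryTheory.Limits AlgebraicGeometry TopologicalSpace in
/-- A box of affine opens over an affine open in a fibre power is affine. -/
theorem isAffineOpen_box {X S : Scheme.{u}} (f : X ⟶ S) (d : ℕ) {U : X.Opens} (hU : IsAffineOpen U)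
    {V : S.Opens} (hV : IsAffineOpen V) (hle : U ≤ f ⁻¹ᵁ V) (W : (SymProd.fibPow f d).Opens)
    (hWV : ∀ p ∈ W, WidePullback.base (fun _ : Fin d => f) p ∈ V)
    (hWU : ∀ p ∈ W, ∀ i, WidePullback.π (fun _ : Fin d => f) i p ∈ U)
    (hW : ∀ p, WidePullback.base (fun _ : Fin d => f) p ∈ V →
      (∀ i, WidePullback.π (fun _ : Fin d => f) i p ∈ U) → p ∈ W) : IsAffineOpen W := by
  haveI : IsAffine U.toScheme := hU
  haveI : IsAffine V.toScheme := hV
  let g : U.toScheme ⟶ V.toScheme := f.resLE V U hle
  let P := widePullback V.toScheme (fun _ : Fin d => U.toScheme) (fun _ => g)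
  haveI : IsAffine P := by
    let D := WidePullbackShape.wideCospan V.toScheme (fun _ : Fin d => U.toScheme) (fun _ => g)
    haveI : ∀ i, IsAffine (D.obj i) := by
      rintro (_ | i)
      exacts [hV, hU]
    exact Scheme.isAffine_of_isLimit (limit.cone D) (limit.isLimit D)
  let q : P ⟶ SymProd.fibPow f d := WidePullback.lift (WidePullback.base _ ≫ V.ι)
    (fun i => WidePullback.π _ i ≫ U.ι) (fun i => by
      rw [Category.assoc, ← Scheme.Hom.resLE_comp_ι f hle, ← Category.assoc]
      exact congrArg (· ≫ V.ι) (WidePullback.π_arrow (fun _ : Fin d => g) i))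
  have hqπ : ∀ i, q ≫ WidePullback.π _ i = WidePullback.π _ i ≫ U.ι := fun i => WidePullback.lift_π _ _ _ _ i
  have hqb : q ≫ WidePullback.base _ = WidePullback.base _ ≫ V.ι := WidePullback.lift_base _ _ _ _
  have hq : Set.range q ⊆ Set.range W.ι := by
    rintro _ ⟨p, rfl⟩
    rw [Scheme.Opens.range_ι]
    refine hW _ ?_ fun i => ?_
    · rw [← Scheme.Hom.comp_apply, hqb, Scheme.Hom.comp_apply]
      exact (WidePullback.base (fun _ : Fin d => g) p).2
    · rw [← Scheme.Hom.comp_apply, hqπ i, Scheme.Hom.comp_apply]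
      exact (WidePullback.π (fun _ : Fin d => g) i p).2
  let q' := IsOpenImmersion.lift W.ι q hq
  have hq' : q' ≫ W.ι = q := IsOpenImmersion.lift_fac _ _ _
  have hb : Set.range (W.ι ≫ WidePullback.base (fun _ : Fin d => f)) ⊆ Set.range V.ι := by
    rintro _ ⟨p, rfl⟩
    rw [Scheme.Opens.range_ι, Scheme.Hom.comp_apply]
    exact hWV _ p.2
  have hu : ∀ i, Set.range (W.ι ≫ WidePullback.π (fun _ : Fin d => f) i) ⊆ Set.range U.ι := by
    rintro i _ ⟨p, rfl⟩
    rw [Scheme.Opens.range_ι, Scheme.Hom.comp_apply]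
    exact hWU _ p.2 i
  let r : W.toScheme ⟶ P := WidePullback.lift (IsOpenImmersion.lift V.ι _ hb)
    (fun i => IsOpenImmersion.lift U.ι _ (hu i)) (fun i => by
      rw [← cancel_mono V.ι, Category.assoc, Scheme.Hom.resLE_comp_ι, IsOpenImmersion.lift_fac_assoc,
        IsOpenImmersion.lift_fac, Category.assoc, WidePullback.π_arrow])
  have hrπ : ∀ i, r ≫ WidePullback.π _ i ≫ U.ι = W.ι ≫ WidePullback.π _ i := fun i => by
    rw [WidePullback.lift_π_assoc, IsOpenImmersion.lift_fac]
  have hrb : r ≫ WidePullback.base _ ≫ V.ι = W.ι ≫ WidePullback.base _ := by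
    rw [WidePullback.lift_base_assoc, IsOpenImmersion.lift_fac]
  have h1 : r ≫ q' = 𝟙 _ := by
    rw [← cancel_mono W.ι, Category.assoc, hq', Category.id_comp]
    refine WidePullback.hom_ext _ _ _ (fun i => ?_) ?_
    · rw [Category.assoc, hqπ, hrπ]
    · rw [Category.assoc, hqb, hrb]
  have h2 : q' ≫ r = 𝟙 _ := by
    refine WidePullback.hom_ext _ _ _ (fun i => ?_) ?_
    · rw [← cancel_mono U.ι, Category.assoc, Category.assoc, hrπ, ← Category.assoc, hq', hqπ, Category.id_comp]
    · rw [← cancel_mono V.ι, Category.assoc, Category.assoc, hrb, ← Category.assoc, hq', hqb, Category.id_comp]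
  haveI : IsIso r := ⟨q', h1, h2⟩
  exact IsAffine.of_isIso r

/-- Let f : X ⟶ S be a morphism of schemes satisfying (AF): every finite set of points of X over a
single point of S lies in an affine open of X. Then for every d ≥ 0 and every point x of the d-fold
fibre power X ×_S ⋯ ×_S X, some affine open of the fibre power contains the whole orbit of x under
the symmetric group on d letters permuting the factors. (With the existence of a quotient by a
finite group whose orbits lie in affine opens, this is the existence of the symmetric power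
Sym^d(X/S) for X/S satisfying (AF).) -/
theorem result {X S : Scheme.{u}} (f : X ⟶ S) (hAF : SymProd.IsAF f)
    (d : ℕ) (x : ↥(SymProd.fibPow f d)) :
    ∃ U : (SymProd.fibPow f d).Opens, IsAffineOpen U ∧
      ∀ σ : Equiv.Perm (Fin d), (SymProd.permHom f d σ).base x ∈ U := by
  classical
  let s := WidePullback.base (fun _ : Fin d => f) x
  let T : Finset X := Finset.univ.image fun i => WidePullback.π (fun _ : Fin d => f) i x
  have hT : ∀ i, f (WidePullback.π (fun _ : Fin d => f) i x) = s := fun i => by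
    rw [← Scheme.Hom.comp_apply, WidePullback.π_arrow]
  obtain ⟨U, hU, hTU⟩ := hAF s T (by
    intro y hy
    obtain ⟨i, -, rfl⟩ := Finset.mem_image.1 hy
    exact hT i)
  obtain ⟨V, hV, hsV, -⟩ := exists_isAffineOpen_mem_and_subset (show s ∈ (⊤ : S.Opens) from trivial)
  obtain ⟨r, hr, hrle⟩ := GrpdLib.exists_basicOpen_of_finite hU (O := (T : Set X)) T.finite_toSet
    (U ⊓ f ⁻¹ᵁ V) (fun y hy => hTU y hy) (fun y hy => ⟨hTU y hy, by
      obtain ⟨i, -, rfl⟩ := Finset.mem_image.1 hy
      show f _ ∈ V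
      rw [hT i]
      exact hsV⟩)
  let W : (SymProd.fibPow f d).Opens := ⟨((WidePullback.base (fun _ : Fin d => f) ⁻¹ᵁ V : (SymProd.fibPow f d).Opens) : Set ↥(SymProd.fibPow f d)) ∩
    ⋂ i, ((WidePullback.π (fun _ : Fin d => f) i ⁻¹ᵁ X.basicOpen r : (SymProd.fibPow f d).Opens) : Set ↥(SymProd.fibPow f d)),
    ((WidePullback.base (fun _ : Fin d => f) ⁻¹ᵁ V : (SymProd.fibPow f d).Opens)).2.inter (isOpen_iInter_of_finite fun i => ((WidePullback.π (fun _ : Fin d => f) i ⁻¹ᵁ X.basicOpen r : (SymProd.fibPow f d).Opens)).2)⟩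
  refine ⟨W, isAffineOpen_box f d (hU.basicOpen r) hV (fun y hy => (hrle hy).2) W (fun p hp => hp.1)
    (fun p hp i => Set.mem_iInter.1 hp.2 i) (fun p h1 h2 => ⟨h1, Set.mem_iInter.2 h2⟩), fun σ => ⟨?_, Set.mem_iInter.2 fun i => ?_⟩⟩
  · show WidePullback.base (fun _ : Fin d => f) (SymProd.permHom f d σ x) ∈ V
    rw [← Scheme.Hom.comp_apply, show SymProd.permHom f d σ ≫ WidePullback.base _ = WidePullback.base _ from WidePullback.lift_base _ _ _ _]
    exact hsV
  · show WidePullback.π (fun _ : Fin d => f) i (SymProd.permHom f d σ x) ∈ X.basicOpen r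
    rw [← Scheme.Hom.comp_apply, SymProd.permHom_π]
    exact hr (Finset.mem_image.2 ⟨_, Finset.mem_univ _, rfl⟩)

end Groth.Agent.S13602
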