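import Groth.Statements.S13605
import Groth.Agent.S13602
import Groth.Agent.SGA1Q.Properties
import Groth.Agent.SGA1Q.Exists

set_option backward.isDefEq.respectTransparency false

set_option autoImplicit false
universe u
open CategoryTheory AlgebraicGeometry
open CategoryTheory.Limits
open SymProd

namespace Groth.Agent.S13605

/-- Let f : X ⟶ S be a morphism of schemes satisfying (AF) (every finite set of points of X over a
single point of S lies in an affine open of X), let 𝒮 be a cover of S by affine opens, let d ≥ 1 and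
let (Y, q, g) be a d-th symmetric power of X over S: q : X ×_S ⋯ ×_S X ⟶ Y is a quotient by the
symmetric group on d letters permuting the factors (affine, invariant, sections of O_Y = invariant
sections) and q ≫ g is the structure map of the fibre power. Then Y is covered by affine opens of
the form Sym^d(U/V) with V in the given cover: for every point y of Y there are V ∈ 𝒮 and an affine
open U ⊆ f⁻¹V of X such that the open W = ⋂_i pr_i⁻¹ U of the fibre power (the fibre power of U over
V) is affine and stable under every permutation of the factors, and an affine open W' of Y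
containing y with q⁻¹ W' = W. (The published statement also fixes an affine open cover of X
subordinate to the cover of S, in which any d points over a common point of a member V lie in a
common member mapping into V, and concludes that the corresponding opens Sym^d(U/V) cover Y; this
row states the pointwise form, producing U for each y.) -/
theorem result {X S Y : Scheme.{u}} (f : X ⟶ S) (hAF : SymProd.IsAF f)
    (𝒮 : Set S.Opens) (h𝒮 : ∀ V ∈ 𝒮, IsAffineOpen V) (hcov : ∀ s : S, ∃ V ∈ 𝒮, s ∈ V)
    (d : ℕ) (hd : 0 < d) (q : SymProd.fibPow f d ⟶ Y) (g : Y ⟶ S) (hq : SymProd.IsSymProd f d q g) (y : Y) :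
    ∃ V ∈ 𝒮, ∃ U : X.Opens, IsAffineOpen U ∧ U ≤ f ⁻¹ᵁ V ∧
      ∃ W : (SymProd.fibPow f d).Opens,
        (W : Set ↥(SymProd.fibPow f d)) =
          ⋂ i : Fin d, (WidePullback.π (fun _ : Fin d => f) i).base ⁻¹' (U : Set X) ∧
        IsAffineOpen W ∧ (∀ σ : Equiv.Perm (Fin d), (SymProd.permHom f d σ) ⁻¹ᵁ W = W) ∧
        ∃ W' : Y.Opens, y ∈ W' ∧ IsAffineOpen W' ∧ q ⁻¹ᵁ W' = W := by
  classical
  have hp := hq.isQuot
  haveI := hp.affine
  obtain ⟨x, rfl⟩ := SGA1Q.surjective hp y
  let P := fun i => WidePullback.π (fun _ : Fin d => f) i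
  obtain ⟨V, hVm, hsV⟩ := hcov (WidePullback.base (fun _ : Fin d => f) x)
  have hT : ∀ i, f (P i x) = WidePullback.base (fun _ : Fin d => f) x := fun i => by
    rw [← Scheme.Hom.comp_apply, WidePullback.π_arrow]
  let T : Finset X := Finset.univ.image fun i => P i x
  obtain ⟨U₀, hU₀, hTU⟩ := hAF _ T (by
    intro z hz
    obtain ⟨i, -, rfl⟩ := Finset.mem_image.1 hz
    exact hT i)
  obtain ⟨r, hr, hrle⟩ := GrpdLib.exists_basicOpen_of_finite hU₀ (O := (T : Set X)) T.finite_toSet
    (U₀ ⊓ f ⁻¹ᵁ V) (fun z hz => hTU z hz) (fun z hz => ⟨hTU z hz, by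
      obtain ⟨i, -, rfl⟩ := Finset.mem_image.1 hz
      show f _ ∈ V
      rw [hT i]
      exact hsV⟩)
  let W : (SymProd.fibPow f d).Opens :=
    ⟨⋂ i, (P i).base ⁻¹' (X.basicOpen r : Set X),
      isOpen_iInter_of_finite fun i => (X.basicOpen r).2.preimage (P i).continuous⟩
  have hxW : x ∈ W := Set.mem_iInter.2 fun i => hr (Finset.mem_image.2 ⟨i, Finset.mem_univ _, rfl⟩)
  have hWaff : IsAffineOpen W := S13602.isAffineOpen_box f d (hU₀.basicOpen r) (h𝒮 V hVm)
    (fun z hz => (hrle hz).2) W (fun p hp' => by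
      have h1 := (hrle (Set.mem_iInter.1 hp' ⟨0, hd⟩)).2
      change f _ ∈ V at h1
      rwa [← Scheme.Hom.comp_apply, WidePullback.π_arrow] at h1)
    (fun p hp' i => Set.mem_iInter.1 hp' i) (fun p _ h2 => Set.mem_iInter.2 h2)
  have hperm : ∀ σ : Equiv.Perm (Fin d), (SymProd.permHom f d σ) ⁻¹ᵁ W = W := fun σ => by
    ext p
    show SymProd.permHom f d σ p ∈ W ↔ p ∈ W
    simp only [W, P, TopologicalSpace.Opens.mem_mk, Set.mem_iInter, Set.mem_preimage, SetLike.mem_coe]
    constructor
    · intro h i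
      have h1 := h (σ i)
      rwa [← Scheme.Hom.comp_apply, SymProd.permHom_π, Equiv.symm_apply_apply] at h1
    · intro h i
      rw [← Scheme.Hom.comp_apply, SymProd.permHom_π]
      exact h _
  refine ⟨V, hVm, X.basicOpen r, hU₀.basicOpen r, fun z hz => (hrle hz).2, W, rfl, hWaff, hperm, ?_⟩
  have hsat : q.base ⁻¹' (q.base '' W) = (W : Set ↥(SymProd.fibPow f d)) := by
    refine Set.Subset.antisymm ?_ (Set.subset_preimage_image _ _)
    rintro p ⟨p', hp', he⟩
    obtain ⟨σ, rfl⟩ := (SGA1Q.orbit_iff hp p' p).1 he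
    have h1 : p' ∈ (SymProd.permHom f d σ.down) ⁻¹ᵁ W := by rwa [hperm]
    exact h1
  have hopen : IsOpen (q.base '' W) := by
    rw [← (SGA1Q.isQuotientMap hp).isOpen_preimage, hsat]
    exact W.2
  let W' : Y.Opens := ⟨q.base '' W, hopen⟩
  have hWW' : q ⁻¹ᵁ W' = W := TopologicalSpace.Opens.ext hsat
  refine ⟨W', ⟨x, hxW, rfl⟩, ?_, hWW'⟩
  haveI : IsAffine (q ⁻¹ᵁ W').toScheme := by
    rw [hWW']
    exact hWaff
  exact SGA1Q.isAffine_of_isQuot (SGA1Q.isQuot_morphismRestrict hp W'
    (SGA1Q.restrictAction _ _ fun σ => SGA1.preimage_le_of_inv _ _ hp.inv σ W')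
    fun σ => SGA1Q.restrictAction_hom_ι _ _ _ σ)

end Groth.Agent.S13605
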