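import Groth.Statements.S1361
-- import your own Groth.Agent.* helpers here
import Groth.Agent.H4RG.GeomConnFP

set_option backward.isDefEq.respectTransparency.types false

set_option autoImplicit false
universe u
open FlatMor

namespace Groth.Agent.S1361

open AlgebraicGeometry CategoryTheory Limits in
/-- Let f : X → S be flat, locally of finite presentation, with geometrically reduced fibres. Then for
every point x of X there are an étale morphism X' → X whose image contains x, an étale morphism S' →
S and a factorization X' → S' → S of X' → X → S such that X' → S' is a flat morphism of finite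
presentation all of whose fibres are geometrically connected and geometrically reduced. -/
theorem result {X S : Scheme.{u}} (f : X ⟶ S) [Flat f] [LocallyOfFinitePresentation f] [GeometricallyReduced f] (x : X) :
    ∃ (X' S' : Scheme.{u}) (a : X' ⟶ X) (b : X' ⟶ S') (c : S' ⟶ S), Etale a ∧ x ∈ Set.range ⇑a ∧ Etale c ∧ a ≫ f = b ≫ c ∧
      Flat b ∧ LocallyOfFinitePresentation b ∧ QuasiCompact b ∧ QuasiSeparated b ∧ GeometricallyConnected b ∧ GeometricallyReduced b := by
  obtain ⟨S₀, hS₀, hxS₀, -⟩ := exists_isAffineOpen_mem_and_subset (x := f x) (U := (⊤ : S.Opens)) trivial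
  obtain ⟨U, hU, hxU, hUS⟩ := exists_isAffineOpen_mem_and_subset (x := x) (U := f ⁻¹ᵁ S₀) hxS₀
  haveI : IsAffine (U : Scheme.{u}) := hU
  haveI : IsAffine (S₀ : Scheme.{u}) := hS₀
  let g : (U : Scheme.{u}) ⟶ (S₀ : Scheme.{u}) := f.resLE S₀ U hUS
  haveI : Flat g := IsZariskiLocalAtSource.resLE hUS ‹Flat f›
  haveI : LocallyOfFinitePresentation g := IsZariskiLocalAtSource.resLE hUS ‹LocallyOfFinitePresentation f›
  haveI : GeometricallyReduced g := by
    show GeometricallyReduced (X.homOfLE hUS ≫ f ∣_ S₀)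
    exact Groth.Agent.H0FBC.geometricallyReduced_etale_comp _ _
  obtain ⟨V, U', v, m, a, y, hv, hm, hy, hcomm, hfl, hfp, hqc, hqs, hgr, hgc⟩ :=
    Groth.Agent.H4RG.exists_geomConnected_nhd_fp g (⟨x, hxU⟩ : (U : Scheme.{u}))
  haveI := hv
  haveI := hm
  refine ⟨U', V, m ≫ U.ι, a, v ≫ S₀.ι, inferInstance, ⟨y, ?_⟩, inferInstance, ?_, hfl, hfp, hqc, hqs, hgc, hgr⟩
  · rw [Scheme.Hom.comp_apply, hy]
    rfl
  · rw [Category.assoc, reassoc_of% hcomm, Scheme.Hom.resLE_comp_ι]

end Groth.Agent.S1361
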