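import Groth.Statements.S13615
import Groth.Agent.EtModLib.ARDescentPull
-- import your own Groth.Agent.* helpers here

set_option autoImplicit false
open CategoryTheory CategoryTheory.Limits AlgebraicGeometry Opposite
universe u
open EtModW

attribute [-instance] CategoryTheory.catToReflQuiver

namespace Groth.Agent.S13615

/-- Let X be a Noetherian scheme, i : A → X a closed immersion and j : U → X an open immersion whose
images are complementary, Λ a Noetherian ring, I an ideal of Λ and F = (F_n) an inverse system of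
constructible sheaves of Λ-modules on the small etale site of X with I^(n+1) F_n = 0 for all n. Then
F is AR I-adic (receives a morphism with kernel and cokernel null up to translation from an I-adic
system of constructible sheaves) if and only if both restricted systems (j^* F_n)_n on U and (i^*
F_n)_n on A are AR I-adic in the same sense. -/
theorem result
    (Λ : Type (u + 1)) [CommRing Λ] [IsNoetherianRing Λ] (I : Ideal Λ)
    {X A U : Scheme.{u}} [IsNoetherian X] (i : A ⟶ X) [IsClosedImmersion i] (j : U ⟶ X) [IsOpenImmersion j]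
    (hAU : Set.range (fun a => i.base a) = (Set.range (fun t => j.base t))ᶜ)
    (F : ARSys.PS (EtModW.Mod Λ X)) (hc : ∀ n : ℕ, EtModW.IsConstructible Λ (F.obj (op n)))
    (hk : ARSys.TermKilled I F) :
    (ARSys.TermKilled I F ∧ ∃ (Y : ARSys.PS (EtModW.Mod Λ X)) (v : Y ⟶ F), ARSys.IsAdic I Y ∧ (∀ n : ℕ, EtModW.IsConstructible Λ (Y.obj (op n))) ∧ ARSys.IsARIso v) ↔
      ((ARSys.TermKilled I (F ⋙ EtModW.pull Λ j) ∧ ∃ (Y : ARSys.PS (EtModW.Mod Λ U)) (v : Y ⟶ (F ⋙ EtModW.pull Λ j)), ARSys.IsAdic I Y ∧ (∀ n : ℕ, EtModW.IsConstructible Λ (Y.obj (op n))) ∧ ARSys.IsARIso v) ∧ (ARSys.TermKilled I (F ⋙ EtModW.pull Λ i) ∧ ∃ (Y : ARSys.PS (EtModW.Mod Λ A)) (v : Y ⟶ (F ⋙ EtModW.pull Λ i)), ARSys.IsAdic I Y ∧ (∀ n : ℕ, EtModW.IsConstructible Λ (Y.obj (op n))) ∧ ARSys.IsARIso v)) := by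
  refine ⟨fun h => ⟨Groth.Agent.EtModLib.exists_constr_adic_pull j h, Groth.Agent.EtModLib.exists_constr_adic_pull i h⟩, fun h => ?_⟩
  let T : Bool → Scheme.{u} := fun b => Bool.rec A U b
  let g : ∀ b, T b ⟶ X := fun b => Bool.rec (motive := fun b => T b ⟶ X) i j b
  refine Groth.Agent.EtModLib.exists_constr_adic_iff T g (fun x => ?_) hc hk fun b => ?_
  · by_cases hx : x ∈ Set.range fun t => j.base t
    · exact ⟨true, hx⟩
    · exact ⟨false, (hAU.symm ▸ hx : x ∈ Set.range fun a => i.base a)⟩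
  · cases b
    · obtain ⟨-, Y, v, hY, -, hv⟩ := h.2
      exact ⟨Y, v, hY, hv⟩
    · obtain ⟨-, Y, v, hY, -, hv⟩ := h.1
      exact ⟨Y, v, hY, hv⟩

end Groth.Agent.S13615
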