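import Groth.Statements.S1362
import Mathlib
import Groth.Agent.FibDim.Indep
import Groth.Agent.FibDim.Alg
-- import your own Groth.Agent.* helpers here

set_option autoImplicit false
universe u
open FlatMor

namespace Groth.Agent.S1362

set_option linter.style.haveILetI false

/-- Weights of exponents in base `N` are injective on small exponents. -/
theorem weight_inj {n N : ℕ} (hN : 1 < N) (v w : Fin n →₀ ℕ) (hv : ∀ i, v i < N) (hw : ∀ i, w i < N)
    (h : ∑ i : Fin n, N ^ (i : ℕ) * v i = ∑ i : Fin n, N ^ (i : ℕ) * w i) : v = w := by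
  refine Finsupp.ext <| congrFun <| List.ofFn_inj.mp ?_
  refine Nat.ofDigits_inj_of_len_eq hN (by simp) ?_ ?_ ?_
  · intro l hl
    obtain ⟨i, rfl⟩ := List.mem_ofFn.1 hl
    exact hv i
  · intro l hl
    obtain ⟨i, rfl⟩ := List.mem_ofFn.1 hl
    exact hw i
  · simpa only [Nat.ofDigits_eq_sum_mapIdx, List.mapIdx_eq_ofFn, List.get_ofFn, List.length_ofFn,
      Fin.val_cast, mul_comm, List.sum_ofFn] using! h

variable {R S : Type u} [CommRing R] [CommRing S] [Algebra R S]

/-- The triangular substitution. -/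
noncomputable def subst (n N : ℕ) :
    MvPolynomial (Fin (n + 1)) R →ₐ[R] Polynomial (MvPolynomial (Fin n) R) :=
  MvPolynomial.aeval (Fin.cases Polynomial.X
    fun i => Polynomial.C (MvPolynomial.X i) + Polynomial.X ^ N ^ ((i : ℕ) + 1))

theorem subst_map_ne_zero {n N : ℕ} {K : Type u} [Field K] (θ : MvPolynomial (Fin n) R →+* K)
    (hN : 1 < N) (f : MvPolynomial (Fin (n + 1)) R)
    (hf : ∀ e ∈ f.support, ∀ i, e i < N)
    (h : ∃ e, θ (MvPolynomial.C (f.coeff e)) ≠ 0) :
    (subst n N f).map θ ≠ 0 := by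
  classical
  let W : (Fin (n + 1) →₀ ℕ) → ℕ := fun e => ∑ i : Fin (n + 1), N ^ (i : ℕ) * e i
  let z : Fin (n + 1) → Polynomial K := Fin.cases Polynomial.X
    fun i => Polynomial.C (θ (MvPolynomial.X i)) + Polynomial.X ^ N ^ ((i : ℕ) + 1)
  have hz : ∀ i, (z i).Monic ∧ (z i).natDegree = N ^ (i : ℕ) := by
    intro i
    induction i using Fin.cases with
    | zero => simp [z, Polynomial.monic_X]
    | succ i =>
      simp only [z, Fin.cases_succ, Fin.val_succ]
      refine ⟨?_, ?_⟩
      · rw [add_comm]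
        exact Polynomial.monic_X_pow_add_C _ (pow_ne_zero _ (by omega))
      · rw [add_comm]
        exact Polynomial.natDegree_X_pow_add_C
  have hprod : ∀ e : Fin (n + 1) →₀ ℕ, (∏ i, z i ^ e i).Monic ∧ (∏ i, z i ^ e i).natDegree = W e := by
    intro e
    refine ⟨Polynomial.monic_prod_of_monic _ _ fun i _ => (hz i).1.pow _, ?_⟩
    rw [Polynomial.natDegree_prod_of_monic _ _ fun i _ => (hz i).1.pow _]
    refine Finset.sum_congr rfl fun i _ => ?_
    rw [(hz i).1.natDegree_pow, (hz i).2, mul_comm]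
  have hmap : (subst n N f).map θ =
      ∑ e ∈ f.support, Polynomial.C (θ (MvPolynomial.C (f.coeff e))) * ∏ i, z i ^ e i := by
    rw [subst, MvPolynomial.aeval_def, MvPolynomial.eval₂_eq', Polynomial.map_sum]
    refine Finset.sum_congr rfl fun e _ => ?_
    rw [Polynomial.map_mul, Polynomial.map_prod]
    congr 1
    · rw [IsScalarTower.algebraMap_apply R (MvPolynomial (Fin n) R) (Polynomial (MvPolynomial (Fin n) R)),
        Polynomial.algebraMap_eq, Polynomial.map_C, MvPolynomial.algebraMap_eq]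
    · refine Finset.prod_congr rfl fun i _ => ?_
      rw [Polynomial.map_pow]
      congr 1
      induction i using Fin.cases with
      | zero => simp [z]
      | succ i => simp [z]
  obtain ⟨e₀, he₀⟩ := h
  let T := f.support.filter fun e => θ (MvPolynomial.C (f.coeff e)) ≠ 0
  have hT : T.Nonempty := ⟨e₀, Finset.mem_filter.2 ⟨MvPolynomial.mem_support_iff.2 fun h0 => he₀ (by
    rw [h0, MvPolynomial.C_0, map_zero]), he₀⟩⟩
  obtain ⟨e₁, he₁, hmax⟩ := T.exists_max_image W hT
  obtain ⟨he₁s, he₁0⟩ := Finset.mem_filter.1 he₁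
  intro h0
  have hc := congrArg (fun p : Polynomial K => p.coeff (W e₁)) h0
  simp only [hmap, Polynomial.finsetSum_coeff, Polynomial.coeff_zero] at hc
  rw [Finset.sum_eq_single e₁ (fun e he hne => ?_) (fun h => absurd he₁s h), Polynomial.coeff_C_mul,
    ← (hprod e₁).2, (hprod e₁).1.coeff_natDegree, mul_one] at hc
  · exact he₁0 hc
  · rw [Polynomial.coeff_C_mul]
    by_cases h0' : θ (MvPolynomial.C (f.coeff e)) = 0
    · rw [h0', zero_mul]
    · rw [Polynomial.coeff_eq_zero_of_natDegree_lt (p := ∏ i, z i ^ e i) ?_, mul_zero]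
      rw [(hprod e).2]
      refine lt_of_le_of_ne (hmax e (Finset.mem_filter.2 ⟨he, h0'⟩)) fun heq => hne ?_
      exact weight_inj hN e e₁ (hf e he) (hf e₁ he₁s) heq

/-- Finitely many primes of `P[T]` over a prime of `P` contain a polynomial nonzero modulo it. -/
theorem finite_primes_containing {P : Type u} [CommRing P] (p : Ideal P) [p.IsPrime]
    (g : Polynomial P) (hg : g.map ((algebraMap (P ⧸ p) (FractionRing (P ⧸ p))).comp (Ideal.Quotient.mk p)) ≠ 0) :
    {N : PrimeSpectrum (Polynomial P) | N.asIdeal.comap Polynomial.C = p ∧ g ∈ N.asIdeal}.Finite := by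
  classical
  let K := FractionRing (P ⧸ p)
  let θ : P →+* K := (algebraMap (P ⧸ p) K).comp (Ideal.Quotient.mk p)
  let Kb := AlgebraicClosure K
  let ev : Kb → (Polynomial P →+* Kb) := fun α =>
    Polynomial.eval₂RingHom ((algebraMap K Kb).comp θ) α
  have hfin : (((g.map θ).map (algebraMap K Kb)).roots.toFinset : Set Kb).Finite := Finset.finite_toSet _
  refine (hfin.image fun α => (⟨RingHom.ker (ev α), RingHom.ker_isPrime _⟩ :
    PrimeSpectrum (Polynomial P))).subset ?_
  rintro ⟨N, hN⟩ ⟨hNp, hgN⟩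
  haveI := hN
  let F := FractionRing (Polynomial P ⧸ N)
  let ρ : Polynomial P →+* F := (algebraMap (Polynomial P ⧸ N) F).comp (Ideal.Quotient.mk N)
  have hρker : ∀ x, ρ x = 0 ↔ x ∈ N := fun x => by
    show algebraMap (Polynomial P ⧸ N) F (Ideal.Quotient.mk N x) = 0 ↔ _
    rw [map_eq_zero_iff _ (IsFractionRing.injective _ F), Ideal.Quotient.eq_zero_iff_mem]
  have hpN : ∀ x, ρ (Polynomial.C x) = 0 ↔ x ∈ p := fun x => by rw [hρker, ← hNp]; rfl
  let j₀ : P ⧸ p →+* F := Ideal.Quotient.lift p (ρ.comp Polynomial.C) fun x hx => (hpN x).2 hx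
  have hj₀ : Function.Injective j₀ := by
    rw [injective_iff_map_eq_zero]
    intro x hx
    obtain ⟨x, rfl⟩ := Ideal.Quotient.mk_surjective x
    exact Ideal.Quotient.eq_zero_iff_mem.2 ((hpN x).1 hx)
  let j : K →+* F := IsFractionRing.lift hj₀
  letI : Algebra K F := j.toAlgebra
  have hjθ : ∀ x, algebraMap K F (θ x) = ρ (Polynomial.C x) := fun x =>
    IsFractionRing.lift_algebraMap hj₀ _
  let t : F := ρ Polynomial.X
  have hρ : ∀ q : Polynomial P, ρ q = Polynomial.aeval t (q.map θ) := by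
    intro q
    induction q using Polynomial.induction_on' with
    | add a b ha hb => simp only [Polynomial.map_add, map_add, ha, hb]
    | monomial k a =>
      rw [Polynomial.map_monomial, Polynomial.aeval_monomial, ← Polynomial.C_mul_X_pow_eq_monomial,
        map_mul, map_pow, hjθ]
  have ht : IsIntegral K t := IsAlgebraic.isIntegral
    ⟨g.map θ, hg, by rw [← hρ]; exact (hρker g).2 hgN⟩
  obtain ⟨α, hα⟩ := IsAlgClosed.exists_aeval_eq_zero Kb (minpoly K t) (minpoly.degree_pos ht).ne'
  have hev : ∀ q : Polynomial P, ev α q = Polynomial.aeval α (q.map θ) := by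
    intro q
    show Polynomial.eval₂ _ α q = _
    rw [Polynomial.aeval_def, Polynomial.eval₂_map]
  have hker : RingHom.ker (ev α) = N := by
    ext q
    rw [RingHom.mem_ker, hev, ← hρker, hρ, ← minpoly.dvd_iff, ← minpoly.dvd_iff,
      ← minpoly.eq_of_irreducible_of_monic (minpoly.irreducible ht) hα (minpoly.monic ht)]
  refine ⟨α, ?_, PrimeSpectrum.ext hker⟩
  rw [Finset.mem_coe, Multiset.mem_toFinset, Polynomial.mem_roots
    (Polynomial.map_ne_zero hg), Polynomial.IsRoot.def, Polynomial.eval_map_algebraMap, ← hev]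
  exact hker.ge hgN

variable [Algebra.FiniteType R S]

/-- The vanishing polynomial over a prime of the base. -/
theorem exists_vanishing (d : ℕ) (hd : ∀ p : PrimeSpectrum R, ringKrullDim (p.asIdeal.Fiber S) ≤ d)
    {n : ℕ} (hn : d < n) (φ : MvPolynomial (Fin n) R →ₐ[R] S) (q : PrimeSpectrum R) :
    ∃ f : MvPolynomial (Fin n) R, (∃ e, f.coeff e ∉ q.asIdeal) ∧
      ∀ Q : Ideal S, Q.IsPrime → Q.under R = q.asIdeal → φ f ∈ Q := by
  classical
  let k := q.asIdeal.ResidueField
  let F := q.asIdeal.Fiber S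
  let inc : S →ₐ[R] F := Algebra.TensorProduct.includeRight
  let Φ : MvPolynomial (Fin n) k →ₐ[k] F := MvPolynomial.aeval fun i => inc (φ (MvPolynomial.X i))
  have hΦ : ∀ G : MvPolynomial (Fin n) R, Φ (MvPolynomial.map (algebraMap R k) G) = inc (φ G) := by
    intro G
    rw [MvPolynomial.aeval_map_algebraMap, show inc (φ G) = (inc.comp φ) G from rfl]
    exact congrArg (fun a : MvPolynomial (Fin n) R →ₐ[R] F => a G)
      (MvPolynomial.aeval_unique (inc.comp φ)).symm
  have hincR : ∀ r : R, inc (algebraMap R S r) = algebraMap k F (algebraMap R k r) := fun r => by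
    rw [AlgHom.commutes, IsScalarTower.algebraMap_apply R k F]
  by_cases hI : RingHom.ker Φ.toRingHom = ⊥
  · exfalso
    have hinj : Function.Injective Φ.toRingHom := (RingHom.injective_iff_ker_eq_bot _).2 hI
    obtain ⟨M, hM, hMc⟩ := Ideal.exists_comap_eq_of_mem_minimalPrimes_of_injective hinj
      (⊥ : Ideal (MvPolynomial (Fin n) k))
      (by rw [IsDomain.minimalPrimes_eq_singleton_bot]; exact Set.mem_singleton _)
    haveI := hM
    let Q : Ideal S := M.comap inc.toRingHom
    haveI : Q.IsPrime := Ideal.IsPrime.comap _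
    have hQq : Q.under R = q.asIdeal := by
      ext r
      show inc (algebraMap R S r) ∈ M ↔ r ∈ q.asIdeal
      rw [hincR]
      refine ⟨fun h => ?_, fun h => ?_⟩
      · by_contra hn'
        exact hM.ne_top (Ideal.eq_top_of_isUnit_mem _ h
          ((Ne.isUnit fun h0 => hn' (Ideal.algebraMap_residueField_eq_zero.1 h0)).map _))
      · rw [Ideal.algebraMap_residueField_eq_zero.2 h, map_zero]
        exact M.zero_mem
    have hind : FibDim.IndepMod (A := R) (fun i => φ (MvPolynomial.X i)) Q := by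
      intro G hG
      rw [hQq, MvPolynomial.mem_map_C_iff]
      have hG' : φ G ∈ Q := by rwa [MvPolynomial.aeval_unique φ]
      have h1 : MvPolynomial.map (algebraMap R k) G ∈ M.comap Φ.toRingHom := by
        show Φ _ ∈ M
        rw [hΦ]
        exact hG'
      rw [hMc, Ideal.mem_bot] at h1
      intro e
      have := congrArg (MvPolynomial.coeff e) h1
      rwa [MvPolynomial.coeff_map, MvPolynomial.coeff_zero, Ideal.algebraMap_residueField_eq_zero] at this
    have h2 := (FibDim.le_dim_fiber_quotient_iff Q n).2 ⟨_, hind⟩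
    have h3 : ringKrullDim ((Q.under R).Fiber (S ⧸ Q)) ≤ ringKrullDim ((Q.under R).Fiber S) :=
      ringKrullDim_le_of_surjective
        (Algebra.TensorProduct.map (AlgHom.id R _) (Ideal.Quotient.mkₐ R Q)).toRingHom
        (TensorProduct.map_surjective Function.surjective_id Ideal.Quotient.mk_surjective)
    have h4 := h2.trans (h3.trans (hd ⟨Q.under R, inferInstance⟩))
    norm_cast at h4
    omega
  · obtain ⟨g, hg, hg0⟩ := Submodule.exists_mem_ne_zero_of_ne_bot hI
    obtain ⟨c, hc, G, hG⟩ := FibDim.exists_C_mul_mem_range q.asIdeal g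
    refine ⟨G, ?_, fun Q hQ hQq => ?_⟩
    · by_contra hall
      push Not at hall
      have h0 : MvPolynomial.map (algebraMap R k) G = 0 := by
        ext e
        rw [MvPolynomial.coeff_map, MvPolynomial.coeff_zero, Ideal.algebraMap_residueField_eq_zero]
        exact hall e
      rw [h0] at hG
      have hc' : algebraMap R k c ≠ 0 := fun h => hc (Ideal.algebraMap_residueField_eq_zero.1 h)
      rcases mul_eq_zero.1 hG with h | h
      · exact hc' (MvPolynomial.C_injective _ _ (h.trans MvPolynomial.C_0.symm))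
      · exact hg0 h
    · have h1 : inc (φ G) = 0 := by
        rw [← hΦ, ← hG, map_mul, show Φ g = 0 from hg, mul_zero]
      obtain ⟨M, hM⟩ : ∃ M : PrimeSpectrum F, M.asIdeal.comap inc.toRingHom = Q := by
        refine ⟨PrimeSpectrum.preimageEquivFiber R S q ⟨⟨Q, hQ⟩, PrimeSpectrum.ext hQq⟩, ?_⟩
        exact congrArg (fun x => x.1.asIdeal)
          ((PrimeSpectrum.preimageEquivFiber R S q).symm_apply_apply ⟨⟨Q, hQ⟩, PrimeSpectrum.ext hQq⟩)
      rw [← hM]
      show inc (φ G) ∈ M.asIdeal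
      rw [h1]
      exact Submodule.zero_mem _

/-- A bound on the exponents of vanishing polynomials, uniform in the prime. -/
theorem exists_bound (d : ℕ) (hd : ∀ p : PrimeSpectrum R, ringKrullDim (p.asIdeal.Fiber S) ≤ d)
    {n : ℕ} (hn : d < n) (φ : MvPolynomial (Fin n) R →ₐ[R] S) :
    ∃ N : ℕ, 1 < N ∧ ∀ q : PrimeSpectrum R, ∃ f : MvPolynomial (Fin n) R,
      (∀ e ∈ f.support, ∀ i, e i < N) ∧ (∃ e, f.coeff e ∉ q.asIdeal) ∧
      ∀ Q : Ideal S, Q.IsPrime → Q.under R = q.asIdeal → φ f ∈ Q := by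
  classical
  choose f hf hfQ using exists_vanishing d hd hn φ
  choose e he using hf
  have h2 : ∀ q : PrimeSpectrum R, ∃ (a : Finset R) (c : R), (↑a : Set R) ⊆ q.asIdeal ∧ c ∉ q.asIdeal ∧
      ∀ Q : Ideal S, Q.IsPrime → (↑a : Set R) ⊆ (Q.under R : Ideal R) → c ∉ Q.under R → φ (f q) ∈ Q := by
    intro q
    let M : Submonoid S :=
      q.asIdeal.primeCompl.map (algebraMap R S).toMonoidHom ⊔ Submonoid.powers (φ (f q))
    have hnd : ¬ Disjoint (q.asIdeal.map (algebraMap R S) : Set S) M := by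
      intro hdisj
      obtain ⟨Q, hQ, hle, hQd⟩ := Ideal.exists_le_prime_disjoint _ M hdisj
      have hQq : Q.under R = q.asIdeal := by
        refine le_antisymm (fun r hr => ?_) fun r hr => hle (Ideal.mem_map_of_mem _ hr)
        by_contra hn'
        exact Set.disjoint_left.1 hQd hr (Submonoid.mem_sup_left ⟨r, hn', rfl⟩)
      exact Set.disjoint_left.1 hQd (hfQ q Q hQ hQq)
        (Submonoid.mem_sup_right ⟨1, pow_one _⟩)
    obtain ⟨x, hx, hxM⟩ := Set.not_disjoint_iff.1 hnd
    obtain ⟨_, ⟨c, hc, rfl⟩, _, ⟨m, rfl⟩, rfl⟩ := Submonoid.mem_sup.1 hxM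
    obtain ⟨t, ht, hxt⟩ := Submodule.mem_span_finite_of_mem_span (hx : _ ∈ Ideal.span (algebraMap R S '' q.asIdeal))
    obtain ⟨a, ha, hat⟩ := Finset.subset_set_image_iff.1 ht
    refine ⟨a, c, ha, hc, fun Q hQ haQ hcQ => ?_⟩
    have hmem : algebraMap R S c * φ (f q) ^ m ∈ Q := by
      refine (Submodule.span_le (p := Q)).2 ?_ hxt
      intro z hz
      rw [← hat, Finset.mem_coe, Finset.mem_image] at hz
      obtain ⟨r, hr, rfl⟩ := hz
      exact haQ hr
    exact hQ.mem_of_pow_mem m ((hQ.mem_or_mem hmem).resolve_left hcQ)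
  choose a c ha hc hac using h2
  let C : PrimeSpectrum R → Set (WithConstructibleTopology (PrimeSpectrum R)) := fun q =>
    (WithTopology.equiv _ _).symm '' (PrimeSpectrum.zeroLocus (↑(a q) : Set R) ∩
      ((PrimeSpectrum.basicOpen (c q) : Set (PrimeSpectrum R)) ∩
        (PrimeSpectrum.basicOpen ((f q).coeff (e q)) : Set (PrimeSpectrum R))))
  have hC : ∀ q, IsOpen (C q) := fun q => by
    rw [WithConstructibleTopology.isOpen_iff]
    have hpre : WithTopology.toTopology _ ⁻¹' C q = PrimeSpectrum.zeroLocus (↑(a q) : Set R) ∩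
      ((PrimeSpectrum.basicOpen (c q) : Set (PrimeSpectrum R)) ∩
        (PrimeSpectrum.basicOpen ((f q).coeff (e q)) : Set (PrimeSpectrum R))) :=
      Set.preimage_image_eq _ (WithTopology.equiv _ _).symm.injective
    rw [hpre]
    refine (constructibleTopology _).isOpen_inter _ _ ?_
      ((constructibleTopology _).isOpen_inter _ _ ?_ ?_)
    · refine IsCompact.isOpen_constructibleTopology_of_isClosed ?_ (PrimeSpectrum.isClosed_zeroLocus _)
      rw [show (PrimeSpectrum.zeroLocus (↑(a q) : Set R))ᶜ =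
          ⋃ r ∈ a q, (PrimeSpectrum.basicOpen r : Set (PrimeSpectrum R)) by
        ext x; simp [PrimeSpectrum.mem_zeroLocus, Set.not_subset]]
      exact (a q).isCompact_biUnion fun r _ => PrimeSpectrum.isCompact_basicOpen r
    · exact (PrimeSpectrum.isCompact_basicOpen _).isOpen_constructibleTopology_of_isOpen
        (PrimeSpectrum.basicOpen _).isOpen
    · exact (PrimeSpectrum.isCompact_basicOpen _).isOpen_constructibleTopology_of_isOpen
        (PrimeSpectrum.basicOpen _).isOpen
  obtain ⟨s, hs⟩ := isCompact_univ.elim_finite_subcover C hC (fun x _ => Set.mem_iUnion.2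
    ⟨(WithTopology.equiv _ _) x, _, ⟨ha _, hc _, he _⟩, (WithTopology.equiv _ _).symm_apply_apply x⟩)
  refine ⟨(s.sup fun q => (f q).totalDegree) + 2, by omega, fun q => ?_⟩
  obtain ⟨q', hq's, hq'⟩ := Set.mem_iUnion₂.1
    (hs (Set.mem_univ ((WithTopology.equiv _ (constructibleTopology (PrimeSpectrum R))).symm q)))
  obtain ⟨x, ⟨h1, h2, h3⟩, hx⟩ := hq'
  obtain rfl := (WithTopology.equiv _ _).symm.injective hx
  refine ⟨f q', fun m hm i => ?_, ⟨e q', h3⟩, fun Q hQ hQq => hac q' Q hQ (hQq ▸ h1) (hQq ▸ h2)⟩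
  have h4 : m i ≤ (f q').totalDegree :=
    (MvPolynomial.monomial_le_degreeOf i hm).trans (MvPolynomial.degreeOf_le_totalDegree _ i)
  have h5 : (f q').totalDegree ≤ s.sup fun q => (f q).totalDegree :=
    Finset.le_sup (f := fun q => (f q).totalDegree) hq's
  omega

/-- Removing one variable. -/
theorem descend (d : ℕ) (hd : ∀ p : PrimeSpectrum R, ringKrullDim (p.asIdeal.Fiber S) ≤ d)
    {n : ℕ} (hn : d ≤ n) (φ : MvPolynomial (Fin (n + 1)) R →ₐ[R] S) (hφ : φ.toRingHom.QuasiFinite) :
    ∃ ψ : MvPolynomial (Fin n) R →ₐ[R] S, ψ.toRingHom.QuasiFinite := by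
  classical
  obtain ⟨N, hN, hf⟩ := exists_bound d hd (Nat.lt_succ_of_le hn) φ
  let φ' : MvPolynomial (Fin n) R →ₐ[R] S := MvPolynomial.aeval fun i =>
    φ (MvPolynomial.X i.succ) - φ (MvPolynomial.X 0) ^ N ^ ((i : ℕ) + 1)
  refine ⟨φ', ?_⟩
  letI : Algebra (MvPolynomial (Fin n) R) S := φ'.toRingHom.toAlgebra
  haveI : IsScalarTower R (MvPolynomial (Fin n) R) S :=
    IsScalarTower.of_algebraMap_eq fun r => (φ'.commutes r).symm
  haveI : Algebra.FiniteType (MvPolynomial (Fin n) R) S :=
    Algebra.FiniteType.of_restrictScalars_finiteType R _ S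
  show Algebra.QuasiFinite (MvPolynomial (Fin n) R) S
  rw [Algebra.QuasiFinite.iff_finite_comap_preimage_singleton]
  intro P
  obtain ⟨f, hfN, ⟨e, he⟩, hfQ⟩ := hf (PrimeSpectrum.comap (algebraMap R _) P)
  let ψ : Polynomial (MvPolynomial (Fin n) R) →+* S :=
    Polynomial.eval₂RingHom φ'.toRingHom (φ (MvPolynomial.X 0))
  have hψ : ψ.comp (subst n N).toRingHom = φ.toRingHom := by
    refine MvPolynomial.ringHom_ext (fun r => ?_) (fun i => ?_)
    · show ψ (subst n N (MvPolynomial.C r)) = φ (MvPolynomial.C r)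
      rw [← MvPolynomial.algebraMap_eq, AlgHom.commutes, AlgHom.commutes,
        IsScalarTower.algebraMap_apply R (MvPolynomial (Fin n) R) (Polynomial (MvPolynomial (Fin n) R)),
        Polynomial.algebraMap_eq]
      show Polynomial.eval₂ _ _ (Polynomial.C _) = _
      rw [Polynomial.eval₂_C]
      exact φ'.commutes r
    · show ψ (subst n N (MvPolynomial.X i)) = φ (MvPolynomial.X i)
      rw [subst, MvPolynomial.aeval_X]
      induction i using Fin.cases with
      | zero => simp [ψ]
      | succ i => simp [ψ, φ', MvPolynomial.aeval_X]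
  letI : Algebra (MvPolynomial (Fin (n + 1)) R) S := φ.toRingHom.toAlgebra
  haveI : Algebra.QuasiFinite (MvPolynomial (Fin (n + 1)) R) S := hφ
  let θ : MvPolynomial (Fin n) R →+* FractionRing (MvPolynomial (Fin n) R ⧸ P.asIdeal) :=
    (algebraMap _ _).comp (Ideal.Quotient.mk P.asIdeal)
  have hg : (subst n N f).map θ ≠ 0 := subst_map_ne_zero θ hN f hfN ⟨e, fun h => he (by
    have h' : Ideal.Quotient.mk P.asIdeal (MvPolynomial.C (f.coeff e)) = 0 :=
      IsFractionRing.injective _ (FractionRing (MvPolynomial (Fin n) R ⧸ P.asIdeal)) (h.trans (map_zero _).symm)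
    have h'' := Ideal.Quotient.eq_zero_iff_mem.1 h'
    exact h'')⟩
  have hfin := finite_primes_containing P.asIdeal (subst n N f) hg
  refine ((hfin.image (PrimeSpectrum.comap (subst n N).toRingHom)).biUnion fun M _ =>
    Algebra.QuasiFinite.finite_comap_preimage_singleton (R := MvPolynomial (Fin (n + 1)) R) (S := S) M).subset ?_
  intro Q hQ
  have hQ' : PrimeSpectrum.comap φ'.toRingHom Q = P := hQ
  refine Set.mem_biUnion ⟨PrimeSpectrum.comap ψ Q, ⟨?_, ?_⟩, rfl⟩ ?_
  · rw [← hQ']
    ext z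
    show ψ (Polynomial.C z) ∈ Q.asIdeal ↔ φ' z ∈ Q.asIdeal
    rw [show ψ (Polynomial.C z) = φ' z from Polynomial.eval₂_C _ _]
  · show ψ (subst n N f) ∈ Q.asIdeal
    have : ψ (subst n N f) = φ f := congrArg (fun h : MvPolynomial (Fin (n + 1)) R →+* S => h f) hψ
    rw [this]
    refine hfQ Q.asIdeal Q.2 ?_
    rw [← hQ']
    ext r
    show algebraMap R S r ∈ Q.asIdeal ↔ φ' (algebraMap R _ r) ∈ Q.asIdeal
    rw [AlgHom.commutes]
  · show PrimeSpectrum.comap φ.toRingHom Q = _
    rw [← hψ, PrimeSpectrum.comap_comp_apply]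


/-- For a finite type ring map R → S whose fibre rings have dimensions with maximum exactly d: there is
an R-algebra map from the polynomial ring R[t_1, ..., t_d] to S which is quasi-finite (here: every
fibre ring is finite over the residue field; S is of finite type over the polynomial ring
automatically). -/
theorem result {R S : Type u} [CommRing R] [CommRing S] [Algebra R S] [Algebra.FiniteType R S] (d : ℕ)
    (hd : ⨆ p : PrimeSpectrum R, ringKrullDim (p.asIdeal.Fiber S) = (d : WithBot ℕ∞)) :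
    ∃ φ : MvPolynomial (Fin d) R →ₐ[R] S, φ.toRingHom.QuasiFinite := by
  classical
  have hd' : ∀ p : PrimeSpectrum R, ringKrullDim (p.asIdeal.Fiber S) ≤ d :=
    fun p => hd ▸ le_iSup (fun p : PrimeSpectrum R => ringKrullDim (p.asIdeal.Fiber S)) p
  suffices h : ∀ k n : ℕ, n = d + k → (∃ φ : MvPolynomial (Fin n) R →ₐ[R] S, φ.toRingHom.QuasiFinite) →
      ∃ φ : MvPolynomial (Fin d) R →ₐ[R] S, φ.toRingHom.QuasiFinite by
    obtain ⟨m, π, hπ⟩ := Algebra.FiniteType.iff_quotient_mvPolynomial''.1 ‹Algebra.FiniteType R S›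
    let z : Fin (d + m) → S := Fin.addCases (fun _ => 0) fun i => π (MvPolynomial.X i)
    refine h m (d + m) rfl ⟨MvPolynomial.aeval z, ?_⟩
    have hsurj : Function.Surjective (MvPolynomial.aeval (R := R) z) := by
      intro s
      obtain ⟨g, rfl⟩ := hπ s
      refine ⟨MvPolynomial.rename (Fin.natAdd d) g, ?_⟩
      rw [MvPolynomial.aeval_rename]
      conv_rhs => rw [MvPolynomial.aeval_unique π]
      congr 2
      funext i
      simp [z]
    letI := (MvPolynomial.aeval (R := R) z).toRingHom.toAlgebra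
    haveI : Module.Finite (MvPolynomial (Fin (d + m)) R) S :=
      Module.Finite.of_surjective (Algebra.linearMap _ S) hsurj
    exact (inferInstance : Algebra.QuasiFinite (MvPolynomial (Fin (d + m)) R) S)
  intro k
  induction k with
  | zero => rintro n rfl h; exact h
  | succ k ih =>
    rintro n rfl ⟨φ, hφ⟩
    exact ih (d + k) rfl (descend d hd' (Nat.le_add_right d k) φ hφ)

end Groth.Agent.S1362
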