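import Groth.Statements.S13623
import Mathlib.RingTheory.Support
import Mathlib.RingTheory.Flat.FaithfullyFlat.Algebra
import Mathlib.RingTheory.LocalRing.Module
import Mathlib.FieldTheory.IsAlgClosed.AlgebraicClosure
import Mathlib.RingTheory.TensorProduct.Maps
import Mathlib.LinearAlgebra.TensorProduct.RightExactness

set_option autoImplicit false
universe u
open TensorProduct
open CAlg

namespace Groth.Agent.S13623

/-- Let A be a commutative ring and B a commutative A-algebra, graded by A-submodules B_m (m ≥ 0)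
forming a graded-algebra structure, such that every B_m is a finitely generated A-module. If for
every algebraically closed field k and every A-algebra structure on k the k-algebra k ⊗_A B is
generated by the image of B_1 under b ↦ 1 ⊗ b, then its degree-one part B_1 generates the A-algebra
B. (Algebraically closed fields are taken in the universe of A.) -/
theorem result
    (A : Type u) [CommRing A] (B : Type u) [CommRing B] [Algebra A B]
    (𝒜 : ℕ → Submodule A B) [GradedAlgebra 𝒜]
    (hfin : ∀ m : ℕ, Module.Finite A (𝒜 m))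
    (hgen : ∀ (k : Type u) [Field k] [IsAlgClosed k] [Algebra A k],
      Algebra.adjoin k ((Algebra.TensorProduct.includeRight : B →ₐ[A] k ⊗[A] B) '' (𝒜 1 : Set B)) = ⊤) :
    Algebra.adjoin A (𝒜 1 : Set B) = ⊤ := by
  classical
  let S := Algebra.adjoin A (𝒜 1 : Set B)
  let proj : ℕ → B →ₗ[A] B := fun m => (𝒜 m).subtype ∘ₗ DirectSum.component A ℕ (fun i => 𝒜 i) m ∘ₗ
    (DirectSum.decomposeLinearEquiv 𝒜).toLinearMap
  have hproj : ∀ m b, proj m b = (DirectSum.decompose 𝒜 b m : B) := fun m b => rfl
  have hSproj : ∀ m, ∀ b ∈ S, proj m b ∈ S := by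
    intro m b hb
    rw [← Subalgebra.mem_toSubmodule, Algebra.adjoin_eq_span] at hb
    induction hb using Submodule.span_induction with
    | mem x hx =>
      have hgr : ∃ n, x ∈ 𝒜 n := by
        induction hx using Submonoid.closure_induction with
        | mem y hy => exact ⟨1, hy⟩
        | one => exact ⟨0, SetLike.one_mem_graded 𝒜⟩
        | mul y z _ _ hy hz =>
          obtain ⟨i, hi⟩ := hy; obtain ⟨j, hj⟩ := hz; exact ⟨i + j, SetLike.mul_mem_graded hi hj⟩
      obtain ⟨n, hn⟩ := hgr
      rw [hproj]
      by_cases h : n = m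
      · subst h
        rw [DirectSum.decompose_of_mem_same 𝒜 hn, ← Subalgebra.mem_toSubmodule, Algebra.adjoin_eq_span]
        exact Submodule.subset_span hx
      · rw [DirectSum.decompose_of_mem_ne 𝒜 hn h]; exact zero_mem _
    | zero => rw [map_zero]; exact zero_mem _
    | add x y _ _ hx hy => rw [map_add]; exact add_mem hx hy
    | smul r x _ hx => rw [map_smul]; exact S.smul_mem hx r
  have key : ∀ m, 𝒜 m ≤ Subalgebra.toSubmodule S := by
    intro m
    let π : B →ₗ[A] 𝒜 m := DirectSum.component A ℕ (fun i => 𝒜 i) m ∘ₗ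
      (DirectSum.decomposeLinearEquiv 𝒜).toLinearMap
    let U : Submodule A (𝒜 m) := (Subalgebra.toSubmodule S).comap (𝒜 m).subtype
    let Q := (𝒜 m) ⧸ U
    have hπS : ∀ b ∈ S, U.mkQ (π b) = 0 := fun b hb =>
      (Submodule.Quotient.mk_eq_zero U).2 (hSproj m b hb)
    suffices hQ : Subsingleton Q by
      intro x hx
      have : (Submodule.Quotient.mk ⟨x, hx⟩ : Q) = 0 := Subsingleton.elim _ _
      exact (Submodule.Quotient.mk_eq_zero U).1 this
    rw [← Module.support_eq_empty_iff (R := A), Set.eq_empty_iff_forall_notMem]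
    intro P hP
    rw [Module.mem_support_iff_nontrivial_residueField_tensorProduct] at hP
    let κ := P.asIdeal.ResidueField
    let K := AlgebraicClosure κ
    have hzero : Subsingleton (K ⊗[A] Q) := by
      let Φ : K ⊗[A] B →ₗ[K] K ⊗[A] Q := (U.mkQ ∘ₗ π).baseChange K
      have hsurj : Function.Surjective Φ := by
        refine LinearMap.lTensor_surjective K (g := U.mkQ ∘ₗ π) fun q => ?_
        obtain ⟨⟨x, hx⟩, rfl⟩ := Submodule.Quotient.mk_surjective U q
        exact ⟨x, congrArg (fun v : 𝒜 m => U.mkQ v) (Subtype.ext (DirectSum.decompose_of_mem_same 𝒜 hx))⟩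
      have hΦ : ∀ z : K ⊗[A] B, Φ z = 0 := by
        intro z
        let W : Subalgebra K (K ⊗[A] B) :=
          (Algebra.TensorProduct.map (AlgHom.id K K) S.val).range
        have hW : W = ⊤ := by
          rw [eq_top_iff, ← hgen K, Algebra.adjoin_le_iff]
          rintro _ ⟨x, hx, rfl⟩
          exact ⟨(1 : K) ⊗ₜ ⟨x, Algebra.subset_adjoin hx⟩, rfl⟩
        obtain ⟨w, rfl⟩ : z ∈ W := hW ▸ Algebra.mem_top
        induction w using TensorProduct.induction_on with
        | zero => simp
        | tmul c s =>
          show c ⊗ₜ[A] U.mkQ (π (s : B)) = 0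
          rw [hπS _ s.2, TensorProduct.tmul_zero]
        | add u v hu hv => rw [map_add, map_add, hu, hv, add_zero]
      exact subsingleton_of_forall_eq 0 fun q => by obtain ⟨z, rfl⟩ := hsurj q; exact hΦ z
    haveI : Nontrivial (κ ⊗[A] Q) := hP
    haveI : Nontrivial (K ⊗[κ] (κ ⊗[A] Q)) := inferInstance
    have : Nontrivial (K ⊗[A] Q) :=
      (TensorProduct.AlgebraTensorModule.cancelBaseChange A κ κ K Q).symm.toEquiv.nontrivial_congr.2 inferInstance
    exact not_nontrivial (K ⊗[A] Q) this
  rw [eq_top_iff]
  intro b _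
  rw [← DirectSum.sum_support_decompose 𝒜 b]
  exact sum_mem fun i _ => key i (DirectSum.decompose 𝒜 b i).2

end Groth.Agent.S13623
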