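import Groth.Statements.S13626
import Groth.Agent.KFlatLib.Scheme.ProjLocFree
import Groth.Agent.KFlatLib.Scheme.QCohTensor
import Groth.Agent.QCoh.RpushGod
import Groth.Agent.QCoh.RpushAbGod
import Groth.Agent.S0462
import Mathlib.CategoryTheory.Limits.Shapes.Products
-- import your own Groth.Agent.* helpers here

set_option autoImplicit false
universe u
open CategoryTheory CategoryTheory.Limits AlgebraicGeometry
open Coh

namespace Groth.Agent.S13626

/-- Let f : X → Y be a morphism of schemes with R^i f_* O_X = 0 for every i ≥ 1 and f_* O_X ≅ O_Y. Then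
for every invertible O_Y-module L and every p ≥ 0 the groups H^p(X, f^* L) and H^p(Y, L) are
isomorphic (existence of a group isomorphism; the higher direct images are the right derived
functors of f_* on O_X-modules, under the instance argument recording that O_X-modules have
injective resolutions). -/
theorem result
    {X Y : Scheme.{u}} (f : X ⟶ Y) [HasInjectiveResolutions X.Modules]
    (hR : ∀ i : ℕ, IsZero ((Coh.Rpush f (i + 1)).obj (Coh.structureModule X)))
    (h0 : Nonempty ((Coh.push f).obj (Coh.structureModule X) ≅ Coh.structureModule Y))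
    (L : Y.Modules) (hL : PicF.IsInvertible L) (p : ℕ) :
    Nonempty (Coh.HH X ((Scheme.Modules.pullback f).obj L) p ≃+ Coh.HH Y L p) := by
    have hLf : FlatMod.IsFinLocFree L := fun x => let ⟨U, hx, ⟨e⟩⟩ := hL x; ⟨U, 1, hx, ⟨e ≪≫ (CategoryTheory.Limits.coproductUniqueIso fun _ : Fin 1 => Coh.structureModule (U : Scheme.{u})).symm⟩⟩
    let M : X.Modules := CohB1.tensorMod ((Scheme.Modules.pullback f).obj L) (Coh.structureModule X)
    let eM : (Scheme.Modules.pullback f).obj L ≅ M :=
      (Groth.Agent.KFlatLib.tensorUnitIso ((Scheme.Modules.pullback f).obj L)).symm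
    haveI := Groth.Agent.QCoh.preservesFiniteLimits_push f
    obtain ⟨e₀⟩ := h0
    let r := (Scheme.Modules.pushforward f).rightDerivedZeroIsoSelf
    obtain ⟨c⟩ := Groth.Agent.KFlatLib.nonempty_rpush_tensor_finLocFree f (Coh.structureModule X) L hLf 0
    let eP : (Scheme.Modules.pushforward f).obj M ≅ L :=
      (r.app M).symm ≪≫ c.symm ≪≫ (DCoh.tensorBi.obj L).mapIso (r.app (Coh.structureModule X) ≪≫ e₀) ≪≫
        Groth.Agent.KFlatLib.tensorUnitIso L
    have hz : ∀ i : ℕ, CategoryTheory.Limits.IsZero ((CohTop.Rpush f.base (i + 1)).obj (Coh.toAb M)) := fun i => by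
      obtain ⟨c'⟩ := Groth.Agent.KFlatLib.nonempty_rpush_tensor_finLocFree f (Coh.structureModule X) L hLf (i + 1)
      obtain ⟨a⟩ := Groth.Agent.QCoh.nonempty_Rpush_iso f M i
      obtain ⟨b⟩ := Groth.Agent.QCoh.nonempty_RpushAb_iso f M i
      exact (Functor.map_isZero (Groth.Agent.QCoh.toAbFunctor Y)
        (((DCoh.tensorBi.obj L).map_isZero (hR i)).of_iso (a.symm ≪≫ c'.symm))).of_iso b
    obtain ⟨l⟩ := Groth.Agent.S0462.result f.base (Coh.toAb M) hz p
    let a₁ : Coh.HH X ((Scheme.Modules.pullback f).obj L) p ≃+ Coh.HH X M p :=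
      ((Sheaf.functorH _ p).mapIso ((SheafOfModules.toSheaf X.ringCatSheaf).mapIso eM)).addCommGroupIsoToAddEquiv
    let a₂ : Coh.HH Y ((Scheme.Modules.pushforward f).obj M) p ≃+ Coh.HH Y L p :=
      ((Sheaf.functorH _ p).mapIso ((SheafOfModules.toSheaf Y.ringCatSheaf).mapIso eP)).addCommGroupIsoToAddEquiv
    exact ⟨a₁.trans (l.trans a₂)⟩

end Groth.Agent.S13626
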