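import Groth.Statements.S13629
import Groth.Agent.PBC.Betti
import Groth.Agent.Nakai.KleimanDeg
import Groth.Agent.Big.Alt
import Groth.Agent.H23.Seesaw
import Groth.Agent.AsympCoh.ZTwist
import Groth.Agent.PicLim.Descend

set_option autoImplicit false
universe u
open CategoryTheory CategoryTheory.Limits AlgebraicGeometry Opposite
open FGA

set_option backward.isDefEq.respectTransparency false
set_option backward.isDefEq.respectTransparency.types false
attribute [-instance] CategoryTheory.catToReflQuiver

namespace Groth.Agent.S13629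

open Groth.Agent Groth.Agent.H23.PicMul in
theorem isInvertible_tensorList {X : Scheme.{u}} : ∀ l : List X.Modules, (∀ M ∈ l, PicF.IsInvertible M) →
    PicF.IsInvertible (FGA.tensorList l)
  | [], _ => PicLoc.isInvertible_structureModule X
  | M :: l, h => isInvertible_tensor (h M (by simp)) (isInvertible_tensorList l fun N hN => h N (by simp [hN]))

open Groth.Agent Groth.Agent.H23.PicMul in
theorem term_eq {X Y : Scheme.{u}} (f : X ⟶ Y) [IsProper f] (d : ℕ) (y : Y)
    (hd : topologicalKrullDim ↥(f.fiber y) ≤ d) (l : List X.Modules) (hl : ∀ M ∈ l, PicF.IsInvertible M) :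
    @FGA.eulerCharLE ↥(Y.residueField y) _ (f.fiber y) ⟨f.fiberToSpecResidueField y⟩
      (CohB1.tensorMod (FGA.tensorList (l.map (Scheme.Modules.pullback (f.fiberι y)).obj))
        (Coh.structureModule (f.fiber y))) d =
      PerfAux.eulerChar f (FGA.tensorList l) y := by
  letI : (f.fiber y).Over (Spec (CommRingCat.of (Y.residueField y))) := ⟨f.fiberToSpecResidueField y⟩
  haveI : IsProper (f.fiber y ↘ Spec (CommRingCat.of (Y.residueField y))) :=
    (MorphismProperty.pullback_snd f (Y.fromSpecResidueField y) ‹IsProper f› : IsProper (f.fiberToSpecResidueField y))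
  have hinv : PicF.IsInvertible (CohB1.tensorMod (FGA.tensorList (l.map (Scheme.Modules.pullback (f.fiberι y)).obj))
      (Coh.structureModule (f.fiber y))) := by
    refine isInvertible_tensor (isInvertible_tensorList _ fun N hN => ?_) (PicLoc.isInvertible_structureModule _)
    obtain ⟨M, hM, rfl⟩ := List.mem_map.1 hN
    exact PicClLib.isInvertible_pullback _ (hl M hM)
  refine (Nakai.eulerCharLE_eq_euler _ hd (ProjUPX.isQCoh_of_isInvertible hinv)).trans ?_
  refine (CurveCohLib.euler_congr (k := Y.residueField y) (cl_eq_iff.1 ?_).some).trans rfl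
  rw [cl_tensor, ← H23.PicMul.one_def, mul_one]
  clear hinv
  induction l with
  | nil => exact cl_eq_iff.2 ⟨(PicClLib.nonempty_pullback_structureModule (f.fiberι y)).some.symm⟩
  | cons M l ih =>
    rw [List.map_cons, FGA.tensorList, FGA.tensorList, cl_tensor, ih (fun N hN => hl N (by simp [hN])) ,
      ← cl_tensor]
    exact (cl_eq_iff.2 (pull _ _ _)).symm

/-- Let f : X → Y be a proper, flat morphism of schemes, locally of finite presentation, whose
scheme-theoretic fibres X_y all have Krull dimension at most 2, and let L be an invertible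
O_X-module with a tensor inverse M (M ⊗ L ≅ O_X). Then the self-intersection number (L_y · L_y) of
the restriction of L to the fibre X_y over κ(y), namely the alternating sum χ(O_{X_y}) − 2χ(M_y) +
χ(M_y ⊗ M_y) of Euler characteristics in degrees ≤ 2, is a locally constant function of y: every
point y₀ of Y has an open neighbourhood on which it equals its value at y₀. (The published statement
is the case where the fibres are integral normal Gorenstein surfaces and L is the relative dualizing
sheaf, so that the number is the self-intersection K² of the canonical class of the fibre; the fibre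
X_y is regarded as a scheme over Spec κ(y) through the second projection.) -/
theorem result
    {X Y : Scheme.{u}} (f : X ⟶ Y) [IsProper f] [Flat f] [LocallyOfFinitePresentation f]
    (hdim : ∀ y : Y, topologicalKrullDim ↥(f.fiber y) ≤ 2)
    (L M : X.Modules) (hL : PicF.IsInvertible L) (hM : ClSub.IsInverseOf M L) (y₀ : Y) :
    ∃ U : Y.Opens, y₀ ∈ U ∧ ∀ y : Y, y ∈ U →
      @FGA.intNum ↥(Y.residueField y) _ (f.fiber y) ⟨f.fiberToSpecResidueField y⟩ 2 2
            ![(Scheme.Modules.pullback (f.fiberι y)).obj M, (Scheme.Modules.pullback (f.fiberι y)).obj M]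
            (Coh.structureModule (f.fiber y)) =
        @FGA.intNum ↥(Y.residueField y₀) _ (f.fiber y₀) ⟨f.fiberToSpecResidueField y₀⟩ 2 2
            ![(Scheme.Modules.pullback (f.fiberι y₀)).obj M, (Scheme.Modules.pullback (f.fiberι y₀)).obj M]
            (Coh.structureModule (f.fiber y₀)) := by
  have hMinv : PicF.IsInvertible M :=
    Groth.Agent.AsympCoh.isInvertible_of_isInverseOf hL (by
      obtain ⟨e⟩ := hM
      exact ⟨(Groth.Agent.H23.PicMul.comm L M).some ≪≫ e⟩)
  let G : Finset (Fin 2) → X.Modules := fun I => FGA.tensorList ((I.sort (· ≤ ·)).map ![M, M])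
  have hG : ∀ I, PicF.IsInvertible (G I) := fun I => isInvertible_tensorList _ fun N hN => by
    obtain ⟨i, -, rfl⟩ := List.mem_map.1 hN
    fin_cases i <;> exact hMinv
  have hc : IsLocallyConstant fun y : Y =>
      ∑ I : Finset (Fin 2), (-1 : ℤ) ^ I.card * PerfAux.eulerChar f (G I) y := by
    refine (IsLocallyConstant.iff_eventually_eq _).2 fun y => ?_
    have h : ∀ I : Finset (Fin 2), ∀ᶠ z in nhds y, PerfAux.eulerChar f (G I) z = PerfAux.eulerChar f (G I) y :=
      fun I => (Groth.Agent.PBC.isLocallyConstant_eulerChar f (G I)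
        (Groth.Agent.PicLim.isFP_of_isInvertible (hG I))
        (Groth.Agent.H23.Seesaw.isFlatOver_of_isInvertible f (hG I))).eventually_eq y
    filter_upwards [Filter.eventually_all.2 h] with z hz
    simp [hz]
  have key : ∀ y : Y, @FGA.intNum ↥(Y.residueField y) _ (f.fiber y) ⟨f.fiberToSpecResidueField y⟩ 2 2
      ![(Scheme.Modules.pullback (f.fiberι y)).obj M, (Scheme.Modules.pullback (f.fiberι y)).obj M]
      (Coh.structureModule (f.fiber y)) = ∑ I : Finset (Fin 2), (-1 : ℤ) ^ I.card * PerfAux.eulerChar f (G I) y := by
    intro y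
    refine Finset.sum_congr rfl fun I _ => congrArg (((-1 : ℤ) ^ I.card) * ·) ?_
    refine Eq.trans ?_ (term_eq f 2 y (hdim y) ((I.sort (· ≤ ·)).map ![M, M]) fun N hN => by
      obtain ⟨i, -, rfl⟩ := List.mem_map.1 hN
      fin_cases i <;> exact hMinv)
    rw [List.map_map]
    congr 2
    refine congrArg (fun F => FGA.tensorList (List.map F _)) ?_
    funext i
    fin_cases i <;> rfl
  refine ⟨⟨_, hc.isOpen_fiber (∑ I : Finset (Fin 2), (-1 : ℤ) ^ I.card * PerfAux.eulerChar f (G I) y₀)⟩, rfl,
    fun y hy => ?_⟩
  rw [key, key]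
  exact hy

end Groth.Agent.S13629
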