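import Groth.Statements.S13632
import Mathlib

set_option autoImplicit false
universe u
open TensorProduct
open CAlg

namespace Groth.Agent.S13632

/-- Let S = Spec R, X = Spec A finite and flat over S, Y = Spec B of finite type over S, and φ : X → Y
an S-morphism given by f : B → A. If for every point s of S the fibres X_s and Y_s have the same
order (the κ(s)-dimension of their rings of global sections κ(s) ⊗ A and κ(s) ⊗ B; equivalently at
every geometric point) and φ is an isomorphism over every closed point of S (κ(m) ⊗ f bijective for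
every maximal ideal m), then φ is an isomorphism, i.e. f is bijective. (The published statement
allows an arbitrary base scheme S and Y separated of finite type over S; this row is the case of an
affine base with X and Y affine, the case its proof treats directly. Over a base with no closed
points the general statement fails: the hypothesis at closed points is then empty.) -/
theorem result
    {R A B : Type u} [CommRing R] [CommRing A] [CommRing B] [Algebra R A] [Algebra R B]
    [Module.Finite R A] [Module.Flat R A] [Algebra.FiniteType R B]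
    (f : B →ₐ[R] A)
    (hrank : ∀ p : PrimeSpectrum R,
      Module.rank p.asIdeal.ResidueField (p.asIdeal.ResidueField ⊗[R] B) =
        Module.rank p.asIdeal.ResidueField (p.asIdeal.ResidueField ⊗[R] A))
    (hmax : ∀ (m : Ideal R) [m.IsMaximal],
      Function.Bijective (LinearMap.lTensor m.ResidueField f.toLinearMap)) :
    Function.Bijective f := by
  classical
  -- surjectivity
  have hsurj : Function.Surjective f := by
    rw [← AlgHom.coe_toLinearMap, ← LinearMap.range_eq_top]
    by_contra hne
    haveI : Nontrivial (A ⧸ LinearMap.range f.toLinearMap) := Submodule.Quotient.nontrivial_iff.mpr hne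
    obtain ⟨p, hp⟩ := Module.nonempty_support_of_nontrivial (R := R) (M := A ⧸ LinearMap.range f.toLinearMap)
    obtain ⟨m, hm, hpm⟩ := Ideal.exists_le_maximal p.asIdeal p.isPrime.ne_top
    haveI := hm
    have hms : (⟨m, hm.isPrime⟩ : PrimeSpectrum R) ∈ Module.support R (A ⧸ LinearMap.range f.toLinearMap) :=
      Module.mem_support_mono (q := ⟨m, hm.isPrime⟩) hpm hp
    rw [Module.mem_support_iff_nontrivial_residueField_tensorProduct] at hms
    refine (not_nontrivial_iff_subsingleton.mpr (subsingleton_of_forall_eq (α := m.ResidueField ⊗[R] (A ⧸ LinearMap.range f.toLinearMap)) 0 fun z => ?_)) hms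
    obtain ⟨w, rfl⟩ := LinearMap.lTensor_surjective m.ResidueField (Submodule.mkQ_surjective _) z
    obtain ⟨v, rfl⟩ := (hmax m).2 w
    rw [← LinearMap.comp_apply, ← LinearMap.lTensor_comp,
      show (LinearMap.range f.toLinearMap).mkQ ∘ₗ f.toLinearMap = 0 from LinearMap.range_mkQ_comp _,
      LinearMap.lTensor_zero]
    rfl
  refine ⟨?_, hsurj⟩
  rw [injective_iff_map_eq_zero]
  intro y hy
  by_contra hy0
  obtain ⟨q, hq, hyq⟩ := Ideal.exists_le_maximal (LinearMap.ker (LinearMap.toSpanSingleton B B y)) (fun h => hy0 (by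
    have h1 : (1 : B) ∈ LinearMap.ker (LinearMap.toSpanSingleton B B y) := h ▸ Submodule.mem_top
    simpa using h1))
  haveI := hq
  suffices h : ∃ r : B, r ∉ q ∧ r * y = 0 by
    obtain ⟨r, hr, hry⟩ := h
    exact hr (hyq (by simpa using hry))
  let p : Ideal R := q.comap (algebraMap R B)
  haveI hp : p.IsPrime := inferInstance
  let I : Ideal B := p.map (algebraMap R B)
  have hIq : I ≤ q := Ideal.map_comap_le
  -- bijectivity on the fibre at `p`
  have hfib : ∀ z : B, f z = 0 → ∃ t : R, t ∉ p ∧ t • z ∈ I := by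
    intro z hz
    let κ := p.ResidueField
    have hs : Function.Surjective (f.toLinearMap.baseChange κ) := LinearMap.lTensor_surjective κ hsurj
    have hrk := hrank ⟨p, hp⟩
    haveI : Module.Finite κ (κ ⊗[R] B) := by
      rw [← Module.rank_lt_aleph0_iff]
      exact hrk ▸ Module.rank_lt_aleph0 κ (κ ⊗[R] A)
    have hfr : Module.finrank κ (κ ⊗[R] B) = Module.finrank κ (κ ⊗[R] A) := by
      simp only [Module.finrank]; exact congrArg _ hrk
    have hinj := (LinearMap.injective_iff_surjective_of_finrank_eq_finrank hfr).mpr hs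
    have h1 : (1 : κ) ⊗ₜ[R] z = 0 := hinj (by
      rw [map_zero, LinearMap.baseChange_tmul, AlgHom.toLinearMap_apply, hz, TensorProduct.tmul_zero])
    let M := Algebra.algebraMapSubmonoid B p.primeCompl
    let L := Localization M
    let J : Ideal L := I.map (algebraMap B L)
    let ρ : κ →ₐ[R] L ⧸ J := Ideal.ResidueField.liftₐ p (Algebra.ofId R (L ⧸ J))
      (fun r hr => by
        rw [RingHom.mem_ker, Algebra.ofId_apply, ← Ideal.Quotient.mk_algebraMap, Ideal.Quotient.eq_zero_iff_mem,
          IsScalarTower.algebraMap_apply R B L]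
        exact Ideal.mem_map_of_mem _ (Ideal.mem_map_of_mem _ hr))
      (fun r hr => by
        have hu : IsUnit (algebraMap R L r) := by
          rw [IsScalarTower.algebraMap_apply R B L]
          exact IsLocalization.map_units L (⟨algebraMap R B r, Algebra.mem_algebraMapSubmonoid_of_mem ⟨r, hr⟩⟩ : M)
        show IsUnit (Algebra.ofId R (L ⧸ J) r)
        rw [Algebra.ofId_apply, ← Ideal.Quotient.mk_algebraMap]
        exact hu.map _)
    let g : B →ₐ[R] L ⧸ J := (Ideal.Quotient.mkₐ R J).comp (IsScalarTower.toAlgHom R B L)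
    let m' : κ ⊗[R] B →ₐ[R] L ⧸ J := Algebra.TensorProduct.lift ρ g (fun _ _ => Commute.all _ _)
    have h2 : m' ((1 : κ) ⊗ₜ[R] z) = 0 := by rw [h1, map_zero]
    rw [Algebra.TensorProduct.lift_tmul, map_one, one_mul] at h2
    have h3 : algebraMap B L z ∈ J := Ideal.Quotient.eq_zero_iff_mem.mp h2
    rw [IsLocalization.algebraMap_mem_map_algebraMap_iff M] at h3
    obtain ⟨_, ⟨t, ht, rfl⟩, hm⟩ := h3
    exact ⟨t, ht, by rw [Algebra.smul_def]; exact hm⟩
  -- a local basis of `A`
  obtain ⟨n, e, hn, hspan, hind⟩ : ∃ (n : Type u) (e : n → A), Finite n ∧ (∀ x : A, ∃ s : R, s ∉ p ∧ s • x ∈ Submodule.span R (Set.range e)) ∧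
      ∀ c : n →₀ R, Finsupp.linearCombination R e c = 0 →
        ∃ s : R, s ∉ p ∧ s • c = 0 := by
    let S := Localization.AtPrime p
    haveI : Module.Free S (S ⊗[R] A) := Module.free_of_flat_of_isLocalRing
    haveI : Module.FinitePresentation S (S ⊗[R] A) := Module.finitePresentation_of_projective S _
    let v : A → S ⊗[R] A := fun x => (1 : S) ⊗ₜ[R] x
    have hv : Submodule.span S (Set.range v) = ⊤ := by
      rw [eq_top_iff]
      rintro z -
      induction z using TensorProduct.induction_on with
      | zero => exact zero_mem _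
      | tmul a x =>
        rw [show a ⊗ₜ[R] x = a • v x by simp [v, TensorProduct.smul_tmul']]
        exact Submodule.smul_mem _ _ (Submodule.subset_span ⟨x, rfl⟩)
      | add a b ha hb => exact add_mem ha hb
    obtain ⟨n, a, b, hb⟩ := Module.exists_basis_of_span_of_flat v hv
    let j : A →ₗ[R] S ⊗[R] A := TensorProduct.mk R S A 1
    haveI : IsLocalizedModule p.primeCompl j := inferInstance
    have hj : ∀ c : n →₀ R, j (Finsupp.linearCombination R a c) =
        Finsupp.linearCombination S b (c.mapRange (algebraMap R S) (map_zero _)) := by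
      intro c
      rw [Finsupp.linearCombination_apply, Finsupp.linearCombination_apply, map_finsuppSum,
        Finsupp.sum_mapRange_index (h := fun i r => r • b i) (fun i => zero_smul S _)]
      refine Finsupp.sum_congr fun i _ => ?_
      rw [map_smul, hb, algebraMap_smul]
      rfl
    refine ⟨n, a, Module.Finite.finite_basis b, fun x => ?_, fun c hc => ?_⟩
    · obtain ⟨⟨s, hs⟩, hrepr⟩ := IsLocalization.exist_integer_multiples p.primeCompl (b.repr (j x)).support (fun i => b.repr (j x) i)
      choose c hc using fun i : (b.repr (j x)).support => hrepr i.1 i.2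
      have heq : j (s • x) = j (∑ i : (b.repr (j x)).support, c i • a i.1) := by
        conv_lhs => rw [map_smul, ← b.linearCombination_repr (j x), Finsupp.linearCombination_apply, Finsupp.sum,
          Finset.smul_sum, ← Finset.sum_coe_sort]
        rw [map_sum]
        refine Finset.sum_congr rfl fun i _ => ?_
        rw [← smul_assoc, ← hc i, algebraMap_smul, map_smul, hb]
        rfl
      obtain ⟨⟨t, ht⟩, h⟩ := IsLocalizedModule.exists_of_eq (S := p.primeCompl) heq
      refine ⟨t * s, p.primeCompl.mul_mem ht hs, ?_⟩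
      rw [mul_smul]
      rw [show t • s • x = _ from h]
      exact Submodule.smul_mem _ _ (Submodule.sum_mem _ fun i _ => Submodule.smul_mem _ _ (Submodule.subset_span ⟨_, rfl⟩))
    · have h0 := congrArg j hc
      rw [map_zero, hj] at h0
      have h1 : c.mapRange (algebraMap R S) (map_zero _) = 0 := b.linearIndependent (h0.trans (map_zero _).symm)
      choose s hs using fun i => (IsLocalization.map_eq_zero_iff p.primeCompl S (c i)).mp (DFunLike.congr_fun h1 i)
      refine ⟨∏ i ∈ c.support, (s i : R), p.primeCompl.prod_mem fun i _ => (s i).2, Finsupp.ext fun i => ?_⟩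
      rw [Finsupp.smul_apply, Finsupp.zero_apply, smul_eq_mul]
      by_cases hi : i ∈ c.support
      · rw [← Finset.prod_erase_mul _ _ hi, mul_assoc, hs, mul_zero]
      · rw [Finsupp.notMem_support_iff.mp hi, mul_zero]
  -- lifts to `B`
  let β : n → B := fun i => (hsurj (e i)).choose
  have hβ : ∀ i, f (β i) = e i := fun i => (hsurj (e i)).choose_spec
  let V : Submodule R B := Submodule.span R (Set.range β)
  have hV : V.map f.toLinearMap = Submodule.span R (Set.range e) := by
    rw [Submodule.map_span, ← Set.range_comp]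
    congr 1
    exact congrArg Set.range (funext hβ)
  have hVker : ∀ w ∈ V, f w = 0 → ∃ u : R, u ∉ p ∧ u • w = 0 := by
    intro w hw hfw
    obtain ⟨c, rfl⟩ := Finsupp.mem_span_range_iff_exists_finsupp.mp hw
    have h0 : Finsupp.linearCombination R e c = 0 := by
      rw [← hfw, map_finsuppSum, Finsupp.linearCombination_apply]
      exact Finsupp.sum_congr fun i _ => by rw [map_smul, hβ]
    obtain ⟨u, hu, huc⟩ := hind c h0
    refine ⟨u, hu, ?_⟩
    rw [Finsupp.smul_sum]
    refine Finset.sum_eq_zero fun i _ => ?_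
    show u • c i • β i = 0
    rw [← mul_smul, ← smul_eq_mul, ← Finsupp.smul_apply, huc, Finsupp.zero_apply, zero_smul]
  choose sy hsy hsy' using fun z : B => hspan (f z)
  have hlift : ∀ z : B, ∃ w ∈ V, f w = sy z • f z := fun z => by
    have := hsy' z
    rw [← hV] at this
    exact this
  choose wy hwy hwy' using hlift
  let k : B → B := fun z => sy z • z - wy z
  have hk : ∀ z, f (k z) = 0 := fun z => by simp [k, hwy']
  obtain ⟨G, hG⟩ := (Algebra.FiniteType.out : (⊤ : Subalgebra R B).FG)
  haveI := hn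
  haveI := Fintype.ofFinite n
  let Gs : Finset B := ((G ∪ {1}) ∪ Finset.univ.image (fun ij : n × n => β ij.1 * β ij.2)).image k
  let K₀ : Ideal B := Ideal.span (Gs : Set B)
  have hK₀ : ∀ z ∈ K₀, f z = 0 := by
    intro z hz
    have : K₀ ≤ RingHom.ker f := Ideal.span_le.mpr fun g hg => by
      obtain ⟨x, -, rfl⟩ := Finset.mem_image.mp hg
      exact hk x
    exact this hz
  let T : Submodule R B := V ⊔ K₀.restrictScalars R
  let U : Submodule R B :=
    { carrier := {z | ∃ s : R, s ∉ p ∧ s • z ∈ T}
      zero_mem' := ⟨1, p.primeCompl.one_mem, by simp⟩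
      add_mem' := by
        rintro a b ⟨s, hs, ha⟩ ⟨t, ht, hb⟩
        refine ⟨s * t, p.primeCompl.mul_mem hs ht, ?_⟩
        rw [smul_add]
        refine add_mem ?_ ?_
        · rw [mul_comm, mul_smul]; exact Submodule.smul_mem _ _ ha
        · rw [mul_smul]; exact Submodule.smul_mem _ _ hb
      smul_mem' := by
        rintro c a ⟨s, hs, ha⟩
        exact ⟨s, hs, by rw [smul_comm]; exact Submodule.smul_mem _ _ ha⟩ }
  have hUk : ∀ z, k z ∈ K₀ → z ∈ U := fun z hz => ⟨sy z, hsy z, by
    rw [show sy z • z = wy z + k z by simp [k]]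
    exact Submodule.add_mem_sup (hwy z) hz⟩
  have hgen : ∀ z, z ∈ (G ∪ {1}) ∪ Finset.univ.image (fun ij : n × n => β ij.1 * β ij.2) → z ∈ U := fun z hz =>
    hUk z (Ideal.subset_span (Finset.mem_coe.mpr (Finset.mem_image_of_mem k hz)))
  have hUmul : ∀ a ∈ U, ∀ b ∈ U, a * b ∈ U := by
    rintro a ⟨s, hs, ha⟩ b ⟨t, ht, hb⟩
    have hVV : ∀ v ∈ V, ∀ w ∈ V, v * w ∈ U := by
      intro v hv w hw
      have hm : v * w ∈ V * V := Submodule.mul_mem_mul hv hw
      rw [Submodule.span_mul_span] at hm
      refine Submodule.span_le.mpr ?_ hm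
      rintro _ ⟨_, ⟨i, rfl⟩, _, ⟨j, rfl⟩, rfl⟩
      exact hgen _ (Finset.mem_union_right _ (Finset.mem_image.mpr ⟨(i, j), Finset.mem_univ _, rfl⟩))
    obtain ⟨v, hv, k₁, hk₁, hvk⟩ := Submodule.mem_sup.mp ha
    obtain ⟨w, hw, k₂, hk₂, hwk⟩ := Submodule.mem_sup.mp hb
    obtain ⟨r, hr, hvw⟩ := hVV v hv w hw
    refine ⟨r * (s * t), p.primeCompl.mul_mem hr (p.primeCompl.mul_mem hs ht), ?_⟩
    have he : (r * (s * t)) • (a * b) = r • (v * w) + r • (v * k₂ + k₁ * (w + k₂)) := by
      rw [mul_smul, ← smul_add, ← smul_mul_smul_comm, ← hvk, ← hwk]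
      congr 1
      ring
    rw [he]
    exact add_mem hvw (Submodule.smul_mem _ _ (Submodule.mem_sup_right
      (K₀.add_mem (K₀.mul_mem_left _ hk₂) (K₀.mul_mem_right _ hk₁))))
  have hUtop : ∀ z : B, z ∈ U := by
    intro z
    have h1 : (1 : B) ∈ U := hgen 1 (by simp)
    have hz : z ∈ Algebra.adjoin R (G : Set B) := hG ▸ Algebra.mem_top
    induction hz using Algebra.adjoin_induction with
    | mem x hx => exact hgen x (by simp [Finset.mem_coe.mp hx])
    | algebraMap r => rw [Algebra.algebraMap_eq_smul_one]; exact Submodule.smul_mem _ _ h1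
    | add a b _ _ ha hb => exact add_mem ha hb
    | mul a b _ _ ha hb => exact hUmul a ha b hb
  have hker : ∀ z, f z = 0 → ∃ u : R, u ∉ p ∧ u • z ∈ K₀ := by
    intro z hz
    obtain ⟨s, hs, hsz⟩ := hUtop z
    obtain ⟨w, hw, k₁, hk₁, hwk⟩ := Submodule.mem_sup.mp hsz
    have hfw : f w = 0 := by
      have := congrArg f hwk
      rwa [map_add, hK₀ k₁ hk₁, add_zero, map_smul, hz, smul_zero] at this
    obtain ⟨u, hu, huw⟩ := hVker w hw hfw
    exact ⟨u * s, p.primeCompl.mul_mem hu hs, by
      rw [mul_smul, ← hwk, smul_add, huw, zero_add]; exact Submodule.smul_of_tower_mem _ _ hk₁⟩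
  have hgenI : ∀ g ∈ Gs, ∃ u : R, u ∉ p ∧ u • g ∈ I * K₀ := by
    intro g hg
    obtain ⟨t, ht, htg⟩ := hfib g (hK₀ g (Ideal.subset_span hg))
    have hI : ∀ z ∈ I, ∃ s : R, s ∉ p ∧ s • z ∈ p • T := by
      intro z hz
      have hz' : z ∈ p • (⊤ : Submodule R B) := by rw [Ideal.smul_top_eq_map]; exact hz
      clear hz
      refine Submodule.smul_induction_on hz' (fun π hπ x _ => ?_) ?_
      · obtain ⟨s, hs, hsx⟩ := hUtop x
        exact ⟨s, hs, by rw [smul_comm]; exact Submodule.smul_mem_smul hπ hsx⟩
      · rintro a b ⟨s, hs, ha⟩ ⟨t, ht, hb⟩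
        refine ⟨s * t, p.primeCompl.mul_mem hs ht, ?_⟩
        rw [smul_add]
        refine add_mem ?_ ?_
        · rw [mul_comm, mul_smul]; exact Submodule.smul_mem _ _ ha
        · rw [mul_smul]; exact Submodule.smul_mem _ _ hb
    obtain ⟨s, hs, hsg⟩ := hI _ htg
    rw [Submodule.smul_sup] at hsg
    obtain ⟨w, hw, k₁, hk₁, hwk⟩ := Submodule.mem_sup.mp hsg
    have hw' : w ∈ V := Submodule.smul_le_right hw
    have hk₁' : k₁ ∈ I * K₀ := by
      refine Submodule.smul_induction_on hk₁ (fun π hπ x hx => ?_) (fun a b ha hb => add_mem ha hb)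
      rw [Algebra.smul_def]
      exact Ideal.mul_mem_mul (Ideal.mem_map_of_mem _ hπ) hx
    have hfw : f w = 0 := by
      have h1 : f k₁ = 0 := hK₀ _ (Ideal.mul_le_right hk₁')
      have := congrArg f hwk
      rwa [map_add, h1, add_zero, map_smul, map_smul, hK₀ g (Ideal.subset_span hg), smul_zero, smul_zero] at this
    obtain ⟨u, hu, huw⟩ := hVker w hw' hfw
    refine ⟨u * (s * t), p.primeCompl.mul_mem hu (p.primeCompl.mul_mem hs ht), ?_⟩
    rw [mul_smul, mul_smul, ← hwk, smul_add, huw, zero_add]
    exact Submodule.smul_of_tower_mem _ _ hk₁'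
  choose! uu huu huu' using hgenI
  let u₀ : R := ∏ g ∈ Gs, uu g
  have hu₀ : u₀ ∉ p := p.primeCompl.prod_mem fun g hg => huu g hg
  let c : B := algebraMap R B u₀
  have hc : ∀ z ∈ K₀, c * z ∈ I * K₀ := by
    intro z hz
    refine (Ideal.span_le (I := Submodule.comap (LinearMap.mulLeft B c) (I * K₀))).mpr ?_ hz
    intro g hg
    show c * g ∈ I * K₀
    rw [← Algebra.smul_def, show u₀ = (∏ g' ∈ Gs.erase g, uu g') * uu g from (Finset.prod_erase_mul _ _ hg).symm, mul_smul]
    exact Submodule.smul_of_tower_mem _ _ (huu' g hg)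
  haveI : Module.Finite B K₀ := Module.Finite.iff_fg.mpr ⟨Gs, rfl⟩
  obtain ⟨P, hPm, -, hPc, hP⟩ := LinearMap.exists_monic_and_natDegree_eq_and_coeff_mem_pow_and_aeval_eq_zero
    B (algebraMap B (Module.End B K₀) c) I (by
      rintro _ ⟨x, rfl⟩
      rw [Submodule.mem_smul_top_iff, smul_eq_mul]
      exact hc x x.2)
  rw [Polynomial.aeval_algebraMap_apply] at hP
  let r : B := P.eval c
  have hr : r ∉ q := by
    intro hr
    have hsum : r = ∑ i ∈ Finset.range (P.natDegree + 1), P.coeff i * c ^ i := Polynomial.eval_eq_sum_range c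
    rw [Finset.sum_range_succ, show P.coeff P.natDegree = 1 from hPm, one_mul] at hsum
    have h1 : ∑ i ∈ Finset.range P.natDegree, P.coeff i * c ^ i ∈ q :=
      Ideal.sum_mem _ fun i hi => q.mul_mem_right _ (hIq ((Ideal.pow_le_self (by
        rw [Finset.mem_range] at hi; omega)) (hPc i)))
    rw [hsum] at hr
    exact hu₀ (hq.isPrime.mem_of_pow_mem _ ((q.add_mem_iff_right h1).mp hr))
  obtain ⟨u, hu, huy⟩ := hker y hy
  refine ⟨r * algebraMap R B u, fun h => ?_, ?_⟩
  · exact (hq.isPrime.mem_or_mem h).elim hr hu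
  · rw [mul_assoc, ← Algebra.smul_def u y]
    have h2 := congrArg Subtype.val (LinearMap.congr_fun hP ⟨_, huy⟩)
    rw [Polynomial.coe_aeval_eq_eval] at h2
    exact h2

end Groth.Agent.S13632
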