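import Groth.Statements.S1365
import Groth.Agent.S9821
import Groth.Agent.FlatMisc.SteinUC
import Groth.Agent.SteinLib.General

set_option autoImplicit false
universe u
open FlatMor

attribute [-instance] CategoryTheory.catToReflQuiver
set_option backward.isDefEq.respectTransparency false
set_option backward.isDefEq.respectTransparency.types false

namespace Groth.Agent.S1365

open AlgebraicGeometry CategoryTheory Limits Opposite in
theorem aux {X S : Scheme.{u}} (f : X ⟶ S) [IsProper f] [IsIntegral S] (hS : Pi1.IsNormalScheme S) [IsReduced X]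
    (hgen : ∀ Z ∈ irreducibleComponents ↑X, ∀ x : X, IsGenericPoint x Z → f x = genericPoint ↑S)
    (h0 : Function.Bijective ((f.fiberToSpecResidueField (genericPoint ↑S)).appTop))
    (A : S.Opens) (hA : IsAffineOpen A) [Nonempty A] : Function.Bijective (f.app A) := by
  let ξ : S := genericPoint ↑S
  have hξA : ξ ∈ A := (genericPoint_spec S).mem_open_set_iff A.isOpen |>.2 (by simpa using ‹Nonempty A›)
  have hle : (⊤ : (f.fiber ξ).Opens) ≤ f.fiberι ξ ⁻¹ᵁ (f ⁻¹ᵁ A) := fun p _ => by
    have hp : f (f.fiberι ξ p) = ξ := by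
      have := Set.mem_range_self (f := f.fiberι ξ) p
      rw [Scheme.Hom.range_fiberι] at this
      exact this
    show f (f.fiberι ξ p) ∈ A
    rw [hp]; exact hξA
  let r := (f.fiberι ξ).appLE (f ⁻¹ᵁ A) ⊤ hle
  -- restriction to the generic fibre is injective
  have hr : Function.Injective r := by
    refine (injective_iff_map_eq_zero r.hom).2 fun b hb => ?_
    refine (basicOpen_eq_bot_iff b).1 (eq_bot_iff.2 fun x hx => ?_)
    let Z := irreducibleComponent x
    have hZ : IsIrreducible Z := isIrreducible_irreducibleComponent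
    have hη : IsGenericPoint hZ.genericPoint Z := by
      have := hZ.isGenericPoint_genericPoint_closure
      rwa [isClosed_irreducibleComponent.closure_eq] at this
    have hηb : hZ.genericPoint ∈ X.basicOpen b :=
      (hη.specializes mem_irreducibleComponent).mem_open (X.basicOpen b).isOpen hx
    have hfη := hgen Z (irreducibleComponent_mem_irreducibleComponents x) _ hη
    have : hZ.genericPoint ∈ Set.range (f.fiberι ξ) := by
      rw [Scheme.Hom.range_fiberι]; exact hfη
    obtain ⟨p, hp⟩ := this
    have h1 : p ∈ (⊤ : (f.fiber ξ).Opens) ⊓ f.fiberι ξ ⁻¹ᵁ X.basicOpen b := ⟨trivial, by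
      show f.fiberι ξ p ∈ X.basicOpen b
      rw [hp]; exact hηb⟩
    rw [← Scheme.basicOpen_appLE (f.fiberι ξ) ⊤ (f ⁻¹ᵁ A) hle b] at h1
    rw [show (f.fiberι ξ).appLE (f ⁻¹ᵁ A) ⊤ hle b = 0 from hb, Scheme.basicOpen_zero] at h1
    exact h1
  have hle' : (⊤ : (Spec (S.residueField ξ)).Opens) ≤ S.fromSpecResidueField ξ ⁻¹ᵁ A := fun p _ => by
    show S.fromSpecResidueField ξ p ∈ A
    rw [Scheme.fromSpecResidueField_apply]; exact hξA
  let ψ := (S.fromSpecResidueField ξ).appLE A ⊤ hle'
  have hψ : ψ = S.presheaf.germ A ξ hξA ≫ S.residue ξ ≫ (Scheme.ΓSpecIso (S.residueField ξ)).inv := by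
    have h2 : (⊤ : (Spec (S.presheaf.stalk ξ)).Opens) ≤ S.fromSpecStalk ξ ⁻¹ᵁ A := by
      intro p _
      have := Set.mem_range_self (f := S.fromSpecStalk ξ) p
      rw [Scheme.range_fromSpecStalk] at this
      have h : S.fromSpecStalk ξ p ⤳ ξ := this
      exact h.mem_open A.isOpen hξA
    show (Spec.map (S.residue ξ) ≫ S.fromSpecStalk ξ).appLE A ⊤ hle' = _
    have e1 : (S.fromSpecStalk ξ).appLE A ⊤ h2 =
        S.presheaf.germ A ξ hξA ≫ (Scheme.ΓSpecIso (S.presheaf.stalk ξ)).inv := by
      rw [Scheme.Hom.appLE, Scheme.fromSpecStalk_app hξA]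
      simp only [Category.assoc, ← Functor.map_comp]
      rw [Subsingleton.elim ((homOfLE _).op ≫ (homOfLE h2).op) (𝟙 _), CategoryTheory.Functor.map_id, Category.comp_id]
    rw [← Scheme.Hom.appLE_comp_appLE _ _ _ ⊤ ⊤ h2 le_top, e1, Category.assoc,
      Scheme.ΓSpecIso_inv_naturality, Scheme.Hom.appTop, Scheme.Hom.app_eq_appLE]
    rfl
  have hcomm : f.app A ≫ r = ψ ≫ (f.fiberToSpecResidueField ξ).appTop := by
    show _ = (S.fromSpecResidueField ξ).appLE A ⊤ hle' ≫ _
    rw [Scheme.Hom.app_eq_appLE f, Scheme.Hom.appLE_comp_appLE, Scheme.Hom.appTop, Scheme.Hom.app_eq_appLE,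
      Scheme.Hom.appLE_comp_appLE]
    congr 1
    exact pullback.condition
  haveI : IsIntegrallyClosed Γ(S, A) := (S9821.result S).1 hS A hA
  haveI := functionField_isFractionRing_of_isAffineOpen S A hA
  let E : Γ(Spec (S.residueField ξ), ⊤) →+* S.residueField ξ := (Scheme.ΓSpecIso (S.residueField ξ)).hom.hom
  let ρ : S.functionField →+* S.residueField ξ := (S.residue ξ).hom
  have hρ : Function.Bijective ρ := ⟨ρ.injective, IsLocalRing.residue_surjective⟩
  have hψ' : ∀ a, E (ψ a) = ρ (algebraMap Γ(S, A) S.functionField a) := fun a => by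
    rw [hψ]
    exact congr($((Scheme.ΓSpecIso (S.residueField ξ)).inv_hom_id) _)
  refine ⟨(injective_iff_map_eq_zero (f.app A).hom).2 fun a ha => ?_, fun b => ?_⟩
  · have h1 : (f.fiberToSpecResidueField ξ).appTop (ψ a) = 0 := by
      refine (congr($hcomm a)).symm.trans ?_
      show r (f.app A a) = 0
      rw [show f.app A a = 0 from ha, map_zero]
    have h2 : ρ (algebraMap Γ(S, A) S.functionField a) = 0 := by
      rw [← hψ', h0.1 (h1.trans (map_zero _).symm), map_zero]
    exact IsFractionRing.injective Γ(S, A) S.functionField ((hρ.1 (h2.trans (map_zero ρ).symm)).trans (map_zero _).symm)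
  · haveI : IsAffine A.toScheme := hA
    haveI : UniversallyClosed (f ∣_ A) := MorphismProperty.of_isPullback (isPullback_morphismRestrict f A).flip inferInstance
    have hint : (f.app A).hom.IsIntegral := by
      have h1 := isIntegral_appTop_of_universallyClosed (f ∣_ A)
      rwa [← Scheme.Hom.resLE_eq_morphismRestrict, RingHom.isIntegral_respectsIso.arrow_mk_iso_iff (arrowResLEAppIso f _ _ le_rfl), Scheme.Hom.appLE_eq_app] at h1
    let T : Γ(f.fiber ξ, ⊤) →+* Γ(Spec (S.residueField ξ), ⊤) :=
      (RingEquiv.ofBijective (f.fiberToSpecResidueField ξ).appTop.hom h0).symm.toRingHom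
    let θ : Γ(X, f ⁻¹ᵁ A) →+* S.functionField :=
      (((RingEquiv.ofBijective ρ hρ).symm.toRingHom.comp E).comp T).comp r.hom
    have hθ : θ.comp (f.app A).hom = algebraMap Γ(S, A) S.functionField := RingHom.ext fun a => by
      show (RingEquiv.ofBijective ρ hρ).symm (E (T (r (f.app A a)))) = _
      rw [RingEquiv.symm_apply_eq, RingEquiv.ofBijective_apply, ← hψ']
      congr 1
      show (RingEquiv.ofBijective (f.fiberToSpecResidueField ξ).appTop.hom h0).symm (r (f.app A a)) = _
      rw [RingEquiv.symm_apply_eq]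
      exact congr($hcomm a)
    obtain ⟨p, hp, hpb⟩ := hint b
    have hk : IsIntegral Γ(S, A) (θ b) := ⟨p, hp, by
      rw [← hθ, ← Polynomial.hom_eval₂, hpb, map_zero]⟩
    obtain ⟨a, ha⟩ := IsIntegrallyClosed.isIntegral_iff.1 hk
    refine ⟨a, hr ?_⟩
    have h3 : θ (f.app A a) = θ b := (RingHom.congr_fun hθ a).trans ha
    have hθinj : Function.Injective (((RingEquiv.ofBijective ρ hρ).symm.toRingHom.comp E).comp T) :=
      ((RingEquiv.ofBijective ρ hρ).symm.injective.comp
        (ConcreteCategory.bijective_of_isIso (Scheme.ΓSpecIso (S.residueField ξ)).hom).1).comp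
        (RingEquiv.ofBijective (f.fiberToSpecResidueField ξ).appTop.hom h0).symm.injective
    exact hθinj h3

open AlgebraicGeometry CategoryTheory Limits in
/-- Let f : X → S be proper with S integral and normal and X reduced, such that the generic points of
the irreducible components of X all lie over the generic point ξ of S, and such that the global
functions of the generic fibre are just the residue field of ξ. Then the structure sheaf of S is the
pushforward of that of X (all components of f on opens are isomorphisms) and f has geometrically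
connected fibres. -/
theorem result {X S : Scheme.{u}} (f : X ⟶ S) [IsProper f] [IsIntegral S] (hS : Pi1.IsNormalScheme S) [IsReduced X]
    (hgen : ∀ Z ∈ irreducibleComponents ↑X, ∀ x : X, IsGenericPoint x Z → f x = genericPoint ↑S)
    (h0 : Function.Bijective ((f.fiberToSpecResidueField (genericPoint ↑S)).appTop)) :
    (∀ U : S.Opens, IsIso (f.app U)) ∧ GeometricallyConnected f := by
  have happ : ∀ U : S.Opens, IsIso (f.app U) := fun U =>
    FlatMisc.isIso_app_of_bijective_affine f (fun z => by
      obtain ⟨_, ⟨A, hA, rfl⟩, hzA, -⟩ :=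
        S.isBasis_affineOpens.exists_subset_of_mem_open (Set.mem_univ z) isOpen_univ
      haveI : Nonempty A := ⟨⟨z, hzA⟩⟩
      exact ⟨A, hA, hzA, aux f hS hgen h0 A hA⟩) U
  exact ⟨happ, SteinLib.geometricallyConnected_of_isIso_app f happ⟩

end Groth.Agent.S1365
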