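import Groth.Statements.S13651
import Groth.Agent.H9FCoh.AlgzZero
set_option backward.isDefEq.respectTransparency false
set_option backward.isDefEq.respectTransparency.types false
set_option linter.style.haveILetI false

set_option autoImplicit false
open CategoryTheory CategoryTheory.Limits AlgebraicGeometry
universe u
open FSch

namespace Groth.Agent.S13651

/-- Let A be an adic Noetherian ring with ideal of definition J, Y = Spec A, f : X ⟶ Y of finite type
and closed (a closed map on underlying spaces), X̂ the completion of X along f⁻¹(V(J)), F and G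
coherent O_X-modules whose supports have intersection proper over Y, and u : F ⟶ G a homomorphism
with completion û : F̂ ⟶ Ĝ. Then û is injective (a monomorphism of O_X̂-modules) if and only if u is
injective, and û is surjective if and only if u is surjective. -/
theorem result (A : Type u) [CommRing A] [IsNoetherianRing A]
    (J : Ideal A) [IsAdicComplete J A] {X : Scheme.{u}} (f : X ⟶ Spec (CommRingCat.of A)) [LocallyOfFiniteType f]
    [QuasiCompact f] (hf : IsClosedMap f.base) (𝓘 : X.IdealSheafData) (h𝓘 : 𝓘 = (FSch.idealSpec A J).comap f)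
    (hX : (FSch.completionAlong X 𝓘).IsFormal) (F G : X.Modules) (hF : Coh.IsCoh F) (hG : Coh.IsCoh G)
    (hs : ClSub.IsProperOver f (CohB1.support F ∩ CohB1.support G)) (u : F ⟶ G) :
    (Mono (FSch.ModSys.realModMap hX (FSch.complModMap 𝓘 u)) ↔ Mono u) ∧
    (Epi (FSch.ModSys.realModMap hX (FSch.complModMap 𝓘 u)) ↔ Epi u) := by
  haveI : IsLocallyNoetherian X := LocallyOfFiniteType.isLocallyNoetherian f
  let P := H9FCoh.toHatF 𝓘 hX
  have e : Arrow.mk (P.map u) ≅ Arrow.mk (FSch.ModSys.realModMap hX (FSch.complModMap 𝓘 u)) :=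
    Arrow.isoMk (H9FCoh.hatIso 𝓘 hX F hF) (H9FCoh.hatIso 𝓘 hX G hG) (H9FCoh.hatIso_natural 𝓘 hX hF hG u).symm
  obtain ⟨⟨k⟩, -, ⟨c⟩⟩ := H9FCoh.toHatF_pieces 𝓘 hX hF hG u
  have hm : Mono (P.map u) ↔ Mono (FSch.ModSys.realModMap hX (FSch.complModMap 𝓘 u)) :=
    (MorphismProperty.monomorphisms _).arrow_mk_iso_iff e
  have he : Epi (P.map u) ↔ Epi (FSch.ModSys.realModMap hX (FSch.complModMap 𝓘 u)) :=
    (MorphismProperty.epimorphisms _).arrow_mk_iso_iff e
  refine ⟨⟨fun h => ?_, fun h => ?_⟩, ⟨fun h => ?_, fun h => ?_⟩⟩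
  · haveI := hm.2 h
    refine Preadditive.mono_of_isZero_kernel u (H9FCoh.isZero_of_isZero_toHatF 𝓘 hX J f hf h𝓘
      (H9FCoh.isCoh_kernel hF hG u) ?_)
    exact IsZero.of_iso (isZero_kernel_of_mono (P.map u)) k.symm
  · exact hm.1 (H9FCoh.mono_toHatF 𝓘 hX hF hG u)
  · haveI := he.2 h
    refine Preadditive.epi_of_isZero_cokernel u (H9FCoh.isZero_of_isZero_toHatF 𝓘 hX J f hf h𝓘
      (H9FCoh.isCoh_cokernel hF hG u) ?_)
    exact IsZero.of_iso (isZero_cokernel_of_epi (P.map u)) c.symm
  · exact he.1 inferInstance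

end Groth.Agent.S13651
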