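import Groth.Statements.S13663
import Mathlib

set_option autoImplicit false
universe u
open GrRing

namespace Groth.Agent.S13663

/-- Let A be a commutative ring graded by the integers whose ideal generated by the homogeneous elements
of positive degree has homogeneous generators f_1, …, f_p, of positive degrees d_1, …, d_p, and let
d be a positive integer divisible by each d_i. Then A_N = A_d · A_{N-d} for every integer N > dp -
(d_1 + ⋯ + d_p). -/
theorem result {R A : Type u} [CommRing R] [CommRing A] [Algebra R A]
    (𝒜 : ℤ → Submodule R A) [GradedAlgebra 𝒜]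
    {p : ℕ} (f : Fin p → A) (deg : Fin p → ℤ) (hdeg : ∀ i, 0 < deg i) (hf : ∀ i, f i ∈ 𝒜 (deg i))
    (hgen : Ideal.span {a : A | ∃ n : ℤ, 0 < n ∧ a ∈ 𝒜 n} = Ideal.span (Set.range f))
    (d : ℤ) (hd : 0 < d) (hdvd : ∀ i, deg i ∣ d) (N : ℤ) (hN : d * p - ∑ i, deg i < N) :
    𝒜 N = 𝒜 d * 𝒜 (N - d) := by
  classical
  refine le_antisymm (fun a ha => ?_) (Submodule.mul_le.mpr fun x hx y hy => by
    have := SetLike.mul_mem_graded hx hy
    rwa [add_sub_cancel] at this)
  have hq : ∀ i, ∃ n : ℕ, 0 < n ∧ (n : ℤ) * deg i = d := by
    intro i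
    obtain ⟨q, hq⟩ := hdvd i
    have hq0 : 0 < q := by nlinarith [hdeg i]
    exact ⟨q.toNat, by omega, by rw [Int.toNat_of_nonneg hq0.le, hq]; ring⟩
  choose n hn0 hn using hq
  have key : ∀ (r : ℕ) (e : Fin p → ℕ), (∀ i, e i < n i) → ∑ i, (n i - e i) = r →
      ∀ c ∈ 𝒜 (N - ∑ i, (e i : ℤ) * deg i), (∏ i, f i ^ e i) * c ∈ 𝒜 d * 𝒜 (N - d) := by
    intro r
    induction r using Nat.strong_induction_on with
    | _ r ih =>
      intro e he hr c hc
      have hM : 0 < N - ∑ i, (e i : ℤ) * deg i := by
        have hle : ∀ i, (e i : ℤ) * deg i ≤ d - deg i := fun i => by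
          have : (e i : ℤ) + 1 ≤ n i := by exact_mod_cast he i
          have := mul_le_mul_of_nonneg_right this (hdeg i).le
          rw [hn, add_mul, one_mul] at this
          linarith
        have hs := Finset.sum_le_sum fun i (_ : i ∈ (Finset.univ : Finset (Fin p))) => hle i
        rw [Finset.sum_sub_distrib, Finset.sum_const, Finset.card_univ, Fintype.card_fin, nsmul_eq_mul, mul_comm] at hs
        linarith
      set M := N - ∑ i, (e i : ℤ) * deg i with hMdef
      have hcs : c ∈ Ideal.span (Set.range f) := hgen ▸ Ideal.subset_span ⟨M, hM, hc⟩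
      obtain ⟨b, hb⟩ := Ideal.mem_span_range_iff_exists_fun.mp hcs
      have hdec : c = ∑ i, (DirectSum.decompose 𝒜 (b i) (M - deg i) : A) * f i := by
        conv_lhs => rw [← DirectSum.decompose_of_mem_same 𝒜 hc, ← hb]
        rw [DirectSum.decompose_sum, DFinsupp.finsetSum_apply, AddSubmonoidClass.coe_finsetSum]
        refine Finset.sum_congr rfl fun i _ => ?_
        have := DirectSum.coe_decompose_mul_add_of_right_mem 𝒜 (a := b i) (i := M - deg i) (hf i)
        rwa [sub_add_cancel] at this
      rw [hdec, Finset.mul_sum]
      refine Submodule.sum_mem _ fun i _ => ?_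
      set ci := (DirectSum.decompose 𝒜 (b i) (M - deg i) : A)
      have hci : ci ∈ 𝒜 (M - deg i) := SetLike.coe_mem _
      have hsum : ∑ l, ((Function.update e i (e i + 1) l : ℕ) : ℤ) * deg l = (∑ l, (e l : ℤ) * deg l) + deg i := by
        rw [← Finset.add_sum_erase _ _ (Finset.mem_univ i), ← Finset.add_sum_erase _ _ (Finset.mem_univ i),
          Function.update_self, Finset.sum_congr rfl fun l hl => by rw [Function.update_of_ne (Finset.ne_of_mem_erase hl)]]
        push_cast
        ring
      have hprod : (∏ l, f l ^ Function.update e i (e i + 1) l) = (∏ l, f l ^ e l) * f i := by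
        rw [← Finset.mul_prod_erase _ _ (Finset.mem_univ i), ← Finset.mul_prod_erase _ _ (Finset.mem_univ i),
          Function.update_self, Finset.prod_congr rfl fun l hl => by rw [Function.update_of_ne (Finset.ne_of_mem_erase hl)],
          pow_succ]
        ring
      rw [show (∏ l, f l ^ e l) * (ci * f i) = ((∏ l, f l ^ e l) * f i) * ci by ring, ← hprod]
      rcases (Nat.succ_le_of_lt (he i)).lt_or_eq with hlt | heq
      · have hlt' : ∀ l, Function.update e i (e i + 1) l < n l := fun l => by
          rcases eq_or_ne l i with rfl | h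
          · rw [Function.update_self]; exact hlt
          · rw [Function.update_of_ne h]; exact he l
        refine ih _ ?_ _ hlt' rfl ci ?_
        · rw [← hr]
          refine Finset.sum_lt_sum (fun l _ => ?_) ⟨i, Finset.mem_univ i, ?_⟩
          · rcases eq_or_ne l i with rfl | h
            · rw [Function.update_self]; omega
            · rw [Function.update_of_ne h]
          · rw [Function.update_self]; have := he i; omega
        · rw [hsum, show N - (∑ l, (e l : ℤ) * deg l + deg i) = M - deg i by rw [hMdef]; ring]
          exact hci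
      · rw [← Finset.mul_prod_erase _ _ (Finset.mem_univ i), Function.update_self, mul_assoc]
        refine Submodule.mul_mem_mul ?_ ?_
        · have := SetLike.pow_mem_graded (e i + 1) (hf i)
          rwa [nsmul_eq_mul, show ((e i + 1 : ℕ) : ℤ) = (n i : ℤ) by exact_mod_cast heq, hn] at this
        · rw [Finset.prod_congr rfl fun l hl => by rw [Function.update_of_ne (Finset.ne_of_mem_erase hl)]]
          have h1 : (∏ l ∈ Finset.univ.erase i, f l ^ e l) ∈ 𝒜 (∑ l ∈ Finset.univ.erase i, (e l : ℤ) * deg l) :=
            SetLike.prod_mem_graded 𝒜 (fun l => (e l : ℤ) * deg l) _ fun l _ => by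
              simpa [nsmul_eq_mul] using SetLike.pow_mem_graded (e l) (hf l)
          have := SetLike.mul_mem_graded h1 hci
          convert this using 2
          rw [hMdef, ← Finset.add_sum_erase _ _ (Finset.mem_univ i)]
          have h3 : ((e i : ℤ) + 1) * deg i = d := by rw [← hn i]; congr 1; exact_mod_cast heq
          linear_combination h3
  have := key _ (fun _ => 0) hn0 rfl a (by simpa using ha)
  simpa using this

end Groth.Agent.S13663
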