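import Groth.Statements.S13664
import Mathlib
import Groth.Agent.S13663

set_option autoImplicit false
universe u
open GrRing

namespace Groth.Agent.S13664

/-- Let A be a commutative ring graded by the integers whose ideal I generated by the homogeneous
elements of positive degree has homogeneous generators f_1, …, f_p, of positive degrees d_1, …, d_p,
let d be a positive integer divisible by each d_i, and let x be an element of an A-module M. The
following are equivalent: x is annihilated by some power of I; x is annihilated by (A_d)^n for all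
sufficiently large n; there is an integer s such that A_n x = 0 for all n ≥ s. (The published
statement is for a homogeneous element of a graded module; this row drops both the grading of M and
the homogeneity of x, which play no role.) -/
theorem result {R A : Type u} [CommRing R] [CommRing A] [Algebra R A]
    (𝒜 : ℤ → Submodule R A) [GradedAlgebra 𝒜]
    {p : ℕ} (f : Fin p → A) (deg : Fin p → ℤ) (hdeg : ∀ i, 0 < deg i) (hf : ∀ i, f i ∈ 𝒜 (deg i))
    (hgen : Ideal.span {a : A | ∃ n : ℤ, 0 < n ∧ a ∈ 𝒜 n} = Ideal.span (Set.range f))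
    (d : ℤ) (hd : 0 < d) (hdvd : ∀ i, deg i ∣ d)
    {M : Type u} [AddCommGroup M] [Module A M] (x : M) :
    [x ∈ GrLC.gam (Ideal.span (Set.range f)) M,
     ∃ n₀ : ℕ, ∀ n : ℕ, n₀ ≤ n → ∀ r ∈ (𝒜 d) ^ n, r • x = 0,
     ∃ s : ℤ, ∀ n : ℤ, s ≤ n → ∀ r ∈ 𝒜 n, r • x = 0].TFAE := by
  classical
  tfae_have 1 → 2 := by
    rintro ⟨m, hm⟩
    refine ⟨m, fun n hn r hr => hm r (Ideal.pow_le_pow_right hn ?_)⟩
    have key : ∀ j : ℕ, 𝒜 d ^ j ≤ (Ideal.span (Set.range f) ^ j).restrictScalars R := by
      intro j
      induction j with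
      | zero => rw [pow_zero, pow_zero, Ideal.one_eq_top]; exact le_top
      | succ j ih =>
        rw [pow_succ, pow_succ]
        refine Submodule.mul_le.mpr fun a ha b hb => ?_
        exact Ideal.mul_mem_mul (ih ha) (hgen ▸ Ideal.subset_span ⟨d, hd, hb⟩)
    exact key n hr
  tfae_have 2 → 3 := by
    rintro ⟨n₀, h⟩
    let B : ℤ := d * p - ∑ i, deg i
    refine ⟨B + 1 + n₀ * d, fun n hn r hr => ?_⟩
    have key : ∀ j : ℕ, ∀ N : ℤ, B + 1 + j * d ≤ N → 𝒜 N ≤ 𝒜 d ^ j * 𝒜 (N - j * d) := by
      intro j
      induction j with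
      | zero => intro N _; simp
      | succ j ih =>
        intro N hN
        push_cast at hN ⊢
        have hstep := Groth.Agent.S13663.result 𝒜 f deg hdeg hf hgen d hd hdvd (N - j * d) (by
          show B < _; linarith)
        refine (ih N (by linarith)).trans ?_
        rw [hstep, ← mul_assoc, ← pow_succ, show N - ↑j * d - d = N - (↑j + 1) * d by ring]
    have hr' := key n₀ n hn hr
    clear hr
    induction hr' using Submodule.mul_induction_on' with
    | mem_mul_mem a ha b hb => rw [mul_comm, mul_smul, h n₀ le_rfl a ha, smul_zero]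
    | add a _ b _ h1 h2 => rw [add_smul, h1, h2, add_zero]
  tfae_have 3 → 1 := by
    rintro ⟨s, hs⟩
    refine ⟨s.toNat, fun r hr => ?_⟩
    have key : ∀ j : ℕ, Ideal.span (Set.range f) ^ j ≤ Ideal.span {a : A | ∃ n : ℤ, (j : ℤ) ≤ n ∧ a ∈ 𝒜 n} := by
      intro j
      induction j with
      | zero =>
        rw [pow_zero, Ideal.one_eq_top, top_le_iff]
        exact (Ideal.eq_top_iff_one _).mpr (Ideal.subset_span ⟨0, le_rfl, SetLike.one_mem_graded 𝒜⟩)
      | succ j ih =>
        rw [pow_succ]
        refine (Ideal.mul_mono ih hgen.ge).trans ?_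
        rw [Ideal.span_mul_span', Ideal.span_le]
        rintro _ ⟨a, ⟨n, hn, ha⟩, b, ⟨m, hm, hb⟩, rfl⟩
        exact Ideal.subset_span ⟨n + m, by push_cast; linarith, SetLike.mul_mem_graded ha hb⟩
    have hr' := key _ hr
    clear hr
    induction hr' using Submodule.span_induction with
    | mem a ha =>
      obtain ⟨n, hn, ha⟩ := ha
      exact hs n (le_trans (Int.self_le_toNat s) hn) a ha
    | zero => exact zero_smul A x
    | add a b _ _ h1 h2 => rw [add_smul, h1, h2, add_zero]
    | smul c a _ h1 => rw [smul_assoc, h1, smul_zero]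
  tfae_finish

end Groth.Agent.S13664
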