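import Groth.Statements.S13689
import Groth.Agent.ASB.Iso

set_option autoImplicit false
set_option linter.style.haveILetI false
set_option backward.isDefEq.respectTransparency false
set_option backward.isDefEq.respectTransparency.types false
universe u
open CategoryTheory CategoryTheory.Limits AlgebraicGeometry
open ASBun

namespace Groth.Agent.S13689

open W4c1astiltbs12 in
/-- Let X be proper over a field k, K an algebraic closure of k with projection π : X_K → X, and E a
nonzero finite locally free O_X-module which is absolutely rank-one-isotypical: π^*E ≅ L^{⊕r} for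
some r and some invertible O_{X_K}-module L that is indecomposable (nonzero, and in any
decomposition as a direct sum one summand is zero; for an invertible module this says X_K is
connected). Then E ≅ G^{⊕n} for some n and some indecomposable finite locally free O_X-module G, and
G is unique: any indecomposable G and G' with E ≅ G^{⊕n} and E ≅ G'^{⊕m} are isomorphic. (The
published statement assumes k infinite and X projective, and its extension in the text X proper and
geometrically integral; the argument uses only properness of X and indecomposability of the type L,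
without which the structure sheaf of two points is a counterexample.) -/
theorem result (k : Type u) [Field k] {X : Scheme.{u}}
    (p : X ⟶ Spec (CommRingCat.of k)) [IsProper p] (K : Type u) [Field K] [Algebra k K]
    [IsAlgClosure k K] (E : X.Modules) (hE : FlatMod.IsFinLocFree E) (hE0 : ¬ IsZero E)
    (L : (W4bk4gw11416.baseChange p K).Modules) (hL : PicF.IsInvertible L)
    (hLi : (¬ IsZero L ∧ ∀ A B : (W4bk4gw11416.baseChange p K).Modules, Nonempty (L ≅ A ⊞ B) → IsZero A ∨ IsZero B))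
    (r : ℕ) (e : Nonempty (bcMod p K E ≅ pow L r)) :
    (∃ (G : X.Modules) (n : ℕ), FlatMod.IsFinLocFree G ∧
      (¬ IsZero G ∧ ∀ A B : X.Modules, Nonempty (G ≅ A ⊞ B) → IsZero A ∨ IsZero B) ∧
      Nonempty (E ≅ pow G n)) ∧
    (∀ (G G' : X.Modules) (n m : ℕ),
      (¬ IsZero G ∧ ∀ A B : X.Modules, Nonempty (G ≅ A ⊞ B) → IsZero A ∨ IsZero B) →
      (¬ IsZero G' ∧ ∀ A B : X.Modules, Nonempty (G' ≅ A ⊞ B) → IsZero A ∨ IsZero B) →
      Nonempty (E ≅ pow G n) → Nonempty (E ≅ pow G' m) → Nonempty (G ≅ G')) := by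
  haveI := ASB.isNoetherian_of_proper p
  haveI := ASB.isNoetherian_of_proper (BrSev.bcTo p K)
  obtain ⟨e⟩ := e
  obtain ⟨a⟩ := ASB.coprod_ofFn (fun _ : Fin r => L)
  rw [List.ofFn_const] at a
  obtain ⟨G, n, -, hG, ⟨eG⟩, i, q, -, hiq, -⟩ := ASB.exists_pow_of_isotypical p K (CurveDeg.isCoh_of_isFinLocFree hE)
    hE0 (CurveDeg.isCoh_of_isInvertible hL) hLi (e ≪≫ a)
  refine ⟨⟨G, n, ASB.isFinLocFree_of_retract hE i q hiq, hG, ?_⟩, fun G₁ G₂ m₁ m₂ h₁ h₂ e₁ e₂ => ?_⟩
  · obtain ⟨b⟩ := ASB.coprod_ofFn (fun _ : Fin n => G)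
    rw [List.ofFn_const] at b
    exact ⟨eG ≪≫ b.symm⟩
  · obtain ⟨e₁⟩ := e₁
    obtain ⟨e₂⟩ := e₂
    obtain ⟨b₁⟩ := ASB.coprod_ofFn (fun _ : Fin m₁ => G₁)
    obtain ⟨b₂⟩ := ASB.coprod_ofFn (fun _ : Fin m₂ => G₂)
    rw [List.ofFn_const] at b₁ b₂
    letI := ASB.ovr p
    have hm : m₁ ≠ 0 := ASB.replicate_pos hE0 (e₁ ≪≫ b₁)
    obtain ⟨m, rfl⟩ : ∃ m, m₁ = m + 1 := ⟨m₁ - 1, by omega⟩
    haveI : Module.Finite k (G₁ ⟶ G₁) := by
      refine ASB.finite_end p (ASB.isCoh_of_retract (CurveDeg.isCoh_of_isFinLocFree hE)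
        (ASB.iS G₁ (List.replicate m G₁) ≫ (e₁ ≪≫ b₁).inv) ((e₁ ≪≫ b₁).hom ≫ ASB.pS G₁ (List.replicate m G₁)) ?_)
      erw [Category.assoc, (e₁ ≪≫ b₁).inv_hom_id_assoc, ASB.iS_pS]
    exact ASB.iso_of_indec_replicate k h₁ h₂ hm (b₁.symm ≪≫ e₁.symm ≪≫ e₂ ≪≫ b₂)

end Groth.Agent.S13689
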