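import Groth.Statements.S13690
import Groth.Agent.ASB.GalDescent
-- import your own Groth.Agent.* helpers here

set_option autoImplicit false
universe u
open CategoryTheory CategoryTheory.Limits AlgebraicGeometry
open ASBun

namespace Groth.Agent.S13690

attribute [local instance] Abelian.hasFiniteBiproducts

open W4c1astiltbs12 in
/-- Let X be proper over a field k and K a separable closure of k, with projection π : X_K → X; for a
k-automorphism σ of K write σ_X for the induced automorphism of X_K. If W is an indecomposable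
finite locally free O_{X_K}-module (nonzero, and in any decomposition as a direct sum one summand is
zero) whose isomorphism class is Galois invariant, σ_X^*W ≅ W for every σ, then there is an
indecomposable finite locally free O_X-module M with π^*M ≅ W^{⊕r} for some r ≥ 1. (For a perfect
field this is the form with an algebraic closure.) -/
theorem result (k : Type u) [Field k]
    {X : Scheme.{u}} (p : X ⟶ Spec (CommRingCat.of k)) [IsProper p] (K : Type u) [Field K]
    [Algebra k K] [IsSepClosure k K] (W : (W4bk4gw11416.baseChange p K).Modules)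
    (hW : FlatMod.IsFinLocFree W)
    (hWi : (¬ IsZero W ∧ ∀ A B : (W4bk4gw11416.baseChange p K).Modules, Nonempty (W ≅ A ⊞ B) → IsZero A ∨ IsZero B))
    (hinv : ∀ σ : K ≃ₐ[k] K, Nonempty ((Scheme.Modules.pullback (galAct p K σ)).obj W ≅ W)) :
    ∃ (M : X.Modules) (r : ℕ), FlatMod.IsFinLocFree M ∧
      (¬ IsZero M ∧ ∀ A B : X.Modules, Nonempty (M ≅ A ⊞ B) → IsZero A ∨ IsZero B) ∧
      0 < r ∧ Nonempty (bcMod p K M ≅ pow W r) := by
  haveI : IsSepClosed K := IsSepClosure.sep_closed k
  haveI : Algebra.IsSeparable k K := IsSepClosure.separable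
  have hg : ∀ s : K ≃ₐ[k] K, galAct p K s = ASB.sigX p K s := fun s => by
    apply pullback.hom_ext
    · rw [ASB.sigX_proj]; exact (pullback.lift_fst _ _ _).trans (Category.comp_id _)
    · rw [ASB.sigX_bcTo]; exact pullback.lift_snd _ _ _
  obtain ⟨M, r, hr, hM, hMi, ⟨eM⟩⟩ := ASB.exists_indec_of_invariant p K hW hWi (fun s => hg s ▸ hinv s)
  obtain ⟨a⟩ := ASB.coprod_ofFn (fun _ : Fin r => W)
  exact ⟨M, r, hM, hMi, Nat.pos_of_ne_zero hr, ⟨eM ≪≫ eqToIso (by rw [List.ofFn_const]) ≪≫ a.symm⟩⟩

end Groth.Agent.S13690
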