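import Groth.Statements.S13691
import Groth.Agent.ASB.GalDescent
import Groth.Agent.ASB.SplitGen
-- import your own Groth.Agent.* helpers here

set_option autoImplicit false
universe u
open CategoryTheory CategoryTheory.Limits AlgebraicGeometry
open ASBun

namespace Groth.Agent.S13691

attribute [local instance] Abelian.hasFiniteBiproducts

open W4c1astiltbs12 in
/-- Let X be proper over a field k and K a separable closure of k such that X_K is connected, with
projection π : X_K → X, and write σ_X for the automorphism of X_K induced by a k-automorphism σ of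
K. Let M be an indecomposable finite locally free O_X-module (nonzero, and in any decomposition as a
direct sum one summand is zero) which splits over K into invertible modules with Galois-invariant
classes: π^*M ≅ L_1 ⊕ ⋯ ⊕ L_n with each L_i invertible and σ_X^*L_i ≅ L_i for all σ and i. Then M is
isotypical of invertible type: π^*M ≅ L^{⊕r} for some invertible O_{X_K}-module L and some r ≥ 1,
and L is unique up to isomorphism with this property. (The published statement omits the invariance
of the summands L_i, and is then contradicted by the direct image on an elliptic curve of the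
invertible module of a point defined over a quadratic extension but not over k; its argument also
treats invertible modules on X_K as indecomposable, whence the connectedness hypothesis.) -/
theorem result (k : Type u) [Field k]
    {X : Scheme.{u}} (p : X ⟶ Spec (CommRingCat.of k)) [IsProper p] (K : Type u) [Field K]
    [Algebra k K] [IsSepClosure k K] [ConnectedSpace ↥(W4bk4gw11416.baseChange p K)]
    (M : X.Modules) (hM : FlatMod.IsFinLocFree M)
    (hMi : (¬ IsZero M ∧ ∀ A B : X.Modules, Nonempty (M ≅ A ⊞ B) → IsZero A ∨ IsZero B))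
    (n : ℕ) (Ls : Fin n → (W4bk4gw11416.baseChange p K).Modules) (hLs : ∀ i, PicF.IsInvertible (Ls i))
    (hinv : ∀ (σ : K ≃ₐ[k] K) (i : Fin n),
      Nonempty ((Scheme.Modules.pullback (galAct p K σ)).obj (Ls i) ≅ Ls i))
    (e : Nonempty (bcMod p K M ≅ ∐ Ls)) :
    ∃ (L : (W4bk4gw11416.baseChange p K).Modules) (r : ℕ), PicF.IsInvertible L ∧ 0 < r ∧
      Nonempty (bcMod p K M ≅ pow L r) ∧
      ∀ (L' : (W4bk4gw11416.baseChange p K).Modules) (r' : ℕ), PicF.IsInvertible L' →
        Nonempty (bcMod p K M ≅ pow L' r') → Nonempty (L' ≅ L) := by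
  haveI : IsSepClosed K := IsSepClosure.sep_closed k
  haveI : Algebra.IsSeparable k K := IsSepClosure.separable
  have hg : ∀ s : K ≃ₐ[k] K, galAct p K s = ASB.sigX p K s := fun s => by
    apply pullback.hom_ext
    · rw [ASB.sigX_proj]; exact (pullback.lift_fst _ _ _).trans (Category.comp_id _)
    · rw [ASB.sigX_bcTo]; exact pullback.lift_snd _ _ _
  haveI := ASB.isNoetherian_of_proper p
  haveI : ConnectedSpace ↥(BrSev.bc p K) := ‹ConnectedSpace ↥(W4bk4gw11416.baseChange p K)›
  haveI : IsNoetherian (BrSev.bc p K) := ASB.isNoetherian_of_proper (BrSev.bcTo p K)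
  choose W a ha hWf hWi hWt using fun i => ASB.exists_indec_of_invariant p K (W := Ls i)
    (ASB.isFinLocFree_of_retract (AmpleFamGen.isFinLocFree_biproduct (fun _ : Fin 1 => Ls i) fun _ => hLs i)
      (biproduct.ι (fun _ : Fin 1 => Ls i) 0) (biproduct.π (fun _ : Fin 1 => Ls i) 0) (biproduct.ι_π_self _ _)) (ASB.indec_invertible (hLs i)) (fun s => hg s ▸ hinv s i)
  obtain ⟨c⟩ := e
  obtain ⟨d⟩ := ASB.coprod_ofFn Ls
  obtain ⟨i, ⟨φ⟩⟩ := ASB.exists_iso_of_split p K (CurveDeg.isCoh_of_isFinLocFree hM) [M]
    (fun Z hZ => by rw [List.mem_singleton] at hZ; exact hZ ▸ hMi) (isoBiprodZero ASB.isZero_top) Ls (c ≪≫ d) W a ha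
    (fun i => CurveDeg.isCoh_of_isFinLocFree (hWf i)) hWi hWt M (List.mem_singleton_self M)
  obtain ⟨eW⟩ := hWt i
  let eM := (Scheme.Modules.pullback (BrSev.proj p K)).mapIso φ ≪≫ eW
  obtain ⟨g⟩ := ASB.coprod_ofFn (fun _ : Fin (a i) => Ls i)
  refine ⟨Ls i, a i, hLs i, Nat.pos_of_ne_zero (ha i),
    ⟨eM ≪≫ eqToIso (by rw [List.ofFn_const]) ≪≫ g.symm⟩, fun L' r' hL' ⟨e'⟩ => ?_⟩
  obtain ⟨g'⟩ := ASB.coprod_ofFn (fun _ : Fin r' => L')
  letI : (BrSev.bc p K).Over (Spec (CommRingCat.of K)) := ASB.ovrK p K
  haveI : IsProper (BrSev.bc p K ↘ Spec (CommRingCat.of K)) := inferInstanceAs (IsProper (BrSev.bcTo p K))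
  haveI := ASB.finite_hom (k := K) (BrSev.bc p K) (CurveDeg.isCoh_of_isInvertible (hLs i))
    (CurveDeg.isCoh_of_isInvertible (hLs i))
  haveI := ASB.finite_sumL K (Ls i) (a i)
  have h := ASB.clsL_eq K (List.replicate (a i) (Ls i)) (List.replicate r' L')
    (fun Z hZ => (List.eq_of_mem_replicate hZ).symm ▸ ASB.indec_invertible (hLs i))
    (fun Z hZ => (List.eq_of_mem_replicate hZ).symm ▸ ASB.indec_invertible hL')
    ⟨eM.symm ≪≫ e' ≪≫ g' ≪≫ eqToIso (by rw [List.ofFn_const])⟩
  rw [ASB.clsL_eq_map_replicate, ASB.clsL_eq_map_replicate] at h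
  have hm : Quotient.mk (isIsomorphicSetoid _) (Ls i) ∈ Multiset.replicate r' (Quotient.mk (isIsomorphicSetoid _) L') :=
    h ▸ Multiset.mem_replicate.2 ⟨ha i, rfl⟩
  exact (Quotient.exact (Multiset.mem_replicate.1 hm).2).map Iso.symm

end Groth.Agent.S13691
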