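import Groth.Statements.S13693
import Groth.Agent.ASB.Descent

set_option autoImplicit false
set_option linter.style.haveILetI false
set_option backward.isDefEq.respectTransparency false
set_option backward.isDefEq.respectTransparency.types false
universe u
open CategoryTheory CategoryTheory.Limits AlgebraicGeometry
open ASBun

namespace Groth.Agent.S13693

open W4c1astiltbs12 in
/-- Let X be a scheme proper over a field k. Every coherent O_X-module F (quasi-coherent of finite type;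
X is Noetherian) is isomorphic to a finite direct sum of indecomposable O_X-modules (nonzero, and in
any decomposition as a direct sum one summand is zero; the zero module is the empty sum), and such a
decomposition is unique: if F ≅ F_1 ⊕ ⋯ ⊕ F_n ≅ G_1 ⊕ ⋯ ⊕ G_m with all F_i and G_j indecomposable,
then there is a bijection e between the index sets with F_i ≅ G_{e(i)} for every i. -/
theorem result (k : Type u) [Field k] {X : Scheme.{u}}
    (p : X ⟶ Spec (CommRingCat.of k)) [IsProper p] (F : X.Modules) (hF : Coh.IsCoh F) :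
    (∃ (n : ℕ) (Fs : Fin n → X.Modules),
      (∀ i, (¬ IsZero (Fs i) ∧ ∀ A B : X.Modules, Nonempty ((Fs i) ≅ A ⊞ B) → IsZero A ∨ IsZero B)) ∧
      Nonempty (F ≅ ∐ Fs)) ∧
    (∀ (n m : ℕ) (Fs : Fin n → X.Modules) (Gs : Fin m → X.Modules),
      (∀ i, (¬ IsZero (Fs i) ∧ ∀ A B : X.Modules, Nonempty ((Fs i) ≅ A ⊞ B) → IsZero A ∨ IsZero B)) →
      (∀ j, (¬ IsZero (Gs j) ∧ ∀ A B : X.Modules, Nonempty ((Gs j) ≅ A ⊞ B) → IsZero A ∨ IsZero B)) →
      Nonempty (F ≅ ∐ Fs) → Nonempty (F ≅ ∐ Gs) →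
      ∃ e : Fin n ≃ Fin m, ∀ i, Nonempty (Fs i ≅ Gs (e i))) := by
  letI := ASB.ovr p
  haveI : IsProper (X ↘ Spec (CommRingCat.of k)) := ‹IsProper p›
  haveI := ASB.finite_hom (k := k) X hF hF
  refine ⟨?_, fun n m Fs Gs hFs hGs eF eG => ?_⟩
  · obtain ⟨l, hl, ⟨e⟩⟩ := ASB.exists_decomp k F
    refine ⟨l.length, l.get, fun i => hl _ (l.get_mem i), ?_⟩
    obtain ⟨e'⟩ := ASB.coprod_ofFn l.get
    rw [List.ofFn_get] at e'
    exact ⟨e ≪≫ e'.symm⟩
  · obtain ⟨eF⟩ := eF
    obtain ⟨eG⟩ := eG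
    obtain ⟨a⟩ := ASB.coprod_ofFn Fs
    obtain ⟨b⟩ := ASB.coprod_ofFn Gs
    haveI : Module.Finite k (ASB.sumL (List.ofFn Fs) ⟶ ASB.sumL (List.ofFn Fs)) :=
      ASB.finite_of_retract k (a.inv ≫ eF.inv) (eF.hom ≫ a.hom) (by simp)
    have h := ASB.clsL_eq k (List.ofFn Fs) (List.ofFn Gs)
      (fun Y hY => by obtain ⟨i, rfl⟩ := List.mem_ofFn.1 hY; exact hFs i)
      (fun Y hY => by obtain ⟨i, rfl⟩ := List.mem_ofFn.1 hY; exact hGs i)
      ⟨a.symm ≪≫ eF.symm ≪≫ eG ≪≫ b⟩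
    obtain ⟨e, he⟩ := ASB.exists_equiv_of_clsL h
    exact ⟨e, he⟩

end Groth.Agent.S13693
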