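import Groth.Statements.S13694
import Groth.Agent.S19534

set_option autoImplicit false
set_option linter.style.haveILetI false
set_option backward.isDefEq.respectTransparency false
set_option backward.isDefEq.respectTransparency.types false
universe u
open CategoryTheory CategoryTheory.Limits AlgebraicGeometry
open ASBun

namespace Groth.Agent.S13694

open W4c1astiltbs12 in
/-- Let X be a proper, geometrically integral scheme over a field k, K an algebraic closure of k with
projection π : X_K → X, and E an indecomposable finite locally free O_X-module (nonzero, and in any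
decomposition as a direct sum one summand is zero) which is absolutely rank-one-isotypical: π^*E ≅
L^{⊕r} for some invertible O_{X_K}-module L and some r. Then the endomorphism ring of E is a
division ring: every nonzero endomorphism of E is an isomorphism. (The published statement says more
precisely that this ring is a central division algebra over k; only the division-ring property is
stated here.) -/
theorem result (k : Type u) [Field k]
    {X : Scheme.{u}} (p : X ⟶ Spec (CommRingCat.of k)) [IsProper p] [GeometricallyIntegral p]
    (K : Type u) [Field K] [Algebra k K] [IsAlgClosure k K]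
    (E : X.Modules) (hE : FlatMod.IsFinLocFree E)
    (hEi : (¬ IsZero E ∧ ∀ A B : X.Modules, Nonempty (E ≅ A ⊞ B) → IsZero A ∨ IsZero B))
    (L : (W4bk4gw11416.baseChange p K).Modules) (hL : PicF.IsInvertible L) (r : ℕ)
    (e : Nonempty (bcMod p K E ≅ pow L r)) (f : E ⟶ E) (hf : f ≠ 0) : IsIso f := by
  haveI := ASB.isNoetherian_of_proper p
  haveI : IsSimpleRing (CategoryTheory.End E) := S19534.result k p K E hE hEi.1 L hL r e
  letI := ASB.ovr p
  haveI := ASB.finite_end p (CurveDeg.isCoh_of_isFinLocFree hE)
  rcases ASB.isIso_or_isNilpotent k hEi (show CategoryTheory.End E from f) with hn | hi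
  · exfalso
    apply hf
    -- the elements all of whose left multiples are nilpotent form a two-sided ideal
    haveI hfinE : Module.Finite k (CategoryTheory.End E) := ‹Module.Finite k (E ⟶ E)›
    haveI : IsArtinianRing (CategoryTheory.End E) := IsArtinianRing.of_finite k _
    have hloc : ∀ a b : CategoryTheory.End E, IsUnit (a + b) → IsUnit a ∨ IsUnit b := fun a b h =>
      ASB.isUnit_or_of_add (k := k) (ASB.idem_of_indec hEi) h
    haveI : Nontrivial (CategoryTheory.End E) := inferInstance
    let J : TwoSidedIdeal (CategoryTheory.End E) := TwoSidedIdeal.mk' {g | ¬ IsUnit g} not_isUnit_zero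
      (fun {a b} ha hb h => (hloc a b h).elim ha hb) (fun {a} ha h => ha (by simpa using h.neg))
      (fun {a b} hb h => hb (isUnit_of_mul_isUnit_right h))
      (fun {a b} ha h => ha (isUnit_of_mul_isUnit_left h))
    have hfJ : (show CategoryTheory.End E from f) ∈ J := (TwoSidedIdeal.mem_mk' ..).2 hn.not_isUnit
    rcases IsSimpleRing.simple.eq_bot_or_eq_top J with hJ | hJ
    · rw [hJ, TwoSidedIdeal.mem_bot] at hfJ
      exact hfJ
    · have h1 : (1 : CategoryTheory.End E) ∈ J := hJ ▸ trivial
      exact absurd isUnit_one ((TwoSidedIdeal.mem_mk' ..).1 h1)
  · exact hi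

end Groth.Agent.S13694
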