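import Groth.Statements.S13712
import Groth.Agent.IntAffine9.Main

set_option linter.style.haveILetI false
set_option backward.isDefEq.respectTransparency false
set_option backward.isDefEq.respectTransparency.types false


set_option autoImplicit false
universe u
open CategoryTheory CategoryTheory.Limits AlgebraicGeometry
open ZeroCyc

namespace Groth.Agent.S13712

/-- Let f : X → Y and g : Y → S be morphisms of schemes with g separated, such that the composite X → S
is integral with topologically finite fibres (every fibre is a finite set). Then the
scheme-theoretic image Y' of f, with its closed immersion Y' → Y, is integral over S, and Y' → S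
again has topologically finite fibres. (The published statement is for algebraic spaces; this row is
the case of schemes.) -/
theorem result {X Y S : Scheme.{u}} (f : X ⟶ Y) (g : Y ⟶ S)
    [IsSeparated g] [IsIntegralHom (f ≫ g)] (hfin : ∀ s : S, Set.Finite ((f ≫ g).base ⁻¹' {s})) :
    IsIntegralHom (f.imageι ≫ g) ∧ ∀ s : S, Set.Finite ((f.imageι ≫ g).base ⁻¹' {s}) := by
  haveI : IsAffineHom (f ≫ g) := inferInstance
  haveI : QuasiCompact (f ≫ g) := inferInstance
  haveI : QuasiCompact f := QuasiCompact.of_comp f g
  haveI : UniversallyClosed f := .of_comp_of_isSeparated f g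
  haveI : UniversallyClosed (f.toImage ≫ f.imageι) := by rwa [f.toImage_imageι]
  haveI : UniversallyClosed f.toImage := .of_comp_of_isSeparated f.toImage f.imageι
  haveI : Surjective f.toImage := ⟨fun z => by
    have h := f.toImage.denseRange z
    rwa [(f.toImage.isClosedMap.isClosed_range).closure_eq] at h⟩
  haveI : IsIntegralHom (f.toImage ≫ f.imageι ≫ g) := by rw [f.toImage_imageι_assoc]; infer_instance
  have hfin' : ∀ s : S, ((f.toImage ≫ f.imageι ≫ g) ⁻¹' {s}).Finite := fun s => by
    rw [f.toImage_imageι_assoc]; exact hfin s
  haveI : UniversallyClosed (f.imageι ≫ g) := .of_comp_surjective f.toImage _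
  haveI : IsAffineHom (f.imageι ≫ g) := IntAffine9.isAffineHom_of_surjective f.toImage _ hfin'
  refine ⟨IsIntegralHom.iff_universallyClosed_and_isAffineHom.mpr ⟨inferInstance, inferInstance⟩, fun s => ?_⟩
  refine ((hfin' s).image f.toImage).subset fun z hz => ?_
  obtain ⟨x, rfl⟩ := f.toImage.surjective z
  exact ⟨x, hz, rfl⟩
end Groth.Agent.S13712
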