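import Groth.Statements.S1372
import Groth.Agent.UnivOpenCrit.Basic

set_option autoImplicit false
universe u
open FlatMor
open scoped TensorProduct

namespace Groth.Agent.S1372

open AlgebraicGeometry CategoryTheory Limits in
/-- Let A → B be a ring map and b_1, ..., b_d elements generating B as an A-module. Let h = Σ x_i b_i in
the polynomial ring B[x_1, ..., x_d]. Then universal openness of Spec B → Spec A is equivalent to
openness of the image in Spec A[x_1, ..., x_d] of the basic open D(h). -/
theorem result {A B : Type u} [CommRing A] [CommRing B] [Algebra A B] {d : ℕ} (b : Fin d → B)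
    (hb : Submodule.span A (Set.range b) = ⊤) :
    UniversallyOpen (Spec.map (CommRingCat.ofHom (algebraMap A B))) ↔
      IsOpen (PrimeSpectrum.comap (MvPolynomial.map (σ := Fin d) (algebraMap A B)) ''
        (PrimeSpectrum.basicOpen (∑ i : Fin d, MvPolynomial.X i * MvPolynomial.C (b i)) : Set (PrimeSpectrum (MvPolynomial (Fin d) B)))) := by
  constructor
  · intro h
    have h1 := Groth.Agent.UnivOpenCrit.isOpenMap_comap_tensor_of_universallyOpen (MvPolynomial (Fin d) A) h
    let ee : TensorProduct A (MvPolynomial (Fin d) A) B ≃+* MvPolynomial (Fin d) B :=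
      (Algebra.TensorProduct.comm A (MvPolynomial (Fin d) A) B).toRingEquiv.trans
        (MvPolynomial.algebraTensorAlgEquiv A B).toRingEquiv
    have he : (ee.toRingHom).comp (algebraMap (MvPolynomial (Fin d) A) (TensorProduct A (MvPolynomial (Fin d) A) B)) =
        MvPolynomial.map (algebraMap A B) := RingHom.ext fun x => by
      show MvPolynomial.algebraTensorAlgEquiv A B ((1 : B) ⊗ₜ[A] x) = _
      rw [MvPolynomial.algebraTensorAlgEquiv_tmul, one_smul]
    rw [← he, show PrimeSpectrum.comap (ee.toRingHom.comp _) = PrimeSpectrum.comap _ ∘ PrimeSpectrum.comap ee.toRingHom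
      from funext fun p => PrimeSpectrum.comap_comp_apply _ _ p, Set.image_comp]
    exact h1 _ ((PrimeSpectrum.homeomorphOfRingEquiv ee).symm.isOpenMap _ PrimeSpectrum.isOpen_basicOpen)
  · intro h
    refine Groth.Agent.UnivOpenCrit.universallyOpen_of_isOpenMap_tensor fun A' _ _ =>
      Groth.Agent.UnivOpenCrit.isOpenMap_comap_tensor fun c => ?_
    obtain ⟨a, ha⟩ : ∃ a : Fin d → A', c = ∑ i, TensorProduct.tmul A (a i) (b i) := by
      induction c using TensorProduct.induction_on with
      | zero => exact ⟨0, by simp⟩
      | tmul x y =>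
        obtain ⟨r, hr⟩ := (Submodule.mem_span_range_iff_exists_fun A).1 (hb ▸ Submodule.mem_top : y ∈ Submodule.span A (Set.range b))
        exact ⟨fun i => r i • x, by rw [← hr, TensorProduct.tmul_sum]; simp [TensorProduct.smul_tmul]⟩
      | add x y hx hy =>
        obtain ⟨a₁, rfl⟩ := hx; obtain ⟨a₂, rfl⟩ := hy
        exact ⟨a₁ + a₂, by simp [TensorProduct.add_tmul, Finset.sum_add_distrib]⟩
    exact ⟨Fin d, inferInstance, b, a, h, ha⟩

end Groth.Agent.S1372
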