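import Groth.Statements.S13728
import Mathlib.Algebra.Colimit.Module
import Mathlib.Order.Directed
import Mathlib.Data.Finset.Order
import Mathlib.Data.Fintype.Perm

set_option linter.style.haveILetI false
set_option backward.isDefEq.respectTransparency false
set_option backward.isDefEq.respectTransparency.types false


set_option autoImplicit false
universe u
open scoped TensorProduct
open ZeroCyc

namespace Groth.Agent.S13728

/-- The functor B ↦ TS^d_A(B) (symmetric tensors of degree d, the invariants of the symmetric group in
the d-fold tensor power) commutes with filtered direct limits. Concretely, let B be the direct limit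
of a directed system (B_i, t_ij : B_i → B_j) of commutative algebras over the commutative ring A
(t_ii the identity, t_jk ∘ t_ij = t_ik) with structure maps φ_i : B_i → B (compatible with the t_ij,
jointly surjective, and an element of B_i vanishing in B vanishes in some B_j). Then every element
of TS^d_A(B) is the image of an element of some TS^d_A(B_i), and an element of TS^d_A(B_i) whose
image in TS^d_A(B) is zero has image zero in TS^d_A(B_j) for some j ≥ i. -/
theorem result {A : Type u} [CommRing A] {B : Type u} [CommRing B] [Algebra A B]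
    {ι : Type u} [Preorder ι] [IsDirected ι (fun i j => i ≤ j)] [Nonempty ι]
    (Bi : ι → Type u) [∀ i, CommRing (Bi i)] [∀ i, Algebra A (Bi i)]
    (t : ∀ i j : ι, i ≤ j → (Bi i →ₐ[A] Bi j)) (φ : ∀ i : ι, Bi i →ₐ[A] B)
    (hcomp : ∀ (i j : ι) (h : i ≤ j), (φ j).comp (t i j h) = φ i)
    (hsurj : ∀ b : B, ∃ (i : ι) (x : Bi i), φ i x = b)
    (hzero : ∀ (i : ι) (x : Bi i), φ i x = 0 → ∃ (j : ι) (h : i ≤ j), t i j h x = 0)
    (hid : ∀ (i : ι) (h : i ≤ i), t i i h = AlgHom.id A (Bi i))
    (htrans : ∀ (i j k : ι) (hij : i ≤ j) (hjk : j ≤ k), (t j k hjk).comp (t i j hij) = t i k (hij.trans hjk)) (d : ℕ) :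
    (∀ z : SymTen.TS A B d, ∃ (i : ι) (y : SymTen.TS A (Bi i) d), SymTen.TSmap A d (φ i) y = z) ∧
      ∀ (i : ι) (y : SymTen.TS A (Bi i) d), SymTen.TSmap A d (φ i) y = 0 →
        ∃ (j : ι) (h : i ≤ j), SymTen.TSmap A d (t i j h) y = 0 := by
  classical
  haveI : IsDirectedOrder ι := ‹_›
  let G : ι → Type u := fun i => ⨂[A] _ : Fin d, Bi i
  let f : ∀ i j : ι, i ≤ j → G i →ₗ[A] G j := fun i j h => (SymTen.tmap A d (t i j h)).toLinearMap
  have hf : ∀ (i j : ι) (h : i ≤ j) (g : Fin d → Bi i),
      f i j h (PiTensorProduct.tprod A g) = PiTensorProduct.tprod A fun a => t i j h (g a) :=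
    fun i j h g => SymTen.tmap_tprod A d _ g
  haveI : DirectedSystem G (fun i j h => f i j h) :=
    { map_self := fun i x => by
        have : f i i le_rfl = LinearMap.id := PiTensorProduct.ext (MultilinearMap.ext fun g => by
          show f i i le_rfl (PiTensorProduct.tprod A g) = _
          rw [hf, hid]
          rfl)
        exact LinearMap.congr_fun this x
      map_map := fun k j i hij hjk x => by
        have : (f j k hjk).comp (f i j hij) = f i k (hij.trans hjk) := PiTensorProduct.ext (MultilinearMap.ext fun g => by
          show f j k hjk (f i j hij (PiTensorProduct.tprod A g)) = f i k _ (PiTensorProduct.tprod A g)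
          rw [hf, hf, hf, ← htrans i j k hij hjk]
          rfl)
        exact LinearMap.congr_fun this x }
  let L := Module.DirectLimit G f
  let of := fun i => Module.DirectLimit.of A ι G f i
  let τ : ∀ i, (Fin d → Bi i) → L := fun i g => of i (PiTensorProduct.tprod A g)
  have hτ : ∀ i j (h : i ≤ j) g, τ j (fun a => t i j h (g a)) = τ i g := fun i j h g => by
    show of j _ = of i _
    rw [← hf i j h g]
    exact Module.DirectLimit.of_f
  have hup : ∀ i j (h : i ≤ j) (x : Bi i), φ j (t i j h x) = φ i x := fun i j h x => DFunLike.congr_fun (hcomp i j h) x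
  have heq : ∀ (i j : ι) (g : Fin d → Bi i) (g' : Fin d → Bi j),
      (∀ a, φ i (g a) = φ j (g' a)) → τ i g = τ j g' := by
    intro i j g g' h
    obtain ⟨m, him, hjm⟩ := exists_ge_ge i j
    have hz : ∀ a, ∃ n, ∃ hn : m ≤ n, t m n hn (t i m him (g a) - t j m hjm (g' a)) = 0 := fun a =>
      hzero m _ (by rw [map_sub, hup, hup, h, sub_self])
    choose n hn hz using hz
    obtain ⟨M, hM⟩ := Finset.exists_le (insert m (Finset.univ.image n))
    have hmM : m ≤ M := hM m (Finset.mem_insert_self _ _)
    rw [← hτ i m him g, ← hτ j m hjm g', ← hτ m M hmM, ← hτ m M hmM (fun a => t j m hjm (g' a))]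
    congr 1
    funext a
    have hna : n a ≤ M := hM (n a) (Finset.mem_insert_of_mem (Finset.mem_image_of_mem n (Finset.mem_univ a)))
    have := congrArg (t (n a) M hna) (hz a)
    rw [map_zero, ← AlgHom.comp_apply, htrans m (n a) M (hn a) hna, map_sub, sub_eq_zero] at this
    exact this
  have hlift : ∀ b : Fin d → B, ∃ (i : ι) (g : Fin d → Bi i), ∀ a, φ i (g a) = b a := fun b => by
    choose i x hx using fun a => hsurj (b a)
    obtain ⟨M, hM⟩ := Finset.exists_le (Finset.univ.image i)
    exact ⟨M, fun a => t (i a) M (hM _ (Finset.mem_image_of_mem i (Finset.mem_univ a))) (x a),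
      fun a => by rw [hup, hx]⟩
  choose I g hg using hlift
  let ψ : MultilinearMap A (fun _ : Fin d => B) L :=
    { toFun := fun b => τ (I b) (g b)
      map_update_add' := fun {dec} b a x y => by
        obtain rfl : dec = instDecidableEqFin d := Subsingleton.elim _ _
        obtain ⟨ix, x', rfl⟩ := hsurj x
        obtain ⟨iy, y', rfl⟩ := hsurj y
        obtain ⟨m, hm⟩ := Finset.exists_le ({ix, iy, I b} : Finset ι)
        let xm := t ix m (hm _ (by simp)) x'
        let ym := t iy m (hm _ (by simp)) y'
        let bm := fun c => t (I b) m (hm _ (by simp)) (g b c)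
        have hv : ∀ (v : B) (vm : Bi m), φ m vm = v →
            τ (I (Function.update b a v)) (g (Function.update b a v)) = τ m (Function.update bm a vm) := fun v vm hvm =>
          heq _ _ _ _ fun c => by
            rw [hg]
            rcases eq_or_ne c a with rfl | hc
            · rw [Function.update_self, Function.update_self, hvm]
            · rw [Function.update_of_ne hc, Function.update_of_ne hc, hup, hg]
        rw [hv _ xm (hup _ _ _ _), hv _ ym (hup _ _ _ _),
          hv _ (xm + ym) (by rw [map_add, hup, hup])]
        show of m (PiTensorProduct.tprod A _) = of m _ + of m _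
        rw [MultilinearMap.map_update_add, map_add]
      map_update_smul' := fun {dec} b a c x => by
        obtain rfl : dec = instDecidableEqFin d := Subsingleton.elim _ _
        obtain ⟨ix, x', rfl⟩ := hsurj x
        obtain ⟨m, hm⟩ := Finset.exists_le ({ix, I b} : Finset ι)
        let xm := t ix m (hm _ (by simp)) x'
        let bm := fun e => t (I b) m (hm _ (by simp)) (g b e)
        have hv : ∀ (v : B) (vm : Bi m), φ m vm = v →
            τ (I (Function.update b a v)) (g (Function.update b a v)) = τ m (Function.update bm a vm) := fun v vm hvm =>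
          heq _ _ _ _ fun e => by
            rw [hg]
            rcases eq_or_ne e a with rfl | he
            · rw [Function.update_self, Function.update_self, hvm]
            · rw [Function.update_of_ne he, Function.update_of_ne he, hup, hg]
        rw [hv _ xm (hup _ _ _ _), hv _ (c • xm) (by rw [map_smul, hup])]
        show of m (PiTensorProduct.tprod A _) = c • of m _
        rw [MultilinearMap.map_update_smul, map_smul] }
  let Ψ := PiTensorProduct.lift ψ
  have hΨ : ∀ i (x : G i), Ψ (SymTen.tmap A d (φ i) x) = of i x := by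
    intro i x
    have : Ψ ∘ₗ (SymTen.tmap A d (φ i)).toLinearMap = of i := PiTensorProduct.ext (MultilinearMap.ext fun g' => by
      show Ψ (SymTen.tmap A d (φ i) (PiTensorProduct.tprod A g')) = of i (PiTensorProduct.tprod A g')
      rw [SymTen.tmap_tprod, PiTensorProduct.lift.tprod]
      exact heq _ _ _ _ fun a => hg _ a)
    exact LinearMap.congr_fun this x
  have hkill : ∀ i (x : G i), SymTen.tmap A d (φ i) x = 0 → ∃ j h, f i j h x = 0 := fun i x hx =>
    Module.DirectLimit.of.zero_exact (by
      show of i x = 0
      rw [← hΨ, hx, map_zero])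
  have hcompT : ∀ i j (h : i ≤ j) (x : G i), SymTen.tmap A d (φ j) (f i j h x) = SymTen.tmap A d (φ i) x := by
    intro i j h x
    have : (SymTen.tmap A d (φ j)).toLinearMap ∘ₗ f i j h = (SymTen.tmap A d (φ i)).toLinearMap :=
      PiTensorProduct.ext (MultilinearMap.ext fun g' => by
        show SymTen.tmap A d (φ j) (f i j h (PiTensorProduct.tprod A g')) = SymTen.tmap A d (φ i) (PiTensorProduct.tprod A g')
        rw [hf, SymTen.tmap_tprod, SymTen.tmap_tprod]
        simp only [hup])
    exact LinearMap.congr_fun this x
  refine ⟨fun z => ?_, fun i y hy => ?_⟩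
  · have hz : ∀ z : ⨂[A] _ : Fin d, B, ∃ (i : ι) (x : G i), SymTen.tmap A d (φ i) x = z := by
      intro z
      induction z using PiTensorProduct.induction_on with
      | smul_tprod r b =>
        refine ⟨I b, r • PiTensorProduct.tprod A (g b), ?_⟩
        rw [map_smul, SymTen.tmap_tprod, funext (hg b)]
      | add z w hz hw =>
        obtain ⟨i, x, rfl⟩ := hz
        obtain ⟨j, x', rfl⟩ := hw
        obtain ⟨m, him, hjm⟩ := exists_ge_ge i j
        exact ⟨m, f i m him x + f j m hjm x', by rw [map_add, hcompT, hcompT]⟩
    obtain ⟨i, x, hx⟩ := hz z.1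
    have hσ : ∀ σ : Equiv.Perm (Fin d), ∃ j h, f i j h (PiTensorProduct.reindex A (fun _ : Fin d => Bi i) σ x - x) = 0 :=
      fun σ => hkill i _ (by rw [map_sub, SymTen.tmap_reindex, hx, z.2 σ, sub_self])
    choose j hj hσ using hσ
    obtain ⟨M, hM⟩ := Finset.exists_le (insert i (Finset.univ.image j))
    have hiM : i ≤ M := hM i (Finset.mem_insert_self _ _)
    refine ⟨M, ⟨f i M hiM x, fun σ => ?_⟩, Subtype.ext ((hcompT i M hiM x).trans hx)⟩
    have hjM : j σ ≤ M := hM _ (Finset.mem_insert_of_mem (Finset.mem_image_of_mem j (Finset.mem_univ σ)))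
    have := congrArg (f (j σ) M hjM) (hσ σ)
    rw [map_zero, DirectedSystem.map_map' (f := f) (hj σ) hjM, map_sub, sub_eq_zero] at this
    exact (SymTen.tmap_reindex A d _ σ x).symm.trans this
  · obtain ⟨j, h, hj⟩ := hkill i y.1 (congrArg Subtype.val hy)
    exact ⟨j, h, Subtype.ext hj⟩
end Groth.Agent.S13728
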