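import Groth.Statements.S1373
import Groth.Agent.UnivOpenCrit.Basic

set_option autoImplicit false
universe u
open FlatMor

namespace Groth.Agent.S1373

open AlgebraicGeometry CategoryTheory Limits
open scoped TensorProduct

instance {X S : Scheme.{u}} (n : Type u) (i : X ⟶ S) [IsOpenImmersion i] : IsOpenImmersion (AffineSpace.map n i) :=
  MorphismProperty.of_isPullback (P := @IsOpenImmersion) (AffineSpace.isPullback_map i).flip inferInstance

/-- Openness on affine spaces passes to open pieces. -/
theorem isOpenMap_piece {X S V U : Scheme.{u}} (n : Type u) (f : X ⟶ S) (j : V ⟶ X) (i : U ⟶ S) (g : V ⟶ U)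
    [IsOpenImmersion j] [IsOpenImmersion i] (hg : g ≫ i = j ≫ f) (h : IsOpenMap (AffineSpace.map n f)) :
    IsOpenMap (AffineSpace.map n g) := by
  intro W hW
  have e : AffineSpace.map n g ≫ AffineSpace.map n i = AffineSpace.map n j ≫ AffineSpace.map n f := by
    rw [← AffineSpace.map_comp, ← AffineSpace.map_comp, hg]
  have h1 : IsOpen (AffineSpace.map n f '' (AffineSpace.map n j '' W)) :=
    h _ ((AffineSpace.map n j).isOpenEmbedding.isOpenMap _ hW)
  have h2 : AffineSpace.map n f '' (AffineSpace.map n j '' W) = AffineSpace.map n i '' (AffineSpace.map n g '' W) := by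
    rw [Set.image_image, Set.image_image]
    exact Set.image_congr fun x _ => congrArg (fun φ : 𝔸(n; V) ⟶ 𝔸(n; S) => φ x) e.symm
  rw [h2] at h1
  rw [← Set.preimage_image_eq (AffineSpace.map n g '' W) (AffineSpace.map n i).isOpenEmbedding.injective]
  exact h1.preimage (AffineSpace.map n i).continuous

theorem universallyOpen_Spec {R A : CommRingCat.{u}} (φ : R ⟶ A)
    (h : ∀ n : ℕ, IsOpenMap (AffineSpace.map (ULift.{u} (Fin n)) (Spec.map φ))) :
    UniversallyOpen (Spec.map φ) := by
  letI := φ.hom.toAlgebra
  show UniversallyOpen (Spec.map (CommRingCat.ofHom (algebraMap R A)))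
  refine Groth.Agent.UnivOpenCrit.universallyOpen_of_isOpenMap_tensor fun A' _ _ =>
    Groth.Agent.UnivOpenCrit.isOpenMap_comap_tensor.{u, u} fun c => ?_
  obtain ⟨s, hs⟩ := TensorProduct.exists_finset c
  classical
  let n := s.card
  let σ := ULift.{u} (Fin n)
  let p : σ → A' × A := fun i => (s.equivFin.symm i.down).1
  refine ⟨σ, inferInstance, fun i => (p i).2, fun i => (p i).1, ?_, ?_⟩
  · have hm : IsOpenMap (Spec.map (CommRingCat.ofHom (MvPolynomial.map (σ := σ) φ.hom))) := by
      have e : Spec.map (CommRingCat.ofHom (MvPolynomial.map (σ := σ) φ.hom)) =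
          (AffineSpace.SpecIso σ A).inv ≫ AffineSpace.map σ (Spec.map φ) ≫ (AffineSpace.SpecIso σ R).hom := by
        rw [AffineSpace.map_SpecMap]; simp
      rw [e]
      exact ((AffineSpace.SpecIso σ R).hom.isOpenEmbedding.isOpenMap.comp (h n)).comp
        (AffineSpace.SpecIso σ A).inv.isOpenEmbedding.isOpenMap
    exact hm _ PrimeSpectrum.isOpen_basicOpen
  · rw [hs, ← Finset.sum_coe_sort s]
    exact Fintype.sum_equiv (s.equivFin.trans Equiv.ulift.symm) _ _ fun i => by simp [p]

open AlgebraicGeometry CategoryTheory Limits in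
/-- (1) ⇔ (3): a morphism f : X → S is universally open if and only if for every n the induced morphism
from affine n-space over X to affine n-space over S is open. -/
theorem result {X S : Scheme.{u}} (f : X ⟶ S) :
    UniversallyOpen f ↔ ∀ n : ℕ, IsOpenMap ⇑(AffineSpace.map (ULift.{u} (Fin n)) f) := by
  constructor
  · intro h n
    exact h.universally_isOpenMap _ _ _ (AffineSpace.isPullback_map f)
  · intro h
    rw [IsZariskiLocalAtTarget.iff_of_openCover (P := @UniversallyOpen) S.affineCover]
    intro i
    show UniversallyOpen (pullback.snd f (S.affineCover.f i))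
    rw [IsZariskiLocalAtSource.iff_of_openCover (P := @UniversallyOpen) (pullback f (S.affineCover.f i)).affineCover]
    intro k
    obtain ⟨φ, hφ⟩ := Spec.map_surjective
      ((pullback f (S.affineCover.f i)).affineCover.f k ≫ pullback.snd f (S.affineCover.f i))
    refine (show Spec.map φ = _ from hφ) ▸ ?_
    refine universallyOpen_Spec φ fun n => ?_
    exact isOpenMap_piece _ f ((pullback f (S.affineCover.f i)).affineCover.f k ≫ pullback.fst f (S.affineCover.f i))
      (S.affineCover.f i) _ ((congrArg (· ≫ S.affineCover.f i) hφ).trans (((Category.assoc _ _ _).trans (congrArg ((pullback f (S.affineCover.f i)).affineCover.f k ≫ ·) (pullback.condition (f := f) (g := S.affineCover.f i)).symm)).trans (Category.assoc _ _ _).symm)) (h n)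

end Groth.Agent.S1373
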