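import Groth.Statements.S13735
import Groth.Agent.FlatDvrVC5.SchemePoint
import Groth.Agent.HTopCov.DVR
import Groth.Agent.AlgSpLib.Descends
-- import your own Groth.Agent.* helpers here

set_option autoImplicit false
universe u
open HTop


namespace Groth.Agent.S13735

open CategoryTheory CategoryTheory.Limits AlgebraicGeometry in
/-- Let S be a separated reduced Noetherian scheme, f : X → S a separated morphism locally of finite
type and g : S' → S a separated morphism of finite type which is universally submersive (an
h-covering). If the base change of f along g is flat, then f is flat. -/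
theorem result {X S S' : Scheme.{u}} [IsNoetherian S] [IsReduced S] [S.IsSeparated] (f : X ⟶ S) [LocallyOfFiniteType f] [IsSeparated f] (g : S' ⟶ S) [LocallyOfFiniteType g] [QuasiCompact g] [IsSeparated g] (hg : SGA1.UnivSubmersive g) (hflat : Flat (pullback.snd f g)) : Flat f := by
  haveI := hflat
  rw [Flat.iff_flat_stalkMap]
  intro x
  haveI : IsNoetherianRing (S.presheaf.stalk (f.base x)) := inferInstance
  refine Groth.Agent.FlatDvrVC5.flat_stalkMap_of_dvr f x ?_
  intro V _ _ _ φ _ x' _ _
  let gV : Spec (CommRingCat.of V) ⟶ S := Spec.map (CommRingCat.ofHom φ) ≫ S.fromSpecStalk (f.base x)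
  obtain ⟨q, p, hqp, hq, hp⟩ := Groth.Agent.HTopCov.exists_specializes_of_isQuotientMap (pullback.fst gV g)
    (hg _ _ _ (IsPullback.of_hasPullback gV g))
  obtain ⟨W, hW, hW', ψ, l, hψ, hl, -⟩ :=
    Groth.Agent.HTopCov.exists_ext_of_points (pullback.fst gV g) hqp hq hp
  haveI := hψ.2
  let m := l ≫ pullback.snd gV g
  have hm : m ≫ g = Spec.map ψ ≫ gV := by
    rw [Category.assoc, ← pullback.condition, reassoc_of% hl]
  have h1 : Flat (pullback.snd (pullback.snd f g) m) := inferInstance
  have e1 : IsPullback (pullback.fst (pullback.snd f g) m ≫ pullback.fst f g) (pullback.snd (pullback.snd f g) m) f (m ≫ g) :=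
    (IsPullback.of_hasPullback (pullback.snd f g) m).paste_horiz (IsPullback.of_hasPullback f g)
  rw [hm] at e1
  let P := pullback.snd f gV
  have e2 : IsPullback (pullback.fst P (Spec.map ψ) ≫ pullback.fst f gV) (pullback.snd P (Spec.map ψ)) f (Spec.map ψ ≫ gV) :=
    (IsPullback.of_hasPullback P (Spec.map ψ)).paste_horiz (IsPullback.of_hasPullback f gV)
  have h2 : Flat (pullback.snd P (Spec.map ψ)) := by
    rw [← e2.isoIsPullback_hom_snd _ _ e1]
    infer_instance
  have hff : ψ.hom.FaithfullyFlat := by
    algebraize [ψ.hom]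
    haveI : Module.IsTorsionFree V W :=
      Module.isTorsionFree_iff_algebraMap_injective.2 hψ.1
    haveI : Module.Flat V W := inferInstance
    haveI : IsLocalHom (algebraMap V W) := hψ.2
    exact Module.FaithfullyFlat.of_flat_of_isLocalHom
  obtain ⟨hfl, hsur⟩ := (flat_and_surjective_SpecMap_iff ψ).2 hff
  haveI := hfl
  haveI := hsur
  have h3 : Flat P := MorphismProperty.of_pullback_snd_of_descendsAlong
    (Q := @Surjective ⊓ @Flat ⊓ @QuasiCompact) ⟨⟨inferInstance, inferInstance⟩, inferInstance⟩ h2
  exact Flat.stalkMap (f := P) x'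

end Groth.Agent.S13735
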