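import Groth.Statements.S13736
import Groth.Agent.HTopCov.OpenSurj
import Groth.Agent.HTopCov.DVR
import Groth.Agent.S1454
-- import your own Groth.Agent.* helpers here

set_option autoImplicit false
universe u
open HTop


namespace Groth.Agent.S13736

open CategoryTheory CategoryTheory.Limits AlgebraicGeometry in
/-- Let X be a separated irreducible Noetherian scheme whose local rings are all geometrically
unibranch, and {p_i : U_i → X} a finite family of separated quasi-finite morphisms of finite type
with every U_i irreducible. Then the induced morphism from the disjoint union of the U_i to X is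
universally submersive (a qfh-covering) if and only if the dominant members p_i are jointly
surjective onto X; in that case the induced morphism from the disjoint union of the dominant members
alone is already universally submersive. (The published statement does not require the U_i
irreducible; for the affine line X over a field and the single member U = (X minus a closed point) ⊔
(that point) → X, which is dominant and surjective, the quotient property fails, and the published
proof uses that every irreducible component of a dominant member dominates X, so the members are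
taken irreducible here.) -/
theorem result {X : Scheme.{u}} [IsNoetherian X] [X.IsSeparated] [IrreducibleSpace ↥X] (hX : ∀ x : X, CAlg2.IsGeomUnibranch (X.presheaf.stalk x)) (E : PreZeroHypercover.{u} X) [Finite E.I₀] [∀ i, LocallyOfFiniteType (E.f i)] [∀ i, QuasiCompact (E.f i)] [∀ i, LocallyQuasiFinite (E.f i)] [∀ i, IsSeparated (E.f i)] [∀ i, IrreducibleSpace ↥(E.X i)] : (SGA1.UnivSubmersive (Sigma.desc E.f) ↔ ∀ x : X, ∃ (i : E.I₀) (u : E.X i), IsDominant (E.f i) ∧ E.f i u = x) ∧ ((∀ x : X, ∃ (i : E.I₀) (u : E.X i), IsDominant (E.f i) ∧ E.f i u = x) → SGA1.UnivSubmersive (Sigma.desc fun j : {i : E.I₀ // IsDominant (E.f i)} => E.f j.1)) := by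
  have key : (∀ x : X, ∃ (i : E.I₀) (u : E.X i), IsDominant (E.f i) ∧ E.f i u = x) →
      SGA1.UnivSubmersive (Sigma.desc fun j : {i : E.I₀ // IsDominant (E.f i)} => E.f j.1) := by
    intro hc
    haveI : UniversallyOpen (Sigma.desc fun j : {i : E.I₀ // IsDominant (E.f i)} => E.f j.1) := by
      refine IsZariskiLocalAtSource.sigmaDesc fun j => ?_
      haveI := j.2
      refine Groth.Agent.S1454.result (E.f j.1) hX fun Z hZ z hz => ?_
      rw [irreducibleComponents_eq_singleton, Set.mem_singleton_iff] at hZ
      subst hZ
      refine ⟨Set.univ, by rw [irreducibleComponents_eq_singleton]; rfl, ?_⟩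
      show closure {E.f j.1 z} = Set.univ
      refine Set.eq_univ_of_univ_subset ((E.f j.1).denseRange.closure_range.symm.subset.trans ?_)
      refine closure_minimal ?_ isClosed_closure
      rintro _ ⟨a, rfl⟩
      have ha : a ∈ closure {z} := by rw [hz]; trivial
      exact specializes_iff_mem_closure.1 ((specializes_iff_mem_closure.2 ha).map (E.f j.1).continuous)
    haveI : Surjective (Sigma.desc fun j : {i : E.I₀ // IsDominant (E.f i)} => E.f j.1) := by
      refine ⟨fun x => ?_⟩
      obtain ⟨i, u, hi, hu⟩ := hc x
      refine ⟨Sigma.ι (fun j : {i : E.I₀ // IsDominant (E.f i)} => E.X j.1) ⟨i, hi⟩ u, ?_⟩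
      rw [← Scheme.Hom.comp_apply, Sigma.ι_desc]
      exact hu
    exact Groth.Agent.HTopCov.univSubmersive_of_universallyOpen _
  refine ⟨⟨fun hE x => ?_, fun hc => ?_⟩, key⟩
  · obtain ⟨i, ξ, u, -, hu, hξ⟩ := Groth.Agent.HTopCov.exists_specializes_over_generic hE x
    refine ⟨i, u, ⟨?_⟩, hu⟩
    rw [irreducibleComponents_eq_singleton, Set.mem_singleton_iff] at hξ
    refine dense_iff_closure_eq.2 (Set.eq_univ_of_univ_subset ?_)
    rw [← hξ]
    exact closure_mono (Set.singleton_subset_iff.2 ⟨ξ, rfl⟩)
  · refine Groth.Agent.HTopCov.univSubmersive_of_comp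
      (f := Sigma.desc fun j : {i : E.I₀ // IsDominant (E.f i)} => Sigma.ι E.X j.1) ?_
    have he : (Sigma.desc fun j : {i : E.I₀ // IsDominant (E.f i)} => Sigma.ι E.X j.1) ≫ Sigma.desc E.f =
        Sigma.desc fun j : {i : E.I₀ // IsDominant (E.f i)} => E.f j.1 :=
      Sigma.hom_ext _ _ fun j => by simp
    rw [he]
    exact key hc

end Groth.Agent.S13736
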