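import Groth.Statements.S1374
import Groth.Agent.FMClosedSpecLib.Domain

set_option autoImplicit false
universe u
open FlatMor

namespace Groth.Agent.S1374

open AlgebraicGeometry CategoryTheory Limits in
/-- Let f : X ⟶ S be locally of finite type and x ⤳ x' a specialization of points of X, with x' a closed
point of its fibre f⁻¹(f(x')) and f(x) ≠ f(x'). Then the points x₁ with f(x₁) = f(x) which are
closed in the fibre f⁻¹(f(x)) and satisfy x ⤳ x₁ ⤳ x' are dense in the closure of {x} intersected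
with the fibre f⁻¹(f(x)) (fibres taken as subspaces of X). (The published statement omits the
condition f(x) ≠ f(x'), but the claim fails without it; it is stated here with that condition.) -/
theorem result {X S : Scheme.{u}} (f : X ⟶ S) [LocallyOfFiniteType f] (x x' : X) (hsp : x ⤳ x') (hne : f x ≠ f x')
    (hcl : IsClosed (Subtype.val ⁻¹' {x'} : Set ↑(f ⁻¹' {f x'}))) :
    Dense (Subtype.val ⁻¹' {x₁ : ↑X | f x₁ = f x ∧ IsClosed (Subtype.val ⁻¹' {x₁} : Set ↑(f ⁻¹' {f x})) ∧ x ⤳ x₁ ∧ x₁ ⤳ x'} :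
      Set ↑(closure {x} ∩ f ⁻¹' {f x})) := by
  obtain ⟨U, hU, hxU', -⟩ := exists_isAffineOpen_mem_and_subset (x := f x') (U := (⊤ : S.Opens)) trivial
  obtain ⟨W, hW, hxW', hWU⟩ := exists_isAffineOpen_mem_and_subset (x := x') (U := f ⁻¹ᵁ U) hxU'
  have hxW : x ∈ W := hsp.mem_open W.2 hxW'
  let := (f.appLE U W hWU).hom.toAlgebra
  have : Algebra.FiniteType Γ(S, U) Γ(X, W) := f.finiteType_appLE hU hW hWU
  -- points of `W` as primes
  let π : PrimeSpectrum Γ(X, W) → X := fun Q => hW.fromSpec Q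
  have hπW : ∀ Q, π Q ∈ W := fun Q => by
    have : π Q ∈ Set.range hW.fromSpec := ⟨Q, rfl⟩
    rwa [hW.range_fromSpec] at this
  have hπle : ∀ P Q : PrimeSpectrum Γ(X, W), π P ⤳ π Q ↔ P.asIdeal ≤ Q.asIdeal := fun P Q =>
    hW.fromSpec.isOpenEmbedding.isInducing.specializes_iff.trans (PrimeSpectrum.le_iff_specializes P Q).symm
  have hπs : ∀ y ∈ W, ∃ Q, π Q = y := fun y hy => by
    have : y ∈ Set.range hW.fromSpec := by rw [hW.range_fromSpec]; exact hy
    exact this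
  have hfπ : ∀ P Q : PrimeSpectrum Γ(X, W), f (π P) = f (π Q) ↔
      P.asIdeal.under Γ(S, U) = Q.asIdeal.under Γ(S, U) := fun P Q => by
    have e : ∀ R : PrimeSpectrum Γ(X, W),
        f (π R) = hU.fromSpec (PrimeSpectrum.comap (f.appLE U W hWU).hom R) := fun R =>
      (congr($(IsAffineOpen.SpecMap_appLE_fromSpec f hU hW hWU) R)).symm
    rw [e, e]
    exact hU.fromSpec.isOpenEmbedding.injective.eq_iff.trans PrimeSpectrum.ext_iff
  obtain ⟨q, rfl⟩ := hπs x hxW
  obtain ⟨q', rfl⟩ := hπs x' hxW'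
  have hqq : q.asIdeal ≤ q'.asIdeal := (hπle q q').1 hsp
  have hmax : ∀ Q : PrimeSpectrum Γ(X, W), q'.asIdeal ≤ Q.asIdeal →
      Q.asIdeal.under Γ(S, U) = q'.asIdeal.under Γ(S, U) → Q = q' := fun Q h1 h2 => by
    have hQ : f (π Q) = f (π q') := (hfπ Q q').2 h2
    have : (⟨π q', rfl⟩ : ↑(f ⁻¹' {f (π q')})) ⤳ ⟨π Q, hQ⟩ := (subtype_specializes_iff _ _).2 ((hπle q' Q).2 h1)
    have := this.mem_closed hcl rfl
    exact hW.fromSpec.isOpenEmbedding.injective this
  -- pass to the closure of `x`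
  let A' := Γ(S, U) ⧸ q.asIdeal.under Γ(S, U)
  let B' := Γ(X, W) ⧸ q.asIdeal
  let : Algebra A' B' := Ideal.Quotient.algebraQuotientOfLEComap le_rfl
  have : IsScalarTower Γ(S, U) A' B' := IsScalarTower.of_algebraMap_eq fun _ => rfl
  have : Algebra.FiniteType A' B' := Algebra.FiniteType.of_restrictScalars_finiteType Γ(S, U) A' B'
  have : FaithfulSMul A' B' :=
    (faithfulSMul_iff_algebraMap_injective A' B').2 (Ideal.quotientMap_injective (I := q.asIdeal))
  have hker : RingHom.ker (Ideal.Quotient.mk q.asIdeal) ≤ q'.asIdeal := by rwa [Ideal.mk_ker]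
  let q₀ : Ideal B' := q'.asIdeal.map (Ideal.Quotient.mk q.asIdeal)
  have : q₀.IsPrime := Ideal.map_isPrime_of_surjective Ideal.Quotient.mk_surjective hker
  have hq₀ : q₀.comap (Ideal.Quotient.mk q.asIdeal) = q'.asIdeal := by
    rw [Ideal.comap_map_of_surjective _ Ideal.Quotient.mk_surjective, ← RingHom.ker_eq_comap_bot,
      sup_eq_left.2 hker]
  have hunder : ∀ I : Ideal B', (I.under A').comap (Ideal.Quotient.mk _) =
      (I.comap (Ideal.Quotient.mk q.asIdeal)).under Γ(S, U) := fun I => rfl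
  have hbot : (⊥ : Ideal A').comap (Ideal.Quotient.mk _) = q.asIdeal.under Γ(S, U) := by
    rw [← RingHom.ker_eq_comap_bot, Ideal.mk_ker]
  have hq₀' : q₀.under A' ≠ ⊥ := fun h => hne ((hfπ q q').2 (by rw [← hbot, ← h, hunder, hq₀]))
  have hq₀max : ∀ Q : Ideal B', Q.IsPrime → q₀ ≤ Q → Q.under A' = q₀.under A' → Q = q₀ := by
    intro Q hQ hle heq
    have h := hmax ⟨Q.comap (Ideal.Quotient.mk q.asIdeal), Ideal.IsPrime.comap _⟩
      (hq₀ ▸ Ideal.comap_mono hle) (by rw [← hq₀, ← hunder, ← hunder, heq])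
    apply Ideal.comap_injective_of_surjective _ (Ideal.Quotient.mk_surjective (I := q.asIdeal))
    rw [hq₀]; exact congrArg PrimeSpectrum.asIdeal h
  rw [Subtype.dense_iff]
  intro y hy
  rw [mem_closure_iff]
  intro O hO hyO
  have hxO : π q ∈ O := (specializes_iff_mem_closure.2 hy.1).mem_open hO hyO
  obtain ⟨_, ⟨g, rfl⟩, hgq, hgO⟩ := PrimeSpectrum.isTopologicalBasis_basic_opens.exists_subset_of_mem_open
    (show q ∈ π ⁻¹' O from hxO) (hO.preimage hW.fromSpec.continuous)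
  obtain ⟨Q, hQ, hQle, hgQ, hQbot, hQmax⟩ := Groth.Agent.FMClosedSpec.exists_prime_closed_in_generic_fibre
    A' B' q₀ hq₀' hq₀max (g := Ideal.Quotient.mk q.asIdeal g)
    (fun h => hgq (Ideal.Quotient.eq_zero_iff_mem.1 h))
  let P : PrimeSpectrum Γ(X, W) := ⟨Q.comap (Ideal.Quotient.mk q.asIdeal), Ideal.IsPrime.comap _⟩
  have hqP : q.asIdeal ≤ P.asIdeal := fun a ha => by
    show Ideal.Quotient.mk q.asIdeal a ∈ Q
    rw [Ideal.Quotient.eq_zero_iff_mem.2 ha]; exact Q.zero_mem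
  have hPf : f (π P) = f (π q) := (hfπ P q).2 (by rw [← hbot, ← hQbot, hunder])
  have hPq' : P.asIdeal ≤ q'.asIdeal := hq₀ ▸ Ideal.comap_mono hQle
  have hclosed : IsClosed (Subtype.val ⁻¹' {π P} : Set ↑(f ⁻¹' {f (π q)})) := by
    have : JacobsonSpace ↑(f ⁻¹' {f (π q)}) :=
      .of_isClosedEmbedding (f.fiberHomeo (f (π q))).symm.isClosedEmbedding
    have hs : (Subtype.val ⁻¹' {π P} : Set ↑(f ⁻¹' {f (π q)})) = {⟨π P, hPf⟩} := by
      ext z; exact ⟨fun h => Subtype.ext h, fun h => congrArg Subtype.val h⟩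
    rw [hs]
    refine isClosed_singleton_of_isLocallyClosed_singleton ⟨Subtype.val ⁻¹' (W : Set X),
      closure {⟨π P, hPf⟩}, W.2.preimage continuous_subtype_val, isClosed_closure, ?_⟩
    symm
    refine Set.eq_singleton_iff_unique_mem.2 ⟨⟨hπW P, subset_closure rfl⟩, ?_⟩
    rintro ⟨z, hz⟩ ⟨hzW, hzc⟩
    obtain ⟨R, rfl⟩ := hπs z hzW
    have hle : P.asIdeal ≤ R.asIdeal :=
      (hπle P R).1 ((subtype_specializes_iff (⟨π P, hPf⟩ : ↑(f ⁻¹' {f (π q)})) ⟨π R, hz⟩).1 (specializes_iff_mem_closure.2 hzc))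
    have hqR : RingHom.ker (Ideal.Quotient.mk q.asIdeal) ≤ R.asIdeal := by
      rw [Ideal.mk_ker]; exact hqP.trans hle
    have hR : (R.asIdeal.map (Ideal.Quotient.mk q.asIdeal)).comap (Ideal.Quotient.mk q.asIdeal) = R.asIdeal := by
      rw [Ideal.comap_map_of_surjective _ Ideal.Quotient.mk_surjective, ← RingHom.ker_eq_comap_bot,
        sup_eq_left.2 hqR]
    have hz' : R.asIdeal.under Γ(S, U) = q.asIdeal.under Γ(S, U) := (hfπ R q).1 hz
    have h2 := hQmax (R.asIdeal.map (Ideal.Quotient.mk q.asIdeal))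
      (Ideal.map_isPrime_of_surjective Ideal.Quotient.mk_surjective hqR)
      (fun a ha => by
        obtain ⟨b, rfl⟩ := Ideal.Quotient.mk_surjective a
        exact Ideal.mem_map_of_mem _ (hle ha))
      (Ideal.comap_injective_of_surjective _ Ideal.Quotient.mk_surjective (by rw [hunder, hR, hbot, hz']))
    refine Subtype.ext (congrArg π (PrimeSpectrum.ext ?_))
    show R.asIdeal = Q.comap _
    rw [← h2, hR]
  refine ⟨π P, hgO hgQ, ⟨⟨π P, specializes_iff_mem_closure.1 ((hπle q P).2 hqP), hPf⟩, ?_, rfl⟩⟩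
  exact ⟨hPf, hclosed, (hπle q P).2 hqP, (hπle P q').2 hPq'⟩

end Groth.Agent.S1374
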