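import Groth.Statements.S13740
import Groth.Agent.SGA1Q.SigmaFinite
import Mathlib.AlgebraicGeometry.Morphisms.Immersion
import Mathlib.AlgebraicGeometry.Morphisms.Proper
import Mathlib.AlgebraicGeometry.AlgClosed.Basic
import Mathlib.FieldTheory.IsAlgClosed.AlgebraicClosure

set_option linter.style.haveILetI false
set_option backward.isDefEq.respectTransparency false
set_option backward.isDefEq.respectTransparency.types false


set_option autoImplicit false
universe w u
open SGA1


namespace Groth.Agent.S13740

open CategoryTheory CategoryTheory.Limits AlgebraicGeometry in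
/-- Let S be a separated Noetherian scheme, π : X → S finite and surjective with X separated, G a finite
group acting on X by S-automorphisms and transitively on the geometric points of X over every
geometric point of S, and F a presheaf of sets on schemes satisfying the sheaf condition for every
finite family of quasi-finite morphisms of finite type whose induced morphism from the disjoint
union is universally submersive (a qfh-sheaf). Then pulling back along π identifies F(S) with the
G-invariant elements of F(X): F(π) is injective with image the invariants. (The published statement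
takes F a qfh-sheaf on Noetherian schemes over S; this row takes a presheaf on all schemes with the
sheaf property for every such family, a stronger hypothesis.) -/
theorem result {X S : Scheme.{u}} [IsNoetherian S] [S.IsSeparated] [X.IsSeparated] (q : X ⟶ S) [IsFinite q] [Surjective q] {G : Type u} [Group G] [Finite G] (ρ : G →* Aut X) (hρ : ∀ g : G, (ρ g).hom ≫ q = q) (htrans : ∀ (Ω : Type u) [Field Ω] [IsAlgClosed Ω] (τ₁ τ₂ : Spec (CommRingCat.of Ω) ⟶ X), τ₁ ≫ q = τ₂ ≫ q → ∃ g : G, τ₁ ≫ (ρ g).hom = τ₂) (F : Scheme.{u}ᵒᵖ ⥤ Type w) (hF : ∀ ⦃T : Scheme.{u}⦄ (E : PreZeroHypercover.{u} T), Finite E.I₀ → (∀ i, LocallyOfFiniteType (E.f i)) → (∀ i, QuasiCompact (E.f i)) → (∀ i, LocallyQuasiFinite (E.f i)) → SGA1.UnivSubmersive (Sigma.desc E.f) → Presieve.IsSheafFor F E.presieve₀) : Function.Injective (F.map q.op) ∧ Set.range (F.map q.op) = {f : F.obj (Opposite.op X) | ∀ g : G, F.map (ρ g).hom.op f = f} := by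
  have hus : ∀ {A B : Scheme.{u}} (f : A ⟶ B) [UniversallyClosed f] [Surjective f],
      SGA1.UnivSubmersive f := fun {A B} f _ _ X' Y' i₁ i₂ f' h => by
    haveI : UniversallyClosed f' :=
      MorphismProperty.of_isPullback (P := @UniversallyClosed) h.flip ‹_›
    haveI : Surjective f' := MorphismProperty.of_isPullback (P := @Surjective) h.flip ‹_›
    exact f'.isClosedMap.isQuotientMap f'.continuous f'.surjective
  -- the cover given by `q` alone
  let E : PreZeroHypercover.{u} S := ⟨PUnit, fun _ => X, fun _ => q⟩
  have hE : Presieve.IsSheafFor F E.presieve₀ := by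
    refine hF E (inferInstanceAs (Finite PUnit)) (fun _ => ?_) (fun _ => ?_) (fun _ => ?_) ?_
    · show LocallyOfFiniteType q; infer_instance
    · show QuasiCompact q; infer_instance
    · show LocallyQuasiFinite q; infer_instance
    · haveI : IsIntegralHom (Sigma.desc E.f) :=
        SGA1Q.isIntegralHom_sigmaDesc (ι := PUnit) _ fun _ => inferInstanceAs (IsIntegralHom q)
      haveI : Surjective (Sigma.desc E.f) := Surjective.sigmaDesc_of_union_range_eq_univ
        (Set.eq_univ_of_forall fun s => Set.mem_iUnion.2 ⟨PUnit.unit, q.surjective s⟩)
      exact hus _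
  -- the cover of `X ×[S] X` given by the graphs
  let P := pullback q q
  let c : G → (X ⟶ P) := fun g => pullback.lift (𝟙 X) (ρ g).hom (by rw [hρ g, Category.id_comp])
  let E' : PreZeroHypercover.{u} P := ⟨G, fun _ => X, c⟩
  have hc : ∀ g, IsClosedImmersion (c g) := fun g => by
    haveI : IsClosedImmersion (c g ≫ pullback.fst q q) := by
      simp only [c, pullback.lift_fst]
      infer_instance
    exact IsClosedImmersion.of_comp (c g) (pullback.fst q q)
  have hc' : ∀ g, IsFinite (c g) := fun g => haveI := hc g; inferInstance
  have hE' : Presieve.IsSheafFor F E'.presieve₀ := by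
    refine hF E' (inferInstanceAs (Finite G)) (fun g => ?_) (fun g => ?_) (fun g => ?_) ?_
    · show LocallyOfFiniteType (c g); haveI := hc' g; infer_instance
    · show QuasiCompact (c g); haveI := hc' g; infer_instance
    · show LocallyQuasiFinite (c g); haveI := hc' g; infer_instance
    · haveI : IsIntegralHom (Sigma.desc E'.f) :=
        SGA1Q.isIntegralHom_sigmaDesc (ι := G) _ fun g => haveI := hc' g; inferInstanceAs (IsIntegralHom (c g))
      haveI : Surjective (Sigma.desc E'.f) := Surjective.sigmaDesc_of_union_range_eq_univ
        (Set.eq_univ_of_forall fun z => by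
          let Ω := AlgebraicClosure (P.residueField z)
          let a : Spec (CommRingCat.of Ω) ⟶ P :=
            Spec.map (CommRingCat.ofHom (algebraMap (P.residueField z) Ω)) ≫ P.fromSpecResidueField z
          obtain ⟨g, hg⟩ := htrans Ω (a ≫ pullback.fst q q) (a ≫ pullback.snd q q)
            (by simp only [a, Category.assoc]; rw [pullback.condition])
          have he : (a ≫ pullback.fst q q) ≫ c g = a := by
            apply pullback.hom_ext
            · simp [c]
            · simp only [c, Category.assoc, pullback.lift_snd]
              simpa using hg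
          have hz : a default = z := Scheme.fromSpecResidueField_apply z _
          refine Set.mem_iUnion.2 ⟨g, (a ≫ pullback.fst q q) default, ?_⟩
          show c g ((a ≫ pullback.fst q q) default) = z
          rw [← Scheme.Hom.comp_apply, he, hz])
      exact hus _
  constructor
  · intro s t h
    obtain ⟨u, -, hu⟩ := Presieve.isSheafFor_arrows_iff F E.f |>.1 hE (fun _ => F.map q.op s)
      (fun i j Z gi gj hgg => by
        rw [← comp_apply, ← comp_apply, ← F.map_comp, ← F.map_comp, ← op_comp, ← op_comp]
        exact congrArg (fun m => F.map (Quiver.Hom.op m) s) hgg)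
    exact (hu s fun _ => rfl).trans (hu t fun _ => h.symm).symm
  · ext x
    constructor
    · rintro ⟨s, rfl⟩ g
      rw [← comp_apply, ← F.map_comp, ← op_comp, hρ g]
    · intro hx
      have hpp : F.map (pullback.fst q q).op x = F.map (pullback.snd q q).op x := by
        obtain ⟨u, -, hu⟩ := Presieve.isSheafFor_arrows_iff F E'.f |>.1 hE' (fun _ => x)
          (fun i j Z gi gj hgg => by
            have h1 : gi = gj := by simpa [E', c] using congr($hgg ≫ pullback.fst q q)
            rw [h1])
        refine (hu _ fun g => ?_).trans (hu _ fun g => ?_).symm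
        · show F.map (c g).op (F.map (pullback.fst q q).op x) = x
          rw [← comp_apply, ← F.map_comp, ← op_comp, pullback.lift_fst, op_id, F.map_id, id_apply]
        · show F.map (c g).op (F.map (pullback.snd q q).op x) = x
          rw [← comp_apply, ← F.map_comp, ← op_comp, pullback.lift_snd]
          exact hx g
      obtain ⟨t, ht, -⟩ := Presieve.isSheafFor_arrows_iff F E.f |>.1 hE (fun _ => x)
        (fun i j Z gi gj hgg => by
          have := congrArg (fun z => F.map (pullback.lift gi gj hgg).op z) hpp
          have hmap : ∀ {A B C : Scheme.{u}} (v : A ⟶ B) (w : B ⟶ C) (y : F.obj (Opposite.op C)),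
              F.map v.op (F.map w.op y) = F.map (v ≫ w).op y := fun v w y => by
            rw [op_comp, F.map_comp]; rfl
          rw [hmap, hmap, pullback.lift_fst, pullback.lift_snd] at this
          exact this)
      exact ⟨t, ht PUnit.unit⟩
end Groth.Agent.S13740
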