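import Groth.Statements.S13742
import Groth.Agent.FlatMisc.GenericFibreRed

set_option linter.style.haveILetI false
set_option backward.isDefEq.respectTransparency false
set_option backward.isDefEq.respectTransparency.types false


set_option autoImplicit false
universe u
open Cyc

attribute [-instance] CategoryTheory.catToReflQuiver

namespace Groth.Agent.S13742

open CategoryTheory CategoryTheory.Limits AlgebraicGeometry in
/-- Let S be a separated Noetherian scheme, f : X → S separated of finite type, z a point of X mapping
to a generic point of an irreducible component of S, and ι : Z → X a closed immersion from a reduced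
scheme with image the closure of z (the closure of z with its reduced structure). Then Z ×_S Spec
k(f z) is an integral scheme, and its image in the fibre X ×_S Spec k(f z) is the closure of the
unique point w of that fibre lying over z: Z ×_S Spec k(f z) is the closure of z in its fibre, with
reduced structure. -/
theorem result {X S Z : Scheme.{u}} [IsNoetherian S] [S.IsSeparated] [X.IsSeparated] (f : X ⟶ S) [LocallyOfFiniteType f] [QuasiCompact f] (z : X) (hz : closure {f z} ∈ irreducibleComponents ↥S) (ι : Z ⟶ X) [IsClosedImmersion ι] [IsReduced Z] (hZ : Set.range ι = closure {z}) : IsIntegral (pullback (ι ≫ f) (S.fromSpecResidueField (f z))) ∧ ∃ w : ↥(pullback f (S.fromSpecResidueField (f z))), pullback.fst f (S.fromSpecResidueField (f z)) w = z ∧ Set.range (pullback.map (ι ≫ f) (S.fromSpecResidueField (f z)) f (S.fromSpecResidueField (f z)) ι (𝟙 _) (𝟙 S) (Category.comp_id _) ((Category.comp_id _).trans (Category.id_comp _).symm)) = closure {w} := by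
  have hη : ∀ w : S, w ⤳ f z → w = f z :=
    FlatMisc.eq_of_specializes_of_generic_component (f z) _ hz rfl
  haveI : AlgebraicGeometry.IsReduced ((ι ≫ f).fiber (f z)) := FlatMisc.isReduced_fiber_of_generic (ι ≫ f) (f z) hη
  obtain ⟨ζ, hζ⟩ : z ∈ Set.range ι := hZ.ge (subset_closure rfl)
  have hgen : ∀ a : Z, ζ ⤳ a := fun a => by
    rw [← ι.isEmbedding.isInducing.specializes_iff, hζ]
    exact specializes_iff_mem_closure.2 (hZ.le ⟨a, rfl⟩)
  have hfib : (ι ≫ f) ζ = f z := by rw [Scheme.Hom.comp_apply, hζ]
  obtain ⟨v, hv⟩ : ζ ∈ Set.range ((ι ≫ f).fiberι (f z)) := by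
    rw [Scheme.Hom.range_fiberι]; exact hfib
  haveI : IrreducibleSpace ↥((ι ≫ f).fiber (f z)) := by
    refine (irreducibleSpace_def _).2 ?_
    have huniv : closure ({v} : Set ↥((ι ≫ f).fiber (f z))) = Set.univ := Set.eq_univ_of_forall fun a => by
      rw [← specializes_iff_mem_closure, ← ((ι ≫ f).fiberι (f z)).isEmbedding.isInducing.specializes_iff, hv]
      exact hgen _
    rw [Set.top_eq_univ, ← huniv]
    exact isIrreducible_singleton.closure
  have hint : IsIntegral ((ι ≫ f).fiber (f z)) := isIntegral_of_irreducibleSpace_of_isReduced _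
  refine ⟨hint, ?_⟩
  obtain ⟨w, hw⟩ : z ∈ Set.range (f.fiberι (f z)) := by rw [Scheme.Hom.range_fiberι]; rfl
  refine ⟨w, hw, ?_⟩
  rw [Scheme.Pullback.range_map]
  ext a
  rw [Set.mem_inter_iff, Set.mem_preimage, Set.mem_preimage, hZ, ← specializes_iff_mem_closure,
    ← specializes_iff_mem_closure,
    ← (f.fiberι (f z)).isEmbedding.isInducing.specializes_iff, hw]
  constructor
  · exact fun h => h.1
  · exact fun h => ⟨h, ⟨_, rfl⟩⟩
end Groth.Agent.S13742
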