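import Groth.Statements.S13751
import Groth.Agent.AbExt.Main
-- import your own Groth.Agent.* helpers here

set_option autoImplicit false
universe u
open CategoryTheory CategoryTheory.Limits AlgebraicGeometry MonObj
open Neron

set_option backward.isDefEq.respectTransparency false
set_option backward.isDefEq.respectTransparency.types false
set_option synthInstance.maxHeartbeats 400000
set_option maxHeartbeats 1000000
set_option linter.style.haveILetI false
attribute [-instance] CategoryTheory.catToReflQuiver

namespace Groth.Agent.S13751

/-- Let S be a locally Noetherian scheme all of whose local rings are regular, let U ⊆ S be a dense open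
subscheme and let A → S be an abelian scheme: a proper smooth group scheme over S whose geometric
fibres are connected. Then A is a Néron model of its restriction A ×_S U over S, in the sense that
for every smooth S-scheme Y the restriction map from S-morphisms Y → A to U-morphisms Y ×_S U → A
×_S U is a bijection. (The published statement is for an abelian algebraic space over a regular base
and does not ask U to be dense; for U empty and A of positive relative dimension the identity and
the zero map of A both restrict to the empty morphism, so uniqueness fails, and the published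
uniqueness argument uses density — this row takes A a scheme and U dense.) -/
theorem result
    {S : Scheme.{u}} [IsLocallyNoetherian S] (hreg : ∀ s : S, IsRegularLocalRing (S.presheaf.stalk s))
    (U : S.Opens) (hU : Dense (U : Set S))
    (A : Over S) [GrpObj A] [IsProper A.hom] [Smooth A.hom]
    (hconn : ∀ (L : Type u) [Field L] (t : Spec (CommRingCat.of L) ⟶ S), ConnectedSpace ↑(pullback A.hom t))
    (Y : Over S) [Smooth Y.hom] :
    Function.Bijective (fun f : Y ⟶ A => (Over.pullback U.ι).map f) := by
  haveI : GeometricallyConnected A.hom := ⟨fun K _ y Z fst snd h => by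
    haveI := hconn K y
    exact h.isoPullback.inv.homeomorph.surjective.connectedSpace h.isoPullback.inv.continuous⟩
  haveI : IsLocallyNoetherian Y.left := LocallyOfFiniteType.isLocallyNoetherian Y.hom
  have hY := Groth.Agent.WeilExt.isRegularLocalRing_stalk hreg Y.hom
  haveI := Groth.Agent.AbExt.isReduced_of_regular hY
  let UY := Y.hom ⁻¹ᵁ U
  have hUY : Dense (UY : Set Y.left) := hU.preimage Y.hom.isOpenMap
  constructor
  · intro f f' h
    haveI : IsDominant UY.ι := ⟨by rw [DenseRange, Scheme.Opens.range_ι]; exact hUY⟩
    refine Over.OverMorphism.ext (ext_of_isDominant_of_isSeparated A.hom ((Over.w f).trans (Over.w f').symm) UY.ι ?_)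
    have h1 := congrArg (fun m => pullback.lift UY.ι (Y.hom ∣_ U) (morphismRestrict_ι _ _).symm ≫ m.left ≫
      pullback.fst A.hom U.ι) h
    simpa [Over.pullback] using h1
  · intro φ
    let k : UY.toScheme ⟶ pullback Y.hom U.ι := pullback.lift UY.ι (Y.hom ∣_ U) (morphismRestrict_ι _ _).symm
    obtain ⟨f, ⟨hf1, hf2⟩, -⟩ := Groth.Agent.AbExt.existsUnique_map A Y.hom hY UY hUY
      (k ≫ φ.left ≫ pullback.fst A.hom U.ι) (by
        have hw : φ.left ≫ pullback.snd A.hom U.ι = pullback.snd Y.hom U.ι := Over.w φ
        rw [Category.assoc, Category.assoc, pullback.condition, ← Category.assoc φ.left, hw, ← Category.assoc,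
          pullback.lift_snd, morphismRestrict_ι])
    refine ⟨Over.homMk f hf1, Over.OverMorphism.ext (pullback.hom_ext ?_ ?_)⟩
    · have hr : Set.range (pullback.fst Y.hom U.ι) ⊆ Set.range UY.ι := by
        rw [Scheme.Pullback.range_fst, Scheme.Opens.range_ι, Scheme.Opens.range_ι]
        exact subset_rfl
      let l := IsOpenImmersion.lift UY.ι (pullback.fst Y.hom U.ι) hr
      have hl : l ≫ UY.ι = pullback.fst Y.hom U.ι := IsOpenImmersion.lift_fac _ _ _
      have hlk : l ≫ k = 𝟙 _ := by
        refine pullback.hom_ext ?_ ?_
        · rw [Category.assoc, pullback.lift_fst, hl, Category.id_comp]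
        · rw [← cancel_mono U.ι, Category.assoc, Category.assoc, Category.id_comp, pullback.lift_snd_assoc,
            morphismRestrict_ι, ← Category.assoc, hl, pullback.condition]
      calc _ = pullback.fst Y.hom U.ι ≫ f := by simp [Over.pullback]
        _ = l ≫ k ≫ φ.left ≫ pullback.fst A.hom U.ι := by rw [← hl, Category.assoc, hf2]
        _ = _ := by rw [← Category.assoc, hlk]; exact Category.id_comp _
    · exact (Over.w ((Over.pullback U.ι).map (Over.homMk f hf1 : Y ⟶ A))).trans (Over.w φ).symm


end Groth.Agent.S13751
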