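import Groth.Statements.S1376
-- import your own Groth.Agent.* helpers here
import Mathlib
import Groth.Agent.LocImmLib.ZMT
import Groth.Agent.ExistEasy.ChowNR.Basic

set_option autoImplicit false
universe u
open FlatMor

namespace Groth.Agent.S1376

open AlgebraicGeometry CategoryTheory Limits in
/-- The scheme-theoretic image of an open piece closed over `U` extends it exactly. -/
theorem exists_finite_extension {S V : Scheme.{u}} [CompactSpace ↑S] [QuasiSeparatedSpace ↑S] (U : S.Opens)
    (hU : IsCompact (U : Set ↑S)) (v : V ⟶ (U : Scheme.{u})) [IsFinite v] :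
    ∃ (V₁ : Scheme.{u}) (π : V₁ ⟶ S) (i : V ⟶ V₁), IsFinite π ∧ IsOpenImmersion i ∧
      i ≫ π = v ≫ U.ι ∧ Set.range i = π ⁻¹' (U : Set S) := by
  have : QuasiCompact U.ι := (quasiCompact_iff_forall_isAffineOpen).mpr fun W hW => by
    rw [U.ι.isOpenEmbedding.isInducing.isCompact_iff, Scheme.Hom.coe_preimage,
      Set.image_preimage_eq_inter_range, Scheme.Opens.range_ι]
    exact QuasiSeparatedSpace.inter_isCompact _ _ W.2 hW.isCompact U.2 hU
  have : LocallyQuasiFinite (v ≫ U.ι) := inferInstance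
  obtain ⟨T, j, π, hj, hjc, hπ, hjπ⟩ := Groth.Agent.LocImmLib.exists_openImmersion_finite (v ≫ U.ι)
  refine ⟨j.image, j.imageι ≫ π, j.toImage, inferInstance, ?_⟩
  let A : j.image.Opens := (j.imageι ≫ π) ⁻¹ᵁ U
  have hA : ∀ x : V, j.toImage x ∈ A := by
    intro x
    show (j.toImage ≫ j.imageι ≫ π) x ∈ U
    rw [← Category.assoc, j.toImage_imageι, hjπ]
    exact (v x).2
  have hr : Set.range j.toImage ⊆ Set.range A.ι := by
    rw [Scheme.Opens.range_ι]
    rintro _ ⟨x, rfl⟩
    exact hA x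
  let k : V ⟶ A := IsOpenImmersion.lift A.ι j.toImage hr
  have hk : k ≫ A.ι = j.toImage := IsOpenImmersion.lift_fac _ _ _
  let r : (A : Scheme.{u}) ⟶ U := (j.imageι ≫ π) ∣_ U
  have hkr : k ≫ r = v := by
    rw [← cancel_mono U.ι, Category.assoc, morphismRestrict_ι, reassoc_of% hk, ← Category.assoc,
      j.toImage_imageι, hjπ]
  have : IsFinite (k ≫ r) := hkr ▸ inferInstance
  have : IsFinite k := IsFinite.of_comp k r
  have : Mono k := by
    have : Mono (k ≫ A.ι ≫ j.imageι) := by rw [reassoc_of% hk, j.toImage_imageι]; infer_instance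
    exact mono_of_mono k (A.ι ≫ j.imageι)
  have : IsClosedImmersion k := (IsClosedImmersion.iff_isProper_and_mono k).mpr ⟨inferInstance, ‹_›⟩
  have : QuasiCompact j := hjc
  have : IsSchemeTheoreticallyDominant j.toImage := Groth.Agent.ExistEasy.ChowNR.isSTDom_toImage j
  have : IsSchemeTheoreticallyDominant k := by
    refine IsSchemeTheoreticallyDominant.of_isPullback (f := j.toImage) (g := A.ι) (pX := 𝟙 V) ?_
    exact (IsOpenImmersion.isPullback k (𝟙 V) A.ι j.toImage (by rw [Category.id_comp, hk])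
      (TopologicalSpace.Opens.ext (by
        ext x
        simp only [Scheme.Hom.coe_preimage, Scheme.Hom.coe_opensRange, Set.mem_preimage,
          Scheme.Opens.range_ι]
        exact ⟨fun _ => ⟨x, rfl⟩, fun _ => hA x⟩))).flip
  have : IsIso k := IsClosedImmersion.isIso_iff_ker_eq_bot.2 k.ker_eq_bot
  have : IsOpenImmersion j.toImage := hk ▸ inferInstance
  refine ⟨this, by rw [← Category.assoc, j.toImage_imageι, hjπ], ?_⟩
  refine subset_antisymm (by rintro _ ⟨x, rfl⟩; exact hA x) fun y hy => ?_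
  obtain ⟨x, hx⟩ := k.surjective ⟨y, hy⟩
  exact ⟨x, (congrArg (fun f : V ⟶ j.image => f x) hk).symm.trans (congrArg Subtype.val hx)⟩

open AlgebraicGeometry CategoryTheory Limits in
/-- Let S be quasi-compact and quasi-separated, U a quasi-compact open of S and V → U a surjective
finite morphism. Then there is a surjective finite morphism V' → S whose base change to U is V (V is
the fibre product of V' and U over S). -/
theorem result {S V : Scheme.{u}} [CompactSpace ↑S] [QuasiSeparatedSpace ↑S] (U : S.Opens) (hU : IsCompact (U : Set ↑S))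
    (v : V ⟶ (U : Scheme.{u})) [IsFinite v] [Surjective v] :
    ∃ (V' : Scheme.{u}) (π : V' ⟶ S) (i : V ⟶ V'), Surjective π ∧ IsFinite π ∧ IsPullback i v π U.ι := by
  obtain ⟨V₁, π, i, hπ, hi, hiπ, hrange⟩ := exists_finite_extension U hU v
  let Z : TopologicalSpace.Closeds S := ⟨(U : Set S)ᶜ, U.2.isClosed_compl⟩
  let I := Scheme.IdealSheafData.vanishingIdeal Z
  have hI : Set.range I.subschemeι = (U : Set S)ᶜ := by
    rw [Scheme.IdealSheafData.range_subschemeι, Scheme.IdealSheafData.coe_support_vanishingIdeal]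
    rfl
  let π' : V₁ ⨿ I.subscheme ⟶ S := coprod.desc π I.subschemeι
  have hinl : ∀ x, π' ((coprod.inl : V₁ ⟶ V₁ ⨿ I.subscheme) x) = π x := fun x => by
    rw [← Scheme.Hom.comp_apply, coprod.inl_desc]
  have hinr : ∀ x, π' ((coprod.inr : I.subscheme ⟶ V₁ ⨿ I.subscheme) x) = I.subschemeι x := fun x => by
    rw [← Scheme.Hom.comp_apply, coprod.inr_desc]
  refine ⟨V₁ ⨿ I.subscheme, π', i ≫ coprod.inl, ⟨fun s => ?_⟩, inferInstanceAs (IsFinite (coprod.desc π I.subschemeι)), ?_⟩
  · by_cases hs : s ∈ U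
    · obtain ⟨x, hx⟩ := v.surjective ⟨s, hs⟩
      refine ⟨(coprod.inl : V₁ ⟶ V₁ ⨿ I.subscheme) (i x), ?_⟩
      rw [hinl, ← Scheme.Hom.comp_apply, hiπ, Scheme.Hom.comp_apply, hx]
      rfl
    · obtain ⟨x, hx⟩ := hI.ge hs
      exact ⟨(coprod.inr : I.subscheme ⟶ V₁ ⨿ I.subscheme) x, (hinr x).trans hx⟩
  · have : IsOpenImmersion i := hi
    refine (IsOpenImmersion.isPullback v (i ≫ coprod.inl) U.ι π' (by rw [Category.assoc, coprod.inl_desc, hiπ]) ?_).flip
    refine TopologicalSpace.Opens.ext ?_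
    rw [Scheme.Hom.coe_preimage, Scheme.Opens.opensRange_ι, Scheme.Hom.coe_opensRange]
    refine subset_antisymm (fun y hy => ?_) ?_
    · rcases (isCompl_range_inl_inr V₁ I.subscheme).sup_eq_top.ge (Set.mem_univ y) with ⟨x, rfl⟩ | ⟨x, rfl⟩
      · have hx : x ∈ Set.range i := by
          rw [hrange]
          show π x ∈ U
          rw [← hinl]
          exact hy
        obtain ⟨z, rfl⟩ := hx
        exact ⟨z, Scheme.Hom.comp_apply _ _ z⟩
      · exact absurd (show I.subschemeι x ∈ U from hinr x ▸ hy) (hI.le ⟨x, rfl⟩)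
    · rintro _ ⟨z, rfl⟩
      show π' ((i ≫ coprod.inl) z) ∈ U
      rw [Scheme.Hom.comp_apply, hinl, ← Scheme.Hom.comp_apply, hiπ]
      exact (v z).2

end Groth.Agent.S1376
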