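import Groth.Statements.S13831
import Groth.Agent.FibDeg.Basic
import Groth.Agent.MorLib.UnivHomeo
import Mathlib.FieldTheory.PurelyInseparable.Basic

set_option linter.style.haveILetI false
set_option backward.isDefEq.respectTransparency false
set_option backward.isDefEq.respectTransparency.types false


set_option autoImplicit false
universe u
open AlgebraicGeometry
open ChowMon


namespace Groth.Agent.S13831

/-- For a finite universal homeomorphism p : T' → T of Noetherian schemes there is an integer d ≥ 1 such
that for every point t' of T' over t the residue field degree [k(t') : k(t)] is a power of the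
exponential characteristic of k(t) dividing d. -/
theorem result {T' T : Scheme.{u}} (p : T' ⟶ T) [IsFinite p] (hp : FlatMor.IsUnivHomeo p)
    [IsNoetherian T] [IsNoetherian T'] [T.IsSeparated] [T'.IsSeparated] :
    ∃ d : ℕ, 0 < d ∧ ∀ t' : T', ∃ e : ℕ,
      @Module.finrank (T.residueField (p t')) (T'.residueField t') _ _
          (p.residueFieldMap t').hom.toAlgebra.toModule =
        ringExpChar (T.residueField (p t')) ^ e ∧
      ringExpChar (T.residueField (p t')) ^ e ∣ d := by
  haveI := Groth.Agent.MorLib.universallyInjective_of_isUnivHomeo hp
  obtain ⟨N, hN⟩ := Groth.Agent.FibDeg.exists_bound p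
  refine ⟨N.factorial, Nat.factorial_pos N, fun t' => ?_⟩
  letI := (p.residueFieldMap t').hom.toAlgebra
  haveI : IsPurelyInseparable (T.residueField (p t')) (T'.residueField t') :=
    ((((tfae_universallyInjective p).out 0 2 rfl rfl).mp ‹_›).2 t')
  haveI : FiniteDimensional (T.residueField (p t')) (T'.residueField t') :=
    (hN t').1
  obtain ⟨e, he⟩ := IsPurelyInseparable.finrank_eq_pow (T.residueField (p t')) (T'.residueField t')
    (ringExpChar (T.residueField (p t')))
  refine ⟨e, he, Nat.dvd_factorial ?_ (he ▸ (hN t').2)⟩
  rw [← he]
  exact Module.finrank_pos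
end Groth.Agent.S13831
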