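import Groth.Statements.S13846
import Mathlib.LinearAlgebra.GeneralLinearGroup.AlgEquiv
import Mathlib.LinearAlgebra.Dual.Lemmas
-- import your own Groth.Agent.* helpers here

set_option autoImplicit false
universe u v
open TwSh

namespace Groth.Agent.S13846

/-- Let k be a field and V, W finite-dimensional ℤ-graded k-vector spaces, V = ⊕ V_i with V ≠ 0 and W =
⊕ W_i. Let φ : End_k(V) ≃ End_k(W) be a k-algebra isomorphism which sends every endomorphism
homogeneous of degree d (one mapping V_i into V_{i+d} for all i) to an endomorphism homogeneous of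
degree d. Then there are an integer n and a k-linear isomorphism g : V ≅ W with g(V_i) = W_{i+n} for
every i such that φ(f) = g ∘ f ∘ g⁻¹ for all f; moreover n is unique and g is unique up to a nonzero
scalar: if g' : V ≅ W satisfies g'(V_i) = W_{i+n'} for all i and φ(f) = g' ∘ f ∘ g'⁻¹ for all f,
then n' = n and g' = c·g for some c ∈ kˣ. (The published statement is about non-zero perfect
complexes over k: an isomorphism of their derived endomorphism algebras, as algebra objects of the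
derived category, is induced by an isomorphism from the first complex to a shift of the second, for
a unique shift and up to a unit; this row is its form for finite-dimensional ℤ-graded vector spaces,
to which the bounded derived category of a field is equivalent by taking cohomology.) -/
theorem result (k : Type u) [Field k] (V W : Type v) [AddCommGroup V] [Module k V] [FiniteDimensional k V] [Nontrivial V] [AddCommGroup W] [Module k W] [FiniteDimensional k W] (𝒱 : ℤ → Submodule k V) (h𝒱 : DirectSum.IsInternal 𝒱) (𝒲 : ℤ → Submodule k W) (h𝒲 : DirectSum.IsInternal 𝒲) (φ : Module.End k V ≃ₐ[k] Module.End k W) (hφ : ∀ (d : ℤ) (f : Module.End k V), (∀ (i : ℤ) (x : V), x ∈ 𝒱 i → f x ∈ 𝒱 (i + d)) → ∀ (i : ℤ) (y : W), y ∈ 𝒲 i → φ f y ∈ 𝒲 (i + d)) : ∃ (n : ℤ) (g : V ≃ₗ[k] W), (∀ i : ℤ, Submodule.map (g : V →ₗ[k] W) (𝒱 i) = 𝒲 (i + n)) ∧ (∀ f : Module.End k V, φ f = (g : V →ₗ[k] W) ∘ₗ f ∘ₗ (g.symm : W →ₗ[k] V)) ∧ ∀ (n' : ℤ) (g' : V ≃ₗ[k]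 W), (∀ i : ℤ, Submodule.map (g' : V →ₗ[k] W) (𝒱 i) = 𝒲 (i + n')) → (∀ f : Module.End k V, φ f = (g' : V →ₗ[k] W) ∘ₗ f ∘ₗ (g'.symm : W →ₗ[k] V)) → n' = n ∧ ∃ c : kˣ, ∀ x : V, g' x = c • g x := by
    classical
    obtain ⟨g, hg⟩ := φ.eq_linearEquivConjAlgEquiv
    have hconj : ∀ f w, φ f w = g (f (g.symm w)) := fun f w => by rw [hg]; rfl
    have hne : ∃ i₀, 𝒱 i₀ ≠ ⊥ := by
      by_contra hc
      push_neg at hc
      exact bot_ne_top (α := Submodule k V) ((iSup_eq_bot.2 hc).symm.trans h𝒱.submodule_iSup_eq_top)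
    obtain ⟨i₀, hi₀⟩ := hne
    obtain ⟨x, hx, hx0⟩ := (Submodule.ne_bot_iff _).1 hi₀
    have hxn : x ∉ ⨆ j ≠ i₀, 𝒱 j := fun hm =>
      hx0 ((Submodule.mem_bot k).1 ((h𝒱.submodule_iSupIndep i₀).le_bot ⟨hx, hm⟩))
    obtain ⟨ℓ₀, hℓx, hℓk⟩ := Submodule.exists_dual_map_eq_bot_of_notMem hxn inferInstance
    let ℓ : Module.Dual k V := (ℓ₀ x)⁻¹ • ℓ₀
    have hℓ1 : ℓ x = 1 := by simp [ℓ, hℓx]
    have hℓ0 : ∀ j, j ≠ i₀ → ∀ z ∈ 𝒱 j, ℓ z = 0 := fun j hj z hz => by
      have : ℓ₀ z ∈ Submodule.map ℓ₀ (⨆ j ≠ i₀, 𝒱 j) :=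
        Submodule.mem_map_of_mem (le_iSup₂ (f := fun j (_ : j ≠ i₀) => 𝒱 j) j hj hz)
      rw [hℓk, Submodule.mem_bot] at this
      simp [ℓ, this]
    have hdeg : ∀ (j : ℤ) (y : V), y ∈ 𝒱 j → ∀ (i : ℤ) (w : W), w ∈ 𝒲 i →
        ℓ (g.symm w) • g y ∈ 𝒲 (i + (j - i₀)) := by
      intro j y hy i w hw
      have := hφ (j - i₀) (ℓ.smulRight y) (fun a z hz => by
        rcases eq_or_ne a i₀ with rfl | ha
        · rw [show a + (j - a) = j by abel]; exact Submodule.smul_mem _ _ hy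
        · rw [LinearMap.smulRight_apply, hℓ0 a ha z hz, zero_smul]; exact zero_mem _) i w hw
      rwa [hconj, LinearMap.smulRight_apply, map_smul] at this
    obtain ⟨m, w, hw, hw0⟩ : ∃ m, ∃ w ∈ 𝒲 m, ℓ (g.symm w) ≠ 0 := by
      by_contra hc
      push_neg at hc
      have : g x ∈ LinearMap.ker (ℓ ∘ₗ (g.symm : W →ₗ[k] V)) :=
        (show (⨆ i, 𝒲 i) ≤ _ from iSup_le hc) (h𝒲.submodule_iSup_eq_top.ge Submodule.mem_top)
      rw [LinearMap.mem_ker, LinearMap.comp_apply, LinearEquiv.coe_coe, g.symm_apply_apply, hℓ1] at this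
      exact one_ne_zero this
    have hgx : g x ∈ 𝒲 m := by
      have := hdeg i₀ x hx m w hw
      rwa [sub_self, add_zero, Submodule.smul_mem_iff _ hw0] at this
    have hle : ∀ j, (𝒱 j).map (g : V →ₗ[k] W) ≤ 𝒲 (j + (m - i₀)) := by
      rintro j _ ⟨y, hy, rfl⟩
      have := hdeg j y hy m (g x) hgx
      rwa [g.symm_apply_apply, hℓ1, one_smul, show m + (j - i₀) = j + (m - i₀) by abel] at this
    have heq : ∀ i, (𝒱 i).map (g : V →ₗ[k] W) = 𝒲 (i + (m - i₀)) := fun i => by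
      refine le_antisymm (hle i) fun z hz => ?_
      have htop : z ∈ (𝒱 i).map (g : V →ₗ[k] W) ⊔ ⨆ j ≠ i, (𝒱 j).map (g : V →ₗ[k] W) := by
        rw [← iSup_split_single (fun j => (𝒱 j).map (g : V →ₗ[k] W)) i, ← Submodule.map_iSup,
          h𝒱.submodule_iSup_eq_top, Submodule.map_top, LinearEquiv.range]
        exact Submodule.mem_top
      obtain ⟨a, ha, b, hb, rfl⟩ := Submodule.mem_sup.1 htop
      have hb1 : b ∈ 𝒲 (i + (m - i₀)) := (Submodule.add_mem_iff_right _ (hle i ha)).1 hz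
      have hb2 : b ∈ ⨆ j ≠ i + (m - i₀), 𝒲 j := (show (⨆ j ≠ i, (𝒱 j).map (g : V →ₗ[k] W)) ≤ _ from
        iSup₂_le fun j hj => (hle j).trans
          (le_iSup₂ (f := fun a (_ : a ≠ i + (m - i₀)) => 𝒲 a) (j + (m - i₀)) (by omega))) hb
      rw [(Submodule.mem_bot k).1 ((h𝒲.submodule_iSupIndep _).le_bot ⟨hb1, hb2⟩), add_zero]
      exact ha
    refine ⟨m - i₀, g, heq, fun f => LinearMap.ext fun w => hconj f w, fun n' g' hmap' hconj' => ?_⟩
    let T : V →ₗ[k] V := (g.symm : W →ₗ[k] V) ∘ₗ (g' : V →ₗ[k] W)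
    have hT : ∀ (f : Module.End k V) v, T (f v) = f (T v) := fun f v => by
      have h := LinearMap.congr_fun (hconj' f) (g' v)
      rw [hconj] at h
      simp only [LinearMap.comp_apply, LinearEquiv.coe_coe, LinearEquiv.symm_apply_apply] at h
      change g.symm (g' (f v)) = f (g.symm (g' v))
      rw [← h, LinearEquiv.symm_apply_apply]
    have hTv : ∀ v, T v = ℓ (T x) • v := fun v => by
      have := hT (ℓ.smulRight v) x
      rwa [LinearMap.smulRight_apply, hℓ1, one_smul, LinearMap.smulRight_apply] at this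
    have hg' : ∀ v, g' v = ℓ (T x) • g v := fun v => by
      rw [← map_smul, ← hTv]; exact (g.apply_symm_apply (g' v)).symm
    have hc : ℓ (T x) ≠ 0 := fun h0 => hx0 (g'.injective (by rw [hg', h0, zero_smul, map_zero]))
    refine ⟨?_, Units.mk0 _ hc, hg'⟩
    by_contra hn
    have h1 : g' x ∈ 𝒲 (i₀ + (m - i₀)) := by
      rw [hg']; exact Submodule.smul_mem _ _ (heq i₀ ▸ Submodule.mem_map_of_mem hx)
    have h2 : g' x ∈ 𝒲 (i₀ + n') := hmap' i₀ ▸ Submodule.mem_map_of_mem hx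
    have h3 := (h𝒲.submodule_iSupIndep (i₀ + (m - i₀))).le_bot
      ⟨h1, le_iSup₂ (f := fun a (_ : a ≠ i₀ + (m - i₀)) => 𝒲 a) (i₀ + n') (by omega) h2⟩
    exact hx0 (g'.injective (by rw [(Submodule.mem_bot k).1 h3, map_zero]))

end Groth.Agent.S13846
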