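import Groth.Statements.S1387
import Groth.Agent.H4Dim.Horizontal
import Groth.Agent.FibDim.Open
import Groth.Agent.FibDim.Semicont
import Groth.Agent.VarDim.IrredFibres
-- import your own Groth.Agent.* helpers here

set_option autoImplicit false
universe u
open FlatMor

namespace Groth.Agent.S1387

set_option linter.style.haveILetI false

open AlgebraicGeometry IsLocalRing in
/-- A point maximal in its fibre is the generic point of a component of the fibre. -/
theorem closure_mem_components {X S : Scheme.{u}} (f : X ⟶ S) (s : S) (z : ↑(f ⁻¹' {s}))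
    (hz : ∀ w : X, w ⤳ z.1 → f w = s → w = z.1) :
    closure {z} ∈ irreducibleComponents ↑(f ⁻¹' {s}) := by
  let h := f.fiberHomeo s
  let z' : ↑(f.fiber s) := h.symm z
  have hmax : ∀ y, y ⤳ z' → y = z' := fun y hy => by
    have h1 : (h y).1 ⤳ z.1 := by
      have := (hy.map h.continuous).map continuous_subtype_val
      simpa [z'] using this
    apply h.injective
    rw [Homeomorph.apply_symm_apply]
    exact Subtype.ext (hz _ h1 (h y).2)
  have hC := Groth.Agent.VarDim.closure_mem_irreducibleComponents hmax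
  refine ⟨isIrreducible_singleton.closure, fun C hC' hle => ?_⟩
  have h2 : h.symm '' C ⊆ closure {z'} := by
    refine hC.2 (hC'.image _ h.symm.continuous.continuousOn) ?_
    rw [show closure {z'} = h.symm '' closure {z} by
      rw [h.symm.image_closure, Set.image_singleton]]
    exact Set.image_mono hle
  intro c hc
  have h3 := h2 (Set.mem_image_of_mem h.symm hc)
  rw [show closure {z'} = h.symm '' closure {z} by
    rw [h.symm.image_closure, Set.image_singleton]] at h3
  obtain ⟨c', hc', he⟩ := h3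
  exact h.symm.injective he ▸ hc'

/-- A transcendence basis of the residue field extension can be chosen among the images of a
subring with dense fractions. -/
theorem exists_residue_basis_image {A B T : Type u} [CommRing A] [CommRing B] [IsLocalRing A]
    [IsLocalRing B] [Algebra A B] [IsLocalHom (algebraMap A B)] [Algebra.EssFiniteType A B]
    [CommRing T] (j : T →+* B)
    (hj : ∀ b : B, ∃ c s : T, IsUnit (j s) ∧ b * j s = j c) (e : ℕ)
    (he : Algebra.trdeg (IsLocalRing.ResidueField A) (IsLocalRing.ResidueField B) = (e : Cardinal.{u})) :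
    ∃ y : Fin e → T, IsTranscendenceBasis (IsLocalRing.ResidueField A)
      (fun i => IsLocalRing.residue B (j (y i))) := by
  classical
  let k := IsLocalRing.ResidueField A
  let K := IsLocalRing.ResidueField B
  let S₀ : Set K := Set.range fun c : T => IsLocalRing.residue B (j c)
  haveI : FaithfulSMul k K := (faithfulSMul_iff_algebraMap_injective k K).2 (algebraMap k K).injective
  haveI : Algebra.IsAlgebraic (Algebra.adjoin k S₀) K := ⟨fun z => by
    obtain ⟨b, rfl⟩ := IsLocalRing.residue_surjective z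
    obtain ⟨c, s, hs, hbc⟩ := hj b
    refine IsAlgebraic.of_mul (mem_nonZeroDivisors_of_ne_zero (hs.map (IsLocalRing.residue B)).ne_zero)
      (isAlgebraic_algebraMap (⟨_, Algebra.subset_adjoin ⟨s, rfl⟩⟩ : Algebra.adjoin k S₀)) ?_
    rw [mul_comm, ← map_mul, hbc]
    exact isAlgebraic_algebraMap (⟨_, Algebra.subset_adjoin ⟨c, rfl⟩⟩ : Algebra.adjoin k S₀)⟩
  obtain ⟨t, ht, hbasis⟩ := exists_isTranscendenceBasis_subset (R := k) S₀
  have hmk : Cardinal.mk t = (e : Cardinal.{u}) := hbasis.cardinalMk_eq_trdeg.trans he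
  have hfin : t.Finite := Cardinal.lt_aleph0_iff_set_finite.1 (hmk ▸ Cardinal.natCast_lt_aleph0)
  haveI := hfin.fintype
  have hcard : Fintype.card t = e := by
    rw [Cardinal.mk_fintype] at hmk
    exact_mod_cast hmk
  let ε : Fin e ≃ t := (finCongr hcard.symm).trans (Fintype.equivFin t).symm
  choose y hy using fun i : Fin e => ht (ε i).2
  refine ⟨y, ?_⟩
  simp only [hy]
  exact hbasis.comp_equiv ε

open IsLocalRing in
/-- The ring core: chains in the closed fibre give elements independent modulo a prime over it. -/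
theorem exists_indepMod_prime {A B R T : Type u} [CommRing A] [CommRing B] [IsLocalRing A] [IsLocalRing B]
    [Algebra A B] [IsLocalHom (algebraMap A B)] [Algebra.EssFiniteType A B]
    [CommRing R] [CommRing T] [Algebra R T] (i : R →+* A) (j : T →+* B)
    (hij : ∀ r, j (algebraMap R T r) = algebraMap A B (i r))
    (hj : ∀ b : B, ∃ c s : T, IsUnit (j s) ∧ b * j s = j c) (p : Ideal R)
    (hp : (maximalIdeal A).comap i = p) :
    ∃ (d e : ℕ) (Q : Ideal T) (t : Fin (d + e) → T),
      ringKrullDim (B ⧸ (maximalIdeal A).map (algebraMap A B)) = d ∧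
      Algebra.trdeg (IsLocalRing.ResidueField A) (IsLocalRing.ResidueField B) = (e : Cardinal.{u}) ∧
      Q.IsPrime ∧ Q.under R = p ∧ FibDim.IndepMod (A := R) t Q := by
  classical
  obtain ⟨d, hd⟩ := H4Dim.exists_dim A B
  haveI := H4Dim.isNoetherianRing_closedFibre A B
  obtain ⟨x₀, hx₀, hrad₀⟩ := H4Dim.exists_sop ((maximalIdeal A).map (algebraMap A B))
    (H4Dim.map_maximalIdeal_le A B) d hd.le
  choose a σ hσ ha using fun i : Fin d => hj (x₀ i)
  have hx : ∀ i, j (a i) ∈ maximalIdeal B := fun i => ha i ▸ Ideal.mul_mem_right _ _ (hx₀ i)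
  have hrad : maximalIdeal B ≤ ((maximalIdeal A).map (algebraMap A B) ⊔
      Ideal.span (Set.range fun i => j (a i))).radical := by
    refine hrad₀.trans (Ideal.radical_mono (sup_le_sup_left (Ideal.span_le.2 ?_) _))
    rintro _ ⟨i, rfl⟩
    obtain ⟨v, hv⟩ := (hσ i).exists_right_inv
    have : x₀ i = j (a i) * v := by rw [← ha i, mul_assoc, hv, mul_one]
    rw [this]
    exact Ideal.mul_mem_right _ _ (Ideal.subset_span ⟨i, rfl⟩)
  obtain ⟨e, -, -, he⟩ := H4Dim.exists_residue_basis A B
  obtain ⟨y, hy⟩ := exists_residue_basis_image j hj e he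
  have hfrac := H4Dim.exists_integral_mul_of_params _ hx hrad _ hy
  obtain ⟨Q, hQp, hQ, hQi⟩ := H4Dim.exists_prime_coeff_mem _ hx _ hy.1 hfrac hd.ge
  let t : Fin d ⊕ Fin e → T := Sum.elim a y
  haveI := hQp
  have hQp' : (Q.comap j).under R = p := by
    ext r
    rw [← hp]
    show j (algebraMap R T r) ∈ Q ↔ i r ∈ maximalIdeal A
    rw [hij]
    refine ⟨fun h => ?_, fun h => hQ (Ideal.mem_map_of_mem _ h)⟩
    by_contra hn
    rw [IsLocalRing.mem_maximalIdeal, mem_nonunits_iff, not_not] at hn
    exact hQp.ne_top (Ideal.eq_top_of_isUnit_mem _ h (hn.map _))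
  refine ⟨d, e, Q.comap j, t ∘ finSumFinEquiv.symm, hd, he, inferInstance, hQp', fun G hG => ?_⟩
  rw [hQp', MvPolynomial.mem_map_C_iff]
  have hcomp : ∀ H : MvPolynomial (Fin (d + e)) R, j (MvPolynomial.aeval (t ∘ finSumFinEquiv.symm) H) =
      MvPolynomial.aeval (Sum.elim (fun i => j (a i)) (fun i => j (y i)))
        (MvPolynomial.map i (MvPolynomial.rename finSumFinEquiv.symm H)) := by
    intro H
    induction H using MvPolynomial.induction_on with
    | C r => simp [hij]
    | add H H' h h' => simp only [map_add, h, h']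
    | mul_X H n h =>
      simp only [map_mul, h, MvPolynomial.rename_X, MvPolynomial.map_X, MvPolynomial.aeval_X,
        Function.comp_apply]
      congr 1
      rcases finSumFinEquiv.symm n with m | m <;> rfl
  intro m
  have h1 := hQi (MvPolynomial.map i (MvPolynomial.rename finSumFinEquiv.symm G)) (by
    rw [← hcomp]; exact hG) (m.mapDomain finSumFinEquiv.symm)
  rw [MvPolynomial.coeff_map, MvPolynomial.coeff_rename_mapDomain _ finSumFinEquiv.symm.injective] at h1
  rw [← hp]
  exact h1

open IsLocalRing in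
/-- Affine version of the main statement, phrased with prime ideals. -/
theorem exists_prime_vertical {R T : Type u} [CommRing R] [CommRing T] [Algebra R T]
    [Algebra.FiniteType R T] (P₀ P : Ideal T) [P₀.IsPrime] [P.IsPrime] (hP₀ : ∀ Q : Ideal T, Q.IsPrime → P₀ ≤ Q)
    (g : T) (hg : g ∈ P)
    (hη : ∀ W : Ideal T, W.IsPrime → g ∈ W → W.under R ≠ P₀.under R)
    (hdim : ∀ (n : ℕ) (Q : Ideal T) (t : Fin n → T), Q.IsPrime → Q.under R = P.under R →
      FibDim.IndepMod (A := R) t Q →
      ∃ (W : Ideal T) (t' : Fin n → T), W.IsPrime ∧ W.under R = P₀.under R ∧ FibDim.IndepMod (A := R) t' W) :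
    ∃ Q : Ideal T, Q.IsPrime ∧ Q ≤ P ∧ g ∈ Q ∧ Q.under R = P.under R ∧
      ∀ Q' : Ideal T, Q'.IsPrime → Q' ≤ Q → Q'.under R = P.under R → Q' = Q := by
  classical
  let R' := R ⧸ P₀.under R
  let T' := T ⧸ P₀
  haveI : IsScalarTower R R' T' := IsScalarTower.of_algebraMap_eq fun r => rfl
  haveI : FaithfulSMul R' T' :=
    (faithfulSMul_iff_algebraMap_injective _ _).2 Ideal.algebraMap_quotient_injective
  haveI : Algebra.FiniteType R' T' := Algebra.FiniteType.of_restrictScalars_finiteType R R' T'
  let P' : Ideal T' := P.map (Ideal.Quotient.mk P₀)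
  haveI : P'.IsPrime := Ideal.map_isPrime_of_surjective Ideal.Quotient.mk_surjective
    (by rw [Ideal.mk_ker]; exact hP₀ P inferInstance)
  have hP' : P'.comap (Ideal.Quotient.mk P₀) = P := by
    rw [Ideal.comap_map_of_surjective _ Ideal.Quotient.mk_surjective, ← RingHom.ker_eq_comap_bot,
      Ideal.mk_ker, sup_eq_left.2 (hP₀ P inferInstance)]
  let p' : Ideal R' := P'.under R'
  haveI : P'.LiesOver p' := ⟨rfl⟩
  let A := Localization.AtPrime p'
  let B := Localization.AtPrime P'
  haveI : IsDomain A := IsLocalization.isDomain_localization p'.primeCompl_le_nonZeroDivisors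
  haveI : IsDomain B := IsLocalization.isDomain_localization P'.primeCompl_le_nonZeroDivisors
  letI : Algebra A B := Localization.AtPrime.algebraOfLiesOver p' P'
  haveI : IsScalarTower R' A B := inferInstance
  haveI : IsLocalHom (algebraMap A B) := inferInstance
  haveI : Algebra.EssFiniteType R' B := by
    haveI : Algebra.EssFiniteType T' B := Algebra.EssFiniteType.of_isLocalization B P'.primeCompl
    exact Algebra.EssFiniteType.comp R' T' B
  haveI : Algebra.EssFiniteType A B := Algebra.EssFiniteType.of_comp R' A B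
  have hinjRA : Function.Injective (algebraMap R' A) :=
    IsLocalization.injective A p'.primeCompl_le_nonZeroDivisors
  have hinjTB : Function.Injective (algebraMap T' B) :=
    IsLocalization.injective B P'.primeCompl_le_nonZeroDivisors
  haveI : FaithfulSMul R' B := by
    rw [faithfulSMul_iff_algebraMap_injective, IsScalarTower.algebraMap_eq R' T' B]
    exact hinjTB.comp (FaithfulSMul.algebraMap_injective R' T')
  haveI : FaithfulSMul R' A := (faithfulSMul_iff_algebraMap_injective _ _).2 hinjRA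
  haveI : FaithfulSMul A B := by
    rw [faithfulSMul_iff_algebraMap_injective, injective_iff_map_eq_zero]
    intro z hz
    obtain ⟨⟨r, s⟩, hr⟩ := IsLocalization.surj p'.primeCompl z
    have h1 : algebraMap A B (algebraMap R' A r) = 0 := by
      rw [← hr, map_mul, hz, zero_mul]
    rw [← IsScalarTower.algebraMap_apply R' A B] at h1
    rw [FaithfulSMul.algebraMap_injective R' B (h1.trans (map_zero _).symm), map_zero] at hr
    exact (IsLocalization.map_units A s).mul_left_eq_zero.1 hr
  let i : R →+* A := (algebraMap R' A).comp (Ideal.Quotient.mk _)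
  let j : T →+* B := (algebraMap T' B).comp (Ideal.Quotient.mk P₀)
  have hij : ∀ r, j (algebraMap R T r) = algebraMap A B (i r) := fun r => by
    show algebraMap T' B (algebraMap R' T' (Ideal.Quotient.mk _ r)) = algebraMap A B (algebraMap R' A _)
    rw [← IsScalarTower.algebraMap_apply R' T' B, ← IsScalarTower.algebraMap_apply R' A B]
    rfl
  have hj : ∀ b : B, ∃ c s : T, IsUnit (j s) ∧ b * j s = j c := fun b => by
    obtain ⟨⟨c, s⟩, hcs⟩ := IsLocalization.surj P'.primeCompl b
    obtain ⟨c, rfl⟩ := Ideal.Quotient.mk_surjective c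
    obtain ⟨s', hs'⟩ := Ideal.Quotient.mk_surjective (s : T')
    have : j s' = algebraMap T' B s := congrArg (algebraMap T' B) hs'
    exact ⟨c, s', this ▸ IsLocalization.map_units B s, this ▸ hcs⟩
  have hp : (maximalIdeal A).comap i = P.under R := by
    rw [← Ideal.comap_comap, show (maximalIdeal A).comap (algebraMap R' A) = p' from
      IsLocalization.AtPrime.under_maximalIdeal A p']
    ext r
    show algebraMap R' T' (Ideal.Quotient.mk _ r) ∈ P' ↔ algebraMap R T r ∈ P
    rw [← hP']
    rfl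
  have hmB : (maximalIdeal B).comap j = P := by
    rw [← Ideal.comap_comap, show (maximalIdeal B).comap (algebraMap T' B) = P' from
      IsLocalization.AtPrime.under_maximalIdeal B P', hP']
  by_contra hne
  push Not at hne
  obtain ⟨d, e, Q₁, t₁, hd, he, hQ₁, hQ₁R, ht₁⟩ := exists_indepMod_prime i j hij hj _ hp
  obtain ⟨W, t', hW, hWR, ht'⟩ := hdim _ Q₁ t₁ hQ₁ hQ₁R ht₁
  have hsum : ((d + e : ℕ) : Cardinal.{u}) ≤ Algebra.trdeg A B := by
    have hind : AlgebraicIndependent R' (fun n => j (t' n)) := by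
      rw [algebraicIndependent_iff]
      intro G hG
      obtain ⟨G, rfl⟩ := MvPolynomial.map_surjective (Ideal.Quotient.mk (P₀.under R) : R →+* R')
        (Ideal.Quotient.mk_surjective (I := P₀.under R)) G
      have h1 : MvPolynomial.aeval (fun n => j (t' n)) (MvPolynomial.map (Ideal.Quotient.mk (P₀.under R) : R →+* R') G) =
          j (MvPolynomial.aeval t' G) := by
        clear hG
        induction G using MvPolynomial.induction_on with
        | C r =>
          simp only [MvPolynomial.map_C, MvPolynomial.aeval_C]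
          rw [hij, IsScalarTower.algebraMap_apply R' A B]
          rfl
        | add G G' h h' => simp only [map_add, h, h']
        | mul_X G n h => simp only [map_mul, h, MvPolynomial.map_X, MvPolynomial.aeval_X]
      rw [h1] at hG
      have h2 : MvPolynomial.aeval t' G ∈ W := hP₀ W hW
        (Ideal.Quotient.eq_zero_iff_mem.1 (hinjTB (hG.trans (map_zero _).symm)))
      have h3 := MvPolynomial.mem_map_C_iff.1 (ht' G h2)
      ext m
      rw [MvPolynomial.coeff_map, MvPolynomial.coeff_zero, Ideal.Quotient.eq_zero_iff_mem, ← hWR]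
      exact h3 m
    have h1 := hind.lift_cardinalMk_le_trdeg
    haveI : Algebra.IsAlgebraic R' A :=
      IsLocalization.isAlgebraic A p'.primeCompl
    have h2 := trdeg_add_eq R' A (A := B)
    rw [trdeg_eq_zero (R := R') (A := A), zero_add] at h2
    rw [h2]
    simpa using h1
  have hmin : ∀ q ∈ ((maximalIdeal A).map (algebraMap A B)).minimalPrimes, j g ∉ q := by
    intro q hq hgq
    haveI := hq.1.1
    have hqm : q ≤ maximalIdeal B := IsLocalRing.le_maximalIdeal hq.1.1.ne_top
    have hQP : q.comap j ≤ P := hmB ▸ Ideal.comap_mono hqm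
    have hover : ∀ q' : Ideal B, q'.IsPrime → (maximalIdeal A).map (algebraMap A B) ≤ q' →
        (q'.comap j).under R = P.under R := by
      intro q' hq' hle
      refine le_antisymm (Ideal.comap_mono (hmB ▸ Ideal.comap_mono (IsLocalRing.le_maximalIdeal hq'.ne_top))) ?_
      intro r hr
      show j (algebraMap R T r) ∈ q'
      rw [hij]
      rw [← hp] at hr
      exact hle (Ideal.mem_map_of_mem _ hr)
    obtain ⟨Q', hQ'p, hQ'le, hQ'R, hQ'ne⟩ :=
      hne _ (Ideal.IsPrime.comap j) hQP hgq (hover q inferInstance hq.1.2)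
    refine hQ'ne (le_antisymm hQ'le fun z hz => ?_)
    haveI := hQ'p
    let Q'' : Ideal T' := Q'.map (Ideal.Quotient.mk P₀)
    haveI : Q''.IsPrime := Ideal.map_isPrime_of_surjective Ideal.Quotient.mk_surjective
      (by rw [Ideal.mk_ker]; exact hP₀ Q' hQ'p)
    have hQ'' : Q''.comap (Ideal.Quotient.mk P₀) = Q' := by
      rw [Ideal.comap_map_of_surjective _ Ideal.Quotient.mk_surjective, ← RingHom.ker_eq_comap_bot,
        Ideal.mk_ker, sup_eq_left.2 (hP₀ Q' hQ'p)]
    have hdisj : Disjoint (P'.primeCompl : Set T') Q'' := by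
      rw [Set.disjoint_left]
      intro w hw hw'
      obtain ⟨w, rfl⟩ := Ideal.Quotient.mk_surjective w
      have h1 : w ∈ Q' := by rw [← hQ'']; exact hw'
      exact hw (Ideal.mem_map_of_mem _ (hQP (hQ'le h1)))
    obtain ⟨hq'p, hq'c⟩ : (Q''.map (algebraMap T' B)).IsPrime ∧
        (Q''.map (algebraMap T' B)).comap (algebraMap T' B) = Q'' :=
      ⟨IsLocalization.isPrime_of_isPrime_disjoint P'.primeCompl B Q'' inferInstance hdisj,
        IsLocalization.comap_map_of_isPrime_disjoint P'.primeCompl B ‹_› hdisj⟩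
    have hq'j : (Q''.map (algebraMap T' B)).comap j = Q' := by
      rw [← Ideal.comap_comap, hq'c, hQ'']
    have hmq : (maximalIdeal A).map (algebraMap A B) ≤ Q''.map (algebraMap T' B) := by
      rw [Ideal.map_le_iff_le_comap]
      intro z hz
      obtain ⟨⟨r, s⟩, hr⟩ := IsLocalization.surj p'.primeCompl z
      obtain ⟨r, rfl⟩ := Ideal.Quotient.mk_surjective r
      have h1 : i r ∈ maximalIdeal A := by
        have h0 : z * algebraMap R' A s ∈ maximalIdeal A := Ideal.mul_mem_right _ _ hz
        rw [hr] at h0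
        exact h0
      have h2 : algebraMap R T r ∈ Q' := by
        have : r ∈ P.under R := hp ▸ h1
        rwa [← hQ'R] at this
      rw [← hq'j, Ideal.mem_comap, hij] at h2
      have h3 : algebraMap A B z * algebraMap A B (algebraMap R' A s) ∈ Q''.map (algebraMap T' B) := by
        rw [← map_mul, hr]
        exact h2
      exact (hq'p.mem_or_mem h3).resolve_right fun h =>
        hq'p.ne_top (Ideal.eq_top_of_isUnit_mem _ h ((IsLocalization.map_units A s).map _))
    have hle : Q''.map (algebraMap T' B) ≤ q := by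
      rw [Ideal.map_le_iff_le_comap]
      intro w hw
      obtain ⟨w, rfl⟩ := Ideal.Quotient.mk_surjective w
      exact hQ'le (by rw [← hQ'']; exact hw)
    rw [← hq'j]
    exact hq.2 ⟨hq'p, hmq⟩ hle hz
  have hgm : j g ∈ maximalIdeal B := by
    rw [← hmB] at hg
    exact hg
  have hinj := H4Dim.injective_quotient (j g) hgm hmin d e hd.le he hsum
  obtain ⟨w, hw, hgw, hdisj⟩ := Ideal.exists_le_prime_disjoint (Ideal.span {j g})
    ((nonZeroDivisors A).map (algebraMap A B)) (by
      rw [Set.disjoint_left]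
      rintro _ h ⟨a, ha, rfl⟩
      exact nonZeroDivisors.ne_zero ha (hinj (by
        rw [map_zero, IsScalarTower.algebraMap_apply A B (B ⧸ Ideal.span {j g}),
          Ideal.Quotient.algebraMap_eq]
        exact Ideal.Quotient.eq_zero_iff_mem.2 h)))
  refine hη (w.comap j) (Ideal.IsPrime.comap j) (hgw (Ideal.mem_span_singleton_self _)) (le_antisymm ?_ ?_)
  · intro r hr
    have hr' : algebraMap A B (i r) ∈ w := by rw [← hij]; exact hr
    by_contra hn
    refine Set.disjoint_left.1 hdisj hr' ⟨i r, mem_nonZeroDivisors_of_ne_zero fun h => hn ?_, rfl⟩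
    exact Ideal.Quotient.eq_zero_iff_mem.1 (hinjRA (h.trans (map_zero _).symm))
  · exact Ideal.comap_mono (hP₀ _ (Ideal.IsPrime.comap j))


open AlgebraicGeometry CategoryTheory Limits in
/-- Let f : X → S be dominant and locally of finite type with X and S irreducible, let η be the generic
point of S and s a point with dim X_s ≤ dim X_η, and let Z be a locally principal closed subscheme
of X (its ideal sheaf is generated by one section on an affine neighbourhood of each point) whose
generic fibre is empty. Then, set-theoretically, the fibre of Z over s is a union of irreducible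
components of the fibre of X over s. -/
theorem result {X S : Scheme.{u}} (f : X ⟶ S) [IrreducibleSpace ↑S] [IrreducibleSpace ↑X] [IsDominant f] [LocallyOfFiniteType f]
    (s : S) (hdim : topologicalKrullDim ↑(f.fiber s) ≤ topologicalKrullDim ↑(f.fiber (genericPoint ↑S)))
    (Z : X.IdealSheafData) (hZ : ∀ x : X, ∃ (U : X.Opens) (hU : IsAffineOpen U) (g : Γ(X, U)), x ∈ U ∧ Z.ideal ⟨U, hU⟩ = Ideal.span {g})
    (hη : ∀ x ∈ (Z.support : Set ↑X), f x ≠ genericPoint ↑S) :
    ∀ x : ↑(f ⁻¹' {s}), (x : ↑X) ∈ (Z.support : Set ↑X) →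
      ∃ C ∈ irreducibleComponents ↑(f ⁻¹' {s}), x ∈ C ∧ Subtype.val '' C ⊆ (Z.support : Set ↑X) := by
  intro x hx
  classical
  obtain ⟨U₀, hU₀, g₀, hxU₀, hI⟩ := hZ x.1
  obtain ⟨V, hV, hxV, -⟩ := exists_isAffineOpen_mem_and_subset (x := f x.1) (U := ⊤) trivial
  obtain ⟨r₀, hr₀, hxr₀⟩ := hU₀.exists_basicOpen_le (V := f ⁻¹ᵁ V) ⟨x.1, hxV⟩ hxU₀
  let U : X.Opens := X.basicOpen r₀
  have hU : IsAffineOpen U := hU₀.basicOpen r₀
  let g : Γ(X, U) := X.presheaf.map (homOfLE (X.basicOpen_le r₀)).op g₀
  have hIU : Z.ideal ⟨U, hU⟩ = Ideal.span {g} := by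
    refine (Z.map_ideal_basicOpen ⟨U₀, hU₀⟩ r₀).symm.trans ?_
    rw [hI, Ideal.map_span, Set.image_singleton]
  have hUV : U ≤ f ⁻¹ᵁ V := hr₀
  letI : Algebra Γ(S, V) Γ(X, U) := (f.appLE V U hUV).hom.toAlgebra
  haveI : Algebra.FiniteType Γ(S, V) Γ(X, U) := f.finiteType_appLE hV hU hUV
  have hcomm := FibDim.fromSpec_comm f hV hU hUV
  have hinj : Function.Injective hU.fromSpec := hU.fromSpec.isOpenEmbedding.injective
  have hinjV : Function.Injective hV.fromSpec := hV.fromSpec.isOpenEmbedding.injective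
  have hzero : ∀ M : PrimeSpectrum Γ(X, U), hU.fromSpec M ∈ (Z.support : Set ↑X) ↔ g ∈ M.asIdeal := by
    intro M
    have h1 := Set.ext_iff.1 (Z.coe_support_inter ⟨U, hU⟩) (hU.fromSpec M)
    have h2 : hU.fromSpec M ∈ U := VarDim.fromSpec_mem hU M
    rw [Set.mem_inter_iff, Set.mem_inter_iff] at h1
    simp only [SetLike.mem_coe, h2, and_true] at h1
    rw [SetLike.mem_coe, h1, hIU, X.zeroLocus_span, X.zeroLocus_singleton]
    simp only [Set.mem_compl_iff, SetLike.mem_coe]
    have h3 : hU.fromSpec M ∈ X.basicOpen g ↔ g ∉ M.asIdeal := by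
      have : hU.fromSpec M ∈ X.basicOpen g ↔ M ∈ (hU.fromSpec ⁻¹ᵁ X.basicOpen g) := Iff.rfl
      rw [this, hU.fromSpec_preimage_basicOpen]
      exact Iff.rfl
    rw [h3, not_not]
  obtain ⟨P, hP⟩ := VarDim.exists_fromSpec_eq hU hxr₀
  have hgen : genericPoint ↑X ∈ U :=
    ((genericPoint_spec ↑X).mem_open_set_iff U.isOpen).2 ⟨x.1, trivial, hxr₀⟩
  obtain ⟨P₀, hP₀⟩ := VarDim.exists_fromSpec_eq hU hgen
  have hle : ∀ Q : Ideal Γ(X, U), Q.IsPrime → P₀.asIdeal ≤ Q := fun Q hQ =>
    (VarDim.fromSpec_specializes_iff hU P₀ ⟨Q, hQ⟩).1 (hP₀ ▸ genericPoint_specializes _)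
  have hη₀ : f (genericPoint ↑X) = genericPoint ↑S := by
    refine ((genericPoint_spec ↑X).image f.continuous).eq ?_
    rw [Set.image_univ, f.denseRange.closure_range]
    exact genericPoint_spec ↑S
  have hfη : ∀ W : PrimeSpectrum Γ(X, U), f (hU.fromSpec W) = genericPoint ↑S ↔
      W.asIdeal.under Γ(S, V) = P₀.asIdeal.under Γ(S, V) := fun W => by
    rw [← hη₀, ← hP₀, hcomm, hcomm, hinjV.eq_iff]
    exact ⟨fun h => congrArg PrimeSpectrum.asIdeal h, fun h => PrimeSpectrum.ext h⟩
  have hfs : ∀ W : PrimeSpectrum Γ(X, U), f (hU.fromSpec W) = s ↔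
      W.asIdeal.under Γ(S, V) = P.asIdeal.under Γ(S, V) := fun W => by
    rw [← show f (hU.fromSpec P) = s from hP ▸ x.2, hcomm, hcomm, hinjV.eq_iff]
    exact ⟨fun h => congrArg PrimeSpectrum.asIdeal h, fun h => PrimeSpectrum.ext h⟩
  obtain ⟨Q, hQp, hQP, hgQ, hQs, hmax⟩ := exists_prime_vertical (R := Γ(S, V)) P₀.asIdeal P.asIdeal
    hle g ((hzero P).1 (hP ▸ hx))
    (fun W hW hgW hWR => hη _ ((hzero ⟨W, hW⟩).2 hgW) ((hfη ⟨W, hW⟩).2 hWR)) (by
      intro n Q t hQ hQR ht
      have h1 : n ≤ FibDim.rd f (hU.fromSpec ⟨Q, hQ⟩) :=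
        (FibDim.le_rd_iff f hV hU hUV _ n).2 ⟨t, ht⟩
      have h2 : (n : WithBot ℕ∞) ≤ topologicalKrullDim ↑(f.fiber (genericPoint ↑S)) :=
        ((FibDim.le_topologicalKrullDim_fiber_iff f s n).2 ⟨_, (hfs ⟨Q, hQ⟩).2 hQR, h1⟩).trans hdim
      obtain ⟨w, hw, hnw⟩ := (FibDim.le_topologicalKrullDim_fiber_iff f _ n).1 h2
      have hgw : genericPoint ↑X ⤳ w := genericPoint_specializes w
      have h3 : n ≤ FibDim.rd f (genericPoint ↑X) :=
        hnw.trans (FibDim.rd_le_of_specializes f hgw (hη₀.trans hw.symm))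
      rw [← hP₀, FibDim.le_rd_iff f hV hU hUV] at h3
      obtain ⟨t', ht'⟩ := h3
      exact ⟨P₀.asIdeal, t', P₀.2, rfl, ht'⟩)
  let z : ↑(f ⁻¹' {s}) := ⟨hU.fromSpec ⟨Q, hQp⟩, (hfs ⟨Q, hQp⟩).2 hQs⟩
  refine ⟨closure {z}, closure_mem_components f s z ?_, ?_, ?_⟩
  · intro w hw hws
    obtain ⟨Q', rfl⟩ := VarDim.exists_fromSpec_eq hU (hw.mem_open U.isOpen (VarDim.fromSpec_mem hU _))
    rw [show Q' = ⟨Q, hQp⟩ from PrimeSpectrum.ext (hmax _ Q'.2
      ((VarDim.fromSpec_specializes_iff hU Q' ⟨Q, hQp⟩).1 hw) ((hfs Q').1 hws))]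
  · refine specializes_iff_mem_closure.1 ((subtype_specializes_iff _ _).2 ?_)
    rw [show (x : ↑X) = hU.fromSpec P from hP.symm]
    exact (VarDim.fromSpec_specializes_iff hU ⟨Q, hQp⟩ P).2 hQP
  · refine (Set.image_mono (closure_minimal (Set.singleton_subset_iff.2 ?_)
      (Z.support.isClosed.preimage continuous_subtype_val))).trans (Set.image_preimage_subset _ _)
    exact (hzero ⟨Q, hQp⟩).2 hgQ

end Groth.Agent.S1387
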