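import Groth.Statements.S13907
import Groth.Agent.S18372
import Groth.Agent.PnCoh.Chow.Proper
import Groth.Agent.Lib.AmpleEmbed
-- import your own Groth.Agent.* helpers here

set_option autoImplicit false
universe u
open ProjGeom

open AlgebraicGeometry

namespace Groth.Agent.S13907

/-- Over an algebraically closed field k, let C be a nonempty irreducible closed subset of the
underlying space of projective n-space with homogeneous coordinates x_0, …, x_n, and for i ≤ n let
L_i be the linear subspace where x_1, …, x_i vanish. Then there is an index i ≤ n with C ∩ L_i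
nonempty and of topological Krull dimension zero. -/
theorem result (k : Type u) [Field k]
    [IsAlgClosed k] (n : ℕ) (C : Set (ProjectiveSpectrum (CohB1.polyGrading n k)))
    (hC : IsClosed C) (hirr : IsIrreducible C) :
    ∃ i : ℕ, i ≤ n ∧
      (C ∩ ProjectiveSpectrum.zeroLocus (CohB1.polyGrading n k)
          ((fun j : Fin (n + 1) => (MvPolynomial.X j : MvPolynomial (Fin (n + 1)) k)) ''
            {j : Fin (n + 1) | 1 ≤ j.val ∧ j.val ≤ i})).Nonempty ∧
      topologicalKrullDim ↥(C ∩ ProjectiveSpectrum.zeroLocus (CohB1.polyGrading n k)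
          ((fun j : Fin (n + 1) => (MvPolynomial.X j : MvPolynomial (Fin (n + 1)) k)) ''
            {j : Fin (n + 1) | 1 ≤ j.val ∧ j.val ≤ i})) = 0 := by
  let x : Fin (n + 1) → MvPolynomial (Fin (n + 1)) k := fun j => MvPolynomial.X j
  let T : ℕ → Set (ProjectiveSpectrum (CohB1.polyGrading n k)) := fun i => C ∩ ProjectiveSpectrum.zeroLocus
    (CohB1.polyGrading n k) (x '' {j : Fin (n + 1) | 1 ≤ j.val ∧ j.val ≤ i})
  classical
  have h0 : (T 0).Nonempty := by
    obtain ⟨c, hc⟩ := hirr.nonempty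
    refine ⟨c, hc, ?_⟩
    rw [ProjectiveSpectrum.mem_zeroLocus]
    rintro _ ⟨j, ⟨h1, h2⟩, rfl⟩
    omega
  let i := Nat.findGreatest (fun i => (T i).Nonempty) n
  have hin : i ≤ n := Nat.findGreatest_le n
  have hi : (T i).Nonempty := Nat.findGreatest_spec (P := fun i => (T i).Nonempty) (Nat.zero_le n) h0
  have hTc : IsClosed (T i) := hC.inter (ProjectiveSpectrum.isClosed_zeroLocus _ _)
  have hsub : ∃ j : Fin (n + 1), T i ⊆ (Proj.basicOpen (CohB1.polyGrading n k) (x j) : Set (Proj (CohB1.polyGrading n k))) := by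
    by_cases h : i < n
    · refine ⟨⟨i + 1, by omega⟩, fun p hp hmem => ?_⟩
      refine Nat.findGreatest_is_greatest (P := fun i => (T i).Nonempty) (Nat.lt_succ_self i) h ⟨p, hp.1, ?_⟩
      rw [ProjectiveSpectrum.mem_zeroLocus]
      rintro _ ⟨j, ⟨h1, h2⟩, rfl⟩
      rcases Nat.lt_or_ge j.val (i + 1) with hlt | hge
      · exact hp.2 ⟨j, ⟨h1, by omega⟩, rfl⟩
      · have hj : j = ⟨i + 1, by omega⟩ := Fin.ext (by show j.val = i + 1; omega)
        rw [hj]
        exact hmem
    · refine ⟨0, fun p hp => ?_⟩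
      have htop := Groth.Agent.AmpleEmbed.iSup_basicOpen_X n k
      have hp' : (p : Proj (CohB1.polyGrading n k)) ∈ (⊤ : (Proj (CohB1.polyGrading n k)).Opens) := trivial
      rw [← htop] at hp'
      obtain ⟨j, hj⟩ := TopologicalSpace.Opens.mem_iSup.mp hp'
      by_cases hj0 : j = 0
      · subst hj0
        exact hj
      · refine absurd (hp.2 ⟨j, ⟨?_, by omega⟩, rfl⟩) hj
        exact Nat.one_le_iff_ne_zero.mpr fun h' => hj0 (Fin.ext h')
  obtain ⟨j, hj⟩ := hsub
  haveI : IsProper (CohB1.ProjSpace.toSpec n k) := Groth.Agent.PnCoh.Chow.isProper_toSpec n k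
  have haff : IsAffineOpen (Proj.basicOpen (CohB1.polyGrading n k) (x j)) :=
    Proj.isAffineOpen_basicOpen _ _ (MvPolynomial.isHomogeneous_X k j) one_pos
  have hfin : (T i).Finite :=
    Groth.Agent.S18372.finite_of_closed_affine (X := CohB1.ProjSpace n k) (CohB1.ProjSpace.toSpec n k) haff hTc hj
  refine ⟨i, hin, hi, ?_⟩
  haveI : JacobsonSpace ↥(CohB1.ProjSpace n k) := LocallyOfFiniteType.jacobsonSpace (CohB1.ProjSpace.toSpec n k)
  have hpts : ∀ p ∈ T i, IsClosed ({p} : Set ↥(CohB1.ProjSpace n k)) := fun p hp => by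
    have h1 : IsClosed (closure ({p} : Set ↥(CohB1.ProjSpace n k)) ∩ closedPoints ↥(CohB1.ProjSpace n k)) := by
      have hf : (closure ({p} : Set ↥(CohB1.ProjSpace n k)) ∩ closedPoints ↥(CohB1.ProjSpace n k)).Finite :=
        hfin.subset fun q hq => (show closure ({p} : Set ↥(CohB1.ProjSpace n k)) ⊆ T i from
          closure_minimal (Set.singleton_subset_iff.mpr hp) hTc) hq.1
      rw [← Set.biUnion_of_singleton (closure ({p} : Set ↥(CohB1.ProjSpace n k)) ∩ closedPoints ↥(CohB1.ProjSpace n k))]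
      exact hf.isClosed_biUnion fun q hq => hq.2
    have h2 := closure_inter_closedPoints (isClosed_closure (s := ({p} : Set ↥(CohB1.ProjSpace n k))))
    rw [h1.closure_eq] at h2
    exact (h2.symm ▸ subset_closure (s := ({p} : Set ↥(CohB1.ProjSpace n k))) rfl : p ∈ _ ∩ closedPoints _).2
  show topologicalKrullDim ↥(T i) = 0
  haveI : T1Space ↥(T i) := ⟨fun q => by
    have : ({q} : Set ↥(T i)) = Subtype.val ⁻¹' ({q.1} : Set ↥(CohB1.ProjSpace n k)) := Set.ext fun y => Subtype.ext_iff
    rw [this]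
    exact (hpts q.1 q.2).preimage continuous_subtype_val⟩
  haveI : Finite ↥(T i) := hfin.to_subtype
  haveI : DiscreteTopology ↥(T i) := inferInstance
  refine le_antisymm ?_ ?_
  · refine (Order.krullDim_nonpos_iff_forall_isMin).mpr fun Z W hW => ?_
    obtain ⟨a, ha⟩ := Z.isIrreducible'.nonempty
    obtain ⟨b, hb⟩ := W.isIrreducible'.nonempty
    intro c hc
    by_contra hcW
    obtain ⟨z, -, hz, hz'⟩ := Z.isIrreducible'.isPreirreducible {b} {c} (isOpen_discrete _) (isOpen_discrete _)
      ⟨b, hW hb, rfl⟩ ⟨c, hc, rfl⟩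
    exact hcW ((hz'.symm.trans hz : c = b) ▸ hb)
  · haveI : Nonempty (TopologicalSpace.IrreducibleCloseds ↥(T i)) :=
      ⟨⟨{⟨hi.choose, hi.choose_spec⟩}, isIrreducible_singleton, isClosed_discrete _⟩⟩
    exact Order.krullDim_nonneg

end Groth.Agent.S13907
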