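import Groth.Statements.S13911
import Groth.Agent.Conic.Basic

set_option autoImplicit false
universe u
open PlaneConic

namespace Groth.Agent.S13911

/-- For an algebraically closed field k of characteristic zero, a nonzero symmetric 3 × 3 matrix Q over
k and the ternary quadratic form f = Σ Q_ij X_i X_j in k[X_0, X_1, X_2] (the equation of a plane
conic): (1) f is irreducible iff det Q ≠ 0; (2) the conic has a singular point, that is a nonzero
vector at which all partial derivatives of f vanish, iff det Q = 0 (so smooth conics are exactly the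
irreducible ones); (3) f is the product of two linearly independent linear forms (two distinct
lines) iff rank Q = 2; (4) f is the square of a linear form (a double line) iff rank Q = 1. -/
theorem result (k : Type u) [Field k] [IsAlgClosed k] [CharZero k]
    (Q : Matrix (Fin 3) (Fin 3) k) (hQ : Q.IsSymm) (hQ0 : Q ≠ 0) (f : MvPolynomial (Fin 3) k)
    (hf : f = ∑ i : Fin 3, ∑ j : Fin 3, Q i j • (MvPolynomial.X i * MvPolynomial.X j)) :
    (Irreducible f ↔ Q.det ≠ 0) ∧
    ((∃ u : Fin 3 → k, u ≠ 0 ∧ ∀ i : Fin 3, MvPolynomial.eval u (MvPolynomial.pderiv i f) = 0) ↔ Q.det = 0) ∧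
    ((∃ a b : Fin 3 → k, LinearIndependent k ![a, b] ∧
        f = (∑ i : Fin 3, a i • MvPolynomial.X i) * (∑ i : Fin 3, b i • MvPolynomial.X i)) ↔ Q.rank = 2) ∧
    ((∃ a : Fin 3 → k, f = (∑ i : Fin 3, a i • MvPolynomial.X i) ^ 2) ↔ Q.rank = 1) := by
  have hf' : f = Conic.quad Q := hf
  subst hf'
  refine ⟨⟨Conic.det_ne_zero_of_irreducible hQ, fun hdet => ?_⟩, ?_, ?_, ?_⟩
  · have hne : Conic.quad Q ≠ 0 := by
      intro h0
      exact hdet (Conic.det_eq_zero_of_eq hQ (a := 0) (b := 0) (by rw [h0]; simp [Conic.lin]))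
    refine ⟨fun hu => ?_, fun g h he => ?_⟩
    · obtain ⟨c, hc, hcf⟩ := MvPolynomial.isUnit_iff_eq_C_of_isReduced.1 hu
      have h2 := (Conic.quad_isHomogeneous Q).totalDegree hne
      rw [hcf, MvPolynomial.totalDegree_C] at h2
      exact absurd h2 (by norm_num)
    · by_contra hgh
      push Not at hgh
      obtain ⟨a, b, hab⟩ := Conic.lin_factors (Conic.quad_isHomogeneous Q) hne he hgh.1 hgh.2
      exact hdet (Conic.det_eq_zero_of_eq hQ hab)
  · rw [← Matrix.exists_mulVec_eq_zero_iff]
    refine exists_congr fun w => and_congr_right fun _ => ?_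
    simp only [Conic.eval_pderiv_quad hQ, mul_eq_zero, Conic.two_ne, false_or, funext_iff, Pi.zero_apply]
  · exact ⟨fun ⟨a, b, hab, h⟩ => Conic.rank_eq_two_of_eq hQ hab h, fun h => Conic.exists_of_rank_two hQ h⟩
  · constructor
    · rintro ⟨a, ha⟩
      exact Conic.rank_eq_one_of_eq hQ hQ0 (ha.trans (pow_two _))
    · intro h
      obtain ⟨a, ha⟩ := Conic.exists_of_rank_one hQ h
      exact ⟨a, ha.trans (pow_two _).symm⟩

end Groth.Agent.S13911
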