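import Groth.Statements.S13912
import Groth.Agent.Conic.Det

set_option autoImplicit false
universe u
open PlaneConic MvPolynomial Matrix Groth.Agent

namespace Groth.Agent.S13912

/-- Over an algebraically closed field k of characteristic zero, for a 2 × 2 matrix M of linear forms in
k[X_0, X_1, X_2] (entries homogeneous of degree 1, zero allowed), det M is a product of two linear
forms if and only if M can be brought by invertible scalar row and column operations g M h, with g,
h in GL_2(k), to a matrix with zero upper-right entry. (The published statement concerns matrices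
with nonzero determinant; this row also allows determinant zero, where both sides hold.) -/
theorem result (k : Type u) [Field k] [IsAlgClosed k] [CharZero k]
    (M : Matrix (Fin 2) (Fin 2) (MvPolynomial (Fin 3) k)) (hM : ∀ a b : Fin 2, (M a b).IsHomogeneous 1) :
    (∃ l₁ l₂ : MvPolynomial (Fin 3) k, l₁.IsHomogeneous 1 ∧ l₂.IsHomogeneous 1 ∧ M.det = l₁ * l₂) ↔
    ∃ g h : GL (Fin 2) k,
      ((MvPolynomial.C : k →+* MvPolynomial (Fin 3) k).mapMatrix g.val * M *
        (MvPolynomial.C : k →+* MvPolynomial (Fin 3) k).mapMatrix h.val) 0 1 = 0 := by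
  constructor
  · rintro ⟨l₁, l₂, hl₁, hl₂, hdet⟩
    choose m hm using fun i j => Conic.exists_lin (hM i j)
    obtain ⟨a₁, rfl⟩ := Conic.exists_lin hl₁
    obtain ⟨a₂, rfl⟩ := Conic.exists_lin hl₂
    obtain ⟨a, b, ha, hab⟩ : ∃ a b, a ≠ 0 ∧ M.det = Conic.lin a * Conic.lin b := by
      by_cases h : a₁ = 0
      · refine ⟨Pi.single 0 1, 0, fun e => one_ne_zero (α := k) (by simpa using congrFun e 0), ?_⟩
        rw [hdet, h]; simp [Conic.lin]
      · exact ⟨a₁, a₂, h, hdet⟩
    obtain ⟨r, c, hr, hc, hsum⟩ := Conic.exists_pair_zero ha m (fun w hw => by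
      have := congrArg (eval w) hab
      rw [map_mul, Conic.eval_lin, hw, zero_mul, RingHom.map_det] at this
      rw [← this]
      congr 1
      ext i j
      simp [hm, Conic.eval_lin])
    obtain ⟨g, hg⟩ := Conic.exists_gl_row hr
    obtain ⟨h, hh⟩ := Conic.exists_gl_col hc
    refine ⟨g, h, ?_⟩
    have := congrArg Conic.lin hsum
    simp only [Fin.sum_univ_two, Conic.lin_add, Conic.lin_smul, map_mul] at this
    rw [show Conic.lin (0 : Fin 3 → k) = 0 from (Conic.lin_eq_zero_iff _).2 rfl] at this
    simp only [Matrix.mul_apply, RingHom.mapMatrix_apply, Matrix.map_apply, Fin.sum_univ_two, hh, hm, hg]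
    linear_combination this
  · rintro ⟨g, h, h01⟩
    set N := (C : k →+* MvPolynomial (Fin 3) k).mapMatrix g.val * M *
      (C : k →+* MvPolynomial (Fin 3) k).mapMatrix h.val with hN
    have hlin : ∀ i j, (N i j).IsHomogeneous 1 := fun i j => by
      simp only [hN, Matrix.mul_apply, RingHom.mapMatrix_apply, Matrix.map_apply]
      refine IsHomogeneous.sum _ _ _ fun y _ => ?_
      rw [mul_comm]
      refine IsHomogeneous.C_mul (IsHomogeneous.sum _ _ _ fun x _ => IsHomogeneous.C_mul (hM x y) _) _
    have hdet : N.det = C g.val.det * C h.val.det * M.det := by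
      rw [hN, det_mul, det_mul, ← RingHom.map_det, ← RingHom.map_det]; ring
    refine ⟨C ((g.val.det * h.val.det)⁻¹) * N 0 0, N 1 1, (hlin 0 0).C_mul _, hlin 1 1, ?_⟩
    have hne : g.val.det * h.val.det ≠ 0 := by
      refine mul_ne_zero ?_ ?_
      · exact ((Matrix.isUnit_iff_isUnit_det _).1 g.isUnit).ne_zero
      · exact ((Matrix.isUnit_iff_isUnit_det _).1 h.isUnit).ne_zero
    rw [mul_assoc, show N 0 0 * N 1 1 = N.det by rw [det_fin_two, h01, zero_mul, sub_zero], hdet,
      ← C_mul, ← mul_assoc, ← C_mul, inv_mul_cancel₀ hne, C_1, one_mul]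

end Groth.Agent.S13912
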