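import Groth.Statements.S13934
-- import your own Groth.Agent.* helpers here
import Groth.Agent.Lib.InvEnd
import Groth.Agent.CurveCohLib.Stable

set_option autoImplicit false
universe u
open CategoryTheory CategoryTheory.Limits AlgebraicGeometry
open W4c1limliniiii

namespace Groth.Agent.S13934

/-- On a smooth proper integral curve over an algebraically closed field (any characteristic), let 0 → L
→ E → M → 0 be a short exact sequence of O_X-modules with E finite locally free of rank 2 and degree
0, L and M invertible and deg L > 0 (so M is det E ⊗ L⁻¹). Then: every invertible sheaf N admitting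
a non-zero map N → E has deg N ≤ deg L, so L is the line bundle of maximal degree in E; every
invertible subsheaf N of E of positive degree with invertible quotient E/N coincides with L (some
isomorphism N ≅ L commutes with the inclusions); and E is not an extension of two invertible sheaves
of degree 0. Degrees are χ(−) minus rank times χ(O_X). (The published lemma is stated on a curve of
genus 2 in characteristic p; its argument uses neither, and this row assumes neither.) -/
theorem result (k : Type u) [Field k] [IsAlgClosed k] (X : Scheme.{u}) [X.Over (Spec (CommRingCat.of k))]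
    [IsIntegral X] [IsProper (X ↘ Spec (CommRingCat.of k))] [Smooth (X ↘ Spec (CommRingCat.of k))]
    (hdim : topologicalKrullDim X = 1)
    (S : ShortComplex X.Modules) (hS : S.ShortExact)
    (hE : FlatMod.IsFinLocFreeOfRank 2 S.X₂) (hE0 : Curv2.deg k X S.X₂ 2 = 0)
    (hL : PicF.IsInvertible S.X₁) (hM : PicF.IsInvertible S.X₃) (hpos : 0 < Curv2.deg k X S.X₁ 1) :
    (∀ (N : X.Modules), PicF.IsInvertible N → ∀ j : N ⟶ S.X₂, j ≠ 0 →
        Curv2.deg k X N 1 ≤ Curv2.deg k X S.X₁ 1) ∧
    (∀ (N : X.Modules), PicF.IsInvertible N → ∀ (j : N ⟶ S.X₂), Mono j →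
        PicF.IsInvertible (cokernel j) → 0 < Curv2.deg k X N 1 → ∃ φ : N ≅ S.X₁, φ.hom ≫ S.f = j) ∧
    (∀ (N N' : X.Modules), PicF.IsInvertible N → PicF.IsInvertible N' →
        Curv2.deg k X N 1 = 0 → Curv2.deg k X N' 1 = 0 →
        ∀ (a : N ⟶ S.X₂) (b : S.X₂ ⟶ N') (w : a ≫ b = 0), ¬ (ShortComplex.mk a b w).ShortExact) := by
  open Groth.Agent.CurveCohLib in
  classical
  have : IsLocallyNoetherian X := LocallyOfFiniteType.isLocallyNoetherian (X ↘ Spec (CommRingCat.of k))
  have cohL : ∀ {A : X.Modules}, PicF.IsInvertible A → Coh.IsCoh A := fun {A} hA =>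
    QCoh.isCoh_iff_isFP.2 (QCoh.isFP_of_isFinLocFree (ConsPropLib.isFinLocFreeOfRank_iff.1 (InvEnd.isFinLocFreeOfRank_one hA)).1)
  have cohE : Coh.IsCoh S.X₂ :=
    QCoh.isCoh_iff_isFP.2 (QCoh.isFP_of_isFinLocFree (ConsPropLib.isFinLocFreeOfRank_iff.1 hE).1)
  have := hS.mono_f
  have hadd : Curv2.deg k X S.X₂ 2 = Curv2.deg k X S.X₁ 1 + Curv2.deg k X S.X₃ 1 :=
    deg_add k hS (cohL hL) cohE
      (cohL hM) 1 1
  have key : ∀ {A B : X.Modules}, PicF.IsInvertible A → PicF.IsInvertible B → ∀ f : A ⟶ B, f ≠ 0 →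
      Curv2.deg k X A 1 ≤ Curv2.deg k X B 1 := by
    intro A B hA hB f hf
    have := InvEnd.mono_of_ne_zero hA hB f hf
    exact (deg_le_of_mono k hdim f (InvEnd.isFinLocFreeOfRank_one hA) (InvEnd.isFinLocFreeOfRank_one hB)).1
  have fac : ∀ {N : X.Modules}, PicF.IsInvertible N → ∀ j : N ⟶ S.X₂,
      Curv2.deg k X S.X₃ 1 < Curv2.deg k X N 1 → ∃ φ : N ⟶ S.X₁, φ ≫ S.f = j := by
    intro N hN j hlt
    have h0 : j ≫ S.g = 0 := by
      by_contra h
      have := key hN hM _ h
      omega
    exact ⟨hS.exact.lift j h0, hS.exact.lift_f j h0⟩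
  refine ⟨?_, ?_, ?_⟩
  · intro N hN j hj
    by_contra hlt
    obtain ⟨φ, hφ⟩ := fac hN j (by omega)
    have hφ0 : φ ≠ 0 := fun h => hj (by rw [← hφ, h, zero_comp])
    exact hlt (key hN hL φ hφ0)
  · intro N hN j hj hc hd
    have := hj
    obtain ⟨φ, hφ⟩ := fac hN j (by omega)
    have hT : (ShortComplex.mk j (cokernel.π j) (cokernel.condition j)).ShortExact :=
      { exact := ShortComplex.exact_of_g_is_cokernel _ (cokernelIsCokernel j) }
    have hdj : Curv2.deg k X S.X₂ 2 = Curv2.deg k X N 1 + Curv2.deg k X (cokernel j) 1 :=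
      deg_add k hT (cohL hN) cohE
        (cohL hc) 1 1
    have h0 : S.f ≫ cokernel.π j = 0 := by
      by_contra h
      have := key hL hc _ h
      omega
    refine ⟨⟨φ, hT.exact.lift S.f h0, ?_, ?_⟩, hφ⟩
    · rw [← cancel_mono j, Category.assoc, Category.id_comp]
      exact (congrArg _ (hT.exact.lift_f S.f h0)).trans hφ
    · rw [← cancel_mono S.f, Category.assoc, Category.id_comp, hφ]
      exact hT.exact.lift_f S.f h0
  · intro N N' hN hN' hdN hdN' a b w hex
    by_cases h : S.f ≫ b = 0
    · haveI : Mono a := hex.mono_f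
      have hψ : hex.exact.lift S.f h ≠ 0 := fun h0 => by
        have hfa : hex.exact.lift S.f h ≫ a = S.f := hex.exact.lift_f S.f h
        rw [h0, zero_comp] at hfa
        have h' : 𝟙 S.X₁ = 0 := by rw [← cancel_mono S.f, Category.id_comp, ← hfa, comp_zero]
        exact CurveEnd.not_isZero S.X₁ 1 one_pos (InvEnd.isFinLocFreeOfRank_one hL) ((IsZero.iff_id_eq_zero _).2 h')
      have := key hL hN _ hψ
      omega
    · have := key hL hN' _ h
      omega

end Groth.Agent.S13934
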