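import Groth.Statements.S13951
import Groth.Agent.ConnFinGrp.Basic
-- import your own Groth.Agent.* helpers here

set_option autoImplicit false
universe u
open TateLoc

namespace Groth.Agent.S13951

open CategoryTheory AlgebraicGeometry CategoryTheory.Limits in
/-- Let S be a reduced scheme and I a finite locally free commutative S-group scheme (finite, flat, of
finite presentation) whose fibres over all points of S are connected. Then the restriction of the
sheaf of points of I from the big fppf site of S to the small etale site of S is the zero sheaf. -/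
theorem result (S : Scheme.{u}) [IsReduced S]
    (I : Over S) [GrpObj I] [IsCommMonObj I] [IsFinite I.hom] [Flat I.hom] [LocallyOfFinitePresentation I.hom]
    (hconn : ∀ s : S, ConnectedSpace ↥(I.hom.fiber s)) :
    IsZero ((BigSite.resEt Scheme.fppfPrecoverage S).obj (CGrpSh.pts Scheme.fppfPrecoverage I)) := by
  rw [IsZero.iff_id_eq_zero]
  apply Sheaf.hom_ext
  apply NatTrans.ext
  funext U
  haveI : Etale ((EtFppf.a S).obj U.unop).hom := U.unop.prop
  haveI : IsReduced ((EtFppf.a S).obj U.unop).left :=
    Groth.Agent.AlgSpDec.isReduced_of_etaleMor ((EtFppf.a S).obj U.unop).hom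
  have he : (MonObj.one (X := I)).left ≫ I.hom = 𝟙 S := Over.w (MonObj.one (X := I))
  have h0 : ∀ x : (EtFppf.a S).obj U.unop ⟶ I,
      x.left = ((EtFppf.a S).obj U.unop).hom ≫ (MonObj.one (X := I)).left := fun x => by
    refine (Groth.Agent.ConnFinGrp.eq_section I.hom _ he hconn x.left).trans ?_
    exact Over.w_assoc x _
  have h1 : Subsingleton ((EtFppf.a S).obj U.unop ⟶ I) :=
    ⟨fun x y => Over.OverMorphism.ext ((h0 x).trans (h0 y).symm)⟩
  ext z
  exact ULift.down_injective (Additive.toMul.injective (h1.elim _ _))


end Groth.Agent.S13951
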