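import Groth.Statements.S13975
import Groth.Agent.H9DefAut.Tangent

set_option linter.style.haveILetI false
set_option backward.isDefEq.respectTransparency false
set_option backward.isDefEq.respectTransparency.types false


set_option autoImplicit false
universe u
open CategoryTheory CategoryTheory.Limits AlgebraicGeometry
open Deform

namespace Groth.Agent.S13975

/-- Let k be a field and X₀ a locally Noetherian k-scheme, and let X_ε be the trivial first-order
deformation X₀ ×_k Spec k[ε], presented by a cartesian square with projections q : X_ε → X₀ and p :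
X_ε → Spec k[ε], together with the closed immersion i : X₀ → X_ε over ε = 0 which is a section of q.
Then the infinitesimal automorphisms of X₀ — automorphisms of X_ε over Spec k[ε] that restrict to
the identity of X₀ along i — form a group isomorphic to the additive group of derivations
Der_k(O_{X₀}, O_{X₀}) = Hom_{O_{X₀}}(Ω_{X₀/k}, O_{X₀}): there is a bijection taking composition to
addition. -/
theorem result (k : Type u) [Field k]
    (X₀ : Scheme.{u}) [IsLocallyNoetherian X₀] (x : X₀ ⟶ Spec (CommRingCat.of k))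
    (Xε : Scheme.{u}) (q : Xε ⟶ X₀) (p : Xε ⟶ Spec (CommRingCat.of (DualNumber k)))
    (hsq : IsPullback q p x (Spec.map (CommRingCat.ofHom (algebraMap k (DualNumber k)))))
    (i : X₀ ⟶ Xε) (hiq : i ≫ q = 𝟙 X₀)
    (hip : i ≫ p = x ≫ Spec.map (CommRingCat.ofHom (TrivSqZeroExt.fstHom k k k).toRingHom)) :
    ∃ e : {φ : Xε ≅ Xε // φ.hom ≫ p = p ∧ i ≫ φ.hom = i} ≃ (Omega.sheaf x ⟶ Coh.structureModule X₀),
      ∀ φ ψ χ : {φ : Xε ≅ Xε // φ.hom ≫ p = p ∧ i ≫ φ.hom = i},
        φ.1 ≪≫ ψ.1 = χ.1 → e χ = e φ + e ψ := by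
  let A : ArtFun.Art k k := ArtFun.Art.dual k k
  have hflat : Flat p :=
    MorphismProperty.of_isPullback (P := @AlgebraicGeometry.Flat) hsq (Groth.Agent.DefGlueLib.flat_str x)
  have hsec : ArtFun.Art.specRes A ≫
      Spec.map (CommRingCat.ofHom (algebraMap k (DualNumber k))) = 𝟙 _ := by
    refine (Spec.map_comp _ _).symm.trans ((congrArg Spec.map ?_).trans (Spec.map_id _))
    exact CommRingCat.hom_ext (RingHom.ext fun c => A.res.commutes c)
  have hpb : IsPullback i x p (ArtFun.Art.specRes A) := by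
    refine IsPullback.of_right ?_ hip hsq
    rw [hiq, hsec]
    exact IsPullback.of_horiz_isIso ⟨(Category.id_comp x).trans (Category.comp_id x).symm⟩
  let ξ : ArtFun.DefSch X₀ x A := ⟨Xε, p, hflat, i, hpb⟩
  let f : (Omega.sheaf x ⟶ Coh.structureModule X₀) → {φ : Xε ≅ Xε // φ.hom ≫ p = p ∧ i ≫ φ.hom = i} :=
    fun θ => ⟨(Groth.Agent.H9DefAut.autOf ξ θ).iso, (Groth.Agent.H9DefAut.autOf ξ θ).hom_f,
      (Groth.Agent.H9DefAut.autOf ξ θ).i_hom⟩
  have hf : Function.Bijective f := ⟨fun θ θ' h => Groth.Agent.H9DefAut.autOf_injective ξ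
      (congrArg (fun φ : {φ : Xε ≅ Xε // φ.hom ≫ p = p ∧ i ≫ φ.hom = i} => φ.1.hom) h),
    fun φ => (Groth.Agent.H9DefAut.autOf_surjective ξ ⟨φ.1, φ.2.1, φ.2.2⟩).imp fun θ h =>
      Subtype.ext (CategoryTheory.Iso.ext h)⟩
  refine ⟨(Equiv.ofBijective f hf).symm, fun φ ψ χ h => ?_⟩
  obtain ⟨a, rfl⟩ := hf.2 φ
  obtain ⟨b, rfl⟩ := hf.2 ψ
  have hχ : f (a + b) = χ := Subtype.ext
    ((CategoryTheory.Iso.ext (Groth.Agent.H9DefAut.autOf_add ξ a b)).trans h)
  subst hχ
  simp only [Equiv.ofBijective_symm_apply_apply]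
end Groth.Agent.S13975
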