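import Groth.Statements.S13980
import Groth.Agent.H9Hilb.ObsTheory
import Groth.Agent.H9Hilb.Koszul
import Groth.Agent.ArtFunLib.ObsHR
import Groth.Agent.AmpleVan.LiftFibre
import Groth.Agent.ExtShX.DualX

set_option linter.style.haveILetI false
set_option backward.isDefEq.respectTransparency false
set_option backward.isDefEq.respectTransparency.types false


set_option autoImplicit false
universe u
open CategoryTheory CategoryTheory.Limits AlgebraicGeometry
open ArtFun

namespace Groth.Agent.S13980

/-- Let k be a field, X a locally Noetherian separated k-scheme and Z₀ ⊆ X the closed subscheme defined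
by a quasi-coherent ideal sheaf I₀ which is a local complete intersection in X: around every point
of Z₀ the ideal is generated by a Koszul-regular sequence. Let N₀ = Hom_{O_{Z₀}}(I₀/I₀², O_{Z₀}) be
the normal sheaf (the sheaf Hom of the conormal sheaf, assumed to exist as the right adjoint of
tensoring with it). Then the local Hilbert functor of Z₀ — over a local Artinian k-algebra A with
residue field k, the closed subschemes of X ×_k Spec A flat over Spec A whose restriction to the
closed fibre is Z₀ — has an obstruction theory with values in H¹(Z₀, N₀): obstructions in H¹(Z₀, N₀)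
⊗_k J for surjections with kernel J killed by the maximal ideal, vanishing exactly when the
subscheme lifts, compatible with quotients C'/K. (The published statement allows a base ring Λ with
X flat over Λ and gives the finer functoriality along all morphisms of small extensions; this row
takes Λ = k. Regular sequences are taken there in the local sense, which over Noetherian rings is
the Koszul-regularity used in its proof.) -/
theorem result {k : Type u} [Field k]
    (X : Scheme.{u}) [IsLocallyNoetherian X] (x : X ⟶ Spec (CommRingCat.of k)) [IsSeparated x]
    (I₀ : X.IdealSheafData) (hlci : RegImm.IsRegularIdeal RegImm.Kind.koszul I₀)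
    [DCoh.HasSheafHom (Omega.conormal I₀.subschemeι)] :
    @ArtFun.HasObsTheory k _ (ArtFun.localHilb X x I₀)
      (Coh.HH I₀.subscheme ((DCoh.sheafHom (Omega.conormal I₀.subschemeι)).obj
        (Coh.structureModule I₀.subscheme)) 1) _
      (@Coh.moduleOver k _ I₀.subscheme ⟨I₀.subschemeι ≫ x⟩ _ 1) := by
  let _ : X.Over (Spec (CommRingCat.of k)) := ⟨x⟩
  let _ : I₀.subscheme.Over (Spec (CommRingCat.of k)) := ⟨I₀.subschemeι ≫ x⟩
  have h := Groth.Agent.H9Hilb.exists_obsTheory (k := k) (I₀ := I₀) rfl (Groth.Agent.H9Hilb.locLifts_of_koszul hlci)
  have eC : Groth.Agent.H9Hilb.Co I₀ = Omega.conormal I₀.subschemeι := by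
    rw [Omega.conormal, I₀.ker_subschemeι]
  obtain ⟨e⟩ := Groth.Agent.ExtShX.nonempty_HH_equiv_of_iso (A := k)
    (eqToIso (congrArg (fun C => (Groth.Agent.SheafHomX.hom C).obj (Coh.structureModule I₀.subscheme)) eC) ≪≫
      ((Groth.Agent.AmpleVan.sheafHomIso (Omega.conormal I₀.subschemeι)).app (Coh.structureModule I₀.subscheme)).symm) 1
  exact Groth.Agent.ArtFunLib.ObsHR.hasObsTheory_congr e h
end Groth.Agent.S13980
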