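import Groth.Statements.S13986
import Groth.Agent.QCoh.DevissageSum
import Groth.Agent.QCoh.SubCompare
import Groth.Agent.QCoh.Serre

set_option autoImplicit false
open CategoryTheory CategoryTheory.Limits AlgebraicGeometry
universe u
open CategoryTheory AlgebraicGeometry
open CohGab

namespace Groth.Agent.S13986

/-- Let X be a Noetherian scheme and F, E coherent O_X-modules. Then E lies in the smallest Serre
subcategory of Coh(X) containing F — that is, E has every property P of O_X-modules such that P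
holds for F and P is a Serre class on coherent modules (for a short exact sequence of coherent
modules the middle term has P iff both outer terms do) — if and only if Supp(E) ⊆ Supp(F).
Equivalently: for a closed subset Z, the coherent modules supported in Z form the Serre subcategory
generated by any coherent module whose support is exactly Z. (The published statement is about
coherent sheaves twisted by a class in the second etale cohomology group of the units of the
structure sheaf; this row is its case of the trivial class, ordinary coherent sheaves.) -/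
theorem result (X : Scheme.{u}) [IsNoetherian X]
    (F E : X.Modules) (hF : Coh.IsCoh F) (hE : Coh.IsCoh E) :
    (∀ P : ObjectProperty X.Modules, P F →
      (∀ S : ShortComplex X.Modules, S.ShortExact → Coh.IsCoh S.X₁ → Coh.IsCoh S.X₂ →
        Coh.IsCoh S.X₃ → (P S.X₂ ↔ P S.X₁ ∧ P S.X₃)) → P E) ↔
    CohB1.support E ⊆ CohB1.support F := by
  classical
  constructor
  · intro h
    refine h (fun M => CohB1.support M ⊆ CohB1.support F) le_rfl fun S hS h1 h2 h3 => ⟨fun h => ⟨?_, ?_⟩, fun h => ?_⟩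
    · haveI := hS.mono_f
      exact (Groth.Agent.QCoh.mem_support_of_mono h1.1 h2.1 S.f).trans h
    · haveI := hS.epi_g
      exact (Groth.Agent.QCoh.support_of_epi h2.1 h3.1 S.g).trans h
    · exact (Groth.Agent.QCoh.support_subset_union hS h1.1 h2.1 h3.1).trans (Set.union_subset h.1 h.2)
  intro hs P hPF hP
  haveI := Groth.Agent.QCoh.hasFiniteBiproducts (X := X)
  -- the zero module
  have hSid : ∀ (M : X.Modules), ((ShortComplex.mk (𝟙 M) (0 : M ⟶ (cokernel (𝟙 F))) (by simp))).ShortExact := fun M =>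
    .mk' (ShortComplex.exact_of_f_is_kernel _ (KernelFork.IsLimit.ofId _ rfl)) inferInstance
      (IsZero.epi (isZero_cokernel_of_epi (𝟙 F)) _)
  have hcohZ : ∀ M : X.Modules, IsZero M → Coh.IsCoh M := fun M hM => by
    have h : Coh.IsCoh (cokernel (𝟙 F)) := Groth.Agent.QCoh.isCoh_cokernel hF.1 hF _
    have hz : IsZero (cokernel (𝟙 F)) := isZero_cokernel_of_epi (𝟙 F)
    haveI : Mono (0 : M ⟶ cokernel (𝟙 F)) := IsZero.mono hM _
    exact Groth.Agent.QCoh.isCoh_of_mono (0 : M ⟶ cokernel (𝟙 F)) h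
      (Groth.Agent.QCoh.isQCoh_of_isZero hM)
  have h00 : P (cokernel (𝟙 F)) :=
    ((hP _ (hSid F) hF hF (hcohZ _ (isZero_cokernel_of_epi (𝟙 F)))).1 hPF).2
  have hiso : ∀ M N : X.Modules, Nonempty (M ≅ N) → Coh.IsCoh N → P M → P N := by
    rintro M N ⟨e⟩ hN hM
    let S : ShortComplex X.Modules := ShortComplex.mk e.inv (0 : M ⟶ (cokernel (𝟙 F))) (by simp)
    have hS : S.ShortExact := .mk' (ShortComplex.exact_of_f_is_kernel _
      (KernelFork.IsLimit.ofι' e.inv (comp_zero : e.inv ≫ (0 : M ⟶ (cokernel (𝟙 F))) = 0) (fun k _ => ⟨k ≫ e.hom, by simp⟩))) inferInstance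
      (IsZero.epi (isZero_cokernel_of_epi (𝟙 F)) _)
    exact ((hP S hS hN (Groth.Agent.QCoh.isCoh_of_mono e.hom hN ((Groth.Agent.QCoh.isQCoh_iff_iso e).2 hN.1))
      (hcohZ _ (isZero_cokernel_of_epi (𝟙 F)))).1 hM).1
  let Q : X.Modules → Prop := fun M => Coh.IsCoh M → P M
  refine Groth.Agent.QCoh.devissage Q (fun M N ⟨e⟩ hM hN => hiso M N ⟨e⟩ hN
      (hM (Groth.Agent.QCoh.isCoh_of_mono e.hom hN ((Groth.Agent.QCoh.isQCoh_iff_iso e).2 hN.1))))
    (fun M hM hMc => hiso _ M ⟨(isZero_cokernel_of_epi (𝟙 F)).iso hM⟩ hMc h00) (CohB1.support F)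
    (fun S hS h1 h2 h3 _ a b _ => (hP S hS h1 h2 h3).2 ⟨a h1, b h3⟩) ?_
    (fun S hS h1 h2 h3 _ a _ _ => ((hP S hS h1 h2 h3).1 (a h2)).1) hE hs hE
  intro ξ hξ hsmall Z i _ _ hr hZc
  have hξF : ξ ∈ CohB1.support F := hξ (subset_closure rfl)
  obtain ⟨J, hJ⟩ : ∃ J, J = Scheme.IdealSheafData.vanishingIdeal (⟨closure {ξ}, isClosed_closure⟩ : TopologicalSpace.Closeds X) :=
    ⟨_, rfl⟩
  let G := cokernel (Dual3.idealMulι J F)
  have hJF := Groth.Agent.QCoh.isQCoh_idealMul J hF.1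
  have hG : Coh.IsCoh G := Groth.Agent.QCoh.isCoh_cokernel hJF hF _
  have hPG : P G := by
    refine ((hP (ShortComplex.mk (Dual3.idealMulι J F) (cokernel.π _) (cokernel.condition _))
      (.mk' (ShortComplex.exact_of_g_is_cokernel _ (cokernelIsCokernel _)) equalizer.ι_mono inferInstance)
      (haveI : Mono (Dual3.idealMulι J F) := equalizer.ι_mono; Groth.Agent.QCoh.isCoh_of_mono (Dual3.idealMulι J F) hF hJF) hF hG).1 hPF).2
  have hkillJ : ∀ (V : X.affineOpens) (a : Γ(X, V.1)), a ∈ J.ideal V → ∀ m : Γ(G, V.1), a • m = 0 := by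
    intro V a ha m
    obtain ⟨y, rfl⟩ := Groth.Agent.QCoh.app_surjective_of_epi hF.1 hG.1 (cokernel.π _) V.2 m
    obtain ⟨w, hw⟩ : a • y ∈ LinearMap.range (Groth.Agent.QCoh.appLin (Dual3.idealMulι J F) V.1) := by
      rw [Groth.Agent.QCoh.range_idealMul J hF.1 V.2]
      exact Submodule.smul_mem_smul ha Submodule.mem_top
    refine (Scheme.Modules.Hom.app_smul (cokernel.π (Dual3.idealMulι J F)) a y).symm.trans ?_
    rw [← hw]
    exact congr(($(cokernel.condition (Dual3.idealMulι J F))).app V.1 w)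
  have hkill : ∀ (V : X.affineOpens) (a : Γ(X, V.1)), ξ ∉ X.basicOpen a → ∀ m : Γ(G, V.1), a • m = 0 := by
    intro V a ha
    refine hkillJ V a ?_
    rw [hJ, Scheme.IdealSheafData.vanishingIdeal_ideal, PrimeSpectrum.mem_vanishingIdeal]
    intro q hq
    by_contra hna
    have hqb : V.2.fromSpec q ∈ X.basicOpen a := by
      show q ∈ V.2.fromSpec ⁻¹ᵁ X.basicOpen a
      rw [V.2.fromSpec_preimage_basicOpen]
      exact hna
    exact ha ((specializes_iff_mem_closure.2 hq).mem_open (X.basicOpen a).2 hqb)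
  have hGs : CohB1.support G ⊆ closure {ξ} := fun x hx => by
    by_contra hxc
    obtain ⟨V, hV, hxV⟩ := Groth.Agent.QCoh.exists_affine_mem x
    have hxJ : x ∉ J.support := by
      rw [hJ]
      exact fun h => hxc ((congrArg (fun s : Set X => x ∈ s) (Scheme.IdealSheafData.coe_support_vanishingIdeal _)).mp h)
    rw [Scheme.IdealSheafData.mem_support_iff_of_mem (U := ⟨V, hV⟩) hxV, Scheme.mem_zeroLocus_iff] at hxJ
    push Not at hxJ
    obtain ⟨a, haJ, hxa⟩ := hxJ
    exact (Groth.Agent.QCoh.notMem_support_iff hG.1 hV hxV).2 (fun m => ⟨a, hxa, hkillJ ⟨V, hV⟩ a haJ m⟩) hx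
  have hξG : ξ ∈ CohB1.support G := by
    obtain ⟨U, hU, hξU⟩ := Groth.Agent.QCoh.exists_affine_mem ξ
    haveI := Groth.Agent.QCoh.finite_sections hF hU
    have hp := (Groth.Agent.QCoh.mem_moduleSupport_iff hF.1 hU hξU).2 hξF
    set p := hU.primeIdealOf ⟨ξ, hξU⟩ with hpdef
    have hfp : hU.fromSpec p = ξ := hU.fromSpec_primeIdealOf _
    have hle : J.ideal ⟨U, hU⟩ ≤ p.asIdeal := by
      intro a ha
      rw [hJ, Scheme.IdealSheafData.vanishingIdeal_ideal, PrimeSpectrum.mem_vanishingIdeal] at ha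
      exact ha p (hfp ▸ subset_closure rfl : hU.fromSpec p ∈ closure {ξ})
    have hq : p ∈ Module.support Γ(X, U) (Γ(F, U) ⧸ J.ideal ⟨U, hU⟩ • (⊤ : Submodule Γ(X, U) Γ(F, U))) := by
      rw [Module.support_quotient]
      exact ⟨hp, hle⟩
    obtain ⟨m, hm⟩ := Module.mem_support_iff'.1 hq
    by_contra hc
    obtain ⟨y, rfl⟩ := Submodule.Quotient.mk_surjective _ m
    obtain ⟨f, hf, hf0⟩ := (Groth.Agent.QCoh.notMem_support_iff hG.1 hU hξU).1 hc ((cokernel.π (Dual3.idealMulι J F)).app U y)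
    refine hm f ((Groth.Agent.QCoh.mem_basicOpen_iff_notMem hU hξU f).1 hf) ?_
    rw [← Submodule.Quotient.mk_smul, Submodule.Quotient.mk_eq_zero, ← Groth.Agent.QCoh.range_idealMul J hF.1 hU]
    haveI : Mono (Dual3.idealMulι J F) := equalizer.ι_mono
    exact (Groth.Agent.QCoh.mem_range_iff_cokernel (Dual3.idealMulι J F) U _).1
      ((Scheme.Modules.Hom.app_smul _ f y).trans hf0)
  have h23 : ∀ S : ShortComplex X.Modules, S.ShortExact → Coh.IsCoh S.X₁ → Coh.IsCoh S.X₂ → Coh.IsCoh S.X₃ →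
      CohB1.support S.X₂ ⊆ closure {ξ} →
      (Q S.X₁ → Q S.X₂ → Q S.X₃) ∧ (Q S.X₁ → Q S.X₃ → Q S.X₂) ∧ (Q S.X₂ → Q S.X₃ → Q S.X₁) :=
    fun S hS h1 h2 h3 _ => ⟨fun _ b _ => ((hP S hS h1 h2 h3).1 (b h2)).2,
      fun a b _ => (hP S hS h1 h2 h3).2 ⟨a h1, b h3⟩, fun a _ _ => ((hP S hS h1 h2 h3).1 (a h2)).1⟩
  obtain ⟨r, hr0, hsum⟩ := Groth.Agent.QCoh.exists_sum_structure Q ξ h23 hsmall hG hGs hξG hkill (fun _ => hPG) i hr
  let T := fun _ : ULift.{u} (Fin r) => (Coh.push i).obj (Coh.structureModule Z)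
  have hO : Coh.IsCoh ((Coh.push i).obj (Coh.structureModule Z)) := Groth.Agent.QCoh.isCoh_push_structure i
  have hT : Coh.IsCoh (⨁ T) := Groth.Agent.QCoh.isCoh_biproduct T fun _ => hO
  let j : (Coh.push i).obj (Coh.structureModule Z) ⟶ ⨁ T := biproduct.ι T ⟨⟨0, hr0⟩⟩
  haveI : Mono j := mono_of_mono_fac (biproduct.ι_π_self T ⟨⟨0, hr0⟩⟩)
  exact ((hP (ShortComplex.mk j (cokernel.π j) (cokernel.condition j))
    (.mk' (ShortComplex.exact_of_g_is_cokernel _ (cokernelIsCokernel _)) ‹_› inferInstance)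
    hO hT (Groth.Agent.QCoh.isCoh_cokernel hO.1 hT j)).1 (hsum hT)).1

end Groth.Agent.S13986
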