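import Groth.Statements.S13989
import Mathlib.CategoryTheory.Abelian.SerreClass.Localization
import Mathlib.CategoryTheory.Abelian.Images

set_option autoImplicit false
universe v u v' u' v'' u''
open CategoryTheory CategoryTheory.Limits
open CohGab

namespace Groth.Agent.S13989

variable {A A' : Type u} [Category.{v} A] [Abelian A] [Category.{v} A'] [Abelian A']
  (i : A' ⥤ A) [PreservesFiniteLimits i] [PreservesFiniteColimits i]
  (J : ObjectProperty A) [J.IsSerreClass] [(J.inverseImage i).IsSerreClass]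

lemma isoModSerre_map {X Y : A'} (a : X ⟶ Y) :
    J.isoModSerre (i.map a) ↔ (J.inverseImage i).isoModSerre a :=
  and_congr (J.prop_iff_of_iso (PreservesKernel.iso i a).symm)
    (J.prop_iff_of_iso (PreservesCokernel.iso i a).symm)

lemma prop_image_map {X Y : A'} (a : X ⟶ Y) :
    J (Abelian.image (i.map a)) ↔ (J.inverseImage i) (Abelian.image a) := by
  have hfac : i.map (Abelian.factorThruImage a) ≫ i.map (Abelian.image.ι a) = i.map a := by
    rw [← i.map_comp, Abelian.image.fac]
  have : Epi (i.map (Abelian.factorThruImage a)) := inferInstance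
  have := strongEpi_of_epi (i.map (Abelian.factorThruImage a))
  exact J.prop_iff_of_iso ((Abelian.imageIsoImage _) ≪≫
    (image.isoStrongEpiMono _ _ hfac).symm)


/-- Let A be an abelian category, A' a full abelian subcategory (given as a fully faithful exact functor
i : A' ⥤ A) and J a Serre subcategory of A, with J' = J ∩ A' (the preimage of J under i, a Serre
subcategory of A'). Assume that every subobject and every quotient object, in A, of an object of A'
which belongs to J belongs to A' (lies in the essential image of i). Then the functor A'/J' ⥤ A/J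
induced between the quotient categories is fully faithful: for L : A ⥤ Q and L' : A' ⥤ Q'
localization functors at the morphisms whose kernel and cokernel lie in J, resp. J', every functor Φ
: Q' ⥤ Q with L' ⋙ Φ ≅ i ⋙ L is full and faithful. -/
theorem result
    {A A' : Type u} [Category.{v} A] [Abelian A] [Category.{v} A'] [Abelian A']
    (i : A' ⥤ A) [i.Full] [i.Faithful] [PreservesFiniteLimits i] [PreservesFiniteColimits i]
    (J : ObjectProperty A) [J.IsSerreClass] [(J.inverseImage i).IsSerreClass]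
    (hsub : ∀ (M : A') (N : A) (f : N ⟶ i.obj M), Mono f → J N → i.essImage N)
    (hquot : ∀ (M : A') (N : A) (p : i.obj M ⟶ N), Epi p → J N → i.essImage N)
    {Q : Type u'} [Category.{v'} Q] (L : A ⥤ Q) [L.IsLocalization J.isoModSerre]
    {Q' : Type u''} [Category.{v''} Q'] (L' : A' ⥤ Q') [L'.IsLocalization (J.inverseImage i).isoModSerre]
    (Φ : Q' ⥤ Q) (e : L' ⋙ Φ ≅ i ⋙ L) : Φ.Full ∧ Φ.Faithful := by
  have : i.Additive := Functor.additive_of_preserves_binary_products i
  let J' := J.inverseImage i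
  let W := J.isoModSerre
  let W' := J'.isoModSerre
  have hinv : ∀ {X Y : A'} (s : X ⟶ Y), W' s → IsIso (L.map (i.map s)) := fun s hs =>
    Localization.inverts L W _ ((isoModSerre_map i J s).2 hs)
  have hinv' : ∀ {X Y : A'} (s : X ⟶ Y), W' s → IsIso (L'.map s) := fun s hs =>
    Localization.inverts L' W' _ hs
  have hiff : ∀ {X Y : A'} (a b : X ⟶ Y), L.map (i.map a) = L.map (i.map b) → L'.map a = L'.map b := by
    intro X Y a b hab
    obtain ⟨Z, s, hs, hsab⟩ := (MorphismProperty.map_eq_iff_precomp L W _ _).1 hab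
    have h0 : J (Abelian.image (i.map (a - b))) :=
      (J.exists_isoModSerre_comp_eq_zero_iff (i.map (a - b))).1
        ⟨Z, s, hs, by rw [i.map_sub, Preadditive.comp_sub, hsab, sub_self]⟩
    obtain ⟨Z', t, ht, ht0⟩ := (J'.exists_isoModSerre_comp_eq_zero_iff (a - b)).2
      ((prop_image_map i J (a - b)).1 h0)
    rw [Preadditive.comp_sub, sub_eq_zero] at ht0
    exact (MorphismProperty.map_eq_iff_precomp L' W' _ _).2 ⟨Z', t, ht, ht0⟩
  have nat : ∀ {X Y : A'} (a : X ⟶ Y),
      Φ.map (L'.map a) ≫ e.hom.app Y = e.hom.app X ≫ L.map (i.map a) := fun a => e.hom.naturality a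
  have := Localization.essSurj L' W'
  constructor
  · refine ⟨fun {P R} φ => ?_⟩
    obtain ⟨X, ⟨eX⟩⟩ : ∃ X, Nonempty (L'.obj X ≅ P) := ⟨_, ⟨L'.objObjPreimageIso P⟩⟩
    obtain ⟨Y, ⟨eY⟩⟩ : ∃ Y, Nonempty (L'.obj Y ≅ R) := ⟨_, ⟨L'.objObjPreimageIso R⟩⟩
    suffices h : ∀ β : L.obj (i.obj X) ⟶ L.obj (i.obj Y),
        ∃ γ : L'.obj X ⟶ L'.obj Y, Φ.map γ ≫ e.hom.app Y = e.hom.app X ≫ β by
      obtain ⟨γ, hγ⟩ := h (e.inv.app X ≫ Φ.map eX.hom ≫ φ ≫ Φ.map eY.inv ≫ e.hom.app Y)
      refine ⟨eX.inv ≫ γ ≫ eY.hom, ?_⟩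
      rw [Iso.hom_inv_id_app_assoc] at hγ
      simp only [← Category.assoc, cancel_mono] at hγ
      rw [Φ.map_comp, Φ.map_comp, hγ]
      simp
    intro β
    obtain ⟨φ, rfl⟩ := Localization.exists_rightFraction L W β
    obtain ⟨Z, s, hs, f, rfl⟩ : ∃ (Z : A) (s : Z ⟶ i.obj X) (hs : W s) (f : Z ⟶ i.obj Y),
        φ = MorphismProperty.RightFraction.mk s hs f := ⟨φ.X', φ.s, φ.hs, φ.f, rfl⟩
    obtain ⟨C', ⟨cC⟩⟩ := hquot X (cokernel s) (cokernel.π s) inferInstance hs.2
    let p : X ⟶ C' := i.preimage (cokernel.π s ≫ cC.inv)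
    have hp : i.map p = cokernel.π s ≫ cC.inv := i.map_preimage _
    let m := kernel.ι p
    have hm : W' m := by
      refine (isoModSerre_map i J m).1 ⟨J.monoModSerre_of_mono _, ?_⟩
      refine J.prop_of_iso (PreservesCokernel.iso i m) ?_
      have hC : J (i.obj C') := J.prop_of_iso cC.symm hs.2
      have : J.inverseImage i (cokernel (kernel.ι p)) :=
        (J.inverseImage i).prop_of_mono (Abelian.factorThruCoimage p) hC
      exact this
    let k := isLimitForkMapOfIsLimit' i (kernel.condition p) (kernelIsKernel p)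
    obtain ⟨e₁, he₁⟩ : ∃ e₁ : Z ⟶ i.obj (kernel p), e₁ ≫ i.map m = s := by
      obtain ⟨l, hl⟩ := KernelFork.IsLimit.lift' k s (by rw [hp]; simp)
      exact ⟨l, hl⟩
    have hker : ∀ {T : A} (t : T ⟶ i.obj X), t ≫ cokernel.π s = 0 →
        ∃ t' : T ⟶ i.obj (kernel p), t' ≫ i.map m = t := fun t ht => by
      obtain ⟨l, hl⟩ := KernelFork.IsLimit.lift' k t (by rw [hp, reassoc_of% ht, zero_comp])
      exact ⟨l, hl⟩
    have : Epi e₁ := by
      obtain ⟨j, hj⟩ := hker (Abelian.image.ι s) (kernel.condition _)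
      have hfac : Abelian.factorThruImage s ≫ j = e₁ := by
        rw [← cancel_mono (i.map m), Category.assoc, hj, he₁, Abelian.image.fac]
      have hmi : i.map m ≫ cokernel.π s = 0 := by
        have := congrArg i.map (kernel.condition p)
        rw [i.map_comp, i.map_zero, hp, ← Category.assoc] at this
        simpa using congrArg (· ≫ cC.hom) this
      have : IsIso j := ⟨kernel.lift _ (i.map m) hmi,
        by rw [← cancel_mono (Abelian.image.ι s), Category.assoc, kernel.lift_ι, hj, Category.id_comp],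
        by rw [← cancel_mono (i.map m), Category.assoc, hj, kernel.lift_ι, Category.id_comp]⟩
      rw [← hfac]
      exact epi_comp _ _
    have hk : J (kernel e₁) := by
      have : Mono (kernel.lift s (kernel.ι e₁) (by rw [← he₁, kernel.condition_assoc, zero_comp])) :=
        mono_of_mono_fac (kernel.lift_ι _ _ _)
      exact J.prop_of_mono (kernel.lift s (kernel.ι e₁) _)
        hs.1
    obtain ⟨N, ⟨cN⟩⟩ := hsub Y (Abelian.image (kernel.ι e₁ ≫ f)) (Abelian.image.ι _) inferInstance
      (J.prop_of_epi (Abelian.factorThruImage _) hk)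
    let n : N ⟶ Y := i.preimage (cN.hom ≫ Abelian.image.ι (kernel.ι e₁ ≫ f))
    have hn : i.map n = cN.hom ≫ Abelian.image.ι (kernel.ι e₁ ≫ f) := i.map_preimage _
    let t := cokernel.π n
    have ht : W' t := by
      refine J'.isoModSerre_of_epi _ ?_
      have hN : J' N := J.prop_of_iso cN.symm (J.prop_of_epi (Abelian.factorThruImage _) hk)
      exact J'.prop_of_epi (Abelian.factorThruImage n) hN
    have hkill : kernel.ι e₁ ≫ f ≫ i.map t = 0 := by
      have h0 : Abelian.image.ι (kernel.ι e₁ ≫ f) ≫ i.map t = 0 := by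
        rw [← cancel_epi cN.hom, ← Category.assoc, ← hn, ← i.map_comp, cokernel.condition,
          i.map_zero]
        simp
      rw [← Category.assoc, ← Abelian.image.fac (kernel.ι e₁ ≫ f), Category.assoc, h0, comp_zero]
    let g : i.obj (kernel p) ⟶ i.obj (cokernel n) := Abelian.epiDesc e₁ (f ≫ i.map t) hkill
    have hg : e₁ ≫ i.map (i.preimage g) = f ≫ i.map t := by
      rw [i.map_preimage]; exact Abelian.comp_epiDesc _ _ _
    have := hinv' m hm
    have := hinv' t ht
    have := hinv t ht
    have := hinv m hm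
    refine ⟨inv (L'.map m) ≫ L'.map (i.preimage g) ≫ inv (L'.map t), ?_⟩
    refine (cancel_mono (L.map (i.map t))).1 ?_
    refine (cancel_epi (Φ.map (L'.map m))).1 ?_
    simp only [← Category.assoc, ← Φ.map_comp, IsIso.hom_inv_id, Category.id_comp]
    rw [Category.assoc, ← nat t, ← Category.assoc, ← Φ.map_comp, Category.assoc, IsIso.inv_hom_id,
      Category.comp_id, nat, nat]
    simp only [Category.assoc]
    congr 1
    have := Localization.inverts L W s hs
    have hse : IsIso (L.map e₁) := by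
      have : IsIso (L.map e₁ ≫ L.map (i.map m)) := by rw [← L.map_comp, he₁]; infer_instance
      exact IsIso.of_isIso_comp_right (L.map e₁) (L.map (i.map m))
    refine (cancel_epi (L.map e₁)).1 ?_
    rw [← L.map_comp, hg, L.map_comp, ← L.map_comp_assoc, he₁,
      MorphismProperty.RightFraction.map]
    simp
  · refine ⟨fun {P R} φ ψ h => ?_⟩
    obtain ⟨X, ⟨eX⟩⟩ : ∃ X, Nonempty (L'.obj X ≅ P) := ⟨_, ⟨L'.objObjPreimageIso P⟩⟩
    obtain ⟨Y, ⟨eY⟩⟩ : ∃ Y, Nonempty (L'.obj Y ≅ R) := ⟨_, ⟨L'.objObjPreimageIso R⟩⟩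
    rw [← cancel_epi eX.hom, ← cancel_mono eY.inv]
    obtain ⟨f, hf₁, hf₂⟩ := Localization.exists_leftFraction₂ L' W'
      ((eX.hom ≫ φ) ≫ eY.inv) ((eX.hom ≫ ψ) ≫ eY.inv)
    have h1 := congrArg (fun z => Φ.map eX.hom ≫ z ≫ Φ.map eY.inv ≫ Φ.map (L'.map f.s)) h
    simp only [← Φ.map_comp, ← Category.assoc] at h1
    rw [hf₁, hf₂, show f.fst.map L' (Localization.inverts L' W') ≫ L'.map f.s = L'.map f.f from
      MorphismProperty.LeftFraction.map_comp_map_s f.fst L' _,
      show f.snd.map L' (Localization.inverts L' W') ≫ L'.map f.s = L'.map f.f' from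
      MorphismProperty.LeftFraction.map_comp_map_s f.snd L' _] at h1
    have h2 := congrArg (· ≫ e.hom.app _) h1
    simp only [nat, cancel_epi] at h2
    have := hinv' f.s f.hs
    rw [hf₁, hf₂, ← cancel_mono (L'.map f.s),
      show f.fst.map L' (Localization.inverts L' W') ≫ L'.map f.s = L'.map f.f from
      MorphismProperty.LeftFraction.map_comp_map_s f.fst L' _,
      show f.snd.map L' (Localization.inverts L' W') ≫ L'.map f.s = L'.map f.f' from
      MorphismProperty.LeftFraction.map_comp_map_s f.snd L' _]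
    exact hiff _ _ h2

end Groth.Agent.S13989
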