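import Groth.Statements.S13995
import Mathlib

set_option autoImplicit false
universe u
open CAlg

namespace Groth.Agent.S13995

/-- Let R be a reduced Noetherian ring, M a finitely generated R-module all of whose associated primes
are minimal primes of R and whose localization at each minimal prime p is one-dimensional over the
field R_p, and let g : M → Q be a surjection onto a finitely generated R-module Q all of whose
associated primes are minimal primes of R. Then the kernel of g is the intersection, over the
minimal primes p of R lying in the support of Q, of the kernels of the localization maps M → M_p.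
(The published statement is for a torsion-free coherent sheaf F of uniform rank one on a reduced
connected projective curve over a characteristic-zero algebraically closed field: its non-zero
torsion-free quotients are exactly the maximal torsion-free quotients F_D of the restrictions of F
to subcurves D; this row is the corresponding statement for modules over a reduced Noetherian ring,
a subcurve being a set of minimal primes, and identifies each torsion-free quotient with F_D for D
the set of generic points of its support.) -/
theorem result (R : Type u) [CommRing R] [IsNoetherianRing R] [IsReduced R] (M : Type u) [AddCommGroup M] [Module R M] [Module.Finite R M] (hM : associatedPrimes R M ⊆ minimalPrimes R) (hrk : ∀ p : PrimeSpectrum R, p.asIdeal ∈ minimalPrimes R → Module.finrank (Localization.AtPrime p.asIdeal) (LocalizedModule p.asIdeal.primeCompl M) = 1) (Q : Type u) [AddCommGroup Q] [Module R Q] [Module.Finite R Q] (hQ : associatedPrimes R Q ⊆ minimalPrimes R) (g : M →ₗ[R] Q) (hg : Function.Surjective g) : LinearMap.ker g = ⨅ p ∈ {p : PrimeSpectrum R | p.asIdeal ∈ minimalPrimes R ∧ p ∈ Module.support R Q}, LinearMap.ker (LocalizedModule.mkLinearMap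 p.asIdeal.primeCompl M) := by
  classical
  refine le_antisymm ?_ ?_
  · refine le_iInf₂ fun p hp => ?_
    obtain ⟨hpm, hps⟩ := hp
    intro x hx
    have hfield : IsField (Localization.AtPrime p.asIdeal) := by
      haveI := Ring.KrullDimLE.of_isLocalization p.asIdeal hpm (Localization.AtPrime p.asIdeal)
      haveI : IsReduced (Localization.AtPrime p.asIdeal) := inferInstance
      exact Ring.KrullDimLE.isField_of_isReduced
    let gp := LocalizedModule.map p.asIdeal.primeCompl g
    have hgp : Function.Surjective gp := LocalizedModule.map_surjective p.asIdeal.primeCompl g hg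
    haveI : Nontrivial (LocalizedModule p.asIdeal.primeCompl Q) := Module.mem_support_iff.mp hps
    letI := hfield.toField
    obtain ⟨v, -, hv⟩ := finrank_eq_one_iff'.mp (hrk p hpm)
    have h0 : gp (LocalizedModule.mkLinearMap p.asIdeal.primeCompl M x) = 0 := by
      show gp (LocalizedModule.mk x 1) = 0
      simp only [gp, LocalizedModule.map_mk, LinearMap.mem_ker.mp hx, LocalizedModule.zero_mk]
    obtain ⟨c, hc⟩ := hv (LocalizedModule.mkLinearMap p.asIdeal.primeCompl M x)
    rw [LinearMap.mem_ker, ← hc]
    by_contra hne
    have hcne : c ≠ 0 := fun h => hne (by rw [h, zero_smul])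
    rw [← hc, map_smul] at h0
    have hgv : gp v = 0 := (smul_eq_zero.mp h0).resolve_left hcne
    obtain ⟨w, hw⟩ := exists_ne (0 : LocalizedModule p.asIdeal.primeCompl Q)
    obtain ⟨z, rfl⟩ := hgp w
    obtain ⟨d, rfl⟩ := hv z
    exact hw (by rw [map_smul, hgv, smul_zero])
  · intro x hx
    rw [LinearMap.mem_ker]
    by_contra hne
    obtain ⟨P, hP, hle⟩ := exists_le_isAssociatedPrime_of_isNoetherianRing (R := R) (g x) hne
    haveI := hP.isPrime
    have hPm : P ∈ minimalPrimes R := hQ hP
    have hker : ∀ y : Q, LocalizedModule.mkLinearMap P.primeCompl Q y = 0 → ∃ s ∈ P.primeCompl, s • y = 0 := by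
      intro y hy
      obtain ⟨s, hs⟩ := (IsLocalizedModule.eq_zero_iff P.primeCompl (LocalizedModule.mkLinearMap P.primeCompl Q)).mp hy
      exact ⟨s, s.2, hs⟩
    have hzero : LocalizedModule.mkLinearMap P.primeCompl Q (g x) = 0 := by
      by_cases hps : (⟨P, hP.isPrime⟩ : PrimeSpectrum R) ∈ Module.support R Q
      · have hxp : LocalizedModule.mk x (1 : P.primeCompl) = 0 :=
          Submodule.mem_iInf _ |>.mp (Submodule.mem_iInf _ |>.mp hx ⟨P, hP.isPrime⟩) ⟨hPm, hps⟩
        show LocalizedModule.mk (g x) (1 : P.primeCompl) = 0
        rw [← LocalizedModule.map_mk P.primeCompl g, hxp, map_zero]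
      · haveI := Module.notMem_support_iff.mp hps
        exact @Subsingleton.elim (LocalizedModule P.primeCompl Q) this _ _
    obtain ⟨s, hs, hsx⟩ := hker _ hzero
    exact hs (hle (by simpa [Submodule.mem_colon_singleton] using hsx))

end Groth.Agent.S13995
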