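import Groth.Statements.S14000
import Groth.Agent.H9Misc.EulerAdd
import Groth.Agent.KFlatLib.Ring.DualizingFlat
-- import your own Groth.Agent.* helpers here

set_option linter.style.haveILetI false
set_option backward.isDefEq.respectTransparency false
open scoped TensorProduct

set_option autoImplicit false
universe u
open Perf

namespace Groth.Agent.S14000

open CategoryTheory CategoryTheory.Limits in
/-- Let A be a commutative ring and P a strictly perfect complex over A, that is a cochain complex of
finitely generated projective A-modules which is zero outside a finite set s of degrees. Suppose the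
cohomological support of P has positive codimension: for every minimal prime q of A and every degree
i the localization at q of the cohomology module H^i(P) is zero. Then the Euler characteristic of P
vanishes identically: at every prime of A the alternating sum over i ∈ s of the ranks of the P^i is
zero. -/
theorem result {A : Type u} [CommRing A]
    (P : CochainComplex (ModuleCat.{u} A) ℤ) (s : Finset ℤ)
    (hP : ∀ i : ℤ, Module.Finite A (P.X i) ∧ Module.Projective A (P.X i))
    (hs : ∀ i : ℤ, i ∉ s → IsZero (P.X i))
    (hsupp : ∀ q : PrimeSpectrum A, q.asIdeal ∈ minimalPrimes A →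
      ∀ i : ℤ, Subsingleton (LocalizedModule q.asIdeal.primeCompl (P.homology i))) :
    ∀ x : PrimeSpectrum A,
      (s.sum fun i => ((i.negOnePow : ℤˣ) : ℤ) * (Module.rankAtStalk (R := A) (P.X i) x : ℤ)) = 0 := by
  intro x
  classical
  obtain ⟨q, hqmin, hqx⟩ := Ideal.exists_minimalPrimes_le (J := x.asIdeal) (bot_le : (⊥ : Ideal A) ≤ x.asIdeal)
  haveI := hqmin.1.1
  let Q : PrimeSpectrum A := ⟨q, hqmin.1.1⟩
  let B := Localization.AtPrime q
  let k := q.ResidueField
  haveI : Module.Flat A B := IsLocalization.flat B q.primeCompl
  haveI := ModuleCat.preservesFiniteLimits_extendScalars_of_flat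
    (RingHom.flat_algebraMap_iff.2 (inferInstance : Module.Flat A B))
  let F₁ := ModuleCat.extendScalars.{u, u, u} (algebraMap A B)
  let F₂ := ModuleCat.extendScalars.{u, u, u} (algebraMap B k)
  haveI : F₁.PreservesZeroMorphisms := inferInstance
  let E₁ : CochainComplex (ModuleCat.{u} B) ℤ := (F₁.mapHomologicalComplex _).obj P
  have hproj : ∀ i, CategoryTheory.Projective (E₁.X i) := fun i => by
    obtain ⟨e⟩ := Groth.Agent.KFlatLib.exists_extendLEquiv (B := B) (P.X i)
    haveI := (hP i).2
    haveI : Module.Projective B (F₁.obj (P.X i)) := Module.Projective.of_equiv e.symm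
    exact (IsProjective.iff_projective (R := B) (F₁.obj (P.X i))).1 inferInstance
  obtain ⟨d, hd⟩ : ∃ d : ℤ, ∀ i, d < i → i ∉ s := ⟨(s.sup fun i => i.toNat : ℕ), fun i hi his => by
    have := Finset.le_sup (f := fun i : ℤ => i.toNat) his; omega⟩
  haveI : E₁.IsStrictlyLE d := (CochainComplex.isStrictlyLE_iff _ _).2 fun i hi => F₁.map_isZero (hs i (hd i hi))
  haveI := hproj
  haveI := CochainComplex.isKProjective_of_projective E₁ d
  have hac : E₁.Acyclic := fun i => by
    haveI : F₁.PreservesHomology := inferInstance
    rw [HomologicalComplex.exactAt_iff, ShortComplex.exact_iff_isZero_homology]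
    refine IsZero.of_iso ?_ ((P.sc i).mapHomologyIso F₁)
    obtain ⟨e⟩ := Groth.Agent.KFlatLib.exists_extendLEquiv (B := B) (P.homology i)
    haveI := hsupp Q hqmin i
    haveI : Subsingleton (B ⊗[A] P.homology i) :=
      (IsBaseChange.equiv (LocalizedModule.isBaseChange q.primeCompl (P.homology i))).injective.subsingleton
    exact @ModuleCat.isZero_of_subsingleton _ _ (F₁.obj (P.homology i)) e.injective.subsingleton
  obtain ⟨hom⟩ := CochainComplex.IsKProjective.nonempty_homotopy_zero (𝟙 E₁) hac
  let E₂ : CochainComplex (ModuleCat.{u} k) ℤ := (F₂.mapHomologicalComplex _).obj E₁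
  have hac₂ : ∀ i, IsZero (E₂.homology i) := fun i => by
    have h := (F₂.mapHomotopy hom).homologyMap_eq i
    rw [CategoryTheory.Functor.map_id, HomologicalComplex.homologyMap_id, CategoryTheory.Functor.map_zero,
      HomologicalComplex.homologyMap_zero] at h
    exact (IsZero.iff_id_eq_zero _).2 h
  let lam : ModuleCat.{u} k → ℤ := fun M => (Module.finrank k M : ℤ)
  have key := Groth.Agent.H9Misc.EulerAdd.euler lam (fun M => Module.Finite k M)
    (fun S hS h₂ => by
      haveI := h₂
      have hi := (ModuleCat.mono_iff_injective _).1 hS.mono_f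
      have hsur := (ModuleCat.epi_iff_surjective _).1 hS.epi_g
      haveI h₁ : Module.Finite k S.X₁ := Module.Finite.of_injective S.f.hom hi
      haveI h₃ : Module.Finite k S.X₃ := Module.Finite.of_surjective S.g.hom hsur
      refine ⟨?_, h₁, h₃⟩
      have hex := (ShortComplex.ShortExact.moduleCat_exact_iff_function_exact _).1 hS.exact
      have := LinearMap.finrank_range_add_finrank_ker S.g.hom
      rw [LinearMap.range_eq_top.2 hsur, finrank_top, hex.linearMap_ker_eq, LinearMap.finrank_range_of_inj hi] at this
      simp only [lam]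
      omega)
    (fun M hM => by
      haveI := ModuleCat.subsingleton_of_isZero hM
      simp [lam, Module.finrank_zero_of_subsingleton])
    E₂ (fun i => by
      haveI := (hP i).1
      obtain ⟨e₁⟩ := Groth.Agent.KFlatLib.exists_extendLEquiv (B := B) (P.X i)
      haveI : Module.Finite B (E₁.X i) := Module.Finite.equiv e₁.symm
      obtain ⟨e₂⟩ := Groth.Agent.KFlatLib.exists_extendLEquiv (B := k) (E₁.X i)
      exact Module.Finite.equiv e₂.symm)
    s (fun i hi => F₂.map_isZero (F₁.map_isZero (hs i hi))) (fun i => ((i.negOnePow : ℤˣ) : ℤ))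
    (fun i => by simp [Int.negOnePow_succ])
  have h0 : ∀ i, lam (E₂.homology i) = 0 := fun i => by
    haveI := ModuleCat.subsingleton_of_isZero (hac₂ i)
    simp [lam, Module.finrank_zero_of_subsingleton]
  simp only [h0, smul_zero, Finset.sum_const_zero] at key
  refine Eq.trans (Finset.sum_congr rfl fun i _ => ?_) key
  haveI := (hP i).1
  haveI := (hP i).2
  have hr : Module.rankAtStalk (R := A) (P.X i) x = Module.finrank k (E₂.X i) := by
    obtain ⟨e₁⟩ := Groth.Agent.KFlatLib.exists_extendLEquiv (B := B) (P.X i)
    obtain ⟨e₂⟩ := Groth.Agent.KFlatLib.exists_extendLEquiv (B := k) (E₁.X i)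
    rw [← Module.rankAtStalk_eq_of_le_of_finite_of_flat (P.X i) (show Q ≤ x from hqx), Module.rankAtStalk_eq]
    exact ((e₂.trans (TensorProduct.AlgebraTensorModule.congr (LinearEquiv.refl k k) e₁)).trans
      (TensorProduct.AlgebraTensorModule.cancelBaseChange A B k k (P.X i))).finrank_eq.symm
  rw [hr]
  rfl

end Groth.Agent.S14000
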