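import Groth.Statements.S14028
import Groth.Agent.EtModLib.ClosedPushP
-- import your own Groth.Agent.* helpers here

set_option autoImplicit false
open CategoryTheory CategoryTheory.Limits AlgebraicGeometry Opposite
universe u
open EtModW


namespace Groth.Agent.S14028

/-- Let X be a scheme, Λ a commutative ring, I an ideal of Λ and i : Z ⟶ X a closed immersion whose open
complement is retrocompact in X (its inclusion is quasi-compact). Assume that the étale direct image
along i sends constructible sheaves of Λ-modules on Z to constructible sheaves on X (a standard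
fact, carried here as a hypothesis). Let F be an I-adic pro-étale sheaf of Λ-modules on Z: F has a
compatible tower of quotient maps F ⟶ Q_n modulo I^(n+1), each Q_n isomorphic to the pro-étale
pullback of a constructible étale sheaf, and the canonical map F ⟶ lim_n Q_n is an isomorphism. Then
the direct image i_*F on the small pro-étale site of X is again an I-adic pro-étale sheaf.
(Continuity of the inclusions of étale into pro-étale sites and of the base-change functor along i
is carried as binders.) -/
theorem result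
    (Λ : Type (u + 1)) [CommRing Λ] (I : Ideal Λ)
    {Z X : Scheme.{u}} (i : Z ⟶ X) [IsClosedImmersion i]
    (hret : IsRetrocompact (Set.range (fun z => i.base z))ᶜ)
    [ProEtS.EpsCont Z] [ProEtS.EpsCont X] [ProEtS.PCont i]
    (hpush : ∀ E : EtModW.Mod Λ Z, EtModW.IsConstructible Λ E →
      EtModW.IsConstructible Λ ((EtModW.push Λ i).obj E))
    (F : EtModW.ModP Λ Z)
    (hF : (∃ (Q : ℕᵒᵖ ⥤ EtModW.ModP Λ Z) (p : (Functor.const ℕᵒᵖ).obj F ⟶ Q),
        (∀ n : ℕ, ARSys.IsQuot (I ^ (n + 1)) (p.app (op n))) ∧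
        (∀ n : ℕ, ∃ E : EtModW.Mod Λ Z, EtModW.IsConstructible Λ E ∧
          Nonempty ((EtModW.epsPullMod Λ Z).obj E ≅ Q.obj (op n))) ∧
        IsIso (limit.lift Q (Cone.mk F p)))) :
    (∃ (Q : ℕᵒᵖ ⥤ EtModW.ModP Λ X) (p : (Functor.const ℕᵒᵖ).obj (((ProEtS.bcP i).sheafPushforwardContinuous (ModuleCat.{u + 1} Λ) (Scheme.ProEt.topology X) (Scheme.ProEt.topology Z)).obj F) ⟶ Q),
      (∀ n : ℕ, ARSys.IsQuot (I ^ (n + 1)) (p.app (op n))) ∧
      (∀ n : ℕ, ∃ E : EtModW.Mod Λ X, EtModW.IsConstructible Λ E ∧
        Nonempty ((EtModW.epsPullMod Λ X).obj E ≅ Q.obj (op n))) ∧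
      IsIso (limit.lift Q (Cone.mk (((ProEtS.bcP i).sheafPushforwardContinuous (ModuleCat.{u + 1} Λ) (Scheme.ProEt.topology X) (Scheme.ProEt.topology Z)).obj F) p))) := by
  obtain ⟨Q, p, hq, hE, hlim⟩ := hF
  let G := EtModLib.pushModP Λ i
  refine ⟨Q ⋙ G, { app := fun n => G.map (p.app n), naturality := fun a b f => ?_ }, fun n => ?_, fun n => ?_, ?_⟩
  · refine (Category.id_comp _).trans ?_
    refine Eq.trans (congrArg G.map ?_) (G.map_comp _ _)
    exact (Category.id_comp _).symm.trans (p.naturality f)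
  · exact EtModLib.isQuot_pushModP i hret (hq n)
  · obtain ⟨E, hc, ⟨e⟩⟩ := hE n
    obtain ⟨c⟩ := EtModLib.nonempty_epsPullMod_push_iso Λ i hret E
    exact ⟨(EtModW.push Λ i).obj E, hpush E hc, ⟨c ≪≫ G.mapIso e⟩⟩
  · haveI := hlim
    haveI := EtModLib.preservesLimits_pushModP_nat Λ i
    haveI : PreservesLimit Q G := inferInstance
    refine (congrArg IsIso ?_).mp (inferInstance : IsIso (G.map (limit.lift Q (Cone.mk F p)) ≫ (preservesLimitIso G Q).hom))
    refine limit.hom_ext fun n => ?_
    rw [Category.assoc, preservesLimitIso_hom_π, ← Functor.map_comp, limit.lift_π]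
    exact Eq.symm (limit.lift_π (F := Q ⋙ G) _ n)

end Groth.Agent.S14028
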