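import Groth.Statements.S14042
import Groth.Agent.W4GenDeg.Basic
import Groth.Agent.W4GenDeg.QfFlat
import Groth.Agent.MorLib.WeightDeg
import Groth.Agent.S14041

set_option autoImplicit false
universe u
open CategoryTheory CategoryTheory.Limits AlgebraicGeometry
open W4c1frobunstiva

namespace Groth.Agent.S14042

open Groth.Agent.MorLib

theorem mem_qf_of_finite_fibre {X Y : Scheme.{u}} (f : X ⟶ Y) [LocallyOfFiniteType f] {y : Y}
    (hy : IsFinite (pullback.snd f (Y.fromSpecResidueField y))) {x : X} (hx : f x = y) :
    x ∈ f.quasiFiniteLocus := by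
  subst hx
  rw [Scheme.Hom.mem_quasiFiniteLocus, Scheme.Hom.quasiFiniteAt_iff_isOpen_singleton_asFiber]
  haveI : IsFinite (f.fiberToSpecResidueField (f x)) := hy
  haveI : DiscreteTopology (f.fiber (f x)) := by
    have h := (f.fiberToSpecResidueField (f x)).isDiscrete_preimage_singleton (IsLocalRing.closedPoint _)
    have h' : _root_.IsDiscrete (Set.univ : Set (f.fiber (f x))) := by
      convert h
      exact (Set.eq_univ_of_forall fun z => Subsingleton.elim (α := PrimeSpectrum (Y.residueField (f x))) _ _).symm
    exact (Homeomorph.Set.univ _).discreteTopology_iff.1 h'.to_subtype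
  exact isOpen_discrete _

theorem fibre_eq {X Y : Scheme.{u}} (f : X ⟶ Y) {y : Y} (U : X.Opens) (hU : ∀ x, f x = y → x ∈ U)
    [IsFinite (pullback.snd f (Y.fromSpecResidueField y))] [Flat (pullback.snd f (Y.fromSpecResidueField y))]
    (s : Spec (Y.residueField y)) :
    (pullback.snd f (Y.fromSpecResidueField y)).finrank s =
      (pullback.snd (U.ι ≫ f) (Y.fromSpecResidueField y)).finrank s := by
  have hr : Set.range (pullback.fst f (Y.fromSpecResidueField y)) ⊆ Set.range U.ι := by
    rintro _ ⟨z, rfl⟩
    rw [Scheme.Opens.range_ι]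
    refine hU _ ?_
    rw [← Scheme.Hom.comp_apply, pullback.condition, Scheme.Hom.comp_apply, Scheme.fromSpecResidueField_apply]
  let l := IsOpenImmersion.lift U.ι (pullback.fst f (Y.fromSpecResidueField y)) hr
  have hl : l ≫ U.ι = pullback.fst f (Y.fromSpecResidueField y) := IsOpenImmersion.lift_fac _ _ _
  have sq : CategoryTheory.IsPullback l (pullback.snd f (Y.fromSpecResidueField y)) (U.ι ≫ f) (Y.fromSpecResidueField y) := by
    refine ⟨⟨by rw [← Category.assoc, hl, pullback.condition]⟩, ⟨PullbackCone.IsLimit.mk _
      (fun c => pullback.lift (c.fst ≫ U.ι) c.snd (by rw [Category.assoc]; exact c.condition)) (fun c => ?_)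
      (fun c => pullback.lift_snd _ _ _) fun c m h1 h2 => ?_⟩⟩
    · rw [← cancel_mono U.ι, Category.assoc, hl, pullback.lift_fst]
    · refine pullback.hom_ext ?_ ?_
      · rw [pullback.lift_fst, ← h1, Category.assoc, hl]
      · rw [pullback.lift_snd, h2]
  haveI : IsFinite (pullback.snd (U.ι ≫ f) (Y.fromSpecResidueField y)) := by
    rw [← sq.isoPullback_inv_snd]; infer_instance
  haveI : Flat (pullback.snd (U.ι ≫ f) (Y.fromSpecResidueField y)) := by
    rw [← sq.isoPullback_inv_snd]; infer_instance
  rw [← sq.isoPullback_hom_snd, Scheme.Hom.finrank_comp_left_of_isIso]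

/-- Let k be a field, X and Y integral schemes of finite type over k of the same dimension whose local
rings are all regular, and f : X → Y a dominant and separated k-morphism; let d be the degree of the
residue field of the generic point of X over that of the generic point of Y, a finite extension.
Then for every point y of Y, either the fibre X_y has positive dimension — it is not finite over
κ(y) — or its ring of global sections has dimension at most d over κ(y). (The published statement
speaks of length; the κ(y)-rank used here is at least the length, so this form implies the printed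
one. The published statement does not mention separatedness: for the affine line with doubled origin
mapping to the affine line — regular, dominant, degree 1 — the fibre over the origin is two reduced
points, of rank 2; the étale-local splitting of a quasi-finite morphism used in the published proof
needs f separated, so f is taken separated here.) -/
theorem result (k : Type u) [Field k] {X Y : Scheme.{u}}
    [X.Over (Spec (CommRingCat.of k))] [Y.Over (Spec (CommRingCat.of k))]
    [LocallyOfFiniteType (X ↘ Spec (CommRingCat.of k))] [QuasiCompact (X ↘ Spec (CommRingCat.of k))]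
    [LocallyOfFiniteType (Y ↘ Spec (CommRingCat.of k))] [QuasiCompact (Y ↘ Spec (CommRingCat.of k))]
    [IsIntegral X] [IsIntegral Y] (f : X ⟶ Y) [IsDominant f]
    (hf : f ≫ (Y ↘ Spec (CommRingCat.of k)) = X ↘ Spec (CommRingCat.of k))
    (hdim : topologicalKrullDim ↥X = topologicalKrullDim ↥Y)
    [IsSeparated f] (hX : ∀ x : X, IsRegularLocalRing (X.presheaf.stalk x))
    (hY : ∀ y : Y, IsRegularLocalRing (Y.presheaf.stalk y)) (y : Y)
    (hy : IsFinite (pullback.snd f (Y.fromSpecResidueField y))) :
    (letI := ((Scheme.ΓSpecIso (CommRingCat.of (Y.residueField y))).inv ≫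
            (pullback.snd f (Y.fromSpecResidueField y)).appTop).hom.toAlgebra;
          Module.finrank (Y.residueField y) ↑(Γ(pullback f (Y.fromSpecResidueField y), ⊤))) ≤
      (letI := (f.residueFieldMap (genericPoint ↥X)).hom.toAlgebra;
          Module.finrank (Y.residueField (f.base (genericPoint ↥X))) (X.residueField (genericPoint ↥X))) := by
  haveI : LocallyOfFiniteType (f ≫ (Y ↘ Spec (CommRingCat.of k))) := by rw [hf]; infer_instance
  haveI : LocallyOfFiniteType f := locallyOfFiniteType_of_comp f (Y ↘ Spec (CommRingCat.of k))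
  haveI : IsLocallyNoetherian Y := LocallyOfFiniteType.isLocallyNoetherian (Y ↘ Spec (CommRingCat.of k))
  haveI : IsLocallyNoetherian X := LocallyOfFiniteType.isLocallyNoetherian (X ↘ Spec (CommRingCat.of k))
  haveI : CompactSpace X := QuasiCompact.compactSpace_of_compactSpace (X ↘ Spec (CommRingCat.of k))
  haveI : IsNoetherian X := {}
  obtain ⟨-, U₀, ⟨⟨y₀, hy₀⟩⟩, hgen⟩ := Groth.Agent.S14041.result k f hf hdim
  have hηY : genericPoint Y ∈ U₀ := ((genericPoint_spec Y).mem_open_set_iff U₀.isOpen).2 ⟨y₀, trivial, hy₀⟩
  obtain ⟨hηfin, hd⟩ := hgen _ hηY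
  have hηX : genericPoint X ∈ f.quasiFiniteLocus :=
    mem_qf_of_finite_fibre f hηfin (Triage.GenFinite.map_genericPoint f)
  let X₁ := f.quasiFiniteLocus
  let f₁ : X₁.toScheme ⟶ Y := X₁.ι ≫ f
  haveI : Nonempty X₁.toScheme := ⟨⟨_, hηX⟩⟩
  haveI : Nonempty X₁ := ⟨⟨_, hηX⟩⟩
  haveI : IsIntegral X₁.toScheme := inferInstance
  haveI : LocallyQuasiFinite f₁ := inferInstanceAs (LocallyQuasiFinite (f.quasiFiniteLocus.ι ≫ f))
  have hdim₁ : topologicalKrullDim ↥X₁.toScheme = topologicalKrullDim ↥Y := by
    rw [← hdim, VarDim.topologicalKrullDim_eq_deg_genericPoint (X₁.ι ≫ (X ↘ Spec (CommRingCat.of k))),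
      VarDim.topologicalKrullDim_eq_deg_genericPoint (X ↘ Spec (CommRingCat.of k)),
      VarDim.deg_comp (X ↘ Spec (CommRingCat.of k)) X₁.ι, genericPoint_eq_of_isOpenImmersion X₁.ι]
  haveI : Flat f₁ := W4GenDeg.flat_of_quasiFinite_regular (X₁.ι ≫ (X ↘ Spec (CommRingCat.of k)))
    (Y ↘ Spec (CommRingCat.of k)) f₁ (by simp [f₁, hf]) hdim₁
    (fun x => by
      haveI := hX (X₁.ι x)
      exact IsRegularLocalRing.of_ringEquiv (asIso (X₁.ι.stalkMap x)).commRingCatIsoToRingEquiv) hY
  haveI : QuasiCompact f₁ := by
    haveI : QuasiCompact f := inferInstance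
    infer_instance
  haveI : IsSeparated f₁ := inferInstance
  haveI : LocallyOfFinitePresentation f₁ := inferInstance
  have hfin₁ : ∀ s : Y, (f₁ ⁻¹' {s}).Finite := WT.finite_preimage_of_qc
  have key : ∀ (z : Y) (hz : IsFinite (pullback.snd f (Y.fromSpecResidueField z))),
      (letI := ((Scheme.ΓSpecIso (CommRingCat.of (Y.residueField z))).inv ≫
          (pullback.snd f (Y.fromSpecResidueField z)).appTop).hom.toAlgebra
       Module.finrank (Y.residueField z) ↑(Γ(pullback f (Y.fromSpecResidueField z), ⊤))) = WT.deg f₁ z := by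
    intro z hz
    haveI := hz
    let s : Spec (Y.residueField z) := IsLocalRing.closedPoint _
    haveI : Subsingleton ↥(Spec (Y.residueField z)) := inferInstanceAs (Subsingleton (PrimeSpectrum (Y.residueField z)))
    haveI : Flat (pullback.snd f (Y.fromSpecResidueField z)) := by infer_instance
    refine (W4GenDeg.finrank_appTop (K := Y.residueField z) _ s).trans ?_
    rw [fibre_eq f X₁ (fun x hx => mem_qf_of_finite_fibre f hz hx) s]
    refine (WT.finrank_fibre_eq_deg (f := f₁) hfin₁ (Y.fromSpecResidueField z) s).trans ?_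
    exact congrArg (WT.deg f₁) (Scheme.fromSpecResidueField_apply _ _)
  have hle : y ∈ {s : Y | WT.deg f₁ s ≤ WT.deg f₁ (genericPoint Y)} :=
    (genericPoint_specializes y).mem_closed (WT.isClosed_deg_le hfin₁ _) (Set.mem_setOf.2 le_rfl)
  rw [key y hy]
  refine le_trans (le_of_le_of_eq hle ((key _ hηfin).symm.trans hd)) (le_of_eq rfl)

end Groth.Agent.S14042
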