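import Groth.Statements.S14047
import Groth.Agent.NodalQ.Syntomic
import Groth.Agent.OmegaUniv.Universal
import Groth.Agent.UnibEtale.Comp

set_option linter.style.haveILetI false
set_option backward.isDefEq.respectTransparency false
set_option backward.isDefEq.respectTransparency.types false
set_option maxHeartbeats 1000000

set_option autoImplicit false
universe u
open CategoryTheory AlgebraicGeometry
open W4c1frobunstiva

namespace Groth.Agent.S14047

/-- Let f : X → B be a proper family of nodal curves — flat, locally of finite presentation, each fibre
having all its irreducible components of dimension one and at worst nodes as singularities. Let Ω be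
an O_X-module equipped with a universal B-derivation (a sheaf of relative differentials of X over B)
and let Z be the closed subscheme of X cut out by the first Fitting ideal sheaf of Ω, the singular
locus of f. Then the composite Z → X → B is finite and formally unramified, so unramified. -/
theorem result {X B : Scheme.{u}}
    (f : X ⟶ B) (hf : Curv2.IsNodalFamily f) [IsProper f] (Ω : X.Modules) (d : OmegaSh.Der f Ω)
    (hd : OmegaSh.IsUniversal d) :
    IsFinite ((Fitt.sheafIdeal Ω 1).subschemeι ≫ f) ∧
      FormallyUnramified ((Fitt.sheafIdeal Ω 1).subschemeι ≫ f) := by
  haveI := hf.1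
  haveI := hf.2.1
  have hn := (Groth.Agent.NodalQ.isNodalFamily_iff_univ f).1 hf
  have hu : FormallyUnramified ((Fitt.sheafIdeal Ω 1).subschemeι ≫ f) :=
    (Groth.Agent.NodalQ.formallyUnramified_sing_iff f Ω d hd).2 fun U hU V hV e =>
      Groth.Agent.NodalQ.unramified_sing_of_nodalPts f hn hU hV e
  haveI := hu
  haveI : LocallyQuasiFinite ((Fitt.sheafIdeal Ω 1).subschemeι ≫ f) :=
    Groth.Agent.UnibEtale.locallyQuasiFinite_of_formallyUnramified _
  exact ⟨IsFinite.of_isProper_of_locallyQuasiFinite _, hu⟩

end Groth.Agent.S14047
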