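import Groth.Statements.S14056
import Groth.Agent.SurfRR.Effective

set_option autoImplicit false
set_option linter.style.haveILetI false
set_option backward.isDefEq.respectTransparency false
set_option backward.isDefEq.respectTransparency.types false
universe u
open CategoryTheory CategoryTheory.Limits AlgebraicGeometry TopologicalSpace
open Surf

namespace Groth.Agent.S14056

open Groth.Agent
open Groth.Agent.H23.PicMul

/-- Let k be an algebraically closed field and X a smooth surface over k: an integral scheme, proper and
smooth over k, of dimension 2; let W be its canonical module, a second exterior power of Ω_{X/k}.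
For an invertible module L and an integral closed one-dimensional subscheme C ⊆ X write (L·C) =
χ(O_C ⊗ L) − χ(O_C). Suppose that X has non-negative Kodaira dimension, that is some tensor power
W^{⊗m} with m > 0 has a nonzero global section, and that X is minimal: it contains no (−1)-curve,
where a (−1)-curve is taken, through its numerical characterization, to be an integral closed
one-dimensional subscheme E with H¹(E, O_E) = 0 and (O_X(E)·E) = −1, O_X(E) being a tensor inverse
of the ideal sheaf of E. Then W is nef: (W·C) ≥ 0 for every integral closed one-dimensional C ⊆ X.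
(Together with the first assertion: under non-negative Kodaira dimension, X is minimal if and only
if W is nef.) -/
theorem result (k : Type u) [Field k] [IsAlgClosed k] (X : Scheme.{u})
    [X.Over (Spec (CommRingCat.of k))] [IsProper (X ↘ (Spec (CommRingCat.of k)))] [Smooth (X ↘ (Spec (CommRingCat.of k)))]
    [IsIntegral X] (hdim : topologicalKrullDim X = 2)
    (W : X.Modules) (hW : ExtPow.IsExtPow 2 (Omega.sheaf (X ↘ (Spec (CommRingCat.of k)))) W)
    (m : ℕ) (hm : 0 < m) (hsec : Nontrivial (Coh.HH X (CohB1.tensorPow W m) 0))
    (hmin : (∀ (E : X.IdealSheafData) (N : X.Modules), IsIntegral E.subscheme →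
      topologicalKrullDim (E.support : Set X) = 1 → ClSub.IsInverseOf N (ClSub.idealMod E) →
      Subsingleton (Coh.HH E.subscheme (Coh.structureModule E.subscheme) 1) →
      Curv2.euler k X (CohB1.tensorMod (ClSub.quotMod E) N) - Curv2.euler k X (ClSub.quotMod E) ≠ -1)) :
    (∀ C : X.IdealSheafData, IsIntegral C.subscheme → topologicalKrullDim (C.support : Set X) = 1 →
      0 ≤ Curv2.euler k X (CohB1.tensorMod (ClSub.quotMod C) W) - Curv2.euler k X (ClSub.quotMod C)) := by
  intro C hCi hCd
  haveI := hCi
  haveI := SurfStab.smoothOfRelativeDimension_two (k := k) hdim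
  have hWi : PicF.IsInvertible W := TopDiff.isInvertible_of_isExtPow
    (TopDiff.isFinLocFreeOfRank_omega (X ↘ Spec (CommRingCat.of k)) 2) hW
  have hI := Big.NegDef.invertible_of_curve k hdim hCi hCd
  have hd := Big.NegDef.dot_eq_euler k hdim hI hWi
  by_contra hneg
  have hIW : 0 < FGA.intNum k X 2 ![ClSub.idealMod C, W] (Coh.structureModule X) := by linarith
  have hWm := InvX.isInvertible_tensorPow hWi m
  have hIm : 0 < FGA.intNum k X 2 ![ClSub.idealMod C, CohB1.tensorPow W m] (Coh.structureModule X) := by
    rw [Big.NegDef.dot_symm k hdim hI hWm]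
    have h := Big.pair_pow k hdim.le hWi hI m
    rw [← Big.intNum_eq_pair k hdim.le hWm hI, ← Big.intNum_eq_pair k hdim.le hWi hI,
      Big.NegDef.dot_symm k hdim hWi hI] at h
    have h' : FGA.intNum k X 2 ![CohB1.tensorPow W m, ClSub.idealMod C] (Coh.structureModule X) =
        (m : ℤ) * FGA.intNum k X 2 ![ClSub.idealMod C, W] (Coh.structureModule X) := by exact_mod_cast h
    rw [h']
    exact mul_pos (by exact_mod_cast hm) hIW
  obtain ⟨H, hH⟩ := SurfRR.exists_isAmple k hdim
  have hII := SurfRR.selfInt_neg_of_section k hdim hCd ((S8914.result C).1 hI) hWm hsec hIm hH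
  obtain ⟨h1, -, h3⟩ := SurfRR.minusOne_of_neg k hdim hW hCd hIW hII
  obtain ⟨N, hN, ⟨e⟩⟩ := H23.PicInv.exists_inverse hI
  obtain ⟨e'⟩ : Nonempty (CohB1.tensorMod N (ClSub.idealMod C) ≅ Coh.structureModule X) := cl_eq_iff.1 (by
    rw [cl_tensor, mul_comm, Big.cl_mul_eq_one ⟨e⟩, H23.PicMul.one_def])
  exact hmin C N hCi hCd ⟨e'⟩ h3 ((SurfRR.deg_normal k hdim hI ⟨e'⟩).trans h1)

end Groth.Agent.S14056
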