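import Groth.Statements.S14057
import Groth.Agent.SurfRR.Effective

set_option autoImplicit false
set_option linter.style.haveILetI false
set_option backward.isDefEq.respectTransparency false
set_option backward.isDefEq.respectTransparency.types false
universe u
open CategoryTheory CategoryTheory.Limits AlgebraicGeometry TopologicalSpace
open Surf

namespace Groth.Agent.S14057

open Groth.Agent
open Groth.Agent.H23.PicMul

/-- Let k be an algebraically closed field and X a smooth surface over k: an integral scheme, proper and
smooth over k, of dimension 2; let W be its canonical module, a second exterior power of Ω_{X/k}.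
For an invertible module L and an integral closed one-dimensional subscheme C ⊆ X write (L·C) =
χ(O_C ⊗ L) − χ(O_C), and (W·W) for the self-intersection number of W (the alternating sum χ(O_X) −
2χ(W) + χ(W ⊗ W)). Suppose W is nef and (W·W) > 0. Then W is ample if and only if X contains no
(−2)-curve, where a (−2)-curve is taken, through its numerical characterization, to be an integral
closed one-dimensional subscheme E with H¹(E, O_E) = 0 and (O_X(E)·E) = −2, O_X(E) being a tensor
inverse of the ideal sheaf of E. (The published statement is for a minimal surface of general type;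
its proof uses exactly that the canonical module is nef with positive self-intersection, which is
how the hypothesis is written here.) -/
theorem result (k : Type u) [Field k] [IsAlgClosed k] (X : Scheme.{u})
    [X.Over (Spec (CommRingCat.of k))] [IsProper (X ↘ (Spec (CommRingCat.of k)))] [Smooth (X ↘ (Spec (CommRingCat.of k)))]
    [IsIntegral X] (hdim : topologicalKrullDim X = 2)
    (W : X.Modules) (hW : ExtPow.IsExtPow 2 (Omega.sheaf (X ↘ (Spec (CommRingCat.of k)))) W)
    (hnef : (∀ C : X.IdealSheafData, IsIntegral C.subscheme → topologicalKrullDim (C.support : Set X) = 1 →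
      0 ≤ Curv2.euler k X (CohB1.tensorMod (ClSub.quotMod C) W) - Curv2.euler k X (ClSub.quotMod C)))
    (hpos : 0 < FGA.intNum k X 2 ![W, W] (Coh.structureModule X)) :
    CohB1.IsAmple W ↔
    (∀ (E : X.IdealSheafData) (N : X.Modules), IsIntegral E.subscheme →
      topologicalKrullDim (E.support : Set X) = 1 → ClSub.IsInverseOf N (ClSub.idealMod E) →
      Subsingleton (Coh.HH E.subscheme (Coh.structureModule E.subscheme) 1) →
      Curv2.euler k X (CohB1.tensorMod (ClSub.quotMod E) N) - Curv2.euler k X (ClSub.quotMod E) ≠ -2) := by
  haveI := SurfStab.smoothOfRelativeDimension_two (k := k) hdim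
  have hWi : PicF.IsInvertible W := TopDiff.isInvertible_of_isExtPow
    (TopDiff.isFinLocFreeOfRank_omega (X ↘ Spec (CommRingCat.of k)) 2) hW
  obtain ⟨H, hH⟩ := SurfRR.exists_isAmple k hdim
  have hWW : 0 < Big.pair k W W := by
    rw [← Big.intNum_eq_pair k hdim.le hWi hWi]; exact_mod_cast hpos
  constructor
  · intro hA E N hEi hEd hN hH1 hcon
    haveI := hEi
    haveI := hH1
    have hI := Big.NegDef.invertible_of_curve k hdim hEi hEd
    have h1 := SurfRR.adjunction_curve k hdim hW hI
    have h2 : Curv2.euler k X (ClSub.quotMod E) = 1 := by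
      letI : E.subscheme.Over (Spec (CommRingCat.of k)) := ⟨E.subschemeι ≫ (X ↘ Spec (CommRingCat.of k))⟩
      rw [SurfRR.euler_quot_curve k hEd, Module.finrank_zero_of_subsingleton]
      simp
    have h3 := SurfRR.deg_normal k hdim hI hN
    have h4 := Big.NegDef.dot_ample_neg k hdim hI hEi hEd hA
    linarith
  · intro hno
    refine Big.RealForm.isAmple_of_surface k hdim hWi hWW fun Y ι hι hY hd => ?_
    obtain ⟨I, hIi, hId, hIe, -, hp⟩ := Big.exists_curve_ideal k hdim ι hd
    haveI := hIi
    have hI := Big.isInvertible_ideal hIe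
    have hdeg := hp W hWi
    have h1 := hnef I hIi hId
    have h2 := Big.NegDef.dot_eq_euler k hdim hI hWi
    have h3 : (FGA.intNum k X 2 ![ClSub.idealMod I, W] (Coh.structureModule X) : ℚ) = -Big.cdeg k ι W := by
      rw [Big.intNum_eq_pair k hdim.le hI hWi]; exact hdeg
    have h4 : FGA.intNum k X 2 ![ClSub.idealMod I, W] (Coh.structureModule X) ≤ 0 := by linarith
    rcases h4.lt_or_eq with h4 | h4
    · have : ((FGA.intNum k X 2 ![ClSub.idealMod I, W] (Coh.structureModule X) : ℤ) : ℚ) < 0 := by exact_mod_cast h4
      linarith
    · exfalso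
      have h5 : Big.pair k W (ClSub.idealMod I) = 0 := by
        rw [Big.pair_symm, ← Big.intNum_eq_pair k hdim.le hI hWi, h4, Int.cast_zero]
      have h6 : Big.pair k (ClSub.idealMod I) (ClSub.idealMod I) < 0 := by
        refine lt_of_le_of_ne (Big.pair_self_nonpos_of_orth k hdim hH hWi hI hWW h5) fun h => ?_
        have h7 := SurfRR.pair_eq_zero_of_orth k hdim hH hWi hI hWW h5 h.ge hH.1
        have h8 : (FGA.intNum k X 2 ![ClSub.idealMod I, H] (Coh.structureModule X) : ℚ) = 0 := by
          rw [Big.intNum_eq_pair k hdim.le hI hH.1]; exact h7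
        have h9 := Big.NegDef.dot_ample_neg k hdim hI hIi hId hH
        have : FGA.intNum k X 2 ![ClSub.idealMod I, H] (Coh.structureModule X) = 0 := by exact_mod_cast h8
        linarith
      rw [← Big.intNum_eq_pair k hdim.le hI hI] at h6
      have hII : FGA.intNum k X 2 ![ClSub.idealMod I, ClSub.idealMod I] (Coh.structureModule X) < 0 := by
        exact_mod_cast h6
      have hadj := SurfRR.adjunction_curve k hdim hW hI
      have hχ := SurfRR.euler_quot_curve k (X := X) (I := I) hId
      letI : I.subscheme.Over (Spec (CommRingCat.of k)) := ⟨I.subschemeι ≫ (X ↘ Spec (CommRingCat.of k))⟩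
      haveI : IsProper (I.subscheme ↘ Spec (CommRingCat.of k)) :=
        inferInstanceAs (IsProper (I.subschemeι ≫ (X ↘ Spec (CommRingCat.of k))))
      haveI : IsNoetherian I.subscheme := CurveCohLib.isNoetherian_of_proper (k := k)
      haveI := CurveCohLib.finite_HH (k := k) (QCoh.isCoh_structureModule' (X := I.subscheme)) 1
      obtain ⟨N, hN, ⟨e⟩⟩ := H23.PicInv.exists_inverse hI
      obtain ⟨e'⟩ : Nonempty (CohB1.tensorMod N (ClSub.idealMod I) ≅ Coh.structureModule X) := cl_eq_iff.1 (by
        rw [cl_tensor, mul_comm, Big.cl_mul_eq_one ⟨e⟩, H23.PicMul.one_def])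
      refine hno I N hIi hId ⟨e'⟩ ((Module.finrank_zero_iff (R := k)).1 (by omega)) ?_
      rw [SurfRR.deg_normal k hdim hI ⟨e'⟩]
      omega

end Groth.Agent.S14057
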