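import Groth.Statements.S14064
-- import your own Groth.Agent.* helpers here

import Groth.Agent.CanonDual.CurveOne
import Groth.Agent.S14808
import Groth.Agent.SheafHomX.Main
import Groth.Agent.GeomField.GlobalFunctions
import Groth.Agent.AmpleNeg.Basic
import Groth.Agent.CanonDual.H1Crit

set_option backward.isDefEq.respectTransparency false
set_option backward.isDefEq.respectTransparency.types false
set_option autoImplicit false
universe u
open CategoryTheory CategoryTheory.Limits AlgebraicGeometry TopologicalSpace
open Surf

namespace Groth.Agent.S14064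

/-- Fix a field k, an integral proper k-scheme X, and an invertible O_X-module L with tensor inverse M.
Suppose that L^{⊗j} has a nonzero global section for every j ≥ 4 and that no tensor power L^{⊗j}
with j ≥ 1 is isomorphic to O_X. Then H⁰(X, M^{⊗i}) = 0 for every i ≥ 1: the negative powers of L
have no nonzero global sections. (The published statement is for the canonical module of a minimal
surface of general type over an algebraically closed field, where the fourth and higher powers are
globally generated by a deep result quoted without proof, and non-triviality of the positive powers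
comes from bigness; the published deduction of this part uses exactly the two hypotheses carried
here, on an integral proper X.) -/
theorem result (k : Type u) [Field k]
    (X : Scheme.{u}) [X.Over (Spec (CommRingCat.of k))] [IsProper (X ↘ (Spec (CommRingCat.of k)))] [IsIntegral X]
    (L M : X.Modules) (hL : PicF.IsInvertible L) (hM : ClSub.IsInverseOf M L)
    (hsec : ∀ j : ℕ, 4 ≤ j → Nontrivial (Coh.HH X (CohB1.tensorPow L j) 0))
    (hnt : ∀ j : ℕ, 1 ≤ j → IsEmpty (CohB1.tensorPow L j ≅ Coh.structureModule X))
    (i : ℕ) (hi : 1 ≤ i) :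
    Subsingleton (Coh.HH X (CohB1.tensorPow M i) 0) := by
  open Groth.Agent.H23.PicMul in
  rw [← not_nontrivial_iff_subsingleton]
  intro hn
  haveI := Groth.Agent.CurveCohLib.isNoetherian_of_proper (k := k) (X := X)
  have hMi : PicF.IsInvertible M := by
    exact Groth.Agent.AmpleNeg.isInvertible_inverse hL ⟨(Groth.Agent.H23.PicMul.comm L M).some ≪≫ hM.some⟩
  have hP := Groth.Agent.InvX.isInvertible_tensorPow hMi i
  obtain ⟨h, hh⟩ := exists_ne (0 : Coh.HH X (CohB1.tensorPow M i) 0)
  obtain ⟨s, rfl⟩ := Groth.Agent.SheafHomX.cls_surjective h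
  have hs : s ≠ 0 := by
    rintro rfl
    exact hh (map_zero (Sheaf.H.equiv₀ (Coh.toAb (CohB1.tensorPow M i)) Limits.isTerminalTop).symm)
  have hη : Function.Surjective ((DerSch.stalkFunctor X (genericPoint X)).map s) := by
    obtain ⟨e₁⟩ := Groth.Agent.H23.InvStalk.exists_stalk_equiv hP (genericPoint X)
    obtain ⟨w, hw⟩ : ∃ w, ((DerSch.stalkFunctor X (genericPoint X)).map s).hom w ≠ 0 := by
      by_contra hall
      push_neg at hall
      refine hs (Groth.Agent.TFQuot.hom_eq_zero (ProjUPX.isQCoh_of_isInvertible hP)
        (Groth.Agent.CanonDual.torsionFree_invertible hP) s fun η hη v => ?_)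
      have hη' : closure ({η} : Set X) = Set.univ := by
        have := hη
        rw [genericPoints, Set.mem_ofPred_eq, irreducibleComponents_eq_singleton] at this
        exact this
      obtain rfl : η = genericPoint X := IsGenericPoint.eq (show IsGenericPoint η Set.univ from hη') (genericPoint_spec X)
      exact hall v
    exact Groth.Agent.CanonDual.surjective_of_field
      (Groth.Agent.TFQuot.isField_stalk_generic (show genericPoint X ∈ genericPoints X from by
        rw [genericPoints, Set.mem_ofPred_eq, irreducibleComponents_eq_singleton]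
        first | exact genericPoint_spec X | simp [(genericPoint_spec X).def])) e₁ _ hw
  let P := Groth.Agent.H23.InvStalk.powSec s 4
  have hP0 : P ≠ 0 := by
    intro h2
    obtain ⟨e⟩ := Groth.Agent.H23.InvStalk.exists_stalk_equiv_pow hP (genericPoint X) 4
    obtain ⟨y, hy⟩ := Groth.Agent.H23.InvStalk.powSec_surjective hP s (genericPoint X) hη 4 (e.symm 1)
    change (DerSch.stalkFunctor X (genericPoint X)).map P y = _ at hy
    rw [h2, Functor.map_zero] at hy
    have h3 := congrArg e hy
    rw [LinearEquiv.apply_symm_apply] at h3
    exact one_ne_zero (h3.symm.trans (map_zero e))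
  have hLi := Groth.Agent.InvX.isInvertible_tensorPow hL (4 * i)
  obtain ⟨eLM⟩ : Nonempty (CohB1.tensorMod (CohB1.tensorPow L (4 * i))
      (CohB1.tensorPow (CohB1.tensorPow M i) 4) ≅ Coh.structureModule X) := by
    rw [← Groth.Agent.H23.PicMul.cl_eq_iff, Groth.Agent.H23.PicMul.cl_tensor,
      Groth.Agent.H23.PicMul.cl_tensorPow, Groth.Agent.H23.PicMul.cl_tensorPow,
      Groth.Agent.H23.PicMul.cl_tensorPow, ← pow_mul, mul_comm i 4, ← mul_pow,
      ← Groth.Agent.H23.PicMul.cl_tensor,
      (Groth.Agent.H23.PicMul.cl_eq_iff).2 (show Nonempty (CohB1.tensorMod L M ≅ Coh.structureModule X) from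
        ⟨(Groth.Agent.H23.PicMul.comm L M).some ≪≫ hM.some⟩), ← Groth.Agent.H23.PicMul.one_def, one_pow]
  obtain ⟨q, hq⟩ := Groth.Agent.CanonDual.exists_hom_of_section hLi eLM P hP0
  haveI := hsec (4 * i) (by omega)
  obtain ⟨h', hh'⟩ := exists_ne (0 : Coh.HH X (CohB1.tensorPow L (4 * i)) 0)
  obtain ⟨t, rfl⟩ := Groth.Agent.SheafHomX.cls_surjective h'
  obtain ⟨e⟩ := Groth.Agent.S14808.result X (Groth.Agent.GeomField.isField_globalFunctions k X)
    (CohB1.tensorPow L (4 * i)) hLi t (fun h0 => hh' (by
      subst h0
      exact map_zero (Sheaf.H.equiv₀ (Coh.toAb (CohB1.tensorPow L (4 * i))) Limits.isTerminalTop).symm)) q hq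
  exact (hnt (4 * i) (by omega)).false e

end Groth.Agent.S14064
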