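import Groth.Statements.S14078
import Groth.Agent.S1353

set_option linter.style.haveILetI false
set_option backward.isDefEq.respectTransparency false
set_option backward.isDefEq.respectTransparency.types false


set_option autoImplicit false
open CategoryTheory CategoryTheory.Limits AlgebraicGeometry
universe u
open FamCyc

namespace Groth.Agent.S14078

/-- Let f : X ⟶ S be a morphism of schemes locally of finite type, i : Z ⟶ X an immersion such that Z ⟶
S is locally quasi-finite, and z a point of Z. Then there are an étale morphism g : T ⟶ S and an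
open subscheme U of X ×_S T such that the preimage U ×_X Z of Z in U is finite over T and contains a
point u over z whose residue field extension κ(z) → κ(u) is an isomorphism, u being moreover the
only point of U ×_X Z in its fibre over T. (The published statement covers algebraic spaces X, with
U ⟶ X ×_S T étale in general and an open subspace when X is a scheme; this row is the scheme case.) -/
theorem result {Z X S : Scheme.{u}} (f : X ⟶ S)
    [LocallyOfFiniteType f] (i : Z ⟶ X) [IsImmersion i] [LocallyQuasiFinite (i ≫ f)] (z : Z) :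
    ∃ (T : Scheme.{u}) (g : T ⟶ S) (U : (pullback f g).Opens)
      (u : ↥(pullback (U.ι ≫ pullback.fst f g) i)),
      Etale g ∧
      IsFinite (pullback.fst (U.ι ≫ pullback.fst f g) i ≫ U.ι ≫ pullback.snd f g) ∧
      (pullback.snd (U.ι ≫ pullback.fst f g) i).base u = z ∧
      IsIso ((pullback.snd (U.ι ≫ pullback.fst f g) i).residueFieldMap u) ∧
      ∀ u' : ↥(pullback (U.ι ≫ pullback.fst f g) i),
        (pullback.fst (U.ι ≫ pullback.fst f g) i ≫ U.ι ≫ pullback.snd f g).base u' =
          (pullback.fst (U.ι ≫ pullback.fst f g) i ≫ U.ι ≫ pullback.snd f g).base u → u' = u := by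
  haveI : LocallyOfFiniteType (i ≫ f) := inferInstance
  obtain ⟨T, g, t₀, ⟨het, -, -⟩, V, v, hvV, hfin, hvt, huniq, hvz, hres⟩ :=
    Groth.Agent.S1353.result (i ≫ f) z (Scheme.Hom.quasiFiniteAt _ z)
  let p1 := pullback.fst (i ≫ f) g
  let j : pullback (i ≫ f) g ⟶ pullback f g :=
    pullback.lift (p1 ≫ i) (pullback.snd (i ≫ f) g) (by rw [Category.assoc, pullback.condition])
  have hsq : IsPullback j p1 (pullback.fst f g) i := by
    refine IsPullback.of_right ?_ (pullback.lift_fst _ _ _) (IsPullback.of_hasPullback f g).flip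
    rw [pullback.lift_snd]
    exact (IsPullback.of_hasPullback (i ≫ f) g).flip
  haveI : IsImmersion j := MorphismProperty.of_isPullback (P := @IsImmersion) hsq.flip inferInstance
  obtain ⟨O, hO, hOV⟩ := j.isEmbedding.isInducing.isOpen_iff.1 V.isOpen
  let U : (pullback f g).Opens := ⟨O, hO⟩
  obtain rfl : V = j ⁻¹ᵁ U := TopologicalSpace.Opens.ext hOV.symm
  have hPV : IsPullback (j ∣_ U) ((j ⁻¹ᵁ U).ι ≫ p1) (U.ι ≫ pullback.fst f g) i :=
    (isPullback_morphismRestrict j U).paste_vert hsq
  let e := hPV.isoPullback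
  have he1 : e.hom ≫ pullback.fst _ _ = j ∣_ U := hPV.isoPullback_hom_fst
  have he2 : e.hom ≫ pullback.snd _ _ = (j ⁻¹ᵁ U).ι ≫ p1 := hPV.isoPullback_hom_snd
  have hpi : pullback.fst (U.ι ≫ pullback.fst f g) i ≫ U.ι ≫ pullback.snd f g =
      e.inv ≫ (j ⁻¹ᵁ U).ι ≫ pullback.snd (i ≫ f) g := by
    rw [Iso.eq_inv_comp, reassoc_of% he1, ← Category.assoc, morphismRestrict_ι, Category.assoc,
      pullback.lift_snd]
  refine ⟨T, g, U, e.hom ⟨v, hvV⟩, het, ?_, ?_, ?_, fun u' hu' => ?_⟩
  · rw [hpi]; infer_instance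
  · rw [← Scheme.Hom.comp_apply, he2]; exact hvz
  · haveI : IsIso (p1.residueFieldMap v) := (ConcreteCategory.isIso_iff_bijective _).2 hres
    haveI h1 : IsIso (((j ⁻¹ᵁ U).ι ≫ p1).residueFieldMap ⟨v, hvV⟩) := by
      rw [Scheme.residueFieldMap_comp]
      haveI : IsIso (p1.residueFieldMap ((j ⁻¹ᵁ U).ι ⟨v, hvV⟩)) :=
        (ConcreteCategory.isIso_iff_bijective _).2 hres
      infer_instance
    have h2 : IsIso ((e.hom ≫ pullback.snd _ _).residueFieldMap ⟨v, hvV⟩) := by
      rw [he2]; exact h1
    rw [Scheme.residueFieldMap_comp] at h2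
    exact IsIso.of_isIso_comp_right _ (e.hom.residueFieldMap ⟨v, hvV⟩)
  · obtain ⟨w, rfl⟩ : ∃ w, e.hom w = u' := ⟨e.inv u', by rw [← Scheme.Hom.comp_apply, Iso.inv_hom_id]; rfl⟩
    rw [hpi] at hu'
    simp only [← Scheme.Hom.comp_apply, Iso.hom_inv_id_assoc] at hu'
    obtain rfl : w = ⟨v, hvV⟩ := Subtype.ext (huniq _ w.2 ((show _ = _ from hu').trans hvt))
    rfl
end Groth.Agent.S14078
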