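import Groth.Statements.S14092
import Groth.Agent.FibDimOne.Nef

set_option autoImplicit false
universe u
open CategoryTheory CategoryTheory.Limits AlgebraicGeometry TopologicalSpace
open Curv2

namespace Groth.Agent.S14092

/-- Fix an algebraically closed field k and a genus-0 nodal curve Z over k (connected, reduced, proper,
one-dimensional, at-worst-nodal singularities, h^1(O_Z) = 0) and L an invertible O_Z-module whose
pullback to every irreducible component (integral closed subscheme of dimension one) has
non-negative degree. Then L is generated by global sections and H^1(Z, L) = 0. (The published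
statement also includes converse and weaker implications — a section vanishing identically on no
component forces non-negative degrees, and global generation is equivalent to non-negative degrees;
only the two implications from non-negative degrees are asserted here.) -/
theorem result (k : Type u) [Field k] [IsAlgClosed k]
    (Z : Scheme.{u}) [Z.Over (Spec (CommRingCat.of k))] [IsProper (Z ↘ (Spec (CommRingCat.of k)))] [IsReduced Z]
    [ConnectedSpace Z] (hdim : topologicalKrullDim Z = 1) (hnod : Curv2.AtWorstNodal k Z)
    (hg : Curv2.genus k Z = 0) (L : Z.Modules) (hL : PicF.IsInvertible L)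
    (hdeg : ∀ C : Z.IdealSheafData, IsIntegral C.subscheme → topologicalKrullDim (C.support : Set Z) = 1 →
      0 ≤ @Curv2.deg k _ C.subscheme ⟨C.subschemeι ≫ (Z ↘ Spec (CommRingCat.of k))⟩
        ((Scheme.Modules.pullback C.subschemeι).obj L) 1) :
    Curv2.IsGloballyGenerated L ∧ Subsingleton (Coh.HH Z L 1) := by
  let f := Z ↘ Spec (CommRingCat.of k)
  haveI : IsProper f := ‹_›
  haveI := LocallyOfFiniteType.isLocallyNoetherian (Z ↘ Spec (CommRingCat.of k))
  haveI : Module.Finite k (Coh.HH Z (Coh.structureModule Z) 1) :=
    Groth.Agent.CurveCohLib.finite_HH Groth.Agent.QCoh.isCoh_structureModule' 1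
  have h1 : Subsingleton (Coh.HH Z (Coh.structureModule Z) 1) := Module.finrank_zero_iff.1 hg
  have hfib : ∀ y, topologicalKrullDim ↥((Z ↘ Spec (CommRingCat.of k)).fiber y) ≤ 1 := fun y =>
    ((Z ↘ Spec (CommRingCat.of k)).fiberι y).isEmbedding.isInducing.topologicalKrullDim_le.trans hdim.le
  have hC : Groth.Agent.CurveReg.Cover L := by
    refine Groth.Agent.CurveReg.cover_of_nef k hdim.le h1 hL fun J hJ hd => ?_
    refine hdeg J hJ ?_
    rw [← hd]
    have h := J.subschemeι.isEmbedding
    rw [← J.range_subschemeι]
    exact IsHomeomorph.topologicalKrullDim_eq _ h.toHomeomorph.symm.isHomeomorph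
  have hc : ∀ m : Ideal k, m.IsMaximal →
      Groth.Agent.CurveReg.Cover ((Scheme.Modules.pullback (Groth.Agent.FibDimOne.inc Z m)).obj L) :=
    fun m _ => hC.pullback _ hL
  exact ⟨Groth.Agent.FibDimOne.isGloballyGenerated hfib h1 hL hc,
    Groth.Agent.FibDimOne.subsingleton_h1 hfib h1 hL hc
      (Groth.Agent.CurveDeg.isCoh_of_isInvertible hL) (𝟙 L)⟩

end Groth.Agent.S14092
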