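import Groth.Statements.S14104
import Groth.Agent.Triage.CMMor
import Groth.Agent.Alg6.AssDepth
import Groth.Agent.S5774

set_option autoImplicit false
set_option linter.style.haveILetI false
set_option backward.isDefEq.respectTransparency false
set_option backward.isDefEq.respectTransparency.types false
universe u
open CategoryTheory CategoryTheory.Limits AlgebraicGeometry Opposite TopologicalSpace
open CInt

namespace Groth.Agent.S14104

open IsLocalRing RingTheory.Sequence in
/-- The depth of a flat local algebra is at least the depth of its closed fibre. -/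
theorem depth_fibre_le {A B F : Type u} [CommRing A] [CommRing B] [IsLocalRing A] [IsLocalRing B]
    [IsNoetherianRing A] [IsNoetherianRing B] [CommRing F] [IsLocalRing F] (φ : A →+* B) [IsLocalHom φ]
    (hflat : φ.Flat) (e : (B ⧸ (maximalIdeal A).map φ) ≃+* F) (d : ℕ) (h : (d : ℕ∞) ≤ LocCoh.depth F F) :
    (d : ℕ∞) ≤ LocCoh.depth B B := by
  letI := φ.toAlgebra
  haveI : IsLocalHom (algebraMap A B) := ‹IsLocalHom φ›
  haveI : Module.Flat A B := hflat
  let J := (maximalIdeal A).map φ
  let ψ : B →+* F := (e : _ →+* F).comp (Ideal.Quotient.mk J)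
  have hψ : Function.Surjective ψ := e.surjective.comp Ideal.Quotient.mk_surjective
  haveI : IsLocalHom ψ := IsLocalHom.of_surjective ψ hψ
  have hne : maximalIdeal F • (⊤ : Submodule F F) ≠ ⊤ := by
    rw [Ideal.smul_eq_mul, Ideal.mul_top]
    exact (maximalIdeal.isMaximal F).ne_top
  obtain ⟨rs, hrs, hmem, hlen⟩ := Groth.Agent.Alg6.exists_length_ge_of_le_idealDepth hne h
  obtain ⟨bs, rfl⟩ : ∃ bs : List B, bs.map ψ = rs := List.map_surjective_iff.2 hψ rs
  rw [List.length_map] at hlen
  let N := B ⧸ ((maximalIdeal A).map (algebraMap A B) • (⊤ : Submodule B B))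
  have heq : ((maximalIdeal A).map (algebraMap A B) • (⊤ : Submodule B B) : Submodule B B) = J := by
    rw [Ideal.smul_eq_mul, Ideal.mul_top]
    rfl
  let ε : N ≃+ F := (Submodule.quotEquivOfEq _ (J : Submodule B B) heq).toAddEquiv.trans e.toAddEquiv
  have hN : IsWeaklyRegular N bs := by
    refine (AddEquiv.isWeaklyRegular_congr (e := ε) (as := bs) (bs := bs.map ψ) ?_).2 hrs
    refine List.forall₂_map_right_iff.2 (List.forall₂_same.2 fun b _ z => ?_)
    obtain ⟨z, rfl⟩ := Submodule.mkQ_surjective _ z
    show e (Ideal.Quotient.mk J (b * z)) = ψ b * e (Ideal.Quotient.mk J z)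
    rw [map_mul, map_mul]
    rfl
  have hB := (Groth.Agent.S5774.result A B B bs hN).1
  refine (Nat.cast_le.2 hlen).trans (Groth.Agent.Alg6.length_le_idealDepth hB fun b hb hu => ?_)
  exact hmem (ψ b) (List.mem_map_of_mem hb) (hu.map ψ)

/-- Let f : X → S be a flat morphism of locally Noetherian schemes, Y a closed subset of X and d a
natural number. If for every point y of Y the local ring at y of the fibre of f through y has depth
at least d (the depth of O_{X_s} along Y_s is at least d for every s), then for every y ∈ Y the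
local ring O_{X,y} has depth at least d (the depth of O_X along Y is at least d). -/
theorem result {X S : Scheme.{u}} [IsLocallyNoetherian X] [IsLocallyNoetherian S]
    (f : X ⟶ S) [Flat f] (Y : Set ↥X) (hY : IsClosed Y) (d : ℕ)
    (h : ∀ y : ↥X, y ∈ Y → (d : ℕ∞) ≤ LocCoh.depth ↑(CInt.fiberStalk f y) ↑(CInt.fiberStalk f y)) :
    ∀ y : ↥X, y ∈ Y → (d : ℕ∞) ≤ LocCoh.depth ↑(X.presheaf.stalk y) ↑(X.presheaf.stalk y) := by
  intro y hy
  obtain ⟨e⟩ := Groth.Agent.Triage.CMMor.exists_equiv_fibre_stalk f y
  exact depth_fibre_le (f.stalkMap y).hom (Flat.stalkMap f y) e d (h y hy)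

end Groth.Agent.S14104
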