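import Groth.Statements.S14105
import Groth.Agent.Triage.CMMor
import Groth.Agent.H23.Isogeny
import Groth.Agent.GeomField.Irreducible
import Groth.Agent.DimFormula.Codim

set_option autoImplicit false
set_option linter.style.haveILetI false
set_option backward.isDefEq.respectTransparency false
set_option backward.isDefEq.respectTransparency.types false
universe u
open CategoryTheory CategoryTheory.Limits AlgebraicGeometry Opposite TopologicalSpace
open CInt

namespace Groth.Agent.S14105

theorem iInf_compare {α β : Type*} {L : Type*} [CompleteLattice L] (p : α → β) (a : β → L) (b : α → L) (Y : Set β)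
    (h1 : ∀ x, a (p x) ≤ b x) (h2 : ∀ x, ∃ x', p x' = p x ∧ b x' = a (p x)) :
    ((⨅ y : Y, a y.1) ≤ ⨅ y' : p ⁻¹' Y, b y'.1) ∧ (Y ⊆ Set.range p → (⨅ y' : p ⁻¹' Y, b y'.1) = ⨅ y : Y, a y.1) := by
  have h : (⨅ y : Y, a y.1) ≤ ⨅ y' : p ⁻¹' Y, b y'.1 :=
    le_iInf fun y' => (iInf_le (fun y : Y => a y.1) ⟨p y'.1, y'.2⟩).trans (h1 y'.1)
  refine ⟨h, fun hsurj => le_antisymm (le_iInf fun y => ?_) h⟩
  obtain ⟨x', hx'⟩ := hsurj y.2
  obtain ⟨x'', hp, hd⟩ := h2 x'
  refine (iInf_le (fun y' : p ⁻¹' Y => b y'.1) ⟨x'', show p x'' ∈ Y by rw [hp, hx']; exact y.2⟩).trans ?_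
  rw [hd, hx']

section

open IsLocalRing CategoryTheory CategoryTheory.Limits

/-- The dimension of a fibre stalk is read off at any presentation of the point. -/
theorem dim_fibre_stalk {A B : Scheme.{u}} (f : A ⟶ B) (y : A) (s : B) (hs : f y = s) (w : ↥(f.fiber s))
    (hw : f.fiberι s w = y) :
    ringKrullDim ↑((f.fiber s).presheaf.stalk w) = ringKrullDim ↑(CInt.fiberStalk f y) := by
  subst hs
  obtain rfl : w = f.asFiber y := (f.fiberι (f y)).isEmbedding.injective (hw.trans (f.fiberι_asFiber y).symm)
  rfl

theorem isNoetherianRing_fibre_stalk {A B : Scheme.{u}} [IsLocallyNoetherian A] (f : A ⟶ B) (s : B)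
    (w : ↥(f.fiber s)) : IsNoetherianRing ↑((f.fiber s).presheaf.stalk w) := by
  obtain ⟨e⟩ := Groth.Agent.Triage.CMMor.exists_equiv_fibre_stalk_aux f (f.fiberι s w) s
    (by
      have : f.fiberι s w ∈ Set.range (f.fiberι s) := ⟨w, rfl⟩
      rwa [Scheme.Hom.range_fiberι] at this) w rfl
  exact isNoetherianRing_of_ringEquiv _ e

variable {X S S' : Scheme.{u}} (f : X ⟶ S) (g : S' ⟶ S) [IsLocallyNoetherian X]
  [IsLocallyNoetherian (pullback f g)]

/-- The map of fibres along a base change. -/
noncomputable def fibBC (s' : S') : (pullback.snd f g).fiber s' ⟶ f.fiber (g s') :=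
  pullback.lift ((pullback.snd f g).fiberι s' ≫ pullback.fst f g)
    ((pullback.snd f g).fiberToSpecResidueField s' ≫ Spec.map (g.residueFieldMap s'))
    (by
      rw [Category.assoc, Category.assoc, pullback.condition, Scheme.Hom.SpecMap_residueFieldMap_fromSpecResidueField,
        ← Category.assoc, ← Category.assoc]
      congr 1
      exact pullback.condition)

theorem fibBC_ι (s' : S') :
    fibBC f g s' ≫ f.fiberι (g s') = (pullback.snd f g).fiberι s' ≫ pullback.fst f g :=
  pullback.lift_fst _ _ _

theorem fibBC_toSpec (s' : S') :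
    fibBC f g s' ≫ f.fiberToSpecResidueField (g s') =
      (pullback.snd f g).fiberToSpecResidueField s' ≫ Spec.map (g.residueFieldMap s') :=
  pullback.lift_snd _ _ _

theorem isPullback_fibBC (s' : S') :
    IsPullback (fibBC f g s') ((pullback.snd f g).fiberToSpecResidueField s')
      (f.fiberToSpecResidueField (g s')) (Spec.map (g.residueFieldMap s')) := by
  refine IsPullback.of_right ?_ (fibBC_toSpec f g s') (IsPullback.of_hasPullback f (S.fromSpecResidueField (g s')))
  rw [show fibBC f g s' ≫ pullback.fst f (S.fromSpecResidueField (g s')) =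
      (pullback.snd f g).fiberι s' ≫ pullback.fst f g from fibBC_ι f g s',
    Scheme.Hom.SpecMap_residueFieldMap_fromSpecResidueField]
  exact (IsPullback.of_hasPullback (pullback.snd f g) (S'.fromSpecResidueField s')).paste_horiz
    (IsPullback.of_hasPullback f g)

theorem flat_fibBC (s' : S') : Flat (fibBC f g s') := by
  letI := (g.residueFieldMap s').hom.toAlgebra
  haveI : Flat (Spec.map (g.residueFieldMap s')) := by
    rw [HasRingHomProperty.Spec_iff (P := @Flat)]
    exact (inferInstance : Module.Flat (S.residueField (g s')) (S'.residueField s'))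
  exact MorphismProperty.of_isPullback (isPullback_fibBC f g s').flip inferInstance

omit [IsLocallyNoetherian X] [IsLocallyNoetherian (pullback f g)] in
theorem fiber_apply (s : S) (w : ↥(f.fiber s)) : f (f.fiberι s w) = s := by
  have : f.fiberι s w ∈ Set.range (f.fiberι s) := ⟨w, rfl⟩
  rwa [Scheme.Hom.range_fiberι] at this

theorem le_dim (x' : ↥(pullback f g)) :
    ringKrullDim ↑(CInt.fiberStalk f (pullback.fst f g x')) ≤ ringKrullDim ↑(CInt.fiberStalk (pullback.snd f g) x') := by
  let q := pullback.snd f g
  let s' := q x'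
  let z := q.asFiber x'
  haveI := flat_fibBC f g s'
  haveI := isNoetherianRing_fibre_stalk f (g s') (fibBC f g s' z)
  haveI := isNoetherianRing_fibre_stalk q s' z
  have hι : f.fiberι (g s') (fibBC f g s' z) = pullback.fst f g x' := by
    show (fibBC f g s' ≫ f.fiberι (g s')) z = _
    rw [fibBC_ι, Scheme.Hom.comp_apply]
    exact congrArg (pullback.fst f g) (q.fiberι_asFiber x')
  have hs : f (pullback.fst f g x') = g s' := by
    show (pullback.fst f g ≫ f) x' = (pullback.snd f g ≫ g) x'
    rw [pullback.condition]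
  rw [← dim_fibre_stalk f _ (g s') hs _ hι]
  exact Groth.Agent.H23.Isogeny.ringKrullDim_le_of_flat ((fibBC f g s').stalkMap z).hom (Flat.stalkMap _ z)

theorem exists_dim_eq (x' : ↥(pullback f g)) : ∃ x'' : ↥(pullback f g), pullback.fst f g x'' = pullback.fst f g x' ∧
    ringKrullDim ↑(CInt.fiberStalk (pullback.snd f g) x'') = ringKrullDim ↑(CInt.fiberStalk f (pullback.fst f g x')) := by
  let q := pullback.snd f g
  let s' := q x'
  let h := fibBC f g s'
  haveI := flat_fibBC f g s'
  let w := h (q.asFiber x')
  obtain ⟨η, -, hmax, -⟩ := Groth.Agent.GeomField.exists_maximal_component (h.asFiber (q.asFiber x'))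
  let z := h.fiberι w η
  have hz : h z = w := fiber_apply h w η
  let x'' := q.fiberι s' z
  have hq : q x'' = s' := fiber_apply q s' z
  have hι : f.fiberι (g s') w = pullback.fst f g x' := by
    show (fibBC f g s' ≫ f.fiberι (g s')) (q.asFiber x') = _
    rw [fibBC_ι, Scheme.Hom.comp_apply]
    exact congrArg (pullback.fst f g) (q.fiberι_asFiber x')
  have hp : pullback.fst f g x'' = pullback.fst f g x' := by
    rw [← hι, ← hz]
    exact congr($((fibBC_ι f g s').symm).base z)
  refine ⟨x'', hp, ?_⟩
  have hs : f (pullback.fst f g x') = g s' := by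
    show (pullback.fst f g ≫ f) x' = (pullback.snd f g ≫ g) x'
    rw [pullback.condition]
  rw [← dim_fibre_stalk q x'' s' hq z rfl, ← dim_fibre_stalk f _ (g s') hs _ hι]
  haveI := isNoetherianRing_fibre_stalk f (g s') w
  haveI := isNoetherianRing_fibre_stalk q s' z
  haveI := isNoetherianRing_fibre_stalk f (g s') (h z)
  obtain ⟨e⟩ := Groth.Agent.Triage.CMMor.exists_equiv_fibre_stalk h z
  let φ := (h.stalkMap z).hom
  let C := (q.fiber s').presheaf.stalk z
  have h0 : ringKrullDim (↑C ⧸ (maximalIdeal ((f.fiber (g s')).presheaf.stalk (h z))).map φ) = 0 := by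
    rw [ringKrullDim_eq_of_ringEquiv e]
    have hη : ∀ y, y ⤳ h.asFiber z → y = h.asFiber z := by
      intro y hy
      refine (h.fiberι (h z)).isEmbedding.injective ?_
      obtain ⟨y₀, hy₀⟩ : h.fiberι (h z) y ∈ Set.range (h.fiberι w) := by
        rw [Scheme.Hom.range_fiberι]
        exact (fiber_apply h (h z) y).trans hz
      have h1 : y₀ ⤳ η := by
        rw [← (h.fiberι w).isEmbedding.isInducing.specializes_iff, hy₀]
        have h2 := hy.map (h.fiberι (h z)).continuous
        rwa [Scheme.Hom.fiberι_asFiber] at h2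
      rw [← hy₀, hmax y₀ h1, Scheme.Hom.fiberι_asFiber]
    rw [ringKrullDim_stalk_eq_coheight]
    have hm : IsMax (h.asFiber z) := fun y hy => (hη y hy).le
    rw [Order.coheight_eq_zero.2 hm]
    rfl
  have key : ringKrullDim C = ringKrullDim ((f.fiber (g s')).presheaf.stalk (h z)) := by
    letI := φ.toAlgebra
    haveI : Module.Flat ((f.fiber (g s')).presheaf.stalk (h z)) C := Flat.stalkMap h z
    let m := maximalIdeal ((f.fiber (g s')).presheaf.stalk (h z))
    haveI : (maximalIdeal C).LiesOver m := ⟨(maximalIdeal_comap φ).symm⟩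
    rw [← maximalIdeal_height_eq_ringKrullDim, ← maximalIdeal_height_eq_ringKrullDim,
      Ideal.height_eq_height_add_of_liesOver_of_hasGoingDown m (maximalIdeal C)]
    have hle : m.map (algebraMap _ C) ≤ maximalIdeal C :=
      Ideal.map_le_iff_le_comap.2 (maximalIdeal_comap φ).ge
    haveI : Nontrivial (↑C ⧸ m.map (algebraMap _ C)) :=
      Ideal.Quotient.nontrivial_iff.2 fun h => (maximalIdeal.isMaximal (C : Type u)).ne_top (top_le_iff.1 (h.ge.trans hle))
    haveI : IsLocalRing (↑C ⧸ m.map (algebraMap _ C)) := IsLocalRing.of_surjective' _ Ideal.Quotient.mk_surjective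
    haveI : ((maximalIdeal C).map (Ideal.Quotient.mk (m.map (algebraMap _ C)))).IsMaximal :=
      ((Ideal.map_eq_top_or_isMaximal_of_surjective _ Ideal.Quotient.mk_surjective inferInstance).resolve_left fun h => by
        have h' := congrArg (Ideal.comap (Ideal.Quotient.mk (m.map (algebraMap _ C)))) h
        rw [Ideal.comap_map_of_surjective _ Ideal.Quotient.mk_surjective, Ideal.comap_top, ← RingHom.ker_eq_comap_bot,
          Ideal.mk_ker, sup_eq_left.2 hle] at h'
        exact (maximalIdeal.isMaximal (C : Type u)).ne_top h')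
    have h1 : (((maximalIdeal C).map (Ideal.Quotient.mk (m.map (algebraMap _ C)))).height : WithBot ℕ∞) = 0 := by
      rw [IsLocalRing.eq_maximalIdeal this, maximalIdeal_height_eq_ringKrullDim]
      exact h0
    rw [WithBot.coe_add, h1, add_zero]
  rw [key]
  exact congrArg (fun v => ringKrullDim ↑((f.fiber (g s')).presheaf.stalk v)) hz

end

/-- Let f : X → S be a morphism and g : S' → S a base change, with X, S, S' and X' = X ×_S S' locally
Noetherian, and let Y be a closed subset of X with preimage Y' under the projection X' → X. Writing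
the codimension of a closed subset relative to a morphism as the infimum, over its points, of the
Krull dimension of the local ring of the fibre through that point: the codimension of Y' relative to
X' → S' is at least the codimension of Y relative to f, and the two are equal when the projection X'
→ X maps Y' onto Y. -/
theorem result {X S S' : Scheme.{u}} (f : X ⟶ S) (g : S' ⟶ S)
    [IsLocallyNoetherian X] [IsLocallyNoetherian S] [IsLocallyNoetherian S']
    [IsLocallyNoetherian (pullback f g)] (Y : Set ↥X) (hY : IsClosed Y) :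
    ((⨅ y : Y, ringKrullDim ↑(CInt.fiberStalk f y.1)) ≤
      ⨅ y' : (fun x' => (pullback.fst f g) x') ⁻¹' Y,
        ringKrullDim ↑(CInt.fiberStalk (pullback.snd f g) y'.1)) ∧
    (Y ⊆ Set.range (pullback.fst f g).base →
      (⨅ y' : (fun x' => (pullback.fst f g) x') ⁻¹' Y,
        ringKrullDim ↑(CInt.fiberStalk (pullback.snd f g) y'.1)) =
        ⨅ y : Y, ringKrullDim ↑(CInt.fiberStalk f y.1)) := by
  exact iInf_compare (pullback.fst f g) (fun y => ringKrullDim ↑(CInt.fiberStalk f y))
    (fun y' => ringKrullDim ↑(CInt.fiberStalk (pullback.snd f g) y')) Y (le_dim f g) (exists_dim_eq f g)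

end Groth.Agent.S14105
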