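import Groth.Statements.S14106
import Groth.Agent.DimFormula.FlatFibres
import Groth.Agent.Triage.FibMaxFlat
import Groth.Agent.CycLib.Pull
import Groth.Agent.FibDim.LocDim

set_option autoImplicit false
universe u
open CategoryTheory CategoryTheory.Limits AlgebraicGeometry Opposite TopologicalSpace
open CInt

namespace Groth.Agent.S14106

/-- Let S be a locally Noetherian scheme, f : X → S a smooth morphism and i : Y → X a closed immersion
whose composite with f is smooth. Then the codimension of the image of i relative to f (the infimum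
over its points y of the Krull dimension of the local ring at y of the fibre of f through y) equals
its codimension in X (the infimum over the same points of the Krull dimension of O_{X,y}). -/
theorem result {X Y S : Scheme.{u}} [IsLocallyNoetherian X]
    [IsLocallyNoetherian S] (f : X ⟶ S) [Smooth f] (i : Y ⟶ X) [IsClosedImmersion i] [Smooth (i ≫ f)] :
    (⨅ y : Set.range i.base, ringKrullDim ↑(CInt.fiberStalk f y.1)) =
      ⨅ y : Set.range i.base, ringKrullDim ↑(X.presheaf.stalk y.1) := by
  haveI : IsLocallyNoetherian Y := LocallyOfFiniteType.isLocallyNoetherian i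
  let h := i ≫ f
  have hrd : ∀ y, FibDim.rd h y = FibDim.rd f (i y) := fun y => by
    have h0 : FibDim.rd i y = 0 := by
      have := FibDim.rd_eq_rdeg i y
      rw [VarDim.rdeg_preimmersion] at this
      exact_mod_cast this
    rw [CycLib.rd_comp, h0, add_zero]
  have hsum : ∀ x : X, DimFormula.codim x = DimFormula.codim (f x) + DimFormula.fb f x := fun x => by
    obtain ⟨z, -, hfz, -, hle, -⟩ := DimFormula.codim_add_fb_le f x
    have h1 := DimFormula.codim_map_le f z
    rw [hfz] at h1
    exact le_antisymm (DimFormula.codim_le_add f x) (by omega)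
  have hfib : ∀ x : X, ringKrullDim ↑(CInt.fiberStalk f x) = (DimFormula.fb f x : WithBot ℕ∞) :=
    DimFormula.ringKrullDim_stalk_fibre f
  refine le_antisymm (le_iInf fun y => (iInf_le _ y).trans ?_) (le_iInf fun y => ?_)
  · rw [hfib, DimFormula.ringKrullDim_stalk, hsum]
    exact_mod_cast Nat.le_add_left _ _
  obtain ⟨_, y, rfl⟩ := y
  -- a maximal point of the fibre of `Y` above `y`, and a maximal generization of it in `Y`
  obtain ⟨y₁, hy₁, hfy₁, hmax₁, -, -⟩ := DimFormula.exists_fibMax_top h y
  obtain ⟨U, hy₁U, hU⟩ := Triage.FibMaxFlat.exists_nhd_fibreDimAt_eq h hmax₁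
  obtain ⟨y₂, hy₂, hmax₂, -⟩ := DimFormula.exists_maximal_cd_eq_codim y₁
  have hmap : ∀ s, s ⤳ h y₂ → s = h y₂ := fun s hs => by
    obtain ⟨v, hv, rfl⟩ := Flat.generalizingMap h hs
    rw [hmax₂ v hv]
  have e1 := hU y₂ (hy₂.mem_open U.2 hy₁U)
  have hfm : FibDim.FibMax h y₂ := fun z hz _ => hmax₂ z hz
  rw [FibDim.fibreDimAt_eq_rd h hfm] at e1
  have e1' : FibDim.rd h y₂ = FibDim.rd h y₁ := by exact_mod_cast e1
  -- semicontinuity on `X`
  have hsemi := (hy₂.trans hy₁).map i.continuous
  have e2 := DimFormula.fibreDimAt_eq_add f (i y₂)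
  have e3 : FlatMor.fibreDimAt f (i y₂) ≤ FlatMor.fibreDimAt f (i y) := by
    rw [DimFormula.fibreDimAt_eq_add f (i y)]
    exact hsemi.mem_open (FibDim.isOpen_fibreDimAt_le f _) (DimFormula.fibreDimAt_eq_add f (i y)).le
  rw [e2, DimFormula.fibreDimAt_eq_add f (i y)] at e3
  have e3' : FibDim.rd f (i y₂) + DimFormula.fb f (i y₂) ≤ FibDim.rd f (i y) + DimFormula.fb f (i y) := by
    exact_mod_cast e3
  have e4 : FibDim.rd h y ≤ FibDim.rd h y₁ := by
    by_cases he : y₁ = y
    · rw [he]
    · exact (FibDim.rd_lt h hy₁ he hfy₁).le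
  rw [hrd, hrd] at e4 e1'
  refine (iInf_le _ ⟨i y₂, ⟨y₂, rfl⟩⟩).trans ?_
  rw [hfib, DimFormula.ringKrullDim_stalk, hsum,
    DimFormula.codim_eq_zero_iff.2 (show ∀ z, z ⤳ f (i y₂) → z = f (i y₂) from hmap)]
  exact_mod_cast (show 0 + DimFormula.fb f (i y₂) ≤ DimFormula.fb f (i y) by omega)

end Groth.Agent.S14106
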