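import Groth.Statements.S14110
import Groth.Agent.Triage.CMMor
import Groth.Agent.H23.Isogeny

set_option autoImplicit false
set_option linter.style.haveILetI false
set_option backward.isDefEq.respectTransparency false
set_option backward.isDefEq.respectTransparency.types false
universe u
open CategoryTheory CategoryTheory.Limits AlgebraicGeometry Opposite TopologicalSpace
open CInt

namespace Groth.Agent.S14110

open IsLocalRing in
/-- The closed fibre only gets bigger along a flat local map. -/
theorem dim_fibre_le {A B C F F' : Type u} [CommRing A] [CommRing B] [CommRing C] [IsLocalRing A] [IsLocalRing B]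
    [IsLocalRing C] [IsNoetherianRing B] [IsNoetherianRing C] [CommRing F] [CommRing F']
    (φ : A →+* B) (ψ : B →+* C) [IsLocalHom φ] [IsLocalHom ψ] (hψ : ψ.Flat)
    (e : (B ⧸ (maximalIdeal A).map φ) ≃+* F) (e' : (C ⧸ (maximalIdeal A).map (ψ.comp φ)) ≃+* F') :
    ringKrullDim F ≤ ringKrullDim F' := by
  letI := ψ.toAlgebra
  haveI : Module.Flat B C := hψ
  let J := (maximalIdeal A).map φ
  let K := J.map (algebraMap B C)
  have hJ : J ≤ maximalIdeal B := Ideal.map_le_iff_le_comap.2 fun a ha hu => ha (isUnit_of_map_unit φ a hu)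
  have hK : K ≤ maximalIdeal C :=
    (Ideal.map_mono hJ).trans (Ideal.map_le_iff_le_comap.2 fun b hb hu => hb (isUnit_of_map_unit ψ b hu))
  haveI : Nontrivial (B ⧸ J) := Ideal.Quotient.nontrivial_iff.2 fun h => (maximalIdeal.isMaximal B).ne_top (top_le_iff.1 (h.ge.trans hJ))
  haveI : Nontrivial (C ⧸ K) := Ideal.Quotient.nontrivial_iff.2 fun h => (maximalIdeal.isMaximal C).ne_top (top_le_iff.1 (h.ge.trans hK))
  haveI : IsLocalRing (B ⧸ J) := IsLocalRing.of_surjective' _ Ideal.Quotient.mk_surjective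
  haveI : IsLocalRing (C ⧸ K) := IsLocalRing.of_surjective' _ Ideal.Quotient.mk_surjective
  haveI : Module.Flat (B ⧸ J) (C ⧸ K) :=
    Module.Flat.of_linearEquiv (Algebra.TensorProduct.quotIdealMapEquivQuotTensor C J).toLinearEquiv
  haveI : IsLocalHom (Ideal.Quotient.mk K) := IsLocalHom.of_surjective _ Ideal.Quotient.mk_surjective
  haveI : IsLocalHom (algebraMap (B ⧸ J) (C ⧸ K)) := by
    refine ⟨fun q hq => ?_⟩
    obtain ⟨b, rfl⟩ := Ideal.Quotient.mk_surjective q
    refine (isUnit_of_map_unit ψ b ?_).map (Ideal.Quotient.mk J)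
    exact isUnit_of_map_unit (Ideal.Quotient.mk K) _ hq
  have hKe : (maximalIdeal A).map (ψ.comp φ) = K := (Ideal.map_map φ ψ).symm
  rw [← ringKrullDim_eq_of_ringEquiv e, ← ringKrullDim_eq_of_ringEquiv ((Ideal.quotEquivOfEq hKe.symm).trans e')]
  exact Groth.Agent.H23.Isogeny.ringKrullDim_le_of_flat (algebraMap (B ⧸ J) (C ⧸ K)) (RingHom.flat_algebraMap_iff.2 inferInstance)

/-- Let f : X → S and g : X' → X be morphisms of locally Noetherian schemes with f a Cohen–Macaulay
morphism (flat, every local ring of every fibre a Cohen–Macaulay local ring) and g flat, Y a closed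
subset of X and Y' its preimage under g. Then the codimension of Y relative to f (the infimum over y
∈ Y of the Krull dimension of the local ring at y of the fibre of f through y) is at most the
codimension of Y' relative to the composite X' → S. -/
theorem result {X X' S : Scheme.{u}} [IsLocallyNoetherian X]
    [IsLocallyNoetherian X'] [IsLocallyNoetherian S] (f : X ⟶ S) [Flat f]
    (hCM : ∀ x : ↥X, LocCoh.IsCohenMacaulayLocalRing ↑(CInt.fiberStalk f x)) (g : X' ⟶ X) [Flat g]
    (Y : Set ↥X) (hY : IsClosed Y) :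
    (⨅ y : Y, ringKrullDim ↑(CInt.fiberStalk f y.1)) ≤
      ⨅ y' : (fun x' => g x') ⁻¹' Y, ringKrullDim ↑(CInt.fiberStalk (g ≫ f) y'.1) := by
  refine le_iInf fun y' => (iInf_le _ ⟨g y'.1, y'.2⟩).trans ?_
  obtain ⟨e⟩ := Groth.Agent.Triage.CMMor.exists_equiv_fibre_stalk f (g y'.1)
  obtain ⟨e'⟩ := Groth.Agent.Triage.CMMor.exists_equiv_fibre_stalk (g ≫ f) y'.1
  have hc : ((g ≫ f).stalkMap y'.1).hom = (g.stalkMap y'.1).hom.comp (f.stalkMap (g y'.1)).hom := by
    rw [Scheme.Hom.stalkMap_comp]
    rfl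
  rw [hc] at e'
  exact dim_fibre_le (f.stalkMap (g y'.1)).hom (g.stalkMap y'.1).hom (Flat.stalkMap g y'.1) e e'

end Groth.Agent.S14110
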