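import Groth.Statements.S14119
import Groth.Agent.BlowUpX.ProperInter

set_option autoImplicit false
universe u
open CategoryTheory CategoryTheory.Limits AlgebraicGeometry Opposite TopologicalSpace
open BlowUp

namespace Groth.Agent.S14119

/-- Let X be a locally Noetherian scheme, Y an effective Cartier divisor on X (a quasi-coherent ideal
sheaf which, near every point, is generated on some affine open by one nonzerodivisor; Y is its
support) and Z a closed integral subscheme (a closed immersion i from an integral scheme with
generic point ξ). Assume X irreducible with all local rings catenary (the first of the two printed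
sufficient conditions), and assume that the inverse image ideal sheaf of Y on Z is the ideal of an
effective Cartier divisor on Z. Then Y and Z intersect properly: every point ζ of Y ∩ Z that is
maximal under generization inside Y ∩ Z satisfies dim O_{X,ζ} = codim(Y,X) + codim(Z,X), where
codim(Y,X) is the infimum over y ∈ Y of dim O_{X,y} and codim(Z,X) = dim O_{X,i(ξ)}. (The published
statement also has a second sufficient condition, X biequidimensional, and a fourth equivalent
condition, vanishing of the higher Tor sheaves of O_Y against O_Z; neither is included in this row.) -/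
theorem result {X Z : Scheme.{u}}
    [IsLocallyNoetherian X] [IrreducibleSpace ↥X] (hcat : ∀ x : ↥X, CAlg.IsCatenary ↑(X.presheaf.stalk x))
    (𝓘 : X.IdealSheafData) (hY : BlowUp.IsEffCartierIdeal 𝓘)
    (i : Z ⟶ X) [IsClosedImmersion i] [IsIntegral Z] (hc : BlowUp.IsEffCartierIdeal (𝓘.comap i)) :
    (∀ ζ : ↥X, ζ ∈ (𝓘.support : Set ↥X) ∩ Set.range i.base →
        (∀ ζ' : ↥X, ζ' ∈ (𝓘.support : Set ↥X) ∩ Set.range i.base → ζ' ⤳ ζ → ζ' = ζ) →
        ringKrullDim ↑(X.presheaf.stalk ζ) =
          (⨅ y : (𝓘.support : Set ↥X), ringKrullDim ↑(X.presheaf.stalk y.1)) +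
            ringKrullDim ↑(X.presheaf.stalk (i (genericPoint ↥Z)))) := by
  intro ζ hζ hmin
  have hgen : ∀ z : Z, genericPoint ↥Z ⤳ z := fun z => (genericPoint_spec ↥Z).specializes (Set.mem_univ z)
  obtain ⟨hζI, z, rfl⟩ := hζ
  refine Groth.Agent.BlowUpX.ringKrullDim_eq_add_one 𝓘 hY _ _ ((hgen z).map i.continuous) (fun h => ?_) hζI (hcat _) ?_
  · exact Groth.Agent.BlowUpX.notMem_support_of_generic hc (genericPoint ↥Z)
      (fun w hw => (hw.antisymm (hgen w)).eq) (Groth.Agent.BlowUpX.mem_support_comap.mpr h)
  · intro ζ' h1 h2 h3
    exact hmin ζ' ⟨h3, h1.mem_closed i.isClosedEmbedding.isClosed_range ⟨genericPoint ↥Z, rfl⟩⟩ h2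

end Groth.Agent.S14119
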