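import Groth.Statements.S14122
-- import your own Groth.Agent.* helpers here
import Mathlib

set_option autoImplicit false
universe u
open ValCrit

namespace Groth.Agent.S14122

/-- Let `R` be a discrete valuation ring with fraction field `K` and `g ∈ GL_N(K)` an element of finite
order. Then after passing to a finite extension `K'` of `K` and a discrete valuation ring `R'` of
`K'` dominating `R`, the element `g` becomes conjugate in `GL_N(K')` to an element of `GL_N(R')`.
(The published statement is that the classifying stack of `GL_N` over the integers satisfies a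
valuative condition, for discrete valuation rings essentially of finite type over the integers, on
extending finite-order generic automorphisms along nearby modifications; since vector bundles over a
discrete valuation ring are trivial, that condition is this conjugacy statement for such rings, and
this row states it for every discrete valuation ring, as the printed argument gives.) -/
theorem result
    (R : Type u) [CommRing R] [IsDomain R] [IsDiscreteValuationRing R]
    (K : Type u) [Field K] [Algebra R K] [IsFractionRing R K]
    (N : ℕ) (g : GL (Fin N) K) (hg : IsOfFinOrder g) :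
    ∃ (R' : Type u) (_ : CommRing R') (_ : IsDomain R') (_ : IsDiscreteValuationRing R')
      (K' : Type u) (_ : Field K') (_ : Algebra R' K') (_ : IsFractionRing R' K')
      (_ : Algebra R R') (_ : Algebra K K') (_ : Algebra R K')
      (_ : IsScalarTower R R' K') (_ : IsScalarTower R K K')
      (_ : Module.Finite K K') (_ : IsLocalHom (algebraMap R R'))
      (h : GL (Fin N) K') (g' : GL (Fin N) R'),
      h * Matrix.GeneralLinearGroup.map (algebraMap K K') g * h⁻¹ =
        Matrix.GeneralLinearGroup.map (algebraMap R' K') g' := by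
  classical
  obtain ⟨n, hn, hgn⟩ := isOfFinOrder_iff_pow_eq_one.1 hg
  let V := Fin N → K
  let G : Module.End K V := Matrix.toLin' (g : Matrix (Fin N) (Fin N) K)
  have hG : ∀ k : ℕ, G ^ k = Matrix.toLin' ((g : Matrix (Fin N) (Fin N) K) ^ k) := fun k =>
    (map_pow Matrix.toLinAlgEquiv' (g : Matrix (Fin N) (Fin N) K) k).symm
  have hGn : G ^ n = 1 := by
    rw [hG, ← Units.val_pow_eq_pow_val, hgn, Units.val_one]
    exact Matrix.toLin'_one
  let S : Set V := Set.range fun x : Fin n × Fin N => (G ^ (x.1 : ℕ)) (Pi.single x.2 1)
  let L : Submodule R V := Submodule.span R S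
  haveI : Module.Finite R L := Module.Finite.span_of_finite R (Set.finite_range _)
  haveI : FaithfulSMul R K := (faithfulSMul_iff_algebraMap_injective R K).2 (IsFractionRing.injective R K)
  haveI : Module.IsTorsionFree R L := inferInstance
  haveI : Module.Free R L := inferInstance
  let ι := Module.Free.ChooseBasisIndex R L
  let b₀ : Module.Basis ι R L := Module.Free.chooseBasis R L
  have hli : LinearIndependent K fun i => (b₀ i : V) :=
    (LinearIndependent.iff_fractionRing R K).1 (b₀.linearIndependent.map' L.subtype L.ker_subtype)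
  have hsp : ⊤ ≤ Submodule.span K (Set.range fun i => (b₀ i : V)) := by
    rw [← (Pi.basisFun K (Fin N)).span_eq, Submodule.span_le]
    rintro _ ⟨j, rfl⟩
    have hj : (Pi.single j 1 : V) ∈ L := Submodule.subset_span ⟨(⟨0, hn⟩, j), by simp⟩
    rw [Pi.basisFun_apply]
    show (Pi.single j 1 : V) ∈ Submodule.span K _
    rw [show (Pi.single j 1 : V) = ((∑ i, b₀.repr ⟨_, hj⟩ i • b₀ i : L) : V) from
      congrArg Subtype.val (b₀.sum_repr ⟨_, hj⟩).symm, AddSubmonoidClass.coe_finsetSum]
    refine Submodule.sum_mem _ fun i _ => ?_
    rw [SetLike.val_smul]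
    exact Submodule.smul_of_tower_mem _ _ (Submodule.subset_span ⟨i, rfl⟩)
  let bK₀ : Module.Basis ι K V := Module.Basis.mk hli hsp
  let σ : ι ≃ Fin N := bK₀.indexEquiv (Pi.basisFun K (Fin N))
  let bR : Module.Basis (Fin N) R L := b₀.reindex σ
  let bK : Module.Basis (Fin N) K V := bK₀.reindex σ
  have hb : ∀ i, bK i = (bR i : V) := fun i => by simp [bK, bR, bK₀]
  have hinv : ∀ (k : ℕ), ∀ x ∈ L, (G ^ k) x ∈ L := by
    intro k
    induction k with
    | zero => exact fun x hx => by simpa using hx
    | succ k ih =>
      intro x hx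
      rw [pow_succ', Module.End.mul_apply]
      refine (Submodule.span_le (p := L.comap (G.restrictScalars R))).2 ?_ (ih x hx)
      rintro _ ⟨⟨i, j⟩, rfl⟩
      show G ((G ^ (i : ℕ)) _) ∈ L
      rw [← Module.End.mul_apply, ← pow_succ']
      by_cases hi : (i : ℕ) + 1 < n
      · exact Submodule.subset_span ⟨(⟨_, hi⟩, j), rfl⟩
      · rw [show (i : ℕ) + 1 = n by have := i.2; omega, hGn]
        exact Submodule.subset_span ⟨(⟨0, hn⟩, j), by simp⟩
  let M : ℕ → Matrix (Fin N) (Fin N) R := fun k =>
    LinearMap.toMatrix bR bR (((G ^ k).restrictScalars R).restrict (hinv k))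
  have hM : ∀ k, (M k).map (algebraMap R K) = LinearMap.toMatrix bK bK (G ^ k) := fun k => by
    ext i j
    rw [Matrix.map_apply, LinearMap.toMatrix_apply]
    simp only [M, LinearMap.toMatrix_apply]
    let y := ((G ^ k).restrictScalars R).restrict (hinv k) (bR j)
    have hy : (G ^ k) (bK j) = ∑ l, algebraMap R K (bR.repr y l) • bK l := by
      rw [hb]
      show (y : V) = _
      conv_lhs => rw [← bR.sum_repr y]
      simp only [AddSubmonoidClass.coe_finsetSum, SetLike.val_smul, hb, algebraMap_smul]
    rw [hy, Module.Basis.repr_sum_self]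
  have hinj : Function.Injective ((algebraMap R K).mapMatrix : Matrix (Fin N) (Fin N) R →+* Matrix (Fin N) (Fin N) K) :=
    fun A B h => Matrix.map_injective (IsFractionRing.injective R K) h
  have hmul : ∀ a b, a + b = n → M a * M b = 1 := fun a b hab => by
    refine hinj ?_
    show (M a * M b).map (algebraMap R K) = (1 : Matrix (Fin N) (Fin N) R).map (algebraMap R K)
    rw [Matrix.map_mul, hM, hM, ← LinearMap.toMatrix_comp, ← Module.End.mul_eq_comp, ← pow_add, hab, hGn,
      Module.End.one_eq_id, LinearMap.toMatrix_id, Matrix.map_one _ (map_zero _) (map_one _)]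
  let g' : GL (Fin N) R := ⟨M 1, M (n - 1), hmul _ _ (by omega), hmul _ _ (by omega)⟩
  let P : GL (Fin N) K := ⟨bK.toMatrix (Pi.basisFun K (Fin N)), (Pi.basisFun K (Fin N)).toMatrix bK,
    Module.Basis.toMatrix_mul_toMatrix_flip _ _, Module.Basis.toMatrix_mul_toMatrix_flip _ _⟩
  refine ⟨R, inferInstance, inferInstance, inferInstance, K, inferInstance, inferInstance, inferInstance, inferInstance,
    inferInstance, inferInstance, inferInstance, inferInstance, inferInstance, ⟨fun a ha => by simpa using ha⟩, P, g', ?_⟩
  refine Units.ext ?_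
  show (P : Matrix (Fin N) (Fin N) K) * (Matrix.GeneralLinearGroup.map (algebraMap K K) g : Matrix (Fin N) (Fin N) K) *
    ((Pi.basisFun K (Fin N)).toMatrix bK) = (M 1).map (algebraMap R K)
  have hid : (Matrix.GeneralLinearGroup.map (algebraMap K K) g : Matrix (Fin N) (Fin N) K) = (g : Matrix (Fin N) (Fin N) K) := by
    ext i j; rfl
  rw [hid, hM, pow_one, ← basis_toMatrix_mul_linearMap_toMatrix_mul_basis_toMatrix bK (Pi.basisFun K (Fin N)) bK
    (Pi.basisFun K (Fin N))]
  congr 2
  rw [LinearMap.toMatrix_eq_toMatrix', LinearMap.toMatrix'_toLin']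

end Groth.Agent.S14122
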