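import Groth.Statements.S14123
import Groth.Agent.S1987
-- import your own Groth.Agent.* helpers here

set_option autoImplicit false
universe u v
open GmQuot

open Polynomial

namespace Groth.Agent.S14123

/-- Let `A = ⊕_{d ∈ ℤ} A_d` be a graded commutative ring whose ideal `I₊` generated by the homogeneous
elements of positive degree is finitely generated, `R` a discrete valuation ring with fraction field
`K`, and `φ : A → R` a ring map with `φ(I₊) ≠ 0` and `φ(I₊)` inside the maximal ideal. Then after a
finite extension `K'/K` and a discrete valuation ring `R'` of `K'` dominating `R` there are a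
nonzero non-unit `ϖ ∈ R'` and a ring map `g : A → R'` with `g(a) ϖ^d = φ(a)` for every homogeneous
`a` of degree `d` (so `g` is `φ` rescaled through the grading by `ϖ`), such that `g(I₊) R' = R'`.
(The published statement is phrased for the quotient stack of `Spec A` by the multiplicative group
and its closed substack cut out by `I₊`, in a setting where `A` is Noetherian, being of finite type
over a Noetherian base: an `R`-point whose closed point lies in that substack and whose generic
point does not admits, after a finite extension, an elementary modification avoiding the substack;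
this row is the graded-ring statement the printed argument proves, assuming only that `I₊` is
finitely generated, which is all that argument uses, and with `ϖ` not required to be a uniformizer.) -/
theorem result
    {A : Type u} [CommRing A] (𝒜 : ℤ → AddSubgroup A) [GradedRing 𝒜]
    (hfg : (Ideal.span {a : A | ∃ d : ℤ, 0 < d ∧ a ∈ 𝒜 d}).FG)
    (R : Type v) [CommRing R] [IsDomain R] [IsDiscreteValuationRing R]
    (K : Type v) [Field K] [Algebra R K] [IsFractionRing R K]
    (φ : A →+* R)
    (hle : Ideal.map φ (Ideal.span {a : A | ∃ d : ℤ, 0 < d ∧ a ∈ 𝒜 d}) ≤ IsLocalRing.maximalIdeal R)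
    (hne : Ideal.map φ (Ideal.span {a : A | ∃ d : ℤ, 0 < d ∧ a ∈ 𝒜 d}) ≠ ⊥) :
    ∃ (R' : Type v) (_ : CommRing R') (_ : IsDomain R') (_ : IsDiscreteValuationRing R')
      (K' : Type v) (_ : Field K') (_ : Algebra R' K') (_ : IsFractionRing R' K')
      (_ : Algebra R R') (_ : Algebra K K') (_ : Algebra R K')
      (_ : IsScalarTower R R' K') (_ : IsScalarTower R K K')
      (_ : Module.Finite K K') (_ : IsLocalHom (algebraMap R R'))
      (ϖ : R') (g : A →+* R'),
      ϖ ≠ 0 ∧ ϖ ∈ IsLocalRing.maximalIdeal R' ∧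
      (∀ (d : ℤ) (a : A), a ∈ 𝒜 d →
        algebraMap R' K' (g a) * algebraMap R' K' ϖ ^ d = algebraMap R K' (φ a)) ∧
      Ideal.map g (Ideal.span {a : A | ∃ d : ℤ, 0 < d ∧ a ∈ 𝒜 d}) = ⊤ := by
  classical
  set P : Set A := {a : A | ∃ d : ℤ, 0 < d ∧ a ∈ 𝒜 d} with hP
  obtain ⟨T, hT⟩ := hfg
  obtain ⟨t, htP, ht⟩ : ∃ t : Finset A, (t : Set A) ⊆ P ∧ Ideal.span (t : Set A) = Ideal.span P := by
    have hmem : ∀ x ∈ T, ∃ t : Finset A, (t : Set A) ⊆ P ∧ x ∈ Ideal.span (t : Set A) := fun x hx =>
      Submodule.mem_span_finite_of_mem_span (hT.le (Ideal.subset_span hx))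
    choose t ht hxt using hmem
    refine ⟨T.attach.biUnion fun x => t x.1 x.2, fun a ha => ?_, le_antisymm ?_ ?_⟩
    · obtain ⟨x, -, hx⟩ := Finset.mem_biUnion.mp ha
      exact ht _ _ hx
    · refine Ideal.span_mono fun a ha => ?_
      obtain ⟨x, -, hx⟩ := Finset.mem_biUnion.mp ha
      exact ht _ _ hx
    · rw [← hT]
      refine Ideal.span_le.mpr fun x hx => ?_
      refine Ideal.span_mono ?_ (hxt x hx)
      exact fun a ha => Finset.mem_biUnion.mpr ⟨⟨x, hx⟩, Finset.mem_attach _ _, ha⟩
  rw [← ht] at hle hne ⊢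
  choose deg hdpos hdmem using fun a : t => htP a.2
  obtain ⟨π, hπ⟩ := IsDiscreteValuationRing.exists_irreducible R
  -- the nonzero values
  let t' : Finset t := Finset.univ.filter fun a : t => φ (a : A) ≠ 0
  have ht' : t'.Nonempty := by
    by_contra h
    rw [Finset.not_nonempty_iff_eq_empty, Finset.filter_eq_empty_iff] at h
    refine hne ?_
    rw [Ideal.map_span, Ideal.span_eq_bot]
    rintro _ ⟨a, ha, rfl⟩
    simpa using h (x := ⟨a, ha⟩) (Finset.mem_univ _)
  have hval : ∀ a : t, φ a ≠ 0 → ∃ (n : ℕ) (w : Rˣ), φ a = w * π ^ n :=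
    fun a ha => IsDiscreteValuationRing.eq_unit_mul_pow_irreducible ha hπ
  choose! v w hv using hval
  obtain ⟨a₀, ha₀, hmin⟩ := t'.exists_min_image (fun a => (v a : ℚ) / (deg a : ℚ)) ht'
  have ha₀' : φ a₀ ≠ 0 := (Finset.mem_filter.mp ha₀).2
  have hv0 : v a₀ ≠ 0 := by
    intro h
    have hm : φ a₀ ∈ IsLocalRing.maximalIdeal R := hle (Ideal.mem_map_of_mem φ (Ideal.subset_span a₀.2))
    rw [hv a₀ ha₀', h, pow_zero, mul_one] at hm
    exact hm (Units.isUnit _)
  set N : ℕ := 2 * (deg a₀).toNat with hN
  have hN2 : 2 ≤ N := by have := hdpos a₀; omega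
  set m : ℕ := 2 * v a₀ with hm
  obtain ⟨-, hdom, hdvr, hic, hmap, -⟩ := Groth.Agent.S1987.result R π hπ N hN2
  let R' := AdjoinRoot (X ^ N - C π : R[X])
  haveI : Module.Finite R R' := (monic_X_pow_sub_C π (by omega)).finite_adjoinRoot
  have hinj : Function.Injective (algebraMap R R') :=
    AdjoinRoot.of.injective_of_degree_ne_zero (by
      rw [degree_X_pow_sub_C (by omega)]; exact_mod_cast (show N ≠ 0 by omega))
  haveI : FaithfulSMul R R' := (faithfulSMul_iff_algebraMap_injective R R').mpr hinj
  set r : R' := AdjoinRoot.root _ with hr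
  have hrN : r ^ N = algebraMap R R' π := by
    have := AdjoinRoot.eval₂_root (X ^ N - C π : R[X])
    simp only [eval₂_sub, eval₂_pow, eval₂_X, eval₂_C, sub_eq_zero] at this
    exact this
  have hr0 : r ≠ 0 := by
    intro h
    rw [h, zero_pow (by omega)] at hrN
    exact hπ.ne_zero (hinj (by rw [← hrN, map_zero]))
  let K' := FractionRing R'
  let ι : R →+* K' := (algebraMap R' K').comp (algebraMap R R')
  have hι : Function.Injective ι := (IsFractionRing.injective R' K').comp hinj
  letI : Algebra K K' := (IsFractionRing.lift (K := K) hι).toAlgebra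
  haveI : IsScalarTower R K K' := IsScalarTower.of_algebraMap_eq fun x => (IsFractionRing.lift_algebraMap hι x).symm
  haveI : Module.Finite K K' := by
    haveI : IsIntegralClosure R' R K' := IsIntegralClosure.of_isIntegrallyClosed _ _ _
    haveI : Algebra.IsAlgebraic K K' := isAlgebraic_of_isFractionRing R R' ..
    haveI : IsLocalization (Algebra.algebraMapSubmonoid R' (nonZeroDivisors R)) K' :=
      IsIntegralClosure.isLocalization _ K _ _
    exact .of_isLocalization R R' (nonZeroDivisors R)
  have hrmax : r ∈ IsLocalRing.maximalIdeal R' := by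
    refine (IsLocalRing.mem_maximalIdeal r).mpr fun hu => hπ.not_isUnit ?_
    have h1 : IsUnit (algebraMap R R' π) := hrN ▸ hu.pow N
    have h2 : algebraMap R R' π ∈ IsLocalRing.maximalIdeal R' ^ N := hmap ▸ Ideal.mem_map_of_mem _
      ((IsLocalRing.mem_maximalIdeal π).mpr hπ.not_isUnit)
    exact absurd h1 ((IsLocalRing.mem_maximalIdeal _).mp (Ideal.pow_le_self (by omega) h2))
  haveI : IsLocalHom (algebraMap R R') := by
    refine ((IsLocalRing.local_hom_TFAE (algebraMap R R')).out 2 0).mp ?_
    rw [hmap]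
    exact Ideal.pow_le_self (by omega)
  set x : K' := algebraMap R' K' (r ^ m) with hx
  have hx0 : x ≠ 0 := fun h => pow_ne_zero m hr0 ((IsFractionRing.to_map_eq_zero_iff).mp h)
  let f : ∀ d : ℤ, 𝒜 d →+ K' := fun d =>
    ((AddMonoidHom.mulRight (x ^ (-d))).comp ι.toAddMonoidHom).comp (φ.toAddMonoidHom.comp (𝒜 d).subtype)
  have hf : ∀ d (a : 𝒜 d), f d a = ι (φ a) * x ^ (-d) := fun _ _ => rfl
  let G : A →+* K' := (DirectSum.toSemiring f
    (by show ι (φ (1 : A)) * x ^ (-(0 : ℤ)) = 1; simp)
    (fun {i j} a b => by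
      show ι (φ ((a : A) * b)) * x ^ (-(i + j)) = ι (φ a) * x ^ (-i) * (ι (φ b) * x ^ (-j))
      rw [map_mul, map_mul, neg_add, zpow_add₀ hx0]
      ring)).comp (DirectSum.decomposeRingEquiv 𝒜).toRingHom
  have hG : ∀ d, ∀ a ∈ 𝒜 d, G a = ι (φ a) * x ^ (-d) := fun d a ha => by
    simp only [G, RingHom.comp_apply, RingEquiv.toRingHom_eq_coe, RingEquiv.coe_toRingHom]
    rw [show DirectSum.decomposeRingEquiv 𝒜 a = DirectSum.of _ d (⟨a, ha⟩ : 𝒜 d) from DirectSum.decompose_of_mem 𝒜 ha,
      DirectSum.toSemiring_of, hf]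
  -- values at the generators
  have hgen : ∀ a : t, ∃ b : R', algebraMap R' K' b = G a ∧ (a = a₀ → IsUnit b) := by
    intro a
    rw [hG _ _ (hdmem a)]
    by_cases h0 : φ a = 0
    · exact ⟨0, by simp [h0], fun h => absurd (h ▸ h0) ha₀'⟩
    have hle' := hmin a (Finset.mem_filter.mpr ⟨Finset.mem_univ _, h0⟩)
    rw [div_le_div_iff₀ (by exact_mod_cast hdpos a₀) (by exact_mod_cast hdpos a)] at hle'
    have hle'' : m * (deg a).toNat ≤ N * v a := by
      have h1 : ((deg a).toNat : ℤ) = deg a := Int.toNat_of_nonneg (hdpos a).le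
      have h2 : ((deg a₀).toNat : ℤ) = deg a₀ := Int.toNat_of_nonneg (hdpos a₀).le
      have h3 : (v a₀ : ℤ) * deg a ≤ v a * deg a₀ := by exact_mod_cast hle'
      have : ((m * (deg a).toNat : ℕ) : ℤ) ≤ ((N * v a : ℕ) : ℤ) := by
        push_cast [hm, hN]; rw [h1, h2]; nlinarith
      exact_mod_cast this
    refine ⟨algebraMap R R' (w a) * r ^ (N * v a - m * (deg a).toNat), ?_, ?_⟩
    · rw [← Int.toNat_of_nonneg (hdpos a).le, zpow_neg, zpow_natCast, eq_mul_inv_iff_mul_eq₀ (pow_ne_zero _ hx0),
        hx, ← map_pow, ← map_mul, ← pow_mul, mul_assoc, ← pow_add, Int.toNat_natCast, Nat.sub_add_cancel hle'',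
        pow_mul r N (v a), hrN, ← map_pow, ← map_mul, ← hv a h0]
      rfl
    · rintro rfl
      rw [show N * v a - m * (deg a).toNat = 0 by
        rw [hm, hN, Nat.sub_eq_zero_iff_le]; exact le_of_eq (by ring), pow_zero, mul_one]
      exact (w a).isUnit.map _
  -- all homogeneous values are integral
  have hint : ∀ d, ∀ a ∈ 𝒜 d, G a ∈ (algebraMap R' K').range := by
    intro d
    suffices ∀ n : ℕ, ∀ e : ℤ, e ≤ n → ∀ a ∈ 𝒜 e, G a ∈ (algebraMap R' K').range from
      this d.toNat d (Int.self_le_toNat d)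
    intro n
    induction n with
    | zero =>
      intro e he a ha
      obtain ⟨i, hi⟩ := Int.exists_eq_neg_ofNat (show e ≤ 0 by exact_mod_cast he)
      refine ⟨algebraMap R R' (φ a) * r ^ (m * i), ?_⟩
      rw [hG _ _ ha, hi, neg_neg, zpow_natCast, map_mul, hx, ← map_pow, ← pow_mul]
      rfl
    | succ n ih =>
      intro e he a ha
      rcases le_or_gt e n with h | h
      · exact ih e h a ha
      have hmem : a ∈ Ideal.span (t : Set A) := ht ▸ Ideal.subset_span ⟨e, by omega, ha⟩
      obtain ⟨c, hc⟩ := Submodule.mem_span_finset'.mp hmem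
      have hsum : a = ∑ b : t, (DirectSum.decompose 𝒜 (c b) (e - deg b) : A) * b := by
        conv_lhs => rw [← DirectSum.decompose_of_mem_same 𝒜 ha, ← hc]
        rw [DirectSum.decompose_sum, DFinsupp.finsetSum_apply, AddSubmonoidClass.coe_finsetSum]
        refine Finset.sum_congr rfl fun b _ => ?_
        rw [smul_eq_mul, ← DirectSum.coe_decompose_mul_add_of_right_mem 𝒜 (hdmem b), sub_add_cancel]
      rw [hsum, map_sum]
      refine sum_mem fun b _ => ?_
      rw [map_mul]
      refine mul_mem (ih _ (by have := hdpos b; omega) _ (SetLike.coe_mem _)) ?_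
      obtain ⟨y, hy, -⟩ := hgen b
      exact ⟨y, hy⟩
  have hint' : ∀ a, G a ∈ (algebraMap R' K').range := fun a => by
    rw [← DirectSum.sum_support_decompose 𝒜 a, map_sum]
    exact sum_mem fun d _ => hint d _ (SetLike.coe_mem _)
  let g : A →+* R' :=
    ((RingEquiv.ofBijective (algebraMap R' K').rangeRestrict
      ⟨fun a b h => IsFractionRing.injective R' K' (congrArg Subtype.val h),
        (algebraMap R' K').rangeRestrict_surjective⟩).symm.toRingHom).comp (G.codRestrict _ hint')
  have hg : ∀ a, algebraMap R' K' (g a) = G a := fun a => by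
    have := (RingEquiv.ofBijective (algebraMap R' K').rangeRestrict
      ⟨fun a b h => IsFractionRing.injective R' K' (congrArg Subtype.val h),
        (algebraMap R' K').rangeRestrict_surjective⟩).apply_symm_apply (G.codRestrict _ hint' a)
    exact congrArg Subtype.val this
  refine ⟨R', inferInstance, hdom, hdvr, K', inferInstance, inferInstance, inferInstance, inferInstance,
    inferInstance, inferInstance, inferInstance, inferInstance, inferInstance, inferInstance, r ^ m, g,
    pow_ne_zero m hr0, Ideal.pow_mem_of_mem _ hrmax m (by omega), fun d a ha => ?_, ?_⟩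
  · rw [hg, hG d a ha, ← hx, mul_assoc, ← zpow_add₀ hx0, neg_add_cancel, zpow_zero, mul_one]
    rfl
  · obtain ⟨b, hb, hu⟩ := hgen a₀
    refine Ideal.eq_top_of_isUnit_mem _ (Ideal.mem_map_of_mem g (Ideal.subset_span a₀.2)) ?_
    have : g a₀ = b := IsFractionRing.injective R' K' (by rw [hg, hb])
    exact this ▸ hu rfl


end Groth.Agent.S14123
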