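import Groth.Statements.S14131
import Groth.Agent.FinDesc.Degree
import Groth.Agent.AVEuler.Index
import Groth.Agent.AVEuler.Conc
-- import your own Groth.Agent.* helpers here

set_option autoImplicit false
universe u
open CategoryTheory CategoryTheory.Limits MonoidalCategory CartesianMonoidalCategory MonObj GrpObj AlgebraicGeometry
open AbVar

set_option backward.isDefEq.respectTransparency false
set_option synthInstance.maxHeartbeats 400000
set_option linter.style.haveILetI false
open scoped Groth.Agent.H23.PicMul
attribute [-instance] CategoryTheory.catToReflQuiver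

namespace Groth.Agent.S14131

/-- Let k be an algebraically closed field, A an abelian variety over k (a proper smooth k-group scheme
with geometrically connected fibres) of dimension g, (A^t, φ) a given dual abelian variety of A for
the fppf topology with A^t an abelian variety, L an invertible O_A-module with an inverse L', and Λ
a module on A ×_k A isomorphic to the Mumford module m^*L ⊗ pr_1^*L' ⊗ pr_2^*L', whose class is
assumed algebraically trivial on every geometric fibre of the second projection. Let φ_L = φ(Λ) : A
→ A^t and assume L non-degenerate in the sense that φ_L is finite and flat, of constant rank d. Then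
there is a natural number i ≤ g such that H^j(A, L) vanishes for all j ≠ i and the square of dim_k
H^i(A, L) equals d. (The published statement moreover writes the Fourier–Mukai transform of L as a
vector bundle on A^t placed in degree i; only the cohomological consequences are stated here.) -/
theorem result (k : Type u) [Field k] [IsAlgClosed k]
    (A At : Over (Spec (CommRingCat.of k))) [GrpObj A] [IsProper A.hom] [Smooth A.hom] [GeometricallyConnected A.hom]
    [GrpObj At] [IsProper At.hom] [Smooth At.hom] [GeometricallyConnected At.hom]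
    (φ : ∀ T : Over (Spec (CommRingCat.of k)), PicF.Cl (PicF.XT A.hom T) → (T ⟶ At))
    (hφ : AbDual.IsDualAV Scheme.fppfPrecoverage A At φ)
    (g : ℕ) (hg : topologicalKrullDim ↥A.left = g)
    (L : A.left.Modules) (hL : PicF.IsInvertible L) (L' : A.left.Modules) (hL' : Nonempty (CohB1.tensorMod L L' ≅ Coh.structureModule A.left))
    (Λ : (PicF.XT A.hom A).Modules)
    (hΛ : Nonempty (Λ ≅ CohB1.tensorMod (CohB1.tensorMod ((Scheme.Modules.pullback μ[A].left).obj L)
      ((Scheme.Modules.pullback (fst A A).left).obj L')) ((Scheme.Modules.pullback (snd A A).left).obj L')))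
    (hΛ0 : AbDual.IsPicZeroCl A.hom A (PicF.cl Λ))
    [IsFinite (φ A (PicF.cl Λ)).left] [Flat (φ A (PicF.cl Λ)).left]
    (d : ℕ) (hd : ∀ y : ↥At.left, Scheme.Hom.finrank (φ A (PicF.cl Λ)).left y = d) :
    ∃ i : ℕ, i ≤ g ∧ (∀ j : ℕ, j ≠ i → Subsingleton (Coh.HH A.left L j)) ∧
      @Module.finrank k (Coh.HH A.left L i) _ _ (@Coh.moduleOver k _ A.left ⟨A.hom⟩ L i) ^ 2 = d := by
  haveI : GeometricallyIntegral A.hom := Groth.Agent.AVDual.geometricallyIntegral_of_smooth A
  haveI : IsIntegral A.left := GeometricallyIntegral.isIntegral_of_subsingleton A.hom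
  haveI : IsIntegral At.left := by
    haveI : GeometricallyIntegral At.hom := Groth.Agent.AVDual.geometricallyIntegral_of_smooth At
    exact GeometricallyIntegral.isIntegral_of_subsingleton At.hom
  have h1 : PicF.cl (CohB1.tensorMod L L') = PicF.cl (Coh.structureModule A.left) := Quot.sound hL'
  rw [Groth.Agent.H23.PicMul.cl_tensor] at h1
  have h2 : (PicF.cl Λ : PicF.Cl (PicF.XT A.hom A)) = PicF.pullCl μ[A].left (PicF.cl L) *
      PicF.pullCl (fst A A).left (PicF.cl L') * PicF.pullCl (snd A A).left (PicF.cl L') :=
    (show PicF.cl Λ = PicF.cl _ from Quot.sound hΛ).trans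
      ((Groth.Agent.H23.PicMul.cl_tensor _ _).trans (congrArg (· * _) (Groth.Agent.H23.PicMul.cl_tensor _ _)))
  have he := Groth.Agent.FinDesc.euler_sq_eq_degree hφ hL h1 h2 hΛ0 hd
  have hd0 : (d : ℤ) ≠ 0 := by
    have := Scheme.Hom.one_le_finrank_map (φ A (PicF.cl Λ)).left (genericPoint A.left)
    rw [hd] at this
    exact_mod_cast (show d ≠ 0 by omega)
  have hne : @Curv2.euler k _ A.left ⟨A.hom⟩ L ≠ 0 := fun h0 => hd0 (by rw [← he, h0]; ring)
  have hnd := Groth.Agent.AVEuler.finite_Fix_of_euler_ne_zero hL hne
  obtain ⟨M, hM, ⟨eM⟩⟩ := Groth.Agent.H23.PicInv.exists_inverse hL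
  obtain ⟨i, hi, hv, hn, -, -⟩ := Groth.Agent.AVEuler.exists_index A hg hL hnd hM
    ((Groth.Agent.H23.PicMul.cl_tensor _ _).symm.trans ((PicGrp.cl_eq_cl_iff _ _).2 ⟨eM⟩))
  refine ⟨i, hi, hv, ?_⟩
  rw [Groth.Agent.AVEuler.euler_of_conc ⟨hv, hn⟩, mul_pow, ← pow_mul,
    (even_two.mul_left i).neg_one_pow, _root_.one_mul] at he
  exact_mod_cast he


end Groth.Agent.S14131
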