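import Groth.Statements.S14147
import Groth.Agent.FMBase.Functors
import Groth.Agent.ProjUPX.Affine
-- import your own Groth.Agent.* helpers here

set_option autoImplicit false
universe u
open CategoryTheory CategoryTheory.Limits MonoidalCategory CartesianMonoidalCategory MonObj GrpObj AlgebraicGeometry
attribute [local instance] HasDerivedCategory.standard
open AbVar

set_option backward.isDefEq.respectTransparency false
set_option synthInstance.maxHeartbeats 400000
attribute [-instance] CategoryTheory.catToReflQuiver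

namespace Groth.Agent.S14147

/-- Let k be a field, A an abelian variety over k (a proper smooth k-group scheme with geometrically
connected fibres) with structure map a : A → Spec k, (A^t, φ) a given dual abelian variety for the
fppf topology with A^t an abelian variety, P an invertible module on A ×_k A^t whose class is a
Poincaré class, x : Spec k → A^t a k-rational point and M_x the restriction of P along A = A × {x} →
A ×_k A^t. Write Φ_P = Rpr_{2,*}(Lpr_1^*(−) ⊗^L P); the derived functors involved are assumed to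
exist. Then, restricted to objects of D(O_A) with quasi-coherent cohomology sheaves, the functor F ↦
Ra_*(F ⊗^L M_x) (global sections RΓ(A, F ⊗ M_x) as an object over Spec k) is isomorphic to F ↦
Lx^*(Φ_P(F)) (existence of an isomorphism of functors). -/
theorem result (k : Type u) [Field k]
    (A At : Over (Spec (CommRingCat.of k))) [GrpObj A] [IsProper A.hom] [Smooth A.hom] [GeometricallyConnected A.hom]
    [GrpObj At] [IsProper At.hom] [Smooth At.hom] [GeometricallyConnected At.hom]
    (φ : ∀ T : Over (Spec (CommRingCat.of k)), PicF.Cl (PicF.XT A.hom T) → (T ⟶ At))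
    (hφ : AbDual.IsDualAV Scheme.fppfPrecoverage A At φ)
    (P : (pullback A.hom At.hom).Modules) (hP : PicF.IsInvertible P)
    (hPξ : AbDual.IsPoincareCl A At φ (PicF.cl P))
    (x : 𝟙_ (Over (Spec (CommRingCat.of k))) ⟶ At)
    [DCoh.HasLpull (pullback.fst A.hom At.hom)] [DCoh.HasLTensorMod P] [DCoh.HasRpush (pullback.snd A.hom At.hom)]
    [DCoh.HasLTensorMod ((Scheme.Modules.pullback (CartesianMonoidalCategory.lift (𝟙 A) (toUnit A ≫ x)).left).obj P)]
    [DCoh.HasRpush A.hom] [DCoh.HasLpull x.left] :
    Nonempty (ObjectProperty.ι (DCoh.IsQCohD (X := A.left)) ⋙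
        DCoh.LTensorMod ((Scheme.Modules.pullback (CartesianMonoidalCategory.lift (𝟙 A) (toUnit A ≫ x)).left).obj P) ⋙ DCoh.Rpush A.hom ≅
      ObjectProperty.ι (DCoh.IsQCohD (X := A.left)) ⋙ (DCoh.Lpull (pullback.fst A.hom At.hom) ⋙ DCoh.LTensorMod P ⋙ DCoh.Rpush (pullback.snd A.hom At.hom)) ⋙ DCoh.Lpull x.left) := by
  let ix : A ⟶ A ⊗ At := CartesianMonoidalCategory.lift (𝟙 A) (toUnit A ≫ x)
  let i : A.left ⟶ pullback A.hom At.hom := ix.left
  have hfst : i ≫ pullback.fst A.hom At.hom = 𝟙 A.left :=
    congrArg (fun f => f.left) (CartesianMonoidalCategory.lift_fst (𝟙 A) (toUnit A ≫ x))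
  have hsnd : i ≫ pullback.snd A.hom At.hom = A.hom ≫ x.left :=
    congrArg (fun f => f.left) (CartesianMonoidalCategory.lift_snd (𝟙 A) (toUnit A ≫ x))
  have hx : x.left ≫ At.hom = 𝟙 (Spec (CommRingCat.of k)) := Over.w x
  have outer : IsPullback (i ≫ pullback.fst A.hom At.hom) A.hom A.hom (x.left ≫ At.hom) := by
    rw [hfst]
    haveI : IsIso (x.left ≫ At.hom) := hx.symm ▸ inferInstanceAs (IsIso (𝟙 (Spec (CommRingCat.of k))))
    exact IsPullback.of_horiz_isIso ⟨by rw [hx]; exact (Category.id_comp _).trans (Category.comp_id _).symm⟩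
  have H : IsPullback i A.hom (pullback.snd A.hom At.hom) x.left :=
    IsPullback.of_right outer hsnd (IsPullback.of_hasPullback A.hom At.hom)
  haveI : DCoh.HasLpull (i ≫ pullback.fst A.hom At.hom) := Groth.Agent.KFlatLib.hasLpull _
  haveI : DCoh.HasLpull i := Groth.Agent.KFlatLib.hasLpull _
  haveI : DCoh.HasLTensorMod ((Scheme.Modules.pullback i).obj P) :=
    inferInstanceAs (DCoh.HasLTensorMod ((Scheme.Modules.pullback ix.left).obj P))
  obtain ⟨b⟩ := Groth.Agent.FMBase.nonempty_transform_baseChange H (pullback.fst A.hom At.hom)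
    (Groth.Agent.ProjUPX.isQCoh_of_isInvertible hP) (Groth.Agent.H23.Seesaw.isFlatOver_of_isInvertible _ hP)
  obtain ⟨c⟩ := Groth.Agent.FMBase.nonempty_lpull_id _ hfst
  exact ⟨(b ≪≫ Functor.isoWhiskerLeft _ (Functor.isoWhiskerRight c _ ≪≫ Functor.leftUnitor _)).symm⟩


end Groth.Agent.S14147
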