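import Groth.Statements.S14152
import Groth.Agent.Lib.CurveTwist
import Groth.Agent.Lib.CurveCanonical
import Groth.Agent.CurveCohLib.Clifford

set_option linter.style.haveILetI false
set_option backward.isDefEq.respectTransparency false
set_option backward.isDefEq.respectTransparency.types false
set_option autoImplicit false
universe u
open CategoryTheory CategoryTheory.Limits AlgebraicGeometry
open Curves

namespace Groth.Agent.S14152

/-- Let k be an algebraically closed field and C a smooth proper integral curve over k (proper and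
smooth over k, integral, of dimension one) of genus g ≥ 1, where g = dim_k H^1(C, O_C). Then for
every natural number r ≤ g there is an invertible O_C-module L of degree r, the degree being χ(L) −
χ(O_C), with dim_k H^0(C, L) = 1. (The published statement gives a non-empty open set of r-tuples of
points (x_i) with h^0(O(Σ x_i)) = 1 and is placed in a chapter working in characteristic 0; the
existence of one such divisor, stated here, is what the row records, and the printed argument does
not use the characteristic.) -/
theorem result (k : Type u) [Field k] [IsAlgClosed k]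
    (X : Scheme.{u}) [X.Over (Spec (CommRingCat.of k))] [IsIntegral X]
    [IsProper (X ↘ Spec (CommRingCat.of k))] [Smooth (X ↘ Spec (CommRingCat.of k))]
    (hdim : topologicalKrullDim ↥X = 1) (g : ℕ) (hg : Curv2.genus k X = g) (hg1 : 1 ≤ g)
    (r : ℕ) (hr : r ≤ g) :
    ∃ L : X.Modules, PicF.IsInvertible L ∧ Curv2.deg k X L 1 = (r : ℤ) ∧
      Module.finrank k (Coh.HH X L 0) = 1 := by
  haveI := CurveCohLib.isNoetherian_of_proper (k := k) (X := X)
  have hO : Module.finrank k (Coh.HH X (Coh.structureModule X) 0) = 1 :=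
    CurveCohLib.Clifford.finrank_h0_structure k
  obtain ⟨ω, μ, hω⟩ := CurveDuality.exists_isDualizing k (X := X) hdim
  obtain ⟨hω0, -, hωd⟩ := CurveDuality.canonical_invariants k hO hω hdim
  rw [hg] at hω0 hωd
  have key : ∀ j : ℕ, j ≤ g → ∃ M : X.Modules, PicF.IsInvertible M ∧
      Curv2.deg k X M 1 = 2 * (g : ℤ) - 2 - j ∧ Module.finrank k (Coh.HH X M 0) + j = g := by
    intro j
    induction j with
    | zero => exact fun _ => ⟨ω, hω.inv, by simpa using hωd, by simpa using hω0⟩
    | succ j ih =>
      intro hj
      obtain ⟨M, hM, hMd, hM0⟩ := ih (by omega)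
      have hM1 := InvEnd.isFinLocFreeOfRank_one hM
      obtain ⟨t, ht⟩ : ∃ t : Coh.HH X M 0, t ≠ 0 := by
        haveI : Nontrivial (Coh.HH X M 0) := Module.nontrivial_of_finrank_pos (R := k) (by omega)
        exact exists_ne 0
      obtain ⟨Z, hZ, hsur⟩ := CurveTwist.exists_finite_surjective k hdim hM1 _
        (CurveSpecial.homOfClass_ne_zero ht)
      obtain ⟨p, hp, hpZ⟩ := CurveTwist.exists_closed_notMem k hdim hZ
      have hgen : ∀ v : M.presheaf.stalk p, ∃ t : Coh.HH X M 0,
          v - M.presheaf.germ ⊤ p trivial (Sheaf.H.equiv₀ (Coh.toAb M) isTerminalTop t : Γ(M, ⊤)) ∈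
            IsLocalRing.maximalIdeal (X.presheaf.stalk p) •
              (⊤ : Submodule (X.presheaf.stalk p) (M.presheaf.stalk p)) := fun v => by
        obtain ⟨y, hy⟩ := hsur p hpZ v
        obtain ⟨a, ha⟩ := CurveSection.homOfTop_stalk_eq_smul
          (Sheaf.H.equiv₀ (Coh.toAb M) isTerminalTop t : Γ(M, ⊤)) p y
        obtain ⟨c, hc⟩ := CurveTwist.exists_scalar k hp t a
        refine ⟨c • t, ?_⟩
        rw [show v = a • M.presheaf.germ ⊤ p trivial
          (Sheaf.H.equiv₀ (Coh.toAb M) isTerminalTop t : Γ(M, ⊤)) from hy.symm.trans ha]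
        exact hc
      have hI := CurvePoint.isInvertible_ptMod p hp k hdim
      have hd' := CurveRR.deg_tensor k hdim hM hI
      rw [CurvePoint.deg_ptMod p hp k, hMd] at hd'
      have h0 := (CurvePoint.finrank_twist p hp k hM1).2 hgen
      exact ⟨(DCoh.tensorBi.obj M).obj (CurvePoint.ptMod p hp), InvX.isInvertible_tensorMod hM hI, hd'.trans (by push_cast; ring), by omega⟩
  obtain ⟨M, hM, hMd, hM0⟩ := key r hr
  obtain ⟨D, hD, hDd, ⟨e⟩⟩ := CurveDuality.exists_inverse_deg k hdim hM
  refine ⟨(DCoh.tensorBi.obj D).obj ω, InvX.isInvertible_tensorMod hD hω.inv, ?_, ?_⟩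
  · rw [CurveRR.deg_tensor k hdim hD hω.inv, hDd, hMd, hωd]
    ring
  · have hdual := CurveDuality.finrank_h1_eq k hω hdim hM e
    have hrr := CurveCohLib.Clifford.deg_eq k hdim hM
    rw [hg] at hrr
    omega

end Groth.Agent.S14152
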