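import Groth.Statements.S14164
import Groth.Agent.S14124
import Groth.Agent.AVEuler.Conc
import Groth.Agent.S2389
import Groth.Agent.AmpleX.BaseChange
import Groth.Agent.AmpleX.RelAffine
-- import your own Groth.Agent.* helpers here

set_option autoImplicit false
universe u
open CategoryTheory CategoryTheory.Limits MonoidalCategory CartesianMonoidalCategory MonObj AlgebraicGeometry
open AgPol

set_option backward.isDefEq.respectTransparency false
set_option maxHeartbeats 800000
attribute [-instance] CategoryTheory.catToReflQuiver

namespace Groth.Agent.S14164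

/-- Let S be a locally Noetherian scheme, A a projective abelian scheme over S of relative dimension g
with structure morphism π, and L an invertible module on A which is ample relative to π. Then R^i
π_* L = 0 for every i ≥ 1 (right derived functors of the direct image on modules), and π_* L is a
finite locally free module on S. -/
theorem result (S : Scheme.{u}) [IsLocallyNoetherian S]
    (A : Over S) [GrpObj A] (g : ℕ) (hA : AgPol.IsAbSch A g) (hproj : RelProj.IsProjective A.hom)
    [HasInjectiveResolutions A.left.Modules]
    (L : A.left.Modules) (hL : PicF.IsInvertible L) (hample : RelAmple.IsRelAmple A.hom L) :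
    (∀ i : ℕ, 1 ≤ i → IsZero ((Coh.Rpush A.hom i).obj L)) ∧
      FlatMod.IsFinLocFree ((Coh.push A.hom).obj L) := by
  haveI : Smooth A.hom := hA.smooth
  haveI : IsProper A.hom := hA.proper
  haveI : GeometricallyConnected A.hom := hA.geomConnected
  haveI : IsLocallyNoetherian A.left := LocallyOfFiniteType.isLocallyNoetherian A.hom
  have hLc : Coh.IsCoh L := Groth.Agent.AmpleVan.isCoh_invertible hL
  have hLf : FlatMod.IsFlatOver A.hom L := Groth.Agent.PushAmp.isFlatOver_of_isFlat A.hom
    (Groth.Agent.KFlatLib.isFlat_of_isFinLocFree (Groth.Agent.ParaFX.FlatDesc.isFinLocFree_of_invertible hL))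
  have hfib : ∀ (s : S) (i : ℕ), 0 < i → Subsingleton (CohIII.fiberH A.hom L s i) := by
    intro s i hi
    let κ : Type u := S.residueField s
    let F : Over (Spec (CommRingCat.of κ)) := (Over.pullback (S.fromSpecResidueField s)).obj A
    letI : GrpObj F := Functor.grpObjObj
    haveI : IsProper F.hom := inferInstanceAs (IsProper (pullback.snd A.hom (S.fromSpecResidueField s)))
    haveI : Smooth F.hom := inferInstanceAs (Smooth (pullback.snd A.hom (S.fromSpecResidueField s)))
    haveI : GeometricallyConnected F.hom :=
      inferInstanceAs (GeometricallyConnected (pullback.snd A.hom (S.fromSpecResidueField s)))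
    let Y := Groth.Agent.AVEuler.bar F
    letI : GrpObj Y := Functor.grpObjObj
    haveI : IsProper Y.hom := inferInstanceAs (IsProper (pullback.snd F.hom Groth.Agent.AVEuler.barMap))
    haveI : Smooth Y.hom := inferInstanceAs (Smooth (pullback.snd F.hom Groth.Agent.AVEuler.barMap))
    haveI : GeometricallyConnected Y.hom :=
      inferInstanceAs (GeometricallyConnected (pullback.snd F.hom Groth.Agent.AVEuler.barMap))
    let LF : F.left.Modules := (Scheme.Modules.pullback (pullback.fst A.hom (S.fromSpecResidueField s))).obj L
    have h2 := Groth.Agent.AmpleX.isRelAmple_baseChange F.hom Groth.Agent.AVEuler.barMap (L := LF)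
      (Groth.Agent.AmpleX.isRelAmple_baseChange A.hom (S.fromSpecResidueField s) hample)
    have hamp : CohB1.IsAmple ((Scheme.Modules.pullback (Groth.Agent.AVEuler.barP F)).obj LF) :=
      (Groth.Agent.AmpleX.isRelAmple_iff_isAmple (pullback.snd F.hom Groth.Agent.AVEuler.barMap) _).1 h2
    letI : F.left.Over (Spec (CommRingCat.of κ)) := ⟨F.hom⟩
    haveI : IsProper (F.left ↘ Spec (CommRingCat.of κ)) := inferInstanceAs (IsProper F.hom)
    exact (Groth.Agent.CohBasic.subsingleton_HH_bc_iff κ F.left (AlgebraicClosure κ)
      (Groth.Agent.ProjUPX.isQCoh_of_isInvertible (PicClLib.isInvertible_pullback _ hL)) i).1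
      ((Groth.Agent.S14124.result (AlgebraicClosure κ) Y _ hamp).1 i hi)
  refine ⟨fun i hi => Groth.Agent.AVVanish.isZero_of_locally fun y =>
    Groth.Agent.S2385.result A.hom L hLc hLf y i (hfib y i hi), ?_⟩
  have h := (Groth.Agent.S2389.result A.hom L hLc hLf 0 fun y i hi => hfib y i (Nat.pos_of_ne_zero hi)).1
  haveI := Groth.Agent.SpObjSS.enoughInjectives_of_hasInjectiveResolutions (C := A.left.Modules)
  intro x
  obtain ⟨U, n, hxU, ⟨e⟩⟩ := h x
  exact ⟨U, n, hxU, ⟨(Scheme.Modules.restrictFunctor U.ι).mapIso
    (((Scheme.Modules.pushforward A.hom).rightDerivedZeroIsoSelf.app L).symm) ≪≫ e⟩⟩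


end Groth.Agent.S14164
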