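import Groth.Statements.S14168
import Groth.Agent.TorHyp.Count
import Groth.Agent.TorHyp.Scale
import Groth.Agent.TorHyp.Coord
import Groth.Agent.Lib.AVMulN
import Groth.Agent.Lib.AVDual
import Groth.Agent.GITQuot.Good

set_option backward.isDefEq.respectTransparency false
set_option backward.isDefEq.respectTransparency.types false
set_option linter.style.haveILetI false
-- import your own Groth.Agent.* helpers here

set_option autoImplicit false
universe u
open CategoryTheory CategoryTheory.Limits MonoidalCategory CartesianMonoidalCategory MonObj AlgebraicGeometry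
open GIT

set_option backward.isDefEq.respectTransparency false
set_option backward.isDefEq.respectTransparency.types false
set_option linter.style.haveILetI false
set_option maxHeartbeats 1000000
attribute [-instance] CategoryTheory.catToReflQuiver
open scoped Groth.Agent.H23.PicMul

namespace Groth.Agent.S14168

/-- Let k be an algebraically closed field, A an abelian variety over k of dimension g with commutative
group law, and φ : A ⟶ P^m_k a closed immersion over k whose image lies in no hyperplane. Let r be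
the degree of φ(A) in P^m_k, that is the g-fold self-intersection number of φ^*O(1) (written with an
inverse L' of φ^*O(1) as the alternating sum of Euler characteristics), and let n be non-zero in k
with n ^ 2 > (m + 1)·r. Then every hyperplane of P^m_k contains the images of fewer than
n^(2g)/(m+1) of the n-torsion k-points of A: for every non-zero c : Fin (m+1) → k, (m + 1) times the
number of k-points x of A with x ^ n = 1 at which the linear form Σ c_i T_i vanishes is less than n
^ (2g). (The published statement concludes that the n-torsion points, in any order, form a stable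
point of (P^m)^(n^(2g)); this row states the hyperplane count from which the printed argument
derives it.) -/
theorem result (k : Type u) [Field k] [IsAlgClosed k] (A : Scheme.{u})
    [A.Over (Spec (CommRingCat.of k))] [GrpObj (A.asOver (Spec (CommRingCat.of k)))] [IsCommMonObj (A.asOver (Spec (CommRingCat.of k)))]
    (g : ℕ) (hA : AgPol.IsAbSch (A.asOver (Spec (CommRingCat.of k))) g) (m : ℕ) (φ : A ⟶ CohB1.ProjSpace m k)
    (hφ : IsClosedImmersion φ) (hφk : φ ≫ CohB1.ProjSpace.toSpec m k = A ↘ Spec (CommRingCat.of k))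
    (hspan : ∀ c : Fin (m + 1) → k, c ≠ 0 →
      ∃ x : 𝟙_ (Over (Spec (CommRingCat.of k))) ⟶ A.asOver (Spec (CommRingCat.of k)), c ∉ ProjUP.secKernel m k (x.left ≫ φ))
    (L' : A.Modules) (hL' : ClSub.IsInverseOf L' ((Scheme.Modules.pullback φ).obj (Twist.twistProjSpace m k 1)))
    (r : ℕ) (hr : FGA.intNum k A g (fun _ : Fin g => L') (Coh.structureModule A) = r)
    (n : ℕ) (hn : (n : k) ≠ 0) (hnr : (m + 1) * r < n ^ 2) (c : Fin (m + 1) → k) (hc : c ≠ 0) :
    (m + 1) * Nat.card {x : 𝟙_ (Over (Spec (CommRingCat.of k))) ⟶ A.asOver (Spec (CommRingCat.of k)) //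
        x ^ n = 1 ∧ c ∈ ProjUP.secKernel m k (x.left ≫ φ)} < n ^ (2 * g) := by
  classical
  let AO := A.asOver (Spec (CommRingCat.of k))
  haveI : Smooth AO.hom := hA.smooth
  haveI : IsProper AO.hom := hA.proper
  haveI : GeometricallyConnected AO.hom := hA.geomConnected
  haveI : GeometricallyIntegral AO.hom := Groth.Agent.AVDual.geometricallyIntegral_of_smooth AO
  haveI : IsProper (A ↘ Spec (CommRingCat.of k)) := hA.proper
  haveI : IsIntegral A := GeometricallyIntegral.isIntegral_of_subsingleton AO.hom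
  haveI := hφ
  haveI := Groth.Agent.CurveCohLib.isNoetherian_of_proper (k := k) (X := A)
  let pt : Spec (CommRingCat.of k) := IsLocalRing.closedPoint k
  have hpt : (default : Spec (CommRingCat.of k)) = pt := Subsingleton.elim _ _
  have hgA : topologicalKrullDim A = (g : WithBot ℕ∞) := by
    have h := hA.fibreDim pt
    have hu : (AO.hom ⁻¹' {pt} : Set A) = Set.univ := Set.eq_univ_of_forall fun x =>
      Subsingleton.elim (α := Spec (CommRingCat.of k)) _ _
    rw [(AO.hom.fiberHomeo pt).isHomeomorph.topologicalKrullDim_eq, hu] at h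
    exact (Homeomorph.Set.univ A).isHomeomorph.topologicalKrullDim_eq.symm.trans h
  have hn0 : n ≠ 0 := fun h => hn (by rw [h, Nat.cast_zero])
  let T := {x : 𝟙_ (Over (Spec (CommRingCat.of k))) ⟶ AO //
      x ^ n = 1 ∧ c ∈ ProjUP.secKernel m k (x.left ≫ φ)}
  show (m + 1) * Nat.card T < n ^ (2 * g)
  have hsec : ∀ x : 𝟙_ (Over (Spec (CommRingCat.of k))) ⟶ AO,
      (x.left ≫ φ) ≫ CohB1.ProjSpace.toSpec m k = 𝟙 _ := fun x => by
    rw [Category.assoc, hφk]
    exact Over.w x
  have hmem : ∀ (x : 𝟙_ (Over (Spec (CommRingCat.of k))) ⟶ AO) (c' : Fin (m + 1) → k),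
      c' ∈ ProjUP.secKernel m k (x.left ≫ φ) ↔
        φ (x.left pt) ∉ Proj.basicOpen (CohB1.polyGrading m k) (Groth.Agent.TorHyp.form c') := fun x c' => by
    rw [Groth.Agent.TorHyp.mem_secKernel_iff _ (hsec x) c', Groth.Agent.TorHyp.image, hpt]
    rfl
  obtain ⟨y₀, hy₀⟩ := hspan c hc
  rw [hmem, not_not] at hy₀
  rcases Nat.eq_zero_or_pos g with hg0 | hgpos
  · subst hg0
    have : IsEmpty T := ⟨fun x => by
      have h := (hmem x.1 c).1 x.2.2
      have hsub : ∀ a b : A, a = b := fun a b => by
        have hcl := fun z : A => Groth.Agent.Euler.closure_eq_self_of_dim_le_zero isClosed_univ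
          ((topologicalKrullDim_subspace_le A _).trans hgA.le) (Set.mem_univ z)
        have e := (hcl (genericPoint A)).le
        rw [genericPoint_closure] at e
        exact (e (Set.mem_univ a) : a = _).trans (e (Set.mem_univ b) : b = _).symm
      exact h (by rw [hsub (x.1.left pt) (y₀.left pt)]; exact hy₀)⟩
    rw [Nat.card_of_isEmpty, mul_zero, Nat.mul_zero, pow_zero]
    exact Nat.one_pos
  obtain ⟨g', rfl⟩ := Nat.exists_eq_add_of_le' hgpos
  have hpos : 0 < n ^ (2 * (g' + 1)) := pow_pos (Nat.pos_of_ne_zero hn0) _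
  rcases finite_or_infinite T with hT | hT
  swap
  · rw [Nat.card_eq_zero_of_infinite, mul_zero]
    exact hpos
  haveI := Fintype.ofFinite T
  -- the map [n] followed by the embedding
  let q : AO ⟶ AO := 𝟙 AO ^ n
  let ν : A ⟶ A := q.left
  let ψ : A ⟶ CohB1.ProjSpace m k := ν ≫ φ
  haveI : IsFinite ν := Groth.Agent.AVMulN.isFinite_pow (A := AO) n (Nat.pos_of_ne_zero hn0)
  let o : 𝟙_ (Over (Spec (CommRingCat.of k))) ⟶ AO := 1
  let P : CohB1.ProjSpace m k := φ (o.left pt)
  have hP : ∀ y, y ≠ P → ∃ c' : Fin (m + 1) → k,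
      P ∉ Proj.basicOpen (CohB1.polyGrading m k) (Groth.Agent.TorHyp.form c') ∧
        y ∈ Proj.basicOpen (CohB1.polyGrading m k) (Groth.Agent.TorHyp.form c') := fun y hy => by
    have e : Groth.Agent.TorHyp.image (o.left ≫ φ) = P := by
      rw [Groth.Agent.TorHyp.image, hpt]; rfl
    obtain ⟨c', h1, h2⟩ := Groth.Agent.TorHyp.exists_form _ (hsec o) (y := y) (by rw [e]; exact hy)
    exact ⟨c', by rwa [e] at h1, h2⟩
  have hclP : ∀ z, ψ z = P → IsClosed ({z} : Set A) := fun z hz => by
    have hz' : ν z = o.left pt := hφ.base_closed.injective hz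
    have hcl : IsClosed (ν ⁻¹' {o.left pt}) :=
      (Groth.Agent.GITQuot.Good.isClosed_point AO o).preimage ν.continuous
    haveI := ν.finite_preimage_singleton (o.left pt) |>.to_subtype
    have hsub : closure ({z} : Set A) ⊆ ν ⁻¹' {o.left pt} :=
      hcl.closure_subset_iff.2 (Set.singleton_subset_iff.2 hz')
    haveI : JacobsonSpace A := LocallyOfFiniteType.jacobsonSpace AO.hom
    have hfin : (closure ({z} : Set A)).Finite := (ν.finite_preimage_singleton (o.left pt)).subset hsub
    have hcls : IsClosed (closure ({z} : Set A) ∩ closedPoints A) := by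
      rw [← Set.biUnion_of_singleton (closure ({z} : Set A) ∩ closedPoints A)]
      exact (hfin.subset Set.inter_subset_left).isClosed_biUnion fun y hy => hy.2
    have hz0 : z ∈ closure (closure ({z} : Set A) ∩ closedPoints A) := by
      rw [JacobsonSpace.closure_inter_closedPoints_eq_closure isClosed_closure.isLocallyClosed, closure_closure]
      exact subset_closure rfl
    rw [hcls.closure_eq] at hz0
    exact hz0.2
  -- the classes
  let L := (Scheme.Modules.pullback φ).obj (Twist.twistProjSpace m k 1)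
  have hLi : PicF.IsInvertible L := PicClLib.isInvertible_pullback φ
    (Groth.Agent.PnCoh.Finite.isInvertible_twist (𝒜 := CohB1.polyGrading m k)
      (fun i : Fin (m + 1) => (MvPolynomial.X i : MvPolynomial (Fin (m + 1)) k))
      (fun i => Groth.Agent.ProjPt.X_mem i)
      (top_le_iff.1 fun y _ => TopologicalSpace.Opens.mem_iSup.2 (Groth.Agent.ProjUPX.cov_X y)) 1)
  have hL'cl : PicF.cl L' * PicF.cl L = 1 := by
    rw [← Groth.Agent.H23.PicMul.cl_tensor, Groth.Agent.H23.PicMul.one_def]
    exact Groth.Agent.H23.PicMul.cl_eq_iff.2 hL'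
  have hpull : PicF.cl (Groth.Agent.PnCoh.Chow.pullTw φ ((1 : ℕ) : ℤ)) = PicF.cl L := rfl
  have hL'i : PicF.IsInvertible L' := by
    obtain ⟨M, hM, ⟨e⟩⟩ := Groth.Agent.H23.PicInv.exists_inverse hLi
    have h1 : PicF.cl L * PicF.cl M = 1 := by
      rw [← Groth.Agent.H23.PicMul.cl_tensor, Groth.Agent.H23.PicMul.one_def]
      exact Groth.Agent.H23.PicMul.cl_eq_iff.2 ⟨e⟩
    have : PicF.cl L' = PicF.cl M := by
      calc PicF.cl L' = PicF.cl L' * (PicF.cl L * PicF.cl M) := by rw [h1, _root_.mul_one]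
        _ = PicF.cl M := by rw [← _root_.mul_assoc, hL'cl, _root_.one_mul]
    obtain ⟨e'⟩ := Groth.Agent.H23.PicMul.cl_eq_iff.1 this
    exact Groth.Agent.H23.PicMul.isInvertible_of_iso e'.symm hM
  have hu' : PicF.IsInvertibleCl (PicF.cl L') := ⟨L', rfl, hL'i⟩
  let u := (Groth.Agent.H23.PicMul.isUnit_of_isInvertibleCl hu').unit
  let N := (Scheme.Modules.pullback ν).obj L'
  have hNi : PicF.IsInvertible N := PicClLib.isInvertible_pullback _ hL'i
  have hψN : PicF.cl (Groth.Agent.PnCoh.Chow.pullTw ψ ((1 : ℕ) : ℤ)) * PicF.cl N = 1 := by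
    rw [show PicF.cl (Groth.Agent.PnCoh.Chow.pullTw ψ ((1 : ℕ) : ℤ)) =
      PicF.pullCl ν (PicF.cl (Groth.Agent.PnCoh.Chow.pullTw φ ((1 : ℕ) : ℤ))) from
        (PicClLib.pullCl_comp ν φ (PicF.cl (Twist.twistProjSpace m k ((1 : ℕ) : ℤ)))).symm, hpull]
    show _ * PicF.pullCl ν (PicF.cl L') = 1
    rw [← Groth.Agent.H23.PicMul.pullCl_mul, _root_.mul_comm, hL'cl, Groth.Agent.H23.PicMul.pullCl_one]
  -- the divisor
  have hη : φ (genericPoint A) ∈ Proj.basicOpen (CohB1.polyGrading m k) (Groth.Agent.TorHyp.form c) :=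
    ((genericPoint_spec A).mem_open_set_iff (φ ⁻¹ᵁ Proj.basicOpen (CohB1.polyGrading m k) (Groth.Agent.TorHyp.form c)).2).2
      ⟨y₀.left pt, Set.mem_univ _, hy₀⟩
  obtain ⟨I, hI, hIs, hIcl⟩ := Groth.Agent.Big.exists_linForm_divisor φ _ (Groth.Agent.TorHyp.form_mem c) hη
  have hIL : PicF.cl (ClSub.idealMod I) = PicF.cl L' := by
    rw [hpull] at hIcl
    calc PicF.cl (ClSub.idealMod I) = PicF.cl L' * PicF.cl L * PicF.cl (ClSub.idealMod I) := by
          rw [hL'cl, _root_.one_mul]
      _ = PicF.cl L' := by rw [_root_.mul_assoc, hIcl, _root_.mul_one]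
  let S : Finset A := Finset.univ.image fun x : T => x.1.left pt
  have hS : S.card = Nat.card T := by
    show (Finset.univ.image fun x : T => x.1.left pt).card = _
    rw [Nat.card_eq_fintype_card, ← Finset.card_univ]
    exact Finset.card_image_of_injective _ (fun x y h =>
      Subtype.ext (Groth.Agent.GITQuot.Good.point_ext h))
  have hSP : ∀ z ∈ S, ψ z = P := fun z hz => by
    obtain ⟨x, -, rfl⟩ := Finset.mem_image.1 hz
    have e : x.1 ≫ q = o := by rw [MonObj.comp_pow, Category.comp_id, x.2.1]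
    show φ (ν (x.1.left pt)) = φ (o.left pt)
    rw [← e]
    rfl
  have hcov : ∀ z ∈ S, ∃ ξ ∈ (I.support : Set A), ξ ⤳ z ∧
      topologicalKrullDim (closure ({ξ} : Set A)) = (g' : WithBot ℕ∞) := fun z hz => by
    obtain ⟨x, -, rfl⟩ := Finset.mem_image.1 hz
    refine Groth.Agent.TorHyp.exists_top_generization k hgA hI ?_
    rw [hIs]
    exact (hmem x.1 c).1 x.2.2
  have hbound := Groth.Agent.TorHyp.card_le_sum (Groth.Agent.TorHyp.cnt m g') ψ hP hclP hNi hψN I
    (Groth.Agent.Big.dim_support_le k hI hgA.le) S hSP hcov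
  haveI : Mono ((Groth.Agent.AmpleVan.tw (Coh.structureModule A)).map (ClSub.idealModι I)) := by
    haveI := Groth.Agent.AmpleVan.isEquivalence_tw (CurveDeg.isInvertible_structureModule (X := A))
    haveI : Mono (ClSub.idealModι I) := inferInstanceAs (Mono (kernel.ι _))
    infer_instance
  have hstep : Groth.Agent.Big.alt k (fun _ : Fin g' => N) (ClSub.quotMod I) =
      Groth.Agent.Big.alt k (Fin.cons L' fun _ : Fin g' => N) (Coh.structureModule A) := by
    rw [← Groth.Agent.Big.alt_congr_cl k (M := Fin.cons (ClSub.idealMod I) fun _ : Fin g' => N)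
      (F := Coh.structureModule A) (N := Fin.cons L' fun _ : Fin g' => N) (G := Coh.structureModule A)
      (Fin.cases hIL fun _ => rfl) rfl,
      Groth.Agent.Big.alt_cons_ideal k (fun _ => hNi) Groth.Agent.QCoh.isCoh_structureModule'
        (Groth.Agent.Big.isInvertible_ideal hI)]
    exact Groth.Agent.Big.alt_congr_cl k (fun _ => rfl)
      (by rw [Groth.Agent.H23.PicMul.cl_tensor, Groth.Agent.H23.PicMul.one_def.symm, _root_.one_mul])
  have huI : PicF.IsInvertibleCl (u : PicF.Cl A) := hu'
  obtain ⟨j, hj⟩ := Groth.Agent.TorHyp.exists_R_pow (A := AO) (u := u) huI n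
  have hNcl : PicF.cl N = Units.val (Groth.Agent.AVEuler.R (A := AO) u q) := rfl
  haveI : IsProper (AO.left ↘ Spec (CommRingCat.of k)) := hA.proper
  have h1 := Groth.Agent.TorHyp.alt_eq_prod (A := AO) (hp := hA.proper) rfl hgA huI
    (M := (Fin.cons L' fun _ : Fin g' => N : Fin (g' + 1) → A.Modules)) (Fin.cons 1 fun _ => n ^ 2)
    (Fin.cases ⟨0, by rw [Fin.cons_zero, Fin.cons_zero, pow_one, zpow_zero, _root_.mul_one]; rfl⟩
      fun i => ⟨j, by rw [Fin.cons_succ, Fin.cons_succ, hNcl, hj]⟩)
  have h2 := Groth.Agent.TorHyp.alt_eq_prod (A := AO) (hp := hA.proper) rfl hgA huI (M := fun _ : Fin (g' + 1) => L') (fun _ => 1)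
    (fun i => ⟨0, by rw [pow_one, zpow_zero, _root_.mul_one]; rfl⟩)
  have hr' : Groth.Agent.Big.alt k (fun _ : Fin (g' + 1) => L') (Coh.structureModule A) = r := by
    rw [← Groth.Agent.Big.intNum_eq_alt k hgA.le (fun _ => hL'i) Groth.Agent.QCoh.isCoh_structureModule', hr]
    norm_num
  replace h2 := hr'.symm.trans h2
  rw [Nat.cast_one, Finset.prod_const_one, _root_.one_mul] at h2
  rw [Fin.prod_univ_succ] at h1
  simp only [Fin.cons_zero, Fin.cons_succ, Nat.cast_one, _root_.one_mul, Finset.prod_const, Finset.card_univ,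
    Fintype.card_fin] at h1
  rw [hstep] at hbound
  replace hbound := hbound.trans_eq h1
  rw [← h2, hS] at hbound
  have hb : Nat.card T ≤ (n ^ 2) ^ g' * r := by exact_mod_cast hbound
  calc (m + 1) * Nat.card T ≤ (m + 1) * ((n ^ 2) ^ g' * r) := Nat.mul_le_mul_left _ hb
    _ = (n ^ 2) ^ g' * ((m + 1) * r) := by ring
    _ < (n ^ 2) ^ g' * n ^ 2 := Nat.mul_lt_mul_of_pos_left hnr (pow_pos (pow_pos (Nat.pos_of_ne_zero hn0) 2) _)
    _ = n ^ (2 * (g' + 1)) := by ring

end Groth.Agent.S14168
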