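import Groth.Statements.S14172
import Groth.Agent.PowReg.Main
-- import your own Groth.Agent.* helpers here

set_option autoImplicit false
universe u
open CategoryTheory CategoryTheory.Limits AlgebraicGeometry
open Variety

namespace Groth.Agent.S14172

/-- Let k be an algebraically closed field of characteristic zero (the published statement is over the
complex numbers; this row allows any algebraically closed field of characteristic zero), I a
quasi-coherent ideal sheaf on P^n_k, viewed as an O-module, and d an integer such that I(d) = I ⊗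
O(d) is generated by its global sections. Then reg(I^p) ≤ d p + e for a suitable integer e and every
p ≥ 1: the p-th power I^p is m-regular whenever m ≥ d p + e. -/
theorem result (k : Type u) [Field k] [IsAlgClosed k] [CharZero k]
    (n : ℕ) (I : (CohB1.ProjSpace n k).IdealSheafData) (d : ℤ)
    (hd : Curv2.IsGloballyGenerated (CohB1.tensorMod (ClSub.idealMod I) (Twist.twistProjSpace n k d))) :
    ∃ e : ℤ, ∀ p : ℕ, 1 ≤ p → ∀ m : ℤ, d * (p : ℤ) + e ≤ m →
      Curv2.IsMRegular k n (ClSub.idealMod (I ^ p)) m := by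
  open Groth.Agent Groth.Agent.H23.PicMul in
  haveI : IsProper ((CohB1.ProjSpace n k) ↘ Spec (CommRingCat.of k)) := PnCoh.Chow.isProper_toSpec n k
  have hN := PowReg.twist_invertible k n d
  have hL : CohB1.IsAmple (Twist.twistProjSpace n k 1) := (S19174.isAmple_twist k n 1 one_pos).2
  obtain ⟨e, he⟩ := PowReg.exists_vanishing_powers k hL hN I hd
  refine ⟨(e : ℤ) + n, fun p hp m hm i hi1 hin => ?_⟩
  obtain ⟨q, rfl⟩ : ∃ q, i = q + 1 := ⟨i - 1, by omega⟩
  obtain ⟨j, hj⟩ : ∃ j : ℕ, (j : ℤ) = m - ((q + 1 : ℕ) : ℤ) - d * p := ⟨(m - ((q + 1 : ℕ) : ℤ) - d * p).toNat, by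
    rw [Int.toNat_of_nonneg]; push_cast; omega⟩
  have hej : e ≤ j := by push_cast at hj; omega
  have key : PicF.cl (CohB1.tensorMod (CohB1.tensorMod (ClSub.idealMod (I ^ p))
        (CohB1.tensorPow (Twist.twistProjSpace n k d) p)) (CohB1.tensorPow (Twist.twistProjSpace n k 1) j)) =
      PicF.cl (CohB1.tensorMod (ClSub.idealMod (I ^ p))
        (Twist.twistProjSpace n k (m - ((q + 1 : ℕ) : ℤ)))) := by
    rw [cl_tensor, cl_tensor, cl_tensor, cl_tensorPow, cl_tensorPow, mul_assoc,
      ← PowReg.cl_twist_mul, ← PowReg.cl_twist_mul, ← PowReg.cl_twist_add, hj]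
    congr 3
    ring
  obtain ⟨φ⟩ := cl_eq_iff.1 key
  haveI := he j hej p q
  exact QCoh.subsingleton_HH_of_iso φ (q + 1) inferInstance

end Groth.Agent.S14172
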