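import Groth.Statements.S14183
import Groth.Agent.LocSymLib.PicMod
import Mathlib.RingTheory.RootsOfUnity.EnoughRootsOfUnity
import Mathlib.FieldTheory.IsSepClosed

set_option autoImplicit false
universe u
open CategoryTheory AlgebraicGeometry
open LocSym

namespace Groth.Agent.S14183
open Groth.Agent

open W4c1etcurveeff2 in
/-- Let k be an algebraically closed field, X a smooth proper integral curve over k (structure morphism
c, dimension one), m a reduced modulus (every multiplicity at most 1) whose support S has s points,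
and n ≥ 1 an integer invertible in k. Let Pic be the group of divisors on k-points modulo divisors
of nonzero rational functions and Pic_m the group of divisors vanishing on S modulo divisors of
nonzero rational functions congruent to 1 modulo m. Then every n-torsion class of Pic is the image
of an n-torsion class of Pic_m, and the n-torsion classes of Pic_m that map to zero in Pic are
exactly n^(s−1) in number (they form μ_n(k)^S modulo the diagonal μ_n(k)): the short exact sequence
0 → μ_n^S/μ_n → Pic_m[n] → Pic[n] → 0. (The published statement is for the degree-zero parts;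
n-torsion classes have degree zero, so this is the same sequence. For s = 0 the two groups coincide
and the count is 1.) -/
theorem result
    (k : Type u) [Field k] [IsAlgClosed k] (X : Scheme.{u}) [IsIntegral X]
    (c : X ⟶ Spec (CommRingCat.of k)) [IsProper c] [Smooth c] (hdim : topologicalKrullDim X = 1)
    (m : LocSym.Pt c →₀ ℕ) (hm : ∀ x : LocSym.Pt c, m x ≤ 1)
    (s : ℕ) (hs : m.support.card = s) (n : ℕ) (hn : 1 ≤ n) (hnk : (n : k) ≠ 0) :
    (∀ y : Pic c, n • y = 0 → ∃ x : PicMod c m, n • x = 0 ∧ picModToPic c m x = y) ∧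
    Nat.card {x : PicMod c m // n • x = 0 ∧ picModToPic c m x = 0} = n ^ (s - 1) := by
  classical
  have hcl : ∀ v : LocSym.Pt c → kˣ, ∃ (g : X.functionField) (D : divAway c m),
      IsDivOf c (D : LocSym.Pt c →₀ ℤ) g ∧ ∀ x ∈ m.support, LocSym.HasValueAt x g (v x : k) :=
    fun v => LocSymLib.exists_fun_values hdim v
  choose gv Dv hgv hvv using hcl
  let cl : (LocSym.Pt c → kˣ) → PicMod c m := fun v => QuotientAddGroup.mk (Dv v)
  have hdiv : ∀ v w, cl v - cl w = 0 ↔ ∃ a : kˣ, ∀ x ∈ m.support, v x / w x = a := fun v w => by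
    change (QuotientAddGroup.mk (Dv v - Dv w) : PicMod c m) = 0 ↔ _
    refine LocSymLib.mk_eq_zero_iff hdim hm (g := gv v / gv w) (v := fun x => v x / w x) ?_
      fun x hx => ?_
    · simpa using LocSymLib.isDivOf_div hdim (hgv v) (hgv w)
    · rw [Units.val_div_eq_div_val]
      exact LocSymLib.value_div c hdim x (w x).ne_zero (hvv v x hx) (hvv w x hx)
  have hone : ∀ v, cl v = 0 ↔ ∃ a : kˣ, ∀ x ∈ m.support, v x = a := fun v =>
    LocSymLib.mk_eq_zero_iff hdim hm (hgv v) (hvv v)
  have hsmul : ∀ v, n • cl v = cl (v ^ n) := fun v => by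
    change (QuotientAddGroup.mk (n • Dv v) : PicMod c m) = _
    refine LocSymLib.mk_eq_of_values hdim hm (g := gv v ^ n) ?_ (hgv (v ^ n)) (fun x hx => ?_) (hvv (v ^ n))
    · simpa using LocSymLib.isDivOf_pow hdim (hgv v) n
    · rw [Pi.pow_apply, Units.val_pow_eq_pow_val]
      exact LocSymLib.value_pow c hdim x (hvv v x hx) n
  have hker : ∀ y : PicMod c m, picModToPic c m y = 0 ↔ ∃ v, y = cl v := by
    refine fun y => (LocSymLib.picModToPic_eq_zero_iff hdim y).trans
      ⟨?_, fun ⟨v, hv⟩ => ⟨gv v, Dv v, v, hgv v, hvv v, hv⟩⟩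
    rintro ⟨g, D, v, hg, hv, rfl⟩
    exact ⟨v, LocSymLib.mk_eq_of_values hdim hm hg (hgv v) hv (hvv v)⟩
  have hroot : ∀ a : kˣ, ∃ b : kˣ, b ^ n = a := fun a => by
    obtain ⟨b, hb⟩ := IsAlgClosed.exists_pow_nat_eq (a : k) hn
    have hb0 : b ≠ 0 := fun e => a.ne_zero (by rw [← hb, e, zero_pow (by omega)])
    exact ⟨Units.mk0 b hb0, Units.ext (by simpa using hb)⟩
  refine ⟨fun y hy => ?_, ?_⟩
  · obtain ⟨x0, hx0⟩ := LocSymLib.picModToPic_surjective hdim (c := c) (m := m) y
    obtain ⟨v, hv⟩ := (hker (n • x0)).1 (by rw [map_nsmul, hx0, hy])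
    choose w hw using fun x => hroot (v x)
    refine ⟨x0 - cl w, ?_, ?_⟩
    · rw [nsmul_sub, hsmul, hv, show w ^ n = v from funext hw, sub_self]
    · rw [map_sub, hx0, (hker (cl w)).2 ⟨w, rfl⟩, sub_zero]
  obtain ⟨T, hTS, hTc, hTu⟩ : ∃ T : Finset (LocSym.Pt c), T ⊆ m.support ∧ T.card = s - 1 ∧
      ∀ x ∈ m.support, ∃ s0 ∈ m.support, s0 ∉ T ∧ (x ∉ T → x = s0) := by
    rcases m.support.eq_empty_or_nonempty with h | ⟨s0, h0⟩
    · exact ⟨∅, by simp, by rw [h] at hs; simp [← hs], by simp [h]⟩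
    · refine ⟨m.support.erase s0, Finset.erase_subset _ _, by rw [Finset.card_erase_of_mem h0, hs],
        fun x hx => ⟨s0, h0, by simp, fun hxT => ?_⟩⟩
      by_contra hne
      exact hxT (Finset.mem_erase.2 ⟨hne, hx⟩)
  let ext : (T → rootsOfUnity n k) → LocSym.Pt c → kˣ := fun w x =>
    if h : x ∈ T then (w ⟨x, h⟩ : kˣ) else 1
  have hext : ∀ w x, ext w x ^ n = 1 := fun w x => by
    simp only [ext]
    split_ifs with h
    · exact (mem_rootsOfUnity n _).1 (w ⟨x, h⟩).2
    · exact one_pow n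
  let F : (T → rootsOfUnity n k) → {x : PicMod c m // n • x = 0 ∧ picModToPic c m x = 0} := fun w =>
    ⟨cl (ext w), by rw [hsmul, hone]; exact ⟨1, fun x _ => hext w x⟩, (hker _).2 ⟨_, rfl⟩⟩
  have hbij : Function.Bijective F := by
    refine ⟨fun w w' h => ?_, fun ⟨y, hy1, hy2⟩ => ?_⟩
    · obtain ⟨a, ha⟩ := (hdiv _ _).1 (sub_eq_zero.2 (Subtype.ext_iff.1 h : cl (ext w) = cl (ext w')))
      funext ⟨x, hx⟩
      obtain ⟨s0, h0, h0T, -⟩ := hTu x (hTS hx)
      have e0 := ha s0 h0
      have e1 := ha x (hTS hx)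
      simp only [ext, dif_neg h0T, div_one] at e0
      simp only [ext, dif_pos hx, ← e0, div_eq_one] at e1
      exact Subtype.ext e1
    · obtain ⟨v, rfl⟩ := (hker y).1 hy2
      obtain ⟨a, ha⟩ := (hone _).1 (show cl (v ^ n) = 0 by rw [← hsmul]; exact hy1)
      obtain ⟨b, hb⟩ : ∃ b : kˣ, ∀ x ∈ m.support, x ∉ T → v x = b := by
        rcases m.support.eq_empty_or_nonempty with h | ⟨x, hx⟩
        · exact ⟨1, by simp [h]⟩
        · obtain ⟨s0, h0, h0T, -⟩ := hTu x hx
          refine ⟨v s0, fun z hz hzT => ?_⟩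
          obtain ⟨s1, -, -, hz1⟩ := hTu z hz
          obtain ⟨s2, -, -, h02⟩ := hTu s0 h0
          by_contra hne
          have : z ∈ m.support \ T ∧ s0 ∈ m.support \ T := by simp [hz, hzT, h0, h0T]
          have hle : (m.support \ T).card ≤ 1 := by rw [Finset.card_sdiff_of_subset hTS, hTc, hs]; omega
          exact hne (by rw [Finset.card_le_one.1 hle z this.1 s0 this.2])
      refine ⟨fun x => ⟨v x / b, ?_⟩, ?_⟩
      · obtain ⟨s0, h0, h0T, -⟩ := hTu x (hTS x.2)
        rw [mem_rootsOfUnity, div_pow, ← hb s0 h0 h0T]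
        exact div_eq_one.2 ((ha x (hTS x.2)).trans (ha s0 h0).symm)
      · refine Subtype.ext (sub_eq_zero.1 ((hdiv _ _).2 ⟨b⁻¹, fun x hx => ?_⟩))
        simp only [ext]
        split_ifs with h
        · simp [div_div_cancel_left, div_right_comm]
        · rw [hb x hx h, one_div]
  haveI : NeZero n := ⟨by omega⟩
  haveI : NeZero (n : k) := ⟨hnk⟩
  rw [← Nat.card_congr (Equiv.ofBijective F hbij), Nat.card_fun,
    HasEnoughRootsOfUnity.natCard_rootsOfUnity k n, Nat.card_eq_fintype_card (α := T),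
    Fintype.card_coe, hTc]

end Groth.Agent.S14183
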