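import Groth.Statements.S14184
import Groth.Agent.LocSymLib.Reciprocity
-- import your own Groth.Agent.* helpers here

set_option autoImplicit false
universe u
open CategoryTheory AlgebraicGeometry
open LocSym

namespace Groth.Agent.S14184

open Groth.Agent

/-- Let k be an algebraically closed field and X a smooth proper integral curve over k (structure
morphism c, dimension one); points are k-points and ord_x is the valuation at x. Let n ≥ 1, let Z be
a finite set of points, let f₁, f₂ be nonzero rational functions and D₁, D₁′, D₂ divisors (finitely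
supported integer-valued functions on points) with n·D₁ = div(f₁) + D₁′, D₁′ supported on Z, n·D₂ =
div(f₂), f₂ taking the value 1 at every point of Z, and div(f₁) and D₂ with disjoint supports. Let
v₁(x) ∈ kˣ be the value of f₁ at each point of the support of D₂ and v₂(x) ∈ kˣ the value of f₂ at
each point of the support of D₁. Then the quotient of ∏_x v₁(x)^{D₂(x)} by ∏_x v₂(x)^{D₁(x)} is an
n-th root of unity: its n-th power is 1. (This quotient f₁(D₂)/f₂(D₁) is the generalised Weil
pairing of the classes of (D₁, D₁′, f₁) and D₂; the published statement also normalises f₁, f₂ at a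
base point, which is not needed for this assertion.) -/
theorem result
    (k : Type u) [Field k] [IsAlgClosed k] (X : Scheme.{u}) [IsIntegral X]
    (c : X ⟶ Spec (CommRingCat.of k)) [IsProper c] [Smooth c] (hdim : topologicalKrullDim X = 1)
    (n : ℕ) (hn : 1 ≤ n) (Z : Finset (LocSym.Pt c))
    (f₁ f₂ : X.functionField) (hf₁ : f₁ ≠ 0) (hf₂ : f₂ ≠ 0)
    (D₁ D₁' D₂ : LocSym.Pt c →₀ ℤ)
    (hD₁ : ∀ x : LocSym.Pt c, (n : ℤ) * D₁ x = x.ord f₁ + D₁' x) (hD₁' : D₁'.support ⊆ Z)
    (hD₂ : ∀ x : LocSym.Pt c, (n : ℤ) * D₂ x = x.ord f₂)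
    (hf₂Z : ∀ x ∈ Z, LocSym.HasValueAt x f₂ 1)
    (hdisj : ∀ x : LocSym.Pt c, x.ord f₁ = 0 ∨ D₂ x = 0)
    (v₁ v₂ : LocSym.Pt c → kˣ)
    (hv₁ : ∀ x ∈ D₂.support, LocSym.HasValueAt x f₁ (v₁ x : k))
    (hv₂ : ∀ x ∈ D₁.support, LocSym.HasValueAt x f₂ (v₂ x : k)) :
    ((D₂.prod fun x e => v₁ x ^ e) / (D₁.prod fun x e => v₂ x ^ e)) ^ n = 1 := by
  classical
  have hex : ∀ (h : X.functionField), h ≠ 0 → ∃ v : LocSym.Pt c → kˣ,
      ∀ x : LocSym.Pt c, x.ord h = 0 → LocSym.HasValueAt x h (v x : k) := fun h hh => by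
    refine ⟨fun x => if hx : x.ord h = 0 then (LocSymLib.exists_unit_value c hdim x hh hx).choose else 1,
      fun x hx => ?_⟩
    simp only [dif_pos hx]
    exact (LocSymLib.exists_unit_value c hdim x hh hx).choose_spec
  obtain ⟨w₁, hw₁⟩ := hex f₁ hf₁
  obtain ⟨w₂, hw₂⟩ := hex f₂ hf₂
  have hdisj' : ∀ x : LocSym.Pt c, x.ord f₁ = 0 ∨ x.ord f₂ = 0 := fun x =>
    (hdisj x).imp id fun h => by rw [← hD₂, h, mul_zero]
  have key := LocSymLib.weil_reciprocity hdim f₁ f₂ hf₁ hf₂ hdisj' w₁ w₂ hw₁ hw₂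
  have hz : ∀ x ∈ D₁'.support, w₂ x = 1 := fun x hx => by
    have hv := hf₂Z x (hD₁' hx)
    have h0 := (LocSymLib.ord_eq_zero_of_value c hdim x one_ne_zero hv).2
    exact Units.ext (LocSymLib.value_unique c hdim x (hw₂ x h0) hv)
  have h1 : ((D₂.prod fun x e => v₁ x ^ e) : kˣ) ^ n = ∏ᶠ x : LocSym.Pt c, w₁ x ^ x.ord f₂ := by
    rw [Finsupp.prod, ← Finset.prod_pow, finprod_eq_prod_of_mulSupport_subset _ (s := D₂.support) ?_]
    · refine Finset.prod_congr rfl fun x hx => ?_
      have h0 := (LocSymLib.ord_eq_zero_of_value c hdim x (v₁ x).ne_zero (hv₁ x hx)).2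
      rw [show w₁ x = v₁ x from Units.ext (LocSymLib.value_unique c hdim x (hw₁ x h0) (hv₁ x hx)),
        ← hD₂, ← zpow_natCast, ← zpow_mul, mul_comm]
    · intro x hx
      refine Finsupp.mem_support_iff.2 fun h => hx ?_
      show w₁ x ^ x.ord f₂ = 1
      rw [← hD₂, h, mul_zero, zpow_zero]
  have h2 : ((D₁.prod fun x e => v₂ x ^ e) : kˣ) ^ n = ∏ᶠ x : LocSym.Pt c, w₂ x ^ x.ord f₁ := by
    rw [Finsupp.prod, ← Finset.prod_pow, finprod_eq_prod_of_mulSupport_subset _ (s := D₁.support ∪ D₁'.support) ?_]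
    · rw [← Finset.prod_subset (Finset.subset_union_left) (fun x hx hx1 => ?_)]
      · refine Finset.prod_congr rfl fun x hx => ?_
        have h0 := (LocSymLib.ord_eq_zero_of_value c hdim x (v₂ x).ne_zero (hv₂ x hx)).2
        rw [← show w₂ x = v₂ x from Units.ext (LocSymLib.value_unique c hdim x (hw₂ x h0) (hv₂ x hx)),
          ← zpow_natCast, ← zpow_mul, mul_comm, hD₁, zpow_add]
        by_cases h : x ∈ D₁'.support
        · rw [hz x h, one_zpow, one_zpow, one_mul]
        · rw [Finsupp.notMem_support_iff.1 h, zpow_zero, mul_one]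
      · rw [hz x ((Finset.mem_union.1 hx).resolve_left hx1), one_zpow]
    · intro x hx
      simp only [Finset.coe_union, Set.mem_union, Finset.mem_coe, Finsupp.mem_support_iff]
      by_contra h
      push Not at h
      apply hx
      show w₂ x ^ x.ord f₁ = 1
      have := hD₁ x
      rw [h.1, h.2, mul_zero, add_zero] at this
      rw [← this, zpow_zero]
  rw [div_pow, h1, h2, key, div_self']

end Groth.Agent.S14184
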