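import Groth.Statements.S14188
import Groth.Agent.GraphExt.Basic

set_option autoImplicit false
universe u
open CategoryTheory CategoryTheory.Limits AlgebraicGeometry
open FlatMor

namespace Groth.Agent.S14188

/-- Let T be an integral scheme with generic point η, let Y and Z be schemes flat over T with Z
separated over T, and let ψ : Y_η → Z be a T-morphism from the generic fibre Y_η = Y ×_T Spec
O_{T,η} (equivalently, an η-morphism Y_η → Z_η). Let gr : Y_η → Y ×_T Z be the graph of ψ, the
morphism whose components are the projection Y_η → Y and ψ, and let Γ ⊆ Y ×_T Z be the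
scheme-theoretic image of gr (the schematic closure of the graph). Then ψ extends to a T-morphism φ
: Y → Z, meaning that the composite Y_η → Y → Z is ψ, if and only if the composite of the inclusion
Γ → Y ×_T Z with the first projection is an isomorphism Γ ≅ Y. -/
theorem result (T Y Z : Scheme.{u}) [IsIntegral T]
    (pY : Y ⟶ T) (pZ : Z ⟶ T) [Flat pY] [Flat pZ] [IsSeparated pZ]
    (ψ : pullback pY (T.fromSpecStalk (genericPoint T)) ⟶ Z)
    (hψ : ψ ≫ pZ = pullback.fst pY (T.fromSpecStalk (genericPoint T)) ≫ pY)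
    (gr : pullback pY (T.fromSpecStalk (genericPoint T)) ⟶ pullback pY pZ)
    (hgr₁ : gr ≫ pullback.fst pY pZ = pullback.fst pY (T.fromSpecStalk (genericPoint T)))
    (hgr₂ : gr ≫ pullback.snd pY pZ = ψ) :
    (∃ φ : Y ⟶ Z, φ ≫ pZ = pY ∧ pullback.fst pY (T.fromSpecStalk (genericPoint T)) ≫ φ = ψ) ↔
      IsIso (gr.imageι ≫ pullback.fst pY pZ) := by
  obtain ⟨hstd, hqc⟩ := Groth.Agent.GraphExt.std_fst pY
  constructor
  · rintro ⟨φ, hφ, hφψ⟩
    let d : Y ⟶ pullback pY pZ := pullback.lift (𝟙 Y) φ (by rw [Category.id_comp, hφ])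
    have hd : d ≫ pullback.fst pY pZ = 𝟙 Y := pullback.lift_fst _ _ _
    haveI : IsClosedImmersion (d ≫ pullback.fst pY pZ) := by rw [hd]; infer_instance
    haveI : IsClosedImmersion d := IsClosedImmersion.of_comp d (pullback.fst pY pZ)
    have hgr : pullback.fst pY (T.fromSpecStalk (genericPoint T)) ≫ d = gr := by
      apply pullback.hom_ext
      · rw [Category.assoc, hd, Category.comp_id, hgr₁]
      · rw [Category.assoc, pullback.lift_snd, hφψ, hgr₂]
    have hker : gr.ker = d.ker := by
      rw [← hgr, Scheme.Hom.ker_comp, hstd.ker_eq_bot, Scheme.IdealSheafData.map_bot]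
    have key : ∀ I : (pullback pY pZ).IdealSheafData, I = d.ker → IsIso (I.subschemeι ≫ pullback.fst pY pZ) := by
      rintro I rfl
      haveI : IsIso (d.toImage ≫ d.imageι ≫ pullback.fst pY pZ) := by
        rw [Scheme.Hom.toImage_imageι_assoc, hd]; infer_instance
      exact IsIso.of_isIso_comp_left d.toImage _
    exact key _ hker
  · intro h
    let σ := inv (gr.imageι ≫ pullback.fst pY pZ)
    refine ⟨σ ≫ gr.imageι ≫ pullback.snd pY pZ, ?_, ?_⟩
    · rw [Category.assoc, Category.assoc, ← pullback.condition, ← Category.assoc gr.imageι, IsIso.inv_hom_id_assoc]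
    · have e : pullback.fst pY (T.fromSpecStalk (genericPoint T)) ≫ σ = gr.toImage := by
        rw [IsIso.comp_inv_eq, Scheme.Hom.toImage_imageι_assoc, hgr₁]
      rw [reassoc_of% e, Scheme.Hom.toImage_imageι_assoc, hgr₂]

end Groth.Agent.S14188
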