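import Groth.Statements.S14189
import Groth.Agent.GraphExt.Basic
import Mathlib.AlgebraicGeometry.Sites.Fpqc

set_option autoImplicit false
universe u
open CategoryTheory CategoryTheory.Limits AlgebraicGeometry
open FlatMor

namespace Groth.Agent.S14189

/-- Let T be an integral scheme with generic point η, let Y and Z be schemes flat over T with Z
separated over T, and let ψ : Y_η → Z be a T-morphism from the generic fibre Y_η = Y ×_T Spec
O_{T,η}. Let g : T' → T be flat, surjective and quasi-compact, and let φ' : Y_{T'} → Z_{T'} be a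
T'-morphism which agrees with ψ over T' ×_T η, in the sense that on Y_{T'} ×_Y Y_η = Y ×_T T' ×_T
Spec O_{T,η} the composite of the first projection with φ' and with Z_{T'} → Z equals the composite
of the second projection with ψ. Then ψ extends to a T-morphism φ : Y → Z, one whose composite with
Y_η → Y is ψ. (The published statement is an equivalence and also records that an extension, when it
exists, is unique; the converse direction, that an extension over T base-changes to such a φ' over
any such T', is immediate, and this row states the existence direction only.) -/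
theorem result (T Y Z T' : Scheme.{u}) [IsIntegral T]
    (pY : Y ⟶ T) (pZ : Z ⟶ T) [Flat pY] [Flat pZ] [IsSeparated pZ]
    (ψ : pullback pY (T.fromSpecStalk (genericPoint T)) ⟶ Z)
    (hψ : ψ ≫ pZ = pullback.fst pY (T.fromSpecStalk (genericPoint T)) ≫ pY)
    (g : T' ⟶ T) [Flat g] [Surjective g] [QuasiCompact g]
    (φ' : pullback pY g ⟶ pullback pZ g) (hφ' : φ' ≫ pullback.snd pZ g = pullback.snd pY g)
    (hagree : pullback.fst (pullback.fst pY g) (pullback.fst pY (T.fromSpecStalk (genericPoint T))) ≫ φ' ≫ pullback.fst pZ g =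
      pullback.snd (pullback.fst pY g) (pullback.fst pY (T.fromSpecStalk (genericPoint T))) ≫ ψ) :
    ∃ φ : Y ⟶ Z, φ ≫ pZ = pY ∧ pullback.fst pY (T.fromSpecStalk (genericPoint T)) ≫ φ = ψ := by
  obtain ⟨hstd, hqc⟩ := Groth.Agent.GraphExt.std_fst pY
  let g₁ := pullback.fst pY g
  obtain ⟨a, hadef⟩ : ∃ a, φ' ≫ pullback.fst pZ g = a := ⟨_, rfl⟩
  have ha : a ≫ pZ = g₁ ≫ pY := by
    rw [← hadef, Category.assoc, pullback.condition, reassoc_of% hφ', ← pullback.condition]
  rw [hadef] at hagree
  let η := pullback.fst pY (T.fromSpecStalk (genericPoint T))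
  let q : pullback g₁ g₁ ⟶ Y := pullback.fst g₁ g₁ ≫ g₁
  haveI : IsSchemeTheoreticallyDominant η := hstd
  haveI : QuasiCompact η := hqc
  have key : pullback.fst g₁ g₁ ≫ a = pullback.snd g₁ g₁ ≫ a := by
    refine Groth.Agent.GraphExt.ext_of_std (pullback.fst q η) _ _ pZ ?_ ?_
    · rw [Category.assoc, Category.assoc, ha, pullback.condition_assoc]
    · have h1 := congrArg (pullback.lift (f := g₁) (g := η) (pullback.fst q η ≫ pullback.fst g₁ g₁) (pullback.snd q η)
        (by rw [Category.assoc]; exact pullback.condition) ≫ ·) hagree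
      have h2 := congrArg (pullback.lift (f := g₁) (g := η) (pullback.fst q η ≫ pullback.snd g₁ g₁) (pullback.snd q η)
        (by rw [Category.assoc, ← pullback.condition]; exact pullback.condition) ≫ ·) hagree
      simp only [g₁, η, pullback.lift_fst_assoc, pullback.lift_snd_assoc, Category.assoc] at h1 h2
      exact h1.trans h2.symm
  have hw : ∀ {W : Scheme.{u}} (w₁ w₂ : W ⟶ pullback pY g), w₁ ≫ g₁ = w₂ ≫ g₁ → w₁ ≫ a = w₂ ≫ a := fun w₁ w₂ h => by
    rw [← pullback.lift_fst (f := g₁) (g := g₁) w₁ w₂ h, Category.assoc, key, pullback.lift_snd_assoc]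
  let φ := EffectiveEpi.desc g₁ a hw
  have hφ : g₁ ≫ φ = a := EffectiveEpi.fac g₁ a hw
  refine ⟨φ, ?_, ?_⟩
  · rw [← cancel_epi g₁, ← Category.assoc, hφ, ha]
  · haveI : Epi (pullback.snd g₁ η) := inferInstance
    rw [← cancel_epi (pullback.snd g₁ η)]
    calc pullback.snd g₁ η ≫ η ≫ φ = pullback.fst g₁ η ≫ g₁ ≫ φ := by rw [pullback.condition_assoc]
      _ = pullback.snd g₁ η ≫ ψ := by rw [hφ]; exact hagree

end Groth.Agent.S14189
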