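import Groth.Statements.S14193
import Groth.Agent.StkZeta.ExpSum
-- import your own Groth.Agent.* helpers here

set_option autoImplicit false
open PowerSeries
open StackCount

namespace Groth.Agent.S14193

open Groth.Agent.StkZeta

/-- Let q > 1 be an integer and let F be an element of the subring of the rational function field ℚ(X)
generated by X, X^(-1) and the fractions 1/(X^n - 1) for n ≥ 1 (so F(q^v) is defined for every v ≥
1). If the formal power series exp(Σ_{v ≥ 1} F(q^v) t^v / v) in ℚ⟦t⟧ is the expansion of a rational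
function, i.e. its product with some non-zero polynomial in t is a polynomial, then F is a Laurent
polynomial with integer coefficients: F · X^a is the image of a polynomial with integer coefficients
for some a. (The published statement also assumes that the series defines a meromorphic function on
the complex plane; that is implied by rationality and is omitted here.) -/
theorem result (q : ℤ) (hq : 1 < q) (F : RatFunc ℚ)
    (hF : F ∈ Subring.closure
      (({RatFunc.X, (RatFunc.X : RatFunc ℚ)⁻¹} : Set (RatFunc ℚ)) ∪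
        Set.range fun n : ℕ => ((RatFunc.X : RatFunc ℚ) ^ (n + 1) - 1)⁻¹))
    (hrat : ∃ P Q : Polynomial ℚ, Q ≠ 0 ∧
      (PowerSeries.exp ℚ).subst
          (PowerSeries.mk fun v : ℕ => if v = 0 then (0 : ℚ)
            else F.eval (RingHom.id ℚ) ((q : ℚ) ^ v) / (v : ℚ))
        * (Q : PowerSeries ℚ) = (P : PowerSeries ℚ)) :
    ∃ (P : Polynomial ℤ) (a : ℕ),
      F * RatFunc.X ^ a = algebraMap (Polynomial ℚ) (RatFunc ℚ) (P.map (Int.castRingHom ℚ)) := by
  classical
  obtain ⟨P, Q, hQ, hrat⟩ := hrat
  let K := AlgebraicClosure ℚ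
  obtain ⟨c, hc⟩ := exists_int_expSum (K := K) (fun v => F.eval (RingHom.id ℚ) ((q : ℚ) ^ v)) P Q hQ hrat
  have hq1 : (1 : ℚ) < (q : ℚ) := by exact_mod_cast hq
  have hden : ∀ x ∈ Subring.closure
      (({RatFunc.X, (RatFunc.X : RatFunc ℚ)⁻¹} : Set (RatFunc ℚ)) ∪
        Set.range fun n : ℕ => ((RatFunc.X : RatFunc ℚ) ^ (n + 1) - 1)⁻¹),
      ∀ v : ℕ, v ≠ 0 → (RatFunc.denom x).eval ((q : ℚ) ^ v) ≠ 0 := by
    intro x hx
    induction hx using Subring.closure_induction with
    | mem x hx =>
      intro v hv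
      rcases hx with (rfl | rfl) | ⟨n, rfl⟩
      · simp
      · intro h0
        have hd : RatFunc.denom ((RatFunc.X : RatFunc ℚ)⁻¹) ∣ Polynomial.X := by
          rw [RatFunc.denom_dvd Polynomial.X_ne_zero]
          exact ⟨1, by simp⟩
        have := Polynomial.eval_eq_zero_of_dvd_of_eval_eq_zero hd h0
        simp only [Polynomial.eval_X] at this
        exact pow_ne_zero v (ne_of_gt (lt_trans zero_lt_one hq1)) this
      · intro h0
        have hne : (Polynomial.X ^ (n + 1) - 1 : Polynomial ℚ) ≠ 0 :=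
          (Polynomial.monic_X_pow_sub_C (1 : ℚ) (Nat.succ_ne_zero n)).ne_zero
        have hd : RatFunc.denom (((RatFunc.X : RatFunc ℚ) ^ (n + 1) - 1)⁻¹) ∣ Polynomial.X ^ (n + 1) - 1 := by
          rw [RatFunc.denom_dvd hne]
          exact ⟨1, by simp⟩
        have := Polynomial.eval_eq_zero_of_dvd_of_eval_eq_zero hd h0
        simp only [Polynomial.eval_sub, Polynomial.eval_pow, Polynomial.eval_X, Polynomial.eval_one, sub_eq_zero] at this
        exact (ne_of_gt (one_lt_pow₀ (one_lt_pow₀ hq1 hv) (Nat.succ_ne_zero n))) this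
    | zero => intro v _; simp
    | one => intro v _; simp
    | add x y _ _ ihx ihy =>
      intro v hv h0
      have := Polynomial.eval_eq_zero_of_dvd_of_eval_eq_zero (RatFunc.denom_add_dvd x y) h0
      rw [Polynomial.eval_mul, mul_eq_zero] at this
      exact this.elim (ihx v hv) (ihy v hv)
    | neg x _ ih =>
      intro v hv h0
      have hd : RatFunc.denom (-x) ∣ RatFunc.denom x := by
        rw [RatFunc.denom_dvd (RatFunc.denom_ne_zero x)]
        exact ⟨-RatFunc.num x, by rw [map_neg, neg_div, RatFunc.num_div_denom]⟩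
      exact ih v hv (Polynomial.eval_eq_zero_of_dvd_of_eval_eq_zero hd h0)
    | mul x y _ _ ihx ihy =>
      intro v hv h0
      have := Polynomial.eval_eq_zero_of_dvd_of_eval_eq_zero (RatFunc.denom_mul_dvd x y) h0
      rw [Polynomial.eval_mul, mul_eq_zero] at this
      exact this.elim (ihx v hv) (ihy v hv)
  have hd := hden F hF
  let φ := algebraMap ℚ K
  have hqK : (φ (q : ℚ)) ≠ 0 := by
    rw [ne_eq, _root_.map_eq_zero]
    exact ne_of_gt (lt_trans zero_lt_one hq1)
  let qu : Kˣ := Units.mk0 _ hqK
  have hinj : Function.Injective fun e : ℤ => qu ^ e := fun a b e => by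
    have e' := congrArg (fun u : Kˣ => (u : K)) e
    simp only [Units.val_zpow_eq_zpow_val, qu, Units.val_mk0, ← map_zpow₀] at e'
    exact zpow_right_injective₀ (lt_trans zero_lt_one hq1) (ne_of_gt hq1) (φ.injective e')
  let cK : Kˣ →₀ K := c.mapRange (fun n : ℤ => (n : K)) Int.cast_zero
  have hev : ∀ v : ℕ, v ≠ 0 → (RatFunc.num F |>.map φ).eval ((qu : K) ^ v) =
      (RatFunc.denom F |>.map φ).eval ((qu : K) ^ v) * cK.sum fun u a => a * (u : K) ^ v := by
    intro v hv
    rw [Finsupp.sum_mapRange_index (by simp), ← hc v hv]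
    simp only [qu, Units.val_mk0, ← map_pow, Polynomial.eval_map, Polynomial.eval₂_at_apply, φ, ← map_mul]
    congr 1
    show _ = _ * ((RatFunc.num F).eval₂ (RingHom.id ℚ) _ / (RatFunc.denom F).eval₂ (RingHom.id ℚ) _)
    rw [Polynomial.eval₂_id, Polynomial.eval₂_id, mul_div_cancel₀ _ (hd v hv)]
  have hne : (RatFunc.denom F).map φ ≠ 0 := by simp [Polynomial.map_eq_zero, RatFunc.denom_ne_zero]
  have hsupp := mem_zpowers_of_expSum qu hinj _ _ hne cK hev
  have hsupp' : ∀ u ∈ c.support, ∃ e : ℤ, qu ^ e = u := fun u hu => hsupp u (by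
    simpa [cK, Finsupp.mem_support_iff] using hu)
  choose! e he using hsupp'
  let a : ℕ := c.support.sup fun u => (-(e u)).toNat
  let R : Polynomial ℤ := ∑ u ∈ c.support, Polynomial.monomial ((e u + a).toNat) (c u)
  refine ⟨R, a, ?_⟩
  have key : RatFunc.num F * Polynomial.X ^ a = RatFunc.denom F * R.map (Int.castRingHom ℚ) := by
    refine Polynomial.eq_of_infinite_eval_eq _ _ ((Set.infinite_range_of_injective
      (f := fun v : ℕ => (q : ℚ) ^ (v + 1)) fun v w h => ?_).mono ?_)
    · have := pow_right_injective₀ (lt_trans zero_lt_one hq1) (ne_of_gt hq1) h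
      omega
    · rintro _ ⟨v, rfl⟩
      simp only [Set.mem_setOf_eq, Polynomial.eval_mul, Polynomial.eval_pow, Polynomial.eval_X]
      have hs : (RatFunc.num F).eval ((q : ℚ) ^ (v + 1)) =
          (RatFunc.denom F).eval ((q : ℚ) ^ (v + 1)) * F.eval (RingHom.id ℚ) ((q : ℚ) ^ (v + 1)) := by
        show _ = _ * ((RatFunc.num F).eval₂ (RingHom.id ℚ) _ / (RatFunc.denom F).eval₂ (RingHom.id ℚ) _)
        rw [Polynomial.eval₂_id, Polynomial.eval₂_id, mul_div_cancel₀ _ (hd _ (Nat.succ_ne_zero v))]
      rw [hs, mul_assoc]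
      congr 1
      apply φ.injective
      rw [map_mul, hc (v + 1) (Nat.succ_ne_zero v), Finsupp.sum, Finset.sum_mul]
      simp only [R, Polynomial.map_sum, Polynomial.eval_finset_sum, map_sum, Polynomial.map_monomial,
        Polynomial.eval_monomial, map_mul, map_pow, eq_intCast, map_intCast]
      refine Finset.sum_congr rfl fun u hu => ?_
      have hea : 0 ≤ e u + a := by
        have : (-(e u)).toNat ≤ a := Finset.le_sup (f := fun u => (-(e u)).toNat) hu
        omega
      rw [show (u : K) = (q : K) ^ (e u) by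
          conv_lhs => rw [← he u hu]
          rw [Units.val_zpow_eq_zpow_val]
          simp [qu, φ]]
      rw [mul_assoc]
      congr 1
      rw [← zpow_natCast _ (v + 1), ← zpow_natCast _ (v + 1), ← zpow_natCast _ a, ← zpow_natCast _ (e u + a).toNat,
        ← zpow_mul, ← zpow_mul, ← zpow_mul, ← zpow_add₀ (by simpa [φ] using hqK : (q : K) ≠ 0), Int.toNat_of_nonneg hea]
      congr 1
      push_cast
      ring
  have hXa : algebraMap (Polynomial ℚ) (RatFunc ℚ) (Polynomial.X ^ a) = RatFunc.X ^ a := by
    rw [map_pow, RatFunc.algebraMap_X]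
  conv_lhs => rw [← RatFunc.num_div_denom F]
  rw [div_mul_eq_mul_div, ← hXa, ← map_mul, key, map_mul, mul_div_assoc, mul_comm,
    div_mul_cancel₀]
  exact RatFunc.algebraMap_ne_zero (RatFunc.denom_ne_zero F)

end Groth.Agent.S14193
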