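import Groth.Statements.S14196
import Groth.Agent.StkTwLib.Section
import Groth.Agent.StkMassLib.Fibre
-- import your own Groth.Agent.* helpers here

set_option autoImplicit false
universe u
open CategoryTheory MonoidalCategory CartesianMonoidalCategory AlgebraicGeometry
open StackCount

namespace Groth.Agent.S14196

open Groth.Agent CategoryTheory.CartesianMonoidalCategory

/-- Let k be a finite field with algebraic closure k̄, G a smooth affine algebraic group over k acting
on a variety X over k (reduced, of finite type), and [X/G] the quotient stack whose objects over a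
k-scheme T are G-torsors P → T, locally trivial for the étale topology and taken to be schemes, with
a G-equivariant morphism P → X. Write T̄ = Spec k̄ over Spec k. Then: every object of the fibre
category of [X/G] over T̄ admits a section T̄ → P of its torsor; for objects A, B over T̄ with
chosen sections t_A, t_B, A and B are isomorphic in the fibre over T̄ if and only if the k̄-points
t_B φ_B and t_A φ_A of X lie in one G(k̄)-orbit (there is g ∈ G(T̄) with g · (t_A φ_A) = t_B φ_B);
and every k̄-point of X is of the form t φ_A. Hence the isomorphism classes of [X/G](k̄) correspond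
bijectively to the G(k̄)-orbits in X(k̄). (The published statement allows any smooth algebraic group
G; this row takes G affine, so that every torsor is a scheme.) -/
theorem result (k : Type u) [Field k] [Finite k]
    (G : Over (Spec (CommRingCat.of k))) [GrpObj G] [Smooth G.hom] [IsAffineHom G.hom]
    (X : Over (Spec (CommRingCat.of k))) [LocallyOfFiniteType X.hom] [QuasiCompact X.hom]
    [IsReduced X.left] (aX : AlgGrp.Action G X) :
    (∀ A : (AlgSt.QuotObj.forget Scheme.etalePrecoverage G aX).Fiber (Over.mk (Spec.map (CommRingCat.ofHom (algebraMap k (AlgebraicClosure k)))) : Over (Spec (CommRingCat.of k))),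
        ∃ t : (Over.mk (Spec.map (CommRingCat.ofHom (algebraMap k (AlgebraicClosure k)))) : Over (Spec (CommRingCat.of k))) ⟶ A.1.P, t ≫ A.1.π = eqToHom A.2.symm) ∧
    (∀ (A B : (AlgSt.QuotObj.forget Scheme.etalePrecoverage G aX).Fiber (Over.mk (Spec.map (CommRingCat.ofHom (algebraMap k (AlgebraicClosure k)))) : Over (Spec (CommRingCat.of k))))
        (tA : (Over.mk (Spec.map (CommRingCat.ofHom (algebraMap k (AlgebraicClosure k)))) : Over (Spec (CommRingCat.of k))) ⟶ A.1.P) (tB : (Over.mk (Spec.map (CommRingCat.ofHom (algebraMap k (AlgebraicClosure k)))) : Over (Spec (CommRingCat.of k))) ⟶ B.1.P),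
        tA ≫ A.1.π = eqToHom A.2.symm → tB ≫ B.1.π = eqToHom B.2.symm →
        (Nonempty (A ≅ B) ↔
          ∃ g : (Over.mk (Spec.map (CommRingCat.ofHom (algebraMap k (AlgebraicClosure k)))) : Over (Spec (CommRingCat.of k))) ⟶ G,
            CartesianMonoidalCategory.lift g (tA ≫ A.1.φ) ≫ aX.act = tB ≫ B.1.φ)) ∧
    (∀ x : (Over.mk (Spec.map (CommRingCat.ofHom (algebraMap k (AlgebraicClosure k)))) : Over (Spec (CommRingCat.of k))) ⟶ X,
        ∃ (A : (AlgSt.QuotObj.forget Scheme.etalePrecoverage G aX).Fiber (Over.mk (Spec.map (CommRingCat.ofHom (algebraMap k (AlgebraicClosure k)))) : Over (Spec (CommRingCat.of k)))) (t : (Over.mk (Spec.map (CommRingCat.ofHom (algebraMap k (AlgebraicClosure k)))) : Over (Spec (CommRingCat.of k))) ⟶ A.1.P),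
          t ≫ A.1.π = eqToHom A.2.symm ∧ t ≫ A.1.φ = x) := by
  haveI : IsAlgClosed (AlgebraicClosure k) := inferInstance
  have hpt : ∀ A : (AlgSt.QuotObj.forget Scheme.etalePrecoverage G aX).Fiber (Over.mk (Spec.map (CommRingCat.ofHom (algebraMap k (AlgebraicClosure k)))) : Over (Spec (CommRingCat.of k))),
      ∃ t : (Over.mk (Spec.map (CommRingCat.ofHom (algebraMap k (AlgebraicClosure k)))) : Over (Spec (CommRingCat.of k))) ⟶ A.1.P, t ≫ A.1.π = eqToHom A.2.symm := by
    rintro ⟨⟨T, P, act, π, cart, loc, φ, eqv⟩, hA⟩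
    cases hA
    obtain ⟨R, hR, hsec⟩ := loc
    obtain ⟨S', f, hf, y, hy⟩ : ∃ (S' : Scheme.{u}) (f : S' ⟶ Spec (CommRingCat.of (AlgebraicClosure k))), R f ∧
        ∃ y : S', f.base y = IsLocalRing.closedPoint (AlgebraicClosure k) := by
      obtain ⟨Y, g, ⟨hg⟩, hy⟩ := hR.1 (IsLocalRing.closedPoint (AlgebraicClosure k))
      exact ⟨_, _, hg, hy⟩
    haveI : Etale f := hR.2 hf
    haveI : Nonempty S' := ⟨y⟩
    obtain ⟨w, hw⟩ := StkTwLib.exists_section f
    obtain ⟨s, hs⟩ := hsec f hf
    have hs' : (w ≫ s) ≫ π.left = 𝟙 _ := by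
      rw [Category.assoc]
      exact (congrArg (w ≫ ·) hs).trans hw
    refine ⟨Over.homMk (w ≫ s) ?_, Over.OverMorphism.ext hs'⟩
    rw [← Over.w π, ← Category.assoc]
    exact (congrArg (· ≫ _) hs').trans (Category.id_comp _)
  refine ⟨hpt, ?_, fun x => ⟨StkMassLib.trivF _ G aX (Over.mk (Spec.map (CommRingCat.ofHom (algebraMap k (AlgebraicClosure k)))) : Over (Spec (CommRingCat.of k))) x, QuotLib.sec G (Over.mk (Spec.map (CommRingCat.ofHom (algebraMap k (AlgebraicClosure k)))) : Over (Spec (CommRingCat.of k))), ?_, QuotLib.sec_φ x⟩⟩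
  · intro A B tA tB hA hB
    obtain ⟨iA⟩ := StkMassLib.iso_triv_of_point A tA hA
    obtain ⟨iB⟩ := StkMassLib.iso_triv_of_point B tB hB
    constructor
    · rintro ⟨i⟩
      exact (StkMassLib.iso_iff _ _).1 ⟨iB ≪≫ i.symm ≪≫ iA.symm⟩
    · rintro ⟨g, hg⟩
      obtain ⟨j⟩ := (StkMassLib.iso_iff (aX := aX) (K := Scheme.etalePrecoverage) (tB ≫ B.1.φ) (tA ≫ A.1.φ)).2 ⟨g, hg⟩
      exact ⟨iA.symm ≪≫ j.symm ≪≫ iB⟩
  · show QuotLib.sec G (Over.mk (Spec.map (CommRingCat.ofHom (algebraMap k (AlgebraicClosure k)))) : Over (Spec (CommRingCat.of k))) ≫ snd G (Over.mk (Spec.map (CommRingCat.ofHom (algebraMap k (AlgebraicClosure k)))) : Over (Spec (CommRingCat.of k))) = 𝟙 _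
    exact lift_snd _ _

end Groth.Agent.S14196
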