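import Groth.Statements.S14197
import Groth.Agent.StkTwLib.Field
import Groth.Agent.StkTwLib.Total
-- import your own Groth.Agent.* helpers here

set_option autoImplicit false
universe u
open CategoryTheory MonoidalCategory CartesianMonoidalCategory AlgebraicGeometry
open StackCount

namespace Groth.Agent.S14197

open Groth.Agent.StkTwLib Groth.Agent CategoryTheory.CartesianMonoidalCategory

/-- Let k be a finite field with algebraic closure k̄, G a smooth affine algebraic group over k acting
on a variety X over k, [X/G] the quotient stack of G-torsors (schemes, locally trivial for the étale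
topology) with an equivariant morphism to X, and k' ⊆ k̄ a subfield finite over k; write T̄ = Spec
k̄ and T' = Spec k' over Spec k, with ι : T̄ → T' the structure map. Let A be an object of [X/G]
over T̄, t a section of its torsor and x = t φ_A the corresponding k̄-point of X. Then A has a model
over k' — there are an object B of [X/G] over T' and a morphism A → B of [X/G] lying over ι (so A is
the pull-back of B) — if and only if the G(k̄)-orbit of x is fixed by Gal(k̄/k'): for every
k'-algebra automorphism σ of k̄, with s : T̄ → T̄ the induced morphism, there is g ∈ G(T̄) with g ·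
x = s x. (The published statement allows any smooth algebraic group G; this row takes G affine, so
that torsors are schemes. Together with the classification of the isomorphism classes over k̄ by
G(k̄)-orbits of k̄-points, this says that the class of A in G(k̄)∖X(k̄) has a representative defined
over k' exactly when it is Galois-fixed.) -/
theorem result (k : Type u) [Field k] [Finite k]
    (G : Over (Spec (CommRingCat.of k))) [GrpObj G] [Smooth G.hom] [IsAffineHom G.hom]
    (X : Over (Spec (CommRingCat.of k))) [LocallyOfFiniteType X.hom] [QuasiCompact X.hom]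
    [IsReduced X.left] (aX : AlgGrp.Action G X)
    (k' : IntermediateField k (AlgebraicClosure k)) [FiniteDimensional k k']
    (ι : (Over.mk (Spec.map (CommRingCat.ofHom (algebraMap k (AlgebraicClosure k)))) : Over (Spec (CommRingCat.of k))) ⟶ (Over.mk (Spec.map (CommRingCat.ofHom (algebraMap k k'))) : Over (Spec (CommRingCat.of k))))
    (hι : ι.left = Spec.map (CommRingCat.ofHom (algebraMap k' (AlgebraicClosure k))))
    (A : (AlgSt.QuotObj.forget Scheme.etalePrecoverage G aX).Fiber (Over.mk (Spec.map (CommRingCat.ofHom (algebraMap k (AlgebraicClosure k)))) : Over (Spec (CommRingCat.of k)))) (t : (Over.mk (Spec.map (CommRingCat.ofHom (algebraMap k (AlgebraicClosure k)))) : Over (Spec (CommRingCat.of k))) ⟶ A.1.P) (ht : t ≫ A.1.π = eqToHom A.2.symm) :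
    (∃ (B : AlgSt.QuotObj Scheme.etalePrecoverage G aX) (hB : B.base = (Over.mk (Spec.map (CommRingCat.ofHom (algebraMap k k'))) : Over (Spec (CommRingCat.of k))))
        (h : A.1 ⟶ B), h.base = eqToHom A.2 ≫ ι ≫ eqToHom hB.symm) ↔
    (∀ (σ : AlgebraicClosure k ≃ₐ[k'] AlgebraicClosure k) (s : (Over.mk (Spec.map (CommRingCat.ofHom (algebraMap k (AlgebraicClosure k)))) : Over (Spec (CommRingCat.of k))) ⟶ (Over.mk (Spec.map (CommRingCat.ofHom (algebraMap k (AlgebraicClosure k)))) : Over (Spec (CommRingCat.of k)))),
        s.left = Spec.map (CommRingCat.ofHom σ.toRingEquiv.toRingHom) →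
        ∃ g : (Over.mk (Spec.map (CommRingCat.ofHom (algebraMap k (AlgebraicClosure k)))) : Over (Spec (CommRingCat.of k))) ⟶ G,
          CartesianMonoidalCategory.lift g (t ≫ A.1.φ) ≫ aX.act = s ≫ t ≫ A.1.φ) := by
  generalize ι = jι at *
  open CategoryTheory.MonObj in
    constructor
    · rintro ⟨B, hB, h, hh⟩ σ s hs
      have hb : (t ≫ h.top) ≫ B.π = jι ≫ eqToHom hB.symm := by
        rw [Category.assoc, h.cart.w, reassoc_of% ht, hh]
        erw [eqToHom_trans_assoc, eqToHom_refl, Category.id_comp]
      have hsι : s ≫ jι = jι := by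
        apply Over.OverMorphism.ext
        show s.left ≫ jι.left = jι.left
        rw [hs, hι, ← Spec.map_comp]
        congr 1
        ext c
        exact σ.commutes c
      let l := B.cart.lift (s ≫ t ≫ h.top) (t ≫ h.top) (by
        rw [Category.assoc, hb, ← Category.assoc, hsι])
      refine ⟨l ≫ fst G B.P, ?_⟩
      have e : lift (l ≫ fst G B.P) (t ≫ h.top) = l := CartesianMonoidalCategory.hom_ext _ _ (lift_fst _ _)
        ((lift_snd _ _).trans (B.cart.lift_snd _ _ _).symm)
      have e2 : lift (l ≫ fst G B.P) (t ≫ h.top) ≫ B.act.act = s ≫ t ≫ h.top := by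
        rw [e]; exact B.cart.lift_fst _ _ _
      have e3 := congrArg (· ≫ B.φ) e2
      simp only [Category.assoc, B.eqv, h.wφ, lift_whiskerLeft_assoc] at e3
      exact e3
    · intro H
      haveI : Finite k' := Module.finite_of_finite k
      haveI : Algebra.IsAlgebraic k' (AlgebraicClosure k) := Algebra.IsAlgebraic.tower_top (K := k) k'
      haveI : IsGalois k' (AlgebraicClosure k) := inferInstance
      let f := Spec.map (CommRingCat.ofHom (algebraMap k k'))
      haveI : IsAffineHom (Red.bc f G).hom := MorphismProperty.pullback_snd _ _ (inferInstance : IsAffineHom G.hom)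
      haveI : IsAffine (Red.bc f G).left := isAffine_of_isAffineHom (Red.bc f G).hom
      haveI : LocallyOfFiniteType (Red.bc f G).hom :=
        MorphismProperty.pullback_snd _ _ (inferInstance : LocallyOfFiniteType G.hom)
      haveI : QuasiCompact (Red.bc f G).hom := inferInstance
      haveI : LocallyOfFiniteType (Red.bc f X).hom :=
        MorphismProperty.pullback_snd _ _ (inferInstance : LocallyOfFiniteType X.hom)
      let F : AlgebraicClosure k ≃ₐ[k'] AlgebraicClosure k := frob (k := k') (AlgebraicClosure k)
      let s : (Over.mk (Spec.map (CommRingCat.ofHom (algebraMap k (AlgebraicClosure k)))) : Over (Spec (CommRingCat.of k))) ⟶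
          Over.mk (Spec.map (CommRingCat.ofHom (algebraMap k (AlgebraicClosure k)))) :=
        Over.homMk (Spec.map (CommRingCat.ofHom F.toRingEquiv.toRingHom)) (by
          show Spec.map _ ≫ Spec.map _ = Spec.map _
          rw [← Spec.map_comp]
          congr 1
          ext c
          show F (algebraMap k (AlgebraicClosure k) c) = _
          rw [IsScalarTower.algebraMap_apply k k' (AlgebraicClosure k), F.commutes]
          rfl)
      obtain ⟨g, hg⟩ := H F s rfl
      let c : (Over.map f).obj (SGA7.pt (K := k') (AlgebraicClosure k)) ≅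
          (Over.mk (Spec.map (CommRingCat.ofHom (algebraMap k (AlgebraicClosure k)))) : Over (Spec (CommRingCat.of k))) :=
        Over.isoMk (Iso.refl _) (by
          show 𝟙 _ ≫ Spec.map _ = Spec.map _ ≫ Spec.map _
          rw [Category.id_comp, ← Spec.map_comp, ← CommRingCat.ofHom_comp, ← IsScalarTower.algebraMap_eq])
      let x' := adjE f _ X (c.hom ≫ t ≫ A.1.φ)
      let g' := adjE f _ G (c.hom ≫ g)
      have hcs : (Over.map f).map (SGA7.specAut F) ≫ c.hom = c.hom ≫ s :=
        Over.OverMorphism.ext ((Category.comp_id _).trans (Category.id_comp _).symm)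
      have hx' : sm (bcAct (f := f) aX) g'⁻¹ (F • x') = x' := by
        have e : F • x' = sm (bcAct (f := f) aX) g' x' := by
          rw [sm_bcAct, GalTw.pts_smul_def, ← adjE_comp_left, reassoc_of% hcs, ← hg]
          simp only [sm, CartesianMonoidalCategory.comp_lift_assoc]
        rw [e, sm_sm, inv_mul_cancel, sm_one]
      obtain ⟨z, hz⟩ := exists_cocycle_frob g'⁻¹
      obtain ⟨A', b', hb', hbx⟩ := exists_obj z x' (mk_of_frob z _ (by rw [hz]; exact hx'))
      let B := (fibPush f Scheme.etalePrecoverage aX (SGA7.pt (K := k') k')).obj A'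
      have hB : B.1.base = (Over.mk (Spec.map (CommRingCat.ofHom (algebraMap k k'))) : Over (Spec (CommRingCat.of k))) :=
        B.2.trans (pt_eq_map k').symm
      let bb : (Over.mk (Spec.map (CommRingCat.ofHom (algebraMap k (AlgebraicClosure k)))) : Over (Spec (CommRingCat.of k))) ⟶
          B.1.P := c.inv ≫ (Over.map f).map b'
      have hbb : bb ≫ B.1.φ = t ≫ A.1.φ := by
        show (c.inv ≫ (Over.map f).map b') ≫ (adjE f _ X).symm A'.1.φ = _
        rw [Category.assoc, ← adjE_symm_comp_left, hbx, Equiv.symm_apply_apply, Iso.inv_hom_id_assoc]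
      obtain ⟨h, hh⟩ := exists_hom_of_point A t ht B.1 bb hbb
      refine ⟨B.1, hB, h, hh.trans (congrArg (eqToHom A.2 ≫ ·) ?_)⟩
      refine (cancel_mono (eqToHom hB)).1 (Over.OverMorphism.ext ?_)
      refine Eq.trans ?_ ((congrArg (fun m => m.left) (show (jι ≫ eqToHom hB.symm) ≫ eqToHom hB = jι from by
        rw [Category.assoc, eqToHom_trans, eqToHom_refl, Category.comp_id])).trans hι).symm
      refine Eq.trans ?_ ((point_base_left aX A' b' (rfl : SGA7.pt (K := k) k' = _) hB).trans (Category.comp_id _))
      show (((c.inv ≫ (Over.map f).map b') ≫ B.1.π) ≫ eqToHom hB).left = _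
      rw [Category.assoc c.inv, Category.assoc c.inv, Over.comp_left]
      exact Category.id_comp _

end Groth.Agent.S14197
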