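import Groth.Statements.S14202
import Groth.Agent.ASB.Dim
import Groth.Agent.H23.PnChart
-- import your own Groth.Agent.* helpers here

set_option autoImplicit false
universe u
open CategoryTheory CategoryTheory.Limits AlgebraicGeometry
open ASBun

namespace Groth.Agent.S14202

/-- Let X be a scheme proper over a field k, K an algebraic closure of k, e a K-isomorphism X_K ≅ P^n_K
with O_e(j) the pullback of O(j) along e, and j an integer. If W and W' are indecomposable finite
locally free O_X-modules (nonzero, and in any decomposition as a direct sum one summand is zero)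
with W_K ≅ O_e(j)^{⊕r} and W'_K ≅ O_e(−j)^{⊕r'} for some r, r' ≥ 1, then r = r': the indecomposable
modules of types O(j) and O(−j) have the same rank (W' is isomorphic to the dual of W). -/
theorem result (k : Type u) [Field k] {X : Scheme.{u}}
    (f : X ⟶ Spec (CommRingCat.of k)) [IsProper f] (n : ℕ)
    (K : Type u) [Field K] [Algebra k K] [IsAlgClosure k K] (e : BrSev.Splitting f K n) (j : ℤ)
    (W W' : X.Modules) (hW : FlatMod.IsFinLocFree W) (hW' : FlatMod.IsFinLocFree W')
    (hWi : (¬ IsZero W ∧ ∀ M₁ M₂ : X.Modules, Nonempty (W ≅ M₁ ⊞ M₂) → IsZero M₁ ∨ IsZero M₂))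
    (hW'i : (¬ IsZero W' ∧ ∀ M₁ M₂ : X.Modules, Nonempty (W' ≅ M₁ ⊞ M₂) → IsZero M₁ ∨ IsZero M₂))
    (r r' : ℕ) (hr : 0 < r) (hr' : 0 < r') (hWt : BrSev.IsTwPow e j r W)
    (hW't : BrSev.IsTwPow e (-j) r' W') : r = r' := by
  haveI := ASB.isNoetherian_of_proper f
  haveI : IsAlgClosed K := IsAlgClosure.isAlgClosed k
  haveI : IsIntegral (CohB1.ProjSpace n K) := H23.PnChart.isIntegral_projSpace n K
  haveI : Nonempty ↥(BrSev.bc f K) := ⟨e.iso.inv (Nonempty.some inferInstance)⟩
  haveI : IsIntegral (BrSev.bc f K) := isIntegral_of_isOpenImmersion e.iso.hom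
  obtain ⟨a⟩ := (ASB.isTwPow_iff e j r W).1 hWt
  obtain ⟨b⟩ := (ASB.isTwPow_iff e (-j) r' W').1 hW't
  obtain ⟨c⟩ := ASB.twist_add e j (-j)
  obtain ⟨u⟩ := PicClLib.nonempty_pullback_structureModule (BrSev.proj f K)
  obtain ⟨v⟩ := PicClLib.nonempty_pullback_structureModule e.iso.hom
  have h0 := PnCoh.Finite.isIso_oneHom (ProjRegular.coords K n) ProjRegular.coords_mem ProjRegular.coords_cover
  have hinv : ∀ i : ℤ, PicF.IsInvertible (e.twist i) := fun i => PicClLib.isInvertible_pullback _
    (PnCoh.Finite.isInvertible_twist (ProjRegular.coords K n) ProjRegular.coords_mem ProjRegular.coords_cover i)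
  refine ASB.mult_eq_of_inverse f K hW hW' hWi hW'i (hinv j) (hinv (-j)) a b
    CurveDeg.isInvertible_structureModule ?_
  exact u ≪≫ v.symm ≪≫ (Scheme.Modules.pullback e.iso.hom).mapIso (@asIso _ _ _ _ _ h0) ≪≫
    eqToIso (by rw [add_neg_cancel]; rfl) ≪≫ c.symm

end Groth.Agent.S14202
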