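import Groth.Statements.S14206
import Groth.Agent.S14198
import Groth.Agent.ASB.PowLib
import Groth.Agent.ASB.ExpLower
-- import your own Groth.Agent.* helpers here

set_option autoImplicit false
universe u
open CategoryTheory CategoryTheory.Limits AlgebraicGeometry
open ASBun

namespace Groth.Agent.S14206

/-- Let A be a central simple algebra of degree n ≥ 1 over a field k (of dimension n² over k), X a
proper k-scheme which is the Severi–Brauer scheme of A (for every commutative k-algebra R its
R-points over k are, naturally in R, the left ideals of R ⊗_k A with projective quotient of rank n²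
− n), K an algebraic closure of k and e a K-isomorphism X_K ≅ P^{n−1}_K, along which O_e(j) denotes
the pullback of the twisting sheaf O(j); suppose the period and the index of A are both equal to p
(the p-fold tensor power of A is the first split one, and A is a matrix algebra over a division ring
of dimension p² over k). Let W be an indecomposable finite locally free O_X-module (nonzero, and in
any decomposition as a direct sum one summand is zero) with W_K ≅ O_e(j)^{⊕r}, r ≥ 1, for an integer
j. Then r = p / gcd(p, |j|); in particular the multiplicities for j = 0, 1, …, p are 1, p, p/gcd(p,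
2), …, p/gcd(p, p − 2), p, 1. -/
theorem result (k : Type u) [Field k] (A : Type u) [Ring A] [Algebra k A]
    [Algebra.IsCentral k A] [IsSimpleRing A] (n : ℕ) (hn : 0 < n)
    (hA : Module.finrank k A = n * n) {X : Scheme.{u}} (f : X ⟶ Spec (CommRingCat.of k))
    [IsProper f] (hX : BrSev.IsSBOf k A (n * n - n) f)
    (K : Type u) [Field K] [Algebra k K] [IsAlgClosure k K] (e : BrSev.Splitting f K (n - 1))
    (p : ℕ) (hp : CSAGal.IsPeriod k A p) (hi : CSAGal.IsIndex k A p)
    (W : X.Modules) (hW : FlatMod.IsFinLocFree W)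
    (hWi : (¬ IsZero W ∧ ∀ M₁ M₂ : X.Modules, Nonempty (W ≅ M₁ ⊞ M₂) → IsZero M₁ ∨ IsZero M₂))
    (j : ℤ) (r : ℕ) (hr : 0 < r) (hWt : BrSev.IsTwPow e j r W) :
    r = p / Nat.gcd p j.natAbs := by
  haveI : FiniteDimensional k A := Module.finite_of_finrank_pos (by rw [hA]; positivity)
  have h := S14198.result k A n hn hA f hX K e W hW hWi j r hr hWt
  have hsplit := (CSALib.isPeriod_iff hp p).2 dvd_rfl
  set g := Nat.gcd p j.natAbs with hg
  have hgp : g ∣ p := Nat.gcd_dvd_left _ _
  have hg0 : 0 < g := Nat.gcd_pos_of_pos_left _ hp.1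
  obtain ⟨_, _, _⟩ := CSALib.centralSimple_pow k A j.natAbs
  obtain ⟨_, _, _⟩ := CSALib.centralSimple_pow k A g
  obtain ⟨x, hx⟩ := CSALib.exists_isIndex k (CSAGal.tpow k A g)
  obtain rfl : r = x := by
    obtain ⟨c, hc⟩ := Nat.gcd_dvd_right p j.natAbs
    have h1 : ∃ u, j.natAbs * u ≡ g [MOD p] := by
      have h2 := Nat.gcd_eq_gcd_ab p j.natAbs
      refine ⟨((Nat.gcdB p j.natAbs) % (p : ℤ)).toNat, Nat.modEq_iff_dvd.2 ?_⟩
      rw [Nat.cast_mul, Int.toNat_of_nonneg (Int.emod_nonneg _ (by exact_mod_cast hp.1.ne')), Int.emod_def, hg, h2]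
      exact ⟨Nat.gcdA p j.natAbs + j.natAbs * (Nat.gcdB p j.natAbs / p), by ring⟩
    obtain ⟨u, hu⟩ := h1
    exact ASB.PowLib.index_pow_eq hsplit (u := u) (u' := c) hu (by rw [← hc]) h hx
  refine Nat.dvd_antisymm ?_ ?_
  · rw [← Nat.factorization_le_iff_dvd hx.1.ne' (Nat.div_pos (Nat.le_of_dvd hp.1 hgp) hg0).ne']
    intro ℓ
    by_cases hℓ : ℓ.Prime
    · haveI := Fact.mk hℓ
      rw [Nat.factorization_div hgp, Finsupp.tsub_apply]
      obtain ⟨_, _, _⟩ := CSALib.centralSimple_pow k A (ℓ ^ g.factorization ℓ)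
      obtain ⟨z, hz⟩ := CSALib.exists_isIndex k (CSAGal.tpow k A (ℓ ^ g.factorization ℓ))
      obtain ⟨c, hc⟩ := Nat.ordProj_dvd g ℓ
      have hdvd : r ∣ z := ASB.PowLib.index_pow_dvd_of_modEq hsplit (u := c) (by rw [← hc]) hz hx
      exact ((Nat.factorization_le_iff_dvd hx.1.ne' hz.1.ne').2 hdvd ℓ).trans
        (ASB.ExpLower.factorization_index_pow A hi _ hz)
    · rw [Nat.factorization_eq_zero_of_not_prime _ hℓ]
      exact Nat.zero_le _
  · have hkill : CSALib.Similar k (CSAGal.tpow k A (g * r)) k :=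
      (CSALib.similar_pow_mul g r).trans (CSALib.similar_pow_index hx)
    exact (Nat.div_dvd_iff_dvd_mul hgp hg0).2 ((CSALib.isPeriod_iff hp _).1 hkill) 

end Groth.Agent.S14206
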