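import Groth.Statements.S14207
import Groth.Agent.S14198
import Groth.Agent.ASB.PowLib
-- import your own Groth.Agent.* helpers here

set_option autoImplicit false
universe u
open CategoryTheory CategoryTheory.Limits AlgebraicGeometry
open ASBun

namespace Groth.Agent.S14207

/-- Let A be a central simple algebra of degree n ≥ 1 over a field k (of dimension n² over k), X a
proper k-scheme which is the Severi–Brauer scheme of A (for every commutative k-algebra R its
R-points over k are, naturally in R, the left ideals of R ⊗_k A with projective quotient of rank n²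
− n), K an algebraic closure of k and e a K-isomorphism X_K ≅ P^{n−1}_K, along which O_e(j) denotes
the pullback of the twisting sheaf O(j); suppose the degree n is a prime number and A is not split
(not isomorphic over k to a full matrix algebra over k). Let W be an indecomposable finite locally
free O_X-module (nonzero, and in any decomposition as a direct sum one summand is zero) with W_K ≅
O_e(j)^{⊕r}, r ≥ 1, for an integer j. Then r = n / gcd(n, |j|), that is r = 1 when n divides j and r
= n otherwise: all non-split Severi–Brauer varieties of dimension n − 1 with n prime have the same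
multiplicities, 1 for j divisible by n and n otherwise; for n = 2, on a non-split conic the
indecomposable module of type O(j) has rank 1 for j even and 2 for j odd. -/
theorem result (k : Type u) [Field k] (A : Type u) [Ring A] [Algebra k A]
    [Algebra.IsCentral k A] [IsSimpleRing A] (n : ℕ) (hn : 0 < n)
    (hA : Module.finrank k A = n * n) {X : Scheme.{u}} (f : X ⟶ Spec (CommRingCat.of k))
    [IsProper f] (hX : BrSev.IsSBOf k A (n * n - n) f)
    (K : Type u) [Field K] [Algebra k K] [IsAlgClosure k K] (e : BrSev.Splitting f K (n - 1))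
    (hq : n.Prime) (hns : ¬ Curves.Splits k A k)
    (W : X.Modules) (hW : FlatMod.IsFinLocFree W)
    (hWi : (¬ IsZero W ∧ ∀ M₁ M₂ : X.Modules, Nonempty (W ≅ M₁ ⊞ M₂) → IsZero M₁ ∨ IsZero M₂))
    (j : ℤ) (r : ℕ) (hr : 0 < r) (hWt : BrSev.IsTwPow e j r W) :
    r = n / Nat.gcd n j.natAbs := by
  haveI : IsAlgClosed K := IsAlgClosure.isAlgClosed k
  haveI : Algebra.IsAlgebraic k K := IsAlgClosure.isAlgebraic
  haveI : FiniteDimensional k A := Module.finite_of_finrank_pos (by rw [hA]; positivity)
  have h := S14198.result k A n hn hA f hX K e W hW hWi j r hr hWt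
  obtain ⟨_, _, _⟩ := CSALib.centralSimple_pow k A j.natAbs
  obtain ⟨_, _, _⟩ := CSALib.centralSimple_pow k A 1
  obtain ⟨d, hd⟩ := CSALib.exists_isIndex k A
  obtain rfl : d = n := by
    obtain ⟨-, m, D, _, _, -, hdim, ⟨φ⟩⟩ := id hd
    have h1 := φ.toLinearEquiv.finrank_eq
    rw [hA, Module.finrank_matrix, Fintype.card_fin, hdim] at h1
    have h2 : n = m * d := Nat.pow_left_injective two_ne_zero (by show n ^ 2 = (m * d) ^ 2; rw [sq, h1]; ring)
    rcases hq.eq_one_or_self_of_dvd d ⟨m, h2.trans (mul_comm m d)⟩ with h3 | h3
    · exact absurd (CSALib.splits_self_iff.2 (CSALib.similar_of_index_one (h3 ▸ hd))) hns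
    · exact h3
  have hsplit := CSALib.similar_pow_index hd
  by_cases hj : d ∣ j.natAbs
  · obtain ⟨c, hc⟩ := hj
    rw [Nat.gcd_eq_left ⟨c, hc⟩, Nat.div_self hn]
    exact ASB.PowLib.index_eq_one h (hc ▸ CSALib.pow_mul_split hsplit c)
  · have hcop : Nat.Coprime j.natAbs d := ((hq.coprime_iff_not_dvd).2 hj).symm
    rw [Nat.Coprime.gcd_eq_one hcop.symm, Nat.div_one]
    obtain ⟨u, -, hu⟩ := Nat.exists_mul_mod_eq_one_of_coprime hcop hq.one_lt
    have h1 : CSAGal.IsIndex k (CSAGal.tpow k A 1) d := CSALib.isIndex_congr hd (CSALib.similar_pow_one k A)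
    exact ASB.PowLib.index_pow_eq hsplit (x := j.natAbs) (y := 1) (u := u) (u' := j.natAbs)
      (hu.trans (Nat.one_mod_eq_one.2 hq.ne_one).symm) (by rw [one_mul]) h h1

end Groth.Agent.S14207
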