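import Groth.Statements.S14212
import Groth.Agent.ASB.GenNeg
import Groth.Agent.PicPnLib.Uniq
-- import your own Groth.Agent.* helpers here

set_option autoImplicit false
universe u
open CategoryTheory CategoryTheory.Limits AlgebraicGeometry
open ASBun

namespace Groth.Agent.S14212

attribute [local instance] CategoryTheory.Abelian.hasFiniteBiproducts

/-- In dimension zero all types are of degree zero. -/
theorem mem_zero {k : Type u} [Field k] {X : Scheme.{u}} {p : X ⟶ Spec (CommRingCat.of k)} [IsProper p]
    {K : Type u} [Field K] [Algebra k K] [IsAlgClosed K] [Algebra.IsAlgebraic k K] {m : ℕ} (hm : m = 0)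
    (e : BrSev.Splitting p K m) {E : X.Modules} (hE : FlatMod.IsFinLocFree E) :
    ASB.GenNeg.cl E ∈ AddSubgroup.closure (ASB.GenNeg.NegTypes e) := by
  haveI := ASB.isNoetherian_of_proper p
  obtain ⟨s, Ls, hLs, ⟨c⟩⟩ := ASB.exists_split_of_mid e hE (fun n i h1 h2 => absurd h2 (by omega))
  obtain ⟨d⟩ := ASB.coprod_ofFn Ls
  letI := ASB.ovr p
  haveI := ASB.finite_end p (CurveDeg.isCoh_of_isFinLocFree hE)
  obtain ⟨l, hl, ⟨eE⟩⟩ := ASB.exists_decomp k E
  have h := ASB.twPow_of_split e (CurveDeg.isCoh_of_isFinLocFree hE) l hl eE Ls hLs (c ≪≫ d)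
  have hl' : FlatMod.IsFinLocFree (ASB.sumL l) := ASB.isFinLocFree_of_retract hE eE.inv eE.hom eE.inv_hom_id
  rw [ASB.GenNeg.cl_iso eE hE hl']
  refine ASB.GenNeg.cl_sumL_mem _ _ hl' fun Z hZ => ?_
  obtain ⟨j, a, ha, hZf, ⟨t⟩⟩ := h Z hZ
  obtain ⟨θ⟩ := PicPnLib.twist_iso_of_zero (n := m) (R := K) hm j (-((0 : ℕ) : ℤ))
  obtain ⟨θ'⟩ := ASB.replicate_congr ((Scheme.Modules.pullback e.iso.hom).mapIso θ) a
  exact AddSubgroup.subset_closure ⟨Z, 0, a, hZf, hl Z hZ, Nat.pos_of_ne_zero ha,
    (ASB.isTwPow_iff e _ _ _).2 ⟨t ≪≫ θ'⟩, rfl⟩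


/-- Let A be a central simple algebra of degree n ≥ 1 over a field k (of dimension n² over k), X a
proper k-scheme which is the Severi–Brauer scheme of A (for every commutative k-algebra R its
R-points over k are, naturally in R, the left ideals of R ⊗_k A with projective quotient of rank n²
− n), K an algebraic closure of k and e a K-isomorphism X_K ≅ P^{n−1}_K, along which O_e(j) denotes
the pullback of the twisting sheaf O(j). Then the Grothendieck group of finite locally free
O_X-modules (the free abelian group on them modulo [M₂] − [M₁] − [M₃] for every short exact sequence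
0 → M₁ → M₂ → M₃ → 0 of O_X-modules with finite locally free terms) is spanned over ℤ by the classes
of the indecomposable finite locally free modules W (nonzero, and in any decomposition as a direct
sum one summand is zero) with W_K ≅ O_e(−j)^{⊕r} for some j ≥ 0 and r ≥ 1. (The published statement
speaks of the duals of the indecomposable modules of types O(j), j ≥ 0, which are these modules, and
of the Grothendieck group of coherent modules, which for this smooth X is that of locally free
ones.) -/
theorem result (k : Type u) [Field k] (A : Type u) [Ring A] [Algebra k A]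
    [Algebra.IsCentral k A] [IsSimpleRing A] (n : ℕ) (hn : 0 < n)
    (hA : Module.finrank k A = n * n) {X : Scheme.{u}} (f : X ⟶ Spec (CommRingCat.of k))
    [IsProper f] (hX : BrSev.IsSBOf k A (n * n - n) f)
    (K : Type u) [Field K] [Algebra k K] [IsAlgClosure k K] (e : BrSev.Splitting f K (n - 1)) :
    AddSubgroup.closure {c : KZero.K0sub (fun M : X.Modules => FlatMod.IsFinLocFree M) |
        ∃ (W : X.Modules) (j : ℕ) (r : ℕ), FlatMod.IsFinLocFree W ∧
          (¬ IsZero W ∧ ∀ M₁ M₂ : X.Modules, Nonempty (W ≅ M₁ ⊞ M₂) → IsZero M₁ ∨ IsZero M₂) ∧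
          0 < r ∧ BrSev.IsTwPow e (-(j : ℤ)) r W ∧
          c = KZero.clSub (fun M : X.Modules => FlatMod.IsFinLocFree M) W} = ⊤ := by
  haveI : IsAlgClosed K := IsAlgClosure.isAlgClosed k
  haveI : Algebra.IsAlgebraic k K := IsAlgClosure.isAlgebraic
  rw [eq_top_iff]
  intro x hx
  clear hx
  induction x using QuotientAddGroup.induction_on with
  | _ x =>
    induction x using FreeAbelianGroup.induction_on with
    | zero => exact zero_mem _
    | of E =>
      obtain ⟨E, hE⟩ := E
      have key : ASB.GenNeg.cl E ∈ AddSubgroup.closure (ASB.GenNeg.NegTypes e) := by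
        rcases Nat.eq_zero_or_pos (n - 1) with hm | hm
        · exact mem_zero hm e hE
        · exact ASB.GenNeg.mem_closure hm e hE
      simp only [ASB.GenNeg.cl, KZero.clSub, dif_pos hE] at key
      exact key
    | neg E h => exact neg_mem h
    | add a b ha hb => exact add_mem ha hb

end Groth.Agent.S14212
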