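import Groth.Statements.S14213
import Groth.Agent.S14199
import Groth.Agent.ASB.SplitVan
-- import your own Groth.Agent.* helpers here

set_option autoImplicit false
set_option linter.style.haveILetI false
set_option backward.isDefEq.respectTransparency false
set_option backward.isDefEq.respectTransparency.types false
set_option maxHeartbeats 1000000
universe u
open CategoryTheory CategoryTheory.Limits AlgebraicGeometry
open ASBun

namespace Groth.Agent.S14213

/-- Let A be a central simple algebra of degree n ≥ 1 over a field k (of dimension n² over k), X a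
proper k-scheme which is the Severi–Brauer scheme of A (for every commutative k-algebra R its
R-points over k are, naturally in R, the left ideals of R ⊗_k A with projective quotient of rank n²
− n), K an algebraic closure of k and e a K-isomorphism X_K ≅ P^{n−1}_K, along which O_e(j) denotes
the pullback of the twisting sheaf O(j); let p be the period of A (the least p ≥ 1 for which the
p-fold tensor power of A is a full matrix algebra over k) and E a finite locally free O_X-module.
Then E is absolutely split (E_K is isomorphic to a finite direct sum of invertible O_{X_K}-modules)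
if and only if the cohomology groups H^i(X, E ⊗ L ⊗ W) vanish for all 0 < i < n − 1 = dim X, all
integers a, all invertible O_X-modules L with L_K ≅ O_e(ap), all integers 0 ≤ j < p and all
indecomposable finite locally free O_X-modules W (nonzero, and in any decomposition as a direct sum
one summand is zero) with W_K ≅ O_e(j)^{⊕r} for some r ≥ 1. -/
theorem result (k : Type u) [Field k] (A : Type u) [Ring A] [Algebra k A]
    [Algebra.IsCentral k A] [IsSimpleRing A] (n : ℕ) (hn : 0 < n)
    (hA : Module.finrank k A = n * n) {X : Scheme.{u}} (f : X ⟶ Spec (CommRingCat.of k))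
    [IsProper f] (hX : BrSev.IsSBOf k A (n * n - n) f)
    (K : Type u) [Field K] [Algebra k K] [IsAlgClosure k K] (e : BrSev.Splitting f K (n - 1))
    (p : ℕ) (hp : CSAGal.IsPeriod k A p) (E : X.Modules) (hE : FlatMod.IsFinLocFree E) :
    (∃ (s : ℕ) (Ls : Fin s → (BrSev.bc f K).Modules), (∀ i, PicF.IsInvertible (Ls i)) ∧
        Nonempty (BrSev.bcMod f K E ≅ ∐ Ls)) ↔
      (∀ (i : ℕ), 0 < i → i + 1 < n → ∀ (a : ℤ) (L : X.Modules), PicF.IsInvertible L →
        BrSev.IsTwPow e (a * (p : ℤ)) 1 L → ∀ (j : ℤ), 0 ≤ j → j < (p : ℤ) →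
        ∀ (W : X.Modules), FlatMod.IsFinLocFree W →
        (¬ IsZero W ∧ ∀ M₁ M₂ : X.Modules, Nonempty (W ≅ M₁ ⊞ M₂) → IsZero M₁ ∨ IsZero M₂) →
        ∀ (r : ℕ), 0 < r → BrSev.IsTwPow e j r W →
        Subsingleton (Coh.HH X (CohB1.tensorMod (CohB1.tensorMod E L) W) i)) := by
  obtain ⟨m, rfl⟩ := Nat.exists_eq_succ_of_ne_zero hn.ne'
  haveI : IsAlgClosed K := IsAlgClosure.isAlgClosed k
  haveI : Algebra.IsAlgebraic k K := IsAlgClosure.isAlgebraic
  haveI := ASB.isNoetherian_of_proper f
  have hT : ∀ {L W : X.Modules}, PicF.IsInvertible L → FlatMod.IsFinLocFree W →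
      Coh.IsQCoh (CohB1.tensorMod (CohB1.tensorMod E L) W) := fun hL hW =>
    (CurveDeg.isCoh_of_isFinLocFree
      (KFlatLib.isFinLocFree_tensor (KFlatLib.isFinLocFree_tensor hE (H23.PullPush.isFinLocFree_of_isInvertible hL)) hW)).1
  constructor
  · rintro ⟨s, Ls, hLs, ⟨θ⟩⟩ i h1 h2 a L hLi hLt j - - W hW - r - hWt
    rw [← ASB.subsingleton_HH_toPn e (hT hLi hW) i]
    obtain ⟨g⟩ := ASB.toPn_test e E hLt hWt
    refine QCoh.subsingleton_HH_of_iso g.symm i (ASB.subsingleton_sumL i _ fun M hM => ?_)
    rw [List.eq_of_mem_replicate hM]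
    exact ASB.mid_of_split e hE Ls hLs θ _ i h1 (by omega)
  · intro h
    refine ASB.exists_split_of_mid e hE fun c i h1 h2 => ?_
    obtain ⟨L, r', hr', hLf, hLd, hLt⟩ := ASB.exists_indec_twPow e (c / (p : ℤ) * p)
    obtain ⟨W, r, hr, hWf, hWd, hWt⟩ := ASB.exists_indec_twPow e (c % (p : ℤ))
    have hLt' := (ASB.isTwPow_iff e _ r' L).2 hLt
    obtain ⟨hLi, rfl⟩ := S14199.result k A (m + 1) hn hA f hX K e p hp (c / (p : ℤ)) L hLf hLd r'
      (Nat.pos_of_ne_zero hr') hLt'
    have hWt' := (ASB.isTwPow_iff e _ r W).2 hWt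
    have hp' : (p : ℤ) ≠ 0 := by exact_mod_cast hp.1.ne'
    have hv := h i h1 (by omega) (c / (p : ℤ)) L hLi hLt' (c % (p : ℤ)) (Int.emod_nonneg _ hp')
      (Int.emod_lt_of_pos _ (by exact_mod_cast hp.1)) W hWf hWd r (Nat.pos_of_ne_zero hr) hWt'
    rw [← ASB.subsingleton_HH_toPn e (hT hLi hWf) i] at hv
    obtain ⟨g⟩ := ASB.toPn_test e E hLt' hWt'
    have hs := ASB.subsingleton_of_replicate i _ hr (QCoh.subsingleton_HH_of_iso g i hv)
    rwa [Int.ediv_mul_add_emod] at hs

end Groth.Agent.S14213
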