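import Groth.Statements.S14215
import Groth.Agent.ASB.SplitTwist
-- import your own Groth.Agent.* helpers here

set_option autoImplicit false
universe u
open CategoryTheory CategoryTheory.Limits AlgebraicGeometry
open ASBun

namespace Groth.Agent.S14215

attribute [local instance] Abelian.hasFiniteBiproducts

/-- Let A be a central simple algebra of degree n ≥ 1 over a field k (of dimension n² over k), X a
proper k-scheme which is the Severi–Brauer scheme of A (for every commutative k-algebra R its
R-points over k are, naturally in R, the left ideals of R ⊗_k A with projective quotient of rank n²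
− n), K an algebraic closure of k and e a K-isomorphism X_K ≅ P^{n−1}_K, along which O_e(j) denotes
the pullback of the twisting sheaf O(j). Let E be a finite locally free O_X-module which is
absolutely split: E_K is isomorphic to a finite direct sum of invertible O_{X_K}-modules. Then E is
isomorphic to a finite direct sum M_1 ⊕ ⋯ ⊕ M_t of indecomposable finite locally free O_X-modules
(nonzero, and in any decomposition as a direct sum one summand is zero), each absolutely
rank-one-isotypical of twisting type: (M_i)_K ≅ O_e(j_i)^{⊕r_i} for some integers j_i and some r_i ≥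
1 (t = 0 when E = 0). (The published statement groups the summands as the indecomposable modules of
types O(j), 0 ≤ j < p, twisted by descents of O(ap), p the period, and records uniqueness of the
multiplicities, which is Krull–Schmidt.) -/
theorem result (k : Type u) [Field k] (A : Type u) [Ring A] [Algebra k A]
    [Algebra.IsCentral k A] [IsSimpleRing A] (n : ℕ) (hn : 0 < n)
    (hA : Module.finrank k A = n * n) {X : Scheme.{u}} (f : X ⟶ Spec (CommRingCat.of k))
    [IsProper f] (hX : BrSev.IsSBOf k A (n * n - n) f)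
    (K : Type u) [Field K] [Algebra k K] [IsAlgClosure k K] (e : BrSev.Splitting f K (n - 1))
    (E : X.Modules) (hE : FlatMod.IsFinLocFree E)
    (s : ℕ) (Ls : Fin s → (BrSev.bc f K).Modules) (hLs : ∀ i, PicF.IsInvertible (Ls i))
    (hsplit : Nonempty (BrSev.bcMod f K E ≅ ∐ Ls)) :
    ∃ (t : ℕ) (Ms : Fin t → X.Modules) (js : Fin t → ℤ) (rs : Fin t → ℕ),
      (∀ i, FlatMod.IsFinLocFree (Ms i) ∧
        (¬ IsZero (Ms i) ∧ ∀ M₁ M₂ : X.Modules, Nonempty ((Ms i) ≅ M₁ ⊞ M₂) → IsZero M₁ ∨ IsZero M₂) ∧
        0 < rs i ∧ BrSev.IsTwPow e (js i) (rs i) (Ms i)) ∧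
      Nonempty (E ≅ ∐ Ms) := by
  haveI : IsAlgClosed K := IsAlgClosure.isAlgClosed k
  haveI : Algebra.IsAlgebraic k K := IsAlgClosure.isAlgebraic
  haveI := ASB.isNoetherian_of_proper f
  obtain ⟨c⟩ := hsplit
  obtain ⟨d⟩ := ASB.coprod_ofFn Ls
  letI := ASB.ovr f
  haveI := ASB.finite_end f (CurveDeg.isCoh_of_isFinLocFree hE)
  obtain ⟨l, hl, ⟨eE⟩⟩ := ASB.exists_decomp k E
  have h := ASB.twPow_of_split e (CurveDeg.isCoh_of_isFinLocFree hE) l hl eE Ls hLs (c ≪≫ d)
  choose j a ha hf he using fun i : Fin l.length => h (l.get i) (List.get_mem l i)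
  obtain ⟨g⟩ := ASB.coprod_ofFn l.get
  exact ⟨l.length, l.get, j, a, fun i => ⟨hf i, hl _ (List.get_mem l i), Nat.pos_of_ne_zero (ha i),
    (ASB.isTwPow_iff e _ _ _).2 (he i)⟩, ⟨eE ≪≫ eqToIso (by rw [List.ofFn_get]) ≪≫ g.symm⟩⟩

end Groth.Agent.S14215
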