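import Groth.Statements.S14216
import Groth.Agent.S14198
import Groth.Agent.S14215
import Groth.Agent.ASB.PowLib
import Groth.Agent.ASB.Tensor
import Groth.Agent.ASB.TwDescent
import Groth.Agent.H23.PicMul
import Groth.Agent.ParaFX.FlatDesc
-- import your own Groth.Agent.* helpers here

set_option autoImplicit false
universe u
open CategoryTheory CategoryTheory.Limits AlgebraicGeometry
open ASBun

namespace Groth.Agent.S14216

attribute [local instance] Abelian.hasFiniteBiproducts

/-- Let A be a central simple algebra of degree n ≥ 1 over a field k (of dimension n² over k), X a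
proper k-scheme which is the Severi–Brauer scheme of A (for every commutative k-algebra R its
R-points over k are, naturally in R, the left ideals of R ⊗_k A with projective quotient of rank n²
− n), K an algebraic closure of k and e a K-isomorphism X_K ≅ P^{n−1}_K, along which O_e(j) denotes
the pullback of the twisting sheaf O(j); suppose A has index 2 (A is a matrix algebra over a
division ring of dimension 4 over k). Let E be a finite locally free O_X-module which is absolutely
split: E_K is isomorphic to a finite direct sum of invertible O_{X_K}-modules. Then E ≅ (L_1 ⊕ ⋯ ⊕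
L_s) ⊕ (M_1 ⊕ ⋯ ⊕ M_t) where each L_i is an invertible O_X-module with (L_i)_K ≅ O_e(2a_i) and each
M_i is an indecomposable finite locally free O_X-module (nonzero, and in any decomposition as a
direct sum one summand is zero) of rank 2 with (M_i)_K ≅ O_e(2b_i + 1)^{⊕2}, for integers a_i, b_i.
(The published statement also records that s, t and the a_i, b_j are unique, which is the
Krull–Schmidt uniqueness and is not restated here.) -/
theorem result (k : Type u) [Field k] (A : Type u) [Ring A] [Algebra k A]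
    [Algebra.IsCentral k A] [IsSimpleRing A] (n : ℕ) (hn : 0 < n)
    (hA : Module.finrank k A = n * n) {X : Scheme.{u}} (f : X ⟶ Spec (CommRingCat.of k))
    [IsProper f] (hX : BrSev.IsSBOf k A (n * n - n) f)
    (K : Type u) [Field K] [Algebra k K] [IsAlgClosure k K] (e : BrSev.Splitting f K (n - 1))
    (hi : CSAGal.IsIndex k A 2) (E : X.Modules) (hE : FlatMod.IsFinLocFree E)
    (s₀ : ℕ) (Ns : Fin s₀ → (BrSev.bc f K).Modules) (hNs : ∀ i, PicF.IsInvertible (Ns i))
    (hsplit : Nonempty (BrSev.bcMod f K E ≅ ∐ Ns)) :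
    ∃ (s t : ℕ) (Ls : Fin s → X.Modules) (Ms : Fin t → X.Modules) (a : Fin s → ℤ) (b : Fin t → ℤ),
      (∀ i, PicF.IsInvertible (Ls i) ∧ BrSev.IsTwPow e (2 * a i) 1 (Ls i)) ∧
      (∀ i, FlatMod.IsFinLocFree (Ms i) ∧
        (¬ IsZero (Ms i) ∧ ∀ M₁ M₂ : X.Modules, Nonempty ((Ms i) ≅ M₁ ⊞ M₂) → IsZero M₁ ∨ IsZero M₂) ∧
        BrSev.IsTwPow e (2 * b i + 1) 2 (Ms i)) ∧
      Nonempty (E ≅ (∐ Ls) ⊞ (∐ Ms)) := by
  haveI : IsAlgClosed K := IsAlgClosure.isAlgClosed k
  haveI : Algebra.IsAlgebraic k K := IsAlgClosure.isAlgebraic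
  haveI : FiniteDimensional k A := Module.finite_of_finrank_pos (by rw [hA]; positivity)
  haveI := ASB.isNoetherian_of_proper f
  obtain ⟨N, Ms, js, rs, hMs, ⟨eE⟩⟩ := S14215.result k A n hn hA f hX K e E hE s₀ Ns hNs hsplit
  have hsplit2 := CSALib.similar_pow_index hi
  obtain ⟨_, _, _⟩ := CSALib.centralSimple_pow k A 1
  have h1 : CSAGal.IsIndex k (CSAGal.tpow k A 1) 2 := CSALib.isIndex_congr hi (CSALib.similar_pow_one k A)
  have hr : ∀ i, rs i = if Even (js i) then 1 else 2 := fun i => by
    obtain ⟨hf, hind, hpos, htw⟩ := hMs i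
    have h := S14198.result k A n hn hA f hX K e (Ms i) hf hind _ _ hpos htw
    obtain ⟨_, _, _⟩ := CSALib.centralSimple_pow k A (js i).natAbs
    split_ifs with hev
    · obtain ⟨c, hc⟩ := even_iff_two_dvd.1 (Int.natAbs_even.2 hev)
      exact ASB.PowLib.index_eq_one h (hc ▸ CSALib.pow_mul_split hsplit2 c)
    · obtain ⟨c, hc⟩ := Int.not_even_iff_odd.1 hev
      exact ASB.PowLib.index_natAbs_eq two_pos hsplit2 (i := js i) (j := 1) ⟨-c, by omega⟩ h h1
  let lI := (List.finRange N).filter fun i => decide (Even (js i))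
  let lJ := (List.finRange N).filter fun i => !decide (Even (js i))
  have hI : ∀ x : Fin lI.length, Even (js (lI.get x)) := fun x => by
    simpa using (List.mem_filter.1 (List.get_mem lI x)).2
  have hJ : ∀ x : Fin lJ.length, Odd (js (lJ.get x)) := fun x => by
    simpa [Int.not_even_iff_odd] using (List.mem_filter.1 (List.get_mem lJ x)).2
  choose a ha using hI
  choose b hb using hJ
  refine ⟨lI.length, lJ.length, fun x => Ms (lI.get x), fun x => Ms (lJ.get x), a, b, fun x => ?_, fun x => ?_, ?_⟩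
  · obtain ⟨hf, -, -, htw⟩ := hMs (lI.get x)
    rw [hr, if_pos ⟨a x, ha x⟩, show js (lI.get x) = 2 * a x by rw [ha x]; ring] at htw
    obtain ⟨G⟩ := (ASB.isTwPow_iff e _ 1 _).1 htw
    exact ⟨ParaFX.FlatDesc.isInvertible_of_pullback (BrSev.proj f K) (CurveDeg.isCoh_of_isFinLocFree hf).1
      (H23.PicMul.isInvertible_of_iso (G ≪≫ (isoBiprodZero ASB.isZero_top).symm).symm
        (ASB.isInvertible_twist e _)), htw⟩
  · obtain ⟨hf, hind, -, htw⟩ := hMs (lJ.get x)
    rw [hr, if_neg (Int.not_even_iff_odd.2 ⟨b x, hb x⟩), hb x] at htw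
    exact ⟨hf, hind, htw⟩
  · obtain ⟨g₁⟩ := ASB.coprod_ofFn (fun x => Ms (lI.get x))
    obtain ⟨g₂⟩ := ASB.coprod_ofFn (fun x => Ms (lJ.get x))
    obtain ⟨g₃⟩ := ASB.coprod_ofFn Ms
    obtain ⟨g₄⟩ := ASB.sumL_append (List.ofFn fun x => Ms (lI.get x)) (List.ofFn fun x => Ms (lJ.get x))
    obtain ⟨g₅⟩ := ASB.sumL_perm (l := List.ofFn Ms)
      (l' := (List.ofFn fun x => Ms (lI.get x)) ++ (List.ofFn fun x => Ms (lJ.get x))) (by
      have hm : ∀ l : List (Fin N), (List.ofFn fun x => Ms (l.get x)) = l.map Ms := fun l =>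
        by
        conv_rhs => rw [← List.ofFn_get l, List.map_ofFn]
        rfl
      rw [hm, hm, ← List.map_append, List.ofFn_eq_map]
      exact ((List.filter_append_perm _ _).map Ms).symm)
    exact ⟨eE ≪≫ g₃ ≪≫ g₅ ≪≫ g₄ ≪≫ biprod.mapIso g₁.symm g₂.symm⟩

end Groth.Agent.S14216
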