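import Groth.Statements.S14217
import Groth.Agent.S14216
import Groth.Agent.ASB.SplitCrit
-- import your own Groth.Agent.* helpers here

set_option autoImplicit false
universe u
open CategoryTheory CategoryTheory.Limits AlgebraicGeometry
open ASBun

namespace Groth.Agent.S14217

/-- Let A be a non-split central simple algebra of degree 2 over a field k (of dimension 4 and not
isomorphic to the 2 × 2 matrices over k), X a proper k-scheme which is the Severi–Brauer scheme of A
(for every commutative k-algebra R its R-points over k are, naturally in R, the left ideals of R ⊗_k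
A with projective quotient of rank 2), so that X is a conic without rational point, K an algebraic
closure of k and e a K-isomorphism X_K ≅ P^1_K, with O_e(j) the pullback of O(j) along e. Then every
finite locally free O_X-module E decomposes as E ≅ (L_1 ⊕ ⋯ ⊕ L_s) ⊕ (M_1 ⊕ ⋯ ⊕ M_t) with each L_i
invertible and (L_i)_K ≅ O_e(2a_i), and each M_i indecomposable finite locally free (nonzero, and in
any decomposition as a direct sum one summand is zero) of rank 2 with (M_i)_K ≅ O_e(2b_i + 1)^{⊕2},
for integers a_i, b_i. (The published statement writes the invertible summands as tensor powers of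
the canonical module, which is such an L with (L)_K ≅ O(−2), and records uniqueness of the summands,
which is Krull–Schmidt and not restated here.) -/
theorem result (k : Type u) [Field k] (A : Type u) [Ring A]
    [Algebra k A] [Algebra.IsCentral k A] [IsSimpleRing A] (hA : Module.finrank k A = 4)
    (hns : ¬ Curves.Splits k A k) {X : Scheme.{u}} (f : X ⟶ Spec (CommRingCat.of k))
    [IsProper f] (hX : BrSev.IsSBOf k A 2 f)
    (K : Type u) [Field K] [Algebra k K] [IsAlgClosure k K] (e : BrSev.Splitting f K 1)
    (E : X.Modules) (hE : FlatMod.IsFinLocFree E) :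
    ∃ (s t : ℕ) (Ls : Fin s → X.Modules) (Ms : Fin t → X.Modules) (a : Fin s → ℤ) (b : Fin t → ℤ),
      (∀ i, PicF.IsInvertible (Ls i) ∧ BrSev.IsTwPow e (2 * a i) 1 (Ls i)) ∧
      (∀ i, FlatMod.IsFinLocFree (Ms i) ∧
        (¬ IsZero (Ms i) ∧ ∀ M₁ M₂ : X.Modules, Nonempty ((Ms i) ≅ M₁ ⊞ M₂) → IsZero M₁ ∨ IsZero M₂) ∧
        BrSev.IsTwPow e (2 * b i + 1) 2 (Ms i)) ∧
      Nonempty (E ≅ (∐ Ls) ⊞ (∐ Ms)) := by
  haveI : FiniteDimensional k A := Module.finite_of_finrank_pos (by rw [hA]; norm_num)
  obtain ⟨d, hd⟩ := CSALib.exists_isIndex k A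
  obtain rfl : d = 2 := by
    obtain ⟨-, m, D, _, _, -, hdim, ⟨φ⟩⟩ := id hd
    have h1 := φ.toLinearEquiv.finrank_eq
    rw [hA, Module.finrank_matrix, Fintype.card_fin, hdim] at h1
    have h2 : 2 = m * d := Nat.pow_left_injective two_ne_zero (by show 2 ^ 2 = (m * d) ^ 2; rw [mul_pow, sq m]; norm_num; linarith)
    rcases Nat.prime_two.eq_one_or_self_of_dvd d ⟨m, h2.trans (mul_comm m d)⟩ with h3 | h3
    · exact absurd (CSALib.splits_self_iff.2 (CSALib.similar_of_index_one (h3 ▸ hd))) hns
    · exact h3
  obtain ⟨s₀, Ns, hNs, hsplit⟩ := ASB.exists_split_of_mid e hE (fun n i h1 h2 => absurd h1 (by omega))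
  exact S14216.result k A 2 two_pos (by rw [hA]) f hX K e hd E hE s₀ Ns hNs hsplit

end Groth.Agent.S14217
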