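import Groth.Statements.S14274
import Groth.Agent.H9HartogsHom.Basic
import Groth.Agent.SchTorsor.Props
import Groth.Agent.EtFound.Descent

set_option linter.style.haveILetI false
set_option backward.isDefEq.respectTransparency false
set_option backward.isDefEq.respectTransparency.types false


set_option autoImplicit false
universe u
open scoped CategoryTheory.Obj
open NonAbH1

attribute [-instance] CategoryTheory.catToReflQuiver

namespace Groth.Agent.S14274

open AlgebraicGeometry CategoryTheory CategoryTheory.Limits MonoidalCategory in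
/-- Let X be a scheme, G a finite locally free X-group scheme (finite, flat and locally of finite
presentation over X, not necessarily commutative), and U an open subscheme of X whose inclusion is
quasi-compact, such that for every point z of X outside U the local ring of X at z is regular of
Krull dimension at least 2. Let Q₁ and Q₂ be fppf G-torsors over X. Then every U-morphism between
their base changes to U that is equivariant for the base-changed group is the base change of a
unique G-equivariant X-morphism Q₁ -> Q₂. (With the essential-surjectivity row this is the statement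
that pullback is an equivalence from G-torsors over X to torsors over U under the base change of G.) -/
theorem result {X : Scheme.{u}} (G : Over X) [GrpObj G]
    [IsFinite G.hom] [Flat G.hom] [LocallyOfFinitePresentation G.hom]
    (U : X.Opens) [QuasiCompact U.ι]
    (hZ : ∀ z : X, z ∉ U → IsRegularLocalRing (X.presheaf.stalk z) ∧ (2 : WithBot ℕ∞) ≤ ringKrullDim (X.presheaf.stalk z))
    (Q₁ Q₂ : Over X) (a₁ : AlgGrp.Action G Q₁) (a₂ : AlgGrp.Action G Q₂)
    (h₁ : NonAbH1.IsTorsorFor Scheme.fppfPrecoverage a₁) (h₂ : NonAbH1.IsTorsorFor Scheme.fppfPrecoverage a₂)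
    (h' : (Over.pullback U.ι).obj Q₁ ⟶ (Over.pullback U.ι).obj Q₂)
    (hh' : (Functor.LaxMonoidal.μ (Over.pullback U.ι) G Q₁ ≫ (Over.pullback U.ι).map a₁.act) ≫ h' =
      ((Over.pullback U.ι).obj G ◁ h') ≫ (Functor.LaxMonoidal.μ (Over.pullback U.ι) G Q₂ ≫ (Over.pullback U.ι).map a₂.act)) :
    ∃! h : Q₁ ⟶ Q₂, a₁.act ≫ h = (G ◁ h) ≫ a₂.act ∧ (Over.pullback U.ι).map h = h' := by
  haveI := Groth.Agent.EtFound.fpqc_isAffineHom.{u}
  have toFpqc : ∀ {Q : Over X} {a : AlgGrp.Action G Q}, NonAbH1.IsTorsorFor Scheme.fppfPrecoverage a →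
      NonAbH1.IsTorsorFor Scheme.fpqcPrecoverage a := fun h => by
    obtain ⟨hp, R, hR, hs⟩ := h
    exact ⟨hp, R, Scheme.fppfPrecoverage_le_fpqcPrecoverage _ hR, hs⟩
  haveI : Flat Q₁.hom := Groth.Agent.SchTorsor.torsor_property @Flat (toFpqc h₁) inferInstance
  haveI : IsAffineHom Q₂.hom := Groth.Agent.SchTorsor.torsor_property @IsAffineHom (toFpqc h₂) inferInstance
  haveI : Flat (G ⊗ Q₁).hom := by
    have : Flat (pullback.snd G.hom Q₁.hom ≫ Q₁.hom) := by
      haveI : Flat (pullback.snd G.hom Q₁.hom) := MorphismProperty.pullback_snd (P := @Flat) G.hom Q₁.hom inferInstance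
      infer_instance
    rw [← Over.w (SemiCartesianMonoidalCategory.snd G Q₁)]
    exact this
  have hZ' : ∀ z : X, z ∉ U → Groth.Agent.CAlgOdd.HartogsTwo.Reg2 (X.presheaf.stalk z) := fun z hz =>
    haveI := (hZ z hz).1
    Groth.Agent.H9HartogsHom.reg2_of_isRegularLocalRing _ (hZ z hz).2
  obtain ⟨h, hh⟩ := (Groth.Agent.H9HartogsHom.pullback_map_bijective U hZ' Q₁ Q₂).2 h'
  refine ⟨h, ⟨?_, hh⟩, fun g hg =>
    (Groth.Agent.H9HartogsHom.pullback_map_bijective U hZ' Q₁ Q₂).1 (hg.2.trans hh.symm)⟩
  apply (Groth.Agent.H9HartogsHom.pullback_map_bijective U hZ' (G ⊗ Q₁) Q₂).1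
  change (Over.pullback U.ι).map (a₁.act ≫ h) = (Over.pullback U.ι).map ((G ◁ h) ≫ a₂.act)
  simp only [Functor.map_comp]
  rw [← cancel_epi (Functor.LaxMonoidal.μ (Over.pullback U.ι) G Q₁)]
  change (Over.pullback U.ι).map h = h' at hh
  rw [← Functor.LaxMonoidal.μ_natural_right_assoc, hh, ← hh', Category.assoc]
end Groth.Agent.S14274
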