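import Groth.Statements.S14292
import Groth.Agent.WeierIso.Cases

set_option linter.style.haveILetI false
set_option backward.isDefEq.respectTransparency false
set_option backward.isDefEq.respectTransparency.types false
set_option maxHeartbeats 1000000

set_option autoImplicit false
universe u
open EllLift

namespace Groth.Agent.S14292

/-- Let A be a commutative ring and W₁, W₂ Weierstrass cubics over A with unit discriminants and the
same j-invariant j, such that j and j - 1728 are both units of A (the modular invariant avoids the
special values 0 and 1728 at every point). Then for every prime ideal p of A there exist an étale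
A-algebra B with a prime lying over p and a change of variables over B carrying the base change of
W₁ to that of W₂; that is, the two elliptic curves become isomorphic on an étale neighbourhood of
every point of Spec A. (The published statement is about Weierstrass curves with possibly nodal,
geometrically irreducible fibres over an arbitrary base scheme whose modular invariant avoids 0,
1728 and ∞; this row is the case of unit discriminant over an affine base.) -/
theorem result (A : Type u) [CommRing A]
    (W₁ W₂ : WeierstrassCurve A) [W₁.IsElliptic] [W₂.IsElliptic] (hj : W₁.j = W₂.j)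
    (h0 : IsUnit W₁.j) (h1728 : IsUnit (W₁.j - 1728)) (p : PrimeSpectrum A) :
    ∃ (B : Type u) (_ : CommRing B) (_ : Algebra A B), Algebra.Etale A B ∧
      p ∈ Set.range (PrimeSpectrum.comap (algebraMap A B)) ∧
      ∃ C : WeierstrassCurve.VariableChange B, C • (W₁.map (algebraMap A B)) = W₂.map (algebraMap A B) := by
  have hc : ∀ (W : WeierstrassCurve A) [W.IsElliptic], W.Δ * W.j = W.c₄ ^ 3 := fun W _ => by
    rw [WeierstrassCurve.j, ← mul_assoc, ← WeierstrassCurve.coe_Δ', Units.mul_inv, one_mul]
  have h1 := hc W₁
  have h2 := hc W₂
  rw [← hj] at h2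
  have u4 : IsUnit W₁.c₄ :=
    (isUnit_pow_iff three_ne_zero).mp (h1 ▸ W₁.isUnit_Δ.mul h0)
  have u4' : IsUnit W₂.c₄ :=
    (isUnit_pow_iff three_ne_zero).mp (h2 ▸ W₂.isUnit_Δ.mul h0)
  have u6 : IsUnit W₁.c₆ := by
    refine (isUnit_pow_iff two_ne_zero).mp ?_
    have : W₁.c₆ ^ 2 = W₁.Δ * (W₁.j - 1728) := by
      linear_combination -h1 + W₁.c_relation
    rw [this]; exact W₁.isUnit_Δ.mul h1728
  have u6' : IsUnit W₂.c₆ := by
    refine (isUnit_pow_iff two_ne_zero).mp ?_
    have : W₂.c₆ ^ 2 = W₂.Δ * (W₁.j - 1728) := by
      linear_combination -h2 + W₂.c_relation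
    rw [this]; exact W₂.isUnit_Δ.mul h1728
  have hrel : W₁.c₄ ^ 3 * W₂.Δ = W₂.c₄ ^ 3 * W₁.Δ := by
    rw [← h1, ← h2]; ring
  by_cases h : (2 : A) ∈ p.asIdeal
  · exact WeierIso.good_two' h u4 u4' hrel
  · exact WeierIso.good_two h u4 u6 u4' u6' hrel

end Groth.Agent.S14292
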