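import Groth.Statements.S1430
import Mathlib
import Groth.Agent.S1362
import Groth.Agent.FibDim.Indep
import Groth.Agent.FibDim.Alg
-- import your own Groth.Agent.* helpers here

set_option autoImplicit false
universe u
open FlatMor

namespace Groth.Agent.S1430

set_option linter.style.haveILetI false

section Field

variable {R S : Type u} [CommRing R] [CommRing S] [Algebra R S]

/-- The residue field of a prime. -/
abbrev Res (Q : Ideal S) : Type u := FractionRing (S ⧸ Q)

/-- The map to the residue field. -/
noncomputable def toRes (Q : Ideal S) [Q.IsPrime] : S →+* Res Q :=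
  (algebraMap (S ⧸ Q) (Res Q)).comp (Ideal.Quotient.mk Q)

theorem toRes_eq_zero (Q : Ideal S) [Q.IsPrime] (x : S) : toRes Q x = 0 ↔ x ∈ Q := by
  show algebraMap (S ⧸ Q) (Res Q) (Ideal.Quotient.mk Q x) = 0 ↔ _
  rw [map_eq_zero_iff _ (IsFractionRing.injective _ (Res Q)), Ideal.Quotient.eq_zero_iff_mem]

theorem resAlgebra_mk (Q : Ideal S) [Q.IsPrime] (r : R) :
    algebraMap (R ⧸ Q.under R) (Res Q) (Ideal.Quotient.mk _ r) = toRes Q (algebraMap R S r) := by
  rw [IsScalarTower.algebraMap_apply (R ⧸ Q.under R) (S ⧸ Q) (Res Q)]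
  rfl

instance resFaithful (Q : Ideal S) [Q.IsPrime] : FaithfulSMul (R ⧸ Q.under R) (Res Q) := by
  rw [faithfulSMul_iff_algebraMap_injective, injective_iff_map_eq_zero]
  intro r hr
  obtain ⟨r, rfl⟩ := Ideal.Quotient.mk_surjective r
  rw [resAlgebra_mk, toRes_eq_zero] at hr
  exact Ideal.Quotient.eq_zero_iff_mem.2 hr

theorem toRes_aeval (Q : Ideal S) [Q.IsPrime] {σ : Type} (t : σ → S) (G : MvPolynomial σ R) :
    MvPolynomial.aeval (fun i => toRes Q (t i)) (MvPolynomial.map (Ideal.Quotient.mk (Q.under R)) G) =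
      toRes Q (MvPolynomial.aeval t G) := by
  induction G using MvPolynomial.induction_on with
  | C r => simp only [MvPolynomial.map_C, MvPolynomial.aeval_C]; exact resAlgebra_mk Q r
  | add a b ha hb => simp only [map_add, ha, hb]
  | mul_X a i ha => simp only [map_mul, ha, MvPolynomial.map_X, MvPolynomial.aeval_X]

theorem indepMod_iff (Q : Ideal S) [Q.IsPrime] {r : ℕ} (t : Fin r → S) :
    FibDim.IndepMod (A := R) t Q ↔ AlgebraicIndependent (R ⧸ Q.under R) (fun i => toRes Q (t i)) := by
  rw [algebraicIndependent_iff]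
  constructor
  · intro h G hG
    obtain ⟨G, rfl⟩ := MvPolynomial.map_surjective _ (Ideal.Quotient.mk_surjective (I := Q.under R)) G
    rw [toRes_aeval, toRes_eq_zero] at hG
    ext m
    rw [MvPolynomial.coeff_map, MvPolynomial.coeff_zero, Ideal.Quotient.eq_zero_iff_mem]
    exact MvPolynomial.mem_map_C_iff.1 (h G hG) m
  · intro h G hG
    rw [MvPolynomial.mem_map_C_iff]
    intro m
    have h1 := h (MvPolynomial.map (Ideal.Quotient.mk (Q.under R)) G) (by
      rw [toRes_aeval, toRes_eq_zero]; exact hG)
    have h2 := congrArg (MvPolynomial.coeff m) h1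
    rwa [MvPolynomial.coeff_map, MvPolynomial.coeff_zero, Ideal.Quotient.eq_zero_iff_mem] at h2

/-- Elements independent over the subring generated by `z` are independent modulo `Q` over `R[X]`. -/
theorem indepMod_poly (Q : Ideal S) [Q.IsPrime] (z : S) {r : ℕ} (w : Fin r → S)
    (h : AlgebraicIndependent (Algebra.adjoin (R ⧸ Q.under R) {toRes Q z}) (fun i => toRes Q (w i))) :
    letI : Algebra (Polynomial R) S := (Polynomial.aeval (R := R) z).toRingHom.toAlgebra
    FibDim.IndepMod (A := Polynomial R) w Q := by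
  letI : Algebra (Polynomial R) S := (Polynomial.aeval (R := R) z).toRingHom.toAlgebra
  intro G hG
  rw [MvPolynomial.mem_map_C_iff]
  let S₀ := Algebra.adjoin (R ⧸ Q.under R) {toRes Q z}
  let ε : Polynomial R →+* Res Q := (toRes Q).comp (Polynomial.aeval (R := R) z).toRingHom
  have hmem : ∀ p, ε p ∈ S₀ := by
    intro p
    induction p using Polynomial.induction_on' with
    | add a b ha hb => rw [map_add]; exact add_mem ha hb
    | monomial k c =>
      have : ε (Polynomial.monomial k c) =
          algebraMap (R ⧸ Q.under R) (Res Q) (Ideal.Quotient.mk _ c) * toRes Q z ^ k := by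
        show toRes Q (Polynomial.aeval z (Polynomial.monomial k c)) = _
        rw [Polynomial.aeval_monomial, map_mul, map_pow, resAlgebra_mk]
      rw [this]
      exact mul_mem (Subalgebra.algebraMap_mem S₀ _) (pow_mem (Algebra.subset_adjoin (Set.mem_singleton (toRes Q z))) k)
  let ε₀ : Polynomial R →+* S₀ := ε.codRestrict S₀ hmem
  have hev : ∀ H : MvPolynomial (Fin r) (Polynomial R),
      MvPolynomial.aeval (fun i => toRes Q (w i)) (MvPolynomial.map ε₀ H) =
        toRes Q (MvPolynomial.aeval w H) := by
    intro H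
    induction H using MvPolynomial.induction_on with
    | C p => simp only [MvPolynomial.map_C, MvPolynomial.aeval_C]; rfl
    | add a b ha hb => simp only [map_add, ha, hb]
    | mul_X a i ha => simp only [map_mul, ha, MvPolynomial.map_X, MvPolynomial.aeval_X]
  have h1 : MvPolynomial.map ε₀ G = 0 := algebraicIndependent_iff.1 h _ (by
    rw [hev, toRes_eq_zero]; exact hG)
  intro m
  have h2 := congrArg (MvPolynomial.coeff m) h1
  rw [MvPolynomial.coeff_map, MvPolynomial.coeff_zero] at h2
  have h3 : toRes Q (Polynomial.aeval z (G.coeff m)) = 0 := congrArg Subtype.val h2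
  exact (toRes_eq_zero Q _).1 h3

/-- Completing a transcendental element to independent elements chosen among generators. -/
theorem exists_extend (Q : Ideal S) [Q.IsPrime] (gens : Finset S)
    (hgens : Algebra.adjoin R (gens : Set S) = ⊤) (a : S)
    (ha : Transcendental (R ⧸ Q.under R) (toRes Q a)) {r : ℕ}
    (hr : ((r + 1 : ℕ) : Cardinal.{u}) ≤ Algebra.trdeg (R ⧸ Q.under R) (Res Q)) :
    ∃ w : Fin r → gens, AlgebraicIndependent (R ⧸ Q.under R)
      (Sum.elim (fun i => toRes Q (w i : S)) fun _ : Unit => toRes Q a) := by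
  classical
  let R' := R ⧸ Q.under R
  let L := Res Q
  let t : Set L := insert (toRes Q a) (toRes Q '' gens)
  haveI : Algebra.IsAlgebraic (Algebra.adjoin R' t) L := by
    have hsub : ∀ x : S, toRes Q x ∈ Algebra.adjoin R' t := by
      intro x
      have hx : x ∈ Algebra.adjoin R (gens : Set S) := hgens ▸ Algebra.mem_top
      induction hx using Algebra.adjoin_induction with
      | mem x hx => exact Algebra.subset_adjoin (Set.mem_insert_of_mem _ ⟨x, hx, rfl⟩)
      | algebraMap r => exact resAlgebra_mk Q r ▸ Subalgebra.algebraMap_mem _ _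
      | add x y _ _ hx hy => rw [map_add]; exact add_mem hx hy
      | mul x y _ _ hx hy => rw [map_mul]; exact mul_mem hx hy
    refine ⟨fun l => ?_⟩
    obtain ⟨⟨c, s⟩, hcs⟩ := IsLocalization.surj (nonZeroDivisors (S ⧸ Q)) l
    obtain ⟨c, rfl⟩ := Ideal.Quotient.mk_surjective c
    obtain ⟨s', hs'⟩ := Ideal.Quotient.mk_surjective (s : S ⧸ Q)
    have hs0 : algebraMap (S ⧸ Q) L (s : S ⧸ Q) ≠ 0 :=
      IsFractionRing.to_map_ne_zero_of_mem_nonZeroDivisors s.2
    refine IsAlgebraic.of_mul (mem_nonZeroDivisors_of_ne_zero hs0) ?_ ?_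
    · rw [← hs']
      exact isAlgebraic_algebraMap (⟨_, hsub s'⟩ : Algebra.adjoin R' t)
    · rw [mul_comm, hcs]
      exact isAlgebraic_algebraMap (⟨_, hsub c⟩ : Algebra.adjoin R' t)
  have hind : AlgebraicIndepOn R' id ({toRes Q a} : Set L) := by
    haveI : Unique ({toRes Q a} : Set L) := Set.uniqueSingleton _
    refine algebraicIndependent_unique_type_iff.2 ?_
    rw [id, show ((default : ({toRes Q a} : Set L)) : L) = toRes Q a from (default : ({toRes Q a} : Set L)).2]
    exact ha
  obtain ⟨v, hv1, hv2, hv⟩ := exists_isTranscendenceBasis_between ({toRes Q a} : Set L) t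
    (Set.singleton_subset_iff.2 (Set.mem_insert _ _)) hind
  have hfin : v.Finite := ((gens.finite_toSet.image _).insert _).subset hv2
  have hcard : r ≤ (hfin.toFinset.erase (toRes Q a)).card := by
    rw [Finset.card_erase_of_mem (hfin.mem_toFinset.2 (hv1 rfl))]
    have hmk : Cardinal.mk v = (hfin.toFinset.card : Cardinal.{u}) := by
      rw [← Cardinal.mk_coe_finset]
      exact Cardinal.mk_congr (Equiv.subtypeEquivRight fun x => hfin.mem_toFinset.symm)
    rw [← hv.cardinalMk_eq_trdeg, hmk, Nat.cast_le] at hr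
    omega
  let ι : Fin r → L := fun i => ((hfin.toFinset.erase (toRes Q a)).equivFin.symm (Fin.castLE hcard i) : L)
  have hι : ∀ i, ι i ∈ v ∧ ι i ≠ toRes Q a := fun i => by
    have h := Finset.mem_erase.1 ((hfin.toFinset.erase (toRes Q a)).equivFin.symm (Fin.castLE hcard i)).2
    exact ⟨hfin.mem_toFinset.1 h.2, h.1⟩
  have hw : ∀ i, ∃ g : gens, toRes Q (g : S) = ι i := fun i => by
    obtain ⟨g, hg, hgi⟩ := (hv2 (hι i).1).resolve_left (hι i).2
    exact ⟨⟨g, hg⟩, hgi⟩
  choose w hw using hw
  refine ⟨w, ?_⟩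
  let j : Fin r ⊕ Unit → v := Sum.elim (fun i => ⟨ι i, (hι i).1⟩) fun _ => ⟨toRes Q a, hv1 rfl⟩
  have hj : Function.Injective j := by
    rintro (i | i) (i' | i') h
    · have h' : ι i = ι i' := by
        simpa [j] using h
      exact congrArg Sum.inl (Fin.castLE_injective hcard
        ((hfin.toFinset.erase (toRes Q a)).equivFin.symm.injective (Subtype.ext h')))
    · exact absurd (by simpa [j] using h) (hι i).2
    · exact absurd (by simpa [j] using h.symm) (hι i').2
    · rfl
  have h := hv.1.comp j hj
  convert h using 1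
  funext x
  rcases x with i | i
  · exact hw i
  · rfl

end Field

/-- A fibre of dimension above a bound has a prime whose quotient has a fibre of that dimension. -/
theorem exists_prime_dim {R S : Type u} [CommRing R] [CommRing S] [Algebra R S] (p : PrimeSpectrum R) (r : ℕ)
    (h : (r : WithBot ℕ∞) < ringKrullDim (p.asIdeal.Fiber S)) :
    ∃ (Q : Ideal S) (_ : Q.IsPrime), (⟨Q.under R, inferInstance⟩ : PrimeSpectrum R) = p ∧
      ((r + 1 : ℕ) : WithBot ℕ∞) ≤ ringKrullDim ((Q.under R).Fiber (S ⧸ Q)) := by
  have hr : ((r + 1 : ℕ) : WithBot ℕ∞) ≤ ringKrullDim (p.asIdeal.Fiber S) := by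
    have hnb : ringKrullDim (p.asIdeal.Fiber S) ≠ ⊥ := fun hb => by rw [hb] at h; exact not_lt_bot h
    obtain ⟨v, hv⟩ := WithBot.ne_bot_iff_exists.1 hnb
    rw [← hv] at h ⊢
    cases v using ENat.recTopCoe with
    | top => exact WithBot.coe_le_coe.2 le_top
    | coe v =>
      norm_cast at h ⊢
      all_goals omega
  rw [← FibDim.krullDim_fib] at hr
  haveI : Nonempty (FibDim.fib (B := S) p) := by
    by_contra he
    rw [not_nonempty_iff] at he
    rw [Order.krullDim_eq_bot] at hr
    exact WithBot.natCast_ne_bot (r + 1) (le_bot_iff.1 hr)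
  obtain ⟨l, hl⟩ := Order.le_krullDim_iff.1 hr
  let Q := l.head.1.asIdeal
  have hQp : (⟨Q.under R, inferInstance⟩ : PrimeSpectrum R) = p := l.head.2
  refine ⟨Q, inferInstance, hQp, ?_⟩
  show _ ≤ ringKrullDim ((⟨Q.under R, inferInstance⟩ : PrimeSpectrum R).asIdeal.Fiber (S ⧸ Q))
  rw [← FibDim.krullDim_fib, hQp]
  have hle : ∀ i, Q ≤ (l i).1.asIdeal := fun i => l.head_le i
  have hcm : ∀ i, ((l i).1.asIdeal.map (Ideal.Quotient.mk Q)).comap (Ideal.Quotient.mk Q) = (l i).1.asIdeal :=
    fun i => by
      rw [Ideal.comap_map_of_surjective _ Ideal.Quotient.mk_surjective, ← RingHom.ker_eq_comap_bot,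
        Ideal.mk_ker, sup_eq_left.2 (hle i)]
  let l' : LTSeries ↥(FibDim.fib (B := S ⧸ Q) p) :=
    ⟨l.length, fun i => ⟨⟨(l i).1.asIdeal.map (Ideal.Quotient.mk Q),
      Ideal.map_isPrime_of_surjective Ideal.Quotient.mk_surjective (by rw [Ideal.mk_ker]; exact hle i)⟩, by
        refine Eq.trans (PrimeSpectrum.ext ?_) (l i).2
        show ((l i).1.asIdeal.map (Ideal.Quotient.mk Q)).comap (algebraMap R (S ⧸ Q)) =
          (l i).1.asIdeal.comap (algebraMap R S)
        rw [IsScalarTower.algebraMap_eq R S (S ⧸ Q), ← Ideal.comap_comap, Ideal.Quotient.algebraMap_eq, hcm]⟩,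
      fun i => by
        have hstep : l i.castSucc < l i.succ := l.step i
        refine lt_of_le_of_ne (Ideal.map_mono hstep.le) fun he => hstep.ne ?_
        have h1 := congrArg (Ideal.comap (Ideal.Quotient.mk Q)) he
        rw [hcm, hcm] at h1
        exact Subtype.ext (PrimeSpectrum.ext h1)⟩
  rw [← hl]
  exact Order.LTSeries.length_le_krullDim l'

section Core

variable {R S : Type u} [CommRing R] [CommRing S] [Algebra R S] [Algebra.FiniteType R S]

/-- Fibres over `R[X]` through `z` bound independent families. -/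
theorem indep_le (d : ℕ) (z : S)
    (hz : ∀ P : PrimeSpectrum (Polynomial R), letI := (Polynomial.aeval (R := R) z).toRingHom.toAlgebra
      ringKrullDim (P.asIdeal.Fiber S) ≤ d)
    (Q : Ideal S) [Q.IsPrime] {r : ℕ} (w : Fin r → S)
    (h : AlgebraicIndependent (Algebra.adjoin (R ⧸ Q.under R) {toRes Q z}) (fun i => toRes Q (w i))) :
    r ≤ d := by
  letI : Algebra (Polynomial R) S := (Polynomial.aeval (R := R) z).toRingHom.toAlgebra
  haveI : IsScalarTower R (Polynomial R) S := IsScalarTower.of_algebraMap_eq fun x =>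
    ((Polynomial.aeval (R := R) z).commutes x).symm
  haveI : Algebra.FiniteType (Polynomial R) S :=
    Algebra.FiniteType.of_restrictScalars_finiteType R _ S
  have h2 := (FibDim.le_dim_fiber_quotient_iff Q r).2 ⟨w, indepMod_poly Q z w h⟩
  have h3 : ringKrullDim ((Q.under (Polynomial R)).Fiber (S ⧸ Q)) ≤
      ringKrullDim ((Q.under (Polynomial R)).Fiber S) :=
    ringKrullDim_le_of_surjective
      (Algebra.TensorProduct.map (AlgHom.id (Polynomial R) _) (Ideal.Quotient.mkₐ (Polynomial R) Q)).toRingHom
      (TensorProduct.map_surjective Function.surjective_id Ideal.Quotient.mk_surjective)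
  have h4 := h2.trans (h3.trans (hz ⟨Q.under (Polynomial R), inferInstance⟩))
  exact_mod_cast h4

/-- The transcendence degree in the fibres over `R` is at most `d + 1`, with equality only if `a` is
transcendental. -/
theorem indep_total (d : ℕ) (a : S)
    (ha : ∀ P : PrimeSpectrum (Polynomial R), letI := (Polynomial.aeval (R := R) a).toRingHom.toAlgebra
      ringKrullDim (P.asIdeal.Fiber S) ≤ d)
    (Q : Ideal S) [Q.IsPrime] {r : ℕ} (w : Fin r → S)
    (hw : AlgebraicIndependent (R ⧸ Q.under R) (fun i => toRes Q (w i))) :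
    r ≤ d + 1 ∧ (r = d + 1 → Transcendental (R ⧸ Q.under R) (toRes Q a)) := by
  classical
  by_cases halg : IsAlgebraic (R ⧸ Q.under R) (toRes Q a)
  · haveI : Algebra.IsAlgebraic (R ⧸ Q.under R) (Algebra.adjoin (R ⧸ Q.under R) {toRes Q a}) :=
      (Subalgebra.isAlgebraic_iff _).1 (Algebra.isAlgebraic_adjoin_singleton_iff.2 halg)
    have h := indep_le d a ha Q w (hw.extendScalars _)
    exact ⟨by omega, fun h' => by omega⟩
  · refine ⟨?_, fun _ => halg⟩
    by_contra hr
    obtain ⟨gens, hgens⟩ := ‹Algebra.FiniteType R S›.out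
    obtain ⟨v, hv⟩ := exists_extend Q gens hgens a halg (r := d + 1) (by
      have h := hw.lift_cardinalMk_le_trdeg
      replace h : (r : Cardinal.{u}) ≤ Algebra.trdeg (R ⧸ Q.under R) (Res Q) := by simpa using h
      exact le_trans (Nat.cast_le.2 (show d + 1 + 1 ≤ r by omega)) h)
    have h2 := (AlgebraicIndependent.sumElim_iff.1 hv).2
    rw [Set.range_const] at h2
    have := indep_le d a ha Q (fun i => (v i : S)) h2
    omega

open Polynomial in
/-- Collapsing the last variable. -/
theorem collapse_ne_zero {K : Type u} [CommRing K] [IsDomain K] (ν : R →+* K) {d n : ℕ}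
    (F : MvPolynomial (Option (Option (Fin d))) R) (hn : ∀ m ∈ F.support, m none < n)
    (y : K) (hF : ∃ m, ν (F.coeff m) ≠ 0) :
    MvPolynomial.eval₂Hom ((C.comp MvPolynomial.C).comp ν)
      (fun o : Option (Option (Fin d)) => o.elim (X : Polynomial (MvPolynomial (Fin d) K))
        fun o' => o'.elim (C (MvPolynomial.C y) - X ^ n) fun i => C (MvPolynomial.X i)) F ≠ 0 := by
  classical
  let W : (Option (Option (Fin d)) →₀ ℕ) → ℕ := fun m => m none + n * m (some none)
  let mid : (Option (Option (Fin d)) →₀ ℕ) → (Fin d →₀ ℕ) := fun m =>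
    Finsupp.equivFunOnFinite.symm fun i => m (some (some i))
  let T := F.support.filter fun m => ν (F.coeff m) ≠ 0
  obtain ⟨m₀, hm₀⟩ := hF
  have hT : T.Nonempty := ⟨m₀, Finset.mem_filter.2 ⟨MvPolynomial.mem_support_iff.2 fun h0 => hm₀ (by
    rw [h0, map_zero]), hm₀⟩⟩
  obtain ⟨m₁, hm₁, hmax⟩ := T.exists_max_image W hT
  obtain ⟨hm₁s, hm₁0⟩ := Finset.mem_filter.1 hm₁
  have hterm : ∀ m : Option (Option (Fin d)) →₀ ℕ,
      ∏ o, (o.elim (X : Polynomial (MvPolynomial (Fin d) K))
        fun o' => o'.elim (C (MvPolynomial.C y) - X ^ n) fun i => C (MvPolynomial.X i)) ^ m o =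
      C (MvPolynomial.monomial (mid m) (1 : K)) *
        (X ^ m none * (C (MvPolynomial.C y) - X ^ n) ^ m (some none)) := by
    intro m
    rw [Fintype.prod_option, Fintype.prod_option]
    simp only [Option.elim_none, Option.elim_some]
    rw [MvPolynomial.monomial_eq, MvPolynomial.C_1, one_mul, Finsupp.prod_fintype _ _ (fun i => pow_zero _),
      map_prod]
    simp only [map_pow, mid, Finsupp.equivFunOnFinite_symm_apply_apply]
    ring
  have hX : (C (MvPolynomial.C y) - X ^ n : Polynomial (MvPolynomial (Fin d) K)).natDegree = n ∧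
      (C (MvPolynomial.C y) - X ^ n : Polynomial (MvPolynomial (Fin d) K)).leadingCoeff = -1 := by
    have hn0 : 0 < n := lt_of_le_of_lt (Nat.zero_le _) (hn m₁ hm₁s)
    rw [← neg_sub, natDegree_neg, leadingCoeff_neg, natDegree_X_pow_sub_C, leadingCoeff_X_pow_sub_C hn0]
    exact ⟨rfl, rfl⟩
  have hdeg : ∀ m : Option (Option (Fin d)) →₀ ℕ,
      (X ^ m none * (C (MvPolynomial.C y) - X ^ n) ^ m (some none) :
        Polynomial (MvPolynomial (Fin d) K)).natDegree = W m ∧
      (X ^ m none * (C (MvPolynomial.C y) - X ^ n) ^ m (some none) :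
        Polynomial (MvPolynomial (Fin d) K)).leadingCoeff = (-1) ^ m (some none) := by
    intro m
    have hne : (C (MvPolynomial.C y) - X ^ n : Polynomial (MvPolynomial (Fin d) K)) ≠ 0 := fun h => by
      have := hX.2
      rw [h, leadingCoeff_zero] at this
      exact neg_ne_zero.2 one_ne_zero this.symm
    rw [natDegree_mul (pow_ne_zero _ X_ne_zero) (pow_ne_zero _ hne), natDegree_X_pow, natDegree_pow, hX.1,
      leadingCoeff_mul, leadingCoeff_pow, leadingCoeff_pow, leadingCoeff_X, one_pow, one_mul, hX.2]
    exact ⟨by simp only [W]; ring, rfl⟩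
  intro h0
  rw [MvPolynomial.coe_eval₂Hom, MvPolynomial.eval₂_eq'] at h0
  have hc := congrArg (fun p : Polynomial (MvPolynomial (Fin d) K) => (p.coeff (W m₁)).coeff (mid m₁)) h0
  simp only [finsetSum_coeff, MvPolynomial.coeff_sum, coeff_zero, MvPolynomial.coeff_zero] at hc
  rw [Finset.sum_eq_single m₁ (fun m hm hne => ?_) (fun h => absurd hm₁s h)] at hc
  · rw [hterm, RingHom.comp_apply, RingHom.comp_apply, ← mul_assoc, ← map_mul, MvPolynomial.C_mul_monomial,
      mul_one, coeff_C_mul, ← (hdeg m₁).1, ← leadingCoeff, (hdeg m₁).2, mul_comm] at hc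
    rcases neg_one_pow_eq_or (MvPolynomial (Fin d) K) (m₁ (some none)) with h | h <;>
      rw [h] at hc <;> simp [hm₁0] at hc
  · rw [hterm, RingHom.comp_apply, RingHom.comp_apply, ← mul_assoc, ← map_mul, MvPolynomial.C_mul_monomial,
      mul_one, coeff_C_mul]
    by_cases h0' : ν (F.coeff m) = 0
    · rw [h0', MvPolynomial.monomial_zero, zero_mul, MvPolynomial.coeff_zero]
    rcases (hmax m (Finset.mem_filter.2 ⟨hm, h0'⟩)).lt_or_eq with hlt | heq
    · rw [coeff_eq_zero_of_natDegree_lt (p := X ^ m none * _) ((hdeg m).1.trans_lt hlt), mul_zero,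
        MvPolynomial.coeff_zero]
    · rw [← heq, ← (hdeg m).1, ← leadingCoeff, (hdeg m).2]
      have hmid : mid m ≠ mid m₁ := by
        intro hmid
        apply hne
        simp only [W] at heq
        have h1 := hn m hm
        have h2 := hn m₁ hm₁s
        have hnn : m (some none) = m₁ (some none) := by
          rcases lt_trichotomy (m (some none)) (m₁ (some none)) with h | h | h
          · have := Nat.mul_le_mul_left n (Nat.succ_le_of_lt h)
            rw [Nat.mul_succ] at this
            omega
          · exact h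
          · have := Nat.mul_le_mul_left n (Nat.succ_le_of_lt h)
            rw [Nat.mul_succ] at this
            omega
        refine Finsupp.ext fun o => ?_
        match o with
        | none => rw [hnn] at heq; omega
        | some none => exact hnn
        | some (some i) =>
          have := congrArg (fun e : Fin d →₀ ℕ => e i) hmid
          simpa [mid] using this
      rcases neg_one_pow_eq_or (MvPolynomial (Fin d) K) (m (some none)) with h | h <;>
        simp [h, MvPolynomial.coeff_monomial, hmid]

theorem eval_collapse {K L : Type u} [CommRing K] [CommRing L] [Algebra K L] {d : ℕ} (w : Fin d → L)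
    (α : L) (c : K) (n : ℕ) :
    ((MvPolynomial.aeval fun o : Option (Fin d) => o.elim α w).comp
      (MvPolynomial.optionEquivLeft K (Fin d)).symm.toAlgHom)
        (Polynomial.C (MvPolynomial.C c) - Polynomial.X ^ n) = algebraMap K L c - α ^ n := by
  simp

/-- The main step: no independent family of size `d + 1` over `a ^ n + b`. -/
theorem no_indep (d : ℕ) (a b : S)
    (ha : ∀ P : PrimeSpectrum (Polynomial R), letI := (Polynomial.aeval (R := R) a).toRingHom.toAlgebra
      ringKrullDim (P.asIdeal.Fiber S) ≤ d) :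
    ∃ n₀ : ℕ, ∀ n ≥ n₀, ∀ (Q : Ideal S) [Q.IsPrime] (t : Fin (d + 1) → S),
      (letI : Algebra (Polynomial R) S := (Polynomial.aeval (R := R) (a ^ n + b)).toRingHom.toAlgebra
       FibDim.IndepMod (A := Polynomial R) t Q) → False := by
  classical
  have hdimR : ∀ p : PrimeSpectrum R, ringKrullDim (p.asIdeal.Fiber S) ≤ ((d + 1 : ℕ) : WithBot ℕ∞) := by
    intro p
    by_contra hlt
    obtain ⟨Q, hQ, hQp, hQd⟩ := exists_prime_dim (R := R) (S := S) p (d + 1) (not_le.1 hlt)
    obtain ⟨w, hw⟩ := (FibDim.le_dim_fiber_quotient_iff Q (d + 2)).1 hQd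
    have := (indep_total d a ha Q w ((indepMod_iff Q w).1 hw)).1
    omega
  obtain ⟨gens, hgens⟩ := ‹Algebra.FiniteType R S›.out
  let ε : Fin (d + 2) ≃ Option (Option (Fin d)) := (finSuccEquiv (d + 1)).trans (finSuccEquiv d).optionCongr
  let z : (Fin d → gens) → Option (Option (Fin d)) → S := fun σ o =>
    o.elim a fun o' => o'.elim b fun i => (σ i : S)
  choose N hN hf using fun σ : Fin d → gens => S1362.exists_bound (d + 1) hdimR (Nat.lt_succ_self _)
    (MvPolynomial.aeval fun i : Fin (d + 2) => z σ (ε i))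
  refine ⟨Finset.univ.sup N, fun n hn Q _ t ht => ?_⟩
  let R' := R ⧸ Q.under R
  let L := Res Q
  let y : L := toRes Q (a ^ n + b)
  have htR : AlgebraicIndependent R' (fun i => toRes Q (t i)) := by
    letI : Algebra (Polynomial R) S := (Polynomial.aeval (R := R) (a ^ n + b)).toRingHom.toAlgebra
    refine (indepMod_iff Q t).1 fun G hG => ?_
    rw [MvPolynomial.mem_map_C_iff]
    intro m
    have h1 : MvPolynomial.aeval t (MvPolynomial.map Polynomial.C G) ∈ Q := by
      have : MvPolynomial.aeval t (MvPolynomial.map Polynomial.C G) = MvPolynomial.aeval t G := by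
        clear hG
        induction G using MvPolynomial.induction_on with
        | C r =>
          simp only [MvPolynomial.map_C, MvPolynomial.aeval_C]
          exact Polynomial.aeval_C _ r
        | add p q hp hq => simp only [map_add, hp, hq]
        | mul_X p i hp => simp only [map_mul, hp, MvPolynomial.map_X, MvPolynomial.aeval_X]
      rwa [this]
    have h2 := MvPolynomial.mem_map_C_iff.1 (ht _ h1) m
    rw [MvPolynomial.coeff_map] at h2
    have h3 : Polynomial.aeval (a ^ n + b) (Polynomial.C (G.coeff m)) ∈ Q := h2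
    rwa [Polynomial.aeval_C] at h3
  have htot := indep_total d a ha Q t htR
  have hatr := htot.2 rfl
  have hyalg : IsAlgebraic R' y := by
    by_contra hyt
    -- `y` and `t` would be `d + 2` independent elements
    letI : Algebra (Polynomial R) S := (Polynomial.aeval (R := R) (a ^ n + b)).toRingHom.toAlgebra
    have hS₀ : AlgebraicIndependent (Algebra.adjoin R' {y}) (fun i => toRes Q (t i)) := by
      rw [algebraicIndependent_iff]
      intro H hH
      have hsurj : ∀ c : Algebra.adjoin R' {y}, ∃ p : Polynomial R,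
          toRes Q (Polynomial.aeval (a ^ n + b) p) = (c : L) := by
        rintro ⟨c, hc⟩
        induction hc using Algebra.adjoin_induction with
        | mem c hc => exact ⟨Polynomial.X, by rw [Polynomial.aeval_X]; exact (Set.mem_singleton_iff.1 hc).symm⟩
        | algebraMap r =>
          obtain ⟨r, rfl⟩ := Ideal.Quotient.mk_surjective r
          exact ⟨Polynomial.C r, by rw [Polynomial.aeval_C]; rfl⟩
        | add c c' _ _ h h' =>
          obtain ⟨p, hp⟩ := h
          obtain ⟨p', hp'⟩ := h'
          exact ⟨p + p', by rw [map_add, map_add, hp, hp']⟩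
        | mul c c' _ _ h h' =>
          obtain ⟨p, hp⟩ := h
          obtain ⟨p', hp'⟩ := h'
          exact ⟨p * p', by rw [map_mul, map_mul, hp, hp']⟩
      choose lift hlift using hsurj
      let G : MvPolynomial (Fin (d + 1)) (Polynomial R) :=
        ∑ m ∈ H.support, MvPolynomial.monomial m (lift (H.coeff m))
      have hG : toRes Q (MvPolynomial.aeval t G) = 0 := by
        rw [← hH]
        conv_rhs => rw [H.as_sum]
        simp only [G, map_sum, MvPolynomial.aeval_monomial, map_mul, Finsupp.prod, map_prod, map_pow]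
        refine Finset.sum_congr rfl fun m _ => ?_
        congr 1
        exact hlift _
      have h1 := MvPolynomial.mem_map_C_iff.1 (ht G ((toRes_eq_zero Q _).1 hG))
      ext m
      rw [MvPolynomial.coeff_zero]
      by_cases hm : m ∈ H.support
      · have h2 := h1 m
        have hGm : G.coeff m = lift (H.coeff m) := by
          simp [G, MvPolynomial.coeff_sum, MvPolynomial.coeff_monomial, hm]
        rw [hGm] at h2
        have h3 : toRes Q (Polynomial.aeval (a ^ n + b) (lift (H.coeff m))) = 0 := (toRes_eq_zero Q _).2 h2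
        rw [hlift] at h3
        exact congrArg Subtype.val (Subtype.ext h3 : H.coeff m = 0)
      · rw [MvPolynomial.notMem_support_iff.1 hm]
    have hy1 : AlgebraicIndependent R' (fun _ : Unit => y) :=
      algebraicIndependent_unique_type_iff.2 hyt
    have h := AlgebraicIndependent.sumElim_iff.2 ⟨hy1, by rwa [Set.range_const]⟩
    have h' := h.comp (finSumFinEquiv.symm.trans ((Equiv.refl (Fin (d + 1))).sumCongr finOneEquiv))
      (Equiv.injective _)
    have hfam : (Sum.elim (fun i => toRes Q (t i)) fun _ : Unit => y) ∘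
        (finSumFinEquiv.symm.trans ((Equiv.refl (Fin (d + 1))).sumCongr finOneEquiv)) =
        fun i => toRes Q ((Sum.elim t fun _ => a ^ n + b) (finSumFinEquiv.symm i)) := by
      funext i
      simp only [Function.comp_apply, Equiv.trans_apply]
      rcases finSumFinEquiv.symm i with j | j <;> rfl
    rw [hfam] at h'
    have := (indep_total d a ha Q _ h').1
    omega
  -- `y` algebraic, `a` transcendental
  obtain ⟨σ, hσ⟩ := exists_extend Q gens hgens a hatr (r := d) (by
    have h := htR.lift_cardinalMk_le_trdeg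
    simpa using h)
  obtain ⟨f, hfN, ⟨m₀, hm₀⟩, hfQ⟩ := hf σ ⟨Q.under R, inferInstance⟩
  let K := Algebra.adjoin R' {y}
  haveI : Algebra.IsAlgebraic R' K :=
    (Subalgebra.isAlgebraic_iff _).1 (Algebra.isAlgebraic_adjoin_singleton_iff.2 hyalg)
  have hind : AlgebraicIndependent K (fun o : Option (Fin d) => o.elim (toRes Q a) fun i => toRes Q (σ i : S)) := by
    refine AlgebraicIndependent.extendScalars (R := R') K ?_
    have h := hσ.comp (fun o : Option (Fin d) => o.elim (Sum.inr ()) Sum.inl) (by
      rintro (_ | i) (_ | j) h <;> simp at h ⊢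
      exact h)
    convert h using 1
    funext o
    cases o <;> rfl
  let F : MvPolynomial (Option (Option (Fin d))) R := MvPolynomial.rename ε f
  let ν : R →+* K := (algebraMap R' K).comp (Ideal.Quotient.mk (Q.under R))
  have hne := collapse_ne_zero ν (n := n) F (fun m hm => ?_) (⟨y, Algebra.subset_adjoin rfl⟩ : K)
    ⟨m₀.mapDomain ε, ?_⟩
  · apply hne
    let E : Polynomial (MvPolynomial (Fin d) K) →ₐ[K] L :=
      (MvPolynomial.aeval fun o : Option (Fin d) => o.elim (toRes Q a) fun i => toRes Q (σ i : S)).comp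
        (MvPolynomial.optionEquivLeft K (Fin d)).symm.toAlgHom
    have hE : Function.Injective E :=
      (algebraicIndependent_iff_injective_aeval.1 hind).comp (AlgEquiv.injective _)
    refine hE ?_
    rw [map_zero, ← AlgHom.coe_toRingHom, ← RingHom.comp_apply, MvPolynomial.comp_eval₂Hom]
    have hkey : toRes Q (MvPolynomial.aeval (z σ) F) = 0 := by
      rw [toRes_eq_zero, MvPolynomial.aeval_rename]
      exact hfQ Q ‹_› rfl
    rw [← hkey, MvPolynomial.aeval_def, MvPolynomial.coe_eval₂Hom]
    refine ((MvPolynomial.eval₂_comp_left (toRes Q) (algebraMap R S) (z σ) F).trans ?_).symm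
    congr 1
    · refine RingHom.ext fun r => ?_
      show toRes Q (algebraMap R S r) = E (Polynomial.C (MvPolynomial.C (ν r)))
      simp [E, ν]
      rfl
    · funext o
      match o with
      | none => simp [z, E]
      | some none =>
        refine Eq.symm ((eval_collapse _ _ _ _).trans ?_)
        show toRes Q (a ^ n + b) - toRes Q a ^ n = toRes Q b
        rw [map_add, map_pow, add_sub_cancel_left]
      | some (some i) => simp [z, E, MvPolynomial.optionEquivLeft_symm_C_X]
  · obtain ⟨m', rfl, hm'⟩ := MvPolynomial.coeff_rename_ne_zero ε f m (MvPolynomial.mem_support_iff.1 hm)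
    have h1 := hfN m' (MvPolynomial.mem_support_iff.2 hm') (ε.symm none)
    rw [← ε.apply_symm_apply none, Finsupp.mapDomain_apply ε.injective]
    exact lt_of_lt_of_le h1 ((Finset.le_sup (f := N) (Finset.mem_univ σ)).trans hn)
  · show algebraMap R' K (Ideal.Quotient.mk _ (F.coeff (m₀.mapDomain ε))) ≠ 0
    rw [MvPolynomial.coeff_rename_mapDomain _ ε.injective]
    intro h0
    exact hm₀ (Ideal.Quotient.eq_zero_iff_mem.1
      (FaithfulSMul.algebraMap_injective R' L ((congrArg Subtype.val h0).trans (map_zero _).symm)))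

end Core


open Polynomial in
/-- Let R → S be of finite type, d ≥ 0 and a, b ∈ S. View S as an algebra over R[x] via x ↦ a; if all
fibre rings of Spec S → Spec R[x] have dimension ≤ d, then there is n₀ such that for all n ≥ n₀ the
same holds for the R[x]-algebra structure x ↦ a^n + b. -/
theorem result {R S : Type u} [CommRing R] [CommRing S] [Algebra R S] [Algebra.FiniteType R S]
    (d : ℕ) (a b : S)
    (ha : ∀ P : PrimeSpectrum R[X], letI := (Polynomial.aeval (R := R) a).toRingHom.toAlgebra
      ringKrullDim (P.asIdeal.Fiber S) ≤ d) :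
    ∃ n₀ : ℕ, ∀ n ≥ n₀, ∀ P : PrimeSpectrum R[X], letI := (Polynomial.aeval (R := R) (a ^ n + b)).toRingHom.toAlgebra
      ringKrullDim (P.asIdeal.Fiber S) ≤ d := by
  classical
  obtain ⟨n₀, hn₀⟩ := no_indep d a b ha
  refine ⟨n₀, fun n hn P => ?_⟩
  letI : Algebra R[X] S := (Polynomial.aeval (R := R) (a ^ n + b)).toRingHom.toAlgebra
  haveI : IsScalarTower R R[X] S := IsScalarTower.of_algebraMap_eq fun x =>
    ((Polynomial.aeval (R := R) (a ^ n + b)).commutes x).symm
  haveI : Algebra.FiniteType R[X] S := Algebra.FiniteType.of_restrictScalars_finiteType R _ S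
  by_contra hlt
  obtain ⟨Q, hQ, hQP, hQd⟩ := exists_prime_dim (R := R[X]) (S := S) P d (not_le.1 hlt)
  obtain ⟨t, ht⟩ := (FibDim.le_dim_fiber_quotient_iff Q (d + 1)).1 hQd
  exact hn₀ n hn Q t ht

end Groth.Agent.S1430
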