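import Groth.Statements.S1431
import Groth.Agent.Descends.Main
import Groth.Agent.H23.GeomConnGamma
-- import your own Groth.Agent.* helpers here

set_option autoImplicit false
universe u
open FlatMor

attribute [-instance] CategoryTheory.catToReflQuiver
set_option backward.isDefEq.respectTransparency false
set_option backward.isDefEq.respectTransparency.types false
set_option linter.style.haveILetI false

namespace Groth.Agent.S1431

open AlgebraicGeometry CategoryTheory Limits in
/-- Let f : X → S be flat, proper and of finite presentation such that for every base change p : X_T → T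
the map O_T → p_* O_{X_T} is an isomorphism, and let E be a finite locally free O_X-module. Then
some immersion j : Z → S of finite presentation has the property that a morphism g : T → S factors
through j exactly when the pullback of E to X_T is isomorphic to the pullback along p of some finite
locally free O_T-module. -/
theorem result {X S : Scheme.{u}} (f : X ⟶ S) [Flat f] [IsProper f] [LocallyOfFinitePresentation f]
    (hO : ∀ (T : Scheme.{u}) (g : T ⟶ S) (U : T.Opens), IsIso ((pullback.snd f g).app U))
    (E : X.Modules) (hE : FlatMod.IsFinLocFree E) :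
    ∃ (Z : Scheme.{u}) (j : Z ⟶ S), IsImmersion j ∧ LocallyOfFinitePresentation j ∧
      ∀ (T : Scheme.{u}) (g : T ⟶ S), (∃ g' : T ⟶ Z, g' ≫ j = g) ↔
        ∃ N : T.Modules, FlatMod.IsFinLocFree N ∧
          Nonempty ((Scheme.Modules.pullback (pullback.snd f g)).obj N ≅ (Scheme.Modules.pullback (pullback.fst f g)).obj E) := by
  haveI : GeometricallyConnected f := (GeometricallyConnected.iff_geometricallyConnected_fiber f).2 fun s => by
    haveI := hO _ (S.fromSpecResidueField s) ⊤
    exact Groth.Agent.H23.GeomConnGamma.geometricallyConnected_of_gamma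
      (pullback.snd f (S.fromSpecResidueField s))
      (ConcreteCategory.bijective_of_isIso ((pullback.snd f (S.fromSpecResidueField s)).app ⊤))
  haveI : Groth.Agent.Descends.OConst f := ⟨fun T g U => by
    haveI := hO T g U
    exact ConcreteCategory.bijective_of_isIso ((pullback.snd f g).app U)⟩
  obtain ⟨Z, ι, h1, h2, -, h4, -⟩ := Groth.Agent.Descends.exists_seesaw f hE
  refine ⟨Z, ι, h1, h2, fun T g => (h4 T g).trans ?_⟩
  exact ⟨fun ⟨N, hN, ⟨e⟩⟩ => ⟨N, hN, ⟨e.symm⟩⟩, fun ⟨N, hN, ⟨e⟩⟩ => ⟨N, hN, ⟨e.symm⟩⟩⟩

end Groth.Agent.S1431
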