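import Groth.Statements.S14310
import Groth.Agent.ArSingX.SqLine

set_option autoImplicit false
universe u
open ArSing

namespace Groth.Agent.S14310

/-- Let k be an algebraically closed field, f a polynomial in two variables x = X_0, y = X_1 over k, and
a a point of k². The quotient of the power series ring k[[x,y]] by the polynomial f recentred at a
(which is the completed local ring at a of the plane curve f = 0) is isomorphic as a k-algebra to
k[[x,y]]/(y^2) if and only if f = g^2 h for polynomials g and h with h(a) ≠ 0, g(a) = 0 and some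
first partial derivative of g non-zero at a. (The published statement asks for the component through
a to be the square of a smooth plane curve; only smoothness at a matters and is what is stated here
— for the square of a nodal cubic the completed local ring at a smooth point of the cubic is still
k[[x,y]]/(y^2). No hypothesis on the characteristic of k is imposed; the published setting assumes a
characteristic different from 2, 3, 5 and 7, which the argument does not use.) -/
theorem result
    {k : Type u} [Field k] [IsAlgClosed k] (f : MvPolynomial (Fin 2) k) (a : Fin 2 → k) :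
    Nonempty ((MvPowerSeries (Fin 2) k ⧸ Ideal.span
        ({(MvPolynomial.aeval (fun i : Fin 2 => MvPolynomial.X i + MvPolynomial.C (a i)) f).toMvPowerSeries} :
          Set (MvPowerSeries (Fin 2) k))) ≃ₐ[k]
      (MvPowerSeries (Fin 2) k ⧸ Ideal.span ({MvPowerSeries.X 1 ^ 2} : Set (MvPowerSeries (Fin 2) k)))) ↔
    ∃ g h : MvPolynomial (Fin 2) k, f = g ^ 2 * h ∧ MvPolynomial.eval a h ≠ 0 ∧ MvPolynomial.eval a g = 0 ∧
      ∃ i : Fin 2, MvPolynomial.eval a (MvPolynomial.pderiv i g) ≠ 0 := by
  open Groth.Agent.ArSingX in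
  change Nonempty ((_ ⧸ Ideal.span {ι k (sh a f)}) ≃ₐ[k] _) ↔ _
  constructor
  · rintro ⟨φ⟩
    have hF : ArSingX.ι k (ArSingX.sh a f) ∈ ArSingX.m k := by
      by_contra h
      have htop : Ideal.span {ArSingX.ι k (ArSingX.sh a f)} = ⊤ :=
        Ideal.span_singleton_eq_top.mpr (ArSingX.isUnit_iff_notMem.mpr h)
      have : Subsingleton (MvPowerSeries (Fin 2) k ⧸ Ideal.span {ArSingX.ι k (ArSingX.sh a f)}) :=
        Ideal.Quotient.subsingleton_iff.mpr htop
      have := φ.symm.injective.subsingleton
      rw [Ideal.Quotient.subsingleton_iff, Ideal.span_singleton_eq_top,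
        ArSingX.isUnit_iff_notMem] at this
      exact this (Ideal.pow_le_self two_ne_zero ArSingX.X1_sq_mem)
    obtain ⟨g, h, hgh, hh, hg, i, hi⟩ :=
      ArSingX.exists_sq_mul (ArSingX.same_of_algEquiv hF ArSingX.X1_sq_mem φ)
    refine ⟨ArSingX.sh (-a) g, ArSingX.sh (-a) h, ?_, ?_, ?_, i, ?_⟩
    · rw [← map_pow, ← map_mul, ← hgh]
      simpa using (ArSingX.sh_sh (-a) f).symm
    · rwa [← ArSingX.eval_sh, ArSingX.sh_sh]
    · rwa [← ArSingX.eval_sh, ArSingX.sh_sh]
    · rwa [← ArSingX.eval_sh, ← ArSingX.pderiv_sh, ArSingX.sh_sh]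
  · rintro ⟨g, h, rfl, hh, hg, i, hi⟩
    rw [map_mul (ArSingX.sh a), map_pow (ArSingX.sh a)]
    refine (ArSingX.same_sq ?_ ⟨i, ?_⟩ ?_).nonempty_algEquiv
    · rwa [ArSingX.eval_sh]
    · rwa [ArSingX.pderiv_sh, ArSingX.eval_sh]
    · rwa [ArSingX.eval_sh]

end Groth.Agent.S14310
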