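import Groth.Statements.S14311
import Groth.Agent.ArSingX.ASing

set_option autoImplicit false
universe u
open ArSing

namespace Groth.Agent.S14311

/-- Let k be an algebraically closed field in which 2 ≠ 0, f a polynomial in x = X_0, y = X_1 over k and
a a zero of f in k². Then the gradient and all second partial derivatives of f vanish at a if and
only if the completed local ring k[[x,y]]/(f recentred at a) of the plane curve f = 0 at a is
isomorphic as a k-algebra neither to k[[x,y]]/(y^2 - x^(n+1)) for any natural number n nor to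
k[[x,y]]/(y^2). (Here n = 0, a smooth point, is allowed; with n ≥ 1 only, as in the published
definition of an A-singularity, the equivalence fails at smooth points of the curve. Only 2 ≠ 0 is
assumed of the characteristic; the published setting assumes a characteristic different from 2, 3, 5
and 7.) -/
theorem result
    {k : Type u} [Field k] [IsAlgClosed k] (h2 : (2 : k) ≠ 0) (f : MvPolynomial (Fin 2) k) (a : Fin 2 → k)
    (hfa : MvPolynomial.eval a f = 0) :
    ((∀ i : Fin 2, MvPolynomial.eval a (MvPolynomial.pderiv i f) = 0) ∧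
      ∀ i j : Fin 2, MvPolynomial.eval a (MvPolynomial.pderiv i (MvPolynomial.pderiv j f)) = 0) ↔
    ¬ ((∃ n : ℕ, Nonempty ((MvPowerSeries (Fin 2) k ⧸ Ideal.span
        ({(MvPolynomial.aeval (fun i : Fin 2 => MvPolynomial.X i + MvPolynomial.C (a i)) f).toMvPowerSeries} :
          Set (MvPowerSeries (Fin 2) k))) ≃ₐ[k] ArSing.ring k n)) ∨
        Nonempty ((MvPowerSeries (Fin 2) k ⧸ Ideal.span
        ({(MvPolynomial.aeval (fun i : Fin 2 => MvPolynomial.X i + MvPolynomial.C (a i)) f).toMvPowerSeries} :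
          Set (MvPowerSeries (Fin 2) k))) ≃ₐ[k]
          (MvPowerSeries (Fin 2) k ⧸ Ideal.span ({MvPowerSeries.X 1 ^ 2} : Set (MvPowerSeries (Fin 2) k))))) := by
  open Groth.Agent.ArSingX in
  change _ ↔ ¬ ((∃ n, Nonempty ((_ ⧸ Ideal.span {ι k (sh a f)}) ≃ₐ[k] _)) ∨
    Nonempty ((_ ⧸ Ideal.span {ι k (sh a f)}) ≃ₐ[k] _))
  have hf : MvPolynomial.eval 0 (ArSingX.sh a f) = 0 := by rw [ArSingX.eval_sh, hfa]
  have hF : ArSingX.ι k (ArSingX.sh a f) ∈ ArSingX.m k := ArSingX.ι_mem.mpr hf
  have key := ArSingX.mem_cube_iff h2 (ArSingX.sh a f) hf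
  simp only [ArSingX.pderiv_sh, ArSingX.eval_sh] at key
  rw [key]
  constructor
  · intro h3 hor
    have h2F := Ideal.pow_le_pow_right (show 2 ≤ 3 by norm_num) h3
    rcases hor with ⟨n, ⟨φ⟩⟩ | ⟨⟨φ⟩⟩
    · exact ArSingX.eqn_notMem n
        ((ArSingX.same_of_algEquiv (ArSingX.eqn_mem n) h2F φ.symm).mem_pow h3)
    · exact ArSingX.X1_sq_notMem ((ArSingX.same_of_algEquiv
        (Ideal.pow_le_self two_ne_zero ArSingX.X1_sq_mem) h2F φ.symm).mem_pow h3)
  · intro hn
    by_contra h3
    rcases ArSingX.same_model h2 hF h3 with ⟨n, h⟩ | h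
    · exact hn (Or.inl ⟨n, h.nonempty_algEquiv⟩)
    · exact hn (Or.inr h.nonempty_algEquiv)

end Groth.Agent.S14311
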