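import Groth.Statements.S14330
import Groth.Agent.S3843
import Groth.Agent.H23.HartogsLine
import Groth.Agent.H9PB.RegPoint


set_option autoImplicit false
universe u
open CategoryTheory CategoryTheory.Limits AlgebraicGeometry Opposite
open GrpSch

namespace Groth.Agent.S14330
set_option linter.style.haveILetI false
open Groth.Agent Groth.Agent.AModX Groth.Agent.InvX Groth.Agent.InvUfdLib

/-- Sections of an invertible module are determined on a schematically dense open. -/
theorem res_injective_of_dense {X : Scheme.{u}} {U : X.Opens} (hU : CInt.IsSchematicallyDense U) {L : X.Modules}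
    (hL : PicF.IsInvertible L) (W : X.Opens) : Function.Injective (res L (inf_le_left : W ⊓ U ≤ W)) := by
  refine (injective_iff_map_eq_zero _).2 fun s hs => eq_of_locally _ _ fun p hp => ?_
  obtain ⟨V, hpV, e, he⟩ := InvX.exists_frame hL p
  refine ⟨W ⊓ V, inf_le_left, ⟨hp, hpV⟩, ?_⟩
  obtain ⟨c, hc⟩ := he.exists_coord inf_le_right (res L (inf_le_left : W ⊓ V ≤ W) s)
  rw [map_zero, hc]
  have h0 : c = 0 := by
    refine hU (W ⊓ V) ?_
    show resR inf_le_left c = resR inf_le_left 0
    rw [map_zero]
    refine he.coord_unique (inf_le_left.trans inf_le_right) ?_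
    rw [zero_smul]
    have h := congrArg (res L (inf_le_left : W ⊓ V ⊓ U ≤ W ⊓ V)) hc
    rw [res_res, res_smul, res_res] at h
    rw [← h]
    have h2 := congrArg (res L (inf_le_inf_right U inf_le_left : W ⊓ V ⊓ U ≤ W ⊓ U)) hs
    rw [res_res, map_zero] at h2
    exact h2
  rw [h0, zero_smul]


/-- Let S be a locally Noetherian scheme, f : A → S a smooth morphism, L an invertible O_A-module and V
an open subscheme of S; for an open W of S consider the restriction of sections of L from f⁻¹(W) to
f⁻¹(W) ∩ f⁻¹(V), that is the component over W of the natural map f_*L → j_*j^*(f_*L), j : V → S the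
inclusion. If V is schematically dense in S, all these restrictions are injective. If V is a big
open of S, meaning that the local ring of S at every point outside V has depth at least 2, all these
restrictions are bijective. (The published statement is for a semi-stable group scheme A; its proof
uses only the smoothness of A over S and the local freeness of L, which are the hypotheses kept
here.) -/
theorem result {S A : Scheme.{u}} [IsLocallyNoetherian S]
    (f : A ⟶ S) [Smooth f] (L : A.Modules) (hL : PicF.IsInvertible L) (V : S.Opens) :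
    (CInt.IsSchematicallyDense V →
      ∀ W : S.Opens, Function.Injective (L.val.map (homOfLE (inf_le_left : f ⁻¹ᵁ W ⊓ f ⁻¹ᵁ V ≤ f ⁻¹ᵁ W)).op)) ∧
    ((∀ x : S, x ∉ V → 2 ≤ LocCoh.depth (S.presheaf.stalk x) (S.presheaf.stalk x)) →
      ∀ W : S.Opens, Function.Bijective (L.val.map (homOfLE (inf_le_left : f ⁻¹ᵁ W ⊓ f ⁻¹ᵁ V ≤ f ⁻¹ᵁ W)).op)) := by
  haveI : IsLocallyNoetherian A := LocallyOfFiniteType.isLocallyNoetherian f
  refine ⟨fun hV W => res_injective_of_dense (S3843.result f V hV) hL (f ⁻¹ᵁ W), fun hV W => ?_⟩
  refine H23.HartogsLine.res_bijective (U := f ⁻¹ᵁ V) (fun x hx => ?_) hL (f ⁻¹ᵁ W)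
  exact H9PB.le_depth_of_flat (d := 2) (f.stalkMap x).hom (Flat.stalkMap f x) (hV (f x) hx)

end Groth.Agent.S14330
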