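import Groth.Statements.S14345
import Groth.Agent.FittX.Crit
import Mathlib.RingTheory.LocalRing.Module
import Mathlib.RingTheory.Spectrum.Prime.FreeLocus
import Mathlib.RingTheory.Grassmannian

set_option autoImplicit false
set_option maxHeartbeats 1000000
universe u v
open TensorProduct
open QuotLF

namespace Groth.Agent.S14345

theorem map_le {R : Type u} [CommRing R] {S : Type u} [CommRing S] [Algebra R S]
    {M : Type v} [AddCommGroup M] [Module R M] {M' : Type*} [AddCommGroup M'] [Module R M'] [Module S M']
    [IsScalarTower R S M'] (f : M →ₗ[R] M') (hf : Submodule.span S (Set.range f) = ⊤) (j : ℕ) :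
    (Fitt.ideal R M j).map (algebraMap R S) ≤ Fitt.ideal S M' j := by
  rw [Fitt.ideal, Ideal.map_span, Ideal.span_le]
  rintro _ ⟨d, ⟨n, x, a, hx, ha, rfl⟩, rfl⟩
  refine Ideal.subset_span ⟨n, fun i => f (x i), (algebraMap R S).mapMatrix a, ?_, ?_, ?_⟩
  · rw [eq_top_iff, ← hf, Submodule.span_le]
    rintro _ ⟨m, rfl⟩
    have hm : f m ∈ (Submodule.span R (Set.range x)).map f := ⟨m, hx ▸ trivial, rfl⟩
    rw [← Submodule.span_image, ← Set.range_comp] at hm
    exact Submodule.span_le_restrictScalars R S _ hm
  · intro i hi
    have := congrArg f (ha i hi)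
    simpa [map_sum] using this
  · exact RingHom.map_det _ a

/-- Let R be a commutative ring, M a finitely generated R-module and k ≥ 0. If for an R-algebra A the
module A ⊗_R M admits a quotient that is finite projective of constant rank k (an A-valued point of
the Quot scheme of rank-k locally free quotients of M), then every Fitting ideal Fit_j(M) with j < k
extends to the zero ideal of A; that is, the structure map of the Quot scheme of rank-k locally free
quotients factors through the closed subscheme cut out by Fit_{k-1}(M). -/
theorem result (R : Type u) [CommRing R]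
    (M : Type v) [AddCommGroup M] [Module R M] [Module.Finite R M] (k : ℕ)
    (A : Type u) [CommRing A] [Algebra R A] (N : Module.Grassmannian A (A ⊗[R] M) k)
    (j : ℕ) (hj : j < k) :
    (Fitt.ideal R M j).map (algebraMap R A) = ⊥ := by
  rw [eq_bot_iff]
  intro d hd
  rw [Submodule.mem_bot]
  let Q := (A ⊗[R] M) ⧸ N.toSubmodule
  have : Module.Finite A Q := N.finite_quotient
  have : Module.Projective A Q := N.projective_quotient
  refine Module.eq_zero_of_localization_maximal (fun P _ => Localization.AtPrime P)
    (fun P _ => Algebra.linearMap A (Localization.AtPrime P)) d fun P _ => ?_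
  let Qp := LocalizedModule P.primeCompl Q
  let g : Q →ₗ[A] Qp := LocalizedModule.mkLinearMap P.primeCompl Q
  let f : M →ₗ[R] Qp :=
    (g.restrictScalars R).comp ((N.toSubmodule.mkQ.restrictScalars R).comp (TensorProduct.mk R A M 1))
  have hf : Submodule.span (Localization.AtPrime P) (Set.range f) = ⊤ := by
    rw [eq_top_iff]
    have h1 : Submodule.span A (Set.range (TensorProduct.mk R A M 1)) = ⊤ := by
      rw [eq_top_iff]
      intro t _
      induction t using TensorProduct.induction_on with
      | zero => exact zero_mem _
      | tmul a m =>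
        have : a ⊗ₜ[R] m = a • ((1 : A) ⊗ₜ[R] m) := by rw [TensorProduct.smul_tmul', smul_eq_mul, mul_one]
        rw [this]; exact Submodule.smul_mem _ _ (Submodule.subset_span ⟨m, rfl⟩)
      | add a b ha hb => exact add_mem (ha trivial) (hb trivial)
    intro q _
    induction q using LocalizedModule.induction_on with
    | h y s =>
      obtain ⟨t, rfl⟩ := N.toSubmodule.mkQ_surjective y
      have ht : g (N.toSubmodule.mkQ t) ∈ (Submodule.span A (Set.range (TensorProduct.mk R A M 1))).map
          (g.comp N.toSubmodule.mkQ) := ⟨t, h1 ▸ trivial, rfl⟩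
      rw [← Submodule.span_image, ← Set.range_comp] at ht
      have ht' := Submodule.span_le_restrictScalars A (Localization.AtPrime P) _ ht
      have : LocalizedModule.mk (N.toSubmodule.mkQ t) s =
          Localization.mk (1 : A) s • g (N.toSubmodule.mkQ t) := by
        show LocalizedModule.mk (N.toSubmodule.mkQ t) s =
          Localization.mk (1 : A) s • LocalizedModule.mk (N.toSubmodule.mkQ t) 1
        rw [LocalizedModule.mk_smul_mk, one_smul, mul_one]
      rw [this]
      exact Submodule.smul_mem _ _ ht'
  have : Module.Finite (Localization.AtPrime P) Qp :=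
    Module.Finite.of_isLocalizedModule P.primeCompl g
  have : Module.Free (Localization.AtPrime P) Qp := Module.free_of_flat_of_isLocalRing
  have hfr : Module.finrank (Localization.AtPrime P) Qp = k :=
    N.rankAtStalk_eq ⟨P, inferInstance⟩
  let b := (Module.finBasis (Localization.AtPrime P) Qp).reindex (finCongr hfr)
  have h2 : Fitt.ideal (Localization.AtPrime P) Qp j = ⊥ :=
    (Groth.Agent.FittX.ideal_congr b.equivFun j).trans
      (Groth.Agent.FittX.ideal_eq_bot_of_free _ j k (Pi.basisFun _ (Fin k)) hj)
  have h3 : (Fitt.ideal R M j).map (algebraMap R (Localization.AtPrime P)) = ⊥ :=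
    le_bot_iff.1 (h2 ▸ map_le f hf j)
  have h4 : ((Fitt.ideal R M j).map (algebraMap R A)).map (algebraMap A (Localization.AtPrime P)) = ⊥ := by
    rw [Ideal.map_map, ← IsScalarTower.algebraMap_eq, h3]
  exact (Submodule.mem_bot _).1 (h4 ▸ Ideal.mem_map_of_mem (algebraMap A (Localization.AtPrime P)) hd)

end Groth.Agent.S14345
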