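import Groth.Statements.S14352
-- import your own Groth.Agent.* helpers here
import Groth.Agent.GrpSchLib.UnramifiedFibre
import Groth.Agent.GrpSchLib.SmoothReduced
import Groth.Agent.UnibEtale.Comp
import Mathlib

set_option autoImplicit false
universe u
open Mor

set_option backward.isDefEq.respectTransparency false
set_option backward.isDefEq.respectTransparency.types false

namespace Groth.Agent.S14352

open CategoryTheory CategoryTheory.Limits AlgebraicGeometry in
/-- Reduced discrete schemes of finite type over an algebraically closed field are unramified. -/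
theorem formallyUnramified_of_discrete {K : Type u} [Field K] [IsAlgClosed K] {G : Scheme.{u}}
    (g : G ⟶ Spec (CommRingCat.of K)) [LocallyOfFiniteType g] [IsReduced G] [DiscreteTopology G] :
    FormallyUnramified g := by
  refine (IsZariskiLocalAtSource.iff_of_openCover (P := @FormallyUnramified)
    (G.openCoverOfIsOpenCover (fun x : G => ⟨{x}, isOpen_discrete _⟩) (.mk (by ext; simp)))).2 fun x => ?_
  let O : G.Opens := ⟨{x}, isOpen_discrete _⟩
  show FormallyUnramified (O.ι ≫ g)
  haveI : Subsingleton O.toScheme := inferInstanceAs (Subsingleton ({x} : Set G))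
  haveI : Nonempty O.toScheme := ⟨⟨x, rfl⟩⟩
  haveI : IsIntegral O.toScheme := (isIntegral_iff_irreducibleSpace_and_isReduced _).mpr
    ⟨⟨inferInstance⟩, inferInstance⟩
  let L : Type u := Γ(O.toScheme, ⊤)
  letI : Field L := (isField_of_isIntegral_of_subsingleton O.toScheme).toField
  haveI : IsAffine O.toScheme := inferInstance
  let φ := (O.ι ≫ g).appTop
  have hft : ((Scheme.ΓSpecIso (CommRingCat.of K)).inv ≫ φ).hom.FiniteType :=
    (show φ.hom.FiniteType from
      (HasRingHomProperty.iff_of_isAffine (P := @LocallyOfFiniteType)).1 inferInstance).comp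
    (RingHom.FiniteType.of_surjective _ (ConcreteCategory.bijective_of_isIso (Scheme.ΓSpecIso (CommRingCat.of K)).inv).2)
  let ψ : K →+* L := ((Scheme.ΓSpecIso (CommRingCat.of K)).inv ≫ φ).hom
  letI : Algebra K L := ψ.toAlgebra
  haveI : Algebra.FiniteType K L := hft
  haveI : Module.Finite K L := finite_of_finite_type_of_isJacobsonRing K L
  have hb : Function.Bijective ψ := ⟨ψ.injective, (IsAlgClosed.algebraMap_bijective_of_isIntegral (k := K) (K := L)).2⟩
  have hφ : Function.Bijective φ.hom := by
    have h1 := ConcreteCategory.bijective_of_isIso (Scheme.ΓSpecIso (CommRingCat.of K)).inv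
    exact (Function.Bijective.of_comp_iff φ.hom h1).1 hb
  haveI : IsIso φ := (ConcreteCategory.isIso_iff_bijective φ).2 hφ
  haveI : IsIso (O.ι ≫ g) := by
    have h := Scheme.isoSpec_hom_naturality (O.ι ≫ g)
    have : IsIso ((O.ι ≫ g) ≫ (Spec (CommRingCat.of K)).isoSpec.hom) := by
      rw [← h]; infer_instance
    exact IsIso.of_isIso_comp_right (O.ι ≫ g) (Spec (CommRingCat.of K)).isoSpec.hom
  infer_instance

open CategoryTheory CategoryTheory.Limits AlgebraicGeometry in
/-- A morphism of schemes f : X → S which is locally of finite presentation is unramified (formally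
unramified) if and only if all its geometric fibres are reduced with discrete underlying space: for
every algebraically closed field K and every S-point Spec K → S, the fibre product X ×_S Spec K is a
reduced scheme whose topological space is discrete. -/
theorem result {X S : Scheme.{u}} (f : X ⟶ S)
    [LocallyOfFinitePresentation f] :
    FormallyUnramified f ↔
      ∀ (K : Type u) [Field K] [IsAlgClosed K] (s : Spec (CommRingCat.of K) ⟶ S),
        IsReduced (pullback f s) ∧ DiscreteTopology ↥(pullback f s) := by
  constructor
  · intro hf K _ _ s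
    haveI := hf
    let g := pullback.snd f s
    haveI : FormallyUnramified g := MorphismProperty.pullback_snd _ _ hf
    haveI : Flat g := by
      refine (HasRingHomProperty.iff_exists_appLE (P := @Flat)
        (RingHom.Flat.stableUnderComposition.stableUnderCompositionWithLocalizationAway
          RingHom.Flat.holdsForLocalizationAway).left).2 fun x => ?_
      obtain ⟨V, hV, hxV, -⟩ := exists_isAffineOpen_mem_and_subset (x := x) (U := (⊤ : (pullback f s).Opens)) trivial
      refine ⟨⟨⊤, isAffineOpen_top _⟩, ⟨V, hV⟩, hxV, le_top, ?_⟩
      let ψ := (g.appLE ⊤ V le_top)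
      have e : ψ.hom = ((Scheme.ΓSpecIso (CommRingCat.of K)).inv ≫ ψ).hom.comp
          (Scheme.ΓSpecIso (CommRingCat.of K)).hom.hom := by
        rw [← CommRingCat.hom_comp, Iso.hom_inv_id_assoc]
      show ψ.hom.Flat
      rw [e]
      refine RingHom.Flat.comp (RingHom.Flat.of_bijective
        (ConcreteCategory.bijective_of_isIso (Scheme.ΓSpecIso (CommRingCat.of K)).hom)) ?_
      letI : Algebra K Γ(pullback f s, V) := ((Scheme.ΓSpecIso (CommRingCat.of K)).inv ≫ ψ).hom.toAlgebra
      exact RingHom.flat_algebraMap_iff.2 (inferInstance : Module.Flat K Γ(pullback f s, V))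
    haveI : Etale g := Etale.of_formallyUnramified_of_flat g
    refine ⟨Groth.Agent.GrpSchLib.isReduced_of_smooth_field g, ?_⟩
    haveI := Groth.Agent.UnibEtale.locallyQuasiFinite_of_formallyUnramified g
    have h1 := g.isDiscrete_preimage_singleton (IsLocalRing.closedPoint K)
    rw [show g ⁻¹' {IsLocalRing.closedPoint K} = Set.univ from
      Set.eq_univ_of_forall fun x => Subsingleton.elim (α := PrimeSpectrum K) _ _] at h1
    exact isDiscrete_univ_iff.1 h1
  · intro h
    refine Groth.Agent.GrpSchLib.formallyUnramified_of_fibres f fun y => ?_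
    let L := AlgebraicClosure (S.residueField y)
    let c : Spec (CommRingCat.of L) ⟶ Spec (S.residueField y) :=
      Spec.map (CommRingCat.ofHom (algebraMap (S.residueField y) L))
    obtain ⟨hred, hdisc⟩ := h L (c ≫ S.fromSpecResidueField y)
    haveI := hred
    haveI := hdisc
    haveI : FormallyUnramified (pullback.snd f (c ≫ S.fromSpecResidueField y)) :=
      formallyUnramified_of_discrete _
    have sq : IsPullback
        (pullback.lift (pullback.fst f (c ≫ S.fromSpecResidueField y))
          (pullback.snd f (c ≫ S.fromSpecResidueField y) ≫ c)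
          (by rw [pullback.condition, Category.assoc]) : pullback f (c ≫ S.fromSpecResidueField y) ⟶ f.fiber y)
        (pullback.snd f (c ≫ S.fromSpecResidueField y)) (f.fiberToSpecResidueField y) c :=
      IsPullback.of_right (by
        rw [pullback.lift_fst]
        exact IsPullback.of_hasPullback f (c ≫ S.fromSpecResidueField y))
        (pullback.lift_snd _ _ _) (IsPullback.of_hasPullback f (S.fromSpecResidueField y))
    have hc : (@Surjective ⊓ @Flat ⊓ @QuasiCompact : MorphismProperty Scheme.{u}) c :=
      ⟨⟨⟨fun x => ⟨IsLocalRing.closedPoint L, Subsingleton.elim (α := PrimeSpectrum (S.residueField y)) _ _⟩⟩,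
        HasRingHomProperty.Spec_iff.2 (RingHom.flat_algebraMap_iff.2 inferInstance)⟩, inferInstance⟩
    exact MorphismProperty.of_isPullback_of_descendsAlong (P := @FormallyUnramified) sq.flip hc inferInstance

end Groth.Agent.S14352
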