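import Groth.Statements.S14353
import Groth.Agent.TowerLib.LimHomology
import Mathlib

set_option autoImplicit false
universe u
open CategoryTheory CategoryTheory.Limits CategoryTheory.MonoidalCategory
open CAlg

namespace Groth.Agent.S14353

open CategoryTheory CategoryTheory.Limits Opposite TensorProduct

variable {R : Type u} [CommRing R] (M : ℕᵒᵖ ⥤ ModuleCat.{u} R)

/-- The transition maps. -/
abbrev tm {a b : ℕᵒᵖ} (h : a ⟶ b) : (M.obj a) →ₗ[R] (M.obj b) := (M.map h).hom

theorem exists_lim_elem (y : ∀ n : ℕᵒᵖ, M.obj n) (hy : ∀ {a b : ℕᵒᵖ} (h : a ⟶ b), tm M h (y a) = y b) :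
    ∃ l : (limit M : ModuleCat.{u} R), ∀ n, (limit.π M n).hom l = y n := by
  let c : Cone M :=
    { pt := ModuleCat.of R R
      π := { app := fun n => ModuleCat.ofHom (LinearMap.toSpanSingleton R _ (y n))
             naturality := fun a b h => by
              refine ModuleCat.hom_ext (LinearMap.ext_ring ?_)
              simpa using (hy h).symm } }
  refine ⟨(limit.lift M c).hom 1, fun n => ?_⟩
  have := LinearMap.congr_fun (congrArg ModuleCat.Hom.hom (limit.lift_π c n)) 1
  simpa [c] using this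

theorem free_ext (k : ℕ) (w w' : (limit M : ModuleCat.{u} R) ⊗[R] (Fin k → R))
    (h : ∀ n, (limit.π M n).hom.rTensor _ w = (limit.π M n).hom.rTensor _ w') : w = w' := by
  classical
  apply (piScalarRight R R _ (Fin k)).injective
  refine funext fun j => Concrete.limit_ext _ _ _ fun n => ?_
  have hnat : ∀ v, (limit.π M n).hom (piScalarRight R R _ (Fin k) v j) =
      piScalarRight R R _ (Fin k) ((limit.π M n).hom.rTensor _ v) j := by
    intro v
    induction v using TensorProduct.induction_on with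
    | zero => simp
    | tmul a b => simp
    | add a b ha hb => simp only [map_add, Pi.add_apply, ha, hb]
  exact (hnat w).trans ((congrArg (fun v => piScalarRight R R _ (Fin k) v j) (h n)).trans (hnat w').symm)

theorem free_exists (k : ℕ) (v : ∀ n : ℕᵒᵖ, M.obj n ⊗[R] (Fin k → R))
    (hv : ∀ {a b : ℕᵒᵖ} (h : a ⟶ b), (tm M h).rTensor _ (v a) = v b) :
    ∃ w : (limit M : ModuleCat.{u} R) ⊗[R] (Fin k → R), ∀ n, (limit.π M n).hom.rTensor _ w = v n := by
  classical
  have hnat : ∀ {a b : ℕᵒᵖ} (h : a ⟶ b) (x : M.obj a ⊗[R] (Fin k → R)) (j : Fin k),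
      tm M h (piScalarRight R R _ (Fin k) x j) = piScalarRight R R _ (Fin k) ((tm M h).rTensor _ x) j := by
    intro a b h x j
    induction x using TensorProduct.induction_on with
    | zero => simp
    | tmul a b => simp
    | add a b ha hb => simp only [map_add, Pi.add_apply, ha, hb]
  have hl : ∀ j, ∃ l : (limit M : ModuleCat.{u} R), ∀ n,
      (limit.π M n).hom l = piScalarRight R R _ (Fin k) (v n) j :=
    fun j => exists_lim_elem M _ fun {a b} h => by rw [hnat, hv]
  choose l hl using hl
  refine ⟨∑ j, l j ⊗ₜ[R] Pi.single j (1 : R), fun n => ?_⟩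
  apply (piScalarRight R R _ (Fin k)).injective
  ext i
  simp [map_sum, hl, Finset.sum_apply, Pi.single_apply]

/-- Lifting compatible families along `M ⊗ f`. -/
theorem exists_compatible_lift (hM : ∀ n : ℕᵒᵖ, IsFiniteLength R (M.obj n)) (k : ℕ) {N : Type u}
    [AddCommGroup N] [Module R N] (f : (Fin k → R) →ₗ[R] N) (y : ∀ n : ℕᵒᵖ, M.obj n ⊗[R] N)
    (hy : ∀ {a b : ℕᵒᵖ} (h : a ⟶ b), (tm M h).rTensor _ (y a) = y b)
    (hmem : ∀ n, ∃ x, f.lTensor (M.obj n) x = y n) :
    ∃ x : ∀ n : ℕᵒᵖ, M.obj n ⊗[R] (Fin k → R),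
      (∀ {a b : ℕᵒᵖ} (h : a ⟶ b), (tm M h).rTensor _ (x a) = x b) ∧
        ∀ n, f.lTensor (M.obj n) (x n) = y n := by
  classical
  let T : ℕᵒᵖ ⥤ AddCommGrpCat.{u} := M ⋙ MonoidalCategory.tensorRight (ModuleCat.of R (Fin k → R)) ⋙
    forget₂ (ModuleCat.{u} R) AddCommGrpCat.{u}
  let D : ∀ n : ℕ, Submodule R (M.obj (op n) ⊗[R] (Fin k → R)) := fun n => LinearMap.ker (f.lTensor _)
  have hcomm : ∀ {a b : ℕᵒᵖ} (h : a ⟶ b) (x : M.obj a ⊗[R] (Fin k → R)),
      f.lTensor _ ((tm M h).rTensor _ x) = (tm M h).rTensor _ (f.lTensor _ x) := fun h x => by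
    rw [← LinearMap.comp_apply, LinearMap.lTensor_comp_rTensor, ← LinearMap.rTensor_comp_lTensor,
      LinearMap.comp_apply]
  have hcomp : ∀ {a b c : ℕᵒᵖ} (h : a ⟶ b) (h' : b ⟶ c) (x : M.obj a ⊗[R] (Fin k → R)),
      (tm M h').rTensor _ ((tm M h).rTensor _ x) = (tm M (h ≫ h')).rTensor _ x := fun h h' x => by
    rw [← LinearMap.comp_apply, ← LinearMap.rTensor_comp, ← ModuleCat.hom_comp, ← M.map_comp]
  obtain ⟨x, hx, hxP⟩ := TowerLib.exists_compatible_of_ml T (fun n => {x | f.lTensor _ x = y (op n)})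
    (fun n => {d | f.lTensor (M.obj (op n)) d = 0}) (fun n => hmem (op n))
    (fun {m n} h x (hx : f.lTensor _ x = y (op m)) => by
      show f.lTensor _ ((tm M (homOfLE h).op).rTensor _ x) = y (op n)
      rw [hcomm, hx, hy])
    (fun n x x' (hx : f.lTensor _ x = _) (hx' : f.lTensor _ x' = _) =>
      (map_sub (f.lTensor _) x x').trans (sub_eq_zero.mpr (hx.trans hx'.symm)))
    (fun n x d (hx : f.lTensor _ x = _) (hd : f.lTensor _ d = 0) =>
      (map_add (f.lTensor _) x d).trans ((congrArg₂ (· + ·) hx hd).trans (add_zero _)))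
    (fun n => by
      obtain ⟨hN, hA⟩ := isFiniteLength_iff_isNoetherian_isArtinian.mp (hM (op n))
      haveI : IsArtinian R (M.obj (op n) ⊗[R] (Fin k → R)) :=
        isArtinian_of_linearEquiv (piScalarRight R R (M.obj (op n)) (Fin k)).symm
      let im : ℕ →o (Submodule R (M.obj (op n) ⊗[R] (Fin k → R)))ᵒᵈ :=
        { toFun := fun j => OrderDual.toDual
            ((D (n + j)).map ((tm M (homOfLE (Nat.le_add_right n j)).op).rTensor _))
          monotone' := fun i j hij => by
            rintro _ ⟨d, hd, rfl⟩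
            refine ⟨(tm M (homOfLE (Nat.add_le_add_left hij n)).op).rTensor _ d, ?_, ?_⟩
            · show f.lTensor _ _ = 0
              rw [hcomm, show f.lTensor _ d = 0 from hd, map_zero]
            · exact hcomp _ _ d }
      obtain ⟨j, hj⟩ := IsArtinian.monotone_stabilizes im
      refine ⟨n + j, Nat.le_add_right n j, fun d hd l hl => ?_⟩
      rcases le_total (n + j) l with hjl | hjl
      · obtain ⟨i, rfl⟩ := Nat.exists_eq_add_of_le hl
        have hij : j ≤ i := by omega
        have h1 : (tm M (homOfLE (Nat.le_add_right n j)).op).rTensor _ d ∈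
            OrderDual.ofDual (im j) := ⟨d, hd, rfl⟩
        rw [hj i hij] at h1
        obtain ⟨d', hd', he⟩ := h1
        exact ⟨d', hd', he⟩
      · refine ⟨(tm M (homOfLE hjl).op).rTensor _ d, ?_, ?_⟩
        · show f.lTensor _ _ = 0
          rw [hcomm, show f.lTensor _ d = 0 from hd, map_zero]
        · exact hcomp _ _ d)
  refine ⟨fun n => x n.unop, fun {a b} h => ?_, fun n => hxP n.unop⟩
  have key : ∀ {n m : ℕ} (hnm : n ≤ m), (tm M (homOfLE hnm).op).rTensor _ (x m) = x n := by
    intro n m hnm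
    induction m, hnm using Nat.le_induction with
    | base =>
      show (tm M (𝟙 (op n))).rTensor _ (x n) = x n
      simp [tm]
    | succ m hnm ih =>
      have h1 : (tm M (homOfLE (Nat.le_add_right m 1)).op).rTensor _ (x (m + 1)) = x m := hx m
      rw [← ih, ← h1, hcomp]
      rfl
  exact key (leOfHom h.unop)


/-- For a commutative ring R, an inverse system (M_n)_{n ∈ ℕ} of R-modules of finite length and a
finitely presented R-module N, the canonical comparison map (lim_n M_n) ⊗_R N ⟶ lim_n (M_n ⊗_R N) is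
an isomorphism. (The published statement takes N = R/I for a finitely generated ideal I; the
argument covers every finitely presented N, which is the form stated here.) -/
theorem result (R : Type u) [CommRing R]
    (M : ℕᵒᵖ ⥤ ModuleCat.{u} R) (hM : ∀ n : ℕᵒᵖ, IsFiniteLength R (M.obj n))
    (N : Type u) [AddCommGroup N] [Module R N] [Module.FinitePresentation R N] :
    IsIso (limit.post M (tensorRight (ModuleCat.of R N))) := by
  classical
  obtain ⟨k, q, hq⟩ := Module.Finite.exists_fin' R N
  obtain ⟨m, s, hs⟩ := Submodule.fg_iff_exists_fin_generating_family.mp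
    (Module.FinitePresentation.fg_ker q hq)
  let r : (Fin m → R) →ₗ[R] (Fin k → R) := Fintype.linearCombination R s
  have hex : Function.Exact r q :=
    LinearMap.exact_iff.mpr (by rw [Fintype.range_linearCombination, hs])
  let G := tensorRight (ModuleCat.of R N)
  rw [ConcreteCategory.isIso_iff_bijective]
  let φ := (limit.post M G).hom
  have hπ : ∀ n (z : (limit M : ModuleCat.{u} R) ⊗[R] N), (limit.π (M ⋙ G) n).hom (φ z) =
      (limit.π M n).hom.rTensor N z := fun n z =>
    LinearMap.congr_fun (congrArg ModuleCat.Hom.hom (limit.post_π M G n)) z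
  have hnatq : ∀ n (w : (limit M : ModuleCat.{u} R) ⊗[R] (Fin k → R)),
      (limit.π M n).hom.rTensor N (q.lTensor _ w) = q.lTensor _ ((limit.π M n).hom.rTensor _ w) :=
    fun n w => by
      rw [← LinearMap.comp_apply, LinearMap.rTensor_comp_lTensor, ← LinearMap.lTensor_comp_rTensor,
        LinearMap.comp_apply]
  refine ⟨?_, fun y => ?_⟩
  · refine (injective_iff_map_eq_zero φ).mpr fun (z : (limit M : ModuleCat.{u} R) ⊗[R] N) hz => ?_
    obtain ⟨w, rfl⟩ := LinearMap.lTensor_surjective _ hq z
    have hw : ∀ n, q.lTensor (M.obj n) ((limit.π M n).hom.rTensor _ w) = 0 := fun n => by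
      rw [← hnatq, ← hπ, hz, map_zero]
    obtain ⟨v, hv, hvw⟩ := exists_compatible_lift M hM m r (fun n => (limit.π M n).hom.rTensor _ w)
      (fun {a b} h => by
        rw [← LinearMap.comp_apply, ← LinearMap.rTensor_comp, ← ModuleCat.hom_comp, limit.w])
      (fun n => ((lTensor_exact (M.obj n) hex hq) _).mp (hw n))
    obtain ⟨v', hv'⟩ := free_exists M m v hv
    have he : r.lTensor _ v' = w := free_ext M k _ _ fun n => by
      rw [← LinearMap.comp_apply, LinearMap.rTensor_comp_lTensor, ← LinearMap.lTensor_comp_rTensor,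
        LinearMap.comp_apply, hv', hvw]
    rw [← he, ← LinearMap.comp_apply, ← LinearMap.lTensor_comp, hex.linearMap_comp_eq_zero,
      LinearMap.lTensor_zero, LinearMap.zero_apply]
  · obtain ⟨x, hx, hxy⟩ := exists_compatible_lift M hM k q
      (fun n => (limit.π (M ⋙ G) n).hom y)
      (fun {a b} h => LinearMap.congr_fun (congrArg ModuleCat.Hom.hom (limit.w (M ⋙ G) h)) y)
      (fun n => LinearMap.lTensor_surjective _ hq _)
    obtain ⟨w, hw⟩ := free_exists M k x hx
    refine ⟨q.lTensor _ w, Concrete.limit_ext _ _ _ fun n => ?_⟩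
    exact (hπ n _).trans (by rw [hnatq, hw, hxy])

end Groth.Agent.S14353
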