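import Groth.Statements.S1439
import Groth.Agent.MorLib.WeightAffine

set_option autoImplicit false
universe u
open FlatMor

namespace Groth.Agent.S1439

open AlgebraicGeometry CategoryTheory Limits in
/-- Let f : X → Y be surjective and quasi-finite with X affine and Y separated and nonempty, and let w
be a positive weighting of f. If the fibre integral of w along f takes exactly k distinct values,
then Y has an affine stratification with index set {0, …, k − 1} (its affine stratification number
is at most k − 1). -/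
theorem result {X Y : Scheme.{u}} (f : X ⟶ Y) [Surjective f] [LocallyQuasiFinite f] [LocallyOfFiniteType f] [QuasiCompact f]
    [IsAffine X] [Y.IsSeparated] [Nonempty ↑Y] (w : ↑X → ℤ) (hw : MoreMor.IsWeighting f w) (hpos : ∀ x, 0 < w x)
    (k : ℕ) (hk : (Set.range (MoreMor.fibreIntegral f w)).ncard = k) (hkfin : (Set.range (MoreMor.fibreIntegral f w)).Finite) :
    MoreMor.HasAffineStratification Y (k - 1) := by
  classical
  haveI : IsSeparated f := by
    haveI : IsSeparated (f ≫ terminal.from Y) := by
      rw [show f ≫ terminal.from Y = terminal.from X from terminal.hom_ext _ _]; infer_instance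
    exact IsSeparated.of_comp f (terminal.from Y)
  have hfin : ∀ y : Y, (f ⁻¹' {y}).Finite := fun y => Scheme.Hom.finite_preimage_singleton f y
  have hne : hkfin.toFinset.Nonempty :=
    ⟨_, hkfin.mem_toFinset.2 ⟨Classical.arbitrary Y, rfl⟩⟩
  have hcard : hkfin.toFinset.card = k - 1 + 1 := by
    have h1 := Finset.card_pos.2 hne
    rw [← Set.ncard_eq_toFinset_card _ hkfin, hk] at h1 ⊢
    omega
  let e := hkfin.toFinset.orderIsoOfFin hcard
  let s : Y → Fin (k - 1 + 1) := fun y => e.symm ⟨_, hkfin.mem_toFinset.2 ⟨y, rfl⟩⟩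
  have hle : ∀ y i, s y ≤ i ↔ MoreMor.fibreIntegral f w y ≤ (e i).1 := fun y i => by
    rw [show s y ≤ i ↔ _ from e.symm_apply_le]
    exact Iff.rfl
  have heq : ∀ y i, s y = i ↔ MoreMor.fibreIntegral f w y = (e i).1 := fun y i => by
    rw [show s y = i ↔ _ from e.toEquiv.symm_apply_eq]
    exact Subtype.ext_iff
  have hlsc := MorLib.WT.lowerSemicontinuous_fibreIntegral hfin hw hpos
  have hcl : ∀ i, IsClosed {y : Y | s y ≤ i} := fun i => by
    rw [show {y : Y | s y ≤ i} = MoreMor.fibreIntegral f w ⁻¹' Set.Iic (e i).1 from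
      Set.ext fun y => hle y i]
    exact hlsc.isClosed_preimage _
  refine ⟨s, hcl, fun i => ?_⟩
  let J := Scheme.IdealSheafData.vanishingIdeal (⟨_, hcl i⟩ : TopologicalSpace.Closeds Y)
  have hr : Set.range J.subschemeι = {y : Y | s y ≤ i} := by
    rw [Scheme.IdealSheafData.range_subschemeι, Scheme.IdealSheafData.coe_support_vanishingIdeal]
    rfl
  let p := pullback.snd f J.subschemeι
  haveI : LocallyQuasiFinite p := MorphismProperty.pullback_snd _ _ ‹_›
  haveI : LocallyOfFiniteType p := MorphismProperty.pullback_snd _ _ ‹_›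
  haveI : Surjective p := MorphismProperty.pullback_snd (P := (@Surjective : MorphismProperty Scheme.{u})) _ _ ‹_›
  haveI : IsAffine (pullback f J.subschemeι) := isAffine_of_isAffineHom (pullback.fst f J.subschemeι)
  haveI : J.subscheme.IsSeparated := by
    constructor
    rw [show terminal.from J.subscheme = J.subschemeι ≫ terminal.from Y from terminal.hom_ext _ _]
    infer_instance
  haveI : IsSeparated p := MorphismProperty.pullback_snd _ _ inferInstance
  have hc := IsPullback.of_hasPullback f J.subschemeι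
  have hint : ∀ z, MoreMor.fibreIntegral p (w ∘ ⇑(pullback.fst f J.subschemeι)) z =
      MoreMor.fibreIntegral f w (J.subschemeι z) := fun z =>
    MorLib.GF.fibreIntegral_baseChange hc w z (hfin _)
  have hwp := MorLib.WT.isWeighting_baseChange hw hc
  have hmax : ∀ z, MoreMor.fibreIntegral p (w ∘ ⇑(pullback.fst f J.subschemeι)) z ≤ (e i).1 := fun z => by
    rw [hint, ← hle]
    exact hr.le ⟨z, rfl⟩
  obtain ⟨hYd, -⟩ := MorLib.WT.finite_over_max (fun z => Scheme.Hom.finite_preimage_singleton p z) hwp
    (fun _ => hpos _) _ hmax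
  obtain ⟨hU, hUι⟩ := MorLib.WT.isAffine_max_of_surjective p hwp (fun _ => hpos _) _ hmax ⟨_, hYd⟩ rfl
  haveI := hUι
  let U : J.subscheme.Opens := ⟨_, hYd⟩
  haveI : IsAffineHom U.ι := hUι
  refine ⟨U, U.ι ≫ J.subschemeι, inferInstance, hU, inferInstance, ?_⟩
  ext y
  constructor
  · rintro ⟨z, rfl⟩
    have hz : MoreMor.fibreIntegral p (w ∘ ⇑(pullback.fst f J.subschemeι)) z.1 = (e i).1 := z.2
    rw [hint] at hz
    rw [Set.mem_setOf_eq, Scheme.Hom.comp_apply, heq]
    exact hz
  · intro hy
    obtain ⟨z, rfl⟩ := hr.ge (show y ∈ {y : Y | s y ≤ i} from le_of_eq hy)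
    exact ⟨⟨z, (hint z).trans ((heq _ i).1 hy)⟩, rfl⟩

end Groth.Agent.S1439
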