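import Groth.Statements.S14404
import Groth.Agent.DimFormula.FlatFibres

set_option autoImplicit false
universe u
open CategoryTheory AlgebraicGeometry
open FlatMor

namespace Groth.Agent.S14404

/-- Let k be a field, X and Y irreducible schemes of finite type over k and f : X ⟶ Y a flat k-morphism.
Then dim Y ≤ dim X, and for every point y of Y every irreducible component Z of the scheme-theoretic
fibre of f over y has dim Z + dim Y = dim X; that is, every non-empty fibre has all its irreducible
components of dimension dim X − dim Y. -/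
theorem result (k : Type u) [Field k]
    {X Y : Scheme.{u}} (qX : X ⟶ Spec (CommRingCat.of k)) (qY : Y ⟶ Spec (CommRingCat.of k))
    [LocallyOfFiniteType qX] [QuasiCompact qX] [LocallyOfFiniteType qY] [QuasiCompact qY]
    [IrreducibleSpace X] [IrreducibleSpace Y] (f : X ⟶ Y) (hf : f ≫ qY = qX) [Flat f] :
    topologicalKrullDim Y ≤ topologicalKrullDim X ∧
      ∀ (y : Y), ∀ Z ∈ irreducibleComponents (f.fiber y : Type u),
        topologicalKrullDim Z + topologicalKrullDim Y = topologicalKrullDim X := by
  haveI : LocallyOfFiniteType (f ≫ qY) := hf ▸ ‹LocallyOfFiniteType qX›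
  haveI : LocallyOfFiniteType f := locallyOfFiniteType_of_comp f qY
  haveI : IsLocallyNoetherian Y := LocallyOfFiniteType.isLocallyNoetherian qY
  have hX := Groth.Agent.VarDim.topologicalKrullDim_eq_deg_genericPoint qX
  have hY := Groth.Agent.VarDim.topologicalKrullDim_eq_deg_genericPoint qY
  have hgen : f (genericPoint X) = genericPoint Y :=
    Groth.Agent.DimFormula.maximal_eq_genericPoint
      (Groth.Agent.DimFormula.maximal_map f fun z hz => (hz.antisymm (genericPoint_specializes z)).eq)
  have hdeg := Groth.Agent.VarDim.deg_eq_add f qY hf (genericPoint X)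
  rw [hgen, ← Groth.Agent.DimFormula.rd_eq_fdeg] at hdeg
  rw [hX, hY, hdeg]
  refine ⟨by exact_mod_cast Nat.le_add_right _ _, fun y Z hZ => ?_⟩
  obtain ⟨z, -, hz, hdim⟩ := Groth.Agent.DimFormula.dim_component_fiber f hZ
  obtain ⟨η, -, hη, hrd⟩ := Groth.Agent.DimFormula.exists_maximal_rd_eq f hz
  rw [Groth.Agent.DimFormula.maximal_eq_genericPoint hη] at hrd
  rw [hdim, ← hrd]
  push_cast
  exact add_comm _ _

end Groth.Agent.S14404
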