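import Groth.Statements.S14409
import Groth.Agent.ExtShX.AffineGlobal
import Groth.Agent.QCoh.FT

set_option autoImplicit false
universe u
open CategoryTheory AlgebraicGeometry TopologicalSpace Opposite
open Coherent

namespace Groth.Agent.S14409

set_option linter.style.haveILetI false
set_option backward.isDefEq.respectTransparency false
set_option backward.isDefEq.respectTransparency.types false
set_option maxHeartbeats 1000000

open CategoryTheory CategoryTheory.Limits AlgebraicGeometry Groth.Agent

/-- The affine computation for a coherent module and a quasi-coherent one. -/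
theorem affine {A : CommRingCat.{u}} [IsNoetherianRing A] {F G : (Spec A).Modules} (hF : Coh.IsCoh F)
    (hG : Coh.IsQCoh G) (i : ℕ) :
    Nonempty ((moduleSpecΓFunctor (R := A)).obj ((ExtShX.E F i).obj G) ≃ₗ[A]
      Abelian.Ext ((moduleSpecΓFunctor (R := A)).obj F) ((moduleSpecΓFunctor (R := A)).obj G) i) := by
  haveI := (QCoh.isFT_iff_finite (R := A) F hF.1).1 hF.2
  obtain ⟨M, ⟨e⟩⟩ := QCoh.isQCoh_spec_iff.1 hF.1
  let u : M ≅ (moduleSpecΓFunctor (R := A)).obj F :=
    (asIso (tilde.adjunction (R := A)).unit).app M ≪≫ (moduleSpecΓFunctor (R := A)).mapIso e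
  obtain ⟨-, ⟨l⟩⟩ := ExtShX.isQCoh_and_gamma_iso hG i ((moduleSpecΓFunctor (R := A)).obj F) inferInstance
  obtain ⟨t⟩ := ExtShX.iso_of_iso (((tilde.functor A).mapIso u.symm) ≪≫ e) i G
  exact ⟨((moduleSpecΓFunctor (R := A)).mapIso t).toLinearEquiv.symm.trans l⟩

/-- Ext of linearly equivalent modules. -/
noncomputable def extCongr {R : Type u} [CommRing R] {M M' N N' : ModuleCat.{u} R} (a : M ≅ M') (b : N ≅ N') (i : ℕ) :
    Abelian.Ext M N i ≃ₗ[R] Abelian.Ext M' N' i :=
  LinearEquiv.ofBijective
    (Abelian.Ext.postcompOfLinear (Abelian.Ext.mk₀ b.hom) R M' (add_zero i) ∘ₗ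
      Abelian.Ext.precompOfLinear (Abelian.Ext.mk₀ a.inv) R N (zero_add i))
    (by
      refine Function.bijective_iff_has_inverse.2 ⟨fun z => (Abelian.Ext.mk₀ a.hom).comp
        (z.comp (Abelian.Ext.mk₀ b.inv) (add_zero i)) (zero_add i), fun x => ?_, fun x => ?_⟩
      · show (Abelian.Ext.mk₀ a.hom).comp ((((Abelian.Ext.mk₀ a.inv).comp x (zero_add i)).comp
          (Abelian.Ext.mk₀ b.hom) (add_zero i)).comp (Abelian.Ext.mk₀ b.inv) (add_zero i)) (zero_add i) = x
        simp
      · show ((Abelian.Ext.mk₀ a.inv).comp ((Abelian.Ext.mk₀ a.hom).comp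
          (x.comp (Abelian.Ext.mk₀ b.inv) (add_zero i)) (zero_add i)) (zero_add i)).comp
          (Abelian.Ext.mk₀ b.hom) (add_zero i) = x
        simp)

/-- Let k be an algebraically closed field and X a variety over k, modelled as a reduced scheme
separated and of finite type over k; let U be an affine open subset of X and F, G coherent
O_X-modules (quasi-coherent of finite type; X is Noetherian). For i ≥ 0 let Ext^i(F, G) be the i-th
local Ext sheaf, the i-th right derived functor of the internal Hom functor Hom(F, -) on O_X-modules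
evaluated at G (existence of that internal Hom and of injective resolutions are the stated instance
hypotheses, both true). Then the module of sections Γ(U, Ext^i(F, G)) over the ring R = Γ(U, O_X) is
R-linearly isomorphic to Ext^i_R(F(U), G(U)), computed in the category of R-modules (existence of an
isomorphism only). -/
theorem result (k : Type u) [Field k] [IsAlgClosed k]
    (X : Scheme.{u}) [X.Over (Spec (CommRingCat.of k))] [IsReduced X]
    [IsSeparated (X ↘ (Spec (CommRingCat.of k)))] [LocallyOfFiniteType (X ↘ (Spec (CommRingCat.of k)))] [CompactSpace ↥X]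
    (U : X.Opens) (hU : IsAffineOpen U) (F G : X.Modules) (hF : Coh.IsCoh F) (hG : Coh.IsCoh G)
    [ModSite.HasSheafHom (O := X.sheaf) F] [HasInjectiveResolutions (ModSite.Mod X.sheaf)] (i : ℕ) :
    Nonempty (((ModSite.extSh (O := X.sheaf) F i).obj G).val.obj (op U)
      ≃ₗ[Γ(X, U)] Abelian.Ext (ModuleCat.of Γ(X, U) (F.val.obj (op U))) (ModuleCat.of Γ(X, U) (G.val.obj (op U))) i) := by
  haveI : IsLocallyNoetherian X := LocallyOfFiniteType.isLocallyNoetherian (X ↘ (Spec (CommRingCat.of k)))
  haveI : IsLocallyNoetherian (Spec Γ(X, U)) := LocallyOfFiniteType.isLocallyNoetherian hU.fromSpec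
  haveI : IsNoetherianRing Γ(X, U) := isLocallyNoetherian_Spec.1 ‹_›
  obtain ⟨a⟩ := Groth.Agent.ExtShX.extSh_iso F i G
  obtain ⟨r⟩ := Groth.Agent.ExtShX.restrict_iso hU.fromSpec F G i
  obtain ⟨l⟩ := affine (Groth.Agent.SheafHomX.isCoh_restrict hU.fromSpec hF)
    (Groth.Agent.SheafHomX.isCoh_restrict hU.fromSpec hG).1 i
  let e := (moduleSpecΓFunctor (R := Γ(X, U))).mapIso ((Scheme.Modules.restrictFunctor hU.fromSpec).mapIso a ≪≫ r)
  exact ⟨((Groth.Agent.QCoh.chartEquiv hU _).trans e.toLinearEquiv).trans (l.trans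
    (extCongr (Groth.Agent.QCoh.chartEquiv hU F).toModuleIso.symm
      (Groth.Agent.QCoh.chartEquiv hU G).toModuleIso.symm i))⟩

end Groth.Agent.S14409
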