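import Groth.Statements.S1441
import Groth.Agent.FibFlatMod.CritMain

set_option linter.style.haveILetI false
set_option backward.isDefEq.respectTransparency false
set_option backward.isDefEq.respectTransparency.types false

set_option autoImplicit false
universe u
open FlatMor

namespace Groth.Agent.S1441
open Groth.Agent.FibFlatMod

open AlgebraicGeometry CategoryTheory Limits in
/-- Let f : X → Y be a morphism over S with X locally of finite presentation and Y locally of finite
type over S, and F a finitely presented quasi-coherent O_X-module flat over S. Then the set U of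
points where F is flat over Y is open in X, and for any base change S' → S (with X', Y', F' the base
changes) the corresponding set for F' over Y' is the preimage of U. -/
theorem result {X Y S : Scheme.{u}} (f : X ⟶ Y) (g : Y ⟶ S) [LocallyOfFinitePresentation (f ≫ g)] [LocallyOfFiniteType g]
    (F : X.Modules) (hq : Coh.IsQCoh F) (hfp : CohB1.IsFP F) (hfl : FlatMod.IsFlatOver (f ≫ g) F) :
    IsOpen {x : ↑X | FlatMod.IsFlatOverAt f F x} ∧
      ∀ {X' Y' S' : Scheme.{u}} (h : S' ⟶ S) (gY : Y' ⟶ Y) (g' : Y' ⟶ S') (hY : IsPullback gY g' g h)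
        (gX : X' ⟶ X) (f' : X' ⟶ Y') (hX : IsPullback gX (f' ≫ g') (f ≫ g) h) (w : gX ≫ f = f' ≫ gY),
        {x' : ↑X' | FlatMod.IsFlatOverAt f' ((Scheme.Modules.pullback gX).obj F) x'} = gX ⁻¹' {x : ↑X | FlatMod.IsFlatOverAt f F x} := by
  haveI : LocallyOfFinitePresentation f := AlgSpPts.locallyOfFinitePresentation_of_comp f g
  haveI := hq
  refine ⟨S4863.result f F hfp, fun h gY g' hY gX f' hX w => Set.ext fun x' => ?_⟩
  haveI : LocallyOfFiniteType g' := MorphismProperty.of_isPullback (P := @LocallyOfFiniteType) hY inferInstance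
  haveI : LocallyOfFinitePresentation (f' ≫ g') :=
    MorphismProperty.of_isPullback (P := @LocallyOfFinitePresentation) hX inferInstance
  have sq : IsPullback gX f' f gY := IsPullback.of_bot hX w hY
  have hfl' := MorLib.FlatBC.isFlatOverAt_baseChange (f ≫ g) (f' ≫ g') gX h hX F x' (hfl _)
  show FlatMod.IsFlatOverAt f' _ x' ↔ FlatMod.IsFlatOverAt f F (gX x')
  rw [flatAt_iff_qf f' g' _ (ModStLib.isFP_pullback gX hfp) x' hfl', qf_baseChange hY sq F hq x',
    flatAt_iff_qf f g F hfp _ (hfl _)]

end Groth.Agent.S1441
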