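import Groth.Statements.S14423
import Groth.Agent.GrIntH4.Resol
import Groth.Agent.TorBridge.Basic

set_option autoImplicit false
universe u
open CategoryTheory
open CAlg

namespace Groth.Agent.S14423

/-- Graded freeness criterion: let k be a field, S = k[x_0, …, x_n] with its standard grading by degree,
and M a finitely generated graded S-module. If Tor_1^S(M, k) = 0, where k = S/S_+ (S modulo the
ideal of polynomials with zero constant term) and Tor_1^S(M, ·) is the first left derived functor of
M ⊗_S ·, then M is free with a basis of homogeneous elements, i.e. M is isomorphic as a graded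
module to a finite direct sum of shifted copies S(−d_i). (Here the module is graded in non-negative
degrees; the published statement allows any integer degrees.) -/
theorem result (k : Type u) [Field k] (n : ℕ)
    (M : Type u) [AddCommGroup M] [Module (MvPolynomial (Fin (n + 1)) k) M]
    [Module.Finite (MvPolynomial (Fin (n + 1)) k) M]
    (ℳ : ℕ → AddSubgroup M)
    [SetLike.GradedSMul (MvPolynomial.homogeneousSubmodule (Fin (n + 1)) k) ℳ]
    [DirectSum.Decomposition ℳ]
    (h : Limits.IsZero (((Tor (ModuleCat.{u} (MvPolynomial (Fin (n + 1)) k)) 1).obj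
      (ModuleCat.of (MvPolynomial (Fin (n + 1)) k) M)).obj
      (ModuleCat.of (MvPolynomial (Fin (n + 1)) k)
        (MvPolynomial (Fin (n + 1)) k ⧸
          RingHom.ker (MvPolynomial.constantCoeff : MvPolynomial (Fin (n + 1)) k →+* k))))) :
    ∃ (ι : Type u) (b : Module.Basis ι (MvPolynomial (Fin (n + 1)) k) M),
      ∀ i, SetLike.IsHomogeneousElem ℳ (b i) := by
  classical
  letI := MvPolynomial.gradedAlgebra (σ := Fin (n + 1)) (R := k)
  let S := MvPolynomial (Fin (n + 1)) k
  let 𝒜 := MvPolynomial.homogeneousSubmodule (Fin (n + 1)) k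
  have hC : ∀ x : 𝒜 0, (x : S) = MvPolynomial.C (MvPolynomial.constantCoeff (x : S)) := fun x => by
    rw [MvPolynomial.constantCoeff_eq]
    exact MvPolynomial.totalDegree_eq_zero_iff_eq_C.1 (Nat.eq_zero_of_le_zero
      ((MvPolynomial.mem_homogeneousSubmodule 0 (x : S)).1 x.2).totalDegree_le)
  haveI : Nontrivial (𝒜 0) := ⟨⟨0, 1, fun e => zero_ne_one (α := S) (congrArg Subtype.val e)⟩⟩
  haveI : IsLocalRing (𝒜 0) := IsLocalRing.of_surjective' (algebraMap k (𝒜 0)) fun x =>
    ⟨MvPolynomial.constantCoeff (x : S), Subtype.ext (hC x).symm⟩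
  obtain ⟨r, a, y, hy, hspan, hmin⟩ := GrIntH4.exists_min_gens (GrIntH4.ofDecomp 𝒜 ℳ)
  let φ := Fintype.linearCombination S y
  have hsurj : Function.Surjective φ := by
    rw [← LinearMap.range_eq_top, Fintype.range_linearCombination, hspan]
  let m : Ideal S := RingHom.ker (MvPolynomial.constantCoeff : S →+* k)
  have hgm : GrIntH4.grMax 𝒜 ≤ m := by
    intro p hp
    by_contra hne
    have hu : IsUnit (GradedRing.projZeroRingHom' 𝒜 p) := by
      have e : GradedRing.projZeroRingHom' 𝒜 p = algebraMap k (𝒜 0) (MvPolynomial.constantCoeff p) := by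
        refine Subtype.ext ?_
        show ((DirectSum.decompose 𝒜 p 0 : 𝒜 0) : S) = MvPolynomial.C (MvPolynomial.constantCoeff p)
        exact (MvPolynomial.decomposition.decompose'_apply p 0).trans (MvPolynomial.homogeneousComponent_zero p)
      rw [e]
      exact (isUnit_iff_ne_zero.2 hne).map _
    exact hp hu
  have hm : m = GrIntH4.grMax 𝒜 :=
    ((GrIntH4.grMax_isMaximal 𝒜).eq_of_le (RingHom.ker_ne_top _) hgm).symm
  have hinj := (TorBridge.isZero_tor_one_iff (S ⧸ m) M φ hsurj).1 h
  have hK : LinearMap.ker φ = ⊥ := by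
    refine GrIntH4.eq_bot_of_le_grMax_smul ((GrIntH4.self 𝒜).pi a) _ (IsNoetherian.noetherian _)
      (fun i x hx => ((GrIntH4.ofDecomp 𝒜 ℳ).lc_isHom hy).π_mem_ker i hx) fun v hv => ?_
    rw [← hm]
    have h1 : (⟨v, hv⟩ : LinearMap.ker φ) ⊗ₜ[S] (Submodule.Quotient.mk 1 : S ⧸ m) = 0 := by
      refine hinj ?_
      rw [map_zero, LinearMap.rTensor_tmul]
      refine (TensorProduct.tensorQuotEquivQuotSMul _ m).injective ?_
      rw [map_zero]
      show TensorProduct.tensorQuotEquivQuotSMul _ m (v ⊗ₜ[S] Ideal.Quotient.mk m 1) = 0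
      rw [TensorProduct.tensorQuotEquivQuotSMul_tmul_mk, one_smul, Submodule.Quotient.mk_eq_zero, hm]
      exact hmin hv
    have h2 := congrArg (TensorProduct.tensorQuotEquivQuotSMul (LinearMap.ker φ) m) h1
    rw [map_zero] at h2
    erw [TensorProduct.tensorQuotEquivQuotSMul_tmul_mk] at h2
    rw [one_smul, Submodule.Quotient.mk_eq_zero] at h2
    have h3 := Submodule.mem_map_of_mem (f := (LinearMap.ker φ).subtype) h2
    rw [Submodule.map_smul'', Submodule.map_top, Submodule.range_subtype] at h3
    exact h3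
  let e := LinearEquiv.ofBijective φ ⟨LinearMap.ker_eq_bot.1 hK, hsurj⟩
  refine ⟨ULift.{u} (Fin r), ((Pi.basisFun S (Fin r)).map e).reindex Equiv.ulift.symm, fun i => ⟨a i.down, ?_⟩⟩
  have hb : ((Pi.basisFun S (Fin r)).map e).reindex Equiv.ulift.symm i = y i.down := by
    simp [e, φ, Fintype.linearCombination_apply_single]
  rw [hb, ← hy i.down]
  exact SetLike.coe_mem _

end Groth.Agent.S14423
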