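import Groth.Statements.S14426
import Groth.Agent.Koszul15.Depth
import Mathlib.RingTheory.Nakayama

set_option autoImplicit false
universe u
open Koszul3

namespace Groth.Agent.S14426

open CategoryTheory CategoryTheory.Limits in
/-- Let (R, m) be a Noetherian local ring, M a nonzero finitely generated R-module and x_1, …, x_n
elements of m generating the ideal a. Then depth(a, M) ≤ n; the Koszul cohomology H^p(x; M) vanishes
for every p < depth(a, M); and H^r(x; M) is nonzero for r = depth(a, M). (Cohomological indexing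
with H^n(x; M) = M/(x)M; in homological indexing this reads H_i = 0 for i > n − r and H_{n−r} ≠ 0.
Koszul complex realised by iterated mapping cones, as in the prelude.) -/
theorem result {R : Type u} [CommRing R] [IsNoetherianRing R] [IsLocalRing R]
    (M : Type u) [AddCommGroup M] [Module R M] [Module.Finite R M] [Nontrivial M]
    (xs : List R) (hxs : ∀ x ∈ xs, x ∈ IsLocalRing.maximalIdeal R) :
    LocCoh.idealDepth (Ideal.span {x | x ∈ xs}) M ≤ xs.length ∧
      (∀ p : ℕ, (p : ℕ∞) < LocCoh.idealDepth (Ideal.span {x | x ∈ xs}) M → IsZero (CohIII.koszulH xs (ModuleCat.of R M) p)) ∧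
      (∀ r : ℕ, LocCoh.idealDepth (Ideal.span {x | x ∈ xs}) M = r → ¬ IsZero (CohIII.koszulH xs (ModuleCat.of R M) r)) := by
  classical
  let I : Ideal R := Ideal.span {x | x ∈ xs}
  have hIJ : I ≤ Ideal.jacobson ⊥ := by
    rw [IsLocalRing.jacobson_eq_maximalIdeal ⊥ bot_ne_top, Ideal.span_le]
    exact hxs
  have htop : I • (⊤ : Submodule R M) ≠ ⊤ := fun h =>
    top_ne_bot (α := Submodule R M)
      (Submodule.eq_bot_of_le_smul_of_le_jacobson_bot I ⊤ Module.Finite.fg_top h.ge hIJ)
  have hdef : LocCoh.idealDepth I M =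
      ⨆ (rs : List R) (_ : RingTheory.Sequence.IsWeaklyRegular M rs ∧ ∀ r ∈ rs, r ∈ I), (rs.length : ℕ∞) :=
    if_neg htop
  have hlen : ∀ rs : List R, RingTheory.Sequence.IsWeaklyRegular M rs → (∀ r ∈ rs, r ∈ I) →
      rs.length ≤ xs.length := by
    intro rs h1 h2
    by_contra hlt
    have hz := Groth.Agent.Koszul15.isZero_of_lt xs rs (ModuleCat.of R M) h1 h2 0 (by omega)
    obtain ⟨e⟩ := Groth.Agent.Koszul15.nonempty_top_equiv xs (ModuleCat.of R M)
    have := ModuleCat.subsingleton_of_isZero hz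
    exact htop (Submodule.Quotient.subsingleton_iff.1 e.symm.injective.subsingleton)
  have hle : LocCoh.idealDepth I M ≤ xs.length := by
    rw [hdef]
    exact iSup₂_le fun rs h => Nat.cast_le.2 (hlen rs h.1 h.2)
  refine ⟨hle, fun p hp => ?_, fun r hr hzero => ?_⟩
  · rw [hdef] at hp
    obtain ⟨rs, hrs⟩ := lt_iSup_iff.1 hp
    obtain ⟨⟨h1, h2⟩, hlt⟩ := lt_iSup_iff.1 hrs
    exact Groth.Agent.Koszul15.isZero_of_lt xs rs (ModuleCat.of R M) h1 h2 _
      (by have := Nat.cast_lt.1 hlt; omega)
  · obtain ⟨rs, h1, h2, hrl⟩ : ∃ rs : List R, RingTheory.Sequence.IsWeaklyRegular M rs ∧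
        (∀ x ∈ rs, x ∈ I) ∧ rs.length = r := by
      rcases r with _ | r
      · exact ⟨[], RingTheory.Sequence.IsWeaklyRegular.nil R M, by simp, rfl⟩
      · have hlt : (r : ℕ∞) < LocCoh.idealDepth I M := by
          rw [hr]; exact Nat.cast_lt.2 r.lt_succ_self
        rw [hdef] at hlt
        obtain ⟨rs, hrs⟩ := lt_iSup_iff.1 hlt
        obtain ⟨⟨h1, h2⟩, hlt⟩ := lt_iSup_iff.1 hrs
        refine ⟨rs, h1, h2, le_antisymm ?_ (Nat.cast_lt.1 hlt)⟩
        have : (rs.length : ℕ∞) ≤ (r + 1 : ℕ) := by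
          rw [← hr, hdef]
          exact le_iSup₂_of_le rs ⟨h1, h2⟩ le_rfl
        exact Nat.cast_le.1 this
    have hz' : IsZero ((CohIII.koszulCx (ModuleCat.of R M) xs).homology (-(xs.length : ℤ) + rs.length)) := by
      rw [hrl, show -(xs.length : ℤ) + r = r - xs.length by ring]
      exact hzero
    obtain ⟨a, haI, ha⟩ := Groth.Agent.Koszul15.exists_isSMulRegular_mem
      (M ⧸ (Ideal.ofList rs • ⊤ : Submodule R M)) I fun m hm =>
        Groth.Agent.Koszul15.eq_zero_of_isZero xs rs (ModuleCat.of R M) h1 h2 hz' m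
          fun f hf => hm f (Ideal.subset_span hf)
    have hreg : RingTheory.Sequence.IsWeaklyRegular M (rs ++ [a]) := by
      rw [RingTheory.Sequence.isWeaklyRegular_append_iff]
      exact ⟨h1, by simpa using ha⟩
    have : ((rs ++ [a]).length : ℕ∞) ≤ r := by
      rw [← hr, hdef]
      refine le_iSup₂_of_le (rs ++ [a]) ⟨hreg, fun x hx => ?_⟩ le_rfl
      rcases List.mem_append.1 hx with hx | hx
      · exact h2 x hx
      · exact (List.mem_singleton.1 hx).symm ▸ haI
    have := Nat.cast_le.1 this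
    simp [hrl] at this

end Groth.Agent.S14426
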