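import Groth.Statements.S14431
import Groth.Agent.BertiniSec.Generated
import Groth.Agent.BertiniSec.Scheme
-- import your own Groth.Agent.* helpers here

set_option autoImplicit false
universe u
open CategoryTheory CategoryTheory.Limits AlgebraicGeometry
open Variety

namespace Groth.Agent.S14431

/-- Let k be an algebraically closed field of characteristic zero, X an integral k-scheme of finite type
which is smooth over k, L an invertible O_X-module and s_0, …, s_m global sections of L (morphisms
O_X → L) generating L, i.e. their zero schemes have empty intersection (the sum of their zero ideal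
sheaves is the unit ideal). Then the members of the linear system spanned by the s_i corresponding
to a nonempty Zariski-open set of parameters are smooth: there is a nonzero polynomial p in m + 1
variables over k such that for every c ∈ k^{m+1} with p(c) ≠ 0 the zero scheme of the section Σ c_i
s_i is smooth over k (equivalently, the corresponding divisor is reduced with smooth support). (The
published statement is for varieties, which are separated; this row does not assume X separated.) -/
theorem result (k : Type u) [Field k] [IsAlgClosed k] [CharZero k]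
    (X : Scheme.{u}) [X.Over (Spec (CommRingCat.of k))] [IsIntegral X]
    [Smooth (X ↘ Spec (CommRingCat.of k))] [QuasiCompact (X ↘ Spec (CommRingCat.of k))]
    (L : X.Modules) (hL : FlatMod.IsFinLocFreeOfRank 1 L) (m : ℕ)
    (s : Fin (m + 1) → (Coh.structureModule X ⟶ L))
    (hgen : ⨆ i : Fin (m + 1), PicF2.zeroScheme L (s i) = ⊤) :
    ∃ p : MvPolynomial (Fin (m + 1)) k, p ≠ 0 ∧ ∀ c : Fin (m + 1) → k, MvPolynomial.eval c p ≠ 0 →
      Smooth ((PicF2.zeroScheme L (∑ i : Fin (m + 1), Formal.smulMod k (Coh.structureModule X) (c i) ≫ s i)).subschemeι ≫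
        (X ↘ Spec (CommRingCat.of k))) := by
  classical
  have hLi : PicF.IsInvertible L := Groth.Agent.BertiniSec.isInvertible_of_rank_one hL
  haveI : CompactSpace X := QuasiCompact.compactSpace_of_compactSpace (X ↘ Spec (CommRingCat.of k))
  choose U e r hxU he hstd using fun x : X => Groth.Agent.BertiniSec.exists_chart (k := k) hLi x
  obtain ⟨t, ht⟩ := isCompact_univ.elim_finite_subcover (fun x : X => ((U x).1 : Set X))
    (fun x => (U x).1.2) (fun x _ => Set.mem_iUnion.2 ⟨x, hxU x⟩)
  choose a ha using fun (x : X) (i : Fin (m + 1)) =>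
    (he x).exists_coord (le_refl (U x).1) (Groth.Agent.ZeroSchX.sv (s i) (U x).1)
  have hsv : ∀ (x : X) (i : Fin (m + 1)), Groth.Agent.ZeroSchX.sv (s i) (U x).1 = a x i • e x := fun x i => by
    have h := ha x i
    rwa [Groth.Agent.AModX.res_self] at h
  have hspan : ∀ x : X, Ideal.span (Set.range (a x)) = ⊤ := fun x => by
    have h : (⨆ i : Fin (m + 1), PicF2.zeroScheme L (s i)).ideal (U x) = ⊤ := by rw [hgen]; rfl
    rw [Scheme.IdealSheafData.ideal_iSup, iSup_apply] at h
    simp only [Groth.Agent.ZeroSchX.ideal_zeroScheme hLi,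
      Groth.Agent.ZeroSchX.zeroIdealOn_eq_span _ (he x) (hsv x _)] at h
    rwa [← Ideal.span_iUnion, Set.iUnion_singleton_eq_range] at h
  have hb : ∀ x : X, ∃ g : MvPolynomial (Fin (m + 1)) k, g ≠ 0 ∧ ∀ c : Fin (m + 1) → k, MvPolynomial.eval c g ≠ 0 →
      ((Ideal.Quotient.mk (Ideal.span {∑ i, Groth.Agent.BertiniSec.cst k (U x).1 (c i) * a x i})).comp
        (Groth.Agent.BertiniSec.cst k (U x).1)).Smooth := fun x => by
    letI := (Groth.Agent.BertiniSec.cst k (U x).1).toAlgebra
    haveI : Algebra.IsStandardSmoothOfRelativeDimension (r x) k Γ(X, (U x).1) :=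
      (RingHom.isStandardSmoothOfRelativeDimension_algebraMap _).1 (hstd x)
    haveI : Algebra.IsStandardSmooth k Γ(X, (U x).1) :=
      Algebra.IsStandardSmoothOfRelativeDimension.isStandardSmooth (r x)
    obtain ⟨g, hg, hgs⟩ := Groth.Agent.BertiniSec.gen_bad (k := k) (a x) (hspan x)
    exact ⟨g, hg, fun c hc => RingHom.smooth_algebraMap.2 (hgs c hc)⟩
  choose g hg0 hg using hb
  refine ⟨∏ x ∈ t, g x, Finset.prod_ne_zero_iff.2 fun x _ => hg0 x, fun c hc => ?_⟩
  rw [map_prod, Finset.prod_ne_zero_iff] at hc
  refine Groth.Agent.BertiniSec.smooth_subscheme _ (fun p : (t : Set X) => U p.1) (fun x => ?_) fun p => ?_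
  · obtain ⟨p, hp, hxp⟩ := Set.mem_iUnion₂.1 (ht (Set.mem_univ x))
    exact ⟨⟨p, hp⟩, hxp⟩
  · have hI : (PicF2.zeroScheme L (∑ i : Fin (m + 1), Formal.smulMod k (Coh.structureModule X) (c i) ≫ s i)).ideal (U p.1) =
        Ideal.span {∑ i, Groth.Agent.BertiniSec.cst k (U p.1).1 (c i) * a p.1 i} := by
      rw [Groth.Agent.ZeroSchX.ideal_zeroScheme hLi]
      refine Groth.Agent.ZeroSchX.zeroIdealOn_eq_span _ (he p.1) ?_
      rw [Groth.Agent.BertiniSec.sv_sum, Finset.sum_smul]
      exact Finset.sum_congr rfl fun i _ => by rw [hsv, mul_smul]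
    rw [hI]
    exact hg p.1 c (hc p.1 p.2)

end Groth.Agent.S14431
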