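import Groth.Statements.S14438
import Mathlib.RingTheory.Length
import Mathlib.LinearAlgebra.FreeModule.StrongRankCondition
import Mathlib.RingTheory.Artinian.Module
import Mathlib.Algebra.Module.LocalizedModule.Exact
import Mathlib.LinearAlgebra.TensorProduct.Quotient
import Mathlib.LinearAlgebra.TensorProduct.Pi
import Mathlib.LinearAlgebra.FreeModule.Finite.Basic

set_option autoImplicit false
universe u
open CAlg

namespace Groth.Agent.S14438

theorem length_loc_quot_self {B : Type u} [CommRing B] (n : Ideal B) [n.IsMaximal] :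
    Module.length (Localization.AtPrime n) (LocalizedModule n.primeCompl (B ⧸ n)) = 1 := by
  let g : Localization.AtPrime n →ₗ[Localization.AtPrime n] LocalizedModule n.primeCompl (B ⧸ n) :=
    LinearMap.toSpanSingleton _ _ (LocalizedModule.mk 1 1)
  have hg : Function.Surjective g := fun x => by
    induction x using LocalizedModule.induction_on with
    | h m s =>
      obtain ⟨b, rfl⟩ := Ideal.Quotient.mk_surjective m
      refine ⟨Localization.mk b s, ?_⟩
      simp only [g, LinearMap.toSpanSingleton_apply, LocalizedModule.mk_smul_mk, mul_one]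
      congr 1
      rw [← map_one (Ideal.Quotient.mk n)]
      change Ideal.Quotient.mk n (b * 1) = _
      rw [mul_one]
  have hker : IsLocalRing.maximalIdeal (Localization.AtPrime n) ≤ LinearMap.ker g := by
    rw [← Localization.AtPrime.map_eq_maximalIdeal, Ideal.map_le_iff_le_comap]
    intro b hb
    rw [Ideal.mem_comap, LinearMap.mem_ker, LinearMap.toSpanSingleton_apply, algebraMap_smul, LocalizedModule.smul'_mk]
    have : b • (1 : B ⧸ n) = 0 := by
      rw [← map_one (Ideal.Quotient.mk n)]
      exact Ideal.Quotient.eq_zero_iff_mem.2 (n.mul_mem_right 1 hb)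
    rw [this, LocalizedModule.zero_mk]
  refine le_antisymm ?_ (ENat.one_le_iff_ne_zero.2 fun h => ?_)
  · haveI : IsSimpleModule (Localization.AtPrime n)
        (Localization.AtPrime n ⧸ IsLocalRing.maximalIdeal (Localization.AtPrime n)) :=
      isSimpleModule_iff_quot_maximal.2 ⟨_, inferInstance, ⟨LinearEquiv.refl _ _⟩⟩
    refine (Module.length_le_of_surjective (Submodule.liftQ _ g hker) ?_).trans_eq (Module.length_eq_one _ _)
    intro x
    obtain ⟨y, rfl⟩ := hg x
    exact ⟨Submodule.Quotient.mk y, rfl⟩
  · rw [Module.length_eq_zero_iff] at h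
    obtain ⟨s, hs⟩ := LocalizedModule.subsingleton_iff.1 h (1 : B ⧸ n)
    refine hs.1 ?_
    have := hs.2
    rwa [← map_one (Ideal.Quotient.mk n), ← Ideal.Quotient.mk_eq_mk, ← Submodule.Quotient.mk_smul,
      smul_eq_mul, mul_one, Submodule.Quotient.mk_eq_zero] at this

/-- Let (A, m) be a local ring, B a commutative A-algebra which is free of finite rank d as an A-module,
and assume that for every maximal ideal n of B containing mB the induced map of residue fields A/m →
B/n is bijective (as for the points of a fibre of a finite flat morphism of varieties over an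
algebraically closed field). Then the multiplicities of the points of the fibre add up to the
degree: the sum over all such n of the length of the B_n-module (B/mB)_n equals d. -/
theorem result (A B : Type u) [CommRing A] [IsLocalRing A] [CommRing B] [Algebra A B]
    [Module.Free A B] [Module.Finite A B] (d : ℕ) (hd : Module.finrank A B = d)
    (hres : ∀ (n : Ideal B) [n.IsMaximal] (h : Ideal.map (algebraMap A B) (IsLocalRing.maximalIdeal A) ≤ n),
      Function.Bijective (Ideal.quotientMap n (algebraMap A B) (Ideal.map_le_iff_le_comap.mp h))) :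
    finsum (fun n : {n : MaximalSpectrum B // Ideal.map (algebraMap A B) (IsLocalRing.maximalIdeal A) ≤ n.asIdeal} =>
      Module.length (Localization.AtPrime n.1.asIdeal)
        (LocalizedModule n.1.asIdeal.primeCompl (B ⧸ Ideal.map (algebraMap A B) (IsLocalRing.maximalIdeal A)))) = (d : ℕ∞) := by
  classical
  let I := Ideal.map (algebraMap A B) (IsLocalRing.maximalIdeal A)
  let ι := {n : MaximalSpectrum B // I ≤ n.asIdeal}
  have hlenA : Module.length A (B ⧸ I) = d := by
    let m := IsLocalRing.maximalIdeal A
    have e1 : (B ⧸ I) ≃ₗ[A] B ⧸ (m • ⊤ : Submodule A B) :=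
      (Submodule.Quotient.restrictScalarsEquiv A (I : Submodule B B)).symm ≪≫ₗ
        Submodule.quotEquivOfEq _ _ (Ideal.smul_top_eq_map m).symm
    let b := Module.Free.chooseBasis A B
    haveI : IsSimpleModule A (A ⧸ m) := isSimpleModule_iff_quot_maximal.2 ⟨_, inferInstance, ⟨LinearEquiv.refl _ _⟩⟩
    rw [(e1 ≪≫ₗ (TensorProduct.quotTensorEquivQuotSMul B m).symm ≪≫ₗ TensorProduct.congr (LinearEquiv.refl A (A ⧸ m)) b.equivFun ≪≫ₗ
      TensorProduct.piScalarRight A A (A ⧸ m) (Module.Free.ChooseBasisIndex A B)).length_eq,
      Module.length_pi_of_fintype]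
    simp [Module.length_eq_one, ← hd, Module.finrank_eq_card_chooseBasisIndex A B]
  have hfl : IsFiniteLength B (B ⧸ I) := Module.length_ne_top_iff.1 fun h => by
    have h1 := Submodule.length_le_length_restrictScalars (R := B) (M := B ⧸ I) A ⊤
    rw [Module.length_top, h, Submodule.restrictScalars_top, Module.length_top, hlenA] at h1
    simp at h1
  haveI : IsArtinianRing (B ⧸ I) := by
    haveI := (isFiniteLength_iff_isNoetherian_isArtinian.1 hfl).2
    exact isArtinian_of_tower B ‹IsArtinian B (B ⧸ I)›
  haveI : Finite ι := Finite.of_injective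
    (fun n : ι => (⟨n.1.asIdeal.map (Ideal.Quotient.mk I), by
      rcases Ideal.map_eq_top_or_isMaximal_of_surjective _ (Ideal.Quotient.mk_surjective (I := I)) n.1.2 with h | h
      · exfalso
        have := congrArg (Ideal.comap (Ideal.Quotient.mk I)) h
        rw [Ideal.comap_map_of_surjective _ (Ideal.Quotient.mk_surjective (I := I)), Ideal.comap_top] at this
        exact n.1.2.ne_top (top_le_iff.1 (this ▸ sup_le le_rfl (by simpa [← RingHom.ker_eq_comap_bot, Ideal.mk_ker] using n.2)))
      · exact h⟩ : MaximalSpectrum (B ⧸ I)))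
    (fun n n' h => by
      have h' := congrArg (Ideal.comap (Ideal.Quotient.mk I)) (congrArg MaximalSpectrum.asIdeal h)
      rw [Ideal.comap_map_mk n.2, Ideal.comap_map_mk n'.2] at h'
      exact Subtype.ext (MaximalSpectrum.ext h'))
  haveI := Fintype.ofFinite ι
  have key : ∀ (M : Type u) [AddCommGroup M] [Module B M], IsFiniteLength B M →
      ∀ [Module A M] [IsScalarTower A B M], (∀ x ∈ I, ∀ m : M, x • m = 0) →
      Module.length A M = ∑ n : ι, Module.length (Localization.AtPrime n.1.asIdeal) (LocalizedModule n.1.asIdeal.primeCompl M) := by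
    intro M _ _ hM
    induction hM with
    | @of_subsingleton M _ _ _ =>
      intro _ _ hk
      haveI : ∀ n : ι, Subsingleton (LocalizedModule n.1.asIdeal.primeCompl M) := fun n =>
        LocalizedModule.subsingleton_iff.2 fun m => ⟨1, one_mem _, Subsingleton.elim _ _⟩
      simp [Module.length_eq_zero]
    | @of_simple_quotient M _ _ N _ _ ih =>
      intro _ _ hk
      have hN := ih (fun x hx m => Subtype.ext (hk x hx m))
      obtain ⟨J, hJ, ⟨e⟩⟩ := isSimpleModule_iff_quot_maximal.1 (inferInstance : IsSimpleModule B (M ⧸ N))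
      have hIJ : I ≤ J := fun x hx => by
        obtain ⟨y, hy⟩ := N.mkQ_surjective (e.symm (Ideal.Quotient.mk J 1))
        have h0 : x • e.symm (Ideal.Quotient.mk J 1) = 0 := by rw [← hy, ← map_smul, hk x hx, map_zero]
        rw [← map_smul, LinearEquiv.map_eq_zero_iff] at h0
        simpa [← Ideal.Quotient.mk_eq_mk, ← Submodule.Quotient.mk_smul, Submodule.Quotient.mk_eq_zero] using h0
      have hQA : Module.length A (M ⧸ N) = 1 := by
        rw [(e.restrictScalars A).length_eq]
        haveI : IsSimpleModule (B ⧸ J) (B ⧸ J) := by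
          letI := Ideal.Quotient.field J; infer_instance
        rw [Module.length_eq_of_surjective (R := B ⧸ J) (M := B ⧸ J) (S := A) ?_, Module.length_eq_one]
        intro y
        obtain ⟨a, ha⟩ := (hres J hIJ).2 y
        obtain ⟨a, rfl⟩ := Ideal.Quotient.mk_surjective a
        exact ⟨a, ha ▸ rfl⟩
      have hQn : ∀ n : ι, Module.length (Localization.AtPrime n.1.asIdeal) (LocalizedModule n.1.asIdeal.primeCompl (M ⧸ N)) =
          if n = ⟨⟨J, hJ⟩, hIJ⟩ then 1 else 0 := fun n => by
        haveI := n.1.2
        rw [(IsLocalizedModule.mapEquiv n.1.asIdeal.primeCompl (LocalizedModule.mkLinearMap n.1.asIdeal.primeCompl (M ⧸ N))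
          (LocalizedModule.mkLinearMap n.1.asIdeal.primeCompl (B ⧸ J)) (Localization.AtPrime n.1.asIdeal) e).length_eq]
        split_ifs with h
        · subst h; exact length_loc_quot_self J
        · rw [Module.length_eq_zero_iff, LocalizedModule.subsingleton_iff]
          obtain ⟨t, ht, htn⟩ : ∃ t ∈ J, t ∉ n.1.asIdeal := Set.not_subset.1 fun hle =>
            h (Subtype.ext (MaximalSpectrum.ext (hJ.eq_of_le n.1.2.ne_top hle).symm))
          intro m
          obtain ⟨m, rfl⟩ := Ideal.Quotient.mk_surjective m
          exact ⟨t, htn, Ideal.Quotient.eq_zero_iff_mem.2 (J.mul_mem_right m ht)⟩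
      rw [Module.length_eq_add_of_exact (N.subtype.restrictScalars A) (N.mkQ.restrictScalars A) N.injective_subtype
        N.mkQ_surjective (LinearMap.exact_subtype_mkQ N), hN, hQA]
      have hex : ∀ n : ι, Module.length (Localization.AtPrime n.1.asIdeal) (LocalizedModule n.1.asIdeal.primeCompl M) =
          Module.length (Localization.AtPrime n.1.asIdeal) (LocalizedModule n.1.asIdeal.primeCompl N) +
          Module.length (Localization.AtPrime n.1.asIdeal) (LocalizedModule n.1.asIdeal.primeCompl (M ⧸ N)) := fun n =>
        Module.length_eq_add_of_exact _ _ (LocalizedModule.map_injective _ _ N.injective_subtype)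
          (LocalizedModule.map_surjective _ _ N.mkQ_surjective) (LocalizedModule.map_exact _ _ _ (LinearMap.exact_subtype_mkQ N))
      rw [Finset.sum_congr rfl (fun n _ => hex n), Finset.sum_add_distrib, Finset.sum_congr rfl (fun n _ => hQn n)]
      rw [Finset.sum_ite_eq']; simp only [Finset.mem_univ, if_true]
  rw [finsum_eq_sum_of_fintype, ← key (B ⧸ I) hfl (fun x hx m => by
    obtain ⟨m, rfl⟩ := Ideal.Quotient.mk_surjective m
    exact Ideal.Quotient.eq_zero_iff_mem.2 (I.mul_mem_right m hx)), hlenA]

end Groth.Agent.S14438
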