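import Groth.Statements.S14443
import Groth.Agent.SmoothField.FibreCrit
import Groth.Agent.OmegaUniv.Unram
import Groth.Agent.FittX.Crit
import Groth.Agent.Lib.CurveSection
import Groth.Agent.QCoh.Stalk
-- import your own Groth.Agent.* helpers here

set_option autoImplicit false
universe u
open CategoryTheory CategoryTheory.Limits AlgebraicGeometry
attribute [local instance] FixPt.fiberModule
open Variety

namespace Groth.Agent.S14443

/-- Let k be an algebraically closed field, f : X → Y a morphism of k-schemes of finite type, x a closed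
point of X and Z an irreducible closed subset of the fibre f⁻¹(f(x)) passing through x, of dimension
r. Then dim_k (Ω_{X/Y})_(x) ≥ r, where (Ω_{X/Y})_(x) = Ω_{X/Y,x} ⊗ k(x) is the fibre of the sheaf of
relative differentials at x, a vector space over k(x) = k (x is closed and k algebraically closed),
regarded as a k-module through k → O_{X,x}. (The published statement is for varieties, i.e. X and Y
reduced and separated; this row assumes neither. Since X is locally of finite type over a field it
is locally Noetherian, so f is quasi-separated; the argument, T_x Z ⊆ ker(df_x) and dim T_x Z ≥ dim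
Z, uses neither reducedness nor separatedness.) -/
theorem result (k : Type u) [Field k] [IsAlgClosed k]
    {X Y : Scheme.{u}} [X.Over (Spec (CommRingCat.of k))] [Y.Over (Spec (CommRingCat.of k))]
    [LocallyOfFiniteType (X ↘ Spec (CommRingCat.of k))] [QuasiCompact (X ↘ Spec (CommRingCat.of k))]
    [LocallyOfFiniteType (Y ↘ Spec (CommRingCat.of k))] [QuasiCompact (Y ↘ Spec (CommRingCat.of k))]
    (f : X ⟶ Y) (hf : f ≫ (Y ↘ Spec (CommRingCat.of k)) = X ↘ Spec (CommRingCat.of k))
    (x : X) (hx : IsClosed ({x} : Set X)) (Z : Set X) (hZ : IsIrreducible Z) (hZc : IsClosed Z) (hxZ : x ∈ Z)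
    (hZf : Z ⊆ f.base ⁻¹' {f.base x}) (r : ℕ) (hr : topologicalKrullDim ↥Z = (r : WithBot ℕ∞)) :
    r ≤ Module.finrank k (FixPt.fiber (Omega.sheaf f) x) := by
  classical
  haveI : IsLocallyNoetherian X := LocallyOfFiniteType.isLocallyNoetherian (X ↘ Spec (CommRingCat.of k))
  haveI : LocallyOfFiniteType f := by
    haveI : LocallyOfFiniteType (f ≫ (Y ↘ Spec (CommRingCat.of k))) := by rw [hf]; infer_instance
    exact locallyOfFiniteType_of_comp f (Y ↘ Spec (CommRingCat.of k))
  haveI : QuasiSeparated f := inferInstance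
  -- the dimension of the fibre at `x` is at least `r`
  have hge : (r : WithBot ℕ∞) ≤ FlatMor.fibreDimAt f x := by
    have hη := hZ.isGenericPoint_genericPoint hZc
    rw [← hr]
    have hset : closure {hZ.genericPoint} ∩ f ⁻¹' {f hZ.genericPoint} = Z := by
      rw [hη.def, Set.inter_eq_left]
      intro z hz
      exact (hZf hz : f z = f x).trans (hZf hη.mem : f hZ.genericPoint = f x).symm
    rw [← hset, Groth.Agent.FibDim.dim_closure_inter_fibre]
    exact Groth.Agent.FibDim.fibreDimAt_ge_rd f (hη.specializes hxZ)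
  obtain ⟨V, hV, hxV, -⟩ := exists_isAffineOpen_mem_and_subset (x := f x) (U := ⊤) trivial
  obtain ⟨U, hU, hxU, hUV⟩ := exists_isAffineOpen_mem_and_subset (x := x) (U := f ⁻¹ᵁ V) hxV
  letI : Algebra Γ(Y, V) Γ(X, U) := (f.appLE V U hUV).hom.toAlgebra
  haveI : Algebra.FiniteType Γ(Y, V) Γ(X, U) := f.finiteType_appLE hV hU hUV
  let q := hU.primeIdealOf ⟨x, hxU⟩
  haveI : LocallyOfFiniteType (Spec.map (f.appLE V U hUV)) := by
    rw [HasRingHomProperty.Spec_iff (P := @LocallyOfFiniteType)]
    exact f.finiteType_appLE hV hU hUV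
  have hfib : FlatMor.fibreDimAt (Spec.map (f.appLE V U hUV)) q = FlatMor.fibreDimAt f x := by
    refine Eq.trans (Groth.Agent.DescLib.fibreDimAt_eq_of_etale f (Spec.map (f.appLE V U hUV))
      hU.fromSpec hV.fromSpec (IsAffineOpen.SpecMap_appLE_fromSpec f hV hU hUV) q).symm ?_
    exact congrArg (FlatMor.fibreDimAt f) (hU.fromSpec_primeIdealOf ⟨x, hxU⟩)
  have hM := Groth.Agent.OmegaUniv.isQCoh_omega f
  have hft := Groth.Agent.OmegaUniv.isFT_omega f
  haveI := Groth.Agent.QCoh.finite_of_isFT hM hft hU
  obtain ⟨l⟩ := Groth.Agent.Synt29.OmegaStalk.exists_linearEquiv_sections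
    (Groth.Agent.OmegaUniv.isUniversal_dOmega f) hU hV hUV
  have hd : r ≤ Module.finrank q.asIdeal.ResidueField
      (TensorProduct Γ(X, U) q.asIdeal.ResidueField Γ(Omega.sheaf f, U)) := by
    have h1 := Groth.Agent.SmoothField.fibreDimAt_le_finrank_fibre (A := Γ(Y, V)) q.asIdeal
    have h2 := (hge.trans hfib.ge).trans h1
    rw [← (TensorProduct.AlgebraTensorModule.congr
      (LinearEquiv.refl q.asIdeal.ResidueField q.asIdeal.ResidueField) l).finrank_eq] at h2
    exact_mod_cast h2
  -- the fibre of the sheaf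
  let O : Type u := X.presheaf.stalk x
  let N : Type u := ↑((Omega.sheaf f).presheaf.stalk x)
  letI : CommRing O := inferInstanceAs (CommRing (X.presheaf.stalk x))
  letI := Groth.Agent.QCoh.stalkAlg (X := X) hxU
  letI := Groth.Agent.QCoh.stalkModule (Omega.sheaf f) hxU
  haveI := Groth.Agent.QCoh.isScalarTower_stalk (Omega.sheaf f) hxU
  haveI := Groth.Agent.QCoh.isLocalization_stalk' hU hxU
  haveI := Groth.Agent.QCoh.isLocalizedModule_germLin hM hU hxU
  have hbc : IsBaseChange (X.presheaf.stalk x) (Groth.Agent.QCoh.germLin (Omega.sheaf f) hxU) :=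
    IsLocalizedModule.isBaseChange q.asIdeal.primeCompl (X.presheaf.stalk x) _
  haveI : Module.Finite (X.presheaf.stalk x) ((Omega.sheaf f).presheaf.stalk x) :=
    Module.Finite.of_isLocalizedModule q.asIdeal.primeCompl (Groth.Agent.QCoh.germLin (Omega.sheaf f) hxU)
  letI := Curv2.stalkMap k X x |>.toAlgebra
  haveI : IsScalarTower k (X.presheaf.stalk x) (FixPt.fiber (Omega.sheaf f) x) :=
    IsScalarTower.of_algebraMap_smul fun _ _ => rfl
  have hsurj := Groth.Agent.CurveSection.surjective_resMap (k := k) hx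
  have hspan : ∀ (a : X.presheaf.stalk x) (m : FixPt.fiber (Omega.sheaf f) x), ∃ c : k, a • m = c • m := by
    intro a m
    obtain ⟨c, hc⟩ := hsurj (X.residue x a)
    refine ⟨c, ?_⟩
    have hmem : a - Curv2.stalkMap k X x c ∈ IsLocalRing.maximalIdeal (X.presheaf.stalk x) := by
      refine (IsLocalRing.residue_eq_zero_iff _).1 ?_
      rw [map_sub, sub_eq_zero]
      exact hc.symm
    obtain ⟨m, rfl⟩ := Submodule.Quotient.mk_surjective _ m
    show Submodule.Quotient.mk (a • m) = Submodule.Quotient.mk (Curv2.stalkMap k X x c • m)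
    rw [Submodule.Quotient.eq, ← sub_smul]
    exact Submodule.smul_mem_smul hmem Submodule.mem_top
  haveI : Module.Finite k (FixPt.fiber (Omega.sheaf f) x) := by
    obtain ⟨s, hs⟩ := Module.finite_def.1 (inferInstance : Module.Finite (X.presheaf.stalk x) (FixPt.fiber (Omega.sheaf f) x))
    refine ⟨⟨s, eq_top_iff.2 fun y hy0 => ?_⟩⟩
    clear hy0
    have hy : y ∈ Submodule.span (X.presheaf.stalk x) (↑s : Set (FixPt.fiber (Omega.sheaf f) x)) := hs ▸ Submodule.mem_top
    induction hy using Submodule.span_induction with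
    | mem z hz => exact Submodule.subset_span hz
    | zero => exact zero_mem _
    | add z w _ _ hz hw => exact add_mem hz hw
    | smul a z _ hz =>
      obtain ⟨c, hc⟩ := hspan a z
      rw [hc]
      exact Submodule.smul_mem _ c hz
  let b := Module.finBasis k (FixPt.fiber (Omega.sheaf f) x)
  choose g hg using fun i => Submodule.Quotient.mk_surjective _ (b i)
  have hgspan : Submodule.span (X.presheaf.stalk x) (Set.range g) = ⊤ := by
    refine top_le_iff.1 (Submodule.le_of_le_smul_of_le_jacobson_bot
      (I := IsLocalRing.maximalIdeal (X.presheaf.stalk x)) Module.Finite.fg_top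
      (IsLocalRing.maximalIdeal_le_jacobson _) ?_)
    intro y _
    have h1 := b.sum_repr (Submodule.Quotient.mk y)
    have h2 : y - ∑ i, Curv2.stalkMap k X x (b.repr (Submodule.Quotient.mk y) i) • g i ∈
        IsLocalRing.maximalIdeal (X.presheaf.stalk x) • (⊤ : Submodule (X.presheaf.stalk x) _) := by
      rw [← Submodule.Quotient.eq]
      refine Eq.trans h1.symm ?_
      refine Eq.trans ?_ (map_sum (Submodule.mkQ _) _ _).symm
      refine Finset.sum_congr rfl fun i _ => ?_
      rw [map_smul, Submodule.mkQ_apply, hg]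
      rfl
    rw [← add_sub_cancel (∑ i, Curv2.stalkMap k X x (b.repr (Submodule.Quotient.mk y) i) • g i) y]
    exact Submodule.add_mem_sup (Submodule.sum_mem _ fun i _ =>
      Submodule.smul_mem _ _ (Submodule.subset_span ⟨i, rfl⟩)) h2
  have hne : q.asIdeal.map (algebraMap Γ(X, U) (X.presheaf.stalk x)) ≠ ⊤ := by
    intro h
    have h3 := IsLocalization.AtPrime.map_eq_maximalIdeal q.asIdeal (X.presheaf.stalk x)
    rw [h] at h3
    exact (IsLocalRing.maximalIdeal.isMaximal _).ne_top h3.symm
  exact hd.trans ((Groth.Agent.FittX.not_le_iff_fiber _ _ _).1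
    (Groth.Agent.FittX.not_le_of_span_eq_top hbc hgspan hne))

end Groth.Agent.S14443
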