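import Groth.Statements.S1445
import Groth.Agent.QFUnivLib.Scheme
-- import your own Groth.Agent.* helpers here

set_option autoImplicit false
universe u
open FlatMor

namespace Groth.Agent.S1445
open scoped TensorProduct

open AlgebraicGeometry CategoryTheory Limits in
/-- Let f : X → Y be quasi-finite and of finite presentation with X and Y affine. Then there are a
morphism Y_u → Y of finite presentation and an open U_u of Y_u ×_Y X finite over Y_u such that for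
every morphism Y' → Y with Y' affine and every open U' of Y' ×_Y X finite over Y', some morphism Y'
→ Y_u over Y pulls U_u back to U'. -/
theorem result {X Y : Scheme.{u}} (f : X ⟶ Y) [IsAffine X] [IsAffine Y] [LocallyQuasiFinite f] [LocallyOfFinitePresentation f] :
    ∃ (Yu : Scheme.{u}) (a : Yu ⟶ Y) (Uu : (pullback f a).Opens), LocallyOfFinitePresentation a ∧ QuasiCompact a ∧ QuasiSeparated a ∧
      IsFinite (Uu.ι ≫ pullback.snd f a) ∧
      ∀ (Y' : Scheme.{u}) (b : Y' ⟶ Y) (U' : (pullback f b).Opens), IsAffine Y' → IsFinite (U'.ι ≫ pullback.snd f b) →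
        ∃ (c : Y' ⟶ Yu) (hc : c ≫ a = b),
          (pullback.map f b f a (𝟙 X) c (𝟙 Y) ((Category.comp_id f).trans (Category.id_comp f).symm) ((Category.comp_id b).trans hc.symm)) ⁻¹ᵁ Uu = U' := by
  let := QFUnivLib.gAlgebra f
  obtain ⟨C, _, _, j, s, h, _, H⟩ := QFUnivLib.exists_chart f
  obtain ⟨Ru, _, _, εu, hfp, hεu, hfin, huniv⟩ :=
    QFUnivLib.exists_universal_idempotent Γ(Y, ⊤) Γ(X, ⊤) (j := j) H
  let a : Spec (CommRingCat.of Ru) ⟶ Y := Spec.map (CommRingCat.ofHom (algebraMap Γ(Y, ⊤) Ru)) ≫ Y.isoSpec.inv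
  have hu := QFUnivLib.isPullback_base f Ru
  let Uu : (pullback f a).Opens := hu.isoPullback.inv ⁻¹ᵁ QFUnivLib.specBasicOpen εu
  have : LocallyOfFinitePresentation (Spec.map (CommRingCat.ofHom (algebraMap Γ(Y, ⊤) Ru))) :=
    (HasRingHomProperty.Spec_iff (P := @LocallyOfFinitePresentation)).2 (RingHom.finitePresentation_algebraMap.2 hfp)
  refine ⟨Spec (CommRingCat.of Ru), a, Uu, inferInstance, inferInstance, inferInstance, ?_, fun Y' b U' _ hU' => ?_⟩
  · rw [← QFUnivLib.isFinite_of_iso hu.isoPullback (Iso.refl _)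
      (Spec.map (CommRingCat.ofHom (Algebra.TensorProduct.includeLeftRingHom : Ru →+* Ru ⊗[Γ(Y, ⊤)] Γ(X, ⊤))))
      (pullback.snd f a) (by rw [Iso.refl_hom, Category.comp_id, IsPullback.isoPullback_hom_snd]) Uu]
    have e : hu.isoPullback.hom ⁻¹ᵁ Uu = QFUnivLib.specBasicOpen εu := by
      show hu.isoPullback.hom ⁻¹ᵁ hu.isoPullback.inv ⁻¹ᵁ _ = _
      rw [← Scheme.Hom.comp_preimage, Iso.hom_inv_id]
      rfl
    rw [e]
    exact (QFUnivLib.isFinite_basicOpen_iff εu).2 hfin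
  let : Algebra Γ(Y, ⊤) Γ(Y', ⊤) := b.appTop.hom.toAlgebra
  have hb : b = Y'.isoSpec.hom ≫ Spec.map (CommRingCat.ofHom (algebraMap Γ(Y, ⊤) Γ(Y', ⊤))) ≫ Y.isoSpec.inv := by
    show b = Y'.isoSpec.hom ≫ Spec.map b.appTop ≫ Y.isoSpec.inv
    rw [Scheme.isoSpec_inv_naturality, Iso.hom_inv_id_assoc]
  have hpb := QFUnivLib.isPullback_base f Γ(Y', ⊤)
  have hpb' : IsPullback
      (Spec.map (CommRingCat.ofHom (Algebra.TensorProduct.includeRight :
        Γ(X, ⊤) →ₐ[Γ(Y, ⊤)] Γ(Y', ⊤) ⊗[Γ(Y, ⊤)] Γ(X, ⊤)).toRingHom) ≫ X.isoSpec.inv)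
      (Spec.map (CommRingCat.ofHom (Algebra.TensorProduct.includeLeftRingHom :
        Γ(Y', ⊤) →+* Γ(Y', ⊤) ⊗[Γ(Y, ⊤)] Γ(X, ⊤))) ≫ Y'.isoSpec.inv) f b := by
    refine hpb.of_iso (Iso.refl _) (Iso.refl _) Y'.isoSpec.symm (Iso.refl _) ?_ ?_ ?_ ?_
    · simp
    · simp
    · simp
    · rw [Iso.refl_hom, Category.comp_id, hb]
      simp
  let V := hpb'.isoPullback.hom ⁻¹ᵁ U'
  have : IsFinite (V.ι ≫ Spec.map (CommRingCat.ofHom (algebraMap Γ(Y', ⊤) (Γ(Y', ⊤) ⊗[Γ(Y, ⊤)] Γ(X, ⊤))))) := by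
    refine (QFUnivLib.isFinite_of_iso hpb'.isoPullback Y'.isoSpec.symm _ (pullback.snd f b) ?_ U').2 hU'
    rw [IsPullback.isoPullback_hom_snd]
    rfl
  obtain ⟨ε, hε, hV, hεfin⟩ := QFUnivLib.exists_idempotent_of_isFinite (R' := Γ(Y', ⊤)) V
  obtain ⟨φ, hφ⟩ := huniv _ ε hε hεfin
  have hc : (Y'.isoSpec.hom ≫ Spec.map (CommRingCat.ofHom φ.toRingHom)) ≫ a = b := by
    rw [Category.assoc, ← Spec.map_comp_assoc, ← CommRingCat.ofHom_comp]
    rw [show (φ.toRingHom.comp (algebraMap Γ(Y, ⊤) Ru)) = algebraMap Γ(Y, ⊤) Γ(Y', ⊤) from φ.comp_algebraMap]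
    exact hb.symm
  refine ⟨_, hc, ?_⟩
  have key : hpb'.isoPullback.hom ≫ pullback.map f b f a (𝟙 X) (Y'.isoSpec.hom ≫ Spec.map (CommRingCat.ofHom φ.toRingHom))
      (𝟙 Y) ((Category.comp_id f).trans (Category.id_comp f).symm) ((Category.comp_id b).trans hc.symm) =
      Spec.map (CommRingCat.ofHom (Algebra.TensorProduct.map φ (AlgHom.id Γ(Y, ⊤) Γ(X, ⊤))).toRingHom) ≫
        hu.isoPullback.hom := by
    apply pullback.hom_ext
    · rw [Category.assoc, pullback.lift_fst, Category.comp_id, IsPullback.isoPullback_hom_fst, Category.assoc,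
        IsPullback.isoPullback_hom_fst, ← Spec.map_comp_assoc, ← CommRingCat.ofHom_comp]
      congr 3
      exact RingHom.ext fun x => by simp
    · rw [Category.assoc, pullback.lift_snd, ← Category.assoc, IsPullback.isoPullback_hom_snd, Category.assoc,
        Iso.inv_hom_id_assoc, Category.assoc, IsPullback.isoPullback_hom_snd, ← Spec.map_comp, ← Spec.map_comp,
        ← CommRingCat.ofHom_comp, ← CommRingCat.ofHom_comp]
      congr 2
  have hsurj : Function.Surjective hpb'.isoPullback.hom := fun x => ⟨hpb'.isoPullback.inv x, by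
    rw [← Scheme.Hom.comp_apply, Iso.inv_hom_id]; rfl⟩
  apply TopologicalSpace.Opens.ext
  apply hsurj.preimage_injective
  refine congrArg (SetLike.coe : (Spec (CommRingCat.of (Γ(Y', ⊤) ⊗[Γ(Y, ⊤)] Γ(X, ⊤)))).Opens → _)
    (?_ : hpb'.isoPullback.hom ⁻¹ᵁ (_ ⁻¹ᵁ Uu) = V)
  rw [← Scheme.Hom.comp_preimage, key, hV, Scheme.Hom.comp_preimage]
  rw [show hu.isoPullback.hom ⁻¹ᵁ Uu = QFUnivLib.specBasicOpen εu by
    show hu.isoPullback.hom ⁻¹ᵁ hu.isoPullback.inv ⁻¹ᵁ _ = _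
    rw [← Scheme.Hom.comp_preimage, Iso.hom_inv_id]
    rfl]
  rw [← hφ]
  rfl

end Groth.Agent.S1445
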