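import Groth.Statements.S15985
import Groth.Agent.PBC.Vanish
-- import your own Groth.Agent.* helpers here

set_option autoImplicit false
universe u
open Coherent

namespace Groth.Agent.S15985

open AlgebraicGeometry CategoryTheory Scheme.Modules in
/-- Let π : X → Y be proper of finite presentation, F a quasi-coherent O_X-module of finite
presentation, flat over Y, and p a natural number such that H^p(X_y, F|_{X_y}) = 0 for every point y
of Y (cohomology of the restriction of F to the scheme-theoretic fibre at y). Then the higher direct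
image R^p π_* F (the p-th right derived functor of π_* on O_X-modules, applied to F) is zero. -/
theorem result
    {X Y : Scheme.{u}} (π : X ⟶ Y) [IsProper π] [LocallyOfFinitePresentation π]
    [HasInjectiveResolutions X.Modules]
    (F : X.Modules) [Coh.IsQCoh F] (hfp : CohB1.IsFP F) (hfl : FlatMod.IsFlatOver π F) (p : ℕ)
    (h0 : ∀ y : Y, Subsingleton (CohIII.fiberH π F y p)) :
    Limits.IsZero ((Coh.Rpush π p).obj F) := by
    refine KFlatLib.isZero_of_sections (QCoh.isQCoh_Rpush π (QCoh.isQCoh_of_isFP hfp) p) fun y => ?_
    obtain ⟨_, ⟨W, hW, rfl⟩, hyW, -⟩ := Y.isBasis_affineOpens.exists_subset_of_mem_open (Set.mem_univ y) isOpen_univ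
    have hW' : IsAffineOpen W := hW
    obtain ⟨P, hP⟩ := PBC.exists_isLocalModel π F hW' hfp hfl
    obtain ⟨l⟩ := hP.2.2.2.2.1 p
    haveI := PBC.subsingleton_homology hP.1 hP.2.1 (PBC.exactPts_of_fiberH hP p fun z _ => h0 z)
    exact ⟨W, hyW, hW', l.toEquiv.subsingleton⟩

end Groth.Agent.S15985
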