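import Groth.Statements.S14469
import Groth.Agent.Lib.PushRank
import Groth.Agent.Lib.SmoothCurveFam
import Groth.Agent.S15985
import Groth.Agent.S18840

set_option autoImplicit false
set_option linter.style.haveILetI false
set_option linter.unusedSectionVars false
set_option backward.isDefEq.respectTransparency false
set_option backward.isDefEq.respectTransparency.types false
set_option maxHeartbeats 1000000
universe u
open CategoryTheory CategoryTheory.Limits AlgebraicGeometry
open Curves

namespace Groth.Agent.S14469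

open Groth.Agent

open AlgebraicGeometry CategoryTheory Limits in
theorem fibre_h {C S : Scheme.{u}} (f : C ⟶ S)
    [IsProper f] [Smooth f] [GeometricallyConnected f]
    (hdim : ∀ s : S, topologicalKrullDim ↥(f.fiber s) = 1) (g : ℕ) (hg : 2 ≤ g)
    (hgen : ∀ s : S, letI : (f.fiber s).Over (Spec (S.residueField s)) := ⟨f.fiberToSpecResidueField s⟩
      Curv2.genus (S.residueField s) (f.fiber s) = g)
    (n : ℕ) (hn : 2 ≤ n) (s : S) :
    (∀ i : ℕ, 1 ≤ i → Subsingleton (CohIII.fiberH f (CohB1.tensorPow (Omega.sheaf f) n) s i)) ∧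
      CohIII.fiberRank f (CohB1.tensorPow (Omega.sheaf f) n) 0 s = (2 * n - 1) * (g - 1) := by
  letI : (f.fiber s).Over (Spec (CommRingCat.of (S.residueField s))) := ⟨f.fiberToSpecResidueField s⟩
  haveI : IsProper ((f.fiber s) ↘ Spec (CommRingCat.of (S.residueField s))) :=
    inferInstanceAs (IsProper (pullback.snd f (S.fromSpecResidueField s)))
  haveI : Smooth ((f.fiber s) ↘ Spec (CommRingCat.of (S.residueField s))) :=
    inferInstanceAs (Smooth (pullback.snd f (S.fromSpecResidueField s)))
  haveI : GeometricallyConnected ((f.fiber s) ↘ Spec (CommRingCat.of (S.residueField s))) :=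
    inferInstanceAs (GeometricallyConnected (pullback.snd f (S.fromSpecResidueField s)))
  have h0 := CurveBC.finrank_h0_of_geometricallyConnected (S.residueField s) (f.fiber s)
  haveI := SmoothCurveFam.geometricallyIntegral (S.residueField s) (f.fiber s) h0
  haveI := CurveBC.isIntegral_of_h0 (S.residueField s) (f.fiber s) h0
  obtain ⟨eΩ⟩ := SmoothCurveFam.nonempty_omega_fibre f s
  obtain ⟨eP⟩ := HilbSnap.pullback_tensorPow (f.fiberι s) (Omega.sheaf f) n
  let M := (Scheme.Modules.pullback (f.fiberι s)).obj (Omega.sheaf f)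
  let N := CohIII.fiberMod f (CohB1.tensorPow (Omega.sheaf f) n) s
  have hω := SmoothCurveFam.isInvertible_omega f hdim
  have hN : PicF.IsInvertible N := PicClLib.isInvertible_pullback _ (InvX.isInvertible_tensorPow hω n)
  have hM : PicF.IsInvertible M := PicClLib.isInvertible_pullback _ hω
  have hdM : Curv2.deg (S.residueField s) (f.fiber s) M 1 = 2 * (g : ℤ) - 2 := by
    refine (CurveRR.deg_congr (S.residueField s) (show M ≅ _ from eΩ) 1).trans
      (((CurveBC.canonical_invariants (S.residueField s) (f.fiber s) (hdim s) h0).2).trans ?_)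
    exact congrArg (fun m : ℕ => 2 * (m : ℤ) - 2) (hgen s)
  have hdN : Curv2.deg (S.residueField s) (f.fiber s) N 1 = (n : ℤ) * (2 * (g : ℤ) - 2) := by
    rw [← hdM, ← (S18840.deg_tensorPow (S.residueField s) (hdim s) hM n).2]
    exact CurveRR.deg_congr (S.residueField s) eP 1
  have hgs : Curv2.genus (S.residueField s) (f.fiber s) = g := hgen s
  have h1 : Subsingleton (Coh.HH (f.fiber s) N 1) := CurveVA.subsingleton_h1_of_deg (S.residueField s) (hdim s) h0 hN (by
    rw [hdN, hgs]
    have : (2 : ℤ) ≤ n := by exact_mod_cast hn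
    have : (2 : ℤ) ≤ g := by exact_mod_cast hg
    nlinarith)
  refine ⟨fun i hi => ?_, ?_⟩
  · rcases Nat.eq_or_lt_of_le hi with rfl | hi
    · exact h1
    · exact PBC.subsingleton_fiberH_of_dim f s (d := 1) (hdim s).le hi
  · have hq : Coh.IsQCoh N := QCoh.isQCoh_of_isFP (QCoh.isFP_of_isFinLocFree (H23.PullPush.isFinLocFree_of_isInvertible hN))
    have e1 := CurveRR.euler_eq_h0_sub_h1 (S.residueField s) (hdim s).le hq
    have e2 := CurveRR.euler_eq_h0_sub_h1 (S.residueField s) (hdim s).le (QCoh.isQCoh_structureModule (X := f.fiber s))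
    have e3 : Module.finrank (S.residueField s) (Coh.HH (f.fiber s) N 1) = 0 := Module.finrank_zero_of_subsingleton
    have h0' : Module.finrank (S.residueField s) (Coh.HH (f.fiber s) (Coh.structureModule (f.fiber s)) 0) = 1 := h0
    unfold Curv2.deg at hdN
    unfold Curv2.genus at hgs
    rw [e1, e2, e3, h0', hgs] at hdN
    push_cast at hdN
    show Module.finrank (S.residueField s) (Coh.HH (f.fiber s) N 0) = _
    have : ((2 * n - 1 : ℕ) : ℤ) = 2 * (n : ℤ) - 1 := by omega
    have : ((g - 1 : ℕ) : ℤ) = (g : ℤ) - 1 := by omega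
    zify
    rw [‹((2 * n - 1 : ℕ) : ℤ) = _›, ‹((g - 1 : ℕ) : ℤ) = _›]
    linarith


/-- Let f : C → S be a proper smooth morphism of schemes whose fibres are geometrically connected, of
dimension one and of genus g ≥ 2 (g the dimension of H¹ of the structure sheaf of each fibre over
its residue field), i.e. a family of smooth curves of genus g, and let n ≥ 2. Then f_*(Ω_{C/S}^{⊗n})
is finite locally free of rank (2n - 1)(g - 1) and R^i f_*(Ω_{C/S}^{⊗n}) = 0 for every i ≥ 1. (The
published statement also asserts that the formation of f_*(Ω_{C/S}^{⊗n}) commutes with every base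
change S' → S; this row does not restate that clause.) -/
theorem result {C S : Scheme.{u}} (f : C ⟶ S)
    [IsProper f] [Smooth f] [GeometricallyConnected f]
    (hdim : ∀ s : S, topologicalKrullDim ↥(f.fiber s) = 1) (g : ℕ) (hg : 2 ≤ g)
    (hgen : ∀ s : S, letI : (f.fiber s).Over (Spec (S.residueField s)) := ⟨f.fiberToSpecResidueField s⟩
      Curv2.genus (S.residueField s) (f.fiber s) = g)
    [HasInjectiveResolutions C.Modules] (n : ℕ) (hn : 2 ≤ n) :
    FlatMod.IsFinLocFreeOfRank ((2 * n - 1) * (g - 1)) ((Coh.push f).obj (CohB1.tensorPow (Omega.sheaf f) n)) ∧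
      ∀ i : ℕ, 1 ≤ i → IsZero ((Coh.Rpush f i).obj (CohB1.tensorPow (Omega.sheaf f) n)) := by
  have hω := SmoothCurveFam.isInvertible_omega f hdim
  have hi := InvX.isInvertible_tensorPow hω n
  have hlf := H23.PullPush.isFinLocFree_of_isInvertible hi
  have hfp := QCoh.isFP_of_isFinLocFree hlf
  have hfl := H23.Seesaw.isFlatOver_of_isInvertible f hi
  haveI : Coh.IsQCoh (CohB1.tensorPow (Omega.sheaf f) n) := QCoh.isQCoh_of_isFP hfp
  refine ⟨PushRank.isFinLocFreeOfRank_push f hfp hfl _ (fun s => (fibre_h f hdim g hg hgen n hn s).1 1 le_rfl)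
    fun s => (fibre_h f hdim g hg hgen n hn s).2, fun i hi => ?_⟩
  exact S15985.result f _ hfp hfl i fun s => (fibre_h f hdim g hg hgen n hn s).1 i hi

end Groth.Agent.S14469
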