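import Groth.Statements.S14473
import Groth.Agent.GenusOnePt.Invol

set_option autoImplicit false
set_option linter.style.haveILetI false
set_option backward.isDefEq.respectTransparency false
set_option backward.isDefEq.respectTransparency.types false
universe u
open CategoryTheory CategoryTheory.Limits AlgebraicGeometry
open Curves

namespace Groth.Agent.S14473

/-- Let k be an algebraically closed field and C a smooth proper connected curve over k (proper and
smooth over k, integral, of dimension one) of genus 1, the genus being the dimension of H¹(C, O_C).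
Then the group of k-automorphisms of C is infinite: there are infinitely many automorphisms of the
scheme C over Spec k. -/
theorem result (k : Type u) [Field k] [IsAlgClosed k]
    (C : Scheme.{u}) [C.Over (Spec (CommRingCat.of k))] (hC : Curve.IsSmoothProperCurve k C (C ↘ (Spec (CommRingCat.of k))))
    (hg : Curv2.genus k C = 1) :
    Infinite {e : C ≅ C // e.hom ≫ (C ↘ (Spec (CommRingCat.of k))) = C ↘ (Spec (CommRingCat.of k))} := by
  obtain ⟨h1, h2, h3, hdim⟩ := hC
  haveI := h1
  haveI := h2
  haveI := h3
  haveI : JacobsonSpace C := LocallyOfFiniteType.jacobsonSpace (C ↘ Spec (CommRingCat.of k))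
  haveI : Infinite {x : C // IsClosed ({x} : Set C)} := by
    rw [← not_finite_iff_infinite]
    intro hfin
    exact Groth.Agent.HypEll.finite_closed_false hdim (Set.finite_coe_iff.1 hfin)
  obtain ⟨⟨P, hP⟩⟩ := (inferInstance : Nonempty {x : C // IsClosed ({x} : Set C)})
  choose σ hσp hσσ hσP hsum using fun Q : {x : C // IsClosed ({x} : Set C)} =>
    Groth.Agent.GenusOnePt.exists_involution (k := k) hdim hg hP Q.2
  refine Infinite.of_injective (fun Q => (⟨⟨σ Q, σ Q, hσσ Q, hσσ Q⟩, hσp Q⟩ :
    {e : C ≅ C // e.hom ≫ (C ↘ (Spec (CommRingCat.of k))) = C ↘ (Spec (CommRingCat.of k))})) fun Q Q' h => ?_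
  have h' : σ Q = σ Q' := congrArg (fun e => e.1.hom) h
  exact Subtype.ext ((hσP Q).symm.trans (by rw [h', hσP Q']))

end Groth.Agent.S14473
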