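import Groth.Statements.S14485
import Groth.Agent.WellIsect.Basic
-- import your own Groth.Agent.* helpers here

set_option autoImplicit false
universe u
open CategoryTheory CategoryTheory.Limits AlgebraicGeometry
open CharCyc


namespace Groth.Agent.S14485

/-- Let k be a field and let f : X → S be a morphism between separated k-schemes of finite type. Two
closed subsets Y, Z of X are said to well intersect with respect to f when dim(Y ×_S Z ∖ Y ×_X Z) ≤
dim Y + dim Z − dim S; here Y ×_S Z ∖ Y ×_X Z is taken as the subspace of X ×_S X of points whose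
two projections lie in Y and in Z and which are not in the image of the diagonal, and the inequality
is written additively as dim(Y ×_S Z ∖ Y ×_X Z) + dim S ≤ dim Y + dim Z (topological Krull
dimensions, the empty space having dimension ⊥). Let Y, Z ⊆ X be closed subsets, and let g : S' → S
be faithfully flat with every fibre of dimension d (relative constant dimension d), where S' is
again a separated k-scheme of finite type. Write f' : X' = X ×_S S' → S' for the base change and Y',
Z' ⊆ X' for the preimages of Y, Z. Then well-intersection of Y, Z with respect to f is equivalent to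
well-intersection of Y', Z' with respect to f'. -/
theorem result (k : Type u) [Field k] (X S S' : Scheme.{u})
    (q : S ⟶ Spec (CommRingCat.of k)) (f : X ⟶ S) (g : S' ⟶ S)
    [LocallyOfFiniteType q] [CompactSpace S] [IsSeparated q] [LocallyOfFiniteType f] [CompactSpace X] [IsSeparated f]
    [LocallyOfFiniteType g] [CompactSpace S'] [IsSeparated g] [Flat g] [Surjective g]
    (d : ℕ) (hd : ∀ s : S, topologicalKrullDim (g.fiber s) = d)
    (Y Z : Set X) (hYc : IsClosed Y) (hZc : IsClosed Z) :
    (topologicalKrullDim {p : ↥(pullback f f) | pullback.fst f f p ∈ Y ∧ pullback.snd f f p ∈ Z ∧ p ∉ Set.range (pullback.diagonal f)} + topologicalKrullDim S ≤ topologicalKrullDim Y + topologicalKrullDim Z) ↔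
      (topologicalKrullDim {p : ↥(pullback (pullback.snd f g) (pullback.snd f g)) | pullback.fst (pullback.snd f g) (pullback.snd f g) p ∈ ((pullback.fst f g) ⁻¹' Y) ∧ pullback.snd (pullback.snd f g) (pullback.snd f g) p ∈ ((pullback.fst f g) ⁻¹' Z) ∧ p ∉ Set.range (pullback.diagonal (pullback.snd f g))} + topologicalKrullDim S' ≤ topologicalKrullDim ((pullback.fst f g) ⁻¹' Y) + topologicalKrullDim ((pullback.fst f g) ⁻¹' Z)) := by
  have hdiag : IsOpen (Set.range (pullback.diagonal f))ᶜ :=
    (pullback.diagonal f).isClosedEmbedding.isClosed_range.isOpen_compl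
  have hC : IsClosed ((pullback.fst f f ⁻¹' Y) ∩ (pullback.snd f f ⁻¹' Z)) :=
    (hYc.preimage (pullback.fst f f).continuous).inter (hZc.preimage (pullback.snd f f).continuous)
  have hP := WellIsect.dim_preimage (WellIsect.isPullback_sqMap f g) q d hd hdiag hC
  have hX := IsPullback.of_hasPullback f g
  have hY := WellIsect.dim_preimage hX q d hd isOpen_univ hYc
  have hZ := WellIsect.dim_preimage hX q d hd isOpen_univ hZc
  have hS := WellIsect.dim_preimage (IsPullback.of_vert_isIso (fst := g) (snd := 𝟙 S') (f := 𝟙 S) (g := g)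
    ⟨by simp⟩) q d hd isOpen_univ isClosed_univ
  rw [Set.univ_inter] at hY hZ
  rw [Set.univ_inter, Set.preimage_univ] at hS
  rw [(Homeomorph.Set.univ S).isHomeomorph.topologicalKrullDim_eq,
    (Homeomorph.Set.univ S').isHomeomorph.topologicalKrullDim_eq] at hS
  have e : {p : ↥(pullback f f) | pullback.fst f f p ∈ Y ∧ pullback.snd f f p ∈ Z ∧
      p ∉ Set.range (pullback.diagonal f)} =
      (Set.range (pullback.diagonal f))ᶜ ∩ ((pullback.fst f f ⁻¹' Y) ∩ (pullback.snd f f ⁻¹' Z)) := by
    ext p
    simp only [Set.mem_setOf_eq, Set.mem_inter_iff, Set.mem_compl_iff, Set.mem_preimage]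
    tauto
  have e' : {p : ↥(pullback (pullback.snd f g) (pullback.snd f g)) |
      pullback.fst (pullback.snd f g) (pullback.snd f g) p ∈ ((pullback.fst f g) ⁻¹' Y) ∧
      pullback.snd (pullback.snd f g) (pullback.snd f g) p ∈ ((pullback.fst f g) ⁻¹' Z) ∧
      p ∉ Set.range (pullback.diagonal (pullback.snd f g))} =
      WellIsect.sqMap f g ⁻¹' ((Set.range (pullback.diagonal f))ᶜ ∩
        ((pullback.fst f f ⁻¹' Y) ∩ (pullback.snd f f ⁻¹' Z))) := by
    ext p
    rw [← WellIsect.preimage_range_diagonal]
    simp only [Set.mem_setOf_eq, Set.mem_inter_iff, Set.mem_compl_iff, Set.mem_preimage]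
    rw [← Scheme.Hom.comp_apply (WellIsect.sqMap f g) (pullback.fst f f),
      ← Scheme.Hom.comp_apply (WellIsect.sqMap f g) (pullback.snd f f),
      show WellIsect.sqMap f g ≫ pullback.fst f f = pullback.fst _ _ ≫ pullback.fst f g from
        pullback.lift_fst _ _ _,
      show WellIsect.sqMap f g ≫ pullback.snd f f = pullback.snd _ _ ≫ pullback.fst f g from
        pullback.lift_snd _ _ _]
    simp only [Scheme.Hom.comp_apply]
    tauto
  rw [e', hP, hY, hZ, hS, ← e, add_add_add_comm, add_add_add_comm (topologicalKrullDim ↥Y),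
    ← Nat.cast_add, WellIsect.add_natCast_le_iff]

end Groth.Agent.S14485
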