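import Groth.Statements.S14486
import Groth.Agent.SurfRR.Basic
import Groth.Agent.SurfStab.LMEuler
import Groth.Agent.SurfStab.GenPart
import Groth.Agent.CurveCohLib.RegularCurve

set_option autoImplicit false
set_option linter.style.haveILetI false
set_option backward.isDefEq.respectTransparency false
set_option backward.isDefEq.respectTransparency.types false
universe u
open CategoryTheory CategoryTheory.Limits AlgebraicGeometry
open Surf

namespace Groth.Agent.S14486

open Groth.Agent
open scoped Groth.Agent.H23.PicMul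

/-- Let k be an algebraically closed field and X a projective K3 surface over k: an integral scheme of
dimension two with all local rings regular, admitting a closed immersion into some P^n_k over k,
whose structure sheaf O_X is a second exterior power of Ω_{X/k} (the canonical sheaf is trivial) and
with H^1(X, O_X) = 0. Let C be a nonsingular curve of genus g on X: an integral closed subscheme of
dimension one with all local rings regular, with ideal sheaf I ⊆ O_X and g = dim_k H^1(C, O_C); let
M be an inverse of I for the tensor product (M = O_X(C)). Then C² = 2g - 2 and h^0(X, O_X(C)) = g +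
1. Writing (L·L') for the intersection number χ(O_X) - χ(L) - χ(L') + χ(L ⊗ L') of two invertible
modules (packaged as FGA.intNum), C² = (I·I), so the assertion reads (I·I) = 2g - 2 and dim_k H^0(X,
M) = g + 1. (A K3 surface is only required to be proper; this row assumes the projective embedding.) -/
theorem result (k : Type u) [Field k] [IsAlgClosed k] (X : Scheme.{u})
    [X.Over (Spec (CommRingCat.of k))] [IsIntegral X] (hdim : topologicalKrullDim X = 2)
    (hreg : ∀ x : X, IsRegularLocalRing (X.presheaf.stalk x))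
    (hproj : ∃ (n : ℕ) (ι : X ⟶ CohB1.ProjSpace n k), IsClosedImmersion ι ∧
      ι ≫ CohB1.ProjSpace.toSpec n k = (X ↘ (Spec (CommRingCat.of k))))
    (hK : ExtPow.IsExtPow 2 (Omega.sheaf (X ↘ (Spec (CommRingCat.of k)))) (Coh.structureModule X))
    (hH1 : Subsingleton (Coh.HH X (Coh.structureModule X) 1))
    (C : Scheme.{u}) (i : C ⟶ X) [IsClosedImmersion i] [IsIntegral C] (hC : topologicalKrullDim C = 1)
    (hCreg : ∀ c : C, IsRegularLocalRing (C.presheaf.stalk c))
    (M : X.Modules) (hM : ClSub.IsInverseOf M (ClSub.idealMod i.ker)) :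
    letI : C.Over (Spec (CommRingCat.of k)) := ⟨i ≫ (X ↘ (Spec (CommRingCat.of k)))⟩
    FGA.intNum k X 2 ![ClSub.idealMod i.ker, ClSub.idealMod i.ker] (Coh.structureModule X) =
        2 * (Curv2.genus k C : ℤ) - 2 ∧
      Module.finrank k (Coh.HH X M 0) = Curv2.genus k C + 1 := by
  obtain ⟨N, ι, hι, hι'⟩ := hproj
  haveI := hι
  haveI : IsProper (X ↘ Spec (CommRingCat.of k)) := ExtShX.isProper_over (ι : X ⟶ PnVan.P k N) hι'
  haveI : Smooth (X ↘ Spec (CommRingCat.of k)) := CurveCohLib.RegularCurve.smooth_of_regular k fun x _ => hreg x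
  letI : C.Over (Spec (CommRingCat.of k)) := ⟨i ≫ (X ↘ Spec (CommRingCat.of k))⟩
  haveI : IsProper (C ↘ Spec (CommRingCat.of k)) :=
    inferInstanceAs (IsProper (i ≫ (X ↘ Spec (CommRingCat.of k))))
  haveI : Smooth (C ↘ Spec (CommRingCat.of k)) := CurveCohLib.RegularCurve.smooth_of_regular k fun c _ => hCreg c
  haveI : IsNoetherian X := CurveCohLib.isNoetherian_of_proper (k := k)
  haveI : IsNoetherian C := CurveCohLib.isNoetherian_of_proper (k := k)
  let I := ClSub.idealMod i.ker
  let O := Coh.structureModule X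
  have hI : PicF.IsInvertible I := SurfStab.isInvertible_ideal (k := k) hdim hC i
  have hq : Module.finrank k (Coh.HH X O 1) = 0 := Module.finrank_zero_of_subsingleton
  have hadj := SurfRR.adjunction_of_dual hdim.le InvX.isInvertible_structureModule
    (fun L D hL _ hLD => SurfRR.euler_dual_smooth hdim ι hι' hK L D hL hLD) i rfl hI
  have h0 : FGA.intNum k X 2 ![I, O] O = 0 := by
    have h1 := Big.intNum_eq_pair k hdim.le hI InvX.isInvertible_structureModule
    rw [Big.pair_symm, Big.pair_one k hdim.le hI] at h1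
    exact_mod_cast h1
  have hOC := CurveRR.euler_structureModule k hC.le (X := C)
  rw [h0, hOC, sub_zero] at hadj
  refine ⟨by linarith, ?_⟩
  obtain ⟨eMI⟩ := hM
  obtain ⟨D, hD, ⟨δ⟩⟩ := H23.PicInv.exists_inverse hI
  have hcl : PicF.cl M * PicF.cl I = 1 := Big.cl_mul_eq_one ⟨eMI⟩
  obtain ⟨φ⟩ : Nonempty (D ≅ M) := H23.PicMul.cl_eq_iff.1
    (left_inv_eq_right_inv (by rw [mul_comm]; exact Big.cl_mul_eq_one ⟨δ⟩) (by rw [mul_comm]; exact hcl))
  have hMi : PicF.IsInvertible M := H23.PicMul.isInvertible_of_iso φ hD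
  obtain ⟨eIM⟩ : Nonempty (CohB1.tensorMod I M ≅ O) := H23.PicMul.cl_eq_iff.1 (by
    rw [H23.PicMul.cl_tensor, mul_comm, hcl, H23.PicMul.one_def])
  -- the ideal
  haveI : IsLocallyNoetherian i.ker.subscheme := LocallyOfFiniteType.isLocallyNoetherian i.ker.subschemeι
  have hS := ExtShX.shortExact_toSubscheme i.ker
  obtain ⟨q⟩ := ExtShX.nonempty_push_iso_quotMod i
  obtain ⟨p⟩ := PnCoh.exists_linearEquiv_push k i rfl (QCoh.isCoh_structureModule' (X := C)).1 0
  obtain ⟨r⟩ := ExtShX.nonempty_HH_equiv_of_iso (A := k) q 0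
  have hQ1 : Module.finrank k (Coh.HH X (ClSub.quotMod i.ker) 0) = 1 := by
    rw [← r.finrank_eq, ← p.finrank_eq, CurveCohLib.finrank_h0_eq_one k C]
  have hO1 : Module.finrank k (Coh.HH X O 0) = 1 := CurveCohLib.finrank_h0_eq_one k X
  let g := PnCoh.Finite.mapLin k (ClSub.toSubscheme i.ker) 0
  haveI := Module.finite_of_finrank_eq_succ hO1
  haveI := Module.finite_of_finrank_eq_succ hQ1
  let one₀ := (Sheaf.H.equiv₀ (Coh.toAb O) isTerminalTop).symm (H23.Frame.one ⊤)
  have hg1 : g one₀ ≠ 0 := fun h1 => by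
    have h2 := congrArg (Sheaf.H.equiv₀ (Coh.toAb (ClSub.quotMod i.ker)) isTerminalTop) h1
    rw [SurfStab.equiv₀_mapLin, AddEquiv.apply_symm_apply, map_zero] at h2
    have h3 : (1 : Γ(i.ker.subscheme, i.ker.subschemeι ⁻¹ᵁ ⊤)) = 0 :=
      (map_one (i.ker.subschemeι.app ⊤).hom).symm.trans h2
    haveI : Nonempty i.ker.subscheme := ⟨i.toImage (genericPoint C)⟩
    haveI : Nontrivial Γ(i.ker.subscheme, i.ker.subschemeι ⁻¹ᵁ ⊤) :=
      @Scheme.component_nontrivial _ _ ⟨⟨i.toImage (genericPoint C), trivial⟩⟩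
    exact one_ne_zero h3
  have hgs : Function.Surjective g := fun w => by
    obtain ⟨c, hc⟩ := (finrank_eq_one_iff_of_nonzero' (g one₀) hg1).1 hQ1 w
    exact ⟨c • one₀, by rw [map_smul, hc]⟩
  have hgi : Function.Injective g := (LinearMap.injective_iff_surjective_of_finrank_eq_finrank
    (hO1.trans hQ1.symm)).2 hgs
  have hI0 : Module.finrank k (Coh.HH X I 0) = 0 := by
    haveI : Subsingleton (Coh.HH X I 0) := subsingleton_of_forall_eq 0 fun y => by
      have h2 : PnCoh.Finite.mapLin k (ClSub.idealModι i.ker) 0 y ∈ LinearMap.ker g := by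
        rw [← Euler.range_mapLin_f k hS 0]; exact ⟨y, rfl⟩
      rw [LinearMap.ker_eq_bot.2 hgi, Submodule.mem_bot] at h2
      exact (LinearMap.ker_eq_bot.1 (Euler.ker_mapLin_f_zero k hS)) (h2.trans (map_zero _).symm)
    exact Module.finrank_zero_of_subsingleton
  have hI1 : Module.finrank k (Coh.HH X I 1) = 0 := by
    haveI : Subsingleton (Coh.HH X I 1) := subsingleton_of_forall_eq 0 fun y => by
      have h2 : y ∈ LinearMap.ker (PnCoh.Finite.mapLin k (ClSub.idealModι i.ker) 1) :=
        LinearMap.mem_ker.2 (Subsingleton.elim (α := Coh.HH X O 1) _ _)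
      rw [← Euler.range_deltaLin k hS 0] at h2
      obtain ⟨z, rfl⟩ := h2
      obtain ⟨w, rfl⟩ := hgs z
      have h3 : g w ∈ LinearMap.ker (PnCoh.Finite.deltaLin k hS 0) := by
        rw [← Euler.range_mapLin_g k hS 0]; exact ⟨w, rfl⟩
      exact h3
    exact Module.finrank_zero_of_subsingleton
  have hK' : Canon.IsTopDiff (X ↘ Spec (CommRingCat.of k)) 2 (Coh.structureModule X) := hK
  have f0 := SurfStab.finrank_inverse hdim ι hι' hK' hMi eIM 0 (Nat.zero_le _)
  have f1 := SurfStab.finrank_inverse hdim ι hι' hK' hMi eIM 1 (by norm_num)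
  rw [show 2 - 1 = 1 from rfl, hI1] at f1
  rw [Nat.sub_zero, hI0] at f0
  have hχ := SurfStab.euler_inverse hdim ι hι' hK' hMi eIM
  rw [SurfStab.euler_eq_three hdim, f0, f1] at hχ
  have hadd := Euler.euler_add k hS (AmpleVan.isCoh_invertible hI) (RefX.isCoh_unit (X := X))
    (QCoh.isCoh_pushforward_finite i.ker.subschemeι (QCoh.isCoh_structureModule' (X := i.ker.subscheme)))
  change Curv2.euler k X O = Curv2.euler k X I + Curv2.euler k X (ClSub.quotMod i.ker) at hadd
  rw [← Euler.euler_congr k q, AmpleDev.euler_push k i rfl (QCoh.isCoh_structureModule' (X := C)).1, hOC,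
    SurfStab.euler_unit hdim ι hι' hK' hq] at hadd
  omega

end Groth.Agent.S14486
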