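import Groth.Statements.S14513
import Groth.Agent.CurveBC.Etale
import Groth.Agent.CurveBC.Main
import Groth.Agent.CurveCohLib.Clifford
import Groth.Agent.DimFormula.DedekindFlat
import Groth.Agent.S1535
import Groth.Agent.Synt29.OmegaBase
import Groth.Agent.Synt29.StalkFormal
import Groth.Agent.SchTop.Closed

set_option linter.style.haveILetI false
set_option backward.isDefEq.respectTransparency false
set_option backward.isDefEq.respectTransparency.types false
set_option autoImplicit false
universe u
open CategoryTheory CategoryTheory.Limits AlgebraicGeometry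
open Curves

namespace Groth.Agent.S14513

/-- Let k be an algebraically closed field and f : X → Y a finite, separable morphism of smooth
projective curves over k (X, Y integral, proper and smooth over k, of dimension one; f sends the
generic point to the generic point and the extension K(X)/K(Y) is separable). If X and Y have the
same genus g = dim_k H^1(O) and g ≥ 2, then f is an isomorphism. (The published statement also
asserts g(X) ≥ g(Y) and that equality holds exactly when f is an isomorphism, both curves are
projective lines, or both have genus one; this row states the equality case for genus at least two.) -/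
theorem result (k : Type u) [Field k] [IsAlgClosed k]
    (X : Scheme.{u}) [X.Over (Spec (CommRingCat.of k))] [IsIntegral X] [IsProper (X ↘ (Spec (CommRingCat.of k)))] [Smooth (X ↘ (Spec (CommRingCat.of k)))] (hdimX : topologicalKrullDim X = 1)
    (Y : Scheme.{u}) [Y.Over (Spec (CommRingCat.of k))] [IsIntegral Y] [IsProper (Y ↘ (Spec (CommRingCat.of k)))] [Smooth (Y ↘ (Spec (CommRingCat.of k)))] (hdimY : topologicalKrullDim Y = 1)
    (f : X ⟶ Y) [IsFinite f] (hf : f ≫ (Y ↘ (Spec (CommRingCat.of k))) = (X ↘ (Spec (CommRingCat.of k))))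
    (e : f (genericPoint X) = genericPoint Y)
    (hg : Curv2.genus k X = Curv2.genus k Y) (h2 : 2 ≤ Curv2.genus k Y) :
    letI := ((Y.presheaf.stalkSpecializes (specializes_of_eq e) ≫ f.stalkMap (genericPoint X)).hom).toAlgebra
    Algebra.IsSeparable Y.functionField X.functionField → IsIso f := by
  intro hsep
  letI := ((Y.presheaf.stalkSpecializes (specializes_of_eq e) ≫ f.stalkMap (genericPoint X)).hom).toAlgebra
  haveI := Groth.Agent.CurveCohLib.isNoetherian_of_proper (k := k) (X := X)
  haveI := Groth.Agent.CurveCohLib.isNoetherian_of_proper (k := k) (X := Y)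
  haveI : Flat f := Groth.Agent.DimFormula.flat_of_regular_dim_le_one
    (fun y => ⟨Groth.Agent.S1535.result k Y y, (Groth.Agent.SchTop.ringKrullDim_stalk_le y).trans hdimY.le⟩) f
    (fun η hη => by
      rw [← hη _ (genericPoint_specializes η)]
      exact e)
  haveI : LocallyOfFinitePresentation f := inferInstance
  have hX0 := Groth.Agent.CurveCohLib.Clifford.finrank_h0_structure k (X := X)
  have hY0 := Groth.Agent.CurveCohLib.Clifford.finrank_h0_structure k (X := Y)
  let pX := X ↘ Spec (CommRingCat.of k)
  let pY := Y ↘ Spec (CommRingCat.of k)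
  obtain ⟨c, hc, -⟩ := Groth.Agent.S9370.result pY pX f (𝟙 _)
    (by rw [Category.comp_id]; exact hf.symm) _ _ (Groth.Agent.OmegaUniv.isUniversal_dOmega _) _ _
    (Groth.Agent.OmegaUniv.isUniversal_dOmega _)
  let x := genericPoint X
  have hsq : f ≫ pY = pX ≫ 𝟙 _ := by rw [Category.comp_id]; exact hf
  let ρ := ((Spec (CommRingCat.of k)).presheaf.stalkCongr
      (.of_eq (congrArg (fun t : X ⟶ Spec (CommRingCat.of k) => t x) hsq))).hom ≫
    (𝟙 (Spec (CommRingCat.of k)) : Spec (CommRingCat.of k) ⟶ _).stalkMap (pX x)
  have e' : pY.stalkMap (f x) ≫ f.stalkMap x = ρ ≫ pX.stalkMap x := by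
    rw [← Scheme.Hom.stalkMap_comp, Scheme.Hom.stalkMap_congr_hom _ _ hsq x,
      Scheme.Hom.stalkMap_comp]
    exact (Category.assoc _ _ _).symm
  obtain ⟨i₁, i₂, hi⟩ := Groth.Agent.Synt29.OmegaStalk.exists_stalk_square
    (Groth.Agent.OmegaUniv.isUniversal_dOmega pY) (Groth.Agent.OmegaUniv.isUniversal_dOmega pX) c hc x
    (pY.stalkMap (f x)) rfl (pX.stalkMap x) rfl
  have hγ := hi _ (Groth.Agent.Synt29.OmegaStalk.squareMap_unit ρ (pX.stalkMap x) _ _ e')
  have hρ : ρ.hom.FormallyUnramified := by
    refine RingHom.FormallyUnramified.comp ?_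
      (AlgebraicGeometry.FormallyUnramified.stalkMap (𝟙 (Spec (CommRingCat.of k))) (pX x))
    exact RingHom.FormallyUnramified.of_surjective
      (ConcreteCategory.bijective_of_isIso _).2
  let σ := Y.presheaf.stalkCongr (.of_eq e)
  have het : (f.stalkMap x).hom.FormallyUnramified ∧ (f.stalkMap x).hom.FormallySmooth := by
    haveI : Algebra.FormallyEtale Y.functionField X.functionField :=
      Algebra.FormallyEtale.of_isSeparable _ _
    have hb : Function.Bijective σ.hom := ConcreteCategory.bijective_of_isIso _
    have h2 : σ.hom ≫ (Y.presheaf.stalkSpecializes (specializes_of_eq e) ≫ f.stalkMap x) = f.stalkMap x :=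
      Iso.hom_inv_id_assoc σ _
    have hu : ((Y.presheaf.stalkSpecializes (specializes_of_eq e) ≫ f.stalkMap x).hom).FormallyUnramified :=
      (inferInstance : Algebra.FormallyUnramified Y.functionField X.functionField)
    have hs : ((Y.presheaf.stalkSpecializes (specializes_of_eq e) ≫ f.stalkMap x).hom).FormallySmooth :=
      (inferInstance : Algebra.FormallySmooth Y.functionField X.functionField)
    rw [← h2]
    exact ⟨RingHom.FormallyUnramified.comp (RingHom.FormallyUnramified.of_surjective hb.2) hu,
      RingHom.FormallySmooth.comp (RingHom.FormallySmooth.of_bijective hb) hs⟩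
  have := Groth.Agent.Synt29.OmegaStalk.isIso_squareMap ρ (pX.stalkMap x) _ _ e' hρ het.1 het.2
  have hiso : IsIso ((DerSch.stalkFunctor X x).map c) := by
    have h2 : (DerSch.stalkFunctor X x).map c = i₁.inv ≫
        Groth.Agent.Synt29.OmegaStalk.squareMap ρ (pX.stalkMap x) _ _ e' ≫ i₂.hom := by
      rw [Iso.eq_inv_comp]
      exact hγ
    rw [h2]
    exact IsIso.comp_isIso' inferInstance (IsIso.comp_isIso' this inferInstance)
  have hΩY := Groth.Agent.CurveBC.isInvertible_omega k Y hdimY hY0
  have hΩX := Groth.Agent.CurveBC.isInvertible_omega k X hdimX hX0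
  have hP := Groth.Agent.PicClLib.isInvertible_pullback f hΩY
  have hc0 : c ≠ 0 := fun h0 => by
    rw [h0, Functor.map_zero] at hiso
    haveI := hiso
    have hz : IsZero ((DerSch.stalkFunctor X x).obj ((Scheme.Modules.pullback f).obj (Omega.sheaf pY))) := by
      rw [IsZero.iff_id_eq_zero, ← cancel_mono (0 : (DerSch.stalkFunctor X x).obj _ ⟶ (DerSch.stalkFunctor X x).obj (Omega.sheaf pX))]
      simp
    haveI : Subsingleton (((Scheme.Modules.pullback f).obj (Omega.sheaf pY)).presheaf.stalk x) := ModuleCat.subsingleton_of_isZero hz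
    letI := (Groth.Agent.CurveBundle.isField_stalk_generic (X := X)).toField
    have h1 := Groth.Agent.CurveBundle.rk_eq (Groth.Agent.InvEnd.isFinLocFreeOfRank_one hP)
    unfold Groth.Agent.CurveBundle.rk at h1
    rw [Module.finrank_zero_of_subsingleton] at h1
    omega
  have hdeg := (Groth.Agent.CurveDeg.deg_le_and_isIso k hdimX.le hP hΩX c hc0).1
  rw [Groth.Agent.CurveBC.deg_pullback k f hdimY hf hΩY,
    (Groth.Agent.CurveBC.canonical_invariants k X hdimX hX0).2,
    (Groth.Agent.CurveBC.canonical_invariants k Y hdimY hY0).2, hg] at hdeg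
  have hn1 : Groth.Agent.CurveBC.coverDeg f = 1 := by
    have := Groth.Agent.CurveBC.coverDeg_pos f
    have h2' : (2 : ℤ) ≤ Curv2.genus k Y := by exact_mod_cast h2
    by_contra hne
    have : (2 : ℤ) ≤ Groth.Agent.CurveBC.coverDeg f := by exact_mod_cast (show 2 ≤ Groth.Agent.CurveBC.coverDeg f by omega)
    nlinarith
  exact Groth.Agent.CurveBC.isIso_of_rank_one f (hn1 ▸ Groth.Agent.CurveBC.isFinLocFreeOfRank_push f)

end Groth.Agent.S14513
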