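import Groth.Statements.S14518
import Groth.Agent.HopfVar.Field
import Groth.Agent.AmpleVan.Vanish
import Groth.Agent.CurveCohLib.Hopf
import Groth.Agent.TorLib.Basic
import Groth.Agent.QCoh.LocFree
import Groth.Agent.Lib.CurveBundle
-- import your own Groth.Agent.* helpers here

set_option autoImplicit false
universe u
open CategoryTheory CategoryTheory.Limits AlgebraicGeometry
open Variety

namespace Groth.Agent.S14518

section Aux
open CategoryTheory CategoryTheory.Limits AlgebraicGeometry TopologicalSpace Opposite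
open Groth.Agent
open scoped TensorProduct

set_option backward.isDefEq.respectTransparency false
set_option backward.isDefEq.respectTransparency.types false

variable (k : Type u) [Field k] [IsAlgClosed k] (X : Scheme.{u}) [X.Over (Spec (CommRingCat.of k))]
  [IsIntegral X] [IsProper (X ↘ (Spec (CommRingCat.of k)))]

theorem torsionFree {E : X.Modules} (hE : FlatMod.IsFinLocFree E) : TorSh.IsTorsionFree E := fun x => by
  haveI := QCoh.free_stalk_of_isFinLocFree hE x
  infer_instance

theorem aux (E₁ E₂ : X.Modules) (h₁ : FlatMod.IsFinLocFree E₁) (h₂ : FlatMod.IsFinLocFree E₂)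
    [Nontrivial (Coh.HH X E₁ 0)] [Nontrivial (Coh.HH X E₂ 0)] :
    Module.finrank k (Coh.HH X E₁ 0) + Module.finrank k (Coh.HH X E₂ 0) ≤
      Module.finrank k (Coh.HH X (CohB1.tensorMod E₁ E₂) 0) + 1 := by
  haveI := CurveCohLib.isNoetherian_of_proper (k := k) (X := X)
  have hc₁ : Coh.IsCoh E₁ := QCoh.isCoh_iff_isFP.2 (QCoh.isFP_of_isFinLocFree h₁)
  have hc₂ : Coh.IsCoh E₂ := QCoh.isCoh_iff_isFP.2 (QCoh.isFP_of_isFinLocFree h₂)
  have hcT : Coh.IsCoh (CohB1.tensorMod E₁ E₂) := AmpleVan.isCoh_tensor hc₁ hc₂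
  let η := genericPoint X
  let K : Type u := X.presheaf.stalk η
  letI : Field K := (CurveBundle.isField_stalk_generic (X := X)).toField
  letI : Algebra k K := (Curv2.stalkMap k X η).toAlgebra
  let F := DerSch.stalkFunctor X η
  let A : Type u := E₁.presheaf.stalk η
  let B : Type u := E₂.presheaf.stalk η
  let T : Type u := (CohB1.tensorMod E₁ E₂).presheaf.stalk η
  letI : Module K A := inferInstanceAs (Module (X.presheaf.stalk η) (E₁.presheaf.stalk η))
  letI : Module K B := inferInstanceAs (Module (X.presheaf.stalk η) (E₂.presheaf.stalk η))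
  letI : Module K T := inferInstanceAs (Module (X.presheaf.stalk η) ((CohB1.tensorMod E₁ E₂).presheaf.stalk η))
  haveI : Module.Finite K A := CurveBundle.finite_stalk_of_coh hc₁ η
  haveI : Module.Finite K B := CurveBundle.finite_stalk_of_coh hc₂ η
  letI : Module k A := Module.compHom A (algebraMap k K)
  letI : Module k B := Module.compHom B (algebraMap k K)
  letI : Module k T := Module.compHom T (algebraMap k K)
  haveI : IsScalarTower k K A := IsScalarTower.of_algebraMap_smul fun _ _ => rfl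
  haveI : IsScalarTower k K B := IsScalarTower.of_algebraMap_smul fun _ _ => rfl
  haveI : IsScalarTower k K T := IsScalarTower.of_algebraMap_smul fun _ _ => rfl
  let g₁ : Coh.HH X E₁ 0 →ₗ[k] A :=
    { toFun := fun t => E₁.presheaf.germ ⊤ η trivial (Sheaf.H.equiv₀ (Coh.toAb E₁) isTerminalTop t : Γ(E₁, ⊤))
      map_add' := fun a b => (congrArg (E₁.presheaf.germ ⊤ η trivial)
        (map_add (Sheaf.H.equiv₀ (Coh.toAb E₁) isTerminalTop) a b)).trans (map_add _ _ _)
      map_smul' := fun a t => CurveCohLib.germ_h0Equiv_smul E₁ a t η }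
  let g₂ : Coh.HH X E₂ 0 →ₗ[k] B :=
    { toFun := fun t => E₂.presheaf.germ ⊤ η trivial (Sheaf.H.equiv₀ (Coh.toAb E₂) isTerminalTop t : Γ(E₂, ⊤))
      map_add' := fun a b => (congrArg (E₂.presheaf.germ ⊤ η trivial)
        (map_add (Sheaf.H.equiv₀ (Coh.toAb E₂) isTerminalTop) a b)).trans (map_add _ _ _)
      map_smul' := fun a t => CurveCohLib.germ_h0Equiv_smul E₂ a t η }
  let g : Coh.HH X (CohB1.tensorMod E₁ E₂) 0 →ₗ[k] T :=
    { toFun := fun t => (CohB1.tensorMod E₁ E₂).presheaf.germ ⊤ η trivial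
        (Sheaf.H.equiv₀ (Coh.toAb (CohB1.tensorMod E₁ E₂)) isTerminalTop t : Γ(CohB1.tensorMod E₁ E₂, ⊤))
      map_add' := fun a b => (congrArg ((CohB1.tensorMod E₁ E₂).presheaf.germ ⊤ η trivial)
        (map_add (Sheaf.H.equiv₀ (Coh.toAb (CohB1.tensorMod E₁ E₂)) isTerminalTop) a b)).trans (map_add _ _ _)
      map_smul' := fun a t => CurveCohLib.germ_h0Equiv_smul (CohB1.tensorMod E₁ E₂) a t η }
  have hinj₁ : Function.Injective g₁ := (injective_iff_map_eq_zero g₁).2 fun t ht =>
    (Sheaf.H.equiv₀ (Coh.toAb E₁) isTerminalTop).injective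
      ((TorLib.eq_zero_of_germ_genericPoint hc₁.1 (torsionFree X h₁) (U := ⊤) trivial _ ht).trans
        (map_zero (Sheaf.H.equiv₀ (Coh.toAb E₁) isTerminalTop)).symm)
  have hinj₂ : Function.Injective g₂ := (injective_iff_map_eq_zero g₂).2 fun t ht =>
    (Sheaf.H.equiv₀ (Coh.toAb E₂) isTerminalTop).injective
      ((TorLib.eq_zero_of_germ_genericPoint hc₂.1 (torsionFree X h₂) (U := ⊤) trivial _ ht).trans
        (map_zero (Sheaf.H.equiv₀ (Coh.toAb E₂) isTerminalTop)).symm)
  haveI := CurveCohLib.finite_HH (k := k) hc₁ 0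
  haveI := CurveCohLib.finite_HH (k := k) hc₂ 0
  haveI := CurveCohLib.finite_HH (k := k) hcT 0
  let e : T ≃ₗ[K] A ⊗[K] B := (KFlatLib.stalkTensorIso η E₁ E₂).toLinearEquiv.symm
  have hne : ∀ {M N : Type u} [AddCommGroup M] [Module k M] [AddCommGroup N] [Module k N] [Nontrivial M]
      (f : M →ₗ[k] N), Function.Injective f → LinearMap.range f ≠ ⊥ := by
    intro M N _ _ _ _ _ f hf h
    obtain ⟨m, hm⟩ := exists_ne (0 : M)
    exact hm (hf (by rw [map_zero]; exact (Submodule.mem_bot k).1 (h ▸ LinearMap.mem_range_self f m)))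
  have key := HopfVar.finrank_add_le_tensor A B T e (LinearMap.range g₁) (LinearMap.range g₂)
    (hne g₁ hinj₁) (hne g₂ hinj₂) (LinearMap.range g) (by
      rintro _ ⟨s, rfl⟩ _ ⟨t, rfl⟩
      let σ : Γ(E₁, ⊤) := Sheaf.H.equiv₀ (Coh.toAb E₁) isTerminalTop s
      let τ : Γ(E₂, ⊤) := Sheaf.H.equiv₀ (Coh.toAb E₂) isTerminalTop t
      refine ⟨(Sheaf.H.equiv₀ (Coh.toAb (CohB1.tensorMod E₁ E₂)) isTerminalTop).symm
        (KFlatLib.tmSh E₁ E₂ σ τ), ?_⟩
      refine (congrArg ((CohB1.tensorMod E₁ E₂).presheaf.germ ⊤ η trivial) (AddEquiv.apply_symm_apply _ _)).trans ?_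
      exact (KFlatLib.stalkTensorIso_gm E₁ E₂ ⊤ trivial σ τ).symm)
  rw [LinearMap.finrank_range_of_inj hinj₁, LinearMap.finrank_range_of_inj hinj₂] at key
  have := LinearMap.finrank_range_le g
  omega

end Aux

/-- Let k be an algebraically closed field, X an irreducible variety over k, taken here complete (X
integral and proper over k, so that spaces of global sections are finite-dimensional), and E_1, E_2
vector bundles (finite locally free O_X-modules) on X with H^0(X, E_1) ≠ 0 and H^0(X, E_2) ≠ 0. Then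
dim_k H^0(X, E_1 ⊗ E_2) ≥ dim_k H^0(X, E_1) + dim_k H^0(X, E_2) − 1. (The published statement allows
any irreducible variety; for non-complete X the spaces of sections may be infinite-dimensional and
the inequality carries no content, so X is taken complete here.) -/
theorem result (k : Type u) [Field k] [IsAlgClosed k]
    (X : Scheme.{u}) [X.Over (Spec (CommRingCat.of k))] [IsIntegral X] [IsProper (X ↘ (Spec (CommRingCat.of k)))]
    (E₁ E₂ : X.Modules) (h₁ : FlatMod.IsFinLocFree E₁) (h₂ : FlatMod.IsFinLocFree E₂)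
    [Nontrivial (Coh.HH X E₁ 0)] [Nontrivial (Coh.HH X E₂ 0)] :
    Module.finrank k (Coh.HH X E₁ 0) + Module.finrank k (Coh.HH X E₂ 0) ≤
      Module.finrank k (Coh.HH X (CohB1.tensorMod E₁ E₂) 0) + 1 := by
    exact Groth.Agent.S14518.aux k X E₁ E₂ h₁ h₂

end Groth.Agent.S14518
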