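import Groth.Statements.S14522
import Groth.Agent.Big.Cartier

set_option autoImplicit false
universe u
open CategoryTheory CategoryTheory.Limits AlgebraicGeometry
open Variety

attribute [-instance] CategoryTheory.catToReflQuiver

namespace Groth.Agent.S14522

open Groth.Agent Groth.Agent.H23.PicMul

/-- Let k be an algebraically closed field, X an irreducible complete variety over k (integral and
proper over k) of dimension at most d, L_1, …, L_r line bundles with tensor inverses M_1, …, M_r, F
a coherent O_X-module with dim Supp F ≤ r + 1, and D an effective Cartier divisor on X (a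
quasi-coherent ideal I_D locally generated by one nonzerodivisor) whose support contains no
associated point of F. Then (L_1⋯L_r·O_X(D); F) = (L_1⋯L_r; F ⊗ O_D): with intersection numbers
written as the alternating Euler-characteristic sums in the inverses (the prelude's FGA.intNum), the
(r+1)-fold number of F in M_1, …, M_r, I_D equals the r-fold number of F ⊗ O_D in M_1, …, M_r (for r
= 0 the right side is χ(F ⊗ O_D) = h^0(F ⊗ O_D)). -/
theorem result (k : Type u) [Field k] [IsAlgClosed k]
    (X : Scheme.{u}) [X.Over (Spec (CommRingCat.of k))] [IsIntegral X] [IsProper (X ↘ (Spec (CommRingCat.of k)))] (d : ℕ) (hd : topologicalKrullDim X ≤ d)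
    {r : ℕ} (M : Fin r → X.Modules) (hM : ∀ i, PicF.IsInvertible (M i))
    (F : X.Modules) (hF : Coh.IsCoh F) (hsupp : topologicalKrullDim ↥(CohB1.support F) ≤ r + 1)
    (D : X.IdealSheafData) (hD : BlowUp.IsEffCartierIdeal D) (hass : ∀ x ∈ D.support, ¬ Curv2.IsAssPoint F x) :
    FGA.intNum k X d (Fin.snoc M (ClSub.idealMod D)) F = FGA.intNum k X d M (CohB1.tensorMod F (ClSub.quotMod D)) := by
  haveI := CurveCohLib.isNoetherian_of_proper (k := k) (X := X)
  have hI := Big.isInvertible_ideal hD
  haveI := Big.mono_tw_ideal hD hF hass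
  have hQ : Coh.IsCoh (CohB1.tensorMod F (ClSub.quotMod D)) := AmpleVan.isCoh_tensor hF (ParShLib.isCoh_quotMod D)
  have h1 : ∀ i, PicF.IsInvertible ((Fin.snoc M (ClSub.idealMod D) : Fin (r + 1) → X.Modules) i) :=
    Fin.lastCases (by simpa using hI) (fun j => by simpa using hM j)
  have h := Big.alt_cons_ideal k hM hF hI
  rw [Big.alt_cons, ← Big.alt_snoc k] at h
  rw [← Big.intNum_eq_alt k hd h1 hF, ← Big.intNum_eq_alt k hd hM hQ] at h
  exact_mod_cast h

end Groth.Agent.S14522
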