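import Groth.Statements.S14525
import Groth.Agent.Big.Surface
import Groth.Agent.AmpleNeg.Basic
import Groth.Agent.AmpleX.Generated
import Groth.Agent.CurveCohLib.SmoothCurve

set_option autoImplicit false
universe u
open CategoryTheory CategoryTheory.Limits AlgebraicGeometry
open Surf

attribute [-instance] CategoryTheory.catToReflQuiver

namespace Groth.Agent.S14525

open Groth.Agent Groth.Agent.H23.PicMul

/-- Let k be an algebraically closed field, X a smooth projective surface over k (integral, smooth over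
k, of dimension two, with a closed immersion over k into some projective space), L an invertible
O_X-module with tensor inverse L' such that (L·L) > 0, and M an ample invertible module with tensor
inverse M'; intersection numbers are the alternating Euler-characteristic sums in the inverses (the
prelude's FGA.intNum, so (L·L) is computed in L', L' and (L·M) in L', M'). Then (L·M) ≠ 0; if (L·M)
> 0 there is c > 0 with dim_k H^0(X, L^{⊗m}) > c·m² for all large m, and if (L·M) < 0 the same holds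
for L' in place of L. -/
theorem result (k : Type u) [Field k] [IsAlgClosed k]
    (X : Scheme.{u}) [X.Over (Spec (CommRingCat.of k))] [IsIntegral X] [Smooth (X ↘ (Spec (CommRingCat.of k)))] (hdim : topologicalKrullDim X = 2)
    (hprojX : ∃ (N : ℕ) (ι : X ⟶ CohB1.ProjSpace N k), IsClosedImmersion ι ∧ ι ≫ CohB1.ProjSpace.toSpec N k = (X ↘ (Spec (CommRingCat.of k))))
    (L L' : X.Modules) (hL : PicF.IsInvertible L) (hLL' : ClSub.IsInverseOf L L')
    (hpos : 0 < FGA.intNum k X 2 ![L', L'] (Coh.structureModule X))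
    (M M' : X.Modules) (hM : CohB1.IsAmple M) (hMM' : ClSub.IsInverseOf M M') :
    FGA.intNum k X 2 ![L', M'] (Coh.structureModule X) ≠ 0 ∧
    (0 < FGA.intNum k X 2 ![L', M'] (Coh.structureModule X) →
      ∃ c : ℚ, 0 < c ∧ ∃ m₀ : ℕ, ∀ m : ℕ, m₀ ≤ m →
        c * (m : ℚ) ^ 2 < (Module.finrank k (Coh.HH X (CohB1.tensorPow L m) 0) : ℚ)) ∧
    (FGA.intNum k X 2 ![L', M'] (Coh.structureModule X) < 0 →
      ∃ c : ℚ, 0 < c ∧ ∃ m₀ : ℕ, ∀ m : ℕ, m₀ ≤ m →
        c * (m : ℚ) ^ 2 < (Module.finrank k (Coh.HH X (CohB1.tensorPow L' m) 0) : ℚ)) := by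
  obtain ⟨N, ι, hι, hιs⟩ := hprojX
  haveI := hι
  haveI := PnCoh.Chow.isProper_toSpec N k
  haveI : IsProper (X ↘ Spec (CommRingCat.of k)) := hιs ▸ inferInstance
  haveI := CurveCohLib.isNoetherian_of_proper (k := k) (X := X)
  haveI : CompactSpace X := QuasiCompact.compactSpace_of_compactSpace (X ↘ Spec (CommRingCat.of k))
  haveI : X.IsSeparated := AmpleVan.isSeparated_of_proper (X := X) (A := k)
  have hL' := AmpleNeg.isInvertible_inverse hL hLL'
  have hM' := AmpleNeg.isInvertible_inverse hM.1 hMM'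
  have hLc := Big.cl_mul_eq_one hLL'
  have hMc := Big.cl_mul_eq_one hMM'
  have hdim2 : topologicalKrullDim X ≤ ((2 : ℕ) : WithBot ℕ∞) := hdim.le
  obtain ⟨c, hc⟩ := Big.exists_quad k hdim.le hL hM.1
  obtain ⟨e3, e4⟩ := Big.quad_inverses k hdim hL hL' hLc hM.1 hM' hMc hc
  have h3 : 0 < c 3 := by
    have : (0 : ℚ) < 2 * c 3 := e3 ▸ Int.cast_pos.2 hpos
    linarith
  refine ⟨fun h0 => ?_, fun hp => ?_, fun hn => ?_⟩
  · have h4 : c 4 = 0 := by rw [← e4, h0, Int.cast_zero]
    obtain ⟨s, -, hs⟩ := AmpleX.eventually_ample_tensor hM hL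
    obtain ⟨hH, -⟩ := hs s le_rfl
    let H := CohB1.tensorMod (CohB1.tensorPow M s) L
    have hcH : Big.Quad k L H ![c 0, c 1, c 1 + s * c 2, c 3, 2 * c 3 + s * c 4,
        c 3 + s * c 4 + (s : ℚ) ^ 2 * c 5] := fun a b => by
      rw [show Big.qf ![c 0, c 1, c 1 + s * c 2, c 3, 2 * c 3 + s * c 4,
        c 3 + s * c 4 + (s : ℚ) ^ 2 * c 5] a b = Big.qf c ((a + b : ℕ) : ℚ) ((s * b : ℕ) : ℚ) by
          simp only [Big.qf, Matrix.cons_val]; push_cast; ring, ← hc (a + b) (s * b)]
      exact congrArg Int.cast (CurveCohLib.euler_congr (k := k) ((cl_eq_iff.1 (by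
        rw [cl_tensor, cl_tensor, cl_tensorPow, cl_tensorPow, cl_tensorPow, cl_tensorPow, cl_tensor, cl_tensorPow,
          mul_pow, pow_add, ← pow_mul]
        ac_rfl)).some))
    obtain ⟨n₀, hn⟩ := Big.exists_growth_of_quad k hdim hH hL hcH h3 (by
      show (0 : ℚ) < 2 * c 3 + s * c 4
      rw [h4, mul_zero, add_zero]; linarith)
    have h := hn (n₀ + 1) (Nat.le_succ _)
    have h' : (0 : ℚ) ≤ c 3 / 2 * ((n₀ + 1 : ℕ) : ℚ) ^ 2 := by positivity
    have := Big.quad_pos_of_section k hdim hM hL hc h3 (n := n₀ + 1) (Nat.succ_pos _)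
      (by exact_mod_cast lt_of_le_of_lt h' h)
    linarith
  · have h4 : 0 < c 4 := e4 ▸ Int.cast_pos.2 hp
    obtain ⟨n₀, hn⟩ := Big.exists_growth_of_quad k hdim hM hL hc h3 h4
    exact ⟨c 3 / 2, by linarith, n₀, hn⟩
  · have h4 : c 4 < 0 := e4 ▸ Int.cast_lt_zero.2 hn
    obtain ⟨n₀, hn⟩ := Big.exists_growth_of_quad k hdim hM hL' (hc.flip k hdim2 hL hM.1 hL' hLc)
      (show (0 : ℚ) < c 3 from h3) (show (0 : ℚ) < -c 4 from neg_pos.2 h4)
    exact ⟨c 3 / 2, by linarith, n₀, hn⟩

end Groth.Agent.S14525
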