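import Groth.Statements.S1453
-- import your own Groth.Agent.* helpers here
import Groth.Agent.H4RG.GeomConnFibre
import Groth.Agent.H4RG.OpenFibre

set_option backward.isDefEq.respectTransparency.types false

set_option autoImplicit false
universe u
open FlatMor

namespace Groth.Agent.S1453

open AlgebraicGeometry CategoryTheory Limits in
/-- Let f : X → Y be flat and of finite presentation with all fibres geometrically reduced, let Z → Y be
finite locally free with a Y-morphism σ : Z → X, and let y be a point with Z_y nonempty and X_y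
geometrically connected. Then there is a quasi-compact open X⁰ of X containing the whole fibre X_y
such that every nonempty fibre of X⁰ → Y is geometrically connected. -/
theorem result {X Y Z : Scheme.{u}} (f : X ⟶ Y) [Flat f] [LocallyOfFinitePresentation f] [QuasiCompact f] [QuasiSeparated f]
    [GeometricallyReduced f] (g : Z ⟶ Y) (hg : Mor2.IsFinLocFree g) (σ : Z ⟶ X) (hσ : σ ≫ f = g) (y : Y) (hZy : y ∈ Set.range ⇑g)
    (hXy : GeometricallyConnected (f.fiberToSpecResidueField y)) :
    ∃ U : X.Opens, IsCompact (U : Set ↑X) ∧ f ⁻¹' {y} ⊆ (U : Set ↑X) ∧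
      ∀ y' : Y, (∃ x ∈ U, f x = y') → GeometricallyConnected ((U.ι ≫ f).fiberToSpecResidueField y') := by
  classical
  obtain ⟨hgfin, hgflat, hgfp⟩ := hg
  haveI := hgfin; haveI := hgflat; haveI := hgfp
  let P := pullback f g
  let f' := pullback.snd f g
  let q := pullback.fst f g
  haveI : GeometricallyReduced f' := inferInstance
  let σ' : Z ⟶ P := pullback.lift σ (𝟙 Z) (by rw [hσ, Category.id_comp])
  have hσ' : σ' ≫ f' = 𝟙 Z := pullback.lift_snd _ _ _
  let W : P.Opens := ⟨_, Groth.Agent.H4RG.isOpen_sectionComponents_of_geometricallyReduced f' σ' hσ'⟩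
  haveI : GeometricallyConnected (W.ι ≫ f') :=
    Groth.Agent.H4RG.geometricallyConnected_sectionComponents f' σ' hσ' W rfl
  haveI : IsFinite q := MorphismProperty.pullback_fst f g inferInstance
  haveI : LocallyOfFinitePresentation q := MorphismProperty.pullback_fst f g inferInstance
  haveI : UniversallyOpen g := inferInstance
  let V : X.Opens := ⟨(q '' (W : Set P)ᶜ)ᶜ, (q.isClosedMap _ W.isOpen.isClosed_compl).isOpen_compl⟩
  obtain ⟨Y₁, hY₁, hyY₁, hY₁r⟩ := exists_isAffineOpen_mem_and_subset (x := y)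
    (U := (⟨Set.range g, g.isOpenMap.isOpen_range⟩ : Y.Opens)) hZy
  let X₁ : X.Opens := f ⁻¹ᵁ Y₁
  haveI : IsAffine (Y₁ : Scheme.{u}) := hY₁
  haveI : CompactSpace (X₁ : Scheme.{u}) := QuasiCompact.compactSpace_of_compactSpace (f ∣_ Y₁)
  haveI : QuasiSeparatedSpace (X₁ : Scheme.{u}) := quasiSeparatedSpace_of_quasiSeparated (f ∣_ Y₁)
  have hVlc : Topology.IsLocallyConstructible (V : Set X) := by
    refine Groth.Agent.H4RG.isLocallyConstructible_compl' (q.isLocallyConstructible_image (Groth.Agent.H4RG.isLocallyConstructible_compl' ?_))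
    exact Groth.Agent.S1326.result f' σ' hσ'
  have hU : IsCompact ((V ⊓ X₁ : X.Opens) : Set X) := by
    have h1 : IsCompact (X₁.ι ⁻¹' (V : Set X)) := Groth.Agent.H4RG.isCompact_of_constructible
      (hVlc.preimage_of_isOpenEmbedding X₁.ι.isOpenEmbedding).isConstructible
    have h2 := h1.image X₁.ι.continuous
    rw [Set.image_preimage_eq_inter_range, Scheme.Opens.range_ι] at h2
    exact h2
  refine ⟨V ⊓ X₁, hU, fun x hx => ?_, fun y' hy' => ?_⟩
  · refine ⟨?_, show f x ∈ Y₁ by rw [show f x = y from hx]; exact hyY₁⟩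
    rintro ⟨w, hw, rfl⟩
    refine hw ?_
    have hgy : g (f' w) = y := by
      rw [← Scheme.Hom.comp_apply, ← pullback.condition, Scheme.Hom.comp_apply]
      exact hx
    haveI := Groth.Agent.H4RG.connectedSpace_fiber_baseChange f g q f' (IsPullback.of_hasPullback f g) y (f' w) hgy
    haveI : ConnectedSpace ↥(f' ⁻¹' {f' w}) := (f'.fiberHomeo (f' w)).connectedSpace_iff.1 inferInstance
    have hc : _root_.IsPreconnected (f' ⁻¹' {f' w}) := (isConnected_iff_connectedSpace.2 ‹_›).isPreconnected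
    show w ∈ connectedComponentIn (f' ⁻¹' {f' w}) (σ' (f' w))
    rw [hc.connectedComponentIn (by show f' (σ' (f' w)) = f' w; rw [← Scheme.Hom.comp_apply, hσ']; rfl)]
    exact rfl
  · obtain ⟨x₀, hx₀, rfl⟩ := hy'
    refine Groth.Agent.Pi1X.geometricallyConnected_of_isAlgClosed _ fun Ω _ _ xr => ?_
    let x : Spec (CommRingCat.of Ω) ⟶ Y := xr ≫ Y.fromSpecResidueField (f x₀)
    have hxpt : ∀ t, x t = f x₀ := fun t => by
      rw [Scheme.Hom.comp_apply, Scheme.fromSpecResidueField_apply]
    let e : pullback (((V ⊓ X₁).ι ≫ f).fiberToSpecResidueField (f x₀)) xr ≅ pullback ((V ⊓ X₁).ι ≫ f) x :=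
      pullbackLeftPullbackSndIso ((V ⊓ X₁).ι ≫ f) (Y.fromSpecResidueField (f x₀)) xr
    suffices hc : _root_.IsConnected ((pullback.fst f x) ⁻¹' ((V ⊓ X₁ : X.Opens) : Set X)) by
      haveI := Groth.Agent.H4RG.connectedSpace_pullback_open f (V ⊓ X₁) x hc
      exact e.hom.homeomorph.connectedSpace_iff.2 ‹_›
    have hX₁ : ∀ z : ↑(pullback f x), pullback.fst f x z ∈ X₁ := fun z => by
      show f (pullback.fst f x z) ∈ Y₁
      rw [← Scheme.Hom.comp_apply, pullback.condition, Scheme.Hom.comp_apply, hxpt]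
      exact hx₀.2
    have heq : (pullback.fst f x) ⁻¹' ((V ⊓ X₁ : X.Opens) : Set X) = (pullback.fst f x) ⁻¹' (q '' (W : Set P)ᶜ)ᶜ :=
      Set.ext fun z => ⟨fun h => h.1, fun h => ⟨h, hX₁ z⟩⟩
    rw [heq]
    refine Groth.Agent.H4RG.isConnected_preimage_descent f g x W
      (Groth.Agent.H4RG.isClosed_preimage_sectionComponents f' σ' hσ') ?_ ?_
    · obtain ⟨z, hz, -⟩ := Scheme.Pullback.exists_preimage_pullback (f := f) (g := x) x₀ (IsLocalRing.closedPoint Ω)
        (hxpt _).symm
      refine ⟨z, ?_⟩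
      show pullback.fst f x z ∈ (q '' (W : Set P)ᶜ)ᶜ
      rw [hz]
      exact hx₀.1
    · rintro _ ⟨t, rfl⟩
      rw [hxpt]
      exact hY₁r hx₀.2

end Groth.Agent.S1453
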