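import Groth.Statements.S19705
import Groth.Agent.Deform.AntiAffineParts
import Groth.Agent.GrpSchLib.MonoSubgroup
import Mathlib.CategoryTheory.Limits.Constructions.Over.Connected

set_option autoImplicit false
universe u
open CategoryTheory MonoidalCategory CartesianMonoidalCategory MonObj GrpObj AlgebraicGeometry CategoryTheory.Limits
open AlgGrp

namespace Groth.Agent.S19705
set_option linter.style.haveILetI false

open CategoryTheory CategoryTheory.Limits MonoidalCategory CartesianMonoidalCategory MonObj GrpObj AlgebraicGeometry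

attribute [local instance] CategoryTheory.Hom.monoid CategoryTheory.Hom.group


/-- Let k be a field and G a connected k-group scheme of finite type, not necessarily smooth. Let i : N
→ G be a closed normal subgroup scheme which is affine and is the kernel of a flat surjective
homomorphism q : G → A of k-group schemes of finite type with A proper, and let j : M → G be the
largest anti-affine closed subgroup scheme G_ant of G (O(M) = k, and every anti-affine closed
subgroup scheme of G factors through M). Then the multiplication morphism N × M → G is surjective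
(on underlying topological spaces), and every closed subgroup scheme H of G for which the
multiplication H × N → G is surjective contains G_ant, i.e. M factors through H. (The published
statement takes N = G_aff, the smallest connected affine normal subgroup scheme whose quotient is an
abelian variety; the row allows any affine closed normal subgroup scheme N whose quotient G/N is
proper, for which the same argument applies.) -/
theorem result (k : Type u) [Field k]
    (G : Over (Spec (CommRingCat.of k))) [GrpObj G] [LocallyOfFiniteType G.hom] [QuasiCompact G.hom] [ConnectedSpace ↥G.left]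
    (N : Over (Spec (CommRingCat.of k))) [GrpObj N] (i : N ⟶ G) [IsMonHom i] [IsClosedImmersion i.left] [IsAffine N.left]
    (hN : AlgGrp.IsNormalHom i)
    (A : Over (Spec (CommRingCat.of k))) [GrpObj A] [IsProper A.hom]
    (q : G ⟶ A) [IsMonHom q] [Surjective q.left] [Flat q.left] (hq : AlgGrp.IsKernel i q)
    (M : Over (Spec (CommRingCat.of k))) [GrpObj M] [LocallyOfFiniteType M.hom] [QuasiCompact M.hom] (j : M ⟶ G) [IsMonHom j] [IsClosedImmersion j.left]
    (hM : Function.Bijective ((Scheme.ΓSpecIso (CommRingCat.of k)).inv ≫ M.hom.appTop).hom)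
    (hMmax : ∀ (M₁ : Over (Spec (CommRingCat.of k))) [GrpObj M₁] [LocallyOfFiniteType M₁.hom] [QuasiCompact M₁.hom] (j₁ : M₁ ⟶ G) [IsMonHom j₁] [IsClosedImmersion j₁.left],
      Function.Bijective ((Scheme.ΓSpecIso (CommRingCat.of k)).inv ≫ M₁.hom.appTop).hom → ∃ g : M₁ ⟶ M, g ≫ j = j₁) :
    Surjective ((i ⊗ₘ j) ≫ μ[G]).left ∧
      ∀ (H : Over (Spec (CommRingCat.of k))) [GrpObj H] (h : H ⟶ G) [IsMonHom h] [IsClosedImmersion h.left],
        Surjective ((h ⊗ₘ i) ≫ μ[G]).left → ∃ g : M ⟶ H, g ≫ h = j := by
  haveI := GrpSchLib.AntiAffine.isSeparated_grp G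
  haveI : ConnectedSpace ↥A.left := q.left.surjective.connectedSpace q.left.continuous
  haveI : LocallyOfFiniteType N.hom := by rw [← Over.w i]; infer_instance
  have hqi : i ≫ q = 1 := hq.w
  refine ⟨?_, fun H _ h _ _ hsurj => ?_⟩
  · obtain ⟨K, iK, κ, hκ, hκc, hKl, hKq, hK, I, iI, p, hp, hI, hIl, hpf, hps, hk⟩ := Deform.AntiAffineParts.exists_ant G
    letI := iK; letI := iI
    haveI := hκ; haveI := hκc; haveI := hKl; haveI := hKq; haveI := hp; haveI := hI; haveI := hIl; haveI := hpf; haveI := hps
    haveI := Deform.AntiAffineParts.surjective_proper hK κ p hk q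
    obtain ⟨g, hg⟩ := hMmax K κ ((GrpSchLib.AntiAffine.bijective_appTop_iff K.hom).mpr hK)
    haveI hs := Deform.AntiAffineParts.surjective_mul i q hq κ
    have e : (i ⊗ₘ κ) ≫ μ[G] = (N ◁ g) ≫ (i ⊗ₘ j) ≫ μ[G] := by
      rw [← Category.assoc]
      congr 1
      apply CartesianMonoidalCategory.hom_ext <;> simp [hg]
    haveI : Surjective ((N ◁ g).left ≫ ((i ⊗ₘ j) ≫ μ[G]).left) := by rw [← Over.comp_left, ← e]; exact hs
    exact Surjective.of_comp (N ◁ g).left _
  haveI : LocallyOfFiniteType H.hom := by rw [← Over.w h]; infer_instance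
  haveI : QuasiCompact H.hom := by rw [← Over.w h]; infer_instance
  haveI : Surjective (h ≫ q).left := by
    have e : ((h ⊗ₘ i) ≫ μ[G]) ≫ q = fst H N ≫ h ≫ q := by
      rw [show (h ⊗ₘ i) ≫ μ[G] = (fst H N ≫ h) * (snd H N ≫ i) from by
        rw [Hom.mul_def]; congr 1]
      rw [MonObj.mul_comp, Category.assoc, Category.assoc, hqi, MonObj.comp_one, _root_.mul_one]
    haveI := hsurj
    haveI : Surjective ((fst H N).left ≫ (h ≫ q).left) := by
      rw [← Over.comp_left, ← e, Over.comp_left]; infer_instance
    exact Surjective.of_comp (fst H N).left _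
  obtain ⟨K, iK, κ, hκ, hκc, hKl, hKq, hK, I, iI, p, hp, hI, hIl, hpf, hps, hk⟩ := Deform.AntiAffineParts.exists_ant H
  letI := iK; letI := iI
  haveI := hκ; haveI := hκc; haveI := hKl; haveI := hKq; haveI := hp; haveI := hI; haveI := hIl; haveI := hpf; haveI := hps
  haveI : Surjective ((κ ≫ h) ≫ q).left := by
    rw [Category.assoc]; exact Deform.AntiAffineParts.surjective_proper hK κ p hk (h ≫ q)
  haveI hs := Deform.AntiAffineParts.surjective_mul i q hq (κ ≫ h)
  haveI : IsClosedImmersion (κ ≫ h).left := by rw [Over.comp_left]; infer_instance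
  haveI : Mono (κ ≫ h) := (Over.forget _).mono_of_mono_map (inferInstanceAs (Mono (κ ≫ h).left))
  haveI : Flat K.hom := Deform.AffineKernel.flat_over_field _
  haveI : Flat G.hom := Deform.AffineKernel.flat_over_field _
  have hn : AlgGrp.IsNormalHom (κ ≫ h) := fun T g n => ⟨n, by
    rw [← GrpSchLib.AntiAffine.commute hK (κ ≫ h) (by rw [IsMonHom.one_hom, MonObj.one_eq_one]) n g,
      mul_inv_cancel_right]⟩
  obtain ⟨G', π, hπf, hπs, hπl, sq, hsep, hGl, -, -⟩ := Deform.QuotArtin.exists_quot (κ ≫ h)
  haveI := hπf; haveI := hπs; haveI := hπl; haveI := hsep; haveI := hGl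
  obtain ⟨gG', hπ, hπk⟩ := Deform.QuotGroup.exists_grpObj (κ ≫ h) π sq hn
  haveI := hπ
  haveI : LocallyOfFiniteType G'.hom := inferInstance
  haveI : QuasiCompact G'.hom := by
    haveI : CompactSpace G.left := QuasiCompact.compactSpace_of_compactSpace G.hom
    haveI : CompactSpace G'.left := π.left.surjective.compactSpace π.left.continuous
    exact (quasiCompact_iff_compactSpace G'.hom).mpr inferInstance
  haveI : Surjective (i ≫ π).left := by
    have hjπ : (κ ≫ h) ≫ π = 1 := hπk.w
    have e : ((i ⊗ₘ (κ ≫ h)) ≫ μ[G]) ≫ π = fst N K ≫ i ≫ π := by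
      rw [show (i ⊗ₘ (κ ≫ h)) ≫ μ[G] = (fst N K ≫ i) * (snd N K ≫ (κ ≫ h)) from by
        rw [Hom.mul_def]; congr 1]
      rw [MonObj.mul_comp, Category.assoc, Category.assoc (snd N K), hjπ, MonObj.comp_one, _root_.mul_one]
    haveI : Surjective ((fst N K).left ≫ (i ≫ π).left) := by
      rw [← Over.comp_left, ← e, Over.comp_left]; infer_instance
    exact Surjective.of_comp (fst N K).left _
  obtain ⟨J, iJ, r, c, hr, hc, hJa, hcc, hJl, hrs, hrc⟩ := Deform.AntiAffineParts.exists_affine_image (i ≫ π)
  letI := iJ
  haveI := hr; haveI := hc; haveI := hJa; haveI := hcc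
  haveI : Surjective c.left := by
    haveI : Surjective (r.left ≫ c.left) := by rw [← Over.comp_left, hrc]; infer_instance
    exact Surjective.of_comp r.left c.left
  have hM' := (GrpSchLib.AntiAffine.bijective_appTop_iff M.hom).mp hM
  haveI : Smooth M.hom := GrpSchLib.AntiAffineSmooth.smooth hM'
  haveI : IsReduced M.left := GrpSchLib.isReduced_of_smooth_field M.hom
  obtain ⟨l₀, hl₀⟩ := H23.RedSub.exists_lift_closed (j ≫ π).left c.left
    (fun x _ => c.left.surjective x)
  let l : M ⟶ J := Over.homMk l₀ (by
    show l₀ ≫ J.hom = M.hom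
    rw [← Over.w c, reassoc_of% hl₀, Over.w (j ≫ π)])
  have hl : l ≫ c = j ≫ π := Over.OverMorphism.ext hl₀
  haveI : Mono c := (Over.forget _).mono_of_mono_map (inferInstanceAs (Mono c.left))
  have hl1 : l = 1 := Deform.AntiAffineParts.eq_one_of_isAffine hM' l (by
    rw [← cancel_mono c, Category.assoc, hl, MonObj.one_comp, IsMonHom.one_hom, MonObj.one_eq_one])
  have hjπ : j ≫ π = 1 := by rw [← hl, hl1, MonObj.one_comp]
  exact ⟨hπk.lift j (toUnit M) hjπ ≫ κ, by rw [Category.assoc, hπk.lift_fst]⟩

end Groth.Agent.S19705
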