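import Groth.Statements.S14584
import Groth.Agent.H23.RatProductK
import Groth.Agent.H23.EquidimFibres
import Groth.Agent.Deform.AVFactor
import Groth.Agent.GrpSchLib.FixedAffine

set_option autoImplicit false
universe u
open CategoryTheory MonoidalCategory CartesianMonoidalCategory MonObj GrpObj AlgebraicGeometry CategoryTheory.Limits
open AlgGrp

namespace Groth.Agent.S14584
set_option linter.style.haveILetI false

open CategoryTheory CategoryTheory.Limits MonoidalCategory CartesianMonoidalCategory MonObj GrpObj AlgebraicGeometry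
open CategoryTheory.Functor.Monoidal

attribute [local instance] CategoryTheory.Hom.monoid CategoryTheory.Hom.group

/-- The formula over an algebraically closed field. -/
theorem formula_algClosed {K : Type u} [Field K] [IsAlgClosed K] {X Y A : Over (Spec (CommRingCat.of K))}
    [LocallyOfFiniteType X.hom] [IsSeparated X.hom] [GeometricallyIntegral X.hom]
    [LocallyOfFiniteType Y.hom] [IsSeparated Y.hom] [GeometricallyIntegral Y.hom]
    [GrpObj A] [IsProper A.hom] [GeometricallyIntegral A.hom]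
    (x₀ : 𝟙_ (Over (Spec (CommRingCat.of K))) ⟶ X) (y₀ : 𝟙_ (Over (Spec (CommRingCat.of K))) ⟶ Y) (f : X ⊗ Y ⟶ A) :
    f = (toUnit (X ⊗ Y) ≫ lift x₀ y₀ ≫ f)⁻¹ * (snd X Y ≫ lift (toUnit Y ≫ x₀) (𝟙 Y) ≫ f) *
      (fst X Y ≫ lift (𝟙 X) (toUnit X ≫ y₀) ≫ f) := by
  haveI : IsCommMonObj A := isCommMonObj_of_isProper_of_geometricallyIntegral A
  haveI : IsIntegral X.left := H23.MaxAbelian.isIntegral_of_geometricallyIntegral
  haveI : IsIntegral Y.left := H23.MaxAbelian.isIntegral_of_geometricallyIntegral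
  let sm : ∀ (Z : Over (Spec (CommRingCat.of K))) [LocallyOfFiniteType Z.hom] [IsIntegral Z.left],
      ∃ (U : Over (Spec (CommRingCat.of K))) (i : U ⟶ Z), IsOpenImmersion i.left ∧ Nonempty U.left ∧
        Smooth U.hom ∧ IsIntegral U.left := by
    intro Z _ _
    obtain ⟨z, hz⟩ := (Z.hom).dense_smoothLocus_of_perfectField.nonempty
    haveI : Nonempty ↥Z.hom.smoothLocus := ⟨⟨z, hz⟩⟩
    haveI : Nonempty ↥(Z.hom.smoothLocus : Scheme.{u}) := ⟨⟨z, hz⟩⟩
    haveI : Smooth (Z.hom.smoothLocus.ι ≫ Z.hom) := by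
      rw [← Scheme.Hom.smoothLocus_eq_top_iff, ← Scheme.Hom.preimage_smoothLocus_eq]
      exact Scheme.Opens.ι_preimage_self _
    haveI : IsIntegral (Z.hom.smoothLocus : Scheme.{u}) := isIntegral_of_isOpenImmersion Z.hom.smoothLocus.ι
    exact ⟨Over.mk (Z.hom.smoothLocus.ι ≫ Z.hom), Over.homMk Z.hom.smoothLocus.ι rfl,
      inferInstanceAs (IsOpenImmersion Z.hom.smoothLocus.ι), ⟨⟨z, hz⟩⟩,
      inferInstanceAs (Smooth (Z.hom.smoothLocus.ι ≫ Z.hom)),
      inferInstanceAs (IsIntegral (Z.hom.smoothLocus : Scheme.{u}))⟩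
  obtain ⟨U, i, _, _, _, hUi⟩ := sm X
  obtain ⟨V, j, _, _, _, hVi⟩ := sm Y
  haveI := hUi; haveI := hVi
  haveI : GeometricallyIntegral U.hom := H23.EquidimFibres.geometricallyIntegral_of_isAlgClosed
  haveI : GeometricallyIntegral V.hom := H23.EquidimFibres.geometricallyIntegral_of_isAlgClosed
  haveI : IsSeparated U.hom := by rw [← Over.w i]; infer_instance
  haveI : IsSeparated V.hom := by rw [← Over.w j]; infer_instance
  obtain ⟨u⟩ := H23.RatProductK.exists_point U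
  obtain ⟨v⟩ := H23.RatProductK.exists_point V
  let g : X ⊗ Y ⟶ A := f * (fst X Y ≫ lift (𝟙 X) (toUnit X ≫ v ≫ j) ≫ f)⁻¹ *
    (snd X Y ≫ lift (toUnit Y ≫ u ≫ i) (𝟙 Y) ≫ f)⁻¹ * (toUnit (X ⊗ Y) ≫ lift (u ≫ i) (v ≫ j) ≫ f)
  have hg0 : (i ⊗ₘ j) ≫ g = 1 := by
    refine (H23.RatProduct.eq_const (k := K) u v 1 ((i ⊗ₘ j) ≫ g) ?_ ?_).trans (MonObj.comp_one _)
    · rw [MonObj.comp_one]
      simp only [g, MonObj.comp_mul, GrpObj.comp_inv, lift_map_assoc, lift_fst, lift_snd, lift_fst_assoc, lift_snd_assoc,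
        comp_lift_assoc, comp_toUnit_assoc, toUnit_unique (toUnit (𝟙_ _)) (𝟙 _), Category.id_comp, Category.comp_id,
        Category.assoc]
      rw [mul_inv_cancel, _root_.one_mul, inv_mul_cancel]
    · rw [MonObj.comp_one]
      simp only [g, MonObj.comp_mul, GrpObj.comp_inv, lift_map_assoc, lift_fst, lift_snd, lift_fst_assoc, lift_snd_assoc,
        comp_lift_assoc, comp_toUnit_assoc, toUnit_unique (toUnit (𝟙_ _)) (𝟙 _), Category.id_comp, Category.comp_id,
        Category.assoc]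
      rw [mul_right_comm _ _ (lift (toUnit V ≫ u ≫ i) j ≫ f)⁻¹, mul_inv_cancel, _root_.one_mul, inv_mul_cancel]
  have hg : g = 1 := by
    haveI : IsOpenImmersion (i ⊗ₘ j).left :=
      MorphismProperty.pullback_map (P := @IsOpenImmersion) (i₁ := i.left) (i₂ := j.left) ‹_› ‹_›
        (Over.w i).symm (Over.w j).symm
    haveI := H23.RatExt.geometricallyIntegral_prod U V
    haveI : IsIntegral (U ⊗ V).left := H23.MaxAbelian.isIntegral_of_geometricallyIntegral
    haveI := H23.RatExt.geometricallyIntegral_prod X Y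
    haveI : IsIntegral (X ⊗ Y).left := H23.MaxAbelian.isIntegral_of_geometricallyIntegral
    haveI : IsDominant (i ⊗ₘ j).left :=
      ⟨(i ⊗ₘ j).left.isOpenEmbedding.isOpen_range.dense (Set.range_nonempty _)⟩
    haveI : IsSchemeTheoreticallyDominant (i ⊗ₘ j).left := .of_isDominant _
    exact GrpSchLib.FixedAffine.eq_of_dominant (i ⊗ₘ j) _ _ (hg0.trans (MonObj.comp_one _).symm)
  have key : f = (fst X Y ≫ lift (𝟙 X) (toUnit X ≫ v ≫ j) ≫ f) * (snd X Y ≫ lift (toUnit Y ≫ u ≫ i) (𝟙 Y) ≫ f) *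
      (toUnit (X ⊗ Y) ≫ lift (u ≫ i) (v ≫ j) ≫ f)⁻¹ := by
    rw [eq_mul_inv_iff_mul_eq]
    have h2 : g = 1 := hg
    simp only [g] at h2
    generalize (fst X Y ≫ lift (𝟙 X) (toUnit X ≫ v ≫ j) ≫ f) = a at h2 ⊢
    generalize (snd X Y ≫ lift (toUnit Y ≫ u ≫ i) (𝟙 Y) ≫ f) = b at h2 ⊢
    generalize (toUnit (X ⊗ Y) ≫ lift (u ≫ i) (v ≫ j) ≫ f) = c at h2 ⊢
    have h3 : f * c * (b * a)⁻¹ = 1 := by
      rw [← h2]
      simp only [_root_.mul_inv_rev, _root_.mul_comm, _root_.mul_left_comm, _root_.mul_assoc]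
    rw [mul_inv_eq_one] at h3
    rw [h3, mul_comm b a]
  have e₁ : fst X Y ≫ lift (𝟙 X) (toUnit X ≫ y₀) ≫ f = _ :=
    congrArg (fun t => fst X Y ≫ lift (𝟙 X) (toUnit X ≫ y₀) ≫ t) key
  have e₂ : snd X Y ≫ lift (toUnit Y ≫ x₀) (𝟙 Y) ≫ f = _ :=
    congrArg (fun t => snd X Y ≫ lift (toUnit Y ≫ x₀) (𝟙 Y) ≫ t) key
  have e₃ : toUnit (X ⊗ Y) ≫ lift x₀ y₀ ≫ f = _ :=
    congrArg (fun t => toUnit (X ⊗ Y) ≫ lift x₀ y₀ ≫ t) key
  rw [e₁, e₂, e₃]
  conv_lhs => rw [key]
  simp only [MonObj.comp_mul, GrpObj.comp_inv, lift_fst_assoc, lift_snd_assoc, comp_lift_assoc, comp_toUnit_assoc,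
    Category.id_comp, Category.comp_id, Category.assoc]
  simp only [_root_.mul_inv_rev, _root_.inv_inv]
  simp [_root_.mul_comm, _root_.mul_assoc, _root_.mul_left_comm]


/-- Let k be a field, X and Y varieties over k (separated, geometrically integral k-schemes of finite
type) with rational points x₀ and y₀, A an abelian variety (a proper, smooth, connected k-group
scheme) and f : X × Y → A a k-morphism. Then, in the group of morphisms X × Y → A, f(x, y) = f(x₀,
y₀)⁻¹ · f(x₀, y) · f(x, y₀) identically; additively, f(x, y) − f(x₀, y) − f(x, y₀) + f(x₀, y₀) = 0.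
Neither smoothness nor properness of X, Y is assumed. -/
theorem result (k : Type u) [Field k]
    (X Y A : Over (Spec (CommRingCat.of k)))
    [LocallyOfFiniteType X.hom] [QuasiCompact X.hom] [IsSeparated X.hom] [GeometricallyIntegral X.hom]
    [LocallyOfFiniteType Y.hom] [QuasiCompact Y.hom] [IsSeparated Y.hom] [GeometricallyIntegral Y.hom]
    [GrpObj A] [IsProper A.hom] [Smooth A.hom] [ConnectedSpace ↥A.left]
    (x₀ : 𝟙_ (Over (Spec (CommRingCat.of k))) ⟶ X) (y₀ : 𝟙_ (Over (Spec (CommRingCat.of k))) ⟶ Y) (f : X ⊗ Y ⟶ A) :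
    f = (toUnit (X ⊗ Y) ≫ lift x₀ y₀ ≫ f)⁻¹ * (snd X Y ≫ lift (toUnit Y ≫ x₀) (𝟙 Y) ≫ f) *
      (fst X Y ≫ lift (𝟙 X) (toUnit X ≫ y₀) ≫ f) := by
  haveI := Deform.AVFactor.geometricallyIntegral_smooth A
  let F := H23.RatProductK.bc k
  haveI : LocallyOfFiniteType (F.obj X).hom := inferInstanceAs (LocallyOfFiniteType (pullback.snd X.hom _))
  haveI : IsSeparated (F.obj X).hom := inferInstanceAs (IsSeparated (pullback.snd X.hom _))
  haveI : GeometricallyIntegral (F.obj X).hom := inferInstanceAs (GeometricallyIntegral (pullback.snd X.hom _))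
  haveI : LocallyOfFiniteType (F.obj Y).hom := inferInstanceAs (LocallyOfFiniteType (pullback.snd Y.hom _))
  haveI : IsSeparated (F.obj Y).hom := inferInstanceAs (IsSeparated (pullback.snd Y.hom _))
  haveI : GeometricallyIntegral (F.obj Y).hom := inferInstanceAs (GeometricallyIntegral (pullback.snd Y.hom _))
  haveI : IsProper (F.obj A).hom := inferInstanceAs (IsProper (pullback.snd A.hom _))
  haveI : GeometricallyIntegral (F.obj A).hom := inferInstanceAs (GeometricallyIntegral (pullback.snd A.hom _))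
  letI : GrpObj (F.obj A) := Functor.grpObjObj
  have key := formula_algClosed (Functor.LaxMonoidal.ε F ≫ F.map x₀) (Functor.LaxMonoidal.ε F ≫ F.map y₀)
    (Functor.LaxMonoidal.μ F X Y ≫ F.map f)
  apply F.map_injective
  rw [← cancel_epi (μIso F X Y).hom, μIso_hom]
  refine key.trans ?_
  simp only [Functor.map_mul, Functor.map_inv', Functor.map_comp, MonObj.comp_mul, GrpObj.comp_inv]
  have e₁ : lift (𝟙 (F.obj X)) (toUnit (F.obj X) ≫ Functor.LaxMonoidal.ε F ≫ F.map y₀) ≫ Functor.LaxMonoidal.μ F X Y =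
      F.map (lift (𝟙 X) (toUnit X ≫ y₀)) := by
    rw [← Category.assoc (toUnit _), toUnit_ε, ← F.map_comp, ← F.map_id, lift_μ]
  have e₂ : lift (toUnit (F.obj Y) ≫ Functor.LaxMonoidal.ε F ≫ F.map x₀) (𝟙 (F.obj Y)) ≫ Functor.LaxMonoidal.μ F X Y =
      F.map (lift (toUnit Y ≫ x₀) (𝟙 Y)) := by
    rw [← Category.assoc (toUnit _), toUnit_ε, ← F.map_comp, ← F.map_id, lift_μ]
  have e₃ : toUnit (F.obj X ⊗ F.obj Y) ≫ lift (Functor.LaxMonoidal.ε F ≫ F.map x₀) (Functor.LaxMonoidal.ε F ≫ F.map y₀) ≫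
      Functor.LaxMonoidal.μ F X Y = Functor.LaxMonoidal.μ F X Y ≫ F.map (toUnit (X ⊗ Y)) ≫ F.map (lift x₀ y₀) := by
    have e : Functor.LaxMonoidal.μ F X Y ≫ F.map (toUnit (X ⊗ Y)) =
        toUnit (F.obj X ⊗ F.obj Y) ≫ Functor.LaxMonoidal.ε F := by
      rw [← toUnit_ε (F := F), comp_toUnit_assoc]
    rw [reassoc_of% e, ← lift_μ, comp_lift_assoc, comp_lift_assoc, comp_lift_assoc]
  simp only [reassoc_of% e₁, reassoc_of% e₂, reassoc_of% e₃, μ_fst_assoc, μ_snd_assoc]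

end Groth.Agent.S14584
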