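import Groth.Statements.S14587
import Groth.Agent.GrpSchLib.Shear
import Groth.Agent.GrpSchLib.MonoSubgroup
import Groth.Agent.S10832
import Mathlib.AlgebraicGeometry.Morphisms.FlatMono


set_option autoImplicit false
set_option linter.style.haveILetI false
universe u
open CategoryTheory MonoidalCategory CartesianMonoidalCategory MonObj GrpObj AlgebraicGeometry CategoryTheory.Limits
open AlgGrp

namespace Groth.Agent.S14587
attribute [local instance] CategoryTheory.Hom.monoid CategoryTheory.Hom.group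

theorem flat_over_field {k : Type u} [Field k] {X : Scheme.{u}} (f : X ⟶ Spec (CommRingCat.of k)) : Flat f := by
  haveI : Subsingleton ↥(Spec (CommRingCat.of k)) := inferInstanceAs (Subsingleton (PrimeSpectrum k))
  infer_instance

theorem isPullback_whisk {S : Scheme.{u}} {A B : Over S} (g : A ⟶ B) (P : Over S) :
    IsPullback (P ◁ g).left (snd P A).left (snd P B).left g.left := by
  have h : IsPullback (P ◁ g) (snd P A) (snd P B) g := by
    refine IsPullback.of_isLimit' ⟨by simp⟩ (Limits.PullbackCone.IsLimit.mk _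
      (fun s => lift (s.fst ≫ fst P B) s.snd) (fun s => ?_) (fun s => by simp) (fun s m h1 h2 => ?_))
    · apply CartesianMonoidalCategory.hom_ext
      · simp
      · simpa using s.condition.symm
    · apply CartesianMonoidalCategory.hom_ext
      · rw [lift_fst, ← h1]; simp
      · simpa using h2
  exact h.map (Over.forget S)

theorem eq_of_mul_eq {k : Type u} [Field k] {G Gr G₀ : Over (Spec (CommRingCat.of k))} [GrpObj G] [GrpObj Gr]
    [GrpObj G₀] [IsFinite Gr.hom] [DiscreteTopology ↥G.left] [DiscreteTopology ↥Gr.left]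
    (r : Gr ⟶ G) [IsMonHom r] [IsClosedImmersion r.left] [IsReduced Gr.left]
    (i₀ : G₀ ⟶ G) [IsMonHom i₀] [IsOpenImmersion i₀.left] [ConnectedSpace ↥G₀.left] {T : Over (Spec (CommRingCat.of k))}
    (a a' : T ⟶ Gr) (b b' : T ⟶ G₀) {p q : T ⟶ Gr ⊗ G₀} (hp : p = lift a b) (hq : q = lift a' b')
    (h : (a ≫ r) * (b ≫ i₀) = (a' ≫ r) * (b' ≫ i₀)) : p = q := by
  haveI : Mono r := (Over.forget _).mono_of_mono_map (inferInstanceAs (Mono r.left))
  haveI : Mono i₀ := (Over.forget _).mono_of_mono_map (inferInstanceAs (Mono i₀.left))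
  have hc : (a'⁻¹ * a) ≫ r = (b' * b⁻¹) ≫ i₀ := by
    simp only [MonObj.mul_comp, GrpObj.inv_comp]
    rw [inv_mul_eq_iff_eq_mul, ← _root_.mul_assoc, eq_mul_inv_iff_mul_eq]
    exact h
  have hr : Set.range i₀.left = {(η[G]).left (IsLocalRing.closedPoint k)} := by
    have hs := (isPreconnected_range i₀.left.continuous).subsingleton
    refine hs.eq_singleton_of_mem ⟨(η[G₀]).left (IsLocalRing.closedPoint k), ?_⟩
    rw [← Scheme.Hom.comp_apply, ← Over.comp_left, IsMonHom.one_hom i₀]
  let y : Gr.left := (η[Gr]).left (IsLocalRing.closedPoint k)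
  have hy : r.left y = (η[G]).left (IsLocalRing.closedPoint k) := by
    show r.left ((η[Gr]).left _) = _
    rw [← Scheme.Hom.comp_apply, ← Over.comp_left, IsMonHom.one_hom r]
  have hcr : ∀ t, (a'⁻¹ * a).left t = y := fun t => by
    refine r.left.isClosedEmbedding.injective ?_
    rw [hy]
    refine Set.eq_of_mem_singleton (hr.subset ⟨(b' * b⁻¹).left t, ?_⟩)
    rw [← Scheme.Hom.comp_apply, ← Scheme.Hom.comp_apply, ← Over.comp_left, ← Over.comp_left, hc]
  let U : Gr.left.Opens := ⟨{y}, isOpen_discrete _⟩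
  let e : Spec (CommRingCat.of k) ⟶ (U : Scheme.{u}) := IsOpenImmersion.lift U.ι (η[Gr]).left (by
    rw [Scheme.Opens.range_ι, Set.range_subset_iff]
    intro x
    show (η[Gr]).left x = y
    rw [Subsingleton.elim x (IsLocalRing.closedPoint k)])
  have he : e ≫ U.ι = (η[Gr]).left := IsOpenImmersion.lift_fac _ _ _
  have hes : e ≫ U.ι ≫ Gr.hom = 𝟙 _ := by
    rw [reassoc_of% he]
    exact Over.w (η[Gr])
  haveI : IsClosedImmersion (e ≫ U.ι ≫ Gr.hom) := by rw [hes]; infer_instance
  haveI : IsClosedImmersion e := IsClosedImmersion.of_comp e (U.ι ≫ Gr.hom)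
  haveI : Surjective e := ⟨fun z => ⟨IsLocalRing.closedPoint k, by
    refine Subtype.ext ?_
    show U.ι (e _) = U.ι z
    rw [← Scheme.Hom.comp_apply, he]
    exact (z.2 : U.ι z = y).symm⟩⟩
  haveI : IsIso e := isIso_of_isClosedImmersion_of_surjective e
  have hone : a'⁻¹ * a = 1 := by
    let l : T.left ⟶ (U : Scheme.{u}) := IsOpenImmersion.lift U.ι (a'⁻¹ * a).left (by
      rw [Scheme.Opens.range_ι, Set.range_subset_iff]
      exact hcr)
    have hl : l ≫ U.ι = (a'⁻¹ * a).left := IsOpenImmersion.lift_fac _ _ _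
    have h2 : l = T.hom ≫ e := by
      rw [← cancel_mono (inv e), Category.assoc, IsIso.hom_inv_id, Category.comp_id,
        show inv e = U.ι ≫ Gr.hom from (IsIso.eq_inv_of_hom_inv_id hes).symm, reassoc_of% hl, Over.w]
    refine Over.OverMorphism.ext ?_
    rw [← hl, h2, Category.assoc, he, show (1 : T ⟶ Gr) = toUnit T ≫ η[Gr] from rfl]
    rfl
  have ha : a = a' := (inv_mul_eq_one.mp hone).symm
  subst ha
  rw [mul_right_inj] at h
  rw [hp, hq, (cancel_mono i₀).mp h]


/-- Let k be a perfect field and G a finite k-group scheme, r : G_red → G its reduced subgroup scheme (a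
homomorphism and closed immersion from a reduced k-group scheme, surjective on underlying spaces)
and i₀ : G⁰ → G its neutral component (a homomorphism and open immersion from a connected k-group
scheme). Then the multiplication morphism G_red × G⁰ → G is an isomorphism, exhibiting G as the
semi-direct product of G⁰ by G_red. -/
theorem result (k : Type u) [Field k] [PerfectField k]
    (G Gr G₀ : Over (Spec (CommRingCat.of k))) [GrpObj G] [GrpObj Gr] [GrpObj G₀] [IsFinite G.hom]
    (r : Gr ⟶ G) [IsMonHom r] [IsClosedImmersion r.left] [IsReduced Gr.left] [Surjective r.left]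
    (i₀ : G₀ ⟶ G) [IsMonHom i₀] [IsOpenImmersion i₀.left] [ConnectedSpace ↥G₀.left] :
    IsIso ((r ⊗ₘ i₀) ≫ μ[G]) := by
  haveI : IsAffine G.left := isAffine_of_isAffineHom G.hom
  haveI : DiscreteTopology ↥G.left := S10832.discrete_of_finite k G.hom (Scheme.Hom.finite_appTop G.hom)
  haveI : IsLocallyNoetherian G.left := LocallyOfFiniteType.isLocallyNoetherian G.hom
  haveI : IsFinite (r.left ≫ G.hom) := inferInstance
  haveI : IsFinite Gr.hom := by rw [← Over.w r]; infer_instance
  haveI : DiscreteTopology ↥Gr.left := r.left.isClosedEmbedding.isEmbedding.discreteTopology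
  haveI : Flat Gr.hom := flat_over_field Gr.hom
  haveI : QuasiCompact G₀.hom := by rw [← Over.w i₀]; infer_instance
  let m : Gr ⊗ G₀ ⟶ G := (r ⊗ₘ i₀) ≫ μ[G]
  have hm : m = (Gr ◁ i₀) ≫ (r ▷ G ≫ μ[G]) := by
    show (r ⊗ₘ i₀) ≫ μ[G] = _
    rw [MonoidalCategory.tensorHom_def', Category.assoc]
  haveI : Flat (r ▷ G ≫ μ[G]).left := GrpSchLib.flat_whiskerRight_mul r
  haveI : IsOpenImmersion (Gr ◁ i₀).left :=
    MorphismProperty.of_isPullback (P := @IsOpenImmersion) (isPullback_whisk i₀ Gr).flip inferInstance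
  haveI : Flat m.left := by rw [hm, Over.comp_left]; infer_instance
  haveI : QuasiCompact (Gr ⊗ G₀).hom := by
    show QuasiCompact (Limits.pullback.fst Gr.hom G₀.hom ≫ Gr.hom)
    infer_instance
  haveI : QuasiCompact (m.left ≫ G.hom) := by rw [Over.w m]; infer_instance
  haveI : QuasiCompact m.left := QuasiCompact.of_comp m.left G.hom
  haveI : Surjective m.left := by
    refine ⟨fun g => ?_⟩
    obtain ⟨y, rfl⟩ := r.left.surjective g
    refine ⟨(lift (𝟙 Gr) (toUnit Gr ≫ η[G₀])).left y, ?_⟩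
    have : lift (𝟙 Gr) (toUnit Gr ≫ η[G₀]) ≫ m = r := by
      show lift (𝟙 Gr) (toUnit Gr ≫ η[G₀]) ≫ (r ⊗ₘ i₀) ≫ μ[G] = r
      rw [lift_map_assoc, Category.id_comp, Category.assoc, IsMonHom.one_hom i₀, ← Hom.mul_def,
        MonObj.one_eq_one, MonObj.comp_one, _root_.mul_one]
    rw [← Scheme.Hom.comp_apply, ← Over.comp_left, this]
  haveI : Mono m := ⟨fun {T} p q h => eq_of_mul_eq r i₀ (p ≫ fst _ _) (q ≫ fst _ _) (p ≫ snd _ _) (q ≫ snd _ _)
    (CartesianMonoidalCategory.hom_ext p (lift (p ≫ fst _ _) (p ≫ snd _ _)) (by simp) (by simp))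
    (CartesianMonoidalCategory.hom_ext q (lift (q ≫ fst _ _) (q ≫ snd _ _)) (by simp) (by simp))
    (by
      have e : ∀ w : T ⟶ Gr ⊗ G₀, w ≫ m = ((w ≫ fst _ _) ≫ r) * ((w ≫ snd _ _) ≫ i₀) := fun w => by
        rw [Hom.mul_def, ← lift_map_assoc]
        congr 1
        apply CartesianMonoidalCategory.hom_ext <;> simp
      rw [← e, ← e]
      exact h)⟩
  haveI : Mono m.left := inferInstanceAs (Mono ((Over.forget _).map m))
  haveI : IsIso m.left := Flat.isIso_of_surjective_of_mono m.left
  haveI : IsIso ((Over.forget _).map m) := ‹IsIso m.left›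
  exact isIso_of_reflects_iso m (Over.forget _)

end Groth.Agent.S14587
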