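import Groth.Statements.S14589
import Groth.Agent.Deform.AntiAffineParts
import Groth.Agent.GrpSchLib.MonoSubgroup
import Mathlib.CategoryTheory.Limits.Constructions.Over.Connected

set_option autoImplicit false
universe u
open CategoryTheory MonoidalCategory CartesianMonoidalCategory MonObj GrpObj AlgebraicGeometry CategoryTheory.Limits
open AlgGrp

namespace Groth.Agent.S14589
set_option linter.style.haveILetI false

open CategoryTheory CategoryTheory.Limits MonoidalCategory CartesianMonoidalCategory MonObj GrpObj AlgebraicGeometry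

attribute [local instance] CategoryTheory.Hom.monoid CategoryTheory.Hom.group


/-- Let k be a field, G a k-group scheme of finite type, i : N → G a closed normal subgroup scheme and q
: G → Q a flat surjective homomorphism of k-group schemes of finite type with kernel N (Q = G/N).
Let j : M → G and j' : M' → Q be the largest anti-affine subgroup schemes of G and of Q (closed
subgroup schemes of finite type with only constant global functions through which every other such
subgroup scheme factors). Then q maps M onto M': the image of M → G → Q equals the underlying set of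
M'. Since M' is smooth, this is the statement that G_ant/(G_ant ∩ N) → (G/N)_ant is an isomorphism. -/
theorem result (k : Type u) [Field k]
    (G : Over (Spec (CommRingCat.of k))) [GrpObj G] [LocallyOfFiniteType G.hom] [QuasiCompact G.hom]
    (N : Over (Spec (CommRingCat.of k))) [GrpObj N] (i : N ⟶ G) [IsMonHom i] [IsClosedImmersion i.left] (hN : AlgGrp.IsNormalHom i)
    (Q : Over (Spec (CommRingCat.of k))) [GrpObj Q] [LocallyOfFiniteType Q.hom] [QuasiCompact Q.hom]
    (q : G ⟶ Q) [IsMonHom q] [Surjective q.left] [Flat q.left] (hq : AlgGrp.IsKernel i q)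
    (M : Over (Spec (CommRingCat.of k))) [GrpObj M] [LocallyOfFiniteType M.hom] [QuasiCompact M.hom] (j : M ⟶ G) [IsMonHom j] [IsClosedImmersion j.left]
    (hM : Function.Bijective ((Scheme.ΓSpecIso (CommRingCat.of k)).inv ≫ M.hom.appTop).hom)
    (hMmax : ∀ (M₁ : Over (Spec (CommRingCat.of k))) [GrpObj M₁] [LocallyOfFiniteType M₁.hom] [QuasiCompact M₁.hom] (j₁ : M₁ ⟶ G) [IsMonHom j₁] [IsClosedImmersion j₁.left],
      Function.Bijective ((Scheme.ΓSpecIso (CommRingCat.of k)).inv ≫ M₁.hom.appTop).hom → ∃ g : M₁ ⟶ M, g ≫ j = j₁)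
    (M' : Over (Spec (CommRingCat.of k))) [GrpObj M'] [LocallyOfFiniteType M'.hom] [QuasiCompact M'.hom] (j' : M' ⟶ Q) [IsMonHom j'] [IsClosedImmersion j'.left]
    (hM' : Function.Bijective ((Scheme.ΓSpecIso (CommRingCat.of k)).inv ≫ M'.hom.appTop).hom)
    (hM'max : ∀ (M₁ : Over (Spec (CommRingCat.of k))) [GrpObj M₁] [LocallyOfFiniteType M₁.hom] [QuasiCompact M₁.hom] (j₁ : M₁ ⟶ Q) [IsMonHom j₁] [IsClosedImmersion j₁.left],
      Function.Bijective ((Scheme.ΓSpecIso (CommRingCat.of k)).inv ≫ M₁.hom.appTop).hom → ∃ g : M₁ ⟶ M', g ≫ j' = j₁) :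
    Set.range ⇑(j ≫ q).left.base = Set.range ⇑j'.left.base := by
  haveI := GrpSchLib.AntiAffine.isSeparated_grp G
  haveI := GrpSchLib.AntiAffine.isSeparated_grp Q
  obtain ⟨K, iK, κ, hκ, hκc, hKl, hKq, hK, I, iI, p, hp, hI, -, -, -, hk⟩ := Deform.AntiAffineParts.exists_ant Q
  letI := iK; letI := iI
  haveI := hκ; haveI := hκc; haveI := hKl; haveI := hKq; haveI := hp; haveI := hI
  apply Set.Subset.antisymm
  · obtain ⟨g, hg⟩ := hM'max K κ ((GrpSchLib.AntiAffine.bijective_appTop_iff K.hom).mpr hK)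
    have h1 : (j ≫ q) ≫ p = 1 := Deform.AntiAffineParts.eq_one_of_isAffine
      ((GrpSchLib.AntiAffine.bijective_appTop_iff M.hom).mp hM) _
      (by rw [IsMonHom.one_hom, MonObj.one_eq_one])
    have e : j ≫ q = (hk.lift (j ≫ q) (toUnit M) h1 ≫ g) ≫ j' := by rw [Category.assoc, hg, hk.lift_fst]
    rw [e, Over.comp_left]
    rintro _ ⟨x, rfl⟩
    exact ⟨_, rfl⟩
  have sq := IsPullback.of_hasPullback q j'
  generalize pullback.fst q j' = a at sq
  generalize pullback.snd q j' = b at sq
  generalize pullback q j' = P at a b sq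
  have sq' : IsPullback a.left b.left q.left j'.left := sq.map (Over.forget _)
  haveI : IsClosedImmersion a.left :=
    MorphismProperty.of_isPullback (P := @IsClosedImmersion) sq'.flip (inferInstanceAs (IsClosedImmersion j'.left))
  haveI : Surjective b.left :=
    MorphismProperty.of_isPullback (P := @Surjective) sq' (inferInstanceAs (Surjective q.left))
  haveI : Mono a := (Over.forget _).mono_of_mono_map (inferInstanceAs (Mono a.left))
  haveI : Mono j' := (Over.forget _).mono_of_mono_map (inferInstanceAs (Mono j'.left))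
  obtain ⟨e, he⟩ : ∃ e : 𝟙_ (Over (Spec (CommRingCat.of k))) ⟶ P, e ≫ a = η[G] :=
    ⟨sq.lift η[G] η[M'] (by rw [IsMonHom.one_hom, IsMonHom.one_hom]), sq.lift_fst _ _ _⟩
  obtain ⟨m, hm⟩ : ∃ m : P ⊗ P ⟶ P, m ≫ a = (fst P P ≫ a) * (snd P P ≫ a) :=
    ⟨sq.lift _ ((fst P P ≫ b) * (snd P P ≫ b))
      (by simp only [MonObj.mul_comp, Category.assoc, sq.w]), sq.lift_fst _ _ _⟩
  obtain ⟨v, hv⟩ : ∃ v : P ⟶ P, v ≫ a = a⁻¹ :=
    ⟨sq.lift _ b⁻¹ (by simp only [GrpObj.inv_comp, sq.w]), sq.lift_fst _ _ _⟩
  obtain ⟨iP, ha⟩ := GrpSchLib.exists_grpObj_of_mono a e he m hm v hv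
  letI := iP
  haveI := ha
  haveI : IsMonHom b := by
    constructor
    · rw [← cancel_mono j', Category.assoc, ← sq.w, ← Category.assoc, IsMonHom.one_hom a, IsMonHom.one_hom q,
        IsMonHom.one_hom j']
    · rw [← cancel_mono j', Category.assoc, ← sq.w, ← Category.assoc, IsMonHom.mul_hom a, Category.assoc,
        IsMonHom.mul_hom q, Category.assoc, IsMonHom.mul_hom j', tensorHom_comp_tensorHom_assoc,
        tensorHom_comp_tensorHom_assoc, sq.w]
  haveI : LocallyOfFiniteType P.hom := by rw [← Over.w a]; infer_instance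
  haveI : QuasiCompact P.hom := by rw [← Over.w a]; infer_instance
  obtain ⟨L, iL, l, hl, hlc, hLl, hLq, hL, J, iJ, r, hr, hJ, hJl, hrf, hrs, hlk⟩ :=
    Deform.AntiAffineParts.exists_ant P
  letI := iL; letI := iJ
  haveI := hl; haveI := hlc; haveI := hLl; haveI := hLq; haveI := hr; haveI := hJ; haveI := hJl; haveI := hrf
  haveI := hrs
  haveI := Deform.AntiAffineParts.surjective_antiAffine
    ((GrpSchLib.AntiAffine.bijective_appTop_iff M'.hom).mp hM') hL l r hlk b
  haveI : IsClosedImmersion (l ≫ a).left := by rw [Over.comp_left]; infer_instance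
  obtain ⟨g, hg⟩ := hMmax L (l ≫ a) ((GrpSchLib.AntiAffine.bijective_appTop_iff L.hom).mpr hL)
  have e2 : g ≫ j ≫ q = (l ≫ b) ≫ j' := by
    rw [reassoc_of% hg, sq.w, Category.assoc]
  rintro _ ⟨y, rfl⟩
  obtain ⟨z, rfl⟩ := (l ≫ b).left.surjective y
  refine ⟨g.left z, ?_⟩
  exact congr(($e2).left z)

end Groth.Agent.S14589
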