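import Groth.Statements.S14590
import Groth.Agent.Deform.AVTrace.Slice
import Groth.Agent.ConsPropLib.Noetherian
import Groth.Agent.AssocBdl.Extension


set_option autoImplicit false
universe u
open CategoryTheory MonoidalCategory CartesianMonoidalCategory MonObj GrpObj AlgebraicGeometry CategoryTheory.Limits
open AlgGrp

namespace Groth.Agent.S14590

/-- Let k be a field, A an abelian variety (proper, smooth, connected k-group scheme), X and Y smooth
varieties over k (smooth, separated, geometrically integral k-schemes of finite type) and f : X → Y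
an A-torsor: an action of A on X with f invariant, flat and surjective and A × X → X ×_Y X, (a, x) ↦
(a·x, x), an isomorphism. Then there exist a k-morphism φ : X → A and a positive integer n such that
φ(a·x) = φ(x) · aⁿ identically (multiplicative notation for the group law of A). -/
theorem result (k : Type u) [Field k]
    (A X Y : Over (Spec (CommRingCat.of k))) [GrpObj A] [IsProper A.hom] [Smooth A.hom] [ConnectedSpace ↥A.left]
    [Smooth X.hom] [IsSeparated X.hom] [QuasiCompact X.hom] [GeometricallyIntegral X.hom]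
    [Smooth Y.hom] [IsSeparated Y.hom] [QuasiCompact Y.hom] [GeometricallyIntegral Y.hom]
    (a : AlgGrp.Action A X) (f : X ⟶ Y) [Flat f.left] [Surjective f.left]
    (hinv : a.act ≫ f = snd A X ≫ f) (htors : IsIso (pullback.lift a.act (snd A X) hinv)) :
    ∃ (φ : X ⟶ A) (n : ℕ), 0 < n ∧
      ∀ (T : Over (Spec (CommRingCat.of k))) (b : T ⟶ A) (x : T ⟶ X), lift b x ≫ a.act ≫ φ = (x ≫ φ) * b ^ n := by
  haveI : IsIntegral X.left := GeometricallyIntegral.isIntegral_of_subsingleton X.hom
  haveI : IsIntegral Y.left := GeometricallyIntegral.isIntegral_of_subsingleton Y.hom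
  haveI : LocallyOfFiniteType f.left :=
    haveI : LocallyOfFiniteType (f.left ≫ Y.hom) := by rw [Over.w f]; infer_instance
    locallyOfFiniteType_of_comp f.left Y.hom
  haveI : QuasiCompact f.left :=
    haveI : QuasiCompact (f.left ≫ Y.hom) := by rw [Over.w f]; infer_instance
    QuasiCompact.of_comp f.left Y.hom
  -- a closed point of the generic fibre
  let ηY := genericPoint Y.left
  obtain ⟨x₁, hx₁⟩ := f.left.surjective ηY
  haveI : Nonempty (f.left.fiber ηY) := ⟨(f.left.fiberHomeo ηY).symm ⟨x₁, hx₁⟩⟩
  haveI : CompactSpace (f.left.fiber ηY) :=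
    QuasiCompact.compactSpace_of_compactSpace (f.left.fiberToSpecResidueField ηY)
  obtain ⟨v, -, hv⟩ := IsClosed.exists_closed_singleton (isClosed_univ : IsClosed (Set.univ : Set (f.left.fiber ηY)))
    Set.univ_nonempty
  let x₀ := f.left.fiberι ηY v
  have hx₀ : f.left x₀ = ηY := (f.left.range_fiberι ηY).le ⟨v, rfl⟩
  have hcl : ∀ z : X.left, x₀ ⤳ z → f.left z = ηY → z = x₀ := by
    intro z hz hzη
    obtain ⟨w, rfl⟩ := (f.left.range_fiberι ηY).ge hzη
    rw [show w = v from ((f.left.fiberι ηY).isEmbedding.isInducing.specializes_iff.1 hz).mem_closed hv rfl]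
  obtain ⟨T, j, hj, hTi, hjr, hjη⟩ := ConsPropLib.exists_integral_closure x₀
  haveI := hTi
  haveI := hj
  let gT := j ≫ f.left
  haveI : LocallyOfFiniteType gT := inferInstance
  have hgη : gT (genericPoint T) = ηY := by
    rw [Scheme.Hom.comp_apply, hjη, hx₀]
  have hqη : gT.QuasiFiniteAt (genericPoint T) := by
    haveI : Subsingleton (gT.fiber (gT (genericPoint T))) := by
      suffices Subsingleton ↥(gT ⁻¹' {gT (genericPoint T)}) from (gT.fiberHomeo _).injective.subsingleton
      refine ⟨fun p q => ?_⟩
      have h : ∀ p : gT ⁻¹' {gT (genericPoint T)}, (p : T) = genericPoint T := fun p => by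
        refine j.isClosedEmbedding.injective ?_
        rw [hjη]
        refine hcl _ (hjη ▸ (genericPoint_specializes (p : T)).map j.continuous) ?_
        exact (Scheme.Hom.comp_apply j f.left _).symm.trans ((Set.mem_singleton_iff.1 p.2).trans hgη)
      exact Subtype.ext ((h p).trans (h q).symm)
    exact Scheme.Hom.quasiFiniteAt_iff_isOpen_singleton_asFiber.mpr (isOpen_discrete _)
  -- the slice
  let U := gT.quasiFiniteLocus
  haveI : Nonempty U := ⟨⟨genericPoint T, hqη⟩⟩
  let Y' : Over (Spec (CommRingCat.of k)) := Over.mk (U.ι ≫ j ≫ X.hom)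
  haveI : IsIntegral Y'.left := inferInstanceAs (IsIntegral U.toScheme)
  haveI : LocallyOfFiniteType Y'.hom := inferInstanceAs (LocallyOfFiniteType (U.ι ≫ j ≫ X.hom))
  let ι' : Y' ⟶ X := Over.homMk (U.ι ≫ j) (Category.assoc _ _ _)
  haveI : LocallyQuasiFinite (ι' ≫ f).left := by
    show LocallyQuasiFinite ((U.ι ≫ j) ≫ f.left)
    rw [Category.assoc, ← Scheme.Hom.quasiFiniteLocus_eq_top_iff, Scheme.Hom.quasiFiniteLocus_comp]
    exact top_le_iff.mp fun u _ => u.2
  have h1 : IsPullback a.act (snd A X) f f :=
    IsPullback.of_iso_pullback ⟨hinv⟩ (@asIso _ _ _ _ _ htors) (pullback.lift_fst _ _ _) (pullback.lift_snd _ _ _)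
  have hsq : IsPullback ((A ◁ ι') ≫ a.act) (snd A Y') f (ι' ≫ f) :=
    (AssocBdl.isPullback_whiskerLeft A ι').paste_horiz h1
  have hsq' : IsPullback ((A ◁ ι') ≫ a.act).left (snd A Y').left f.left (ι' ≫ f).left :=
    hsq.map (Over.forget _)
  haveI : LocallyQuasiFinite ((A ◁ ι') ≫ a.act).left := MorphismProperty.of_isPullback hsq'.flip inferInstance
  haveI : IsDominant f.left := inferInstance
  haveI : IsDominant ((A ◁ ι') ≫ a.act).left := by
    refine ⟨dense_iff_closure_eq.2 (Set.eq_univ_of_forall fun y => ?_)⟩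
    have hmem : genericPoint X.left ∈ Set.range ((A ◁ ι') ≫ a.act).left := by
      have he : f.left (genericPoint X.left) = (ι' ≫ f).left ⟨genericPoint T, hqη⟩ := by
        rw [CurveModel.map_genericPoint]
        exact hgη.symm
      obtain ⟨p, hp, -⟩ := Scheme.exists_preimage_of_isPullback hsq' (genericPoint X.left) _ he
      exact ⟨p, hp⟩
    exact closure_mono (Set.singleton_subset_iff.2 hmem)
      (specializes_iff_mem_closure.1 (genericPoint_specializes y))
  exact Deform.AVTrace.exists_equivariant_of_slice A X Y' a ι' (((A ◁ ι') ≫ a.act).left.quasiFiniteAt _)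

end Groth.Agent.S14590
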