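import Groth.Statements.S14595
import Groth.Agent.S14584
import Groth.Agent.Deform.TorusQuot.Basic
import Groth.Agent.Deform.Chev.SemiAb
import Groth.Agent.Deform.Chev.SemiAbExt
import Groth.Agent.Deform.Chev.SemiAbField


set_option autoImplicit false
universe u
open CategoryTheory MonoidalCategory CartesianMonoidalCategory MonObj GrpObj AlgebraicGeometry CategoryTheory.Limits
open AlgGrp

namespace Groth.Agent.S14595
set_option linter.style.haveILetI false
attribute [local instance] CategoryTheory.Hom.monoid CategoryTheory.Hom.group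
open Groth.Agent CategoryTheory.Functor.Monoidal

/-- A normalised map from a product of varieties to a semi-abelian variety which vanishes in the abelian quotient is
trivial, over an algebraically closed field. -/
theorem rigid_algClosed {K : Type u} [Field K] [IsAlgClosed K] {X Y T G A : Over (Spec (CommRingCat.of K))}
    [LocallyOfFiniteType X.hom] [QuasiCompact X.hom] [GeometricallyIntegral X.hom]
    [LocallyOfFiniteType Y.hom] [QuasiCompact Y.hom] [GeometricallyIntegral Y.hom]
    [GrpObj T] [GrpObj G] [GrpObj A] (i : T ⟶ G) [IsMonHom i] [IsClosedImmersion i.left] (hT : Red.IsTorus T)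
    (q : G ⟶ A) [IsMonHom q] (hk : AlgGrp.IsKernel i q)
    (x₀ : 𝟙_ (Over (Spec (CommRingCat.of K))) ⟶ X) (y₀ : 𝟙_ (Over (Spec (CommRingCat.of K))) ⟶ Y) (z : X ⊗ Y ⟶ G)
    (hz : z ≫ q = 1) (hX : lift (𝟙 X) (toUnit X ≫ y₀) ≫ z = 1) (hY : lift (toUnit Y ≫ x₀) (𝟙 Y) ≫ z = 1) : z = 1 := by
  obtain ⟨hTa, hTl, hTs, hTc⟩ := Deform.TorusBasic.props hT
  haveI := hTa; haveI := hTl; haveI := hTs; haveI := hTc
  haveI : Mono i := Deform.MaxNormal.mono_of_closed i
  obtain ⟨r, hr⟩ := Deform.Chev.SemiAbExt.split_of_multType (Deform.isMultTypeFT_of_isTorus hT)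
  have hz' : z ≫ q = toUnit _ ≫ η[A] := hz.trans Hom.one_def
  let w := hk.lift _ _ hz'
  have hw : w ≫ i = z := hk.lift_fst _ _ hz'
  suffices w = 1 by rw [← hw, this, MonObj.one_comp]
  haveI : IsIntegral X.left := H23.MaxAbelian.isIntegral_of_geometricallyIntegral
  haveI : IsIntegral Y.left := H23.MaxAbelian.isIntegral_of_geometricallyIntegral
  haveI := H23.RatExt.geometricallyIntegral_prod X Y
  haveI : IsIntegral (X ⊗ Y).left := H23.MaxAbelian.isIntegral_of_geometricallyIntegral
  have hwX : lift (𝟙 X) (toUnit X ≫ y₀) ≫ w = 1 := by rw [← cancel_mono i, Category.assoc, hw, hX, MonObj.one_comp]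
  have hwY : lift (toUnit Y ≫ x₀) (𝟙 Y) ≫ w = 1 := by rw [← cancel_mono i, Category.assoc, hw, hY, MonObj.one_comp]
  refine Deform.TorusQuot.hom_split_eq_one hr w fun χ hχ => ?_
  refine GmPts.gmFn_injective ?_
  show Red.gmFn (w ≫ χ) = Red.gmFn 1
  rw [GmPts.gmFn_one]
  refine GrpSchLib.UnitsConn.eq_one (GmPts.isUnit_gmFn _) x₀ y₀ ?_ ?_
  · exact (GmPts.gmFn_comp _ (w ≫ χ)).symm.trans
      (by rw [← Category.assoc, hwX, MonObj.one_comp, GmPts.gmFn_one])
  · exact (GmPts.gmFn_comp _ (w ≫ χ)).symm.trans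
      (by rw [← Category.assoc, hwY, MonObj.one_comp, GmPts.gmFn_one])


/-- Let k be a field, X and Y varieties over k (separated, geometrically integral, of finite type) with
rational points x₀, y₀, G a semi-abelian variety (an extension of a proper smooth connected k-group
scheme by a torus) and f : X × Y → G a k-morphism. Then f(x, y) f(x, y₀)⁻¹ f(x₀, y)⁻¹ f(x₀, y₀) = e
identically, in the group of morphisms X × Y → G. -/
theorem result (k : Type u) [Field k]
    (X Y G : Over (Spec (CommRingCat.of k)))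
    [LocallyOfFiniteType X.hom] [QuasiCompact X.hom] [IsSeparated X.hom] [GeometricallyIntegral X.hom]
    [LocallyOfFiniteType Y.hom] [QuasiCompact Y.hom] [IsSeparated Y.hom] [GeometricallyIntegral Y.hom]
    [GrpObj G] [LocallyOfFiniteType G.hom] [QuasiCompact G.hom] (hG : (∃ (T : Over (Spec (CommRingCat.of k))) (_ : GrpObj T) (i : T ⟶ G) (A : Over (Spec (CommRingCat.of k))) (_ : GrpObj A) (q : G ⟶ A),
        IsMonHom i ∧ IsClosedImmersion i.left ∧ Red.IsTorus T ∧ IsMonHom q ∧ Surjective q.left ∧ Flat q.left ∧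
        AlgGrp.IsKernel i q ∧ IsProper A.hom ∧ Smooth A.hom ∧ ConnectedSpace ↥A.left))
    (x₀ : 𝟙_ (Over (Spec (CommRingCat.of k))) ⟶ X) (y₀ : 𝟙_ (Over (Spec (CommRingCat.of k))) ⟶ Y) (f : X ⊗ Y ⟶ G) :
    f * (fst X Y ≫ lift (𝟙 X) (toUnit X ≫ y₀) ≫ f)⁻¹ * (snd X Y ≫ lift (toUnit Y ≫ x₀) (𝟙 Y) ≫ f)⁻¹ *
      (toUnit (X ⊗ Y) ≫ lift x₀ y₀ ≫ f) = 1 := by
  obtain ⟨T, iT, i, A, iA, q, hi, hic, hT, hq, hqs, hqf, hk, hA, hAs, hAc⟩ := hG
  letI := iT; letI := iA
  haveI := hi; haveI := hic; haveI := hq; haveI := hqs; haveI := hqf; haveI := hA; haveI := hAs; haveI := hAc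
  haveI := Deform.AVFactor.geometricallyIntegral_smooth A
  haveI : IsCommMonObj A := isCommMonObj_of_isProper_of_geometricallyIntegral A
  let π := Spec.map (CommRingCat.ofHom (algebraMap k (AlgebraicClosure k)))
  let F := H23.RatProductK.bc k
  haveI : LocallyOfFiniteType (F.obj G).hom := inferInstanceAs (LocallyOfFiniteType (pullback.snd G.hom π))
  haveI : QuasiCompact (F.obj G).hom := inferInstanceAs (QuasiCompact (pullback.snd G.hom π))
  haveI : LocallyOfFiniteType (F.obj X).hom := inferInstanceAs (LocallyOfFiniteType (pullback.snd X.hom π))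
  haveI : QuasiCompact (F.obj X).hom := inferInstanceAs (QuasiCompact (pullback.snd X.hom π))
  haveI : GeometricallyIntegral (F.obj X).hom := inferInstanceAs (GeometricallyIntegral (pullback.snd X.hom π))
  haveI : LocallyOfFiniteType (F.obj Y).hom := inferInstanceAs (LocallyOfFiniteType (pullback.snd Y.hom π))
  haveI : QuasiCompact (F.obj Y).hom := inferInstanceAs (QuasiCompact (pullback.snd Y.hom π))
  haveI : GeometricallyIntegral (F.obj Y).hom := inferInstanceAs (GeometricallyIntegral (pullback.snd Y.hom π))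
  letI : GrpObj (F.obj G) := Functor.grpObjObj
  letI : GrpObj (F.obj T) := Functor.grpObjObj
  letI : GrpObj (F.obj A) := Functor.grpObjObj
  haveI : IsProper (F.obj A).hom := inferInstanceAs (IsProper (pullback.snd A.hom π))
  haveI : Smooth (F.obj A).hom := inferInstanceAs (Smooth (pullback.snd A.hom π))
  haveI : ConnectedSpace (F.obj A).left := GrpSchLib.AntiAffine.connectedSpace_bc A (algebraMap k (AlgebraicClosure k))
  haveI hci : IsClosedImmersion (F.map i).left := MorphismProperty.overPullbackMap (P := @IsClosedImmersion) π i hic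
  have hTK : Red.IsTorus (F.obj T) := Deform.isTorus_bc π hT
  haveI : Flat (F.map q).left := MorphismProperty.overPullbackMap (P := @Flat) π q hqf
  haveI : Surjective (F.map q).left := MorphismProperty.overPullbackMap (P := @Surjective) π q hqs
  have hkK : AlgGrp.IsKernel (F.map i) (F.map q) := Deform.Chev.SemiAbelian.isKernel_bc π i q hk
  haveI : IsCommMonObj (F.obj G) := Deform.Chev.SemiAb.isCommMonObj (F.map i) hTK (F.map q) hkK
  haveI : IsCommMonObj G := Deform.Extension.isCommMonObj_of fun Z x y => F.map_injective (by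
    rw [Functor.map_mul, Functor.map_mul, mul_comm])
  have main : ∀ z : X ⊗ Y ⟶ G, z ≫ q = 1 → lift (𝟙 X) (toUnit X ≫ y₀) ≫ z = 1 →
      lift (toUnit Y ≫ x₀) (𝟙 Y) ≫ z = 1 → z = 1 := by
    intro z hz hX hY
    apply F.map_injective
    rw [← cancel_epi (μIso F X Y).hom, μIso_hom, Functor.map_one, MonObj.comp_one]
    have e₁ : lift (𝟙 (F.obj X)) (toUnit (F.obj X) ≫ Functor.LaxMonoidal.ε F ≫ F.map y₀) ≫ Functor.LaxMonoidal.μ F X Y =
        F.map (lift (𝟙 X) (toUnit X ≫ y₀)) := by
      rw [← Category.assoc (toUnit _), toUnit_ε, ← F.map_comp, ← F.map_id, lift_μ]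
    have e₂ : lift (toUnit (F.obj Y) ≫ Functor.LaxMonoidal.ε F ≫ F.map x₀) (𝟙 (F.obj Y)) ≫ Functor.LaxMonoidal.μ F X Y =
        F.map (lift (toUnit Y ≫ x₀) (𝟙 Y)) := by
      rw [← Category.assoc (toUnit _), toUnit_ε, ← F.map_comp, ← F.map_id, lift_μ]
    refine rigid_algClosed (F.map i) hTK (F.map q) hkK (Functor.LaxMonoidal.ε F ≫ F.map x₀)
      (Functor.LaxMonoidal.ε F ≫ F.map y₀) _ ?_ ?_ ?_
    · rw [Category.assoc, ← F.map_comp, hz, Functor.map_one, MonObj.comp_one]
    · rw [← Category.assoc, e₁, ← F.map_comp, hX, Functor.map_one]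
    · rw [← Category.assoc, e₂, ← F.map_comp, hY, Functor.map_one]
  refine main _ ?_ ?_ ?_
  · simp only [MonObj.mul_comp, GrpObj.inv_comp, Category.assoc]
    have h := S14584.result k X Y A x₀ y₀ (f ≫ q)
    generalize f ≫ q = u at h ⊢
    generalize fst X Y ≫ lift (𝟙 X) (toUnit X ≫ y₀) ≫ u = a at h ⊢
    generalize snd X Y ≫ lift (toUnit Y ≫ x₀) (𝟙 Y) ≫ u = b at h ⊢
    generalize toUnit (X ⊗ Y) ≫ lift x₀ y₀ ≫ u = c at h ⊢
    rw [h]
    simp [_root_.mul_assoc]
  · simp only [MonObj.comp_mul, GrpObj.comp_inv, lift_fst_assoc, lift_snd_assoc, comp_lift_assoc, comp_toUnit_assoc,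
      Category.id_comp, Category.comp_id, Category.assoc, toUnit_unique (toUnit (𝟙_ _)) (𝟙 _)]
    simp [_root_.mul_comm, _root_.mul_left_comm, _root_.mul_assoc]
  · simp only [MonObj.comp_mul, GrpObj.comp_inv, lift_fst_assoc, lift_snd_assoc, comp_lift_assoc, comp_toUnit_assoc,
      Category.id_comp, Category.comp_id, Category.assoc, toUnit_unique (toUnit (𝟙_ _)) (𝟙 _)]
    simp [_root_.mul_comm, _root_.mul_left_comm, _root_.mul_assoc]

end Groth.Agent.S14595
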