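import Groth.Statements.S3033
import Groth.Agent.Deform.QuotTop
import Groth.Agent.FibDim.BaseField
import Groth.Agent.VarDim.Top
import Groth.Agent.GrpSchLib.FieldDim
import Groth.Agent.GrpSchLib.Action
set_option linter.style.haveILetI false
set_option backward.isDefEq.respectTransparency false
set_option backward.isDefEq.respectTransparency.types false

set_option autoImplicit false
universe u
open CategoryTheory MonoidalCategory CartesianMonoidalCategory MonObj GrpObj AlgebraicGeometry TensorProduct
open SGA3

namespace Groth.Agent.S3033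

open CategoryTheory Limits MonoidalCategory CartesianMonoidalCategory MonObj AlgebraicGeometry TopologicalSpace Topology

attribute [local instance] CategoryTheory.Hom.monoid CategoryTheory.Hom.group

/-- The action on the base change, as a bare morphism with its two identities. -/
structure ActData {S : Scheme.{u}} (G X : Over S) [GrpObj G] where
  act : G ⊗ X ⟶ X
  one_mul : ∀ {T : Over S} (g h : T ⟶ G) (x : T ⟶ X), lift g (lift h x ≫ act) ≫ act = lift (g * h) x ≫ act
  one : ∀ {T : Over S} (x : T ⟶ X), lift (1 : T ⟶ G) x ≫ act = x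

theorem exists_homeo {K : Type u} [Field K] [IsAlgClosed K] {G X : Over (Spec (CommRingCat.of K))} [GrpObj G]
    [LocallyOfFiniteType G.hom] [LocallyOfFiniteType X.hom] (d : ActData G X)
    (h : Surjective (lift d.act (snd G X)).left) (x y : 𝟙_ (Over (Spec (CommRingCat.of K))) ⟶ X) :
    ∃ e : X.left ≃ₜ X.left, e (x.left (IsLocalRing.closedPoint K)) = y.left (IsLocalRing.closedPoint K) := by
  haveI : LocallyOfFiniteType (G ⊗ X).hom := inferInstanceAs (LocallyOfFiniteType (pullback.fst G.hom X.hom ≫ G.hom))
  haveI : LocallyOfFiniteType (X ⊗ X).hom := inferInstanceAs (LocallyOfFiniteType (pullback.fst X.hom X.hom ≫ X.hom))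
  haveI := LocallyOfFiniteType.jacobsonSpace (G ⊗ X).hom
  let q := lift y x
  have hq := ((pointEquivClosedPoint (X ⊗ X).hom) ⟨q.left, Over.w q⟩).2
  let S := lift d.act (snd G X)
  obtain ⟨z₀, hz₀⟩ := h.surj (q.left (IsLocalRing.closedPoint K))
  obtain ⟨z, hz, hzc⟩ := nonempty_inter_closedPoints (Z := S.left ⁻¹' {q.left (IsLocalRing.closedPoint K)})
    ⟨z₀, hz₀⟩ (hq.preimage S.left.continuous).isLocallyClosed
  let r : 𝟙_ _ ⟶ G ⊗ X := Over.homMk _ ((pointEquivClosedPoint (G ⊗ X).hom).symm ⟨z, hzc⟩).2
  have hr : r.left (IsLocalRing.closedPoint K) = z :=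
    congrArg Subtype.val ((pointEquivClosedPoint (G ⊗ X).hom).apply_symm_apply ⟨z, hzc⟩)
  have hrq : r ≫ S = q := by
    have h1 : (pointEquivClosedPoint (X ⊗ X).hom) ⟨(r ≫ S).left, Over.w (r ≫ S)⟩ =
        (pointEquivClosedPoint (X ⊗ X).hom) ⟨q.left, Over.w q⟩ := by
      refine Subtype.ext ?_
      show (r ≫ S).left (IsLocalRing.closedPoint K) = q.left (IsLocalRing.closedPoint K)
      rw [Over.comp_left, Scheme.Hom.comp_apply, hr]
      exact hz
    exact Over.OverMorphism.ext (congrArg Subtype.val ((pointEquivClosedPoint (X ⊗ X).hom).injective h1) :)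
  have h1 : r ≫ d.act = y := by
    have := congrArg (· ≫ fst X X) hrq
    simpa [S, q] using this
  have h2 : r ≫ snd G X = x := by
    have := congrArg (· ≫ snd X X) hrq
    simpa [S, q] using this
  let g := r ≫ fst G X
  let L : X ≅ X :=
    { hom := lift (toUnit X ≫ g) (𝟙 X) ≫ d.act
      inv := lift (toUnit X ≫ g)⁻¹ (𝟙 X) ≫ d.act
      hom_inv_id := by
        rw [← Category.assoc, comp_lift, Category.comp_id, GrpObj.comp_inv, ← Category.assoc, comp_toUnit, d.one_mul,
          inv_mul_cancel, d.one]
      inv_hom_id := by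
        rw [← Category.assoc, comp_lift, Category.comp_id, ← Category.assoc, comp_toUnit, d.one_mul,
          mul_inv_cancel, d.one] }
  have hL : x ≫ L.hom = y := by
    rw [← h1, ← Category.assoc, comp_lift, Category.comp_id, ← Category.assoc, comp_toUnit,
      toUnit_unique (toUnit (𝟙_ (Over (Spec (CommRingCat.of K))))) (𝟙 _), Category.id_comp, ← h2]
    congr 1
    apply CartesianMonoidalCategory.hom_ext <;> simp [g]
  refine ⟨Scheme.homeoOfIso ((Over.forget _).mapIso L), ?_⟩
  exact congrArg (fun f : 𝟙_ (Over (Spec (CommRingCat.of K))) ⟶ X => f.left (IsLocalRing.closedPoint K)) hL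

/-- Base change of an action along a monoidal functor. -/
noncomputable def mapAction {S T : Scheme.{u}} (f : T ⟶ S) {G X : Over S} [GrpObj G] (a : AlgGrp.Action G X) :
    AlgGrp.Action ((Over.pullback f).obj G) ((Over.pullback f).obj X) where
  act := Functor.LaxMonoidal.μ (Over.pullback f) G X ≫ (Over.pullback f).map a.act
  one_act := by
    rw [Functor.obj.η_def, comp_whiskerRight, Category.assoc, ← Category.assoc ((Over.pullback f).map η[G] ▷ _),
      Functor.LaxMonoidal.μ_natural_left, Category.assoc, ← Functor.map_comp, a.one_act, Functor.LaxMonoidal.left_unitality]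
  mul_act := by
    rw [Functor.obj.μ_def, comp_whiskerRight, Category.assoc, ← Category.assoc ((Over.pullback f).map μ[G] ▷ _),
      Functor.LaxMonoidal.μ_natural_left, Category.assoc, ← Functor.map_comp, a.mul_act, MonoidalCategory.whiskerLeft_comp,
      Category.assoc, Functor.LaxMonoidal.μ_natural_right_assoc, Functor.map_comp, Functor.map_comp, Functor.LaxMonoidal.associativity_assoc]

noncomputable def act' {A : Type u} [CommRing A] [IsLocalRing A] {K : Type u} [Field K]
    (g : Spec (CommRingCat.of K) ⟶ Spec (CommRingCat.of (IsLocalRing.ResidueField A)))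
    {G X : Over (Spec (CommRingCat.of A))} [GrpObj G] (a : AlgGrp.Action G X) :
    ActData ((Over.pullback (g ≫ GrpSchLib.clPt A)).obj G) ((Over.pullback (g ≫ GrpSchLib.clPt A)).obj X) :=
  { act := (mapAction (g ≫ GrpSchLib.clPt A) a).act
    one_mul := fun g h x => GrpSchLib.act_mul _ g h x
    one := fun x => GrpSchLib.act_one _ x }

theorem isOpen_cc {X : Scheme.{u}} [IsLocallyNoetherian X] (x : X) : IsOpen (connectedComponent x) := by
  refine isOpen_iff_forall_mem_open.mpr fun y hy => ?_
  obtain ⟨V, hV, hyV, -⟩ := exists_isAffineOpen_mem_and_subset (show y ∈ (⊤ : X.Opens) from trivial)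
  haveI : IsNoetherianRing Γ(X, V) := IsLocallyNoetherian.component_noetherian ⟨V, hV⟩
  haveI : NoetherianSpace (V : Set X) := noetherianSpace_of_isAffineOpen V hV
  let bad : Set (Set (V : Set X)) := {Z ∈ irreducibleComponents _ | (⟨y, hyV⟩ : (V : Set X)) ∉ Z}
  have hbad : bad.Finite := NoetherianSpace.finite_irreducibleComponents.subset fun Z h => h.1
  have hB : IsClosed (⋃₀ bad) := by
    rw [Set.sUnion_eq_biUnion]
    exact hbad.isClosed_biUnion fun Z hZ => isClosed_of_mem_irreducibleComponents Z hZ.1
  refine ⟨Subtype.val '' (⋃₀ bad)ᶜ, ?_, V.2.isOpenMap_subtype_val _ hB.isOpen_compl,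
    ⟨⟨y, hyV⟩, fun ⟨Z, hZ, hyZ⟩ => hZ.2 hyZ, rfl⟩⟩
  rintro _ ⟨z, hz, rfl⟩
  have hyZ : (⟨y, hyV⟩ : (V : Set X)) ∈ irreducibleComponent z := by
    by_contra h
    exact hz ⟨_, ⟨irreducibleComponent_mem_irreducibleComponents z, h⟩, mem_irreducibleComponent⟩
  rw [connectedComponent_eq hy]
  exact (isIrreducible_irreducibleComponent.image _ continuous_subtype_val.continuousOn).isPreirreducible.isPreconnected.subset_connectedComponent
    ⟨_, hyZ, rfl⟩ ⟨z, mem_irreducibleComponent, rfl⟩

/-- Integral surjections preserve dimensions of closed subsets. -/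
theorem dim_image {X Y : Scheme.{u}} (π : X ⟶ Y) [IsIntegralHom π] {C : Set X} (hC : IsClosed C) :
    topologicalKrullDim ↥(π '' C) = topologicalKrullDim ↥C := by
  rw [VarDim.topologicalKrullDim_isClosed (π.isClosedMap C hC), VarDim.topologicalKrullDim_isClosed hC]
  have h : ∀ x : X, @Order.height X (specializationPreorder X) x = @Order.height Y (specializationPreorder Y) (π x) :=
    fun x => GrpSchLib.height_apply_of_isIntegralHom π x
  refine le_antisymm (iSup_le ?_) (iSup_le fun c => ?_)
  · rintro ⟨_, c, hc, rfl⟩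
    exact le_iSup_of_le ⟨c, hc⟩ (le_of_eq (by rw [h c]))
  · exact le_iSup_of_le ⟨π c, c, c.2, rfl⟩ (le_of_eq (by rw [h c]))


/-- Let A be a local artinian ring and G a group scheme locally of finite type over A acting on a
nonempty A-scheme X locally of finite type, such that the morphism G ×_A X → X ×_A X, (g, x) ↦ (g·x,
x), is surjective. Then all connected components of X have the same dimension. The published
statement also asserts that the connected components are irreducible; that is not asserted here (it
is stated separately). -/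
theorem result (A : Type u) [CommRing A] [IsArtinianRing A] [IsLocalRing A]
    (G X : Over (Spec (CommRingCat.of A))) [GrpObj G] [LocallyOfFiniteType G.hom] [LocallyOfFiniteType X.hom] [Nonempty X.left]
    (a : AlgGrp.Action G X) (hΦ : Surjective (lift a.act (snd G X)).left) (x y : X.left) :
    topologicalKrullDim ↥(connectedComponent x) = topologicalKrullDim ↥(connectedComponent y) := by
  let k := IsLocalRing.ResidueField A
  let K := AlgebraicClosure k
  let g : Spec (CommRingCat.of K) ⟶ Spec (CommRingCat.of k) := Spec.map (CommRingCat.ofHom (algebraMap k K))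
  haveI : IsIntegralHom g := (IsIntegralHom.SpecMap_iff).mpr (algebraMap_isIntegral_iff.mpr inferInstance)
  haveI : Surjective g := GrpSchLib.surjective_spec_map_field _
  let Fr := Over.pullback (g ≫ GrpSchLib.clPt A)
  haveI : LocallyOfFiniteType (Fr.obj G).hom := inferInstanceAs (LocallyOfFiniteType (pullback.snd G.hom _))
  haveI : LocallyOfFiniteType (Fr.obj X).hom := inferInstanceAs (LocallyOfFiniteType (pullback.snd X.hom _))
  let b : Fr.obj G ⊗ Fr.obj X ⟶ Fr.obj X := Functor.LaxMonoidal.μ Fr G X ≫ Fr.map a.act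
  -- the shear map stays surjective
  have hΨ : Surjective (lift b (snd (Fr.obj G) (Fr.obj X))).left := by
    have e : lift b (snd (Fr.obj G) (Fr.obj X)) =
        Functor.LaxMonoidal.μ Fr G X ≫ Fr.map (lift a.act (snd G X)) ≫ Functor.OplaxMonoidal.δ Fr X X := by
      apply CartesianMonoidalCategory.hom_ext
      · simp only [b, lift_fst, Category.assoc, Functor.OplaxMonoidal.δ_fst, ← Fr.map_comp]
      · simp only [lift_snd, Category.assoc, Functor.OplaxMonoidal.δ_snd, ← Fr.map_comp, Functor.Monoidal.μ_snd]
    rw [e, Over.comp_left, Over.comp_left]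
    haveI : IsIso (Functor.LaxMonoidal.μ Fr G X).left :=
      ((Over.forget _).mapIso (Functor.Monoidal.μIso Fr G X)).isIso_hom
    haveI : IsIso (Functor.OplaxMonoidal.δ Fr X X).left :=
      ((Over.forget _).mapIso (Functor.Monoidal.μIso Fr X X)).isIso_inv
    haveI : Surjective (Fr.map (lift a.act (snd G X))).left :=
      MorphismProperty.overPullbackMap (P := @Surjective) _ _ hΦ
    infer_instance
  -- translations on the geometric fibre
  have htr : ∀ x' y' : 𝟙_ (Over (Spec (CommRingCat.of K))) ⟶ Fr.obj X,
      ∃ e : (Fr.obj X).left ≃ₜ (Fr.obj X).left,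
        e (x'.left (IsLocalRing.closedPoint K)) = y'.left (IsLocalRing.closedPoint K) :=
    fun x' y' => exists_homeo (act' g a) hΨ x' y'
  let π : (Fr.obj X).left ⟶ X.left := pullback.fst X.hom (g ≫ GrpSchLib.clPt A)
  haveI : IsIntegralHom (g ≫ GrpSchLib.clPt A) := inferInstance
  haveI : IsIntegralHom π := MorphismProperty.pullback_fst (P := @IsIntegralHom) _ _ inferInstance
  haveI : Surjective π := MorphismProperty.pullback_fst (P := @Surjective) _ _ inferInstance
  have hπo : IsOpenMap π := by
    let e := pullbackLeftPullbackSndIso X.hom (GrpSchLib.clPt A) g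
    have he : e.inv ≫ pullback.fst _ g ≫ pullback.fst X.hom (GrpSchLib.clPt A) = π := by
      rw [Iso.inv_comp_eq]
      exact (pullbackLeftPullbackSndIso_hom_fst _ _ _).symm
    rw [← he, Scheme.Hom.comp_base, Scheme.Hom.comp_base]
    exact ((GrpSchLib.clHomeo X).isOpenMap.comp (pullback.fst (pullback.snd X.hom (GrpSchLib.clPt A)) g).isOpenMap).comp
      e.inv.isOpenEmbedding.isOpenMap
  haveI : IsLocallyNoetherian (Fr.obj X).left := LocallyOfFiniteType.isLocallyNoetherian (Fr.obj X).hom
  haveI := LocallyOfFiniteType.jacobsonSpace (Fr.obj X).hom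
  haveI : Subsingleton ↥(Spec (CommRingCat.of A)) := inferInstanceAs (Subsingleton (PrimeSpectrum A))
  haveI : Subsingleton ↥(Spec (CommRingCat.of K)) := inferInstanceAs (Subsingleton (PrimeSpectrum K))
  -- dimension of a component from any component above it
  have hdim : ∀ z : (Fr.obj X).left,
      topologicalKrullDim ↥(connectedComponent (π z)) = topologicalKrullDim ↥(connectedComponent z) := by
    intro z
    have hcc : connectedComponent (π z) = π '' connectedComponent z :=
      subset_antisymm
        (IsClopen.connectedComponent_subset ⟨π.isClosedMap _ isClosed_connectedComponent,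
          hπo _ (isOpen_cc z)⟩ ⟨z, mem_connectedComponent, rfl⟩)
        (π.continuous.image_connectedComponent_subset z)
    rw [hcc]
    exact dim_image π isClosed_connectedComponent
  obtain ⟨x', rfl⟩ := π.surjective x
  obtain ⟨y', rfl⟩ := π.surjective y
  obtain ⟨x₁, hx₁, hxc⟩ := nonempty_inter_closedPoints ⟨x', mem_connectedComponent⟩
    (isClosed_connectedComponent (x := x')).isLocallyClosed
  obtain ⟨y₁, hy₁, hyc⟩ := nonempty_inter_closedPoints ⟨y', mem_connectedComponent⟩
    (isClosed_connectedComponent (x := y')).isLocallyClosed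
  let px : 𝟙_ (Over (Spec (CommRingCat.of K))) ⟶ Fr.obj X :=
    Over.homMk _ ((pointEquivClosedPoint (Fr.obj X).hom).symm ⟨x₁, hxc⟩).2
  let py : 𝟙_ (Over (Spec (CommRingCat.of K))) ⟶ Fr.obj X :=
    Over.homMk _ ((pointEquivClosedPoint (Fr.obj X).hom).symm ⟨y₁, hyc⟩).2
  have hpx : px.left (IsLocalRing.closedPoint K) = x₁ :=
    congrArg Subtype.val ((pointEquivClosedPoint (Fr.obj X).hom).apply_symm_apply ⟨x₁, hxc⟩)
  have hpy : py.left (IsLocalRing.closedPoint K) = y₁ :=
    congrArg Subtype.val ((pointEquivClosedPoint (Fr.obj X).hom).apply_symm_apply ⟨y₁, hyc⟩)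
  obtain ⟨e, he⟩ := htr px py
  rw [hpx, hpy] at he
  rw [hdim x', hdim y', connectedComponent_eq hx₁, connectedComponent_eq hy₁]
  refine ((e.image (connectedComponent x₁)).trans (Homeomorph.setCongr ?_)).isHomeomorph.topologicalKrullDim_eq
  refine subset_antisymm (he ▸ e.continuous.image_connectedComponent_subset x₁) ?_
  intro w hw
  refine ⟨e.symm w, ?_, e.apply_symm_apply w⟩
  have := e.symm.continuous.image_connectedComponent_subset y₁ ⟨w, hw, rfl⟩
  rwa [← he, e.symm_apply_apply] at this

end Groth.Agent.S3033
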