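import Groth.Statements.S14596
import Groth.Agent.S3033
import Groth.Agent.GrpSchLib.Shear
import Groth.Agent.GrpSchLib.Coincidence
import Groth.Agent.GrpSchLib.HomFlat
import Groth.Agent.GrpSchLib.Action
import Mathlib.AlgebraicGeometry.Morphisms.QuasiFinite

set_option autoImplicit false
universe u
open CategoryTheory MonoidalCategory CartesianMonoidalCategory MonObj GrpObj AlgebraicGeometry CategoryTheory.Limits
open AlgGrp

namespace Groth.Agent.S14596
open Topology TopologicalSpace

attribute [local instance] CategoryTheory.Hom.monoid CategoryTheory.Hom.group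
set_option linter.style.haveILetI false

theorem flat_over_field {k : Type u} [Field k] {W : Scheme.{u}} (g : W ⟶ Spec (CommRingCat.of k)) : Flat g := by
  have : Subsingleton ↥(Spec (CommRingCat.of k)) := inferInstanceAs (Subsingleton (PrimeSpectrum k))
  infer_instance

/-- A morphism from a connected reduced scheme to a finite scheme meeting a rational point is constant. -/
theorem eq_const {k : Type u} [Field k] {W X : Over (Spec (CommRingCat.of k))} [IsReduced W.left] [IsFinite X.hom]
    (q : W ⟶ X) (o : 𝟙_ (Over (Spec (CommRingCat.of k))) ⟶ X) (hW : PreconnectedSpace W.left)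
    (hpt : ∃ w s, o.left s = q.left w) : q = toUnit W ≫ o := by
  haveI : IsClosedImmersion (o.left ≫ X.hom) := by rw [Over.w]; exact inferInstanceAs (IsClosedImmersion (𝟙 _))
  haveI : IsClosedImmersion o.left := IsClosedImmersion.of_comp o.left X.hom
  haveI : IsArtinianScheme X.left :=
    { toIsLocallyArtinian := IsLocallyArtinian.of_locallyQuasiFinite X.hom
      toCompactSpace := QuasiCompact.compactSpace_of_compactSpace X.hom }
  haveI : Surjective (pullback.fst q.left o.left) := by
    refine ⟨fun w => ?_⟩
    obtain ⟨w₀, s, hs⟩ := hpt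
    have hw : q.left w = o.left s := by
      rw [hs]
      exact (isPreconnected_univ.image q.left q.left.continuous.continuousOn).subsingleton
        ⟨w, trivial, rfl⟩ ⟨w₀, trivial, rfl⟩
    obtain ⟨v, hv, -⟩ := Scheme.Pullback.exists_preimage_pullback (f := q.left) (g := o.left) w s hw
    exact ⟨v, hv⟩
  haveI : IsIso (pullback.fst q.left o.left) := isIso_of_isClosedImmersion_of_surjective _
  have h : q.left = (inv (pullback.fst q.left o.left) ≫ pullback.snd q.left o.left) ≫ o.left := by
    rw [Category.assoc, ← pullback.condition, IsIso.inv_hom_id_assoc]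
  have h' := congrArg (· ≫ X.hom) h
  simp only [Category.assoc, Over.w] at h'
  refine Over.OverMorphism.ext (h.trans ?_)
  rw [Over.comp_left]
  congr 1
  rw [show (𝟙_ (Over (Spec (CommRingCat.of k)))).hom = 𝟙 _ from rfl, Category.comp_id] at h'
  exact h'.symm

/-- The points of a scheme over a field whose diagonal is open are closed. -/
theorem eq_of_specializes {k : Type u} [Field k] {X : Scheme.{u}} (f : X ⟶ Spec (CommRingCat.of k))
    (hD : IsOpen (Set.range (pullback.diagonal f))) {x y : X} (h : y ⤳ x) : y = x := by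
  let j : pullback f (X.fromSpecResidueField x ≫ f) ⟶ pullback f f :=
    pullback.lift (pullback.fst _ _) (pullback.snd _ _ ≫ X.fromSpecResidueField x) (by simp [pullback.condition])
  let d : Spec (X.residueField x) ⟶ pullback f (X.fromSpecResidueField x ≫ f) :=
    pullback.lift (X.fromSpecResidueField x) (𝟙 _) (by simp)
  let s : Spec (X.residueField x) := IsLocalRing.closedPoint _
  have hs : X.fromSpecResidueField x s = x := Scheme.fromSpecResidueField_apply x s
  haveI : Flat (X.fromSpecResidueField x ≫ f) := flat_over_field _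
  have h1 : pullback.fst f (X.fromSpecResidueField x ≫ f) (d s) = x := by
    rw [← Scheme.Hom.comp_apply, pullback.lift_fst, hs]
  obtain ⟨w, hw, hw'⟩ := Flat.generalizingMap (pullback.fst f (X.fromSpecResidueField x ≫ f))
    (a := d s) (b := y) (by rw [h1]; exact h)
  have h2 : j (d s) ∈ Set.range (pullback.diagonal f) := by
    refine ⟨x, ?_⟩
    have e : d ≫ j = X.fromSpecResidueField x ≫ pullback.diagonal f := by
      apply pullback.hom_ext
      · rw [Category.assoc, Category.assoc]; simp only [j, d]; erw [pullback.lift_fst, pullback.lift_fst, pullback.diagonal_fst, Category.comp_id]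
      · rw [Category.assoc, Category.assoc]; simp only [j, d]; erw [pullback.lift_snd, pullback.lift_snd_assoc, pullback.diagonal_snd, Category.comp_id, Category.id_comp]
    calc pullback.diagonal f x = pullback.diagonal f (X.fromSpecResidueField x s) := congrArg _ hs.symm
      _ = (d ≫ j) s := by rw [e, Scheme.Hom.comp_apply]
      _ = j (d s) := Scheme.Hom.comp_apply d j s
  obtain ⟨z, hz⟩ := (hw.map j.continuous).mem_open hD h2
  have hy : z = y := by
    have e := congrArg (pullback.fst f f) hz
    rw [← Scheme.Hom.comp_apply, pullback.diagonal_fst, Scheme.Hom.id_base, TopCat.id_app, ← Scheme.Hom.comp_apply] at e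
    rw [e, show j ≫ pullback.fst f f = pullback.fst _ _ from pullback.lift_fst .., hw']
  have hx : z = x := by
    have e := congrArg (pullback.snd f f) hz
    rw [← Scheme.Hom.comp_apply, pullback.diagonal_snd, Scheme.Hom.id_base, TopCat.id_app, ← Scheme.Hom.comp_apply] at e
    rw [e, show j ≫ pullback.snd f f = pullback.snd _ _ ≫ X.fromSpecResidueField x from pullback.lift_snd ..,
      Scheme.Hom.comp_apply]
    exact Scheme.fromSpecResidueField_apply x _
  exact hy.symm.trans hx

/-- The quotient by an open subgroup scheme is finite. -/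
theorem isFinite_quot {k : Type u} [Field k] {G G₀ : Over (Spec (CommRingCat.of k))} [GrpObj G] [GrpObj G₀]
    [LocallyOfFiniteType G.hom] [QuasiCompact G.hom] (r₀ : G₀ ⟶ G)
    (t : ↥((𝟙_ (Over (Spec (CommRingCat.of k)))).left))
    (hr₀ : Set.range r₀.left = connectedComponent (η[G].left t))
    (X : Over (Spec (CommRingCat.of k))) (a : AlgGrp.Action G X) (o : 𝟙_ (Over (Spec (CommRingCat.of k))) ⟶ X)
    (hq : AGF.IsQuotient r₀ X a o) : IsFinite X.hom := by
  obtain ⟨hlft, hfl, hsurj, hpb⟩ := hq
  set p := a.orbitMap o with hp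
  haveI := hlft
  haveI := hfl
  haveI := hsurj
  haveI : IsLocallyNoetherian G.left := LocallyOfFiniteType.isLocallyNoetherian G.hom
  haveI : CompactSpace G.left := QuasiCompact.compactSpace_of_compactSpace G.hom
  haveI : CompactSpace X.left := ⟨by
    rw [← p.left.surjective.range_eq]; exact isCompact_range p.left.continuous⟩
  haveI : IsLocallyNoetherian X.left := LocallyOfFiniteType.isLocallyNoetherian X.hom
  haveI : QuasiCompact X.hom := (quasiCompact_iff_compactSpace X.hom).2 inferInstance
  haveI : IsNoetherian X.left := {}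
  let θ := GrpSchLib.shearIso (𝟙 G)
  let F : G ⊗ G₀ ⟶ G ⊗ G := (G ◁ r₀) ≫ θ.hom
  have hF1 : F ≫ fst G G = fst G G₀ := by simp [F, θ, GrpSchLib.shearIso]
  have hF2 : F ≫ snd G G = (G ◁ r₀) ≫ μ[G] := by
    simp [F, θ, GrpSchLib.shearIso, MonObj.mul_eq_mul]
  have hFopen : IsOpen (Set.range F.left) := by
    have e : Set.range (G ◁ r₀).left = (snd G G).left ⁻¹' Set.range r₀.left := by
      ext v
      constructor
      · rintro ⟨w, rfl⟩
        refine ⟨(snd G G₀).left w, ?_⟩
        rw [← Scheme.Hom.comp_apply, ← Scheme.Hom.comp_apply, ← Over.comp_left, ← Over.comp_left, whiskerLeft_snd]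
      · rintro ⟨g, hg⟩
        obtain ⟨w, hw, -⟩ := Scheme.exists_preimage_of_isPullback (GrpSchLib.isPullback_whiskerLeft (W := G) r₀) v g hg.symm
        exact ⟨w, hw⟩
    rw [Over.comp_left, Scheme.Hom.comp_base, TopCat.coe_comp, Set.range_comp, e, hr₀]
    exact θ.hom.left.isOpenEmbedding.isOpenMap _ ((S3033.isOpen_cc _).preimage (snd G G).left.continuous)
  let pp : G ⊗ G ⟶ X ⊗ X := p ⊗ₘ p
  have hpp : pp = (p ▷ G) ≫ (X ◁ p) := by simp [pp, MonoidalCategory.tensorHom_def]
  have hfl' : Flat pp.left ∧ Surjective pp.left := by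
    rw [hpp, Over.comp_left]
    haveI : Flat (p ▷ G).left := MorphismProperty.of_isPullback (GrpSchLib.isPullback_whiskerRight p G).flip hfl
    haveI : Surjective (p ▷ G).left := MorphismProperty.of_isPullback (GrpSchLib.isPullback_whiskerRight p G).flip hsurj
    haveI : Flat (X ◁ p).left := MorphismProperty.of_isPullback (GrpSchLib.isPullback_whiskerLeft p).flip hfl
    haveI : Surjective (X ◁ p).left := MorphismProperty.of_isPullback (GrpSchLib.isPullback_whiskerLeft p).flip hsurj
    exact ⟨inferInstance, inferInstance⟩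
  haveI := hfl'.1
  haveI := hfl'.2
  haveI : LocallyOfFiniteType (G ⊗ G).hom := inferInstanceAs (LocallyOfFiniteType (pullback.fst G.hom G.hom ≫ G.hom))
  haveI : LocallyOfFiniteType (X ⊗ X).hom := inferInstanceAs (LocallyOfFiniteType (pullback.fst X.hom X.hom ≫ X.hom))
  haveI : IsLocallyNoetherian (X ⊗ X).left := LocallyOfFiniteType.isLocallyNoetherian (X ⊗ X).hom
  haveI : LocallyOfFiniteType pp.left := by
    haveI : LocallyOfFiniteType (pp.left ≫ (X ⊗ X).hom) := by rw [Over.w]; infer_instance
    exact locallyOfFiniteType_of_comp pp.left (X ⊗ X).hom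
  let δ : X ⟶ X ⊗ X := lift (𝟙 X) (𝟙 X)
  have hδ : Set.range δ.left = pp.left '' Set.range F.left := by
    ext v
    constructor
    · rintro ⟨x, rfl⟩
      obtain ⟨v, hv⟩ := pp.left.surjective (δ.left x)
      obtain ⟨w, hw, -⟩ := Scheme.Pullback.exists_preimage_pullback (f := pp.left) (g := δ.left) v x hv
      let T : Over (Spec (CommRingCat.of k)) := Over.mk (pullback.snd pp.left δ.left ≫ X.hom)
      let b : T ⟶ X := Over.homMk (pullback.snd pp.left δ.left) rfl
      let c : T ⟶ G ⊗ G := Over.homMk (pullback.fst pp.left δ.left) (by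
        show pullback.fst pp.left δ.left ≫ (G ⊗ G).hom = pullback.snd pp.left δ.left ≫ X.hom
        rw [← Over.w pp, pullback.condition_assoc, Over.w])
      have hcb : c ≫ pp = b ≫ δ := Over.OverMorphism.ext pullback.condition
      have hc : (c ≫ fst G G) ≫ p = (c ≫ snd G G) ≫ p := by
        have e1 := congrArg (· ≫ fst X X) hcb
        have e2 := congrArg (· ≫ snd X X) hcb
        simp only [pp, δ, Category.assoc, tensorHom_fst, tensorHom_snd, lift_fst, lift_snd, Category.comp_id] at e1 e2
        rw [Category.assoc, Category.assoc, e1, e2]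
      have hm : hpb.lift _ _ hc ≫ F = c := by
        apply CartesianMonoidalCategory.hom_ext
        · rw [Category.assoc, hF1, hpb.lift_fst]
        · rw [Category.assoc, hF2, hpb.lift_snd]
      refine ⟨c.left w, ⟨(hpb.lift _ _ hc).left w, ?_⟩, ?_⟩
      · rw [← Scheme.Hom.comp_apply, ← Over.comp_left, hm]
      · show pp.left (pullback.fst pp.left δ.left w) = _
        rw [hw, hv]
    · rintro ⟨_, ⟨w, rfl⟩, rfl⟩
      refine ⟨(fst G G₀ ≫ p).left w, ?_⟩
      suffices e : (fst G G₀ ≫ p) ≫ δ = F ≫ pp by
        rw [← Scheme.Hom.comp_apply, ← Scheme.Hom.comp_apply, ← Over.comp_left, ← Over.comp_left, e]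
      apply CartesianMonoidalCategory.hom_ext
      · simp [δ, pp, ← hF1]
      · simp only [δ, pp, Category.assoc, lift_snd, tensorHom_snd, Category.comp_id]
        rw [← Category.assoc F, hF2, hpb.w]
  have hD : IsOpen (Set.range (pullback.diagonal X.hom)) := by
    have e : δ.left = pullback.diagonal X.hom := by
      apply pullback.hom_ext
      · rw [pullback.diagonal_fst]; exact congrArg CommaMorphism.left (lift_fst (𝟙 X) (𝟙 X))
      · rw [pullback.diagonal_snd]; exact congrArg CommaMorphism.left (lift_snd (𝟙 X) (𝟙 X))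
    rw [← e, hδ]
    exact pp.left.isOpenMap _ hFopen
  have hcl : ∀ x : X.left, closure {x} = {x} := fun x =>
    Set.Subset.antisymm (fun y hy => (eq_of_specializes X.hom hD (specializes_iff_mem_closure.2 hy)).symm)
      subset_closure
  haveI : Finite X.left := by
    refine Set.finite_univ_iff.1 ((NoetherianSpace.finite_irreducibleComponents (α := X.left)).biUnion
      (t := id) (fun Z hZ => ?_) |>.subset fun x _ => Set.mem_biUnion (irreducibleComponent_mem_irreducibleComponents x) mem_irreducibleComponent)
    obtain ⟨η', hη⟩ := QuasiSober.sober hZ.1 (isClosed_of_mem_irreducibleComponents Z hZ)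
    show (id Z).Finite
    rw [id_eq, show Z = {η'} by rw [← hη.def, hcl]]
    exact Set.finite_singleton _
  haveI : LocallyQuasiFinite X.hom := .of_finite_preimage_singleton X.hom fun _ => Set.toFinite _
  exact IsFinite.of_locallyQuasiFinite X.hom
/-- Let k be a perfect field, G a k-group scheme of finite type and r₀ : G⁰_red → G the reduced neutral
component of G, i.e. a homomorphism and closed immersion from a reduced k-group scheme whose image
is the connected component of the identity. Then the homogeneous space G/G⁰_red is finite, and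
G⁰_red is the smallest closed subgroup scheme H of G such that G/H is finite: every such H contains
G⁰_red. -/
theorem result (k : Type u) [Field k] [PerfectField k]
    (G G₀ : Over (Spec (CommRingCat.of k))) [GrpObj G] [GrpObj G₀] [LocallyOfFiniteType G.hom] [QuasiCompact G.hom]
    [LocallyOfFiniteType G₀.hom] [QuasiCompact G₀.hom]
    (r₀ : G₀ ⟶ G) [IsMonHom r₀] [IsClosedImmersion r₀.left] [IsReduced G₀.left] (t : ↥((𝟙_ (Over (Spec (CommRingCat.of k)))).left))
    (hr₀ : Set.range ⇑r₀.left.base = connectedComponent ((η[G]).left.base t)) :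
    (∀ (X : Over (Spec (CommRingCat.of k))) (a : AlgGrp.Action G X) (o : 𝟙_ (Over (Spec (CommRingCat.of k))) ⟶ X), AGF.IsQuotient r₀ X a o → IsFinite X.hom) ∧
    ∀ (H : Over (Spec (CommRingCat.of k))) [GrpObj H] (h : H ⟶ G) [IsMonHom h] [IsClosedImmersion h.left]
      (X : Over (Spec (CommRingCat.of k))) (a : AlgGrp.Action G X) (o : 𝟙_ (Over (Spec (CommRingCat.of k))) ⟶ X),
      AGF.IsQuotient h X a o → IsFinite X.hom → ∃ g : G₀ ⟶ H, g ≫ h = r₀ := by
  classical
  have ht : ∀ s : ↥((𝟙_ (Over (Spec (CommRingCat.of k)))).left), s = t := fun s =>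
    Subsingleton.elim (α := PrimeSpectrum k) s t
  constructor
  · intro X a o hq
    exact isFinite_quot r₀ t hr₀ X a o hq
  · intro H _ h _ _ X a o hq hfin
    obtain ⟨hlft, -, -, hpb⟩ := hq
    haveI := hfin
    let q : G₀ ⟶ X := r₀ ≫ a.orbitMap o
    have hone : ∀ {T : Over (Spec (CommRingCat.of k))}, (1 : T ⟶ G) ≫ a.orbitMap o = toUnit T ≫ o := by
      intro T
      rw [AlgGrp.Action.orbitMap, ← Category.assoc, comp_lift, Category.comp_id, ← Category.assoc, comp_toUnit,
        GrpSchLib.act_one]
    have hq' : q = toUnit G₀ ≫ o := eq_const q o (by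
      have h1 : _root_.IsPreconnected (Set.range r₀.left) := by
        rw [show Set.range r₀.left = connectedComponent _ from hr₀]; exact isPreconnected_connectedComponent
      haveI : PreconnectedSpace G₀.left := ⟨by
        rw [← r₀.left.isClosedEmbedding.isInducing.isPreconnected_image, Set.image_univ]; exact h1⟩
      exact (inferInstance : PreconnectedSpace G₀.left)) ⟨η[G₀].left t, t, by
        show o.left t = q.left (η[G₀].left t)
        rw [← Scheme.Hom.comp_apply, ← Over.comp_left]
        suffices e : η[G₀] ≫ q = o by rw [e]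
        simp only [q]
        rw [← Category.assoc, IsMonHom.one_hom r₀, MonObj.one_eq_one, hone]
        simp⟩
    let z : G₀ ⟶ G ⊗ H := hpb.lift 1 r₀ (hone.trans hq'.symm)
    refine ⟨z ≫ snd G H, ?_⟩
    have h1 : z ≫ fst G H = 1 := hpb.lift_fst _ _ _
    have h2 : z ≫ (G ◁ h) ≫ μ[G] = r₀ := hpb.lift_snd _ _ _
    rw [MonObj.mul_eq_mul, MonObj.comp_mul, whiskerLeft_fst, whiskerLeft_snd, MonObj.comp_mul, h1,
      _root_.one_mul, ← Category.assoc] at h2
    exact h2

end Groth.Agent.S14596
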