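import Groth.Statements.S14607
import Groth.Agent.SwanPic.Global
-- import your own Groth.Agent.* helpers here

set_option autoImplicit false
universe u
open CategoryTheory AlgebraicGeometry CategoryTheory.Limits
open PicF

set_option backward.isDefEq.respectTransparency false
set_option backward.isDefEq.respectTransparency.types false
set_option synthInstance.maxHeartbeats 400000
set_option maxHeartbeats 1000000
set_option linter.style.haveILetI false
attribute [-instance] CategoryTheory.catToReflQuiver

namespace Groth.Agent.S14607

/-- Let k be a field and X an integral, separated k-scheme of finite type which is seminormal, in the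
sense that every point has an affine open neighbourhood whose ring of functions is seminormal (x³ =
y² implies x = a² and y = a³ for exactly one a). Then the pull-back along the first projection X ×
A¹ → X induces a bijection from the isomorphism classes of invertible O_X-modules onto those of
invertible modules on X × A¹, i.e. Pic(X) → Pic(X × A¹) is an isomorphism. (This is the assertion
established in the course of the published proof, which deduces from it that the Picard variety of a
geometrically semi-normal proper variety is semi-abelian; semi-normality is taken in the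
ring-theoretic form used by the cited input on Picard groups of polynomial rings.) -/
theorem result (k : Type u) [Field k]
    (X : Scheme.{u}) (f : X ⟶ Spec (CommRingCat.of k)) [IsIntegral X] [IsSeparated f] [LocallyOfFiniteType f] [QuasiCompact f]
    (hX : HTop.IsSeminormal X) :
    Set.BijOn (PicF.pullCl (pullback.fst f (𝔸(PUnit.{u + 1}; Spec (CommRingCat.of k)) ↘ Spec (CommRingCat.of k))))
      {c : PicF.Cl X | PicF.IsInvertibleCl c}
      {c : PicF.Cl (pullback f (𝔸(PUnit.{u + 1}; Spec (CommRingCat.of k)) ↘ Spec (CommRingCat.of k))) | PicF.IsInvertibleCl c} := by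
  let pr := pullback.fst f (𝔸(PUnit.{u + 1}; Spec (CommRingCat.of k)) ↘ Spec (CommRingCat.of k))
  let z : Spec (CommRingCat.of k) ⟶ 𝔸(PUnit.{u + 1}; Spec (CommRingCat.of k)) :=
    AffineSpace.homOfVector (𝟙 _) (fun _ => 0)
  let σ₀ : X ⟶ pullback f (𝔸(PUnit.{u + 1}; Spec (CommRingCat.of k)) ↘ Spec (CommRingCat.of k)) :=
    pullback.lift (𝟙 X) (f ≫ z) (by rw [Category.id_comp, Category.assoc, AffineSpace.homOfVector_over, Category.comp_id])
  have hσ : σ₀ ≫ pr = 𝟙 X := pullback.lift_fst _ _ _
  have hid : ∀ c : PicF.Cl X, PicF.pullCl σ₀ (PicF.pullCl pr c) = c := by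
    intro c
    induction c using Quot.inductionOn with
    | _ L =>
      exact Quot.sound ⟨(Scheme.Modules.pullbackComp σ₀ pr).app L ≪≫ (Scheme.Modules.pullbackCongr hσ).app L ≪≫
        (Scheme.Modules.pullbackId X).app L⟩
  refine ⟨?_, fun c _ c' _ h => ?_, ?_⟩
  · rintro c ⟨L, rfl, hL⟩
    exact ⟨_, rfl, PicClLib.isInvertible_pullback pr hL⟩
  · rw [← hid c, ← hid c']
    exact congrArg (PicF.pullCl σ₀) h
  · rintro c ⟨L, rfl, hL⟩
    obtain ⟨e⟩ := SwanPic.nonempty_iso_pullback f hX σ₀ hσ L hL
    exact ⟨PicF.cl ((Scheme.Modules.pullback σ₀).obj L), ⟨_, rfl, PicClLib.isInvertible_pullback σ₀ hL⟩,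
      (Quot.sound ⟨e⟩ : PicF.cl L = _).symm⟩


end Groth.Agent.S14607
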