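import Groth.Statements.S14611
import Mathlib

set_option autoImplicit false
set_option backward.isDefEq.respectTransparency false
universe u
open FlatCx

namespace Groth.Agent.S14611

open TensorProduct in
theorem projective_aux {A : Type u} [CommRing A] [IsNoetherianRing A] {F₂ F₁ F₀ M : Type u}
    [AddCommGroup F₂] [Module A F₂] [AddCommGroup F₁] [Module A F₁] [AddCommGroup F₀] [Module A F₀]
    [AddCommGroup M] [Module A M] [Module.Finite A F₀] [Module.Projective A F₀]
    (a : F₂ →ₗ[A] F₁) (g : F₁ →ₗ[A] F₀) (π : F₀ →ₗ[A] M) (hπ : Function.Surjective π) (hgπ : Function.Exact g π)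
    (hag : g ∘ₗ a = 0)
    (hk : ∀ (m : Ideal A) [m.IsMaximal], Function.Exact (a.rTensor (A ⧸ m)) (g.rTensor (A ⧸ m))) :
    Module.Projective A M := by
  haveI : Module.Finite A M := Module.Finite.of_surjective π hπ
  haveI : Module.FinitePresentation A M := Module.finitePresentation_of_finite A M
  let N := LinearMap.range g
  let ι := N.subtype
  have hexact : Function.Exact ι π := by
    rw [LinearMap.exact_iff, Submodule.range_subtype]; exact LinearMap.exact_iff.mp hgπ
  have hinj : ∀ (m : Ideal A) [m.IsMaximal], Function.Injective (ι.lTensor (A ⧸ m)) := by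
    intro m _
    rw [LinearMap.lTensor_inj_iff_rTensor_inj, injective_iff_map_eq_zero]
    intro x hx
    obtain ⟨y, rfl⟩ := LinearMap.rTensor_surjective (A ⧸ m) (LinearMap.surjective_rangeRestrict g) x
    rw [← LinearMap.comp_apply, ← LinearMap.rTensor_comp, show ι ∘ₗ g.rangeRestrict = g from rfl] at hx
    obtain ⟨z, rfl⟩ := (hk m y).mp hx
    rw [← LinearMap.comp_apply, ← LinearMap.rTensor_comp,
      show g.rangeRestrict ∘ₗ a = 0 from LinearMap.ext fun w => Subtype.ext (LinearMap.congr_fun hag w),
      LinearMap.rTensor_zero]
    rfl
  haveI : Module.Finite A N := inferInstance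
  refine Module.projective_of_localization_maximal fun m hm => ?_
  let S := Localization.AtPrime m
  let k := IsLocalRing.ResidueField S
  suffices h : Module.Free S (S ⊗[A] M) by
    haveI := h
    exact Module.Projective.of_equiv (LocalizedModule.equivTensorProduct m.primeCompl M).symm
  haveI : Module.Free S (S ⊗[A] F₀) := Module.free_of_flat_of_isLocalRing
  refine Module.free_of_lTensor_residueField_injective (ι.baseChange S) (π.baseChange S)
    (LinearMap.lTensor_surjective S hπ) (lTensor_exact S hexact hπ) ?_
  let e : (A ⧸ m) ≃ₗ[A] k :=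
    LinearEquiv.ofBijective (IsScalarTower.toAlgHom A (A ⧸ m) m.ResidueField).toLinearMap
      (Ideal.bijective_algebraMap_quotient_residueField m)
  let cN := AlgebraTensorModule.cancelBaseChange A S S k N
  let cF := AlgebraTensorModule.cancelBaseChange A S S k F₀
  have hcomm : ∀ x, cF ((ι.baseChange S).lTensor k x) = ι.lTensor k (cN x) := by
    intro x
    induction x using TensorProduct.induction_on with
    | zero => simp
    | tmul c y =>
      induction y using TensorProduct.induction_on with
      | zero => simp
      | tmul s n => simp [cN, cF]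
      | add u v hu hv => simp only [tmul_add, map_add, hu, hv]
    | add u v hu hv => simp only [map_add, hu, hv]
  have hk' : Function.Injective (ι.lTensor k) := by
    intro x y hxy
    apply (TensorProduct.congr e.symm (LinearEquiv.refl A N)).injective
    refine hinj m ?_
    have hn : ∀ z, ι.lTensor (A ⧸ m) (TensorProduct.congr e.symm (LinearEquiv.refl A N) z) =
        TensorProduct.congr e.symm (LinearEquiv.refl A F₀) (ι.lTensor k z) := by
      intro z
      induction z using TensorProduct.induction_on with
      | zero => simp
      | tmul c n => simp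
      | add u v hu hv => simp only [map_add, hu, hv]
    rw [hn, hn, hxy]
  intro x y hxy
  exact cN.injective (hk' (by rw [← hcomm, ← hcomm, hxy]))

open CategoryTheory CategoryTheory.Limits in
/-- Let A be a Noetherian ring, Q a cochain complex whose terms are finitely generated projective
A-modules, and d an integer such that H^p(Q) = 0 for every p < d and H^p(Q ⊗_A A/m) = 0 for every p
< d and every maximal ideal m of A. Then Q^d / im(Q^{d-1} → Q^d), the degree-d term of the
truncation τ_{≥ d} Q, is a projective A-module, so that τ_{≥ d} Q is again a complex of projective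
modules. (The published statement also asserts that Q → τ_{≥ d} Q is a quasi-isomorphism when H^p(Q)
= 0 for p < d; this row omits that clause.) -/
theorem result (A : Type u) [CommRing A] [IsNoetherianRing A]
    (Q : CochainComplex (ModuleCat.{u} A) ℤ)
    (hQ : ∀ i, Module.Finite A (Q.X i) ∧ Module.Projective A (Q.X i)) (d : ℤ)
    (h1 : ∀ p < d, IsZero (Q.homology p))
    (h2 : ∀ (m : Ideal A) [m.IsMaximal], ∀ p < d,
      IsZero ((CohIII.tensorObj Q (ModuleCat.of A (A ⧸ m))).homology p)) :
    Module.Projective A (Q.opcycles d) := by
  have hex : ∀ (P : CochainComplex (ModuleCat.{u} A) ℤ), IsZero (P.homology (d - 1)) →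
      Function.Exact (P.d (d - 2) (d - 1)).hom (P.d (d - 1) d).hom := by
    intro P hP
    have h := (P.exactAt_iff_isZero_homology (d - 1)).2 hP
    rw [P.exactAt_iff' (d - 2) (d - 1) d (by simp; omega) (by simp)] at h
    exact (ShortComplex.ShortExact.moduleCat_exact_iff_function_exact _).1 h
  haveI := (hQ d).1
  haveI := (hQ d).2
  refine projective_aux (Q.d (d - 2) (d - 1)).hom (Q.d (d - 1) d).hom (Q.pOpcycles d).hom
    ((ModuleCat.epi_iff_surjective _).1 inferInstance) ?_ ?_ ?_
  · exact (ShortComplex.ShortExact.moduleCat_exact_iff_function_exact _).1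
      (ShortComplex.exact_of_g_is_cokernel (ShortComplex.mk _ (Q.pOpcycles d) (Q.d_pOpcycles (d - 1) d))
        (Q.opcyclesIsCokernel (d - 1) d (by simp)))
  · rw [← ModuleCat.hom_comp, Q.d_comp_d]; rfl
  · intro m _
    exact hex (CohIII.tensorObj Q (ModuleCat.of A (A ⧸ m))) (h2 m (d - 1) (by omega))

end Groth.Agent.S14611
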