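import Groth.Statements.S14614
import Mathlib.AlgebraicGeometry.Morphisms.FlatMono
import Mathlib.AlgebraicGeometry.Morphisms.Flat
import Mathlib.RingTheory.Filtration
import Mathlib.RingTheory.HopkinsLevitzki

set_option autoImplicit false
universe u
open Mor

namespace Groth.Agent.S14614

open CategoryTheory AlgebraicGeometry IsLocalRing in
theorem ker_stalkMap_le_pow {S Z : Scheme.{u}} (i : Z ⟶ S) [IsClosedImmersion i]
    (h : ∀ (A : Type u) [CommRing A] [IsArtinianRing A] [IsLocalRing A] (g : Spec (CommRingCat.of A) ⟶ S),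
      (∃ t : Spec (CommRingCat.of (IsLocalRing.ResidueField A)) ⟶ Z,
          t ≫ i = Spec.map (CommRingCat.ofHom (IsLocalRing.residue A)) ≫ g) →
        ∃ g' : Spec (CommRingCat.of A) ⟶ Z, g' ≫ i = g)
    (z : Z) [IsNoetherianRing (S.presheaf.stalk (i z))] (n : ℕ) :
    RingHom.ker (i.stalkMap z).hom ≤ maximalIdeal (S.presheaf.stalk (i z)) ^ (n + 1) := by
  set O := S.presheaf.stalk (i z)
  set I := maximalIdeal O ^ (n + 1)
  have hI : I ≤ maximalIdeal O := Ideal.pow_le_self n.succ_ne_zero
  have : Nontrivial (O ⧸ I) := Ideal.Quotient.nontrivial_iff.mpr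
    fun e => (maximalIdeal.isMaximal O).ne_top (top_le_iff.1 (e ▸ hI))
  have : IsLocalRing (O ⧸ I) := .of_surjective' _ Ideal.Quotient.mk_surjective
  have : IsArtinianRing (O ⧸ I) := by
    rw [isArtinianRing_iff_isNilpotent_maximalIdeal]
    refine ⟨n + 1, ?_⟩
    rw [← map_maximalIdeal_of_surjective (Ideal.Quotient.mk I) Ideal.Quotient.mk_surjective,
      ← Ideal.map_pow, Ideal.map_quotient_self, Ideal.zero_eq_bot]
  let q : O →+* O ⧸ I := Ideal.Quotient.mk I
  have : IsLocalHom q := .of_surjective _ Ideal.Quotient.mk_surjective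
  have hk : RingHom.ker (i.stalkMap z).hom ≤ RingHom.ker ((residue (O ⧸ I)).comp q) := fun a ha => by
    have hm : a ∈ maximalIdeal O := (mem_maximalIdeal a).2 fun hu => not_isUnit_zero
      ((RingHom.mem_ker.1 ha) ▸ hu.map (i.stalkMap z).hom)
    exact (residue_eq_zero_iff (q a)).2 (map_nonunit q a hm)
  let φ₀ : Z.presheaf.stalk z →+* ResidueField (O ⧸ I) :=
    RingHom.liftOfSurjective (i.stalkMap z).hom (i.stalkMap_surjective z) ⟨_, hk⟩
  let g : Spec (CommRingCat.of (O ⧸ I)) ⟶ S := Spec.map (CommRingCat.ofHom q) ≫ S.fromSpecStalk (i z)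
  obtain ⟨g', hg'⟩ := h (O ⧸ I) g ⟨Spec.map (CommRingCat.ofHom φ₀) ≫ Z.fromSpecStalk z, by
    rw [Category.assoc, ← Scheme.SpecMap_stalkMap_fromSpecStalk, ← Spec.map_comp_assoc,
      ← Category.assoc (Spec.map _) (Spec.map _), ← Spec.map_comp]
    congr 2
    ext a
    exact RingHom.liftOfSurjective_comp_apply (i.stalkMap z).hom (i.stalkMap_surjective z)
      ⟨(residue (O ⧸ I)).comp q, hk⟩ a⟩
  have hc : g' (closedPoint (O ⧸ I)) = z := i.isEmbedding.injective <| by
    rw [← Scheme.Hom.comp_apply, hg']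
    exact (congrArg (S.fromSpecStalk (i z)) (comap_closedPoint q)).trans Scheme.fromSpecStalk_closedPoint
  obtain ⟨ψ, hψ⟩ : ∃ ψ : Z.presheaf.stalk z ⟶ CommRingCat.of (O ⧸ I),
      Spec.map ψ ≫ Z.fromSpecStalk z = g' :=
    hc ▸ ⟨_, Scheme.Spec_stalkClosedPointTo_fromSpecStalk g'⟩
  have e : i.stalkMap z ≫ ψ = CommRingCat.ofHom q := Spec.map_injective <| by
    rw [← cancel_mono (S.fromSpecStalk (i z)), Spec.map_comp, Category.assoc,
      Scheme.SpecMap_stalkMap_fromSpecStalk, ← Category.assoc, hψ, hg']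
  intro a ha
  refine Ideal.Quotient.eq_zero_iff_mem.1 ?_
  have := congrArg (fun φ => φ.hom a) e
  simp only [CommRingCat.hom_comp, RingHom.comp_apply, CommRingCat.hom_ofHom, RingHom.mem_ker.1 ha, map_zero] at this
  exact this.symm

open CategoryTheory AlgebraicGeometry in
/-- Let S be a locally Noetherian scheme and i : Z → S a closed immersion with the following property:
for every Artinian local ring A with residue field k and every morphism g : Spec A → S, if the
restriction Spec k → Spec A → S of g factors through i then so does g. Then i is also an open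
immersion, i.e. the closed subscheme Z is open in S as a subscheme. (The published hypothesis is an
equivalence; its other direction always holds, so this row assumes only the implication.) -/
theorem result (S : Scheme.{u}) [IsLocallyNoetherian S]
    {Z : Scheme.{u}} (i : Z ⟶ S) [IsClosedImmersion i]
    (h : ∀ (A : Type u) [CommRing A] [IsArtinianRing A] [IsLocalRing A] (g : Spec (CommRingCat.of A) ⟶ S),
      (∃ t : Spec (CommRingCat.of (IsLocalRing.ResidueField A)) ⟶ Z,
          t ≫ i = Spec.map (CommRingCat.ofHom (IsLocalRing.residue A)) ≫ g) →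
        ∃ g' : Spec (CommRingCat.of A) ⟶ Z, g' ≫ i = g) :
    IsOpenImmersion i := by
  have hflat : Flat i := (Flat.iff_flat_stalkMap i).2 fun z => by
    have hinj : Function.Injective (i.stalkMap z) := (injective_iff_map_eq_zero (i.stalkMap z).hom).2 fun a ha => by
      have hm : a ∈ ⨅ n : ℕ, IsLocalRing.maximalIdeal (S.presheaf.stalk (i z)) ^ n :=
        (Ideal.mem_iInf).2 fun n => Ideal.pow_le_pow_right n.le_succ (ker_stalkMap_le_pow i h z n ha)
      rwa [Ideal.iInf_pow_eq_bot_of_isLocalRing _ (IsLocalRing.maximalIdeal.isMaximal _).ne_top,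
        Ideal.mem_bot] at hm
    exact RingHom.Flat.of_bijective ⟨hinj, i.stalkMap_surjective z⟩
  exact IsOpenImmersion.of_flat_of_mono i

end Groth.Agent.S14614
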