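import Groth.Statements.S14619
import Groth.Agent.QCoh.TruncModel
-- import your own Groth.Agent.* helpers here

set_option autoImplicit false
set_option linter.style.haveILetI false
set_option backward.isDefEq.respectTransparency false
set_option backward.isDefEq.respectTransparency.types false
set_option maxHeartbeats 1000000
universe u
open Coherent

namespace Groth.Agent.S14619

open CategoryTheory CategoryTheory.Limits AlgebraicGeometry Groth.Agent Groth.Agent.QCoh in
/-- Let A be a Noetherian ring, X a proper scheme over Spec A and F a coherent O_X-module flat over Spec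
A. Suppose H^p(X, F) = 0 for all p > d and H^p(X_y, F|X_y) = 0 for every point y of Spec A and every
p < d'. Then there is a cochain complex L of finitely generated projective A-modules, with L^i = 0
unless d' ≤ i ≤ d and with L = 0 when all H^p(X, F) vanish, such that for every A-algebra B and
every p the cohomology H^p(X ×_A Spec B, ξ^*F) of the pulled-back module is isomorphic to H^p(L ⊗_A
B). Only the existence of these isomorphisms of abelian groups is asserted (no naturality in B). -/
theorem result (A : Type u) [CommRing A] [IsNoetherianRing A] (X : Scheme.{u}) [X.Over (Spec (CommRingCat.of A))]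
    [IsProper (X ↘ Spec (CommRingCat.of A))] (F : X.Modules) (hF : Coh.IsCoh F)
    (hfl : FlatMod.IsFlatOver (X ↘ Spec (CommRingCat.of A)) F) (d' d : ℕ)
    (hd : ∀ p : ℕ, d < p → Subsingleton (Coh.HH X F p))
    (hd' : ∀ (y : ↑(Spec (CommRingCat.of A))) (p : ℕ), p < d' →
      Subsingleton (CohIII.fiberH (X ↘ Spec (CommRingCat.of A)) F y p)) :
    ∃ L : CochainComplex (ModuleCat.{u} A) ℤ,
      (∀ i, Module.Finite A (L.X i) ∧ Module.Projective A (L.X i)) ∧
      (∀ i : ℤ, i < (d' : ℤ) ∨ (d : ℤ) < i → IsZero (L.X i)) ∧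
      ((∀ p : ℕ, Subsingleton (Coh.HH X F p)) → ∀ i, IsZero (L.X i)) ∧
      ∀ (B : Type u) [CommRing B] [Algebra A B] (p : ℕ),
        Nonempty (Coh.HH (pullback (X ↘ Spec (CommRingCat.of A)) (Spec.map (CommRingCat.ofHom (algebraMap A B))))
            ((Scheme.Modules.pullback (pullback.fst (X ↘ Spec (CommRingCat.of A))
              (Spec.map (CommRingCat.ofHom (algebraMap A B))))).obj F) p ≃+
          CohIII.T L (p : ℤ) (ModuleCat.of A B)) := by
    obtain ⟨P, hP⟩ := exists_isBCModel F hF hfl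
    obtain ⟨c, hc⟩ := hP.2.2.1
    let π := X ↘ Spec (CommRingCat.of A)
    have hpos : ∀ q : ℤ, 0 < q → PBC.ExactPts P q := fun q hq x => by
      let κ := x.asIdeal.ResidueField
      obtain ⟨e⟩ := nonempty_bcT_iso P (algebraMap A κ) q
      let K := CohIII.bcCx (algebraMap A κ) P
      haveI h0 : Subsingleton ((CohIII.tensorObj K (ModuleCat.of κ κ)).homology q) :=
        AddCommGrpCat.subsingleton_of_isZero ((Functor.map_isZero (forget₂ (ModuleCat.{u} A) AddCommGrpCat.{u})
          (hP.2.2.2.1 q hq ((ModuleCat.restrictScalars (algebraMap A κ)).obj (ModuleCat.of κ κ)))).of_iso (e.app _))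
      haveI : Subsingleton (K.homology q) :=
        @Equiv.subsingleton _ _ (((HomologicalComplex.homologyFunctor _ _ q).mapIso (tensorSelfIso (P := K))).toLinearEquiv).symm.toEquiv h0
      exact Module.finrank_zero_of_subsingleton
    have hH : ∀ p : ℕ, Subsingleton (Coh.HH X F p) → Subsingleton (P.homology (-(p : ℤ))) := fun p hp => by
      have hsq : IsPullback (𝟙 X) π π (Spec.map (CommRingCat.ofHom (RingHom.id A))) := by
        haveI : IsIso (Spec.map (CommRingCat.ofHom (RingHom.id A))) :=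
          inferInstanceAs (IsIso (Spec.map (𝟙 (CommRingCat.of A))))
        exact IsPullback.of_horiz_isIso ⟨by
          show 𝟙 _ ≫ π = π ≫ Spec.map (𝟙 (CommRingCat.of A))
          rw [Spec.map_id, Category.comp_id, Category.id_comp]⟩
      obtain ⟨e₂⟩ := hP.2.2.2.2.2 A (RingHom.id A) X (𝟙 X) π hsq p
      let eid : CohIII.bcCx (RingHom.id A) P ≅ P :=
        HomologicalComplex.Hom.isoOfComponents (fun n => (ModuleCat.extendScalarsId A).app (P.X n))
          fun a b _ => ((ModuleCat.extendScalarsId A).hom.naturality (P.d a b)).symm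
      let e₀ := HHcongr (Coh.toGlobal π) ((Scheme.Modules.pullbackId X).app F) p
      let e₃ := ((HomologicalComplex.homologyFunctor _ _ (-(p : ℤ))).mapIso eid).toLinearEquiv
      haveI : Subsingleton (Coh.HH X ((Scheme.Modules.pullback (𝟙 X)).obj F) p) := @Equiv.subsingleton _ _ e₀.toEquiv hp
      have : Subsingleton ((CohIII.bcCx (RingHom.id A) P).homology (-(p : ℤ))) := e₂.toEquiv.symm.subsingleton
      exact @Equiv.subsingleton _ _ e₃.toEquiv.symm this
    have hfib : ∀ p : ℕ, p < d' → PBC.ExactPts P (-(p : ℤ)) := fun p hp x =>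
      (subsingleton_fibreH_iff hP x p).1 (hd' x p hp)
    have hQ : ∃ Q : ChainComplex (ModuleCat.{u} A) ℤ, (∀ i, Module.Finite A (Q.X i) ∧ Module.Projective A (Q.X i)) ∧
        (∀ i, i < -(d : ℤ) ∨ -(d' : ℤ) < i → IsZero (Q.X i)) ∧ Nonempty (HomotopyEquiv Q P) ∧
        ((∀ p : ℕ, Subsingleton (Coh.HH X F p)) → ∀ i, IsZero (Q.X i)) := by
      by_cases hall : ∀ p : ℕ, Subsingleton (Coh.HH X F p)
      · obtain ⟨Q, h1, h2, h3⟩ := Trunc.exists_trunc P hP.1 hP.2.1 (a := 1) (b := 0) hc (fun q hq => by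
          obtain ⟨p, rfl⟩ : ∃ p : ℕ, -(p : ℤ) = q := ⟨(-q).toNat, by omega⟩
          exact hH p (hall p)) hpos
        exact ⟨Q, h1, fun i _ => h2 i (by omega), h3, fun _ i => h2 i (by omega)⟩
      · obtain ⟨Q, h1, h2, h3⟩ := Trunc.exists_trunc P hP.1 hP.2.1 (a := -(d : ℤ)) (b := -(d' : ℤ)) hc (fun q hq => by
          obtain ⟨p, rfl⟩ : ∃ p : ℕ, -(p : ℤ) = q := ⟨(-q).toNat, by omega⟩
          exact hH p (hd p (by omega))) (fun q hq => by
          rcases lt_or_ge 0 q with h | h
          · exact hpos q h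
          · obtain ⟨p, rfl⟩ : ∃ p : ℕ, -(p : ℤ) = q := ⟨(-q).toNat, by omega⟩
            exact hfib p (by omega))
        exact ⟨Q, h1, h2, h3, fun h => absurd h hall⟩
    obtain ⟨Q, h1, h2, ⟨h3⟩, h4⟩ := hQ
    refine ⟨Trunc.fwdCx Q, fun i => h1 _, fun i hi => h2 _ (by omega), fun h i => h4 h _, fun B _ _ p => ?_⟩
    let φ := algebraMap A B
    obtain ⟨e₂⟩ := hP.2.2.2.2.2 B φ _ (pullback.fst π (Spec.map (CommRingCat.ofHom φ)))
      (pullback.snd π (Spec.map (CommRingCat.ofHom φ))) (IsPullback.of_hasPullback _ _) p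
    obtain ⟨eb⟩ := nonempty_bcT_iso P φ (-(p : ℤ))
    let K := CohIII.bcCx φ P
    let e₄ : (CohIII.T K (-(p : ℤ)) (ModuleCat.of B B)) ≅ K.homology (-(p : ℤ)) :=
      (HomologicalComplex.homologyFunctor _ _ (-(p : ℤ))).mapIso (tensorSelfIso (P := K))
    let eB : (ModuleCat.restrictScalars φ).obj (ModuleCat.of B B) ≅ ModuleCat.of A B :=
      LinearEquiv.toModuleIso (X₁ := (ModuleCat.restrictScalars φ).obj (ModuleCat.of B B))
        { AddEquiv.refl B with map_smul' := fun r b => (Algebra.smul_def r (show B from b)).symm }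
    obtain ⟨f1⟩ := Trunc.nonempty_T_fwdCx Q (p : ℤ) (ModuleCat.of A B)
    obtain ⟨f2⟩ := Trunc.nonempty_T_homotopyEquiv P h3 (-(p : ℤ)) (ModuleCat.of A B)
    let a1 := (forget₂ (ModuleCat.{u} A) AddCommGrpCat.{u}).mapIso
      ((CohIII.TFun P (-(p : ℤ))).mapIso eB ≪≫ f2.symm ≪≫ f1.symm)
    exact ⟨e₂.toAddEquiv.trans (((forget₂ (ModuleCat.{u} B) AddCommGrpCat.{u}).mapIso e₄.symm ≪≫
      eb.app (ModuleCat.of B B) ≪≫ a1).addCommGroupIsoToAddEquiv)⟩

end Groth.Agent.S14619
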