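import Groth.Statements.S14649
import Groth.Agent.H6FiltBl.CM

set_option autoImplicit false
universe u
open FiltBl

namespace Groth.Agent.S14649

/-- Let A be a Noetherian local ring that is a quotient of a Gorenstein ring, and F a filtration of
ideals on A (F^0 = A ⊇ F^1 ⊇ ⋯, F^i F^j ⊆ F^{i+j}) with every F^n nonzero and ⋂ F^n = 0, whose Rees
algebra ⊕_{n ≥ 0} F^n X^n is finitely generated over A and with F^1 of height at least 2
(equivalently, every F^n with n ≥ 1 has height at least 2, all F^n having the same radical). Then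
the extended Rees algebra R' = ⊕_{n ∈ ℤ} F^n T^n ⊆ A[T, T⁻¹] is a Cohen–Macaulay ring if and only if
the associated graded ring G = ⊕ F^n/F^{n+1}, realised as R'/uR' with u = T⁻¹, is a Cohen–Macaulay
ring. (The published statement is made under the further standing assumption that no nonzero element
of the Rees algebra ⊕_{n ≥ 0} F^n T^n is annihilated by a power of the ideal generated by its
homogeneous elements of positive degree; this row does not assume it, and the assertion holds
without it.) -/
theorem result (A : Type u) [CommRing A] [IsNoetherianRing A] [IsLocalRing A]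
    (S : Type u) [CommRing S] [LocCoh.IsGorensteinRing S] (π : S →+* A) (hπ : Function.Surjective π)
    (𝓕 : FiltBl.IdealFiltration A) (hne : ∀ n, 𝓕.F n ≠ ⊥) (hsep : ⨅ n, 𝓕.F n = ⊥)
    (hfg : Algebra.FiniteType A 𝓕.rees) (hht : 2 ≤ (𝓕.F 1).height) :
    LocCoh.IsCohenMacaulayRing 𝓕.extRees ↔ LocCoh.IsCohenMacaulayRing 𝓕.Gr := by
  haveI : IsNoetherianRing 𝓕.extRees :=
    haveI := H6FiltBl.finiteType_extRees 𝓕 hfg
    Algebra.FiniteType.isNoetherianRing A _
  haveI : IsNoetherianRing 𝓕.Gr := Ideal.Quotient.isNoetherianRing _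
  refine ⟨fun h => { isCohenMacaulayLocalRing_localization := ?_ }, fun h => { isCohenMacaulayLocalRing_localization := ?_ }⟩
  · exact H6FiltBl.gr_of_extRees 𝓕 H6FiltBl.localProperty_cm
      (fun p _ => h.isCohenMacaulayLocalRing_localization p)
  · exact H6FiltBl.extRees_of_gr 𝓕 H6FiltBl.localProperty_cm (H6FiltBl.one_ne_top 𝓕 hsep)
      (fun p _ => h.isCohenMacaulayLocalRing_localization p)

end Groth.Agent.S14649
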