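import Groth.Statements.S14652
import Groth.Agent.H6Filt.Gauss

set_option autoImplicit false
universe u
open FiltBl

namespace Groth.Agent.S14652

/-- Let A be a Noetherian integrally closed domain with fraction field K, let v_1, …, v_s be finitely
many valuations on K with values in ℤ ∪ {∞} (written additively) that are non-negative on A, and let
r_i = p_i / q_i be positive rationals (p_i, q_i positive integers). Let F be the filtration of
ideals of A given by F^k = {x ∈ A | q_i · v_i(x) ≥ k · p_i for every i}. Then the Rees algebra ⊕_{k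
≥ 0} F^k X^k ⊆ A[X] is an integrally closed domain (it need not be Noetherian). -/
theorem result (A K : Type u) [CommRing A] [IsDomain A]
    [IsNoetherianRing A] [IsIntegrallyClosed A] [Field K] [Algebra A K] [IsFractionRing A K]
    (ι : Type) [Finite ι] (v : ι → AddValuation K (WithTop ℤ))
    (hv : ∀ (i : ι) (x : A), 0 ≤ v i (algebraMap A K x)) (p q : ι → ℕ) (hp : ∀ i, 0 < p i)
    (hq : ∀ i, 0 < q i) (𝓕 : FiltBl.IdealFiltration A)
    (hF : ∀ (k : ℕ) (x : A), x ∈ 𝓕.F k ↔
      ∀ i, ((k * p i : ℕ) : WithTop ℤ) ≤ (q i : WithTop ℤ) * v i (algebraMap A K x)) :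
    IsIntegrallyClosed 𝓕.rees := by
  classical
  have hinj : Function.Injective 𝓕.rees.val := Subtype.val_injective
  let V : ι → AddValuation K (WithTop ℤ) := fun i =>
    (v i).map (AddMonoidHom.withTopMap (AddMonoidHom.mulLeft (q i : ℤ))) rfl
      ((Monotone.withTop_map fun a b h => mul_le_mul_of_nonneg_left h (Int.natCast_nonneg _)))
  have hV : ∀ i x, V i x = (q i : WithTop ℤ) * v i x := fun i x => by
    change WithTop.map _ (v i x) = _
    rcases eq_or_ne (v i x) ⊤ with h | h
    · rw [h, WithTop.map_top, WithTop.mul_top (by simpa using (hq i).ne')]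
    · obtain ⟨z, hz⟩ := WithTop.ne_top_iff_exists.1 h
      rw [← hz, WithTop.map_coe, ← WithTop.coe_natCast, ← WithTop.coe_mul]
      rfl
  have hmem : ∀ f : Polynomial A, f ∈ 𝓕.rees ↔ ∀ i, Groth.Agent.H6Filt.Ge (V i) (p i) f 0 := fun f => by
    refine ⟨fun h i n => ?_, fun h n => (hF n _).2 fun i => ?_⟩
    · rw [hV]
      rw [zero_add, ← Nat.cast_mul, WithTop.coe_natCast]
      exact (hF n _).1 (h n) i
    · have := h i n
      rwa [hV, zero_add, ← Nat.cast_mul, WithTop.coe_natCast] at this
  have hclosed : ∀ f : Polynomial A, IsIntegral 𝓕.rees f → f ∈ 𝓕.rees := fun f hf =>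
    (hmem f).2 fun i => Groth.Agent.H6Filt.ge_zero_of_isIntegral (V i) (p i)
      (fun x => by
        change (AddMonoidHom.withTopMap (AddMonoidHom.mulLeft (q i : ℤ))) 0 ≤ _ at *
        exact (Monotone.withTop_map fun a b h => mul_le_mul_of_nonneg_left h (Int.natCast_nonneg _)) (hv i x))
      (algebraMap 𝓕.rees (Polynomial A)) (fun c => (hmem _).1 c.2 i) hf
  let L := FractionRing (Polynomial A)
  let F := FractionRing 𝓕.rees
  let e : F →+* L := IsFractionRing.lift (A := 𝓕.rees) (g := (algebraMap (Polynomial A) L).comp 𝓕.rees.val.toRingHom)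
    ((IsFractionRing.injective (Polynomial A) L).comp hinj)
  rw [isIntegrallyClosed_iff F]
  intro x hx
  have he : e.comp (algebraMap 𝓕.rees F) = algebraMap 𝓕.rees L := RingHom.ext fun c => by
    rw [RingHom.comp_apply, IsFractionRing.lift_algebraMap]
    rfl
  have hint : IsIntegral 𝓕.rees (e x) := by
    obtain ⟨P, hP, hP0⟩ := hx
    exact ⟨P, hP, by rw [← he, ← Polynomial.hom_eval₂, hP0, map_zero]⟩
  obtain ⟨h, hh⟩ := IsIntegrallyClosed.algebraMap_eq_of_integral (R := Polynomial A) hint.tower_top
  have hh' : IsIntegral 𝓕.rees h := (isIntegral_algebraMap_iff (IsFractionRing.injective (Polynomial A) L)).1 (hh ▸ hint)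
  refine ⟨⟨h, hclosed h hh'⟩, e.injective ?_⟩
  rw [IsFractionRing.lift_algebraMap]
  exact hh

end Groth.Agent.S14652
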