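import Groth.Statements.S14653
import Groth.Agent.H6FiltBl.UFD

set_option autoImplicit false
set_option backward.isDefEq.respectTransparency false
universe u
open FiltBl

namespace Groth.Agent.S14653

/-- Let A be a Noetherian local ring that is a quotient of a Gorenstein ring, and F a filtration of
ideals on A (F^0 = A ⊇ F^1 ⊇ ⋯, F^i F^j ⊆ F^{i+j}) with every F^n nonzero and ⋂ F^n = 0, whose Rees
algebra ⊕_{n ≥ 0} F^n X^n is finitely generated over A and with F^1 of height at least 2
(equivalently, every F^n with n ≥ 1 has height at least 2, all F^n having the same radical); assume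
moreover that the extended Rees algebra R' = ⊕_{n ∈ ℤ} F^n T^n ⊆ A[T, T⁻¹] is an integrally closed
domain. Then R' is a unique factorization domain exactly when A is one and the associated graded
ring G = ⊕ F^n/F^{n+1}, realised as R'/uR' with u = T⁻¹, is an integral domain. (The published
statement is made under the further standing assumption that no nonzero element of the Rees algebra
⊕_{n ≥ 0} F^n T^n is annihilated by a power of the ideal generated by its homogeneous elements of
positive degree; this row does not assume it, and the assertion holds without it.) -/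
theorem result (A : Type u) [CommRing A] [IsNoetherianRing A] [IsLocalRing A]
    (S : Type u) [CommRing S] [LocCoh.IsGorensteinRing S] (π : S →+* A) (hπ : Function.Surjective π)
    (𝓕 : FiltBl.IdealFiltration A) (hne : ∀ n, 𝓕.F n ≠ ⊥) (hsep : ⨅ n, 𝓕.F n = ⊥)
    (hfg : Algebra.FiniteType A 𝓕.rees) (hht : 2 ≤ (𝓕.F 1).height) [IsDomain A]
    [IsDomain 𝓕.extRees] (hnor : IsIntegrallyClosed 𝓕.extRees) :
    UniqueFactorizationMonoid 𝓕.extRees ↔ (UniqueFactorizationMonoid A ∧ IsDomain 𝓕.Gr) := by
  haveI : IsNoetherianRing 𝓕.extRees :=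
    haveI := H6FiltBl.finiteType_extRees 𝓕 hfg
    Algebra.FiniteType.isNoetherianRing A _
  haveI := H6FiltBl.isLocalization_away_u 𝓕
  have h1 := H6FiltBl.one_ne_top 𝓕 hsep
  constructor
  · intro h
    have hu : Prime 𝓕.u := UniqueFactorizationMonoid.irreducible_iff_prime.1 (H6FiltBl.irreducible_u 𝓕 h1)
    exact ⟨H6FiltBl.ufd_of_laurent (H6FiltBl.ufd_of_isLocalization (Submonoid.powers 𝓕.u)
      (Submonoid.powers_le.2 (H6FiltBl.u_mem_nonZeroDivisors 𝓕)) (LaurentPolynomial A)),
      (H6FiltBl.prime_u_iff 𝓕).1 hu⟩
  · rintro ⟨hA, hG⟩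
    haveI := H6FiltBl.ufd_of_isLocalization (Submonoid.powers (Polynomial.X : Polynomial A))
      (Submonoid.powers_le.2 (mem_nonZeroDivisors_of_ne_zero Polynomial.X_ne_zero)) (LaurentPolynomial A)
    exact H6FiltBl.ufd_of_away ((H6FiltBl.prime_u_iff 𝓕).2 hG) (LaurentPolynomial A)

end Groth.Agent.S14653
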