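import Groth.Statements.S14657
import Groth.Agent.H6GradedClosure.Punctured

set_option autoImplicit false
universe u
open FiltBl

namespace Groth.Agent.S14657

/-- (i) ⇔ (ii): let k be a field and G a Noetherian ℕ-graded k-algebra which is an integral domain of
Krull dimension at least 2 with G_0 = k (the degree-0 part is the image of k); let L be the fraction
field of G and Ḡ the integral closure of G in L. Then the open subscheme Spec G − V(G_+) is normal,
i.e. G_p is integrally closed for every prime p not containing the irrelevant ideal G_+, if and only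
if the G-module Ḡ/G has finite length. -/
theorem result (k : Type u) [Field k]
    (G : Type u) [CommRing G] [IsDomain G] [Algebra k G] [IsNoetherianRing G]
    (𝒢 : ℕ → Submodule k G) [GradedAlgebra 𝒢]
    (h0 : ∀ x ∈ 𝒢 0, x ∈ Set.range (algebraMap k G)) (hdim : 2 ≤ ringKrullDim G)
    (L : Type u) [Field L] [Algebra G L] [IsFractionRing G L] :
    (∀ (p : Ideal G) [p.IsPrime], ¬ (HomogeneousIdeal.irrelevant 𝒢).toIdeal ≤ p →
        IsIntegrallyClosed (Localization.AtPrime p)) ↔
      IsFiniteLength G (↥(integralClosure G L) ⧸
        LinearMap.range (Algebra.linearMap G ↥(integralClosure G L))) := by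
  haveI := H6GradedClosure.finite_integralClosure 𝒢 L h0
  constructor
  · intro h
    refine H6GradedClosure.isFiniteLength_of_irrelevant_le_radical 𝒢 L h0 ?_
    rw [Ideal.radical_eq_sInf]
    refine le_sInf fun p hp => ?_
    haveI := hp.2
    by_contra hle
    exact (H6GradedClosure.isIntegrallyClosed_atPrime_iff L p).1 (h p hle) hp.1
  · intro h p _ hp
    exact (H6GradedClosure.isIntegrallyClosed_atPrime_iff L p).2 fun hle =>
      hp ((H6GradedClosure.irrelevant_le_radical_of_isFiniteLength 𝒢 L h0 h).trans
        (‹p.IsPrime›.radical_le_iff.2 hle))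

end Groth.Agent.S14657
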