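import Groth.Statements.S14669
import Groth.Agent.AVTorsLib.Count

set_option autoImplicit false
universe u
open CategoryTheory CategoryTheory.Limits MonoidalCategory CartesianMonoidalCategory MonObj GrpObj AlgebraicGeometry
open AbVar

namespace Groth.Agent.S14669

/-- Let k be an algebraically closed field, A an abelian variety over k (a proper, geometrically
integral, commutative group scheme over k) of dimension g, and n ≥ 1 an integer. Then the group A(k)
of k-points of A is n-divisible, the number of k-points of A killed by n divides n^(2g), and this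
number equals n^(2g) if and only if n is not a multiple of the characteristic of k, i.e. n is
nonzero in k. (The published statement allows g = 0; for A = Spec k and n divisible by the
characteristic the last equivalence fails, and the printed proof uses that Ω_{A/k} has positive
rank, so positive dimension is assumed here.) -/
theorem result (k : Type u) [Field k] [IsAlgClosed k]
    (A : Over (Spec (CommRingCat.of k)))
    [GrpObj A] [IsCommMonObj A] [IsProper A.hom] [GeometricallyIntegral A.hom]
    (g : ℕ) (hg : topologicalKrullDim A.left = g) (hg0 : 0 < g) (n : ℕ) (hn : 0 < n) :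
    (∀ a : (𝟙_ (Over (Spec (CommRingCat.of k)))) ⟶ A, ∃ b : (𝟙_ (Over (Spec (CommRingCat.of k)))) ⟶ A, b ^ n = a) ∧
    Nat.card ↥(AbDual.torsPts A n (𝟙_ (Over (Spec (CommRingCat.of k))))) ∣ n ^ (2 * g) ∧
    (Nat.card ↥(AbDual.torsPts A n (𝟙_ (Over (Spec (CommRingCat.of k))))) = n ^ (2 * g) ↔ (n : k) ≠ 0) := by
  refine ⟨fun a => Groth.Agent.AVTorsLib.exists_pow_eq (A := A) n hn a, ?_⟩
  show Nat.card ↥(AbDual.torsPts A n (Groth.Agent.AVTorsLib.base k)) ∣ n ^ (2 * g) ∧
    (Nat.card ↥(AbDual.torsPts A n (Groth.Agent.AVTorsLib.base k)) = n ^ (2 * g) ↔ (n : k) ≠ 0)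
  by_cases hnk : (n : k) = 0
  · obtain ⟨p, hp⟩ := CharP.exists k
    rcases CharP.char_is_prime_or_zero k p with hp' | rfl
    swap
    · haveI : CharZero k := CharP.charP_to_charZero k
      exact absurd hnk (Nat.cast_ne_zero.2 hn.ne')
    haveI := Fact.mk hp'
    obtain ⟨a, m, hm, rfl⟩ := Nat.exists_eq_pow_mul_and_not_dvd hn.ne' p hp'.ne_one
    have hmk : (m : k) ≠ 0 := fun h => hm ((CharP.cast_eq_zero_iff k p m).1 h)
    obtain ⟨i, hi, hi'⟩ := Groth.Agent.AVTorsLib.exists_pRank (A := A) hg p
    obtain ⟨e⟩ := hi' a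
    haveI : NeZero (p ^ a) := ⟨pow_ne_zero _ hp'.ne_zero⟩
    have hpa : Nat.card ↥(AbDual.torsPts A (p ^ a) (Groth.Agent.AVTorsLib.base k)) = p ^ (a * i) := by
      rw [Nat.card_congr e.toEquiv, Nat.card_congr Multiplicative.toAdd, Nat.card_fun, Nat.card_zmod, Nat.card_fin,
        ← pow_mul]
    have hcop : (p ^ a).Coprime m := ((Nat.Prime.coprime_iff_not_dvd hp').2 hm).pow_left a
    obtain ⟨s⟩ := Groth.Agent.AVTorsLib.nonempty_equiv_tor_mul (P := Additive (Groth.Agent.AVTorsLib.base k ⟶ A)) hcop
    have hcard : Nat.card ↥(AbDual.torsPts A (p ^ a * m) (Groth.Agent.AVTorsLib.base k)) = p ^ (a * i) * m ^ (2 * g) := by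
      rw [← Nat.card_congr ((Groth.Agent.AVTorsLib.torAddEquiv A (p ^ a * m)).toEquiv.trans Additive.toMul),
        Nat.card_congr s.toEquiv, Nat.card_prod,
        Nat.card_congr ((Groth.Agent.AVTorsLib.torAddEquiv A (p ^ a)).toEquiv.trans Additive.toMul), hpa,
        Nat.card_congr ((Groth.Agent.AVTorsLib.torAddEquiv A m).toEquiv.trans Additive.toMul),
        Groth.Agent.AVTorsLib.natCard_torsPts hg m hmk]
    rw [hcard, _root_.mul_pow, ← pow_mul]
    refine ⟨Nat.mul_dvd_mul_right (pow_dvd_pow p (Nat.mul_le_mul_left a (by omega))) _, ?_⟩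
    refine iff_of_false (fun h => ?_) (not_not.2 hnk)
    have hm0 : 0 < m ^ (2 * g) := pow_pos (Nat.pos_of_ne_zero fun h0 => hm (by rw [h0]; exact dvd_zero p)) _
    have h1 := Nat.pow_right_injective hp'.two_le (Nat.eq_of_mul_eq_mul_right hm0 h)
    have ha : a ≠ 0 := by
      rintro rfl
      simp at hnk
      exact hmk hnk
    have h2 : i = 2 * g := Nat.eq_of_mul_eq_mul_left (Nat.pos_of_ne_zero ha) h1
    omega
  · exact ⟨(Groth.Agent.AVTorsLib.natCard_torsPts hg n hnk).dvd,
      iff_of_true (Groth.Agent.AVTorsLib.natCard_torsPts hg n hnk) hnk⟩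

end Groth.Agent.S14669
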