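import Groth.Statements.S14670
import Groth.Agent.FlatMisc.FiniteRegular
import Mathlib.RingTheory.Flat.Localization

set_option autoImplicit false
universe u
open CAlg

namespace Groth.Agent.S14670

/-- Let R be a regular local ring and S an integral domain containing R as a subring over which it is a
finitely generated module, such that the localization of S at each of its maximal ideals is a
Cohen–Macaulay local ring. Then S is a flat R-module. (The published statement does not require S to
be a domain; in that generality it fails — for a discrete valuation ring R with residue field κ the
ring R × κ contains R diagonally, is finite over R with Cohen–Macaulay localizations, and is not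
flat — and the printed argument needs every maximal ideal of S to have height dim R, which holds
when S is a domain by going down.) -/
theorem result (R S : Type u) [CommRing R] [CommRing S]
    [IsRegularLocalRing R] [IsDomain S] [Algebra R S] [Module.Finite R S]
    (hinj : Function.Injective (algebraMap R S))
    (hCM : ∀ (q : Ideal S) [q.IsMaximal], LocCoh.IsCohenMacaulayLocalRing (Localization.AtPrime q)) :
    Module.Flat R S := by
  refine Module.flat_of_isLocalized_maximal (R := R) S S (fun q _ => Localization.AtPrime q)
    (fun q _ => Algebra.linearMap S (Localization.AtPrime q)) fun q hq => ?_
  haveI : IsDomain (Localization.AtPrime q) :=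
    IsLocalization.isDomain_localization q.primeCompl_le_nonZeroDivisors
  have hcomap : q.comap (algebraMap R S) = IsLocalRing.maximalIdeal R :=
    IsLocalRing.eq_maximalIdeal (Ideal.isMaximal_comap_of_isIntegral_of_isMaximal (R := R) q)
  haveI : q.LiesOver (IsLocalRing.maximalIdeal R) := ⟨hcomap.symm⟩
  have hinj' : Function.Injective (algebraMap R (Localization.AtPrime q)) := by
    rw [IsScalarTower.algebraMap_eq R S (Localization.AtPrime q)]
    exact (IsLocalization.injective (Localization.AtPrime q) q.primeCompl_le_nonZeroDivisors).comp hinj
  obtain ⟨h1, h2⟩ := FlatMisc.FiniteRegular.ringKrullDim_eq_of_finite (A := R) (C := S) (B := Localization.AtPrime q) q hinj'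
  haveI : IsLocalHom (algebraMap R (Localization.AtPrime q)) := by
    refine ⟨fun a ha => ?_⟩
    by_contra hna
    have : a ∈ q.comap (algebraMap R S) := hcomap ▸ hna
    rw [IsScalarTower.algebraMap_apply R S (Localization.AtPrime q)] at ha
    exact ((IsLocalization.AtPrime.isUnit_to_map_iff (Localization.AtPrime q) q _).1 ha) this
  haveI := hCM q
  exact S2082.result (by rw [h1, h2, add_zero])

end Groth.Agent.S14670
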