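import Groth.Statements.S14674
import Groth.Agent.RelCube.Group
-- import your own Groth.Agent.* helpers here

set_option autoImplicit false
universe u
open CategoryTheory CategoryTheory.Limits MonoidalCategory CartesianMonoidalCategory MonObj GrpObj AlgebraicGeometry
open AbSch

set_option backward.isDefEq.respectTransparency false
set_option backward.isDefEq.respectTransparency.types false
set_option synthInstance.maxHeartbeats 400000
set_option maxHeartbeats 1000000
set_option linter.style.haveILetI false
attribute [-instance] CategoryTheory.catToReflQuiver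

namespace Groth.Agent.S14674

/-- Let S be a locally Noetherian scheme, X an abelian scheme over S (an S-group scheme whose structure
morphism α is proper and flat with geometrically integral fibres) with unit section e : S ⟶ X, L an
invertible O_X-module and n an integer; write [n] for the n-th multiple of the identity in the group
of S-endomorphisms of X. Then [n]^*L ⊗ α^*(e^*L)^{⊗ n²} is isomorphic to L^{⊗(n²+n)/2} ⊗
[-1]^*L^{⊗(n²−n)/2} ⊗ α^*e^*L; equivalently [n]^*L ≅ L^{⊗(n²+n)/2} ⊗ [-1]^*L^{⊗(n²−n)/2} ⊗
[0]^*L^{⊗(1−n²)} with [0]^*L = α^*e^*L (existence of an isomorphism of O_X-modules only). -/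
theorem result {S : Scheme.{u}} [IsLocallyNoetherian S] (X : Over S) [GrpObj X] [IsProper X.hom] [Flat X.hom] [GeometricallyIntegral X.hom]
    (L : X.left.Modules) (hL : PicF.IsInvertible L) (n : ℤ) :
    Nonempty (CohB1.tensorMod ((Scheme.Modules.pullback (𝟙 X ^ n).left).obj L)
        ((Scheme.Modules.pullback X.hom).obj (CohB1.tensorPow ((Scheme.Modules.pullback (η[X]).left).obj L) (n.natAbs ^ 2))) ≅
      CohB1.tensorMod (CohB1.tensorMod (CohB1.tensorPow L ((n ^ 2 + n) / 2).toNat)
          ((Scheme.Modules.pullback (𝟙 X ^ (-1 : ℤ)).left).obj (CohB1.tensorPow L ((n ^ 2 - n) / 2).toNat)))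
        ((Scheme.Modules.pullback X.hom).obj ((Scheme.Modules.pullback (η[X]).left).obj L))) := by
  open Groth.Agent.H23.PicMul in
  open Groth.Agent.H23 in
  have key : PicF.cl ((Scheme.Modules.pullback (𝟙 X ^ n).left).obj L) *
      PicMul.pullHom X.hom (PicF.cl (CohB1.tensorPow ((Scheme.Modules.pullback (η[X]).left).obj L) (n.natAbs ^ 2))) =
      PicF.cl (CohB1.tensorPow L ((n ^ 2 + n) / 2).toNat) *
        PicMul.pullHom (𝟙 X ^ (-1 : ℤ)).left (PicF.cl (CohB1.tensorPow L ((n ^ 2 - n) / 2).toNat)) *
        PicMul.pullHom X.hom (PicF.cl ((Scheme.Modules.pullback (η[X]).left).obj L)) := by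
    rw [PicMul.cl_tensorPow, PicMul.cl_tensorPow, PicMul.cl_tensorPow, map_pow, map_pow]
    let c := PicF.cl L
    have hc : PicF.IsInvertibleCl c := ⟨L, rfl, hL⟩
    have he : PicMul.pullHom X.hom (PicF.cl ((Scheme.Modules.pullback (η[X]).left).obj L)) =
        RelCube.F c (1 : X ⟶ X) := by
      show PicMul.pullHom X.hom (PicMul.pullHom η[X].left c) = PicMul.pullHom (1 : X ⟶ X).left c
      rw [RelCube.one_left]
      exact PicClLib.pullCl_comp X.hom η[X].left c
    rw [he, zpow_neg_one]
    show RelCube.F c (𝟙 X ^ n) * _ = c ^ _ * RelCube.F c (𝟙 X)⁻¹ ^ _ * _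
    exact RelCube.pow_formula hc n
  refine PicMul.cl_eq_iff.1 (((PicMul.cl_tensor _ _).trans ?_).trans
    ((PicMul.cl_tensor _ _).trans (congrArg (· * _) (PicMul.cl_tensor _ _))).symm)
  exact key


end Groth.Agent.S14674
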