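import Groth.Statements.S14692
import Mathlib


set_option autoImplicit false
universe u
open CAlg

namespace Groth.Agent.S14692

theorem pow_le_aux (p : ℕ) (hp : 1 ≤ p) (d s : ℕ) : p ^ (s + d) ≤ p ^ s + d * (p ^ (s + d - 1) * (p - 1)) := by
  induction d with
  | zero => simp
  | succ d ih =>
    have h1 : p ^ (s + (d + 1)) = p ^ (s + d) + p ^ (s + d) * (p - 1) := by
      rw [← add_assoc, pow_succ]
      have : p ^ (s + d) * p = p ^ (s + d) * ((p - 1) + 1) := by rw [Nat.sub_add_cancel hp]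
      rw [this]; ring
    have h2 : p ^ (s + d - 1) ≤ p ^ (s + d) := Nat.pow_le_pow_right hp (Nat.sub_le _ _)
    have h3 : d * (p ^ (s + d - 1) * (p - 1)) ≤ d * (p ^ (s + d) * (p - 1)) :=
      Nat.mul_le_mul_left _ (Nat.mul_le_mul_right _ h2)
    rw [h1, show s + (d + 1) - 1 = s + d by omega, Nat.add_mul, Nat.one_mul]
    omega

theorem choose_dvd {A : Type u} [CommRing A] (π : A) (p : ℕ) (hp : p.Prime) (n m : ℕ)
    (hπ : π ^ (p ^ (n - 1) * (p - 1) * m) ∣ (p : A)) (k : ℕ) (hk0 : k ≠ 0) (hk : k < p ^ n) :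
    π ^ (m * (p ^ n - k)) ∣ ((p ^ n).choose k : A) := by
  obtain ⟨s, hs⟩ : ∃ s, k.factorization p = s := ⟨_, rfl⟩
  have hsk : p ^ s ≤ k := hs ▸ Nat.ordProj_le p hk0
  have hsn : s < n := (Nat.pow_lt_pow_iff_right hp.one_lt).1 (lt_of_le_of_lt hsk hk)
  have h1 : p ^ (n - s) ∣ (p ^ n).choose k := by
    have := Nat.ordProj_dvd ((p ^ n).choose k) p
    rwa [Nat.factorization_choose_prime_pow hp hk.le hk0, hs] at this
  have h2 : π ^ (p ^ (n - 1) * (p - 1) * m * (n - s)) ∣ ((p ^ n).choose k : A) := by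
    rw [pow_mul]
    refine (pow_dvd_pow_of_dvd hπ _).trans ?_
    simpa using map_dvd (Nat.castRingHom A) h1
  refine (pow_dvd_pow π ?_).trans h2
  have h3 : p ^ n - k ≤ (n - s) * (p ^ (n - 1) * (p - 1)) := by
    have := pow_le_aux p hp.one_lt.le (n - s) s
    rw [Nat.add_sub_cancel' hsn.le] at this
    omega
  calc m * (p ^ n - k) ≤ m * ((n - s) * (p ^ (n - 1) * (p - 1))) := Nat.mul_le_mul_left _ h3
    _ = _ := by ring

theorem expansion {A : Type u} [CommRing A] (π : A) (p : ℕ) (hp : p.Prime) (n j : ℕ)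
    (hπ : π ^ (p ^ (n - 1) * (p - 1) * (j + 1)) ∣ (p : A)) (e δ : ℕ) (he : e + δ = j + 1) :
    ∃ (N : ℕ) (a : ℕ → A), p ^ n = N + 1 ∧ ∀ (L : Type u) [CommRing L] [Algebra A L] (w : L),
      (1 + algebraMap A L π ^ e * w) ^ (p ^ n) = 1 + algebraMap A L π ^ (e * p ^ n) *
        (w ^ (p ^ n) + algebraMap A L π ^ δ * ∑ k ∈ Finset.range N, algebraMap A L (a k) * w ^ (k + 1)) := by
  obtain ⟨N, hN⟩ : ∃ N, p ^ n = N + 1 := ⟨p ^ n - 1, (Nat.sub_add_cancel (Nat.one_le_pow _ _ hp.pos)).symm⟩
  have key : ∀ k, ∃ a : A, k < N →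
      π ^ (e * (k + 1)) * ((p ^ n).choose (k + 1) : A) = π ^ (e * p ^ n) * (π ^ δ * a) := fun k => by
    by_cases hk : k < N
    · obtain ⟨b, hb⟩ := choose_dvd π p hp n (j + 1) hπ (k + 1) k.succ_ne_zero (by omega)
      refine ⟨π ^ (δ * (p ^ n - (k + 1) - 1)) * b, fun _ => ?_⟩
      obtain ⟨r, hr⟩ : ∃ r, p ^ n = (k + 1) + (r + 1) := ⟨p ^ n - (k + 1) - 1, by omega⟩
      rw [hb, hr, ← he, Nat.add_sub_cancel_left, Nat.add_sub_cancel]
      ring
    · exact ⟨0, fun h => absurd h hk⟩
  choose a ha using key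
  refine ⟨N, a, hN, fun L _ _ w => ?_⟩
  have hsum : ∑ k ∈ Finset.range N, (algebraMap A L π ^ e * w) ^ (k + 1) * ((p ^ n).choose (k + 1) : L) =
      algebraMap A L π ^ (e * p ^ n) * (algebraMap A L π ^ δ * ∑ k ∈ Finset.range N, algebraMap A L (a k) * w ^ (k + 1)) := by
    rw [Finset.mul_sum, Finset.mul_sum]
    refine Finset.sum_congr rfl fun k hk => ?_
    have := congrArg (algebraMap A L) (ha k (Finset.mem_range.1 hk))
    simp only [map_mul, map_pow, map_natCast] at this
    calc (algebraMap A L π ^ e * w) ^ (k + 1) * ((p ^ n).choose (k + 1) : L)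
        = (algebraMap A L π ^ (e * (k + 1)) * ((p ^ n).choose (k + 1) : L)) * w ^ (k + 1) := by ring
      _ = _ := by rw [this]; ring
  rw [add_comm (1 : L), add_pow]
  simp only [one_pow, mul_one]
  rw [Finset.sum_range_succ, show Finset.range (p ^ n) = Finset.range (N + 1) by rw [hN],
    Finset.sum_range_succ', hsum, Nat.choose_self, Nat.choose_zero_right]
  simp only [pow_zero, Nat.cast_one, mul_one]
  rw [mul_pow, ← pow_mul]
  ring

theorem core (p : ℕ) (hp : p.Prime) (n : ℕ) (j : ℕ)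
    {A : Type u} [CommRing A] [IsDomain A] [IsIntegrallyClosed A] (π : A) (hπ0 : π ≠ 0)
    (hπp : π ^ (p ^ (n - 1) * (p - 1) * (j + 1)) ∣ (p : A))
    (hlift : ∀ a : A, IsUnit (Ideal.Quotient.mk (Ideal.span {π}) a) → IsUnit a)
    (f g : Aˣ) (f₀ : A) (hfg : (f : A) * (g : A) ^ (p ^ n) = 1 + π ^ (j * p ^ n) * f₀)
    (hmax : ∀ (g' : Aˣ) (c : A), (f : A) * (g' : A) ^ (p ^ n) ≠ 1 + π ^ ((j + 1) * p ^ n) * c)
    {L : Type u} [CommRing L] [IsDomain L] [Algebra A L] (A' : Type u) [CommRing A'] [Algebra A A']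
    [IsLocalization.Away π A'] [Algebra A' L] [IsScalarTower A A' L]
    (hinj : Function.Injective (algebraMap A' L)) (Z : L) (hZ : Z ^ (p ^ n) = algebraMap A L f)
    (hred : (Ideal.span {algebraMap A (integralClosure A L) π}).IsRadical)
    (g₀ : A) : f₀ - g₀ ^ (p ^ n) ∉ Ideal.span {π} := by
  intro hmem
  obtain ⟨d, hd⟩ := Ideal.mem_span_singleton.1 hmem
  set π' := algebraMap A L π with hπ'
  obtain ⟨v, hv⟩ : ∃ v, π' * v = 1 := by
    refine ⟨algebraMap A' L (IsLocalization.Away.invSelf π), ?_⟩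
    rw [hπ', IsScalarTower.algebraMap_apply A A' L, ← map_mul, IsLocalization.Away.mul_invSelf, map_one]
  have hπ'0 : π' ≠ 0 := left_ne_zero_of_mul_eq_one hv
  obtain ⟨N, a, hN, hexp⟩ := expansion π p hp n j hπp j 1 rfl
  obtain ⟨N', a', hN', hexp'⟩ := expansion π p hp n j hπp (j + 1) 0 rfl
  -- the unit congruent to `f g^P`
  let u := 1 + π ^ j * g₀
  obtain ⟨c₀, hc₀⟩ : ∃ c₀, (f : A) * (g : A) ^ (p ^ n) = u ^ (p ^ n) + π ^ (j * p ^ n + 1) * c₀ := by
    refine ⟨d - ∑ k ∈ Finset.range N, a k * g₀ ^ (k + 1), ?_⟩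
    have h1 := hexp A g₀
    simp only [Algebra.algebraMap_self, RingHom.id_apply, pow_one] at h1
    rw [hfg, h1]
    linear_combination π ^ (j * p ^ n) * hd
  have hu : IsUnit u := hlift u <| by
    have h1 : IsUnit (Ideal.Quotient.mk (Ideal.span {π}) u ^ (p ^ n)) := by
      have h2 := ((f * g ^ (p ^ n) : Aˣ).isUnit).map (Ideal.Quotient.mk (Ideal.span {π}))
      rw [Units.val_mul, Units.val_pow_eq_pow_val, hc₀, map_add, map_pow,
        Ideal.Quotient.eq_zero_iff_mem.2 (Ideal.mul_mem_right _ _ (Ideal.pow_mem_of_mem _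
          (Ideal.mem_span_singleton_self π) _ (Nat.succ_pos _))), add_zero] at h2
      exact h2
    exact (isUnit_pow_iff (pow_ne_zero _ hp.ne_zero)).1 h1
  obtain ⟨uu, huu⟩ := hu
  let g' : Aˣ := g * uu⁻¹
  obtain ⟨c, hc⟩ : ∃ c, (f : A) * (g' : A) ^ (p ^ n) = 1 + π ^ (j * p ^ n + 1) * c := by
    refine ⟨c₀ * ((uu⁻¹ : Aˣ) : A) ^ (p ^ n), ?_⟩
    have h1 : u * ((uu⁻¹ : Aˣ) : A) = 1 := by rw [← huu, ← Units.val_mul, mul_inv_cancel, Units.val_one]
    calc (f : A) * (g' : A) ^ (p ^ n)
        = ((f : A) * (g : A) ^ (p ^ n)) * ((uu⁻¹ : Aˣ) : A) ^ (p ^ n) := by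
          simp only [g', Units.val_mul, mul_pow, mul_assoc]
      _ = (u * ((uu⁻¹ : Aˣ) : A)) ^ (p ^ n) + π ^ (j * p ^ n + 1) * (c₀ * ((uu⁻¹ : Aˣ) : A) ^ (p ^ n)) := by
          rw [hc₀, mul_pow]; ring
      _ = _ := by rw [h1, one_pow]
  let Z' := Z * algebraMap A L g'
  have hZ' : Z' ^ (p ^ n) = 1 + π' ^ (j * p ^ n + 1) * algebraMap A L c := by
    rw [mul_pow, hZ, ← map_pow, ← map_mul, hc]
    simp [hπ']
  let W := (Z' - 1) * v ^ j
  have hW : 1 + π' ^ j * W = Z' := by
    rw [show π' ^ j * W = (Z' - 1) * (π' * v) ^ j by rw [mul_pow]; ring, hv, one_pow]; ring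
  let S := ∑ k ∈ Finset.range N, algebraMap A L (a k) * W ^ (k + 1)
  have hWeq : W ^ (p ^ n) + π' * S = π' * algebraMap A L c := by
    have h1 := hexp L W
    rw [hW, hZ', pow_one, add_right_inj, pow_succ, mul_assoc] at h1
    exact (mul_left_cancel₀ (pow_ne_zero _ hπ'0) h1).symm
  have hWint : IsIntegral A W := by
    let q : Polynomial A := ∑ k ∈ Finset.range N, Polynomial.C (π * a k) * Polynomial.X ^ (k + 1) - Polynomial.C (π * c)
    have hdeg : q.degree < (p ^ n : ℕ) := by
      refine lt_of_le_of_lt (Polynomial.degree_sub_le _ _) (max_lt ?_ ?_)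
      · refine lt_of_le_of_lt (Polynomial.degree_sum_le _ _) ((Finset.sup_lt_iff (WithBot.bot_lt_coe _)).2 fun k hk => ?_)
        refine lt_of_le_of_lt (Polynomial.degree_C_mul_X_pow_le _ _) ?_
        exact_mod_cast (by have := Finset.mem_range.1 hk; omega : k + 1 < p ^ n)
      · refine lt_of_le_of_lt Polynomial.degree_C_le ?_
        exact_mod_cast (Nat.one_le_pow _ _ hp.pos : 0 < p ^ n)
    refine ⟨Polynomial.X ^ (p ^ n) + q, Polynomial.monic_X_pow_add hdeg, ?_⟩
    rw [← Polynomial.aeval_def]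
    simp only [q, map_add, map_sub, map_sum, map_mul, map_pow, Polynomial.aeval_X, Polynomial.aeval_C, mul_assoc,
      ← Finset.mul_sum]
    linear_combination hWeq
  let WB : integralClosure A L := ⟨W, hWint⟩
  have hmemB : WB ∈ Ideal.span {algebraMap A (integralClosure A L) π} := by
    refine hred ⟨p ^ n, Ideal.mem_span_singleton.2 ⟨algebraMap A _ c -
      ∑ k ∈ Finset.range N, algebraMap A _ (a k) * WB ^ (k + 1), Subtype.ext ?_⟩⟩
    push_cast
    show W ^ (p ^ n) = π' * (algebraMap A L c - S)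
    linear_combination hWeq
  obtain ⟨W', hW'⟩ := Ideal.mem_span_singleton.1 hmemB
  have hW'L : W = π' * (W' : L) := congrArg Subtype.val hW'
  let y : L := (W' : L) ^ (p ^ n) + ∑ k ∈ Finset.range N', algebraMap A L (a' k) * (W' : L) ^ (k + 1)
  have hy : π' ^ ((j + 1) * p ^ n) * y = π' ^ (j * p ^ n + 1) * algebraMap A L c := by
    have h1 := hexp' L (W' : L)
    rw [pow_zero, one_mul, pow_succ, mul_assoc, ← hW'L, hW, hZ', add_right_inj] at h1
    exact h1.symm
  have hyint : IsIntegral A y :=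
    (W'.2.pow _).add (IsIntegral.sum _ fun k _ => isIntegral_algebraMap.mul (W'.2.pow _))
  let c₂ : A' := algebraMap A A' (π ^ (j * p ^ n + 1) * c) * IsLocalization.Away.invSelf π ^ ((j + 1) * p ^ n)
  have hc₂ : algebraMap A A' π ^ ((j + 1) * p ^ n) * c₂ = algebraMap A A' (π ^ (j * p ^ n + 1) * c) := by
    rw [show algebraMap A A' π ^ ((j + 1) * p ^ n) * c₂ = algebraMap A A' (π ^ (j * p ^ n + 1) * c) *
      (algebraMap A A' π * IsLocalization.Away.invSelf π) ^ ((j + 1) * p ^ n) by rw [mul_pow]; ring,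
      IsLocalization.Away.mul_invSelf, one_pow, mul_one]
  have hc₂y : algebraMap A' L c₂ = y := by
    refine mul_left_cancel₀ (pow_ne_zero ((j + 1) * p ^ n) hπ'0) ?_
    rw [hy, hπ', IsScalarTower.algebraMap_apply A A' L π, ← map_pow, ← map_mul, hc₂,
      IsScalarTower.algebraMap_apply A A' L c, ← map_pow, ← map_mul, map_mul (algebraMap A A'), map_pow (algebraMap A A')]
  have hc₂int : IsIntegral A c₂ := by
    refine (isIntegral_algHom_iff (IsScalarTower.toAlgHom A A' L) hinj).1 ?_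
    show IsIntegral A (algebraMap A' L c₂)
    rw [hc₂y]; exact hyint
  have hM : Submonoid.powers π ≤ nonZeroDivisors A := powers_le_nonZeroDivisors_of_noZeroDivisors hπ0
  letI : Algebra A' (FractionRing A) :=
    (IsLocalization.lift (M := Submonoid.powers π) (g := algebraMap A (FractionRing A)) (S := A')
      (fun y => IsLocalization.map_units (FractionRing A) ⟨(y : A), hM y.2⟩)).toAlgebra
  haveI : IsScalarTower A A' (FractionRing A) := IsScalarTower.of_algebraMap_eq fun x => by
    rw [RingHom.algebraMap_toAlgebra, IsLocalization.lift_eq]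
  obtain ⟨b, hb⟩ := IsIntegrallyClosed.isIntegral_iff.1
    (hc₂int.map (IsScalarTower.toAlgHom A A' (FractionRing A)))
  refine hmax g' b ?_
  rw [hc, add_right_inj]
  apply IsFractionRing.injective A (FractionRing A)
  have h2 := congrArg (algebraMap A' (FractionRing A)) hc₂
  rw [map_mul, map_pow, ← IsScalarTower.algebraMap_apply, ← IsScalarTower.algebraMap_apply,
    show algebraMap A' (FractionRing A) c₂ = algebraMap A (FractionRing A) b from hb.symm] at h2
  rw [← h2, map_mul (algebraMap A (FractionRing A)), map_pow]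

end Groth.Agent.S14692

namespace Groth.Agent.S14692

/-- Let R be a discrete valuation ring of characteristic zero and residue characteristic p, with
uniformizer π and a primitive p^n-th root of unity ζ (n ≥ 1), and A a Noetherian integrally closed
domain which is a faithfully flat R-algebra, in which πA is a prime ideal and every element that is
a unit modulo π is a unit (as when A is π-adically complete, or local). Let f, g be units of A, j a
natural number with π^{p^{n−1}(p−1)(j+1)} dividing p (that is, j is less than the valuation of ζ −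
1, so that the polynomials ((1 + π^{j}T)^{p^n} − 1)/π^{jp^n} and ((1 + π^{j+1}T)^{p^n} −
1)/π^{(j+1)p^n} have coefficients in R), and f₀ ∈ A with f·g^{p^n} = 1 + π^{j p^n}·f₀; suppose j is
maximal with this property: there is no unit g' of A with f·g'^{p^n} ≡ 1 modulo π^{(j+1)p^n}.
Suppose moreover that the algebra L = A[1/π][Z]/(Z^{p^n} − f) is an integral domain (the
μ_{p^n}-torsor Z^{p^n} = f is connected on the generic fibre) and that, B denoting the integral
closure of A in L (the normalization of Spec A in that cover), the ideal πB is radical (the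
normalization has reduced special fibre). Then f₀ is not congruent modulo πA to a p^n-th power. (The
published statement phrases the hypothesis on j as: the class of the torsor Z^{p^n} = f lies in
H¹(Spec A, G_{π^j,n}) and not in H¹(Spec A, G_{π^{j+1},n}); the conditions on g and g' are its
ring-theoretic form, which is the first assertion of the same lemma; A is there factorial and
π-adically complete, or normal local, which this row keeps only through the consequences used:
integrally closed, and units lift modulo π.) -/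
theorem result
    (R : Type u) [CommRing R] [IsDomain R] [IsDiscreteValuationRing R] [CharZero R]
    (p : ℕ) [Fact p.Prime] [CharP (IsLocalRing.ResidueField R) p] (ϖ : R) (hϖ : Irreducible ϖ)
    (n : ℕ) (hn : 0 < n) (ζ : R) (hζ : IsPrimitiveRoot ζ (p ^ n))
    (A : Type u) [CommRing A] [IsDomain A] [IsNoetherianRing A] [IsIntegrallyClosed A] [Algebra R A]
    [Module.FaithfullyFlat R A]
    (hprime : (Ideal.span {algebraMap R A ϖ}).IsPrime)
    (hlift : ∀ a : A, IsUnit (Ideal.Quotient.mk (Ideal.span {algebraMap R A ϖ}) a) → IsUnit a)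
    (f g : Aˣ) (j : ℕ) (hj : ϖ ^ (p ^ (n - 1) * (p - 1) * (j + 1)) ∣ (p : R)) (f₀ : A)
    (hfg : (f : A) * (g : A) ^ (p ^ n) = 1 + (algebraMap R A ϖ) ^ (j * p ^ n) * f₀)
    (hmax : ∀ (g' : Aˣ) (c : A), (f : A) * (g' : A) ^ (p ^ n) ≠ 1 + (algebraMap R A ϖ) ^ ((j + 1) * p ^ n) * c)
    [IsDomain (AdjoinRoot (Polynomial.X ^ (p ^ n) - Polynomial.C (algebraMap A (Localization.Away (algebraMap R A ϖ)) (f : A))))]
    (hred : (Ideal.span {algebraMap A (integralClosure A (AdjoinRoot (Polynomial.X ^ (p ^ n) - Polynomial.C (algebraMap A (Localization.Away (algebraMap R A ϖ)) (f : A))))) (algebraMap R A ϖ)}).IsRadical)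
    (g₀ : A) : f₀ - g₀ ^ (p ^ n) ∉ Ideal.span {(algebraMap R A ϖ)} := by
  have hinjA : Function.Injective (algebraMap R A) := FaithfulSMul.algebraMap_injective R A
  have hπ0 : algebraMap R A ϖ ≠ 0 := (map_ne_zero_iff _ hinjA).2 hϖ.ne_zero
  have hπp : algebraMap R A ϖ ^ (p ^ (n - 1) * (p - 1) * (j + 1)) ∣ (p : A) := by
    simpa using map_dvd (algebraMap R A) hj
  have hP : p ^ n ≠ 0 := pow_ne_zero _ (Fact.out : p.Prime).ne_zero
  haveI : IsDomain (Localization.Away (algebraMap R A ϖ)) :=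
    IsLocalization.isDomain_localization (powers_le_nonZeroDivisors_of_noZeroDivisors hπ0)
  refine core p Fact.out n j (algebraMap R A ϖ) hπ0 hπp hlift f g f₀ hfg hmax
    (Localization.Away (algebraMap R A ϖ)) ?_ (AdjoinRoot.root _) ?_ hred g₀
  · exact AdjoinRoot.of.injective_of_degree_ne_zero (by
      rw [Polynomial.degree_X_pow_sub_C (Nat.pos_of_ne_zero hP)]; exact_mod_cast hP)
  · have h := AdjoinRoot.eval₂_root (Polynomial.X ^ (p ^ n) -
      Polynomial.C (algebraMap A (Localization.Away (algebraMap R A ϖ)) (f : A)))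
    simp only [Polynomial.eval₂_sub, Polynomial.eval₂_pow, Polynomial.eval₂_X, Polynomial.eval₂_C] at h
    exact sub_eq_zero.1 h

end Groth.Agent.S14692
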