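import Groth.Statements.S14695
import Groth.Agent.S13152
import Groth.Prelude.Def_ActBC

set_option linter.style.haveILetI false
set_option backward.isDefEq.respectTransparency false
set_option backward.isDefEq.respectTransparency.types false


set_option autoImplicit false
universe u
open CategoryTheory AlgebraicGeometry
open NonAbH1

namespace Groth.Agent.S14695

/-- In the case where the morphism Y → X is the identity of X: let X be a normal integral scheme
(integral, with every local ring an integrally closed domain), G and G' X-group schemes which are
finite and flat over X, and g : G → G' a homomorphism which becomes an isomorphism after base change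
to the spectrum of the function field of X. If an fppf G-torsor P over X becomes trivial after
extension of the structure group along g — there is an fppf G'-torsor P' over X with a g-equivariant
X-morphism P → P', and P' has a section over X — then P has a section over X. (The published
statement takes G, G' commutative and all schemes Noetherian, allows also composition with the
pull-back along a morphism Y → X admitting a rational section, and is phrased as injectivity of
H¹(X, G) → H¹(Y, G'_Y); this row is the case where Y → X is the identity of X, as the trivial-kernel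
assertion the argument establishes, for which commutativity and the Noetherian condition are not
needed.) -/
theorem result {X : Scheme.{u}} [IsIntegral X]
    (hX : Pi1.IsNormalScheme X) (G G' : Over X) [GrpObj G] [GrpObj G']
    [IsFinite G.hom] [Flat G.hom] [IsFinite G'.hom] [Flat G'.hom]
    (g : G ⟶ G') [IsMonHom g]
    (hg : IsIso ((Over.pullback (X.fromSpecStalk (genericPoint X))).map g))
    (P : Over X) (a : AlgGrp.Action G P) (hP : NonAbH1.IsTorsorFor Scheme.fppfPrecoverage a)
    (P' : Over X) (a' : AlgGrp.Action G' P') (hP' : NonAbH1.IsTorsorFor Scheme.fppfPrecoverage a')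
    (hpush : NonAbH1.IsPushforwardAlongSch g a a') (htriv : NonAbH1.HasSectionOver P' (𝟙 X)) :
    NonAbH1.HasSectionOver P (𝟙 X) := by
  obtain ⟨φ, hφ⟩ := hpush
  have hφ' : AlgGrp.Action.IsEquivariant a (a'.restrict g) φ := by
    refine hφ.trans ?_
    rw [AlgGrp.Action.restrict_act]
    refine AlgGrp.Action.hom_ext_lift₂ fun T u x => ?_
    simp [CartesianMonoidalCategory.comp_lift_assoc]
  let η := X.fromSpecStalk (genericPoint X)
  haveI : IsIso ((Over.pullback η).map g) := hg
  have hP₀ := NonAbH1.isTorsorFor_bc η Scheme.fppfPrecoverage hP
  have hP₁ : NonAbH1.IsTorsorFor Scheme.fpqcPrecoverage (a.bc η) :=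
    ⟨hP₀.1, hP₀.2.choose, Scheme.fppfPrecoverage_le_fpqcPrecoverage _ hP₀.2.choose_spec.1, hP₀.2.choose_spec.2⟩
  have hP'₁ : NonAbH1.IsPseudoTorsorSch ((a'.bc η).restrict ((Over.pullback η).map g)) := by
    have h : IsIso (CartesianMonoidalCategory.lift (a'.bc η).act (CartesianMonoidalCategory.snd _ _)) :=
      NonAbH1.isPseudoTorsorSch_bc η hP'.1
    show IsIso (CartesianMonoidalCategory.lift ((a'.bc η).restrict ((Over.pullback η).map g)).act (CartesianMonoidalCategory.snd _ _))
    have e : CartesianMonoidalCategory.lift ((a'.bc η).restrict ((Over.pullback η).map g)).act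
        (CartesianMonoidalCategory.snd _ _) = MonoidalCategory.whiskerRight ((Over.pullback η).map g) _ ≫
        CartesianMonoidalCategory.lift (a'.bc η).act (CartesianMonoidalCategory.snd _ _) := by
      rw [AlgGrp.Action.restrict_act]; simp
    rw [e]
    infer_instance
  have heq := AlgGrp.Action.isEquivariant_bc η hφ'
  rw [AlgGrp.Action.bc_restrict] at heq
  haveI := SchTorsor.isIso_of_equivariant hP₁ hP'₁ _ heq
  obtain ⟨s', hs'⟩ := htriv
  let σ₀ : Over.mk (𝟙 (Spec (X.presheaf.stalk (genericPoint X)))) ⟶ Red.bc η P' :=
    Over.homMk (Limits.pullback.lift (η ≫ s') (𝟙 _) (by rw [Category.assoc, hs', Category.comp_id, Category.id_comp]))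
      (Limits.pullback.lift_snd _ _ _)
  let σ := σ₀ ≫ inv ((Over.pullback η).map φ)
  refine Groth.Agent.S13152.result hX G P a hP ⟨σ.left ≫ Limits.pullback.fst P.hom η, ?_⟩
  rw [Category.assoc, Limits.pullback.condition, ← Category.assoc]
  exact (congrArg (· ≫ η) (Over.w σ)).trans (Category.id_comp _)
end Groth.Agent.S14695
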