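import Groth.Statements.S1472
-- import your own Groth.Agent.* helpers here
import Groth.Agent.H4RG.NormalFibres
import Groth.Agent.S1356

set_option backward.isDefEq.respectTransparency false
set_option backward.isDefEq.respectTransparency.types false

set_option autoImplicit false
universe u
open FlatMor

namespace Groth.Agent.S1472

open AlgebraicGeometry CategoryTheory Limits in
/-- Let h : Y → S be of finite presentation and normal (affine-locally its ring maps are flat with
geometrically normal fibres), let s be a point of S and T an open of the fibre over s which is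
geometrically irreducible over the residue field of s. Then there are an affine elementary étale
neighbourhood (S', s') of (S, s) and a quasi-compact open V of the base change of Y to S' such that
all fibres of V → S' are geometrically integral and the points of V over s' are exactly the points
of the base change over s' whose image in Y lies in T. -/
theorem result {Y S : Scheme.{u}} (h : Y ⟶ S) [LocallyOfFinitePresentation h] [QuasiCompact h] [QuasiSeparated h]
    (hn : ∀ (U : Y.Opens) (V : S.Opens) (hU : IsAffineOpen U) (hV : IsAffineOpen V) (hUV : U ≤ h ⁻¹ᵁ V),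
      letI := (h.appLE V U hUV).hom.toAlgebra
      EGA4.IsNormalHom Γ(S, V) Γ(Y, U))
    (s : S) (T : (h.fiber s).Opens) (hT : GeometricallyIrreducible (T.ι ≫ h.fiberToSpecResidueField s)) :
    ∃ (S' : Scheme.{u}) (g : S' ⟶ S) (s' : S'), IsAffine S' ∧ Hens2.IsEtaleNbhd g s' s ∧
      ∃ V : (pullback h g).Opens, IsCompact (V : Set ↑(pullback h g)) ∧ GeometricallyIntegral (V.ι ≫ pullback.snd h g) ∧
        ∀ y' : ↑(pullback h g), pullback.snd h g y' = s' → (y' ∈ V ↔ pullback.fst h g y' ∈ (h.fiberι s) '' (T : Set ↑(h.fiber s))) := by
  haveI := Groth.Agent.H4RG.flat_of_normal h hn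
  haveI := Groth.Agent.H4RG.geometricallyReduced_of_normal h hn
  have hTc : GeometricallyConnected (T.ι ≫ h.fiberToSpecResidueField s) := ⟨fun K _ y P a b H => by
    haveI := hT.geometrically_irreducibleSpace _ _ _ H
    infer_instance⟩
  obtain ⟨S', g, s', hS', hg, V, hVc, hVg, hVT⟩ := Groth.Agent.S1356.result h s T hTc
  haveI := hS'
  haveI := hg.etale
  refine ⟨S', g, s', hS', hg, V, hVc, ?_, hVT⟩
  let m : (V : Scheme.{u}) ⟶ S' := V.ι ≫ pullback.snd h g
  haveI : CompactSpace (V : Scheme.{u}) := isCompact_iff_compactSpace.1 hVc
  haveI : QuasiCompact m := (quasiCompact_iff_compactSpace _).2 inferInstance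
  haveI : GeometricallyReduced m := Groth.Agent.H0FBC.geometricallyReduced_etale_comp V.ι (pullback.snd h g)
  haveI : GeometricallyIrreducible m := by
    rw [GeometricallyIrreducible.iff_geometricallyIrreducible_fiber]
    intro t
    letI : (m.fiber t).Over (Spec (CommRingCat.of (S'.residueField t))) := ⟨m.fiberToSpecResidueField t⟩
    refine Groth.Agent.GeomField.geometricallyIrreducible_of_finiteSeparable
      (k := S'.residueField t) (X := m.fiber t) fun k' _ _ _ _ => ?_
    let r : Spec (CommRingCat.of k') ⟶ Spec (S'.residueField t) :=
      Spec.map (CommRingCat.ofHom (algebraMap (S'.residueField t) k'))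
    haveI : Etale r := by
      haveI : Algebra.FormallyEtale (S'.residueField t) k' := Algebra.FormallyEtale.of_isSeparable _ _
      haveI : Algebra.FinitePresentation (S'.residueField t) k' :=
        Algebra.FinitePresentation.of_finiteType.mp inferInstance
      haveI : Algebra.Etale (S'.residueField t) k' := ⟨inferInstance, inferInstance⟩
      exact HasRingHomProperty.Spec_iff.2 (RingHom.etale_algebraMap.2 inferInstance)
    let P := pullback (m.fiberToSpecResidueField t) r
    show IrreducibleSpace P
    let y : Spec (CommRingCat.of k') ⟶ S' := r ≫ S'.fromSpecResidueField t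
    let a : P ⟶ (V : Scheme.{u}) := pullback.fst _ _ ≫ m.fiberι t
    let b : P ⟶ Spec (CommRingCat.of k') := pullback.snd _ _
    have H : IsPullback a b m y :=
      (IsPullback.of_hasPullback (m.fiberToSpecResidueField t) r).paste_horiz
        (IsPullback.of_hasPullback m (S'.fromSpecResidueField t)).flip.flip
    haveI : ConnectedSpace P := hVg.geometrically_connectedSpace _ _ _ H
    haveI : LocallyOfFiniteType m := inferInstance
    haveI : LocallyOfFiniteType b := MorphismProperty.of_isPullback H inferInstance
    haveI : QuasiCompact b := MorphismProperty.of_isPullback H inferInstance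
    haveI : IsLocallyNoetherian P := LocallyOfFiniteType.isLocallyNoetherian b
    haveI : CompactSpace P := QuasiCompact.compactSpace_of_compactSpace b
    haveI : AlgebraicGeometry.IsNoetherian P := { }
    let k : P ⟶ pullback (pullback.snd h g) y :=
      pullback.lift (a ≫ V.ι) b (by rw [Category.assoc]; exact H.w)
    have hk : IsPullback k a (pullback.fst (pullback.snd h g) y) V.ι := by
      refine (IsPullback.of_bot (v₂₁ := pullback.snd (pullback.snd h g) y) (v₂₂ := pullback.snd h g) (h₃₁ := y) ?_
        (pullback.lift_fst _ _ _).symm (IsPullback.of_hasPullback (pullback.snd h g) y)).flip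
      rw [show k ≫ pullback.snd (pullback.snd h g) y = b from pullback.lift_snd _ _ _]
      exact H
    haveI : IsOpenImmersion k := MorphismProperty.of_isPullback hk.flip inferInstance
    have H0 : IsPullback (pullback.fst (pullback.snd h g) y ≫ pullback.fst h g) (pullback.snd (pullback.snd h g) y) h (y ≫ g) :=
      (IsPullback.of_hasPullback (pullback.snd h g) y).paste_horiz (IsPullback.of_hasPullback h g)
    have hy : y ≫ g = (r ≫ Spec.map (g.residueFieldMap t)) ≫ S.fromSpecResidueField (g t) := by
      rw [Category.assoc, Category.assoc, Scheme.Hom.SpecMap_residueFieldMap_fromSpecResidueField]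
    rw [hy] at H0
    haveI := Groth.Agent.NodalLib.etale_residueFieldMap g t
    have hN := Groth.Agent.H4RG.isNormalScheme_pullback_etale h hn (g t) (r ≫ Spec.map (g.residueFieldMap t)) H0
    have hP : Pi1.IsNormalScheme P := Groth.Agent.QsDescend.isNormalScheme_of_smooth hN k
    haveI := Groth.Agent.CurveEmbed.isIntegral_of_normal_connected hP
    infer_instance
  exact GeometricallyIntegral.of_geometricallyReduced_of_geometricallyIrreducible _

end Groth.Agent.S1472
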