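import Groth.Statements.S14734
import Groth.Agent.H4Dim.Prufer
import Groth.Agent.FormCat.Descent
import Groth.Agent.DimFormula.Catenary
-- import your own Groth.Agent.* helpers here

set_option autoImplicit false
universe u
open ValPrufer

namespace Groth.Agent.S14734

/-- Let R be a Prüfer domain (an integral domain whose localisations at primes are valuation rings) of
finite Krull dimension and S an R-algebra of finite type. Then S, and every localisation T of S at a
multiplicative subset, is catenary and of finite Krull dimension. (The published statement is for a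
scheme X of finite type over R and the spectrum of any semilocalisation of X; catenarity is local
and finiteness of dimension is checked on a finite affine cover, so this row states the affine case
together with arbitrary localisations.) -/
theorem result
    (R : Type u) [CommRing R] [IsDomain R]
    (hR : ∀ (p : Ideal R) [p.IsPrime], ValuationRing (Localization.AtPrime p))
    (hdim : ringKrullDim R < ⊤)
    (S : Type u) [CommRing S] [Algebra R S] [Algebra.FiniteType R S]
    (M : Submonoid S) (T : Type u) [CommRing T] [Algebra S T] [IsLocalization M T] :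
    CAlg.IsCatenary S ∧ ringKrullDim S < ⊤ ∧ CAlg.IsCatenary T ∧ ringKrullDim T < ⊤ := by
  classical
  obtain ⟨m, π, hπ⟩ := Algebra.FiniteType.iff_quotient_mvPolynomial''.1 ‹Algebra.FiniteType R S›
  obtain ⟨D, hD⟩ : ∃ D : ℕ, ∀ p : Ideal R, p.IsPrime → p.height.toNat ≤ D := by
    cases hx : ringKrullDim R using WithBot.recBotCoe with
    | bot =>
      have := ringKrullDim_nonneg_of_nontrivial (R := R)
      rw [hx] at this
      exact absurd this (by simp)
    | coe x =>
      obtain ⟨D, hD⟩ := ENat.ne_top_iff_exists.1 (show x ≠ ⊤ by
        intro h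
        rw [hx, h] at hdim
        exact lt_irrefl _ hdim)
      refine ⟨D, fun p hp => ?_⟩
      have h := Ideal.height_le_ringKrullDim_of_ne_top (I := p) hp.ne_top
      rw [hx, ← hD] at h
      exact ENat.toNat_le_of_le_natCast (WithBot.coe_le_coe.1 h)
  have hm : ∀ P : Ideal S, P.IsPrime → Cardinal.toNat (Algebra.trdeg (R ⧸ P.under R) (S ⧸ P)) ≤ m := by
    intro P hP
    let φ : MvPolynomial (Fin m) (R ⧸ P.under R) →ₐ[R ⧸ P.under R] S ⧸ P :=
      MvPolynomial.aeval fun i => Ideal.Quotient.mk P (π (MvPolynomial.X i))
    have hφ : Function.Surjective φ := by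
      intro z
      obtain ⟨z, rfl⟩ := Ideal.Quotient.mk_surjective z
      obtain ⟨g, rfl⟩ := hπ z
      refine ⟨MvPolynomial.map (Ideal.Quotient.mk (P.under R)) g, ?_⟩
      induction g using MvPolynomial.induction_on with
      | C r =>
        rw [MvPolynomial.map_C]
        show φ (MvPolynomial.C _) = _
        rw [MvPolynomial.aeval_C, ← MvPolynomial.algebraMap_eq, AlgHom.commutes]
        rfl
      | add a b ha hb => simp only [map_add, ha, hb]
      | mul_X a i ha => simp only [map_mul, ha, MvPolynomial.map_X, φ, MvPolynomial.aeval_X]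
    haveI : (P.under R).IsPrime := inferInstance
    have h := lift_trdeg_le_of_surjective φ hφ
    rw [MvPolynomial.trdeg_of_isDomain] at h
    simp only [Cardinal.mk_fintype, Fintype.card_fin, Cardinal.lift_natCast, Cardinal.lift_id] at h
    have h2 := Cardinal.toNat_le_toNat h Cardinal.natCast_lt_aleph0
    simpa using h2
  let f : PrimeSpectrum S → ℕ := fun P => (H4Dim.delta (R := R) P.asIdeal + D).toNat
  have hf : ∀ P : PrimeSpectrum S, (f P : ℤ) = H4Dim.delta (R := R) P.asIdeal + D := fun P => by
    have := hD (P.asIdeal.under R) inferInstance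
    simp only [f, H4Dim.delta]
    omega
  have hlt : ∀ P Q : PrimeSpectrum S, P < Q → f Q < f P := fun P Q h => by
    have := (H4Dim.delta_lt_and_covBy hR hdim P.asIdeal Q.asIdeal h).1
    have := hf P; have := hf Q
    omega
  have hcov : ∀ P Q : PrimeSpectrum S, P ⋖ Q → f Q + 1 = f P := fun P Q h => by
    have := (H4Dim.delta_lt_and_covBy hR hdim P.asIdeal Q.asIdeal h.lt).2.1 h
    have := hf P; have := hf Q
    omega
  have hcat : CAlg.IsCatenary S := FormCat.isCatenary_of_fn f hlt hcov
  have hub : ∀ P, f P ≤ m + D := fun P => by
    have := hm P.asIdeal P.2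
    have := hf P
    simp only [H4Dim.delta] at this
    omega
  have hS : ringKrullDim S < ⊤ := by
    refine lt_of_le_of_lt (iSup_le fun l => ?_) (WithBot.coe_lt_coe.2 (ENat.natCast_lt_top (m + D)))
    have h : ∀ i : Fin (l.length + 1), f (l i) + i ≤ f l.head := by
      intro i
      induction i using Fin.induction with
      | zero => exact le_rfl
      | succ i ih =>
        have h1 := hlt _ _ (l.strictMono (Fin.castSucc_lt_succ (i := i)))
        simp only [Fin.val_succ, Fin.val_castSucc] at *
        omega
    have h1 := h (Fin.last _)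
    have h2 := hub l.head
    simp only [Fin.val_last] at h1
    exact WithBot.coe_le_coe.2 (Nat.cast_le.2 (by omega))
  refine ⟨hcat, hS, ?_, ?_⟩
  · refine DimFormula.isCatenary_of_embedding hcat (PrimeSpectrum.comap (algebraMap S T))
      (fun a b => ⟨fun h => ?_, fun h => Ideal.comap_mono h⟩) fun a b x _ hxb => ?_
    · have h1 := Ideal.map_mono (f := algebraMap S T) (h : _ ≤ _)
      exact ((IsLocalization.map_under M T a.asIdeal).ge).trans
        (h1.trans (IsLocalization.map_under M T b.asIdeal).le)
    · have hd : Disjoint (M : Set S) x.asIdeal := Set.disjoint_left.2 fun v hv hv' =>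
        b.2.ne_top (Ideal.eq_top_of_isUnit_mem _ (hxb hv') (IsLocalization.map_units T ⟨v, hv⟩))
      exact ⟨⟨x.asIdeal.map (algebraMap S T),
        IsLocalization.isPrime_of_isPrime_disjoint M T x.asIdeal x.2 hd⟩,
        PrimeSpectrum.ext (IsLocalization.under_map_of_isPrime_disjoint M T x.2 hd)⟩
  · refine lt_of_le_of_lt (Order.krullDim_le_of_strictMono (PrimeSpectrum.comap (algebraMap S T))
      fun a b h => ?_) hS
    refine lt_of_le_of_ne (Ideal.comap_mono h.le) fun he => h.ne ?_
    exact PrimeSpectrum.ext ((IsLocalization.map_under M T a.asIdeal).symm.trans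
      ((congrArg (Ideal.map (algebraMap S T)) (congrArg PrimeSpectrum.asIdeal he)).trans
        (IsLocalization.map_under M T b.asIdeal)))

end Groth.Agent.S14734
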