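import Groth.Statements.S14754
import Groth.Agent.Deform.TorusAlg


set_option autoImplicit false
set_option linter.style.haveILetI false
universe u
open CategoryTheory CategoryTheory.Limits MonoidalCategory CartesianMonoidalCategory MonObj GrpObj AlgebraicGeometry
open AlgGrp

namespace Groth.Agent.S14754
open GrpSchLib.AffineHopf

/-- The diagonalisable group on a lattice in coordinates. -/
noncomputable abbrev lat (k : Type u) [Field k] (n : ℕ) : Over (Spec (CommRingCat.of k)) :=
  sp k (MonoidAlgebra k (Multiplicative (Fin n → ℤ)))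

/-- The morphism of diagonalisable groups given by a homomorphism of groups. -/
noncomputable abbrev dmap (k : Type u) [Field k] {M N : Type} [CommGroup M] [CommGroup N] (f : M →* N) :
    sp k (MonoidAlgebra k N) ⟶ sp k (MonoidAlgebra k M) :=
  spMap ((MonoidAlgebra.mapDomainBialgHom k f : MonoidAlgebra k M →ₐc[k] MonoidAlgebra k N) :
    MonoidAlgebra k M →ₐ[k] MonoidAlgebra k N)

theorem exists_dmap {k : Type u} [Field k] {M N : Type} [CommGroup M] [CommGroup N]
    (g : sp k (MonoidAlgebra k N) ⟶ sp k (MonoidAlgebra k M)) [IsMonHom g] : ∃ f : M →* N, g = dmap k f := by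
  obtain ⟨F, hF⟩ := exists_bialgHom g
  refine ⟨MonoidAlgebra.mapDomainOfBialgHom F, ?_⟩
  rw [hF]
  show spMap _ = spMap _
  refine congrArg spMap (MonoidAlgebra.algHom_ext (fun m => ?_) (Subsingleton.elim _ _))
  show F (MonoidAlgebra.single m 1) = MonoidAlgebra.mapDomainBialgHom k _ (MonoidAlgebra.single m 1)
  rw [MonoidAlgebra.mapDomainBialgHom_single, MonoidAlgebra.single_mapDomainOfBialgHom]

theorem dmap_inj {k : Type u} [Field k] {M N : Type} [CommGroup M] [CommGroup N] {f g : M →* N}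
    (h : dmap k f = dmap k g) : f = g := by
  refine MonoidHom.ext fun m => MonoidAlgebra.single_left_injective (R := k) one_ne_zero ?_
  have := DFunLike.congr_fun (spMap_injective h) (MonoidAlgebra.single m 1)
  simpa using this

theorem dmap_comp {k : Type u} [Field k] {M N P : Type} [CommGroup M] [CommGroup N] [CommGroup P] (f : M →* N)
    (g : N →* P) : dmap k g ≫ dmap k f = dmap k (g.comp f) := by
  rw [spMap_comp]
  exact congrArg spMap (AlgHom.ext fun x => MonoidAlgebra.mapDomainBialgHom_mapDomainBialgHom g f x)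

theorem dmap_id {k : Type u} [Field k] {M : Type} [CommGroup M] : dmap k (MonoidHom.id M) = 𝟙 _ := by
  rw [← spMap_id]
  exact congrArg spMap (AlgHom.ext fun x => by simp)

theorem dmap_one {k : Type u} [Field k] {M N : Type} [CommGroup M] [CommGroup N] : dmap k (1 : M →* N) = 1 := by
  refine (mul_eq_left (a := dmap k (1 : M →* N))).mp ?_
  rw [spMap_mul]
  refine congrArg spMap (MonoidAlgebra.algHom_ext (fun m => ?_) (Subsingleton.elim _ _))
  show _ = MonoidAlgebra.mapDomainBialgHom k (1 : M →* N) (MonoidAlgebra.single m 1)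
  rw [MonoidAlgebra.convMul_algHom_single_one]
  simp

theorem exists_retraction {a b c : ℕ} (f : Multiplicative (Fin a → ℤ) →* Multiplicative (Fin b → ℤ))
    (g : Multiplicative (Fin b → ℤ) →* Multiplicative (Fin c → ℤ)) (hf : Function.Injective f)
    (hgf : g.comp f = 1) (hker : ∀ m, g m = 1 → m ∈ f.range) :
    ∃ s : Multiplicative (Fin b → ℤ) →* Multiplicative (Fin a → ℤ), s.comp f = MonoidHom.id _ := by
  let fA : (Fin a → ℤ) →ₗ[ℤ] (Fin b → ℤ) := (AddMonoidHom.toMultiplicative.symm f).toIntLinearMap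
  let gA : (Fin b → ℤ) →ₗ[ℤ] (Fin c → ℤ) := (AddMonoidHom.toMultiplicative.symm g).toIntLinearMap
  obtain ⟨σ₀, hσ⟩ := Module.projective_lifting_property gA.rangeRestrict LinearMap.id gA.surjective_rangeRestrict
  let p : (Fin b → ℤ) →ₗ[ℤ] (Fin b → ℤ) := LinearMap.id - σ₀.comp gA.rangeRestrict
  have hp : ∀ x, p x ∈ LinearMap.range fA := by
    intro x
    have h0 : gA (p x) = 0 := by
      have := congrArg Subtype.val (LinearMap.congr_fun hσ (gA.rangeRestrict x))
      show gA (x - σ₀ (gA.rangeRestrict x)) = 0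
      rw [map_sub]
      exact sub_eq_zero.mpr this.symm
    obtain ⟨y, hy⟩ := hker (Multiplicative.ofAdd (p x)) h0
    exact ⟨Multiplicative.toAdd y, hy⟩
  have hfA : Function.Injective fA := hf
  let r : (Fin b → ℤ) →ₗ[ℤ] (Fin a → ℤ) :=
    (LinearEquiv.ofInjective fA hfA).symm.toLinearMap.comp (p.codRestrict (LinearMap.range fA) hp)
  refine ⟨AddMonoidHom.toMultiplicative r.toAddMonoidHom, MonoidHom.ext fun m => ?_⟩
  show Multiplicative.ofAdd (r (fA (Multiplicative.toAdd m))) = m
  have h : r (fA (Multiplicative.toAdd m)) = Multiplicative.toAdd m := by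
    have h1 : gA.rangeRestrict (fA (Multiplicative.toAdd m)) = 0 := Subtype.val_injective (DFunLike.congr_fun hgf m)
    refine (LinearEquiv.symm_apply_eq _).mpr (Subtype.val_injective ?_)
    show fA (Multiplicative.toAdd m) - σ₀ (gA.rangeRestrict (fA (Multiplicative.toAdd m))) = _
    rw [h1, map_zero, sub_zero]
    rfl
  rw [h]
  rfl


theorem exists_diag_iso {k : Type u} [Field k] {M : Type} [AddCommGroup M] {T : Over (Spec (CommRingCat.of k))}
    [GrpObj T] (hT : Red.IsSplitTorusWith M T) :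
    ∃ a : sp k (MonoidAlgebra k (Multiplicative M)) ≅ T, IsMonHom a.hom ∧ IsMonHom a.inv := by
  obtain ⟨e⟩ := hT
  obtain ⟨d⟩ := GrpSchLib.AffineHopf.nonempty_DS_iso k M
  exact ⟨(Grp.forget _).mapIso (d ≪≫ e.symm), (d ≪≫ e.symm).hom.hom.isMonHom_hom,
    (d ≪≫ e.symm).inv.hom.isMonHom_hom⟩

theorem comp_zero {S : Scheme.{u}} {K G Q X Y Z : Over S} [GrpObj Q] [GrpObj Z] (a : X ≅ K) (b : Y ≅ G) (c : Z ≅ Q)
    [IsMonHom c.inv] (i : K ⟶ G) (π : G ⟶ Q) (h : i ≫ π = toUnit K ≫ η[Q]) :
    (a.hom ≫ i ≫ b.inv) ≫ (b.hom ≫ π ≫ c.inv) = 1 := by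
  simp only [Category.assoc, Iso.inv_hom_id_assoc]
  rw [reassoc_of% h, IsMonHom.one_hom c.inv, ← Category.assoc, MonObj.one_eq_one, MonObj.comp_one]

theorem core {k : Type u} [Field k] {nK nG nQ : ℕ} {K G Q : Over (Spec (CommRingCat.of k))}
    [GrpObj K] [GrpObj G] [GrpObj Q] (a : lat k nK ≅ K) (b : lat k nG ≅ G) (c : lat k nQ ≅ Q)
    [IsMonHom a.hom] [IsMonHom a.inv] [IsMonHom b.hom] [IsMonHom b.inv] [IsMonHom c.hom] [IsMonHom c.inv]
    (i : K ⟶ G) [IsMonHom i] [IsClosedImmersion i.left]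
    (π : G ⟶ Q) [IsMonHom π] [Flat π.left] [Surjective π.left] (hker : AlgGrp.IsKernel i π) :
    ∃ s : Q ⟶ G, IsMonHom s ∧ s ≫ π = 𝟙 Q := by
  haveI : IsIso b.hom.left := ((Over.forget _).mapIso b).isIso_hom
  haveI : IsIso c.inv.left := ((Over.forget _).mapIso c).isIso_inv
  obtain ⟨φ, hφ⟩ := exists_dmap (b.hom ≫ π ≫ c.inv)
  obtain ⟨ψ, hψ⟩ := exists_dmap (a.hom ≫ i ≫ b.inv)
  have hφi : Function.Injective φ := by
    have hF : Flat (dmap k φ).left := by rw [← hφ, Over.comp_left, Over.comp_left]; infer_instance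
    have hS : Surjective (dmap k φ).left := by rw [← hφ, Over.comp_left, Over.comp_left]; infer_instance
    have hff : ((MonoidAlgebra.mapDomainBialgHom k φ : MonoidAlgebra k _ →ₐc[k] MonoidAlgebra k _) :
        MonoidAlgebra k (Multiplicative (Fin nQ → ℤ)) →ₐ[k]
          MonoidAlgebra k (Multiplicative (Fin nG → ℤ))).toRingHom.FaithfullyFlat :=
      RingHom.FaithfullyFlat.iff_flat_and_comap_surjective.mpr
        ⟨(HasRingHomProperty.Spec_iff (P := @Flat)).mp hF, hS.surj⟩
    intro x y hxy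
    refine MonoidAlgebra.single_left_injective (R := k) one_ne_zero (hff.injective ?_)
    show MonoidAlgebra.mapDomainBialgHom k φ _ = MonoidAlgebra.mapDomainBialgHom k φ _
    rw [MonoidAlgebra.mapDomainBialgHom_single, MonoidAlgebra.mapDomainBialgHom_single, hxy]
  have hiπ : i ≫ π = toUnit K ≫ η[Q] := hker.w
  have hψφ : ψ.comp φ = 1 := by
    exact dmap_inj (k := k) ((dmap_comp φ ψ).symm.trans
      ((congrArg₂ (· ≫ ·) hψ hφ).symm.trans ((comp_zero a b c i π hiπ).trans dmap_one.symm)))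
  have hk : ∀ m, ψ m = 1 → m ∈ φ.range := by
    intro m hm
    let q := QuotientGroup.mk' φ.range
    have h1 : (dmap k q ≫ b.hom) ≫ π = toUnit _ ≫ η[Q] := by
      rw [← cancel_mono c.inv]
      simp only [Category.assoc, IsMonHom.one_hom c.inv]
      rw [hφ, dmap_comp]
      rw [show q.comp φ = 1 from MonoidHom.ext fun x => (QuotientGroup.eq_one_iff _).mpr ⟨x, rfl⟩, dmap_one]
      rw [MonObj.one_eq_one, MonObj.comp_one]
    obtain ⟨z, hz, -⟩ := hker.exists_lift (dmap k q ≫ b.hom) (toUnit _) h1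
    haveI : Mono i := (Over.forget _).mono_of_mono_map (inferInstanceAs (Mono i.left))
    haveI : IsMonHom z := Deform.isMonHom_of_comp z i hz
    obtain ⟨θ, hθ⟩ := exists_dmap (z ≫ a.inv)
    have hq : θ.comp ψ = q := dmap_inj (k := k) (by
      rw [← dmap_comp ψ θ, ← hθ, ← hψ]
      simp only [Category.assoc, Iso.inv_hom_id_assoc]
      rw [← Category.assoc, hz, Category.assoc, Iso.hom_inv_id, Category.comp_id])
    have := DFunLike.congr_fun hq m
    rw [MonoidHom.comp_apply, hm, map_one] at this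
    exact (QuotientGroup.eq_one_iff _).mp this.symm
  obtain ⟨s, hs⟩ := exists_retraction φ ψ hφi hψφ hk
  refine ⟨c.inv ≫ dmap k s ≫ b.hom, inferInstance, ?_⟩
  have h2 : dmap k s ≫ dmap k φ = 𝟙 _ := by rw [dmap_comp, hs, dmap_id]
  rw [← hφ] at h2
  rw [← cancel_mono c.inv, Category.id_comp]
  simp only [Category.assoc]
  rw [h2, Category.comp_id]

/-- Over an algebraically closed field k, every exact sequence of split tori splits: if K, G, Q are
split tori over k, i : K → G a closed subgroup scheme which is the kernel of a flat surjective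
homomorphism π : G → Q, then π has a section which is a homomorphism. -/
theorem result (k : Type u) [Field k] [IsAlgClosed k]
    (K G Q : Over (Spec (CommRingCat.of k))) [GrpObj K] [GrpObj G] [GrpObj Q] (nK nG nQ : ℕ)
    (hK : Red.IsSplitTorusWith (Fin nK → ℤ) K) (hG : Red.IsSplitTorusWith (Fin nG → ℤ) G)
    (hQ : Red.IsSplitTorusWith (Fin nQ → ℤ) Q)
    (i : K ⟶ G) [IsMonHom i] [IsClosedImmersion i.left]
    (π : G ⟶ Q) [IsMonHom π] [Flat π.left] [Surjective π.left] (hker : AlgGrp.IsKernel i π) :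
    ∃ s : Q ⟶ G, IsMonHom s ∧ s ≫ π = 𝟙 Q := by
  obtain ⟨a, _, _⟩ := exists_diag_iso hK
  obtain ⟨b, _, _⟩ := exists_diag_iso hG
  obtain ⟨c, _, _⟩ := exists_diag_iso hQ
  exact core a b c i π hker

end Groth.Agent.S14754
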