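import Groth.Statements.S14756
import Groth.Agent.Deform.Luna.CharRad
import Groth.Agent.Deform.Borel.CartanNorm
import Groth.Agent.Deform.AntiAffineParts
import Groth.Agent.Deform.Chev.StructCor
import Groth.Agent.GrpSchLib.ImageFactor
import Groth.Agent.GrpSchLib.QuotAffine
import Groth.Agent.Deform.AbelianCat

set_option autoImplicit false
universe u
open CategoryTheory CategoryTheory.Limits MonoidalCategory CartesianMonoidalCategory MonObj GrpObj AlgebraicGeometry
open AlgGrp

namespace Groth.Agent.S14756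
attribute [local instance] CategoryTheory.Hom.monoid CategoryTheory.Hom.group
set_option linter.style.haveILetI false
set_option maxHeartbeats 2000000
open Groth.Agent

/-- Over an algebraically closed field k let e → K → G → Q → e be an exact sequence of k-group schemes
of finite type with G smooth (i : K → G a closed subgroup scheme, kernel of the flat surjective
homomorphism π : G → Q), and let G_lin ⊆ G and Q_lin ⊆ Q be the largest smooth connected affine
normal closed subgroup schemes (every other such subgroup factors through them). Then π maps G_lin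
into Q_lin and the induced homomorphism G_lin → Q_lin is surjective. (The published proposition is
stated for all algebraic groups G; for the semidirect product of α_p by the multiplicative group
acting by scaling, with K = α_p, the largest smooth connected affine normal subgroup of G is trivial
while that of Q = G_m is everything, so G is taken smooth here, the case in which the published
proof's use of the Chevalley quotient G/G_lin being proper is valid. The published proposition also
treats unipotent and solvable parts of linear groups and the finite index of K_lin in G_lin ∩ K;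
only this assertion is stated.) -/
theorem result (k : Type u) [Field k] [IsAlgClosed k]
    (K G Q : Over (Spec (CommRingCat.of k))) [GrpObj K] [GrpObj G] [GrpObj Q]
    [QuasiCompact K.hom] [LocallyOfFiniteType K.hom] [Smooth G.hom] [QuasiCompact G.hom] [QuasiCompact Q.hom] [LocallyOfFiniteType Q.hom]
    (i : K ⟶ G) [IsMonHom i] [IsClosedImmersion i.left]
    (π : G ⟶ Q) [IsMonHom π] [Flat π.left] [Surjective π.left] (hker : AlgGrp.IsKernel i π)
    (NG : Over (Spec (CommRingCat.of k))) [GrpObj NG] (iG : NG ⟶ G) [IsMonHom iG] [IsClosedImmersion iG.left]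
    [Smooth NG.hom] [ConnectedSpace ↥NG.left] [IsAffine NG.left] (hNG : AlgGrp.IsNormalHom iG)
    (hNGmax : ∀ (N' : Over (Spec (CommRingCat.of k))) [GrpObj N'] (i' : N' ⟶ G) [IsMonHom i'] [IsClosedImmersion i'.left]
      [Smooth N'.hom] [ConnectedSpace ↥N'.left] [IsAffine N'.left], AlgGrp.IsNormalHom i' → ∃ f : N' ⟶ NG, f ≫ iG = i')
    (NQ : Over (Spec (CommRingCat.of k))) [GrpObj NQ] (iQ : NQ ⟶ Q) [IsMonHom iQ] [IsClosedImmersion iQ.left]
    [Smooth NQ.hom] [ConnectedSpace ↥NQ.left] [IsAffine NQ.left] (hNQ : AlgGrp.IsNormalHom iQ)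
    (hNQmax : ∀ (N' : Over (Spec (CommRingCat.of k))) [GrpObj N'] (i' : N' ⟶ Q) [IsMonHom i'] [IsClosedImmersion i'.left]
      [Smooth N'.hom] [ConnectedSpace ↥N'.left] [IsAffine N'.left], AlgGrp.IsNormalHom i' → ∃ f : N' ⟶ NQ, f ≫ iQ = i') :
    ∃ f : NG ⟶ NQ, f ≫ iQ = iG ≫ π ∧ Surjective f.left := by
  classical
  haveI : IsAffineHom NG.hom := isAffineHom_of_isAffine _
  haveI : Smooth Q.hom := GrpSchLib.smooth_of_quotient π
  haveI := GrpSchLib.AntiAffine.isSeparated_grp G
  haveI := GrpSchLib.AntiAffine.isSeparated_grp Q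
  haveI : Mono iG := (Over.forget _).mono_of_mono_map (inferInstanceAs (Mono iG.left))
  -- the image of the linear part
  obtain ⟨J, gJ, p, c, hp, hc, hpc, hcc, hpf, hps, hJl, hJq⟩ := GrpSchLib.ImageFactor.exists_image (iG ≫ π)
  haveI := hp; haveI := hc; haveI := hcc; haveI := hpf; haveI := hps; haveI := hJl; haveI := hJq
  haveI : Smooth J.hom := GrpSchLib.smooth_of_quotient p
  haveI : IsAffine J.left := GrpSchLib.isAffine_of_quotient p
  haveI : ConnectedSpace J.left := p.left.surjective.connectedSpace p.left.continuous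
  haveI : Mono c := (Over.forget _).mono_of_mono_map (inferInstanceAs (Mono c.left))
  have hcn : AlgGrp.IsNormalHom c := by
    refine Deform.Luna.isNormalHom_of_pts c fun g x => ?_
    obtain ⟨g', rfl⟩ := Deform.Borel.exists_pt_over π g
    obtain ⟨x', rfl⟩ := Deform.Borel.exists_pt_over p x
    obtain ⟨n, hn⟩ := hNG _ g' (x')
    refine ⟨n ≫ p, ?_⟩
    simp only [Category.assoc, hpc]
    rw [← reassoc_of% hn, MonObj.mul_comp, MonObj.mul_comp, GrpObj.inv_comp, Category.assoc]
  obtain ⟨u, hu⟩ := hNQmax J c hcn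
  refine ⟨p ≫ u, by rw [Category.assoc, hu, hpc], ?_⟩
  -- the neutral components
  obtain ⟨G₀, gG₀, i₀, hi, hic, hio, hs, hq, hcn₀, hr⟩ := Deform.Chev.exists_neutral G
  haveI := hi; haveI := hic; haveI := hs; haveI := hq; haveI := hcn₀
  obtain ⟨N₀, gN₀, n₀, A, gA, qA, hn₀, hn₀c, hN₀s, hN₀q, hN₀cn, hN₀a, hN₀n, hqA, hqAf, hqAs, hkA, hA, hAs, hAc⟩ :=
    Deform.Chev.exists_decomp G₀
  haveI := hn₀; haveI := hn₀c; haveI := hN₀s; haveI := hN₀cn; haveI := hN₀a; haveI := hqA; haveI := hqAf
  haveI := hqAs; haveI := hA; haveI := hAs; haveI := hAc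
  haveI : IsClosedImmersion (n₀ ≫ i₀).left := inferInstanceAs (IsClosedImmersion (n₀.left ≫ i₀.left))
  have hN₀G : AlgGrp.IsNormalHom (n₀ ≫ i₀) := by
    refine Deform.Luna.isNormalHom_of_pts _ fun g x => ?_
    obtain ⟨w, hw, hwi⟩ := Deform.Borel.exists_lift_connected i₀ hr ((n₀ ≫ i₀) ≫ Deform.Borel.conj g)
    haveI := hw
    obtain ⟨v, hv⟩ := Deform.Chev.exists_lift_kernel n₀ qA hkA w (Deform.AVFactor.eq_one_of_affine (w ≫ qA))
    refine ⟨x ≫ v, ?_⟩
    rw [Category.assoc, reassoc_of% hv, hwi, ← Category.assoc, Deform.Borel.pt_conj]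
  obtain ⟨e, he⟩ := hNGmax N₀ (n₀ ≫ i₀) hN₀G
  haveI : Mono i₀ := (Over.forget _).mono_of_mono_map (inferInstanceAs (Mono i₀.left))
  -- the image of the neutral component modulo `J` is proper
  obtain ⟨I, gI, r, d, hr', hd, hrd, hdc, hrf, hrs, hIl, hIq⟩ := GrpSchLib.ImageFactor.exists_image (i₀ ≫ π)
  haveI := hr'; haveI := hd; haveI := hdc; haveI := hrf; haveI := hrs; haveI := hIl; haveI := hIq
  haveI : ConnectedSpace I.left := r.left.surjective.connectedSpace r.left.continuous
  haveI : Smooth I.hom := GrpSchLib.smooth_of_quotient r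
  haveI : Mono d := (Over.forget _).mono_of_mono_map (inferInstanceAs (Mono d.left))
  obtain ⟨gNG, hgNG, hgNGi⟩ := Deform.Borel.exists_lift_connected i₀ hr iG
  haveI : QuasiCompact p.left := by
    haveI := GrpSchLib.AntiAffine.isSeparated_grp J
    haveI : QuasiCompact (p.left ≫ J.hom) := by rw [Over.w p]; infer_instance
    exact QuasiCompact.of_comp p.left J.hom
  obtain ⟨cI, hcI⟩ := Deform.Borel.exists_lift_of_cover p c d (gNG ≫ r)
    (by rw [Category.assoc, hrd, reassoc_of% hgNGi, hpc])
  haveI : IsMonHom cI := Deform.isMonHom_of_comp cI d (i := c) hcI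
  haveI : IsClosedImmersion cI.left := by
    haveI : IsClosedImmersion (cI.left ≫ d.left) := by rw [← Over.comp_left, hcI]; infer_instance
    exact IsClosedImmersion.of_comp cI.left d.left
  haveI : Mono cI := (Over.forget _).mono_of_mono_map (inferInstanceAs (Mono cI.left))
  have hcIn : AlgGrp.IsNormalHom cI := fun T g n => by
    obtain ⟨n', hn'⟩ := hcn T (g ≫ d) n
    refine ⟨n', ?_⟩
    rw [← cancel_mono d, MonObj.mul_comp, MonObj.mul_comp, GrpObj.inv_comp, Category.assoc, hcI, hn',
      Category.assoc, hcI]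
  obtain ⟨R, gR, qR, hqR, hqRf, hqRs, hRl, hRq, hkR⟩ := Deform.Chev.exists_quotient cI hcIn
  haveI := hqR; haveI := hqRf; haveI := hqRs; haveI := hRl; haveI := hRq
  have hkill : n₀ ≫ r ≫ qR = 1 := by
    have h1 : n₀ ≫ r = (e ≫ p) ≫ cI := by
      rw [← cancel_mono d, Category.assoc, hrd, Category.assoc, Category.assoc, hcI, hpc, reassoc_of% he]
    rw [← Category.assoc, h1, Category.assoc, hkR.w, ← Category.assoc, Hom.one_def,
      toUnit_unique ((e ≫ p) ≫ toUnit J) (toUnit N₀)]
  obtain ⟨φ, hφ, hφq⟩ := Deform.AbelianCat.exists_desc n₀ qA hkA (r ≫ qR) hkill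
  haveI := hφ
  haveI : Surjective φ.left := by
    haveI : Surjective (qA.left ≫ φ.left) := by
      rw [← Over.comp_left, hφq]
      exact MorphismProperty.comp_mem _ _ _ ‹Surjective r.left› ‹Surjective qR.left›
    exact Surjective.of_comp qA.left φ.left
  haveI := GrpSchLib.AntiAffine.isSeparated_grp R
  haveI : UniversallyClosed R.hom := by
    haveI : UniversallyClosed (φ.left ≫ R.hom) := by rw [Over.w φ]; infer_instance
    exact UniversallyClosed.of_comp_surjective φ.left R.hom
  haveI : IsProper R.hom := IsProper.mk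
  -- `NQ` lies in `J`
  haveI : IsReduced NQ.left := GrpSchLib.isReduced_of_smooth_field NQ.hom
  haveI : LocallyOfFiniteType (π.left ≫ Q.hom) := by rw [Over.w π]; infer_instance
  haveI : LocallyOfFiniteType π.left := locallyOfFiniteType_of_comp π.left Q.hom
  haveI : IsLocallyNoetherian Q.left := LocallyOfFiniteType.isLocallyNoetherian Q.hom
  haveI : LocallyOfFinitePresentation π.left := inferInstance
  haveI : UniversallyOpen π.left := inferInstance
  haveI : IsOpenImmersion i₀.left := hio
  have hrange : Set.range d.left = π.left '' Set.range i₀.left := by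
    rw [← Set.range_comp]
    show _ = Set.range (i₀.left ≫ π.left)
    rw [← Over.comp_left, ← hrd, Over.comp_left]
    show _ = Set.range (d.left ∘ r.left)
    rw [r.left.surjective.range_comp]
  have hclopen : IsClopen (Set.range d.left) := ⟨d.left.isClosedEmbedding.isClosed_range, by
    rw [hrange]; exact π.left.isOpenMap _ i₀.left.isOpenEmbedding.isOpen_range⟩
  obtain ⟨wI, hwId⟩ := Deform.Chev.exists_lift_range d iQ (by
    have h1 : (iQ.left ⁻¹' Set.range d.left) = Set.univ := by
      refine IsClopen.eq_univ (hclopen.preimage iQ.left.continuous) ⟨Deform.Chev.pimg (1 : Deform.Chev.Pt NQ), ?_⟩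
      refine ⟨Deform.Chev.pimg (1 : Deform.Chev.Pt I), ?_⟩
      show Deform.Chev.pimg ((1 : Deform.Chev.Pt I) ≫ d) = Deform.Chev.pimg ((1 : Deform.Chev.Pt NQ) ≫ iQ)
      rw [MonObj.one_comp, MonObj.one_comp]
    rintro _ ⟨z, rfl⟩
    exact Set.eq_univ_iff_forall.mp h1 z)
  haveI : IsMonHom wI := Deform.isMonHom_of_comp wI d (i := iQ) hwId
  obtain ⟨wJ, hwJ⟩ := Deform.Chev.exists_lift_kernel cI qR hkR wI (Deform.AVFactor.eq_one_of_affine (wI ≫ qR))
  have hwu : wJ ≫ c = iQ := by rw [← hcI, reassoc_of% hwJ, hwId]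
  haveI : Mono iQ := (Over.forget _).mono_of_mono_map (inferInstanceAs (Mono iQ.left))
  have h2 : wJ ≫ u = 𝟙 NQ := by rw [← cancel_mono iQ, Category.assoc, hu, hwu, Category.id_comp]
  haveI : Surjective u.left := by
    refine ⟨fun y => ⟨wJ.left y, ?_⟩⟩
    rw [← Scheme.Hom.comp_apply, ← Over.comp_left, h2]; rfl
  exact MorphismProperty.comp_mem _ _ _ ‹Surjective p.left› ‹Surjective u.left›

end Groth.Agent.S14756
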