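import Groth.Statements.S14759
import Groth.Agent.Deform.QuotTop
import Groth.Agent.GrpSchLib.KernelGrp
import Groth.Agent.GrpSchLib.IdentityComp
import Groth.Agent.S5353
import Groth.Agent.AlgSpDec.MonoPoint
set_option linter.style.haveILetI false
set_option backward.isDefEq.respectTransparency false

set_option autoImplicit false
universe u
open CategoryTheory CategoryTheory.Limits MonoidalCategory CartesianMonoidalCategory MonObj GrpObj AlgebraicGeometry
open AlgGrp

namespace Groth.Agent.S14759

open CategoryTheory Limits MonoidalCategory CartesianMonoidalCategory MonObj AlgebraicGeometry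

attribute [local instance] CategoryTheory.Hom.monoid CategoryTheory.Hom.group

theorem discreteTopology_of_isFinite {k : Type u} [Field k] {X : Scheme.{u}} (f : X ⟶ Spec (CommRingCat.of k))
    [IsFinite f] : DiscreteTopology X := by
  haveI : IsLocallyArtinian X := IsLocallyArtinian.of_locallyQuasiFinite f
  infer_instance

theorem eq_one_of_mem {k : Type u} [Field k] {K : Over (Spec (CommRingCat.of k))} [GrpObj K]
    {T : Over (Spec (CommRingCat.of k))} [Subsingleton T.left] [IsReduced T.left] (f : T ⟶ K)
    (h : ∀ z : T.left, f.left z = η[K].left (IsLocalRing.closedPoint k)) : f = 1 := by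
  let e := η[K].left
  have he : e ≫ K.hom = 𝟙 _ := Over.w η[K]
  let x := e (IsLocalRing.closedPoint k)
  have h1 : ∀ z, (1 : T ⟶ K).left z = x := fun z => by
    rw [Hom.one_def, Over.comp_left, Scheme.Hom.comp_apply]
    exact congrArg e (@Subsingleton.elim (PrimeSpectrum k) inferInstance _ _)
  haveI : IsIso (K.hom.residueFieldMap x) := by
    have h1 : IsIso ((e ≫ K.hom).residueFieldMap (IsLocalRing.closedPoint k)) := by rw [he]; infer_instance
    rw [Scheme.residueFieldMap_comp] at h1
    rw [ConcreteCategory.isIso_iff_bijective] at h1 ⊢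
    refine ⟨RingHom.injective _, fun y => ?_⟩
    obtain ⟨z, hz⟩ := h1.2 ((e.residueFieldMap (IsLocalRing.closedPoint k)).hom y)
    exact ⟨z, RingHom.injective (e.residueFieldMap (IsLocalRing.closedPoint k)).hom hz⟩
  haveI : Mono (K.left.fromSpecResidueField x ≫ K.hom) := by
    rw [← Scheme.Hom.SpecMap_residueFieldMap_fromSpecResidueField]
    infer_instance
  refine Over.OverMorphism.ext ?_
  obtain ⟨a, ha⟩ := AlgSpDec.exists_factor_residueField f.left x h
  obtain ⟨b, hb⟩ := AlgSpDec.exists_factor_residueField (1 : T ⟶ K).left x h1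
  have : a = b := by
    rw [← cancel_mono (K.left.fromSpecResidueField x ≫ K.hom), reassoc_of% ha, reassoc_of% hb, Over.w f, Over.w]
  rw [← ha, ← hb, this]


/-- Over a field k, every isogeny φ : G → H of k-group schemes of finite type (a surjective homomorphism
with finite kernel) factors as φ = χ ∘ ψ with ψ : G → Q a purely inseparable isogeny (its kernel is
connected) followed by a separable isogeny χ : Q → H (its kernel is etale over k). (The published
definition of isogeny asks only for a finite kernel and an image of finite index in H; this row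
takes φ surjective, which is the same notion when H is connected.) -/
theorem result (k : Type u) [Field k]
    (G H : Over (Spec (CommRingCat.of k))) [GrpObj G] [GrpObj H]
    [QuasiCompact G.hom] [LocallyOfFiniteType G.hom] [QuasiCompact H.hom] [LocallyOfFiniteType H.hom]
    (φ : G ⟶ H) [IsMonHom φ] (hφ : SGA7.IsIsogenyOver φ) :
    ∃ (Q : Over (Spec (CommRingCat.of k))) (_ : GrpObj Q) (ψ : G ⟶ Q) (χ : Q ⟶ H),
      IsMonHom ψ ∧ IsMonHom χ ∧ ψ ≫ χ = φ ∧ SGA7.IsIsogenyOver ψ ∧ SGA7.IsIsogenyOver χ ∧
      (∀ (N : Over (Spec (CommRingCat.of k))) (n : N ⟶ G), AlgGrp.IsKernel n ψ → ConnectedSpace ↥N.left) ∧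
      (∀ (N : Over (Spec (CommRingCat.of k))) (n : N ⟶ Q), AlgGrp.IsKernel n χ → Etale N.hom) := by
  haveI := GrpSchLib.AntiAffine.isSeparated_grp H
  haveI := GrpSchLib.AntiAffine.isSeparated_grp G
  obtain ⟨K, _, i, hi, hci, hKn, hK⟩ := GrpSchLib.exists_kernel φ
  haveI := hi
  haveI : IsFinite K.hom := hφ.2 K i hK
  haveI : Mono i := (Over.forget _).mono_of_mono_map (inferInstanceAs (Mono i.left))
  obtain ⟨K₀, _, incl, hinclhom, hcli, hfli, hrange, -, -⟩ := GrpSchLib.exists_identityComponent (G := K)
  haveI := hinclhom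
  haveI : IsOpenImmersion incl.left := by
    haveI : LocallyOfFinitePresentation K.hom := inferInstance
    haveI : IsLocallyNoetherian K.left := LocallyOfFiniteType.isLocallyNoetherian K.hom
    haveI : LocallyOfFinitePresentation incl.left :=
      LocallyOfFinitePresentation.iff_locallyOfFiniteType.2 inferInstance
    exact IsOpenImmersion.of_flat_of_mono incl.left
  haveI : ConnectedSpace K₀.left := by
    refine connectedSpace_iff_univ.2 ((incl.left.isEmbedding.isInducing.isPreconnected_image).1 ?_ |>
      fun h => ⟨⟨η[K₀].left (IsLocalRing.closedPoint k), trivial⟩, h⟩)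
    rw [Set.image_univ, hrange]
    exact isPreconnected_connectedComponent
  haveI : IsFinite K₀.hom := by rw [← Over.w incl]; infer_instance
  -- the unit is the only point of the neutral component
  have hdisc : ∀ z ∈ Set.range incl.left, z = η[K].left (IsLocalRing.closedPoint k) := fun z hz => by
    rw [hrange] at hz
    haveI : DiscreteTopology K.left := discreteTopology_of_isFinite K.hom
    rwa [connectedComponent_eq_singleton] at hz
  let u := incl ≫ i
  haveI : IsClosedImmersion u.left := by
    haveI := hci; haveI := hcli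
    exact inferInstanceAs (IsClosedImmersion (incl.left ≫ i.left))
  haveI : Mono u := (Over.forget _).mono_of_mono_map (inferInstanceAs (Mono u.left))
  have hN : AlgGrp.IsNormalHom u := fun T g n => by
    obtain ⟨m, hm⟩ := hKn T g (n ≫ incl)
    have hmem : ∀ t : T.left, m.left t ∈ Set.range incl.left := fun t => by
      refine ⟨η[K₀].left (IsLocalRing.closedPoint k), ?_⟩
      haveI : Subsingleton (Over.mk (T.left.fromSpecResidueField t ≫ T.hom)).left :=
        inferInstanceAs (Subsingleton (PrimeSpectrum (T.left.residueField t)))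
      haveI : IsReduced (Over.mk (T.left.fromSpecResidueField t ≫ T.hom)).left :=
        inferInstanceAs (IsReduced (Spec (T.left.residueField t)))
      let e : Over.mk (T.left.fromSpecResidueField t ≫ T.hom) ⟶ T := Over.homMk (T.left.fromSpecResidueField t) rfl
      have h1 : e ≫ n ≫ incl = 1 := by
        refine eq_one_of_mem (e ≫ n ≫ incl) fun z => hdisc _ ⟨(e ≫ n).left z, rfl⟩
      have h2 : e ≫ m = 1 := by
        rw [← cancel_mono i, Category.assoc, ← hm, MonObj.comp_mul, MonObj.comp_mul, GrpObj.comp_inv,
          ← Category.assoc e, h1, MonObj.one_comp, _root_.mul_one, mul_inv_cancel]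
      have h3 := congrArg (fun f : _ ⟶ K => f.left (IsLocalRing.closedPoint (T.left.residueField t))) h2
      rw [Hom.one_def, ← IsMonHom.one_hom (f := incl)] at h3
      simp only [Over.comp_left, Scheme.Hom.comp_apply] at h3
      rw [show e.left (IsLocalRing.closedPoint (T.left.residueField t)) = t from
        Scheme.fromSpecResidueField_apply t _] at h3
      rw [h3]
      exact congrArg (fun p => incl.left (η[K₀].left p)) (@Subsingleton.elim (PrimeSpectrum k) inferInstance _ _)
    let n' : T ⟶ K₀ := Over.homMk (IsOpenImmersion.lift incl.left m.left (by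
      rintro _ ⟨t, rfl⟩
      exact hmem t)) (by rw [← Over.w incl, IsOpenImmersion.lift_fac_assoc, Over.w m])
    refine ⟨n', ?_⟩
    have hn' : n' ≫ incl = m := Over.OverMorphism.ext (IsOpenImmersion.lift_fac _ _ _)
    rw [show n' ≫ u = m ≫ i by rw [← hn', Category.assoc], ← hm, Category.assoc]
  obtain ⟨Q, ψ, hf, hs, hl, sq, -, hQ⟩ := Deform.QuotField.exists_quot u
  haveI := hf
  haveI := hs
  haveI := hl
  haveI := hQ
  obtain ⟨_, hψ, hkψ⟩ := Deform.QuotGroup.exists_grpObj u ψ sq hN
  haveI := hψ
  haveI := Deform.QuotDescent.epi_of_fppf ψ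
  haveI : QuasiCompact Q.hom := by
    haveI : CompactSpace G.left := QuasiCompact.compactSpace_of_compactSpace G.hom
    rw [quasiCompact_iff_compactSpace]
    exact ⟨Set.range_eq_univ.2 ψ.left.surjective ▸ isCompact_range ψ.left.continuous⟩
  obtain ⟨χ, hχ⟩ := Deform.QuotDescent.exists_descOver ψ φ fun T x y h => by
    obtain ⟨f, hf⟩ := (Deform.QuotGroup.comp_eq_iff u ψ sq x y).1 h
    rw [hf, MonObj.mul_comp, Category.assoc, show u ≫ φ = 1 by rw [Category.assoc, hK.w, ← Hom.one_def, MonObj.comp_one],
      MonObj.comp_one, _root_.one_mul]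
  haveI : IsMonHom χ := {
    one_hom := by rw [← IsMonHom.one_hom (f := ψ), Category.assoc, hχ, IsMonHom.one_hom]
    mul_hom := by
      obtain ⟨_, _, _⟩ := Deform.QuotGroup.fppf_tensor ψ ψ
      haveI := Deform.QuotDescent.epi_of_fppf (ψ ⊗ₘ ψ)
      rw [← cancel_epi (ψ ⊗ₘ ψ), ← reassoc_of% (IsMonHom.mul_hom (f := ψ)), hχ, IsMonHom.mul_hom,
        tensorHom_comp_tensorHom_assoc, hχ] }
  haveI : Surjective χ.left := by
    haveI : Surjective (ψ.left ≫ χ.left) := by rw [← Over.comp_left, hχ]; exact hφ.1
    exact Surjective.of_comp ψ.left χ.left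
  haveI := GrpSchLib.AntiAffine.isSeparated_grp Q
  obtain ⟨N₀, _, n₀, hn₀, hcn₀, -, hN₀⟩ := GrpSchLib.exists_kernel χ
  haveI := hn₀
  haveI := hcn₀
  haveI : Mono n₀ := (Over.forget _).mono_of_mono_map (inferInstanceAs (Mono n₀.left))
  let w : K ⟶ N₀ := hN₀.lift (i ≫ ψ) (toUnit K) (by rw [Category.assoc, hχ]; exact hK.w)
  have hw : w ≫ n₀ = i ≫ ψ := hN₀.lift_fst _ _ _
  haveI : IsMonHom w := {
    one_hom := by
      rw [← cancel_mono n₀, Category.assoc, hw, IsMonHom.one_hom_assoc, IsMonHom.one_hom (f := ψ),
        IsMonHom.one_hom (f := n₀)]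
    mul_hom := by
      rw [← cancel_mono n₀, Category.assoc, hw, IsMonHom.mul_hom_assoc, IsMonHom.mul_hom (f := ψ),
        Category.assoc, IsMonHom.mul_hom (f := n₀), tensorHom_comp_tensorHom_assoc,
        tensorHom_comp_tensorHom_assoc, hw] }
  have sqw : IsPullback i w ψ n₀ := IsPullback.of_bot (by rw [toUnit_unique (w ≫ toUnit N₀) (toUnit K), hχ]; exact hK)
    hw.symm hN₀
  haveI hws : Surjective w.left := MorphismProperty.of_isPullback (sq := sqw.map (Over.forget _)) hs
  haveI : Flat w.left := MorphismProperty.of_isPullback (sq := sqw.map (Over.forget _)) hf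
  haveI : LocallyOfFinitePresentation w.left := MorphismProperty.of_isPullback (sq := sqw.map (Over.forget _)) hl
  haveI : IsFinite N₀.hom := by
    haveI : LocallyOfFiniteType N₀.hom := by rw [← Over.w n₀]; infer_instance
    haveI : CompactSpace K.left := QuasiCompact.compactSpace_of_compactSpace K.hom
    haveI : DiscreteTopology K.left := discreteTopology_of_isFinite K.hom
    haveI : Finite K.left := finite_of_compact_of_discrete
    haveI : Finite N₀.left := Finite.of_surjective _ w.left.surjective
    haveI : CompactSpace N₀.left := Finite.compactSpace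
    haveI : QuasiCompact N₀.hom := (quasiCompact_iff_compactSpace N₀.hom).2 inferInstance
    haveI : LocallyQuasiFinite N₀.hom := .of_finite_preimage_singleton _ fun _ => Set.toFinite _
    exact .of_locallyQuasiFinite _
  have het : Etale N₀.hom := by
    have hk' : AlgGrp.IsKernel incl w := by
      refine IsPullback.of_right (h₁₂ := i) (h₂₂ := n₀) ?_ ?_ sqw
      · rw [IsMonHom.one_hom (f := n₀)]
        exact hkψ
      · rw [← cancel_mono n₀, Category.assoc, hw, Category.assoc, IsMonHom.one_hom (f := n₀), ← hkψ.w, Category.assoc]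
    exact S5353.result k K₀ K N₀ incl (IsLocalRing.closedPoint k) hrange w hk'
  refine ⟨Q, inferInstance, ψ, χ, hψ, inferInstance, hχ, ⟨hs, fun N n h => ?_⟩,
    ⟨inferInstance, fun N n h => ?_⟩, fun N n h => ?_, fun N n h => ?_⟩
  · rw [← Over.w (h.isoIsPullback _ _ hkψ).hom]
    haveI : IsIso (h.isoIsPullback _ _ hkψ).hom.left := ((Over.forget _).mapIso (h.isoIsPullback _ _ hkψ)).isIso_hom
    infer_instance
  · rw [← Over.w (h.isoIsPullback _ _ hN₀).hom]
    haveI : IsIso (h.isoIsPullback _ _ hN₀).hom.left := ((Over.forget _).mapIso (h.isoIsPullback _ _ hN₀)).isIso_hom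
    infer_instance
  · haveI : ConnectedSpace ↥((Over.forget (Spec (CommRingCat.of k))).obj K₀) := ‹ConnectedSpace K₀.left›
    exact (Scheme.homeoOfIso ((Over.forget _).mapIso (h.isoIsPullback _ _ hkψ).symm)).surjective.connectedSpace
      (Scheme.homeoOfIso ((Over.forget _).mapIso (h.isoIsPullback _ _ hkψ).symm)).continuous
  · rw [← Over.w (h.isoIsPullback _ _ hN₀).hom]
    haveI : IsIso (h.isoIsPullback _ _ hN₀).hom.left := ((Over.forget _).mapIso (h.isoIsPullback _ _ hN₀)).isIso_hom
    infer_instance

end Groth.Agent.S14759
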