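import Groth.Statements.S1477
import Groth.Agent.LocImmLib.ZMT
import Groth.Agent.Graft.EvFinite
import Groth.Agent.Graft.Extend
import Groth.Agent.AlgSpPts.Sep

set_option autoImplicit false
universe u
open FlatMor

namespace Groth.Agent.S1477

open AlgebraicGeometry CategoryTheory Limits in
/-- Let S be quasi-compact and quasi-separated and f : X → S separated, quasi-compact, locally
quasi-finite and locally of finite presentation. Then f factors as a quasi-compact open immersion X
→ T followed by a morphism T → S which is finite and of finite presentation. -/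
theorem result {X S : Scheme.{u}} (f : X ⟶ S) [CompactSpace ↑S] [QuasiSeparatedSpace ↑S]
    [IsSeparated f] [QuasiCompact f] [LocallyQuasiFinite f] [LocallyOfFinitePresentation f] :
    ∃ (T : Scheme.{u}) (j : X ⟶ T) (π : T ⟶ S), IsOpenImmersion j ∧ QuasiCompact j ∧ IsFinite π ∧ LocallyOfFinitePresentation π ∧ j ≫ π = f := by
  obtain ⟨T, j, π, hj, hjq, hπ, hjπ⟩ := Groth.Agent.LocImmLib.exists_openImmersion_finite f
  obtain ⟨P, p, k, hp, hpfp, hk, hkp⟩ := Groth.Agent.Graft.exists_finite_hull π
  haveI : CompactSpace P := QuasiCompact.compactSpace_of_compactSpace p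
  haveI : QuasiSeparatedSpace P := quasiSeparatedSpace_of_quasiSeparated p
  haveI : CompactSpace X := QuasiCompact.compactSpace_of_compactSpace f
  have hO : IsCompact (j.opensRange : Set T) := isCompact_range j.continuous
  obtain ⟨W, hW, hWj⟩ := Groth.Agent.Graft.exists_compact_open_preimage k j.opensRange hO
  let e : X ≅ (k ⁻¹ᵁ W : Scheme.{u}) := IsOpenImmersion.isoOfRangeEq j (k ⁻¹ᵁ W).ι (by
    rw [Scheme.Opens.range_ι, hWj]; rfl)
  have he : e.hom ≫ (k ⁻¹ᵁ W).ι = j := IsOpenImmersion.isoOfRangeEq_hom_fac _ _ _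
  let q : X ⟶ (W : Scheme.{u}) := e.hom ≫ (k ∣_ W)
  have hq : q ≫ W.ι = j ≫ k := by
    rw [Category.assoc, morphismRestrict_ι, ← Category.assoc, he]
  have hqf : q ≫ W.ι ≫ p = f := by rw [← Category.assoc, hq, Category.assoc, hkp, hjπ]
  haveI : LocallyOfFinitePresentation (q ≫ W.ι ≫ p) := by rw [hqf]; infer_instance
  haveI : LocallyOfFinitePresentation q :=
    Groth.Agent.AlgSpPts.locallyOfFinitePresentation_of_comp q (W.ι ≫ p)
  haveI : IsClosedImmersion q := inferInstance
  have hle : q.ker ≤ k.ker.comap W.ι := by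
    rw [← Scheme.IdealSheafData.ker_fst_of_isClosedImmersion, Scheme.Hom.ker_comp_of_isIso e.hom,
      ← (isPullback_morphismRestrict k W).isoPullback_hom_fst, Scheme.Hom.ker_comp_of_isIso]
  obtain ⟨K', hK', hK'fg, hK'W⟩ :=
    Groth.Agent.Graft.exists_fg_extend k.ker W hW q.ker (Groth.Agent.Graft.isFG_ker q) hle
  obtain ⟨z, hz, hsq⟩ := Groth.Agent.Graft.exists_isPullback_subscheme hK'W
  haveI : LocallyOfFinitePresentation K'.subschemeι := Groth.Agent.MorLib.IdealFG.lfp_subschemeι hK'fg
  haveI : CompactSpace K'.subscheme := QuasiCompact.compactSpace_of_compactSpace K'.subschemeι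
  haveI : QuasiSeparatedSpace K'.subscheme := quasiSeparatedSpace_of_quasiSeparated K'.subschemeι
  refine ⟨K'.subscheme, q.toImage ≫ z, K'.subschemeι ≫ p, inferInstance, quasiCompact_of_compactSpace _,
    inferInstance, inferInstance, ?_⟩
  rw [Category.assoc, hsq.w_assoc, Scheme.Hom.toImage_imageι_assoc, hqf]

end Groth.Agent.S1477
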