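import Groth.Statements.S14780
import Groth.Agent.SubtrRef.FlatStage

set_option linter.style.haveILetI false
set_option backward.isDefEq.respectTransparency false
set_option backward.isDefEq.respectTransparency.types false


set_option autoImplicit false
universe u
open CategoryTheory CategoryTheory.Limits AlgebraicGeometry
open Subtr

attribute [-instance] CategoryTheory.catToReflQuiver

namespace Groth.Agent.S14780

/-- Let Y be a scheme that is affine or Noetherian and f : X ⟶ Y a universally open surjective morphism
of finite presentation. Then there are a scheme Y', a proper surjective morphism q : Y' ⟶ Y of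
finite presentation, a scheme X' and a surjective closed immersion r : X' ⟶ X ×_Y Y' (a
nil-immersion) such that the composite X' ⟶ X ×_Y Y' ⟶ Y' is flat, surjective and of finite
presentation. -/
theorem result {X Y : Scheme.{u}}
    (f : X ⟶ Y) (hY : IsAffine Y ∨ IsNoetherian Y) [LocallyOfFinitePresentation f] [QuasiCompact f] [QuasiSeparated f]
    [UniversallyOpen f] [Surjective f] :
    ∃ (Y' : Scheme.{u}) (q : Y' ⟶ Y) (X' : Scheme.{u}) (r : X' ⟶ pullback f q),
      IsProper q ∧ Surjective q ∧ LocallyOfFinitePresentation q ∧
      IsClosedImmersion r ∧ Surjective r ∧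
      Flat (r ≫ pullback.snd f q) ∧ Surjective (r ≫ pullback.snd f q) ∧
      LocallyOfFinitePresentation (r ≫ pullback.snd f q) ∧ QuasiCompact (r ≫ pullback.snd f q) ∧
      QuasiSeparated (r ≫ pullback.snd f q) := by
  haveI : CompactSpace Y := by rcases hY with hY | hY <;> infer_instance
  haveI : QuasiSeparatedSpace Y := by rcases hY with hY | hY <;> infer_instance
  obtain ⟨P, q, hq, hq', hq'', Z, r, hr, hfp, hs, hflat⟩ := Groth.Agent.SubtrRef.exists_flattening f
  haveI := hr; haveI := hfp; haveI := hs
  exact ⟨P, q, Z, r, hq, hq', hq'', hr, hs, hflat, inferInstance, inferInstance, inferInstance, inferInstance⟩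
end Groth.Agent.S14780
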