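import Groth.Statements.S14792
import Groth.Agent.S14785
import Groth.Agent.S14770
import Groth.Agent.DescLib.SubtrSubm
import Groth.Agent.ConsPropLib.NoethApprox

set_option linter.style.haveILetI false
set_option backward.isDefEq.respectTransparency false
set_option backward.isDefEq.respectTransparency.types false


set_option autoImplicit false
universe u
open CategoryTheory CategoryTheory.Limits AlgebraicGeometry
open Subtr

namespace Groth.Agent.S14792

/-- (i) ⇔ (iii): let A be a commutative ring and f : X ⟶ Spec A a morphism of finite presentation. Then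
every base change of f has the lifting property for ordered pairs of points if and only if there are
a finitely generated subring A₀ ⊆ A, a scheme X₀ and a universally submersive morphism f₀ : X₀ ⟶
Spec A₀ of finite presentation such that f is the base change of f₀ along Spec A ⟶ Spec A₀. -/
theorem result (A : Type u) [CommRing A]
    {X : Scheme.{u}} (f : X ⟶ Spec (CommRingCat.of A))
    [LocallyOfFinitePresentation f] [QuasiCompact f] [QuasiSeparated f] :
    Subtr.UnivSSubtrusive f ↔
      ∃ (A₀ : Subalgebra ℤ A) (_ : A₀.FG) (X₀ : Scheme.{u}) (f₀ : X₀ ⟶ Spec (CommRingCat.of A₀))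
        (q : X ⟶ X₀), IsPullback q f f₀ (Spec.map (CommRingCat.ofHom A₀.val.toRingHom)) ∧
        LocallyOfFinitePresentation f₀ ∧ QuasiCompact f₀ ∧ QuasiSeparated f₀ ∧
        SGA1.UnivSubmersive f₀ := by
  open Groth.Agent.ConsPropLib.NoethApprox in
  constructor
  · intro hf
    haveI : ∀ (i j : (Finset A)ᵒᵖ) (f : i ⟶ j), IsAffineHom ((diagram (CommRingCat.of A)).map f) :=
      fun _ _ f => isAffineHom_map _ f
    obtain ⟨i₀, X₀, f₀, q₀, hlfp, hqc, hqs, sq⟩ :=
      Groth.Agent.S0591.result (diagram (CommRingCat.of A)) (cone _) (isLimit _) X f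
    haveI := hlfp; haveI := hqc; haveI := hqs
    obtain ⟨i, φ, Xi, Yi, fi, gi, pY, pX, hY, hX, hfi⟩ := Groth.Agent.S14785.result
      (diagram (CommRingCat.of A)) (cone _) (isLimit _) i₀ f₀ (𝟙 _) f (𝟙 _) ((cone _).π.app i₀) q₀
      (IsPullback.of_vert_isIso ⟨by simp⟩) sq hf
    haveI : IsIso gi := MorphismProperty.of_isPullback (P := MorphismProperty.isomorphisms Scheme) hY
      (inferInstanceAs (IsIso (𝟙 _)))
    let m := hY.lift ((cone (CommRingCat.of A)).π.app i₀) ((cone (CommRingCat.of A)).π.app i)
      (by rw [Category.comp_id]; exact ((cone (CommRingCat.of A)).w φ).symm)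
    have hm1 : m ≫ pY = (cone (CommRingCat.of A)).π.app i₀ := hY.lift_fst _ _ _
    have hm2 : m ≫ gi = (cone (CommRingCat.of A)).π.app i := hY.lift_snd _ _ _
    let q := hX.lift q₀ (f ≫ m) (by rw [Category.assoc, hm1]; exact sq.w)
    have hq : IsPullback q f fi m := IsPullback.of_right (by
      rw [show q ≫ pX = q₀ from hX.lift_fst _ _ _, hm1]; exact sq) (hX.lift_snd _ _ _) hX
    have hq' : IsPullback q f (fi ≫ gi) ((cone (CommRingCat.of A)).π.app i) := by
      have h := hq.paste_vert (IsPullback.of_vert_isIso ⟨by simp [hm2]⟩ :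
        IsPullback m (𝟙 _) gi ((cone (CommRingCat.of A)).π.app i))
      exact (Category.comp_id f) ▸ h
    haveI : LocallyOfFinitePresentation fi := MorphismProperty.of_isPullback hX inferInstance
    haveI : QuasiCompact fi := MorphismProperty.of_isPullback hX inferInstance
    haveI : QuasiSeparated fi := MorphismProperty.of_isPullback hX inferInstance
    refine ⟨Algebra.adjoin ℤ ((i.unop : Finset A) : Set A), ⟨i.unop, rfl⟩, Xi, fi ≫ gi, q, hq',
      inferInstanceAs (LocallyOfFinitePresentation (fi ≫ gi)), inferInstanceAs (QuasiCompact (fi ≫ gi)),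
      inferInstanceAs (QuasiSeparated (fi ≫ gi)), ?_⟩
    exact Groth.Agent.DescLib.univSubmersive_of_univSSubtrusive (fi ≫ gi)
      ((Subtr.UnivSSubtrusive.cancel_right_of_respectsIso fi gi).2 hfi)
  · rintro ⟨A₀, hA₀, X₀, f₀, q, sq, hlfp, hqc, hqs, hsub⟩
    haveI := hqc
    haveI : Algebra.FiniteType ℤ A₀ := ⟨(Subalgebra.fg_top A₀).2 hA₀⟩
    haveI : IsNoetherianRing A₀ := Algebra.FiniteType.isNoetherianRing ℤ _
    exact MorphismProperty.of_isPullback (P := Subtr.UnivSSubtrusive) sq
      ((Groth.Agent.S14770.result f₀).1 hsub)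
end Groth.Agent.S14792
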