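import Groth.Statements.S14796
import Groth.Agent.H6WeakSub.BaseChange
import Groth.Agent.Hensel.EtaleReduced
import Mathlib.RingTheory.LocalProperties.Reduced
import Mathlib.RingTheory.Localization.BaseChange


set_option autoImplicit false
universe u
open CategoryTheory CategoryTheory.Limits AlgebraicGeometry
open Subtr

namespace Groth.Agent.S14796

/-- Let A ⊆ B be a ring extension and A ⟶ A' a ring map that is a localization or étale; put B' = A' ⊗_A
B. Let C ⊆ B be the weak subintegral closure of A in B and C' ⊆ B' that of A' in B' (each the
largest subalgebra whose spectrum maps to the base by a universal homeomorphism, characterised here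
by that maximality). Then C' is the image of A' ⊗_A C ⟶ A' ⊗_A B: the weak subintegral closure
commutes with such base changes. -/
theorem result {A B A' : Type u} [CommRing A] [CommRing B]
    [CommRing A'] [Algebra A B] [Algebra A A'] (hinj : Function.Injective (algebraMap A B))
    (hA' : (∃ M : Submonoid A, IsLocalization M A') ∨ Algebra.Etale A A')
    (C : Subalgebra A B) (hC : FlatMor.IsUnivHomeo (Spec.map (CommRingCat.ofHom (algebraMap A C))))
    (hmax : ∀ D : Subalgebra A B, FlatMor.IsUnivHomeo (Spec.map (CommRingCat.ofHom (algebraMap A D))) → D ≤ C)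
    (C' : Subalgebra A' (TensorProduct A A' B)) (hC' : FlatMor.IsUnivHomeo (Spec.map (CommRingCat.ofHom (algebraMap A' C'))))
    (hmax' : ∀ D : Subalgebra A' (TensorProduct A A' B), FlatMor.IsUnivHomeo (Spec.map (CommRingCat.ofHom (algebraMap A' D))) → D ≤ C') :
    (C' : Set (TensorProduct A A' B)) =
      Set.range (Algebra.TensorProduct.map (AlgHom.id A A') C.val) := by
  open TensorProduct in
  have main : Module.Flat A A' ∧
      (∀ (Q : Type u) [CommRing Q] [Algebra A Q] [IsReduced Q], IsReduced (A' ⊗[A] Q)) ∧
      Function.Bijective (TensorProduct.toIntegralClosure A A' B) := by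
    rcases hA' with ⟨M, hM⟩ | hE
    · refine ⟨IsLocalization.flat A' M, fun Q _ _ _ => ?_,
        TensorProduct.toIntegralClosure_bijective_of_isLocalization M⟩
      haveI : IsReduced (Q ⊗[A] A') :=
        isReduced_localizationPreserves (R := Q) (Algebra.algebraMapSubmonoid Q M) (Q ⊗[A] A')
          inferInstance
      exact isReduced_of_injective (Algebra.TensorProduct.comm A A' Q)
        (Algebra.TensorProduct.comm A A' Q).injective
    · refine ⟨inferInstance, fun Q _ _ _ => ?_, TensorProduct.toIntegralClosure_bijective_of_smooth⟩
      haveI : IsReduced (Q ⊗[A] A') := Groth.Agent.Hensel.isReduced_of_etale Q (Q ⊗[A] A')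
      exact isReduced_of_injective (Algebra.TensorProduct.comm A A' Q)
        (Algebra.TensorProduct.comm A A' Q).injective
  obtain ⟨hflat, hred, hic⟩ := main
  exact (Groth.Agent.H6WeakSub.subset_range hinj hred hic C hC hmax C' hC').antisymm
    (Groth.Agent.H6WeakSub.range_subset hinj C hC C' hmax')

end Groth.Agent.S14796
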