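import Groth.Statements.S1480
import Groth.Agent.LQFTorsLib.Transfer

set_option autoImplicit false
universe u
open FlatMor

namespace Groth.Agent.S1480


open AlgebraicGeometry CategoryTheory Limits in
/-- Restriction to a basic open of the base. -/
theorem exists_basicOpen_square {X S : Scheme.{u}} (f : X ⟶ S) {U : S.Opens} (hU : IsAffineOpen U) {V : X.Opens}
    (hV : IsAffineOpen V) (e : V ≤ f ⁻¹ᵁ U) (a : Γ(S, U)) :
    ∃ (U' : S.Opens) (_ : IsAffineOpen U') (V' : X.Opens) (_ : IsAffineOpen V') (e' : V' ≤ f ⁻¹ᵁ U')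
      (_ : Algebra Γ(S, U) Γ(S, U')) (_ : Algebra Γ(X, V) Γ(X, V')) (i : V' ≤ V),
      (∀ x, algebraMap Γ(X, V) Γ(X, V') x = X.presheaf.map (homOfLE i).op x) ∧
      IsLocalization.Away a Γ(S, U') ∧ IsLocalization.Away (f.appLE U V e a) Γ(X, V') ∧
      ∀ c, f.appLE U' V' e' (algebraMap Γ(S, U) Γ(S, U') c) = algebraMap Γ(X, V) Γ(X, V') (f.appLE U V e c) := by
  let U' := S.basicOpen a
  let V' := X.basicOpen (f.appLE U V e a)
  have e' : V' ≤ f ⁻¹ᵁ U' := by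
    show X.basicOpen (f.appLE U V e a) ≤ f ⁻¹ᵁ S.basicOpen a
    rw [Scheme.preimage_basicOpen, Scheme.Hom.appLE, CommRingCat.comp_apply, Scheme.basicOpen_res]
    exact inf_le_right
  refine ⟨U', hU.basicOpen a, V', hV.basicOpen _, e', (S.presheaf.map (homOfLE (S.basicOpen_le a)).op).hom.toAlgebra,
    (X.presheaf.map (homOfLE (X.basicOpen_le (f.appLE U V e a))).op).hom.toAlgebra, X.basicOpen_le _, fun x => rfl,
    hU.isLocalization_of_eq_basicOpen a (homOfLE (S.basicOpen_le a)) rfl,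
    hV.isLocalization_of_eq_basicOpen _ (homOfLE (X.basicOpen_le _)) rfl, fun c => ?_⟩
  show (S.presheaf.map _ ≫ f.appLE U' V' e') c = (f.appLE U V e ≫ X.presheaf.map _) c
  rw [Scheme.Hom.map_appLE, Scheme.Hom.appLE_map]

open AlgebraicGeometry CategoryTheory Limits in
/-- Let f : X → S be flat, locally of finite presentation and locally quasi-finite, and g a nonzero
global function on X. Then there are affine opens V of X and U of S with f(V) ⊆ U and g nonzero on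
V, an ideal F of O_S(U), a positive integer r and an injective O_S(U)-linear map from F^r to O_X(V)
whose image contains the restriction of g to V. -/
theorem result {X S : Scheme.{u}} (f : X ⟶ S) [Flat f] [LocallyOfFinitePresentation f] [LocallyQuasiFinite f]
    (g : Γ(X, ⊤)) (hg : g ≠ 0) :
    ∃ (U : S.Opens) (hU : IsAffineOpen U) (V : X.Opens) (hV : IsAffineOpen V) (hVU : V ≤ f ⁻¹ᵁ U),
      X.presheaf.map (homOfLE le_top).op g ≠ (0 : Γ(X, V)) ∧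
      ∃ (F : Ideal Γ(S, U)) (r : ℕ), 0 < r ∧
        letI := (f.appLE U V hVU).hom.toAlgebra
        ∃ φ : (Fin r → ↥F) →ₗ[Γ(S, U)] Γ(X, V), Function.Injective φ ∧ X.presheaf.map (homOfLE le_top).op g ∈ LinearMap.range φ := by
  -- an affine pair on which `g` is nonzero
  obtain ⟨U, hU, V, hV, e, hgV⟩ : ∃ (U : S.Opens) (_ : IsAffineOpen U) (V : X.Opens) (_ : IsAffineOpen V)
      (_ : V ≤ f ⁻¹ᵁ U), X.presheaf.map (homOfLE le_top).op g ≠ (0 : Γ(X, V)) := by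
    by_contra! h
    refine hg ?_
    have hx : ∀ x : X, ∃ (U : S.Opens) (_ : IsAffineOpen U) (V : X.Opens) (_ : IsAffineOpen V), x ∈ V ∧ V ≤ f ⁻¹ᵁ U := fun x => by
      obtain ⟨U, hU, hxU, -⟩ := exists_isAffineOpen_mem_and_subset (x := f x) (U := (⊤ : S.Opens)) trivial
      obtain ⟨V, hV, hxV, hVU⟩ := exists_isAffineOpen_mem_and_subset (x := x) (U := f ⁻¹ᵁ U) hxU
      exact ⟨U, hU, V, hV, hxV, hVU⟩
    choose U hU V hV hxV hVU using hx
    refine X.sheaf.eq_of_locally_eq' V ⊤ (fun x => homOfLE le_top) ?_ g 0 fun x => ?_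
    · exact fun x _ => TopologicalSpace.Opens.mem_iSup.mpr ⟨x, hxV x⟩
    · exact (h (U x) (hU x) (V x) (hV x) (hVU x)).trans (map_zero _).symm
  -- first localization: finiteness
  let := (f.appLE U V e).hom.toAlgebra
  have : Algebra.QuasiFinite Γ(S, U) Γ(X, V) := LocallyQuasiFinite.quasiFinite_appLE hU hV e
  have : Algebra.FiniteType Γ(S, U) Γ(X, V) := f.finiteType_appLE hU hV e
  obtain ⟨a, ha, J, hJ, hJg, s, hs, hP⟩ := Groth.Agent.LQFTors.exists_fg_ideal_integral Γ(S, U) Γ(X, V) hgV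
  obtain ⟨U₁, hU₁, V₁, hV₁, e₁, hA₁, hB₁, i₁, hi₁, hl₁, hl₁', hsq₁⟩ := exists_basicOpen_square f hU hV e a
  let := (f.appLE U₁ V₁ e₁).hom.toAlgebra
  have : IsLocalization.Away (algebraMap Γ(S, U) Γ(X, V) a) Γ(X, V₁) := hl₁'
  set g₁ := algebraMap Γ(X, V) Γ(X, V₁) (X.presheaf.map (homOfLE le_top).op g) with hg₁
  have hg₁0 : g₁ ≠ 0 := Groth.Agent.LQFTors.transfer_ne_zero Γ(S, U) Γ(X, V) Γ(X, V₁) a ha
  have := Groth.Agent.LQFTors.transfer_finite Γ(S, U) Γ(X, V) Γ(S, U₁) Γ(X, V₁) a hsq₁ J s hs hP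
  have hJg₁ := Groth.Agent.LQFTors.transfer_annihilated Γ(S, U) Γ(X, V) Γ(S, U₁) Γ(X, V₁) hsq₁ J hJg
  have : Module.Flat Γ(S, U₁) Γ(X, V₁) := f.flat_appLE hU₁ hV₁ e₁
  have : Algebra.FinitePresentation Γ(S, U₁) Γ(X, V₁) := f.finitePresentation_appLE hU₁ hV₁ e₁
  obtain ⟨a₂, ha₂, r, b, hspan, hind⟩ := Groth.Agent.LQFTors.exists_basis_lift Γ(S, U₁) Γ(X, V₁) hg₁0
    (J.map (algebraMap Γ(S, U) Γ(S, U₁))) (hJ.map _) hJg₁
  -- second localization: freeness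
  obtain ⟨U₂, hU₂, V₂, hV₂, e₂, hA₂, hB₂, i₂, hi₂, hl₂, hl₂', hsq₂⟩ := exists_basicOpen_square f hU₁ hV₁ e₁ a₂
  let := (f.appLE U₂ V₂ e₂).hom.toAlgebra
  have : IsLocalization.Away (algebraMap Γ(S, U₁) Γ(X, V₁) a₂) Γ(X, V₂) := hl₂'
  set g₂ := algebraMap Γ(X, V₁) Γ(X, V₂) g₁
  have hg₂0 : g₂ ≠ 0 := Groth.Agent.LQFTors.transfer_ne_zero Γ(S, U₁) Γ(X, V₁) Γ(X, V₂) a₂ ha₂
  obtain ⟨hspan', hind'⟩ := Groth.Agent.LQFTors.transfer_basis Γ(S, U₁) Γ(X, V₁) Γ(S, U₂) Γ(X, V₂) a₂ hsq₂ _ b hspan hind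
  have hJg₂ := Groth.Agent.LQFTors.transfer_annihilated Γ(S, U₁) Γ(X, V₁) Γ(S, U₂) Γ(X, V₂) hsq₂ _ hJg₁
  have : Module.Flat Γ(S, U₂) Γ(X, V₂) := f.flat_appLE hU₂ hV₂ e₂
  obtain ⟨F, r', hr', φ, hφ, hgφ⟩ := Groth.Agent.LQFTors.exists_injective_of_basis_lift Γ(S, U₂) Γ(X, V₂) hg₂0 _
    ((hJ.map _).map _) hJg₂ _ hspan' hind'
  have hres : X.presheaf.map (homOfLE le_top).op g = g₂ := by
    show _ = algebraMap Γ(X, V₁) Γ(X, V₂) (algebraMap Γ(X, V) Γ(X, V₁) (X.presheaf.map (homOfLE le_top).op g))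
    rw [hi₂, hi₁, ← CommRingCat.comp_apply, ← CommRingCat.comp_apply, ← Functor.map_comp, ← Functor.map_comp]
    rfl
  exact ⟨U₂, hU₂, V₂, hV₂, e₂, hres ▸ hg₂0, F, r', hr', φ, hφ, hres ▸ hgφ⟩

end Groth.Agent.S1480
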