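import Groth.Statements.S14812
import Groth.Agent.NumTau.Proper
import Groth.Agent.ShStabLib.DimFinite
-- import your own Groth.Agent.* helpers here

set_option autoImplicit false
universe u
open CategoryTheory CategoryTheory.Limits AlgebraicGeometry
open Pic13

set_option backward.isDefEq.respectTransparency false
set_option backward.isDefEq.respectTransparency.types false
set_option synthInstance.maxHeartbeats 400000
set_option maxHeartbeats 1000000
set_option linter.style.haveILetI false
attribute [-instance] CategoryTheory.catToReflQuiver

namespace Groth.Agent.S14812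

/-- Take any field k, a proper k-scheme X and an invertible O_X-module L. Then L is numerically trivial
(degree 0 on every closed subscheme of X which is integral of dimension one) if and only if χ(F ⊗ L)
= χ(F) for every coherent O_X-module F; here χ is the alternating sum of the dimensions dim_k H^i(X,
·) over 0 ≤ i ≤ d, for any natural number d bounding the dimension of X. The field k is not assumed
algebraically closed. -/
theorem result (k : Type u) [Field k] (X : Scheme.{u})
    [X.Over (Spec (CommRingCat.of k))] [IsProper (X ↘ Spec (CommRingCat.of k))] (L : X.Modules) (hL : PicF.IsInvertible L) :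
    Pic13.IsNumEquivZero k X L ↔
      ∀ (F : X.Modules), Coh.IsCoh F → ∀ d : ℕ, topologicalKrullDim X ≤ d →
        FGA.eulerCharLE k X (CohB1.tensorMod F L) d = FGA.eulerCharLE k X F d := by
  open Groth.Agent in
  refine (NumTau.numEquivZero_iff_euler (k := k) hL).trans ⟨fun h F hF d hd => ?_, fun h F hF => ?_⟩
  · open Groth.Agent in
    rw [Nakai.eulerCharLE_eq_euler k hd (NumTau.isCoh_tw k hF hL).1, Nakai.eulerCharLE_eq_euler k hd hF.1, h F hF]
  · open Groth.Agent in
    obtain ⟨d, hd'⟩ := ShStabLib.exists_dim_le_proper k X
    have hd : topologicalKrullDim X ≤ (d : WithBot ℕ∞) :=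
      ((Homeomorph.Set.univ X).isHomeomorph.topologicalKrullDim_eq).symm.trans_le (hd' Set.univ)
    open Groth.Agent in
    rw [← Nakai.eulerCharLE_eq_euler k hd (NumTau.isCoh_tw k hF hL).1, ← Nakai.eulerCharLE_eq_euler k hd hF.1,
      h F hF d hd]


end Groth.Agent.S14812
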