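import Groth.Statements.S14813
import Groth.Agent.AVEuler.EtaleCover
import Groth.Agent.Nakai.KleimanDeg
import Groth.Agent.CurveBC.FiniteDim
-- import your own Groth.Agent.* helpers here

set_option autoImplicit false
universe u
open CategoryTheory CategoryTheory.Limits AlgebraicGeometry
open FGA

attribute [-instance] CategoryTheory.catToReflQuiver

namespace Groth.Agent.S14813

/-- Let k be an arbitrary field and let X and X' be smooth, integral, proper k-schemes, X of dimension
n, with an étale k-morphism φ : X' → X (it is then finite étale); suppose φ is finite locally free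
of constant degree d. Then χ(O_{X'}) = d · χ(O_X), where χ denotes the alternating sum of dim_k
H^i(·, O) over 0 ≤ i ≤ n (X' has dimension n as well). -/
theorem result (k : Type u) [Field k] (X X' : Scheme.{u})
    [X.Over (Spec (CommRingCat.of k))] [X'.Over (Spec (CommRingCat.of k))]
    [IsProper (X ↘ Spec (CommRingCat.of k))] [IsProper (X' ↘ Spec (CommRingCat.of k))] [Smooth (X ↘ Spec (CommRingCat.of k))] [Smooth (X' ↘ Spec (CommRingCat.of k))]
    [IsIntegral X] [IsIntegral X'] (φ : X' ⟶ X) [Etale φ] (hφ : φ ≫ (X ↘ Spec (CommRingCat.of k)) = X' ↘ Spec (CommRingCat.of k))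
    (d : ℕ) (hd : Mor2.IsFinLocFreeOfDeg d φ) (n : ℕ) (hn : topologicalKrullDim X = n) :
    FGA.eulerCharLE k X' (Coh.structureModule X') n = d * FGA.eulerCharLE k X (Coh.structureModule X) n := by
  haveI : IsFinite φ := hd.1.1
  haveI : LocallyQuasiFinite φ := inferInstance
  have hdim : topologicalKrullDim X' ≤ n := by
    let g : TopologicalSpace.IrreducibleCloseds X' → TopologicalSpace.IrreducibleCloseds X := fun Z =>
      ⟨φ '' (Z : Set X'), Z.isIrreducible.image _ φ.continuous.continuousOn, φ.isClosedMap _ Z.isClosed⟩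
    have hg : StrictMono g := fun A B hAB => by
      refine lt_of_le_of_ne (Set.image_mono (f := φ) hAB.le) fun h => ?_
      obtain ⟨a, ha⟩ := QuasiSober.sober A.isIrreducible A.isClosed
      obtain ⟨b, hb⟩ := QuasiSober.sober B.isIrreducible B.isClosed
      have hab : b ⤳ a := hb.specializes (hAB.le ha.mem)
      have hfb : φ b ∈ φ '' (A : Set X') :=
        (congrArg (fun Z : TopologicalSpace.IrreducibleCloseds X => (Z : Set X)) h).ge ⟨b, hb.mem, rfl⟩
      obtain ⟨c, hc, hce⟩ := hfb
      have h1 : φ a ⤳ φ b := hce ▸ (ha.specializes hc).map φ.continuous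
      have he : φ a = φ b := (h1.antisymm (hab.map φ.continuous)).eq
      exact hAB.ne (TopologicalSpace.IrreducibleCloseds.ext (by
        have e := Groth.Agent.CurveBC.eq_of_specializes_fibre φ hab he.symm
        rw [← ha.def, ← hb.def, e]))
    exact (Order.krullDim_le_of_strictMono g hg).trans hn.le
  have hO : Coh.IsCoh (Coh.structureModule X) := by
    haveI : IsNoetherian X := Groth.Agent.CurveCohLib.isNoetherian_of_proper (k := k)
    exact Groth.Agent.QCoh.isCoh_structureModule'
  rw [Groth.Agent.Nakai.eulerCharLE_eq_euler k hdim Groth.Agent.QCoh.isQCoh_structureModule,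
    Groth.Agent.Nakai.eulerCharLE_eq_euler k hn.le Groth.Agent.QCoh.isQCoh_structureModule,
    ← Groth.Agent.AVEuler.euler_pullback_etale k d X X' φ hφ
      (Groth.Agent.H23.CoverPush.isFinLocFreeOfRank_push_of_isCover φ hd) _ hO]
  exact (Groth.Agent.HilbPoly.additive_euler k).iso _ _
    ⟨(Groth.Agent.PicClLib.nonempty_pullback_structureModule φ).some.symm⟩


end Groth.Agent.S14813
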