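import Groth.Statements.S14819
import Groth.Agent.TorCov.Insep
import Groth.Agent.H23.PicMul
-- import your own Groth.Agent.* helpers here

set_option autoImplicit false
universe u
open CategoryTheory CategoryTheory.Limits AlgebraicGeometry
open PicF

set_option backward.isDefEq.respectTransparency false
attribute [-instance] CategoryTheory.catToReflQuiver
open scoped Groth.Agent.H23.PicMul

namespace Groth.Agent.S14819

/-- Let X be an integral Noetherian scheme which is normal (all local rings integrally closed domains)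
and whose ring of global functions Γ(X, O_X) is a field of characteristic p > 0; let L be an
invertible O_X-module of exact order d in Pic(X), i.e. L^{⊗d} ≅ O_X with d ≥ 1 and L^{⊗i} not
isomorphic to O_X for 0 < i < d, and suppose p divides d. Let X' be a connected scheme such that
every unit of Γ(X', O_{X'}) has a p-th root. Then no finite étale morphism f : X' → X (a finite
étale covering of X by X') satisfies f^*L ≅ O_{X'}. -/
theorem result (X X' : Scheme.{u})
    [IsIntegral X] [IsNoetherian X] (hnorm : Pi1.IsNormalScheme X)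
    (hfield : IsField (Γ(X, ⊤) : Type u)) (p : ℕ) [Fact (Nat.Prime p)] [CharP (Γ(X, ⊤) : Type u) p]
    (L : X.Modules) (hL : PicF.IsInvertible L) (d : ℕ) (hd : 0 < d)
    (hord : Nonempty (CohB1.tensorPow L d ≅ Coh.structureModule X))
    (hmin : ∀ i : ℕ, 0 < i → i < d → IsEmpty (CohB1.tensorPow L i ≅ Coh.structureModule X))
    (hpd : p ∣ d) [ConnectedSpace X']
    (hroot : ∀ u : (Γ(X', ⊤) : Type u), IsUnit u → ∃ v : (Γ(X', ⊤) : Type u), v ^ p = u)
    (f : X' ⟶ X) [IsFinite f] [Etale f] :
    IsEmpty ((Scheme.Modules.pullback f).obj L ≅ Coh.structureModule X') := by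
  refine ⟨fun e => ?_⟩
  obtain ⟨n, rfl⟩ := hpd
  have hn : 0 < n := Nat.pos_of_ne_zero fun h => by simp [h] at hd
  have hp1 : 1 < p := (Fact.out : p.Prime).one_lt
  refine (hmin n hn ?_).false (Classical.choice ?_)
  · calc n = 1 * n := (_root_.one_mul n).symm
      _ < p * n := Nat.mul_lt_mul_of_pos_right hp1 hn
  haveI : Nonempty X' := inferInstance
  haveI : Nonempty (⊤ : X.Opens) := ⟨⟨genericPoint X, trivial⟩⟩
  haveI : CharP X.functionField p := by
    refine (RingHom.charP_iff (X.germToFunctionField ⊤).hom ?_ p).1 inferInstance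
    exact germ_injective_of_isIntegral X _ _
  have hLn : PicF.IsInvertible (CohB1.tensorPow L n) := Groth.Agent.InvX.isInvertible_tensorPow hL n
  refine Groth.Agent.TorCov.trivial_of_pow_trivial f hnorm p hroot hLn
    (Groth.Agent.H23.PicMul.cl_eq_iff.1 ?_).some (Groth.Agent.H23.PicMul.cl_eq_iff.1 ?_).some
  · rw [Groth.Agent.H23.PicMul.cl_tensorPow, Groth.Agent.H23.PicMul.cl_tensorPow, ← pow_mul, Nat.mul_comm,
      ← Groth.Agent.H23.PicMul.cl_tensorPow]
    exact Groth.Agent.H23.PicMul.cl_eq_iff.2 hord
  · show PicF.pullCl f (PicF.cl (CohB1.tensorPow L n)) = _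
    rw [Groth.Agent.H23.PicMul.cl_tensorPow, Groth.Agent.H23.PicMul.pullCl_pow,
      show PicF.pullCl f (PicF.cl L) = 1 from Groth.Agent.H23.PicMul.cl_eq_iff.2 ⟨e⟩, one_pow]
    rfl


end Groth.Agent.S14819
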