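import Groth.Statements.S14822
import Groth.Agent.W4GenDeg.Basic
import Groth.Agent.S2422
-- import your own Groth.Agent.* helpers here

set_option autoImplicit false
set_option linter.style.haveILetI false
set_option backward.isDefEq.respectTransparency false
set_option backward.isDefEq.respectTransparency.types false
universe u
open CategoryTheory CategoryTheory.Limits AlgebraicGeometry
open CohIII

namespace Groth.Agent.S14822

/-- Let k be a field and f : X → Y a surjective k-morphism between integral proper k-schemes of the same
dimension, with Y normal (all local rings integrally closed domains). Then f is a fibration (Γ(U,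
O_Y) → Γ(f⁻¹U, O_X) bijective for every open U ⊆ Y) if and only if f is birational: the embedding
K(Y) → K(X) of function fields given by the stalk map at the generic points is bijective. -/
theorem result (k : Type u) [Field k]
    (X Y : Scheme.{u}) [X.Over (Spec (CommRingCat.of k))] [Y.Over (Spec (CommRingCat.of k))]
    [IsProper (X ↘ Spec (CommRingCat.of k))] [IsProper (Y ↘ Spec (CommRingCat.of k))] [IsIntegral X] [IsIntegral Y]
    (hY : Pi1.IsNormalScheme Y) (f : X ⟶ Y) [Surjective f] (hf : f ≫ (Y ↘ Spec (CommRingCat.of k)) = X ↘ Spec (CommRingCat.of k))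
    (hdim : topologicalKrullDim ↥X = topologicalKrullDim ↥Y)
    (h : f.base (genericPoint ↥X) ⤳ genericPoint ↥Y) :
    (∀ U : Y.Opens, IsIso (f.app U)) ↔ Function.Bijective (CohIII.stalkToFunctionField f (genericPoint ↥Y) h) := by
  haveI : IsProper f := by
    haveI : IsProper (f ≫ (Y ↘ Spec (CommRingCat.of k))) := hf.symm ▸ inferInstance
    exact MorphismProperty.of_postcomp @IsProper f (Y ↘ Spec (CommRingCat.of k))
      (inferInstance : IsSeparated _) inferInstance
  have hη : f (genericPoint X) = genericPoint Y :=
    (h.antisymm ((genericPoint_spec Y).specializes (Set.mem_univ _))).eq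
  constructor
  · intro hiso
    obtain ⟨hfin, huniq⟩ := Groth.Agent.W4GenDeg.generic_finite f k (X ↘ Spec (CommRingCat.of k))
      (Y ↘ Spec (CommRingCat.of k)) hf hdim
    obtain ⟨W, hW, hne, hWf, -, -⟩ := Groth.Agent.W4GenDeg.exists_finite_flat f hfin huniq
    haveI := hWf
    haveI : IsAffine (W : Scheme.{u}) := hW
    haveI : IsAffine ((f ⁻¹ᵁ W : X.Opens) : Scheme.{u}) := isAffine_of_isAffineHom (f ∣_ W)
    haveI : IsIso (f ∣_ W).appTop := by
      rw [Scheme.Hom.appTop, morphismRestrict_app]
      exact @IsIso.comp_isIso _ _ _ _ _ _ _ (hiso _) (Functor.map_isIso _ _)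
    haveI : IsIso (f ∣_ W) := ((MorphismProperty.isomorphisms Scheme).arrow_mk_iso_iff (arrowIsoSpecΓOfIsAffine (f ∣_ W))).2 (show IsIso (Spec.map (f ∣_ W).appTop) from inferInstance)
    have hηW : f (genericPoint X) ∈ W := by
      rw [hη]; exact ((genericPoint_spec Y).mem_open_set_iff W.isOpen).mpr ⟨_, trivial, hne.some.2⟩
    have hs : IsIso (f.stalkMap (genericPoint X)) := by
      refine ((MorphismProperty.isomorphisms CommRingCat).arrow_mk_iso_iff
        (morphismRestrictStalkMap f W ⟨genericPoint X, hηW⟩)).1 ?_
      exact (inferInstance : IsIso ((f ∣_ W).stalkMap _))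
    haveI := hs
    haveI : IsIso (Y.presheaf.stalkSpecializes h) := by
      refine ⟨Y.presheaf.stalkSpecializes (specializes_of_eq hη.symm), ?_, ?_⟩ <;>
        simp [TopCat.Presheaf.stalkSpecializes_comp]
    exact ConcreteCategory.bijective_of_isIso (Y.presheaf.stalkSpecializes h ≫ f.stalkMap (genericPoint X))
  · intro hb
    haveI : IsLocallyNoetherian X := LocallyOfFiniteType.isLocallyNoetherian (X ↘ Spec (CommRingCat.of k))
    haveI : IsLocallyNoetherian Y := LocallyOfFiniteType.isLocallyNoetherian (Y ↘ Spec (CommRingCat.of k))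
    exact Groth.Agent.S2422.result hY f h fun x _ => hb.2 x

end Groth.Agent.S14822
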