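import Groth.Statements.S14831
import Groth.Agent.CycCover.Main
-- import your own Groth.Agent.* helpers here

set_option autoImplicit false
universe u
open CategoryTheory CategoryTheory.Limits AlgebraicGeometry
open PicF

set_option backward.isDefEq.respectTransparency false
attribute [-instance] CategoryTheory.catToReflQuiver

namespace Groth.Agent.S14831

/-- Let X be an integral Noetherian scheme such that Γ(X, O_X) is a field, and L an invertible
O_X-module of exact order d ≥ 1 in Pic(X) (L^{⊗d} ≅ O_X and L^{⊗i} ≇ O_X for 0 < i < d). Then there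
are a connected scheme X' and a finite locally free morphism g : X' → X of constant degree d (a
finite flat covering of degree d) with g^*L ≅ O_{X'}; if moreover d is invertible in Γ(X, O_X), such
a g exists which is in addition étale. (The published proof constructs g as the spectrum of the
O_X-algebra O_X ⊕ L^{−1} ⊕ ⋯ ⊕ L^{−(d−1)}; this row states only existence.) -/
theorem result (X : Scheme.{u}) [IsIntegral X] [IsNoetherian X]
    (hfield : IsField (Γ(X, ⊤) : Type u)) (L : X.Modules) (hL : PicF.IsInvertible L) (d : ℕ) (hd : 0 < d)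
    (hord : Nonempty (CohB1.tensorPow L d ≅ Coh.structureModule X))
    (hmin : ∀ i : ℕ, 0 < i → i < d → IsEmpty (CohB1.tensorPow L i ≅ Coh.structureModule X)) :
    (∃ (X' : Scheme.{u}) (g : X' ⟶ X), ConnectedSpace ↥X' ∧ Mor2.IsFinLocFreeOfDeg d g ∧
        Nonempty ((Scheme.Modules.pullback g).obj L ≅ Coh.structureModule X')) ∧
      (IsUnit ((d : ℕ) : (Γ(X, ⊤) : Type u)) →
        ∃ (X' : Scheme.{u}) (g : X' ⟶ X), ConnectedSpace ↥X' ∧ Mor2.IsFinLocFreeOfDeg d g ∧ Etale g ∧
          Nonempty ((Scheme.Modules.pullback g).obj L ≅ Coh.structureModule X')) := by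
  obtain ⟨φ⟩ := hord
  obtain ⟨t, ht⟩ := Groth.Agent.TorCov.exists_globalFrame φ
  obtain ⟨D, e, he, hb⟩ := Groth.Agent.CycCover.exists_datum hL ht
  have hc := Groth.Agent.CycCover.connectedSpace_space D hfield hd hmin e he hb
  have hdeg := D.isFinLocFreeOfDeg hd
  have htriv := Groth.Agent.CycCover.nonempty_iso_pullback D hd e he hb
  refine ⟨⟨D.space, D.proj, hc, hdeg, htriv⟩, fun hu => ⟨D.space, D.proj, hc, hdeg, D.etale hd fun W => ?_, htriv⟩⟩
  have h := hu.map (Groth.Agent.AModX.resR (le_top : W.1.1 ≤ ⊤))
  rwa [map_natCast] at h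


end Groth.Agent.S14831
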