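import Groth.Statements.S14837
import Groth.Agent.QCoh.H1Push
import Groth.Agent.QCoh.FlatBC
import Groth.Agent.S0002
import Groth.Prelude.Def_ClSub2
import Groth.Agent.QCoh.DevissageP
-- import your own Groth.Agent.* helpers here

set_option autoImplicit false
universe u
open CategoryTheory CategoryTheory.Limits AlgebraicGeometry
open Coh

namespace Groth.Agent.S14837

/-- Let k be a field and f : X → Y a k-morphism between proper k-schemes which is a fibration (Γ(V, O_Y)
→ Γ(f⁻¹V, O_X) bijective for every open V ⊆ Y). Then H^1(Y, O_Y) injects naturally into H^1(X, O_X)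
(edge map of the Leray spectral sequence); stated here as the inequality dim_k H^1(Y, O_Y) ≤ dim_k
H^1(X, O_X) of finite dimensions. -/
theorem result (k : Type u) [Field k] (X Y : Scheme.{u})
    [X.Over (Spec (CommRingCat.of k))] [Y.Over (Spec (CommRingCat.of k))] [IsProper (X ↘ Spec (CommRingCat.of k))] [IsProper (Y ↘ Spec (CommRingCat.of k))]
    (f : X ⟶ Y) (hf : f ≫ (Y ↘ Spec (CommRingCat.of k)) = X ↘ Spec (CommRingCat.of k)) (hfib : ∀ V : Y.Opens, IsIso (f.app V)) :
    Module.finrank k (Coh.HH Y (Coh.structureModule Y) 1) ≤ Module.finrank k (Coh.HH X (Coh.structureModule X) 1) := by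
    have hρ : ∀ a : k, Coh.toGlobal (X ↘ Spec (CommRingCat.of k)) a =
        f.appTop (Coh.toGlobal (Y ↘ Spec (CommRingCat.of k)) a) := fun a =>
      Groth.Agent.QCoh.toGlobal_comm (A := k) (B := k) (Y ↘ Spec (CommRingCat.of k)) (X ↘ Spec (CommRingCat.of k)) f
        (by rw [Algebra.algebraMap_self, CommRingCat.ofHom_id, Spec.map_id, Category.comp_id]; exact hf) a
    have hη : ∀ V : Y.Opens, Function.Bijective ((ClSub.unitToPush f).app V) := fun V =>
      haveI := hfib V
      ConcreteCategory.bijective_of_isIso (f.app V)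
    have : IsLocallyNoetherian X := LocallyOfFiniteType.isLocallyNoetherian (X ↘ Spec (CommRingCat.of k))
    have hcoh : Coh.IsCoh (Coh.structureModule X) := Groth.Agent.QCoh.isCoh_structureModule'
    have hfin : Module.Finite k (Coh.HH X (Coh.structureModule X) 1) := Groth.Agent.S0002.result k X _ hcoh 1
    exact Groth.Agent.QCoh.finrank_HH_one_le f (Coh.toGlobal (Y ↘ Spec (CommRingCat.of k)))
      (Coh.toGlobal (X ↘ Spec (CommRingCat.of k))) hρ (ClSub.unitToPush f) hη
      Groth.Agent.QCoh.isQCoh_structureModule hfin inferInstance inferInstance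

end Groth.Agent.S14837
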