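import Groth.Statements.S14861
import Mathlib

set_option autoImplicit false
universe u
open CAlg

namespace Groth.Agent.S14861

/-- Let p be a prime and R a commutative ring without p-torsion which is complete and separated for the
p-adic topology. Let a be a p-typical Witt vector over R and m, u natural numbers. Suppose that for
every s the equation p^u·x = a has a solution in the truncated Witt ring W_m(R/p^s R), i.e. there is
z ∈ W(R) such that the first m Witt components of p^u·z − a lie in p^s R. Then the equation has a
solution in W_m(R): there is x ∈ W(R) such that the first m Witt components of p^u·x − a vanish.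
(The published statement asks only that R have no p-torsion; R is moreover taken p-adically complete
and separated here, which is the standing situation of the surrounding argument and is what the
published proof uses when it passes to the limit over s.) -/
theorem result (p : ℕ) [Fact p.Prime] (R : Type u) [CommRing R]
    (hR : ∀ y : R, (p : R) * y = 0 → y = 0) [IsAdicComplete (Ideal.span {(p : R)}) R]
    (a : WittVector p R) (m u : ℕ)
    (h : ∀ s : ℕ, ∃ z : WittVector p R, ∀ i < m, ((p : WittVector p R) ^ u * z - a).coeff i ∈ Ideal.span {(p : R) ^ s}) :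
    ∃ x : WittVector p R, ∀ i < m, ((p : WittVector p R) ^ u * x - a).coeff i = 0 := by
  classical
  let P : ℕ → Ideal R := fun s => Ideal.span {(p : R) ^ s}
  have hP : ∀ i j, i ≤ j → P j ≤ P i := fun i j h => Ideal.span_singleton_le_span_singleton.mpr (pow_dvd_pow _ h)
  have hcancel : ∀ (i s : ℕ) (y : R), (p : R) ^ i * y ∈ P s → y ∈ P (s - i) := by
    intro i
    induction i with
    | zero => intro s y hy; simpa using hy
    | succ i ih =>
      intro s y hy
      rw [pow_succ, mul_assoc] at hy
      have h1 := ih s _ hy
      rcases Nat.eq_zero_or_pos (s - i) with h0 | h0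
      · rw [show s - (i + 1) = 0 by omega]; simp [P]
      obtain ⟨t, ht⟩ := Ideal.mem_span_singleton'.mp h1
      rw [show s - i = (s - (i + 1)) + 1 by omega, pow_succ, ← mul_assoc, mul_comm _ (p : R)] at ht
      exact Ideal.mem_span_singleton'.mpr ⟨t, sub_eq_zero.mp (hR _ (by rw [mul_sub, sub_eq_zero]; exact ht))⟩
  -- congruence of truncations
  have htr : ∀ (s : ℕ) (y y' : WittVector p R),
      (∀ i < m, y.coeff i - y'.coeff i ∈ P s) ↔
      WittVector.truncate m (WittVector.map (Ideal.Quotient.mk (P s)) y) =
        WittVector.truncate m (WittVector.map (Ideal.Quotient.mk (P s)) y') := by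
    intro s y y'
    constructor
    · intro hy
      refine TruncatedWittVector.ext fun i => ?_
      rw [WittVector.coeff_truncate, WittVector.coeff_truncate, WittVector.map_coeff, WittVector.map_coeff]
      exact Ideal.Quotient.eq.mpr (hy i i.2)
    · intro hy i hi
      have := congrArg (fun t => TruncatedWittVector.coeff ⟨i, hi⟩ t) hy
      simp only [WittVector.coeff_truncate, WittVector.map_coeff] at this
      exact Ideal.Quotient.eq.mp this
  have hsmall : ∀ (s : ℕ) (d : WittVector p R), (∀ i < m, ((p : WittVector p R) ^ u * d).coeff i ∈ P s) →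
      ∀ i < m, d.coeff i ∈ P (s - (u + i * m)) := by
    intro s d hd i
    induction i using Nat.strong_induction_on with
    | _ i ih =>
      intro him
      have hg : ∀ (t n : ℕ) (y : WittVector p R), (∀ j < n, y.coeff j ∈ P t) →
          ∑ j ∈ Finset.range n, (p : R) ^ j * y.coeff j ^ p ^ (i - j) ∈ P t := fun t n y hy =>
        Ideal.sum_mem _ fun j hj => Ideal.mul_mem_left _ _
          (Ideal.pow_mem_of_mem _ (hy j (Finset.mem_range.mp hj)) _ (pow_pos (Fact.out : p.Prime).pos _))
      have hw : ∀ y : WittVector p R, WittVector.ghostComponent i y =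
          ∑ j ∈ Finset.range (i + 1), (p : R) ^ j * y.coeff j ^ p ^ (i - j) := fun y => by
        simp [WittVector.ghostComponent_apply, wittPolynomial_eq_sum_C_mul_X_pow]
      have h1 : WittVector.ghostComponent i d ∈ P (s - u) := by
        refine hcancel u s _ ?_
        have := hg s (i + 1) ((p : WittVector p R) ^ u * d) fun j hj => hd j (by omega)
        rwa [← hw, map_mul, map_pow, map_natCast] at this
      rw [hw, Finset.sum_range_succ, Nat.sub_self, pow_zero, pow_one] at h1
      have h2 : (p : R) ^ i * d.coeff i ∈ P (s - (u + (i - 1) * m)) := by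
        refine (Ideal.add_mem_iff_right _ (hg _ i d fun j hj => ?_)).mp (hP _ _ (by omega) h1)
        refine hP _ _ ?_ (ih j hj (by omega))
        have := Nat.mul_le_mul_right m (show j ≤ i - 1 by omega)
        omega
      refine hP _ _ ?_ (hcancel i _ _ h2)
      rcases Nat.eq_zero_or_pos i with rfl | hi
      · simp
      · have : (i - 1) * m + m = i * m := by rw [← Nat.succ_mul, Nat.succ_eq_add_one, Nat.sub_add_cancel hi]
        omega
  choose z hz using h
  let c := u + m * m
  have hz' : ∀ s, WittVector.truncate m (WittVector.map (Ideal.Quotient.mk (P s)) ((p : WittVector p R) ^ u * z s)) =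
      WittVector.truncate m (WittVector.map (Ideal.Quotient.mk (P s)) a) := by
    intro s
    rw [← sub_eq_zero, ← map_sub, ← map_sub]
    refine TruncatedWittVector.ext fun i => ?_
    rw [WittVector.coeff_truncate, WittVector.map_coeff, TruncatedWittVector.coeff_zero]
    exact Ideal.Quotient.eq_zero_iff_mem.mpr (hz s i i.2)
  have hcauchy : ∀ s s', s ≤ s' → ∀ i < m, (z (s + c)).coeff i - (z (s' + c)).coeff i ∈ P s := by
    intro s s' hss
    rw [htr]
    rw [← sub_eq_zero, ← map_sub, ← map_sub]
    refine TruncatedWittVector.ext fun i => ?_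
    rw [WittVector.coeff_truncate, WittVector.map_coeff, TruncatedWittVector.coeff_zero, Ideal.Quotient.eq_zero_iff_mem]
    refine hP _ _ ?_ (hsmall (s + c) (z (s + c) - z (s' + c)) (fun j hj => ?_) i i.2)
    · have : (i : ℕ) * m ≤ m * m := Nat.mul_le_mul_right m i.2.le
      omega
    have h1 : ∀ j < m, ((p : WittVector p R) ^ u * z (s + c)).coeff j - ((p : WittVector p R) ^ u * z (s' + c)).coeff j ∈ P (s + c) := by
      rw [htr, hz']
      refine ((htr (s + c) _ _).mp fun j hj => ?_).symm
      have := (htr (s' + c) _ _).mpr (hz' (s' + c)) j hj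
      exact hP _ _ (by omega) this
    have h2 := (htr (s + c) _ _).mp h1
    rw [← sub_eq_zero, ← map_sub, ← map_sub, ← mul_sub] at h2
    have h3 := congrArg (fun t => TruncatedWittVector.coeff ⟨j, hj⟩ t) h2
    simp only [WittVector.coeff_truncate, WittVector.map_coeff, TruncatedWittVector.coeff_zero] at h3
    exact Ideal.Quotient.eq_zero_iff_mem.mp h3
  have hsmod : ∀ (s : ℕ) (x y : R), x ≡ y [SMOD (Ideal.span {(p : R)} ^ s • ⊤ : Ideal R)] ↔ x - y ∈ P s := by
    intro s x y
    rw [SModEq.sub_mem, Ideal.smul_eq_mul, Ideal.mul_top, Ideal.span_singleton_pow]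
  have hlim : ∀ i, ∃ L : R, ∀ s, i < m → (z (s + c)).coeff i - L ∈ P s := by
    intro i
    by_cases hi : i < m
    · obtain ⟨L, hL⟩ := IsPrecomplete.prec (I := Ideal.span {(p : R)}) (M := R) inferInstance
        (f := fun s => (z (s + c)).coeff i) (fun {s s'} hss => (hsmod s _ _).mpr (hcauchy s s' hss i hi))
      exact ⟨L, fun s _ => (hsmod s _ _).mp (hL s)⟩
    · exact ⟨0, fun s h => absurd h hi⟩
  choose L hL using hlim
  refine ⟨WittVector.mk p L, fun i hi => IsHausdorff.haus (I := Ideal.span {(p : R)}) inferInstance _ fun s => ?_⟩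
  rw [hsmod, sub_zero]
  have e1 := (htr s _ _).mp (fun j hj => show (z (s + c)).coeff j - (WittVector.mk p L).coeff j ∈ P s from hL j s hj)
  have e2 : WittVector.truncate m (WittVector.map (Ideal.Quotient.mk (P s)) ((p : WittVector p R) ^ u * z (s + c))) =
      WittVector.truncate m (WittVector.map (Ideal.Quotient.mk (P s)) a) :=
    (htr s _ _).mp fun j hj => hP _ _ (by omega) ((htr (s + c) _ _).mpr (hz' (s + c)) j hj)
  rw [map_mul, map_mul, e1, ← map_mul, ← map_mul, ← sub_eq_zero, ← map_sub, ← map_sub] at e2
  have h3 := congrArg (fun t => TruncatedWittVector.coeff ⟨i, hi⟩ t) e2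
  simp only [WittVector.coeff_truncate, WittVector.map_coeff, TruncatedWittVector.coeff_zero] at h3
  exact Ideal.Quotient.eq_zero_iff_mem.mp h3

end Groth.Agent.S14861
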