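import Groth.Statements.S14862
import Mathlib
import Groth.Agent.S14861

set_option autoImplicit false
universe u
open CAlg

namespace Groth.Agent.S14862

/-- Let p be a prime and S a commutative ring without p-torsion which is complete and separated for the
p-adic topology; write W = W(S) for the p-typical Witt vectors, I_r ⊆ W for the ideal of Witt
vectors whose first r components vanish (the image of the r-th iterate of the Verschiebung) and
W(p^s S) ⊆ W for the ideal of Witt vectors all of whose components lie in p^s S (the kernel of W(S)
→ W(S/p^s S)). Then for every natural number u the ideal p^u W is closed for the linear topology on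
W in which the ideals I_r + W(p^s S) form a neighbourhood basis of zero: the intersection over all r
and s of p^u W + I_r + W(p^s S) equals p^u W. (The published statement asks only that S have no
p-torsion; S is moreover taken p-adically complete and separated here, the case in which the result
is applied and through which the published proof goes.) -/
theorem result (p : ℕ) [Fact p.Prime] (S : Type u) [CommRing S]
    (hS : ∀ y : S, (p : S) * y = 0 → y = 0) [IsAdicComplete (Ideal.span {(p : S)}) S] (u : ℕ) :
    (⨅ r : ℕ, ⨅ s : ℕ,
        Ideal.span {(p : WittVector p S) ^ u} ⊔ RingHom.ker (WittVector.truncate (p := p) (R := S) r) ⊔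
          RingHom.ker (WittVector.map (p := p) (Ideal.Quotient.mk (Ideal.span {(p : S) ^ s})))) =
      Ideal.span {(p : WittVector p S) ^ u} := by
  classical
  refine le_antisymm (fun a ha => ?_) (le_iInf fun r => le_iInf fun s => le_sup_left.trans le_sup_left)
  simp only [Ideal.mem_iInf] at ha
  have hex : ∀ m : ℕ, ∃ x : WittVector p S, ∀ i < m, ((p : WittVector p S) ^ u * x - a).coeff i = 0 := by
    intro m
    refine Groth.Agent.S14861.result p S hS a m u fun s => ?_
    obtain ⟨v, hv, w, hw, hvw⟩ := Submodule.mem_sup.mp (ha m s)
    obtain ⟨y, hy, t, ht, rfl⟩ := Submodule.mem_sup.mp hv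
    obtain ⟨z, rfl⟩ := Ideal.mem_span_singleton'.mp hy
    refine ⟨z, fun i hi => ?_⟩
    rw [← Ideal.Quotient.eq_zero_iff_mem, ← WittVector.map_coeff, ← hvw,
      show (p : WittVector p S) ^ u * z - (z * (p : WittVector p S) ^ u + t + w) = -t - w by ring,
      map_sub, RingHom.mem_ker.mp hw, sub_zero, map_neg]
    have hmem : WittVector.map (Ideal.Quotient.mk (Ideal.span {(p : S) ^ s})) t ∈
        RingHom.ker (WittVector.truncate (p := p) (R := S ⧸ Ideal.span {(p : S) ^ s}) m) := by
      rw [WittVector.mem_ker_truncate]
      intro j hj
      rw [WittVector.map_coeff, (WittVector.mem_ker_truncate m t).mp ht j hj, map_zero]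
    exact (WittVector.mem_ker_truncate m _).mp (neg_mem hmem) i hi
  choose x hx using hex
  have hinj : ∀ (m : ℕ) (d : WittVector p S), (∀ i < m, ((p : WittVector p S) ^ u * d).coeff i = 0) →
      ∀ i < m, d.coeff i = 0 := by
    intro m d hd i
    have hcancel : ∀ (k : ℕ) (y : S), (p : S) ^ k * y = 0 → y = 0 := by
      intro k
      induction k with
      | zero => intro y hy; simpa using hy
      | succ k ih => intro y hy; rw [pow_succ, mul_assoc] at hy; exact hS y (ih _ hy)
    induction i using Nat.strong_induction_on with
    | _ i ih =>
      intro him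
      have hw : ∀ y : WittVector p S, WittVector.ghostComponent i y =
          ∑ j ∈ Finset.range (i + 1), (p : S) ^ j * y.coeff j ^ p ^ (i - j) := fun y => by
        simp [WittVector.ghostComponent_apply, wittPolynomial_eq_sum_C_mul_X_pow]
      have hz : ∀ (n : ℕ) (y : WittVector p S), (∀ j < n, y.coeff j = 0) →
          ∑ j ∈ Finset.range n, (p : S) ^ j * y.coeff j ^ p ^ (i - j) = 0 := fun n y hy =>
        Finset.sum_eq_zero fun j hj => by
          rw [hy j (Finset.mem_range.mp hj), zero_pow (pow_ne_zero _ (Fact.out : p.Prime).pos.ne'), mul_zero]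
      have h1 := hz (i + 1) ((p : WittVector p S) ^ u * d) fun j hj => hd j (by omega)
      rw [← hw, map_mul, map_pow, map_natCast] at h1
      have h2 := hcancel u _ h1
      rw [hw, Finset.sum_range_succ, hz i d fun j hj => ih j hj (by omega), zero_add, Nat.sub_self, pow_zero, pow_one] at h2
      exact hcancel i _ h2
  have htr : ∀ (m : ℕ), WittVector.truncate m ((p : WittVector p S) ^ u * x m) = WittVector.truncate m a := fun m => by
    rw [← sub_eq_zero, ← map_sub]
    exact RingHom.mem_ker.mp ((WittVector.mem_ker_truncate m _).mpr (hx m))
  have hcoh : ∀ m i, i < m → (x m).coeff i = (x (i + 1)).coeff i := by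
    intro m i hi
    have h0 : WittVector.truncate (i + 1) (x m) = WittVector.truncate (i + 1) (x (i + 1)) := by
      rw [← sub_eq_zero, ← map_sub, ← RingHom.mem_ker, WittVector.mem_ker_truncate]
      refine hinj (i + 1) _ ?_
      rw [← WittVector.mem_ker_truncate, RingHom.mem_ker, mul_sub, map_sub, sub_eq_zero, htr (i + 1), ← sub_eq_zero,
        ← map_sub, ← RingHom.mem_ker, WittVector.mem_ker_truncate]
      exact fun j hj => hx m j (by omega)
    have := congrArg (fun t => TruncatedWittVector.coeff ⟨i, Nat.lt_succ_self i⟩ t) h0
    simpa only [WittVector.coeff_truncate] using this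
  refine Ideal.mem_span_singleton'.mpr ⟨WittVector.mk p fun i => (x (i + 1)).coeff i, WittVector.ext fun i => ?_⟩
  have h0 : WittVector.truncate (i + 1) (WittVector.mk p fun i => (x (i + 1)).coeff i) = WittVector.truncate (i + 1) (x (i + 1)) := by
    refine TruncatedWittVector.ext fun j => ?_
    rw [WittVector.coeff_truncate, WittVector.coeff_truncate]
    exact (hcoh (i + 1) j j.2).symm
  have h1 := htr (i + 1)
  rw [map_mul, ← h0, ← map_mul, mul_comm] at h1
  have := congrArg (fun t => TruncatedWittVector.coeff ⟨i, Nat.lt_succ_self i⟩ t) h1
  simpa only [WittVector.coeff_truncate] using this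

end Groth.Agent.S14862
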