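import Groth.Statements.S14864
import Mathlib

set_option autoImplicit false
universe u
open CAlg

namespace Groth.Agent.S14864

/-- Let p be a prime and R a commutative ring in which p is nilpotent; write W = W(R) for the p-typical
Witt vectors, I ⊆ W for the kernel of the projection onto the zeroth component, and I_n ⊆ W for the
kernel of the truncation W → W_n(R). The p-adic topology on W equals its I-adic topology — every
power of the ideal pW contains some power of I and every power of I contains some power of pW — and
this common topology is finer than the V-adic one: every I_n contains some power of pW. -/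
theorem result (p : ℕ) [Fact p.Prime] (R : Type u) [CommRing R]
    (hp : IsNilpotent (p : R)) :
    (∀ n : ℕ, ∃ m : ℕ, (RingHom.ker (WittVector.constantCoeff : WittVector p R →+* R)) ^ m ≤ Ideal.span {(p : WittVector p R)} ^ n) ∧
      (∀ n : ℕ, ∃ m : ℕ, Ideal.span {(p : WittVector p R)} ^ m ≤ (RingHom.ker (WittVector.constantCoeff : WittVector p R →+* R)) ^ n) ∧
        ∀ n : ℕ, ∃ m : ℕ, Ideal.span {(p : WittVector p R)} ^ m ≤ RingHom.ker (WittVector.truncate (p := p) (R := R) n) := by
  classical
  obtain ⟨e, he⟩ := hp
  set W := WittVector p R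
  set I := RingHom.ker (WittVector.constantCoeff : WittVector p R →+* R) with hI
  have hIV : ∀ x ∈ I, x = WittVector.verschiebung (x.shift 1) := fun x hx => by
    simpa using WittVector.eq_iterate_verschiebung (p := p) (R := R) (x := x) (n := 1) (fun i hi => by
      rw [Nat.lt_one_iff.mp hi]; exact hx)
  have hII : ∀ x ∈ I, ∀ y ∈ I, ∃ z ∈ I, x * y = (p : W) * z := by
    intro x hx y hy
    rw [hIV x hx, hIV y hy, ← WittVector.verschiebung_mul_frobenius, WittVector.frobenius_verschiebung]
    refine ⟨WittVector.verschiebung (x.shift 1 * y.shift 1), RingHom.mem_ker.mpr (WittVector.verschiebung_coeff_zero (p := p) (x.shift 1 * y.shift 1)), ?_⟩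
    rw [← mul_assoc, ← nsmul_eq_mul', map_nsmul, nsmul_eq_mul]
  have hpow : ∀ k : ℕ, I ^ (k + 1) ≤ Ideal.span {(p : W)} ^ k * I := by
    intro k
    induction k with
    | zero => simp
    | succ k ih =>
      rw [pow_succ]
      refine (Ideal.mul_mono_left ih).trans ?_
      rw [pow_succ, mul_assoc, mul_assoc]
      refine Ideal.mul_mono_right (Ideal.mul_le.mpr fun x hx y hy => ?_)
      obtain ⟨z, hz, hxy⟩ := hII x hx y hy
      rw [hxy]
      exact Ideal.mul_mem_mul (Ideal.mem_span_singleton_self _) hz
  refine ⟨fun n => ⟨n + 1, (hpow n).trans Ideal.mul_le_left⟩, fun n => ⟨e * n, ?_⟩, fun n => ⟨e + n, ?_⟩⟩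
  · rw [pow_mul, Ideal.span_singleton_pow]
    refine Ideal.pow_right_mono ((Ideal.span_singleton_le_iff_mem _).mpr ?_) n
    rw [hI, RingHom.mem_ker, map_pow, map_natCast, he]
  · rw [Ideal.span_singleton_pow, Ideal.span_singleton_le_iff_mem, WittVector.mem_ker_truncate]
    intro i hi
    have hdvd : ∀ i m : ℕ, i ≤ m → (p : ℤ) ^ (m - i) ∣ ((p : WittVector p ℤ) ^ m).coeff i := by
      intro i
      induction i using Nat.strong_induction_on with
      | _ i ih =>
        intro m him
        set c := ((p : WittVector p ℤ) ^ m) with hc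
        have hg : ∑ j ∈ Finset.range (i + 1), (p : ℤ) ^ j * c.coeff j ^ p ^ (i - j) = (p : ℤ) ^ m := by
          have : WittVector.ghostComponent i c = (p : ℤ) ^ m := by rw [hc, map_pow, map_natCast]
          rw [← this, WittVector.ghostComponent_apply, wittPolynomial_eq_sum_C_mul_X_pow]
          simp
        rw [Finset.sum_range_succ, Nat.sub_self, pow_zero, pow_one] at hg
        have h1 : (p : ℤ) ^ m ∣ ∑ j ∈ Finset.range i, (p : ℤ) ^ j * c.coeff j ^ p ^ (i - j) := by
          refine Finset.dvd_sum fun j hj => ?_
          rw [Finset.mem_range] at hj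
          refine dvd_trans (pow_dvd_pow _ (show m ≤ j + (m - j) by omega)) ?_
          rw [pow_add]
          exact mul_dvd_mul_left _ ((ih j hj m (by omega)).trans (dvd_pow_self _ (pow_ne_zero _ (Fact.out : p.Prime).pos.ne')))
        have h2 : (p : ℤ) ^ i * (p : ℤ) ^ (m - i) ∣ (p : ℤ) ^ i * c.coeff i := by
          rw [← pow_add, Nat.add_sub_cancel' him]
          exact (dvd_add_right h1).mp (hg ▸ dvd_refl _)
        exact (mul_dvd_mul_iff_left (pow_ne_zero _ (by exact_mod_cast (Fact.out : p.Prime).pos.ne'))).mp h2
    have hmap : ((p : W) ^ (e + n)) = WittVector.map (Int.castRingHom R) ((p : WittVector p ℤ) ^ (e + n)) := by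
      rw [map_pow, map_natCast]
    rw [hmap, WittVector.map_coeff]
    obtain ⟨c, hc⟩ := (pow_dvd_pow (p : ℤ) (show e ≤ e + n - i by omega)).trans (hdvd i (e + n) (by omega))
    rw [hc, map_mul, map_pow, map_natCast, he, zero_mul]

end Groth.Agent.S14864
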