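import Groth.Statements.S14875
-- import your own Groth.Agent.* helpers here

set_option autoImplicit false
universe u v
open PLie

namespace Groth.Agent.S14875

/-- Let `L` be a finite-dimensional Lie algebra over a field of characteristic `p` equipped with a
`p`-mapping `φ`, whose Killing form is non-degenerate. Let `U` and `H` be Lie subalgebras of `L`
such that `H` is the normaliser of `U`, `U` is the set of elements of `H` that lie in the solvable
radical of `H` and are `p`-nilpotent, and the orthogonal of `U` for the Killing form is closed under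
the bracket. Then `U` is the orthogonal of `H` for the Killing form. (The published statement is for
the Lie algebra of a reductive group over a field of characteristic `p` with its canonical
`p`-structure; this row states it for any finite-dimensional Lie algebra with a `p`-mapping.) -/
theorem result
    (k : Type u) [Field k] (p : ℕ) [Fact p.Prime] [CharP k p]
    (L : Type v) [LieRing L] [LieAlgebra k L] [Module.Finite k L]
    (φ : PLie.PMap k p L) (hκ : (killingForm k L).Nondegenerate)
    (U H : LieSubalgebra k L) (hH : H = U.normalizer)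
    (hU : ∀ x : L, x ∈ U ↔ ∃ hx : x ∈ H, (⟨x, hx⟩ : ↥H) ∈ LieAlgebra.radical k ↥H ∧ PLie.IsPNilpotent φ x)
    (hperp : ∀ a b : L, (∀ y ∈ U, killingForm k L a y = 0) → (∀ y ∈ U, killingForm k L b y = 0) →
      ∀ y ∈ U, killingForm k L ⁅a, b⁆ y = 0) :
    ∀ x : L, x ∈ U ↔ ∀ h ∈ H, killingForm k L h x = 0 := by
  classical
  have hUH : ∀ u ∈ U, u ∈ H := fun u hu => ((hU u).mp hu).1
  have hnil : ∀ u ∈ U, IsNilpotent (LieAlgebra.ad k L u) := by
    intro u hu
    obtain ⟨_, _, n, hn⟩ := (hU u).mp hu
    refine ⟨p ^ n, ?_⟩
    have e : ∀ m, LieAlgebra.ad k L (φ.toFun^[m] u) = LieAlgebra.ad k L u ^ p ^ m := by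
      intro m
      induction m with
      | zero => simp
      | succ m ih => rw [Function.iterate_succ_apply', φ.ad_map, ih, ← pow_mul, ← pow_succ]
    rw [← e, hn, map_zero]
  haveI : LieModule.IsNilpotent U L := (LieModule.isNilpotent_iff_forall' (R := k)).mpr fun u => by
    obtain ⟨n, hn⟩ := hnil u.1 u.2
    refine ⟨n, LinearMap.ext fun z => ?_⟩
    rw [show LieModule.toEnd k U L u = LieAlgebra.ad k L u.1 from LinearMap.ext fun _ => rfl, hn]
  obtain ⟨N, hN⟩ := LieModule.IsNilpotent.nilpotent k U L
  let Ls := fun m => LieModule.lowerCentralSeries k U L m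
  have hstep : ∀ (m : ℕ) (u : U), ∀ z ∈ Ls m, ⁅(u : L), z⁆ ∈ Ls (m + 1) := fun m u z hz => by
    show _ ∈ LieModule.lowerCentralSeries k U L (m + 1)
    rw [LieModule.lowerCentralSeries_succ]
    exact LieSubmodule.lie_mem_lie (LieSubmodule.mem_top u) hz
  have hnorm : ∀ h ∈ H, ∀ u ∈ U, ⁅h, u⁆ ∈ U := fun h hh u hu =>
    (LieSubalgebra.mem_normalizer_iff U h).mp (hH ▸ hh) u hu
  have hstab : ∀ h ∈ H, ∀ m, ∀ z ∈ Ls m, ⁅h, z⁆ ∈ Ls m := by
    intro h hh m
    induction m with
    | zero => intro z _; exact LieSubmodule.mem_top _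
    | succ m ih =>
      intro z hz
      have hz' : z ∈ (⁅(⊤ : LieIdeal k U), Ls m⁆ : LieSubmodule k U L).toSubmodule := by
        rw [LieSubmodule.mem_toSubmodule, ← LieModule.lowerCentralSeries_succ]; exact hz
      rw [LieSubmodule.lieIdeal_oper_eq_linear_span'] at hz'
      induction hz' using Submodule.span_induction with
      | mem z' hz'' =>
        obtain ⟨u, -, y, hy, rfl⟩ := hz''
        show ⁅h, ⁅(u : L), y⁆⁆ ∈ Ls (m + 1)
        rw [leibniz_lie]
        exact add_mem (hstep m ⟨_, hnorm h hh u u.2⟩ y hy) (hstep m u _ (ih y hy))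
      | zero => rw [lie_zero]; exact zero_mem _
      | add a b ha hb iha ihb =>
        rw [lie_add]
        have hmem : ∀ c, c ∈ Submodule.span k _ → c ∈ Ls (m + 1) := fun c hc => by
          show c ∈ LieModule.lowerCentralSeries k U L (m + 1)
          rw [LieModule.lowerCentralSeries_succ, ← LieSubmodule.mem_toSubmodule,
            LieSubmodule.lieIdeal_oper_eq_linear_span']
          exact hc
        exact add_mem (iha (hmem a ha)) (ihb (hmem b hb))
      | smul c a ha iha =>
        rw [lie_smul]
        refine (Ls (m + 1)).smul_mem c (iha ?_)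
        show a ∈ LieModule.lowerCentralSeries k U L (m + 1)
        rw [LieModule.lowerCentralSeries_succ, ← LieSubmodule.mem_toSubmodule,
          LieSubmodule.lieIdeal_oper_eq_linear_span']
        exact ha
  have hzero : ∀ h ∈ H, ∀ u ∈ U, killingForm k L h u = 0 := by
    intro h hh u hu
    rw [killingForm_apply_apply]
    refine (LinearMap.isNilpotent_trace_of_isNilpotent ⟨N, LinearMap.ext fun z => ?_⟩).eq_zero
    have : ∀ j, ((LieAlgebra.ad k L h ∘ₗ LieAlgebra.ad k L u) ^ j) z ∈ Ls j := by
      intro j
      induction j with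
      | zero => exact LieSubmodule.mem_top _
      | succ j ih =>
        rw [pow_succ', Module.End.mul_apply, LinearMap.comp_apply]
        exact hstab h hh (j + 1) _ (hstep j ⟨u, hu⟩ _ ih)
    have h2 := this N
    rw [show Ls N = ⊥ from hN, LieSubmodule.mem_bot] at h2
    exact h2
  have hsymm : ∀ a b : L, killingForm k L a b = killingForm k L b a := LieModule.traceForm_comm k L L
  have hrefl : (killingForm k L : LinearMap.BilinForm k L).IsRefl := fun a b hab => by
    rw [hsymm]; exact hab
  have hperp2 : ∀ x : L, (∀ a, (∀ y ∈ U, killingForm k L a y = 0) → killingForm k L a x = 0) → x ∈ U := by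
    intro x hx
    have e := LinearMap.BilinForm.orthogonal_orthogonal hκ hrefl U.toSubmodule
    rw [← LieSubalgebra.mem_toSubmodule, ← e, LinearMap.BilinForm.mem_orthogonal_iff]
    intro a ha
    rw [LinearMap.BilinForm.mem_orthogonal_iff] at ha
    exact hx a fun y hy => (hsymm a y).trans (ha y hy)
  refine fun x => ⟨fun hx h hh => hzero h hh x hx, fun hx => hperp2 x fun a ha => hx a ?_⟩
  rw [hH, LieSubalgebra.mem_normalizer_iff]
  intro u hu
  refine hperp2 _ fun b hb => ?_
  have h1 := hperp b a hb ha u hu
  rw [LieModule.traceForm_apply_lie_apply] at h1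
  exact h1

end Groth.Agent.S14875
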