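import Groth.Statements.S14886
import Groth.Agent.Deform.Bundle.Pullback
import Groth.Agent.EtFound.Descent
import Groth.Agent.AlgSpLib.Descends2

set_option autoImplicit false
universe u
open CategoryTheory MonoidalCategory CartesianMonoidalCategory MonObj GrpObj AlgebraicGeometry CategoryTheory.Limits
open AlgGrp

namespace Groth.Agent.S14886
attribute [local instance] CategoryTheory.Hom.monoid CategoryTheory.Hom.group
set_option linter.style.haveILetI false
set_option maxHeartbeats 1000000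
set_option backward.isDefEq.respectTransparency false
/-- Over an algebraically closed field k of characteristic zero, let G be a connected algebraic group (a
smooth connected k-group scheme of finite type) and H an algebraic subgroup (a smooth closed
subgroup scheme, j : H → G). Let π : G → B be the quotient of G by H (a geometric quotient for the
action h·g = g·h⁻¹ which is a principal H-bundle: (h, g) ↦ (g·h⁻¹, g) is an isomorphism H × G ≅ G
×_B G and π is flat). Let X and Y be varieties (reduced, separated, of finite type over k) with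
H-actions, in each of which every finite set of points lies in an affine open subset, and let qX : G
× X → QX, qY : G × Y → QY and qXY : G × (X × Y) → QXY be the associated bundles G_H(X), G_H(Y) and
G_H(X × Y): geometric quotients (invariant, surjective, open, fibre-pair map surjective on points,
sections = invariant sections) which are principal H-bundles, for the actions h·(g, x) = (g·h⁻¹,
h·x), h·(g, y) = (g·h⁻¹, h·y) and h·(g, x, y) = (g·h⁻¹, h·x, h·y), with QX, QY, QXY varieties over B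
= G/H through pX, pY, pXY satisfying p ∘ q = π ∘ pr₁. Let fX : QXY → QX and fY : QXY → QY be the
morphisms over B induced by the projections, fX ∘ qXY = qX ∘ (id × pr₁) and fY ∘ qXY = qY ∘ (id ×
pr₂). Then the square formed by fX, fY, pX, pY is cartesian: G_H(X × Y) is the fibre product of
G_H(X) and G_H(Y) over G/H. -/
theorem result (k : Type u) [Field k] [IsAlgClosed k] [CharZero k]
    (G H : Over (Spec (CommRingCat.of k))) [GrpObj G] [Smooth G.hom] [QuasiCompact G.hom]
    [ConnectedSpace ↥G.left] [GrpObj H] (j : H ⟶ G) [IsMonHom j] [IsClosedImmersion j.left] [Smooth H.hom]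
    (B : Over (Spec (CommRingCat.of k))) [LocallyOfFiniteType B.hom] [QuasiCompact B.hom] [IsSeparated B.hom] [IsReduced B.left]
    (r : AlgGrp.Action H G) (hr : ∀ (T : Over (Spec (CommRingCat.of k))) (h : T ⟶ H) (g : T ⟶ G),
      lift h g ≫ r.act = g * (h ≫ j)⁻¹)
    (π : G ⟶ B) (hπinv : GIT.IsInvariant r π)
    (hπ : (Function.Surjective π.left.base ∧ IsOpenMap π.left.base ∧
      Function.Surjective (GIT.PsiY r π hπinv).base ∧
      (∀ U : B.left.Opens, Function.Injective (π.left.app U) ∧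
        Set.range (π.left.app U) = {f | GIT.IsInvSection r π U f}) ∧
      IsIso (GIT.PsiY r π hπinv) ∧ Flat π.left))
    (X Y : Over (Spec (CommRingCat.of k))) [LocallyOfFiniteType X.hom] [QuasiCompact X.hom] [IsSeparated X.hom] [IsReduced X.left] [LocallyOfFiniteType Y.hom] [QuasiCompact Y.hom] [IsSeparated Y.hom] [IsReduced Y.left]
    (hFX : ∀ F : Finset ↥X.left, ∃ U : X.left.Opens, IsAffineOpen U ∧ (↑F : Set ↥X.left) ⊆ (U : Set ↥X.left))
    (hFY : ∀ F : Finset ↥Y.left, ∃ U : Y.left.Opens, IsAffineOpen U ∧ (↑F : Set ↥Y.left) ⊆ (U : Set ↥Y.left))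
    (aX : AlgGrp.Action H X) (aY : AlgGrp.Action H Y)
    (b : AlgGrp.Action H (G ⊗ X))
    (hb : ∀ (T : Over (Spec (CommRingCat.of k))) (h : T ⟶ H) (g : T ⟶ G) (x : T ⟶ X),
      lift h (lift g x) ≫ b.act = lift (g * (h ≫ j)⁻¹) (lift h x ≫ aX.act))
    (c : AlgGrp.Action H (G ⊗ Y))
    (hc : ∀ (T : Over (Spec (CommRingCat.of k))) (h : T ⟶ H) (g : T ⟶ G) (x : T ⟶ Y),
      lift h (lift g x) ≫ c.act = lift (g * (h ≫ j)⁻¹) (lift h x ≫ aY.act))
    (d : AlgGrp.Action H (G ⊗ (X ⊗ Y)))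
    (hd : ∀ (T : Over (Spec (CommRingCat.of k))) (h : T ⟶ H) (g : T ⟶ G) (x : T ⟶ X) (y : T ⟶ Y),
      lift h (lift g (lift x y)) ≫ d.act = lift (g * (h ≫ j)⁻¹) (lift (lift h x ≫ aX.act) (lift h y ≫ aY.act)))
    (QX QY QXY : Over (Spec (CommRingCat.of k))) [LocallyOfFiniteType QX.hom] [QuasiCompact QX.hom] [IsSeparated QX.hom] [IsReduced QX.left] [LocallyOfFiniteType QY.hom] [QuasiCompact QY.hom] [IsSeparated QY.hom] [IsReduced QY.left] [LocallyOfFiniteType QXY.hom] [QuasiCompact QXY.hom] [IsSeparated QXY.hom] [IsReduced QXY.left]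
    (qX : G ⊗ X ⟶ QX) (hqXinv : GIT.IsInvariant b qX) (hqX : (Function.Surjective qX.left.base ∧ IsOpenMap qX.left.base ∧
      Function.Surjective (GIT.PsiY b qX hqXinv).base ∧
      (∀ U : QX.left.Opens, Function.Injective (qX.left.app U) ∧
        Set.range (qX.left.app U) = {f | GIT.IsInvSection b qX U f}) ∧
      IsIso (GIT.PsiY b qX hqXinv) ∧ Flat qX.left))
    (qY : G ⊗ Y ⟶ QY) (hqYinv : GIT.IsInvariant c qY) (hqY : (Function.Surjective qY.left.base ∧ IsOpenMap qY.left.base ∧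
      Function.Surjective (GIT.PsiY c qY hqYinv).base ∧
      (∀ U : QY.left.Opens, Function.Injective (qY.left.app U) ∧
        Set.range (qY.left.app U) = {f | GIT.IsInvSection c qY U f}) ∧
      IsIso (GIT.PsiY c qY hqYinv) ∧ Flat qY.left))
    (qXY : G ⊗ (X ⊗ Y) ⟶ QXY) (hqXYinv : GIT.IsInvariant d qXY) (hqXY : (Function.Surjective qXY.left.base ∧ IsOpenMap qXY.left.base ∧
      Function.Surjective (GIT.PsiY d qXY hqXYinv).base ∧
      (∀ U : QXY.left.Opens, Function.Injective (qXY.left.app U) ∧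
        Set.range (qXY.left.app U) = {f | GIT.IsInvSection d qXY U f}) ∧
      IsIso (GIT.PsiY d qXY hqXYinv) ∧ Flat qXY.left))
    (pX : QX ⟶ B) (hpX : qX ≫ pX = fst G X ≫ π) (pY : QY ⟶ B) (hpY : qY ≫ pY = fst G Y ≫ π)
    (pXY : QXY ⟶ B) (hpXY : qXY ≫ pXY = fst G (X ⊗ Y) ≫ π)
    (fX : QXY ⟶ QX) (hfX : qXY ≫ fX = (G ◁ fst X Y) ≫ qX) (hfXp : fX ≫ pX = pXY)
    (fY : QXY ⟶ QY) (hfY : qXY ≫ fY = (G ◁ snd X Y) ≫ qY) (hfYp : fY ≫ pY = pXY) :
    IsPullback fX.left fY.left pX.left pY.left := by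
  obtain ⟨hπs, -, -, -, hπi, hπf⟩ := hπ
  haveI := hπi; haveI := hπf
  haveI : Surjective π.left := ⟨hπs⟩
  haveI : QuasiCompact π.left := by
    haveI : QuasiCompact (π.left ≫ B.hom) := by
      rw [Over.w π]; exact inferInstanceAs (QuasiCompact (G.hom))
    exact QuasiCompact.of_comp π.left B.hom
  haveI : QuasiCompact (X ⊗ Y).hom := inferInstanceAs (QuasiCompact (Limits.pullback.fst X.hom Y.hom ≫ X.hom))
  obtain ⟨qXs, -, -, -, qXi, qXf⟩ := hqX
  haveI := qXi; haveI := qXf
  haveI : Surjective qX.left := ⟨qXs⟩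
  haveI : QuasiCompact qX.left := by
    haveI : QuasiCompact (qX.left ≫ QX.hom) := by
      rw [Over.w qX]; exact inferInstanceAs (QuasiCompact (Limits.pullback.fst G.hom X.hom ≫ G.hom))
    exact QuasiCompact.of_comp qX.left QX.hom
  obtain ⟨qYs, -, -, -, qYi, qYf⟩ := hqY
  haveI := qYi; haveI := qYf
  haveI : Surjective qY.left := ⟨qYs⟩
  haveI : QuasiCompact qY.left := by
    haveI : QuasiCompact (qY.left ≫ QY.hom) := by
      rw [Over.w qY]; exact inferInstanceAs (QuasiCompact (Limits.pullback.fst G.hom Y.hom ≫ G.hom))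
    exact QuasiCompact.of_comp qY.left QY.hom
  obtain ⟨qXYs, -, -, -, qXYi, qXYf⟩ := hqXY
  haveI := qXYi; haveI := qXYf
  haveI : Surjective qXY.left := ⟨qXYs⟩
  haveI : QuasiCompact qXY.left := by
    haveI : QuasiCompact (qXY.left ≫ QXY.hom) := by
      rw [Over.w qXY]; exact inferInstanceAs (QuasiCompact (Limits.pullback.fst G.hom (X ⊗ Y).hom ≫ G.hom))
    exact QuasiCompact.of_comp qXY.left QXY.hom
  have heY : c.act ≫ fst G Y = (H ◁ fst G Y) ≫ r.act := by
    have e := hc (H ⊗ (G ⊗ Y)) (fst _ _) (snd _ _ ≫ fst _ _) (snd _ _ ≫ snd _ _)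
    rw [show lift (fst H (G ⊗ Y)) (lift (snd H (G ⊗ Y) ≫ fst G Y) (snd H (G ⊗ Y) ≫ snd G Y)) = 𝟙 _ by
      ext <;> simp, Category.id_comp] at e
    rw [e, lift_fst, show (H ◁ fst G Y) = lift (fst H _) (snd H _ ≫ fst G Y) by ext <;> simp, hr]
  have sqY := Deform.Bundle.isPullback_of_equivariant c qY (Deform.Bundle.isPullback_psi c qY hqYinv) r π
    (Deform.Bundle.isPullback_psi r π hπinv) (fst G Y) heY pY hpY
  have he : d.act ≫ (G ◁ fst X Y) = (H ◁ (G ◁ fst X Y)) ≫ b.act := by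
    have e := hd (H ⊗ (G ⊗ (X ⊗ Y))) (fst _ _) (snd _ _ ≫ fst _ _) (snd _ _ ≫ snd _ _ ≫ fst _ _)
      (snd _ _ ≫ snd _ _ ≫ snd _ _)
    rw [show lift (fst H (G ⊗ (X ⊗ Y))) (lift (snd H _ ≫ fst G (X ⊗ Y)) (lift (snd H _ ≫ snd G (X ⊗ Y) ≫ fst X Y)
      (snd H _ ≫ snd G (X ⊗ Y) ≫ snd X Y))) = 𝟙 _ by ext <;> simp, Category.id_comp] at e
    rw [e, show (H ◁ (G ◁ fst X Y)) = lift (fst H _) (lift (snd H _ ≫ fst G (X ⊗ Y))
      (snd H _ ≫ snd G (X ⊗ Y) ≫ fst X Y)) by ext <;> simp, hb, lift_whiskerLeft, lift_fst]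
  have sq1 := Deform.Bundle.isPullback_of_equivariant d qXY (Deform.Bundle.isPullback_psi d qXY hqXYinv) b qX
    (Deform.Bundle.isPullback_psi b qX hqXinv) (G ◁ fst X Y) he fX hfX
  refine Deform.Bundle.isPullback_of_cover qX.left (by rw [← Over.comp_left, hfXp, ← hfYp, Over.comp_left]) sq1 ?_
  rw [← Over.comp_left, hfY, Over.comp_left, show qX.left ≫ pX.left = (fst G X).left ≫ π.left by rw [← Over.comp_left, hpX, Over.comp_left]]
  refine (IsPullback.map (Over.forget _) (IsPullback.mk' (P := G ⊗ (X ⊗ Y)) (fst := G ◁ snd X Y)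
    (snd := G ◁ fst X Y) (f := fst G Y) (g := fst G X) (by simp) ?_ ?_)).paste_horiz sqY
  · intro T φ φ' h1 h2
    have e1 := congrArg (· ≫ snd G Y) h1
    have e2 := congrArg (· ≫ snd G X) h2
    have e3 := congrArg (· ≫ fst G X) h2
    simp only [Category.assoc, whiskerLeft_fst, whiskerLeft_snd] at e1 e2 e3
    exact CartesianMonoidalCategory.hom_ext _ _ e3 (CartesianMonoidalCategory.hom_ext _ _ (by simpa using e2) (by simpa using e1))
  · intro T x y hxy
    refine ⟨lift (x ≫ fst _ _) (lift (y ≫ snd _ _) (x ≫ snd _ _)), ?_, ?_⟩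
    · ext <;> simp
    · ext <;> simp [hxy]

end Groth.Agent.S14886
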