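import Groth.Statements.S14891
import Mathlib

set_option autoImplicit false
universe u
open CAlg

namespace Groth.Agent.S14891

open MvPolynomial IsLocalRing

section Aux

variable {K L Γ₀ Γ₁ : Type u} [Field K] [Field L] [Algebra K L]
  [LinearOrderedCommGroupWithZero Γ₀] [LinearOrderedCommGroupWithZero Γ₁]
  (vK : Valuation K Γ₀) (vL : Valuation L Γ₁) [vK.HasExtension vL]

/-- A polynomial in elements with algebraically independent residues has the valuation of one of its
coefficients. -/
lemma exists_val_aeval_eq {ι : Type u} (y : ι → vL.valuationSubring)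
    (hy : AlgebraicIndependent (ResidueField vK.valuationSubring)
      (fun i => IsLocalRing.residue vL.valuationSubring (y i)))
    (Q : MvPolynomial ι K) (hQ : Q ≠ 0) :
    ∃ c : K, c ≠ 0 ∧ vL (aeval (fun i => (y i : L)) Q) = vL (algebraMap K L c) := by
  classical
  obtain ⟨m₀, hm₀, hmax⟩ := Q.support.exists_max_image (fun m => vK (Q.coeff m))
    (by rwa [Finset.nonempty_iff_ne_empty, Ne, MvPolynomial.support_eq_empty])
  set c := Q.coeff m₀ with hc
  have hc0 : c ≠ 0 := MvPolynomial.mem_support_iff.mp hm₀
  have hmem : ∀ m, c⁻¹ * Q.coeff m ∈ vK.valuationSubring := by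
    intro m
    rw [Valuation.mem_valuationSubring_iff, map_mul, map_inv₀]
    by_cases hm : m ∈ Q.support
    · rw [inv_mul_le_one₀ (zero_lt_iff.mpr ((Valuation.ne_zero_iff _).mpr hc0))]
      exact hmax m hm
    · rw [MvPolynomial.notMem_support_iff.mp hm]
      simp
  let Q₀ : MvPolynomial ι vK.valuationSubring :=
    ∑ m ∈ Q.support, monomial m ⟨c⁻¹ * Q.coeff m, hmem m⟩
  have hQ₀ : MvPolynomial.map (algebraMap vK.valuationSubring K) Q₀ = C c⁻¹ * Q := by
    conv_rhs => rw [Q.as_sum, Finset.mul_sum]
    simp only [Q₀, map_sum, map_monomial, C_mul_monomial]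
    rfl
  have hres : MvPolynomial.map (IsLocalRing.residue vK.valuationSubring) Q₀ ≠ 0 := by
    intro h
    have h1 := congrArg (MvPolynomial.coeff m₀) h
    simp only [Q₀, coeff_map, coeff_sum, coeff_monomial, Finset.sum_ite_eq', hm₀, if_true,
      coeff_zero] at h1
    have h2 : (⟨c⁻¹ * Q.coeff m₀, hmem m₀⟩ : vK.valuationSubring) = 1 :=
      Subtype.ext (inv_mul_cancel₀ hc0)
    rw [h2, map_one] at h1
    exact one_ne_zero h1
  have hunit : IsUnit (aeval y Q₀) := by
    rw [← IsLocalRing.residue_ne_zero_iff_isUnit]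
    intro h
    apply hres
    apply hy
    rw [map_zero]
    have e : aeval (fun i => IsLocalRing.residue vL.valuationSubring (y i))
        (MvPolynomial.map (IsLocalRing.residue vK.valuationSubring) Q₀) =
          IsLocalRing.residue vL.valuationSubring (aeval y Q₀) := by
      rw [aeval_def, aeval_def, eval₂_map, eval₂_comp_left]
      rfl
    rw [e, h]
  refine ⟨c, hc0, ?_⟩
  have e2 : ((aeval y Q₀ : vL.valuationSubring) : L) =
      aeval (fun i => (y i : L)) (MvPolynomial.map (algebraMap vK.valuationSubring K) Q₀) := by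
    rw [aeval_map_algebraMap]
    exact (comp_aeval_apply y
      (IsScalarTower.toAlgHom vK.valuationSubring vL.valuationSubring L) Q₀).trans rfl
  have h3 : vL ((aeval y Q₀ : vL.valuationSubring) : L) = 1 :=
    (Valuation.Integers.isUnit_iff_valuation_eq_one (Valuation.integer.integers vL)).mp hunit
  rw [e2, hQ₀, map_mul, aeval_C, map_mul] at h3
  rw [map_inv₀, map_inv₀] at h3
  exact (inv_mul_eq_one₀ ((Valuation.ne_zero_iff _).mpr (by simpa using hc0))).mp h3 |>.symm

/-- The subgroup of `Lˣ` generated by units of the valuation ring and `Kˣ`. -/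
noncomputable abbrev baseGroup : AddSubgroup (Additive Lˣ) :=
  Subgroup.toAddSubgroup (vL.valuationSubring.unitGroup ⊔ (Units.map (algebraMap K L).toMonoidHom).range)

omit [vK.HasExtension vL] in
lemma exponents_eq_of_val_eq {σ : Type u} (x : σ → Lˣ)
    (hx : LinearIndependent ℤ
      (fun i => (QuotientAddGroup.mk (Additive.ofMul (x i)) :
        Additive Lˣ ⧸ baseGroup (K := K) vL)))
    (a b : σ →₀ ℕ) (c d : K) (hc : c ≠ 0) (hd : d ≠ 0)
    (h : vL (algebraMap K L c * a.prod fun i n => (x i : L) ^ n) =
      vL (algebraMap K L d * b.prod fun i n => (x i : L) ^ n)) :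
    a = b := by
  classical
  let xa : Lˣ := a.prod fun i n => x i ^ n
  let xb : Lˣ := b.prod fun i n => x i ^ n
  let cu : Lˣ := Units.map (algebraMap K L).toMonoidHom (Units.mk0 c hc)
  let du : Lˣ := Units.map (algebraMap K L).toMonoidHom (Units.mk0 d hd)
  have hxa : (xa : L) = a.prod fun i n => (x i : L) ^ n := by
    simp [xa, Finsupp.prod]
  have hxb : (xb : L) = b.prod fun i n => (x i : L) ^ n := by
    simp [xb, Finsupp.prod]
  have hu : (cu * xa) / (du * xb) ∈ vL.valuationSubring.unitGroup := by
    rw [ValuationSubring.mem_unitGroup_iff]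
    apply (Valuation.isEquiv_valuation_valuationSubring vL).eq_one_iff_eq_one.mp
    rw [Units.val_div_eq_div_val, map_div₀, Units.val_mul, Units.val_mul, hxa, hxb]
    simp only [cu, du, Units.coe_map, RingHom.toMonoidHom_eq_coe, MonoidHom.coe_coe, Units.val_mk0]
    rw [h, div_self]
    rw [← hxb, Valuation.ne_zero_iff]
    exact mul_ne_zero (by simpa using hd) xb.ne_zero
  have hq : ((Additive.ofMul xa : Additive Lˣ) : Additive Lˣ ⧸ baseGroup (K := K) vL) =
      (Additive.ofMul xb : Additive Lˣ) := by
    rw [QuotientAddGroup.eq_iff_sub_mem]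
    show xa / xb ∈ vL.valuationSubring.unitGroup ⊔ (Units.map (algebraMap K L).toMonoidHom).range
    have : xa / xb = ((cu * xa) / (du * xb)) * (du / cu) := by
      rw [div_mul_div_comm, show cu * xa * du = cu * du * xa by ac_rfl,
        show du * xb * cu = cu * du * xb by ac_rfl, mul_div_mul_left_eq_div]
    rw [this]
    refine Subgroup.mul_mem_sup hu ?_
    exact Subgroup.div_mem _ ⟨_, rfl⟩ ⟨_, rfl⟩
  have key : ∀ e : σ →₀ ℕ,
      ((Additive.ofMul (e.prod fun i n => x i ^ n) : Additive Lˣ) : Additive Lˣ ⧸ baseGroup (K := K) vL) =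
        Finsupp.linearCombination ℤ
          (fun i => (QuotientAddGroup.mk (Additive.ofMul (x i)) : Additive Lˣ ⧸ baseGroup (K := K) vL))
          (e.mapRange (fun n : ℕ => (n : ℤ)) (by simp)) := by
    intro e
    rw [Finsupp.linearCombination_apply, Finsupp.sum_mapRange_index (by simp)]
    simp only [Finsupp.prod, Finsupp.sum, natCast_zsmul]
    rw [ofMul_prod, ← QuotientAddGroup.mk'_apply, map_sum]
    simp
  rw [key a, key b] at hq
  exact Finsupp.mapRange_injective _ (by simp) Nat.cast_injective (hx hq)

lemma algebraicIndependent_elim {σ ι : Type u} (x : σ → Lˣ)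
    (hx : LinearIndependent ℤ
      (fun i => (QuotientAddGroup.mk (Additive.ofMul (x i)) :
        Additive Lˣ ⧸ baseGroup (K := K) vL)))
    (y : ι → vL.valuationSubring)
    (hy : AlgebraicIndependent (ResidueField vK.valuationSubring)
      (fun i => IsLocalRing.residue vL.valuationSubring (y i))) :
    AlgebraicIndependent K (Sum.elim (fun i => (x i : L)) (fun i => (y i : L))) := by
  classical
  rw [algebraicIndependent_iff]
  intro p hp
  by_contra hp0
  set P := MvPolynomial.sumRingEquiv K σ ι p with hP
  have hP0 : P ≠ 0 := by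
    simpa [hP] using hp0
  have hev : aeval (Sum.elim (fun i => (x i : L)) (fun i => (y i : L))) p =
      MvPolynomial.eval₂ (aeval (fun i => (y i : L))).toRingHom (fun i => (x i : L)) P := by
    rw [hP]
    clear hP hP0 hp hp0
    clear P
    induction p using MvPolynomial.induction_on with
    | C r => simp
    | add p q hp hq => simp [hp, hq]
    | mul_X p i hp =>
      rcases i with i | i <;> simp [hp]
  rw [hp, eval₂_eq] at hev
  have hval : ∀ a ∈ P.support, ∃ c : K, c ≠ 0 ∧
      vL (aeval (fun i => (y i : L)) (P.coeff a)) = vL (algebraMap K L c) := fun a ha =>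
    exists_val_aeval_eq vK vL y hy _ (MvPolynomial.mem_support_iff.mp ha)
  choose! c hc0 hc using hval
  let t : (σ →₀ ℕ) → L := fun a =>
    (aeval (fun i => (y i : L))).toRingHom (P.coeff a) * ∏ i ∈ a.support, (x i : L) ^ a i
  have ht : ∀ a ∈ P.support, vL (t a) =
      vL (algebraMap K L (c a) * a.prod fun i n => (x i : L) ^ n) := by
    intro a ha
    simp only [t, map_mul, Finsupp.prod]
    exact congrArg (· * _) (hc a ha)
  obtain ⟨a₀, ha₀, hmax⟩ := P.support.exists_max_image (fun a => vL (t a))
    (by rwa [Finset.nonempty_iff_ne_empty, Ne, MvPolynomial.support_eq_empty])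
  have hlt : ∀ a ∈ P.support \ {a₀}, vL (t a) < vL (t a₀) := by
    intro a ha
    simp only [Finset.mem_sdiff, Finset.mem_singleton] at ha
    refine lt_of_le_of_ne (hmax a ha.1) ?_
    intro h
    rw [ht a ha.1, ht a₀ ha₀] at h
    exact ha.2 (exponents_eq_of_val_eq vL x hx a a₀ _ _ (hc0 a ha.1) (hc0 a₀ ha₀) h)
  have hne : vL (t a₀) ≠ 0 := by
    rw [ht a₀ ha₀, Valuation.ne_zero_iff]
    refine mul_ne_zero (by simpa using hc0 a₀ ha₀) ?_
    exact Finset.prod_ne_zero_iff.mpr fun i _ => pow_ne_zero _ (x i).ne_zero
  have := Valuation.map_sum_eq_of_lt vL ha₀ (f := t) hlt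
  simp only [t] at this hne
  rw [← hev, map_zero] at this
  exact hne this.symm

end Aux

/-- Let L/K be an extension of valued fields, i.e. v_L is a valuation on L whose restriction to K is
equivalent to v_K. Write E for the rational rank of the quotient of value groups |L^×|/|K^×| — here
the rank of the abelian group L^× modulo the subgroup generated by the units of the valuation ring
of v_L and the image of K^× — and F for the transcendence degree of the residue field of v_L over
that of v_K. Then E + F ≤ tr.deg(L/K) (an inequality of cardinals). -/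
theorem result
    {K L Γ₀ Γ₁ : Type u} [Field K] [Field L] [Algebra K L]
    [LinearOrderedCommGroupWithZero Γ₀] [LinearOrderedCommGroupWithZero Γ₁]
    (vK : Valuation K Γ₀) (vL : Valuation L Γ₁) [vK.HasExtension vL] :
    Module.rank ℤ (Additive Lˣ ⧸ Subgroup.toAddSubgroup
        (vL.valuationSubring.unitGroup ⊔ (Units.map (algebraMap K L).toMonoidHom).range)) +
      Algebra.trdeg (IsLocalRing.ResidueField vK.valuationSubring)
        (IsLocalRing.ResidueField vL.valuationSubring) ≤ Algebra.trdeg K L := by
  obtain ⟨s, hs, hsi⟩ := exists_set_linearIndependent_of_isDomain ℤ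
    (Additive Lˣ ⧸ baseGroup (K := K) vL)
  obtain ⟨ι, z, hz⟩ := exists_isTranscendenceBasis' (R := ResidueField vK.valuationSubring)
    (A := ResidueField vL.valuationSubring)
  choose y hy using fun i => IsLocalRing.residue_surjective (z i)
  choose x hx using fun q : s => QuotientAddGroup.mk_surjective (q : Additive Lˣ ⧸ baseGroup (K := K) vL)
  have hy' : (fun i => IsLocalRing.residue vL.valuationSubring (y i)) = z := funext hy
  have hind := algebraicIndependent_elim (K := K) vK vL (fun q => Additive.toMul (x q))
    (by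
      have : (fun q : s => (QuotientAddGroup.mk (Additive.ofMul (Additive.toMul (x q))) :
          Additive Lˣ ⧸ baseGroup (K := K) vL)) = fun q : s => (q : Additive Lˣ ⧸ baseGroup (K := K) vL) := by
        funext q
        exact hx q
      rw [this]
      exact hsi)
    y (by rw [hy']; exact hz.1)
  have := hind.cardinalMk_le_trdeg
  rw [Cardinal.mk_sum, Cardinal.lift_id, Cardinal.lift_id] at this
  rw [← hs, ← hz.cardinalMk_eq_trdeg]
  exact this

end Groth.Agent.S14891
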