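import Groth.Statements.S14892
import Mathlib

set_option autoImplicit false
universe u
open CAlg

namespace Groth.Agent.S14892

section
variable {K : Type u} [Field K] (A : ValuationSubring K)

theorem chain_indep {m : ℕ} (P : Fin (m + 1) → PrimeSpectrum A) (hP : StrictMono P) (x : Fin m → A)
    (hx : ∀ i, x i ∈ (P i.succ).asIdeal) (hx' : ∀ i, x i ∉ (P i.castSucc).asIdeal) (a b : Fin m → ℕ)
    (h : A.valuation (∏ i, (x i : K) ^ a i) = A.valuation (∏ i, (x i : K) ^ b i)) : a = b := by
  classical
  have hne : ∀ i, A.valuation (x i : K) ≠ 0 := fun i h0 =>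
    hx' i (by rw [show x i = 0 from Subtype.ext ((A.valuation.zero_iff).mp h0)]; exact zero_mem _)
  set c := fun i => min (a i) (b i)
  have h' : A.valuation (∏ i, (x i : K) ^ (a i - c i)) = A.valuation (∏ i, (x i : K) ^ (b i - c i)) := by
    have hc : ∏ i, A.valuation (x i : K) ^ c i ≠ 0 := Finset.prod_ne_zero_iff.mpr fun i _ => pow_ne_zero _ (hne i)
    simp only [map_prod, map_pow] at h ⊢
    refine mul_right_cancel₀ hc ?_
    rw [← Finset.prod_mul_distrib, ← Finset.prod_mul_distrib]
    simp only [← pow_add]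
    rw [Finset.prod_congr rfl fun i _ => show A.valuation (x i : K) ^ (a i - c i + c i) = A.valuation (x i : K) ^ a i by
        rw [Nat.sub_add_cancel (min_le_left _ _)],
      Finset.prod_congr rfl fun i _ => show A.valuation (x i : K) ^ (b i - c i + c i) = A.valuation (x i : K) ^ b i by
        rw [Nat.sub_add_cancel (min_le_right _ _)]]
    exact h
  have hiff : ∀ i : Fin m, ((∏ l, x l ^ (a l - c l)) ∈ (P i.succ).asIdeal ↔ (∏ l, x l ^ (b l - c l)) ∈ (P i.succ).asIdeal) := by
    intro i
    obtain ⟨u, hu⟩ : Associated (∏ l, x l ^ (a l - c l)) (∏ l, x l ^ (b l - c l)) := by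
      have hb0 : (∏ l, (x l : K) ^ (b l - c l)) ≠ 0 :=
        Finset.prod_ne_zero_iff.mpr fun l _ => pow_ne_zero _ fun h0 => hne l (by rw [h0, map_zero])
      have ha0 : (∏ l, (x l : K) ^ (a l - c l)) ≠ 0 :=
        Finset.prod_ne_zero_iff.mpr fun l _ => pow_ne_zero _ fun h0 => hne l (by rw [h0, map_zero])
      have hw : A.valuation ((∏ l, (x l : K) ^ (b l - c l)) / ∏ l, (x l : K) ^ (a l - c l)) = 1 := by
        rw [map_div₀, h', div_self ((A.valuation.ne_zero_iff).mpr hb0)]
      have hu : IsUnit (⟨_, (A.valuation_le_one_iff _).mp hw.le⟩ : A) := (A.valuation_eq_one_iff _).mpr hw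
      refine ⟨hu.unit, Subtype.ext ?_⟩
      push_cast [IsUnit.unit_spec]
      exact mul_div_cancel₀ _ ha0
    rw [← hu]
    exact (Ideal.mul_unit_mem_iff_mem _ u.isUnit).symm
  have hmem : ∀ (e : Fin m → ℕ) (i : Fin m), (∏ l, x l ^ e l) ∈ (P i.succ).asIdeal ↔ ∃ l, l ≤ i ∧ e l ≠ 0 := by
    intro e i
    constructor
    · intro hm
      obtain ⟨l, -, hl⟩ := (Ideal.IsPrime.prod_mem_iff (p := (P i.succ).asIdeal)).mp hm
      by_cases he : e l = 0
      · rw [he, pow_zero] at hl
        exact absurd ((Ideal.eq_top_iff_one _).mpr hl) (P i.succ).2.ne_top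
      refine ⟨l, le_of_not_gt fun hlt => hx' l ?_, he⟩
      exact (hP.monotone (Fin.succ_le_castSucc_iff.mpr hlt)) (Ideal.IsPrime.mem_of_pow_mem inferInstance _ hl)
    · rintro ⟨l, hl, he⟩
      refine (Ideal.IsPrime.prod_mem_iff (p := (P i.succ).asIdeal)).mpr ⟨l, Finset.mem_univ l, ?_⟩
      exact Ideal.pow_mem_of_mem _ (hP.monotone (Fin.succ_le_succ_iff.mpr hl) (hx l)) _ (Nat.pos_of_ne_zero he)
  by_contra hab
  obtain ⟨i, hi, hmin⟩ := (Finset.univ.filter fun i => a i ≠ b i).exists_min_image id (by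
    obtain ⟨i, hi⟩ := Function.ne_iff.mp hab
    exact ⟨i, Finset.mem_filter.mpr ⟨Finset.mem_univ i, hi⟩⟩)
  rw [Finset.mem_filter] at hi
  have hlow : ∀ l, l < i → a l = b l := fun l hl => by
    by_contra h
    exact absurd (hmin l (Finset.mem_filter.mpr ⟨Finset.mem_univ l, h⟩)) (not_le.mpr hl)
  have := hiff i
  rw [hmem, hmem] at this
  rcases lt_or_gt_of_ne hi.2 with hlt | hlt
  · obtain ⟨l, hl, hl'⟩ := this.mpr ⟨i, le_rfl, by simp only [c]; omega⟩
    rcases hl.lt_or_eq with h1 | rfl
    · exact hl' (by simp [c, hlow l h1])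
    · exact hl' (by simp only [c]; omega)
  · obtain ⟨l, hl, hl'⟩ := this.mp ⟨i, le_rfl, by simp only [c]; omega⟩
    rcases hl.lt_or_eq with h1 | rfl
    · exact hl' (by simp [c, hlow l h1])
    · exact hl' (by simp only [c]; omega)

theorem trdeg_ge {m : ℕ} (P : Fin (m + 1) → PrimeSpectrum A) (hP : StrictMono P) (x : Fin m → A)
    (hx : ∀ i, x i ∈ (P i.succ).asIdeal) (hx' : ∀ i, x i ∉ (P i.castSucc).asIdeal) (j : Fin m)
    (hc : ∀ n : ℕ, (n : K) ≠ 0 → ∃ k : ℕ, A.valuation (n : K) = A.valuation (x j : K) ^ k) :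
    ((m - 1 : ℕ) : Cardinal.{u}) ≤ Algebra.trdeg (⊥ : Subfield K) K := by
  classical
  have hconst : ∀ c ∈ (⊥ : Subfield K), c ≠ 0 → ∃ a b : ℕ, A.valuation c * A.valuation (x j : K) ^ b =
      A.valuation (x j : K) ^ a := by
    intro c hc0 hne
    obtain ⟨p, q, hq, rfl⟩ : ∃ p q : ℤ, (q : K) ≠ 0 ∧ c = p / q := by
      rw [← Subfield.closure_empty] at hc0
      induction hc0 using Subfield.closure_induction with
      | mem x hx => exact absurd hx (Set.notMem_empty x)
      | one => exact ⟨1, 1, by simp, by simp⟩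
      | add x y _ _ h1 h2 =>
        by_cases hx0 : x = 0
        · subst hx0; rw [zero_add] at hne ⊢; exact h2 hne
        by_cases hy0 : y = 0
        · subst hy0; rw [add_zero] at hne ⊢; exact h1 hne
        obtain ⟨p, q, hq, rfl⟩ := h1 hx0
        obtain ⟨p', q', hq', rfl⟩ := h2 hy0
        exact ⟨p * q' + q * p', q * q', by push_cast; exact mul_ne_zero hq hq', by push_cast; rw [div_add_div _ _ hq hq']⟩
      | neg x _ h1 =>
        obtain ⟨p, q, hq, rfl⟩ := h1 (neg_ne_zero.mp hne)
        exact ⟨-p, q, hq, by push_cast; rw [neg_div]⟩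
      | inv x _ h1 =>
        obtain ⟨p, q, hq, rfl⟩ := h1 (fun h => hne (by rw [h, inv_zero]))
        exact ⟨q, p, fun h => hne (by simp [h]), by rw [inv_div]⟩
      | mul x y _ _ h1 h2 =>
        obtain ⟨p, q, hq, rfl⟩ := h1 (left_ne_zero_of_mul hne)
        obtain ⟨p', q', hq', rfl⟩ := h2 (right_ne_zero_of_mul hne)
        exact ⟨p * p', q * q', by push_cast; exact mul_ne_zero hq hq', by push_cast; rw [div_mul_div_comm]⟩
    have hv : ∀ z : ℤ, (z : K) ≠ 0 → ∃ k : ℕ, A.valuation (z : K) = A.valuation (x j : K) ^ k := by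
      intro z hz
      obtain ⟨n, rfl | rfl⟩ := Int.eq_nat_or_neg z
      · obtain ⟨k, hk⟩ := hc n (by simpa using hz)
        exact ⟨k, by rw [Int.cast_natCast]; exact hk⟩
      · obtain ⟨k, hk⟩ := hc n (by simpa using hz)
        exact ⟨k, by rw [Int.cast_neg, Int.cast_natCast, Valuation.map_neg]; exact hk⟩
    have hp : (p : K) ≠ 0 := fun h => hne (by simp [h])
    obtain ⟨a, ha⟩ := hv p hp
    obtain ⟨b, hb⟩ := hv q hq
    refine ⟨a, b, ?_⟩
    rw [map_div₀, ← hb, div_mul_cancel₀ _ ((A.valuation.ne_zero_iff).mpr hq), ha]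
  let ι := {i : Fin m // i ≠ j}
  have hind : AlgebraicIndependent (⊥ : Subfield K) (fun i : ι => (x i.1 : K)) := by
    rw [algebraicIndependent_iff]
    intro p hp
    by_contra hp0
    rw [MvPolynomial.aeval_def, MvPolynomial.eval₂_eq'] at hp
    set T : (ι →₀ ℕ) → K := fun e => algebraMap (⊥ : Subfield K) K (p.coeff e) * ∏ i, (x i.1 : K) ^ e i
    have hinj : ∀ e ∈ p.support, ∀ e' ∈ p.support, A.valuation (T e) = A.valuation (T e') → e = e' := by
      intro e he e' he' heq
      obtain ⟨a, b, hab⟩ := hconst _ (p.coeff e).2 (fun h => MvPolynomial.mem_support_iff.mp he (Subtype.ext h))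
      obtain ⟨a', b', hab'⟩ := hconst _ (p.coeff e').2 (fun h => MvPolynomial.mem_support_iff.mp he' (Subtype.ext h))
      let ext : (ι →₀ ℕ) → ℕ → Fin m → ℕ := fun f n i => if h : i = j then n else f ⟨i, h⟩
      have hext : ∀ f n, A.valuation (∏ i, (x i : K) ^ ext f n i) =
          A.valuation (x j : K) ^ n * A.valuation (∏ i : ι, (x i.1 : K) ^ f i) := by
        intro f n
        rw [← map_pow, ← map_mul, Fintype.prod_eq_mul_prod_compl j]
        congr 1
        rw [show ext f n j = n from dif_pos rfl, Finset.prod_subtype ({j}ᶜ : Finset (Fin m)) (p := fun i => i ≠ j) (by simp)]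
        congr 1
        refine Finset.prod_congr rfl fun i _ => ?_
        rw [show ext f n i.1 = f i from dif_neg i.2]
      have key : ext e (a + b') = ext e' (a' + b) := by
        refine chain_indep A P hP x hx hx' _ _ ?_
        rw [hext, hext, pow_add, pow_add, ← hab, ← hab']
        simp only [T, map_mul] at heq
        calc _ = A.valuation (algebraMap (⊥ : Subfield K) K (p.coeff e)) * A.valuation (∏ i : ι, (x i.1 : K) ^ e i) *
              (A.valuation (x j : K) ^ b * A.valuation (x j : K) ^ b') := by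
              rw [show ((p.coeff e : (⊥ : Subfield K)) : K) = algebraMap (⊥ : Subfield K) K (p.coeff e) from rfl]
              ac_rfl
          _ = _ := by
              rw [heq, show ((p.coeff e' : (⊥ : Subfield K)) : K) = algebraMap (⊥ : Subfield K) K (p.coeff e') from rfl]
              ac_rfl
      ext i
      have := congrFun key i.1
      rwa [show ext e _ i.1 = e i from dif_neg i.2, show ext e' _ i.1 = e' i from dif_neg i.2] at this
    obtain ⟨e, he, hmax⟩ := p.support.exists_max_image (fun e => A.valuation (T e))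
      (MvPolynomial.support_nonempty.mpr hp0)
    have hlt : ∀ e' ∈ p.support \ {e}, A.valuation (T e') < A.valuation (T e) := fun e' he' => by
      rw [Finset.mem_sdiff, Finset.mem_singleton] at he'
      exact lt_of_le_of_ne (hmax e' he'.1) fun h => he'.2 (hinj e' he'.1 e he h)
    have hTe : T e ≠ 0 := mul_ne_zero
      (fun h => MvPolynomial.mem_support_iff.mp he (Subtype.ext h))
      (Finset.prod_ne_zero_iff.mpr fun i _ => pow_ne_zero _ fun h0 => hx' i.1 (by
        rw [show x i.1 = 0 from Subtype.ext h0]; exact zero_mem _))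
    have := Valuation.map_sum_eq_of_lt A.valuation he hlt
    rw [show ∑ i ∈ p.support, T i = 0 from hp, map_zero] at this
    exact (A.valuation.ne_zero_iff).mpr hTe this.symm
  have := hind.lift_cardinalMk_le_trdeg
  rwa [Cardinal.mk_fintype, show Fintype.card ι = m - 1 by simp [ι, Fintype.card_subtype_compl],
    Cardinal.lift_natCast, Cardinal.lift_id'] at this

end

/-- If the field K has finite transcendence degree d over its prime subfield, then every valuation
subring of K has height (Krull dimension) at most d + 1. -/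
theorem result
    (K : Type u) [Field K] (A : ValuationSubring K) (d : ℕ)
    (hd : Algebra.trdeg (⊥ : Subfield K) K = d) :
    ringKrullDim A ≤ ((d + 1 : ℕ) : WithBot ℕ∞) := by
  classical
  have hwide : ∀ s : LTSeries (PrimeSpectrum A), ∃ t : LTSeries (PrimeSpectrum A), s.length ≤ t.length ∧
      t.head.asIdeal = ⊥ ∧ t.last.asIdeal = IsLocalRing.maximalIdeal A := by
    intro s
    let z : PrimeSpectrum A := ⟨⊥, Ideal.isPrime_bot⟩
    let M : PrimeSpectrum A := ⟨IsLocalRing.maximalIdeal A, inferInstance⟩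
    obtain ⟨t, ht, hh⟩ : ∃ t : LTSeries (PrimeSpectrum A), s.length ≤ t.length ∧ t.head.asIdeal = ⊥ := by
      by_cases h : s.head = z
      · exact ⟨s, le_rfl, by rw [h]⟩
      · exact ⟨s.cons z (lt_of_le_of_ne (show z ≤ s.head from bot_le (a := s.head.asIdeal)) (Ne.symm h)), by simp,
          by rw [RelSeries.head_cons]⟩
    by_cases h : t.last = M
    · exact ⟨t, ht, hh, by rw [h]⟩
    · exact ⟨t.snoc M (lt_of_le_of_ne (show t.last ≤ M from IsLocalRing.le_maximalIdeal t.last.2.ne_top) h),
        by simp only [RelSeries.snoc_length]; omega, by rw [RelSeries.head_snoc]; exact hh,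
        by rw [RelSeries.last_snoc]⟩
  refine iSup_le fun s => ?_
  obtain ⟨t, hst, hhead, hlast⟩ := hwide s
  suffices t.length ≤ d + 1 by exact_mod_cast hst.trans this
  rcases Nat.eq_zero_or_pos t.length with h0 | hpos
  · omega
  have hex : ∀ i : Fin t.length, ∃ y : A, y ∈ (t i.succ).asIdeal ∧ y ∉ (t i.castSucc).asIdeal :=
    fun i => SetLike.exists_of_lt (t.step i)
  choose x hx hx' using hex
  suffices ∃ (x : Fin t.length → A) (j : Fin t.length), (∀ i, x i ∈ (t i.succ).asIdeal) ∧
      (∀ i, x i ∉ (t i.castSucc).asIdeal) ∧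
      ∀ n : ℕ, (n : K) ≠ 0 → ∃ k : ℕ, A.valuation (n : K) = A.valuation (x j : K) ^ k by
    obtain ⟨x, j, h1, h2, h3⟩ := this
    have := trdeg_ge A t.toFun t.strictMono x h1 h2 j h3
    rw [hd, Nat.cast_le] at this
    omega
  by_cases hint : ∀ n : ℕ, (n : K) ≠ 0 → A.valuation (n : K) = 1
  · exact ⟨x, ⟨0, hpos⟩, hx, hx', fun n hn => ⟨0, by rw [hint n hn, pow_zero]⟩⟩
  obtain ⟨q, hq, hq0, hqv⟩ : ∃ q : ℕ, q.Prime ∧ (q : K) ≠ 0 ∧ A.valuation (q : K) < 1 := by
    by_contra hno
    push Not at hno
    refine hint fun n => ?_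
    induction n using induction_on_primes with
    | zero => simp
    | one => simp
    | prime_mul p m hp ih =>
      intro hpm
      rw [Nat.cast_mul] at hpm
      rw [Nat.cast_mul, map_mul, ih (right_ne_zero_of_mul hpm), mul_one]
      exact le_antisymm ((A.valuation_le_one_iff _).mpr (natCast_mem A p)) (hno p hp (left_ne_zero_of_mul hpm))
  have hval : ∀ n : ℕ, (n : K) ≠ 0 → ∃ k : ℕ, A.valuation (n : K) = A.valuation (q : K) ^ k := by
    intro n
    induction n using induction_on_primes with
    | zero => simp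
    | one => exact fun _ => ⟨0, by simp⟩
    | prime_mul p m hp ih =>
      intro hpm
      rw [Nat.cast_mul] at hpm
      obtain ⟨k, hk⟩ := ih (right_ne_zero_of_mul hpm)
      by_cases hpq : p = q
      · subst hpq
        exact ⟨k + 1, by rw [Nat.cast_mul, map_mul, hk, pow_succ, mul_comm]⟩
      refine ⟨k, ?_⟩
      rw [Nat.cast_mul, map_mul, hk]
      suffices A.valuation (p : K) = 1 by rw [this, one_mul]
      refine le_antisymm ((A.valuation_le_one_iff _).mpr (natCast_mem A p)) (le_of_not_gt fun hlt => ?_)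
      have hco : IsCoprime (p : ℤ) (q : ℤ) := Int.isCoprime_iff_gcd_eq_one.mpr ((Nat.coprime_primes hp hq).mpr hpq)
      obtain ⟨u, v, huv⟩ := hco
      have h1 : (u : K) * (p : K) + (v : K) * (q : K) = 1 := by exact_mod_cast congrArg (fun z : ℤ => (z : K)) huv
      have h2 : ∀ z : ℤ, A.valuation (z : K) ≤ 1 := fun z => (A.valuation_le_one_iff _).mpr (intCast_mem A z)
      have := A.valuation.map_add ((u : K) * (p : K)) ((v : K) * (q : K))
      rw [h1, map_one, map_mul, map_mul] at this
      rcases le_max_iff.mp this with h | h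
      · exact absurd (h.trans (mul_le_of_le_one_left' (h2 u))) (not_le.mpr hlt)
      · exact absurd (h.trans (mul_le_of_le_one_left' (h2 v))) (not_le.mpr hqv)
  let qA : A := ⟨q, natCast_mem A q⟩
  have hlastq : qA ∈ (t (Fin.last t.length)).asIdeal := by
    show qA ∈ t.last.asIdeal
    rw [hlast]
    exact (A.valuation_lt_one_iff _).mpr hqv
  have hfirst : qA ∉ (t 0).asIdeal := by
    show qA ∉ t.head.asIdeal
    rw [hhead, Ideal.mem_bot]
    exact fun h => hq0 (congrArg Subtype.val h)
  obtain ⟨j, hj, hj'⟩ : ∃ j : Fin t.length, qA ∈ (t j.succ).asIdeal ∧ qA ∉ (t j.castSucc).asIdeal := by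
    by_contra hno
    push Not at hno
    have : ∀ i, qA ∉ (t i).asIdeal := fun i => Fin.induction hfirst (fun i hi h => hi (hno i h)) i
    exact this _ hlastq
  refine ⟨Function.update x j qA, j, fun i => ?_, fun i => ?_, fun n hn => ?_⟩
  · rcases eq_or_ne i j with rfl | h
    · rw [Function.update_self]; exact hj
    · rw [Function.update_of_ne h]; exact hx i
  · rcases eq_or_ne i j with rfl | h
    · rw [Function.update_self]; exact hj'
    · rw [Function.update_of_ne h]; exact hx' i
  · rw [Function.update_self]; exact hval n hn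

end Groth.Agent.S14892
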