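import Groth.Statements.S14893
import Mathlib

set_option autoImplicit false
universe u
open CAlg

namespace Groth.Agent.S14893

/-- In a valuation ring, monomials in elements lying in successively larger primes have distinct
values, so a combination of them with coefficients outside the last prime is nonzero. -/
theorem sum_monomial_ne_zero {R : Type*} [CommRing R] [IsDomain R] [ValuationRing R] {n : ℕ}
    (y : Fin n → R) (P : Fin n → Ideal R) (Q : Ideal R) [Q.IsPrime] (hP : ∀ i, (P i).IsPrime)
    (hy0 : ∀ i, y i ≠ 0) (hmem : ∀ i, y i ∈ P i) (hnot : ∀ i j, i < j → y j ∉ P i)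
    (hQ : ∀ i, P i ≤ Q) {α : Type*} (s : Finset α) (hs : s.Nonempty) (a : α → Fin n → ℕ)
    (ha : Set.InjOn a s) (c : α → R) (hc : ∀ b ∈ s, c b ∉ Q) :
    ∑ b ∈ s, c b * ∏ i, y i ^ a b i ≠ 0 := by
  classical
  obtain ⟨b₀, hb₀, hmin⟩ := s.exists_min_image (fun b => toLex (a b)) hs
  have hm0 : ∏ i, y i ^ a b₀ i ≠ 0 := Finset.prod_ne_zero_iff.mpr fun i _ => pow_ne_zero _ (hy0 i)
  have key : ∀ b ∈ s.erase b₀, ∃ z ∈ Q, ∏ i, y i ^ a b i = (∏ i, y i ^ a b₀ i) * z := by
    intro b hb
    obtain ⟨hne, hbs⟩ := Finset.mem_erase.mp hb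
    have hlt : toLex (a b₀) < toLex (a b) :=
      lt_of_le_of_ne (hmin b hbs) fun h => hne (ha hbs hb₀ (toLex.injective h).symm)
    obtain ⟨i, heq, hilt⟩ := hlt
    simp only [toLex, Equiv.coe_fn_mk] at heq hilt
    change ∀ j, j < i → a b₀ j = a b j at heq
    change a b₀ i < a b i at hilt
    set cm := ∏ j, y j ^ (if i < j then 0 else a b₀ j) with hcm
    set L := ∏ j, y j ^ (if j < i then 0 else if j = i then a b i - a b₀ i else a b j) with hL
    set Bp := ∏ j, y j ^ (if i < j then a b₀ j else 0) with hBp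
    have e0 : ∏ j, y j ^ a b₀ j = cm * Bp := by
      rw [hcm, hBp, ← Finset.prod_mul_distrib]
      refine Finset.prod_congr rfl fun j _ => ?_
      rw [← pow_add]; congr 1; split_ifs <;> omega
    have e1 : ∏ j, y j ^ a b j = cm * L := by
      rw [hcm, hL, ← Finset.prod_mul_distrib]
      refine Finset.prod_congr rfl fun j _ => ?_
      rw [← pow_add]; congr 1
      rcases lt_trichotomy j i with h | h | h
      · rw [if_neg (not_lt.mpr h.le), if_pos h, add_zero, heq j h]
      · subst h
        rw [if_neg (lt_irrefl j), if_neg (lt_irrefl j), if_pos rfl]; omega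
      · rw [if_pos h, if_neg (not_lt.mpr h.le), if_neg h.ne', zero_add]
    haveI := hP i
    have hB : Bp ∉ P i := by
      rw [hBp, Ideal.IsPrime.prod_mem_iff]
      rintro ⟨j, -, hj⟩
      by_cases h : i < j
      · rw [if_pos h] at hj
        exact hnot i j h ((hP i).mem_of_pow_mem _ hj)
      · rw [if_neg h, pow_zero] at hj
        exact (hP i).ne_top ((Ideal.eq_top_iff_one _).mpr hj)
    have hLm : L ∈ P i := by
      rw [hL, Ideal.IsPrime.prod_mem_iff]
      refine ⟨i, Finset.mem_univ _, ?_⟩
      rw [if_neg (lt_irrefl i), if_pos rfl]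
      exact Ideal.pow_mem_of_mem _ (hmem i) _ (by omega)
    obtain ⟨z, hz | hz⟩ := ValuationRing.cond Bp L
    · refine ⟨z, hQ i (((hP i).mem_or_mem (by rw [hz]; exact hLm)).resolve_left hB), ?_⟩
      rw [e0, e1, mul_assoc, hz]
    · exact absurd (hz ▸ (P i).mul_mem_right z hLm) hB
  choose! z hzQ hz using key
  rw [← Finset.add_sum_erase _ _ hb₀]
  have h1 : ∑ b ∈ s.erase b₀, c b * ∏ i, y i ^ a b i =
      (∏ i, y i ^ a b₀ i) * ∑ b ∈ s.erase b₀, c b * z b := by
    rw [Finset.mul_sum]
    exact Finset.sum_congr rfl fun b hb => by rw [hz b hb]; ring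
  rw [h1, mul_comm (c b₀), ← mul_add]
  refine mul_ne_zero hm0 fun h => hc b₀ hb₀ ?_
  rw [eq_neg_of_add_eq_zero_left h]
  exact neg_mem (Q.sum_mem fun b hb => Q.mul_mem_left _ (hzQ b hb))

open scoped IntermediateField.algebraAdjoinAdjoin in
/-- Algebraically independent elements in a finitely generated field. -/
theorem card_le_of_algebraicIndependent {k K : Type u} [Field k] [Field K] [Algebra k K]
    (T : Finset K) {m : ℕ} (x : Fin m → K) (hx : AlgebraicIndependent k x)
    (hmem : ∀ i, x i ∈ IntermediateField.adjoin k (T : Set K)) : m ≤ T.card := by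
  let L := IntermediateField.adjoin k (T : Set K)
  let x' : Fin m → L := fun i => ⟨x i, hmem i⟩
  have hx' : AlgebraicIndependent k x' := AlgebraicIndependent.of_comp L.val hx
  have h1 := hx'.lift_cardinalMk_le_trdeg
  let A := Algebra.adjoin k (T : Set K)
  have h2 := trdeg_add_eq k A (A := L)
  have h3 : Algebra.trdeg A L = 0 := trdeg_eq_zero
  rw [h3, add_zero] at h2
  let f : MvPolynomial (T : Set K) k →ₐ[k] A :=
    MvPolynomial.aeval fun t => ⟨t.1, Algebra.subset_adjoin t.2⟩
  have hf : Function.Surjective f := by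
    rintro ⟨a, ha⟩
    have ha' : a ∈ (MvPolynomial.aeval (fun t : (T : Set K) => (t : K)) : _ →ₐ[k] K).range := by
      rw [← Algebra.adjoin_range_eq_range_aeval, Subtype.range_coe]; exact ha
    obtain ⟨q, hq⟩ := ha'
    refine ⟨q, Subtype.ext ?_⟩
    exact (DFunLike.congr_fun (MvPolynomial.comp_aeval (fun t : (T : Set K) => (⟨t.1, Algebra.subset_adjoin t.2⟩ : A)) A.val) q).trans hq
  have h4 := trdeg_le_of_surjective f hf
  rw [MvPolynomial.trdeg_of_isDomain, h2] at h4
  simpa using h1.trans (Cardinal.lift_le.mpr h4)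


/-- Every valuation ring R is a filtered union of subrings which are valuation rings with finite
spectrum (finite height): there is a nonempty directed index type and a monotone family of such
subrings of R whose supremum is R. -/
theorem result
    (R : Type u) [CommRing R] [IsDomain R] [ValuationRing R] :
    ∃ (ι : Type u) (_ : Preorder ι) (_ : IsDirected ι (fun a b ↦ a ≤ b)) (_ : Nonempty ι)
      (F : ι → Subring R), Monotone F ∧ (⨆ i, F i) = ⊤ ∧
        ∀ i, ValuationRing (F i) ∧ Finite (PrimeSpectrum (F i)) := by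
  classical
  let K := FractionRing R
  let φ : R →+* K := algebraMap R K
  have hφ : Function.Injective φ := IsFractionRing.injective R K
  let G : Finset R → Subring R := fun S =>
    (Subfield.closure (φ '' (S : Set R))).toSubring.comap φ
  refine ⟨Finset R, inferInstance, inferInstance, inferInstance, G, ?_, ?_, fun S => ?_⟩
  · intro S T hST r hr
    exact Subfield.closure_mono (Set.image_mono (Finset.coe_subset.mpr hST)) hr
  · refine eq_top_iff.mpr fun r _ => le_iSup G {r} ?_
    exact Subfield.subset_closure ⟨r, by simp, rfl⟩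
  haveI hval : ValuationRing (G S) := by
    refine { cond' := fun a b => ?_ }
    obtain ⟨c, h⟩ := ValuationRing.cond a.1 b.1
    by_cases ha : a = 0
    · exact ⟨0, Or.inr (by simp [ha])⟩
    by_cases hb : b = 0
    · exact ⟨0, Or.inl (by simp [hb])⟩
    have ha' : φ a.1 ≠ 0 := (map_ne_zero_iff φ hφ).mpr fun h => ha (Subtype.ext h)
    have hb' : φ b.1 ≠ 0 := (map_ne_zero_iff φ hφ).mpr fun h => hb (Subtype.ext h)
    have hc : c ∈ G S := by
      show φ c ∈ Subfield.closure _
      rcases h with h | h
      · rw [show φ c = φ b.1 / φ a.1 by rw [eq_div_iff ha', ← map_mul, mul_comm, h]]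
        exact div_mem b.2 a.2
      · rw [show φ c = φ a.1 / φ b.1 by rw [eq_div_iff hb', ← map_mul, mul_comm, h]]
        exact div_mem a.2 b.2
    exact ⟨⟨c, hc⟩, h.imp (fun h => Subtype.ext h) (fun h => Subtype.ext h)⟩
  refine ⟨hval, ?_⟩
  by_contra hfin
  rw [not_finite_iff_infinite] at hfin
  let ψ : (G S) →+* K := φ.comp (G S).subtype
  have hψ : Function.Injective ψ := hφ.comp Subtype.val_injective
  letI : LinearOrder (PrimeSpectrum (G S)) :=
    { (inferInstance : PartialOrder (PrimeSpectrum (G S))) with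
      le_total := fun p q => (ValuationRing.le_total_ideal (A := G S)).total p.asIdeal q.asIdeal
      toDecidableLE := Classical.decRel _ }
  let m := (S.image φ).card + 1
  obtain ⟨T, hT⟩ := Infinite.exists_subset_card_eq (PrimeSpectrum (G S)) (2 * m + 1)
  let e := T.orderEmbOfFin hT
  let p : ℕ → Ideal (G S) := fun i => (e ⟨min i (2 * m), by omega⟩).asIdeal
  have hpp : ∀ i, (p i).IsPrime := fun i => (e _).isPrime
  have hmono : ∀ i j, i ≤ j → p i ≤ p j := fun i j h =>
    e.monotone (show (⟨min i (2 * m), by omega⟩ : Fin (2 * m + 1)) ≤ ⟨min j (2 * m), by omega⟩ from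
      Fin.mk_le_mk.mpr (by omega))
  have hstrict : ∀ i, i < 2 * m → ∃ x, x ∈ p (i + 1) ∧ x ∉ p i := by
    intro i hi
    refine SetLike.not_le_iff_exists.mp fun h => ?_
    exact absurd h (e.strictMono (show (⟨min i (2 * m), by omega⟩ : Fin (2 * m + 1)) <
      ⟨min (i + 1) (2 * m), by omega⟩ from Fin.mk_lt_mk.mpr (by omega))).not_ge
  choose! x hxm hxn using hstrict
  -- reduce to integral relations
  let k₀ : Subfield K := ⊥
  have indep : ∀ w : Fin m → G S,
      (∀ (s : Finset (Fin m →₀ ℕ)), s.Nonempty → ∀ z : (Fin m →₀ ℕ) → ℤ,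
        (∀ d ∈ s, ((z d : ℤ) : G S) ≠ 0) → ∑ d ∈ s, ((z d : ℤ) : G S) * ∏ i, w i ^ d i ≠ 0) →
      False := by
    intro w hw
    have hwi : AlgebraicIndependent k₀ (fun i => ψ (w i)) := by
      rw [algebraicIndependent_iff]
      intro q hq
      by_contra hq0
      have hrep : ∀ d, ∃ a b : ℤ, (b : K) ≠ 0 ∧ ((q.coeff d : k₀) : K) = a / b := by
        intro d
        have h1 : ((q.coeff d : k₀) : K) ∈ Subfield.closure (∅ : Set K) := by
          rw [Subfield.closure_empty]; exact (q.coeff d).2
        obtain ⟨u, hu, v, hv, huv⟩ := Subfield.mem_closure_iff.mp h1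
        rw [Subring.closure_empty, Subring.mem_bot] at hu hv
        obtain ⟨a, rfl⟩ := hu
        obtain ⟨b, rfl⟩ := hv
        by_cases hb : (b : K) = 0
        · exact ⟨0, 1, by simp, by rw [← huv, hb]; simp⟩
        · exact ⟨a, b, hb, huv.symm⟩
      choose a b hb hab using hrep
      let z : (Fin m →₀ ℕ) → ℤ := fun d => a d * ∏ d' ∈ q.support.erase d, b d'
      have hz : ∀ d ∈ q.support, (z d : K) = (∏ d' ∈ q.support, (b d' : K)) * (q.coeff d : k₀) := by
        intro d hd
        rw [← Finset.mul_prod_erase _ _ hd, hab]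
        have hbd := hb d
        simp only [z]
        push_cast
        rw [mul_comm (b d : K) _, mul_assoc, mul_div_cancel₀ _ hbd, mul_comm]
      refine hw q.support (MvPolynomial.support_nonempty.mpr hq0) z (fun d hd h => ?_) (hψ ?_)
      · have h2 := congrArg ψ h
        rw [map_intCast, map_zero, hz d hd] at h2
        rcases mul_eq_zero.mp h2 with h3 | h3
        · obtain ⟨d', -, h4⟩ := Finset.prod_eq_zero_iff.mp h3
          exact hb d' h4
        · exact MvPolynomial.mem_support_iff.mp hd (Subtype.ext h3)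
      · rw [map_zero, map_sum]
        have h5 : (∏ d' ∈ q.support, (b d' : K)) * MvPolynomial.aeval (fun i => ψ (w i)) q = 0 := by
          rw [hq, mul_zero]
        rw [MvPolynomial.aeval_def, MvPolynomial.eval₂_eq', Finset.mul_sum] at h5
        refine Eq.trans (Finset.sum_congr rfl fun d hd => ?_) h5
        rw [map_mul, map_intCast, map_prod, hz d hd, mul_assoc]
        simp only [map_pow]
        rfl
    have hle := card_le_of_algebraicIndependent (S.image φ) (fun i => ψ (w i)) hwi (fun i => by
      have h1 : Subfield.closure (φ '' (S : Set R)) ≤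
          (IntermediateField.adjoin k₀ ((S.image φ : Finset K) : Set K)).toSubfield := by
        rw [Subfield.closure_le, Finset.coe_image]
        exact IntermediateField.subset_adjoin _ _
      exact h1 (w i).2)
    omega
  by_cases hD : ∃ z : ℤ, (z : G S) ≠ 0 ∧ (z : G S) ∈ p m
  · -- all primes from `p m` on contain the same prime number
    obtain ⟨z₀, hz₀, hz₀m⟩ := hD
    let I : ℕ → Ideal ℤ := fun i => (p i).comap (Int.castRingHom (G S))
    haveI : ∀ i, (I i).IsPrime := fun i => by haveI := hpp i; infer_instance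
    have hI0 : I m ≠ ⊥ := fun h => hz₀ (by
      have h1 : z₀ ∈ I m := hz₀m
      rw [h, Ideal.mem_bot] at h1
      simp [h1])
    have hmax : (I m).IsMaximal := Ideal.IsPrime.isMaximal inferInstance hI0
    have hIeq : I (2 * m) = I m :=
      (hmax.eq_of_le (Ideal.IsPrime.ne_top inferInstance) (Ideal.comap_mono (hmono m (2 * m) (by omega)))).symm
    obtain ⟨ℓ, hℓ⟩ : ∃ ℓ, I m = Ideal.span {ℓ} :=
      ⟨Submodule.IsPrincipal.generator (I m), (Ideal.span_singleton_generator _).symm⟩
    have hℓp : Prime ℓ := by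
      rw [← Ideal.span_singleton_prime]
      · rw [← hℓ]; infer_instance
      · rintro rfl; exact hI0 (by rw [hℓ, Ideal.span_singleton_zero])
    have hℓm : ((ℓ : ℤ) : G S) ∈ p m := by
      have : ℓ ∈ I m := by rw [hℓ]; exact Ideal.mem_span_singleton_self ℓ
      exact this
    have hℓ0 : ((ℓ : ℤ) : G S) ≠ 0 := fun h => hz₀ (by
      have h1 : z₀ ∈ I m := hz₀m
      rw [hℓ, Ideal.mem_span_singleton] at h1
      obtain ⟨c, rfl⟩ := h1
      simp [h])
    refine indep (fun i => x (m + i)) fun s hs z hz hsum => ?_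
    have hfac : ∀ d ∈ s, ∃ n c, ¬ ℓ ∣ c ∧ z d = ℓ ^ n * c := fun d hd =>
      WfDvdMonoid.max_power_factor (fun h => hz d hd (by simp [h])) hℓp.irreducible
    choose! ν c hc hzc using hfac
    haveI := hpp (2 * m)
    refine sum_monomial_ne_zero (R := G S) (Fin.cons ((ℓ : ℤ) : G S) fun i : Fin m => x (m + i))
      (Fin.cons (p m) fun i : Fin m => p (m + i + 1)) (p (2 * m))
      (Fin.cases (hpp m) fun i => by simpa using hpp _)
      (Fin.cases (by simpa using hℓ0) fun i => by
        simp only [Fin.cons_succ]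
        intro h
        exact hxn (m + i) (by omega) (h ▸ zero_mem _))
      (Fin.cases (by simpa using hℓm) fun i => by simpa using hxm (m + i) (by omega))
      ?_ (Fin.cases (by simpa using hmono m (2 * m) (by omega)) fun i => by
        simpa using hmono _ _ (by omega))
      s hs (fun d => Fin.cons (ν d) (fun i => d i)) ?_ (fun d => ((c d : ℤ) : G S)) ?_ ?_
    · intro i j hij
      obtain ⟨j, rfl⟩ := Fin.exists_succ_eq.mpr (Fin.pos_iff_ne_zero.mp ((Fin.zero_le i).trans_lt hij))
      simp only [Fin.cons_succ]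
      intro h
      refine hxn (m + j) (by omega) (hmono (m + (i : ℕ)) (m + j) ?_ ?_)
      · have := Fin.lt_def.mp hij
        simp only [Fin.val_succ] at this
        omega
      · induction i using Fin.cases with
        | zero => simpa using h
        | succ i => simpa [add_assoc] using h
    · intro d _ d' _ h
      refine Finsupp.ext fun i => ?_
      simpa using congrFun h i.succ
    · intro d hd h
      refine hc d hd ?_
      have : c d ∈ I (2 * m) := h
      rw [hIeq, hℓ, Ideal.mem_span_singleton] at this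
      exact this
    · rw [← hsum]
      refine Finset.sum_congr rfl fun d hd => ?_
      rw [Fin.prod_univ_succ, hzc d hd]
      simp only [Fin.cons_zero, Fin.cons_succ]
      push_cast
      ring
  · push Not at hD
    haveI := hpp m
    refine indep (fun i => x i) fun s hs z hz => ?_
    refine sum_monomial_ne_zero (fun i : Fin m => x i) (fun i => p (i + 1)) (p m) (fun i => hpp _)
      (fun i h => hxn i (by omega) (h ▸ zero_mem _)) (fun i => hxm i (by omega))
      (fun i j hij h => hxn j (by omega) (hmono _ _ (by omega) h))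
      (fun i => hmono _ _ (by omega)) s hs (fun d i => d i)
      (fun d _ d' _ h => Finsupp.ext fun i => congrFun h i) _ (fun d hd => hD _ (hz d hd))

end Groth.Agent.S14893
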