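import Groth.Statements.S14896
import Mathlib

set_option autoImplicit false
universe u
open CAlg

namespace Groth.Agent.S14896

/-- Let L/K be a finite extension of valued fields, v_L extending v_K, with K° = the valuation ring of
v_K having finite spectrum (finite height), and L° the valuation ring of v_L. If L° is local-étale
over K°, i.e. L° is the localization at a prime ideal of some étale K°-algebra B compatibly with the
K°-algebra structures, then L° is étale over K°. (For valued fields of finite height 'unramified' in
the local-étale sense is thus the same as K° → L° étale; the published lemma phrases the hypothesis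
as 'L/K unramified'.) -/
theorem result
    {K L Γ₀ Γ₁ : Type u} [Field K] [Field L] [Algebra K L] [FiniteDimensional K L]
    [LinearOrderedCommGroupWithZero Γ₀] [LinearOrderedCommGroupWithZero Γ₁]
    (vK : Valuation K Γ₀) (vL : Valuation L Γ₁) [vK.HasExtension vL]
    [Finite (PrimeSpectrum vK.valuationSubring)]
    (B : Type u) [CommRing B] [Algebra vK.valuationSubring B] [Algebra.Etale vK.valuationSubring B]
    [Algebra B vL.valuationSubring] [IsScalarTower vK.valuationSubring B vL.valuationSubring]
    (P : Ideal B) [P.IsPrime] [IsLocalization.AtPrime vL.valuationSubring P] :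
    Algebra.Etale vK.valuationSubring vL.valuationSubring := by
  classical
  haveI : Algebra.QuasiFinite vK.valuationSubring B := inferInstance
  haveI : Finite (PrimeSpectrum B) := by
    have := Algebra.QuasiFinite.finite_comap_preimage (R := vK.valuationSubring) (S := B) (Set.finite_univ)
    rw [Set.preimage_univ] at this
    exact Set.finite_univ_iff.mp this
  haveI := Fintype.ofFinite (PrimeSpectrum B)
  have hb : ∀ Q : PrimeSpectrum B, ∃ b : B, b ∉ P ∧ (¬ Q.asIdeal ≤ P → b ∈ Q.asIdeal) := by
    intro Q
    by_cases h : Q.asIdeal ≤ P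
    · exact ⟨1, fun h1 => ‹P.IsPrime›.ne_top ((Ideal.eq_top_iff_one P).mpr h1), fun h' => absurd h h'⟩
    · obtain ⟨b, hb, hbP⟩ := SetLike.not_le_iff_exists.mp h
      exact ⟨b, hbP, fun _ => hb⟩
  choose g hgP hg using hb
  let f : B := ∏ Q : PrimeSpectrum B, g Q
  have hf : f ∈ P.primeCompl := P.primeCompl.prod_mem fun Q _ => hgP Q
  let Bf := Localization.Away f
  haveI : IsLocalization.AtPrime Bf P := by
    refine IsLocalization.of_le (Submonoid.powers f) P.primeCompl (Submonoid.powers_le.mpr hf) fun r hr => ?_
    by_contra hu
    obtain ⟨Q, hQ, hrQ⟩ := exists_max_ideal_of_mem_nonunits (show algebraMap B Bf r ∈ nonunits Bf from hu)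
    haveI := hQ.isPrime
    let Q' : PrimeSpectrum B := ⟨Q.comap (algebraMap B Bf), inferInstance⟩
    have hfQ : f ∉ Q'.asIdeal := fun h => hQ.ne_top (Ideal.eq_top_of_isUnit_mem _ h (IsLocalization.Away.algebraMap_isUnit f))
    have hle : Q'.asIdeal ≤ P := by
      by_contra hle
      exact hfQ (Q'.isPrime.prod_mem_iff.mpr ⟨Q', Finset.mem_univ _, hg Q' hle⟩)
    exact hr (hle hrQ)
  let e : Bf ≃ₐ[B] vL.valuationSubring := IsLocalization.algEquiv P.primeCompl _ _
  haveI : Algebra.Etale B Bf := Algebra.Etale.of_isLocalizationAway f
  haveI : Algebra.Etale vK.valuationSubring Bf := Algebra.Etale.comp vK.valuationSubring B Bf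
  exact Algebra.Etale.of_equiv (e.restrictScalars vK.valuationSubring)

end Groth.Agent.S14896
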