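import Groth.Statements.S14904
import Groth.Agent.LineModel.Ga

set_option autoImplicit false
set_option backward.isDefEq.respectTransparency false
set_option backward.isDefEq.respectTransparency.types false
universe u
open CategoryTheory MonoidalCategory CartesianMonoidalCategory MonObj GrpObj AlgebraicGeometry
open Neron

namespace Groth.Agent.S14904

/-- Let R be a complete discrete valuation ring with fraction field K of characteristic 0 and
algebraically closed residue field k of characteristic 0, and let G be an affine smooth R-group
scheme of finite type together with an isomorphism of K-group schemes between its generic fibre and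
the additive group over K (an affine smooth R-model of the additive group). Then the special fibre
G_k is connected and G is isomorphic to the additive group over R as an R-group scheme (existence of
an isomorphism of group schemes). -/
theorem result (R : Type u) [CommRing R] [IsDomain R] [IsDiscreteValuationRing R]
    [IsAdicComplete (IsLocalRing.maximalIdeal R) R] (K : Type u) [Field K] [Algebra R K] [IsFractionRing R K] [CharZero K]
    [IsAlgClosed (IsLocalRing.ResidueField R)] [CharZero (IsLocalRing.ResidueField R)]
    (G : Over (Spec (CommRingCat.of R))) [GrpObj G] [Smooth G.hom] [IsAffineHom G.hom] [LocallyOfFiniteType G.hom]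
    (e : Red.bc (Spec.map (CommRingCat.ofHom (algebraMap R K))) G ≅ Red.Ga (Spec (CommRingCat.of K))) [IsMonHom e.hom] :
    ConnectedSpace ↥(Red.bc (Spec.map (CommRingCat.ofHom (IsLocalRing.residue R))) G).left ∧
      ∃ e' : G ≅ Red.Ga (Spec (CommRingCat.of R)), IsMonHom e'.hom := by
  haveI : IsAffine G.left := isAffine_of_isAffineHom G.hom
  obtain ⟨π, hπ⟩ := IsDiscreteValuationRing.exists_irreducible R
  obtain ⟨b, v, hiff, hpow, -, hiso⟩ := Groth.Agent.LineModel.ga_model hπ K e
  have hall : ∀ x, Groth.Agent.WeilNeutral.Rel (IsLocalRing.ResidueField R) (G := G) x 1 := fun x => by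
    obtain ⟨d, hd, hdrel⟩ := Groth.Agent.LineModel.exists_pow_rel x
    obtain ⟨y, rfl⟩ := Groth.Agent.LineModel.red_surjective (G := G) x
    rw [← map_pow, hiff, hpow, nsmul_eq_mul] at hdrel
    refine (hiff y).2 ((IsUnit.dvd_mul_left (Groth.Agent.LineModel.isUnit_of_residue_ne_zero ?_)).1 hdrel)
    rw [map_natCast]
    exact Nat.cast_ne_zero.2 (Nat.pos_iff_ne_zero.1 hd)
  exact ⟨Groth.Agent.LineModel.connectedSpace_fibre hall, hiso hall⟩

end Groth.Agent.S14904
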