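import Groth.Statements.S14907
import Groth.Agent.LineModel.GmMain

set_option autoImplicit false
set_option backward.isDefEq.respectTransparency false
set_option backward.isDefEq.respectTransparency.types false
universe u
open CategoryTheory MonoidalCategory CartesianMonoidalCategory MonObj GrpObj AlgebraicGeometry
open Neron

namespace Groth.Agent.S14907

/-- Let R be a complete discrete valuation ring with fraction field K of characteristic 0 and
algebraically closed residue field k of characteristic 0, and let G be an affine smooth R-group
scheme of finite type together with an isomorphism of K-group schemes between its generic fibre and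
the multiplicative group over K. Suppose the identity component of the special fibre G_k is the
additive group: there is a homomorphism of k-group schemes from the additive group over k to G_k
which is an open immersion. Then the group of connected components of G_k is cyclic: there is a
k-point x₀ of G_k such that every connected component of G_k contains (the point underlying) some
power x₀^m. (The further assertion that every cyclic group occurs is not stated.) -/
theorem result (R : Type u) [CommRing R] [IsDomain R] [IsDiscreteValuationRing R]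
    [IsAdicComplete (IsLocalRing.maximalIdeal R) R] (K : Type u) [Field K] [Algebra R K] [IsFractionRing R K] [CharZero K]
    [IsAlgClosed (IsLocalRing.ResidueField R)] [CharZero (IsLocalRing.ResidueField R)]
    (G : Over (Spec (CommRingCat.of R))) [GrpObj G] [Smooth G.hom] [IsAffineHom G.hom] [LocallyOfFiniteType G.hom]
    (e : Red.bc (Spec.map (CommRingCat.ofHom (algebraMap R K))) G ≅ Red.Gm (Spec (CommRingCat.of K))) [IsMonHom e.hom]
    (j₀ : Red.Ga (Spec (CommRingCat.of (IsLocalRing.ResidueField R))) ⟶ Red.bc (Spec.map (CommRingCat.ofHom (IsLocalRing.residue R))) G) [IsMonHom j₀]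
    [IsOpenImmersion j₀.left] :
    ∃ x₀ : 𝟙_ (Over (Spec (CommRingCat.of (IsLocalRing.ResidueField R)))) ⟶ Red.bc (Spec.map (CommRingCat.ofHom (IsLocalRing.residue R))) G,
      ∀ x : 𝟙_ (Over (Spec (CommRingCat.of (IsLocalRing.ResidueField R)))) ⟶ Red.bc (Spec.map (CommRingCat.ofHom (IsLocalRing.residue R))) G,
        ∃ m : ℕ, (x₀ ^ m).left.base (IsLocalRing.closedPoint (IsLocalRing.ResidueField R)) ∈ connectedComponent (x.left.base (IsLocalRing.closedPoint (IsLocalRing.ResidueField R))) := by
  haveI : IsAffine G.left := isAffine_of_isAffineHom G.hom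
  obtain ⟨π, hπ⟩ := IsDiscreteValuationRing.exists_irreducible R
  obtain ⟨T, v, y₀, hiff, hgen⟩ := Groth.Agent.LineModel.gm_of_ga hπ K e j₀
  refine ⟨Groth.Agent.LineModel.fibrePt G (Groth.Agent.LineModel.red G y₀), fun x => ?_⟩
  obtain ⟨w, rfl⟩ := Groth.Agent.LineModel.fibrePt_surjective (G := G) x
  obtain ⟨y, rfl⟩ := Groth.Agent.LineModel.red_surjective (G := G) w
  have hs : Function.Surjective (algebraMap R (IsLocalRing.ResidueField R)) := Ideal.Quotient.mk_surjective
  obtain ⟨m, hm⟩ := hgen y
  refine ⟨m, ?_⟩
  rw [← map_pow, ← map_pow]
  refine (Groth.Agent.LineModel.fibrePt_rel_iff _ _).2 (Groth.Agent.WeilNeutral.Rel.symm hs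
    (Groth.Agent.WeilNeutral.Rel.of_mul_inv hs ?_))
  rw [← map_inv, ← map_mul]
  obtain ⟨d, hd, hdrel⟩ := Groth.Agent.LineModel.exists_pow_rel (Groth.Agent.LineModel.red G (y * (y₀ ^ m)⁻¹))
  rw [← map_pow, hiff, map_pow, Units.val_pow_eq_pow_val] at hdrel
  refine (hiff _).2 (Groth.Agent.LineModel.dvd_sub_one_of_dvd_pow_sub_one hm (fun h => ?_) hπ hdrel)
  have h0 : IsLocalRing.residue R (d : R) = 0 := by
    rw [IsLocalRing.residue_eq_zero_iff, (IsDiscreteValuationRing.irreducible_iff_uniformizer π).1 hπ,
      Ideal.mem_span_singleton]
    exact h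
  rw [map_natCast, Nat.cast_eq_zero] at h0
  exact hd.ne' h0

end Groth.Agent.S14907
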