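import Groth.Statements.S14908
import Groth.Agent.LineModel.GmMain

set_option autoImplicit false
set_option backward.isDefEq.respectTransparency false
set_option backward.isDefEq.respectTransparency.types false
universe u
open CategoryTheory MonoidalCategory CartesianMonoidalCategory MonObj GrpObj AlgebraicGeometry
open Neron

namespace Groth.Agent.S14908

/-- Let R be a complete discrete valuation ring with fraction field K of characteristic 0 and
algebraically closed residue field k of characteristic p > 0, and let G be an affine smooth R-group
scheme of finite type together with an isomorphism of K-group schemes between its generic fibre and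
the multiplicative group over K. Suppose the identity component of the special fibre G_k is the
additive group: there is a homomorphism of k-group schemes from the additive group over k to G_k
which is an open immersion. Then the group of connected components of G_k is the product of a cyclic
group of order prime to p and a p-group; equivalently its prime-to-p part is cyclic: there is a
k-point x₀ of G_k such that for every k-point x of G_k some power x^(p^e) lies in the connected
component of some power x₀^m. (The further assertion that every such group occurs is not stated.) -/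
theorem result (R : Type u) [CommRing R] [IsDomain R] [IsDiscreteValuationRing R]
    [IsAdicComplete (IsLocalRing.maximalIdeal R) R] (K : Type u) [Field K] [Algebra R K] [IsFractionRing R K] [CharZero K]
    [IsAlgClosed (IsLocalRing.ResidueField R)]
    (p : ℕ) [Fact p.Prime] [CharP (IsLocalRing.ResidueField R) p]
    (G : Over (Spec (CommRingCat.of R))) [GrpObj G] [Smooth G.hom] [IsAffineHom G.hom] [LocallyOfFiniteType G.hom]
    (e : Red.bc (Spec.map (CommRingCat.ofHom (algebraMap R K))) G ≅ Red.Gm (Spec (CommRingCat.of K))) [IsMonHom e.hom]
    (j₀ : Red.Ga (Spec (CommRingCat.of (IsLocalRing.ResidueField R))) ⟶ Red.bc (Spec.map (CommRingCat.ofHom (IsLocalRing.residue R))) G) [IsMonHom j₀]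
    [IsOpenImmersion j₀.left] :
    ∃ x₀ : 𝟙_ (Over (Spec (CommRingCat.of (IsLocalRing.ResidueField R)))) ⟶ Red.bc (Spec.map (CommRingCat.ofHom (IsLocalRing.residue R))) G,
      ∀ x : 𝟙_ (Over (Spec (CommRingCat.of (IsLocalRing.ResidueField R)))) ⟶ Red.bc (Spec.map (CommRingCat.ofHom (IsLocalRing.residue R))) G,
        ∃ e₁ m : ℕ, (x ^ (p ^ e₁)).left.base (IsLocalRing.closedPoint (IsLocalRing.ResidueField R)) ∈ connectedComponent ((x₀ ^ m).left.base (IsLocalRing.closedPoint (IsLocalRing.ResidueField R))) := by
  haveI : IsAffine G.left := isAffine_of_isAffineHom G.hom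
  obtain ⟨π, hπ⟩ := IsDiscreteValuationRing.exists_irreducible R
  obtain ⟨T, v, y₀, hiff, hgen⟩ := Groth.Agent.LineModel.gm_of_ga hπ K e j₀
  refine ⟨Groth.Agent.LineModel.fibrePt G (Groth.Agent.LineModel.red G y₀), fun x => ?_⟩
  obtain ⟨w, rfl⟩ := Groth.Agent.LineModel.fibrePt_surjective (G := G) x
  obtain ⟨y, rfl⟩ := Groth.Agent.LineModel.red_surjective (G := G) w
  have hs : Function.Surjective (algebraMap R (IsLocalRing.ResidueField R)) := Ideal.Quotient.mk_surjective
  obtain ⟨m, hm⟩ := hgen y
  refine ⟨v, m * p ^ v, ?_⟩
  rw [← map_pow, ← map_pow, ← map_pow, ← map_pow]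
  refine (Groth.Agent.LineModel.fibrePt_rel_iff _ _).2 (Groth.Agent.WeilNeutral.Rel.of_mul_inv hs ?_)
  rw [← map_inv, ← map_mul, hiff]
  have hT : T (y ^ p ^ v * (y₀ ^ (m * p ^ v))⁻¹) = T (y * (y₀ ^ m)⁻¹) ^ p ^ v := by
    simp only [map_mul, map_inv, map_pow]
    rw [mul_pow, inv_pow, ← pow_mul]
  rw [hT, Units.val_pow_eq_pow_val]
  refine Groth.Agent.LineModel.geom_dvd ?_ hm ((IsDiscreteValuationRing.irreducible_iff_uniformizer π).1 hπ)
  rw [← IsLocalRing.residue_eq_zero_iff, map_natCast]
  exact CharP.cast_eq_zero _ p

end Groth.Agent.S14908
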