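import Groth.Statements.S14909
import Groth.Agent.WeierLocal.Type2
-- import your own Groth.Agent.* helpers here

set_option autoImplicit false
universe u
open Neron

namespace Groth.Agent.S14909

/-- Let R be a discrete valuation ring with uniformizer ϖ, let a₁, a₆ ∈ R with a₁ of valuation v ≥ 1, a₆
of valuation 1, and 2 of valuation at least v (so the residue characteristic is 2; 2 = 0 is
allowed). In the power series ring S = R[[x, y]] let M = (ϖ, x, y) be the maximal ideal and I the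
ideal generated by y² + a₁xy − x³ − a₆, 2y + a₁x and 3x² − a₁y, so that S/I is a local ring with
maximal ideal m = M/I. Then the classes of y^(2v) and x·y^(2v−1) form a basis of the vector space
m^(2v)/m^(2v+1) over the residue field: M^(2v) + I = (y^(2v), x·y^(2v−1)) + I, and whenever a·y^(2v)
+ b·x·y^(2v−1) ∈ M^(2v+1) + I with a, b ∈ R, both a and b lie in the maximal ideal of R. (Generation
holds with any exponent i ≥ 1 in place of 2v: M^i + I = (y^i, x·y^(i−1)) + I.) -/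
theorem result (R : Type u) [CommRing R] [IsDomain R] [IsDiscreteValuationRing R]
    (ϖ a₁ a₆ : R) (hϖ : Irreducible ϖ) (v : ℕ) (hv : 1 ≤ v) (u₁ u₆ : Rˣ) (ha₁ : a₁ = u₁ * ϖ ^ v) (ha₆ : a₆ = u₆ * ϖ)
    (h2 : (2 : R) ∈ IsLocalRing.maximalIdeal R ^ v)
    (x y : MvPowerSeries (Fin 2) R) (hx : x = MvPowerSeries.X 0) (hy : y = MvPowerSeries.X 1)
    (I M : Ideal (MvPowerSeries (Fin 2) R))
    (hI : I = Ideal.span {y ^ 2 + a₁ • (x * y) - x ^ 3 - algebraMap R (MvPowerSeries (Fin 2) R) a₆,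
      2 * y + a₁ • x, 3 * x ^ 2 - a₁ • y})
    (hM : M = Ideal.span {algebraMap R (MvPowerSeries (Fin 2) R) ϖ, x, y}) :
    M ^ (2 * v) ⊔ I = Ideal.span {y ^ (2 * v), x * y ^ (2 * v - 1)} ⊔ I ∧
      ∀ a b : R, a • y ^ (2 * v) + b • (x * y ^ (2 * v - 1)) ∈ M ^ (2 * v + 1) ⊔ I →
        a ∈ IsLocalRing.maximalIdeal R ∧ b ∈ IsLocalRing.maximalIdeal R := by
  subst hx hy hM hI
  have hm : IsLocalRing.maximalIdeal R = Ideal.span {ϖ} := hϖ.maximalIdeal_eq
  rw [hm, Ideal.span_singleton_pow, Ideal.mem_span_singleton] at h2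
  obtain ⟨c₂, hc₂⟩ := h2
  have h3 : IsUnit (3 : R) := by
    by_contra h
    rw [← mem_nonunits_iff, ← IsLocalRing.mem_maximalIdeal, hm, Ideal.mem_span_singleton] at h
    refine hϖ.not_isUnit (isUnit_of_dvd_one ?_)
    have h2' : ϖ ∣ (2 : R) := hc₂ ▸ (dvd_pow_self ϖ (by omega)).mul_right c₂
    simpa [show (3 : R) - 2 = 1 by norm_num] using dvd_sub h h2'
  obtain ⟨w₃, hw₃⟩ := h3.exists_right_inv
  have e6 : (MvPowerSeries.C a₆ : MvPowerSeries (Fin 2) R) = algebraMap R _ a₆ := rfl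
  obtain ⟨c, q, hc, hq⟩ := Groth.Agent.WeierLocal.exists_rel (I := Ideal.span
      {(MvPowerSeries.X 1 : MvPowerSeries (Fin 2) R) ^ 2 + a₁ • (MvPowerSeries.X 0 * MvPowerSeries.X 1)
        - MvPowerSeries.X 0 ^ 3 - algebraMap R _ a₆,
      2 * MvPowerSeries.X 1 + a₁ • MvPowerSeries.X 0, 3 * MvPowerSeries.X 0 ^ 2 - a₁ • MvPowerSeries.X 1})
    ϖ a₁ a₆ v hv (u₁ : R) (u₆ : R) w₃ u₆.isUnit hw₃ ha₁ ha₆
    (by rw [e6]; exact Ideal.subset_span (by simp)) (Ideal.subset_span (by simp))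
  have key : ∀ m : ℕ, _ := Groth.Agent.WeierLocal.pow_le hc hq
  have eT : (MvPowerSeries.C ϖ : MvPowerSeries (Fin 2) R) = algebraMap R _ ϖ := rfl
  rw [eT] at key
  refine ⟨le_antisymm (sup_le ?_ le_sup_right) (sup_le ?_ le_sup_right), fun a b hab => ?_⟩
  · obtain ⟨m, hm'⟩ : ∃ m, 2 * v = m + 1 := ⟨2 * v - 1, by omega⟩
    have := key m
    rw [hm', Nat.add_sub_cancel]
    exact this
  · refine le_trans ?_ le_sup_left
    rw [Ideal.span_le]
    rintro z (rfl | rfl)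
    · exact Ideal.pow_mem_pow (Ideal.subset_span (by simp)) _
    · obtain ⟨m, hm'⟩ : ∃ m, 2 * v = m + 1 := ⟨2 * v - 1, by omega⟩
      rw [hm', Nat.add_sub_cancel, pow_succ' _ m]
      exact Ideal.mul_mem_mul (Ideal.subset_span (by simp)) (Ideal.pow_mem_pow (Ideal.subset_span (by simp)) _)
  · have hab' := (sup_le (key (2 * v)) le_sup_right) hab
    have ha0 : a₆ ≠ 0 := by rw [ha₆]; exact mul_ne_zero u₆.ne_zero hϖ.ne_zero
    have hw : ϖ ^ v = ((u₆⁻¹ : Rˣ) : R) ^ v * a₆ ^ v := by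
      rw [← mul_pow, ha₆, ← mul_assoc, Units.inv_mul, one_mul]
    obtain ⟨h1, h2⟩ := Groth.Agent.WeierLocal.indep a₁ a₆ ha0 v hv ((u₁ : R) * ((u₆⁻¹ : Rˣ) : R) ^ v)
      (c₂ * ((u₆⁻¹ : Rˣ) : R) ^ v) (by rw [ha₁, hw]; ring) (by rw [hc₂, hw]; ring) a b (by rw [e6]; exact hab')
    have : ∀ r, a₆ ∣ r → r ∈ IsLocalRing.maximalIdeal R := fun r hr => by
      rw [hm, Ideal.mem_span_singleton]
      exact (Dvd.intro_left _ ha₆.symm).trans hr
    exact ⟨this a h1, this b h2⟩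


end Groth.Agent.S14909
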