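import Groth.Statements.S14937
import Groth.Agent.AVFin.Dim
-- import your own Groth.Agent.* helpers here

set_option autoImplicit false
set_option linter.style.haveILetI false
set_option backward.isDefEq.respectTransparency false
set_option backward.isDefEq.respectTransparency.types false
universe u
open CategoryTheory MonoidalCategory CartesianMonoidalCategory MonObj GrpObj AlgebraicGeometry
open AbVar

namespace Groth.Agent.S14937

/-- Lower bound: let A be an abelian variety of dimension g over a finite field k (a proper,
geometrically integral commutative group scheme over k). Then the rank of End_k(A) is at least 2g: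
there exist 2g endomorphisms of A (homomorphisms A → A) which are linearly independent over ℤ in the
additive group of k-morphisms A → A (pointwise product). The upper bound 4g² holds over any field. -/
theorem result (k : Type u) [Field k] [Finite k]
    (A : Over (Spec (CommRingCat.of k)))
    [GrpObj A] [IsCommMonObj A] [IsProper A.hom] [GeometricallyIntegral A.hom]
    (g : ℕ) (hg : topologicalKrullDim A.left = g) :
    ∃ e : Fin (2 * g) → (A ⟶ A), (∀ i, IsMonHom (e i)) ∧
      LinearIndependent ℤ (fun i => Additive.ofMul (e i)) := by
  obtain ⟨F, hF, hF0, hFs, hnat⟩ := Groth.Agent.AVRosati.exists_frob (k := k)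
  haveI : IsMonHom (F A 1) := by
    refine ⟨?_, ?_⟩
    · have h1 : F (𝟙_ _) 1 = 𝟙 _ := toUnit_unique _ _
      rw [← hnat A (𝟙_ _) (η[A]) 1, h1, Category.id_comp]
    · rw [← hnat A (A ⊗ A) (μ[A]) 1]
      congr 1
      refine CartesianMonoidalCategory.hom_ext _ _ ?_ ?_
      · rw [tensorHom_fst, hnat]
      · rw [tensorHom_snd, hnat]
  have hle := Groth.Agent.AVFin.two_mul_le_finrank (πA := F A 1) (pow_one (Nat.card k) ▸ hF A 1) hg
  obtain ⟨hfin, hfree⟩ := Groth.Agent.AVHomLib.hom_free (A := A) (B := A)
  haveI := hfin
  haveI := hfree
  let b := Module.finBasis ℤ (EndAV.Hom A A)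
  let ev : EndAV.Hom A A →+ Additive (A ⟶ A) :=
    { toFun φ := Additive.ofMul φ.toHom, map_zero' := rfl, map_add' _ _ := rfl }
  refine ⟨fun i => (b (Fin.castLE hle i)).toHom, fun i => inferInstance, ?_⟩
  exact (b.linearIndependent.comp _ (Fin.castLE_injective hle)).map' ev.toIntLinearMap
    (LinearMap.ker_eq_bot.2 fun φ ψ h => EndAV.Hom.ext (Additive.ofMul.injective h))

end Groth.Agent.S14937
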