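import Groth.Statements.S14938
import Groth.Agent.AVFin.Centre
-- import your own Groth.Agent.* helpers here

set_option autoImplicit false
set_option linter.style.haveILetI false
set_option backward.isDefEq.respectTransparency false
set_option backward.isDefEq.respectTransparency.types false
universe u
open CategoryTheory MonoidalCategory CartesianMonoidalCategory MonObj GrpObj AlgebraicGeometry
open AbVar

namespace Groth.Agent.S14938

/-- Let A be an abelian variety over a finite field k with q elements (a proper, geometrically integral
commutative group scheme over k) and π_A its q-Frobenius endomorphism (the identity on points and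
the q-th power map on sections; a homomorphism). If an endomorphism f of A commutes with every
endomorphism of A, then for some integer N > 0 the multiple N·f is an integral linear combination of
the composition powers π_A^0 = id, π_A, π_A ∘ π_A, …; in other words the centre of ℚ ⊗ End_k(A) is
ℚ[π_A] (the reverse inclusion being that π_A is central). In the statement the group Hom_k(A, A) is
written multiplicatively, so N·f is f^N and the linear combination is a finite product of integer
powers. -/
theorem result (k : Type u) [Field k] [Finite k]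
    (A : Over (Spec (CommRingCat.of k)))
    [GrpObj A] [IsCommMonObj A] [IsProper A.hom] [GeometricallyIntegral A.hom]
    (πA : A ⟶ A) [IsMonHom πA] (hπAb : πA.left.base = 𝟙 _)
    (hπAle : ∀ U : A.left.Opens, U ≤ πA.left ⁻¹ᵁ U)
    (hπAapp : ∀ (U : A.left.Opens) (s : Γ(A.left, U)), (πA.left.appLE U U (hπAle U)).hom s = s ^ Nat.card k)
    (f : A ⟶ A) [IsMonHom f] (hf : ∀ h : A ⟶ A, IsMonHom h → f ≫ h = h ≫ f) :
    ∃ N : ℕ, 0 < N ∧ ∃ (d : ℕ) (a : Fin d → ℤ),
      f ^ N = ∏ i : Fin d, ((fun h : A ⟶ A => h ≫ πA)^[(i : ℕ)] (𝟙 A)) ^ (a i) := by
  have hA := Groth.Agent.AVFin.isPowMap_of πA hπAb hπAle hπAapp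
  obtain ⟨N, d, a, hN, h⟩ := Groth.Agent.AVFin.exists_nsmul_eq_aeval hA (EndAV.End.of f) fun g =>
    EndAV.End.ext (hf g.toHom inferInstance).symm
  have hit : ∀ i : ℕ, ((fun h : A ⟶ A => h ≫ πA)^[i] (𝟙 A)) = (EndAV.End.of πA ^ i).toHom := by
    intro i
    induction i with
    | zero => rw [Function.iterate_zero_apply, pow_zero]; rfl
    | succ i ih => rw [Function.iterate_succ_apply', ih, pow_succ']; rfl
  refine ⟨N, hN, d, a, ?_⟩
  let ev : EndAV.End A →+ Additive (A ⟶ A) :=
    { toFun φ := Additive.ofMul φ.toHom, map_zero' := rfl, map_add' _ _ := rfl }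
  have h1 := congrArg ev h
  rw [map_sum, map_nsmul] at h1
  simp only [map_zsmul] at h1
  simp only [hit]
  refine (congrArg Additive.toMul h1).trans ?_
  rw [toMul_sum]
  rfl

end Groth.Agent.S14938
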