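import Groth.Statements.S14942
import Groth.Agent.AVRosati.MinCharPoly
import Groth.Agent.S15655

set_option backward.isDefEq.respectTransparency false
set_option backward.isDefEq.respectTransparency.types false
-- import your own Groth.Agent.* helpers here

set_option autoImplicit false
universe u
open CategoryTheory MonoidalCategory CartesianMonoidalCategory MonObj GrpObj AlgebraicGeometry
open AbVar

namespace Groth.Agent.S14942

/-- Part 1: let A be a simple abelian variety over a finite field k with q elements — a proper,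
geometrically integral commutative group scheme over k whose only abelian subvarieties over k
(geometrically integral closed subgroup schemes) are the trivial subgroup and A itself — with
q-Frobenius endomorphism π_A (the identity on points, the q-th power map on sections; a
homomorphism). Let Ω be an algebraic closure of k, l a prime invertible in k, and assume (as is the
case) that the l-adic Tate module of Ω-points T_l A is free of finite rank over ℤ_l. Then the
characteristic polynomial of T_l(π_A), which has rational coefficients, is a power of the minimal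
polynomial of π_A over ℚ: viewed over ℚ_l it equals h^n for some polynomial h with rational
coefficients irreducible over ℚ and some n. -/
theorem result (k Ω : Type u) [Field k] [Finite k] [Field Ω] [Algebra k Ω] [IsAlgClosure k Ω]
    (l : ℕ) [Fact l.Prime] (hl : (l : k) ≠ 0) (A : Over (Spec (CommRingCat.of k)))
    [GrpObj A] [IsCommMonObj A] [IsProper A.hom] [GeometricallyIntegral A.hom]
    (hsimple : ∀ (B : Over (Spec (CommRingCat.of k))) [GrpObj B] [GeometricallyIntegral B.hom] (i : B ⟶ A) [IsMonHom i]
      [IsClosedImmersion i.left], Subsingleton B.left ∨ IsIso i)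
    (πA : A ⟶ A) [IsMonHom πA] (hπAb : πA.left.base = 𝟙 _)
    (hπAle : ∀ U : A.left.Opens, U ≤ πA.left ⁻¹ᵁ U)
    (hπAapp : ∀ (U : A.left.Opens) (s : Γ(A.left, U)), (πA.left.appLE U U (hπAle U)).hom s = s ^ Nat.card k)
    [Module.Free ℤ_[l] (AbDual.TateMod A l (SGA7.pt Ω))] [Module.Finite ℤ_[l] (AbDual.TateMod A l (SGA7.pt Ω))] :
    ∃ (h : Polynomial ℚ) (n : ℕ), Irreducible h ∧
      ((AbDual.tateMapₗ (l := l) (T := SGA7.pt Ω) πA).charpoly).map (algebraMap ℤ_[l] ℚ_[l]) =
        (h.map (algebraMap ℚ ℚ_[l])) ^ n := by
  haveI : IsAlgClosed Ω := IsAlgClosure.isAlgClosed k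
  obtain ⟨g, hg⟩ := AVDegPoly.exists_dim (A := A)
  obtain ⟨P₀, hm, hd, hval, hcp⟩ := AVDegPoly.exists_charpoly hg (EndAV.End.of πA)
  haveI := AVRosati.finite_End0 (A := A)
  set mp := minpoly ℚ (EndAV.toEnd0 (EndAV.End.of πA)) with hmpdef
  have hmp : IsIntegral ℚ (EndAV.toEnd0 (EndAV.End.of πA)) := Algebra.IsIntegral.isIntegral _
  haveI : NoZeroDivisors (EndAV.End0 A) := ⟨fun {a b} hab => or_iff_not_imp_left.2 fun ha =>
    ((S15655.result k A hsimple a ha).mul_right_eq_zero).1 hab⟩
  rw [show (AbDual.tateMapₗ (l := l) (T := SGA7.pt (K := k) Ω) πA).charpoly = P₀.map (Int.castRingHom ℤ_[l]) from hcp Ω l hl,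
    Polynomial.map_map,
    show (algebraMap ℤ_[l] ℚ_[l]).comp (Int.castRingHom ℤ_[l]) = (algebraMap ℚ ℚ_[l]).comp (Int.castRingHom ℚ) from
      RingHom.ext_int _ _, ← Polynomial.map_map]
  rcases subsingleton_or_nontrivial (EndAV.End0 A) with hs | hs
  · refine ⟨Polynomial.X, 0, Polynomial.irreducible_X, ?_⟩
    have hdvd := AVRosati.charpoly_dvd_minpoly_pow (EndAV.End.of πA) hg P₀ hm hd hval
    rw [minpoly.subsingleton, one_pow] at hdvd
    rw [(hm.map _).eq_one_of_isUnit (isUnit_of_dvd_one hdvd), Polynomial.map_one, pow_zero]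
  · haveI : IsDomain (EndAV.End0 A) := NoZeroDivisors.to_isDomain _
    have hirr : Irreducible mp := minpoly.irreducible hmp
    obtain ⟨n, hn⟩ := AVRosati.charpoly_eq_minpoly_pow hg (EndAV.End.of πA) hirr P₀ hm hd hval
    exact ⟨mp, n, hirr, by rw [hn, Polynomial.map_pow]⟩


end Groth.Agent.S14942
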