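import Groth.Statements.S14968
import Groth.Agent.SimpsonEst.Family
-- import your own Groth.Agent.* helpers here

set_option autoImplicit false
open CategoryTheory CategoryTheory.Limits AlgebraicGeometry
open Coherent

set_option linter.style.haveILetI false
namespace Groth.Agent.S14968

/-- Over the complex numbers, fix a polynomial P with rational coefficients, let d be its degree, and
fix a rational number b. The family of coherent sheaves E on projective n-space with Hilbert
polynomial P (the Euler characteristic of E(m) is P(m) for every integer m), pure of dimension d
(the support of E has dimension d and so does the support of every nonzero coherent subsheaf), and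
such that every nonzero coherent subsheaf G has slope at most b, is bounded. Here the slope of G is
((d-1)! times the coefficient of degree d-1) divided by (d! times the coefficient of degree d) of
the Hilbert polynomial of G, and boundedness means that all members of the family occur, up to
isomorphism, among the fibres at complex points of one coherent sheaf on the product of projective
space with a scheme of finite type. (The published statement is for a projective scheme with a fixed
very ample invertible sheaf; pushing forward along a closed embedding into projective space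
preserves Hilbert polynomials, purity and slopes of subsheaves, so this row is the case of
projective n-space.) -/
theorem result (n : ℕ) (P : Polynomial ℚ) (b : ℚ) :
    Pic13.IsBounded ℂ (CohB1.ProjSpace n ℂ) (fun E =>
      Coh.IsCoh E ∧ (∀ m : ℤ, (Curv2.euler ℂ (CohB1.ProjSpace n ℂ) (CohB1.tensorMod E (Twist.twistProjSpace n ℂ m)) : ℚ) = P.eval (m : ℚ)) ∧
      topologicalKrullDim ↥(CohB1.support E) = (P.natDegree : WithBot ℕ∞) ∧
      ∀ (G : (CohB1.ProjSpace n ℂ).Modules) (ι : G ⟶ E), Mono ι → Coh.IsCoh G → ¬ IsZero G →
        topologicalKrullDim ↥(CohB1.support G) = (P.natDegree : WithBot ℕ∞) ∧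
        ∀ ψ : Polynomial ℚ, (∀ m : ℤ, (Curv2.euler ℂ (CohB1.ProjSpace n ℂ) (CohB1.tensorMod G (Twist.twistProjSpace n ℂ m)) : ℚ) = ψ.eval (m : ℚ)) →
          W4c2simpsonmod1.slopeOf P.natDegree ψ ≤ b) := by
  open Groth.Agent Groth.Agent.SimpsonEst Groth.Agent.HilbBound in
  classical
  refine Bdd.isBounded_mono (isBounded_pureBd ℂ n P.natDegree P b) ?_
  rintro E ⟨hE, hP, hdim, h⟩
  exact ⟨E, ⟨pureBd_of_dim hE hdim fun G ι hι hG hG0 => ⟨(h G ι hι hG hG0).1,
    fun ψ hψ _ => (h G ι hι hG hG0).2 ψ hψ⟩, fun t => hP t⟩, ⟨Iso.refl _⟩⟩

end Groth.Agent.S14968
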