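import Groth.Statements.S14970
import Groth.Agent.SimpsonEst.CompareAll
-- import your own Groth.Agent.* helpers here

set_option autoImplicit false
open CategoryTheory CategoryTheory.Limits AlgebraicGeometry
open Coherent

set_option linter.style.haveILetI false
namespace Groth.Agent.S14970

/-- Over the complex numbers, fix n and a polynomial P with rational coefficients; let d be its degree
and write r(ψ) for d! times the degree-d coefficient of a polynomial ψ. There is an integer N₀ such
that for every integer N ≥ N₀ the following holds. Let E be a coherent sheaf on projective n-space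
with Hilbert polynomial P which is pure of dimension d (the support of E and of each nonzero
coherent subsheaf has dimension d) and p-semistable (for every nonzero coherent subsheaf G with
Hilbert polynomial ψ one has ψ(m)/r(ψ) ≤ P(m)/r(P) for all large integers m). Then for every nonzero
coherent subsheaf F of E with Hilbert polynomial ψ, the dimension of the space of global sections of
F(N) divided by r(ψ) is at most P(N)/r(P), and if equality holds then ψ(m)/r(ψ) = P(m)/r(P) for
every integer m. (The published statement is for sheaves on the fibres of a projective morphism,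
uniformly in the fibre; this row is the case of projective n-space itself, through which every fibre
embeds.) -/
theorem result (n : ℕ) (P : Polynomial ℚ) :
    ∃ N₀ : ℤ, ∀ N : ℤ, N₀ ≤ N → ∀ (E : (CohB1.ProjSpace n ℂ).Modules), Coh.IsCoh E →
      (∀ m : ℤ, (Curv2.euler ℂ (CohB1.ProjSpace n ℂ) (CohB1.tensorMod E (Twist.twistProjSpace n ℂ m)) : ℚ) = P.eval (m : ℚ)) →
      topologicalKrullDim ↥(CohB1.support E) = (P.natDegree : WithBot ℕ∞) →
      (∀ (G : (CohB1.ProjSpace n ℂ).Modules) (ι : G ⟶ E), Mono ι → Coh.IsCoh G → ¬ IsZero G →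
        topologicalKrullDim ↥(CohB1.support G) = (P.natDegree : WithBot ℕ∞) ∧
        ∀ ψ : Polynomial ℚ, (∀ m : ℤ, (Curv2.euler ℂ (CohB1.ProjSpace n ℂ) (CohB1.tensorMod G (Twist.twistProjSpace n ℂ m)) : ℚ) = ψ.eval (m : ℚ)) →
          W4c2simpsonmod1.RedLE P.natDegree ψ P) →
      ∀ (F : (CohB1.ProjSpace n ℂ).Modules) (ι : F ⟶ E), Mono ι → Coh.IsCoh F → ¬ IsZero F →
        ∀ ψ : Polynomial ℚ, (∀ m : ℤ, (Curv2.euler ℂ (CohB1.ProjSpace n ℂ) (CohB1.tensorMod F (Twist.twistProjSpace n ℂ m)) : ℚ) = ψ.eval (m : ℚ)) →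
          (Module.finrank ℂ (Coh.HH (CohB1.ProjSpace n ℂ) (CohB1.tensorMod F (Twist.twistProjSpace n ℂ N)) 0) : ℚ) / W4c2simpsonmod1.rankOf P.natDegree ψ ≤
              P.eval (N : ℚ) / W4c2simpsonmod1.rankOf P.natDegree P ∧
          ((Module.finrank ℂ (Coh.HH (CohB1.ProjSpace n ℂ) (CohB1.tensorMod F (Twist.twistProjSpace n ℂ N)) 0) : ℚ) / W4c2simpsonmod1.rankOf P.natDegree ψ =
              P.eval (N : ℚ) / W4c2simpsonmod1.rankOf P.natDegree P →
            ∀ m : ℤ, ψ.eval (m : ℚ) / W4c2simpsonmod1.rankOf P.natDegree ψ =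
              P.eval (m : ℚ) / W4c2simpsonmod1.rankOf P.natDegree P) := by
    open Groth.Agent Groth.Agent.SimpsonEst Groth.Agent.HilbBound in
    classical
    haveI : IsProper (CohB1.ProjSpace n ℂ ↘ Spec (CommRingCat.of ℂ)) := PnCoh.Chow.isProper_toSpec n ℂ
    haveI : IsNoetherian (CohB1.ProjSpace n ℂ) := Proj16.isNoetherian_proj _
    have hL := isAmple_O1 (k := ℂ) (n := n)
    obtain ⟨N₀, hN₀⟩ := exists_compare_all ℂ n P.natDegree P
    refine ⟨(N₀ : ℤ), fun N hN E hE hP hdim h F ι hι hF hF0 ψ hψ => ?_⟩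
    obtain ⟨N, rfl⟩ := Int.eq_ofNat_of_zero_le ((Int.natCast_nonneg N₀).trans hN)
    haveI := hι
    have hposP : 0 < StabCat.alpha P.natDegree P := HilbPoly.alpha_pos (k := ℂ) (X := CohB1.ProjSpace n ℂ)
      hL hE hdim ((isHilbPoly_iff hE).2 hP)
    have hd : HilbPoly.DimLT E (P.natDegree + 1) := by
      show topologicalKrullDim ↥(CohB1.support E) < _
      rw [hdim]
      exact_mod_cast Nat.lt_succ_self _
    have hS : Semi E P.natDegree P := by
      refine ⟨hE, fun x hx => GrothLem.deg_eq_of_isPure (CohB1.ProjSpace n ℂ ↘ Spec (CommRingCat.of ℂ)) hE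
        (fun G κ hκ hG hG0 => (h G κ hκ hG hG0).1) hx, hd, hP, hposP, fun G κ hκ hG hG0 φ hφ => ?_⟩
      obtain ⟨hdG, hs⟩ := h G κ hκ hG hG0
      have hφpos : 0 < StabCat.alpha P.natDegree φ := HilbPoly.alpha_pos (k := ℂ) (X := CohB1.ProjSpace n ℂ)
        hL hG hdG ((isHilbPoly_iff hG).2 hφ)
      obtain ⟨M, hM⟩ := hs φ hφ
      refine ⟨hφpos, M.toNat, fun m hm => ?_⟩
      have h1 := hM (m : ℤ) (by omega)
      change _ / StabCat.alpha P.natDegree φ ≤ _ / StabCat.alpha P.natDegree P at h1
      rw [div_le_div_iff₀ hφpos hposP, Int.cast_natCast] at h1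
      linarith
    obtain ⟨h1, h2⟩ := hN₀ E hS F ι hι hF hF0 ψ hψ N (by exact_mod_cast hN)
    have hψpos : 0 < StabCat.alpha P.natDegree ψ := (hS.sub F ι hι hF hF0 ψ hψ).1
    refine ⟨h1, fun he m => ?_⟩
    have h3 := congrArg (fun p => Polynomial.eval (m : ℚ) p) (h2 he)
    simp only [Polynomial.eval_smul, smul_eq_mul] at h3
    show _ / StabCat.alpha P.natDegree ψ = _ / StabCat.alpha P.natDegree P
    rw [div_eq_div_iff hψpos.ne' hposP.ne']
    linarith

end Groth.Agent.S14970
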