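import Groth.Statements.S14972
import Groth.Agent.HilbBound.HNChain
-- import your own Groth.Agent.* helpers here

set_option autoImplicit false
open CategoryTheory CategoryTheory.Limits AlgebraicGeometry
open Coherent

namespace Groth.Agent.S14972

/-- Over the complex numbers, let E be a coherent sheaf on projective n-space which is pure of dimension
d (its support and the support of every nonzero coherent subsheaf have dimension d). Then there is
exactly one finite chain of coherent subsheaves 0 = E_0 ⊂ E_1 ⊂ ⋯ ⊂ E_k = E such that each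
successive quotient E_j/E_(j-1) is pure of dimension d and p-semistable (every nonzero coherent
subsheaf G of it with Hilbert polynomial ψ satisfies ψ(m)/r(ψ) ≤ φ(m)/r(φ) for all large integers m,
φ being the Hilbert polynomial of the quotient and r denoting d! times the degree-d coefficient) and
the reduced Hilbert polynomials φ/r(φ) of consecutive quotients strictly decrease for large
arguments. The chain is recorded as a finite set of subobjects of E, totally ordered by inclusion,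
containing 0 and E, all of whose members are coherent. (The published statement is for modules over
a sheaf of rings of differential operators and filtrations by submodules stable under it, and does
not assume E pure, although quotients pure of dimension d force it; this row is the case of the
structure sheaf, where every coherent subsheaf is stable, and assumes E pure.) -/
theorem result (n d : ℕ)
    (E : (CohB1.ProjSpace n ℂ).Modules) (hE : Coh.IsCoh E)
    (hpure : (topologicalKrullDim ↥(CohB1.support E) = (d : WithBot ℕ∞) ∧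
          ∀ (G : (CohB1.ProjSpace n ℂ).Modules) (ι : G ⟶ E), Mono ι → Coh.IsCoh G → ¬ IsZero G → topologicalKrullDim ↥(CohB1.support G) = (d : WithBot ℕ∞))) :
    ∃! C : Finset (Subobject E),
      ⊥ ∈ C ∧ ⊤ ∈ C ∧ IsChain (fun A B : Subobject E => A ≤ B) (↑C : Set (Subobject E)) ∧
      (∀ A ∈ C, Coh.IsCoh (A : (CohB1.ProjSpace n ℂ).Modules)) ∧
      (∀ A ∈ C, ∀ B ∈ C, ∀ hAB : A < B, (∀ D ∈ C, ¬ (A < D ∧ D < B)) →
        (topologicalKrullDim ↥(CohB1.support (cokernel (Subobject.ofLE A B hAB.le))) = (d : WithBot ℕ∞) ∧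
          ∀ (G : (CohB1.ProjSpace n ℂ).Modules) (ι : G ⟶ (cokernel (Subobject.ofLE A B hAB.le))), Mono ι → Coh.IsCoh G → ¬ IsZero G → topologicalKrullDim ↥(CohB1.support G) = (d : WithBot ℕ∞)) ∧
        (∀ (G : (CohB1.ProjSpace n ℂ).Modules) (ι : G ⟶ (cokernel (Subobject.ofLE A B hAB.le))), Mono ι → Coh.IsCoh G → ¬ IsZero G →
          ∀ φ ψ : Polynomial ℚ, (∀ m : ℤ, (Curv2.euler ℂ (CohB1.ProjSpace n ℂ) (CohB1.tensorMod (cokernel (Subobject.ofLE A B hAB.le)) (Twist.twistProjSpace n ℂ m)) : ℚ) = φ.eval (m : ℚ)) → (∀ m : ℤ, (Curv2.euler ℂ (CohB1.ProjSpace n ℂ) (CohB1.tensorMod G (Twist.twistProjSpace n ℂ m)) : ℚ) = ψ.eval (m : ℚ)) →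
            W4c2simpsonmod1.RedLE d ψ φ)) ∧
      (∀ A ∈ C, ∀ B ∈ C, ∀ B' ∈ C, ∀ hAB : A < B, ∀ hBB : B < B',
        (∀ D ∈ C, ¬ (A < D ∧ D < B)) → (∀ D ∈ C, ¬ (B < D ∧ D < B')) →
        ∀ ψ ψ' : Polynomial ℚ, (∀ m : ℤ, (Curv2.euler ℂ (CohB1.ProjSpace n ℂ) (CohB1.tensorMod (cokernel (Subobject.ofLE A B hAB.le)) (Twist.twistProjSpace n ℂ m)) : ℚ) = ψ.eval (m : ℚ)) →
          (∀ m : ℤ, (Curv2.euler ℂ (CohB1.ProjSpace n ℂ) (CohB1.tensorMod (cokernel (Subobject.ofLE B B' hBB.le)) (Twist.twistProjSpace n ℂ m)) : ℚ) = ψ'.eval (m : ℚ)) →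
          W4c2simpsonmod1.RedLT d ψ' ψ) := by
  classical
  haveI : IsProper (CohB1.ProjSpace n ℂ ↘ Spec (CommRingCat.of ℂ)) := PnCoh.Chow.isProper_toSpec n ℂ
  have hL := HilbBound.isAmple_O1 (k := ℂ) (n := n)
  have hp : ShStab.IsPure (CohB1.ProjSpace n ℂ) E d := hpure.2
  obtain ⟨s, hs⟩ := ShStabLib.exists_isHN (k := ℂ) (τ := ShStabLib.Tr.id d) hL hE hp
  have hfac : ∀ (u : LTSeries (Subobject E)) (A B : Subobject E) (t : Fin u.length) (h : A ≤ B),
      u t.castSucc = A → u t.succ = B → cokernel (Subobject.ofLE A B h) = StabCat.factor u t := by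
    intro u A B t h hA hB
    subst hA hB
    rfl
  refine ⟨Finset.univ.image (fun i => s i), ⟨?_, ?_, ?_, ?_, ?_, ?_⟩, fun C hC => ?_⟩
  · exact Finset.mem_image.2 ⟨0, Finset.mem_univ _, hs.head⟩
  · exact Finset.mem_image.2 ⟨Fin.last _, Finset.mem_univ _, hs.last⟩
  · intro a ha b hb _
    obtain ⟨i, -, rfl⟩ := Finset.mem_image.1 ha
    obtain ⟨j, -, rfl⟩ := Finset.mem_image.1 hb
    exact (le_total i j).imp (fun h => s.monotone h) (fun h => s.monotone h)
  · intro a ha
    obtain ⟨i, -, rfl⟩ := Finset.mem_image.1 ha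
    exact HilbBound.isCoh_member hE hs i
  · intro A hA B hB hAB hcov
    obtain ⟨i, -, rfl⟩ := Finset.mem_image.1 hA
    obtain ⟨j, -, rfl⟩ := Finset.mem_image.1 hB
    obtain ⟨t, h1, h2⟩ := HilbBound.exists_step s hAB fun l => hcov _ (Finset.mem_image.2 ⟨l, Finset.mem_univ _, rfl⟩)
    rw [hfac s _ _ t hAB.le h1 h2]
    exact (HilbBound.ss_iff (hs.ss t).coh).1 (hs.ss t)
  · intro A hA B hB B' hB' hAB hBB hcov hcov'
    obtain ⟨i, -, rfl⟩ := Finset.mem_image.1 hA
    obtain ⟨j, -, rfl⟩ := Finset.mem_image.1 hB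
    obtain ⟨l, -, rfl⟩ := Finset.mem_image.1 hB'
    obtain ⟨t, h1, h2⟩ := HilbBound.exists_step s hAB fun m => hcov _ (Finset.mem_image.2 ⟨m, Finset.mem_univ _, rfl⟩)
    obtain ⟨t', h1', h2'⟩ := HilbBound.exists_step s hBB fun m => hcov' _ (Finset.mem_image.2 ⟨m, Finset.mem_univ _, rfl⟩)
    have htt : t.val + 1 = t'.val := congrArg Fin.val (s.strictMono.injective (h2.trans h1'.symm))
    rw [hfac s _ _ t hAB.le h1 h2, hfac s _ _ t' hBB.le h1' h2']
    exact (HilbBound.lt_iff (hs.ss t) (hs.ss t')).1 (hs.lt t t' htt)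
  · obtain ⟨hb, ht, hchain, hcoh, hss, hlt⟩ := hC
    obtain ⟨u, huh, hul, humem⟩ := HilbBound.exists_series (bot := (⊥ : Subobject E)) (top := ⊤) (fun _ => bot_le) (fun _ => le_top) C hb ht hchain
    have hcov : ∀ (t : Fin u.length), ∀ D ∈ C, ¬ (u t.castSucc < D ∧ D < u t.succ) := fun t D hD => by
      obtain ⟨l, rfl⟩ := (humem D).1 hD
      exact HilbBound.not_between u t l
    have hu1 : ∀ t : Fin u.length, ShStabLib.SS ℂ (Twist.twistProjSpace n ℂ 1) (ShStabLib.Tr.id d) (StabCat.factor u t) := fun t => by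
      have hA := (humem _).2 ⟨t.castSucc, rfl⟩
      have hB := (humem _).2 ⟨t.succ, rfl⟩
      have hc : Coh.IsCoh (StabCat.factor u t) := QCoh.isCoh_cokernel (hcoh _ hA).1 (hcoh _ hB) _
      exact (HilbBound.ss_iff hc).2 (hss _ hA _ hB (u.step t) (hcov t))
    have hu : ShStabLib.IsHN ℂ (Twist.twistProjSpace n ℂ 1) (ShStabLib.Tr.id d) E u := by
      refine ⟨huh, hul, hu1, fun t t' htt => (HilbBound.lt_iff (hu1 t) (hu1 t')).2 ?_⟩
      have hA := (humem _).2 ⟨t.castSucc, rfl⟩
      have hB := (humem _).2 ⟨t.succ, rfl⟩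
      have hB' := (humem _).2 ⟨t'.succ, rfl⟩
      have heq : u t'.castSucc = u t.succ := congrArg _ (Fin.ext htt.symm)
      have hlt' : u t.succ < u t'.succ := heq ▸ u.step t'
      have key := hlt _ hA _ hB _ hB' (u.step t) hlt' (hcov t) (fun D hD => heq ▸ hcov t' D hD)
      rw [hfac u _ _ t' hlt'.le heq rfl] at key
      exact key
    obtain rfl := ShStabLib.IsHN.unique hL hE hp hu hs
    ext D
    rw [humem, Finset.mem_image]
    simp

end Groth.Agent.S14972
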