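import Groth.Statements.S14974
import Groth.Agent.GrothLem.Semistable
-- import your own Groth.Agent.* helpers here

set_option autoImplicit false
open CategoryTheory CategoryTheory.Limits AlgebraicGeometry
open Coherent

set_option linter.style.haveILetI false

namespace Groth.Agent.S14974

/-- For plain coherent sheaves and the two Hilbert-polynomial notions of stability. Over the complex
numbers, let S be a separated scheme of finite type, X a closed subscheme of projective n-space over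
S, d a natural number, and E a coherent sheaf on X, flat over S, whose restriction E_t to the fibre
of X over every complex point t of S is pure of dimension d (the support of E_t and of each of its
nonzero coherent subsheaves has dimension d). Hilbert polynomials on a fibre are computed with the
twisting sheaves pulled back from projective space over S, and r(ψ) denotes d! times the degree-d
coefficient of ψ. Then there is an open subset U of S such that, for every complex point t of S, E_t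
is p-semistable (for every nonzero coherent subsheaf G of E_t, with Hilbert polynomials φ of E_t and
ψ of G, ψ(m)/r(ψ) ≤ φ(m)/r(φ) for all large integers m) if and only if t lies in U; and there is an
open subset U' of S such that E_t is p-stable (strict inequality for every nonzero proper coherent
subsheaf) if and only if t lies in U'. (The published statement is for modules over a sheaf of rings
of differential operators, also covers slope stability, and tests all geometric points; this row is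
the case of the structure sheaf, tested at complex points, and assumes the fibres pure of dimension
d.) -/
theorem result
    (S : Scheme.{0}) (sS : S ⟶ Spec (CommRingCat.of ℂ)) [LocallyOfFiniteType sS] [QuasiCompact sS] [IsSeparated sS]
    (n : ℕ) (X : Scheme.{0}) (i : X ⟶ CohB1.ProjSpaceOver n S) [IsClosedImmersion i] (d : ℕ)
    (E : X.Modules) (hE : Coh.IsCoh E) (hflat : FlatMod.IsFlatOver (i ≫ (CohB1.ProjSpaceOver n S ↘ S)) E)
    (hpure : ∀ (t : Spec (CommRingCat.of ℂ) ⟶ S), t ≫ sS = 𝟙 (Spec (CommRingCat.of ℂ)) →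
      topologicalKrullDim ↥(CohB1.support ((Scheme.Modules.pullback (pullback.fst (i ≫ (CohB1.ProjSpaceOver n S ↘ S)) t)).obj E)) = (d : WithBot ℕ∞) ∧
      ∀ (G : (pullback (i ≫ (CohB1.ProjSpaceOver n S ↘ S)) t).Modules) (ι : G ⟶ ((Scheme.Modules.pullback (pullback.fst (i ≫ (CohB1.ProjSpaceOver n S ↘ S)) t)).obj E)), Mono ι → Coh.IsCoh G → ¬ IsZero G → topologicalKrullDim ↥(CohB1.support G) = (d : WithBot ℕ∞)) :
    (∃ U : S.Opens, ∀ (t : Spec (CommRingCat.of ℂ) ⟶ S), t ≫ sS = 𝟙 (Spec (CommRingCat.of ℂ)) →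
      ((∀ (G : (pullback (i ≫ (CohB1.ProjSpaceOver n S ↘ S)) t).Modules) (ι : G ⟶ ((Scheme.Modules.pullback (pullback.fst (i ≫ (CohB1.ProjSpaceOver n S ↘ S)) t)).obj E)), Mono ι → Coh.IsCoh G → ¬ IsZero G →
          ∀ φ ψ : Polynomial ℚ, (∀ m : ℤ, (@Curv2.euler ℂ _ (pullback (i ≫ (CohB1.ProjSpaceOver n S ↘ S)) t) ⟨pullback.snd (i ≫ (CohB1.ProjSpaceOver n S ↘ S)) t⟩ (CohB1.tensorMod ((Scheme.Modules.pullback (pullback.fst (i ≫ (CohB1.ProjSpaceOver n S ↘ S)) t)).obj E) ((Scheme.Modules.pullback (pullback.fst (i ≫ (CohB1.ProjSpaceOver n S ↘ S)) t ≫ i)).obj (Twist.twistOver n S m))) : ℚ) = φ.eval (m : ℚ)) →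
            (∀ m : ℤ, (@Curv2.euler ℂ _ (pullback (i ≫ (CohB1.ProjSpaceOver n S ↘ S)) t) ⟨pullback.snd (i ≫ (CohB1.ProjSpaceOver n S ↘ S)) t⟩ (CohB1.tensorMod G ((Scheme.Modules.pullback (pullback.fst (i ≫ (CohB1.ProjSpaceOver n S ↘ S)) t ≫ i)).obj (Twist.twistOver n S m))) : ℚ) = ψ.eval (m : ℚ)) →
            W4c2simpsonmod1.RedLE d ψ φ) ↔ Set.range t.base ⊆ (U : Set S))) ∧
    (∃ U' : S.Opens, ∀ (t : Spec (CommRingCat.of ℂ) ⟶ S), t ≫ sS = 𝟙 (Spec (CommRingCat.of ℂ)) →
      ((∀ (G : (pullback (i ≫ (CohB1.ProjSpaceOver n S ↘ S)) t).Modules) (ι : G ⟶ ((Scheme.Modules.pullback (pullback.fst (i ≫ (CohB1.ProjSpaceOver n S ↘ S)) t)).obj E)), Mono ι → Coh.IsCoh G → ¬ IsZero G → ¬ IsIso ι →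
          ∀ φ ψ : Polynomial ℚ, (∀ m : ℤ, (@Curv2.euler ℂ _ (pullback (i ≫ (CohB1.ProjSpaceOver n S ↘ S)) t) ⟨pullback.snd (i ≫ (CohB1.ProjSpaceOver n S ↘ S)) t⟩ (CohB1.tensorMod ((Scheme.Modules.pullback (pullback.fst (i ≫ (CohB1.ProjSpaceOver n S ↘ S)) t)).obj E) ((Scheme.Modules.pullback (pullback.fst (i ≫ (CohB1.ProjSpaceOver n S ↘ S)) t ≫ i)).obj (Twist.twistOver n S m))) : ℚ) = φ.eval (m : ℚ)) →
            (∀ m : ℤ, (@Curv2.euler ℂ _ (pullback (i ≫ (CohB1.ProjSpaceOver n S ↘ S)) t) ⟨pullback.snd (i ≫ (CohB1.ProjSpaceOver n S ↘ S)) t⟩ (CohB1.tensorMod G ((Scheme.Modules.pullback (pullback.fst (i ≫ (CohB1.ProjSpaceOver n S ↘ S)) t ≫ i)).obj (Twist.twistOver n S m))) : ℚ) = ψ.eval (m : ℚ)) →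
            W4c2simpsonmod1.RedLT d ψ φ) ↔ Set.range t.base ⊆ (U' : Set S))) := by
  open Groth.Agent Groth.Agent.GrothLem in
  classical
  haveI : IsLocallyNoetherian S := LocallyOfFiniteType.isLocallyNoetherian sS
  haveI : CompactSpace S := QuasiCompact.compactSpace_of_compactSpace sS
  haveI : IsNoetherian S := { }
  obtain ⟨U, hU⟩ := exists_open_int i sS (isDestab_redLE d) hE hflat hpure
  obtain ⟨U', hU'⟩ := exists_open_int i sS (isDestab_redLT d) hE hflat hpure
  refine ⟨⟨U, fun t ht => Iff.trans ?_ (hU t ht)⟩, ⟨U', fun t ht => Iff.trans ?_ (hU' t ht)⟩⟩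
  · obtain ⟨hdim, hp⟩ := hpure t ht
    constructor
    · intro h G ι hι hG hG0 φ ψ hφ hψ hbad
      exact hbad.2 (h G ι hι hG hG0 φ ψ hφ hψ)
    · intro h G ι hι hG hG0 φ ψ hφ hψ
      haveI := hι
      have hFt := ZClosLib.isCoh_pullback (pullback.fst (i ≫ CohB1.ProjSpaceOver.toBase n S) t) hE
      obtain ⟨hpos, -⟩ := sub_data i t hE hdim hp ι hι hG hG0 ((hilb_int_iff i t hFt φ).1 hφ)
        ((hilb_int_iff i t hG ψ).1 hψ)
      exact not_not.1 fun hne => h G ι hι hG hG0 φ ψ hφ hψ ⟨hpos.ne', hne⟩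
  · obtain ⟨hdim, hp⟩ := hpure t ht
    have hFt := ZClosLib.isCoh_pullback (pullback.fst (i ≫ CohB1.ProjSpaceOver.toBase n S) t) hE
    constructor
    · intro h G ι hι hG hG0 φ ψ hφ hψ hbad
      haveI := hι
      obtain ⟨-, hiso⟩ := sub_data i t hE hdim hp ι hι hG hG0 ((hilb_int_iff i t hFt φ).1 hφ)
        ((hilb_int_iff i t hG ψ).1 hψ)
      exact hbad.2.2 (h G ι hι hG hG0 (fun hi => hbad.2.1 (hiso.1 hi)) φ ψ hφ hψ)
    · intro h G ι hι hG hG0 hni φ ψ hφ hψ
      haveI := hι
      obtain ⟨hpos, hiso⟩ := sub_data i t hE hdim hp ι hι hG hG0 ((hilb_int_iff i t hFt φ).1 hφ)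
        ((hilb_int_iff i t hG ψ).1 hψ)
      exact not_not.1 fun hne => h G ι hι hG hG0 φ ψ hφ hψ ⟨hpos.ne', fun he => hni (hiso.2 he), hne⟩

end Groth.Agent.S14974
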