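import Groth.Statements.S14976
import Groth.Agent.SimpsonEst.Family
-- import your own Groth.Agent.* helpers here

set_option autoImplicit false
open CategoryTheory CategoryTheory.Limits AlgebraicGeometry
open Coherent

set_option linter.style.haveILetI false
namespace Groth.Agent.S14976

/-- Over the complex numbers, fix a polynomial P with rational coefficients and let d be its degree. The
family of coherent sheaves on projective n-space with Hilbert polynomial P which are pure of
dimension d (the support of the sheaf and of every nonzero coherent subsheaf has dimension d) and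
p-semistable (every nonzero coherent subsheaf G with Hilbert polynomial ψ satisfies ψ(m)/r(ψ) ≤
P(m)/r(P) for all large integers m, where r denotes d! times the degree-d coefficient) is bounded:
all of them occur, up to isomorphism, among the fibres at complex points of one coherent sheaf on
the product of projective space with a scheme of finite type. (The published statement collects the
semistable sheaves on all fibres of a projective morphism over a base of finite type; through an
embedding of the fibres into a fixed projective space this is the case stated here.) -/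
theorem result (n : ℕ) (P : Polynomial ℚ) :
    Pic13.IsBounded ℂ (CohB1.ProjSpace n ℂ) (fun E =>
      Coh.IsCoh E ∧ (∀ m : ℤ, (Curv2.euler ℂ (CohB1.ProjSpace n ℂ) (CohB1.tensorMod E (Twist.twistProjSpace n ℂ m)) : ℚ) = P.eval (m : ℚ)) ∧
      topologicalKrullDim ↥(CohB1.support E) = (P.natDegree : WithBot ℕ∞) ∧
      ∀ (G : (CohB1.ProjSpace n ℂ).Modules) (ι : G ⟶ E), Mono ι → Coh.IsCoh G → ¬ IsZero G →
        topologicalKrullDim ↥(CohB1.support G) = (P.natDegree : WithBot ℕ∞) ∧
        ∀ ψ : Polynomial ℚ, (∀ m : ℤ, (Curv2.euler ℂ (CohB1.ProjSpace n ℂ) (CohB1.tensorMod G (Twist.twistProjSpace n ℂ m)) : ℚ) = ψ.eval (m : ℚ)) →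
          W4c2simpsonmod1.RedLE P.natDegree ψ P) := by
  open Groth.Agent Groth.Agent.SimpsonEst Groth.Agent.HilbBound in
  classical
  refine Bdd.isBounded_mono (isBounded_pureBd ℂ n P.natDegree P (StabCat.hatSlope P.natDegree P)) ?_
  rintro E ⟨hE, hP, hdim, h⟩
  haveI : IsProper (CohB1.ProjSpace n ℂ ↘ Spec (CommRingCat.of ℂ)) := PnCoh.Chow.isProper_toSpec n ℂ
  have hpos : 0 < StabCat.alpha P.natDegree P := HilbPoly.alpha_pos (k := ℂ) (X := CohB1.ProjSpace n ℂ)
    (isAmple_O1 (k := ℂ) (n := n)) hE hdim ((isHilbPoly_iff hE).2 hP)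
  refine ⟨E, ⟨pureBd_of_dim hE hdim fun G ι hι hG hG0 => ⟨(h G ι hι hG hG0).1,
    fun ψ hψ hψpos => ?_⟩, fun t => hP t⟩, ⟨Iso.refl _⟩⟩
  haveI := hι
  have hψd := natDegree_sub_le_dim ι hG (show HilbPoly.DimLT E (P.natDegree + 1) by
    show topologicalKrullDim ↥(CohB1.support E) < _
    rw [hdim]
    exact_mod_cast Nat.lt_succ_self _) hψ
  obtain ⟨N, hN⟩ := (h G ι hι hG hG0).2 ψ hψ
  refine (div_le_iff₀ hψpos).2 (slope_le_of_cross_le hψpos hpos hψd le_rfl ⟨N.toNat, fun m hm => ?_⟩)
  have h1 := hN (m : ℤ) (by omega)
  change _ / StabCat.alpha P.natDegree ψ ≤ _ / StabCat.alpha P.natDegree P at h1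
  rw [div_le_div_iff₀ hψpos hpos, Int.cast_natCast] at h1
  linarith

end Groth.Agent.S14976
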