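import Groth.Statements.S14977
import Groth.Agent.GrothLem.Semistable
-- import your own Groth.Agent.* helpers here

set_option autoImplicit false
open CategoryTheory CategoryTheory.Limits AlgebraicGeometry
open Coherent

set_option linter.style.haveILetI false

namespace Groth.Agent.S14977

/-- For plain coherent sheaves and the two slope notions of stability. Over the complex numbers, let S
be a separated scheme of finite type, X a closed subscheme of projective n-space over S, d a natural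
number, and E a coherent sheaf on X, flat over S, whose restriction E_t to the fibre of X over every
complex point t of S is pure of dimension d (the support of E_t and of each of its nonzero coherent
subsheaves has dimension d). Hilbert polynomials on a fibre are computed with the twisting sheaves
pulled back from projective space over S; for a polynomial ψ write r(ψ) for d! times its degree-d
coefficient and μ(ψ) for ((d-1)! times its degree-(d-1) coefficient) divided by r(ψ). Then there is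
an open subset U of S such that, for every complex point t of S, E_t is slope-semistable (μ(ψ) ≤
μ(φ) for every nonzero coherent subsheaf G of E_t, φ and ψ being the Hilbert polynomials of E_t and
G) if and only if t lies in U; and there is an open subset U' of S such that E_t is slope-stable
(μ(ψ) < μ(φ) for every nonzero coherent subsheaf G with r(ψ) < r(φ)) if and only if t lies in U'.
(The published statement is for modules over a sheaf of rings of differential operators and tests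
all geometric points; this row is the case of the structure sheaf, tested at complex points, with
the fibres assumed pure of dimension d.) -/
theorem result
    (S : Scheme.{0}) (sS : S ⟶ Spec (CommRingCat.of ℂ)) [LocallyOfFiniteType sS] [QuasiCompact sS] [IsSeparated sS]
    (n : ℕ) (X : Scheme.{0}) (i : X ⟶ CohB1.ProjSpaceOver n S) [IsClosedImmersion i] (d : ℕ)
    (E : X.Modules) (hE : Coh.IsCoh E) (hflat : FlatMod.IsFlatOver (i ≫ (CohB1.ProjSpaceOver n S ↘ S)) E)
    (hpure : ∀ (t : Spec (CommRingCat.of ℂ) ⟶ S), t ≫ sS = 𝟙 (Spec (CommRingCat.of ℂ)) →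
      topologicalKrullDim ↥(CohB1.support ((Scheme.Modules.pullback (pullback.fst (i ≫ (CohB1.ProjSpaceOver n S ↘ S)) t)).obj E)) = (d : WithBot ℕ∞) ∧
      ∀ (G : (pullback (i ≫ (CohB1.ProjSpaceOver n S ↘ S)) t).Modules) (ι : G ⟶ ((Scheme.Modules.pullback (pullback.fst (i ≫ (CohB1.ProjSpaceOver n S ↘ S)) t)).obj E)), Mono ι → Coh.IsCoh G → ¬ IsZero G → topologicalKrullDim ↥(CohB1.support G) = (d : WithBot ℕ∞)) :
    (∃ U : S.Opens, ∀ (t : Spec (CommRingCat.of ℂ) ⟶ S), t ≫ sS = 𝟙 (Spec (CommRingCat.of ℂ)) →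
      ((∀ (G : (pullback (i ≫ (CohB1.ProjSpaceOver n S ↘ S)) t).Modules) (ι : G ⟶ ((Scheme.Modules.pullback (pullback.fst (i ≫ (CohB1.ProjSpaceOver n S ↘ S)) t)).obj E)), Mono ι → Coh.IsCoh G → ¬ IsZero G →
          ∀ φ ψ : Polynomial ℚ, (∀ m : ℤ, (@Curv2.euler ℂ _ (pullback (i ≫ (CohB1.ProjSpaceOver n S ↘ S)) t) ⟨pullback.snd (i ≫ (CohB1.ProjSpaceOver n S ↘ S)) t⟩ (CohB1.tensorMod ((Scheme.Modules.pullback (pullback.fst (i ≫ (CohB1.ProjSpaceOver n S ↘ S)) t)).obj E) ((Scheme.Modules.pullback (pullback.fst (i ≫ (CohB1.ProjSpaceOver n S ↘ S)) t ≫ i)).obj (Twist.twistOver n S m))) : ℚ) = φ.eval (m : ℚ)) →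
            (∀ m : ℤ, (@Curv2.euler ℂ _ (pullback (i ≫ (CohB1.ProjSpaceOver n S ↘ S)) t) ⟨pullback.snd (i ≫ (CohB1.ProjSpaceOver n S ↘ S)) t⟩ (CohB1.tensorMod G ((Scheme.Modules.pullback (pullback.fst (i ≫ (CohB1.ProjSpaceOver n S ↘ S)) t ≫ i)).obj (Twist.twistOver n S m))) : ℚ) = ψ.eval (m : ℚ)) →
            W4c2simpsonmod1.slopeOf d ψ ≤ W4c2simpsonmod1.slopeOf d φ) ↔ Set.range t.base ⊆ (U : Set S))) ∧
    (∃ U' : S.Opens, ∀ (t : Spec (CommRingCat.of ℂ) ⟶ S), t ≫ sS = 𝟙 (Spec (CommRingCat.of ℂ)) →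
      ((∀ (G : (pullback (i ≫ (CohB1.ProjSpaceOver n S ↘ S)) t).Modules) (ι : G ⟶ ((Scheme.Modules.pullback (pullback.fst (i ≫ (CohB1.ProjSpaceOver n S ↘ S)) t)).obj E)), Mono ι → Coh.IsCoh G → ¬ IsZero G →
          ∀ φ ψ : Polynomial ℚ, (∀ m : ℤ, (@Curv2.euler ℂ _ (pullback (i ≫ (CohB1.ProjSpaceOver n S ↘ S)) t) ⟨pullback.snd (i ≫ (CohB1.ProjSpaceOver n S ↘ S)) t⟩ (CohB1.tensorMod ((Scheme.Modules.pullback (pullback.fst (i ≫ (CohB1.ProjSpaceOver n S ↘ S)) t)).obj E) ((Scheme.Modules.pullback (pullback.fst (i ≫ (CohB1.ProjSpaceOver n S ↘ S)) t ≫ i)).obj (Twist.twistOver n S m))) : ℚ) = φ.eval (m : ℚ)) →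
            (∀ m : ℤ, (@Curv2.euler ℂ _ (pullback (i ≫ (CohB1.ProjSpaceOver n S ↘ S)) t) ⟨pullback.snd (i ≫ (CohB1.ProjSpaceOver n S ↘ S)) t⟩ (CohB1.tensorMod G ((Scheme.Modules.pullback (pullback.fst (i ≫ (CohB1.ProjSpaceOver n S ↘ S)) t ≫ i)).obj (Twist.twistOver n S m))) : ℚ) = ψ.eval (m : ℚ)) →
            W4c2simpsonmod1.rankOf d ψ < W4c2simpsonmod1.rankOf d φ →
            W4c2simpsonmod1.slopeOf d ψ < W4c2simpsonmod1.slopeOf d φ) ↔ Set.range t.base ⊆ (U' : Set S))) := by
  open Groth.Agent Groth.Agent.GrothLem in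
  classical
  haveI : IsLocallyNoetherian S := LocallyOfFiniteType.isLocallyNoetherian sS
  haveI : CompactSpace S := QuasiCompact.compactSpace_of_compactSpace sS
  haveI : IsNoetherian S := { }
  obtain ⟨U, hU⟩ := exists_open_int i sS (isDestab_slopeLE d) hE hflat hpure
  obtain ⟨U', hU'⟩ := exists_open_int i sS (isDestab_slopeLT d) hE hflat hpure
  refine ⟨⟨U, fun t ht => Iff.trans ?_ (hU t ht)⟩, ⟨U', fun t ht => Iff.trans ?_ (hU' t ht)⟩⟩
  · obtain ⟨hdim, hp⟩ := hpure t ht
    constructor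
    · intro h G ι hι hG hG0 φ ψ hφ hψ hbad
      exact hbad.2 (h G ι hι hG hG0 φ ψ hφ hψ)
    · intro h G ι hι hG hG0 φ ψ hφ hψ
      haveI := hι
      have hFt := ZClosLib.isCoh_pullback (pullback.fst (i ≫ CohB1.ProjSpaceOver.toBase n S) t) hE
      obtain ⟨hpos, -⟩ := sub_data i t hE hdim hp ι hι hG hG0 ((hilb_int_iff i t hFt φ).1 hφ)
        ((hilb_int_iff i t hG ψ).1 hψ)
      exact not_not.1 fun hne => h G ι hι hG hG0 φ ψ hφ hψ ⟨hpos.ne', hne⟩
  · obtain ⟨hdim, hp⟩ := hpure t ht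
    have hFt := ZClosLib.isCoh_pullback (pullback.fst (i ≫ CohB1.ProjSpaceOver.toBase n S) t) hE
    constructor
    · intro h G ι hι hG hG0 φ ψ hφ hψ hbad
      exact hbad.2.2 (h G ι hι hG hG0 φ ψ hφ hψ hbad.2.1)
    · intro h G ι hι hG hG0 φ ψ hφ hψ hlt
      haveI := hι
      obtain ⟨hpos, -⟩ := sub_data i t hE hdim hp ι hι hG hG0 ((hilb_int_iff i t hFt φ).1 hφ)
        ((hilb_int_iff i t hG ψ).1 hψ)
      exact not_not.1 fun hne => h G ι hι hG hG0 φ ψ hφ hψ ⟨hpos.ne', hlt, hne⟩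

end Groth.Agent.S14977
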