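import Groth.Statements.S14979
import Groth.Agent.Deform.CoactStab


set_option autoImplicit false
universe u
open CategoryTheory MonoidalCategory CartesianMonoidalCategory MonObj AlgebraicGeometry
open CoactBr

namespace Groth.Agent.S14979
attribute [local instance] CategoryTheory.Hom.monoid CategoryTheory.Hom.group

/-- Let `R` be a local commutative ring, `A` a commutative Hopf algebra over `R` which is finite and
flat as an `R`-module (so `G = Spec A` is a finite flat group scheme over `S = Spec R`), and `B` a
commutative `R`-algebra with a coaction of `A` that is an algebra map (an action of `G` on `X = Spec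
B`) whose ring of invariants is `R` itself: the structure map `R → B^A` is bijective, so that `S` is
the quotient `Y = Spec B^A`. Let `K` be a field over `R` in which exactly the maximal ideal of `R`
vanishes and `x : B → K` an `R`-algebra map, a point of `X` over the closed point of `Y`. Then the
action is free — for every scheme `T` over `S`, every `T`-point of `G` fixing a `T`-point of `X` is
the unit — if and only if the inertia group scheme at `x` is trivial: for every `T` over `Spec K`,
every `T`-point of `G` fixing the point of `X` induced by `x` is the unit. (The published statement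
does not say that `G` is finite over `S`; its proof uses it, and it is assumed here.) -/
theorem result
    (R A B K : Type u) [CommRing R] [IsLocalRing R] [CommRing A] [HopfAlgebra R A]
    [Module.Flat R A] [Module.Finite R A]
    [CommRing B] [Algebra R B] [HopfRep.Comod R A B] [GLin.IsCoactAlg R A B]
    (hC : Function.Bijective (algebraMap R (GLin.invariants R A B)))
    [Field K] [Algebra R K] (hK : RingHom.ker (algebraMap R K) = IsLocalRing.maximalIdeal R)
    (x : B →ₐ[R] K) :
    (∀ (T : Over (Spec (CommRingCat.of R))) (ζ : T ⟶ CoactBr.sp R B) (g : T ⟶ CoactBr.sp R A),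
        lift g ζ ≫ (CoactBr.action R A B).act = ζ → g = 1) ↔
      ∀ (T : Over (Spec (CommRingCat.of R))) (h : T ⟶ CoactBr.sp R K) (g : T ⟶ CoactBr.sp R A),
        lift g (h ≫ CoactBr.pt x) ≫ (CoactBr.action R A B).act = h ≫ CoactBr.pt x → g = 1 := by
  haveI : Module.Projective R A := by
    haveI := Module.free_of_flat_of_isLocalRing (R := R) (P := A)
    infer_instance
  constructor
  · exact fun H T h g hg => H T _ g hg
  intro hx T ζ g hg
  have hnone : ∀ n : Ideal B, ∀ _ : n.IsMaximal,
      (⟨n, inferInstance⟩ : PrimeSpectrum B) ∉ Module.support B (LinearMap.range (Deform.CoactStab.obsMap R A B)) := by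
    intro n hn
    refine Deform.CoactStab.not_mem_support n (Deform.CoactStab.trivial_of_agree x _ ?_ hx)
    haveI := Deform.CoactOrbit.isIntegral_invariants (R := R) (A := A) (B := B)
    have hmax : (n.comap (GLin.invariants R A B).val.toRingHom).IsMaximal :=
      Ideal.isMaximal_comap_of_isIntegral_of_isMaximal (R := GLin.invariants R A B) n
    have hm : (n.comap (GLin.invariants R A B).val.toRingHom).comap (algebraMap R (GLin.invariants R A B)) =
        IsLocalRing.maximalIdeal R := by
      haveI := hmax
      exact IsLocalRing.eq_maximalIdeal (Ideal.comap_isMaximal_of_surjective _ hC.2)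
    ext c
    obtain ⟨r, rfl⟩ := hC.2 c
    have h2 : (IsScalarTower.toAlgHom R B n.ResidueField).comp (GLin.invariants R A B).val (algebraMap R _ r) = 0 ↔
        r ∈ IsLocalRing.maximalIdeal R := by
      rw [← hm, Ideal.mem_comap, Ideal.mem_comap]
      exact Ideal.algebraMap_residueField_eq_zero
    rw [RingHom.mem_ker, RingHom.mem_ker, AlgHom.commutes, ← RingHom.mem_ker, hK]
    exact h2.symm
  haveI := Deform.CoactStab.finite_obs (R := R) (A := A) (B := B)
  have hsupp : Module.support B (LinearMap.range (Deform.CoactStab.obsMap R A B)) = ∅ := by
    refine Set.eq_empty_of_forall_notMem fun p hp => ?_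
    obtain ⟨n, hn, hle⟩ := p.asIdeal.exists_le_maximal p.isPrime.ne_top
    exact hnone n hn (Module.mem_support_mono (show p ≤ ⟨n, hn.isPrime⟩ from hle) hp)
  haveI : Subsingleton (LinearMap.range (Deform.CoactStab.obsMap R A B)) := Module.support_eq_empty_iff.mp hsupp
  exact Deform.CoactStab.eq_one_of_unit ζ g hg (c := 1)
    (Module.mem_annihilator.mpr fun m => Subsingleton.elim _ _) (by rw [map_one]; exact isUnit_one)

end Groth.Agent.S14979
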