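import Groth.Statements.S14982
import Groth.Agent.Deform.CoactStab


set_option autoImplicit false
universe u
open CategoryTheory MonoidalCategory CartesianMonoidalCategory MonObj AlgebraicGeometry
open CoactBr

namespace Groth.Agent.S14982
attribute [local instance] CategoryTheory.Hom.monoid CategoryTheory.Hom.group

/-- Let `R` be a commutative ring, `A` a commutative Hopf algebra over `R` which is finite locally free
as an `R`-module (`G = Spec A` a finite flat group scheme over `S = Spec R`), `B` a commutative
`R`-algebra with a coaction of `A` that is an algebra map (an action of `G` on `X = Spec B`), `C =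
B^A` the ring of invariants and `π : X → Y = Spec C` the quotient map. Let `K` be a field over `R`,
`x : B → K` an `R`-algebra map (a point of `X`) and `y` the image in `Y` of the point underlying
`x`. Then the inertia group scheme at `x` is trivial (for every scheme `T` over `Spec K`, every
`T`-point of `G` fixing the point of `X` induced by `x` is the unit) if and only if there is a flat
morphism locally of finite presentation `Y' → Y` whose image contains `y` and over which the action
becomes free: for every scheme `T` over `S` and every `T`-point `ζ` of `X` whose composite with `π`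
lifts to `Y'`, every `T`-point of `G` fixing `ζ` is the unit (this is freeness of the base-changed
action of `G ×_S Y'` on `X ×_Y Y'`, written through points of `G` and `X`). (`G` finite flat is read
as finite locally free. The published result also says that `X ×_Y Y'` is then a torsor under
`G_{Y'}` and gives a third equivalent condition, that after a further fppf base change the action is
induced from an action of the trivial group; neither is stated here.) -/
theorem result
    (R A B K : Type u) [CommRing R] [CommRing A] [HopfAlgebra R A]
    [Module.Flat R A] [Module.Finite R A] [Module.Projective R A]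
    [CommRing B] [Algebra R B] [HopfRep.Comod R A B] [GLin.IsCoactAlg R A B]
    [Field K] [Algebra R K] (x : B →ₐ[R] K) :
    (∀ (T : Over (Spec (CommRingCat.of R))) (h : T ⟶ CoactBr.sp R K) (g : T ⟶ CoactBr.sp R A),
        lift g (h ≫ CoactBr.pt x) ≫ (CoactBr.action R A B).act = h ≫ CoactBr.pt x → g = 1) ↔
      ∃ (Y' : Scheme.{u}) (c : Y' ⟶ Spec (CommRingCat.of (GLin.invariants R A B))),
        Flat c ∧ LocallyOfFinitePresentation c ∧
        (∃ y' : Y', c.base y' =
          (Spec.map (CommRingCat.ofHom (x.toRingHom.comp (GLin.invariants R A B).val.toRingHom))).base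
            (IsLocalRing.closedPoint K)) ∧
        ∀ (T : Over (Spec (CommRingCat.of R))) (ζ : T ⟶ CoactBr.sp R B),
          (∃ t : T.left ⟶ Y', t ≫ c = ζ.left ≫ Spec.map (CommRingCat.ofHom (GLin.invariants R A B).val.toRingHom)) →
          ∀ g : T ⟶ CoactBr.sp R A, lift g ζ ≫ (CoactBr.action R A B).act = ζ → g = 1 := by
  constructor
  · intro hx
    haveI := Deform.CoactStab.finite_obs (R := R) (A := A) (B := B)
    haveI := Deform.CoactOrbit.isIntegral_invariants (R := R) (A := A) (B := B)
    let xC := x.comp (GLin.invariants R A B).val
    let p : Ideal (GLin.invariants R A B) := RingHom.ker xC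
    haveI : p.IsPrime := RingHom.ker_isPrime _
    let a := Module.annihilator B (LinearMap.range (Deform.CoactStab.obsMap R A B))
    obtain ⟨c, hca, hcp⟩ : ∃ c : GLin.invariants R A B, (c : B) ∈ a ∧ c ∉ p := by
      by_contra hall
      push Not at hall
      obtain ⟨n, hna, hn, hnp⟩ := Ideal.exists_ideal_over_prime_of_isIntegral (S := B) p a
        (fun c hc => hall c hc)
      haveI := hn
      refine Deform.CoactStab.not_mem_support n (Deform.CoactStab.trivial_of_agree x (IsScalarTower.toAlgHom R B n.ResidueField) ?_ hx) ?_
      · ext c
        rw [RingHom.mem_ker, RingHom.mem_ker]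
        refine ((SetLike.ext_iff.mp hnp.symm c).trans ?_)
        exact (Ideal.algebraMap_residueField_eq_zero (I := n)).symm
      · rw [Module.support_eq_zeroLocus]
        exact hna
    let Cc := Localization.Away c
    haveI : IsOpenImmersion (Spec.map (CommRingCat.ofHom (algebraMap (GLin.invariants R A B) Cc))) :=
      IsOpenImmersion.of_isLocalization c
    refine ⟨Spec (CommRingCat.of Cc), Spec.map (CommRingCat.ofHom (algebraMap (GLin.invariants R A B) Cc)),
      inferInstance, inferInstance, ?_, fun T ζ => ?_⟩
    · let ψ : Cc →+* K := IsLocalization.Away.lift c (g := xC.toRingHom)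
        (IsUnit.mk0 _ fun h0 => hcp (RingHom.mem_ker.mpr h0))
      refine ⟨Spec.map (CommRingCat.ofHom ψ) (IsLocalRing.closedPoint K), ?_⟩
      rw [← Scheme.Hom.comp_apply, ← Spec.map_comp, ← CommRingCat.ofHom_comp, IsLocalization.Away.lift_comp]
      rfl
    · rintro ⟨t, ht⟩ g hg
      refine Deform.CoactStab.eq_one_of_unit ζ g hg hca ?_
      have h1 : (Deform.CoactStab.app ζ) (c : B) =
          ((Scheme.ΓSpecIso (CommRingCat.of Cc)).inv ≫ t.appTop).hom (algebraMap _ Cc c) := by
        have e := (Deform.CoactStab.app_aux t (CommRingCat.ofHom (algebraMap (GLin.invariants R A B) Cc))).symm.trans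
          ((congrArg (fun f => (Scheme.ΓSpecIso (CommRingCat.of (GLin.invariants R A B))).inv ≫ f)
            (congrArg Scheme.Hom.appTop ht)).trans
            (Deform.CoactStab.app_aux (X := T.left) ζ.left (CommRingCat.ofHom (GLin.invariants R A B).val.toRingHom)))
        exact (congrArg (fun f => f.hom c) e).symm
      rw [h1]
      exact (IsLocalization.Away.algebraMap_isUnit c).map _
  · rintro ⟨Y', c, _, _, ⟨y', hy'⟩, H⟩ T h g hg
    let qK : Spec (CommRingCat.of K) ⟶ Spec (CommRingCat.of (GLin.invariants R A B)) :=
      Spec.map (CommRingCat.ofHom (x.toRingHom.comp (GLin.invariants R A B).val.toRingHom))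
    obtain ⟨z, -, -⟩ := Scheme.Pullback.exists_preimage_pullback (f := c) (g := qK) y' (IsLocalRing.closedPoint K) hy'
    let P := Limits.pullback c qK
    let L : Type u := P.residueField z
    let l : Spec (CommRingCat.of L) ⟶ Y' := P.fromSpecResidueField z ≫ Limits.pullback.fst c qK
    let e : Spec (CommRingCat.of L) ⟶ Spec (CommRingCat.of K) := P.fromSpecResidueField z ≫ Limits.pullback.snd c qK
    let ψ := Spec.preimage e
    letI : Algebra R L := (ψ.hom.comp (algebraMap R K)).toAlgebra
    let j : K →ₐ[R] L := { ψ.hom with commutes' := fun r => rfl }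
    obtain ⟨_, _, _⟩ := Deform.CoactStab.fpqc_pt j
    refine Deform.CoactStab.Trivial.of_comp _ (CoactBr.pt j) ?_ T h g hg
    intro T i g hg
    refine H T (i ≫ CoactBr.pt j ≫ CoactBr.pt x) ⟨i.left ≫ l, ?_⟩ g hg
    have he : Spec.map (CommRingCat.ofHom j.toRingHom) = e := Spec.map_preimage e
    have key : l ≫ c = e ≫ qK := by
      simp only [l, e, Category.assoc]
      rw [Limits.pullback.condition]
    show (i.left ≫ l) ≫ c = (i.left ≫ Spec.map (CommRingCat.ofHom j.toRingHom) ≫
      Spec.map (CommRingCat.ofHom x.toRingHom)) ≫ Spec.map (CommRingCat.ofHom (GLin.invariants R A B).val.toRingHom)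
    rw [he]
    refine (Category.assoc _ _ _).trans ((congrArg (i.left ≫ ·) key).trans ?_)
    simp only [qK, CommRingCat.ofHom_comp, Spec.map_comp, Category.assoc]
    rfl

end Groth.Agent.S14982
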