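import Groth.Statements.S14989
import Groth.Statements.S14989
import Groth.Agent.AmpleFamGen.TorsFree
import Groth.Agent.SheafHomX.Coherent

set_option backward.isDefEq.respectTransparency false
set_option backward.isDefEq.respectTransparency.types false
attribute [local instance] CategoryTheory.Abelian.hasFiniteBiproducts

set_option autoImplicit false
universe u
open CategoryTheory CategoryTheory.Limits AlgebraicGeometry
open ResProp

namespace Groth.Agent.S14989

/-- In the case of schemes, on a Noetherian integral scheme Y with affine diagonal (any two affine opens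
meet in an affine open) every coherent module is a quotient of a torsion-free coherent module,
torsion-freeness meaning that each stalk is a torsion-free module over the local ring. (The
published statement is for Noetherian integral algebraic stacks with affine diagonal; this row is
the case of schemes.) -/
theorem result (Y : Scheme.{u}) [IsNoetherian Y] [IsIntegral Y]
    (hd : ∀ V W : Y.Opens, IsAffineOpen V → IsAffineOpen W → IsAffineOpen (V ⊓ W))
    (F : Y.Modules) (hF : Coh.IsCoh F) :
    ∃ (F' : Y.Modules) (π : F' ⟶ F), Coh.IsCoh F' ∧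
      (∀ y : Y, NoZeroSMulDivisors ↥(Y.presheaf.stalk y) ↥(F'.presheaf.stalk y)) ∧ Epi π := by
  classical
  obtain ⟨T, hT⟩ := isCompact_univ.elim_finite_subcover (fun V : Y.affineOpens => (V.1 : Set Y)) (fun V => V.1.2)
    (fun x _ => by
      obtain ⟨_, ⟨V, hV, rfl⟩, hxV, -⟩ :=
        Y.isBasis_affineOpens.exists_subset_of_mem_open (Set.mem_univ x) isOpen_univ
      exact Set.mem_iUnion.2 ⟨⟨V, hV⟩, hxV⟩)
  choose J t ht using fun V : Y.affineOpens =>
    Submodule.fg_iff_exists_fin_generating_family.1 (QCoh.finite_of_isFT hF.1 hF.2 V.2).fg_top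
  choose K φ hK hKt hφ using fun (i : Σ V : T, Fin (J V.1)) =>
    AmpleFamGen.exists_torsFree_hit hF i.1.1.2 (t i.1.1 i.2)
  let eI := (Fintype.equivFin (Σ V : T, Fin (J V.1))).symm
  let N := fun i => K (eI i)
  let p : ⨁ N ⟶ F := biproduct.desc fun i => φ (eI i)
  refine ⟨⨁ N, p, ?_, AmpleFamGen.torsFree_biproduct N fun i => hKt _, AmpleFamGen.epi_of_stalk p fun x => ?_⟩
  · exact SheafHomX.isCoh_of_iso (biproduct.whiskerEquiv (f := fun i : ULift.{u} _ => N i.down) (g := N) Equiv.ulift fun i => Iso.refl _)
      (QCoh.isCoh_biproduct (fun i : ULift.{u} (Fin (Fintype.card (Σ V : T, Fin (J V.1)))) => N i.down) fun i => hK _)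
  · obtain ⟨V, hV, hxV⟩ := Set.mem_iUnion₂.1 (hT (Set.mem_univ x))
    rw [ModuleCat.epi_iff_range_eq_top, eq_top_iff]
    have hspan : Submodule.span (Y.presheaf.stalk x)
        (Set.range fun k => F.presheaf.germ V.1 x hxV (t V k)) = ⊤ := by
      letI := QCoh.stalkAlg (X := Y) hxV
      letI := QCoh.stalkModule F hxV
      haveI := QCoh.isScalarTower_stalk F hxV
      haveI := QCoh.isLocalization_stalk' V.2 hxV
      haveI := QCoh.isLocalizedModule_germLin hF.1 V.2 hxV
      have h1 : Submodule.localized' (Y.presheaf.stalk x) (V.2.primeIdealOf ⟨x, hxV⟩).asIdeal.primeCompl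
          (QCoh.germLin F hxV) (Submodule.span Γ(Y, V.1) (Set.range (t V))) = ⊤ := by
        rw [ht V, Submodule.localized'_top]
      rw [Submodule.localized'_span, ← Set.range_comp] at h1
      exact h1
    rw [← hspan, Submodule.span_le]
    rintro _ ⟨k, rfl⟩
    obtain ⟨i, hi⟩ := eI.surjective ⟨⟨V, hV⟩, k⟩
    obtain ⟨m, hm⟩ : F.presheaf.germ V.1 x hxV (t V k) ∈
        Set.range ((DerSch.stalkFunctor Y x).map (φ (eI i))) := by
      rw [hi]
      exact hφ ⟨⟨V, hV⟩, k⟩ x hxV
    refine ⟨(DerSch.stalkFunctor Y x).map (biproduct.ι N i) m, ?_⟩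
    have h2 : (DerSch.stalkFunctor Y x).map (biproduct.ι N i) ≫ (DerSch.stalkFunctor Y x).map p =
        (DerSch.stalkFunctor Y x).map (φ (eI i)) := by
      rw [← Functor.map_comp, biproduct.ι_desc]
    exact (congr($h2 m)).trans hm

end Groth.Agent.S14989
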