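import Groth.Statements.S14990
import Groth.Agent.BertiniSec.Scheme
import Mathlib.Topology.JacobsonSpace
import Mathlib.AlgebraicGeometry.Morphisms.FiniteType
-- import your own Groth.Agent.* helpers here

set_option autoImplicit false
universe u
open CategoryTheory CategoryTheory.Limits AlgebraicGeometry
open Variety

namespace Groth.Agent.S14990

/-- Let k be an algebraically closed field, Y a scheme smooth and of finite type over k, L an invertible
O_Y-module, s_1, …, s_m global sections of L (morphisms O_Y ⟶ L) such that at every closed point p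
the span of the s_i maps onto L_p/m_p^2 L_p, and f a further global section of L. Then the zero
scheme of f + Σ c_i s_i is smooth over k for all c outside the zero set of some nonzero polynomial
in m variables. (The published hypothesis is stated at every point of Y; it can only hold at closed
points, which is where the argument uses it, so this row asks it at closed points.) -/
theorem result (k : Type u) [Field k] [IsAlgClosed k]
    (Y : Scheme.{u}) [Y.Over (Spec (CommRingCat.of k))] [Smooth (Y ↘ Spec (CommRingCat.of k))]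
    [QuasiCompact (Y ↘ Spec (CommRingCat.of k))]
    (L : Y.Modules) (hL : FlatMod.IsFinLocFreeOfRank 1 L) (m : ℕ)
    (s : Fin m → (Coh.structureModule Y ⟶ L)) (f : Coh.structureModule Y ⟶ L)
    (hjet : ∀ p : Y, IsClosed ({p} : Set Y) → ∀ l : ↥(L.presheaf.stalk p), ∃ c : Fin m → k,
      (L.presheaf.germ ⊤ p trivial)
          (PicF2.secVal L (∑ i : Fin m, Formal.smulMod k (Coh.structureModule Y) (c i) ≫ s i) ⊤) - l ∈
        (IsLocalRing.maximalIdeal ↥(Y.presheaf.stalk p)) ^ 2 •
          (⊤ : Submodule ↥(Y.presheaf.stalk p) ↥(L.presheaf.stalk p))) :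
    ∃ q : MvPolynomial (Fin m) k, q ≠ 0 ∧ ∀ c : Fin m → k, MvPolynomial.eval c q ≠ 0 →
      Smooth ((PicF2.zeroScheme L (f + ∑ i : Fin m, Formal.smulMod k (Coh.structureModule Y) (c i) ≫ s i)).subschemeι ≫
        (Y ↘ Spec (CommRingCat.of k))) := by
  classical
  have hLi : PicF.IsInvertible L := Groth.Agent.BertiniSec.isInvertible_of_rank_one hL
  haveI : CompactSpace Y := QuasiCompact.compactSpace_of_compactSpace (Y ↘ Spec (CommRingCat.of k))
  haveI : JacobsonSpace Y := LocallyOfFiniteType.jacobsonSpace (Y ↘ Spec (CommRingCat.of k))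
  choose U e r hxU he hstd using fun x : Y => Groth.Agent.BertiniSec.exists_chart (k := k) hLi x
  obtain ⟨t, ht⟩ := isCompact_univ.elim_finite_subcover (fun x : Y => ((U x).1 : Set Y))
    (fun x => (U x).1.2) (fun x _ => Set.mem_iUnion.2 ⟨x, hxU x⟩)
  choose a ha using fun (x : Y) (i : Fin m) =>
    (he x).exists_coord (le_refl (U x).1) (Groth.Agent.ZeroSchX.sv (s i) (U x).1)
  have hsv : ∀ (x : Y) (i : Fin m), Groth.Agent.ZeroSchX.sv (s i) (U x).1 = a x i • e x := fun x i => by
    have h := ha x i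
    rwa [Groth.Agent.AModX.res_self] at h
  choose a₀ ha₀ using fun x : Y => (he x).exists_coord (le_refl (U x).1) (Groth.Agent.ZeroSchX.sv f (U x).1)
  have hsv₀ : ∀ x : Y, Groth.Agent.ZeroSchX.sv f (U x).1 = a₀ x • e x := fun x => by
    have h := ha₀ x
    rwa [Groth.Agent.AModX.res_self] at h
  have hb : ∀ x : Y, ∃ g : MvPolynomial (Fin m) k, g ≠ 0 ∧ ∀ c : Fin m → k, MvPolynomial.eval c g ≠ 0 →
      ((Ideal.Quotient.mk (Ideal.span {a₀ x + ∑ i, Groth.Agent.BertiniSec.cst k (U x).1 (c i) * a x i})).comp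
        (Groth.Agent.BertiniSec.cst k (U x).1)).Smooth := fun x => by
    letI := (Groth.Agent.BertiniSec.cst k (U x).1).toAlgebra
    haveI : Algebra.IsStandardSmoothOfRelativeDimension (r x) k Γ(Y, (U x).1) :=
      (RingHom.isStandardSmoothOfRelativeDimension_algebraMap _).1 (hstd x)
    haveI : Algebra.IsStandardSmooth k Γ(Y, (U x).1) :=
      Algebra.IsStandardSmoothOfRelativeDimension.isStandardSmooth (r x)
    haveI : Nonempty (U x).1 := ⟨⟨x, hxU x⟩⟩
    haveI : Nontrivial Γ(Y, (U x).1) := (Y.presheaf.germ (U x).1 x (hxU x)).hom.domain_nontrivial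
    have hjet' : ∀ n : Ideal Γ(Y, (U x).1), n.IsMaximal → ∀ y : Γ(Y, (U x).1), ∃ c : Fin m → k,
        ∑ i, Groth.Agent.BertiniSec.cst k (U x).1 (c i) * a x i - y ∈ n ^ 2 := by
      intro n hn y
      let q : PrimeSpectrum Γ(Y, (U x).1) := ⟨n, hn.isPrime⟩
      let p : Y := (U x).2.fromSpec q
      have hpU : p ∈ (U x).1 := (U x).2.range_fromSpec.le ⟨q, rfl⟩
      have hp : IsClosed ({p} : Set Y) := by
        refine isClosed_singleton_of_isLocallyClosed_singleton ?_
        have hc : IsClosed ({q} : Set (PrimeSpectrum Γ(Y, (U x).1))) :=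
          (PrimeSpectrum.isClosed_singleton_iff_isMaximal q).2 hn
        have := hc.isLocallyClosed.image (U x).2.fromSpec.isOpenEmbedding.isInducing
          (U x).2.fromSpec.isOpenEmbedding.isOpen_range.isLocallyClosed
        rwa [Set.image_singleton] at this
      obtain ⟨c, hc⟩ := hjet p hp ((L.presheaf.germ (U x).1 p hpU) (y • e x))
      refine ⟨c, ?_⟩
      have hres : (L.presheaf.germ ⊤ p trivial) (PicF2.secVal L (∑ i : Fin m, Formal.smulMod k (Coh.structureModule Y) (c i) ≫ s i) ⊤) =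
          (L.presheaf.germ (U x).1 p hpU) (Groth.Agent.ZeroSchX.sv (∑ i : Fin m, Formal.smulMod k (Coh.structureModule Y) (c i) ≫ s i) (U x).1) := by
        rw [← Groth.Agent.ZeroSchX.res_sv _ (le_top : (U x).1 ≤ ⊤)]
        exact (TopCat.Presheaf.germ_res_apply (C := Ab) L.presheaf (homOfLE le_top) p hpU _).symm
      rw [hres, Groth.Agent.BertiniSec.sv_sum] at hc
      simp only [hsv, ← mul_smul, ← Finset.sum_smul] at hc
      rw [← map_sub, ← sub_smul] at hc
      rw [Groth.Agent.QCoh.germ_smul' L hpU] at hc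
      let φ : Y.presheaf.stalk p →ₗ[Y.presheaf.stalk p] L.presheaf.stalk p :=
        LinearMap.toSpanSingleton _ _ (L.presheaf.germ (U x).1 p hpU (e x))
      have hφ : Function.Bijective φ := Groth.Agent.BertiniSec.bijective_germ_smul_of_frame (he x) hpU
      have hmap : (IsLocalRing.maximalIdeal (Y.presheaf.stalk p) ^ 2 • (⊤ : Submodule (Y.presheaf.stalk p) (L.presheaf.stalk p))) =
          (IsLocalRing.maximalIdeal (Y.presheaf.stalk p) ^ 2 • (⊤ : Submodule (Y.presheaf.stalk p) (Y.presheaf.stalk p))).map φ := by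
        rw [Submodule.map_smul'', Submodule.map_top, LinearMap.range_eq_top.2 hφ.2]
      rw [hmap] at hc
      obtain ⟨w, hw, hwe⟩ := hc
      rw [SetLike.mem_coe, Ideal.smul_eq_mul, Ideal.mul_top] at hw
      have hz := hφ.1 hwe
      rw [hz] at hw
      letI : Algebra Γ(Y, (U x).1) (Y.presheaf.stalk p) := (Y.presheaf.germ (U x).1 p hpU).hom.toAlgebra
      haveI : IsLocalization.AtPrime (Y.presheaf.stalk p) ((U x).2.primeIdealOf ⟨p, hpU⟩).asIdeal :=
        (U x).2.isLocalization_stalk ⟨p, hpU⟩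
      have hq : (U x).2.primeIdealOf ⟨p, hpU⟩ = q :=
        (U x).2.fromSpec.isOpenEmbedding.injective ((U x).2.fromSpec_primeIdealOf ⟨p, hpU⟩)
      haveI : ((U x).2.primeIdealOf ⟨p, hpU⟩).asIdeal.IsMaximal := by rw [hq]; exact hn
      have h2 : ((U x).2.primeIdealOf ⟨p, hpU⟩).asIdeal ^ 2 = n ^ 2 := by rw [hq]
      rw [← h2, ← IsLocalization.AtPrime.under_maximalIdeal_pow ((U x).2.primeIdealOf ⟨p, hpU⟩).asIdeal (Y.presheaf.stalk p)]
      exact hw
    obtain ⟨g, hg, hgs⟩ := Groth.Agent.BertiniSec.jets_bad (k := k) (r x) (a x) (a₀ x) hjet'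
    exact ⟨g, hg, fun c hc => RingHom.smooth_algebraMap.2 (Groth.Agent.BertiniSec.smooth_quotient _ (hgs c hc))⟩
  choose g hg0 hg using hb
  refine ⟨∏ x ∈ t, g x, Finset.prod_ne_zero_iff.2 fun x _ => hg0 x, fun c hc => ?_⟩
  rw [map_prod, Finset.prod_ne_zero_iff] at hc
  refine Groth.Agent.BertiniSec.smooth_subscheme _ (fun p : (t : Set Y) => U p.1) (fun x => ?_) fun p => ?_
  · obtain ⟨p, hp, hxp⟩ := Set.mem_iUnion₂.1 (ht (Set.mem_univ x))
    exact ⟨⟨p, hp⟩, hxp⟩
  · have hI : (PicF2.zeroScheme L (f + ∑ i : Fin m, Formal.smulMod k (Coh.structureModule Y) (c i) ≫ s i)).ideal (U p.1) =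
        Ideal.span {a₀ p.1 + ∑ i, Groth.Agent.BertiniSec.cst k (U p.1).1 (c i) * a p.1 i} := by
      rw [Groth.Agent.ZeroSchX.ideal_zeroScheme hLi]
      refine Groth.Agent.ZeroSchX.zeroIdealOn_eq_span _ (he p.1) ?_
      rw [Groth.Agent.BertiniSec.sv_add, Groth.Agent.BertiniSec.sv_sum, add_smul, Finset.sum_smul, hsv₀]
      exact congrArg _ (Finset.sum_congr rfl fun i _ => by rw [hsv, mul_smul])
    rw [hI]
    exact hg p.1 c (hc p.1 p.2)

end Groth.Agent.S14990
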