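import Groth.Statements.S14995
import Groth.Agent.S6039
-- import your own Groth.Agent.* helpers here

set_option autoImplicit false
universe u
open CategoryTheory CategoryTheory.Limits AlgebraicGeometry
open Coherent

namespace Groth.Agent.S14995

theorem bijective_map_of_isIso_unit {C D : Type*} [Category C] [Category D] {L : C ⥤ D} {R : D ⥤ C}
    (adj : L ⊣ R) (F E : C) (h : IsIso (adj.unit.app E)) :
    Function.Bijective (fun φ : F ⟶ E => L.map φ) := by
  have hf : (fun φ : F ⟶ E => L.map φ) =
      fun φ => (adj.homEquiv _ _).symm ((asIso (adj.unit.app E)).homToEquiv φ) := by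
    funext φ
    apply (adj.homEquiv _ _).injective
    rw [Equiv.apply_symm_apply, Adjunction.homEquiv_unit]
    exact (adj.unit.naturality φ).symm
  rw [hf]
  exact ((adj.homEquiv _ _).symm.bijective).comp (asIso (adj.unit.app E)).homToEquiv.bijective

/-- Let Y be a locally Noetherian scheme, E and F coherent O_Y-modules and U an open subset of Y such
that for every point y of Y outside U the stalk E_y has depth at least 2 as a module over the local
ring O_{Y,y}. Then restricting morphisms to U is a bijection from Hom(F, E) onto Hom(F|_U, E|_U).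
(The published statement is the case F = E; this row allows any coherent F.) -/
theorem result (Y : Scheme.{u}) [IsLocallyNoetherian Y]
    (E F : Y.Modules) (hE : Coh.IsCoh E) (hF : Coh.IsCoh F) (U : Y.Opens)
    (hdepth : ∀ y : Y, y ∉ U → (2 : ℕ∞) ≤ LocCoh.depth (Y.presheaf.stalk y) (E.presheaf.stalk y)) :
    Function.Bijective (fun φ : F ⟶ E => (Scheme.Modules.restrictFunctor U.ι).map φ) := by
    have hb := (Groth.Agent.S6039.result Y U E hE).1 hdepth
    refine bijective_map_of_isIso_unit (Scheme.Modules.restrictAdjunction U.ι) F E ?_
    refine Scheme.Modules.Hom.isIso_iff_isIso_app.2 fun V => ?_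
    show IsIso (E.presheaf.map (homOfLE (U.ι.image_preimage_le V)).op)
    rw [ConcreteCategory.isIso_iff_bijective]
    have he : U.ι ''ᵁ (U.ι ⁻¹ᵁ V) = V ⊓ U := by
      rw [U.ι.image_preimage_eq_opensRange_inf, Scheme.Opens.opensRange_ι, inf_comm]
    have key : ∀ {W : Y.Opens} (hW : W ≤ V), W = V ⊓ U →
        Function.Bijective (E.presheaf.map (homOfLE hW).op) := by
      rintro W hW rfl; exact hb V
    exact key _ he

end Groth.Agent.S14995
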