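import Groth.Statements.S1500
import Groth.Statements.S1500
import Groth.Agent.AmpleFamGen.Cartier
import Groth.Agent.AmpleFamGen.ExtendOn
import Groth.Agent.AmpleX.Separated

set_option backward.isDefEq.respectTransparency false
set_option backward.isDefEq.respectTransparency.types false

set_option autoImplicit false
universe u
open FlatMor

namespace Groth.Agent.S1500

open AlgebraicGeometry CategoryTheory Limits in
open Groth.Agent.H23.PicMul in
/-- Let D_1, …, D_m be effective Cartier divisors on X (ideal sheaves locally generated by a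
nonzerodivisor) with empty common support, and L_1, …, L_m invertible O_X-modules with L_i ample on
the open complement of D_i. Then X has an ample family of invertible modules. -/
theorem result {X : Scheme.{u}} {m : ℕ} (D : Fin m → X.IdealSheafData)
    (hD : ∀ i, BlowUp.IsEffCartierIdeal (D i)) (hcap : ⋂ i, ((D i).support : Set ↑X) = ∅)
    (L : Fin m → X.Modules) (hL : ∀ i, PicF.IsInvertible (L i)) (hamp : ∀ i, CohB1.IsAmple ((L i).restrict (Scheme.Opens.ι (D i).support.compl))) :
    MoreMor.HasAmpleFamily X := by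
  choose P σ hP hσ using fun i => AmpleFamGen.exists_section_locus_eq (hD i)
  have hcov : ∀ x : X, ∃ i, x ∈ AmpleX.locus (σ i) := fun x => by
    by_contra h
    push_neg at h
    have : x ∈ ⋂ i, ((D i).support : Set ↑X) := Set.mem_iInter.2 fun i => by
      by_contra hx
      exact h i ((hσ i).ge hx)
    rw [hcap] at this
    exact this
  have hsep : ∀ i, ((D i).support.compl : Scheme.{u}).IsSeparated := fun i =>
    AmpleX.isSeparated_of_isAmple (hamp i)
  have hcpt : ∀ i, IsCompact ((D i).support.compl : Set X) := fun i => by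
    haveI : CompactSpace ((D i).support.compl : Scheme.{u}) := (hamp i).2.1
    exact isCompact_iff_compactSpace.2 this
  haveI : CompactSpace X := ⟨by
    have h : (Set.univ : Set X) = ⋃ i, ((D i).support.compl : Set X) :=
      (Set.eq_univ_of_forall fun x => Set.mem_iUnion.2 ((hcov x).imp fun i hi => (hσ i).le hi)).symm
    rw [h]
    exact isCompact_iUnion hcpt⟩
  haveI : QuasiSeparatedSpace X := by
    rw [quasiSeparatedSpace_iff_forall_affineOpens]
    intro U V
    have h : (U.1 : Set X) ∩ V.1 = ⋃ i, ((U.1 ⊓ (D i).support.compl : X.Opens) : Set X) ∩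
        (V.1 ⊓ (D i).support.compl : X.Opens) := by
      ext p
      simp only [Set.mem_inter_iff, Set.mem_iUnion, TopologicalSpace.Opens.coe_inf]
      refine ⟨fun h => ?_, fun ⟨y, h1, h2⟩ => ⟨h1.1, h2.1⟩⟩
      obtain ⟨i, hi⟩ := hcov p
      exact ⟨i, ⟨h.1, (hσ i).le hi⟩, ⟨h.2, (hσ i).le hi⟩⟩
    rw [h]
    refine isCompact_iUnion fun i => ?_
    haveI := hsep i
    have hU := AmpleX.isAffineOpen_inf_locus (hP i) U.2 (σ i) le_top
    have hV := AmpleX.isAffineOpen_inf_locus (hP i) V.2 (σ i) le_top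
    rw [hσ i] at hU hV
    revert hU hV
    generalize hG : (D i).support.compl = G at *
    intro hU hV
    have hU' : IsAffineOpen ((Scheme.Opens.ι G) ⁻¹ᵁ (U.1 ⊓ G)) := hU.preimage_of_isOpenImmersion (Scheme.Opens.ι G) (by rw [Scheme.Opens.opensRange_ι]; exact inf_le_right)
    have hV' : IsAffineOpen ((Scheme.Opens.ι G) ⁻¹ᵁ (V.1 ⊓ G)) := hV.preimage_of_isOpenImmersion (Scheme.Opens.ι G) (by rw [Scheme.Opens.opensRange_ι]; exact inf_le_right)
    have := (hU'.inf hV').isCompact.image (Scheme.Opens.ι G).continuous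
    convert this using 1
    ext p
    refine ⟨fun hp => ⟨⟨p, hp.1.2⟩, hp, rfl⟩, ?_⟩
    rintro ⟨q, hq, rfl⟩
    exact hq
  refine ⟨inferInstance, fun x => ?_⟩
  obtain ⟨i, hx⟩ := hcov x
  let ι := Scheme.Opens.ι (D i).support.compl
  have hι : ι ''ᵁ (⊤ : Scheme.Opens ((D i).support.compl : Scheme.{u})) = AmpleX.locus (σ i) :=
    (Scheme.Opens.ι_image_top _).trans (hσ i).symm
  obtain ⟨m, -, a, hxa, -, ha⟩ := AmpleX.exists_locus_le ι (hamp i) (hι.ge hx) (U := ⊤) trivial
  have hLm := InvX.isInvertible_tensorPow (hL i) m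
  obtain ⟨n₀, hn₀⟩ := AmpleFamGen.exists_extend_on (ProjUPX.isQCoh_of_isInvertible hLm) (hP i)
    (O := ⊤) isCompact_univ (σ i) (AModX.res _ hι.ge a)
  obtain ⟨T, hT⟩ := hn₀ (n₀ + 1) (Nat.le_succ _)
  have hPn := InvX.isInvertible_tensorPow (hP i) (n₀ + 1)
  have hP₀ := InvX.isInvertible_tensorMod hLm hPn
  let Q := CohB1.tensorMod (CohB1.tensorMod (CohB1.tensorPow (L i) m) (CohB1.tensorPow (P i) (n₀ + 1))) (P i)
  have hQ : PicF.IsInvertible Q := InvX.isInvertible_tensorMod hP₀ (hP i)
  obtain ⟨b, hb⟩ := AmpleX.exists_locus_cl (N := CohB1.tensorPow Q 1)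
    (show PicF.cl Q = _ by rw [cl_tensorPow, pow_one]) (InvX.tmul T (σ i))
  have hle : AmpleX.locus a ≤ AmpleX.locus (σ i) := (AmpleX.locus_le a).trans hι.le
  have h1 : AmpleX.locus T ⊓ AmpleX.locus (σ i) = AmpleX.locus a := by
    rw [← AmpleX.locus_res T (AmpleX.locus_le (σ i)), hT, AmpleX.locus_tmul hLm hPn,
      AmpleX.locus_powElt (hP i), AmpleX.locus_res, AmpleX.locus_res, inf_idem, inf_assoc, inf_idem]
    exact inf_eq_left.2 hle
  have key : AmpleX.locus b = AmpleX.locus a :=
    hb.trans ((AmpleX.locus_tmul hP₀ (hP i) T (σ i)).trans h1)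
  refine ⟨Q, 1, InvX.ofSect b, hQ, le_rfl, ?_, ?_⟩
  · rw [AmpleX.genLocus_eq_locus, InvX.one_ofSect, key]; exact hxa
  · rw [AmpleX.genLocus_eq_locus, InvX.one_ofSect, key]; exact ha

end Groth.Agent.S1500
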