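import Groth.Statements.S15002
import Groth.Agent.StabHom.Basic
import Groth.Agent.SimpsonEst.Family
import Groth.Agent.AmpleVan.Pull
-- import your own Groth.Agent.* helpers here

set_option autoImplicit false
universe u
open CategoryTheory CategoryTheory.Limits AlgebraicGeometry
open Coherent

set_option linter.style.haveILetI false
set_option backward.isDefEq.respectTransparency false
set_option backward.isDefEq.respectTransparency.types false
namespace Groth.Agent.S15002

open Polynomial in
/-- Let k be an algebraically closed field and X an integral scheme, smooth and proper over k, with a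
closed immersion ι into projective N-space over k compatible with the structure maps; write E(m) = E
⊗ ι^*O(m). Let 1 ≤ ℓ ≤ d and let E be a coherent O_X-module whose Hilbert polynomial P (χ(E(m)) =
P(m) for all integers m) is nonzero of degree d, which is pure of dimension d (every nonzero
coherent subsheaf of E has support of Krull dimension d) and ℓ-stable: writing R(m) = Σ_i α_i(R)
m^i/i! for a polynomial R, for every coherent subsheaf F of E with Hilbert polynomial Q such that 0
< α_d(Q) < α_d(P), the vector (α_{d−1}(Q)/α_d(Q), …, α_{d−ℓ}(Q)/α_d(Q)) is strictly smaller than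
(α_{d−1}(P)/α_d(P), …, α_{d−ℓ}(P)/α_d(P)) in the lexicographic order. Then E is simple: every
endomorphism φ of E is multiplication by a scalar, i.e. there is c ∈ k with φ(s) = c·s for every
local section s of E. (The published statement gives more generally, for such E, that the
endomorphisms of the restriction of E to the complement of any closed subset meeting the support of
E in codimension at least ℓ + 1 are the scalars; this row is the case of the empty closed subset.) -/
theorem result (k : Type u) [Field k] [IsAlgClosed k]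
    (X : Scheme.{u}) [X.Over (Spec (CommRingCat.of k))] [IsIntegral X]
    [Smooth (X ↘ Spec (CommRingCat.of k))] [IsProper (X ↘ Spec (CommRingCat.of k))]
    (N : ℕ) (ι : X ⟶ CohB1.ProjSpace N k) [IsClosedImmersion ι] (hι : ι ≫ CohB1.ProjSpace.toSpec N k = X ↘ Spec (CommRingCat.of k))
    (d ℓ : ℕ) (hℓ : 1 ≤ ℓ) (hℓd : ℓ ≤ d)
    (E : X.Modules) (hE : Coh.IsCoh E) (P : ℚ[X]) (hPd : P.natDegree = d) (hP0 : P ≠ 0)
    (hP : ∀ m : ℤ, (Curv2.euler k X (Pic13.twistOn k ι E m) : ℚ) = P.eval (m : ℚ))
    (hpure : ∀ (F : X.Modules) (j : F ⟶ E), Mono j → Coh.IsCoh F → ¬ IsZero F →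
      topologicalKrullDim (CohB1.support F) = (d : WithBot ℕ∞))
    (hst : ∀ (F : X.Modules) (j : F ⟶ E), Mono j → Coh.IsCoh F → ∀ Q : ℚ[X],
      (∀ m : ℤ, (Curv2.euler k X (Pic13.twistOn k ι F m) : ℚ) = Q.eval (m : ℚ)) →
        0 < Q.coeff d → Q.coeff d < P.coeff d →
          toLex (fun j : Fin ℓ => ((Q).coeff (d - 1 - (j : ℕ)) * (Nat.factorial (d - 1 - (j : ℕ)) : ℚ)) / ((Q).coeff d * (Nat.factorial d : ℚ))) < toLex (fun j : Fin ℓ => ((P).coeff (d - 1 - (j : ℕ)) * (Nat.factorial (d - 1 - (j : ℕ)) : ℚ)) / ((P).coeff d * (Nat.factorial d : ℚ))))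
    (φ : E ⟶ E) :
    ∃ c : k, ∀ (V : X.Opens) (s : E.val.obj (Opposite.op V)),
      (φ.val.app (Opposite.op V)) s = (X.ringCatSheaf.obj.map (homOfLE (le_top : V ≤ ⊤)).op (Coh.toGlobal (X ↘ Spec (CommRingCat.of k)) c : X.ringCatSheaf.obj.obj (Opposite.op ⊤))) • s := by
    open Groth.Agent Groth.Agent.HilbPoly Groth.Agent.ShStabLib Groth.Agent.StabHom Groth.Agent.HilbBound StabCat in
    open scoped Groth.Agent.H23.PicMul in
    classical
    haveI := CurveCohLib.isNoetherian_of_proper (k := k) (X := X)
    let L : X.Modules := (Scheme.Modules.pullback ι).obj (Twist.twistProjSpace N k 1)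
    have hL : CohB1.IsAmple L := AmpleVan.isAmple_pullback_of_isEmbedding ι ι.isClosedEmbedding.isEmbedding
      (HilbBound.isAmple_O1 (k := k) (n := N))
    have hc : Nonempty (L ≅ CohB1.tensorPow L 1) := H23.PicMul.cl_eq_iff.1 (by rw [H23.PicMul.cl_tensorPow, pow_one])
    have hQ : ∀ {F : X.Modules}, Tame d F → ∀ m : ℤ,
        (Curv2.euler k X (Pic13.twistOn k ι F m) : ℚ) = (hp k L F).eval (m : ℚ) := fun {F} hF m => by
      rw [← GrothLem.chi_pushforward ι hι hF.coh,
        GrothLem.chi_pushforward_hilb ι hι hc hF.coh (hp_spec (k := k) hL hF)]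
      simp
    have hTE : Tame d E := tame_of_pure hpure hE
    have hPeq : hp k L E = P := by
      refine HilbPoly.poly_ext 0 fun m _ => ?_
      have h1 := (hQ hTE (m : ℤ)).symm.trans (hP m)
      rwa [Int.cast_natCast] at h1
    have hE0 : ¬ IsZero E := fun hz => by
      have hlt : topologicalKrullDim ↥(CohB1.support E) < (d : WithBot ℕ∞) := by
        rw [QCoh.support_eq_empty_of_isZero hz hE.1]
        haveI : IsEmpty (TopologicalSpace.IrreducibleCloseds ↥(∅ : Set X)) :=
          ⟨fun c => by obtain ⟨x, -⟩ := c.isIrreducible.nonempty; exact x.2⟩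
        rw [topologicalKrullDim, Order.krullDim_eq_bot]
        exact WithBot.bot_lt_coe _
      have h1 := hp_alpha_eq_zero (k := k) (d := d) hL hE hlt
      rw [hPeq, alpha, mul_eq_zero] at h1
      rcases h1 with h1 | h1
      · exact Nat.cast_ne_zero.2 (Nat.factorial_ne_zero d) h1
      · exact hP0 (Polynomial.leadingCoeff_eq_zero.1 (by rw [Polynomial.leadingCoeff, hPd]; exact h1))
    have hlex : ∀ (a b : ℚ) (u v w : Fin ℓ → ℚ), 0 < a → 0 < b →
        (∀ j, a * u j + b * v j = (a + b) * w j) → toLex u < toLex w → toLex v < toLex w → False := by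
      intro a b u v w ha hb he hu hv
      obtain ⟨i, hie, hil⟩ := hu
      obtain ⟨j, hje, hjl⟩ := hv
      have key : u (min i j) ≤ w (min i j) ∧ v (min i j) ≤ w (min i j) ∧
          (u (min i j) < w (min i j) ∨ v (min i j) < w (min i j)) := by
        rcases lt_trichotomy i j with h | h | h
        · rw [min_eq_left h.le]; exact ⟨hil.le, (hje i h).le, Or.inl hil⟩
        · subst h; rw [min_self]; exact ⟨hil.le, hjl.le, Or.inl hil⟩
        · rw [min_eq_right h.le]; exact ⟨(hie j h).le, hjl.le, Or.inr hjl⟩
      obtain ⟨h1, h2, h3⟩ := key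
      have h4 := he (min i j)
      rcases h3 with h3 | h3
      · nlinarith [mul_le_mul_of_nonneg_left h2 hb.le, mul_lt_mul_of_pos_left h3 ha]
      · nlinarith [mul_le_mul_of_nonneg_left h1 ha.le, mul_lt_mul_of_pos_left h3 hb]
    have hmono : ∀ ψ : E ⟶ E, ψ ≠ 0 → Mono ψ := by
      intro ψ hψ
      obtain ⟨K, I, a, p, b, w, hfac, ha, hb, hp', hse, hK, hI⟩ := exists_factor (k := k) hE hE ψ
      haveI := ha; haveI := hb; haveI := hp'
      have hI0 : ¬ IsZero I := fun hz => hψ (by rw [← hfac, hz.eq_of_tgt p 0, Limits.zero_comp])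
      by_cases hK0 : IsZero K
      · haveI : Mono p := hse.exact.mono_g (hK0.eq_of_src _ _)
        rw [← hfac]; infer_instance
      exfalso
      have hαK := hp_alpha_pos (k := k) hL hK (isPure_mono hpure a) hK0
      have hαI := hp_alpha_pos (k := k) hL hI (isPure_mono hpure b) hI0
      have hsum : P = hp k L K + hp k L I := hPeq ▸ hp_add' hL a p w hse hK hTE hI
      have hf : (0 : ℚ) < d.factorial := Nat.cast_pos.2 (Nat.factorial_pos d)
      have hcK : 0 < (hp k L K).coeff d := (pos_iff_pos_of_mul_pos hαK).1 hf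
      have hcI : 0 < (hp k L I).coeff d := (pos_iff_pos_of_mul_pos hαI).1 hf
      have hPc : P.coeff d = (hp k L K).coeff d + (hp k L I).coeff d := by rw [hsum, Polynomial.coeff_add]
      refine hlex _ _ _ _ _ hcK hcI (fun j => ?_)
        (hst K a ha hK _ (hQ (hTE.of_mono hK a)) hcK (by linarith))
        (hst I b hb hI _ (hQ (hTE.of_mono hI b)) hcI (by linarith))
      rw [← hPc, hsum]
      have hne : (hp k L K).coeff d + (hp k L I).coeff d ≠ 0 := by linarith
      simp only [Polynomial.coeff_add]
      field_simp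
    haveI := ASB.finite_hom (k := k) X hE hE
    haveI : Nontrivial (End E) := ⟨⟨(0 : E ⟶ E), 𝟙 E, fun h => hE0 ((IsZero.iff_id_eq_zero _).2 h.symm)⟩⟩
    haveI : NoZeroDivisors (End E) := ⟨fun {f g} h => or_iff_not_imp_right.2 fun hg => by
      by_contra hf
      haveI := hmono f hf
      exact hg ((cancel_mono (show E ⟶ E from f)).1 (h.trans Limits.zero_comp.symm))⟩
    haveI : IsDomain (End E) := NoZeroDivisors.to_isDomain _
    haveI : FiniteDimensional k (End E) := inferInstanceAs (FiniteDimensional k (E ⟶ E))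
    obtain ⟨c, hc'⟩ := (IsAlgClosed.algebraMap_bijective_of_isIntegral (k := k) (K := End E)).2 (show End E from φ)
    obtain rfl : φ = c • 𝟙 E := hc'.symm.trans (Algebra.algebraMap_eq_smul_one c)
    refine ⟨c, fun V s => ?_⟩
    rw [KLin.smul_def, Category.comp_id]
    rfl

end Groth.Agent.S15002
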