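import Groth.Statements.S15003
import Groth.Agent.S10881
-- import your own Groth.Agent.* helpers here

set_option autoImplicit false
universe u
open CategoryTheory CategoryTheory.Limits AlgebraicGeometry
open Harb

namespace Groth.Agent.S15003

/-- Let k be an algebraically closed field and let π : Y → X be a finite, surjective and unramified
k-morphism of smooth varieties over k (X and Y integral, separated and of finite type over k with
all local rings regular) which sends the generic point of Y to the generic point of X, so that the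
function field k(X) embeds in k(Y). Then for every closed point p of X the fibre π⁻¹(p) consists of
exactly deg π points, where deg π = [k(Y) : k(X)] is the degree of that field extension. -/
theorem result (k : Type u) [Field k] [IsAlgClosed k]
    (X Y : Scheme.{u}) [X.Over (Spec (CommRingCat.of k))] [Y.Over (Spec (CommRingCat.of k))]
    [IsIntegral X] [IsIntegral Y]
    [IsSeparated (X ↘ (Spec (CommRingCat.of k)))] [LocallyOfFiniteType (X ↘ (Spec (CommRingCat.of k)))]
    [QuasiCompact (X ↘ (Spec (CommRingCat.of k)))]
    [IsSeparated (Y ↘ (Spec (CommRingCat.of k)))] [LocallyOfFiniteType (Y ↘ (Spec (CommRingCat.of k)))]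
    [QuasiCompact (Y ↘ (Spec (CommRingCat.of k)))]
    (hregX : ∀ x : X, IsRegularLocalRing (X.presheaf.stalk x))
    (hregY : ∀ y : Y, IsRegularLocalRing (Y.presheaf.stalk y))
    (π : Y ⟶ X) (hπ : π ≫ (X ↘ (Spec (CommRingCat.of k))) = (Y ↘ (Spec (CommRingCat.of k))))
    [AlgebraicGeometry.IsFinite π] [AlgebraicGeometry.Surjective π] [AlgebraicGeometry.FormallyUnramified π]
    (e : π.base (genericPoint Y) = genericPoint X) (p : X) (hp : IsClosed ({p} : Set X)) :
    Nat.card {q : Y // π.base q = p} =
      Models.homDegree (X.presheaf.stalkSpecializes (specializes_of_eq e) ≫ π.stalkMap (genericPoint Y)).hom := by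
  haveI : LocallyOfFiniteType (X ↘ Spec (CommRingCat.of k)) := inferInstance
  haveI : IsLocallyNoetherian X := LocallyOfFiniteType.isLocallyNoetherian (X ↘ Spec (CommRingCat.of k))
  haveI : IsLocallyNoetherian Y := LocallyOfFiniteType.isLocallyNoetherian (Y ↘ Spec (CommRingCat.of k))
  haveI : Flat π := by
    refine Groth.Agent.S10881.result π hregY hregX fun Z hZ => ?_
    rw [irreducibleComponents_eq_singleton, Set.mem_singleton_iff] at hZ
    subst hZ
    rw [Set.image_univ, irreducibleComponents_eq_singleton, Set.mem_singleton_iff,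
      (AlgebraicGeometry.Surjective.surj (f := π)).range_eq, closure_univ]
  haveI : LocallyOfFinitePresentation π := inferInstance
  haveI : Etale π := Etale.of_formallyUnramified_of_flat π
  obtain ⟨U, hU, hpU, -⟩ := exists_isAffineOpen_mem_and_subset (X := X) (x := p) (U := ⊤) trivial
  let V := π ⁻¹ᵁ U
  have hV : IsAffineOpen V := hU.preimage π
  let A := Γ(X, U)
  let B := Γ(Y, V)
  haveI : Nonempty U := ⟨⟨p, hpU⟩⟩
  haveI : Nonempty V := by
    obtain ⟨q, hq⟩ := AlgebraicGeometry.Surjective.surj (f := π) p
    exact ⟨⟨q, show π q ∈ U from hq ▸ hpU⟩⟩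
  letI algAB : Algebra A B := (π.appLE U V le_rfl).hom.toAlgebra
  haveI : Module.Finite A B := by
    have := IsFinite.finite_app π U hU
    rw [Scheme.Hom.app_eq_appLE] at this
    exact this
  haveI : Module.Flat A B := HasRingHomProperty.appLE @Flat π inferInstance ⟨U, hU⟩ ⟨V, hV⟩ le_rfl
  haveI : Algebra.Etale A B := HasRingHomProperty.appLE @Etale π inferInstance ⟨U, hU⟩ ⟨V, hV⟩ le_rfl
  -- the residue field is algebraically closed
  let P := (hU.primeIdealOf ⟨p, hpU⟩)
  have hPp : hU.fromSpec P = p := hU.fromSpec_primeIdealOf ⟨p, hpU⟩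
  haveI hPmax : P.asIdeal.IsMaximal := by
    rw [← PrimeSpectrum.isClosed_singleton_iff_isMaximal]
    have : ({P} : Set _) = hU.fromSpec ⁻¹' {p} := by
      ext x
      simp only [Set.mem_singleton_iff, Set.mem_preimage]
      exact ⟨fun h => h ▸ hPp, fun h => hU.fromSpec.isOpenEmbedding.injective (h.trans hPp.symm)⟩
    rw [this]
    exact hp.preimage hU.fromSpec.continuous
  let ι := (Scheme.ΓSpecIso (CommRingCat.of k)).inv ≫ (X ↘ Spec (CommRingCat.of k)).appLE ⊤ U le_top
  letI : Algebra k A := ι.hom.toAlgebra
  haveI : Algebra.FiniteType k A := by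
    have h := HasRingHomProperty.appLE @LocallyOfFiniteType (X ↘ Spec (CommRingCat.of k)) inferInstance
      ⟨⊤, isAffineOpen_top _⟩ ⟨U, hU⟩ le_top
    exact h.comp (RingHom.FiniteType.of_surjective _
      (ConcreteCategory.bijective_of_isIso (Scheme.ΓSpecIso (CommRingCat.of k)).inv).2)
  let κ := P.asIdeal.ResidueField
  haveI : IsAlgClosed κ := by
    letI := Ideal.Quotient.field P.asIdeal
    haveI : Algebra.FiniteType k (A ⧸ P.asIdeal) :=
      Algebra.FiniteType.of_surjective (Ideal.Quotient.mkₐ k P.asIdeal) Ideal.Quotient.mk_surjective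
    haveI : Module.Finite k (A ⧸ P.asIdeal) := finite_of_finite_type_of_isJacobsonRing k (A ⧸ P.asIdeal)
    let e1 : k ≃+* A ⧸ P.asIdeal := RingEquiv.ofBijective (algebraMap k (A ⧸ P.asIdeal))
      IsAlgClosed.algebraMap_bijective_of_isIntegral
    let e2 : (A ⧸ P.asIdeal) ≃+* κ := RingEquiv.ofBijective _ (Ideal.bijective_algebraMap_quotient_residueField P.asIdeal)
    exact IsAlgClosed.of_ringEquiv k κ (e1.trans e2)
  -- count the points
  have hcard : Nat.card (PrimeSpectrum (P.asIdeal.Fiber B)) = Module.finrank A B := by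
    rw [← P.asIdeal.finrank_fiber_eq_finrank]
    haveI : Algebra.Etale κ (P.asIdeal.Fiber B) := inferInstance
    haveI : IsArtinianRing (P.asIdeal.Fiber B) := IsArtinianRing.of_finite κ _
    haveI := Fintype.ofFinite (PrimeSpectrum (P.asIdeal.Fiber B))
    rw [(Algebra.FormallyEtale.equivPiOfIsSepClosed κ (P.asIdeal.Fiber B)).toLinearEquiv.finrank_eq, Module.finrank_pi,
      Nat.card_eq_fintype_card]
  have hpts : {q : Y // π.base q = p} ≃ PrimeSpectrum.comap (algebraMap A B) ⁻¹' {P} := by
    have hcomm : ∀ Q : PrimeSpectrum B, π (hV.fromSpec Q) = hU.fromSpec (PrimeSpectrum.comap (algebraMap A B) Q) := fun Q => by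
      show (hV.fromSpec ≫ π) Q = (Spec.map (π.appLE U V le_rfl) ≫ hU.fromSpec) Q
      rw [hU.SpecMap_appLE_fromSpec π hV le_rfl]
    refine (Equiv.ofBijective (fun Q : PrimeSpectrum.comap (algebraMap A B) ⁻¹' {P} =>
      (⟨hV.fromSpec Q.1, by rw [hcomm, show PrimeSpectrum.comap (algebraMap A B) Q.1 = P from Q.2, hPp]⟩ :
        {q : Y // π.base q = p})) ⟨fun a b h => Subtype.ext (hV.fromSpec.isOpenEmbedding.injective (Subtype.mk_eq_mk.mp h)),
      fun q => ?_⟩).symm
    obtain ⟨Q, hQ⟩ := hV.range_fromSpec.ge (show q.1 ∈ V by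
      show π q.1 ∈ U
      rw [show π q.1 = p from q.2]; exact hpU)
    refine ⟨⟨Q, hU.fromSpec.isOpenEmbedding.injective ?_⟩, Subtype.ext hQ⟩
    rw [← hcomm, hQ, hPp]
    exact q.2
  rw [Nat.card_congr hpts, Nat.card_congr (PrimeSpectrum.preimageEquivFiber A B P), hcard]
  -- the degree
  haveI := functionField_isFractionRing_of_isAffineOpen X U hU
  haveI := functionField_isFractionRing_of_isAffineOpen Y V hV
  letI : Algebra X.functionField Y.functionField :=
    (X.presheaf.stalkSpecializes (specializes_of_eq e) ≫ π.stalkMap (genericPoint Y)).hom.toAlgebra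
  letI : Algebra A Y.functionField := ((algebraMap B Y.functionField).comp (algebraMap A B)).toAlgebra
  haveI : IsScalarTower A B Y.functionField := IsScalarTower.of_algebraMap_eq fun _ => rfl
  have hηU : genericPoint X ∈ U := (genericPoint_spec X).mem_open_set_iff U.isOpen |>.mpr ⟨p, trivial, hpU⟩
  haveI : IsScalarTower A X.functionField Y.functionField := IsScalarTower.of_algebraMap_eq fun a => by
    show Y.presheaf.germ V (genericPoint Y) _ (π.appLE U V le_rfl a) =
      π.stalkMap (genericPoint Y) (X.presheaf.stalkSpecializes (specializes_of_eq e) (X.presheaf.germ U (genericPoint X) hηU a))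
    rw [TopCat.Presheaf.germ_stalkSpecializes_apply]
    erw [Scheme.Hom.germ_stalkMap_apply]
    rw [← Scheme.Hom.app_eq_appLE]
  haveI : FaithfulSMul A B := by
    rw [faithfulSMul_iff_algebraMap_injective]
    intro a a' h
    refine IsFractionRing.injective A X.functionField ((algebraMap X.functionField Y.functionField).injective ?_)
    rw [← IsScalarTower.algebraMap_apply, ← IsScalarTower.algebraMap_apply, IsScalarTower.algebraMap_apply A B Y.functionField,
      IsScalarTower.algebraMap_apply A B Y.functionField, h]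
  haveI : Algebra.IsAlgebraic A B := inferInstance
  show Module.finrank A B = Module.finrank X.functionField Y.functionField
  exact (IsFractionRing.finrank_eq A X.functionField B Y.functionField).symm


end Groth.Agent.S15003
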