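import Groth.Statements.S1501
import Groth.Agent.S2153
import Groth.Agent.AmpleX.Rel
import Groth.Agent.AmpleX.RelAffine

set_option autoImplicit false
universe u
open FlatMor

set_option backward.isDefEq.respectTransparency false
set_option backward.isDefEq.respectTransparency.types false

namespace Groth.Agent.S1501

open AlgebraicGeometry CategoryTheory in
theorem isHomeomorph_of_thickening {Z X : Scheme.{u}} (i : Z ⟶ X) [IsClosedImmersion i] [Surjective i] :
    IsHomeomorph i.base :=
  isHomeomorph_iff_isEmbedding_surjective.2 ⟨i.isEmbedding, i.surjective⟩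

open AlgebraicGeometry CategoryTheory in
theorem isAmple_restrict_iff_thick {Z X : Scheme.{u}} (i : Z ⟶ X) [IsClosedImmersion i] [Surjective i]
    (L : X.Modules) (hL : PicF.IsInvertible L) (W : X.Opens) (W' : Z.Opens) (e : W' = i ⁻¹ᵁ W) :
    CohB1.IsAmple (L.restrict W.ι) ↔
      CohB1.IsAmple (((Scheme.Modules.pullback i).obj L).restrict W'.ι) := by
  subst e
  haveI : IsClosedImmersion (i ∣_ W) :=
    MorphismProperty.of_isPullback (P := @IsClosedImmersion) (isPullback_morphismRestrict i W).flip (by infer_instance)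
  haveI : Surjective (i ∣_ W) :=
    MorphismProperty.of_isPullback (P := @Surjective) (isPullback_morphismRestrict i W).flip (by infer_instance)
  have hW : PicF.IsInvertible (L.restrict W.ι) :=
    H23.PicMul.isInvertible_of_iso ((Scheme.Modules.restrictFunctorIsoPullback W.ι).app L).symm
      (PicClLib.isInvertible_pullback W.ι hL)
  let e : (Scheme.Modules.pullback (i ∣_ W)).obj (L.restrict W.ι) ≅
      ((Scheme.Modules.pullback i).obj L).restrict (i ⁻¹ᵁ W).ι :=
    (Scheme.Modules.pullback (i ∣_ W)).mapIso ((Scheme.Modules.restrictFunctorIsoPullback W.ι).app L) ≪≫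
      (Scheme.Modules.pullbackComp (i ∣_ W) W.ι).app L ≪≫
      (Scheme.Modules.pullbackCongr (morphismRestrict_ι i W)).app L ≪≫
      ((Scheme.Modules.pullbackComp (i ⁻¹ᵁ W).ι i).app L).symm ≪≫
      ((Scheme.Modules.restrictFunctorIsoPullback (i ⁻¹ᵁ W).ι).app _).symm
  exact (Groth.Agent.S2153.result (i ∣_ W) (isHomeomorph_of_thickening _) _ hW).symm.trans
    ⟨AmpleX.isAmple_of_iso e, AmpleX.isAmple_of_iso e.symm⟩

open AlgebraicGeometry CategoryTheory Limits in
/-- Let (f, f') : (X ⊂ X') → (S ⊂ S') be a morphism of thickenings (iX : X → X' and iS : S → S'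
thickenings with f ≫ iS = iX ≫ f') and L' an invertible O_{X'}-module with pullback L to X. Then L'
is ample relative to f' if and only if L is ample relative to f. -/
theorem result {X X' S S' : Scheme.{u}} (iX : X ⟶ X') (iS : S ⟶ S') (f : X ⟶ S) (f' : X' ⟶ S')
    (hX : MoreMor.IsThickening iX) (hS : MoreMor.IsThickening iS) (w : iX ≫ f' = f ≫ iS)
    (L' : X'.Modules) (hL' : PicF.IsInvertible L') :
    RelAmple.IsRelAmple f' L' ↔ RelAmple.IsRelAmple f ((Scheme.Modules.pullback iX).obj L') := by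
  haveI := hX.1
  haveI := hX.2
  haveI := hS.1
  haveI := hS.2
  have hpre : ∀ V : S'.Opens, f ⁻¹ᵁ (iS ⁻¹ᵁ V) = iX ⁻¹ᵁ (f' ⁻¹ᵁ V) := fun V => by
    rw [← Scheme.Hom.comp_preimage, ← Scheme.Hom.comp_preimage, w]
  constructor
  · intro h
    haveI := h.1
    haveI : QuasiCompact (f ≫ iS) := w ▸ (inferInstance : QuasiCompact (iX ≫ f'))
    refine ⟨QuasiCompact.of_comp f iS, fun U => ?_⟩
    let V : S'.Opens := ⟨iS '' (U.1 : Set S), (isHomeomorph_of_thickening iS).isOpenMap _ U.1.2⟩
    have hVU : iS ⁻¹ᵁ V = U.1 := TopologicalSpace.Opens.ext (Set.preimage_image_eq _ iS.isEmbedding.injective)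
    have hV : IsAffineOpen V := by
      haveI : IsAffine (iS ⁻¹ᵁ V).toScheme := hVU ▸ U.2
      haveI : IsClosedImmersion (iS ∣_ V) :=
        MorphismProperty.of_isPullback (P := @IsClosedImmersion) (isPullback_morphismRestrict iS V).flip
          (by infer_instance)
      haveI : Surjective (iS ∣_ V) :=
        MorphismProperty.of_isPullback (P := @Surjective) (isPullback_morphismRestrict iS V).flip
          (by infer_instance)
      exact MorLib.Thick.isAffine_of_thickening (iS ∣_ V) (iS ∣_ V).surjective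
    exact (isAmple_restrict_iff_thick iX L' hL' (f' ⁻¹ᵁ V) (f ⁻¹ᵁ U.1) (hVU ▸ hpre V)).1 (h.2 ⟨V, hV⟩)
  · intro h
    haveI := h.1
    refine ⟨⟨fun O hO hc => ?_⟩, fun V => ?_⟩
    · have h2 : IsCompact ((iX ≫ f') ⁻¹' O) := by
        rw [w]
        exact (f ≫ iS).isCompact_preimage (U := ⟨O, hO⟩) hc
      have h1 : f' ⁻¹' O = iX '' ((iX ≫ f') ⁻¹' O) := (Set.image_preimage_eq _ iX.surjective).symm
      exact h1 ▸ h2.image iX.continuous
    · exact (isAmple_restrict_iff_thick iX L' hL' (f' ⁻¹ᵁ V.1) (f ⁻¹ᵁ (iS ⁻¹ᵁ V.1)) (hpre _)).2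
        (h.2 ⟨iS ⁻¹ᵁ V.1, V.2.preimage iS⟩)

end Groth.Agent.S1501
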