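import Groth.Statements.S15026
import Groth.Agent.CurveCohLib.Proper
import Groth.Agent.S1585
import Groth.Agent.NormCurve.Delta
import Groth.Agent.PicGlue.Cover
import Groth.Agent.PicGlue.Dim

set_option autoImplicit false
set_option linter.style.haveILetI false
set_option linter.unusedSectionVars false
set_option backward.isDefEq.respectTransparency false
set_option backward.isDefEq.respectTransparency.types false
set_option maxHeartbeats 1000000
universe u
open CategoryTheory CategoryTheory.Limits AlgebraicGeometry
open TFCurv

namespace Groth.Agent.S15026

open Groth.Agent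


/-- Let X be an integral proper curve (integral, proper, of dimension one) over an algebraically closed
field k, with normalisation ν : X~ → X. Then every invertible module N on X~ is isomorphic to ν^*L
for some invertible module L on X: the pullback map Pic(X) → Pic(X~) is surjective. (The published
statement is the short exact sequence 0 → ⊕_x O~_x^×/O_x^× → Pic(X) → Pic(X~) → 0; only its
surjectivity is stated here.) -/
theorem result (k : Type u) [Field k] [IsAlgClosed k] (X : Scheme.{u}) [X.Over (Spec (CommRingCat.of k))] [IsIntegral X] [IsProper (X ↘ Spec (CommRingCat.of k))] (hdim : topologicalKrullDim X = 1) [QuasiCompact (X.fromSpecStalk (genericPoint X))] [QuasiSeparated (X.fromSpecStalk (genericPoint X))] (N : (Curv2.normalization X).Modules) (hN : PicF.IsInvertible N) : ∃ L : X.Modules, PicF.IsInvertible L ∧ Nonempty ((Scheme.Modules.pullback (Curv2.normalizationι X)).obj L ≅ N) := by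
  haveI : IsNoetherian X := Groth.Agent.CurveCohLib.isNoetherian_of_proper (k := k)
  have hN' := Groth.Agent.S1585.isNagata_affine k X
  haveI := Groth.Agent.NormCurve.isFinite_normalizationι X hN'
  obtain ⟨U, hU, hiso⟩ := Groth.Agent.NormCurve.exists_isIso X hN'
  haveI := hiso
  obtain ⟨hfin, hcl⟩ := Groth.Agent.PicGlue.finite_compl hdim.le U (Groth.Agent.PicGlue.genericPoints_subset_of_dense hU)
  have hdisc : DiscreteTopology ((U : Set X)ᶜ : Set X) := by
    haveI := hfin.to_subtype
    haveI : T1Space ((U : Set X)ᶜ : Set X) := ⟨fun z => by
      convert (hcl z.1 z.2).preimage continuous_subtype_val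
      ext w; simp [Subtype.ext_iff]⟩
    infer_instance
  obtain ⟨L, hL, hLi⟩ := Groth.Agent.PicGlue.exists_descend_iso (Curv2.normalizationι X) U hdisc N hN
  exact ⟨L, hL, hLi⟩

end Groth.Agent.S15026
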