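import Groth.Statements.S15054
import Mathlib.CategoryTheory.Monoidal.Cartesian.Grp

set_option autoImplicit false
universe u
open CategoryTheory CategoryTheory.Limits MonoidalCategory CartesianMonoidalCategory MonObj GrpObj AlgebraicGeometry
open BTGrp

namespace Groth.Agent.S15054

/-- Let ℓ be a prime and G = (G_ν)_ν an ℓ-divisible (Barsotti–Tate) group of height h over a scheme S,
given as the system of its finite locally free layers G_ν of order ℓ^{νh} with inclusions G_ν →
G_{ν+1} exhibiting G_ν as the ℓ^ν-torsion of G_{ν+1} and projections G_{ν+1} → G_ν (multiplication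
by ℓ). Let i_t : G_1 → G_{t+1} denote the iterated inclusions, pinned by i_0 = id and i_{t+1} = i_t
followed by G_{t+1} → G_{t+2}. Then for every t, i_t identifies G_1 with the kernel of
multiplication by ℓ on G_{t+1}: the ℓ-torsion of every layer is the first layer. (The published
statement identifies G_v with the ℓ^v-torsion of G_{v+t} for all v; this row is its case v = 1. The
published base is the spectrum of a Noetherian ring; the argument is formal and any base scheme is
allowed here.) -/
theorem result {S : Scheme.{u}} (ℓ h : ℕ) [Fact ℓ.Prime] (G : BTGrp.ProBT ℓ S h)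
    (i : (t : ℕ) → (G.G 1 ⟶ G.G (t + 1))) (hi0 : i 0 = 𝟙 (G.G 1))
    (hi : ∀ t : ℕ, i (t + 1) = i t ≫ G.incl (t + 1)) (t : ℕ) :
    AlgGrp.IsKernel (i t) ((𝟙 (G.G (t + 1))) ^ ℓ) := by
  have hmono : ∀ ν, Mono (G.incl ν) := fun ν => by
    have hk : IsPullback (G.incl ν) (toUnit (G.G ν)) ((𝟙 (G.G (ν + 1))) ^ (ℓ ^ ν)) η[G.G (ν + 1)] := G.isKernel ν
    exact ⟨fun f g hfg => hk.hom_ext hfg (toUnit_unique _ _)⟩
  have hmi : ∀ t, IsMonHom (i t) := by
    intro t
    induction t with
    | zero => rw [hi0]; infer_instance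
    | succ t ih => rw [hi]; infer_instance
  have hℓ1 : (𝟙 (G.G 1)) ^ ℓ = 1 := by
    have hk : IsPullback (G.incl 0) (toUnit (G.G 0)) ((𝟙 (G.G (0 + 1))) ^ (ℓ ^ 0)) η[G.G (0 + 1)] := G.isKernel 0
    have h := hk.w
    rw [pow_zero, pow_one, Category.comp_id, MonObj.one_eq_one, MonObj.comp_one] at h
    have h2 := G.proj_incl 0
    rw [h, MonObj.comp_one] at h2
    exact h2.symm
  have hmonoi : ∀ t, Mono (i t) := by
    intro t
    induction t with
    | zero => rw [hi0]; infer_instance
    | succ t ih =>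
      rw [hi]
      haveI := hmono (t + 1)
      infer_instance
  have key : ∀ t (T : Over S) (x : T ⟶ G.G (t + 1)), x ^ ℓ = 1 → ∃ y : T ⟶ G.G 1, y ≫ i t = x := by
    intro t
    induction t with
    | zero => intro T x _; exact ⟨x, by rw [hi0, Category.comp_id]⟩
    | succ t ih =>
      intro T x hx
      have hk : IsPullback (G.incl (t + 1)) (toUnit (G.G (t + 1))) ((𝟙 (G.G (t + 1 + 1))) ^ (ℓ ^ (t + 1)))
        η[G.G (t + 1 + 1)] := G.isKernel (t + 1)
      have hpow : x ^ (ℓ ^ (t + 1)) = 1 := by rw [pow_succ', pow_mul, hx, one_pow]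
      let y := hk.lift x (toUnit T) (by
        rw [MonObj.comp_pow, Category.comp_id, hpow, MonObj.one_eq_one, MonObj.comp_one])
      have hy : y ≫ G.incl (t + 1) = x := hk.lift_fst _ _ _
      have hyl : y ^ ℓ = 1 := by
        haveI := hmono (t + 1)
        rw [← cancel_mono (G.incl (t + 1)), MonObj.pow_comp, hy, hx, MonObj.one_comp]
      obtain ⟨z, hz⟩ := ih T y hyl
      exact ⟨z, by rw [hi, ← Category.assoc, hz, hy]⟩
  haveI := hmi t
  haveI := hmonoi t
  have hw : i t ≫ (𝟙 (G.G (t + 1))) ^ ℓ = toUnit (G.G 1) ≫ η[G.G (t + 1)] := by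
    rw [MonObj.comp_pow, Category.comp_id, MonObj.one_eq_one, MonObj.comp_one]
    rw [show i t ^ ℓ = ((𝟙 (G.G 1)) ^ ℓ) ≫ i t by rw [MonObj.pow_comp, Category.id_comp], hℓ1, MonObj.one_comp]
  have hlift : ∀ s : Limits.PullbackCone ((𝟙 (G.G (t + 1))) ^ ℓ) η[G.G (t + 1)], ∃ y, y ≫ i t = s.fst := fun s =>
    key t _ _ (by
      have h := s.condition
      simp only [MonObj.comp_pow, Category.comp_id, MonObj.one_eq_one, MonObj.comp_one] at h
      exact h)
  choose l hl using hlift
  exact IsPullback.of_isLimit' ⟨hw⟩ (Limits.PullbackCone.IsLimit.mk _ l hl (fun s => toUnit_unique _ _)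
    fun s m hm _ => (cancel_mono (i t)).mp (hm.trans (hl s).symm))

end Groth.Agent.S15054
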