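import Groth.Statements.S15056
import Mathlib

set_option autoImplicit false
universe u
open scoped TensorProduct
open FrobAlg

namespace Groth.Agent.S15056

/-- Let p be a prime number, R a Noetherian ring of characteristic p and A a finitely generated
commutative Hopf algebra over R (an affine algebraic R-group G = Spec A). The n-fold relative
Frobenius of G is the trivial homomorphism exactly when a^(p^n) = 0 for every a in the augmentation
ideal; G has finite Frobenius height when this holds for some n. Then G has finite Frobenius height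
if and only if A is a finite R-module and, for every algebraically closed field K and every ring
homomorphism R → K, the base change K ⊗_R A is a local ring (G is finite over R with connected
geometric fibres). -/
theorem result (p : ℕ) [Fact p.Prime] (R : Type u) [CommRing R] [CharP R p]
    [IsNoetherianRing R] (A : Type u) [CommRing A] [HopfAlgebra R A] [Algebra.FiniteType R A] :
    (∃ n : ℕ, ∀ a : A, Bialgebra.counitAlgHom R A a = 0 → a ^ p ^ n = 0) ↔
      (Module.Finite R A ∧ ∀ (K : Type u) [Field K] [IsAlgClosed K] [Algebra R K], IsLocalRing (K ⊗[R] A)) := by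
  constructor
  · rintro ⟨n, hn⟩
    have hnil : ∀ a : A, IsNilpotent (a - algebraMap R A (Bialgebra.counitAlgHom R A a)) := fun a =>
      ⟨p ^ n, hn _ (by rw [map_sub, AlgHom.commutes, Algebra.algebraMap_self, RingHom.id_apply, sub_self])⟩
    have hint : Algebra.IsIntegral R A := ⟨fun a => by
      obtain ⟨N, hN⟩ := hnil a
      have h1 : IsIntegral R (a - algebraMap R A (Bialgebra.counitAlgHom R A a)) := by
        refine ⟨Polynomial.X ^ N, Polynomial.monic_X_pow N, ?_⟩
        simpa using hN
      simpa using h1.add (isIntegral_algebraMap (x := Bialgebra.counitAlgHom R A a))⟩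
    refine ⟨Algebra.IsIntegral.finite, fun K _ _ _ => ?_⟩
    let e : K ⊗[R] A →ₐ[K] K := Algebra.TensorProduct.lift (AlgHom.id K K)
      ((Algebra.ofId R K).comp (Bialgebra.counitAlgHom R A)) fun _ _ => Commute.all _ _
    have hK : ∀ x, IsNilpotent (x - algebraMap K (K ⊗[R] A) (e x)) := fun x => by
      induction x using TensorProduct.induction_on with
      | zero => simp
      | tmul k a =>
        have : k ⊗ₜ[R] a - algebraMap K (K ⊗[R] A) (e (k ⊗ₜ[R] a)) =
            (k ⊗ₜ[R] (1 : A)) * ((1 : K) ⊗ₜ[R] (a - algebraMap R A (Bialgebra.counitAlgHom R A a))) := by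
          have he : e (k ⊗ₜ[R] a) = k * algebraMap R K (Bialgebra.counitAlgHom R A a) := by
            simp [e, Algebra.ofId_apply]
          rw [he, Algebra.TensorProduct.tmul_mul_tmul, mul_one, one_mul, TensorProduct.tmul_sub,
            Algebra.TensorProduct.algebraMap_apply, Algebra.algebraMap_self, RingHom.id_apply,
            Algebra.algebraMap_eq_smul_one (A := A) (Bialgebra.counitAlgHom R A a),
            ← TensorProduct.smul_tmul, Algebra.smul_def, mul_comm k]
        rw [this]
        exact (Commute.all _ _).isNilpotent_mul_left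
          ((hnil a).map (Algebra.TensorProduct.includeRight : A →ₐ[R] K ⊗[R] A))
      | add x y hx hy =>
        rw [map_add, map_add, add_sub_add_comm]
        exact (Commute.all _ _).isNilpotent_add hx hy
    haveI : Nontrivial (K ⊗[R] A) := e.toRingHom.domain_nontrivial
    refine IsLocalRing.of_isUnit_or_isUnit_one_sub_self fun x => ?_
    rcases eq_or_ne (e x) 0 with h | h
    · exact Or.inr (IsNilpotent.isUnit_one_sub (by simpa [h] using hK x))
    · left
      have hu : IsUnit (algebraMap K (K ⊗[R] A) (e x)) := (IsUnit.mk0 _ h).map _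
      simpa using IsNilpotent.isUnit_add_left_of_commute (hK x) hu (Commute.all _ _)
  · rintro ⟨-, hloc⟩
    haveI : IsNoetherianRing A := Algebra.FiniteType.isNoetherianRing R A
    obtain ⟨N, hN⟩ := IsNoetherianRing.isNilpotent_nilradical A
    obtain ⟨n, hn⟩ : ∃ n, N ≤ p ^ n := ⟨N, (Nat.lt_pow_self (Fact.out : p.Prime).one_lt).le⟩
    refine ⟨n, fun a ha => ?_⟩
    have hnil : a ∈ nilradical A := by
      rw [nilradical_eq_sInf, Ideal.mem_sInf]
      intro P hP
      haveI : P.IsPrime := hP
      let K := AlgebraicClosure (FractionRing (A ⧸ P))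
      let ψ : A →ₐ[R] K := IsScalarTower.toAlgHom R A K
      haveI := hloc K
      let f : K ⊗[R] A →ₐ[K] K := Algebra.TensorProduct.lift (AlgHom.id K K) ψ fun _ _ => Commute.all _ _
      let e : K ⊗[R] A →ₐ[K] K := Algebra.TensorProduct.lift (AlgHom.id K K)
        ((Algebra.ofId R K).comp (Bialgebra.counitAlgHom R A)) fun _ _ => Commute.all _ _
      have hmax : ∀ g : K ⊗[R] A →ₐ[K] K, RingHom.ker g = IsLocalRing.maximalIdeal (K ⊗[R] A) := fun g =>
        IsLocalRing.eq_maximalIdeal (RingHom.ker_isMaximal_of_surjective g fun k =>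
          ⟨algebraMap K _ k, g.commutes k⟩)
      have h1 : (1 : K) ⊗ₜ[R] a ∈ RingHom.ker e := by
        simp [e, RingHom.mem_ker, ha]
      rw [hmax e, ← hmax f] at h1
      have h2 : algebraMap A K a = 0 := by simpa [f, ψ, RingHom.mem_ker] using h1
      rwa [IsScalarTower.algebraMap_apply A (A ⧸ P) K, map_eq_zero_iff _ ((IsScalarTower.algebraMap_eq (A ⧸ P) (FractionRing (A ⧸ P)) K) ▸ (algebraMap (FractionRing (A ⧸ P)) K).injective.comp (IsFractionRing.injective (A ⧸ P) _)),
        Ideal.Quotient.algebraMap_eq, Ideal.Quotient.eq_zero_iff_mem] at h2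
    refine pow_eq_zero_of_le hn ?_
    simpa [hN] using Ideal.pow_mem_pow hnil N

end Groth.Agent.S15056
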