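import Groth.Statements.S15071
import Groth.Agent.SurfStab.KernelFree
import Groth.Agent.StabHom.Iso
import Groth.Agent.Ref1X.Big
import Groth.Agent.Div21Lib.Invertible

set_option autoImplicit false
set_option linter.style.haveILetI false
set_option backward.isDefEq.respectTransparency false
set_option backward.isDefEq.respectTransparency.types false
universe u
open CategoryTheory CategoryTheory.Limits AlgebraicGeometry
open OrdSurf

namespace Groth.Agent.S15071

open Groth.Agent

/-- Let k be an algebraically closed field of characteristic zero and X a smooth projective surface over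
k (an integral k-scheme, smooth over k, of dimension two, admitting a closed immersion over k into
some projective space P^n_k). Let φ : M → N be a monomorphism between finite locally free
O_X-modules. Then either φ is an isomorphism, or the support of the cokernel of φ contains a point
of X whose local ring has Krull dimension at most one, i.e. the support has codimension at most one
in X. (The published statement phrases the first alternative as M and N being isomorphic; the
argument shows that the given monomorphism is an isomorphism, which is the form stated here.) -/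
theorem result (k : Type u) [Field k] [IsAlgClosed k] [CharZero k]
    (X : Scheme.{u}) [X.Over (Spec (CommRingCat.of k))] [IsIntegral X]
    [Smooth (X ↘ Spec (CommRingCat.of k))] (hdim : topologicalKrullDim X = 2)
    (hproj : ∃ (n : ℕ) (ι : X ⟶ CohB1.ProjSpace n k), IsClosedImmersion ι ∧
      ι ≫ CohB1.ProjSpace.toSpec n k = X ↘ Spec (CommRingCat.of k))
    (M N : X.Modules) (hM : FlatMod.IsFinLocFree M) (hN : FlatMod.IsFinLocFree N)
    (φ : M ⟶ N) [Mono φ] :
    IsIso φ ∨ ∃ x : X, x ∈ CohB1.support (cokernel φ) ∧ ringKrullDim (X.presheaf.stalk x) ≤ 1 := by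
  haveI : IsLocallyNoetherian X := LocallyOfFiniteType.isLocallyNoetherian (X ↘ Spec (CommRingCat.of k))
  by_cases h : ∃ x : X, x ∈ CohB1.support (cokernel φ) ∧ ringKrullDim (X.presheaf.stalk x) ≤ 1
  · exact Or.inr h
  push Not at h
  have hc : ∀ {P : X.Modules}, FlatMod.IsFinLocFree P → Coh.IsCoh P ∧ RefHull.IsReflexive P := fun {P} hP => by
    have hPc : Coh.IsCoh P :=
      ⟨QCoh.isQCoh_of_isFinLocFree hP, QCoh.isFT_of_isFP (QCoh.isFP_of_isFinLocFree hP)⟩
    refine ⟨hPc, (RefX.isReflexive_iff hPc).2 fun x => ?_⟩
    haveI := QCoh.free_stalk_of_isFinLocFree hP x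
    haveI := QCoh.finite_stalk_of_isFT hPc.1 hPc.2 x
    exact (inferInstance : Module.IsReflexive (X.presheaf.stalk x) (P.presheaf.stalk x))
  have key : ∀ y : X, Order.coheight y ≤ 1 → Function.Bijective (RefHull.stalkMapₗ φ y) := fun y hy => by
    refine StabHom.bijective_stalk φ y fun hmem => (h y hmem).not_ge ?_
    rw [ringKrullDim_stalk_eq_coheight]
    exact_mod_cast hy
  refine Or.inl (StabHom.isIso_of_codim (Ref1X.isNormalScheme_of_regular fun x =>
      GrpSchLib.isRegularLocalRing_stalk_of_smooth (X ↘ Spec (CommRingCat.of k)) x)
    (hc hM).1 (hc hM).2 (hc hN).1 (hc hN).2 φ (key _ ?_) fun y hy => key y hy.le)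
  rw [show Order.coheight (genericPoint X) = 0 from Order.coheight_eq_zero.2 fun y _ => genericPoint_specializes y]
  exact zero_le_one

end Groth.Agent.S15071
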