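import Groth.Statements.S15077
import Groth.Agent.H23.ModLoc
import Groth.Agent.H23.PicMul
import Groth.Agent.GGFF.PicInj
import Groth.Agent.Lib.CurveEnd
import Groth.Agent.InvX.GenLocus
import Groth.Agent.QuadricKer.Kernel
import Groth.Agent.PnCoh.Chow.Proper

set_option autoImplicit false
set_option backward.isDefEq.respectTransparency false
set_option backward.isDefEq.respectTransparency.types false
set_option maxHeartbeats 1000000
universe u
open CategoryTheory CategoryTheory.Limits AlgebraicGeometry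
open OrdSurf

namespace Groth.Agent.S15077

open H23.PicMul

section

variable {X : Scheme.{u}}

theorem tensor_four (L A B C D A' B' C' D' : X.Modules) (ha : Nonempty (CohB1.tensorMod L A ≅ A'))
    (hb : Nonempty (CohB1.tensorMod L B ≅ B')) (hc : Nonempty (CohB1.tensorMod L C ≅ C'))
    (hd : Nonempty (CohB1.tensorMod L D ≅ D')) :
    Nonempty (CohB1.tensorMod (A ⊞ B ⊞ C ⊞ D) L ≅ A' ⊞ B' ⊞ C' ⊞ D') := by
  obtain ⟨a⟩ := ha; obtain ⟨b⟩ := hb; obtain ⟨c⟩ := hc; obtain ⟨d⟩ := hd
  obtain ⟨e₀⟩ := comm (A ⊞ B ⊞ C ⊞ D) L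
  obtain ⟨e₁⟩ := QuadricKer.nonempty_tensor_biprod L A (B ⊞ C ⊞ D)
  obtain ⟨e₂⟩ := QuadricKer.nonempty_tensor_biprod L B (C ⊞ D)
  obtain ⟨e₃⟩ := QuadricKer.nonempty_tensor_biprod L C D
  exact ⟨e₀ ≪≫ e₁ ≪≫ biprod.mapIso a (e₂ ≪≫ biprod.mapIso b (e₃ ≪≫ biprod.mapIso c d))⟩

/-- Swapping within both pairs. -/
noncomputable def swapIn (A B C D : X.Modules) : A ⊞ B ⊞ C ⊞ D ≅ B ⊞ A ⊞ D ⊞ C :=
  (biprod.associator A B (C ⊞ D)).symm ≪≫ biprod.mapIso (biprod.braiding A B) (biprod.braiding C D) ≪≫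
    biprod.associator B A (D ⊞ C)

/-- Swapping the pairs. -/
noncomputable def swapOut (A B C D : X.Modules) : A ⊞ B ⊞ C ⊞ D ≅ C ⊞ D ⊞ A ⊞ B :=
  (biprod.associator A B (C ⊞ D)).symm ≪≫ biprod.braiding (A ⊞ B) (C ⊞ D) ≪≫ biprod.associator C D (A ⊞ B)

theorem id_eq_sum {A B C D : X.Modules} :
    𝟙 (A ⊞ B ⊞ C ⊞ D) = biprod.fst ≫ biprod.inl + (biprod.snd ≫ biprod.fst) ≫ biprod.inl ≫ biprod.inr +
      (biprod.snd ≫ biprod.snd ≫ biprod.fst) ≫ biprod.inl ≫ biprod.inr ≫ biprod.inr +
      (biprod.snd ≫ biprod.snd ≫ biprod.snd) ≫ biprod.inr ≫ biprod.inr ≫ biprod.inr := by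
  refine biprod.hom_ext _ _ ?_ (biprod.hom_ext _ _ ?_ (biprod.hom_ext _ _ ?_ ?_)) <;> simp

variable (k : Type u) [Field k] [IsAlgClosed k] [X.Over (Spec (CommRingCat.of k))] [IsIntegral X]
  [IsProper (X ↘ Spec (CommRingCat.of k))]

include k in
theorem isIso_or_zero (g : Coh.structureModule X ⟶ Coh.structureModule X) : IsIso g ∨ g = 0 := by
  by_cases h : H23.ModLoc.coeff g = 0
  · right
    exact H23.ModLoc.coeff_injective (h.trans H23.ModLoc.coeff_zero.symm)
  · left
    obtain ⟨c, hc⟩ := (CurveEnd.toGlobal_bijective (X := X) (k := k)).2 (H23.ModLoc.coeff g)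
    exact H23.ModLoc.isIso_of_isUnit_coeff g (hc ▸ (IsUnit.mk0 c (fun h0 => h (by rw [← hc, h0, map_zero]))).map _)

omit [IsAlgClosed k] [X.Over (Spec (CommRingCat.of k))] [IsIntegral X] [IsProper (X ↘ Spec (CommRingCat.of k))] in
theorem iso_of_retract {N : X.Modules} (hN : PicF.IsInvertible N) (i : Coh.structureModule X ⟶ N)
    (p : N ⟶ Coh.structureModule X) (h : IsIso (i ≫ p)) : Nonempty (N ≅ Coh.structureModule X) := by
  haveI := h
  haveI : Epi p := epi_of_epi i p
  haveI := GGFF.isIso_of_epi_invertible hN InvX.isInvertible_structureModule p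
  exact ⟨asIso p⟩

include k in
theorem exists_unit_summand {A B C D T : X.Modules} (hA : PicF.IsInvertible A) (hB : PicF.IsInvertible B)
    (hC : PicF.IsInvertible C) (hD : PicF.IsInvertible D) (i : Coh.structureModule X ⟶ T)
    (p : T ⟶ Coh.structureModule X) (hip : i ≫ p = 𝟙 _) (e : T ≅ A ⊞ B ⊞ C ⊞ D) :
    Nonempty (A ≅ Coh.structureModule X) ∨ Nonempty (B ≅ Coh.structureModule X) ∨
      Nonempty (C ≅ Coh.structureModule X) ∨ Nonempty (D ≅ Coh.structureModule X) := by
  let a := i ≫ e.hom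
  let b := e.inv ≫ p
  have hab : a ≫ 𝟙 _ ≫ b = 𝟙 _ := by simp [a, b, hip]
  rw [id_eq_sum] at hab
  simp only [Preadditive.add_comp, Preadditive.comp_add, Category.assoc] at hab
  by_contra hcon
  push Not at hcon
  obtain ⟨n1, n2, n3, n4⟩ := hcon
  have z1 := (isIso_or_zero k ((a ≫ biprod.fst) ≫ (biprod.inl ≫ b))).resolve_left
    fun h => n1.false (iso_of_retract hA _ _ h).some
  have z2 := (isIso_or_zero k ((a ≫ biprod.snd ≫ biprod.fst) ≫ (biprod.inl ≫ biprod.inr ≫ b))).resolve_left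
    fun h => n2.false (iso_of_retract hB _ _ h).some
  have z3 := (isIso_or_zero k ((a ≫ biprod.snd ≫ biprod.snd ≫ biprod.fst) ≫
    (biprod.inl ≫ biprod.inr ≫ biprod.inr ≫ b))).resolve_left fun h => n3.false (iso_of_retract hC _ _ h).some
  have z4 := (isIso_or_zero k ((a ≫ biprod.snd ≫ biprod.snd ≫ biprod.snd) ≫
    (biprod.inr ≫ biprod.inr ≫ biprod.inr ≫ b))).resolve_left fun h => n4.false (iso_of_retract hD _ _ h).some
  simp only [Category.assoc] at z1 z2 z3 z4
  rw [z1, z2, z3, z4] at hab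
  simp only [add_zero] at hab
  have h1 := congrArg H23.ModLoc.coeff hab
  rw [H23.ModLoc.coeff_zero, H23.ModLoc.coeff_id] at h1
  exact zero_ne_one (α := Γ(X, ⊤)) h1

end


/-- Let k be an algebraically closed field of characteristic zero and X a smooth projective surface over
k (an integral k-scheme, smooth over k, of dimension two, admitting a closed immersion over k into
some projective space P^n_k). Let I and J be invertible O_X-modules that are two-torsion, I ⊗ I ≅
O_X and J ⊗ J ≅ O_X, let K = I ⊗ J, and let F = O_X ⊕ I ⊕ J ⊕ K (so that O_X, I, J, K form a Klein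
four-group of classes in Pic X when I, J, K are nontrivial and distinct). Then for every invertible
O_X-module L, the O_X-modules F ⊗ L and F are isomorphic if and only if L is isomorphic to one of
O_X, I, J, K. (The published statement is for the abelian surface E_1 × E_2, with I and J pulled
back from two-torsion line bundles on the two elliptic curves and F the underlying module of the
quaternion algebra built from them; this row is stated on any smooth projective surface for any
two-torsion invertible I and J.) -/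
theorem result (k : Type u) [Field k] [IsAlgClosed k] [CharZero k]
    (X : Scheme.{u}) [X.Over (Spec (CommRingCat.of k))] [IsIntegral X]
    [Smooth (X ↘ Spec (CommRingCat.of k))] (hdim : topologicalKrullDim X = 2)
    (hproj : ∃ (n : ℕ) (ι : X ⟶ CohB1.ProjSpace n k), IsClosedImmersion ι ∧
      ι ≫ CohB1.ProjSpace.toSpec n k = X ↘ Spec (CommRingCat.of k))
    (I J : X.Modules) (hI : PicF.IsInvertible I) (hJ : PicF.IsInvertible J)
    (hI2 : Nonempty (CohB1.tensorMod I I ≅ Coh.structureModule X))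
    (hJ2 : Nonempty (CohB1.tensorMod J J ≅ Coh.structureModule X))
    (L : X.Modules) (hL : PicF.IsInvertible L) :
    Nonempty (CohB1.tensorMod (Coh.structureModule X ⊞ I ⊞ J ⊞ CohB1.tensorMod I J) L ≅
        Coh.structureModule X ⊞ I ⊞ J ⊞ CohB1.tensorMod I J) ↔
      (Nonempty (L ≅ Coh.structureModule X) ∨ Nonempty (L ≅ I) ∨ Nonempty (L ≅ J) ∨
        Nonempty (L ≅ CohB1.tensorMod I J)) := by
  haveI : IsProper (X ↘ Spec (CommRingCat.of k)) := by
    obtain ⟨n, ι, hι, e⟩ := hproj
    haveI := PnCoh.Chow.isProper_toSpec n k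
    rw [← e]
    infer_instance
  let O := Coh.structureModule X
  let K := CohB1.tensorMod I J
  have hK : PicF.IsInvertible K := isInvertible_tensor hI hJ
  have i2 : PicF.cl I * PicF.cl I = 1 := by rw [← cl_tensor, one_def, cl_eq_iff]; exact hI2
  have j2 : PicF.cl J * PicF.cl J = 1 := by rw [← cl_tensor, one_def, cl_eq_iff]; exact hJ2
  have hk' : PicF.cl K = PicF.cl I * PicF.cl J := cl_tensor I J
  constructor
  · rintro ⟨e⟩
    obtain ⟨e'⟩ := tensor_four L O I J K _ _ _ _ (unit L) ⟨Iso.refl _⟩ ⟨Iso.refl _⟩ ⟨Iso.refl _⟩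
    have key : ∀ A : X.Modules, PicF.cl A * PicF.cl A = 1 →
        Nonempty (CohB1.tensorMod L A ≅ O) → Nonempty (L ≅ A) := fun A h2 ⟨f⟩ => by
      rw [← cl_eq_iff]
      have h : PicF.cl L * PicF.cl A = 1 := by rw [← cl_tensor, one_def, cl_eq_iff]; exact ⟨f⟩
      rw [← mul_one (PicF.cl L), ← h2, ← mul_assoc, h, one_mul]
    rcases exists_unit_summand k hL (isInvertible_tensor hL hI) (isInvertible_tensor hL hJ)
      (isInvertible_tensor hL hK) biprod.inl biprod.fst biprod.inl_fst (e.symm ≪≫ e') with h | h | h | h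
    · exact Or.inl h
    · exact Or.inr (Or.inl (key I i2 h))
    · exact Or.inr (Or.inr (Or.inl (key J j2 h)))
    · refine Or.inr (Or.inr (Or.inr (key K ?_ h)))
      rw [hk', mul_mul_mul_comm, i2, j2, one_mul]
  · have mk : ∀ A B : X.Modules, ∀ C : X.Modules, PicF.cl A * PicF.cl B = PicF.cl C →
        PicF.cl L = PicF.cl A → Nonempty (CohB1.tensorMod L B ≅ C) := fun A B C h h' => by
      rw [← cl_eq_iff, cl_tensor, h', h]
    have o1 : ∀ c : PicF.Cl X, c * PicF.cl O = c := fun c => by rw [show PicF.cl O = 1 from one_def.symm, mul_one]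
    have o1' : ∀ c : PicF.Cl X, PicF.cl O * c = c := fun c => by rw [show PicF.cl O = 1 from one_def.symm, one_mul]
    have ij : PicF.cl I * PicF.cl K = PicF.cl J := by rw [hk', ← mul_assoc, i2, one_mul]
    have ji : PicF.cl J * PicF.cl K = PicF.cl I := by rw [hk', mul_left_comm, j2, mul_one]
    have kk : PicF.cl K * PicF.cl K = PicF.cl O := by rw [hk', mul_mul_mul_comm, i2, j2, one_mul]; rfl
    rintro (h | h | h | h) <;> rw [← cl_eq_iff] at h
    · exact tensor_four L O I J K O I J K (mk O O O (o1 _) h) (mk O I I (o1' _) h) (mk O J J (o1' _) h)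
        (mk O K K (o1' _) h)
    · obtain ⟨e⟩ := tensor_four L O I J K I O K J (mk I O I (o1 _) h) (mk I I O (i2.trans one_def) h)
        (mk I J K hk'.symm h) (mk I K J ij h)
      exact ⟨e ≪≫ swapIn I O K J⟩
    · obtain ⟨e⟩ := tensor_four L O I J K J K O I (mk J O J (o1 _) h) (mk J I K ((mul_comm _ _).trans hk'.symm) h)
        (mk J J O (j2.trans one_def) h) (mk J K I ji h)
      exact ⟨e ≪≫ swapOut J K O I⟩
    · obtain ⟨e⟩ := tensor_four L O I J K K J I O (mk K O K (o1 _) h) (mk K I J ((mul_comm _ _).trans ij) h)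
        (mk K J I ((mul_comm _ _).trans ji) h) (mk K K O kk h)
      exact ⟨e ≪≫ swapOut K J I O ≪≫ swapIn I O K J⟩

end Groth.Agent.S15077
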