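import Groth.Statements.S15079
import Groth.Agent.H9Monic.Basic

set_option linter.style.haveILetI false


set_option autoImplicit false
universe u v
open MovLem

namespace Groth.Agent.S15079

/-- Let k be an infinite perfect field, r, m ≥ 1, and let f be an irreducible polynomial in t over
k[x_1, …, x_r] whose constant term in t is a unit of k[x_1, …, x_r], so that the hypersurface Z : f
= 0 in affine (r+1)-space with coordinates x_1, …, x_r, t is integral and does not meet the divisor
t = 0 (the modulus condition in cubical degree one). Then there are a nonzero polynomial h in k[x_1,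
…, x_r] and an integer s₀ such that for every s ≥ s₀, every field K over k and every point g of K^r
with h(g) ≠ 0, the translate of Z_K by the automorphism x_i ↦ x_i + t^{s(m+1)} g_i, t ↦ t is finite
and surjective over affine r-space over K: the quotient of K[x_1, …, x_r][t] by the translated
equation is a finitely generated K[x_1, …, x_r]-module and K[x_1, …, x_r] maps injectively into it.
(The published statement allows every nonzero point g of affine r-space; for r = 2 and f = x_1 t − 1
the point g = (0, 1) translates Z to itself, which is not finite over the affine plane, so the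
conclusion is stated here for g in a nonempty open subset h ≠ 0, which is what the published proof
establishes.) -/
theorem result
    {k : Type u} [Field k] [Infinite k] [PerfectField k] (r m : ℕ) (hr : 1 ≤ r) (hm : 1 ≤ m)
    (f : Polynomial (MvPolynomial (Fin r) k)) (hirr : Irreducible f) (h0 : IsUnit (f.coeff 0)) :
    ∃ h : MvPolynomial (Fin r) k, h ≠ 0 ∧ ∃ s₀ : ℕ, ∀ s : ℕ, s₀ ≤ s →
      ∀ (K : Type v) [Field K] [Algebra k K] (g : Fin r → K), MvPolynomial.aeval g h ≠ 0 →
        ∀ F : Polynomial (MvPolynomial (Fin r) K),
          F = Polynomial.eval₂ (MvPolynomial.aeval (fun i : Fin r => Polynomial.C (MvPolynomial.X i) + Polynomial.C (MvPolynomial.C (g i)) * Polynomial.X ^ (s * (m + 1))) : MvPolynomial (Fin r) k →ₐ[k] Polynomial (MvPolynomial (Fin r) K)).toRingHom Polynomial.X f →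
          Module.Finite (MvPolynomial (Fin r) K) (Polynomial (MvPolynomial (Fin r) K) ⧸ Ideal.span {F}) ∧
          Function.Injective ((Ideal.Quotient.mk (Ideal.span {F})).comp (algebraMap (MvPolynomial (Fin r) K) (Polynomial (MvPolynomial (Fin r) K)))) := by
  obtain ⟨h, hh, H⟩ := H9Monic.main f hirr.not_isUnit hirr.ne_zero
  refine ⟨h, hh, f.natDegree + 1, ?_⟩
  intro s hs K _ _ g hg F hF
  obtain ⟨M, hM, hdeg, hu⟩ := H K g (s * (m + 1)) (by nlinarith) hg
  have hF' : F = f.eval₂ (H9Monic.subst g (s * (m + 1))).toRingHom Polynomial.X := hF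
  rw [← hF'] at hdeg hu
  obtain ⟨u, hu⟩ := hu
  have hmon : (Polynomial.C (↑u⁻¹ : MvPolynomial (Fin r) K) * F).Monic := by
    rw [Polynomial.Monic, Polynomial.leadingCoeff_mul, Polynomial.leadingCoeff_C, ← hu, Units.inv_mul]
  refine ⟨?_, ?_⟩
  · have := hmon.finite_quotient
    rwa [Ideal.span_singleton_mul_left_unit (Polynomial.isUnit_C.mpr u⁻¹.isUnit)] at this
  · rw [injective_iff_map_eq_zero]
    intro a ha
    rw [RingHom.comp_apply, Polynomial.algebraMap_eq, Ideal.Quotient.eq_zero_iff_mem, Ideal.mem_span_singleton'] at ha
    obtain ⟨q, hq⟩ := ha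
    by_contra ha0
    have hq0 : q ≠ 0 := by
      rintro rfl
      rw [zero_mul] at hq
      exact ha0 (Polynomial.C_eq_zero.mp hq.symm)
    have hF0 : F ≠ 0 := by
      intro h
      rw [h, Polynomial.natDegree_zero] at hdeg
      omega
    have := congrArg Polynomial.natDegree hq
    rw [Polynomial.natDegree_mul hq0 hF0, Polynomial.natDegree_C] at this
    omega
end Groth.Agent.S15079
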