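import Groth.Statements.S15085
import Groth.Agent.VarDim.Fibre
import Groth.Agent.CycLib.Finite
import Groth.Agent.FibDim.AffineSpaceFibre

set_option linter.style.haveILetI false
set_option backward.isDefEq.respectTransparency false
set_option backward.isDefEq.respectTransparency.types false


set_option autoImplicit false
universe u
open CategoryTheory CategoryTheory.Limits AlgebraicGeometry
open MovLem

namespace Groth.Agent.S15085

/-- Let k be a field, X an affine scheme of finite type over k which is equidimensional (all irreducible
components have the same dimension), B̂ a proper smooth geometrically integral k-scheme and B ⊆ B̂ a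
nonempty affine open subscheme. Let Z be an integral closed subscheme of X ×_k B of dimension dim X
(that is, of codimension dim B, the product X ×_k B being equidimensional of dimension dim X + dim
B). Then the projection Z → X is finite and maps Z onto an irreducible component of X if and only if
Z is closed in X ×_k B̂. (The published statement allows X to be essentially of finite type, i.e.
also a localization of such a scheme at finitely many points, takes B̂ projective of positive
dimension, and phrases the dimension condition as codimension dim B; this row is the finite-type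
case with properness in place of projectivity.) -/
theorem result
    {k : Type u} [Field k] {X Bhat Z : Scheme.{u}}
    (sX : X ⟶ Spec (CommRingCat.of k)) (sB : Bhat ⟶ Spec (CommRingCat.of k))
    [IsAffine X] [LocallyOfFiniteType sX]
    (hXeq : ∀ T ∈ irreducibleComponents (X : Type u), topologicalKrullDim T = topologicalKrullDim X)
    [IsProper sB] [Smooth sB] [GeometricallyIntegral sB]
    (B : Bhat.Opens) (hB : IsAffineOpen B) (hBne : (B : Set Bhat).Nonempty)
    [IsIntegral Z] (ι : Z ⟶ ((pullback.snd sX sB) ⁻¹ᵁ B).toScheme) [IsClosedImmersion ι]
    (hZ : topologicalKrullDim Z = topologicalKrullDim X)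
    (j : Z ⟶ pullback sX sB) (hj : j = ι ≫ ((pullback.snd sX sB) ⁻¹ᵁ B).ι) :
    (IsFinite (j ≫ pullback.fst sX sB) ∧
        Set.range (j ≫ pullback.fst sX sB).base ∈ irreducibleComponents (X : Type u)) ↔
      IsClosed (Set.range j.base) := by
  let P := pullback sX sB
  let W := (pullback.snd sX sB) ⁻¹ᵁ B
  haveI : IsSeparated (pullback.fst sX sB) := inferInstance
  haveI : IsProper (pullback.fst sX sB) := MorphismProperty.pullback_fst _ _ inferInstance
  constructor
  · rintro ⟨hfin, -⟩
    haveI := hfin
    haveI : IsProper j := IsProper.of_comp j (pullback.fst sX sB)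
    exact j.isClosedMap.isClosed_range
  · intro hcl
    haveI : IsImmersion j := by rw [hj]; infer_instance
    haveI : IsClosedImmersion j := .of_isPreimmersion j hcl
    haveI : IsProper (j ≫ pullback.fst sX sB) := inferInstance
    haveI : IsAffine W.toScheme := by
      haveI : IsAffine B.toScheme := hB
      exact IsAffine.of_isIso ((isPullback_morphismRestrict (pullback.snd sX sB) B).flip.paste_horiz
        (IsPullback.of_hasPullback sX sB)).isoPullback.hom
    haveI : IsAffine Z := isAffine_of_isAffineHom ι
    haveI : IsFinite (j ≫ pullback.fst sX sB) :=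
      IsFinite.iff_isProper_and_isAffineHom.2 ⟨inferInstance, inferInstance⟩
    refine ⟨inferInstance, ?_⟩
    let φ := j ≫ pullback.fst sX sB
    haveI : IsFinite φ := inferInstanceAs (IsFinite (j ≫ pullback.fst sX sB))
    let pZ := φ ≫ sX
    haveI : LocallyOfFiniteType pZ := inferInstanceAs (LocallyOfFiniteType (φ ≫ sX))
    have hd : Groth.Agent.VarDim.deg pZ (genericPoint Z) = Groth.Agent.VarDim.deg sX (φ (genericPoint Z)) := by
      rw [Groth.Agent.VarDim.deg_eq_add φ sX rfl]
      have h0 : Groth.Agent.VarDim.fdeg φ (genericPoint Z) = 0 := by
        have h := Groth.Agent.CycLib.finite_residueFieldMap_of_rd_eq_zero φ (genericPoint Z)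
          (Groth.Agent.FibDim.rd_eq_zero_of_quasiFinite φ (genericPoint Z))
        letI := (φ.residueFieldMap (genericPoint Z)).hom.toAlgebra
        have : Module.Finite (X.residueField (φ (genericPoint Z))) (Z.residueField (genericPoint Z)) := h
        rw [Groth.Agent.VarDim.fdeg, Groth.Agent.VarDim.rdeg, trdeg_eq_zero, map_zero]
      rw [h0, add_zero]
    have hgen : genericPoint Z ∈ (Set.univ : Set Z) := trivial
    have hrange : Set.range φ.base = closure {φ (genericPoint Z)} := by
      refine le_antisymm ?_ (closure_minimal (Set.singleton_subset_iff.2 ⟨_, rfl⟩) φ.isClosedMap.isClosed_range)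
      rintro _ ⟨z, rfl⟩
      exact specializes_iff_mem_closure.1 ((genericPoint_specializes z).map φ.continuous)
    change Set.range φ.base ∈ _
    rw [hrange]
    obtain ⟨T, hT, hTφ⟩ : ∃ T ∈ irreducibleComponents (X : Type u), φ (genericPoint Z) ∈ T :=
      ⟨_, irreducibleComponent_mem_irreducibleComponents _, mem_irreducibleComponent⟩
    have hTc := (isClosed_of_mem_irreducibleComponents T hT).closure_eq
    have hTg : closure {hT.1.genericPoint} = T := by rw [hT.1.genericPoint_closure_eq, hTc]
    have hsp : hT.1.genericPoint ⤳ φ (genericPoint Z) := by
      rw [specializes_iff_mem_closure, hTg]; exact hTφ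
    have hdeg : Groth.Agent.VarDim.deg sX hT.1.genericPoint = Groth.Agent.VarDim.deg sX (φ (genericPoint Z)) := by
      have h1 := Groth.Agent.VarDim.topologicalKrullDim_closure_singleton sX hT.1.genericPoint
      rw [hTg, hXeq T hT, ← hZ, Groth.Agent.VarDim.topologicalKrullDim_eq_deg_genericPoint pZ, hd] at h1
      exact_mod_cast h1.symm
    rw [← Groth.Agent.VarDim.eq_of_specializes_of_deg_le sX hsp hdeg.le, hTg]
    exact hT
end Groth.Agent.S15085
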