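import Groth.Statements.S15086
import Groth.Agent.GalFib.Count
import Groth.Agent.CycLib.Push

set_option linter.style.haveILetI false
set_option backward.isDefEq.respectTransparency false
set_option backward.isDefEq.respectTransparency.types false


set_option autoImplicit false
universe u
open CategoryTheory CategoryTheory.Limits AlgebraicGeometry
open MovLem

namespace Groth.Agent.S15086

/-- Let k be an infinite perfect field with algebraic closure k̄, let φ : X → Y be a finite morphism of
k-schemes locally of finite type, let x be a closed point of X and y = φ(x). Let π_X : X_{k̄} → X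
and π_Y : Y_{k̄} → Y be the base-change projections and φ_{k̄} : X_{k̄} → Y_{k̄} the induced
morphism. Then the number of points of π_Y⁻¹(y) is at most the number of points of π_X⁻¹(x);
equality holds if and only if the residue field extension k(y) → k(x) is an isomorphism; and
equality holds whenever φ_{k̄} is injective on π_X⁻¹(x). (Cardinalities are taken in ℕ ∪ {∞}; both
fibres are in fact finite.) -/
theorem result
    {k : Type u} [Field k] [Infinite k] [PerfectField k] {X Y : Scheme.{u}}
    (sX : X ⟶ Spec (CommRingCat.of k)) (sY : Y ⟶ Spec (CommRingCat.of k))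
    [LocallyOfFiniteType sX] [LocallyOfFiniteType sY]
    (φ : X ⟶ Y) (hφ : φ ≫ sY = sX) [IsFinite φ]
    (i : Spec (CommRingCat.of (AlgebraicClosure k)) ⟶ Spec (CommRingCat.of k))
    (hi : i = Spec.map (CommRingCat.ofHom (algebraMap k (AlgebraicClosure k))))
    (φbar : pullback sX i ⟶ pullback sY i)
    (h1 : φbar ≫ pullback.fst sY i = pullback.fst sX i ≫ φ)
    (h2 : φbar ≫ pullback.snd sY i = pullback.snd sX i)
    (x : X) (hx : IsClosed ({x} : Set X)) :
    ((pullback.fst sY i).base ⁻¹' {φ.base x}).encard ≤ ((pullback.fst sX i).base ⁻¹' {x}).encard ∧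
      (((pullback.fst sY i).base ⁻¹' {φ.base x}).encard = ((pullback.fst sX i).base ⁻¹' {x}).encard ↔
          Function.Bijective (φ.residueFieldMap x).hom) ∧
      (Set.InjOn φbar.base ((pullback.fst sX i).base ⁻¹' {x}) →
        ((pullback.fst sY i).base ⁻¹' {φ.base x}).encard = ((pullback.fst sX i).base ⁻¹' {x}).encard) := by
  subst hi
  haveI : IsClosedMap φ.base := φ.isClosedMap
  have hy : IsClosed ({φ.base x} : Set Y) := by
    simpa using φ.isClosedMap _ hx
  obtain ⟨hfX, hcX⟩ := Groth.Agent.GalFib.encard_fibre sX x hx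
  obtain ⟨hfY, hcY⟩ := Groth.Agent.GalFib.encard_fibre sY (φ.base x) hy
  have hposY : 0 < EGA4loc.residueDegree sY (φ.base x) := by
    rw [← hcY, Set.ncard_pos hfY]
    obtain ⟨z, hz⟩ := (pullback.fst sY (Spec.map (CommRingCat.ofHom (algebraMap k (AlgebraicClosure k))))).surjective (φ.base x)
    exact ⟨z, hz⟩
  have hposX : 0 < EGA4loc.residueDegree sX x := by
    rw [← hcX, Set.ncard_pos hfX]
    obtain ⟨z, hz⟩ := (pullback.fst sX (Spec.map (CommRingCat.ofHom (algebraMap k (AlgebraicClosure k))))).surjective x
    exact ⟨z, hz⟩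
  have hmul : EGA4loc.residueDegree sX x =
      EGA4loc.residueDegree sY (φ.base x) * EGA4loc.residueDegree φ x := by
    subst hφ
    exact Groth.Agent.CycLib.residueDegree_comp φ sY x
  have hd : 0 < EGA4loc.residueDegree φ x := by
    rcases Nat.eq_zero_or_pos (EGA4loc.residueDegree φ x) with h | h
    · rw [h, mul_zero] at hmul; omega
    · exact h
  rw [← hfY.cast_ncard_eq, ← hfX.cast_ncard_eq, hcX, hcY]
  refine ⟨?_, ?_, ?_⟩
  · exact_mod_cast hmul ▸ Nat.le_mul_of_pos_right _ hd
  · rw [Nat.cast_inj]
    letI := (φ.residueFieldMap x).hom.toAlgebra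
    have hiff : EGA4loc.residueDegree φ x = 1 ↔ Function.Bijective (φ.residueFieldMap x).hom := by
      show Module.finrank (Y.residueField (φ.base x)) (X.residueField x) = 1 ↔ _
      rw [← Subalgebra.bot_eq_top_iff_finrank_eq_one]
      constructor
      · intro h
        refine ⟨RingHom.injective _, fun z => ?_⟩
        have hz : z ∈ (⊥ : Subalgebra (Y.residueField (φ.base x)) (X.residueField x)) := h ▸ trivial
        exact Algebra.mem_bot.1 hz
      · intro h
        refine eq_top_iff.2 fun z _ => Algebra.mem_bot.2 (h.2 z)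
    rw [← hiff, hmul]
    constructor
    · intro h
      exact Nat.eq_of_mul_eq_mul_left hposY (by rw [← h, mul_one])
    · intro h; rw [h, mul_one]
  · intro hinj
    have hle : ((pullback.fst sX _).base ⁻¹' {x}).ncard ≤ ((pullback.fst sY _).base ⁻¹' {φ.base x}).ncard :=
      Set.ncard_le_ncard_of_injOn φbar.base (fun z hz => by
        show (pullback.fst sY _).base (φbar.base z) = φ.base x
        rw [← Scheme.Hom.comp_apply, h1, Scheme.Hom.comp_apply]
        exact congrArg φ.base hz) hinj hfY
    rw [hcX, hcY, hmul] at hle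
    rw [hmul]
    exact_mod_cast le_antisymm (Nat.le_mul_of_pos_right _ hd) hle
end Groth.Agent.S15086
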