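import Groth.Statements.S15098
import Groth.Agent.SurfRR.Divisors

set_option autoImplicit false
set_option linter.style.haveILetI false
set_option backward.isDefEq.respectTransparency false
set_option backward.isDefEq.respectTransparency.types false
universe u
open CategoryTheory CategoryTheory.Limits AlgebraicGeometry TopologicalSpace
open Surf

namespace Groth.Agent.S15098

open Groth.Agent
open Groth.Agent.H23.PicMul

/-- Let k be an algebraically closed field, X a smooth projective surface over k (integral, proper and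
smooth, of dimension 2) and D an effective Cartier divisor on X, given by its ideal sheaf I_D, which
is numerically positive: (D·D) > 0 and (D·Γ) ≥ 0 for every integral curve Γ ⊆ X, that is χ(O_Γ ⊗
I_D) − χ(O_Γ) ≤ 0. Then D is numerically connected: whenever D = D₁ + D₂ with D₁, D₂ non-zero
effective Cartier divisors (I_D = I_{D₁}·I_{D₂} with both ideal sheaves different from O_X), (D₁·D₂)
> 0. Intersection numbers of divisors are computed on their ideal sheaves: (D₁·D₂) = χ(O_X) −
χ(I_{D₁}) − χ(I_{D₂}) + χ(I_{D₁} ⊗ I_{D₂}). (The published lemma sits in a positive-characteristic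
setting; its argument does not use the characteristic, so none is assumed here.) -/
theorem result (k : Type u) [Field k] [IsAlgClosed k]
    (X : Scheme.{u}) [X.Over (Spec (CommRingCat.of k))] [IsProper (X ↘ (Spec (CommRingCat.of k)))]
    [Smooth (X ↘ (Spec (CommRingCat.of k)))] [IsIntegral X] (hdim : topologicalKrullDim X = 2)
    (D : X.IdealSheafData) (hD : FGA.IsEffCartier D)
    (hpos : 0 < FGA.intNum k X 2 ![(ClSub.idealMod D), (ClSub.idealMod D)] (Coh.structureModule X))
    (hnef : ∀ Γ : X.IdealSheafData, IsIntegral Γ.subscheme → topologicalKrullDim (Γ.support : Set X) = 1 →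
      Curv2.euler k X (CohB1.tensorMod (ClSub.quotMod Γ) (ClSub.idealMod D)) - Curv2.euler k X (ClSub.quotMod Γ) ≤ 0)
    (D₁ D₂ : X.IdealSheafData) (hD₁ : FGA.IsEffCartier D₁) (hD₂ : FGA.IsEffCartier D₂)
    (hne₁ : D₁ ≠ ⊤) (hne₂ : D₂ ≠ ⊤) (hsum : D = D₁ * D₂) :
    0 < FGA.intNum k X 2 ![(ClSub.idealMod D₁), (ClSub.idealMod D₂)] (Coh.structureModule X) := by
  have hD₁' : BlowUp.IsEffCartierIdeal D₁ := (S8914.result D₁).1 ((S8914.result D₁).2 hD₁)
  subst hsum
  obtain ⟨H, hH⟩ := SurfRR.exists_isAmple k hdim
  have hsupp : ∀ {I : X.IdealSheafData}, I ≠ ⊤ → (I.support : Set X).Nonempty := fun {I} hI => by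
    by_contra h
    rw [Set.not_nonempty_iff_eq_empty] at h
    exact hI (I.support_eq_bot_iff.1 (Closeds.ext h))
  have hA := Big.isInvertible_ideal hD₁
  have hB := Big.isInvertible_ideal hD₂
  have hAB := Big.isInvertible_ideal (ModPairLib.isEffCartier_mul hD₁ hD₂)
  have h := SurfRR.pair_pos_of_decomposition k hdim hH hD₁ hD₂ (hsupp hne₁) (hsupp hne₂)
    (by rw [← Big.intNum_eq_pair k hdim.le hAB hAB]; exact_mod_cast hpos) hnef
  rw [← Big.intNum_eq_pair k hdim.le hA hB] at h
  exact_mod_cast h

end Groth.Agent.S15098
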