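import Groth.Statements.S3323
import Groth.Agent.ArInt.Fundamental
import Groth.Agent.S2209

set_option linter.style.haveILetI false
set_option backward.isDefEq.respectTransparency false
set_option backward.isDefEq.respectTransparency.types false
set_option maxHeartbeats 1000000

set_option autoImplicit false
universe u
open CategoryTheory CategoryTheory.Limits AlgebraicGeometry
open Models

namespace Groth.Agent.S3323

/-- In the following situation (R a discrete valuation ring with residue field k, C a smooth proper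
curve over its fraction field K with H^0(C, O_C) = K, X a regular proper model, Γ_1, …, Γ_n the
irreducible components of the closed fibre with multiplicities m_i) let d = gcd(m_1, …, m_n) and let
D be the effective Cartier divisor Σ (m_i/d) Γ_i. Then there is a chain of effective Cartier
divisors Σ Γ_i = Z_0 ⊂ Z_1 ⊂ ⋯ ⊂ Z_s = D, each obtained from the previous one by adding a single
Γ_i, such that for every j the ring H^0(Z_j, O_{Z_j}) is a field, finite over R (equivalently over
k). Divisors are written through their ideal sheaves Π I(Γ_i)^{a_i}. -/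
theorem result (R : Type u) [CommRing R] [IsDomain R] [IsDiscreteValuationRing R]
    (C X : Scheme.{u}) (f : C ⟶ Spec (CommRingCat.of (FractionRing R))) (p : X ⟶ Spec (CommRingCat.of R))
    (hC : Curve.IsSmoothProperCurve (FractionRing R) C f) (hH0 : IsIso f.appTop)
    (hX : Models.IsRegularProperModel R X p C f)
    {n : ℕ} (Γ : Fin n → ArSurf.VertComp R (Over.mk p)) (hΓ : Models.IsComponentList R (Over.mk p) Γ) :
    ∃ (s : ℕ) (a : Fin (s + 1) → Fin n → ℕ), (a 0 = fun _ => 1) ∧
      (a (Fin.last s) = fun i => Models.mult R (Over.mk p) (Γ i) / Models.multGcd R (Over.mk p) Γ) ∧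
      (∀ j : Fin s, ∃ i, a j.succ = a j.castSucc + Pi.single i 1) ∧
      ∀ j, IsField ↑(Γ((∏ i, (Γ i).ι.ker ^ a j i).subscheme, ⊤)) ∧
        (((∏ i, (Γ i).ι.ker ^ a j i).subschemeι ≫ p).appTop.hom.comp
          (Scheme.ΓSpecIso (CommRingCat.of R)).inv.hom).Finite := by
  classical
  haveI := (ArInt.model_facts hC hX.1).1
  haveI := ArInt.isSurf hC hX Γ hΓ
  haveI : Flat (Over.mk p).hom := hX.1.1
  let Xo : Over (Spec (CommRingCat.of R)) := Over.mk p
  haveI : ConnectedSpace ↥(Limits.pullback p (Spec.map (CommRingCat.ofHom (algebraMap R (IsLocalRing.ResidueField R))))) :=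
    Groth.Agent.S2209.result R C X f p hC hH0 hX
  have hconnF : _root_.IsConnected (Models.specialFibreSet R Xo) := by
    have h : Models.specialFibreSet R Xo = Set.range (Limits.pullback.fst p
        (Spec.map (CommRingCat.ofHom (algebraMap R (IsLocalRing.ResidueField R))))) := by
      rw [Scheme.Pullback.range_fst]
      refine congrArg (p ⁻¹' ·) (Set.ext fun t => ⟨fun ht => ⟨IsLocalRing.closedPoint _, ?_⟩, ?_⟩)
      · rw [Set.mem_singleton_iff] at ht
        rw [ht]
        exact IsLocalRing.comap_closedPoint (IsLocalRing.residue R)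
      · rintro ⟨w, rfl⟩
        rw [Set.mem_singleton_iff, Subsingleton.elim w (IsLocalRing.closedPoint (IsLocalRing.ResidueField R))]
        exact IsLocalRing.comap_closedPoint (IsLocalRing.residue R)
    rw [h]
    exact isConnected_range (Limits.pullback.fst p
        (Spec.map (CommRingCat.ofHom (algebraMap R (IsLocalRing.ResidueField R))))).continuous
  have hconn : _root_.IsConnected (⋃ i, Set.range (Γ i).ι.base) := by
    have he : (⋃ i, Set.range (Γ i).ι.base : Set X) = Models.specialFibreSet R Xo :=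
      subset_antisymm (Set.iUnion_subset fun i => by rintro _ ⟨c, rfl⟩; exact ArInt.mem_specialFibre (Γ i) c)
        (ArInt.cover Xo Γ hΓ)
    exact he.symm ▸ hconnF
  choose L₀ hL₀ using fun i => H23.PicInv.exists_inverse (Big.isInvertible_ideal (ArInt.isEffCartier_ker (Γ i)))
  have hL : ∀ i, ClSub.IsInverseOf (L₀ i) (ClSub.idealMod (Γ i).ι.ker) := fun i =>
    ⟨(H23.PicMul.comm _ _).some ≪≫ (hL₀ i).2.some⟩
  obtain ⟨dd, G, -, hGs, hFib⟩ := ArInt.exists_split_curves Γ (ArInt.fibreIdeal Xo) (ArInt.isEffCartier_fibreIdeal Xo)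
  have hm : ∀ i, 0 < Models.mult R Xo (Γ i) := fun i => by
    rw [(ArInt.mult_eq Γ hGs hFib hΓ.1 i).1]; exact (ArInt.mult_eq Γ hGs hFib hΓ.1 i).2
  let g := Models.multGcd R Xo Γ
  have hgdvd : ∀ i, g ∣ Models.mult R Xo (Γ i) := fun i => Finset.gcd_dvd (Finset.mem_univ i)
  let m : Fin n → ℕ := fun i => Models.mult R Xo (Γ i) / g
  have hmg : ∀ i, m i * g = Models.mult R Xo (Γ i) := fun i => Nat.div_mul_cancel (hgdvd i)
  have hm1 : ∀ i, 1 ≤ m i := fun i => Nat.pos_of_ne_zero fun h => (hm i).ne' (by rw [← hmg i, h, zero_mul])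
  let S : (Fin n → ℕ) → Fin n → ℤ := fun a i => ∑ j, (a j : ℤ) * ArSurf.inter R Xo (L₀ j) (Γ i)
  have hrow : ∀ i, S m i = 0 := fun i => by
    have h0 := (ArInt.sum_mult_inter Γ hΓ.1 L₀ hL i).2 (ArInt.cover Xo Γ hΓ)
    have h1 : (g : ℤ) * S m i = 0 := by
      rw [Finset.mul_sum, ← h0]
      refine Finset.sum_congr rfl fun j _ => ?_
      rw [← hmg j]; push_cast; ring
    refine (mul_eq_zero.1 h1).resolve_left ?_
    exact_mod_cast fun h : g = 0 => (hm i).ne' (by rw [← hmg i, h, mul_zero])
  -- there is always a next curve below `m`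
  have hnext : ∀ a : Fin n → ℕ, (∀ i, a i ≤ m i) → (∀ i, 1 ≤ a i) → a ≠ m → ∃ i, a i < m i ∧ 0 < S a i := by
    intro a hle ha hne
    by_contra h
    push Not at h
    have hS : ∀ i, S a i ≤ 0 := fun i => by
      by_contra hi
      push Not at hi
      exact absurd (h i (ArInt.lt_of_pos Γ L₀ hL hΓ.1 hle i (hrow i).le hi)) (not_le.2 hi)
    let b : Fin n → ℤ := fun i => (m i : ℤ) - a i
    have hb : ∀ i, S a i = -∑ j, b j * ArSurf.inter R Xo (L₀ j) (Γ i) := fun i => by
      have := hrow i
      simp only [S, b, sub_mul, Finset.sum_sub_distrib] at this ⊢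
      omega
    have hQ : ∑ i, ∑ j, b i * b j * ArSurf.inter R Xo (L₀ j) (Γ i) = 0 := by
      refine le_antisymm (ArInt.form_nonpos Γ L₀ hL hΓ.1 b).1 (Finset.sum_nonneg fun i _ => ?_)
      rw [show ∑ j, b i * b j * ArSurf.inter R Xo (L₀ j) (Γ i) = b i * (∑ j, b j * ArSurf.inter R Xo (L₀ j) (Γ i)) by
        rw [Finset.mul_sum]; exact Finset.sum_congr rfl fun j _ => by ring]
      refine mul_nonneg ?_ ?_
      · have := hle i; simp only [b]; omega
      · have := hS i; rw [hb] at this; omega
    obtain ⟨c, hc⟩ := ArInt.exists_mult_of_form_eq_zero Γ L₀ hL hΓ.1 (ArInt.cover Xo Γ hΓ) hconnF b hQ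
    -- `a` is then a multiple of the primitive vector
    obtain ⟨i₀, hi₀⟩ : ∃ i, a i ≠ m i := Function.ne_iff.1 hne
    have hq : ∀ i, (a i : ℚ) = (1 - c * g) * m i := fun i => by
      have := hc i
      rw [← hmg i] at this
      push_cast [b] at this
      linarith
    have hcross : ∀ i, a i * m i₀ = a i₀ * m i := fun i => by
      have h1 := hq i; have h2 := hq i₀
      exact_mod_cast (show (a i : ℚ) * m i₀ = a i₀ * m i by rw [h1, h2]; ring)
    have hdvd : m i₀ ∣ a i₀ := by
      have hall : m i₀ ∣ Finset.univ.gcd fun i => a i₀ * m i :=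
        Finset.dvd_gcd fun i _ => ⟨a i, by rw [← hcross i]; ring⟩
      rw [Finset.gcd_mul_left] at hall
      have hprim : Finset.univ.gcd m = 1 :=
        Finset.gcd_div_eq_one (f := fun i => Models.mult R Xo (Γ i)) (Finset.mem_univ i₀) (hm i₀).ne'
      rw [hprim, mul_one] at hall
      simpa using hall
    have h1 := Nat.le_of_dvd (ha i₀) hdvd
    have h2 := hle i₀
    omega
  suffices key : ∀ N, ∀ a : Fin n → ℕ, (∀ i, a i ≤ m i) → (∀ i, 1 ≤ a i) → ∑ i, (m i - a i) ≤ N →
      ArInt.IsFieldFinite Xo (ArInt.divOf Γ a) →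
      ∃ (s : ℕ) (seq : Fin (s + 1) → Fin n → ℕ), seq 0 = a ∧ seq (Fin.last s) = m ∧
        (∀ j : Fin s, ∃ i, seq j.succ = seq j.castSucc + Pi.single i 1) ∧
        ∀ j, ArInt.IsFieldFinite Xo (ArInt.divOf Γ (seq j)) by
    have h1 : ArInt.IsFieldFinite Xo (ArInt.divOf Γ fun _ => 1) := by
      suffices k1 : ∀ N, ∀ a : Fin n → ℕ, (∀ i, a i ≤ 1) → (∃ i, a i ≠ 0) → ∑ i, (1 - a i) ≤ N →
          ArInt.IsFieldFinite Xo (ArInt.divOf Γ a) → ArInt.IsFieldFinite Xo (ArInt.divOf Γ fun _ => 1) by
        obtain ⟨w, hw⟩ := hconn.nonempty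
        obtain ⟨i₀, -⟩ := Set.mem_iUnion.1 hw
        refine k1 _ (Pi.single i₀ 1) (fun i => ?_) ⟨i₀, by simp⟩ le_rfl ?_
        · by_cases h : i = i₀
          · subst h; simp
          · simp [Pi.single_eq_of_ne h]
        · rw [ArInt.divOf_single]; exact ArInt.isFieldFinite_ker _
      intro N
      induction N with
      | zero =>
        intro a hle _ hsum hF
        have : a = fun _ => 1 := funext fun i => le_antisymm (hle i) (Nat.sub_eq_zero_iff_le.1
          (Finset.sum_eq_zero_iff.1 (Nat.le_zero.1 hsum) i (Finset.mem_univ i)))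
        rwa [this] at hF
      | succ N ih =>
        intro a hle hne hsum hF
        by_cases h1 : ∃ i, a i = 0
        · obtain ⟨i, hi0, hi⟩ := ArInt.exists_pos_of_zero Γ L₀ hL hΓ.1 hconn a hne h1
          refine ih (a + Pi.single i 1) (fun j => ?_) ⟨i, by simp⟩ ?_ (ArInt.isFieldFinite_add_single Γ L₀ hL a i hi hF)
          · by_cases hj : j = i
            · subst hj; simp; omega
            · simp [Pi.single_eq_of_ne hj, hle j]
          · have hs : ∑ j, (1 - (a + Pi.single i 1 : Fin n → ℕ) j) < ∑ j, (1 - a j) :=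
              Finset.sum_lt_sum (fun j _ => by simp only [Pi.add_apply]; omega) ⟨i, Finset.mem_univ i, by simp; omega⟩
            omega
        · push Not at h1
          have : a = fun _ => 1 := funext fun i => by have := hle i; have := h1 i; omega
          rwa [this] at hF
    obtain ⟨s, seq, h0, hl, hst, hP⟩ := key _ (fun _ => 1) hm1 (fun _ => le_rfl) le_rfl h1
    exact ⟨s, seq, h0, hl, hst, fun j => hP j⟩
  intro N
  induction N with
  | zero =>
    intro a hle _ hsum hF
    have : a = m := funext fun i => le_antisymm (hle i) (Nat.sub_eq_zero_iff_le.1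
      (Finset.sum_eq_zero_iff.1 (Nat.le_zero.1 hsum) i (Finset.mem_univ i)))
    exact ⟨0, fun _ => a, rfl, this, fun j => j.elim0, fun _ => hF⟩
  | succ N ih =>
    intro a hle ha hsum hF
    by_cases hne : a = m
    · exact ⟨0, fun _ => a, rfl, hne, fun j => j.elim0, fun _ => hF⟩
    obtain ⟨i, hlt, hi⟩ := hnext a hle ha hne
    obtain ⟨s, seq, h0, hl, hst, hP⟩ := ih (a + Pi.single i 1) (fun j => by
        by_cases hj : j = i
        · subst hj; simp; omega
        · simp [Pi.single_eq_of_ne hj, hle j])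
      (fun j => le_add_right (ha j)) (by
        have hs : ∑ j, (m j - (a + Pi.single i 1 : Fin n → ℕ) j) < ∑ j, (m j - a j) :=
          Finset.sum_lt_sum (fun j _ => by simp only [Pi.add_apply]; omega) ⟨i, Finset.mem_univ i, by simp; omega⟩
        omega)
      (ArInt.isFieldFinite_add_single Γ L₀ hL a i hi hF)
    refine ⟨s + 1, Fin.cons a seq, Fin.cons_zero _ _, ?_, fun j => ?_, fun j => ?_⟩
    · rw [← Fin.succ_last, Fin.cons_succ]; exact hl
    · induction j using Fin.cases with
      | zero => exact ⟨i, by rw [Fin.cons_succ, h0, Fin.castSucc_zero, Fin.cons_zero]⟩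
      | succ j =>
        obtain ⟨i', hi'⟩ := hst j
        exact ⟨i', by rw [Fin.cons_succ, ← Fin.succ_castSucc, Fin.cons_succ]; exact hi'⟩
    · induction j using Fin.cases with
      | zero => rw [Fin.cons_zero]; exact hF
      | succ j => rw [Fin.cons_succ]; exact hP j

end Groth.Agent.S3323
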