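import Groth.Statements.S15104
import Groth.Agent.ArInt.RedFibre
import Groth.Agent.ArInt.ExcCurve
import Groth.Agent.ArInt.GenericDim
import Groth.Agent.S3323
import Groth.Agent.CurveBC.Geometry
import Groth.Agent.Lib.Euler

set_option linter.style.haveILetI false
set_option backward.isDefEq.respectTransparency false
set_option backward.isDefEq.respectTransparency.types false
set_option maxHeartbeats 1000000

set_option autoImplicit false
universe u
open CategoryTheory CategoryTheory.Limits AlgebraicGeometry
open Models

open Groth.Agent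

namespace Groth.Agent.S15104

/-- Let R be a discrete valuation ring with algebraically closed residue field k and fraction field K, C
a smooth proper curve over K with H⁰(C, O_C) = K and dim_K H¹(C, O_C) = g ≥ 2, and X → Spec R a
minimal regular model of C: a regular proper model none of whose vertical prime divisors is an
exceptional curve of the first kind. Let Γ₁, …, Γ_n enumerate the irreducible components of the
closed fibre, with multiplicities r_i having gcd 1, and suppose the closed fibre is not reduced
(some r_i ≥ 2). Then dim_k H¹((X_k)_red, O) < g, the left side computed as the R-length of H¹(X, O_X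
/ I) for I the ideal sheaf of the reduced closed fibre. (The published lemma states this for any
regular model with gcd(r_i) = 1; its proof uses, in the last step, that the component added last is
not an exceptional curve, the standing hypothesis of the result it serves, and the inequality fails
after blowing up a node of a reduced semi-stable fibre, so minimality is assumed here.) -/
theorem result
    (R : Type u) [CommRing R] [IsDomain R] [IsDiscreteValuationRing R]
    (hk : IsAlgClosed (IsLocalRing.ResidueField R))
    (C : Scheme.{u}) (fC : C ⟶ (Spec (CommRingCat.of (FractionRing R)))) [IsProper fC] [Smooth fC]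
    (hC0 : Models.hRank (FractionRing R) C fC (Coh.structureModule C) 0 = 1)
    (g : ℕ) (hg2 : 2 ≤ g) (hg : Models.curveGenus (FractionRing R) C fC = g)
    (X : Scheme.{u}) (p : X ⟶ (Spec (CommRingCat.of R))) (hX : Models.IsMinimalModel R X p C fC)
    {n : ℕ} (Γ : Fin n → ArSurf.VertComp R (Over.mk p)) (hΓ : Models.IsComponentList R (Over.mk p) Γ)
    (hgcd : Models.multGcd R (Over.mk p) Γ = 1) (hnr : ∃ i, 2 ≤ Models.mult R (Over.mk p) (Γ i)) :
    Models.lengthH R (Over.mk p) (ClSub.quotMod (Models.redFibreIdeal R (Over.mk p))) 1 < g := by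
  classical
  letI : C.Over (Spec (CommRingCat.of (FractionRing R))) := ⟨fC⟩
  haveI : IsProper (C ↘ Spec (CommRingCat.of (FractionRing R))) := ‹IsProper fC›
  haveI : Smooth (C ↘ Spec (CommRingCat.of (FractionRing R))) := ‹Smooth fC›
  haveI : IsIntegral C := CurveBC.isIntegral_of_h0 (FractionRing R) C hC0
  haveI := hX.1.2.1
  have hCn : IsNoetherian C := CurveCohLib.isNoetherian_of_proper (k := FractionRing R)
  have hle1 := ArInt.dim_le_one hX.1.1 Γ hΓ
  have hdim : topologicalKrullDim C = 1 := by
    refine le_antisymm hle1 ?_
    by_contra hlt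
    push Not at hlt
    have hall : ∀ x : C, closure {x} = ({x} : Set C) := fun x => by
      refine subset_antisymm (fun y hy => ?_) subset_closure
      by_contra hne
      have hyx : y < x := lt_of_le_not_ge (specializes_iff_mem_closure.2 hy) fun h =>
        hne (Specializes.antisymm (specializes_iff_mem_closure.2 hy) h).eq.symm
      have h1 : ((1 : ℕ) : WithBot ℕ∞) ≤ Order.krullDim C :=
        Order.LTSeries.length_le_krullDim (RelSeries.cons (RelSeries.singleton _ x) y hyx)
      rw [← Order.krullDim_eq_of_orderIso (irreducibleSetEquivPoints (α := C))] at h1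
      exact absurd (lt_of_le_of_lt h1 hlt) (lt_irrefl _)
    have hgood := Euler.good_of_support (RefX.isCoh_unit (X := C)) fun x _ => hall x
    haveI := hgood.1 1 le_rfl
    have h0 : Models.curveGenus (FractionRing R) C fC = 0 := Module.finrank_zero_of_subsingleton
    omega
  have hC : Curve.IsSmoothProperCurve (FractionRing R) C fC := ⟨inferInstance, inferInstance, inferInstance, hdim⟩
  have hH0 : IsIso fC.appTop :=
    (ConcreteCategory.isIso_iff_bijective _).2 (CurveBC.bijective_appTop (FractionRing R) C hC0)
  haveI := (ArInt.model_facts hC hX.1.1).1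
  haveI := ArInt.isSurf hC hX.1 Γ hΓ
  haveI : Flat (Over.mk p).hom := hX.1.1.1
  choose L₀ hL₀ using fun i => H23.PicInv.exists_inverse (Big.isInvertible_ideal (ArInt.isEffCartier_ker (Γ i)))
  have hL : ∀ i, ClSub.IsInverseOf (L₀ i) (ClSub.idealMod (Γ i).ι.ker) := fun i =>
    ⟨(H23.PicMul.comm _ _).some ≪≫ (hL₀ i).2.some⟩
  have hconnF := ArInt.isConnected_fibre hC hH0 hX.1
  obtain ⟨-, hlt⟩ := ArInt.chi_le Γ L₀ hL hΓ hconnF hgcd fun i h =>
    hX.2 (Γ i) (ArInt.isExcCurve_of_numbers (Γ i) (hL i) h.1 h.2)
  have hlt' := hlt hnr
  rw [ArInt.chi_fibre_eq_genus hC hH0 hX.1 Γ hΓ, hg, ← ArInt.redFibreIdeal_eq Γ hΓ.1 (ArInt.cover _ Γ hΓ)] at hlt'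
  obtain ⟨s, a, ha0, -, -, hF⟩ := S3323.result R C X fC p hC hH0 hX.1 Γ hΓ
  have hred : ArInt.IsFieldFinite (Over.mk p) (Models.redFibreIdeal R (Over.mk p)) := by
    have h := hF 0
    rw [ha0] at h
    rw [ArInt.redFibreIdeal_eq Γ hΓ.1 (ArInt.cover _ Γ hΓ)]
    exact h
  have h1 : Models.lengthH R (Over.mk p) (ClSub.quotMod (Models.redFibreIdeal R (Over.mk p))) 0 = 1 := by
    unfold Models.lengthH
    rw [ArInt.lengthH_zero_eq]
    letI := (((Models.redFibreIdeal R (Over.mk p)).subschemeι ≫ (Over.mk p).hom).appTop.hom.comp
      (Scheme.ΓSpecIso (CommRingCat.of R)).inv.hom).toAlgebra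
    haveI : Module.Finite R Γ((Models.redFibreIdeal R (Over.mk p)).subscheme, ⊤) := hred.2
    rw [ArInt.length_eq_one_of_field hk hred.1]
    rfl
  simp only [ArInt.chiM, h1] at hlt'
  omega

end Groth.Agent.S15104
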