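import Groth.Statements.S15121
import Mathlib
-- import your own Groth.Agent.* helpers here

set_option autoImplicit false
universe u v w
open InvQ

namespace Groth.Agent.S15121

/-- Let k be a field of characteristic zero and A a commutative k-algebra graded by a finitely generated
free abelian group Λ (the character group of a torus acting on Spec A) whose grading monoid is
positive: if the pieces of degrees w and −w are both non-zero then w = 0. Let δ be a locally
nilpotent k-derivation of A (an action of the additive group) that is homogeneous of degree d, with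
the piece of degree d equal to zero (the graded condition on the Lie algebra weight). Suppose that
no maximal ideal of A contains both all graded pieces of non-zero degree and the image of δ (every
torus-fixed closed point has trivial stabiliser under the additive group). Then δ has a homogeneous
slice: some s of degree −d with δ s = 1. (The published statement is for the coordinate ring of an
affine variety over an algebraically closed field of characteristic zero and concludes moreover that
the quotient map by the additive group is a trivial principal bundle, which follows from the slice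
by a standard argument not restated here; this row keeps the algebraic content, for any such graded
algebra.) -/
theorem result
    (k : Type u) [Field k] [CharZero k]
    (A : Type v) [CommRing A] [Algebra k A]
    (Λ : Type w) [AddCommGroup Λ] [DecidableEq Λ] [Module.Free ℤ Λ] [Module.Finite ℤ Λ]
    (𝒜 : Λ → Submodule k A) [GradedAlgebra 𝒜]
    (hpos : ∀ w : Λ, 𝒜 w ≠ ⊥ → 𝒜 (-w) ≠ ⊥ → w = 0)
    (δ : Derivation k A A) (hnil : ∀ a : A, ∃ n : ℕ, ((δ : A →ₗ[k] A) ^ n) a = 0)
    (d : Λ) (hhom : ∀ (w : Λ) (a : A), a ∈ 𝒜 w → δ a ∈ 𝒜 (w + d)) (hd : 𝒜 d = ⊥)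
    (hfix : ∀ m : Ideal A, m.IsMaximal → (∀ w : Λ, w ≠ 0 → (𝒜 w : Set A) ⊆ m) → ¬ (Set.range δ ⊆ m)) :
    ∃ s ∈ 𝒜 (-d), δ s = 1 := by
  classical
  have hδ0 : ∀ c ∈ 𝒜 0, δ c = 0 := fun c hc => by
    have := hhom 0 c hc
    rwa [zero_add, hd, Submodule.mem_bot] at this
  let pr : A → A := fun a => GradedRing.proj 𝒜 (0 : Λ) a
  have hpr_mem : ∀ a, pr a ∈ 𝒜 0 := fun a => SetLike.coe_mem _
  have hpr_eq : ∀ (w : Λ) (a : A), a ∈ 𝒜 w → pr a = if w = 0 then a else 0 := by
    intro w a ha
    simp only [pr, GradedRing.proj_apply]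
    split_ifs with h
    · subst h
      exact DirectSum.decompose_of_mem_same 𝒜 ha
    · exact DirectSum.decompose_of_mem_ne 𝒜 ha h
  have hmul : ∀ (v : Λ) (a : A), a ∈ 𝒜 v → ∀ (w : Λ) (b : A), b ∈ 𝒜 w → pr (a * b) = pr a * pr b := by
    intro v a ha w b hb
    rw [hpr_eq v a ha, hpr_eq w b hb, hpr_eq (v + w) (a * b) (SetLike.mul_mem_graded ha hb)]
    by_cases hw : w = 0
    · subst hw
      by_cases hv : v = 0 <;> simp [hv]
    · rw [if_neg hw, mul_zero]
      split_ifs with h
      · by_contra hne
        refine hw (hpos w (fun e => hne ?_) (fun e => hne ?_))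
        · rw [e, Submodule.mem_bot] at hb
          rw [hb, mul_zero]
        · rw [← eq_neg_of_add_eq_zero_left h] at e
          rw [e, Submodule.mem_bot] at ha
          rw [ha, zero_mul]
      · rfl
  have hsum : ∀ a : A, ∃ (s : Finset Λ) (f : Λ → A), (∀ w, f w ∈ 𝒜 w) ∧ a = ∑ w ∈ s, f w := fun a =>
    ⟨(DirectSum.decompose 𝒜 a).support, fun w => (DirectSum.decompose 𝒜 a w : A),
      fun w => SetLike.coe_mem _, (DirectSum.sum_support_decompose 𝒜 a).symm⟩
  have hprmul : ∀ a b, pr (a * b) = pr a * pr b := by
    intro a b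
    obtain ⟨s, f, hf, rfl⟩ := hsum a
    obtain ⟨t, g, hg, rfl⟩ := hsum b
    simp only [pr, Finset.sum_mul_sum, map_sum]
    exact Finset.sum_congr rfl fun v _ => Finset.sum_congr rfl fun w _ =>
      hmul v _ (hf v) w _ (hg w)
  let K : Ideal A :=
    { carrier := {a | ∃ s ∈ 𝒜 (-d), δ s = pr a}
      zero_mem' := ⟨0, zero_mem _, by simp [pr]⟩
      add_mem' := by
        rintro a b ⟨s, hs, h⟩ ⟨t, ht, h'⟩
        exact ⟨s + t, add_mem hs ht, by simp [pr, h, h']⟩
      smul_mem' := by
        rintro r a ⟨s, hs, h⟩
        refine ⟨pr r * s, ?_, ?_⟩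
        · simpa using SetLike.mul_mem_graded (hpr_mem r) hs
        · rw [smul_eq_mul, hprmul, Derivation.leibniz, hδ0 _ (hpr_mem r), h]
          simp }
  have h1 : (1 : A) ∈ K := by
    by_contra hK
    obtain ⟨m, hm, hle⟩ := Ideal.exists_le_maximal K (fun h => hK (h ▸ trivial))
    refine hfix m hm (fun w hw a ha => hle ⟨0, zero_mem _, ?_⟩) ?_
    · rw [map_zero, hpr_eq w a ha, if_neg hw]
    · rintro _ ⟨a, rfl⟩
      obtain ⟨s, f, hf, rfl⟩ := hsum a
      rw [map_sum]
      refine hle (K.sum_mem fun w _ => ?_)
      by_cases hw : w = -d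
      · subst hw
        exact ⟨f (-d), hf _, by rw [hpr_eq _ _ (hhom _ _ (hf _))]; simp⟩
      · refine ⟨0, zero_mem _, ?_⟩
        rw [map_zero, hpr_eq _ _ (hhom _ _ (hf _)), if_neg fun e => hw (eq_neg_of_add_eq_zero_left e)]
  obtain ⟨s, hs, h⟩ := h1
  exact ⟨s, hs, h.trans ((hpr_eq 0 1 (SetLike.one_mem_graded 𝒜)).trans (if_pos rfl))⟩


end Groth.Agent.S15121
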