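import Groth.Statements.S15123
import Groth.Agent.TorusWeights.Basic
-- import your own Groth.Agent.* helpers here

set_option autoImplicit false
universe u v w
open InvQ

namespace Groth.Agent.S15123

/-- Let k be an algebraically closed field of characteristic zero, Λ a finitely generated free abelian
group and k[Λ] its group algebra, the coordinate Hopf algebra of the torus with character group Λ.
Let R be a reduced finitely generated commutative k-algebra with a multiplicative coaction of k[Λ]
(an action of the torus on the affine variety Spec R), and suppose the grading monoid is positive: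
if R has a non-zero eigenvector of weight w and one of weight −w then w = 0. Then for every k-point
x of Spec R, the orbit of x is closed if and only if x is a fixed point. (The published statement
also asserts that the fixed-point subvariety is affine and is a good quotient for the action; only
the description of the closed orbits is stated here.) -/
theorem result
    (k : Type u) [Field k] [IsAlgClosed k] [CharZero k]
    (Λ : Type v) [AddCommGroup Λ] [Module.Free ℤ Λ] [Module.Finite ℤ Λ]
    (R : Type w) [CommRing R] [Algebra k R] [Algebra.FiniteType k R] [IsReduced R]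
    [HopfRep.Comod k (AddMonoidAlgebra k Λ) R] [GLin.IsCoactAlg k (AddMonoidAlgebra k Λ) R]
    (hpos : ∀ w : Λ, HopfRep.eigenspace k (AddMonoidAlgebra k Λ) R (AddMonoidAlgebra.single w 1) ≠ ⊥ →
      HopfRep.eigenspace k (AddMonoidAlgebra k Λ) R (AddMonoidAlgebra.single (-w) 1) ≠ ⊥ → w = 0)
    (x : R →ₐ[k] k) :
    GLin.IsClosedOrbit k (AddMonoidAlgebra k Λ) x ↔ GLin.IsFixedPt k (AddMonoidAlgebra k Λ) x := by
  classical
  have horb : ∀ {w : Λ} {f : R},
      f ∈ HopfRep.eigenspace k (AddMonoidAlgebra k Λ) R (AddMonoidAlgebra.single w 1) →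
      GLin.orbitHom k (AddMonoidAlgebra k Λ) x f = AddMonoidAlgebra.single w (x f) := by
    intro w f hf
    have h : HopfRep.Comod.coact (k := k) (A := AddMonoidAlgebra k Λ) f =
      f ⊗ₜ AddMonoidAlgebra.single w (1 : k) := hf
    show (Algebra.TensorProduct.lid k (AddMonoidAlgebra k Λ)) ((Algebra.TensorProduct.map x
      (AlgHom.id k (AddMonoidAlgebra k Λ))) (HopfRep.Comod.coact (k := k) (A := AddMonoidAlgebra k Λ) f)) = _
    rw [h, Algebra.TensorProduct.map_tmul, Algebra.TensorProduct.lid_tmul, AlgHom.id_apply,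
      AddMonoidAlgebra.smul_single, smul_eq_mul, mul_one]
  constructor
  · intro hc
    by_contra hnf
    obtain ⟨w, hw, f, hf, hxf⟩ : ∃ w : Λ, w ≠ 0 ∧ ∃ f : R,
        f ∈ HopfRep.eigenspace k (AddMonoidAlgebra k Λ) R (AddMonoidAlgebra.single w 1) ∧ x f ≠ 0 := by
      by_contra! H
      refine hnf (AlgHom.ext fun f => ?_)
      obtain ⟨s, y, hy, rfl⟩ := Groth.Agent.TorusWeights.exists_decomp (k := k) (Λ := Λ) f
      simp only [map_sum]
      refine Finset.sum_congr rfl fun m hm => ?_
      rw [horb (hy m hm), AlgHom.comp_apply, Algebra.ofId_apply, AddMonoidAlgebra.coe_algebraMap]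
      by_cases hm0 : m = 0
      · simp [hm0]
      · simp [H m hm0 _ (hy m hm)]
    let e := AlgEquiv.ofBijective _ (Groth.Agent.TorusWeights.bijective_mk_comp_val hpos)
    let I := Ideal.span {f : R | ∃ w : Λ, w ≠ 0 ∧
      f ∈ HopfRep.eigenspace k (AddMonoidAlgebra k Λ) R (AddMonoidAlgebra.single w 1)}
    let y : R →ₐ[k] k := x.comp ((GLin.invariants k (AddMonoidAlgebra k Λ) R).val.comp
      (e.symm.toAlgHom.comp (Ideal.Quotient.mkₐ k I)))
    have hy0 : ∀ a ∈ I, y a = 0 := fun a ha => by
      show x (e.symm (Ideal.Quotient.mk I a) : R) = 0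
      rw [Ideal.Quotient.eq_zero_iff_mem.mpr ha]
      simp
    have hy1 : ∀ a : GLin.invariants k (AddMonoidAlgebra k Λ) R, y (a : R) = x (a : R) := fun a => by
      show x (e.symm (e a) : R) = _
      rw [e.symm_apply_apply]
    have hker : ∀ g : R, GLin.orbitHom k (AddMonoidAlgebra k Λ) x g = 0 → y g = 0 := by
      intro g hg
      obtain ⟨s, z, hz, rfl⟩ := Groth.Agent.TorusWeights.exists_decomp (k := k) (Λ := Λ) g
      rw [map_sum] at hg ⊢
      refine Finset.sum_eq_zero fun m hm => ?_
      by_cases hm0 : m = 0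
      · subst hm0
        have h := congrArg (Groth.Agent.TorusWeights.cf k (0 : Λ)) hg
        rw [map_sum, map_zero, Finset.sum_eq_single (0 : Λ)] at h
        · rw [horb (hz 0 hm), Groth.Agent.TorusWeights.cf_single, if_pos rfl] at h
          exact (hy1 ⟨_, Groth.Agent.TorusWeights.mem_invariants_iff.mpr (hz 0 hm)⟩).trans h
        · intro b hb hb0
          rw [horb (hz b hb), Groth.Agent.TorusWeights.cf_single, if_neg hb0]
        · intro h'; exact absurd hm h'
      · exact hy0 _ (Ideal.subset_span ⟨m, hm0, hz m hm⟩)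
    let P : PrimeSpectrum R := ⟨RingHom.ker y, RingHom.ker_isPrime _⟩
    have hP : P ∈ closure (Set.range (PrimeSpectrum.comap (GLin.orbitHom k (AddMonoidAlgebra k Λ) x).toRingHom)) := by
      rw [PrimeSpectrum.closure_range_comap, PrimeSpectrum.mem_zeroLocus]
      intro g hg
      exact hker g hg
    rw [hc.closure_eq] at hP
    obtain ⟨Q, hQ⟩ := hP
    have h1 : GLin.orbitHom k (AddMonoidAlgebra k Λ) x f ∈ Q.asIdeal := by
      have : f ∈ P.asIdeal := RingHom.mem_ker.mpr (hy0 f (Ideal.subset_span ⟨w, hw, hf⟩))
      rw [← hQ] at this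
      exact this
    rw [horb hf] at h1
    refine Q.isPrime.ne_top ((Ideal.eq_top_iff_one _).mpr ?_)
    have h2 := Q.asIdeal.mul_mem_left (AddMonoidAlgebra.single (-w) (x f)⁻¹) h1
    rwa [AddMonoidAlgebra.single_mul_single, neg_add_cancel, inv_mul_cancel₀ hxf,
      ← AddMonoidAlgebra.one_def] at h2
  · intro hf
    show IsClosed (Set.range (PrimeSpectrum.comap (GLin.orbitHom k (AddMonoidAlgebra k Λ) x).toRingHom))
    rw [show GLin.orbitHom k (AddMonoidAlgebra k Λ) x = (Algebra.ofId k (AddMonoidAlgebra k Λ)).comp x from hf]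
    haveI : Nonempty (PrimeSpectrum (AddMonoidAlgebra k Λ)) := inferInstance
    rw [show Set.range (PrimeSpectrum.comap ((Algebra.ofId k (AddMonoidAlgebra k Λ)).comp x).toRingHom) =
      {PrimeSpectrum.comap x.toRingHom (⊥ : PrimeSpectrum k)} from ?_]
    · rw [PrimeSpectrum.isClosed_singleton_iff_isMaximal]
      show (Ideal.comap x.toRingHom (⊥ : PrimeSpectrum k).asIdeal).IsMaximal
      haveI : (⊥ : PrimeSpectrum k).asIdeal.IsMaximal := by
        show (⊥ : Ideal k).IsMaximal
        exact Ideal.bot_isMaximal
      exact Ideal.comap_isMaximal_of_surjective _ fun c => ⟨algebraMap k R c, x.commutes c⟩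
    · have : ∀ Q : PrimeSpectrum (AddMonoidAlgebra k Λ),
          PrimeSpectrum.comap ((Algebra.ofId k (AddMonoidAlgebra k Λ)).comp x).toRingHom Q =
            PrimeSpectrum.comap x.toRingHom (⊥ : PrimeSpectrum k) := fun Q => by
        show PrimeSpectrum.comap ((algebraMap k (AddMonoidAlgebra k Λ)).comp x.toRingHom) Q = _
        rw [PrimeSpectrum.comap_comp_apply]
        exact congrArg _ (Subsingleton.elim _ _)
      rw [funext this]
      exact Set.range_const


end Groth.Agent.S15123
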