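import Groth.Statements.S15133
import Mathlib
import Groth.Agent.ArtFlat.Basic

set_option autoImplicit false
universe u
open CategoryTheory
open CAlg

open scoped TensorProduct

namespace Groth.Agent.S15133

open IsLocalRing in
/-- A complex `E → F → G` with `F`, `G` flat over a ring with nilpotent maximal ideal whose reduction is
exact is exact with flat image and cokernel. -/
theorem key {A : Type u} [CommRing A] [IsLocalRing A] (h : IsNilpotent (maximalIdeal A))
    {E F G : Type u} [AddCommGroup E] [Module A E] [AddCommGroup F] [Module A F] [AddCommGroup G] [Module A G]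
    [Module.Flat A F] [Module.Flat A G] (ψ : E →ₗ[A] F) (φ : F →ₗ[A] G) (hcomp : φ.comp ψ = 0)
    (hex : Function.Exact (ψ.lTensor (ResidueField A)) (φ.lTensor (ResidueField A))) :
    Module.Flat A (LinearMap.range ψ) ∧ Module.Flat A (G ⧸ LinearMap.range φ) := by
  classical
  haveI := ArtFlat.free_of_flat (M := G) h
  let φk := φ.baseChange (ResidueField A)
  let K0 := LinearMap.ker φk
  obtain ⟨C, hC⟩ := K0.exists_isCompl
  haveI : Module.Free (ResidueField A) C := Module.Free.of_divisionRing (ResidueField A) C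
  let b := Module.Free.chooseBasis (ResidueField A) C
  let ι := Module.Free.ChooseBasisIndex (ResidueField A) C
  choose w hw using fun i => TensorProduct.mk_surjective A F (ResidueField A) Ideal.Quotient.mk_surjective (b i : (ResidueField A) ⊗[A] F)
  let Lw : (ι →₀ A) →ₗ[A] F := Finsupp.linearCombination A w
  let f : (ι →₀ (ResidueField A)) →ₗ[(ResidueField A)] (ResidueField A) ⊗[A] G := φk.comp (C.subtype.comp b.repr.symm.toLinearMap)
  have hf : LinearMap.ker f = ⊥ := LinearMap.ker_eq_bot'.mpr fun c hc => by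
    have h1 : (b.repr.symm c : (ResidueField A) ⊗[A] F) ∈ K0 ⊓ C := ⟨hc, Submodule.coe_mem _⟩
    rw [hC.disjoint.eq_bot, Submodule.mem_bot] at h1
    exact (LinearEquiv.map_eq_zero_iff _).mp (Subtype.ext h1)
  obtain ⟨rb, hrb⟩ := f.exists_leftInverse_of_injective hf
  let B := Module.Free.chooseBasis A G
  have hmr : Function.Surjective (Finsupp.mapRange (residue A) (map_zero _) : (ι →₀ A) → (ι →₀ (ResidueField A))) :=
    Finsupp.mapRange_surjective _ (map_zero _) residue_surjective
  choose rv hrv using fun j => hmr (rb ((1 : (ResidueField A)) ⊗ₜ[A] B j))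
  let r : G →ₗ[A] (ι →₀ A) := B.constr A rv
  let ρ : (ι →₀ A) →ₗ[A] (ι →₀ (ResidueField A)) := Finsupp.mapRange.linearMap (Algebra.linearMap A (ResidueField A))
  have hr : ∀ x, ρ (r x) = rb ((1 : (ResidueField A)) ⊗ₜ[A] x) := by
    suffices ρ.comp r = (rb.restrictScalars A).comp (TensorProduct.mk A (ResidueField A) G 1) from LinearMap.congr_fun this
    refine B.ext fun j => ?_
    rw [LinearMap.comp_apply, Module.Basis.constr_basis]
    exact hrv j
  let T : Module.End A (ι →₀ A) := (r.comp φ).comp Lw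
  have hT : ∀ c, ρ (T c) = ρ c := by
    suffices ρ.comp T = ρ from LinearMap.congr_fun this
    refine Finsupp.lhom_ext' fun i => LinearMap.ext_ring ?_
    show ρ (r (φ (Lw (Finsupp.single i 1)))) = ρ (Finsupp.single i 1)
    rw [hr, Finsupp.linearCombination_single, one_smul]
    have h1 : (1 : (ResidueField A)) ⊗ₜ[A] φ (w i) = f (Finsupp.single i 1) := by
      show _ = φk (C.subtype (b.repr.symm (Finsupp.single i 1)))
      rw [Module.Basis.repr_symm_single, one_smul, Submodule.subtype_apply, ← hw i]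
      exact (LinearMap.baseChange_tmul φ 1 (w i)).symm
    rw [h1, ← LinearMap.comp_apply rb f, hrb, LinearMap.id_apply, Finsupp.mapRange.linearMap_apply,
      Finsupp.mapRange_single]
    simp
  obtain ⟨N, hN⟩ := h
  have hnil : IsNilpotent (T - 1) := by
    refine ⟨N, LinearMap.ext fun c => ?_⟩
    have hstep : ∀ (j : ℕ) (c : ι →₀ A), (∀ i, c i ∈ maximalIdeal A ^ j) → ∀ i, (T - 1) c i ∈ maximalIdeal A ^ (j + 1) := by
      intro j c hc i
      rw [← Finsupp.sum_single c, map_finsuppSum, Finsupp.sum, Finset.sum_apply']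
      refine Ideal.sum_mem _ fun l _ => ?_
      rw [show Finsupp.single l (c l) = c l • Finsupp.single l (1 : A) by simp, map_smul, Finsupp.smul_apply,
        smul_eq_mul, pow_succ]
      refine Ideal.mul_mem_mul (hc l) ?_
      rw [← residue_eq_zero_iff]
      have := DFunLike.congr_fun (hT (Finsupp.single l 1)) i
      rw [Finsupp.mapRange.linearMap_apply, Finsupp.mapRange.linearMap_apply] at this
      simp only [Finsupp.mapRange_apply] at this
      rw [LinearMap.sub_apply, Finsupp.sub_apply, map_sub, sub_eq_zero]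
      exact this
    have hall : ∀ j, ∀ i, ((T - 1) ^ j) c i ∈ maximalIdeal A ^ j := by
      intro j
      induction j with
      | zero => simp
      | succ j ih => intro i; rw [pow_succ' (T - 1)]; exact hstep j _ ih i
    refine Finsupp.ext fun i => ?_
    have := hall N i
    rw [hN, Ideal.zero_eq_bot, Ideal.mem_bot] at this
    exact this
  have hTu : IsUnit T := by
    have := IsNilpotent.isUnit_add_one (R := Module.End A (ι →₀ A)) (r := T - 1)
      (by obtain ⟨n, hn⟩ := hnil; exact ⟨n, hn⟩)
    rwa [show T - 1 + 1 = T from LinearMap.ext fun c => sub_add_cancel (T c) c] at this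
  obtain ⟨T', hT'⟩ := hTu.exists_left_inv
  let r' : G →ₗ[A] (ι →₀ A) := T'.comp r
  have hr' : ∀ c, r' (φ (Lw c)) = c := fun c => LinearMap.congr_fun hT' c
  have hφψ : ∀ e, φ (ψ e) = 0 := fun e => LinearMap.congr_fun hcomp e
  have hcover : LinearMap.range Lw ⊔ LinearMap.range ψ = ⊤ := by
    refine ArtFlat.eq_top_of_mk ⟨N, hN⟩ _ fun x => ?_
    obtain ⟨u, hu, v, hv, huv⟩ := Submodule.mem_sup.mp (hC.codisjoint.eq_top ▸ Submodule.mem_top : (1 : (ResidueField A)) ⊗ₜ[A] x ∈ K0 ⊔ C)
    obtain ⟨e, rfl⟩ := (hex u).mp hu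
    obtain ⟨e', rfl⟩ := TensorProduct.mk_surjective A E (ResidueField A) Ideal.Quotient.mk_surjective e
    obtain ⟨c, hc⟩ := hmr (b.repr ⟨v, hv⟩)
    refine ⟨Lw c + ψ e', Submodule.add_mem_sup ⟨c, rfl⟩ ⟨e', rfl⟩, ?_⟩
    have hlin : ∀ c, (1 : (ResidueField A)) ⊗ₜ[A] Lw c = (b.repr.symm (ρ c) : (ResidueField A) ⊗[A] F) := by
      suffices (TensorProduct.mk A (ResidueField A) F 1).comp Lw =
          ((C.subtype.comp b.repr.symm.toLinearMap).restrictScalars A).comp ρ from LinearMap.congr_fun this
      refine Finsupp.lhom_ext' fun i => LinearMap.ext_ring ?_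
      simp [Lw, ρ, hw]
    rw [TensorProduct.tmul_add, hlin, ← huv, add_comm]
    congr 1
    rw [show ρ c = b.repr ⟨v, hv⟩ from hc, LinearEquiv.symm_apply_apply]
  have hdec : ∀ x : F, x - Lw (r' (φ x)) ∈ LinearMap.range ψ := by
    intro x
    obtain ⟨_, ⟨c, rfl⟩, _, ⟨e, rfl⟩, rfl⟩ := Submodule.mem_sup.mp (hcover ▸ Submodule.mem_top : x ∈ _)
    rw [map_add φ, hφψ, add_zero, hr', add_sub_cancel_left]
    exact ⟨e, rfl⟩
  refine ⟨Module.Flat.of_retract (LinearMap.range ψ).subtype
    (LinearMap.codRestrict _ (LinearMap.id - Lw.comp (r'.comp φ)) hdec) (LinearMap.ext fun ⟨x, e, he⟩ => ?_), ?_⟩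
  · refine Subtype.ext ?_
    subst he
    show ψ e - Lw (r' (φ (ψ e))) = ψ e
    rw [hφψ, map_zero, map_zero, sub_zero]
  · let s : G →ₗ[A] G := LinearMap.id - (φ.comp Lw).comp r'
    have hs : LinearMap.range φ ≤ LinearMap.ker s := by
      rintro _ ⟨x, rfl⟩
      obtain ⟨e, he⟩ := hdec x
      rw [LinearMap.mem_ker]
      show φ x - φ (Lw (r' (φ x))) = 0
      rw [← map_sub, ← he, hφψ]
    refine Module.Flat.of_retract ((LinearMap.range φ).liftQ s hs) (LinearMap.range φ).mkQ (LinearMap.ext fun q => ?_)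
    obtain ⟨x, rfl⟩ := Submodule.Quotient.mk_surjective _ q
    show Submodule.Quotient.mk (x - φ (Lw (r' x))) = Submodule.Quotient.mk x
    rw [Submodule.Quotient.eq, sub_sub_cancel_left]
    exact neg_mem ⟨_, rfl⟩

/-- Let A be an Artinian local ring with residue field k, n ≥ 1, and 0 → I → P₀ → P₁ → ⋯ → Pₙ a complex
of A-modules with P₀, …, Pₙ flat whose reduction 0 → k ⊗ I → k ⊗ P₀ → ⋯ → k ⊗ Pₙ is exact. Then I
and coker(Pₙ₋₁ → Pₙ) are flat. The complex is written as a cochain complex C indexed by ℕ with C⁰ =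
I and Cⁱ⁺¹ = Pᵢ; its terms in degrees above n + 1 play no role. (The published statement adds that I
maps onto the kernel of k ⊗ P₀ → k ⊗ P₁, which is already part of the exactness hypothesis, and is
for local Artinian algebras over an algebraically closed field of characteristic zero having that
field as residue field; this row allows any Artinian local ring.) -/
theorem result
    (A : Type u) [CommRing A] [IsLocalRing A] [IsArtinianRing A] (n : ℕ) (hn : 0 < n)
    (C : CochainComplex (ModuleCat.{u} A) ℕ)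
    (hflat : ∀ i, i ≤ n → Module.Flat A (C.X (i + 1)))
    (hred : ∀ j, j ≤ n →
      (((MonoidalCategory.tensorLeft (ModuleCat.of A (IsLocalRing.ResidueField A))).mapHomologicalComplex
        (ComplexShape.up ℕ)).obj C).ExactAt j) :
    Module.Flat A (C.X 0) ∧ Module.Flat A (C.X (n + 1) ⧸ LinearMap.range (C.d n (n + 1)).hom) := by
  have hm : IsNilpotent (IsLocalRing.maximalIdeal A) := by
    have h0 := IsArtinianRing.isNilpotent_jacobson_bot (R := A)
    rwa [IsLocalRing.jacobson_eq_maximalIdeal _ bot_ne_top] at h0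
  let k := IsLocalRing.ResidueField A
  let D := ((MonoidalCategory.tensorLeft (ModuleCat.of A k)).mapHomologicalComplex (ComplexShape.up ℕ)).obj C
  have hex : ∀ j, j + 1 ≤ n → Function.Exact ((C.d j (j + 1)).hom.lTensor k) ((C.d (j + 1) (j + 2)).hom.lTensor k) := by
    intro j hj
    have h1 := (D.exactAt_iff' j (j + 1) (j + 2) (by simp) (by simp)).mp (hred (j + 1) hj)
    exact (ShortComplex.ShortExact.moduleCat_exact_iff_function_exact _).mp h1
  have hinj : Function.Injective ((C.d 0 1).hom.lTensor k) := by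
    have h1 := (D.exactAt_iff' 0 0 1 (by simp) (by simp)).mp (hred 0 (Nat.zero_le n))
    have h2 := (ShortComplex.moduleCat_exact_iff _).mp h1
    rw [injective_iff_map_eq_zero]
    intro x hx
    obtain ⟨y, hy⟩ := h2 x hx
    rw [← hy]
    have : D.d 0 0 = 0 := D.shape 0 0 (by simp)
    show (D.d 0 0).hom y = 0
    rw [this]
    rfl
  have hd : ∀ j, (C.d (j + 1) (j + 2)).hom.comp (C.d j (j + 1)).hom = 0 := fun j => by
    rw [← ModuleCat.hom_comp, C.d_comp_d]
    rfl
  obtain ⟨m, rfl⟩ : ∃ m, n = m + 1 := ⟨n - 1, by omega⟩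
  haveI := hflat 0 (by omega)
  haveI := hflat 1 (by omega)
  obtain ⟨hR, -⟩ := key hm _ _ (hd 0) (hex 0 (by omega))
  refine ⟨?_, ?_⟩
  · let g := (C.d 0 1).hom
    haveI : Module.Flat A (LinearMap.range g) := hR
    haveI := ArtFlat.free_of_flat (M := LinearMap.range g) hm
    obtain ⟨s, hs⟩ := Module.projective_lifting_property g.rangeRestrict LinearMap.id (LinearMap.surjective_rangeRestrict g)
    have hker : LinearMap.ker g = ⊥ := by
      have h1 : ∀ x, g x = 0 → (1 : k) ⊗ₜ[A] x = 0 := fun x hx => hinj (by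
        rw [map_zero, LinearMap.lTensor_tmul]
        exact (congrArg _ hx).trans (TensorProduct.tmul_zero _ _))
      have h2 : LinearMap.range s = ⊤ := by
        refine ArtFlat.eq_top_of_mk hm _ fun x => ⟨s (g.rangeRestrict x), ⟨_, rfl⟩, ?_⟩
        rw [← sub_eq_zero, ← TensorProduct.tmul_sub]
        refine h1 _ ?_
        rw [map_sub, sub_eq_zero]
        exact congrArg Subtype.val (LinearMap.congr_fun hs (g.rangeRestrict x))
      refine LinearMap.ker_eq_bot'.mpr fun x hx => ?_
      obtain ⟨y, rfl⟩ := (h2 ▸ Submodule.mem_top : x ∈ LinearMap.range s)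
      have : y = 0 := Subtype.ext ((congrArg Subtype.val (LinearMap.congr_fun hs y)).symm.trans hx)
      rw [this, map_zero]
    exact Module.Flat.of_linearEquiv (LinearEquiv.ofInjective g (LinearMap.ker_eq_bot.mp hker))
  · haveI := hflat m (by omega)
    haveI := hflat (m + 1) (by omega)
    exact (key hm _ _ (hd m) (hex m le_rfl)).2

end Groth.Agent.S15133
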