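import Groth.Statements.S15153
import Groth.Agent.SpanRank.Basic
-- import your own Groth.Agent.* helpers here

set_option autoImplicit false
universe u
open TensorProduct
open HilbZeta

namespace Groth.Agent.S15153

/-- Let A be a Noetherian commutative ring, S a commutative A-algebra and Q an S-module which is finite
and flat as an A-module. For a prime p of A with residue field κ(p), multiplication by an element of
S induces a κ(p)-linear endomorphism of the fibre κ(p) ⊗_A Q; let φ(p) be the κ(p)-dimension of the
span of these endomorphisms, which is the colength of the annihilator of the fibre module κ(p) ⊗_A Q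
in the fibre algebra κ(p) ⊗_A S (the length of the smallest subscheme of the fibre carrying it).
Then p ↦ φ(p) is a constructible function: for every n the primes with φ(p) = n form a constructible
subset of Spec A. (The published statement is for a coherent sheaf, flat and finite over a
Noetherian base, on a family of reduced curve singularities with a section, and its function of the
base point is this colength; the curve hypotheses play no role and the row is the affine form over
any Noetherian ring.) -/
theorem result (A : Type u) [CommRing A] [IsNoetherianRing A]
    (S : Type u) [CommRing S] [Algebra A S]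
    (Q : Type u) [AddCommGroup Q] [Module A Q] [Module S Q] [IsScalarTower A S Q]
    [Module.Finite A Q] [Module.Flat A Q] (n : ℕ) :
    Topology.IsConstructible {p : PrimeSpectrum A |
      Module.finrank p.asIdeal.ResidueField
        (Submodule.span p.asIdeal.ResidueField
          (Set.range fun s : S =>
            LinearMap.baseChange p.asIdeal.ResidueField (DistribSMul.toLinearMap A Q s))) = n} := by
  classical
  haveI : Module.FinitePresentation A Q := Module.finitePresentation_of_finite A Q
  haveI : Module.Projective A Q := Module.Flat.projective_of_finitePresentation
  obtain ⟨m, f, hf⟩ := Module.Finite.exists_fin' A Q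
  obtain ⟨g, hg⟩ := Module.projective_lifting_property f LinearMap.id hf
  let a : S → (Fin m × Fin m → A) := fun s z => g (s • f (Pi.single z.2 1)) z.1
  convert SpanRank.isConstructible_finrank_span_eq a n using 1
  ext p
  simp only [Set.mem_setOf_eq]
  let K := p.asIdeal.ResidueField
  let eq' := TensorProduct.piScalarRight A K K (Fin m)
  let gK := g.baseChange K
  let fK := f.baseChange K
  let L : Module.End K (K ⊗[A] Q) →ₗ[K] (Fin m × Fin m → K) :=
    { toFun := fun φ z => eq' (gK (φ (fK (1 ⊗ₜ Pi.single z.2 1)))) z.1
      map_add' := fun φ ψ => by ext z; simp
      map_smul' := fun c φ => by ext z; simp }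
  have hgK : Function.Injective gK := by
    refine Function.LeftInverse.injective (g := fK) fun x => ?_
    rw [← LinearMap.comp_apply, ← LinearMap.baseChange_comp, hg, LinearMap.baseChange_id, LinearMap.id_apply]
  have hfK : Function.Surjective fK := LinearMap.lTensor_surjective K hf
  have hL : Function.Injective L := by
    rw [injective_iff_map_eq_zero]
    intro φ hφ
    have h0 : φ.comp fK = 0 := by
      refine TensorProduct.AlgebraTensorModule.ext fun c v => ?_
      have hv : c ⊗ₜ[A] v = ∑ j, (c * algebraMap A K (v j)) • ((1 : K) ⊗ₜ[A] (Pi.single j (1 : A) : Fin m → A)) := by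
        conv_lhs => rw [pi_eq_sum_univ' v, TensorProduct.tmul_sum]
        refine Finset.sum_congr rfl fun j _ => ?_
        rw [TensorProduct.smul_tmul', smul_eq_mul, mul_one, ← TensorProduct.smul_tmul, Algebra.smul_def, mul_comm]
      rw [hv, map_sum, LinearMap.zero_apply]
      refine Finset.sum_eq_zero fun j _ => ?_
      rw [map_smul, LinearMap.comp_apply]
      suffices φ (fK ((1 : K) ⊗ₜ[A] Pi.single j (1 : A))) = 0 by rw [this, smul_zero]
      apply hgK
      rw [map_zero]
      apply eq'.injective
      rw [map_zero]
      exact funext fun i => congrFun hφ (i, j)
    refine LinearMap.ext fun x => ?_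
    obtain ⟨y, rfl⟩ := hfK x
    exact LinearMap.congr_fun h0 y
  have himg : ∀ s : S, L ((DistribSMul.toLinearMap A Q s).baseChange K) = SpanRank.vec a p s := fun s => by
    funext z
    show eq' (gK ((DistribSMul.toLinearMap A Q s).baseChange K (fK (1 ⊗ₜ Pi.single z.2 1)))) z.1 = _
    simp [fK, gK, eq', a, SpanRank.vec, Algebra.smul_def, K]
  rw [show Set.range (SpanRank.vec a p) = L '' Set.range (fun s : S => (DistribSMul.toLinearMap A Q s).baseChange K) by
    rw [← Set.range_comp]; exact congrArg Set.range (funext fun s => (himg s).symm)]
  rw [← Submodule.map_span, ← (Submodule.equivMapOfInjective L hL _).finrank_eq]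


end Groth.Agent.S15153
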