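import Groth.Statements.S15155
import Mathlib

set_option autoImplicit false
open CAlg

namespace Groth.Agent.S15155

open Matrix

/-- The determinant of an alternating matrix over a field is a square. -/
theorem isSquare_det {K : Type*} [Field K] : ∀ (n : ℕ) (M : Matrix (Fin n) (Fin n) K),
    M.transpose = -M → (∀ i, M i i = 0) → IsSquare M.det := by
  intro n
  induction n using Nat.strong_induction_on with
  | _ n ih =>
    intro M hM hd
    match n, M, hM, hd with
    | 0, M, _, _ => exact ⟨1, by simp⟩
    | 1, M, _, hd => exact ⟨0, by simp [hd 0]⟩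
    | m + 2, M, hM, hd =>
      by_cases h0 : ∀ j, M 0 j = 0
      · exact ⟨0, by rw [det_eq_zero_of_row_eq_zero 0 h0, mul_zero]⟩
      push Not at h0
      obtain ⟨j, hj⟩ := h0
      have hj0 : j ≠ 0 := fun h => hj (h ▸ hd 0)
      let e : Equiv.Perm (Fin (m + 2)) := Equiv.swap 1 j
      let ι : Fin 2 ⊕ Fin m ≃ Fin (m + 2) := finSumFinEquiv.trans (finCongr (by omega))
      let N : Matrix (Fin 2 ⊕ Fin m) (Fin 2 ⊕ Fin m) K := M.submatrix (ι.trans e) (ι.trans e)
      have hdetN : N.det = M.det := det_submatrix_equiv_self _ M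
      have hN : ∀ a b, N b a = -N a b := fun a b => congrFun (congrFun hM _) _
      have hNd : ∀ a, N a a = 0 := fun a => hd _
      have hι0 : ι (Sum.inl 0) = 0 := Fin.ext (by simp [ι])
      have hι1 : ι (Sum.inl 1) = 1 := Fin.ext (by simp [ι])
      have ha : N (Sum.inl 0) (Sum.inl 1) ≠ 0 := by
        have he0 : e 0 = 0 := Equiv.swap_apply_of_ne_of_ne (by simp) hj0.symm
        have he1 : e 1 = j := Equiv.swap_apply_left _ _
        simp [N, hι0, hι1, he0, he1, hj]
      let a := N (Sum.inl 0) (Sum.inl 1)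
      let B := N.toBlocks₁₁
      let C := N.toBlocks₁₂
      let D := N.toBlocks₂₂
      let Binv : Matrix (Fin 2) (Fin 2) K := !![0, -a⁻¹; a⁻¹, 0]
      have hB : B = !![0, a; -a, 0] := by
        ext i k
        fin_cases i <;> fin_cases k <;> simp [B, toBlocks₁₁, a, hNd, hN (Sum.inl 0) (Sum.inl 1)]
      letI : Invertible B := ⟨Binv,
        by rw [hB]; ext i k; fin_cases i <;> fin_cases k <;> simp [Binv, Matrix.mul_apply, a, ha],
        by rw [hB]; ext i k; fin_cases i <;> fin_cases k <;> simp [Binv, Matrix.mul_apply, a, ha]⟩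
      have h21 : N.toBlocks₂₁ = -C.transpose := by
        ext i k
        exact hN (Sum.inl k) (Sum.inr i)
      let S : Matrix (Fin m) (Fin m) K := D - N.toBlocks₂₁ * ⅟B * C
      have hBinv : (⅟B : Matrix (Fin 2) (Fin 2) K) = Binv := rfl
      have hSt : S.transpose = -S := by
        have hDt : D.transpose = -D := by ext i k; exact hN (Sum.inr i) (Sum.inr k)
        have hBt : Binv.transpose = -Binv := by
          ext i k; fin_cases i <;> fin_cases k <;> simp [Binv]
        simp only [S, h21, hBinv, transpose_sub, transpose_mul, transpose_neg, transpose_transpose, hDt, hBt]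
        simp [Matrix.mul_assoc]
        abel
      have hSd : ∀ i, S i i = 0 := fun i => by
        have : D i i = 0 := hNd _
        simp only [S, h21, hBinv, Matrix.sub_apply, Matrix.mul_apply, Fin.sum_univ_two, this]
        simp [Binv]
        ring
      obtain ⟨r, hr⟩ := ih m (by omega) S hSt hSd
      refine ⟨a * r, ?_⟩
      rw [← hdetN, ← fromBlocks_toBlocks N, det_fromBlocks₁₁]
      change B.det * S.det = _
      rw [hr, hB, det_fin_two_of]
      ring

/-- Over a unique factorisation domain the determinant of an alternating matrix is a square. -/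
theorem isSquare_det_ufd {R : Type*} [CommRing R] [IsDomain R] [UniqueFactorizationMonoid R] {ι : Type*} [Fintype ι]
    [DecidableEq ι] (M : Matrix ι ι R) (hM : M.transpose = -M) (hd : ∀ i, M i i = 0) : IsSquare M.det := by
  let K := FractionRing R
  let e := Fintype.equivFin ι
  let N : Matrix (Fin (Fintype.card ι)) (Fin (Fintype.card ι)) K := (M.map (algebraMap R K)).submatrix e.symm e.symm
  obtain ⟨x, hx⟩ := isSquare_det _ N (by
    ext a b
    simp only [N, transpose_apply, submatrix_apply, map_apply, Matrix.neg_apply, ← map_neg]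
    exact congrArg _ (congrFun (congrFun hM _) _)) (fun a => by simp [N, hd])
  rw [det_submatrix_equiv_self] at hx
  change ((algebraMap R K).mapMatrix M).det = x * x at hx
  rw [← RingHom.map_det] at hx
  have hint : IsIntegral R x := by
    refine IsIntegral.of_pow (n := 2) (by norm_num) ?_
    rw [pow_two, ← hx]
    exact isIntegral_algebraMap
  obtain ⟨y, rfl⟩ := IsIntegrallyClosed.algebraMap_eq_of_integral hint
  exact ⟨y, IsFractionRing.injective R K (by rw [hx, map_mul])⟩

/-- For matrices commuting with a symplectic form the determinant is the square of a polynomial in the entries. -/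
theorem exists_sqrt {R : Type*} [CommRing R] [IsDomain R] [UniqueFactorizationMonoid R] [Invertible (2 : R)] {ι : Type} [Fintype ι] [DecidableEq ι]
    (J : Matrix ι ι R) (hJ : J.transpose = -J) (hJd : ∀ i, J i i = 0) (hu : IsUnit J.det) :
    ∃ Q : MvPolynomial (ι × ι) R, ∀ A : Matrix ι ι R, A.transpose * J = J * A →
      A.det = (MvPolynomial.eval (fun ij => A ij.1 ij.2) Q) ^ 2 := by
  classical
  obtain ⟨c, hc⟩ := isSquare_det_ufd J hJ hJd
  obtain ⟨u, rfl⟩ : IsUnit c := isUnit_of_mul_isUnit_left (hc ▸ hu)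
  let Y : Matrix ι ι (MvPolynomial (ι × ι) R) := J.map MvPolynomial.C * Matrix.of fun i j => MvPolynomial.X (i, j)
  let G : Matrix ι ι (MvPolynomial (ι × ι) R) := (MvPolynomial.C (⅟(2 : R)) : MvPolynomial (ι × ι) R) • (Y - Y.transpose)
  obtain ⟨g, hg⟩ := isSquare_det_ufd G (by
    simp only [G]
    rw [transpose_smul, transpose_sub, transpose_transpose, ← smul_neg, neg_sub]) (fun i => by simp [G])
  refine ⟨MvPolynomial.C (↑u⁻¹ : R) * g, fun A hA => ?_⟩
  let φ : MvPolynomial (ι × ι) R →+* R := MvPolynomial.eval fun ij => A ij.1 ij.2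
  have hY : Y.map φ = J * A := by
    rw [Matrix.map_mul]
    congr 1
    · ext i j; simp [φ]
    · ext i j; simp [φ]
  have hG : G.map φ = J * A := by
    have hskew : (J * A).transpose = -(J * A) := by
      rw [transpose_mul, hJ, Matrix.mul_neg, hA]
    ext i j
    have h1 : φ (Y i j) = (J * A) i j := congrFun (congrFun hY i) j
    have h2 : φ (Y j i) = -(J * A) i j := by
      rw [show φ (Y j i) = (J * A) j i from congrFun (congrFun hY j) i]
      exact congrFun (congrFun hskew i) j
    simp only [G, map_apply, Matrix.smul_apply, Matrix.sub_apply, transpose_apply, smul_eq_mul, map_mul, map_sub, h1, h2]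
    simp only [φ, MvPolynomial.eval_C, sub_neg_eq_add, ← two_mul, ← mul_assoc, invOf_mul_self, one_mul]
  have hdet : J.det * A.det = φ g * φ g := by
    rw [← det_mul, ← hG, ← map_mul, ← hg, RingHom.map_det]
    rfl
  rw [map_mul, MvPolynomial.eval_C]
  change A.det = ((↑u⁻¹ : R) * φ g) ^ 2
  rw [mul_pow, pow_two (φ g), ← hdet, hc]
  rw [pow_two, show (↑u⁻¹ : R) * ↑u⁻¹ * (↑u * ↑u * A.det) = (↑u⁻¹ * ↑u) * (↑u⁻¹ * ↑u) * A.det by ring,
    Units.inv_mul, one_mul, one_mul]

/-- Let J be the 2m × 2m block matrix with blocks 0, I_m in the first row and −I_m, 0 in the second,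
over the complex numbers. On the set of complex 2m × 2m matrices A with ᵗA · J = J · A (equivalently
ᵗA = J A J⁻¹, J being invertible), the characteristic polynomial is the square of a single
polynomial in the entries of A with coefficients in ℂ[X], and the determinant is the square of a
single polynomial in the entries of A. -/
theorem result (m : ℕ) :
    (∃ P : MvPolynomial ((Fin m ⊕ Fin m) × (Fin m ⊕ Fin m)) (Polynomial ℂ),
      ∀ A : Matrix (Fin m ⊕ Fin m) (Fin m ⊕ Fin m) ℂ,
        A.transpose * Matrix.fromBlocks 0 1 (-1) 0 = Matrix.fromBlocks 0 1 (-1) 0 * A →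
        A.charpoly = (MvPolynomial.eval (fun ij => Polynomial.C (A ij.1 ij.2)) P) ^ 2) ∧
    (∃ Q : MvPolynomial ((Fin m ⊕ Fin m) × (Fin m ⊕ Fin m)) ℂ,
      ∀ A : Matrix (Fin m ⊕ Fin m) (Fin m ⊕ Fin m) ℂ,
        A.transpose * Matrix.fromBlocks 0 1 (-1) 0 = Matrix.fromBlocks 0 1 (-1) 0 * A →
        A.det = (MvPolynomial.eval (fun ij => A ij.1 ij.2) Q) ^ 2) := by
  classical
  let J : (R : Type) → [CommRing R] → Matrix (Fin m ⊕ Fin m) (Fin m ⊕ Fin m) R := fun R _ => Matrix.fromBlocks 0 1 (-1) 0
  have hJ : ∀ (R : Type) [CommRing R], (J R).transpose = -J R ∧ (∀ i, J R i i = 0) ∧ IsUnit (J R).det := by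
    intro R _
    refine ⟨?_, fun i => by rcases i with i | i <;> simp [J], ?_⟩
    · simp only [J, fromBlocks_transpose, fromBlocks_neg]
      simp
    · have h : J R * J R = -1 := by
        simp only [J, fromBlocks_multiply]
        simp [← fromBlocks_one, fromBlocks_neg]
      rw [← Matrix.isUnit_iff_isUnit_det]
      exact IsUnit.of_mul_eq_one (-J R) (by rw [Matrix.mul_neg, h, neg_neg])
  refine ⟨?_, ?_⟩
  · letI : Invertible (2 : Polynomial ℂ) := (Invertible.map (Polynomial.C : ℂ →+* Polynomial ℂ) 2).copy 2 (map_ofNat _ _).symm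
    obtain ⟨h1, h2, h3⟩ := hJ (Polynomial ℂ)
    obtain ⟨Q, hQ⟩ := exists_sqrt (J (Polynomial ℂ)) h1 h2 h3
    refine ⟨MvPolynomial.aeval (fun ij => MvPolynomial.C (if ij.1 = ij.2 then Polynomial.X else 0) - MvPolynomial.X ij) Q,
      fun A hA => ?_⟩
    have hA' : A.charmatrix.transpose * J (Polynomial ℂ) = J (Polynomial ℂ) * A.charmatrix := by
      have hmap : (A.map Polynomial.C).transpose * J (Polynomial ℂ) = J (Polynomial ℂ) * A.map Polynomial.C := by
        have h := congrArg (fun M => M.map (Polynomial.C : ℂ →+* Polynomial ℂ)) hA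
        simp only [Matrix.map_mul, ← transpose_map] at h
        have hJm : (Matrix.fromBlocks 0 1 (-1) 0 : Matrix (Fin m ⊕ Fin m) (Fin m ⊕ Fin m) ℂ).map (Polynomial.C : ℂ →+* Polynomial ℂ) = J (Polynomial ℂ) := by
          rw [fromBlocks_map]
          show _ = fromBlocks 0 1 (-1) 0
          congr 1 <;> refine Matrix.ext fun i j => ?_ <;> by_cases hij : i = j <;> simp [hij, Matrix.one_apply]
        rwa [hJm] at h
      have hc : A.charmatrix = Matrix.scalar _ (Polynomial.X : Polynomial ℂ) - A.map Polynomial.C := rfl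
      rw [hc, transpose_sub, Matrix.sub_mul, Matrix.mul_sub, hmap]
      congr 1
      rw [Matrix.scalar_apply, diagonal_transpose, ← Matrix.scalar_apply]
      exact Matrix.scalar_commute _ (fun _ => Commute.all _ _) _
    rw [Matrix.charpoly, hQ _ hA', MvPolynomial.aeval_def, MvPolynomial.hom_eval₂]
    have hr : (MvPolynomial.eval fun ij => Polynomial.C (A ij.1 ij.2)).comp (algebraMap (Polynomial ℂ) (MvPolynomial ((Fin m ⊕ Fin m) × (Fin m ⊕ Fin m)) (Polynomial ℂ))) = RingHom.id _ := by
      refine RingHom.ext fun x => ?_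
      simp
    rw [hr]
    congr 1
    show MvPolynomial.eval₂ (RingHom.id _) _ Q = _
    congr 1
    funext ij
    by_cases h : ij.1 = ij.2
    · simp only [Function.comp_apply, if_pos h]
      obtain ⟨i, j⟩ := ij
      cases h
      simp [charmatrix_apply_eq]
    · simp only [Function.comp_apply, if_neg h]
      simp [charmatrix_apply_ne _ _ _ h]
  · obtain ⟨h1, h2, h3⟩ := hJ ℂ
    letI : Invertible (2 : ℂ) := invertibleOfNonzero two_ne_zero
    exact exists_sqrt (J ℂ) h1 h2 h3

end Groth.Agent.S15155
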