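import Groth.Statements.S15225
import Groth.Agent.HiggsSlope
import Groth.Agent.ConsPropLib.FibreLocFreeRank
import Groth.Agent.CurveBC.Main
import Groth.Agent.CurveCohLib.SmoothCurve
import Groth.Agent.H23.PicMul
import Groth.Agent.Lib.CurveDualPrep
import Mathlib.Analysis.Complex.Polynomial.Basic

set_option autoImplicit false
set_option linter.style.haveILetI false
set_option backward.isDefEq.respectTransparency false
set_option backward.isDefEq.respectTransparency.types false
-- import your own Groth.Agent.* helpers here

set_option autoImplicit false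
open CategoryTheory CategoryTheory.Limits AlgebraicGeometry MonoidalCategory
open VBCurve

namespace Groth.Agent.S15225

open Groth.Agent.CurveBundle Groth.Agent.CurveSlope Groth.Agent.CurveStable Groth.Agent.CurveHiggs

/-- Let X be a smooth proper integral curve over ℂ of genus at least 2 which is non-hyperelliptic (no
invertible module of degree 2 has two independent global sections), K a module isomorphic to its
sheaf of differentials, and E a slope-stable finite locally free module of rank 2 and degree 0 or 1
(degrees are χ(−) minus rank times χ(O_X)). Call E very stable when every O_X-linear map α : E → E ⊗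
K with α ∘ α = 0 (the composite E → E ⊗ K → (E ⊗ K) ⊗ K) is zero; for rank 2 this is the absence of
non-zero nilpotent K-valued endomorphisms. Then E fails to be very stable exactly when E has a line
subbundle L, i.e. an invertible submodule whose quotient E/L is invertible, together with a non-zero
O_X-linear map E/L → L ⊗ K. (With det E = Λ and L the dual of a line bundle L₀ the space of such
maps is H^0(K ⊗ L₀^{-2} ⊗ Λ^{-1}), which is how the criterion is usually written.) -/
theorem result
    (X : Scheme.{0}) [X.Over (Spec (CommRingCat.of ℂ))] [IsIntegral X]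
    [IsProper (X ↘ Spec (CommRingCat.of ℂ))] [Smooth (X ↘ Spec (CommRingCat.of ℂ))]
    (hdim : topologicalKrullDim X = 1) (hg : 2 ≤ Curv2.genus ℂ X)
    (hnh : ∀ M : X.Modules, PicF.IsInvertible M → Curv2.deg ℂ X M 1 = 2 →
      Module.finrank ℂ (Coh.HH X M 0) ≤ 1)
    (K : X.Modules) (eK : K ≅ Omega.sheaf (X ↘ Spec (CommRingCat.of ℂ)))
    (E : X.Modules) (hE : FlatMod.IsFinLocFreeOfRank 2 E)
    (hdegE : Curv2.deg ℂ X E 2 = 0 ∨ Curv2.deg ℂ X E 2 = 1)
    (hst : ModFun.IsSlopeStable ℂ X E 2) :
    (¬ ∀ α : E ⟶ CohB1.tensorMod E K,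
        α ≫ (CohB1.sheafifyMod X).map
          (MonoidalCategoryStruct.whiskerRight (C := CohB1.PMod X) α.val (CohB1.toPMod K)) = 0 → α = 0) ↔
      ∃ (L : X.Modules) (j : L ⟶ E), PicF.IsInvertible L ∧ Mono j ∧ PicF.IsInvertible (cokernel j) ∧
        ∃ β : cokernel j ⟶ CohB1.tensorMod L K, β ≠ 0 := by
  haveI := Groth.Agent.CurveCohLib.isNoetherian_of_proper (k := ℂ) (X := X)
  have hEf := isFinLocFree_of_rank hE
  have hKinv : PicF.IsInvertible K := Groth.Agent.H23.PicMul.isInvertible_of_iso eK.symm
    (Groth.Agent.CurveBC.isInvertible_omega ℂ X hdim (Groth.Agent.CurveCohLib.finrank_h0_eq_one ℂ X))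
  have hKf := isFinLocFree_of_rank (Groth.Agent.InvEnd.isFinLocFreeOfRank_one hKinv)
  constructor
  · intro hne
    push Not at hne
    obtain ⟨α, hα2', hα⟩ := hne
    have hα2 : α ≫ twist K α = 0 := hα2'
    obtain ⟨I, π, j, hj, hπ, hfac, hL, hI, hrE, -, hpos, -⟩ :=
      exists_decomp ℂ hdim.le hEf (isFinLocFree_twist hKinv hEf) α
    haveI := hj
    haveI := hπ
    have hw : kernel.ι α ≫ π = 0 := by
      rw [← cancel_mono j, Category.assoc, hfac, kernel.condition, zero_comp]
    have hker : IsLimit (KernelFork.ofι (kernel.ι α) hw) :=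
      isKernelOfComp j α (kernelIsKernel α) hw hfac
    have hS : (ShortComplex.mk (kernel.ι α) π hw).ShortExact :=
      { exact := ShortComplex.exact_of_f_is_kernel _ hker }
    haveI := mono_twist hKf j
    have hx : j ≫ twist K π = 0 := by
      rw [← cancel_mono (twist K j), Category.assoc, ← twist_comp, hfac, ← cancel_epi π, zero_comp, comp_zero,
        reassoc_of% hfac]
      exact hα2
    obtain ⟨β, hβ⟩ := exists_lift hKf (kernel.ι α) π hw hS j hx
    have hI0 := hpos hα
    have hL0 : rk (kernel α) ≠ 0 := fun h0 => by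
      have hz := isZero_of_rk_zero hL h0
      have : j = 0 := by
        rw [← hβ, show twist K (kernel.ι α) = 0 by rw [hz.eq_of_src (kernel.ι α) 0, twist_zero], comp_zero]
      exact hα (by rw [← hfac, this, comp_zero])
    rw [rk_eq hE] at hrE
    have hI1 : rk I = 1 := by omega
    have hL1 : rk (kernel α) = 1 := by omega
    have hLr := isFinLocFreeOfRank_rk hL
    have hIr := isFinLocFreeOfRank_rk hI
    rw [hL1] at hLr
    rw [hI1] at hIr
    let e : cokernel (kernel.ι α) ≅ I :=
      IsColimit.coconePointUniqueUpToIso (cokernelIsCokernel _) hS.gIsCokernel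
    refine ⟨kernel α, kernel.ι α, Groth.Agent.CurveDuality.isInvertible_of_rank_one hLr, inferInstance,
      Groth.Agent.CurveDuality.isInvertible_of_rank_one (Groth.Agent.ConsPropLib.isFinLocFreeOfRank_iso e |>.2 hIr), e.hom ≫ β, fun h0 => ?_⟩
    have : β = 0 := by rw [← cancel_epi e.hom, h0, comp_zero]
    rw [this, zero_comp] at hβ
    exact hα (by rw [← hfac, ← hβ, comp_zero])
  · rintro ⟨L, j, hL, hj, -, β, hβ⟩ h
    haveI := mono_twist hKf j
    refine hβ ?_
    have h' : ∀ α : E ⟶ (DCoh.tensorBi.obj E).obj K, α ≫ twist K α = 0 → α = 0 := fun α hα => h α hα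
    have h0 := h' (cokernel.π j ≫ β ≫ twist K j) (by
      rw [Category.assoc, Category.assoc, ← twist_comp, ← Category.assoc j, cokernel.condition, zero_comp,
        twist_zero, comp_zero, comp_zero])
    rwa [← cancel_epi (cokernel.π j), comp_zero, ← cancel_mono (twist K j), zero_comp, Category.assoc]

end Groth.Agent.S15225
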