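import Groth.Statements.S1523
import Groth.Agent.CurveVA.Converse
import Groth.Agent.CurveVA.Vanish
import Groth.Agent.CurveVA.Twist
import Groth.Agent.CurveEmbed.Conic
import Groth.Agent.CurveCohLib.Clifford
-- import your own Groth.Agent.* helpers here

set_option autoImplicit false
universe u
open CategoryTheory CategoryTheory.Limits AlgebraicGeometry
open Variety

namespace Groth.Agent.S1523

section Aux
open CategoryTheory CategoryTheory.Limits AlgebraicGeometry TopologicalSpace Opposite
open Groth.Agent Groth.Agent.InvX Groth.Agent.H23 Groth.Agent.CurvePoint Groth.Agent.CurveVA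
open Groth.Agent.PnCoh.Finite (mapLin)

set_option backward.isDefEq.respectTransparency false
set_option backward.isDefEq.respectTransparency.types false

variable (k : Type u) [Field k] [IsAlgClosed k] (X : Scheme.{u}) [X.Over (Spec (CommRingCat.of k))]
  [IsIntegral X] [IsProper (X ↘ Spec (CommRingCat.of k))]

attribute [local instance] Curv2.resAlgebra

theorem residue_one {x : X} (hx : IsClosed ({x} : Set X)) : Module.finrank k (X.residueField x) = 1 := by
  have hsurj : Function.Surjective (algebraMap k (X.residueField x)) := fun r => by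
    obtain ⟨a, rfl⟩ := Scheme.residue_surjective X x r
    obtain ⟨c, hc⟩ := CurveSection.exists_stalkMap_sub_mem k hx a
    refine ⟨c, ?_⟩
    have h := (IsLocalRing.residue_eq_zero_iff _).2 hc
    rw [map_sub, sub_eq_zero] at h
    exact h.symm
  have h := (LinearEquiv.ofBijective (Algebra.linearMap k (X.residueField x))
    ⟨(algebraMap k (X.residueField x)).injective, hsurj⟩).finrank_eq
  rw [Module.finrank_self] at h
  exact h.symm

include k in
theorem exists_point (hdim : topologicalKrullDim X = 1) (U : X.Opens) (hU : (U : Set X).Nonempty) :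
    ∃ x, x ∈ U ∧ IsClosed ({x} : Set X) ∧ IsIntegrallyClosed (X.presheaf.stalk x) := by
  haveI := CurveCohLib.isNoetherian_of_proper (k := k) (X := X)
  haveI : JacobsonSpace X := LocallyOfFiniteType.jacobsonSpace (X ↘ Spec (CommRingCat.of k))
  let S := (X ↘ Spec (CommRingCat.of k)).smoothLocus
  have hS : (S : Set X).Nonempty :=
    (X ↘ Spec (CommRingCat.of k)).dense_smoothLocus_of_perfectField.nonempty
  have h2 : ((S : Set X) ∩ (U : Set X)).Nonempty := nonempty_preirreducible_inter S.2 U.2 hS hU
  obtain ⟨x, ⟨hxS, hxU⟩, hxc⟩ := nonempty_inter_closedPoints h2 (S.2.inter U.2).isLocallyClosed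
  exact ⟨x, hxU, hxc, CurveEmbed.isIntegrallyClosed_of_smooth k hdim hxc hxS⟩

include k in
theorem euler_inv (hdim : topologicalKrullDim X = 1) {L : X.Modules} (hL : PicF.IsInvertible L) :
    (Module.finrank k (Coh.HH X L 0) : ℤ) - Module.finrank k (Coh.HH X L 1) =
      Curv2.deg k X L 1 + 1 - Curv2.genus k X := by
  haveI := CurveCohLib.isNoetherian_of_proper (k := k) (X := X)
  have h1 := CurveRR.euler_eq_h0_sub_h1 k hdim.le (CurveDeg.isCoh_of_isInvertible hL).1
  have h2 := CurveRR.euler_eq_h0_sub_h1 k hdim.le (QCoh.isQCoh_structureModule (X := X))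
  have h3 := CurveCohLib.Clifford.finrank_h0_structure (X := X) k
  unfold Curv2.deg Curv2.genus
  push_cast
  omega

include k in
theorem h0_lt' {M L : X.Modules} (hL : Coh.IsCoh L) (ψ : M ⟶ L) [Mono ψ] (z : Γ(L, ⊤))
    (hz : ∀ t, ψ.app ⊤ t ≠ z) :
    Module.finrank k (Coh.HH X M 0) < Module.finrank k (Coh.HH X L 0) := by
  haveI := CurveCohLib.isNoetherian_of_proper (k := k) (X := X)
  haveI := CurveCohLib.finite_HH (k := k) hL 0
  have hinj : Function.Injective (mapLin k ψ 0) := fun s t h => by
    apply (Sheaf.H.equiv₀ (Coh.toAb M) isTerminalTop).injective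
    refine QCoh.app_injective ψ ⊤ ?_
    exact ((Sheaf.H.equiv₀_naturality isTerminalTop ((QCoh.toAbFunctor X).map ψ) s).trans
      (congrArg (Sheaf.H.equiv₀ (Coh.toAb L) isTerminalTop) h)).trans
      (Sheaf.H.equiv₀_naturality isTerminalTop ((QCoh.toAbFunctor X).map ψ) t).symm
  rw [← LinearMap.finrank_range_of_inj hinj]
  refine Submodule.finrank_lt fun htop => ?_
  obtain ⟨t, ht⟩ := (htop ▸ Submodule.mem_top :
    (Sheaf.H.equiv₀ (Coh.toAb L) isTerminalTop).symm z ∈ LinearMap.range (mapLin k ψ 0))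
  refine hz (Sheaf.H.equiv₀ (Coh.toAb M) isTerminalTop t) ?_
  exact ((Sheaf.H.equiv₀_naturality isTerminalTop ((QCoh.toAbFunctor X).map ψ) t).trans
      (congrArg (Sheaf.H.equiv₀ (Coh.toAb L) isTerminalTop) ht)).trans (AddEquiv.apply_symm_apply _ _)

include k in
theorem step (hdim : topologicalKrullDim X = 1) {L : X.Modules} (hL : PicF.IsInvertible L) (m : ℕ)
    (h0 : Module.finrank k (Coh.HH X L 0) = m + 1) (h1 : Subsingleton (Coh.HH X L 1)) :
    ∃ M : X.Modules, PicF.IsInvertible M ∧ Module.finrank k (Coh.HH X M 0) = m ∧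
      Subsingleton (Coh.HH X M 1) := by
  haveI := CurveCohLib.isNoetherian_of_proper (k := k) (X := X)
  have hLc := CurveDeg.isCoh_of_isInvertible hL
  let e₀ := Sheaf.H.equiv₀ (Coh.toAb L) isTerminalTop
  haveI := CurveCohLib.finite_HH (k := k) hLc 0
  obtain ⟨t, ht⟩ := Module.finrank_pos_iff_exists_ne_zero.1
    (show 0 < Module.finrank k (Coh.HH X L 0) by omega)
  let z : Γ(L, ⊤) := e₀ t
  have hz : z ≠ 0 := fun h => ht (e₀.injective ((show e₀ t = 0 from h).trans (map_zero e₀).symm))
  have hne : (TrivBasic.locus z : Set X).Nonempty := by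
    obtain ⟨U, hxU, e, he⟩ := exists_frame hL (genericPoint X)
    refine ⟨genericPoint X, mem_locus_of_coord he hxU fun hmem => hz ?_⟩
    have hmax : IsLocalRing.maximalIdeal (X.presheaf.stalk (genericPoint X)) = ⊥ :=
      IsLocalRing.isField_iff_maximalIdeal_eq.1 (CurveBundle.isField_stalk_generic (X := X))
    rw [hmax, Ideal.mem_bot] at hmem
    refine CurveCohLib.Hopf.eq_zero_of_germ_eq_zero hL _ (x := genericPoint X) ?_
    have h := Equiv.ofBijective_apply_symm_apply _ (he.germ_bijective hxU) (L.presheaf.germ ⊤ (genericPoint X) trivial z)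
    rw [← h]
    show (coord he hxU (L.presheaf.germ ⊤ (genericPoint X) trivial z) : X.presheaf.stalk (genericPoint X)) • _ = 0
    rw [hmem, zero_smul]
  obtain ⟨x, hxz, hxc, hxn⟩ := exists_point k X hdim _ hne
  have hI := CurveEmbed.isInvertible_point k hdim hxc hxn
  haveI : (AmpleVan.tw L).IsEquivalence := AmpleVan.isEquivalence_tw hL
  haveI : Mono (ClSub.idealModι (ptIdeal x hxc)) := by
    unfold ClSub.idealModι; infer_instance
  obtain ⟨c⟩ := H23.PicMul.comm (Coh.structureModule X) L
  let β : (AmpleVan.tw L).obj (Coh.structureModule X) ≅ L := c ≪≫ (KFlatLib.tensorStructureIso X).app L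
  let M := CohB1.tensorMod (ptMod x hxc) L
  have hM : PicF.IsInvertible M := InvX.isInvertible_tensorMod hI hL
  let ψ : M ⟶ L := (AmpleVan.tw L).map (ClSub.idealModι (ptIdeal x hxc)) ≫ β.hom
  haveI : Mono ψ := inferInstanceAs (Mono (_ ≫ _))
  have hout : ∀ s, ψ.app ⊤ s ≠ z := by
    intro s hs
    obtain ⟨U, hxU, e, he⟩ := exists_frame hL x
    obtain ⟨V₀, hxV₀, ε, hε⟩ := exists_frame hI x
    let V : X.Opens := V₀ ⊓ U
    have hxV : x ∈ V := ⟨hxV₀, hxU⟩
    let eV : Γ(L, V) := AModX.res L (inf_le_right : V ≤ U) e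
    have heV : IsFrame eV := he.res inf_le_right
    let εV : Γ(ptMod x hxc, V) := AModX.res _ (inf_le_left : V ≤ V₀) ε
    let u : Γ(X, V) := (show Γ(X, V) from (ClSub.idealModι (ptIdeal x hxc)).app V εV)
    have hu : X.presheaf.germ V x hxV u ∈ IsLocalRing.maximalIdeal (X.presheaf.stalk x) := by
      by_contra hn
      have hunit : IsUnit (X.presheaf.germ V x hxV u) := not_not.1 fun h => hn ((IsLocalRing.mem_maximalIdeal _).2 h)
      let F := DerSch.stalkFunctor X x
      let q := ClSub.toSubscheme (ptIdeal x hxc)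
      obtain ⟨q₀, hq₀⟩ := ParShLib.exists_germ_smul (ptIdeal x hxc) x
      refine not_subsingleton_stalk x hxc (subsingleton_of_forall_eq 0 fun w => ?_)
      haveI : Epi q := epi_toSubscheme _
      obtain ⟨y, rfl⟩ := (ModuleCat.epi_iff_surjective (F.map q)).1 inferInstance w
      obtain ⟨a, ha⟩ := ((InvX.isFrame_one (X := X) V).germ_bijective (x := x) hxV).2 y
      rw [← ha, map_smul (F.map q).hom]
      have h1 : X.presheaf.germ V x hxV u • ((Coh.structureModule X).presheaf.germ V x hxV
          (show Γ(Coh.structureModule X, V) from (1 : Γ(X, V)))) =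
          F.map (ClSub.idealModι (ptIdeal x hxc)) ((ptMod x hxc).presheaf.germ V x hxV εV) := by
        refine Eq.trans ?_ (TopCat.Presheaf.stalkFunctor_map_germ_apply V x hxV
          ((Scheme.Modules.toPresheaf X).map (ClSub.idealModι (ptIdeal x hxc))) εV).symm
        refine (QCoh.germ_smul' (Coh.structureModule X) hxV u _).symm.trans ?_
        exact congrArg ((Coh.structureModule X).presheaf.germ V x hxV) (mul_one u)
      have h2 : F.map q (X.presheaf.germ V x hxV u • ((Coh.structureModule X).presheaf.germ V x hxV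
          (show Γ(Coh.structureModule X, V) from (1 : Γ(X, V))))) = 0 := by
        rw [h1, ← ConcreteCategory.comp_apply, ← F.map_comp,
          show ClSub.idealModι (ptIdeal x hxc) ≫ q = 0 from kernel.condition _, F.map_zero]
        rfl
      rw [map_smul (F.map q).hom] at h2
      exact (hunit.smul_eq_zero.1 h2).symm ▸ smul_zero a
    let oneV : Γ(Coh.structureModule X, V) := (1 : Γ(X, V))
    let p : Γ(L, V) := β.hom.app V (InvX.tmul oneV eV)
    obtain ⟨d', hd'⟩ := heV.exists_coord le_rfl p
    rw [AModX.res_self] at hd'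
    have hψ : ψ.app V (InvX.tmul εV eV) = (u * d') • eV := by
      show β.hom.app V (((AmpleVan.tw L).map (ClSub.idealModι (ptIdeal x hxc))).app V (InvX.tmul εV eV)) = _
      rw [AmpleVan.map_tmul_left]
      have h1 : (ClSub.idealModι (ptIdeal x hxc)).app V εV = u • oneV := (mul_one u).symm
      rw [h1, InvX.tmul_smul_left, Scheme.Modules.Hom.app_smul, mul_smul]
      exact congrArg (u • ·) hd'
    obtain ⟨r, hr⟩ := (isFrame_tmul (hε.res (inf_le_left : V ≤ V₀)) heV).exists_coord le_rfl
      (AModX.res M (le_top : V ≤ ⊤) s)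
    rw [AModX.res_self] at hr
    have hz' : AModX.res L (le_top : V ≤ ⊤) z = (r * (u * d')) • eV := by
      rw [← hs, ← AModX.app_res, hr, Scheme.Modules.Hom.app_smul, mul_smul]
      exact congrArg (r • ·) hψ
    have hb : x ∈ X.basicOpen (r * (u * d')) := by
      rw [← TrivBasic.locus_eq_basicOpen heV hz']
      exact ⟨hxz, hxV⟩
    rw [X.mem_basicOpen _ x hxV, map_mul, map_mul] at hb
    exact (IsLocalRing.mem_maximalIdeal _).1 hu (IsUnit.mul_iff.1 (IsUnit.mul_iff.1 hb).2).1
  have hlt := h0_lt' k X hLc ψ z hout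
  have hdeg : Curv2.deg k X M 1 = Curv2.deg k X L 1 - 1 := by
    rw [show M = CohB1.tensorMod (ptMod x hxc) L from rfl]
    have h := CurveRR.deg_tensor k hdim hI hL
    rw [CurveEmbed.deg_point k hxc, residue_one k X hxc] at h
    exact h.trans (by push_cast; ring)
  have e1 := euler_inv k X hdim hL
  have e2 := euler_inv k X hdim hM
  haveI := h1
  have hz1 : Module.finrank k (Coh.HH X L 1) = 0 := Module.finrank_zero_of_subsingleton
  haveI := CurveCohLib.finite_HH (k := k) (CurveDeg.isCoh_of_isInvertible hM) 1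
  have hz2 : Module.finrank k (Coh.HH X M 1) = 0 := by omega
  exact ⟨M, hM, by omega, Module.finrank_zero_iff.1 hz2⟩

theorem aux (hdim : topologicalKrullDim X = 1) :
    (∃ L : X.Modules, PicF.IsInvertible L ∧ Module.finrank k (Coh.HH X L 0) = 1 ∧ Subsingleton (Coh.HH X L 1)) ∧
      (∃ N : X.Modules, PicF.IsInvertible N ∧ Subsingleton (Coh.HH X N 0) ∧ Subsingleton (Coh.HH X N 1)) := by
  haveI := CurveCohLib.isNoetherian_of_proper (k := k) (X := X)
  obtain ⟨x, -, hxc, hxn⟩ := exists_point k X hdim ⊤ ⟨genericPoint X, trivial⟩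
  obtain ⟨L₁, hL₁, hd₁⟩ := CurveEmbed.exists_deg_one k hdim {x} (fun y hy => Finset.mem_singleton.1 hy ▸ hxc)
    (fun y hy => Finset.mem_singleton.1 hy ▸ hxn) (by rw [Finset.gcd_singleton, residue_one k X hxc]; rfl)
  have hdegs : ∀ n : ℕ, ∃ L : X.Modules, PicF.IsInvertible L ∧ Curv2.deg k X L 1 = n := by
    intro n
    induction n with
    | zero => exact ⟨_, CurveDeg.isInvertible_structureModule, CurveDeg.deg_structureModule k⟩
    | succ n ih =>
      obtain ⟨L, hL, hd⟩ := ih
      refine ⟨_, InvX.isInvertible_tensorMod hL hL₁, (CurveRR.deg_tensor k hdim hL hL₁).trans ?_⟩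
      push_cast
      omega
  obtain ⟨L, hL, hd⟩ := hdegs (2 * Curv2.genus k X)
  have h1 := subsingleton_h1_of_deg k hdim (CurveCohLib.Clifford.finrank_h0_structure (X := X) k) hL (by omega)
  have e1 := euler_inv k X hdim hL
  have hz1 : Module.finrank k (Coh.HH X L 1) = 0 := Module.finrank_zero_of_subsingleton
  have hall : ∀ j : ℕ, j ≤ Curv2.genus k X + 1 → ∃ M : X.Modules, PicF.IsInvertible M ∧
      Module.finrank k (Coh.HH X M 0) = Curv2.genus k X + 1 - j ∧ Subsingleton (Coh.HH X M 1) := by
    intro j hj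
    induction j with
    | zero => exact ⟨L, hL, by omega, h1⟩
    | succ j ih =>
      obtain ⟨M, hM, hM0, hM1⟩ := ih (by omega)
      exact step k X hdim hM (Curv2.genus k X + 1 - (j + 1)) (by omega) hM1
  obtain ⟨A, hA, hA0, hA1⟩ := hall (Curv2.genus k X) (by omega)
  obtain ⟨B, hB, hB0, hB1⟩ := hall (Curv2.genus k X + 1) le_rfl
  haveI := CurveCohLib.finite_HH (k := k) (CurveDeg.isCoh_of_isInvertible hB) 0
  exact ⟨⟨A, hA, by omega, hA1⟩, ⟨B, hB, Module.finrank_zero_iff.1 (show Module.finrank k (Coh.HH X B 0) = 0 by omega), hB1⟩⟩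

end Aux

/-- On a proper curve over an algebraically closed field there is an invertible module whose H^0 is
one-dimensional and whose H^1 vanishes, and an invertible module whose H^0 and H^1 both vanish. -/
theorem result (k : Type u) [Field k] [IsAlgClosed k] (X : Scheme.{u}) [X.Over (Spec (CommRingCat.of k))]
    [IsIntegral X] [IsProper (X ↘ (Spec (CommRingCat.of k)))] (hdim : topologicalKrullDim X = 1) :
    (∃ L : X.Modules, PicF.IsInvertible L ∧ Module.finrank k (Coh.HH X L 0) = 1 ∧ Subsingleton (Coh.HH X L 1)) ∧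
    (∃ N : X.Modules, PicF.IsInvertible N ∧ Subsingleton (Coh.HH X N 0) ∧ Subsingleton (Coh.HH X N 1)) := by
    exact Groth.Agent.S1523.aux k X hdim

end Groth.Agent.S1523
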