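import Groth.Statements.S15240
import Groth.Agent.GrpSchLib.OrbitDim
import Groth.Agent.GrpSchLib.Core
import Groth.Agent.GrpSchLib.Kunneth
import Groth.Agent.Deform.Chev.Stab
import Groth.Agent.GrpSchLib.UnitsScheme

set_option autoImplicit false
universe u
open CategoryTheory CategoryTheory.Limits MonoidalCategory CartesianMonoidalCategory MonObj GrpObj AlgebraicGeometry
open AGF

namespace Groth.Agent.S15240
attribute [local instance] CategoryTheory.Hom.monoid CategoryTheory.Hom.group
set_option linter.style.haveILetI false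
set_option maxHeartbeats 2000000
open Groth.Agent

/-- Let k be an algebraically closed field, B a connected solvable affine algebraic group over k
(affine, smooth, connected, solvable k-group scheme) acting on a complete k-scheme X (separated, of
finite type and proper over k) with finitely many orbits (finitely many subsets of X arise as images
of orbit maps of k-points), and Y a separated k-scheme of finite type on which B acts trivially.
Then every closed irreducible subset Z of X ×_k Y which is stable under the translations by all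
k-points of B (acting on the first factor) is of the form V × W: there are a B-stable closed
irreducible subset V of X and a closed irreducible subset W of Y with Z equal to the set of points
whose two projections lie in V and in W. -/
theorem result (k : Type u) [Field k] [IsAlgClosed k]
    (B X Y : Over (Spec (CommRingCat.of k))) [GrpObj B] [IsAffine B.left] [Smooth B.hom] [ConnectedSpace ↥B.left]
    (hsolv : Red.IsSolvableGrp B)
    [IsProper X.hom]
    [IsSeparated Y.hom] [LocallyOfFiniteType Y.hom] [QuasiCompact Y.hom]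
    (a : AlgGrp.Action B X)
    (hfin : Set.Finite {S : Set ↥X.left | ∃ x : 𝟙_ (Over (Spec (CommRingCat.of k))) ⟶ X, S = Set.range ⇑(a.orbitMap x).left.base})
    (Z : Set ↥(X ⊗ Y).left) (hZc : IsClosed Z) (hZi : IsIrreducible Z)
    (hZs : ∀ b : 𝟙_ (Over (Spec (CommRingCat.of k))) ⟶ B,
      ⇑(CartesianMonoidalCategory.lift (CartesianMonoidalCategory.toUnit (X ⊗ Y) ≫ b) (𝟙 (X ⊗ Y)) ≫
          (α_ B X Y).inv ≫ (a.act ▷ Y)).left.base '' Z ⊆ Z) :
    ∃ (V : Set ↥X.left) (W : Set ↥Y.left), IsClosed V ∧ IsIrreducible V ∧ IsClosed W ∧ IsIrreducible W ∧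
      (∀ b : 𝟙_ (Over (Spec (CommRingCat.of k))) ⟶ B,
        ⇑(CartesianMonoidalCategory.lift (CartesianMonoidalCategory.toUnit X ≫ b) (𝟙 X) ≫ a.act).left.base '' V ⊆ V) ∧
      Z = ⇑(CartesianMonoidalCategory.fst X Y).left.base ⁻¹' V ∩ ⇑(CartesianMonoidalCategory.snd X Y).left.base ⁻¹' W := by
  classical
  haveI : IsAffineHom B.hom := isAffineHom_of_isAffine _
  haveI : IsIntegral B.left := GrpSchLib.Kunneth.isIntegral_grp B
  haveI : LocallyOfFiniteType X.hom := inferInstance
  haveI : LocallyOfFiniteType (X ⊗ Y).hom := inferInstanceAs (LocallyOfFiniteType (Limits.pullback.fst X.hom Y.hom ≫ X.hom))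
  haveI : JacobsonSpace X.left := LocallyOfFiniteType.jacobsonSpace X.hom
  haveI : JacobsonSpace Y.left := LocallyOfFiniteType.jacobsonSpace Y.hom
  haveI : JacobsonSpace B.left := LocallyOfFiniteType.jacobsonSpace B.hom
  haveI : JacobsonSpace (X ⊗ Y).left := LocallyOfFiniteType.jacobsonSpace (X ⊗ Y).hom
  let P := fun (x : Deform.Chev.Pt X) (y : Deform.Chev.Pt Y) => (lift x y).left (IsLocalRing.closedPoint k)
  have hpt : ∀ q : Deform.Chev.Pt (X ⊗ Y), Deform.Chev.pimg q = P (q ≫ fst X Y) (q ≫ snd X Y) := fun q => by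
    show _ = Deform.Chev.pimg _
    rw [← comp_lift, lift_fst_snd, Category.comp_id]
  have horb : ∀ (b : Deform.Chev.Pt B) (x : Deform.Chev.Pt X), b ≫ a.orbitMap x = lift b x ≫ a.act := fun b x => by
    rw [GrpSchLib.comp_orbitMap, toUnit_unique (toUnit (𝟙_ _)) (𝟙 _), Category.id_comp]
  -- translating the first factor keeps the set
  have hst : ∀ (b : Deform.Chev.Pt B) (x : Deform.Chev.Pt X) (y : Deform.Chev.Pt Y),
      P x y ∈ Z → P (lift b x ≫ a.act) y ∈ Z := by
    intro b x y h
    refine hZs b ⟨_, h, ?_⟩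
    show Deform.Chev.pimg (lift x y ≫ lift (toUnit (X ⊗ Y) ≫ b) (𝟙 (X ⊗ Y)) ≫ (α_ B X Y).inv ≫ (a.act ▷ Y)) = _
    rw [← Category.assoc, comp_lift, Category.comp_id, ← Category.assoc (lift x y),
      toUnit_unique (lift x y ≫ toUnit (X ⊗ Y)) (𝟙 _), Category.id_comp, lift_lift_associator_inv_assoc,
      lift_whiskerRight]
    rfl
  let S : Set (Set X.left) := {T | ∃ x : Deform.Chev.Pt X, T = Set.range (a.orbitMap x).left}
  have hmem : ∀ x : Deform.Chev.Pt X, Deform.Chev.pimg x ∈ Set.range (a.orbitMap x).left := fun x =>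
    ⟨Deform.Chev.pimg (1 : Deform.Chev.Pt B), by
      rw [← Deform.Chev.pimg_comp, horb, GrpSchLib.act_one]⟩
  -- points of one orbit are translates of each other
  have hlift : ∀ (x₀ x : Deform.Chev.Pt X), Deform.Chev.pimg x ∈ Set.range (a.orbitMap x₀).left →
      ∃ b : Deform.Chev.Pt B, lift b x₀ ≫ a.act = x := by
    intro x₀ x hx
    obtain ⟨b, hb⟩ := Deform.Chev.exists_pt (G := B) (S := (a.orbitMap x₀).left ⁻¹' {Deform.Chev.pimg x})
      (by obtain ⟨z, hz⟩ := hx; exact ⟨z, hz⟩)
      ((((pointEquivClosedPoint X.hom) ⟨x.left, Over.w x⟩).2).preimage (a.orbitMap x₀).left.continuous).isLocallyClosed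
    exact ⟨b, by rw [← horb]; exact Deform.Chev.pimg_injective hb⟩
  -- the closed points of `Z`, sorted by orbits
  let D := fun T : Set X.left => (Z ∩ closedPoints (X ⊗ Y).left) ∩ (fst X Y).left ⁻¹' T
  have hcov : Z ⊆ ⋃ T ∈ S, closure (D T) := by
    have hc : IsClosed (⋃ T ∈ S, closure (D T)) := hfin.isClosed_biUnion fun _ _ => isClosed_closure
    rw [← closure_inter_closedPoints hZc]
    refine closure_minimal (fun z hz => ?_) hc
    obtain ⟨q, rfl⟩ := Deform.Chev.exists_pimg_eq hz.2
    refine Set.mem_biUnion (x := Set.range (a.orbitMap (q ≫ fst X Y)).left) ⟨_, rfl⟩ (subset_closure ⟨hz, ?_⟩)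
    rw [Set.mem_preimage]
    rw [← Deform.Chev.pimg_comp]
    exact hmem _
  obtain ⟨T, ⟨x₀, rfl⟩, hT⟩ : ∃ T ∈ S, Z ⊆ closure (D T) := by
    obtain ⟨t, ht, hZt⟩ := isIrreducible_iff_sUnion_isClosed.mp hZi (hfin.toFinset.image fun T => closure (D T))
      (fun t ht => by obtain ⟨T, -, rfl⟩ := Finset.mem_image.mp ht; exact isClosed_closure)
      (fun z hz => by
        obtain ⟨T, hT, hzT⟩ := Set.mem_iUnion₂.mp (hcov hz)
        exact ⟨_, Finset.mem_coe.mpr (Finset.mem_image_of_mem _ (hfin.mem_toFinset.mpr hT)), hzT⟩)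
    obtain ⟨T, hT, rfl⟩ := Finset.mem_image.mp ht
    exact ⟨T, hfin.mem_toFinset.mp hT, hZt⟩
  let ι₀ : Y ⟶ X ⊗ Y := lift (toUnit Y ≫ x₀) (𝟙 Y)
  have hι : ∀ y : Deform.Chev.Pt Y, ι₀.left (Deform.Chev.pimg y) = P x₀ y := fun y => by
    rw [← Deform.Chev.pimg_comp]
    show _ = Deform.Chev.pimg _
    congr 1
    rw [comp_lift, Category.comp_id, ← Category.assoc, toUnit_unique (y ≫ toUnit Y) (𝟙 _), Category.id_comp]
  let V : Set X.left := closure (Set.range (a.orbitMap x₀).left)
  let W : Set Y.left := ι₀.left ⁻¹' Z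
  have hWc : IsClosed W := hZc.preimage ι₀.left.continuous
  have hVW : ∀ (x : Deform.Chev.Pt X) (y : Deform.Chev.Pt Y), Deform.Chev.pimg x ∈ V →
      Deform.Chev.pimg y ∈ W → P x y ∈ Z := by
    intro x y hx hy
    let j : X ⟶ X ⊗ Y := lift (𝟙 X) (toUnit X ≫ y)
    have hj : ∀ q : Deform.Chev.Pt X, j.left (Deform.Chev.pimg q) = P q y := fun q => by
      rw [← Deform.Chev.pimg_comp]
      show _ = Deform.Chev.pimg _
      congr 1
      rw [comp_lift, Category.comp_id, ← Category.assoc, toUnit_unique (q ≫ toUnit X) (𝟙 _), Category.id_comp]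
    have hR : Set.range (a.orbitMap x₀).left ⊆ j.left ⁻¹' Z := by
      refine Deform.Chev.mem_of_pts _ (hZc.preimage j.left.continuous) fun b => ?_
      rw [horb]
      show j.left (Deform.Chev.pimg _) ∈ Z
      rw [hj]
      exact hst b x₀ y (by rw [← hι]; exact hy)
    have := closure_minimal hR (hZc.preimage j.left.continuous) hx
    rw [← hj]
    exact this
  have hZsub : Z ⊆ (fst X Y).left ⁻¹' V ∩ (snd X Y).left ⁻¹' W := by
    refine hT.trans (closure_minimal ?_ ((isClosed_closure.preimage (fst X Y).left.continuous).inter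
      (hWc.preimage (snd X Y).left.continuous)))
    rintro z ⟨⟨hz, hzc⟩, hzT⟩
    refine ⟨subset_closure hzT, ?_⟩
    obtain ⟨q, rfl⟩ := Deform.Chev.exists_pimg_eq hzc
    obtain ⟨b, hb⟩ := hlift x₀ (q ≫ fst X Y) (by rw [Deform.Chev.pimg_comp]; exact hzT)
    show ι₀.left ((snd X Y).left (Deform.Chev.pimg q)) ∈ Z
    rw [← Deform.Chev.pimg_comp, hι]
    have h := hst b⁻¹ (q ≫ fst X Y) (q ≫ snd X Y) (by rw [← hpt]; exact hz)
    rw [← hb, GrpSchLib.act_mul, inv_mul_cancel, GrpSchLib.act_one] at h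
    exact h
  have hZeq : Z = (fst X Y).left ⁻¹' V ∩ (snd X Y).left ⁻¹' W := by
    refine hZsub.antisymm ?_
    rw [← closure_inter_closedPoints ((isClosed_closure.preimage (fst X Y).left.continuous).inter
      (hWc.preimage (snd X Y).left.continuous))]
    refine closure_minimal ?_ hZc
    rintro z ⟨⟨hz1, hz2⟩, hzc⟩
    obtain ⟨q, rfl⟩ := Deform.Chev.exists_pimg_eq hzc
    rw [hpt]
    exact hVW _ _ (by rw [Deform.Chev.pimg_comp]; exact hz1) (by rw [Deform.Chev.pimg_comp]; exact hz2)
  have hW : W = (snd X Y).left '' Z := by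
    ext w
    refine ⟨fun hw => ⟨ι₀.left w, hw, ?_⟩, ?_⟩
    · rw [← Scheme.Hom.comp_apply, ← Over.comp_left, lift_snd]; rfl
    · rintro ⟨z, hz, rfl⟩
      exact (hZsub hz).2
  refine ⟨V, W, isClosed_closure, ?_, hWc, ?_, fun b => ?_, hZeq⟩
  · have : IsIrreducible (Set.range (a.orbitMap x₀).left) := by
      rw [← Set.image_univ]
      exact (IrreducibleSpace.isIrreducible_univ _).image _ (a.orbitMap x₀).left.continuous.continuousOn
    exact this.closure
  · rw [hW]
    exact hZi.image _ (snd X Y).left.continuous.continuousOn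
  · refine (image_closure_subset_closure_image (lift (toUnit X ≫ b) (𝟙 X) ≫ a.act).left.continuous).trans
      (closure_mono ?_)
    rintro _ ⟨_, ⟨z, rfl⟩, rfl⟩
    refine ⟨((toUnit B ≫ b) * 𝟙 B).left z, ?_⟩
    show (((toUnit B ≫ b) * 𝟙 B).left ≫ (a.orbitMap x₀).left) z =
      ((a.orbitMap x₀).left ≫ (lift (toUnit X ≫ b) (𝟙 X) ≫ a.act).left) z
    rw [← Over.comp_left, ← Over.comp_left]
    congr 2
    rw [GrpSchLib.comp_orbitMap, ← Category.assoc _ (lift _ _), comp_lift, Category.comp_id, ← Category.assoc _ (toUnit X),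
      toUnit_unique (a.orbitMap x₀ ≫ toUnit X) (toUnit B)]
    conv_rhs => rw [show a.orbitMap x₀ = 𝟙 B ≫ a.orbitMap x₀ from (Category.id_comp _).symm, GrpSchLib.comp_orbitMap,
      GrpSchLib.act_mul]

end Groth.Agent.S15240
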