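import Groth.Statements.S15255
import Groth.Agent.Seshadri.IdealStep
set_option backward.isDefEq.respectTransparency false

set_option autoImplicit false
universe u
open CategoryTheory CategoryTheory.Limits AlgebraicGeometry TopologicalSpace
open W4c2seshadripos

namespace Groth.Agent.S15255

/-- Let X be an integral scheme proper over a field k (the published statement: a projective variety), x
a closed point of X with ideal sheaf m_x, L an invertible O_X-module and a, m > 0 integers. If
H^1(X, m_x^a ⊗ L^{⊗m}) is nonzero then so is H^1(X, m_x^(a+1) ⊗ L^{⊗m}) (the ideal sheaves m_x^a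
being taken as O_X-modules, so that m_x^a ⊗ L^{⊗m} = m_x^a · L^{⊗m}). -/
theorem result (k : Type u) [Field k]
    (X : Scheme.{u}) [X.Over (Spec (CommRingCat.of k))] [IsProper (X ↘ (Spec (CommRingCat.of k)))]
    [IsIntegral X] (x : X) (hx : IsClosed ({x} : Set X)) (L : X.Modules) (hL : PicF.IsInvertible L)
    (a m : ℕ) (ha : 0 < a) (hm : 0 < m)
    (h : Nontrivial (Coh.HH X (CohB1.tensorMod (ClSub.idealMod ((W4c2seshadripos.pointIdeal x hx) ^ a))
      (CohB1.tensorPow L m)) 1)) :
    Nontrivial (Coh.HH X (CohB1.tensorMod (ClSub.idealMod ((W4c2seshadripos.pointIdeal x hx) ^ (a + 1)))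
      (CohB1.tensorPow L m)) 1) := by
  let I := W4c2seshadripos.pointIdeal x hx
  let T := CohB1.tensorPow L m
  have hle : I ^ (a + 1) ≤ I ^ a := by
    intro U
    rw [Scheme.IdealSheafData.ideal_pow, Scheme.IdealSheafData.ideal_pow]
    exact Ideal.pow_le_pow_right (Nat.le_succ a)
  by_contra hc
  rw [not_nontrivial_iff_subsingleton] at hc
  refine not_subsingleton_iff_nontrivial.mpr h ?_
  refine Seshadri.subsingleton_HH_one_of_isIso_stalks ((DCoh.tensorBi.map (Seshadri.idealIncl hle)).app T)
    x hx (fun y hy => ?_) hc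
  haveI := Seshadri.isIso_stalk_idealIncl hle (y := y) (fun hmem => hy ?_)
  · exact Seshadri.isIso_stalk_tensor _ T y
  · rw [Scheme.IdealSheafData.support_pow I (a + 1) (Nat.succ_ne_zero a)] at hmem
    simpa [I, W4c2seshadripos.pointIdeal, hx.closure_eq] using hmem

end Groth.Agent.S15255
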