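import Groth.Statements.S15262
import Groth.Agent.GrothLem.OnX
import Groth.Agent.HilbPoly.Sat
-- import your own Groth.Agent.* helpers here

set_option autoImplicit false
open CategoryTheory CategoryTheory.Limits AlgebraicGeometry
open Coherent

set_option linter.style.haveILetI false

namespace Groth.Agent.S15262

/-- Over the complex numbers, let X be a proper scheme with an ample invertible sheaf L, let F be a
coherent sheaf on X which is pure of dimension d with d at least 1 (every nonzero coherent subsheaf
of F has support of dimension d), and fix a rational number b. Then the family of coherent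
subsheaves G of F which are saturated (the quotient F/G is pure of dimension d, the zero sheaf
counting as pure) and whose slope is at least b is bounded: all of them occur, up to isomorphism,
among the fibres at complex points of a single coherent sheaf on X × T for some scheme T of finite
type. Here the slope of G is ((d-1)! times the coefficient of degree d-1) divided by (d! times the
coefficient of degree d) of a Hilbert polynomial of G with respect to L (Euler characteristics of
the twists G ⊗ L^m, m ≥ 0), and the slope condition is imposed for every polynomial so related to G.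
(The published statement is relative: F is a sheaf on a projective scheme over a base of finite
type, flat over the base, with fibres over closed points pure of dimension d, and the subsheaves are
taken in the fibres over geometric points; this row is the case of a single complex fibre, and L is
any ample invertible sheaf rather than a very ample one, which changes nothing up to rescaling b
since the slopes for a power L^k are the slopes for L divided by k.) -/
theorem result
    (X : Scheme.{0}) [X.Over (Spec (CommRingCat.of ℂ))] [IsProper (X ↘ Spec (CommRingCat.of ℂ))]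
    (L : X.Modules) (hL : CohB1.IsAmple L) (d : ℕ) (hd : 1 ≤ d)
    (F : X.Modules) (hF : Coh.IsCoh F) (hpure : ShStab.IsPure X F d) (b : ℚ) :
    Pic13.IsBounded ℂ X (fun G =>
      Coh.IsCoh G ∧ ∃ ι : G ⟶ F, Mono ι ∧ ShStab.IsPure X (cokernel ι) d ∧
        ∀ pG : Polynomial ℚ, ShStab.IsHilbPoly ℂ X L G pG → b ≤ StabCat.hatSlope d pG) := by
    classical
    haveI := CurveCohLib.isNoetherian_of_proper (k := ℂ) (X := X)
    obtain ⟨n, r, hrc, hr, hbex⟩ := AmpleEmbed.exists_closedImmersion_pow (X ↘ Spec (CommRingCat.of ℂ)) hL
    haveI := hrc
    obtain ⟨c, hc0, hc⟩ : ∃ c : ℕ, 0 < c ∧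
        Nonempty ((Scheme.Modules.pullback r).obj (Twist.twistProjSpace n ℂ 1) ≅ CohB1.tensorPow L c) := by
      rcases isEmpty_or_nonempty X with hX | hX
      · exact ⟨1, one_pos, ⟨((AssPtX.isZero_iff (PicClLib.isInvertible_pullback r
          (TauNum.isInvertible_twist _) |> AmpleVan.isCoh_invertible).1).2 fun x => isEmptyElim x).iso
          ((AssPtX.isZero_iff (AmpleVan.isCoh_invertible (InvX.isInvertible_tensorPow hL.1 1)).1).2
            fun x => isEmptyElim x)⟩⟩
      · exact hbex hX
    have hdimF : topologicalKrullDim ↥(CohB1.support F) ≤ (d : WithBot ℕ∞) := by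
      by_cases h0 : IsZero F
      · haveI : IsEmpty ↥(CohB1.support F) := by
          rw [QCoh.support_eq_empty_of_isZero h0 hF.1]; infer_instance
        haveI : IsEmpty (TopologicalSpace.IrreducibleCloseds ↥(CohB1.support F)) :=
          ⟨fun C => IsEmpty.false C.isIrreducible'.nonempty.some⟩
        rw [topologicalKrullDim, Order.krullDim_eq_bot]
        exact bot_le
      · exact (HilbPoly.dim_of_isPure hpure hF h0).le
    obtain ⟨pF, hpF, -, -⟩ := HilbPoly.exists_hilb (k := ℂ) hL.1 hF hdimF
    obtain ⟨A, hA⟩ := exists_nat_ge (StabCat.alpha d pF)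
    obtain ⟨C, hC⟩ := exists_nat_ge (StabCat.alpha (d - 1) pF + |b| * StabCat.alpha d pF)
    obtain ⟨Ps, hPs, hfin⟩ := GrothLem.exists_finite_quot r hr hc hF hdimF A C
    refine GrothLem.isBounded_kernels r hr hc hF hdimF hPs _ fun G hG => ?_
    obtain ⟨hGc, ι, hι, hQp, hslope⟩ := hG
    haveI := hι
    have hdimG := HilbPoly.dim_mono hGc hF ι hdimF
    obtain ⟨pG, hpG, -, -⟩ := HilbPoly.exists_hilb (k := ℂ) hL.1 hGc hdimG
    obtain ⟨hQc, hdimQ, hpQ⟩ := HilbPoly.cokernel_data (k := ℂ) hL hGc hF hdimF ι hpG hpF
    refine ⟨hGc, ι, hι, pF - pG, hpQ, hfin _ (cokernel.π ι) inferInstance hQc hQp _ hpQ ?_ ?_⟩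
    · have hsub : StabCat.alpha d (pF - pG) = StabCat.alpha d pF - StabCat.alpha d pG := by
        simp only [StabCat.alpha, Polynomial.coeff_sub]; ring
      rw [hsub]
      have := HilbPoly.alpha_nonneg (k := ℂ) hL hGc hdimG hpG
      linarith
    · have hsub : ∀ j, StabCat.alpha j (pF - pG) = StabCat.alpha j pF - StabCat.alpha j pG := fun j => by
        simp only [StabCat.alpha, Polynomial.coeff_sub]; ring
      have hF0 := HilbPoly.alpha_nonneg (k := ℂ) hL hF hdimF hpF
      rw [hsub]
      by_cases h0 : IsZero G
      · rw [HilbPoly.isHilbPoly_unique hpG (HilbPoly.hilb_isZero h0)]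
        have : StabCat.alpha (d - 1) (0 : Polynomial ℚ) = 0 := by simp [StabCat.alpha]
        rw [this]
        nlinarith [abs_nonneg b]
      · have hpos := HilbPoly.alpha_pos (k := ℂ) hL hGc (hpure G ι hι hGc h0) hpG
        have h1 := hslope pG hpG
        rw [StabCat.hatSlope, le_div_iff₀ hpos] at h1
        have h2 := HilbPoly.alpha_nonneg (k := ℂ) hL hQc hdimQ hpQ
        rw [hsub] at h2
        nlinarith [neg_abs_le b, mul_nonneg (abs_nonneg b) h2]

end Groth.Agent.S15262
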