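import Groth.Statements.S15263
import Groth.Agent.SimpsonEst.Family
-- import your own Groth.Agent.* helpers here

set_option autoImplicit false
open CategoryTheory CategoryTheory.Limits AlgebraicGeometry
open Coherent

set_option linter.style.haveILetI false
namespace Groth.Agent.S15263

/-- Over the complex numbers, let X be a proper scheme with an invertible sheaf L which is ample and
very ample (isomorphic to the pull-back of the twisting sheaf O(1) along an immersion of X into a
projective space over the complex numbers). Fix a polynomial P with rational coefficients, a natural
number d with d at least 1, and a rational number b. Then the family of coherent sheaves E on X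
which have Hilbert polynomial P with respect to L (the Euler characteristic of E ⊗ L^m is P(m) for
every natural number m), are nonzero and pure of dimension d (every nonzero coherent subsheaf has
support of dimension d), and all of whose nonzero coherent subsheaves G have slope at most b, is
bounded: all of them occur, up to isomorphism, among the fibres at complex points of a single
coherent sheaf on X × T for some scheme T of finite type. The slope of G is ((d-1)! times the
coefficient of degree d-1) divided by (d! times the coefficient of degree d) of a Hilbert polynomial
of G with respect to L, and the bound is imposed for every polynomial so related to G. (The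
published statement takes d to be the degree of P; for d different from the dimension of the support
the family is empty, so d is a free parameter here, taken at least 1 so that slopes are meaningful.) -/
theorem result
    (X : Scheme.{0}) [X.Over (Spec (CommRingCat.of ℂ))] [IsProper (X ↘ Spec (CommRingCat.of ℂ))]
    (L : X.Modules) (hL : CohB1.IsAmple L) (hva : RelAmple.IsRelVeryAmplePn (X ↘ Spec (CommRingCat.of ℂ)) L)
    (P : Polynomial ℚ) (d : ℕ) (hd : 1 ≤ d) (b : ℚ) :
    Pic13.IsBounded ℂ X (fun E =>
      Coh.IsCoh E ∧ ¬ IsZero E ∧ ShStab.IsPure X E d ∧ ShStab.IsHilbPoly ℂ X L E P ∧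
        ∀ (G : X.Modules) (ι : G ⟶ E), Mono ι → Coh.IsCoh G → ¬ IsZero G →
          ∀ pG : Polynomial ℚ, ShStab.IsHilbPoly ℂ X L G pG → StabCat.hatSlope d pG ≤ b) := by
  open Groth.Agent Groth.Agent.SimpsonEst in
  classical
  haveI := CurveCohLib.isNoetherian_of_proper (k := ℂ) (X := X)
  obtain ⟨n, r, hrc, c, hr, hc0, hc⟩ := exists_pow_embedding ℂ hL
  haveI := hrc
  refine Bdd.isBounded_mono (isBounded_pure_slope (d := d) r hr hL hc0 hc P b) ?_
  rintro E ⟨hE, h0, hp, hP, hs⟩
  refine ⟨E, ⟨hE, h0, hp, hP, fun G ι hι hG hG0 pG hpG => ?_⟩, ⟨Iso.refl _⟩⟩
  have hpos := HilbPoly.alpha_pos (k := ℂ) hL hG (hp G ι hι hG hG0) hpG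
  exact (div_le_iff₀ hpos).1 (hs G ι hι hG hG0 pG hpG)

end Groth.Agent.S15263
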