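import Groth.Statements.S15265
import Groth.Agent.SimpsonEst.CompareAll
import Groth.Agent.GrothLem.FamilyFibre
-- import your own Groth.Agent.* helpers here

set_option autoImplicit false
open CategoryTheory CategoryTheory.Limits AlgebraicGeometry
open Coherent

set_option linter.style.haveILetI false
set_option backward.isDefEq.respectTransparency false
set_option backward.isDefEq.respectTransparency.types false
namespace Groth.Agent.S15265

/-- Over the complex numbers, let X be a proper scheme with an invertible sheaf L which is ample and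
very ample (isomorphic to the pull-back of the twisting sheaf O(1) along an immersion of X into a
projective space over the complex numbers), and fix a polynomial P with rational coefficients; let d
be its degree and write r(ψ) for d! times the degree-d coefficient of a polynomial ψ. There is a
natural number N₀ such that for every natural number N ≥ N₀ the following holds. Let E be a coherent
sheaf on X which is semistable of dimension d with respect to L (nonzero, pure of dimension d, and
for every nonzero proper coherent subsheaf the reduced Hilbert polynomial is at most that of E for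
large arguments) and has Hilbert polynomial P (the Euler characteristic of E ⊗ L^m is P(m) for every
natural number m). Then for every nonzero coherent subsheaf F of E and every Hilbert polynomial ψ of
F with respect to L, the dimension of the space of global sections of F ⊗ L^N divided by r(ψ) is at
most P(N)/r(P), and if equality holds then r(P)·ψ = r(ψ)·P. (The published statement is for the
fibres of a projective morphism over a base of finite type, with N₀ uniform over the fibres; this
row is the case of a single complex fibre.) -/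
theorem result
    (X : Scheme.{0}) [X.Over (Spec (CommRingCat.of ℂ))] [IsProper (X ↘ Spec (CommRingCat.of ℂ))]
    (L : X.Modules) (hL : CohB1.IsAmple L) (hva : RelAmple.IsRelVeryAmplePn (X ↘ Spec (CommRingCat.of ℂ)) L)
    (P : Polynomial ℚ) :
    ∃ N₀ : ℕ, ∀ N : ℕ, N₀ ≤ N → ∀ (E : X.Modules), ShStab.IsSemistable ℂ X L E P.natDegree → ShStab.IsHilbPoly ℂ X L E P →
      ∀ (F : X.Modules) (ι : F ⟶ E), Mono ι → Coh.IsCoh F → ¬ IsZero F →
        ∀ ψ : Polynomial ℚ, ShStab.IsHilbPoly ℂ X L F ψ →
          (Module.finrank ℂ (Coh.HH X (ShStab.twist X L F N) 0) : ℚ) / StabCat.alpha P.natDegree ψ ≤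
              P.eval (N : ℚ) / StabCat.alpha P.natDegree P ∧
          ((Module.finrank ℂ (Coh.HH X (ShStab.twist X L F N) 0) : ℚ) / StabCat.alpha P.natDegree ψ =
              P.eval (N : ℚ) / StabCat.alpha P.natDegree P →
            StabCat.RedEq P.natDegree ψ P) := by
    open Groth.Agent Groth.Agent.SimpsonEst Groth.Agent.HilbBound in
    open scoped Groth.Agent.H23.PicMul in
    classical
    haveI := CurveCohLib.isNoetherian_of_proper (k := ℂ) (X := X)
    obtain ⟨n, i, hi, hif, ⟨eL⟩⟩ := hva
    haveI : IsNoetherian (CohB1.ProjSpace n ℂ) := Proj16.isNoetherian_proj _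
    haveI : IsProper (i ≫ CohB1.ProjSpaceOver.toBase n (Spec (CommRingCat.of ℂ))) := by
      show IsProper (i ≫ pullback.snd _ _)
      rw [hif]
      infer_instance
    haveI : IsSeparated (CohB1.ProjSpaceOver.toBase n (Spec (CommRingCat.of ℂ))) := by
      unfold CohB1.ProjSpaceOver.toBase
      haveI := PnCoh.Chow.isProper_toSpec n (ULift.{0} ℤ)
      exact MorphismProperty.pullback_snd (P := @IsSeparated) _ _ inferInstance
    haveI : IsProper i := IsProper.of_comp i (CohB1.ProjSpaceOver.toBase n (Spec (CommRingCat.of ℂ)))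
    haveI : IsClosedImmersion i := IsClosedImmersion.of_isPreimmersion i i.isClosedMap.isClosed_range
    obtain ⟨r', hr'c, hr', htw⟩ := GrothLem.exists_fibre_embedding i (𝟙 (Spec (CommRingCat.of ℂ)))
    haveI := hr'c
    let p := pullback.fst (i ≫ CohB1.ProjSpaceOver.toBase n (Spec (CommRingCat.of ℂ))) (𝟙 (Spec (CommRingCat.of ℂ)))
    let r : X ⟶ CohB1.ProjSpace n ℂ := inv p ≫ r'
    haveI : IsClosedImmersion r := inferInstance
    have hr : r ≫ CohB1.ProjSpace.toSpec n ℂ = X ↘ Spec (CommRingCat.of ℂ) := by
      show (inv p ≫ r') ≫ _ = _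
      rw [Category.assoc, hr', IsIso.inv_comp_eq]
      exact (Category.comp_id _).symm.trans (pullback.condition.symm.trans (congrArg (p ≫ ·) hif))
    obtain ⟨τ⟩ := htw 1
    have hc : Nonempty ((Scheme.Modules.pullback r).obj (Twist.twistProjSpace n ℂ 1) ≅ CohB1.tensorPow L 1) := by
      obtain ⟨e1⟩ : Nonempty (L ≅ CohB1.tensorPow L 1) :=
        H23.PicMul.cl_eq_iff.1 (by rw [H23.PicMul.cl_tensorPow, pow_one])
      exact ⟨((Scheme.Modules.pullbackComp (inv p) r').app _).symm ≪≫ (Scheme.Modules.pullback (inv p)).mapIso τ ≪≫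
        (Scheme.Modules.pullbackComp (inv p) p).app _ ≪≫ (Scheme.Modules.pullbackCongr (IsIso.inv_hom_id p)).app _ ≪≫
        (Scheme.Modules.pullbackId X).app _ ≪≫ eL.symm ≪≫ e1⟩
    obtain ⟨N₀, hN₀⟩ := exists_compare_all ℂ n P.natDegree P
    refine ⟨N₀, fun N hN E hEss hP F ι hι hF hF0 ψ hψ => ?_⟩
    haveI := hι
    obtain ⟨hE, hE0, hp, hss⟩ := hEss
    have hEd := hp E (𝟙 E) inferInstance hE hE0
    have hposP := HilbPoly.alpha_pos (k := ℂ) hL hE hEd hP
    have hX : Polynomial.C ((1 : ℕ) : ℚ) * Polynomial.X = Polynomial.X := by simp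
    have hchi : ∀ (M : X.Modules) (Q : Polynomial ℚ), Coh.IsCoh M → ShStab.IsHilbPoly ℂ X L M Q →
        ∀ t : ℤ, (chi (k := ℂ) (n := n) ((Scheme.Modules.pushforward r).obj M) t : ℚ) = Q.eval (t : ℚ) := by
      intro M Q hM hQ t
      rw [GrothLem.chi_pushforward_hilb r hr hc hM hQ, hX, Polynomial.comp_X]
    have hS : Semi ((Scheme.Modules.pushforward r).obj E) P.natDegree P := by
      refine ⟨QCoh.isCoh_pushforward_finite r hE, GrothLem.isPureDeg_pushforward r hr hE hp,
        GrothLem.dimLT_pushforward r hE hEd.le, hchi E P hE hP, hposP, fun G κ hκ hG hG0 φ hφ => ?_⟩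
      haveI := hκ
      obtain ⟨G', κ', hκ', hG', ⟨e⟩⟩ := exists_sub_push r hE κ hG
      haveI := hκ'
      have hG'0 : ¬ IsZero G' := fun hz => hG0 (((Scheme.Modules.pushforward r).map_isZero hz).of_iso e)
      have hdG := hp G' κ' hκ' hG' hG'0
      obtain ⟨pG, hpG, -, -⟩ := HilbPoly.exists_hilb (k := ℂ) hL.1 hG' hdG.le
      obtain rfl : φ = pG := by
        refine HilbPoly.poly_ext 0 fun m _ => ?_
        have h1 := hφ (m : ℤ)
        rw [chi_iso e, hchi G' pG hG' hpG, Int.cast_natCast] at h1
        exact h1.symm
      refine ⟨HilbPoly.alpha_pos (k := ℂ) hL hG' hdG hpG, ?_⟩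
      by_cases hiso : IsIso κ'
      · haveI := hiso
        obtain rfl : φ = P := HilbPoly.isHilbPoly_unique (HilbPoly.hilb_iso (asIso κ') hpG) hP
        exact ⟨0, fun m _ => le_rfl⟩
      · obtain ⟨M, hM⟩ := hss G' κ' hκ' hG' hG'0 hiso φ P hpG hP
        refine ⟨M, fun m hm => ?_⟩
        have h3 := hM m hm
        rwa [Polynomial.eval_smul, Polynomial.eval_smul, smul_eq_mul, smul_eq_mul] at h3
    haveI : (Scheme.Modules.pushforward r).IsRightAdjoint := (Scheme.Modules.pullbackPushforwardAdjunction r).isRightAdjoint
    haveI : Mono ((Scheme.Modules.pushforward r).map ι) := Functor.map_mono _ _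
    have hrF := QCoh.isCoh_pushforward_finite r hF
    have hrF0 : ¬ IsZero ((Scheme.Modules.pushforward r).obj F) := fun hz => hF0 <| by
      rw [IsZero.iff_id_eq_zero] at hz ⊢
      haveI : (Scheme.Modules.pushforward r).Faithful := AmpleVan.faithful_push r
      exact (Scheme.Modules.pushforward r).map_injective (by rw [CategoryTheory.Functor.map_id, hz, Functor.map_zero])
    have hh : h0 ((Scheme.Modules.pushforward r).obj F) (N : ℤ) =
        Module.finrank ℂ (Coh.HH X (ShStab.twist X L F N) 0) := by
      obtain ⟨e⟩ : Nonempty (Pic13.twistOn ℂ r F (N : ℤ) ≅ ShStab.twist X L F N) := H23.PicMul.cl_eq_iff.1 <| by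
        rw [ShStab.twist, H23.PicMul.cl_tensor, H23.PicMul.cl_tensorPow, TauNum.cl_twistOn_natCast,
          H23.PicMul.cl_eq_iff.2 hc, H23.PicMul.cl_tensorPow, pow_one]
      exact (FppfPic.MReg.finrank_push ℂ n X r hr F hF (N : ℤ) 0).symm.trans (RegDescent.HHequiv (k := ℂ) e 0).finrank_eq
    have := hN₀ _ hS _ ((Scheme.Modules.pushforward r).map ι) inferInstance hrF hrF0 ψ (hchi F ψ hF hψ) N hN
    rw [hh] at this
    exact this

end Groth.Agent.S15265
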