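import Groth.Statements.S15266
import Groth.Agent.SimpsonEst.Family
-- import your own Groth.Agent.* helpers here

set_option autoImplicit false
open CategoryTheory CategoryTheory.Limits AlgebraicGeometry
open Coherent

set_option linter.style.haveILetI false
namespace Groth.Agent.S15266

/-- Over the complex numbers, let X be a proper scheme with an invertible sheaf L which is ample and
very ample (isomorphic to the pull-back of the twisting sheaf O(1) along an immersion of X into a
projective space over the complex numbers), and fix a polynomial P with rational coefficients and a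
natural number d. Then the family of coherent sheaves on X which are semistable of dimension d with
respect to L (nonzero, pure of dimension d, and the reduced Hilbert polynomial of every nonzero
proper coherent subsheaf is at most that of the sheaf for large arguments) and have Hilbert
polynomial P (the Euler characteristic of the m-th twist by L is P(m) for every natural number m) is
bounded: all of them occur, up to isomorphism, among the fibres at complex points of a single
coherent sheaf on X × T for some scheme T of finite type. (The published statement collects the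
semistable sheaves with Hilbert polynomial P on all fibres of a projective morphism over a base of
finite type; this row is the case of a single complex fibre.) -/
theorem result
    (X : Scheme.{0}) [X.Over (Spec (CommRingCat.of ℂ))] [IsProper (X ↘ Spec (CommRingCat.of ℂ))]
    (L : X.Modules) (hL : CohB1.IsAmple L) (hva : RelAmple.IsRelVeryAmplePn (X ↘ Spec (CommRingCat.of ℂ)) L)
    (P : Polynomial ℚ) (d : ℕ) :
    Pic13.IsBounded ℂ X (fun E => ShStab.IsSemistable ℂ X L E d ∧ ShStab.IsHilbPoly ℂ X L E P) := by
  open Groth.Agent Groth.Agent.SimpsonEst in
  classical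
  haveI := CurveCohLib.isNoetherian_of_proper (k := ℂ) (X := X)
  obtain ⟨n, r, hrc, c, hr, hc0, hc⟩ := exists_pow_embedding ℂ hL
  haveI := hrc
  refine Bdd.isBounded_mono (isBounded_pure_slope (d := d) r hr hL hc0 hc P (StabCat.hatSlope d P)) ?_
  rintro E ⟨⟨hE, h0, hp, hss⟩, hP⟩
  refine ⟨E, ⟨hE, h0, hp, hP, fun G ι hι hG hG0 pG hpG => ?_⟩, ⟨Iso.refl _⟩⟩
  haveI := hι
  have hEd := hp E (𝟙 E) inferInstance hE h0
  have hposE := HilbPoly.alpha_pos (k := ℂ) hL hE hEd hP
  have hpos := HilbPoly.alpha_pos (k := ℂ) hL hG (hp G ι hι hG hG0) hpG
  have h1 := (HilbPoly.hilb_props (k := ℂ) hL.1 hG (hp G ι hι hG hG0).le hpG).1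
  have h2 := (HilbPoly.hilb_props (k := ℂ) hL.1 hE hEd.le hP).1
  by_cases hiso : IsIso ι
  · haveI := hiso
    obtain rfl : pG = P := HilbPoly.isHilbPoly_unique (HilbPoly.hilb_iso (asIso ι) hpG) hP
    rw [StabCat.hatSlope, div_mul_cancel₀ _ hpos.ne']
  · obtain ⟨N, hN⟩ := hss G ι hι hG hG0 hiso pG P hpG hP
    refine slope_le_of_cross_le hpos hposE h1 h2 ⟨N, fun m hm => ?_⟩
    have h3 := hN m hm
    rwa [Polynomial.eval_smul, Polynomial.eval_smul, smul_eq_mul, smul_eq_mul] at h3

end Groth.Agent.S15266
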