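import Groth.Statements.S15270
import Groth.Agent.SSKerX.FibreZero
import Groth.Agent.FibFlatMod.CritMain
import Groth.Agent.H4BC.GenPtsLim
import Groth.Agent.TwistFlat.Base
import Groth.Agent.QCoh.RpushStalk
-- import your own Groth.Agent.* helpers here

set_option autoImplicit false
open CategoryTheory CategoryTheory.Limits AlgebraicGeometry
open Coherent

namespace Groth.Agent.S15270

/-- Over the complex numbers, let S be a separated scheme of finite type, X a closed subscheme of
projective n-space over S which is flat over S, and ξ a section of X over S. Let F be a coherent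
sheaf on X, flat over S, such that for every complex point t of S the restriction F_t to the fibre
X_t, polarised by the pull-back of O(1), is semistable of dimension d (nonzero, pure of dimension d,
reduced Hilbert polynomials of nonzero proper coherent subsheaves at most that of F_t for large
arguments) and has a filtration by coherent subsheaves with stable d-dimensional successive
quotients of the reduced Hilbert polynomial of F_t whose associated graded sheaf is finite locally
free on an open neighbourhood of the point ξ(t). Then F is locally free along ξ: for every complex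
point t of S, F is finite locally free on an open neighbourhood of the point ξ(t) of X. (The
published statement is for modules over a sheaf of rings of differential operators, on a projective
flat family with irreducible fibres of dimension d, and uses closed points; this row is the case of
the structure sheaf with complex points, which are the closed points here, and does not assume the
fibres irreducible.) -/
theorem result
    (S : Scheme.{0}) (sS : S ⟶ Spec (CommRingCat.of ℂ)) [LocallyOfFiniteType sS] [QuasiCompact sS] [IsSeparated sS]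
    (n : ℕ) (X : Scheme.{0}) (i : X ⟶ CohB1.ProjSpaceOver n S) [IsClosedImmersion i] [Flat (i ≫ (CohB1.ProjSpaceOver n S ↘ S))] (d : ℕ)
    (ξ : S ⟶ X) (hξ : ξ ≫ (i ≫ (CohB1.ProjSpaceOver n S ↘ S)) = 𝟙 S)
    (F : X.Modules) (hF : Coh.IsCoh F) (hFfl : FlatMod.IsFlatOver (i ≫ (CohB1.ProjSpaceOver n S ↘ S)) F)
    (hss : ∀ (t : Spec (CommRingCat.of ℂ) ⟶ S), t ≫ sS = 𝟙 (Spec (CommRingCat.of ℂ)) →
      @ShStab.IsSemistable ℂ _ (PicF.XT (i ≫ (CohB1.ProjSpaceOver n S ↘ S)) (Over.mk t)) ⟨PicF.XTproj (i ≫ (CohB1.ProjSpaceOver n S ↘ S)) (Over.mk t)⟩ ((Scheme.Modules.pullback (pullback.fst (i ≫ (CohB1.ProjSpaceOver n S ↘ S)) (Over.mk t).hom ≫ i)).obj (Twist.twistOver n S 1)) ((Scheme.Modules.pullback (pullback.fst (i ≫ (CohB1.ProjSpaceOver n S ↘ S)) (Over.mk t).hom)).obj F) d)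
    (hLF : ∀ (t : Spec (CommRingCat.of ℂ) ⟶ S), t ≫ sS = 𝟙 (Spec (CommRingCat.of ℂ)) →
      ∃ sF : LTSeries (Subobject ((Scheme.Modules.pullback (pullback.fst (i ≫ (CohB1.ProjSpaceOver n S ↘ S)) (Over.mk t).hom)).obj F)), @ShStab.IsJHFiltration ℂ _ (PicF.XT (i ≫ (CohB1.ProjSpaceOver n S ↘ S)) (Over.mk t)) ⟨PicF.XTproj (i ≫ (CohB1.ProjSpaceOver n S ↘ S)) (Over.mk t)⟩ ((Scheme.Modules.pullback (pullback.fst (i ≫ (CohB1.ProjSpaceOver n S ↘ S)) (Over.mk t).hom ≫ i)).obj (Twist.twistOver n S 1)) ((Scheme.Modules.pullback (pullback.fst (i ≫ (CohB1.ProjSpaceOver n S ↘ S)) (Over.mk t).hom)).obj F) d sF ∧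
        ∀ x ∈ Set.range (PicF.secT (i ≫ (CohB1.ProjSpaceOver n S ↘ S)) ξ hξ (Over.mk t)).base, ∃ V : (PicF.XT (i ≫ (CohB1.ProjSpaceOver n S ↘ S)) (Over.mk t)).Opens, x ∈ V ∧ FlatMod.IsFinLocFree ((StabCat.grObj sF).restrict V.ι))
    (t : Spec (CommRingCat.of ℂ) ⟶ S) (ht : t ≫ sS = 𝟙 (Spec (CommRingCat.of ℂ))) :
    ∀ x ∈ Set.range (t ≫ ξ).base, ∃ U : X.Opens, x ∈ U ∧ FlatMod.IsFinLocFree (F.restrict U.ι) := by
    open Groth.Agent Groth.Agent.HilbPoly StabCat in
    rintro x ⟨z, rfl⟩
    let π := i ≫ (CohB1.ProjSpaceOver n S ↘ S)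
    haveI : IsLocallyNoetherian S := LocallyOfFiniteType.isLocallyNoetherian sS
    haveI : LocallyOfFiniteType π := by
      haveI := TwistFlat.isProper_toBase (r := n) (Y := S)
      exact inferInstanceAs (LocallyOfFiniteType (i ≫ CohB1.ProjSpaceOver.toBase n S))
    haveI : IsLocallyNoetherian X := LocallyOfFiniteType.isLocallyNoetherian π
    haveI : LocallyOfFiniteType (pullback.snd π t) := inferInstance
    haveI : IsLocallyNoetherian (pullback π t) := LocallyOfFiniteType.isLocallyNoetherian (pullback.snd π t)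
    obtain ⟨sF, hsF, hgr⟩ := hLF t ht
    let G : (pullback π t).Modules := (Scheme.Modules.pullback (pullback.fst π t)).obj F
    have hG : Coh.IsCoh G := ⟨QCoh.isQCoh_pullback _ hF.1, QCoh.isFT_pullback _ hF.1 hF.2⟩
    let y : ↥(pullback π t) := (PicF.secT π ξ hξ (Over.mk t)).base z
    have hy : pullback.fst π t y = (t ≫ ξ).base z := by
      show ((PicF.secT π ξ hξ (Over.mk t)) ≫ pullback.fst π t).base z = _
      rw [show PicF.secT π ξ hξ (Over.mk t) ≫ pullback.fst π t = t ≫ ξ from pullback.lift_fst _ _ _]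
    obtain ⟨U, hyU, hU⟩ := hgr y ⟨z, rfl⟩
    have hgrq : Coh.IsQCoh (grObj sF) := (QCoh.isQCoh_iff_iso (Limits.Sigma.whiskerEquiv Equiv.ulift.{0}
      (fun j : ULift.{0} (Fin sF.length) => Iso.refl (factor sF j.down)))).1
      (H9ChowK.isQCoh_sigma _ fun j => (hsF.2.2 j.down).1.1.1)
    have hfree : Module.Free ((pullback π t).presheaf.stalk y) (G.presheaf.stalk y) :=
      (KZ.LFRes.free_iff_pd hG y).2 (SSKerX.pd_stalk_of_series sF hsF.1 hsF.2.1 hgrq hyU hU)
    have hflatG : FlatMod.IsFlatOverAt (𝟙 (pullback π t)) G y := by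
      rw [H4BC.GenPts.flat_id_iff]
      exact Module.Flat.of_free
    have hqf : FibFlatMod.QF (𝟙 X) π F (pullback.fst π t y) :=
      (FibFlatMod.qf_baseChange (IsPullback.of_hasPullback π t)
        (IsPullback.of_vert_isIso ⟨by simp⟩) F hF.1 y).1 (FibFlatMod.qf_of_flat _ _ G y hflatG)
    haveI : LocallyOfFinitePresentation π := LocallyOfFinitePresentation.iff_locallyOfFiniteType.2 ‹_›
    haveI : LocallyOfFinitePresentation (𝟙 X ≫ π) := by rw [Category.id_comp]; infer_instance
    have hfl : FlatMod.IsFlatOverAt (𝟙 X ≫ π) F (pullback.fst π t y) := by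
      rw [Category.id_comp]
      exact hFfl _
    have hflat := (FibFlatMod.flatAt_iff_qf (𝟙 X) π F (KZ.LFRes.isFP_of_isCoh hF) _ hfl).2 hqf
    rw [H4BC.GenPts.flat_id_iff, hy] at hflat
    haveI := hflat
    haveI := QCoh.finite_stalk_of_isFT hF.1 hF.2 ((t ≫ ξ).base z)
    haveI : Module.Free (X.presheaf.stalk ((t ≫ ξ).base z)) (F.presheaf.stalk ((t ≫ ξ).base z)) :=
      Module.free_of_flat_of_isLocalRing
    obtain ⟨V, m, hV, ⟨e⟩⟩ := QCoh.exists_free_nhd_of_free_stalk (KZ.LFRes.isFP_of_isCoh hF) ((t ≫ ξ).base z)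
    exact ⟨V, hV, fun v => ⟨⊤, m, trivial, ⟨(Scheme.Modules.restrictFunctor _).mapIso e ≪≫ QCoh.freeModRestrict _ m⟩⟩⟩

end Groth.Agent.S15270
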