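import Groth.Statements.S15268
import Groth.Agent.SSKerX.InfGlobal
import Groth.Agent.S15270
import Groth.Agent.QuotRep.ZeroLocusApps
import Groth.Agent.SSKerX.FibreZero
-- import your own Groth.Agent.* helpers here

set_option autoImplicit false
set_option linter.style.haveILetI false
open CategoryTheory CategoryTheory.Limits AlgebraicGeometry
open Coherent

namespace Groth.Agent.S15268

/-- Over the complex numbers, let S be a separated scheme of finite type, X a closed subscheme of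
projective n-space over S which is flat over S and whose fibre X_t over every complex point t of S
is irreducible of dimension d, and ξ a section of X over S. Let E and F be coherent sheaves on X,
flat over S, such that for every complex point t of S, on the fibre X_t polarised by the pull-back
of O(1): the restrictions E_t and F_t are semistable of dimension d (nonzero, pure of dimension d,
reduced Hilbert polynomials of nonzero proper coherent subsheaves at most that of the sheaf for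
large arguments) with the same reduced Hilbert polynomial (r(F_t)·p_{E_t} = r(E_t)·p_{F_t}, r
denoting d! times the degree-d coefficient), and each of E_t, F_t has a filtration by coherent
subsheaves with stable d-dimensional successive quotients of that reduced Hilbert polynomial whose
associated graded sheaf is finite locally free on an open neighbourhood of the point ξ(t). Then
every morphism φ from E to F whose pull-back along ξ is the zero map is zero. (The published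
statement is for modules over a sheaf of rings of differential operators and imposes the fibre
conditions at the closed points of the base; this row is the case of the structure sheaf, with the
conditions at complex points, which are the closed points here.) -/
theorem result
    (S : Scheme.{0}) (sS : S ⟶ Spec (CommRingCat.of ℂ)) [LocallyOfFiniteType sS] [QuasiCompact sS] [IsSeparated sS]
    (n : ℕ) (X : Scheme.{0}) (i : X ⟶ CohB1.ProjSpaceOver n S) [IsClosedImmersion i] [Flat (i ≫ (CohB1.ProjSpaceOver n S ↘ S))] (d : ℕ)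
    (ξ : S ⟶ X) (hξ : ξ ≫ (i ≫ (CohB1.ProjSpaceOver n S ↘ S)) = 𝟙 S)
    (hfib : ∀ (t : Spec (CommRingCat.of ℂ) ⟶ S), t ≫ sS = 𝟙 (Spec (CommRingCat.of ℂ)) →
      IrreducibleSpace (PicF.XT (i ≫ (CohB1.ProjSpaceOver n S ↘ S)) (Over.mk t)) ∧ topologicalKrullDim (PicF.XT (i ≫ (CohB1.ProjSpaceOver n S ↘ S)) (Over.mk t)) = (d : WithBot ℕ∞))
    (E F : X.Modules) (hE : Coh.IsCoh E) (hF : Coh.IsCoh F)
    (hEfl : FlatMod.IsFlatOver (i ≫ (CohB1.ProjSpaceOver n S ↘ S)) E) (hFfl : FlatMod.IsFlatOver (i ≫ (CohB1.ProjSpaceOver n S ↘ S)) F)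
    (hss : ∀ (t : Spec (CommRingCat.of ℂ) ⟶ S), t ≫ sS = 𝟙 (Spec (CommRingCat.of ℂ)) →
      @ShStab.IsSemistable ℂ _ (PicF.XT (i ≫ (CohB1.ProjSpaceOver n S ↘ S)) (Over.mk t)) ⟨PicF.XTproj (i ≫ (CohB1.ProjSpaceOver n S ↘ S)) (Over.mk t)⟩ ((Scheme.Modules.pullback (pullback.fst (i ≫ (CohB1.ProjSpaceOver n S ↘ S)) (Over.mk t).hom ≫ i)).obj (Twist.twistOver n S 1)) ((Scheme.Modules.pullback (pullback.fst (i ≫ (CohB1.ProjSpaceOver n S ↘ S)) (Over.mk t).hom)).obj E) d ∧
      @ShStab.IsSemistable ℂ _ (PicF.XT (i ≫ (CohB1.ProjSpaceOver n S ↘ S)) (Over.mk t)) ⟨PicF.XTproj (i ≫ (CohB1.ProjSpaceOver n S ↘ S)) (Over.mk t)⟩ ((Scheme.Modules.pullback (pullback.fst (i ≫ (CohB1.ProjSpaceOver n S ↘ S)) (Over.mk t).hom ≫ i)).obj (Twist.twistOver n S 1)) ((Scheme.Modules.pullback (pullback.fst (i ≫ (CohB1.ProjSpaceOver n S ↘ S)) (Over.mk t).hom)).obj F) d ∧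
      ∀ pE pF : Polynomial ℚ, @ShStab.IsHilbPoly ℂ _ (PicF.XT (i ≫ (CohB1.ProjSpaceOver n S ↘ S)) (Over.mk t)) ⟨PicF.XTproj (i ≫ (CohB1.ProjSpaceOver n S ↘ S)) (Over.mk t)⟩ ((Scheme.Modules.pullback (pullback.fst (i ≫ (CohB1.ProjSpaceOver n S ↘ S)) (Over.mk t).hom ≫ i)).obj (Twist.twistOver n S 1)) ((Scheme.Modules.pullback (pullback.fst (i ≫ (CohB1.ProjSpaceOver n S ↘ S)) (Over.mk t).hom)).obj E) pE →
        @ShStab.IsHilbPoly ℂ _ (PicF.XT (i ≫ (CohB1.ProjSpaceOver n S ↘ S)) (Over.mk t)) ⟨PicF.XTproj (i ≫ (CohB1.ProjSpaceOver n S ↘ S)) (Over.mk t)⟩ ((Scheme.Modules.pullback (pullback.fst (i ≫ (CohB1.ProjSpaceOver n S ↘ S)) (Over.mk t).hom ≫ i)).obj (Twist.twistOver n S 1)) ((Scheme.Modules.pullback (pullback.fst (i ≫ (CohB1.ProjSpaceOver n S ↘ S)) (Over.mk t).hom)).obj F) pF → StabCat.RedEq d pE pF)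
    (hLF : ∀ (t : Spec (CommRingCat.of ℂ) ⟶ S), t ≫ sS = 𝟙 (Spec (CommRingCat.of ℂ)) →
      (∃ sE : LTSeries (Subobject ((Scheme.Modules.pullback (pullback.fst (i ≫ (CohB1.ProjSpaceOver n S ↘ S)) (Over.mk t).hom)).obj E)), @ShStab.IsJHFiltration ℂ _ (PicF.XT (i ≫ (CohB1.ProjSpaceOver n S ↘ S)) (Over.mk t)) ⟨PicF.XTproj (i ≫ (CohB1.ProjSpaceOver n S ↘ S)) (Over.mk t)⟩ ((Scheme.Modules.pullback (pullback.fst (i ≫ (CohB1.ProjSpaceOver n S ↘ S)) (Over.mk t).hom ≫ i)).obj (Twist.twistOver n S 1)) ((Scheme.Modules.pullback (pullback.fst (i ≫ (CohB1.ProjSpaceOver n S ↘ S)) (Over.mk t).hom)).obj E) d sE ∧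
          ∀ x ∈ Set.range (PicF.secT (i ≫ (CohB1.ProjSpaceOver n S ↘ S)) ξ hξ (Over.mk t)).base, ∃ U : (PicF.XT (i ≫ (CohB1.ProjSpaceOver n S ↘ S)) (Over.mk t)).Opens, x ∈ U ∧ FlatMod.IsFinLocFree ((StabCat.grObj sE).restrict U.ι)) ∧
      (∃ sF : LTSeries (Subobject ((Scheme.Modules.pullback (pullback.fst (i ≫ (CohB1.ProjSpaceOver n S ↘ S)) (Over.mk t).hom)).obj F)), @ShStab.IsJHFiltration ℂ _ (PicF.XT (i ≫ (CohB1.ProjSpaceOver n S ↘ S)) (Over.mk t)) ⟨PicF.XTproj (i ≫ (CohB1.ProjSpaceOver n S ↘ S)) (Over.mk t)⟩ ((Scheme.Modules.pullback (pullback.fst (i ≫ (CohB1.ProjSpaceOver n S ↘ S)) (Over.mk t).hom ≫ i)).obj (Twist.twistOver n S 1)) ((Scheme.Modules.pullback (pullback.fst (i ≫ (CohB1.ProjSpaceOver n S ↘ S)) (Over.mk t).hom)).obj F) d sF ∧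
          ∀ x ∈ Set.range (PicF.secT (i ≫ (CohB1.ProjSpaceOver n S ↘ S)) ξ hξ (Over.mk t)).base, ∃ U : (PicF.XT (i ≫ (CohB1.ProjSpaceOver n S ↘ S)) (Over.mk t)).Opens, x ∈ U ∧ FlatMod.IsFinLocFree ((StabCat.grObj sF).restrict U.ι)))
    (φ : E ⟶ F) (hφ : (Scheme.Modules.pullback ξ).map φ = 0) : φ = 0 := by
  open Groth.Agent StabCat in
  let π := i ≫ (CohB1.ProjSpaceOver n S ↘ S)
  haveI hprop : IsProper π := by
    haveI := TwistFlat.isProper_toBase (r := n) (Y := S)
    exact inferInstanceAs (IsProper (i ≫ CohB1.ProjSpaceOver.toBase n S))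
  haveI : IsLocallyNoetherian S := LocallyOfFiniteType.isLocallyNoetherian sS
  haveI : IsLocallyNoetherian X := LocallyOfFiniteType.isLocallyNoetherian π
  haveI : CompactSpace S := QuasiCompact.compactSpace_of_compactSpace sS
  haveI : IsNoetherian S := { }
  haveI : CompactSpace X := QuasiCompact.compactSpace_of_compactSpace π
  refine SSKerX.eq_zero_of_closed_points hE hF φ fun x hx v => ?_
  let ζ := pointOfClosedPoint (π ≫ sS) x hx
  let t : Spec (CommRingCat.of ℂ) ⟶ S := ζ ≫ π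
  have ht : t ≫ sS = 𝟙 _ := by rw [Category.assoc]; exact pointOfClosedPoint_comp _ _ _
  have htx : t default = π x := by
    rw [Scheme.Hom.comp_apply, pointOfClosedPoint_apply]
  haveI : IsClosedImmersion t := by
    haveI : IsClosedImmersion (t ≫ sS) := by rw [ht]; infer_instance
    exact IsClosedImmersion.of_comp t sS
  haveI : Module.Free (X.presheaf.stalk (ξ (t default))) (KZ.LFRes.stk F (ξ (t default))) := by
    obtain ⟨U, hU, hfree⟩ := Groth.Agent.S15270.result S sS n X i d ξ hξ F hF hFfl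
      (fun t ht => (hss t ht).2.1) (fun t ht => (hLF t ht).2) t ht (ξ (t default))
      ⟨default, Scheme.Hom.comp_apply _ _ _⟩
    exact SSKerX.free_stalk_of_nhd hF.1 hU hfree
  refine SSKerX.stalk_eq_zero_global π hF hFfl ξ hξ φ hφ t (PicF.secT π ξ hξ (Over.mk t))
    (pullback.lift_fst _ _ _) (fun g hg => ?_) x htx.symm v
  letI : (PicF.XT π (Over.mk t)).Over (Spec (CommRingCat.of ℂ)) := ⟨PicF.XTproj π (Over.mk t)⟩
  haveI : IsProper ((PicF.XT π (Over.mk t)) ↘ Spec (CommRingCat.of ℂ)) :=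
    inferInstanceAs (IsProper (pullback.snd π t))
  haveI := (hfib t ht).1
  have hL : CohB1.IsAmple ((Scheme.Modules.pullback (pullback.fst π (Over.mk t).hom ≫ i)).obj
      (Twist.twistOver n S 1)) :=
    AmpleX.isAmple_of_iso ((Scheme.Modules.pullbackComp _ _).app _)
      ((AmpleX.isRelAmple_iff_isAmple (pullback.snd π t) _).1
        (AmpleX.isRelAmple_baseChange π t (QuotRep.isRelAmple_O1 i)))
  haveI : Nonempty ↥(Over.mk t).left := inferInstanceAs (Nonempty ↥(Spec (CommRingCat.of ℂ)))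
  obtain ⟨hsE, hsF, hred⟩ := hss t ht
  obtain ⟨sF, hsFJ, hgrF⟩ := (hLF t ht).2
  obtain ⟨pE, hpE, -, -⟩ := HilbPoly.exists_hilb (k := ℂ) hL.1 hsE.1 (le_of_eq (HilbPoly.dim_of_isPure hsE.2.2.1 hsE.1 hsE.2.1))
  obtain ⟨pF, hpF, -, -⟩ := HilbPoly.exists_hilb (k := ℂ) hL.1 hsF.1 (le_of_eq (HilbPoly.dim_of_isPure hsF.2.2.1 hsF.1 hsF.2.1))
  exact SSKerX.eq_zero_of_pullback_eq_zero hL (hfib t ht).2 hsE hsF hpE hpF (hred pE pF hpE hpF)
    (PicF.secT π ξ hξ (Over.mk t)) sF hsFJ hgrF g hg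

end Groth.Agent.S15268
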