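import Groth.Statements.S15269
import Groth.Agent.SSKerX.BadLocus
import Groth.Agent.QuotRep.ZeroLocusApps
-- import your own Groth.Agent.* helpers here

set_option autoImplicit false
set_option linter.style.haveILetI false
open CategoryTheory CategoryTheory.Limits AlgebraicGeometry
open Coherent

namespace Groth.Agent.S15269

/-- Over the complex numbers, let S be a separated scheme of finite type, X a closed subscheme of
projective n-space over S which is flat over S and whose fibre over every complex point of S is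
irreducible of dimension d, ξ a section of X over S, and P a polynomial with rational coefficients.
Let F be a coherent sheaf on X, flat over S, such that for every complex point t of S the
restriction F_t to the fibre X_t, polarised by the pull-back of O(1), is semistable of dimension d
(nonzero, pure of dimension d, reduced Hilbert polynomials of nonzero proper coherent subsheaves at
most that of F_t for large arguments) with Hilbert polynomial P. Then the condition that F_t has a
filtration by coherent subsheaves with stable d-dimensional successive quotients of the reduced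
Hilbert polynomial of F_t whose associated graded sheaf is finite locally free on an open
neighbourhood of the point ξ(t) is an open condition: there is an open subset U of S such that, for
every complex point t of S, the condition holds if and only if t lies in U. (The published statement
is for modules over a sheaf of rings of differential operators and closed points of the base; this
row is the case of the structure sheaf, with complex points, which are the closed points here.) -/
theorem result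
    (S : Scheme.{0}) (sS : S ⟶ Spec (CommRingCat.of ℂ)) [LocallyOfFiniteType sS] [QuasiCompact sS] [IsSeparated sS]
    (n : ℕ) (X : Scheme.{0}) (i : X ⟶ CohB1.ProjSpaceOver n S) [IsClosedImmersion i] [Flat (i ≫ (CohB1.ProjSpaceOver n S ↘ S))] (d : ℕ)
    (ξ : S ⟶ X) (hξ : ξ ≫ (i ≫ (CohB1.ProjSpaceOver n S ↘ S)) = 𝟙 S)
    (hfib : ∀ (t : Spec (CommRingCat.of ℂ) ⟶ S), t ≫ sS = 𝟙 (Spec (CommRingCat.of ℂ)) →
      IrreducibleSpace (PicF.XT (i ≫ (CohB1.ProjSpaceOver n S ↘ S)) (Over.mk t)) ∧ topologicalKrullDim (PicF.XT (i ≫ (CohB1.ProjSpaceOver n S ↘ S)) (Over.mk t)) = (d : WithBot ℕ∞))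
    (P : Polynomial ℚ) (F : X.Modules) (hF : Coh.IsCoh F) (hFfl : FlatMod.IsFlatOver (i ≫ (CohB1.ProjSpaceOver n S ↘ S)) F)
    (hss : ∀ (t : Spec (CommRingCat.of ℂ) ⟶ S), t ≫ sS = 𝟙 (Spec (CommRingCat.of ℂ)) →
      @ShStab.IsSemistable ℂ _ (PicF.XT (i ≫ (CohB1.ProjSpaceOver n S ↘ S)) (Over.mk t)) ⟨PicF.XTproj (i ≫ (CohB1.ProjSpaceOver n S ↘ S)) (Over.mk t)⟩ ((Scheme.Modules.pullback (pullback.fst (i ≫ (CohB1.ProjSpaceOver n S ↘ S)) (Over.mk t).hom ≫ i)).obj (Twist.twistOver n S 1)) ((Scheme.Modules.pullback (pullback.fst (i ≫ (CohB1.ProjSpaceOver n S ↘ S)) (Over.mk t).hom)).obj F) d ∧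
      @ShStab.IsHilbPoly ℂ _ (PicF.XT (i ≫ (CohB1.ProjSpaceOver n S ↘ S)) (Over.mk t)) ⟨PicF.XTproj (i ≫ (CohB1.ProjSpaceOver n S ↘ S)) (Over.mk t)⟩ ((Scheme.Modules.pullback (pullback.fst (i ≫ (CohB1.ProjSpaceOver n S ↘ S)) (Over.mk t).hom ≫ i)).obj (Twist.twistOver n S 1)) ((Scheme.Modules.pullback (pullback.fst (i ≫ (CohB1.ProjSpaceOver n S ↘ S)) (Over.mk t).hom)).obj F) P) :
    ∃ U : S.Opens, ∀ (t : Spec (CommRingCat.of ℂ) ⟶ S), t ≫ sS = 𝟙 (Spec (CommRingCat.of ℂ)) →
      ((∃ sF : LTSeries (Subobject ((Scheme.Modules.pullback (pullback.fst (i ≫ (CohB1.ProjSpaceOver n S ↘ S)) (Over.mk t).hom)).obj F)), @ShStab.IsJHFiltration ℂ _ (PicF.XT (i ≫ (CohB1.ProjSpaceOver n S ↘ S)) (Over.mk t)) ⟨PicF.XTproj (i ≫ (CohB1.ProjSpaceOver n S ↘ S)) (Over.mk t)⟩ ((Scheme.Modules.pullback (pullback.fst (i ≫ (CohB1.ProjSpaceOver n S ↘ S)) (Over.mk t).hom ≫ i)).obj (Twist.twistOver n S 1)) ((Scheme.Modules.pullback (pullback.fst (i ≫ (CohB1.ProjSpaceOver n S ↘ S)) (Over.mk t).hom)).obj F) d sF ∧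
          ∀ x ∈ Set.range (PicF.secT (i ≫ (CohB1.ProjSpaceOver n S ↘ S)) ξ hξ (Over.mk t)).base, ∃ V : (PicF.XT (i ≫ (CohB1.ProjSpaceOver n S ↘ S)) (Over.mk t)).Opens, x ∈ V ∧ FlatMod.IsFinLocFree ((StabCat.grObj sF).restrict V.ι)) ↔
        Set.range t.base ⊆ (U : Set S)) := by
  open Groth.Agent Groth.Agent.HilbPoly StabCat in
  classical
  let π := i ≫ (CohB1.ProjSpaceOver n S ↘ S)
  haveI : IsLocallyNoetherian S := LocallyOfFiniteType.isLocallyNoetherian sS
  haveI : CompactSpace S := QuasiCompact.compactSpace_of_compactSpace sS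
  haveI : IsNoetherian S := { }
  haveI : IsProper π := QuotRep.isProper_comp i
  let Φ : ℕ → Polynomial ℚ := fun m => ((m : ℚ) / alpha d P) • P
  choose B hBc hB using fun m => SSKerX.exists_isClosed_badQuot sS i hF (Φ m) ξ hξ
  let N := ⌊alpha d P⌋₊
  refine ⟨⟨(⋃ m ∈ Finset.range (N + 1), B m)ᶜ,
    (Set.Finite.isClosed_biUnion (Finset.range (N + 1)).finite_toSet fun m _ => hBc m).isOpen_compl⟩, fun t ht => ?_⟩
  haveI : IsClosedImmersion t := by
    haveI : IsClosedImmersion (t ≫ sS) := by rw [ht]; infer_instance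
    exact IsClosedImmersion.of_comp t sS
  letI : (PicF.XT π (Over.mk t)).Over (Spec (CommRingCat.of ℂ)) := ⟨PicF.XTproj π (Over.mk t)⟩
  haveI : IsProper ((PicF.XT π (Over.mk t)) ↘ Spec (CommRingCat.of ℂ)) :=
    inferInstanceAs (IsProper (pullback.snd π t))
  haveI : IsProper (pullback π (Over.mk t).hom ↘ Spec (CommRingCat.of ℂ)) :=
    inferInstanceAs (IsProper (pullback.snd π t))
  let eL : (Scheme.Modules.pullback (pullback.fst π (Over.mk t).hom ≫ i)).obj (Twist.twistOver n S 1) ≅
      (Scheme.Modules.pullback (pullback.fst π t)).obj ((Scheme.Modules.pullback i).obj (Twist.twistOver n S 1)) :=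
    ((Scheme.Modules.pullbackComp _ _).app _).symm
  have hLi : PicF.IsInvertible ((Scheme.Modules.pullback (pullback.fst π t)).obj
      ((Scheme.Modules.pullback i).obj (Twist.twistOver n S 1))) :=
    PicClLib.isInvertible_pullback _ (QuotRep.isInvertible_O1 i)
  have hL : CohB1.IsAmple ((Scheme.Modules.pullback (pullback.fst π (Over.mk t).hom ≫ i)).obj
      (Twist.twistOver n S 1)) :=
    AmpleX.isAmple_of_iso eL.symm
      ((AmpleX.isRelAmple_iff_isAmple (pullback.snd π t) _).1
        (AmpleX.isRelAmple_baseChange π t (QuotRep.isRelAmple_O1 i)))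
  obtain ⟨hsF, hP⟩ := hss t ht
  have hd := dim_le_of_isPure hsF.2.2.1 hsF.1
  have hαP : 0 < alpha d P := alpha_pos hL hsF.1 (dim_of_isPure hsF.2.2.1 hsF.1 hsF.2.1) hP
  let y : ↥(pullback π t) := (PicF.secT π ξ hξ (Over.mk t)).base (default : Spec (CommRingCat.of ℂ))
  have hred : ∀ m, RedEq d (Φ m) P := fun m => by
    show alpha d P • (((m : ℚ) / alpha d P) • P) = alpha d (((m : ℚ) / alpha d P) • P) • P
    rw [alpha_smul, smul_smul, mul_comm]
  constructor
  · rintro ⟨sF, hsJ, hgr⟩ _ ⟨w, rfl⟩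
    simp only [TopologicalSpace.Opens.coe_mk, Set.mem_compl_iff, Set.mem_iUnion, not_exists]
    intro m _ hmem
    rw [Subsingleton.elim w (default : Spec (CommRingCat.of ℂ))] at hmem
    obtain ⟨G, q, hq, hG, hpoly, hbad⟩ := (hB m t ht).1 hmem
    have hpG := (SSKerX.isHilbPoly_iff_eulerChar (pullback.snd π t) eL hLi hG.1 (Φ m) default).2 hpoly
    exact hbad (@SSKerX.quot_free_of_gr _ _ _ _ _ _ _ hL _ _ hsF sF hsJ _
      (hgr _ ⟨(default : Spec (CommRingCat.of ℂ)), rfl⟩) q hq hG _ _ hpG hP (hred m))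
  · intro hsub
    have hnot : ∀ m ∈ Finset.range (N + 1), t default ∉ B m := fun m hm h =>
      hsub ⟨default, rfl⟩ (Set.mem_biUnion hm h)
    obtain ⟨s, hs, hgr⟩ := SSKerX.exists_gr_free_of_quot_free hL hsF hP y fun G q hq hG pG hpG hr => by
      by_contra hbad
      haveI := hq
      have hdG := dim_epi hsF.1 hG q hd
      obtain ⟨hK, hdK, hpK⟩ := kernel_data (k := ℂ) hL hsF.1 hG hd q hP hpG
      have h0 := alpha_nonneg hL hG hdG hpG
      have h1 := alpha_nonneg hL hK hdK hpK
      rw [SSKerX.alpha_sub] at h1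
      have hint := (hilb_props (k := ℂ) hL.1 hG hdG hpG).2
      obtain ⟨m, hm⟩ : ∃ m : ℕ, alpha d pG = (m : ℚ) := by
        obtain ⟨m, hm⟩ := Int.eq_ofNat_of_zero_le (show (0 : ℤ) ≤ mult ℂ _ d G by
          rw [hint] at h0; exact_mod_cast h0)
        exact ⟨m, by rw [hint, hm]; rfl⟩
      have hΦ : pG = Φ m := by
        change alpha d P • pG = alpha d pG • P at hr
        show pG = ((m : ℚ) / alpha d P) • P
        rw [div_eq_inv_mul, mul_smul, ← hm, ← hr, smul_smul, inv_mul_cancel₀ hαP.ne', one_smul]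
      have hmN : m ∈ Finset.range (N + 1) := by
        rw [Finset.mem_range, Nat.lt_succ_iff]
        exact Nat.le_floor (by rw [← hm]; linarith)
      refine hnot m hmN ((hB m t ht).2 ⟨G, q, hq, hG, ?_, hbad⟩)
      rw [← hΦ]
      exact (SSKerX.isHilbPoly_iff_eulerChar (pullback.snd π t) eL hLi hG.1 pG default).1 hpG
    refine ⟨s, hs, fun x hx => ?_⟩
    obtain ⟨w, rfl⟩ := hx
    haveI : Subsingleton ↥(Over.mk t).left := inferInstanceAs (Subsingleton ↥(Spec (CommRingCat.of ℂ)))
    rw [Subsingleton.elim w (default : Spec (CommRingCat.of ℂ))]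
    exact hgr

end Groth.Agent.S15269
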