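import Groth.Statements.S15272
import Groth.Agent.SSKerX.Basic
-- import your own Groth.Agent.* helpers here

set_option autoImplicit false
open CategoryTheory CategoryTheory.Limits AlgebraicGeometry
open Coherent

namespace Groth.Agent.S15272

/-- Over the complex numbers, let X be a proper scheme with an ample invertible sheaf L, and let E and F
be coherent sheaves on X which are semistable of dimension d with respect to L (nonzero, pure of
dimension d, and the reduced Hilbert polynomial of every nonzero proper coherent subsheaf is at most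
that of the sheaf for large arguments), with the same reduced Hilbert polynomial (r(F)·p_E =
r(E)·p_F for Hilbert polynomials p_E of E and p_F of F with respect to L, r denoting d! times the
degree-d coefficient). Then for every morphism f from E to F: the kernel of f is either zero or
semistable of dimension d with every Hilbert polynomial p_K of it satisfying r(E)·p_K = r(K)·p_E;
and the cokernel of f is either zero or semistable of dimension d with every Hilbert polynomial p_Q
of it satisfying r(E)·p_Q = r(Q)·p_E. In other words the semistable sheaves of dimension d with a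
fixed reduced Hilbert polynomial form an abelian subcategory. (The published statement is for
modules over a sheaf of rings of differential operators; this row is the case of the structure
sheaf.) -/
theorem result
    (X : Scheme.{0}) [X.Over (Spec (CommRingCat.of ℂ))] [IsProper (X ↘ Spec (CommRingCat.of ℂ))]
    (L : X.Modules) (hL : CohB1.IsAmple L) (d : ℕ)
    (E F : X.Modules) (hE : ShStab.IsSemistable ℂ X L E d) (hF : ShStab.IsSemistable ℂ X L F d)
    (pE pF : Polynomial ℚ) (hpE : ShStab.IsHilbPoly ℂ X L E pE) (hpF : ShStab.IsHilbPoly ℂ X L F pF)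
    (hred : StabCat.RedEq d pE pF) (f : E ⟶ F) :
    (IsZero (kernel f) ∨ (ShStab.IsSemistable ℂ X L (kernel f) d ∧
        ∀ pK : Polynomial ℚ, ShStab.IsHilbPoly ℂ X L (kernel f) pK → StabCat.RedEq d pK pE)) ∧
    (IsZero (cokernel f) ∨ (ShStab.IsSemistable ℂ X L (cokernel f) d ∧
        ∀ pQ : Polynomial ℚ, ShStab.IsHilbPoly ℂ X L (cokernel f) pQ → StabCat.RedEq d pQ pE)) := by
    open Groth.Agent Groth.Agent.HilbPoly StabCat in
    obtain ⟨hEc, hE0, hEp, hEss⟩ := hE
    obtain ⟨hFc, hF0, hFp, hFss⟩ := hF
    haveI : IsNoetherian X := CurveCohLib.isNoetherian_of_proper (k := ℂ)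
    have hdE := dim_of_isPure hEp hEc hE0
    have hdF := dim_of_isPure hFp hFc hF0
    have hαE := alpha_pos hL hEc hdE hpE
    have hαF := alpha_pos hL hFc hdF hpF
    have hK : Coh.IsCoh (kernel f) := QCoh.isCoh_kernel hEc hFc f
    let I := Abelian.coimage f
    let b : I ⟶ F := Abelian.factorThruCoimage f
    have hI : Coh.IsCoh I := QCoh.isCoh_cokernel hK.1 hEc _
    have hdI := dim_mono hI hFc b hdF.le
    obtain ⟨pI, hpI, -, hαI⟩ := exists_hilb (k := ℂ) hL.1 hI hdI
    obtain ⟨hKc, hdK, hpK⟩ := kernel_data (k := ℂ) hL hEc hI hdE.le (Abelian.coimage.π f) hpE hpI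
    have hkk : kernel (Abelian.coimage.π f) ≅ kernel f :=
      (kernelCompMono (Abelian.coimage.π f) b).symm ≪≫ kernelIsoOfEq (Abelian.coimage.fac f)
    have hcc : cokernel b ≅ cokernel f :=
      (cokernelEpiComp (Abelian.coimage.π f) b).symm ≪≫ cokernelIsoOfEq (Abelian.coimage.fac f)
    -- the image has the same reduced polynomial
    have key : RedEq d pI pF ∧ RedEq d pI pE := by
      by_cases hI0 : IsZero I
      · rw [isHilbPoly_unique hpI (hilb_isZero hI0)]
        simp [RedEq, alpha]
      have hαIpos : 0 < alpha d pI := alpha_pos hL hI (hFp I b inferInstance hI hI0) hpI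
      have h1 : RedLE d pI pF := by
        by_cases hiso : IsIso b
        · rw [isHilbPoly_unique (hilb_iso (asIso b) hpI) hpF]
          exact ⟨0, fun m _ => le_rfl⟩
        exact hFss I b inferInstance hI hI0 hiso pI pF hpI hpF
      have h2 : RedLE d (pE - pI) pE := by
        by_cases hK0 : IsZero (kernel (Abelian.coimage.π f))
        · rw [isHilbPoly_unique hpK (hilb_isZero hK0)]
          exact ⟨0, fun m _ => by simp [alpha]⟩
        by_cases hiso : IsIso (kernel.ι (Abelian.coimage.π f))
        · rw [isHilbPoly_unique (hilb_iso (asIso (kernel.ι (Abelian.coimage.π f))) hpK) hpE]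
          exact ⟨0, fun m _ => le_rfl⟩
        exact hEss _ (kernel.ι (Abelian.coimage.π f)) inferInstance hKc hK0 hiso _ _ hpK hpE
      have h3 : RedLE d pE pI := by
        obtain ⟨N, hN⟩ := h2
        refine ⟨N, fun m hm => ?_⟩
        have h := hN m hm
        simp only [SSKerX.alpha_sub, Polynomial.eval_smul, Polynomial.eval_sub, smul_eq_mul, mul_sub, sub_mul] at h ⊢
        linarith
      have h4 : RedEq d pI pE :=
        redEq_of_le_le (SSKerX.redLE_of_redEq hαE.le hαF hred h1) h3
      refine ⟨?_, h4⟩
      refine redEq_of_le_le h1 (SSKerX.redLE_of_redEq hαIpos.le hαE h4 ?_)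
      refine ⟨0, fun m _ => le_of_eq ?_⟩
      have := congrArg (Polynomial.eval (m : ℚ)) hred
      simp only [Polynomial.eval_smul, smul_eq_mul] at this ⊢
      linarith
    have hKeq : RedEq d (pE - pI) pE := SSKerX.redEq_sub rfl key.2
    refine ⟨?_, ?_⟩
    · by_cases hK0 : IsZero (kernel f)
      · exact Or.inl hK0
      refine Or.inr ⟨SSKerX.sub hL ⟨hEc, hE0, hEp, hEss⟩ (kernel.ι f) hK hK0 (hilb_iso hkk hpK) hpE hKeq,
        fun pK' hpK' => ?_⟩
      rw [isHilbPoly_unique hpK' (hilb_iso hkk hpK)]
      exact hKeq
    · by_cases hC0 : IsZero (cokernel f)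
      · exact Or.inl hC0
      obtain ⟨hss, heq⟩ := SSKerX.quot hL ⟨hFc, hF0, hFp, hFss⟩ b hI (fun hz => hC0 (hz.of_iso hcc.symm)) hpI hpF key.1
      refine Or.inr ⟨SSKerX.of_iso hcc hss, fun pQ hpQ => ?_⟩
      have h := heq pQ (hilb_iso hcc.symm hpQ)
      have e1 : alpha d pF • pQ = alpha d pQ • pF := h
      have e2 : alpha d pF • pE = alpha d pE • pF := hred
      show alpha d pE • pQ = alpha d pQ • pE
      refine smul_right_injective (Polynomial ℚ) hαF.ne' ?_
      show alpha d pF • (alpha d pE • pQ) = alpha d pF • (alpha d pQ • pE)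
      rw [smul_comm (alpha d pF), e1, smul_comm (alpha d pF) (alpha d pQ), e2, smul_comm (alpha d pE)]

end Groth.Agent.S15272
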