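import Groth.Statements.S15298
-- import your own Groth.Agent.* helpers here
import Mathlib

set_option linter.style.haveILetI false

set_option autoImplicit false
universe u
open CAlg

namespace Groth.Agent.S15298

/-- A compatible family of sections of the reductions gives a section to the complete ring. -/
theorem exists_section (k A : Type u) [CommRing k] [CommRing A] [Algebra k A] (I : Ideal A) [IsAdicComplete I A]
    [Algebra.FormallySmooth k (A ⧸ I)] :
    ∃ s : (A ⧸ I) →ₐ[k] A, ∀ c, Ideal.Quotient.mk I (s c) = c := by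
  classical
  let π : ∀ n, (A ⧸ I ^ (n + 1)) →ₐ[k] A ⧸ I ^ n := fun n =>
    Ideal.Quotient.factorₐ k (Ideal.pow_le_pow_right n.le_succ)
  have step : ∀ n, ∀ t : (A ⧸ I) →ₐ[k] A ⧸ I ^ (n + 1), ∃ t' : (A ⧸ I) →ₐ[k] A ⧸ I ^ (n + 1 + 1),
      (π (n + 1)).comp t' = t := by
    intro n t
    have hsur : Function.Surjective (π (n + 1)) :=
      Ideal.Quotient.factor_surjective (Ideal.pow_le_pow_right (n + 1).le_succ)
    have hnil : IsNilpotent (RingHom.ker (π (n + 1) : (A ⧸ I ^ (n + 1 + 1)) →+* A ⧸ I ^ (n + 1))) := by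
      refine ⟨2, le_bot_iff.1 ?_⟩
      have hle : RingHom.ker (π (n + 1) : (A ⧸ I ^ (n + 1 + 1)) →+* A ⧸ I ^ (n + 1)) ≤
          (I ^ (n + 1)).map (Ideal.Quotient.mk (I ^ (n + 1 + 1))) := by
        intro z hz
        obtain ⟨b, rfl⟩ := Ideal.Quotient.mk_surjective z
        exact Ideal.mem_map_of_mem _ (Ideal.Quotient.eq_zero_iff_mem.1 hz)
      refine (Ideal.pow_right_mono hle 2).trans ?_
      rw [← Ideal.map_pow, ← pow_mul, ← Ideal.map_quotient_self (I ^ (n + 1 + 1))]
      exact Ideal.map_mono (Ideal.pow_le_pow_right (by omega))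
    exact ⟨Algebra.FormallySmooth.liftOfSurjective t (π (n + 1)) hsur hnil,
      AlgHom.ext fun c => Algebra.FormallySmooth.liftOfSurjective_apply t (π (n + 1)) hsur hnil c⟩
  choose next hnext using step
  let t : ∀ n, (A ⧸ I) →ₐ[k] A ⧸ I ^ (n + 1) := fun n => Nat.rec
    ((Ideal.quotientEquivAlgOfEq k (pow_one I).symm).toAlgHom) (fun m tm => next m tm) n
  have ht : ∀ n, (π (n + 1)).comp (t (n + 1)) = t n := fun n => hnext n (t n)
  let f : ∀ n, (A ⧸ I) →ₐ[k] A ⧸ I ^ n := fun n => (π n).comp (t n)
  have hf : ∀ {m n : ℕ} (hle : m ≤ n),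
      (Ideal.Quotient.factorₐ k (Ideal.pow_le_pow_right hle)).comp (f n) = f m := by
    intro m n hle
    induction n, hle using Nat.le_induction with
    | base => refine AlgHom.ext fun c => ?_; simp
    | succ n hle ih =>
      rw [← ih]
      refine AlgHom.ext fun c => ?_
      have h := AlgHom.congr_fun (ht n) c
      obtain ⟨b, hb⟩ := Ideal.Quotient.mk_surjective (t (n + 1) c)
      simp only [f, π, AlgHom.comp_apply] at h ⊢
      rw [← h, ← hb]
      rfl
  refine ⟨IsAdicComplete.liftAlgHom I f hf, fun c => ?_⟩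
  have h := IsAdicComplete.mk_liftAlgHom I f hf 1 c
  have h' := congrArg (Ideal.quotientEquivAlgOfEq k (pow_one I)) h
  rw [Ideal.quotientEquivAlgOfEq_mk] at h'
  rw [h']
  have h0 := AlgHom.congr_fun (ht 0) c
  obtain ⟨b, rfl⟩ := Ideal.Quotient.mk_surjective c
  show Ideal.quotientEquivAlgOfEq k (pow_one I) (π 1 (t 1 (Ideal.Quotient.mk I b))) = _
  rw [show π 1 (t 1 (Ideal.Quotient.mk I b)) = t 0 (Ideal.Quotient.mk I b) from h0]
  rfl

/-- Let k be a field, A a Noetherian k-algebra and x a non-zero-divisor of A such that A is separated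
and complete for the (x)-adic topology, and assume that B = A/xA is formally smooth over k. Then A
is a power series ring over B in the variable x: there is a k-algebra isomorphism e : B[[T]] ≅ A
with e(T) = x whose reduction modulo x is the constant-coefficient map, i.e. e(f) ≡ f(0) mod x for
every power series f. -/
theorem result (k A : Type u) [Field k]
    [CommRing A] [Algebra k A] [IsNoetherianRing A] (x : A) (hx : x ∈ nonZeroDivisors A)
    [IsAdicComplete (Ideal.span {x}) A] [Algebra.FormallySmooth k (A ⧸ Ideal.span {x})] :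
    ∃ e : PowerSeries (A ⧸ Ideal.span {x}) ≃ₐ[k] A,
      e PowerSeries.X = x ∧
      ∀ f : PowerSeries (A ⧸ Ideal.span {x}),
        Ideal.Quotient.mk (Ideal.span {x}) (e f) = PowerSeries.constantCoeff f := by
  classical
  set I := Ideal.span {x} with hI
  let B := A ⧸ I
  obtain ⟨s, hs⟩ := exists_section k A I
  let q : A →ₐ[k] B := Ideal.Quotient.mkₐ k I
  have hpow : ∀ n, I ^ n = Ideal.span {x ^ n} := fun n => Ideal.span_singleton_pow x n
  let σ : ∀ n, B →+* A ⧸ I ^ n := fun n => (Ideal.Quotient.mk (I ^ n)).comp (s : B →+* A)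
  let xb : ∀ n, A ⧸ I ^ n := fun n => Ideal.Quotient.mk (I ^ n) x
  have hxb : ∀ n, xb n ^ n = 0 := fun n => by
    rw [← map_pow, Ideal.Quotient.eq_zero_iff_mem, hpow]
    exact Ideal.mem_span_singleton_self _
  have hlow : ∀ (n : ℕ) (p : Polynomial B), (∀ i < n, p.coeff i = 0) → p.eval₂ (σ n) (xb n) = 0 := by
    intro n p hp
    obtain ⟨r, rfl⟩ := Polynomial.X_pow_dvd_iff.2 hp
    rw [Polynomial.eval₂_mul, Polynomial.eval₂_X_pow, hxb, zero_mul]
  have hev : ∀ (n : ℕ) (p q' : Polynomial B), (∀ i < n, p.coeff i = q'.coeff i) →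
      p.eval₂ (σ n) (xb n) = q'.eval₂ (σ n) (xb n) := fun n p q' h => by
    have := hlow n (p - q') fun i hi => by rw [Polynomial.coeff_sub, h i hi, sub_self]
    rwa [Polynomial.eval₂_sub, sub_eq_zero] at this
  let fn : ∀ n, PowerSeries B →ₐ[k] A ⧸ I ^ n := fun n =>
    { toFun := fun f => (PowerSeries.trunc n f).eval₂ (σ n) (xb n)
      map_one' := by
        rw [hev n _ 1 fun i hi => by
          rw [PowerSeries.coeff_trunc, if_pos hi, ← Polynomial.coeff_coe, Polynomial.coe_one]]
        exact Polynomial.eval₂_one _ _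
      map_mul' := fun f g => by
        rw [← Polynomial.eval₂_mul]
        refine hev n _ _ fun i hi => ?_
        rw [PowerSeries.coeff_trunc, if_pos hi, ← Polynomial.coeff_coe _ (n := i), Polynomial.coe_mul,
          ← PowerSeries.coeff_coe_trunc_of_lt hi, ← PowerSeries.trunc_trunc_mul_trunc,
          PowerSeries.coeff_coe_trunc_of_lt hi]
      map_zero' := by simp
      map_add' := fun f g => by rw [map_add, Polynomial.eval₂_add]
      commutes' := fun r => by
        rw [hev n _ (Polynomial.C (algebraMap k B r)) fun i hi => by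
          rw [PowerSeries.coeff_trunc, if_pos hi, PowerSeries.algebraMap_apply, PowerSeries.coeff_C,
            Polynomial.coeff_C]]
        rw [Polynomial.eval₂_C]
        show Ideal.Quotient.mk _ (s (algebraMap k B r)) = _
        rw [AlgHom.commutes]
        rfl }
  have hfn : ∀ {m n : ℕ} (hle : m ≤ n),
      (Ideal.Quotient.factorₐ k (Ideal.pow_le_pow_right hle)).comp (fn n) = fn m := by
    intro m n hle
    refine AlgHom.ext fun f => ?_
    show Ideal.Quotient.factor (Ideal.pow_le_pow_right hle) ((PowerSeries.trunc n f).eval₂ (σ n) (xb n)) =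
      (PowerSeries.trunc m f).eval₂ (σ m) (xb m)
    rw [Polynomial.hom_eval₂]
    refine Eq.trans ?_ (hev m (PowerSeries.trunc n f) (PowerSeries.trunc m f) fun i hi => by
      rw [PowerSeries.coeff_trunc, PowerSeries.coeff_trunc, if_pos hi, if_pos (hi.trans_le hle)])
    rfl
  let F : PowerSeries B →ₐ[k] A := IsAdicComplete.liftAlgHom I fn hfn
  have hF : ∀ n f, Ideal.Quotient.mk (I ^ n) (F f) = (PowerSeries.trunc n f).eval₂ (σ n) (xb n) := fun n f =>
    IsAdicComplete.mk_liftAlgHom I fn hfn n f
  have hsep : ∀ a b : A, (∀ n, Ideal.Quotient.mk (I ^ n) a = Ideal.Quotient.mk (I ^ n) b) → a = b := fun a b h =>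
    (IsHausdorff.eq_iff_smodEq (I := I)).2 fun n => by
      rw [SModEq.sub_mem, Ideal.smul_eq_mul, Ideal.mul_top, ← Ideal.Quotient.eq]
      exact h n
  have hX : F PowerSeries.X = x := hsep _ _ fun n => by
    rw [hF, hev n _ Polynomial.X fun i hi => by
      rw [PowerSeries.coeff_trunc, if_pos hi, ← Polynomial.coe_X, Polynomial.coeff_coe]]
    exact Polynomial.eval₂_X _ _
  have hconst : ∀ f, Ideal.Quotient.mk I (F f) = PowerSeries.constantCoeff f := fun f => by
    have h := hF 1 f
    rw [hev 1 _ (Polynomial.C (PowerSeries.constantCoeff f)) fun i hi => by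
      obtain rfl : i = 0 := by omega
      rw [PowerSeries.coeff_trunc, if_pos hi, PowerSeries.coeff_zero_eq_constantCoeff_apply,
        Polynomial.coeff_C_zero], Polynomial.eval₂_C] at h
    have h2 := congrArg (Ideal.Quotient.factor (Ideal.pow_le_self (I := I) one_ne_zero)) h
    exact h2.trans (hs _)
  have hreg : ∀ a, x * a = 0 → a = 0 := fun a ha => (mem_nonZeroDivisors_iff.1 hx).1 a ha
  have hinj : Function.Injective F := by
    rw [injective_iff_map_eq_zero]
    intro f hf
    have key : ∀ n : ℕ, ∀ g, F g = 0 → ∀ i < n, PowerSeries.coeff i g = 0 := by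
      intro n
      induction n with
      | zero => exact fun g _ i hi => absurd hi (Nat.not_lt_zero i)
      | succ n ih =>
        intro g hg i hi
        have h0 : PowerSeries.constantCoeff g = 0 := by rw [← hconst, hg, map_zero]
        obtain ⟨g', rfl⟩ := PowerSeries.X_dvd_iff.2 h0
        cases i with
        | zero => simpa using h0
        | succ i =>
          rw [PowerSeries.coeff_succ_X_mul]
          refine ih g' (hreg _ ?_) i (by omega)
          rw [← hX, ← map_mul, hg]
    exact PowerSeries.ext fun i => by rw [map_zero]; exact key (i + 1) f hf i i.lt_succ_self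
  have hsurj : Function.Surjective F := by
    intro a
    have step : ∀ b : A, ∃ c, b - s (q b) = x * c := fun b => by
      refine Ideal.mem_span_singleton.1 (Ideal.Quotient.eq.1 ?_)
      exact (hs _).symm
    choose c hc using step
    let seq : ℕ → A := fun n => c^[n] a
    let f : PowerSeries B := PowerSeries.mk fun n => q (seq n)
    refine ⟨f, hsep _ _ fun n => ?_⟩
    rw [hF]
    have key : ∀ m, a - (PowerSeries.trunc m f).eval₂ (s : B →+* A) x = x ^ m * seq m := by
      intro m
      induction m with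
      | zero => simp [seq]
      | succ m ih =>
        rw [PowerSeries.trunc_succ, Polynomial.eval₂_add, Polynomial.eval₂_monomial, ← sub_sub, ih,
          show PowerSeries.coeff m f = q (seq m) from PowerSeries.coeff_mk _ _,
          show seq (m + 1) = c (seq m) from Function.iterate_succ_apply' c m a, pow_succ, mul_assoc, ← hc]
        show x ^ m * seq m - s (q (seq m)) * x ^ m = _
        ring
    have h := congrArg (Ideal.Quotient.mk (I ^ n)) (key n)
    rw [map_sub, Polynomial.hom_eval₂, map_mul, map_pow, hxb, zero_mul, sub_eq_zero] at h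
    exact h.symm
  exact ⟨AlgEquiv.ofBijective F ⟨hinj, hsurj⟩, hX, hconst⟩

end Groth.Agent.S15298
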