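import Groth.Statements.S1530
import Groth.Agent.S18840
import Groth.Agent.CurveCohLib.Nonspecial
import Groth.Agent.AmpleVan.Criterion
import Groth.Agent.Lib.Euler
set_option backward.isDefEq.respectTransparency false
set_option backward.isDefEq.respectTransparency.types false

set_option autoImplicit false
universe u
open CategoryTheory CategoryTheory.Limits AlgebraicGeometry
open Variety

namespace Groth.Agent.S1530

/-- On a proper curve over a field, an invertible module is ample if and only if its degree is positive. -/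
theorem result (k : Type u) [Field k] (X : Scheme.{u}) [X.Over (Spec (CommRingCat.of k))]
    [IsIntegral X] [IsProper (X ↘ (Spec (CommRingCat.of k)))] (hdim : topologicalKrullDim X = 1)
    (L : X.Modules) (hL : PicF.IsInvertible L) :
    CohB1.IsAmple L ↔ 0 < Curv2.deg k X L 1 := by
  open Groth.Agent Groth.Agent.CurveBundle Groth.Agent.CurveSlope in
  classical
  refine ⟨fun h => S18840.deg_pos_of_ample k hdim h, fun hpos => ?_⟩
  haveI := CurveCohLib.isNoetherian_of_proper (k := k) (X := X)
  refine AmpleVan.isAmple_of_HH_one hL fun Z _ => ?_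
  let I := (QCoh.vanIdeal Z).toModules
  let ι : I ⟶ Coh.structureModule X := (QCoh.vanIdeal Z).ι
  haveI : Mono ι := inferInstanceAs (Mono (QCoh.vanIdeal Z).ι)
  have hOc : Coh.IsCoh (Coh.structureModule X) := QCoh.isCoh_structureModule'
  have hIc : Coh.IsCoh I := QCoh.isCoh_of_mono ι hOc (QCoh.isQCoh_vanIdeal Z)
  have hQc : Coh.IsCoh (cokernel ι) := QCoh.isCoh_cokernel hIc.1 hOc ι
  have hrk := rk_add_coh k _ _ _ (shortExact_cokernel_of_mono ι) hOc
  rw [rk_eq (InvEnd.isFinLocFreeOfRank_one CurveDeg.isInvertible_structureModule)] at hrk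
  letI := (isField_stalk_generic (X := X)).toField
  by_cases hI0 : rk I = 0
  · haveI := finite_stalk_of_coh hIc (genericPoint X)
    haveI : Subsingleton (I.presheaf.stalk (genericPoint X)) := Module.finrank_zero_iff.1 hI0
    have hz : IsZero I := (IsZero.iff_id_eq_zero I).2 (Scheme.Modules.hom_ext _ _ fun U => by
      ext s
      show s = 0
      by_cases hU : genericPoint X ∈ U
      · apply (QCoh.vanIdeal Z).ι_app_injective U
        refine germ_injective_of_isIntegral (X := X) (genericPoint X) hU ?_
        refine Eq.trans ?_ (congrArg (fun z => X.presheaf.germ U (genericPoint X) hU (QCoh.toFn z))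
          (map_zero ((QCoh.vanIdeal Z).ι.app U).hom).symm)
        refine Eq.trans ?_ (map_zero (X.presheaf.germ U (genericPoint X) hU).hom).symm
        obtain ⟨W, hW, i₁, i₂, hi⟩ := TopCat.Presheaf.germ_eq (C := AddCommGrpCat.{u}) I.presheaf (genericPoint X)
          hU hU s 0 (Subsingleton.elim _ _)
        rw [map_zero] at hi
        have h0 : (Coh.structureModule X).presheaf.map i₁.op ((QCoh.vanIdeal Z).ι.app U s) = 0 := by
          have h1 := ConcreteCategory.congr_hom ((QCoh.vanIdeal Z).ι.mapPresheaf.naturality i₁.op) s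
          refine Eq.trans (Eq.symm h1) ?_
          show (QCoh.vanIdeal Z).ι.app W (I.presheaf.map i₁.op s) = 0
          rw [hi, map_zero]
        show X.presheaf.germ U (genericPoint X) hU (QCoh.toFn ((QCoh.vanIdeal Z).ι.app U s)) = 0
        refine (X.presheaf.germ_res_apply i₁ (genericPoint X) hW _).symm.trans ?_
        exact (congrArg (fun z => X.presheaf.germ W (genericPoint X) hW (QCoh.toFn z)) h0).trans
          (map_zero (X.presheaf.germ W (genericPoint X) hW).hom)
      · apply (QCoh.vanIdeal Z).ι_app_injective U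
        have hbot : U = ⊥ := by
          ext y
          simp only [TopologicalSpace.Opens.coe_bot, Set.mem_empty_iff_false, iff_false]
          exact fun hy => hU (((genericPoint_spec X).mem_open_set_iff U.isOpen).2 ⟨y, trivial, hy⟩)
        subst hbot
        haveI : Subsingleton Γ(X, (⊥ : X.Opens)) := CommRingCat.subsingleton_of_isTerminal X.sheaf.isTerminalOfEmpty
        exact @Subsingleton.elim Γ(X, (⊥ : X.Opens)) _ _ _)
    exact ⟨0, Groth.Agent.Euler.subsingleton_HH_of_isZero
      ((AmpleVan.tw (CohB1.tensorPow L (0 + 1))).map_isZero hz) 1⟩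
  have hQ0 : rk (cokernel ι) = 0 := by omega
  have hQcl : ∀ x ∈ CohB1.support (cokernel ι), IsClosed ({x} : Set X) := fun x hx => by
    by_contra hxc
    obtain rfl := CurveCohLib.eq_genericPoint_of_not_isClosed hdim hxc
    haveI := finite_stalk_of_coh hQc (genericPoint X)
    exact hx (Module.finrank_zero_iff.1 hQ0)
  let q : ℤ := Curv2.euler k X (cokernel ι)
  let n : ℕ := ((Curv2.genus k X : ℤ) - Curv2.euler k X (Coh.structureModule X) + q).toNat
  refine ⟨n, ?_⟩
  obtain ⟨hPi, hPd⟩ := S18840.deg_tensorPow k hdim hL (n + 1)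
  let P := CohB1.tensorPow L (n + 1)
  have hP1 := InvEnd.isFinLocFreeOfRank_one hPi
  have hPf : FlatMod.IsFinLocFree P := fun y => let ⟨W, hy, he⟩ := hP1 y; ⟨W, 1, hy, he⟩
  have hse := CurveTensor.shortExact_tensor hPf _ _ _ (shortExact_cokernel_of_mono ι)
  haveI : Mono ((DCoh.tensorBi.obj P).map ι) := hse.mono_f
  let F := (DCoh.tensorBi.obj P).obj I
  have hFc : Coh.IsCoh F := CurveTensor.isCoh_tensor hPf hIc
  have hadd := euler_add' k _ _ _ hse hFc (CurveTensor.isCoh_tensor hPf hOc) (CurveTensor.isCoh_tensor hPf hQc)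
  rw [Euler.euler_congr k (KFlatLib.tensorUnitIso P), CurveTensor.euler_tensor_torsion k hP1 hQc hQcl] at hadd
  have hdeg : Curv2.euler k X P = ((n : ℤ) + 1) * Curv2.deg k X L 1 + Curv2.euler k X (Coh.structureModule X) := by
    have := hPd
    unfold Curv2.deg at this ⊢
    push_cast at this ⊢
    linarith
  have hbig : (Curv2.genus k X : ℤ) ≤ Curv2.euler k X F := by
    have h1 : (n : ℤ) + 1 ≤ ((n : ℤ) + 1) * Curv2.deg k X L 1 := le_mul_of_one_le_right (by omega) hpos
    have h2 := Int.self_le_toNat ((Curv2.genus k X : ℤ) - Curv2.euler k X (Coh.structureModule X) + q)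
    change Curv2.euler k X P = Curv2.euler k X F + _ at hadd
    push_cast at hadd
    omega
  haveI := CurveCohLib.Nonspecial.h1_of_euler k hdim hFc
    (fun φ hφ => CurveCohLib.Nonspecial.section_of_sub k hFc hPi
      ((DCoh.tensorBi.obj P).map ι ≫ (KFlatLib.tensorUnitIso P).hom) φ hφ) hbig
  obtain ⟨e⟩ : Nonempty (F ≅ CohB1.tensorMod I P) := H23.PicMul.comm P I
  exact (CurveCohLib.hhEquiv (k := k) e 1).symm.injective.subsingleton


end Groth.Agent.S1530
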