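import Groth.Statements.S15311
import Groth.Agent.H6DR.Affine
import Groth.Agent.H6DR.Poincare
import Groth.Agent.S15292

set_option autoImplicit false
universe u
open DeRhamSh

namespace Groth.Agent.S15311

open CategoryTheory AlgebraicGeometry TopologicalSpace in
/-- Let k be a field of characteristic zero and n ≥ 0. Then the algebraic de Rham cohomology of affine
n-space Spec k[x_1, …, x_n] over k, the hypercohomology of its de Rham complex, vanishes in every
degree i ≠ 0, and in degree 0 it is additively isomorphic to k (existence of an additive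
isomorphism; the identification of H^0 with the constants is canonical). (The published computation
also gives the de Rham homology of affine space; this row is the cohomology statement, for any de
Rham complex of affine n-space over k.) -/
theorem result (k : Type u) [Field k] [CharZero k] (n : ℕ)
    [QuasiSeparated (Spec.map (CommRingCat.ofHom (algebraMap k (MvPolynomial (Fin n) k))))]
    (D : DeRhamSh.OmegaCx (Spec.map (CommRingCat.ofHom (algebraMap k (MvPolynomial (Fin n) k)))))
    [HasDerivedCategory.{u} (Sheaf (Opens.grothendieckTopology ↥(Spec (CommRingCat.of (MvPolynomial (Fin n) k)))) AddCommGrpCat.{u})] :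
    (∀ i : ℤ, i ≠ 0 → Subsingleton (DeRhamSh.HdR D i)) ∧ Nonempty (DeRhamSh.HdR D 0 ≃+ k) := by
  let A := MvPolynomial (Fin n) k
  obtain ⟨d, hd'⟩ := H6DR.exists_isDiff_of_cx k A D
  have hd := S15292.result k A d hd'
  refine ⟨fun i hi => ?_, ?_⟩
  · rcases lt_or_ge i 0 with h | h
    · refine subsingleton_of_forall_eq 0 fun φ => ?_
      haveI : CochainComplex.IsStrictlyGE D.KZ 0 := by
        rw [CochainComplex.isStrictlyGE_iff]
        exact fun p hp => D.K.isZero_extend_X _ p fun q hq => by
          have : (q : ℤ) = p := hq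
          omega
      haveI : (DerivedCategory.Q.obj D.KZ).IsGE 0 := inferInstance
      haveI : ((DerivedCategory.Q.obj D.KZ)⟦i⟧).IsGE (-i) :=
        DerivedCategory.TStructure.t.isGE_shift _ 0 i (-i) (by omega)
      exact DerivedCategory.TStructure.t.zero φ 0 (-i) (by omega)
    · obtain ⟨m, rfl⟩ := Int.eq_ofNat_of_zero_le h
      obtain ⟨p, rfl⟩ := Nat.exists_eq_succ_of_ne_zero (show m ≠ 0 by omega)
      obtain ⟨ξ, hs, hk⟩ := H6DR.exists_closed_to_HdR k A D d hd (p + 1)
      refine subsingleton_of_forall_eq 0 fun y => ?_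
      obtain ⟨x, rfl⟩ := hs y
      exact (hk x).2 (H6DR.cocycles_le_coboundaries d hd p x.2)
  · obtain ⟨ξ, hs, hk⟩ := H6DR.exists_closed_to_HdR k A D d hd 0
    let e := exteriorPower.zeroEquiv A (Ω[A⁄k])
    have h1 : d 0 (e.symm 1) = 0 := by
      have hg : e.symm 1 = DeRham.gen (KaehlerDifferential.D k A) 0 1 ![] := e.injective (by
        simp [e, DeRham.gen])
      rw [hg, hd.1, (KaehlerDifferential.D k A).map_one_eq_zero]
      exact AlternatingMap.map_coord_zero _ 0 rfl
    have hC : ∀ a : k, e.symm (MvPolynomial.C a) = a • e.symm 1 := fun a => by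
      rw [← algebraMap_smul A a (e.symm 1), ← map_smul, smul_eq_mul, mul_one]
      rfl
    let ι : k →+ DeRham.cocycles d 0 :=
      { toFun := fun a => ⟨e.symm (MvPolynomial.C a), by
          show d 0 _ = 0
          rw [hC, map_smul, h1, smul_zero]⟩
        map_zero' := Subtype.ext (by simp)
        map_add' := fun a b => Subtype.ext (by simp) }
    refine ⟨(AddEquiv.ofBijective (ξ.comp ι) ⟨?_, ?_⟩).symm⟩
    · refine (injective_iff_map_eq_zero _).2 fun a ha => ?_
      have h2 : e.symm (MvPolynomial.C a) = 0 := (hk (ι a)).1 ha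
      exact MvPolynomial.C_injective _ _ ((e.symm.injective (h2.trans (map_zero _).symm)).trans (map_zero _).symm)
    · intro y
      obtain ⟨x, rfl⟩ := hs y
      obtain ⟨a, ha⟩ := H6DR.exists_of_d_zero d hd x.1 x.2
      exact ⟨a, congrArg ξ (Subtype.ext (e.injective ((e.apply_symm_apply _).trans ha.symm)))⟩

end Groth.Agent.S15311
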