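import Groth.Statements.S15330
import Groth.Agent.HiggsSlope

set_option autoImplicit false
set_option linter.style.haveILetI false
set_option backward.isDefEq.respectTransparency false
set_option backward.isDefEq.respectTransparency.types false
set_option maxHeartbeats 1000000
-- import your own Groth.Agent.* helpers here

set_option autoImplicit false
open CategoryTheory AlgebraicGeometry CategoryTheory.Limits
open VBCurve

namespace Groth.Agent.S15330

open Groth.Agent.CurveBundle Groth.Agent.CurveSlope Groth.Agent.CurveStable Groth.Agent.CurveHiggs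

/-- A subbundle of the slope of a semistable pair is semistable of that slope. -/
theorem sub_ss {X : Scheme.{0}} [X.Over (Spec (CommRingCat.of ℂ))] [IsIntegral X]
    [IsProper (X ↘ Spec (CommRingCat.of ℂ))] [Smooth (X ↘ Spec (CommRingCat.of ℂ))]
    {E G L : X.Modules} (hE0 : 0 < rk E) {φ : E ⟶ (DCoh.tensorBi.obj E).obj L}
    (hss : Groth.Agent.HiggsSlope.IsSS ℂ φ) (i : G ⟶ E) [Mono i] {ψ : G ⟶ (DCoh.tensorBi.obj G).obj L}
    (hψ : ψ ≫ twist L i = i ≫ φ) (hsl : dg ℂ G * (rk E : ℤ) = dg ℂ E * (rk G : ℤ)) :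
    Groth.Agent.HiggsSlope.IsSS ℂ ψ := by
  intro H j χ hj hH hχ
  haveI := hj
  have h := hss H (j ≫ i) χ inferInstance hH (by rw [twist_comp, reassoc_of% hχ, hψ, Category.assoc])
  refine le_of_mul_le_mul_right ?_ (show (0 : ℤ) < rk E by exact_mod_cast hE0)
  have h1 := mul_le_mul_of_nonneg_right h (Int.natCast_nonneg (rk G))
  linear_combination h1 - (rk H : ℤ) * hsl

/-- Let X be a smooth proper integral curve over the complex numbers, L an invertible module on X, and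
(E, φ_E), (F, φ_F) two L-valued Higgs bundles on X of the same rank r ≥ 1 and the same degree d
(degree = χ − rank · χ(O)), each semistable: deg G · r ≤ d · s for every finite locally free
submodule G of rank s ≥ 1 to which the Higgs field restricts. Let E_0 ⊂ E_1 ⊂ … ⊂ E_n = E with E_0 =
0 and F = F_0 ⊃ F_1 ⊃ … ⊃ F_n = 0 be chains of finite locally free submodules to which the Higgs
fields restrict, of ranks with rk E_i + rk F_i = r, which are opposite: E_{i+1}/E_i ≅ F_i/F_{i+1} as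
O-modules for i < n. Then every E_i of positive rank and every F_i of positive rank has slope d/r,
that is deg · r = d · rank, and is semistable for its restricted Higgs field; and each graded piece
E_{i+1}/E_i of positive rank is finite locally free of rank rk E_{i+1} − rk E_i, of slope d/r, and
semistable for every Higgs field on it compatible with that of E_{i+1} along the projection. (The
published statement indexes the second chain so that F_i/F_{i+1} matches E_i/E_{i−1} and takes the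
isomorphisms of graded pieces as Higgs bundles; here they are assumed as O-modules only, together
with the rank bookkeeping rk E_i + rk F_i = r that they imply.) -/
theorem result
    (X : Scheme.{0}) [X.Over (Spec (CommRingCat.of ℂ))] [IsIntegral X]
    [IsProper (X ↘ Spec (CommRingCat.of ℂ))] [Smooth (X ↘ Spec (CommRingCat.of ℂ))]
    (hdim : topologicalKrullDim X = 1)
    (L : X.Modules) (hL : PicF.IsInvertible L) (r : ℕ) (hr : 0 < r) (d : ℤ)
    (E : X.Modules) (hE : FlatMod.IsFinLocFreeOfRank r E) (φE : E ⟶ CohB1.tensorMod E L)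
    (hEd : Curv2.deg ℂ X E r = d)
    (hEss : (∀ (G : X.Modules) (s : ℕ) (j : G ⟶ E) (χ : G ⟶ CohB1.tensorMod G L), Mono j → 0 < s →
        FlatMod.IsFinLocFreeOfRank s G →
        χ ≫ (CohB1.sheafifyMod X).map (MonoidalCategoryStruct.whiskerRight (C := CohB1.PMod X) j.val (CohB1.toPMod L)) = j ≫ φE →
        Curv2.deg ℂ X G s * (r : ℤ) ≤ Curv2.deg ℂ X E r * (s : ℤ)))
    (F : X.Modules) (hF : FlatMod.IsFinLocFreeOfRank r F) (φF : F ⟶ CohB1.tensorMod F L)
    (hFd : Curv2.deg ℂ X F r = d)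
    (hFss : (∀ (G : X.Modules) (s : ℕ) (j : G ⟶ F) (χ : G ⟶ CohB1.tensorMod G L), Mono j → 0 < s →
        FlatMod.IsFinLocFreeOfRank s G →
        χ ≫ (CohB1.sheafifyMod X).map (MonoidalCategoryStruct.whiskerRight (C := CohB1.PMod X) j.val (CohB1.toPMod L)) = j ≫ φF →
        Curv2.deg ℂ X G s * (r : ℤ) ≤ Curv2.deg ℂ X F r * (s : ℤ)))
    (n : ℕ)
    (Es : ℕ → X.Modules) (rE : ℕ → ℕ) (hEs : ∀ i, FlatMod.IsFinLocFreeOfRank (rE i) (Es i))
    (ιE : ∀ i, Es i ⟶ E) (hιE : ∀ i, Mono (ιE i))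
    (ψE : ∀ i, Es i ⟶ CohB1.tensorMod (Es i) L)
    (hψE : ∀ i, ψE i ≫ (CohB1.sheafifyMod X).map (MonoidalCategoryStruct.whiskerRight (C := CohB1.PMod X) (ιE i).val (CohB1.toPMod L)) = ιE i ≫ φE)
    (a : ∀ i, Es i ⟶ Es (i + 1)) (ha : ∀ i, a i ≫ ιE (i + 1) = ιE i)
    (hE0 : IsZero (Es 0)) (hEn : IsIso (ιE n))
    (Fs : ℕ → X.Modules) (rF : ℕ → ℕ) (hFs : ∀ i, FlatMod.IsFinLocFreeOfRank (rF i) (Fs i))
    (ιF : ∀ i, Fs i ⟶ F) (hιF : ∀ i, Mono (ιF i))
    (ψF : ∀ i, Fs i ⟶ CohB1.tensorMod (Fs i) L)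
    (hψF : ∀ i, ψF i ≫ (CohB1.sheafifyMod X).map (MonoidalCategoryStruct.whiskerRight (C := CohB1.PMod X) (ιF i).val (CohB1.toPMod L)) = ιF i ≫ φF)
    (b : ∀ i, Fs (i + 1) ⟶ Fs i) (hb : ∀ i, b i ≫ ιF i = ιF (i + 1))
    (hF0 : IsIso (ιF 0)) (hFn : IsZero (Fs n))
    (hrk : ∀ i, i ≤ n → rE i + rF i = r)
    (hopp : ∀ i, i < n → Nonempty (cokernel (a i) ≅ cokernel (b i))) :
    (∀ i, i ≤ n → 0 < rE i →
      Curv2.deg ℂ X (Es i) (rE i) * (r : ℤ) = d * (rE i : ℤ) ∧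
      (∀ (G : X.Modules) (s : ℕ) (j : G ⟶ (Es i)) (χ : G ⟶ CohB1.tensorMod G L), Mono j → 0 < s →
        FlatMod.IsFinLocFreeOfRank s G →
        χ ≫ (CohB1.sheafifyMod X).map (MonoidalCategoryStruct.whiskerRight (C := CohB1.PMod X) j.val (CohB1.toPMod L)) = j ≫ ψE i →
        Curv2.deg ℂ X G s * (rE i : ℤ) ≤ Curv2.deg ℂ X (Es i) (rE i) * (s : ℤ))) ∧
    (∀ i, i ≤ n → 0 < rF i →
      Curv2.deg ℂ X (Fs i) (rF i) * (r : ℤ) = d * (rF i : ℤ) ∧
      (∀ (G : X.Modules) (s : ℕ) (j : G ⟶ (Fs i)) (χ : G ⟶ CohB1.tensorMod G L), Mono j → 0 < s →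
        FlatMod.IsFinLocFreeOfRank s G →
        χ ≫ (CohB1.sheafifyMod X).map (MonoidalCategoryStruct.whiskerRight (C := CohB1.PMod X) j.val (CohB1.toPMod L)) = j ≫ ψF i →
        Curv2.deg ℂ X G s * (rF i : ℤ) ≤ Curv2.deg ℂ X (Fs i) (rF i) * (s : ℤ))) ∧
    (∀ i, i < n → rE i < rE (i + 1) →
      FlatMod.IsFinLocFreeOfRank (rE (i + 1) - rE i) (cokernel (a i)) ∧
      Curv2.deg ℂ X (cokernel (a i)) (rE (i + 1) - rE i) * (r : ℤ) = d * ((rE (i + 1) - rE i : ℕ) : ℤ) ∧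
      ∀ (φ' : cokernel (a i) ⟶ CohB1.tensorMod (cokernel (a i)) L),
        cokernel.π (a i) ≫ φ' = ψE (i + 1) ≫ (CohB1.sheafifyMod X).map (MonoidalCategoryStruct.whiskerRight (C := CohB1.PMod X) (cokernel.π (a i)).val (CohB1.toPMod L)) →
        (∀ (G : X.Modules) (s : ℕ) (j : G ⟶ cokernel (a i)) (χ : G ⟶ CohB1.tensorMod G L), Mono j → 0 < s →
        FlatMod.IsFinLocFreeOfRank s G →
        χ ≫ (CohB1.sheafifyMod X).map (MonoidalCategoryStruct.whiskerRight (C := CohB1.PMod X) j.val (CohB1.toPMod L)) = j ≫ φ' →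
        Curv2.deg ℂ X G s * ((rE (i + 1) - rE i : ℕ) : ℤ) ≤ Curv2.deg ℂ X (cokernel (a i)) (rE (i + 1) - rE i) * (s : ℤ))) := by
  haveI := Groth.Agent.CurveCohLib.isNoetherian_of_proper (k := ℂ) (X := X)
  haveI := hιE
  haveI := hιF
  have hEf := isFinLocFree_of_rank hE
  have hFf := isFinLocFree_of_rank hF
  have hLf := isFinLocFree_of_rank (Groth.Agent.InvEnd.isFinLocFreeOfRank_one hL)
  have hSE : Groth.Agent.HiggsSlope.IsSS ℂ φE := (Groth.Agent.HiggsSlope.isSS_iff ℂ hE φE).2 hEss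
  have hSF : Groth.Agent.HiggsSlope.IsSS ℂ φF := (Groth.Agent.HiggsSlope.isSS_iff ℂ hF φF).2 hFss
  have hdE : dg ℂ E = d := by rw [← deg_eq_dg ℂ hE, hEd]
  have hdF : dg ℂ F = d := by rw [← deg_eq_dg ℂ hF, hFd]
  have hrE0 : 0 < rk E := by rw [rk_eq hE]; exact hr
  have hrF0 : 0 < rk F := by rw [rk_eq hF]; exact hr
  have hEc : ∀ i, Coh.IsCoh (Es i) := fun i => coh_of_free ℂ (isFinLocFree_of_rank (hEs i))
  have hFc : ∀ i, Coh.IsCoh (Fs i) := fun i => coh_of_free ℂ (isFinLocFree_of_rank (hFs i))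
  have hEle : ∀ i, dg ℂ (Es i) * (r : ℤ) ≤ d * (rE i : ℤ) := fun i => by
    have := hSE (Es i) (ιE i) (ψE i) (hιE i) (isFinLocFree_of_rank (hEs i)) (hψE i)
    rwa [rk_eq hE, rk_eq (hEs i), hdE] at this
  have hFle : ∀ i, dg ℂ (Fs i) * (r : ℤ) ≤ d * (rF i : ℤ) := fun i => by
    have := hSF (Fs i) (ιF i) (ψF i) (hιF i) (isFinLocFree_of_rank (hFs i)) (hψF i)
    rwa [rk_eq hF, rk_eq (hFs i), hdF] at this
  haveI hma : ∀ i, Mono (a i) := fun i => by
    haveI : Mono (a i ≫ ιE (i + 1)) := by rw [ha i]; infer_instance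
    exact mono_of_mono (a i) (ιE (i + 1))
  haveI hmb : ∀ i, Mono (b i) := fun i => by
    haveI : Mono (b i ≫ ιF i) := by rw [hb i]; infer_instance
    exact mono_of_mono (b i) (ιF i)
  have hsum : ∀ i, i ≤ n → dg ℂ (Es i) + dg ℂ (Fs i) = d := by
    intro i
    induction i with
    | zero => intro _; rw [dg_eq_zero_of_isZero ℂ hE0, dg_congr ℂ (asIso (ιF 0)), hdF, zero_add]
    | succ i ih =>
      intro hi
      obtain ⟨e⟩ := hopp i (by omega)
      have h1 := dg_add ℂ _ _ _ (shortExact_cokernel_of_mono (a i)) (hEc i) (hEc (i + 1))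
        (Groth.Agent.QCoh.isCoh_cokernel (hEc i).1 (hEc (i + 1)) (a i))
      have h2 := dg_add ℂ _ _ _ (shortExact_cokernel_of_mono (b i)) (hFc (i + 1)) (hFc i)
        (Groth.Agent.QCoh.isCoh_cokernel (hFc (i + 1)).1 (hFc i) (b i))
      have h3 := dg_congr ℂ e
      have h4 := ih (by omega)
      linarith
  have hEeq : ∀ i, i ≤ n → dg ℂ (Es i) * (r : ℤ) = d * (rE i : ℤ) := fun i hi => by
    have h1 := hEle i
    have h2 := hFle i
    have h3 := hsum i hi
    have h4 : (rE i : ℤ) + rF i = r := by exact_mod_cast hrk i hi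
    refine le_antisymm h1 ?_
    linear_combination h2 + d * h4 - (r : ℤ) * h3
  have hFeq : ∀ i, i ≤ n → dg ℂ (Fs i) * (r : ℤ) = d * (rF i : ℤ) := fun i hi => by
    have h1 := hEeq i hi
    have h3 := hsum i hi
    have h4 : (rE i : ℤ) + rF i = r := by exact_mod_cast hrk i hi
    linear_combination (r : ℤ) * h3 - h1 - d * h4
  have hEsl : ∀ i, i ≤ n → dg ℂ (Es i) * (rk E : ℤ) = dg ℂ E * (rk (Es i) : ℤ) := fun i hi => by
    rw [rk_eq hE, rk_eq (hEs i), hdE]; exact hEeq i hi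
  have hEssi : ∀ i, i ≤ n → Groth.Agent.HiggsSlope.IsSS ℂ (ψE i) := fun i hi =>
    sub_ss hrE0 hSE (ιE i) (hψE i) (hEsl i hi)
  have hFssi : ∀ i, i ≤ n → Groth.Agent.HiggsSlope.IsSS ℂ (ψF i) := fun i hi =>
    sub_ss hrF0 hSF (ιF i) (hψF i) (by rw [rk_eq hF, rk_eq (hFs i), hdF]; exact hFeq i hi)
  refine ⟨fun i hi _ => ⟨?_, (Groth.Agent.HiggsSlope.isSS_iff ℂ (hEs i) (ψE i)).1 (hEssi i hi)⟩,
    fun i hi _ => ⟨?_, (Groth.Agent.HiggsSlope.isSS_iff ℂ (hFs i) (ψF i)).1 (hFssi i hi)⟩, fun i hi hlt => ?_⟩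
  · rw [deg_eq_dg ℂ (hEs i)]; exact hEeq i hi
  · rw [deg_eq_dg ℂ (hFs i)]; exact hFeq i hi
  have hmt : Mono (twist L (ιE (i + 1))) := mono_twist hLf (ιE (i + 1))
  have hinv : ψE i ≫ twist L (a i) = a i ≫ ψE (i + 1) := by
    haveI := hmt
    rw [← cancel_mono (twist L (ιE (i + 1))), Category.assoc, Category.assoc, ← twist_comp, ha i]
    refine (hψE i).trans ?_
    rw [show ψE (i + 1) ≫ twist L (ιE (i + 1)) = ιE (i + 1) ≫ φE from hψE (i + 1), reassoc_of% ha i]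
  have hpos : 0 < rk (Es (i + 1)) := by rw [rk_eq (hEs (i + 1))]; omega
  have hsl : dg ℂ (Es i) * (rk (Es (i + 1)) : ℤ) = dg ℂ (Es (i + 1)) * (rk (Es i) : ℤ) := by
    rw [rk_eq (hEs i), rk_eq (hEs (i + 1))]
    refine mul_right_cancel₀ (b := (r : ℤ)) (by exact_mod_cast hr.ne') ?_
    linear_combination (rE (i + 1) : ℤ) * hEeq i (by omega) - (rE i : ℤ) * hEeq (i + 1) (by omega)
  have hEi := isFinLocFree_of_rank (hEs i)
  have hEi1 := isFinLocFree_of_rank (hEs (i + 1))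
  have hQ := Groth.Agent.HiggsSlope.isFinLocFree_cokernel ℂ hdim hLf hL hEi1 hEi hpos (hEssi (i + 1) hi)
    (a i) (ψE i) hinv hsl
  have h1 := rk_add_coh ℂ _ _ _ (shortExact_cokernel_of_mono (a i)) (hEc (i + 1))
  rw [rk_eq (hEs i), rk_eq (hEs (i + 1))] at h1
  have hQr : FlatMod.IsFinLocFreeOfRank (rE (i + 1) - rE i) (cokernel (a i)) := by
    have h := isFinLocFreeOfRank_rk hQ
    rwa [show rk (cokernel (a i)) = rE (i + 1) - rE i by omega] at h
  refine ⟨hQr, ?_, fun φ' hφ' => (Groth.Agent.HiggsSlope.isSS_iff ℂ hQr φ').1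
    (Groth.Agent.HiggsSlope.isSS_cokernel ℂ hdim hLf hEi1 hEi hpos (hEssi (i + 1) hi) (a i) hsl hQ hφ')⟩
  have h2 := dg_add ℂ _ _ _ (shortExact_cokernel_of_mono (a i)) (hEc i) (hEc (i + 1)) (coh_of_free ℂ hQ)
  rw [deg_eq_dg ℂ hQr, Nat.cast_sub hlt.le]
  linear_combination hEeq (i + 1) (by omega) - hEeq i (by omega) - (r : ℤ) * h2

end Groth.Agent.S15330
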