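import Groth.Statements.S15343
import Groth.Agent.WeilFin.Isotrivial
import Groth.Agent.SchTorsor.Props
import Groth.Agent.EtFound.Descent
import Groth.Agent.UnramMisc.QFSmooth
import Groth.Agent.S0353

set_option linter.style.haveILetI false
set_option backward.isDefEq.respectTransparency false
set_option backward.isDefEq.respectTransparency.types false
set_option maxHeartbeats 1000000

set_option autoImplicit false
universe u
open CategoryTheory CategoryTheory.Limits AlgebraicGeometry
open VBCurve

namespace Groth.Agent.S15343

/-- Let X be a smooth proper integral curve (integral, smooth and proper of dimension one) over an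
algebraically closed field k of characteristic zero, G a finite group scheme over k and j : P → X a
torsor (fppf-locally trivial) under the X-group scheme G ×_k X. If E is a finite locally free
O_X-module of rank r with j^*E ≅ O_P^{⊕ r}, then E is finite in the sense of Weil: there are
distinct polynomials P' ≠ Q' with natural-number coefficients and P'(E) ≅ Q'(E), P'(E) being the
direct sum over i of P'_i copies of E^{⊗ i}. (The published statement says that in characteristic
zero an essentially finite bundle is finite; this row takes as hypothesis the characterisation of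
essentially finite bundles as those trivialised by a torsor under a finite group scheme.) -/
theorem result (k : Type u) [Field k] [IsAlgClosed k] (X : Scheme.{u}) [X.Over (Spec (CommRingCat.of k))]
    [IsIntegral X] [IsProper (X ↘ Spec (CommRingCat.of k))] [Smooth (X ↘ Spec (CommRingCat.of k))]
    (hdim : topologicalKrullDim X = 1) [CharZero k]
    (G : Scheme.{u}) [G.Over (Spec (CommRingCat.of k))] [GrpObj (G.asOver (Spec (CommRingCat.of k)))]
    [IsFinite (G ↘ Spec (CommRingCat.of k))]
    (P : Over X) (a : AlgGrp.Action (Red.bc (X ↘ Spec (CommRingCat.of k)) (G.asOver (Spec (CommRingCat.of k)))) P)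
    (hP : NonAbH1.IsTorsorFor Scheme.fppfPrecoverage a)
    (r : ℕ) (E : X.Modules) (hE : FlatMod.IsFinLocFreeOfRank r E)
    (htriv : Nonempty ((Scheme.Modules.pullback P.hom).obj E ≅ FlatMod.freeMod P.left r)) :
    ∃ P' Q' : Polynomial ℕ, P' ≠ Q' ∧ Nonempty ((∐ fun i : Fin (P'.natDegree + 1) => ∐ fun _ : Fin (P'.coeff ↑i) => CohB1.tensorPow E ↑i) ≅
      (∐ fun i : Fin (Q'.natDegree + 1) => ∐ fun _ : Fin (Q'.coeff ↑i) => CohB1.tensorPow E ↑i)) := by
  let G₀ := G.asOver (Spec (CommRingCat.of k))
  haveI : IsFinite G₀.hom := ‹IsFinite (G ↘ Spec (CommRingCat.of k))›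
  haveI : Smooth G₀.hom := S0353.result k G₀
  haveI : Etale G₀.hom := UnramMisc.etale_of_smooth_of_locallyQuasiFinite G₀.hom
  have h' : NonAbH1.IsTorsorFor Scheme.fpqcPrecoverage a :=
    ⟨hP.1, hP.2.choose, Scheme.fppfPrecoverage_le_fpqcPrecoverage _ hP.2.choose_spec.1, hP.2.choose_spec.2⟩
  haveI := EtFound.fpqc_isFinite.{u}
  haveI : IsFinite P.hom := SchTorsor.torsor_property @IsFinite h' (MorphismProperty.pullback_snd _ _ ‹IsFinite G₀.hom›)
  haveI : Etale P.hom := SchTorsor.torsor_property @Etale h' (MorphismProperty.pullback_snd _ _ ‹Etale G₀.hom›)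
  haveI : Surjective P.hom := SchTorsor.surjective_hom h'
  rw [WeilFin.isWeil_iff]
  exact WeilFin.isWeil_of_trivial_pullback k P.hom (KZ.CycleClass.isFinLocFree_of_rank hE) htriv.some

end Groth.Agent.S15343
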