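import Groth.Statements.S15350
-- import your own Groth.Agent.* helpers here
import Groth.Agent.H4SmComp.Open

set_option autoImplicit false
set_option linter.style.haveILetI false
set_option backward.isDefEq.respectTransparency false
set_option backward.isDefEq.respectTransparency.types false
universe u
open CategoryTheory CategoryTheory.Limits AlgebraicGeometry
open MoreMor

namespace Groth.Agent.S15350

/-- Let f : X ⟶ S be smooth, quasi-compact and quasi-separated, let g : S' ⟶ S be universally open and
let e : S' ⟶ X satisfy e ≫ f = g. Then there is an open subset U of X (necessarily unique) such that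
for every point s of S, U ∩ f⁻¹(s) is the union of those connected components of the fibre f⁻¹(s),
with its subspace topology, which meet e(S'). -/
theorem result {S S' X : Scheme.{u}} (f : X ⟶ S)
    [Smooth f] [QuasiCompact f] [QuasiSeparated f] (g : S' ⟶ S) [UniversallyOpen g] (e : S' ⟶ X)
    (he : e ≫ f = g) :
    ∃ U : X.Opens, ∀ s : S, (U : Set ↥X) ∩ f.base ⁻¹' {s} =
      ⋃ x ∈ Set.range e.base ∩ f.base ⁻¹' {s}, connectedComponentIn (f.base ⁻¹' {s}) x := by
  let σ : S' ⟶ pullback f g := pullback.lift e (𝟙 S') (he.trans (Category.id_comp g).symm)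
  have hσ : σ ≫ pullback.snd f g = 𝟙 S' := pullback.lift_snd _ _ _
  let q : pullback f g ⟶ pullback f f :=
    pullback.lift (pullback.fst f g) (pullback.snd f g ≫ e) (by rw [Category.assoc, he, pullback.condition])
  have hq : IsPullback q (pullback.snd f g) (pullback.snd f f) e := by
    refine IsPullback.of_right ?_ (pullback.lift_snd _ _ _) (IsPullback.of_hasPullback f f)
    rw [pullback.lift_fst, he]
    exact IsPullback.of_hasPullback f g
  have hpre : MoreMor.sectionComponents (pullback.snd f g) σ = q ⁻¹' H4SmComp.Comp f :=
    S1324.result (pullback.snd f f) (pullback.diagonal f) (pullback.diagonal_snd f)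
      (pullback.snd f g) q e hq σ hσ (by
        apply pullback.hom_ext
        · simp [q, σ]
        · rw [Category.assoc, Category.assoc, pullback.lift_snd, reassoc_of% hσ, pullback.diagonal_snd,
            Category.comp_id])
  have hopen : IsOpen (pullback.fst f g '' MoreMor.sectionComponents (pullback.snd f g) σ) := by
    rw [hpre]
    haveI : UniversallyOpen (pullback.fst f g) := MorphismProperty.pullback_fst _ _ inferInstance
    exact (pullback.fst f g).isOpenMap _ ((H4SmComp.isOpen_comp f).preimage q.continuous)
  refine ⟨⟨_, hopen⟩, fun s => Set.ext fun y => ⟨?_, ?_⟩⟩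
  · rintro ⟨⟨w, hw, rfl⟩, hy⟩
    let s' := pullback.snd f g w
    have hfy : ∀ v, f (pullback.fst f g v) = g (pullback.snd f g v) := fun v => by
      rw [← Scheme.Hom.comp_apply, pullback.condition, Scheme.Hom.comp_apply]
    have hgs : g s' = s := (hfy w).symm.trans hy
    have hw' : w ∈ connectedComponentIn ((pullback.snd f g).base ⁻¹' {s'}) (σ s') := hw
    have hmem : σ s' ∈ (pullback.snd f g).base ⁻¹' {s'} := by
      show pullback.snd f g (σ s') = s'
      rw [← Scheme.Hom.comp_apply, hσ]
      rfl
    refine Set.mem_iUnion₂.2 ⟨e s', ⟨⟨s', rfl⟩, ?_⟩, ?_⟩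
    · show f (e s') = s
      rw [← Scheme.Hom.comp_apply, he, hgs]
    · have hsub := ((isPreconnected_connectedComponentIn (F := (pullback.snd f g).base ⁻¹' {s'}) (x := σ s')).image (pullback.fst f g)
        (pullback.fst f g).continuous.continuousOn).subset_connectedComponentIn
        (F := f.base ⁻¹' {s}) (x := e s') ?_ ?_
      · exact hsub ⟨w, hw', rfl⟩
      · exact ⟨σ s', mem_connectedComponentIn hmem, by rw [← Scheme.Hom.comp_apply, pullback.lift_fst]⟩
      · rintro _ ⟨v, hv, rfl⟩
        have hv' : pullback.snd f g v = s' := (connectedComponentIn_subset _ _ hv : _)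
        show f (pullback.fst f g v) = s
        rw [hfy, hv', hgs]
  · intro hy
    obtain ⟨x, ⟨⟨s', rfl⟩, hx⟩, hy⟩ := Set.mem_iUnion₂.1 hy
    refine ⟨?_, connectedComponentIn_subset _ _ hy⟩
    have hgs : g s' = s := by
      rw [← he, Scheme.Hom.comp_apply]
      exact hx
    exact H4SmComp.subset_image_fibre f g e he s' (by rw [hgs]; exact hy)

end Groth.Agent.S15350
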