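import Groth.Statements.S15356
import Groth.Agent.AlgStLib.MonoLift
import Groth.Agent.AlgStLib.SpProps
import Groth.Agent.AlgSpLib.LocalBaseTop
import Groth.Agent.AlgSpLib.ImmDesc
import Groth.Agent.AlgSpPts.SepDescent
import Groth.Agent.AlgSpPts.Misc
import Groth.Agent.S15348

set_option backward.isDefEq.respectTransparency false
set_option backward.isDefEq.respectTransparency.types false
set_option linter.style.haveILetI false
-- import your own Groth.Agent.* helpers here

set_option autoImplicit false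
universe u
open CategoryTheory AlgebraicGeometry
open AlgSt

namespace Groth.Agent.S15356

/-- Let S be a scheme, 𝒳 a locally Noetherian algebraic stack over S and f : 𝒴 ⟶ 𝒳 a morphism of
algebraic stacks over S which is representable by algebraic spaces and locally of finite
presentation. Assume: f is a monomorphism; for every discrete valuation ring A with fraction field K
and residue field k and every morphism a : Spec A ⟶ 𝒳 whose restrictions to Spec K and to Spec k
both lift to 𝒴 up to 2-isomorphism, a lifts to 𝒴 up to 2-isomorphism; and for every integral domain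
A and every a : Spec A ⟶ 𝒳 whose restrictions to the points of a dense subset of Spec A (through
their residue fields) lift to 𝒴, the restriction of a to some nonempty open subscheme of Spec A
lifts to 𝒴. Then f is a quasi-compact immersion: for every scheme U and every U-valued object of 𝒳
the 2-fibre product (Sch/U) ×_𝒳 𝒴 is an algebraic space whose morphism to U is representable by
schemes and a quasi-compact immersion after every base change. (The published statement takes all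
algebraic stacks and algebraic spaces quasi-separated; this row does not assume that.) -/
theorem result (S : Scheme.{u})
    (𝒳 𝒴 : AlgSt.Cat S) (h𝒳 : AlgSt.IsAlgStack Scheme.fppfPrecoverage 𝒳)
    (h𝒴 : AlgSt.IsAlgStack Scheme.fppfPrecoverage 𝒴)
    (hnoeth : AlgSt.SmoothLocally (fun X => IsLocallyNoetherian X) 𝒳) (f : 𝒴 ⥤ᵇ 𝒳)
    (hrep : AlgSt.RepByAlgSp1 f) (hlfp : AlgSt.RepByAlgSpWith (AlgSp.LocP @LocallyOfFinitePresentation) f)
    (ha : AlgSt.IsMono f)
    (hb : ∀ (A : Type u) [CommRing A] [IsDomain A] [IsDiscreteValuationRing A] (K : Type u) [Field K] [Algebra A K]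
      [IsFractionRing A K] (sA : Spec (CommRingCat.of A) ⟶ S) (a : FibCat.overCat (Over.mk sA) ⥤ᵇ 𝒳),
      (∃ yK : FibCat.overCat (Over.mk (Spec.map (CommRingCat.ofHom (algebraMap A K)) ≫ sA)) ⥤ᵇ 𝒴,
          Nonempty (BasedFunctor.comp yK f ≅ BasedFunctor.comp (AlgSt.overMap (Over.homMk (Spec.map (CommRingCat.ofHom (algebraMap A K))) rfl : Over.mk ((Spec.map (CommRingCat.ofHom (algebraMap A K))) ≫ sA) ⟶ Over.mk sA)) a)) →
      (∃ yk : FibCat.overCat (Over.mk (Spec.map (CommRingCat.ofHom (IsLocalRing.residue A)) ≫ sA)) ⥤ᵇ 𝒴,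
          Nonempty (BasedFunctor.comp yk f ≅ BasedFunctor.comp (AlgSt.overMap (Over.homMk (Spec.map (CommRingCat.ofHom (IsLocalRing.residue A))) rfl : Over.mk ((Spec.map (CommRingCat.ofHom (IsLocalRing.residue A))) ≫ sA) ⟶ Over.mk sA)) a)) →
      ∃ y : FibCat.overCat (Over.mk sA) ⥤ᵇ 𝒴, Nonempty (BasedFunctor.comp y f ≅ a))
    (hc : ∀ (A : Type u) [CommRing A] [IsDomain A] (sA : Spec (CommRingCat.of A) ⟶ S)
      (a : FibCat.overCat (Over.mk sA) ⥤ᵇ 𝒳) (D : Set ↥(Spec (CommRingCat.of A))), Dense D →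
      (∀ p ∈ D, ∃ yp : FibCat.overCat (Over.mk ((Spec (CommRingCat.of A)).fromSpecResidueField p ≫ sA)) ⥤ᵇ 𝒴,
          Nonempty (BasedFunctor.comp yp f ≅ BasedFunctor.comp (AlgSt.overMap (Over.homMk ((Spec (CommRingCat.of A)).fromSpecResidueField p) rfl : Over.mk (((Spec (CommRingCat.of A)).fromSpecResidueField p) ≫ sA) ⟶ Over.mk sA)) a)) →
      ∃ U : (Spec (CommRingCat.of A)).Opens, (U : Set ↥(Spec (CommRingCat.of A))).Nonempty ∧
        ∃ yU : FibCat.overCat (Over.mk (U.ι ≫ sA)) ⥤ᵇ 𝒴,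
          Nonempty (BasedFunctor.comp yU f ≅ BasedFunctor.comp (AlgSt.overMap (Over.homMk (U.ι) rfl : Over.mk ((U.ι) ≫ sA) ⟶ Over.mk sA)) a)) :
    AlgSt.RepByAlgSpWith (AlgSp.RepWith (@IsImmersion ⊓ @QuasiCompact)) f := by
  obtain ⟨U, x, hx, hx'⟩ := id h𝒳.atlas
  haveI : IsLocallyNoetherian U.left := hnoeth U x hx
  obtain ⟨M⟩ := Groth.Agent.AlgStLib.exists_monoModel x ha hlfp
  haveI := M.mono
  haveI := M.lfp
  haveI hq : QuasiCompact M.r.left := Groth.Agent.S15349.result M.r.left (M.denseLift hc)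
  have hi : IsImmersion M.r.left := Groth.Agent.S15348.result M.r.left (fun V hR hl => by
    obtain ⟨R, K, i₁, i₂, w⟩ := V
    haveI := hR
    obtain ⟨l₀, hl₀⟩ := hl
    let sR : Over.mk (i₂ ≫ U.hom) ⟶ U := Over.homMk i₂ rfl
    let k : Over.mk (Spec.map (CommRingCat.ofHom (algebraMap R K)) ≫ i₂ ≫ U.hom) ⟶ Over.mk (i₂ ≫ U.hom) :=
      Over.homMk (Spec.map (CommRingCat.ofHom (algebraMap R K))) rfl
    let k₀ : Over.mk (Spec.map (CommRingCat.ofHom (IsLocalRing.residue R)) ≫ i₂ ≫ U.hom) ⟶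
        Over.mk (i₂ ≫ U.hom) := Over.homMk (Spec.map (CommRingCat.ofHom (IsLocalRing.residue R))) rfl
    let q : Over.mk (Spec.map (CommRingCat.ofHom (algebraMap R K)) ≫ i₂ ≫ U.hom) ⟶ M.Q :=
      Over.homMk i₁ (by
        show i₁ ≫ M.Q.hom = Spec.map (CommRingCat.ofHom (algebraMap R K)) ≫ i₂ ≫ U.hom
        rw [← Over.w M.r, ← Category.assoc, w.w, Category.assoc])
    let q₀ : Over.mk (Spec.map (CommRingCat.ofHom (IsLocalRing.residue R)) ≫ i₂ ≫ U.hom) ⟶ M.Q :=
      Over.homMk l₀ (by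
        show l₀ ≫ M.Q.hom = Spec.map (CommRingCat.ofHom (IsLocalRing.residue R)) ≫ i₂ ≫ U.hom
        rw [← Over.w M.r, ← Category.assoc, hl₀, Category.assoc])
    obtain ⟨zK, ⟨iK⟩⟩ := M.exists_lift q (s := k ≫ sR) w.w
    obtain ⟨zk, ⟨ik⟩⟩ := M.exists_lift q₀ (s := k₀ ≫ sR) hl₀
    obtain ⟨z, ⟨i⟩⟩ := hb R K (i₂ ≫ U.hom) (BasedFunctor.comp (AlgSt.overMap sR) x)
      ⟨zK, ⟨iK ≪≫ Groth.Agent.FibBase.whiskerRightIso
        (Groth.Agent.AlgStLib.overMapCompIso k sR).symm x⟩⟩
      ⟨zk, ⟨ik ≪≫ Groth.Agent.FibBase.whiskerRightIso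
        (Groth.Agent.AlgStLib.overMapCompIso k₀ sR).symm x⟩⟩
    obtain ⟨l, hl'⟩ := M.exists_pt sR z i
    exact ⟨⟨{ l := l
              fac_left := by
                rw [← cancel_mono M.r.left, Category.assoc]
                exact ((congrArg (fun m => Spec.map (CommRingCat.ofHom (algebraMap R K)) ≫ m) hl').trans w.w.symm)
              fac_right := hl' }⟩⟩) (M.denseLift hc)
  have hP : (AlgSp.RepWith (S := S) @IsImmersion ⊓ AlgSp.IsQuasiCompactMor)
      (AlgSt.spMapOfOver (BasedFunctor.comp M.e (FibCat.fpFst x f))) := by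
    rw [M.spMap_eq]
    exact ⟨Groth.Agent.AlgSpLib.repWith_comp (Groth.Agent.AlgSpLib.repWith_of_isIso @IsImmersion M.φ.inv)
      ((AlgSp.repWith_yon_map_iff _ M.r).2 hi),
      Groth.Agent.AlgSpPts.isQuasiCompactMor_of_repWith (Groth.Agent.AlgSpLib.repWith_comp
        (Groth.Agent.AlgSpLib.repWith_of_isIso @QuasiCompact M.φ.inv)
        ((AlgSp.repWith_yon_map_iff _ M.r).2 hq))⟩
  refine Groth.Agent.AlgStLib.repByAlgSpWith_mono (P := AlgSp.RepWith @IsImmersion ⊓ AlgSp.IsQuasiCompactMor)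
    (fun F G g hg =>
    (Groth.Agent.AlgSpLib.repWith_inf_iff g).2 ⟨hg.1, Groth.Agent.AlgSpPts.repWith_quasiCompact hg.1.1 hg.2⟩) ?_
  exact Groth.Agent.AlgStLib.repByAlgSpWith_of_atlas_model
    (Groth.Agent.AlgStLib.stableBC_inf Groth.Agent.AlgStLib.stableBC_of
      Groth.Agent.AlgStLib.stableBC_isQuasiCompactMor)
    (Groth.Agent.AlgStLib.isLocalOnBase_inf Groth.Agent.AlgSpLib.isLocalOnBase_fppf_isImmersion
      (Groth.Agent.AlgStLib.isLocalOnBase_fppf_of_fpqc Groth.Agent.AlgSpLib.isLocalOnBase_fpqc_isQuasiCompactMor))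
    hrep hx hx' M.F M.e M.he hP

end Groth.Agent.S15356
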