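import Groth.Statements.S15362
import Groth.Agent.SigmaLinLib.AlgClosed
import Groth.Agent.SigmaLinLib.Basic
import Mathlib

set_option autoImplicit false
universe u v w
open CAlg

namespace Groth.Agent.S15362

/-- For an algebraically closed field L of characteristic p > 0, a commutative L-algebra R integral over
L, and a finitely presented R-module M carrying an additive endomorphism φ with φ(r·m) = r^p·φ(m)
for r ∈ R, m ∈ M, the map m ↦ φ(m) − m is onto. (R is taken of exponential characteristic p so that
its Frobenius is a ring endomorphism; for a non-zero L-algebra this is automatic.) -/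
theorem result (p : ℕ) [Fact p.Prime]
    (L : Type u) [Field L] [IsAlgClosed L] [CharP L p]
    (R : Type v) [CommRing R] [Algebra L R] [Algebra.IsIntegral L R] [ExpChar R p]
    (M : Type w) [AddCommGroup M] [Module R M] [Module.FinitePresentation R M]
    (φ : M →ₛₗ[frobenius R p] M) :
    Function.Surjective fun m : M => φ m - m := by
  classical
  letI : Module L M := Module.compHom M (algebraMap L R)
  haveI : IsScalarTower L R M := ⟨fun c r z => by rw [Algebra.smul_def, mul_smul]; rfl⟩
  intro m0
  obtain ⟨n, e, he⟩ := Module.Finite.exists_fin (R := R) (M := M)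
  have hc : ∀ x : M, ∃ a : Fin n → R, ∑ i, a i • e i = x := fun x =>
    (Submodule.mem_span_range_iff_exists_fun R).1 (he ▸ Submodule.mem_top)
  choose a ha using fun i => hc (φ (e i))
  obtain ⟨c, hc0⟩ := hc m0
  let T : Finset R := (Finset.univ.image fun ij : Fin n × Fin n => a ij.1 ij.2) ∪ Finset.univ.image c
  let R₀ : Subalgebra L R := Algebra.adjoin L (T : Set R)
  haveI : Module.Finite L R₀ :=
    Module.Finite.iff_fg.mpr (fg_adjoin_of_finite T.finite_toSet fun x _ => Algebra.IsIntegral.isIntegral x)
  let Φ : (Fin n → R₀) →ₗ[L] M :=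
    { toFun := fun r => ∑ i, (r i : R) • e i
      map_add' := fun r s => by simp [add_smul, Finset.sum_add_distrib]
      map_smul' := fun l r => by simp [Finset.smul_sum, smul_assoc] }
  let V : Submodule L M := LinearMap.range Φ
  have hφV : ∀ v ∈ V, φ v ∈ V := by
    rintro _ ⟨r, rfl⟩
    refine ⟨fun j => ⟨∑ i, (r i : R) ^ p * a i j, ?_⟩, ?_⟩
    · exact Subalgebra.sum_mem _ fun i _ => mul_mem (pow_mem (r i).2 p) (Algebra.subset_adjoin
        (Finset.mem_coe.2 (Finset.mem_union_left _ (Finset.mem_image.2 ⟨(i, j), Finset.mem_univ _, rfl⟩))))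
    · show ∑ j, (∑ i, (r i : R) ^ p * a i j) • e j = φ (∑ i, (r i : R) • e i)
      rw [map_sum, Finset.sum_congr rfl fun j _ => Finset.sum_smul, Finset.sum_comm]
      refine Finset.sum_congr rfl fun i _ => ?_
      rw [map_smulₛₗ, frobenius_def, ← ha i, Finset.smul_sum]
      exact Finset.sum_congr rfl fun j _ => mul_smul _ _ _
  let Tv : V →ₛₗ[frobenius L p] V :=
    { toFun := fun v => ⟨φ v, hφV v v.2⟩
      map_add' := fun v w => Subtype.ext (map_add φ _ _)
      map_smul' := fun l v => Subtype.ext (by
        show φ (algebraMap L R l • (v : M)) = algebraMap L R (frobenius L p l) • φ v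
        rw [map_smulₛₗ, frobenius_def, frobenius_def, map_pow]) }
  haveI : FiniteDimensional L V := inferInstance
  have hs := SigmaLinLib.sub_surjective Tv
    (fun y => by
      obtain ⟨z, hz⟩ := IsAlgClosed.exists_pow_nat_eq y (Fact.out : p.Prime).pos
      exact ⟨z, hz⟩)
    (SigmaLinLib.frob_fixed_eq p) (SigmaLinLib.frob_sub_eq p)
  have hm0 : -m0 ∈ V := neg_mem ⟨fun i => ⟨c i, Algebra.subset_adjoin
    (Finset.mem_coe.2 (Finset.mem_union_right _ (Finset.mem_image_of_mem _ (Finset.mem_univ i))))⟩, hc0⟩
  obtain ⟨v, hv⟩ := hs ⟨-m0, hm0⟩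
  refine ⟨v, ?_⟩
  have h1 : (v : M) - φ v = -m0 := congrArg Subtype.val hv
  show φ v - (v : M) = m0
  rw [← neg_sub, h1, neg_neg]

end Groth.Agent.S15362
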