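import Groth.Statements.S15365
import Mathlib

set_option autoImplicit false
universe u
open scoped BigOperators
open CAlg

namespace Groth.Agent.S15365

/-- Let A be a commutative ring of characteristic p > 0 and (h_{ij})_{1 ≤ i,j ≤ n} a square matrix over
A, the matrix of a commutative p-Lie algebra (L, φ) with L free with basis e_1, …, e_n and φ(e_j) =
Σ_i h_{ij} e_i. The associated finite group scheme Spec A[X_1, …, X_n]/(X_j^p − Σ_i h_{ij} X_i)_{1 ≤
j ≤ n} is étale over A if and only if the matrix (h_{ij}) is invertible, i.e. its determinant is a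
unit of A. Only the algebra structure enters this assertion. -/
theorem result (p : ℕ) [Fact p.Prime]
    (A : Type u) [CommRing A] [CharP A p] (n : ℕ) (h : Matrix (Fin n) (Fin n) A) :
    Algebra.Etale A (MvPolynomial (Fin n) A ⧸ Ideal.span (Set.range fun j : Fin n =>
        (MvPolynomial.X j : MvPolynomial (Fin n) A) ^ p -
          ∑ i : Fin n, MvPolynomial.C (h i j) * MvPolynomial.X i)) ↔
      IsUnit h.det := by
  classical
  have hp : p.Prime := Fact.out
  let r : Fin n → MvPolynomial (Fin n) A := fun j =>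
    (MvPolynomial.X j : MvPolynomial (Fin n) A) ^ p - ∑ i : Fin n, MvPolynomial.C (h i j) * MvPolynomial.X i
  let J : Ideal (MvPolynomial (Fin n) A) := Ideal.span (Set.range r)
  change Algebra.Etale A (MvPolynomial (Fin n) A ⧸ J) ↔ _
  have hev : ∀ {B : Type u} [CommRing B] [Algebra A B] (y : Fin n → B) (j : Fin n),
      MvPolynomial.aeval y (r j) = y j ^ p - ∑ i, algebraMap A B (h i j) * y i := by
    intro B _ _ y j
    simp [r]
  have hlift : ∀ {B : Type u} [CommRing B] [Algebra A B] (y : Fin n → B),
      (∀ j, y j ^ p = ∑ i, algebraMap A B (h i j) * y i) →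
      ∃ φ : (MvPolynomial (Fin n) A ⧸ J) →ₐ[A] B, ∀ j, φ (Ideal.Quotient.mk J (MvPolynomial.X j)) = y j := by
    intro B _ _ y hy
    have hle : J ≤ RingHom.ker (MvPolynomial.aeval y) := Ideal.span_le.mpr (by
      rintro _ ⟨j, rfl⟩
      rw [SetLike.mem_coe, RingHom.mem_ker, hev, hy j, sub_self])
    exact ⟨Ideal.Quotient.liftₐ J (MvPolynomial.aeval y) hle, fun j => MvPolynomial.aeval_X y j⟩
  have hsol : ∀ {B : Type u} [CommRing B] [Algebra A B] (φ : (MvPolynomial (Fin n) A ⧸ J) →ₐ[A] B) (j : Fin n),
      φ (Ideal.Quotient.mk J (MvPolynomial.X j)) ^ p =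
        ∑ i, algebraMap A B (h i j) * φ (Ideal.Quotient.mk J (MvPolynomial.X i)) := by
    intro B _ _ φ j
    rw [← sub_eq_zero, ← hev (fun i => φ (Ideal.Quotient.mk J (MvPolynomial.X i))) j]
    have : MvPolynomial.aeval (fun i => φ (Ideal.Quotient.mk J (MvPolynomial.X i))) = φ.comp (Ideal.Quotient.mkₐ A J) :=
      MvPolynomial.algHom_ext fun i => MvPolynomial.aeval_X _ i
    rw [this, AlgHom.comp_apply, Ideal.Quotient.mkₐ_eq_mk,
      Ideal.Quotient.eq_zero_iff_mem.mpr (show r j ∈ J from Ideal.subset_span ⟨j, rfl⟩), map_zero]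
  have hext : ∀ {B : Type u} [CommRing B] [Algebra A B] (φ ψ : (MvPolynomial (Fin n) A ⧸ J) →ₐ[A] B),
      (∀ j, φ (Ideal.Quotient.mk J (MvPolynomial.X j)) = ψ (Ideal.Quotient.mk J (MvPolynomial.X j))) → φ = ψ :=
    fun φ ψ hh => Ideal.Quotient.algHom_ext _ (MvPolynomial.algHom_ext hh)
  constructor
  · intro _
    by_contra hdet
    obtain ⟨m, hm, hdm⟩ := exists_max_ideal_of_mem_nonunits hdet
    haveI := hm
    letI : Field (A ⧸ m) := Ideal.Quotient.field m
    obtain ⟨v, hv0, hv⟩ := Matrix.exists_vecMul_eq_zero_iff.mpr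
      (show (h.map (Ideal.Quotient.mk m)).det = 0 by
        rw [← RingHom.mapMatrix_apply, ← RingHom.map_det, Ideal.Quotient.eq_zero_iff_mem.mpr hdm])
    let B := DualNumber (A ⧸ m)
    obtain ⟨φ, hφ⟩ := hlift (B := B) (fun i => TrivSqZeroExt.inr (v i)) fun j => by
      have h2 : (TrivSqZeroExt.inr (v j) : B) ^ 2 = 0 := by rw [pow_two, TrivSqZeroExt.inr_mul_inr]
      rw [pow_eq_zero_of_le hp.two_le h2]
      have := congrFun hv j
      simp only [Matrix.vecMul, dotProduct, Matrix.map_apply, Pi.zero_apply] at this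
      have key : ∀ i, algebraMap A B (h i j) * TrivSqZeroExt.inr (v i) = TrivSqZeroExt.inr (v i * Ideal.Quotient.mk m (h i j)) := by
        intro i
        rw [TrivSqZeroExt.algebraMap_eq_inl', TrivSqZeroExt.inl_mul_inr, Ideal.Quotient.algebraMap_eq, smul_eq_mul, mul_comm]
      rw [Finset.sum_congr rfl fun i _ => key i, ← TrivSqZeroExt.inr_sum, this, TrivSqZeroExt.inr_zero]
    obtain ⟨ψ, hψ⟩ := hlift (B := B) (fun _ => 0) fun j => by simp [zero_pow hp.ne_zero]
    let I : Ideal B := RingHom.ker (TrivSqZeroExt.fstHom (A ⧸ m) (A ⧸ m) (A ⧸ m))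
    have hI : I ^ 2 = ⊥ := by
      rw [pow_two, eq_bot_iff, Ideal.mul_le]
      intro a ha b hb
      rw [Ideal.mem_bot]
      have ha' : a.fst = 0 := ha
      have hb' : b.fst = 0 := hb
      refine TrivSqZeroExt.ext ?_ ?_
      · rw [TrivSqZeroExt.fst_mul, ha', zero_mul]; rfl
      · rw [TrivSqZeroExt.snd_mul, ha', hb']; simp
    have heq : φ = ψ := Algebra.FormallyUnramified.comp_injective I hI (hext (B := B ⧸ I) _ _ fun j => by
      rw [AlgHom.comp_apply, AlgHom.comp_apply, hφ, hψ, Ideal.Quotient.mkₐ_eq_mk, Ideal.Quotient.eq, sub_zero]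
      exact TrivSqZeroExt.fst_inr (A ⧸ m) (v j))
    refine hv0 (funext fun j => ?_)
    have := congrArg TrivSqZeroExt.snd ((hφ j).symm.trans ((congrArg (fun f => f (Ideal.Quotient.mk J (MvPolynomial.X j))) heq).trans (hψ j)))
    simpa using this
  · intro hdet
    haveI : Algebra.FinitePresentation A (MvPolynomial (Fin n) A ⧸ J) :=
      Algebra.FinitePresentation.quotient (Submodule.fg_span (Set.finite_range r))
    haveI : Algebra.FormallyEtale A (MvPolynomial (Fin n) A ⧸ J) := by
      rw [Algebra.FormallyEtale.iff_comp_bijective]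
      intro B _ _ I hI
      have hp0 : (p : B) = 0 := by rw [← map_natCast (algebraMap A B), CharP.cast_eq_zero A p, map_zero]
      have hadd : ∀ x e : B, e ∈ I → (x + e) ^ p = x ^ p := by
        intro x e he
        obtain ⟨c, hc⟩ := exists_add_pow_prime_eq hp x e
        have he2 : e ^ p = 0 := pow_eq_zero_of_le hp.two_le (by
          have := Ideal.pow_mem_pow he 2
          rw [hI] at this; exact this)
        rw [hc, he2, hp0]; ring
      let M : Matrix (Fin n) (Fin n) B := (h.map (algebraMap A B)).transpose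
      have hM : IsUnit M.det := by
        rw [Matrix.det_transpose, ← RingHom.mapMatrix_apply, ← RingHom.map_det]; exact hdet.map _
      constructor
      · intro φ ψ hφψ
        refine hext φ ψ fun j => ?_
        let d : Fin n → B := fun i => φ (Ideal.Quotient.mk J (MvPolynomial.X i)) - ψ (Ideal.Quotient.mk J (MvPolynomial.X i))
        have hd : ∀ i, d i ∈ I := fun i => Ideal.Quotient.eq.mp
          (congrArg (fun f => f (Ideal.Quotient.mk J (MvPolynomial.X i))) hφψ)
        have h0 : M.mulVec d = 0 := by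
          funext k
          simp only [Matrix.mulVec, dotProduct, M, Matrix.transpose_apply, Matrix.map_apply, d, mul_sub,
            Finset.sum_sub_distrib, ← hsol, Pi.zero_apply]
          rw [show φ (Ideal.Quotient.mk J (MvPolynomial.X k)) = ψ (Ideal.Quotient.mk J (MvPolynomial.X k)) + d k by
            simp [d], hadd _ _ (hd k), sub_self]
        have : d j = 0 := by
          have h1 := congrArg (M⁻¹.mulVec) h0
          rw [Matrix.mulVec_mulVec, Matrix.nonsing_inv_mul M hM, Matrix.one_mulVec, Matrix.mulVec_zero] at h1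
          exact congrFun h1 j
        exact sub_eq_zero.mp this
      · intro φ
        choose x hx using fun i : Fin n => Ideal.Quotient.mk_surjective (φ (Ideal.Quotient.mk J (MvPolynomial.X i)))
        let c : Fin n → B := fun j => x j ^ p - ∑ i, algebraMap A B (h i j) * x i
        have hc : ∀ j, c j ∈ I := fun j => by
          rw [← Ideal.Quotient.eq_zero_iff_mem, map_sub, map_pow, map_sum, sub_eq_zero, hx, hsol]
          refine Finset.sum_congr rfl fun i _ => ?_
          rw [map_mul, hx, Ideal.Quotient.mk_algebraMap]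
        let e := M⁻¹.mulVec c
        have he : ∀ i, e i ∈ I := fun i => show ∑ k, M⁻¹ i k * c k ∈ I from Ideal.sum_mem _ fun k _ => I.mul_mem_left _ (hc k)
        have hMe : M.mulVec e = c := by
          rw [Matrix.mulVec_mulVec, Matrix.mul_nonsing_inv M hM, Matrix.one_mulVec]
        obtain ⟨f, hf⟩ := hlift (fun i => x i + e i) fun j => by
          rw [hadd _ _ (he j)]
          simp only [mul_add, Finset.sum_add_distrib]
          have := congrFun hMe j
          simp only [Matrix.mulVec, dotProduct, M, Matrix.transpose_apply, Matrix.map_apply, c] at this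
          rw [this]; ring
        refine ⟨f, hext _ _ fun j => ?_⟩
        rw [AlgHom.comp_apply, hf, Ideal.Quotient.mkₐ_eq_mk, map_add, hx,
          Ideal.Quotient.eq_zero_iff_mem.mpr (he j), add_zero]
    exact ⟨inferInstance, inferInstance⟩

end Groth.Agent.S15365
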