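import Groth.Statements.S15376
import Groth.Agent.SurfRR.Effective

set_option autoImplicit false
set_option linter.style.haveILetI false
set_option backward.isDefEq.respectTransparency false
set_option backward.isDefEq.respectTransparency.types false
universe u
open CategoryTheory CategoryTheory.Limits AlgebraicGeometry
open Biell

namespace Groth.Agent.S15376

open Groth.Agent
open Groth.Agent.H23.PicMul

/-- Let k be an algebraically closed field and X a (quasi-)bielliptic surface over k, meaning here: X is
an integral k-scheme, proper and smooth of relative dimension 2 over k and carrying an ample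
invertible sheaf, whose canonical sheaf ω (a second exterior power of Ω_{X/k}) is numerically
trivial (degree 0 on every integral closed curve in X) and whose second ℓ-adic Betti number (the
rank of lim_ν H²(X_et, Z/ℓ^ν)) equals 2 for every prime ℓ invertible in k. Then the geometric genus
p_g(X) = dim_k H²(X, O_X) equals 1 if and only if ω ≅ O_X, i.e. ω has order 1 in Pic(X). (The
published statement is for bielliptic surfaces and has a third equivalent condition, non-reducedness
of the identity component of the Picard scheme, which is not stated here; the equivalence of the two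
conditions stated rests only on the numerical triviality of ω on an integral smooth projective
surface, so this row states it for quasi-bielliptic surfaces as well.) -/
theorem result (k : Type u) [Field k] [IsAlgClosed k] (X : Scheme.{u}) [X.Over (Spec (CommRingCat.of k))]
    [IsIntegral X] [IsProper (X ↘ Spec (CommRingCat.of k))] [SmoothOfRelativeDimension 2 (X ↘ Spec (CommRingCat.of k))]
    (hproj : ∃ H : X.Modules, CohB1.IsAmple H)
    (ω : X.Modules) (hω : Canon.IsTopDiff (X ↘ Spec (CommRingCat.of k)) 2 ω) (hnum : Pic13.IsNumEquivZero k X ω)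
    (hb2 : ∀ ℓ : ℕ, ℓ.Prime → (ℓ : k) ≠ 0 → EtAdic.betti X ℓ 2 = 2) :
    Module.finrank k (Coh.HH X (Coh.structureModule X) 2) = 1 ↔ Nonempty (ω ≅ Coh.structureModule X) := by
  haveI : IsNoetherian X := CurveCohLib.isNoetherian_of_proper (k := k)
  haveI : Smooth (X ↘ Spec (CommRingCat.of k)) := SmoothOfRelativeDimension.smooth (n := 2) _
  have hdim : topologicalKrullDim X = 2 :=
    (ExtShX.SmoothDual.topologicalKrullDim_eq (X ↘ Spec (CommRingCat.of k)) 2).trans Nat.cast_ofNat
  have hωi : PicF.IsInvertible ω := TopDiff.isInvertible_of_isExtPow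
    (TopDiff.isFinLocFreeOfRank_omega (X ↘ Spec (CommRingCat.of k)) 2) hω
  obtain ⟨H, hH⟩ := hproj
  have hd := SurfRR.finrank_dual k hdim hω (CurveDeg.isInvertible_structureModule (X := X))
    (D := Coh.structureModule X) (by rw [← H23.PicMul.one_def, one_mul]) 2 le_rfl
  obtain ⟨e⟩ : Nonempty (CohB1.tensorMod ω (Coh.structureModule X) ≅ ω) := cl_eq_iff.1 (by
    rw [cl_tensor, ← H23.PicMul.one_def, mul_one])
  obtain ⟨g⟩ := ExtShX.nonempty_HH_equiv_of_iso (A := k) e 0
  rw [show (2 - 2 : ℕ) = 0 from rfl, g.finrank_eq] at hd
  rw [← hd]
  refine ⟨fun h => ?_, fun ⟨φ⟩ => ?_⟩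
  · rcases SurfRR.intNum_pos_of_section k hdim hωi (Module.nontrivial_of_finrank_pos (R := k) (by omega)) hH with h1 | h1
    · exact cl_eq_iff.1 (h1.trans H23.PicMul.one_def)
    · rw [SurfRR.intNum_numEquivZero_ample k hdim hωi hnum hH] at h1
      exact absurd h1 (lt_irrefl 0)
  · obtain ⟨l⟩ := ExtShX.nonempty_HH_equiv_of_iso (A := k) φ 0
    rw [l.finrank_eq]
    exact CurveReg.finrank_h0_integral k

end Groth.Agent.S15376
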