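import Groth.Statements.S15385
import Groth.Agent.StkTwLib.Field
import Groth.Agent.StkTwLib.Total
import Mathlib.FieldTheory.IsAlgClosed.AlgebraicClosure
-- import your own Groth.Agent.* helpers here

set_option autoImplicit false
universe u
open StackCount

namespace Groth.Agent.S15385

open CategoryTheory.Limits Groth.Agent.StkTwLib CategoryTheory.MonObj

open CategoryTheory AlgebraicGeometry in
/-- Let k be a finite field and G a finite etale group scheme over k (in particular affine over k, so
that every G-torsor is a scheme). For every finite field extension k' of k, the point count of the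
classifying stack B(G) over k' — the sum, over the isomorphism classes of the groupoid of
etale-locally trivial G-torsors over Spec k', of the inverse orders of their automorphism groups —
equals 1. The finiteness of that groupoid (finitely many classes, finite automorphism groups) is
carried as a hypothesis. -/
theorem result (k : Type u) [Field k] [Finite k]
    (G : Over (Spec (CommRingCat.of k))) [GrpObj G] [IsFinite G.hom] [Etale G.hom]
    (k' : Type u) [Field k'] [Algebra k k'] [Module.Finite k k']
    (h : StkCnt.IsEssFinite (StkCnt.pts (AlgSt.BG Scheme.etalePrecoverage G) k')) :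
    StkCnt.ptCount (AlgSt.BG Scheme.etalePrecoverage G) k' h = 1 := by
  haveI : Finite k' := Module.finite_of_finite k
  let B := AlgebraicClosure k'
  haveI : IsGalois k' B := inferInstance
  let f := Spec.map (CommRingCat.ofHom (algebraMap k k'))
  haveI : IsFinite (Red.bc f G).hom := MorphismProperty.pullback_snd _ _ (inferInstance : IsFinite G.hom)
  haveI : IsAffine (Red.bc f G).left := isAffine_of_isAffineHom (Red.bc f G).hom
  haveI : Finite (SGA7.Pts B (Red.bc f G)) := finite_pts_of_finite
  haveI : IsIso (Red.bc f (MonoidalCategoryStruct.tensorUnit (Over (Spec (CommRingCat.of k))))).hom := by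
    show IsIso (pullback.snd (𝟙 (Spec (CommRingCat.of k))) f)
    infer_instance
  haveI : LocallyOfFiniteType (Red.bc f (MonoidalCategoryStruct.tensorUnit (Over (Spec (CommRingCat.of k))))).hom :=
    inferInstance
  obtain ⟨h₁, e₁⟩ := count_fiber_congr (AlgSt.BG Scheme.etalePrecoverage G) (pt_eq_map k') h
  let F := fibPush f Scheme.etalePrecoverage (AlgSt.trivAction G) (SGA7.pt (K := k') k')
  have h₂ := isEssFinite_congr F h₁
  let aX := bcAct (f := f) (AlgSt.trivAction G)
  have huniq : ∀ u v : SGA7.Pts B (Red.bc f (MonoidalCategoryStruct.tensorUnit (Over (Spec (CommRingCat.of k))))), u = v :=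
    fun u v => (adjE f _ _).symm.injective (CartesianMonoidalCategory.toUnit_unique _ _)
  let x₀ : SGA7.Pts B (Red.bc f (MonoidalCategoryStruct.tensorUnit (Over (Spec (CommRingCat.of k))))) :=
    adjE f _ _ (CartesianMonoidalCategory.toUnit _)
  let e : SGA7.Pts B (Red.bc f G) ≃ {p : SGA7.Pts B (Red.bc f G) ×
      SGA7.Pts B (Red.bc f (MonoidalCategoryStruct.tensorUnit (Over (Spec (CommRingCat.of k))))) //
        sm aX p.1 (frob (k := k') B • p.2) = p.2} :=
    { toFun := fun g => ⟨(g, x₀), huniq _ _⟩
      invFun := fun p => p.1.1
      left_inv := fun _ => rfl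
      right_inv := fun p => Subtype.ext (Prod.ext rfl (huniq _ _)) }
  haveI := Finite.of_equiv _ e
  show StkCnt.count _ h = 1
  rw [e₁, ← count_congr F h₂ h₁, count_total (B := B) aX h₂, ← Nat.card_congr e, div_self]
  have : Nonempty (SGA7.Pts B (Red.bc f G)) := ⟨1⟩
  exact Nat.cast_ne_zero.2 Nat.card_pos.ne'

end Groth.Agent.S15385
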