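import Groth.Statements.S15395
import Groth.Agent.FMBase.ItZero
-- import your own Groth.Agent.* helpers here

set_option autoImplicit false
universe u
open CategoryTheory CategoryTheory.Limits MonoidalCategory CartesianMonoidalCategory MonObj GrpObj AlgebraicGeometry
attribute [local instance] HasDerivedCategory.standard
open AbVar

set_option backward.isDefEq.respectTransparency false
set_option backward.isDefEq.respectTransparency.types false
set_option synthInstance.maxHeartbeats 400000
set_option maxHeartbeats 1000000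
set_option linter.style.haveILetI false
attribute [-instance] CategoryTheory.catToReflQuiver

namespace Groth.Agent.S15395

/-- Let k be an algebraically closed field of characteristic zero, A an abelian variety over k (a proper
smooth k-group scheme with geometrically connected fibres), (A^t, φ) a given dual abelian variety of
A for the fppf topology with A^t itself an abelian variety, and P an invertible module on A ×_k A^t
whose class is a Poincaré class; for a k-rational point α of A^t write P_α for the restriction of P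
along A = A × {α} → A ×_k A^t. Let E be a coherent O_A-module satisfying IT(0): H^i(A, E ⊗ P_α) = 0
for every i ≥ 1 and every α. Let F be an object of D(O_A), bounded with coherent cohomology sheaves,
which is a GV object: for every i ≥ 0 the closure in A^t of the set of points underlying the
k-rational points α with hypercohomology H^i(A, F ⊗^L P_α) ≠ 0 has codimension at least i (its
dimension plus i is at most dim A^t). Then the derived tensor product F ⊗^L E satisfies the IT(0)
vanishing: H^i(A, (F ⊗^L E) ⊗^L P_α) = 0 for every i ≥ 1 and every k-rational point α of A^t. The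
derived functors involved are assumed to exist. (IT(0) is taken to mean vanishing of H^i for every i
≥ 1 and every α; nothing is asserted about H^0 or about negative degrees, where F ⊗^L E may have
hypercohomology.) -/
theorem result (k : Type u) [Field k] [IsAlgClosed k] [CharZero k]
    (A At : Over (Spec (CommRingCat.of k))) [GrpObj A] [IsProper A.hom] [Smooth A.hom] [GeometricallyConnected A.hom]
    [GrpObj At] [IsProper At.hom] [Smooth At.hom] [GeometricallyConnected At.hom]
    (φ : ∀ T : Over (Spec (CommRingCat.of k)), PicF.Cl (PicF.XT A.hom T) → (T ⟶ At))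
    (hφ : AbDual.IsDualAV Scheme.fppfPrecoverage A At φ)
    (P : (pullback A.hom At.hom).Modules) (hP : PicF.IsInvertible P)
    (hPξ : AbDual.IsPoincareCl A At φ (PicF.cl P))
    (E : A.left.Modules) (hE : Coh.IsCoh E)
    (hE0 : ∀ (α : 𝟙_ (Over (Spec (CommRingCat.of k))) ⟶ At) (i : ℕ), 1 ≤ i → Subsingleton (Coh.HH A.left (CohB1.tensorMod E ((Scheme.Modules.pullback (CartesianMonoidalCategory.lift (𝟙 A) (toUnit A ≫ α)).left).obj P)) i))
    (F : DCoh.D A.left) (hF : DCoh.IsCohD F) (m n : ℤ) (hFm : DerivedCategory.IsGE F m) (hFn : DerivedCategory.IsLE F n)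
    [DCoh.HasLTensorMod E] [∀ α : 𝟙_ (Over (Spec (CommRingCat.of k))) ⟶ At, DCoh.HasLTensorMod ((Scheme.Modules.pullback (CartesianMonoidalCategory.lift (𝟙 A) (toUnit A ≫ α)).left).obj P)] [DCoh.HasRΓ A.left]
    (hGV : ∀ i : ℕ, topologicalKrullDim ↥(closure {y : ↥At.left | ∃ α : 𝟙_ (Over (Spec (CommRingCat.of k))) ⟶ At, (∃ p : ↥(𝟙_ (Over (Spec (CommRingCat.of k)))).left, α.left p = y) ∧ ¬ IsZero ((DerivedCategory.homologyFunctor AddCommGrpCat.{u} (i : ℤ)).obj ((DCoh.RΓ A.left).obj ((DCoh.LTensorMod ((Scheme.Modules.pullback (CartesianMonoidalCategory.lift (𝟙 A) (toUnit A ≫ α)).left).obj P)).obj F)))}) + (i : WithBot ℕ∞) ≤ topologicalKrullDim ↥At.left)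
    (α : 𝟙_ (Over (Spec (CommRingCat.of k))) ⟶ At) (i : ℕ) (hi : 1 ≤ i) :
    IsZero ((DerivedCategory.homologyFunctor AddCommGrpCat.{u} (i : ℤ)).obj ((DCoh.RΓ A.left).obj ((DCoh.LTensorMod ((Scheme.Modules.pullback (CartesianMonoidalCategory.lift (𝟙 A) (toUnit A ≫ α)).left).obj P)).obj ((DCoh.LTensorMod E).obj F)))) := by
  classical
  haveI : IsLocallyNoetherian A.left := LocallyOfFiniteType.isLocallyNoetherian A.hom
  haveI : GeometricallyIntegral A.hom := Groth.Agent.AVDual.geometricallyIntegral_of_smooth A
  haveI : IsCommMonObj A := isCommMonObj_of_isProper_of_geometricallyIntegral A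
  obtain ⟨g, hg⟩ := Groth.Agent.AVDegPoly.exists_dim (A := A)
  haveI : HasInjectiveResolutions (pullback A.hom At.hom).Modules :=
    Groth.Agent.KFlatLib.hasInjectiveResolutions_modules
  haveI := Groth.Agent.KFlatLib.hasLpull (pullback.fst A.hom At.hom)
  haveI := Groth.Agent.KFlatLib.hasLTensorMod P
  haveI := Groth.Agent.KFlatLib.hasRpush_scheme (pullback.snd A.hom At.hom)
  haveI := Groth.Agent.KFlatLib.hasRpush_scheme A.hom
  have hd := Groth.Agent.AVPoinc.dim_eq hφ hP hPξ hg
  have hFp := Groth.Agent.S1005.result A.left (Groth.Agent.GrpSchLib.isRegularLocalRing_stalk_of_smooth A.hom) F m n hF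
  obtain ⟨hc, lo, b, hb⟩ := Groth.Agent.FMBase.bounded_coh_transform hP hFp
  let T : ℕ → Set ↥At.left := fun i => {y : ↥At.left | ∃ α : 𝟙_ (Over (Spec (CommRingCat.of k))) ⟶ At, (∃ p : ↥(𝟙_ (Over (Spec (CommRingCat.of k)))).left, α.left p = y) ∧ ¬ IsZero ((DerivedCategory.homologyFunctor AddCommGrpCat.{u} (i : ℤ)).obj ((DCoh.RΓ A.left).obj ((DCoh.LTensorMod ((Scheme.Modules.pullback (CartesianMonoidalCategory.lift (𝟙 A) (toUnit A ≫ α)).left).obj P)).obj F)))}
  let V : ℤ → TopologicalSpace.Closeds ↥At.left := fun p =>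
    if 0 ≤ p then ⟨closure (T p.toNat), isClosed_closure⟩ else ⊤
  refine Groth.Agent.FMBase.isZero_hypercohomology_tensor_of_support hφ hP hPξ hg hE hE0 F hFp (fun q y hy => ?_) α i hi
  have h := Groth.Agent.FMBase.support_subset_of_points hP F (fun j => (hF j).1) hc b (fun p hp => hb p (Or.inr hp)) V
    (fun β p hnz => by
      by_cases hp : 0 ≤ p
      · obtain ⟨j, rfl⟩ := Int.eq_ofNat_of_zero_le hp
        simp only [V, if_pos hp, Int.toNat_natCast]
        exact subset_closure ⟨β, ⟨_, rfl⟩, fun hz => hnz
          ((Groth.Agent.FMBase.isZero_hypercohomology_iff A.hom _ (j : ℤ)).1 hz)⟩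
      · simp only [V, if_neg hp]
        trivial) (q : ℤ) hy
  simp only [Set.mem_iUnion, Set.mem_Icc] at h
  obtain ⟨p, ⟨hp, -⟩, hyp⟩ := h
  have hp0 : 0 ≤ p := le_trans (Int.natCast_nonneg q) hp
  obtain ⟨j, rfl⟩ := Int.eq_ofNat_of_zero_le hp0
  simp only [V, if_pos hp0, Int.toNat_natCast] at hyp
  refine le_trans (add_le_add ?_ ?_) ((hGV j).trans hd.le)
  · exact (Topology.IsEmbedding.inclusion (closure_minimal (Set.singleton_subset_iff.2 hyp)
      isClosed_closure)).isInducing.topologicalKrullDim_le
  · exact_mod_cast (show q ≤ j by exact_mod_cast hp)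


end Groth.Agent.S15395
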