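import Groth.Statements.S15404
import Groth.Agent.ClosedUnion.Glue
import Groth.Agent.Lib.SectionGamma
-- import your own Groth.Agent.* helpers here

set_option autoImplicit false
universe u
open CategoryTheory CategoryTheory.Limits AlgebraicGeometry
open PicGrp

set_option backward.isDefEq.respectTransparency false
attribute [-instance] CategoryTheory.catToReflQuiver

namespace Groth.Agent.S15404

/-- Let π : X ⟶ B be quasi-compact and separated and let X be the union of the closed subschemes Y =
V(I) and Z = V(J), I and J quasi-coherent ideals with I ∩ J = 0 (so that O_X → O_Y × O_Z is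
injective with cokernel O_W, W = Y ∩ Z = V(I + J)); assume that W is flat, proper and of finite
presentation over B, that W → B has a section, and that the geometric fibres of W → B are reduced
and connected. Assume the Picard group laws on B, X, Y, Z, W and that pullback of invertible classes
along π, along the inclusions of Y, Z in X and of W in Y, Z, and along the structure maps of Y, Z, W
is multiplicative. Then the square of groups formed by Pic(X)/π^*Pic(B), Pic(Y)/Pic(B),
Pic(Z)/Pic(B) and Pic(W)/Pic(B) under restriction is cartesian: (a) an invertible class on X whose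
restrictions to Y and to Z are pulled back from B is itself pulled back from B; (b) for invertible
classes y on Y and z on Z whose restrictions to W agree up to a class pulled back from B, there is a
class on X whose restrictions to Y and Z are y and z up to classes pulled back from B. (The
published statement asserts this for the functor T ↦ Pic(X ×_B T)/Pic(T) on all B-schemes T and
assumes only that π is quasi-compact and separated, W flat over B with a section and geometrically
reduced connected fibres; its proof uses that every global unit on W comes from B, through a lemma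
on flat proper morphisms, and without properness the assertion fails — over a field, two affine
planes glued along the hyperbola ts = 1 have non-trivial Picard group — so W is taken proper and of
finite presentation over B here (finite presentation being automatic over a locally Noetherian
base), and only the value at T = B is stated.) -/
theorem result {X B : Scheme.{u}} (π : X ⟶ B)
    [QuasiCompact π] [IsSeparated π] (I J : X.IdealSheafData) (hIJ : I ⊓ J = ⊥)
    [Flat ((I ⊔ J).subschemeι ≫ π)] [IsProper ((I ⊔ J).subschemeι ≫ π)]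
    [LocallyOfFinitePresentation ((I ⊔ J).subschemeι ≫ π)]
    (s : B ⟶ (I ⊔ J).subscheme) (hs : s ≫ (I ⊔ J).subschemeι ≫ π = 𝟙 B)
    (hfib : ∀ (K : Type u) [Field K] [IsAlgClosed K] (g : Spec (CommRingCat.of K) ⟶ B),
      IsReduced (pullback ((I ⊔ J).subschemeι ≫ π) g) ∧ ConnectedSpace ↥(pullback ((I ⊔ J).subschemeι ≫ π) g))
    [PicGrp.Law B] [PicGrp.Law X] [PicGrp.Law I.subscheme] [PicGrp.Law J.subscheme] [PicGrp.Law (I ⊔ J).subscheme]
    (hπ : PicGrp.PullMul π) (hY : PicGrp.PullMul I.subschemeι) (hZ : PicGrp.PullMul J.subschemeι)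
    (hπY : PicGrp.PullMul (I.subschemeι ≫ π)) (hπZ : PicGrp.PullMul (J.subschemeι ≫ π))
    (hπW : PicGrp.PullMul ((I ⊔ J).subschemeι ≫ π))
    (hWY : PicGrp.PullMul (Scheme.IdealSheafData.inclusion (le_sup_left : I ≤ I ⊔ J)))
    (hWZ : PicGrp.PullMul (Scheme.IdealSheafData.inclusion (le_sup_right : J ≤ I ⊔ J))) :
    (∀ c : PicLoc.PicSet X,
        (∃ b₁ : PicLoc.PicSet B, PicGrp.pullHom I.subschemeι hY c = PicGrp.pullHom (I.subschemeι ≫ π) hπY b₁) →
        (∃ b₂ : PicLoc.PicSet B, PicGrp.pullHom J.subschemeι hZ c = PicGrp.pullHom (J.subschemeι ≫ π) hπZ b₂) →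
          ∃ b : PicLoc.PicSet B, c = PicGrp.pullHom π hπ b) ∧
      (∀ (y : PicLoc.PicSet I.subscheme) (z : PicLoc.PicSet J.subscheme),
        (∃ b : PicLoc.PicSet B,
            PicGrp.pullHom (Scheme.IdealSheafData.inclusion (le_sup_left : I ≤ I ⊔ J)) hWY y =
              PicGrp.pullHom (Scheme.IdealSheafData.inclusion (le_sup_right : J ≤ I ⊔ J)) hWZ z *
                PicGrp.pullHom ((I ⊔ J).subschemeι ≫ π) hπW b) →
          ∃ (c : PicLoc.PicSet X) (b₁ b₂ : PicLoc.PicSet B),
            PicGrp.pullHom I.subschemeι hY c = y * PicGrp.pullHom (I.subschemeι ≫ π) hπY b₁ ∧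
              PicGrp.pullHom J.subschemeι hZ c = z * PicGrp.pullHom (J.subschemeι ≫ π) hπZ b₂) := by
  classical
  have hi := Scheme.IdealSheafData.inclusion_subschemeι (le_sup_left : I ≤ I ⊔ J)
  have hj := Scheme.IdealSheafData.inclusion_subschemeι (le_sup_right : J ≤ I ⊔ J)
  have P := Groth.Agent.ClosedUnion.isPatch_subscheme I J hIJ
  have h0 : Groth.Agent.H23.RigidApply.ConstFibres ((I ⊔ J).subschemeι ≫ π) := fun b => by
    let K := AlgebraicClosure (B.residueField b)
    let t := Spec.map (CommRingCat.ofHom (algebraMap (B.residueField b) K))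
    obtain ⟨h1, h2⟩ := hfib K (t ≫ B.fromSpecResidueField b)
    let e := pullbackLeftPullbackSndIso ((I ⊔ J).subschemeι ≫ π) (B.fromSpecResidueField b) t
    haveI : IsReduced (pullback (pullback.snd ((I ⊔ J).subschemeι ≫ π) (B.fromSpecResidueField b)) t) :=
      isReduced_of_isOpenImmersion e.hom
    haveI : ConnectedSpace ↥(pullback (pullback.snd ((I ⊔ J).subschemeι ≫ π) (B.fromSpecResidueField b)) t) :=
      e.hom.homeomorph.connectedSpace_iff.mpr h2
    exact Groth.Agent.H23.RigidGamma.bijective_appTop_of_algClosure (k := B.residueField b)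
      (pullback.snd ((I ⊔ J).subschemeι ≫ π) (B.fromSpecResidueField b))
  have hW : Function.Bijective ((I ⊔ J).subschemeι ≫ π).appTop :=
    Groth.Agent.SectionGamma.bijective_app _ h0 s hs ⊤
  refine ⟨?_, ?_⟩
  · rintro c ⟨b₁, hb₁⟩ ⟨b₂, hb₂⟩
    have key : ∀ {T : Scheme.{u}} (m : T ⟶ X) (r : B ⟶ T) (hr : r ≫ m = s ≫ (I ⊔ J).subschemeι)
        (bb : PicLoc.PicSet B), PicF.pullCl m c.1 = PicF.pullCl (m ≫ π) bb.1 →
        PicF.pullCl (s ≫ (I ⊔ J).subschemeι) c.1 = bb.1 := fun m r hr bb h => by
      rw [← hr, PicLoc.pullCl_comp, h, ← PicLoc.pullCl_comp, ← Category.assoc, hr, Category.assoc, hs,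
        PicLoc.pullCl_id]
    have e1 := key I.subschemeι (s ≫ Scheme.IdealSheafData.inclusion le_sup_left)
      (by rw [Category.assoc, hi]) b₁ (congrArg Subtype.val hb₁)
    have e2 := key J.subschemeι (s ≫ Scheme.IdealSheafData.inclusion le_sup_right)
      (by rw [Category.assoc, hj]) b₂ (congrArg Subtype.val hb₂)
    obtain rfl : b₁ = b₂ := Subtype.ext (e1.symm.trans e2)
    refine ⟨b₁, ?_⟩
    have h1 : PicGrp.pullHom I.subschemeι hY (c * (PicGrp.pullHom π hπ b₁)⁻¹) = 1 := by
      rw [map_mul, map_inv, hb₁, PicGrp.pullHom_comp_apply _ _ hY hπ hπY]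
      exact mul_inv_cancel _
    have h2 : PicGrp.pullHom J.subschemeι hZ (c * (PicGrp.pullHom π hπ b₁)⁻¹) = 1 := by
      rw [map_mul, map_inv, hb₂, PicGrp.pullHom_comp_apply _ _ hZ hπ hπZ]
      exact mul_inv_cancel _
    obtain ⟨L, hL, hLc⟩ := PicGrp.exists_eq_cls (c * (PicGrp.pullHom π hπ b₁)⁻¹)
    rw [hLc, PicGrp.pullHom_cls, PicGrp.cls_eq_one_iff] at h1 h2
    obtain ⟨eY⟩ := h1
    obtain ⟨eZ⟩ := h2
    have h3 : c * (PicGrp.pullHom π hπ b₁)⁻¹ = 1 := by
      rw [hLc, PicGrp.cls_eq_one_iff]
      exact Groth.Agent.ClosedUnion.nonempty_iso_unit P π hW hL eY eZ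
    exact mul_inv_eq_one.mp h3
  · rintro y z ⟨b, hb⟩
    obtain ⟨M, hM, rfl⟩ := PicGrp.exists_eq_cls y
    obtain ⟨N, hN, hz⟩ := PicGrp.exists_eq_cls (z * PicGrp.pullHom (J.subschemeι ≫ π) hπZ b)
    have hq : (PicGrp.pullHom (Scheme.IdealSheafData.inclusion (le_sup_right : J ≤ I ⊔ J)) hWZ
        (PicGrp.pullHom (J.subschemeι ≫ π) hπZ b)) = PicGrp.pullHom ((I ⊔ J).subschemeι ≫ π) hπW b := by
      apply Subtype.ext
      show PicF.pullCl _ (PicF.pullCl _ b.1) = PicF.pullCl _ b.1
      rw [← PicLoc.pullCl_comp, ← Category.assoc, hj]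
    rw [← hq, ← map_mul, hz, PicGrp.pullHom_cls, PicGrp.pullHom_cls, PicGrp.cls_eq_cls_iff] at hb
    obtain ⟨ψ⟩ := hb
    obtain ⟨L, hL, ⟨eY⟩, ⟨eZ⟩⟩ := Groth.Agent.ClosedUnion.exists_glue P
      (fun U hU => (I ⊔ J).subschemeι_app_surjective ⟨U, hU⟩) hM hN ψ
    refine ⟨PicGrp.cls L hL, 1, b, ?_, ?_⟩
    · rw [map_one, mul_one, PicGrp.pullHom_cls]
      exact (PicGrp.cls_eq_cls_iff _ _).2 ⟨eY⟩
    · rw [hz, PicGrp.pullHom_cls]
      exact (PicGrp.cls_eq_cls_iff _ _).2 ⟨eZ⟩


end Groth.Agent.S15404
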