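import Groth.Statements.S15405
import Groth.Agent.ASB.Pic
-- import your own Groth.Agent.* helpers here

set_option autoImplicit false
universe u
open CategoryTheory CategoryTheory.Limits AlgebraicGeometry
open ASBun

namespace Groth.Agent.S15405

attribute [local instance] Abelian.hasFiniteBiproducts

theorem eq_zpow {G : Type*} [Group G] (e : G ≃* Multiplicative ℤ) {g : G} (he : e g = Multiplicative.ofAdd 1)
    (c : G) : c = g ^ (Multiplicative.toAdd (e c)) := by
  apply e.injective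
  rw [map_zpow, he, ← ofAdd_zsmul, smul_eq_mul, mul_one, ofAdd_toAdd]


open W4c1astiltbs12 in
/-- Let X be proper over a field k, K an algebraic closure of k such that X_K is connected, and π : X_K
→ X the projection; assume the Picard group laws on X and on X_K and that pullback of invertible
classes along π is multiplicative. Suppose that Pic(X_K) is infinite cyclic, generated by the class
of an invertible module L; that J is an invertible O_X-module with π^*J ≅ L^{⊗r} for some r ≥ 1; and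
that there is an indecomposable finite locally free O_X-module (nonzero, and in any direct-sum
decomposition one summand is zero) whose pullback to X_K is isomorphic to L^{⊕d} for some d. Then:
(a) every indecomposable finite locally free O_X-module E whose pullback to X_K is a finite direct
sum of invertible modules is isomorphic to M ⊗ J_a, where 0 ≤ j < r, M is an indecomposable finite
locally free O_X-module with π^*M ≅ (L^{⊗j})^{⊕d} for some d, a is an integer and J_a is an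
invertible O_X-module whose class in Pic(X) is the a-th power of the class of J; (b) the integers a
and j in such an expression are determined by E. (The published statement takes r to be the least
such integer, the period, and leaves the connectedness of X_K implicit; the argument treats
invertible modules on X_K as indecomposable, whence that hypothesis, and does not use the minimality
of r.) -/
theorem result (k : Type u) [Field k] {X : Scheme.{u}}
    (p : X ⟶ Spec (CommRingCat.of k)) [IsProper p] (K : Type u) [Field K] [Algebra k K] [IsAlgClosure k K]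
    [ConnectedSpace ↥(W4bk4gw11416.baseChange p K)]
    [PicGrp.Law X] [PicGrp.Law (W4bk4gw11416.baseChange p K)] (hπ : PicGrp.PullMul (proj p K))
    (L : (W4bk4gw11416.baseChange p K).Modules) (hL : PicF.IsInvertible L)
    (e : PicLoc.PicSet (W4bk4gw11416.baseChange p K) ≃* Multiplicative ℤ)
    (he : e (PicGrp.cls L hL) = Multiplicative.ofAdd 1)
    (r : ℕ) (hr : 1 ≤ r) (J : X.Modules) (hJ : PicF.IsInvertible J)
    (hJL : Nonempty (bcMod p K J ≅ CohB1.tensorPow L r))
    (hML : ∃ (M₁ : X.Modules) (d₁ : ℕ), FlatMod.IsFinLocFree M₁ ∧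
      (¬ IsZero M₁ ∧ ∀ A B : X.Modules, Nonempty (M₁ ≅ A ⊞ B) → IsZero A ∨ IsZero B) ∧
      Nonempty (bcMod p K M₁ ≅ pow L d₁))
    (E : X.Modules) (hE : FlatMod.IsFinLocFree E)
    (hEi : (¬ IsZero E ∧ ∀ A B : X.Modules, Nonempty (E ≅ A ⊞ B) → IsZero A ∨ IsZero B))
    (n : ℕ) (Ls : Fin n → (W4bk4gw11416.baseChange p K).Modules) (hLs : ∀ i, PicF.IsInvertible (Ls i))
    (hEs : Nonempty (bcMod p K E ≅ ∐ Ls)) :
    (∃ (a : ℤ) (j : ℕ), j < r ∧ ∃ (M : X.Modules) (d : ℕ) (Ja : X.Modules) (hJa : PicF.IsInvertible Ja),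
      FlatMod.IsFinLocFree M ∧ (¬ IsZero M ∧ ∀ A B : X.Modules, Nonempty (M ≅ A ⊞ B) → IsZero A ∨ IsZero B) ∧
      Nonempty (bcMod p K M ≅ pow (CohB1.tensorPow L j) d) ∧
      PicGrp.cls Ja hJa = PicGrp.cls J hJ ^ a ∧ Nonempty (E ≅ CohB1.tensorMod M Ja)) ∧
    (∀ (a a' : ℤ) (j j' : ℕ) (M M' : X.Modules) (d d' : ℕ) (Ja Ja' : X.Modules)
      (hJa : PicF.IsInvertible Ja) (hJa' : PicF.IsInvertible Ja'),
      j < r → j' < r →
      (¬ IsZero M ∧ ∀ A B : X.Modules, Nonempty (M ≅ A ⊞ B) → IsZero A ∨ IsZero B) → (¬ IsZero M' ∧ ∀ A B : X.Modules, Nonempty (M' ≅ A ⊞ B) → IsZero A ∨ IsZero B) →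
      Nonempty (bcMod p K M ≅ pow (CohB1.tensorPow L j) d) → Nonempty (bcMod p K M' ≅ pow (CohB1.tensorPow L j') d') →
      PicGrp.cls Ja hJa = PicGrp.cls J hJ ^ a → PicGrp.cls Ja' hJa' = PicGrp.cls J hJ ^ a' →
      Nonempty (E ≅ CohB1.tensorMod M Ja) → Nonempty (E ≅ CohB1.tensorMod M' Ja') → a = a' ∧ j = j') := by
  haveI := ASB.isNoetherian_of_proper p
  haveI hconn : ConnectedSpace ↥(BrSev.bc p K) := ‹ConnectedSpace ↥(W4bk4gw11416.baseChange p K)›
  letI lawK : PicGrp.Law (BrSev.bc p K) := ‹PicGrp.Law (W4bk4gw11416.baseChange p K)›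
  haveI : IsAlgClosed K := IsAlgClosure.isAlgClosed k
  let g : PicLoc.PicSet (BrSev.bc p K) := PicGrp.cls L hL
  have hpow : ∀ {M : X.Modules} {d j : ℕ}, Nonempty (bcMod p K M ≅ pow (CohB1.tensorPow L j) d) →
      ASB.Typ p K M (g ^ (j : ℤ)) d := by
    rintro M d j ⟨eM⟩
    obtain ⟨q⟩ := ASB.coprod_ofFn (fun _ : Fin d => CohB1.tensorPow L j)
    rw [List.ofFn_const] at q
    exact ⟨_, InvX.isInvertible_tensorPow hL j, (ASB.cls_tensorPow hL j).trans (zpow_natCast g j).symm, ⟨eM ≪≫ q⟩⟩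
  have hJr : ∀ (a : ℤ) (Ja : X.Modules) (hJa : PicF.IsInvertible Ja), PicGrp.cls Ja hJa = PicGrp.cls J hJ ^ a →
      ASB.Typ p K Ja (g ^ (a * r)) 1 := by
    intro a Ja hJa hca
    obtain ⟨M, hM, hc, eM⟩ := ASB.typ_invertible (p := p) (K := K) hJa
    refine ⟨M, hM, hc.trans ?_, eM⟩
    show PicGrp.cls (bcMod p K Ja) (PicLoc.isInvertible_pullback (proj p K) hJa) = PicGrp.cls L hL ^ (a * r)
    rw [← PicGrp.pullHom_cls (proj p K) hπ Ja hJa, hca, map_zpow, PicGrp.pullHom_cls,
      (PicGrp.cls_eq_cls_iff _ (InvX.isInvertible_tensorPow hL r)).2 hJL, ASB.cls_tensorPow hL, mul_comm,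
      zpow_mul, zpow_natCast]
  obtain ⟨M₁, d₁, hM₁, hM₁i, eM₁⟩ := hML
  have hT₁ : ASB.Typ p K M₁ (g ^ ((1 : ℕ) : ℤ)) d₁ := by
    obtain ⟨eM₁⟩ := eM₁
    obtain ⟨q⟩ := ASB.coprod_ofFn (fun _ : Fin d₁ => L)
    rw [List.ofFn_const] at q
    exact ⟨L, hL, by rw [Nat.cast_one, zpow_one], ⟨eM₁ ≪≫ q⟩⟩
  have hd₁ : d₁ ≠ 0 := by
    obtain ⟨N, hN, hc, ⟨eN⟩⟩ := hT₁
    exact ASB.replicate_pos (fun h => hM₁i.1 (ASB.isZero_of_bc p K (CurveDeg.isCoh_of_isFinLocFree hM₁).1 h)) eN
  have hW : ∀ j : ℕ, ∃ (W : X.Modules) (a : ℕ), a ≠ 0 ∧ FlatMod.IsFinLocFree W ∧ ASB.Indec W ∧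
      ASB.Typ p K W (g ^ (j : ℤ)) a := by
    intro j
    induction j with
    | zero =>
      have h0 := CurveDeg.isInvertible_structureModule (X := X)
      obtain ⟨M, hM, hc, eM⟩ := ASB.typ_invertible (p := p) (K := K) h0
      have h1 : ASB.Typ p K (Coh.structureModule X) (g ^ ((0 : ℕ) : ℤ)) 1 := by
        refine ⟨M, hM, hc.trans ?_, eM⟩
        rw [Nat.cast_zero, zpow_zero, PicGrp.cls_eq_one_iff]
        exact PicClLib.nonempty_pullback_structureModule _
      exact h1.exists_indec (H23.PullPush.isFinLocFree_of_isInvertible h0) one_ne_zero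
    | succ j ih =>
      obtain ⟨W, a, ha, hWf, hWi, hWt⟩ := ih
      have h1 := hWt.tensor hT₁
      rw [← zpow_add, ← Nat.cast_add] at h1
      exact h1.exists_indec (KFlatLib.isFinLocFree_tensor hWf hM₁) (mul_ne_zero ha hd₁)
  choose W d hd hWf hWi hWt using hW
  have hEc := CurveDeg.isCoh_of_isFinLocFree hE
  refine ⟨?_, ?_⟩
  · obtain ⟨eEs⟩ := hEs
    obtain ⟨q⟩ := ASB.coprod_ofFn Ls
    have hdec : ∀ c : PicLoc.PicSet (BrSev.bc p K), ∃ (a : ℤ) (j : ℕ) (Ja : X.Modules) (hJa : PicF.IsInvertible Ja),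
        j < r ∧ PicGrp.cls Ja hJa = PicGrp.cls J hJ ^ a ∧
          ASB.Typ p K (CohB1.tensorMod (W j) Ja) c (d j) := by
      intro c
      obtain ⟨Ja, hJa, hca⟩ := PicGrp.exists_eq_cls (PicGrp.cls J hJ ^ (Multiplicative.toAdd (e c) / (r : ℤ)))
      refine ⟨_, (Multiplicative.toAdd (e c) % (r : ℤ)).toNat, Ja, hJa, ?_, hca.symm, ?_⟩
      · have := Int.emod_lt_of_pos (Multiplicative.toAdd (e c)) (show (0 : ℤ) < r by omega)
        omega
      · have h1 := (hWt (Multiplicative.toAdd (e c) % (r : ℤ)).toNat).tensor (hJr _ Ja hJa hca.symm)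
        rw [← zpow_add, mul_one, Int.toNat_of_nonneg (Int.emod_nonneg _ (by omega)),
          Int.mul_comm, Int.emod_add_mul_ediv] at h1
        rwa [← eq_zpow e he c] at h1
    choose a j Ja hJa hjr hca hTy using hdec
    obtain ⟨i, dE, hdE, hET⟩ := ASB.exists_typ_of_split hEc hEi Ls hLs (eEs ≪≫ q) fun i =>
      ⟨_, d (j (PicGrp.cls (Ls i) (hLs i))), hd _, CurveTensor.isCoh_tensor (hWf _)
        (CurveDeg.isCoh_of_isInvertible (hJa _)), ASB.indec_tensor (hWi _) (hJa _), hTy _⟩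
    let c : PicLoc.PicSet (BrSev.bc p K) := PicGrp.cls (Ls i) (hLs i)
    obtain ⟨φ⟩ := hET.iso_of_indec hEc (CurveTensor.isCoh_tensor (hWf (j c))
      (CurveDeg.isCoh_of_isInvertible (hJa c))) hEi (ASB.indec_tensor (hWi (j c)) (hJa c)) (hTy c)
    obtain ⟨eM⟩ := (hWt (j c)).iso (hN := InvX.isInvertible_tensorPow hL (j c))
      ((ASB.cls_tensorPow hL (j c)).trans (zpow_natCast g (j c)).symm)
    obtain ⟨q'⟩ := ASB.coprod_ofFn (fun _ : Fin (d (j c)) => CohB1.tensorPow L (j c))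
    rw [List.ofFn_const] at q'
    exact ⟨a c, j c, hjr c, W (j c), d (j c), Ja c, hJa c, hWf _, hWi _, ⟨eM ≪≫ q'.symm⟩, hca c, ⟨φ⟩⟩
  · intro a a' j j' M M' dM dM' Ja Ja' hJa hJa' hj hj' _ _ eM eM' hca hca' eE eE'
    have key : ∀ {a : ℤ} {j dM : ℕ} {M Ja : X.Modules} (hJa : PicF.IsInvertible Ja),
        Nonempty (bcMod p K M ≅ pow (CohB1.tensorPow L j) dM) → PicGrp.cls Ja hJa = PicGrp.cls J hJ ^ a →
        Nonempty (E ≅ CohB1.tensorMod M Ja) → ASB.Typ p K E (g ^ ((j : ℤ) + a * r)) dM ∧ dM ≠ 0 := by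
      rintro a j dM M Ja hJa eM hca ⟨φ⟩
      have h1 := (hpow eM).tensor (hJr a Ja hJa hca)
      rw [← zpow_add, mul_one] at h1
      obtain ⟨N, hN, hc, ⟨eN⟩⟩ := h1
      let eE := (Scheme.Modules.pullback (BrSev.proj p K)).mapIso φ ≪≫ eN
      exact ⟨⟨N, hN, hc, ⟨eE⟩⟩, ASB.replicate_pos (fun h => hEi.1 (ASB.isZero_of_bc p K hEc.1 h)) eE⟩
    obtain ⟨hT, hne⟩ := key hJa eM hca eE
    obtain ⟨hT', -⟩ := key hJa' eM' hca' eE'
    have h := congrArg (fun x => Multiplicative.toAdd (e x)) ((hT.unique hT').2 hne)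
    simp only [g, map_zpow, he, ← ofAdd_zsmul, smul_eq_mul, mul_one, toAdd_ofAdd] at h
    have ha : a = a' := by
      rcases lt_trichotomy a a' with hlt | heq | hgt
      · exfalso
        have := mul_le_mul_of_nonneg_right (show a + 1 ≤ a' by omega) (show (0 : ℤ) ≤ r by omega)
        rw [add_mul, one_mul] at this
        omega
      · exact heq
      · exfalso
        have := mul_le_mul_of_nonneg_right (show a' + 1 ≤ a by omega) (show (0 : ℤ) ≤ r by omega)
        rw [add_mul, one_mul] at this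
        omega
    subst ha
    exact ⟨rfl, by omega⟩

end Groth.Agent.S15405
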