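import Groth.Statements.S15409
import Groth.Agent.ASB.Pic
-- import your own Groth.Agent.* helpers here

set_option autoImplicit false
universe u
open CategoryTheory CategoryTheory.Limits AlgebraicGeometry
open ASBun

namespace Groth.Agent.S15409

attribute [local instance] Abelian.hasFiniteBiproducts

theorem toGlobal_surjective {k : Type u} [Field k] {X : Scheme.{u}} (p : X ⟶ Spec (CommRingCat.of k)) [IsProper p]
    (hO : IsIso p.appTop) (K : Type u) [Field K] [Algebra k K] [Algebra.IsAlgebraic k K] [ConnectedSpace ↥X]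
    [ConnectedSpace ↥(BrSev.bc p K)] : Function.Surjective (Coh.toGlobal (BrSev.bcTo p K)) := by
  haveI := ASB.isNoetherian_of_proper p
  have hX : Function.Surjective (Coh.toGlobal p) :=
    ((ConcreteCategory.bijective_of_isIso p.appTop).2).comp
      (ConcreteCategory.bijective_of_isIso (Scheme.ΓSpecIso (CommRingCat.of k)).inv).2
  letI := ASB.ovr p
  letI := ASB.ovrK p K
  have h0 := CurveDeg.isInvertible_structureModule (X := X)
  have hc := CurveDeg.isCoh_of_isInvertible h0
  obtain ⟨u⟩ := PicClLib.nonempty_pullback_structureModule (BrSev.proj p K)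
  have h1 : Module.finrank K (Coh.structureModule (BrSev.bc p K) ⟶ Coh.structureModule (BrSev.bc p K)) = 1 := by
    rw [← ASB.finrank_congr K u u, ← ASB.finrank_bc p K hc hc]
    exact ASB.finrank_end_of_surjective p hX h0
  have hne : (𝟙 (Coh.structureModule (BrSev.bc p K))) ≠ 0 := fun h =>
    (ASB.indec_invertible CurveDeg.isInvertible_structureModule).1 ((IsZero.iff_id_eq_zero _).2 h)
  intro s
  obtain ⟨c, hc'⟩ := (finrank_eq_one_iff_of_nonzero' _ hne).1 h1 (Formal.smulModΓ _ s)
  refine ⟨c, ASB.smulModΓ_injective CurveDeg.isInvertible_structureModule ?_⟩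
  rw [← hc']
  exact (Category.comp_id _).symm


open W4c1astiltbs12 in
/-- Let X be proper over a field k with k ≅ H⁰(X, O_X), K an algebraic closure of k with X_K connected
and projection π : X_K → X; assume the Picard group laws on X and X_K with pullback along π
multiplicative, that Pic(X_K) is infinite cyclic generated by the class of an invertible module L,
and that J is an invertible O_X-module whose pullback to X_K has class the r-th power of the class
of L, r ≥ 1. Let j and a be integers and N, N' invertible O_{X_K}-modules with classes (cls L)^j and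
(cls L)^{j'} where either j' = −j or j' = j + a·r. If W, W' are indecomposable finite locally free
O_X-modules (nonzero, and in any direct-sum decomposition one summand is zero) with π^*W ≅ N^{⊕d}
and π^*W' ≅ N'^{⊕d'}, then d = d': the rank of the indecomposable absolutely isotypical sheaf of
type L^{⊗j} depends only on ±j modulo r. (The published statement phrases this for the sheaves
W_{L^{⊗j}}, whose existence for every j it assumes through an indecomposable absolutely isotypical
sheaf of type L; here the two sheaves are given, and r need not be minimal.) -/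
theorem result (k : Type u) [Field k] {X : Scheme.{u}}
    (p : X ⟶ Spec (CommRingCat.of k)) [IsProper p] (hO : IsIso p.appTop) (K : Type u) [Field K] [Algebra k K] [IsAlgClosure k K]
    [ConnectedSpace ↥(W4bk4gw11416.baseChange p K)]
    [PicGrp.Law X] [PicGrp.Law (W4bk4gw11416.baseChange p K)] (hπ : PicGrp.PullMul (proj p K))
    (L : (W4bk4gw11416.baseChange p K).Modules) (hL : PicF.IsInvertible L)
    (e : PicLoc.PicSet (W4bk4gw11416.baseChange p K) ≃* Multiplicative ℤ)
    (he : e (PicGrp.cls L hL) = Multiplicative.ofAdd 1)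
    (r : ℕ) (hr : 1 ≤ r) (J : X.Modules) (hJ : PicF.IsInvertible J)
    (hJL : PicGrp.cls (bcMod p K J) (PicLoc.isInvertible_pullback (proj p K) hJ) = PicGrp.cls L hL ^ r)
    (j a j' : ℤ) (hj' : j' = -j ∨ j' = j + a * r)
    (N N' : (W4bk4gw11416.baseChange p K).Modules) (hN : PicF.IsInvertible N) (hN' : PicF.IsInvertible N')
    (hNj : PicGrp.cls N hN = PicGrp.cls L hL ^ j) (hN'j : PicGrp.cls N' hN' = PicGrp.cls L hL ^ j')
    (W W' : X.Modules) (hW : FlatMod.IsFinLocFree W) (hW' : FlatMod.IsFinLocFree W')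
    (hWi : (¬ IsZero W ∧ ∀ A B : X.Modules, Nonempty (W ≅ A ⊞ B) → IsZero A ∨ IsZero B)) (hW'i : (¬ IsZero W' ∧ ∀ A B : X.Modules, Nonempty (W' ≅ A ⊞ B) → IsZero A ∨ IsZero B))
    (d d' : ℕ) (eW : Nonempty (bcMod p K W ≅ pow N d)) (eW' : Nonempty (bcMod p K W' ≅ pow N' d')) :
    d = d' := by
  haveI : IsAlgClosed K := IsAlgClosure.isAlgClosed k
  haveI := ASB.isNoetherian_of_proper p
  haveI hconn : ConnectedSpace ↥(BrSev.bc p K) := ‹ConnectedSpace ↥(W4bk4gw11416.baseChange p K)›
  haveI : Surjective (Spec.map (CommRingCat.ofHom (algebraMap k K))) :=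
    ⟨fun y => ⟨(⊥ : PrimeSpectrum K), Subsingleton.elim (α := PrimeSpectrum k) _ _⟩⟩
  haveI : Surjective (BrSev.proj p K) := MorphismProperty.pullback_fst _ _ inferInstance
  haveI : ConnectedSpace ↥X :=
    (Scheme.Hom.surjective (BrSev.proj p K)).connectedSpace (BrSev.proj p K).continuous
  letI lawK : PicGrp.Law (BrSev.bc p K) := ‹PicGrp.Law (W4bk4gw11416.baseChange p K)›
  have hgl := toGlobal_surjective p hO K
  obtain ⟨eW⟩ := eW
  obtain ⟨eW'⟩ := eW'
  obtain ⟨qa⟩ := ASB.coprod_ofFn (fun _ : Fin d => N)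
  obtain ⟨qb⟩ := ASB.coprod_ofFn (fun _ : Fin d' => N')
  rw [List.ofFn_const] at qa qb
  have hT : ASB.Typ p K W (PicGrp.cls L hL ^ j) d := ⟨N, hN, hNj, ⟨eW ≪≫ qa⟩⟩
  have hT' : ASB.Typ p K W' (PicGrp.cls L hL ^ j') d' := ⟨N', hN', hN'j, ⟨eW' ≪≫ qb⟩⟩
  have hWc := CurveDeg.isCoh_of_isFinLocFree hW
  have hW'c := CurveDeg.isCoh_of_isFinLocFree hW'
  rcases hj' with rfl | rfl
  · letI := ASB.ovr p
    letI := ASB.ovrK p K
    have hone : PicF.IsInvertible (Coh.structureModule (BrSev.bc p K)) := PicLoc.isInvertible_structureModule _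
    have hcls : PicGrp.cls _ hone = (1 : PicLoc.PicSet (BrSev.bc p K)) := PicGrp.cls_structureModule_eq_one
    obtain ⟨u⟩ := PicClLib.nonempty_pullback_structureModule (BrSev.proj p K)
    have hO0 := CurveDeg.isCoh_of_isInvertible (CurveDeg.isInvertible_structureModule (X := X))
    have hsc : ∀ {M : (BrSev.bc p K).Modules}, PicF.IsInvertible M → Module.finrank K (M ⟶ M) = 1 :=
      fun hM => ASB.finrank_end_of_surjective (BrSev.bcTo p K) hgl hM
    have hdiv : ∀ {V : X.Modules} {M : (BrSev.bc p K).Modules} {a : ℕ}, Coh.IsCoh V → ASB.Indec V →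
        PicF.IsInvertible M → (ASB.bcF p K V ≅ ASB.sumL (List.replicate a M)) → ∀ g : V ⟶ V, g ≠ 0 → IsIso g :=
      fun hV hVi hM e' g hg => ASB.isIso_of_indec_isotypical p K hV hVi
        (ASB.isIso_of_finrank_eq_one K (hsc hM) (ASB.indec_invertible hM).1) e' g hg
    obtain ⟨t⟩ := (hT.tensor hT').iso (hN := hone) (by rw [hcls, ← zpow_add, add_neg_cancel, zpow_zero])
    obtain ⟨t'⟩ := (hT'.tensor hT).iso (hN := hone) (by rw [hcls, ← zpow_add, neg_add_cancel, zpow_zero])
    have h1 := ASB.sq_dvd_of_tensor p K hWc hW'c (CurveTensor.isCoh_tensor hW hW'c)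
      (hdiv hWc hWi hN (eW ≪≫ qa)) hWi.1 hO0 (eW ≪≫ qa) u t (hsc hN) (hsc hone)
    have h2 := ASB.sq_dvd_of_tensor p K hW'c hWc (CurveTensor.isCoh_tensor hW' hWc)
      (hdiv hW'c hW'i hN' (eW' ≪≫ qb)) hW'i.1 hO0 (eW' ≪≫ qb) u t' (hsc hN') (hsc hone)
    have hd : d ≠ 0 := ASB.replicate_pos (fun h => hWi.1 (ASB.isZero_of_bc p K hWc.1 h)) (eW ≪≫ qa)
    have hd' : d' ≠ 0 := ASB.replicate_pos (fun h => hW'i.1 (ASB.isZero_of_bc p K hW'c.1 h)) (eW' ≪≫ qb)
    exact Nat.dvd_antisymm (Nat.dvd_of_mul_dvd_mul_left (Nat.pos_of_ne_zero hd) h1)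
      (Nat.dvd_of_mul_dvd_mul_left (Nat.pos_of_ne_zero hd') h2)
  · obtain ⟨Ja, hJa, hca⟩ := PicGrp.exists_eq_cls (PicGrp.cls J hJ ^ a)
    have hJaT : ASB.Typ p K Ja (PicGrp.cls L hL ^ (a * r)) 1 := by
      obtain ⟨M, hM, hc, eM⟩ := ASB.typ_invertible (p := p) (K := K) hJa
      refine ⟨M, hM, hc.trans ?_, eM⟩
      show PicGrp.cls (bcMod p K Ja) (PicLoc.isInvertible_pullback (proj p K) hJa) = _
      rw [← PicGrp.pullHom_cls (proj p K) hπ Ja hJa, ← hca, map_zpow, PicGrp.pullHom_cls, hJL, mul_comm,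
        zpow_mul, zpow_natCast]
    have hT2 := hT.tensor hJaT
    rw [← zpow_add, mul_one] at hT2
    obtain ⟨φ⟩ := hT'.iso_of_indec hW'c (CurveTensor.isCoh_tensor hW (CurveDeg.isCoh_of_isInvertible hJa))
      hW'i (ASB.indec_tensor hWi hJa) hT2
    obtain ⟨M, hM, hc, ⟨eM⟩⟩ := hT2
    have hT3 : ASB.Typ p K W' _ d :=
      ⟨M, hM, hc, ⟨(Scheme.Modules.pullback (BrSev.proj p K)).mapIso φ ≪≫ eM⟩⟩
    exact (hT3.unique hT').1

end Groth.Agent.S15409
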