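import Groth.Statements.S15415
import Groth.Agent.GalCohMisc.UnitsH90
import Groth.Agent.GalDescX.Twist
import Groth.Agent.CSALib.RedNorm

set_option linter.style.haveILetI false
set_option backward.isDefEq.respectTransparency false
set_option backward.isDefEq.respectTransparency.types false


set_option autoImplicit false
universe u v w
open scoped TensorProduct
attribute [local instance] CSAGal.tensorAction GpH1.unitsAction
open GalCoh

namespace Groth.Agent.S15415

/-- For a central simple algebra over a field, the first Galois cohomology set of its norm-one group is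
identified with the nonzero scalars modulo the reduced norms of units, by the boundary map of the
sequence norm-one units → units → nonzero scalars. Finite-level form: let k be a field, K a finite
Galois extension of k whose Galois group acts on K ⊗_k A through the first factor, A a
finite-dimensional central simple k-algebra split by K, N the reduced norm of A over k and N_K the
reduced norm of K ⊗_k A over K. Then (i) every 1-cocycle a with values in the units of K ⊗_k A of
reduced norm one is of the form a σ = b⁻¹ · σ(b) for a unit b whose reduced norm is an element c of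
kˣ; and (ii) for units b, b' of K ⊗_k A with reduced norms c, c' in kˣ, the cocycles σ ↦ b⁻¹σ(b) and
σ ↦ b'⁻¹σ(b') are cohomologous through a unit of reduced norm one if and only if c' = N(x) · c for
some unit x of A. (Since K splits A the reduced norm N_K takes every value in kˣ, so (i) and (ii)
say that c ↦ class of b⁻¹σ(b), N_K b = c, is a well-defined bijection from kˣ/N(Aˣ) onto the
cohomology set of the norm-one units. The published statement is for the absolute Galois group of a
field of characteristic different from 2, an assumption playing no role here; this row is the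
finite-level form over a splitting field.) -/
theorem result
    (k : Type u) [Field k] (K : Type v) [Field K] [Algebra k K] [FiniteDimensional k K] [IsGalois k K]
    (A : Type w) [Ring A] [Algebra k A] [Algebra.IsCentral k A] [IsSimpleRing A] [FiniteDimensional k A]
    (hA : Curves.Splits k A K)
    (N : A →* k) (hN : CSAGal.IsRedNorm k A N)
    (NK : (K ⊗[k] A) →* K) (hNK : CSAGal.IsRedNorm K (K ⊗[k] A) NK) :
    (∀ a : GpH1.OneCocycle (K ≃ₐ[k] K) (K ⊗[k] A)ˣ, (∀ σ, NK (a σ : K ⊗[k] A) = 1) →
        ∃ (c : kˣ) (b : (K ⊗[k] A)ˣ), NK (b : K ⊗[k] A) = algebraMap k K (c : k) ∧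
          ∀ σ : K ≃ₐ[k] K, a σ = b⁻¹ * σ • b) ∧
    (∀ (c c' : kˣ) (b b' : (K ⊗[k] A)ˣ),
        NK (b : K ⊗[k] A) = algebraMap k K (c : k) → NK (b' : K ⊗[k] A) = algebraMap k K (c' : k) →
        ((∃ s : (K ⊗[k] A)ˣ, NK (s : K ⊗[k] A) = 1 ∧
            ∀ σ : K ≃ₐ[k] K, b'⁻¹ * σ • b' = s⁻¹ * (b⁻¹ * σ • b) * σ • s) ↔
          ∃ x : Aˣ, (c' : k) = N (x : A) * (c : k))) := by
  classical
  obtain ⟨n, hn0, ⟨φ⟩⟩ := hA
  have hdet : ∀ (ψ : K ⊗[k] A ≃ₐ[K] Matrix (Fin n) (Fin n) K) (y : K ⊗[k] A), NK y = (ψ y).det := fun ψ y => by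
    have h := Groth.Agent.CSALib.redNorm_eq (k := K) ((Algebra.TensorProduct.lid K (K ⊗[k] A)).trans ψ) hNK y
    rwa [Algebra.algebraMap_self_apply, AlgEquiv.trans_apply, Algebra.TensorProduct.lid_tmul, one_smul] at h
  have hbase : ∀ a : A, NK ((1 : K) ⊗ₜ[k] a) = algebraMap k K (N a) := fun a => by
    rw [hdet φ, Groth.Agent.CSALib.redNorm_eq φ hN a]
  have heq : ∀ (σ : K ≃ₐ[k] K) (y : K ⊗[k] A), NK (σ • y) = σ (NK y) := fun σ y => by
    have hsm : ∀ (c : K) (z : K ⊗[k] A), σ • (c • z) = σ c • σ • z := by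
      intro c z
      induction z with
      | zero => rw [smul_zero, smul_zero, smul_zero]
      | add z z' h h' => rw [smul_add, smul_add, smul_add, smul_add, h, h']
      | tmul r a =>
        rw [TensorProduct.smul_tmul', CSAGal.smul_eq_map, CSAGal.smul_eq_map,
          Algebra.TensorProduct.map_tmul, Algebra.TensorProduct.map_tmul, TensorProduct.smul_tmul', smul_eq_mul,
          smul_eq_mul, map_mul]
        rfl
    let e : K ⊗[k] A ≃+* Matrix (Fin n) (Fin n) K :=
      ((MulSemiringAction.toRingEquiv (K ≃ₐ[k] K) (K ⊗[k] A) σ).trans φ.toRingEquiv).trans σ.symm.toRingEquiv.mapMatrix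
    have he : ∀ z, e z = (φ (σ • z)).map σ.symm := fun z => rfl
    let ψ : K ⊗[k] A ≃ₐ[K] Matrix (Fin n) (Fin n) K := AlgEquiv.ofRingEquiv (f := e) fun c => by
      rw [he, Algebra.algebraMap_eq_smul_one c, hsm, smul_one, map_smul, map_one, ← Algebra.algebraMap_eq_smul_one,
        Matrix.algebraMap_eq_diagonal, Matrix.diagonal_map (map_zero _), Matrix.algebraMap_eq_diagonal]
      congr 1
      funext i
      exact σ.symm_apply_apply c
    rw [hdet ψ y, hdet φ (σ • y)]
    show (φ (σ • y)).det = σ ((φ (σ • y)).map σ.symm).det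
    rw [AlgEquiv.map_det]
    congr 1
    ext i j
    exact (σ.apply_symm_apply _).symm
  have hone : ∀ {x y : A}, (1 : K) ⊗ₜ[k] x = (1 : K) ⊗ₜ[k] y → x = y := fun {x y} h =>
    Algebra.TensorProduct.includeRight_injective (R := k) (A := K) (B := A) (algebraMap k K).injective h
  have hfix : ∀ u : (K ⊗[k] A)ˣ, (∀ σ : K ≃ₐ[k] K, σ • u = u) → ∃ x : Aˣ, (1 : K) ⊗ₜ[k] (x : A) = (u : K ⊗[k] A) := fun u hu => by
    obtain ⟨x, hx⟩ := Groth.Agent.GalDescX.exists_one_tmul (u : K ⊗[k] A) fun σ => congrArg Units.val (hu σ)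
    obtain ⟨x', hx'⟩ := Groth.Agent.GalDescX.exists_one_tmul ((u⁻¹ : (K ⊗[k] A)ˣ) : K ⊗[k] A) fun σ =>
      congrArg Units.val (show σ • u⁻¹ = u⁻¹ by rw [smul_inv', hu σ])
    refine ⟨⟨x, x', hone ?_, hone ?_⟩, hx⟩
    · rw [← mul_one (1 : K), ← Algebra.TensorProduct.tmul_mul_tmul, hx, hx', Units.mul_inv, mul_one]; rfl
    · rw [← mul_one (1 : K), ← Algebra.TensorProduct.tmul_mul_tmul, hx, hx', Units.inv_mul, mul_one]; rfl
  constructor
  · intro a ha
    obtain ⟨d, hd⟩ := Groth.Agent.GalCohMisc.exists_unit_of_cocycle (fun σ => a σ) fun σ τ => by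
      rw [a.2 σ τ, Units.val_mul]
      rfl
    have hd' : ∀ σ : K ≃ₐ[k] K, σ (NK (d : K ⊗[k] A)) = NK (d : K ⊗[k] A) := fun σ => by
      conv_rhs => rw [← hd σ, map_mul, ha σ, one_mul, heq]
    obtain ⟨c, hc⟩ := (IsGalois.mem_range_algebraMap_iff_fixed (F := k) (NK (d : K ⊗[k] A))).2 hd'
    have hc0 : c ≠ 0 := fun h0 => (d.isUnit.map NK).ne_zero (by rw [← hc, h0, map_zero])
    refine ⟨(Units.mk0 c hc0)⁻¹, d⁻¹, ?_, fun σ => ?_⟩
    · have h := congrArg NK (d.inv_mul)
      rw [map_mul, map_one, ← hc] at h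
      rw [Units.val_inv_eq_inv_val, Units.val_mk0, map_inv₀]
      exact eq_inv_of_mul_eq_one_left h
    · rw [inv_inv, smul_inv', eq_mul_inv_iff_mul_eq]
      exact Units.ext (hd σ)
  · intro c c' b b' hb hb'
    constructor
    · rintro ⟨s, hs, h⟩
      obtain ⟨x, hx⟩ := hfix (b' * s⁻¹ * b⁻¹) fun σ => by
        have h2 := h σ
        rw [smul_mul', smul_mul', smul_inv', smul_inv']
        have e1 : σ • b' = b' * s⁻¹ * b⁻¹ * (σ • b) * (σ • s) := by
          rw [← mul_inv_cancel_left b' (σ • b'), h2]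
          simp only [mul_assoc]
        rw [e1]
        group
      refine ⟨x, ?_⟩
      apply (algebraMap k K).injective
      have hmul : ((1 : K) ⊗ₜ[k] (x : A)) * (b : K ⊗[k] A) * (s : K ⊗[k] A) = b' := by
        rw [hx, ← Units.val_mul, ← Units.val_mul]
        congr 1
        group
      have h3 := congrArg NK hmul
      rw [map_mul, map_mul, hs, mul_one, hbase, hb, hb'] at h3
      rw [map_mul, h3]
    · rintro ⟨x, hx⟩
      let X : (K ⊗[k] A)ˣ := Units.map (Algebra.TensorProduct.includeRight : A →ₐ[k] K ⊗[k] A).toMonoidHom x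
      have hXf : ∀ σ : K ≃ₐ[k] K, σ • X = X := fun σ => Units.ext (by
        show σ • ((1 : K) ⊗ₜ[k] (x : A)) = (1 : K) ⊗ₜ[k] (x : A)
        rw [CSAGal.smul_eq_map, Algebra.TensorProduct.map_tmul, map_one]
        rfl)
      have hX : NK (X : K ⊗[k] A) = algebraMap k K (N x) := hbase _
      refine ⟨b⁻¹ * X⁻¹ * b', ?_, fun σ => ?_⟩
      · have e : (b : K ⊗[k] A) * ((b⁻¹ * X⁻¹ * b' : (K ⊗[k] A)ˣ) : K ⊗[k] A) = ((X⁻¹ : (K ⊗[k] A)ˣ) : K ⊗[k] A) * b' := by
          rw [← Units.val_mul, ← Units.val_mul]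
          congr 1
          group
        have h1 := congrArg NK e
        have h2 := congrArg NK X.inv_mul
        rw [map_mul, map_one, hX] at h2
        rw [map_mul, map_mul, hb, hb', hx, map_mul, ← mul_assoc, h2, one_mul] at h1
        exact mul_left_cancel₀ (fun h0 => c.ne_zero ((algebraMap k K).injective (h0.trans (map_zero _).symm)))
          (h1.trans (mul_one _).symm)
      · rw [smul_mul', smul_mul', smul_inv', smul_inv', hXf]
        group
end Groth.Agent.S15415
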