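import Groth.Statements.S15432
import Groth.Agent.GrLib8.HilbertFn
import Groth.Agent.GrLib8.MinCover
import Mathlib.LinearAlgebra.Matrix.ToLinearEquiv
-- import your own Groth.Agent.* helpers here

set_option autoImplicit false
universe u
open GrSyz

namespace Groth.Agent.S15432

private theorem block_eq_zero {A : Type*} [CommRing A] [IsDomain A] {n : ℕ} (N : Matrix (Fin n) (Fin n) A)
    (hN : Function.Injective N.mulVec) (c : Fin n → A) (hc : Matrix.vecMul c N = 0) : c = 0 := by
  classical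
  by_contra h
  obtain ⟨v, hv, hv'⟩ := Matrix.exists_mulVec_eq_zero_iff.2 (Matrix.exists_vecMul_eq_zero_iff.1 ⟨c, h, hc⟩)
  exact hv (hN (by rw [hv', Matrix.mulVec_zero]))

private theorem two_choose (a N : ℤ) (h : a ≤ N) :
    (2 : ℤ) * (if a ≤ N then ((Nat.choose (2 + (N - a).toNat) 2 : ℕ) : ℤ) else 0) = (N + 2 - a) * (N + 1 - a) := by
  rw [if_pos h]
  obtain ⟨q, hq⟩ := Int.eq_ofNat_of_zero_le (show 0 ≤ N - a by omega)
  rw [show N + 2 - a = (q : ℤ) + 2 by omega, show N + 1 - a = (q : ℤ) + 1 by omega, hq, Int.toNat_natCast]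
  have h2 : 2 * Nat.choose (2 + q) 2 = (2 + q) * (1 + q) := by
    clear hq
    induction q with
    | zero => simp
    | succ q ih =>
      rw [show 2 + (q + 1) = (2 + q) + 1 by ring, Nat.choose_succ_succ' (2 + q) 1, Nat.choose_one_right]
      nlinarith
  have h3 := congrArg (fun z : ℕ => (z : ℤ)) h2
  push_cast at h3
  linarith

private theorem lin_bounded {c s₁ s₂ D B : ℤ}
    (h : ∀ N, D ≤ N → |c * ((N + 2) * (N + 1)) - (2 * N + 3) * s₁ + s₂| ≤ B) : c = 0 ∧ s₁ = 0 := by
  have hB : 0 ≤ B := (abs_nonneg _).trans (h D le_rfl)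
  have hM : (1 : ℤ) ≤ 2 * B + 1 := by omega
  have X := abs_le.1 (h D le_rfl)
  have Y := abs_le.1 (h (D + (2 * B + 1)) (by omega))
  have Z := abs_le.1 (h (D + 2 * (2 * B + 1)) (by omega))
  have hc : c = 0 := by
    by_contra hne
    rcases lt_or_gt_of_ne hne with hlt | hlt
    · have : c * (2 * B + 1) ^ 2 ≤ -1 * (2 * B + 1) ^ 2 := mul_le_mul_of_nonneg_right (by omega) (sq_nonneg _)
      nlinarith
    · have : 1 * (2 * B + 1) ^ 2 ≤ c * (2 * B + 1) ^ 2 := mul_le_mul_of_nonneg_right (by omega) (sq_nonneg _)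
      nlinarith
  subst hc
  refine ⟨rfl, ?_⟩
  by_contra hne
  rcases lt_or_gt_of_ne hne with hlt | hlt
  · have : s₁ * (2 * B + 1) ≤ -1 * (2 * B + 1) := mul_le_mul_of_nonneg_right (by omega) (by omega)
    nlinarith
  · have : 1 * (2 * B + 1) ≤ s₁ * (2 * B + 1) := mul_le_mul_of_nonneg_right (by omega) (by omega)
    nlinarith

/-- Let k be a field, Z a nonempty finite set of nonzero vectors of k^3, regarded as points of the
projective plane, I ⊆ S = k[x_0, x_1, x_2] the homogeneous vanishing ideal of Z (a polynomial lies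
in I exactly when each of its homogeneous components vanishes at every vector of Z), M = S/I given
as a ℤ-graded S-module with a surjective degree-preserving S-linear map π : S → M with kernel I, and
F a minimal graded free resolution of M of length at most 2 whose terms F_1 and F_2 have ranks t + 1
and t, with basis degrees a_1 ≥ … ≥ a_{t+1} for F_1 and b_1 ≥ … ≥ b_t for F_2 (non-increasing along
the chosen bases), so that the (i, j) entry of the matrix F_2 → F_1 has degree b_j − a_i. Put e_i =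
b_i − a_i and f_i = b_i − a_{i+1}. Then e_i ≥ 1 and f_i ≥ 1 for every i, and Σ_i a_i = Σ_j b_j
(equivalently a_i = Σ_{j < i} e_j + Σ_{j ≥ i} f_j for every i). (The ordering of both bases is the
standing assumption under which the published statement is made; this row carries it as the
hypotheses on the basis degrees. The further inequalities f_i ≥ e_i and f_i ≥ e_{i+1} follow at once
from the ordering and are not restated.) -/
theorem result (k : Type u) [Field k]
    (Z : Finset (Fin 3 → k)) (hZ : ∀ p ∈ Z, p ≠ 0) (hZne : Z.Nonempty) (I : Ideal (MvPolynomial (Fin 3) k))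
    (hI : ∀ f : MvPolynomial (Fin 3) k, f ∈ I ↔
      ∀ p ∈ Z, ∀ j : ℕ, MvPolynomial.eval p (MvPolynomial.homogeneousComponent j f) = 0)
    (M : Type u) [AddCommGroup M] [Module k M] [Module (MvPolynomial (Fin 3) k) M] [IsScalarTower k (MvPolynomial (Fin 3) k) M]
    (ℳ : ℤ → Submodule k M) [DirectSum.Decomposition ℳ] [SetLike.GradedSMul (GrSyz.stdGr k (Fin 3)) ℳ]
    (π : MvPolynomial (Fin 3) k →ₗ[MvPolynomial (Fin 3) k] M) (hπ : Function.Surjective π)
    (hπg : GrLC.IsGrHom (GrSyz.stdGr k (Fin 3)) ℳ π) (hker : LinearMap.ker π = I)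
    (F : GrSyz.FreeRes (GrSyz.stdGr k (Fin 3)) ℳ) (hF : F.IsMinimal (GrSyz.irrel (GrSyz.stdGr k (Fin 3))).toIdeal) (hlen : F.HasLengthLE 2)
    (t : ℕ) (h1 : F.rk 1 = t + 1) (h2 : F.rk 2 = t)
    (ha : ∀ i j : Fin (t + 1), i ≤ j → F.deg 1 (Fin.cast h1.symm j) ≤ F.deg 1 (Fin.cast h1.symm i))
    (hb : ∀ i j : Fin t, i ≤ j → F.deg 2 (Fin.cast h2.symm j) ≤ F.deg 2 (Fin.cast h2.symm i)) :
    (∀ i : Fin t, 1 ≤ F.deg 2 (Fin.cast h2.symm i) - F.deg 1 (Fin.cast h1.symm i.castSucc) ∧
        1 ≤ F.deg 2 (Fin.cast h2.symm i) - F.deg 1 (Fin.cast h1.symm i.succ)) ∧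
      ∑ i : Fin (t + 1), F.deg 1 (Fin.cast h1.symm i) = ∑ j : Fin t, F.deg 2 (Fin.cast h2.symm j) := by
  classical
  let S := MvPolynomial (Fin 3) k
  let 𝒜 := GrSyz.stdGr k (Fin 3)
  have hnn := GrLib8.stdGr_nonneg k (Fin 3)
  have hone : (1 : S) ∉ I := by
    intro h
    obtain ⟨p, hp⟩ := hZne
    have := (hI 1).1 h p hp 0
    simp at this
  have hπ1 : π 1 ∈ ℳ 0 := hπg 0 1 (SetLike.one_mem_graded _)
  have hπ1ne : π 1 ≠ 0 := fun h => hone (hker ▸ LinearMap.mem_ker.2 h)
  -- the pieces of M are the images of the pieces of the ring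
  have hpiece : ∀ g, ∀ x ∈ ℳ g, ∃ f ∈ 𝒜 g, π f = x := by
    intro g x hx
    obtain ⟨f, hf, hfx⟩ := GrLib8.exists_preimage_mem (ℳ := 𝒜) (𝒩 := ℳ) (d := 0) π
      (fun l y hy => by rw [add_zero]; exact hπg l y hy) hx (hπ x)
    rw [sub_zero] at hf
    exact ⟨f, hf, hfx⟩
  -- bound on the Hilbert function
  have hbd : ∀ g : ℤ, 0 ≤ g → Module.finrank k (ℳ g) ≤ Z.card := by
    intro g hg
    obtain ⟨n, rfl⟩ := Int.eq_ofNat_of_zero_le hg
    haveI : Module.Finite k (𝒜 (n : ℤ)) := (GrLib8.stdGr_piece (k := k) 2 (n : ℤ)).1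
    let P : 𝒜 (n : ℤ) →ₗ[k] ℳ (n : ℤ) := (π.restrictScalars k).restrict fun x hx => hπg _ x hx
    let ev : 𝒜 (n : ℤ) →ₗ[k] (Z → k) :=
      LinearMap.pi fun p => (MvPolynomial.aeval (p.1 : Fin 3 → k)).toLinearMap.comp (Submodule.subtype _)
    have hPs : Function.Surjective P := by
      rintro ⟨x, hx⟩
      obtain ⟨f, hf, hfx⟩ := hpiece _ x hx
      exact ⟨⟨f, hf⟩, Subtype.ext hfx⟩
    have hle : LinearMap.ker ev ≤ LinearMap.ker P := by
      rintro ⟨f, hf⟩ h
      refine LinearMap.mem_ker.2 (Subtype.ext ?_)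
      show π f = 0
      have hh : MvPolynomial.IsHomogeneous f n := by
        simp only [𝒜, GrLib8.stdGr_natCast] at hf; exact hf
      refine LinearMap.mem_ker.1 (hker.symm ▸ (hI f).2 fun p hp j => ?_)
      rw [MvPolynomial.homogeneousComponent_of_mem hh]
      split_ifs
      · exact congrFun (LinearMap.mem_ker.1 h) ⟨p, hp⟩
      · exact map_zero _
    have e1 := P.finrank_range_add_finrank_ker
    rw [LinearMap.range_eq_top.2 hPs, finrank_top] at e1
    have e2 := ev.finrank_range_add_finrank_ker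
    have e3 := Submodule.finrank_mono hle
    have e4 : Module.finrank k (LinearMap.range ev) ≤ Z.card := by
      refine (Submodule.finrank_le _).trans ?_
      rw [Module.finrank_fintype_fun_eq_card, Fintype.card_coe]
    omega
  -- the sums over the resolution
  let hi : ∀ (i : ℕ), ℤ → ℤ := fun i g =>
    ∑ b, (if F.deg i b ≤ g then ((Nat.choose (2 + (g - F.deg i b).toNat) 2 : ℕ) : ℤ) else 0)
  have hH : ∀ g : ℤ, (Module.finrank k (ℳ g) : ℤ) = hi 0 g - hi 1 g + hi 2 g := by
    intro g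
    rw [GrLib8.finrank_piece_eq (r := 2) F 2 hlen g, Finset.sum_range_succ, Finset.sum_range_succ, Finset.sum_range_one]
    simp only [hi]
    ring
  let D : ℤ := ∑ b, |F.deg 0 b| + ∑ b, |F.deg 1 b| + ∑ b, |F.deg 2 b|
  have habs : ∀ i, 0 ≤ ∑ b, |F.deg i b| := fun i => Finset.sum_nonneg fun c _ => abs_nonneg _
  have hle : ∀ i (b : Fin (F.rk i)), F.deg i b ≤ ∑ b, |F.deg i b| := fun i b =>
    (le_abs_self _).trans (Finset.single_le_sum (f := fun b => |F.deg i b|) (fun c _ => abs_nonneg _) (Finset.mem_univ b))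
  have hiq : ∀ i N, (∀ b : Fin (F.rk i), F.deg i b ≤ N) → 2 * hi i N =
      (F.rk i : ℤ) * ((N + 2) * (N + 1)) - (2 * N + 3) * (∑ b, F.deg i b) + ∑ b, F.deg i b ^ 2 := by
    intro i N hN
    simp only [hi]
    rw [Finset.mul_sum, Finset.sum_congr rfl fun b _ => two_choose (F.deg i b) N (hN b),
      Finset.sum_congr rfl fun b _ => show (N + 2 - F.deg i b) * (N + 1 - F.deg i b) =
        (N + 2) * (N + 1) - (2 * N + 3) * F.deg i b + F.deg i b ^ 2 by ring,
      Finset.sum_add_distrib, Finset.sum_sub_distrib, Finset.sum_const, ← Finset.mul_sum, Finset.card_univ,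
      Fintype.card_fin, nsmul_eq_mul]
  obtain ⟨hc, hs1⟩ := lin_bounded (c := (F.rk 0 : ℤ) - (F.rk 1 : ℤ) + (F.rk 2 : ℤ))
      (s₁ := ∑ b, F.deg 0 b - ∑ b, F.deg 1 b + ∑ b, F.deg 2 b)
      (s₂ := ∑ b, F.deg 0 b ^ 2 - ∑ b, F.deg 1 b ^ 2 + ∑ b, F.deg 2 b ^ 2) (D := D) (B := 2 * (Z.card : ℤ)) (by
    intro N hN
    have H0 := habs 0
    have H1 := habs 1
    have H2 := habs 2
    have hN' : ∀ i, i ≤ 2 → ∀ b : Fin (F.rk i), F.deg i b ≤ N := by
      intro i hi b
      have := hle i b
      simp only [D] at hN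
      interval_cases i <;> linarith
    have E : 2 * (Module.finrank k (ℳ N) : ℤ) =
        ((F.rk 0 : ℤ) - (F.rk 1 : ℤ) + (F.rk 2 : ℤ)) * ((N + 2) * (N + 1)) -
          (2 * N + 3) * (∑ b, F.deg 0 b - ∑ b, F.deg 1 b + ∑ b, F.deg 2 b) +
          (∑ b, F.deg 0 b ^ 2 - ∑ b, F.deg 1 b ^ 2 + ∑ b, F.deg 2 b ^ 2) := by
      rw [hH N, mul_add, mul_sub, hiq 0 N (hN' 0 (by norm_num)), hiq 1 N (hN' 1 (by norm_num)),
        hiq 2 N (hN' 2 le_rfl)]
      ring
    have hb' := hbd N (by simp only [D] at hN; linarith)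
    rw [← E, abs_of_nonneg (by positivity)]
    omega)
  have hrk0 : F.rk 0 = 1 := by omega
  haveI : Unique (Fin (F.rk 0)) := hrk0 ▸ (inferInstance : Unique (Fin 1))
  -- the generator has degree zero
  have hdeg0 : F.deg 0 default = 0 := by
    obtain ⟨v, hv⟩ := F.aug_surjective (π 1)
    rw [Fintype.linearCombination_apply, Fintype.sum_unique] at hv
    obtain ⟨f, hf, hfx⟩ := hpiece _ _ (F.aug_mem default)
    have hge : 0 ≤ F.deg 0 default := by
      by_contra hlt
      rw [hnn _ (by omega) f hf, map_zero] at hfx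
      exact hπ1ne (by rw [← hv, ← hfx, smul_zero])
    by_contra hne
    obtain ⟨n, hn⟩ := Int.eq_ofNat_of_zero_le hge
    rw [hn] at hf
    have hf' : MvPolynomial.IsHomogeneous f n := by simp only [𝒜, GrLib8.stdGr_natCast] at hf; exact hf
    have hmem : 1 - v default * f ∈ I := by
      rw [← hker, LinearMap.mem_ker, map_sub, ← smul_eq_mul (v default) f, map_smul, hfx, hv, sub_self]
    obtain ⟨p, hp⟩ := hZne
    have h0 := (hI _).1 hmem p hp 0
    have hf0 : MvPolynomial.constantCoeff f = 0 := by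
      rw [MvPolynomial.constantCoeff_eq]
      refine hf'.coeff_eq_zero ?_
      simp only [map_zero]
      omega
    rw [MvPolynomial.homogeneousComponent_zero, MvPolynomial.eval_C, ← MvPolynomial.constantCoeff_eq,
      map_sub, map_mul, hf0, mul_zero, sub_zero] at h0
    simp at h0
  have hsum : ∑ i : Fin (t + 1), F.deg 1 (Fin.cast h1.symm i) = ∑ j : Fin t, F.deg 2 (Fin.cast h2.symm j) := by
    rw [show ∑ i : Fin (t + 1), F.deg 1 (Fin.cast h1.symm i) = ∑ b, F.deg 1 b from
        Fintype.sum_equiv (finCongr h1.symm) _ _ (fun _ => rfl),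
      show ∑ j : Fin t, F.deg 2 (Fin.cast h2.symm j) = ∑ b, F.deg 2 b from
        Fintype.sum_equiv (finCongr h2.symm) _ _ (fun _ => rfl)]
    rw [Fintype.sum_unique, hdeg0] at hs1
    omega
  -- the diagonal degrees
  have he : ∀ i : Fin t, 1 ≤ F.deg 2 (Fin.cast h2.symm i) - F.deg 1 (Fin.cast h1.symm i.castSucc) := by
    intro i
    by_contra hlt
    let n := t - i.1
    let row : Fin n → Fin (F.rk 1) := fun j => Fin.cast h1.symm ⟨i.1 + 1 + j.1, by omega⟩
    let col : Fin n → Fin (F.rk 2) := fun j => Fin.cast h2.symm ⟨i.1 + j.1, by omega⟩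
    have hrow : ∀ p : Fin (F.rk 1), i.1 < p.1 → ∃ j, row j = p := fun p hp =>
      ⟨⟨p.1 - (i.1 + 1), by have := p.2; omega⟩, Fin.ext (by simp only [row, Fin.val_cast]; omega)⟩
    have hrowinj : Function.Injective row := fun a b h => Fin.ext (by
      have := congrArg Fin.val h; simp only [row, Fin.val_cast] at this; omega)
    have hcolinj : Function.Injective col := fun a b h => Fin.ext (by
      have := congrArg Fin.val h; simp only [col, Fin.val_cast] at this; omega)
    have hzero : ∀ (p : Fin (F.rk 1)) (j : Fin n), p.1 ≤ i.1 → F.d 1 p (col j) = 0 := by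
      intro p j hp
      refine GrLib8.eq_zero_of_mem_irrel_of_deg 𝒜 hnn (i := F.deg 2 (col j) - F.deg 1 p) ?_ (F.d_mem 1 p (col j)) (hF 1 p (col j))
      have A := ha (Fin.cast h1 p) i.castSucc hp
      have B := hb i ⟨i.1 + j.1, by omega⟩ (Nat.le_add_right _ _)
      simp only [Fin.cast_cast, Fin.cast_eq_self] at A
      simp only [col]
      omega
    let N : Matrix (Fin n) (Fin n) S := fun a b => F.d 1 (row a) (col b)
    have hN : Function.Injective N.mulVec := by
      rw [← Matrix.coe_mulVecLin, injective_iff_map_eq_zero]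
      intro v hv
      let w : Fin (F.rk 2) → S := Function.extend col v 0
      have hw : ∀ p, (F.d 1).mulVec w p = ∑ j, F.d 1 p (col j) * v j := by
        intro p
        rw [Matrix.mulVec, dotProduct]
        refine (Finset.sum_subset (Finset.subset_univ (Finset.univ.map ⟨col, hcolinj⟩)) (fun q _ hq => ?_)).symm.trans ?_
        · rw [show w q = 0 from Function.extend_apply' _ _ _ (by simpa [eq_comm] using hq), mul_zero]
        · rw [Finset.sum_map]
          exact Finset.sum_congr rfl fun j _ => by simp [w, hcolinj.extend_apply]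
      have hker2 : w ∈ LinearMap.ker (Matrix.mulVecLin (F.d 1)) := by
        rw [LinearMap.mem_ker, Matrix.mulVecLin_apply]
        funext p
        rw [hw p]
        rcases le_or_gt p.1 i.1 with hp | hp
        · exact Finset.sum_eq_zero fun j _ => by rw [hzero p j hp, zero_mul]
        · obtain ⟨a, rfl⟩ := hrow p hp
          exact congrFun hv a
      rw [F.exact_succ 1] at hker2
      obtain ⟨u, hu⟩ := hker2
      haveI : IsEmpty (Fin (F.rk 3)) := (hlen 3 (by norm_num)) ▸ Fin.isEmpty'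
      rw [Subsingleton.elim u 0, map_zero] at hu
      funext j
      rw [← hcolinj.extend_apply v 0 j]
      exact (congrFun hu (col j)).symm
    have hvec : Matrix.vecMul (fun a => F.d 0 default (row a)) N = 0 := by
      funext b
      have hcomp : (F.d 0).mulVec ((F.d 1).mulVec (Pi.single (col b) 1)) = 0 := by
        have h0 : (Matrix.mulVecLin (F.d 1)) (Pi.single (col b) 1) ∈ LinearMap.range (Matrix.mulVecLin (F.d 1)) :=
          LinearMap.mem_range_self _ _
        rw [← F.exact_succ 0] at h0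
        exact LinearMap.mem_ker.1 h0
      have := congrFun hcomp default
      rw [Matrix.mulVec_single_one] at this
      simp only [Matrix.mulVec, dotProduct, Matrix.col_apply, Pi.zero_apply] at this
      refine Eq.trans ?_ this
      refine Eq.trans ?_ (Finset.sum_subset (Finset.subset_univ (Finset.univ.map ⟨row, hrowinj⟩)) (fun q _ hq => ?_))
      · rw [Finset.sum_map]; rfl
      · rcases le_or_gt q.1 i.1 with hp | hp
        · rw [hzero q b hp, mul_zero]
        · obtain ⟨a, rfl⟩ := hrow q hp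
          simp at hq
    have hz := block_eq_zero N hN _ hvec
    let a₀ : Fin n := ⟨0, by omega⟩
    have hk : Pi.single (row a₀) 1 ∈ LinearMap.ker (Matrix.mulVecLin (F.d 0)) := by
      rw [LinearMap.mem_ker, Matrix.mulVecLin_apply, Matrix.mulVec_single_one]
      funext q
      rw [Matrix.col_apply, Unique.eq_default q]
      exact congrFun hz a₀
    rw [F.exact_succ 0] at hk
    obtain ⟨u, hu⟩ := hk
    have h1m : (1 : S) ∈ (GrSyz.irrel 𝒜).toIdeal := by
      have := congrFun hu (row a₀)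
      rw [Pi.single_eq_same] at this
      rw [← this, Matrix.mulVecLin_apply, Matrix.mulVec, dotProduct]
      exact Ideal.sum_mem _ fun q _ => Ideal.mul_mem_right _ _ (hF 1 _ _)
    exact one_ne_zero (GrLib8.eq_zero_of_mem_irrel_of_deg 𝒜 hnn le_rfl (SetLike.one_mem_graded _) h1m)
  refine ⟨fun i => ⟨he i, ?_⟩, hsum⟩
  have A := ha i.castSucc i.succ (Fin.castSucc_lt_succ (i := i)).le
  have B := he i
  omega


end Groth.Agent.S15432
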