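import Groth.Statements.S15433
import Groth.Agent.S15425
import Groth.Agent.GrLib8.HilbertFn
import Groth.Agent.GrLib8.StdField
import Groth.Agent.GrLib8.StdPoly
-- import your own Groth.Agent.* helpers here

set_option autoImplicit false
universe u
open GrSyz

namespace Groth.Agent.S15433

section
open MvPolynomial

variable {k : Type u} [Field k] {n : ℕ}

private theorem length_eq_of_torsion {N : Type u} [AddCommGroup N] [Module (MvPolynomial (Fin n) k) N]
    (h : IsFiniteLength (MvPolynomial (Fin n) k) N) :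
    ∀ [Module k N] [IsScalarTower k (MvPolynomial (Fin n) k) N],
      (∀ x : N, ∃ j : ℕ, ∀ i : Fin n, (X i : MvPolynomial (Fin n) k) ^ j • x = 0) →
      Module.length k N = Module.length (MvPolynomial (Fin n) k) N := by
  induction h with
  | of_subsingleton => intros; rw [Module.length_eq_zero, Module.length_eq_zero]
  | @of_simple_quotient N _ _ P hsimp hP ih =>
    intro _ _ htors
    have hPt : ∀ x : P, ∃ j : ℕ, ∀ i : Fin n, (X i : MvPolynomial (Fin n) k) ^ j • x = 0 := fun x => by
      obtain ⟨j, hj⟩ := htors x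
      exact ⟨j, fun i => Subtype.ext (hj i)⟩
    have hq : Module.length k (N ⧸ P) = 1 := by
      obtain ⟨m, hm, ⟨e⟩⟩ := isSimpleModule_iff_quot_maximal.1 hsimp
      have hX : ∀ i : Fin n, (X i : MvPolynomial (Fin n) k) ∈ m := by
        intro i
        obtain ⟨y, hy⟩ := Submodule.mkQ_surjective P (e.symm (Ideal.Quotient.mk m 1))
        obtain ⟨j, hj⟩ := htors y
        refine hm.isPrime.mem_of_pow_mem j ?_
        have := congrArg e (congrArg (Submodule.mkQ P) (hj i))
        rw [map_smul, map_smul, hy, e.apply_symm_apply, map_zero, map_zero] at this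
        exact Ideal.Quotient.eq_zero_iff_mem.1 (show Ideal.Quotient.mk m ((X i : MvPolynomial (Fin n) k) ^ j) = 0 by
          rw [← mul_one ((X i : MvPolynomial (Fin n) k) ^ j)]; exact this)
      have hs : Function.Surjective (algebraMap k (MvPolynomial (Fin n) k ⧸ m)) := by
        intro z
        obtain ⟨p, rfl⟩ := Ideal.Quotient.mk_surjective z
        induction p using MvPolynomial.induction_on with
        | C a => exact ⟨a, rfl⟩
        | add p q hp hq =>
          obtain ⟨a, ha⟩ := hp
          obtain ⟨b, hb⟩ := hq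
          exact ⟨a + b, by rw [map_add, ha, hb, map_add]⟩
        | mul_X p i hp => exact ⟨0, by rw [map_zero, map_mul, Ideal.Quotient.eq_zero_iff_mem.2 (hX i), mul_zero]⟩
      rw [(e.restrictScalars k).length_eq]
      haveI : Nontrivial (MvPolynomial (Fin n) k ⧸ m) := Ideal.Quotient.nontrivial_iff.2 hm.ne_top
      let e' : k ≃ₗ[k] MvPolynomial (Fin n) k ⧸ m :=
        LinearEquiv.ofBijective (Algebra.linearMap k _) ⟨(algebraMap k (MvPolynomial (Fin n) k ⧸ m)).injective, hs⟩
      rw [← e'.length_eq, Module.length_eq_one]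
    rw [Module.length_eq_add_of_exact (R := k) (P.subtype.restrictScalars k) (P.mkQ.restrictScalars k) P.injective_subtype
        P.mkQ_surjective (LinearMap.exact_subtype_mkQ P), hq, ih hPt,
      Module.length_eq_add_of_exact (R := MvPolynomial (Fin n) k) P.subtype P.mkQ P.injective_subtype P.mkQ_surjective
        (LinearMap.exact_subtype_mkQ P), Module.length_eq_one (MvPolynomial (Fin n) k) (N ⧸ P)]

end

/-- Let k be a field, S = k[x_0, …, x_r] graded by degree, 𝔪 = (x_0, …, x_r), and M = S/I a graded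
quotient of S, given with a surjective degree-preserving S-linear map π : S → M whose kernel I
contains no nonzero linear form. Let y_0, …, y_t be linear forms forming a weakly regular sequence
on M (each a non-zerodivisor modulo the previous ones) and N = M/(y_0, …, y_t)M, given as a graded
module with a surjective degree-preserving S-linear map σ : M → N with kernel (y_0, …, y_t)M, and
suppose N has finite length ℓ. Then reg M + (r − t) ≤ ℓ, reg being the Castelnuovo–Mumford
regularity of M in the sense of minimal graded free resolutions. (The published statement is reg S_X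
≤ deg X − codim X for an arithmetically Cohen–Macaulay subvariety X of P^r not contained in a
hyperplane; this row is the algebraic statement its proof establishes, with S_X any graded quotient
of S by an ideal without linear forms, the maximal regular sequence of linear forms given, deg X
replaced by the length of S_X/(y_0, …, y_t)S_X and codim X by r − t, which agree with the degree and
the codimension in that situation.) -/
theorem result (k : Type u) [Field k] (r : ℕ)
    (M : Type u) [AddCommGroup M] [Module k M] [Module (MvPolynomial (Fin (r + 1)) k) M]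
    [IsScalarTower k (MvPolynomial (Fin (r + 1)) k) M] [Module.Finite (MvPolynomial (Fin (r + 1)) k) M]
    (ℳ : ℤ → Submodule k M) [DirectSum.Decomposition ℳ] [SetLike.GradedSMul (GrSyz.stdGr k (Fin (r + 1))) ℳ]
    (π : MvPolynomial (Fin (r + 1)) k →ₗ[MvPolynomial (Fin (r + 1)) k] M) (hπ : Function.Surjective π)
    (hπg : GrLC.IsGrHom (GrSyz.stdGr k (Fin (r + 1))) ℳ π)
    (hlin : ∀ x : MvPolynomial (Fin (r + 1)) k, x ∈ GrSyz.stdGr k (Fin (r + 1)) 1 → π x = 0 → x = 0)
    (ys : List (MvPolynomial (Fin (r + 1)) k)) (hys : ∀ y ∈ ys, y ∈ GrSyz.stdGr k (Fin (r + 1)) 1)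
    (hreg : RingTheory.Sequence.IsWeaklyRegular M ys)
    (N : Type u) [AddCommGroup N] [Module k N] [Module (MvPolynomial (Fin (r + 1)) k) N]
    [IsScalarTower k (MvPolynomial (Fin (r + 1)) k) N]
    (𝒩 : ℤ → Submodule k N) [DirectSum.Decomposition 𝒩] [SetLike.GradedSMul (GrSyz.stdGr k (Fin (r + 1))) 𝒩]
    (σ : M →ₗ[MvPolynomial (Fin (r + 1)) k] N) (hσ : Function.Surjective σ) (hσg : GrLC.IsGrHom ℳ 𝒩 σ)
    (hker : LinearMap.ker σ = Ideal.ofList ys • (⊤ : Submodule (MvPolynomial (Fin (r + 1)) k) M))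
    (ℓ : ℕ) (hℓ : Module.length (MvPolynomial (Fin (r + 1)) k) N = (ℓ : ℕ∞)) :
    GrSyz.reg (GrSyz.stdGr k (Fin (r + 1))) ℳ (GrSyz.irrel (GrSyz.stdGr k (Fin (r + 1)))).toIdeal + ((((r : ℤ) + 1 - (ys.length : ℤ) : ℤ) : WithTop ℤ) : WithBot (WithTop ℤ)) ≤
      (((ℓ : ℤ) : WithTop ℤ) : WithBot (WithTop ℤ)) := by
  classical
  let S := MvPolynomial (Fin (r + 1)) k
  let 𝒜 := GrSyz.stdGr k (Fin (r + 1))
  have hnn := GrLib8.stdGr_nonneg k (Fin (r + 1))
  haveI : Module.Finite S N := Module.Finite.of_surjective σ hσ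
  have hfl : IsFiniteLength S N := Module.length_ne_top_iff.1 (by rw [hℓ]; exact ENat.coe_ne_top ℓ)
  rw [Groth.Agent.S15425.result k r M ℳ ys hys hreg N 𝒩 σ hσ hσg hker hfl]
  -- N is cyclic, generated in degree zero
  let φ : S →ₗ[S] N := σ.comp π
  have hφs : Function.Surjective φ := hσ.comp hπ
  have hφg : ∀ g (f : S), f ∈ 𝒜 g → φ f ∈ 𝒩 g := fun g f hf => hσg g _ (hπg g f hf)
  have hpiece : ∀ g, ∀ x ∈ 𝒩 g, ∃ f ∈ 𝒜 g, φ f = x := by
    intro g x hx
    obtain ⟨f, hf, hfx⟩ := GrLib8.exists_preimage_mem (ℳ := 𝒜) (𝒩 := 𝒩) (d := 0) φ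
      (fun l y hy => by rw [add_zero]; exact hφg l y hy) hx (hφs x)
    rw [sub_zero] at hf
    exact ⟨f, hf, hfx⟩
  have hXmem : ∀ i, (MvPolynomial.X i : S) ∈ 𝒜 1 := fun i =>
    MvPolynomial.isWeightedHomogeneous_X k (fun _ : Fin (r + 1) => (1 : ℤ)) i
  have hstep : ∀ j : ℕ, 𝒩 (j : ℤ) = ⊥ → 𝒩 ((j : ℤ) + 1) = ⊥ := by
    intro j hj
    refine (Submodule.eq_bot_iff _).2 fun x hx => ?_
    obtain ⟨f, hf, rfl⟩ := hpiece _ x hx
    rw [← MvPolynomial.support_sum_monomial_coeff f, map_sum]
    refine Finset.sum_eq_zero fun d hd => ?_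
    have hw := (GrSyz.mem_stdGr_iff k (Fin (r + 1)) _ f).1 hf (MvPolynomial.mem_support_iff.1 hd)
    have hd0 : d ≠ 0 := by rintro rfl; rw [map_zero] at hw; omega
    obtain ⟨i, hi⟩ := Finsupp.ne_iff.1 hd0
    have hle : Finsupp.single i 1 ≤ d := Finsupp.single_le_iff.2 (Nat.one_le_iff_ne_zero.2 hi)
    have hmono : MvPolynomial.monomial d (MvPolynomial.coeff d f) =
        (MvPolynomial.X i : S) • MvPolynomial.monomial (d - Finsupp.single i 1) (MvPolynomial.coeff d f) := by
      rw [smul_eq_mul, MvPolynomial.X, MvPolynomial.monomial_mul, one_mul, add_tsub_cancel_of_le hle]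
    have hmem : MvPolynomial.monomial (d - Finsupp.single i 1) (MvPolynomial.coeff d f) ∈ 𝒜 (j : ℤ) := by
      refine MvPolynomial.isWeightedHomogeneous_monomial _ _ _ ?_
      have := congrArg (Finsupp.weight (fun _ : Fin (r + 1) => (1 : ℤ))) (add_tsub_cancel_of_le hle)
      rw [map_add, Finsupp.weight_single, one_smul, hw] at this
      omega
    rw [hmono, map_smul, (Submodule.eq_bot_iff _).1 hj _ (hφg _ _ hmem), smul_zero]
  have hdown : ∀ (g j : ℕ), j ≤ g → 𝒩 (g : ℤ) ≠ ⊥ → 𝒩 (j : ℤ) ≠ ⊥ := by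
    intro g j hjg hg hj
    apply hg
    induction hjg with
    | refl => exact hj
    | @step m _ ih =>
      rw [show ((m.succ : ℕ) : ℤ) = (m : ℤ) + 1 by simp]
      exact hstep m (by by_contra h; exact h (ih h))
  -- dimensions
  haveI hSfin : ∀ g, Module.Finite k (𝒜 g) := fun g => (GrLib8.stdGr_piece (k := k) r g).1
  let P : ∀ g, 𝒜 g →ₗ[k] 𝒩 g := fun g => (φ.restrictScalars k).restrict fun x hx => hφg g x hx
  have hPs : ∀ g, Function.Surjective (P g) := fun g y => by
    obtain ⟨f, hf, hfx⟩ := hpiece g y y.2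
    exact ⟨⟨f, hf⟩, Subtype.ext hfx⟩
  haveI hNfin : ∀ g, Module.Finite k (𝒩 g) := fun g => Module.Finite.of_surjective (P g) (hPs g)
  have hone : (r : ℤ) + 1 - ys.length ≤ Module.finrank k (𝒩 1) := by
    let W : Submodule k S := Submodule.span k {y | y ∈ ys}
    have hideal : ∀ h ∈ Ideal.ofList ys, ∀ a : S, ((DirectSum.decompose 𝒜 (a * h) 1 : 𝒜 1) : S) ∈ W := by
      intro h hh
      refine Submodule.span_induction (fun y hy a => ?_) (fun a => ?_) (fun p q _ _ hp hq a => ?_) (fun c p _ hp a => ?_) hh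
      · have := DirectSum.coe_decompose_mul_add_of_right_mem 𝒜 (a := a) (b := y) (i := (0 : ℤ)) (hys y hy)
        rw [zero_add] at this
        rw [this, GrLib8.eq_C_of_stdGr_zero k _ _ (SetLike.coe_mem _), ← MvPolynomial.smul_eq_C_mul]
        exact W.smul_mem _ (Submodule.subset_span hy)
      · rw [mul_zero, DirectSum.decompose_zero, DirectSum.zero_apply, ZeroMemClass.coe_zero]
        exact W.zero_mem
      · rw [mul_add, DirectSum.decompose_add, DirectSum.add_apply, AddMemClass.coe_add]
        exact W.add_mem (hp a) (hq a)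
      · rw [smul_eq_mul, ← mul_assoc]
        exact hp _
    have hker1 : (LinearMap.ker (P 1)).map (𝒜 1).subtype ≤ W := by
      rintro _ ⟨⟨f, hf⟩, hf0, rfl⟩
      have h0 : π f ∈ LinearMap.ker σ := LinearMap.mem_ker.2 (congrArg Subtype.val (LinearMap.mem_ker.1 hf0))
      rw [hker, ← LinearMap.range_eq_top.2 hπ, ← Submodule.map_top, ← Submodule.map_smul''] at h0
      obtain ⟨h, hh, hhf⟩ := h0
      simp only [SetLike.mem_coe, smul_eq_mul, Ideal.mul_top] at hh
      let h₁ : S := (DirectSum.decompose 𝒜 h 1 : 𝒜 1)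
      have hh1 : π h₁ = π f := by
        have := GrLib8.map_decompose_deg (ℳ := 𝒜) (𝒩 := ℳ) (d := 0) π (fun l y hy => by rw [add_zero]; exact hπg l y hy) h 1
        rw [add_zero, hhf, DirectSum.decompose_of_mem_same ℳ (hπg 1 f hf)] at this
        exact this
      have hfh : f - h₁ = 0 := hlin _ (Submodule.sub_mem _ hf (SetLike.coe_mem _)) (by rw [map_sub, hh1, sub_self])
      have := hideal h hh 1
      rw [one_mul] at this
      show f ∈ W
      rw [sub_eq_zero.1 hfh]
      exact this
    haveI : Module.Finite k W := Module.Finite.span_of_finite k (ys.finite_toSet)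
    have hW : Module.finrank k W ≤ ys.length := by
      have hset : {y | y ∈ ys} = (↑ys.toFinset : Set S) := Set.ext fun y => List.mem_toFinset.symm
      refine le_trans (le_of_eq ?_) ((finrank_span_finset_le_card (R := k) ys.toFinset).trans (List.toFinset_card_le ys))
      rw [← hset]
      rfl
    have e1 : Module.finrank k (LinearMap.ker (P 1)) ≤ Module.finrank k W := by
      rw [← Submodule.finrank_map_subtype_eq (𝒜 1) (LinearMap.ker (P 1))]
      exact Submodule.finrank_mono hker1
    have e2 := (P 1).finrank_range_add_finrank_ker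
    rw [LinearMap.range_eq_top.2 (hPs 1), finrank_top] at e2
    have e3 : Module.finrank k (𝒜 1) = r + 1 := by
      rw [(GrLib8.stdGr_piece (k := k) r 1).2, if_pos zero_le_one]
      simp
    omega
  have htors : ∀ x : N, ∃ j : ℕ, ∀ i : Fin (r + 1), (MvPolynomial.X i : S) ^ j • x = 0 := fun x => by
    obtain ⟨j, hj⟩ := GrLib8.isPowerTorsion_of_isFiniteLength 𝒜 𝒩 hnn hfl x
    exact ⟨j, fun i => hj _ (Ideal.pow_mem_pow (GrLib8.mem_irrel_of_pos _ one_pos (hXmem i)) j)⟩
  have hkey : ∀ g : ℕ, 𝒩 (g : ℤ) ≠ ⊥ → (g : ℤ) + ((r : ℤ) + 1 - ys.length) ≤ ℓ := by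
    intro g hg
    let m := max g 1
    let ι := Fin (m + 1)
    let L : (∀ j : ι, 𝒩 ((j : ℕ) : ℤ)) →ₗ[k] N := ∑ j : ι, (𝒩 ((j : ℕ) : ℤ)).subtype.comp (LinearMap.proj j)
    have hLinj : Function.Injective L := by
      rw [injective_iff_map_eq_zero]
      intro v hv
      funext j
      have hv' : ∑ i : ι, ((v i : 𝒩 ((i : ℕ) : ℤ)) : N) = 0 := by
        simpa [L, LinearMap.sum_apply] using hv
      have h2 := congrArg (fun x : N => ((DirectSum.decompose 𝒩 x ((j : ℕ) : ℤ) : 𝒩 _) : N)) hv'
      simp only [DirectSum.decompose_sum, DirectSum.decompose_zero, DirectSum.zero_apply, ZeroMemClass.coe_zero] at h2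
      rw [DFinsupp.finsetSum_apply, AddSubmonoidClass.coe_finsetSum] at h2
      rw [Finset.sum_eq_single j (fun i _ hij => DirectSum.decompose_of_mem_ne 𝒩 (v i).2
        (fun h => hij (Fin.ext (Int.ofNat_inj.1 h)))) (fun h => absurd (Finset.mem_univ j) h),
        DirectSum.decompose_of_mem_same 𝒩 (v j).2] at h2
      exact Subtype.ext h2
    have hle : Module.length k (∀ j : ι, 𝒩 ((j : ℕ) : ℤ)) ≤ (ℓ : ℕ∞) :=
      hℓ ▸ (length_eq_of_torsion hfl htors) ▸ Module.length_le_of_injective L hLinj
    rw [Module.length_eq_finrank, Module.finrank_pi_fintype, ENat.coe_le_coe] at hle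
    let a : ι → ℕ := fun j => Module.finrank k (𝒩 ((j : ℕ) : ℤ))
    let one : ι := ⟨1, by omega⟩
    let S' := (Finset.univ : Finset ι).filter fun j => j.1 ≤ g ∧ j.1 ≠ 1
    have hsum : S'.card + a one ≤ ℓ := by
      refine le_trans ?_ hle
      rw [← Finset.add_sum_erase Finset.univ a (Finset.mem_univ one), Nat.add_comm]
      refine Nat.add_le_add_left ?_ _
      refine le_trans ?_ (Finset.sum_le_sum_of_subset (s := S') fun j hj => ?_)
      · rw [Finset.card_eq_sum_ones]
        refine Finset.sum_le_sum fun j hj => ?_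
        simp only [S', Finset.mem_filter] at hj
        exact Nat.one_le_iff_ne_zero.2 fun h0 => hdown g j hj.2.1 hg (Submodule.finrank_eq_zero.1 h0)
      · simp only [S', Finset.mem_filter] at hj
        exact Finset.mem_erase.2 ⟨fun h => hj.2.2 (congrArg Fin.val h), Finset.mem_univ _⟩
    have hcard : g ≤ S'.card := by
      let emb : Fin g ↪ ι := ⟨fun i => ⟨if i.1 = 0 then 0 else i.1 + 1, by split_ifs <;> omega⟩, fun i j h => by
        have := congrArg Fin.val h
        simp only at this
        exact Fin.ext (by by_cases hi : i.1 = 0 <;> by_cases hj' : j.1 = 0 <;> simp [hi, hj'] at this ⊢ <;> omega)⟩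
      refine le_trans (le_of_eq (by simp)) (Finset.card_le_card (s := Finset.univ.map emb) fun j hj => ?_)
      simp only [Finset.mem_map, Finset.mem_univ, true_and] at hj
      obtain ⟨i, rfl⟩ := hj
      have := i.2
      refine Finset.mem_filter.2 ⟨Finset.mem_univ _, ?_⟩
      show (if i.1 = 0 then 0 else i.1 + 1) ≤ g ∧ (if i.1 = 0 then 0 else i.1 + 1) ≠ 1
      by_cases hi : i.1 = 0
      · rw [if_pos hi]; omega
      · rw [if_neg hi]; omega
    have ha : (r : ℤ) + 1 - ys.length ≤ (a one : ℤ) := hone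
    omega
  have hend : GrLC.endDeg (fun n => (𝒩 n).toAddSubgroup) ≤
      ((((ℓ : ℤ) - ((r : ℤ) + 1 - ys.length) : ℤ) : WithTop ℤ) : WithBot (WithTop ℤ)) := by
    rw [GrLib8.endDeg_le_iff]
    intro g hg
    refine (AddSubgroup.eq_bot_iff_forall _).2 fun x hx => ?_
    by_contra hx0
    have hgnn : 0 ≤ g := by
      by_contra hlt
      obtain ⟨f, hf, hfx⟩ := hpiece g x hx
      exact hx0 (by rw [← hfx, hnn _ (by omega) f hf, map_zero])
    obtain ⟨j, rfl⟩ := Int.eq_ofNat_of_zero_le hgnn
    have := hkey j (fun hbot => hx0 ((Submodule.eq_bot_iff _).1 hbot x hx))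
    omega
  refine (add_le_add_left hend _).trans (le_of_eq ?_)
  rw [← WithBot.coe_add, ← WithTop.coe_add, sub_add_cancel]


end Groth.Agent.S15433
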