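import Groth.Statements.S15435
import Groth.Agent.TildeRes6.GReg

set_option backward.isDefEq.respectTransparency false
set_option backward.isDefEq.respectTransparency.types false
set_option maxHeartbeats 1000000

open CategoryTheory CategoryTheory.Limits AlgebraicGeometry TopologicalSpace Opposite DirectSum
open Groth.Agent.GrLib8 Groth.Agent.TildeRes6

set_option autoImplicit false
universe u
open GrSyz

namespace Groth.Agent.S15435

/-- Let k be a field, S = k[x_0, …, x_r] graded by degree, 𝔪 = (x_0, …, x_r), and M a finitely generated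
ℤ-graded S-module; M̃ and the M(d)~ denote the O-modules on P^r_k associated with the pieces M_n, n
≥ 0 (they depend only on the pieces of large degree), with the canonical maps M_d → H^0(P^r_k,
M(d)~); graded local cohomology is computed from any *injective resolution in the graded category;
let d ≥ 0. Then M is d-regular, that is H^0_𝔪(M) has no nonzero piece above degree d and H^i_𝔪(M)
vanishes in degree d − i + 1 for every i > 0, if and only if: (1) the sheaf M̃ is d-regular,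
H^i(P^r_k, M̃(d − i)) = 0 for 1 ≤ i ≤ r; (2) H^0_𝔪(M) vanishes in every degree e > d; and (3) the
canonical map from M_d to the global sections of M(d)~ is surjective. (The published statement
allows any integer d; it is stated here for d ≥ 0.) -/
theorem result (k : Type u) [Field k] (r : ℕ)
    (M : Type u) [AddCommGroup M] [Module k M] [Module (MvPolynomial (Fin (r + 1)) k) M]
    [IsScalarTower k (MvPolynomial (Fin (r + 1)) k) M] [Module.Finite (MvPolynomial (Fin (r + 1)) k) M]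
    (ℳ : ℤ → Submodule k M) [DirectSum.Decomposition ℳ] [SetLike.GradedSMul (GrSyz.stdGr k (Fin (r + 1))) ℳ]
    [SetLike.GradedSMul (CohB1.polyGrading r k) (fun n : ℕ => ℳ (n : ℤ))]
    (E : GrLC.StarInjRes (GrSyz.stdGr k (Fin (r + 1))) ℳ) (d : ℕ) :
    (GrLC.endDeg (E.Hgr (GrSyz.irrel (GrSyz.stdGr k (Fin (r + 1)))) 0) ≤ (((d : ℤ) : WithTop ℤ) : WithBot (WithTop ℤ)) ∧
        ∀ i : ℕ, 0 < i → E.Hcomp (GrSyz.irrel (GrSyz.stdGr k (Fin (r + 1)))) i ((d : ℤ) - (i : ℤ) + 1) = ⊥) ↔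
      (Curv2.IsMRegular k r (GrTilde.tilde (CohB1.polyGrading r k) (fun n : ℕ => ℳ (n : ℤ)) 0) (d : ℤ) ∧
        (∀ e : ℤ, (d : ℤ) < e → E.Hcomp (GrSyz.irrel (GrSyz.stdGr k (Fin (r + 1)))) 0 e = ⊥) ∧
        Function.Surjective (fun m : ↥(ℳ ((d : ℕ) : ℤ)) => GrTilde.globalOf (CohB1.polyGrading r k) (fun n : ℕ => ℳ (n : ℤ)) m)) := by
  classical
  let X : GrLC.GMod.{u} (GrSyz.stdGr k (Fin (r + 1))) := gmodPieces (GrSyz.stdGr k (Fin (r + 1))) ℳ
  haveI : Module.Finite (MvPolynomial (Fin (r + 1)) k) X.carrier :=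
    inferInstanceAs (Module.Finite (MvPolynomial (Fin (r + 1)) k) M)
  let toX : M →ₗ[MvPolynomial (Fin (r + 1)) k] X.carrier := LinearMap.id (R := MvPolynomial (Fin (r + 1)) k) (M := M)
  let ofX : X.carrier →ₗ[MvPolynomial (Fin (r + 1)) k] M := LinearMap.id (R := MvPolynomial (Fin (r + 1)) k) (M := M)
  have a1 : Shift (fun n : ℕ => ℳ (n : ℤ)) (pc (sft X 0)) toX 0 0 := fun i j m hm hij =>
    Or.inr ⟨i, hij, show m ∈ ℳ ((i : ℤ) + 0) by rwa [add_zero]⟩
  have a2 : Shift (pc (sft X 0)) (fun n : ℕ => ℳ (n : ℤ)) ofX 0 0 := fun i j m hm hij =>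
    Or.inr ⟨i, hij, by have hm' : (ofX m) ∈ ℳ ((i : ℤ) + 0) := hm; rwa [add_zero] at hm'⟩
  let σ : GrTilde.tilde (CohB1.polyGrading r k) (fun n : ℕ => ℳ (n : ℤ)) 0 ≅ sh (sft X 0) :=
    shiftIso toX a1 ofX a2 (fun _ => rfl) (fun _ => rfl)
  have hiso : ∀ e : ℤ, Nonempty ((twF e).obj (GrTilde.tilde (CohB1.polyGrading r k) (fun n : ℕ => ℳ (n : ℤ)) 0) ≅
      sh (sft X e)) := fun e => by
    have h := (mulShIso (X := X) 0 e)
    rw [zero_add] at h
    exact ⟨(twF e).mapIso σ ≪≫ h⟩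
  have b1 : Shift (fun n : ℕ => ℳ (n : ℤ)) (pc (sft X (d : ℤ))) toX (d : ℤ) 0 := fun i j m hm hij =>
    Or.inr ⟨j, by simp, show m ∈ ℳ ((j : ℤ) + (d : ℤ)) by rwa [← hij]⟩
  have b2 : Shift (pc (sft X (d : ℤ))) (fun n : ℕ => ℳ (n : ℤ)) ofX 0 (d : ℤ) := fun i j m hm hij =>
    Or.inr ⟨j + d, by push_cast; ring, by
      have hm' : (ofX m) ∈ ℳ ((i : ℤ) + (d : ℤ)) := hm
      show ofX m ∈ ℳ (((j + d : ℕ)) : ℤ)
      rw [show (((j + d : ℕ)) : ℤ) = (i : ℤ) + (d : ℤ) by push_cast; omega]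
      exact hm'⟩
  let γ : GrTilde.tilde (CohB1.polyGrading r k) (fun n : ℕ => ℳ (n : ℤ)) (d : ℤ) ≅ sh (sft X (d : ℤ)) :=
    shiftIso toX b1 ofX b2 (fun _ => rfl) (fun _ => rfl)
  have hγbij : Function.Bijective (γ.hom.app ⊤) := ConcreteCategory.bijective_of_isIso (γ.hom.app ⊤)
  have hγ : ∀ m : ↥(ℳ ((d : ℕ) : ℤ)),
      γ.hom.app ⊤ (show Γ(GrTilde.tilde (CohB1.polyGrading r k) (fun n : ℕ => ℳ (n : ℤ)) (d : ℤ), ⊤) from
        GrTilde.globalOf (CohB1.polyGrading r k) (fun n : ℕ => ℳ (n : ℤ)) m) =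
      glob (mk0 (X := X) (toX m.1) m.2) := fun m => sval_ext fun y => loc_mk toX y.1 m.1 _
  have hsurj_iff : Function.Surjective (fun m : ↥(ℳ ((d : ℕ) : ℤ)) =>
      GrTilde.globalOf (CohB1.polyGrading r k) (fun n : ℕ => ℳ (n : ℤ)) m) ↔
      Function.Surjective (glob (X := sft X (d : ℤ))) := by
    constructor
    · intro h s
      obtain ⟨t, rfl⟩ := hγbij.2 s
      obtain ⟨m, rfl⟩ := h t
      exact ⟨_, (hγ m).symm⟩
    · intro h t
      obtain ⟨v, hv⟩ := h (γ.hom.app ⊤ t)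
      refine ⟨⟨ofX (val0 v), val0_mem v⟩, hγbij.1 ((hγ _).trans ?_)⟩
      exact hv
  have h1 : (GrSyz.irrel (GrSyz.stdGr k (Fin (r + 1)))).toIdeal ≤
      Ideal.span ((GrSyz.stdGr k (Fin (r + 1)) 1 : Submodule k (MvPolynomial (Fin (r + 1)) k)) : Set _) :=
    irrel_le_span_one k (r + 1)
  rw [← regBd_iff_diag E h1 (d : ℤ)]
  constructor
  · intro hX
    refine ⟨fun q hq hqr => ?_, fun e he => (hVan_of_pieces_res E).1 (hX 0 e (by simpa using he)),
      hsurj_iff.2 (surjective_glob_of_regBd X (d : ℤ) hX (d : ℤ) le_rfl)⟩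
    obtain ⟨φ⟩ := hiso ((d : ℤ) - q)
    exact subsingleton_HH_of_iso' φ.symm q
      (subsingleton_HH_of_regBd (r + 1) X (d : ℤ) hX q _ hq (by omega) (by omega))
  · rintro ⟨hreg, htor, hsurj⟩
    have hyp : Hyp X (d : ℤ) := by
      refine ⟨inferInstance, fun q hq => ?_, fun e he m hm hgam => ?_, hsurj_iff.1 hsurj⟩
      · rcases le_or_gt q r with hqr | hqr
        · obtain ⟨φ⟩ := hiso ((d : ℤ) - q)
          exact subsingleton_HH_of_iso' φ q (hreg q hq hqr)
        · exact subsingleton_HH_sh_of_gt X _ q hqr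
      · have h0 : HVan (GrSyz.irrel (GrSyz.stdGr k (Fin (r + 1)))) X 0 e := (hVan_of_pieces_res E).2 (htor e he)
        have hb := h0 (starRes X.gr)
        rw [Hcomp_eq_bot_iff] at hb
        obtain ⟨ψ, hψ⟩ := exists_H0_equiv (starRes X.gr) (GrSyz.irrel (GrSyz.stdGr k (Fin (r + 1))))
        have hz := hb _ ((hψ e ⟨m, hgam⟩).1 hm)
        exact congrArg Subtype.val (ψ.injective (hz.trans (map_zero ψ).symm))
    refine (regBd_iff_diag E h1 (d : ℤ)).2 ⟨?_, fun i hi => ?_⟩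
    · rw [endDeg_le_iff]
      intro g hg
      exact (Hgr_eq_bot_iff E _ 0 g).2 (htor g hg)
    · exact (hVan_of_pieces_res E).1 (hVan_of_hyp (r + 2) X (d : ℤ) hyp i hi (by omega))

end Groth.Agent.S15435
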