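import Groth.Statements.S4414
import Groth.Agent.VeryAmple.Main
import Groth.Agent.AmpleX.Comp
import Groth.Agent.AmpleX.RelAffine
import Groth.Agent.TwistFlat.Base

set_option autoImplicit false
universe u
open CategoryTheory CategoryTheory.Limits AlgebraicGeometry
open EGA2

namespace Groth.Agent.S4414

/-- Let Y be a quasi-compact separated scheme possessing an ample invertible O_Y-module, and f : X → Y a
morphism. Then f is quasi-projective (of finite type with some O_X-module ample relative to f) if
and only if f is of finite type and there are r ≥ 0 and an immersion i of X into projective r-space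
over Y with i followed by the projection equal to f. -/
theorem result {X Y : Scheme.{u}} [CompactSpace Y] [Y.IsSeparated]
    (hY : ∃ M : Y.Modules, CohB1.IsAmple M) (f : X ⟶ Y) :
    RelProj.IsQuasiProjective f ↔
      (LocallyOfFiniteType f ∧ QuasiCompact f ∧
        ∃ (r : ℕ) (i : X ⟶ CohB1.ProjSpaceOver r Y), IsImmersion i ∧ i ≫ CohB1.ProjSpaceOver.toBase r Y = f) := by
  constructor
  · rintro ⟨h1, h2, L, hL⟩
    refine ⟨h1, h2, ?_⟩
    obtain ⟨M, hM⟩ := hY
    haveI : CompactSpace X := QuasiCompact.compactSpace_of_compactSpace f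
    haveI : QuasiCompact (specULiftZIsTerminal.from Y) := quasiCompact_of_compactSpace _
    haveI : QuasiCompact (f ≫ specULiftZIsTerminal.from Y) := inferInstance
    obtain ⟨n₀, -, h⟩ := Groth.Agent.AmpleX.eventually_isRelAmple_comp f (specULiftZIsTerminal.from Y) hL
      ((Groth.Agent.AmpleX.isRelAmple_iff_isAmple _ M).2 hM)
    have hA := (Groth.Agent.AmpleX.isRelAmple_iff_isAmple _ _).1 (h n₀ le_rfl)
    obtain ⟨N₀, hN⟩ := Groth.Agent.VeryAmple.eventually_veryAmplePn f hA hA.1
    obtain ⟨r, i, hi, hif, -⟩ := hN N₀ le_rfl _ rfl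
    exact ⟨r, i, hi, hif⟩
  · rintro ⟨h1, h2, r, i, hi, rfl⟩
    haveI := Groth.Agent.TwistFlat.isProper_toBase r (Y := Y)
    haveI : QuasiCompact i := QuasiCompact.of_comp i (CohB1.ProjSpaceOver.toBase r Y)
    exact ⟨h1, h2, _, Groth.Agent.AmpleX.isRelAmple_pullback_embedding _ i i.isEmbedding
      (Groth.Agent.TwistFlat.isRelAmple_twistOver r)⟩

end Groth.Agent.S4414
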