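import Groth.Statements.S15438
import Groth.Prelude.Def_AlgEqCyc
import Groth.Agent.S4414

set_option linter.style.haveILetI false
set_option backward.isDefEq.respectTransparency false
set_option backward.isDefEq.respectTransparency.types false


set_option autoImplicit false
universe u
open AlgEqCyc



namespace Groth.Agent.S15438

open AlgebraicGeometry CategoryTheory CategoryTheory.Limits in
/-- Let C be a scheme over a field k that is smooth over k, projective over k, integral and of dimension
one, and let P₁, P₂ be two k-rational points of C. Then the zero-cycle [P₁] − [P₂] on C is an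
elementary algebraically trivial cycle: it is the difference of the members, at two k-rational
points, of a single family of cycles on C parametrised by a smooth projective integral curve over k,
every component of the family dominating the parameter curve. In particular [P₁] and [P₂] are
algebraically equivalent on C. (The published statement is over an algebraically closed field of
characteristic zero, where the points are closed points and algebraic equivalence is considered on
smooth projective schemes; this row allows any field, asks the two points to be k-rational and asks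
C to be projective over k.) -/
theorem result (k : Type u) [Field k]
    (C : Scheme.{u}) [DecidableEq ↥C] (q : C ⟶ Spec (CommRingCat.of k)) (hs : Smooth q)
    (hp : Neron.IsProjectiveOver k (Over.mk q)) (hi : IsIntegral C) (hd : topologicalKrullDim ↥C = 1)
    (P₁ P₂ : Spec (CommRingCat.of k) ⟶ C) (h₁ : P₁ ≫ q = 𝟙 _) (h₂ : P₂ ≫ q = 𝟙 _) :
    AlgEqCyc.IsElemAlgTriv q
      (Function.locallyFinsuppWithin.single (P₁ (IsLocalRing.closedPoint k)) (1 : ℤ) -
        Function.locallyFinsuppWithin.single (P₂ (IsLocalRing.closedPoint k)) (1 : ℤ)) := by
  classical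
  haveI : IsProper q := by
    obtain ⟨n, ι, hι, hcomp⟩ := hp
    haveI : IsProper (CohB1.ProjSpaceOver.toBase n (Spec (CommRingCat.of k))) :=
      Groth.Agent.TwistFlat.isProper_toBase n
    rw [show q = ι ≫ CohB1.ProjSpaceOver.toBase n (Spec (CommRingCat.of k)) from hcomp.symm]
    infer_instance
  let Δ : C ⟶ pullback q q := pullback.diagonal q
  haveI : IsClosedImmersion Δ := inferInstance
  let η := genericPoint C
  let W : AlgebraicCycle (pullback q q) ℤ := Function.locallyFinsuppWithin.single (Δ η) 1
  refine ⟨C, q, hs, hp, hi, hd, W, ?_, P₁, P₂, h₁, h₂, ?_⟩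
  · intro w hw
    have : w = Δ η := by
      by_contra h
      exact hw (by simp [W, h])
    subst this
    have e : pullback.snd q q (Δ η) = η := by
      rw [← Scheme.Hom.comp_apply, pullback.diagonal_snd]
      rfl
    rw [e]
    exact (genericPoint_spec C)
  have hkey : ∀ (t : Spec (CommRingCat.of k) ⟶ C) (ht : t ≫ q = 𝟙 _) (x : C),
      AlgEqCyc.fibreFun q q W t ht x = if x = t (IsLocalRing.closedPoint k) then 1 else 0 := by
    intro t ht x
    set z := t (IsLocalRing.closedPoint k) with hz
    have hzs : AlgEqCyc.slice q q t ht z = Δ z := by
      have htt : t ≫ AlgEqCyc.slice q q t ht = t ≫ Δ := by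
        apply pullback.hom_ext <;> simp [AlgEqCyc.slice, Δ, reassoc_of% ht]
      rw [hz, ← Scheme.Hom.comp_apply, ← Scheme.Hom.comp_apply, htt]
    have honly : ∀ {w}, W w ≠ 0 → w ⤳ AlgEqCyc.slice q q t ht x → x = z ∧ w = Δ η := by
      intro w hw hsp
      have : w = Δ η := by
        by_contra h
        exact hw (by simp [W, h])
      subst this
      obtain ⟨c, hc⟩ := hsp.mem_closed Δ.isClosedEmbedding.isClosed_range ⟨η, rfl⟩
      have h1 : pullback.fst q q (Δ c) = c := by
        rw [← Scheme.Hom.comp_apply, pullback.diagonal_fst]
        rfl
      have h2 : pullback.snd q q (Δ c) = c := by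
        rw [← Scheme.Hom.comp_apply, pullback.diagonal_snd]
        rfl
      rw [hc] at h1 h2
      have h3 : pullback.fst q q (AlgEqCyc.slice q q t ht x) = x := by
        rw [← Scheme.Hom.comp_apply, AlgEqCyc.slice, pullback.lift_fst]
        rfl
      have h4 : pullback.snd q q (AlgEqCyc.slice q q t ht x) = z := by
        rw [← Scheme.Hom.comp_apply, AlgEqCyc.slice, pullback.lift_snd, Scheme.Hom.comp_apply]
        exact congrArg t (Subsingleton.elim (α := PrimeSpectrum k) _ _)
      exact ⟨(h3.symm.trans (h1.trans h2.symm)).trans h4, rfl⟩
    unfold AlgEqCyc.fibreFun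
    split_ifs with hxz
    · subst hxz
      have hsp : Δ η ⤳ AlgEqCyc.slice q q t ht z := by
        rw [hzs]
        exact (genericPoint_specializes z).map Δ.continuous
      letI : Unique {w : ↥(pullback q q) // W w ≠ 0 ∧ w ⤳ AlgEqCyc.slice q q t ht z} :=
        { default := ⟨Δ η, by simp [W], hsp⟩
          uniq := fun w => Subtype.ext (honly w.2.1 w.2.2).2 }
      rw [finsum_unique]
      show W (Δ η) * (AlgEqCyc.fibreMult (pullback.snd q q) (AlgEqCyc.slice q q t ht z) (Δ η) hsp : ℤ) = 1
      have hW : W (Δ η) = 1 := by simp [W]
      rw [hW, one_mul]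
      suffices h : ∀ (v : ↥(pullback q q)) (hv : v = Δ z) (hsp : Δ η ⤳ v),
          AlgEqCyc.fibreMult (pullback.snd q q) v (Δ η) hsp = 1 by
        rw [h _ hzs hsp]; rfl
      rintro v rfl hsp
      let D := (Δ.stalkMap z).hom
      let s := ((pullback.snd q q).stalkMap (Δ z)).hom
      have hD : Function.Surjective D := Δ.stalkMap_surjective z
      have hker : RingHom.ker (Cyc.specMap (Δ z) (Δ η) hsp) = RingHom.ker D := by
        ext a
        rw [RingHom.mem_ker, RingHom.mem_ker]
        have hg : IsField (C.presheaf.stalk η) := Field.toIsField C.functionField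
        letI := hg.toField
        have hj : Function.Injective
            (C.presheaf.stalkSpecializes (genericPoint_specializes z) ≫ C.residue η).hom :=
          (RingHom.injective (C.residue η).hom).comp
            (IsFractionRing.injective (C.presheaf.stalk z) C.functionField)
        have hcomm : (pullback q q).presheaf.stalkSpecializes hsp ≫ (pullback q q).residue (Δ η) ≫
            Δ.residueFieldMap η =
              Δ.stalkMap z ≫ C.presheaf.stalkSpecializes (genericPoint_specializes z) ≫ C.residue η := by
          rw [Scheme.residue_residueFieldMap, ← Category.assoc, ← Category.assoc,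
            Scheme.Hom.stalkSpecializes_stalkMap _ η z (genericPoint_specializes z)]
        have h1 := RingHom.congr_fun (congrArg CommRingCat.Hom.hom hcomm) a
        change (Δ.residueFieldMap η).hom (Cyc.specMap (Δ z) (Δ η) hsp a) =
          (C.presheaf.stalkSpecializes (genericPoint_specializes z) ≫ C.residue η).hom (D a) at h1
        constructor
        · intro h0
          rw [h0, map_zero] at h1
          exact hj (by rw [← h1, map_zero])
        · intro h0
          rw [h0, map_zero] at h1
          exact (RingHom.injective (Δ.residueFieldMap η).hom) (by rw [h1, map_zero])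
      haveI : IsIso (Δ ≫ pullback.snd q q) := by
        show IsIso (pullback.diagonal q ≫ pullback.snd q q)
        rw [pullback.diagonal_snd]; infer_instance
      let e := (asIso ((Δ ≫ pullback.snd q q).stalkMap z)).commRingCatIsoToRingEquiv
      have he : ∀ b, D (s b) = e b := fun b =>
        (RingHom.congr_fun (congrArg CommRingCat.Hom.hom (Scheme.Hom.stalkMap_comp Δ (pullback.snd q q) z)) b).symm
      set I := (IsLocalRing.maximalIdeal (C.presheaf.stalk (pullback.snd q q (Δ z)))).map
        ((Ideal.Quotient.mk (RingHom.ker (Cyc.specMap (Δ z) (Δ η) hsp))).comp s) with hI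
      let J : Ideal ((pullback q q).presheaf.stalk (Δ z)) :=
        (IsLocalRing.maximalIdeal (C.presheaf.stalk z)).comap D
      haveI : J.IsMaximal := Ideal.comap_isMaximal_of_surjective D hD
      have hJ : I.comap (Ideal.Quotient.mk (RingHom.ker (Cyc.specMap (Δ z) (Δ η) hsp))) = J := by
        rw [hI, ← Ideal.map_map, Ideal.comap_map_of_surjective _ Ideal.Quotient.mk_surjective,
          ← RingHom.ker_eq_comap_bot, Ideal.mk_ker, hker]
        refine le_antisymm (sup_le ?_ ?_) ?_
        · rw [Ideal.map_le_iff_le_comap]
          intro b hb
          show D (s b) ∈ IsLocalRing.maximalIdeal _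
          rw [he]
          exact fun hu => hb (by simpa using hu.map e.symm)
        · intro a ha
          show D a ∈ IsLocalRing.maximalIdeal _
          rw [RingHom.mem_ker.1 ha]
          exact zero_mem _
        · intro a ha
          have hb : e.symm (D a) ∈ IsLocalRing.maximalIdeal _ :=
            fun hu => ha (by simpa using hu.map e)
          have h0 : a - s (e.symm (D a)) ∈ RingHom.ker D := by
            rw [RingHom.mem_ker, map_sub, he, RingEquiv.apply_symm_apply, sub_self]
          have : a = s (e.symm (D a)) + (a - s (e.symm (D a))) := by ring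
          rw [this]
          exact Submodule.add_mem_sup (Ideal.mem_map_of_mem s hb) h0
      let π : (pullback q q).presheaf.stalk (Δ z) →ₗ[(pullback q q).presheaf.stalk (Δ z)]
          (Cyc.LocQuot (Δ z) (Δ η) hsp ⧸ I) :=
        { toFun := fun a => Ideal.Quotient.mk I (Ideal.Quotient.mk _ a)
          map_add' := fun a b => by simp
          map_smul' := fun a b => by
            simp only [smul_eq_mul, map_mul, RingHom.id_apply, Algebra.smul_def]
            rfl }
      have hπ : Function.Surjective π := Ideal.Quotient.mk_surjective.comp Ideal.Quotient.mk_surjective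
      have hkπ : LinearMap.ker π = J := by
        rw [← hJ]
        ext a
        rw [LinearMap.mem_ker, Ideal.mem_comap]
        exact Ideal.Quotient.eq_zero_iff_mem
      have hlen : Module.length ((pullback q q).presheaf.stalk (Δ z))
          (Cyc.LocQuot (Δ z) (Δ η) hsp ⧸ I) = 1 := by
        rw [← (π.quotKerEquivOfSurjective hπ).length_eq, Module.length_eq_one_iff, hkπ]
        exact isSimpleModule_iff_isCoatom.2 (Ideal.isMaximal_def.1 inferInstance)
      show (Module.length _ _).toNat = 1
      rw [hlen]
      rfl
    · haveI : IsEmpty {w : ↥(pullback q q) // W w ≠ 0 ∧ w ⤳ AlgEqCyc.slice q q t ht x} :=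
        ⟨fun w => hxz (honly w.2.1 w.2.2).1⟩
      exact finsum_of_isEmpty _
  intro x
  rw [hkey, hkey]
  simp [Pi.single_apply]
end Groth.Agent.S15438
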