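import Groth.Statements.S15439
import Groth.Agent.H9AlgEq.Basic
import Mathlib.AlgebraicGeometry.AlgClosed.Basic

set_option linter.style.haveILetI false
set_option backward.isDefEq.respectTransparency false
set_option backward.isDefEq.respectTransparency.types false


set_option autoImplicit false
universe u
open AlgEqCyc

namespace Groth.Agent.S15439

open AlgebraicGeometry CategoryTheory CategoryTheory.Limits in
/-- Let k be an algebraically closed field, X a scheme over k and C₁, …, Cₙ finitely many closed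
subschemes of X, given as closed immersions ιᵢ : Cᵢ → X over k, such that each Cᵢ is smooth over k,
projective over k, integral and of dimension one and such that the union of the ιᵢ(Cᵢ) is a
connected subset of X. Then for any two k-rational points P and Q of X lying on this union, the
zero-cycles [P] and [Q] on X are algebraically equivalent: [P] − [Q] lies in the subgroup of cycles
on X generated by the elementary algebraically trivial ones. (The published statement speaks of a
connected curve whose irreducible components are smooth and integral and of two of its points,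
inside an ambient smooth projective scheme over an algebraically closed field of characteristic
zero; this row takes any finite family of such curves with connected union in any k-scheme X, k
algebraically closed, and k-rational points.) -/
theorem result (k : Type u) [Field k]
    [IsAlgClosed k] (X : Scheme.{u}) [DecidableEq ↥X] (p : X ⟶ Spec (CommRingCat.of k)) (n : ℕ)
    (C : Fin n → Scheme.{u}) (q : (i : Fin n) → (C i ⟶ Spec (CommRingCat.of k)))
    (ι : (i : Fin n) → (C i ⟶ X)) (hι : ∀ i, IsClosedImmersion (ι i)) (hq : ∀ i, ι i ≫ p = q i)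
    (hs : ∀ i, Smooth (q i)) (hpr : ∀ i, Neron.IsProjectiveOver k (Over.mk (q i)))
    (hint : ∀ i, IsIntegral (C i)) (hd : ∀ i, topologicalKrullDim ↥(C i) = 1)
    (hconn : _root_.IsConnected (⋃ i, Set.range ⇑(ι i)))
    (P Q : Spec (CommRingCat.of k) ⟶ X) (hP : P ≫ p = 𝟙 _) (hQ : Q ≫ p = 𝟙 _)
    (hPC : P (IsLocalRing.closedPoint k) ∈ ⋃ i, Set.range ⇑(ι i))
    (hQC : Q (IsLocalRing.closedPoint k) ∈ ⋃ i, Set.range ⇑(ι i)) :
    AlgEqCyc.IsAlgEquiv p (Function.locallyFinsuppWithin.single (P (IsLocalRing.closedPoint k)) (1 : ℤ))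
      (Function.locallyFinsuppWithin.single (Q (IsLocalRing.closedPoint k)) (1 : ℤ)) := by
  classical
  have hprop : ∀ i, IsProper (q i) := by
    intro i
    obtain ⟨m, e, he, hcomp⟩ := hpr i
    haveI : IsProper (CohB1.ProjSpaceOver.toBase m (Spec (CommRingCat.of k))) :=
      Groth.Agent.TwistFlat.isProper_toBase m
    rw [show q i = e ≫ CohB1.ProjSpaceOver.toBase m (Spec (CommRingCat.of k)) from hcomp.symm]
    infer_instance
  -- a rational point of `X` on `C i` lifts to `C i`
  have hlift : ∀ (R : Spec (CommRingCat.of k) ⟶ X), R ≫ p = 𝟙 _ → ∀ i,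
      R (IsLocalRing.closedPoint k) ∈ Set.range ⇑(ι i) →
      ∃ a : Spec (CommRingCat.of k) ⟶ C i, a ≫ q i = 𝟙 _ ∧
        ι i (a (IsLocalRing.closedPoint k)) = R (IsLocalRing.closedPoint k) := by
    intro R hR i hRi
    haveI := hι i
    haveI : IsClosedImmersion (pullback.fst R (ι i)) :=
      MorphismProperty.pullback_fst (P := @IsClosedImmersion) R (ι i) inferInstance
    haveI : Surjective (pullback.fst R (ι i)) := by
      obtain ⟨c, hc⟩ := hRi
      obtain ⟨z, -, -⟩ := Scheme.Pullback.exists_preimage_pullback (f := R) (g := ι i)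
        (IsLocalRing.closedPoint k) c hc.symm
      exact ⟨fun w => ⟨z, Subsingleton.elim (α := PrimeSpectrum k) _ _⟩⟩
    haveI : IsReduced (Spec (CommRingCat.of k)) := inferInstance
    haveI : IsIso (pullback.fst R (ι i)) := isIso_of_isClosedImmersion_of_surjective _
    refine ⟨inv (pullback.fst R (ι i)) ≫ pullback.snd R (ι i), ?_, ?_⟩
    · rw [Category.assoc, ← hq i, ← reassoc_of% (pullback.condition (f := R) (g := ι i)),
        IsIso.inv_hom_id_assoc, hR]
    · rw [← Scheme.Hom.comp_apply, Category.assoc, ← pullback.condition, IsIso.inv_hom_id_assoc]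
  let S := ↥(AlgEqCyc.algTriv p)
  let cls : X → AlgebraicCycle X ℤ := fun x => Function.locallyFinsuppWithin.single x 1
  let x₀ := P (IsLocalRing.closedPoint k)
  have hcurve : ∀ i (a b : Spec (CommRingCat.of k) ⟶ C i), a ≫ q i = 𝟙 _ → b ≫ q i = 𝟙 _ →
      cls (ι i (a (IsLocalRing.closedPoint k))) - cls (ι i (b (IsLocalRing.closedPoint k))) ∈
        AlgEqCyc.algTriv p := fun i a b ha hb => by
    haveI := hι i
    exact AddSubgroup.subset_closure
      (H9AlgEq.isElemAlgTriv_curve p (q i) (ι i) (hq i) (hs i) (hpr i) (hint i) (hd i) a b ha hb)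
  let good : Set (Fin n) := {i | ∃ a : Spec (CommRingCat.of k) ⟶ C i, a ≫ q i = 𝟙 _ ∧
    cls (ι i (a (IsLocalRing.closedPoint k))) - cls x₀ ∈ AlgEqCyc.algTriv p}
  have hall : ∀ i, i ∈ good ↔ ∀ a : Spec (CommRingCat.of k) ⟶ C i, a ≫ q i = 𝟙 _ →
      cls (ι i (a (IsLocalRing.closedPoint k))) - cls x₀ ∈ AlgEqCyc.algTriv p := by
    intro i
    haveI := hprop i
    haveI := hint i
    constructor
    · rintro ⟨b, hb, hb'⟩ a ha
      simpa using add_mem (hcurve i a b ha hb) hb'
    · intro h
      haveI : CompactSpace (C i) := QuasiCompact.compactSpace_of_compactSpace (q i)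
      obtain ⟨c, -, hc⟩ := isClosed_univ.exists_closed_singleton (X := C i) Set.univ_nonempty
      exact ⟨pointOfClosedPoint (q i) c hc, pointOfClosedPoint_comp _ _ _,
        h _ (pointOfClosedPoint_comp _ _ _)⟩
  -- all curves are good
  have hgood : ∀ i, i ∈ good := by
    by_contra hne
    push_neg at hne
    obtain ⟨j, hj⟩ := hne
    obtain ⟨i₀, hi₀⟩ := Set.mem_iUnion.1 hPC
    obtain ⟨a₀, ha₀, ha₀'⟩ := hlift P hP i₀ hi₀
    have hi₀g : i₀ ∈ good := ⟨a₀, ha₀, by rw [ha₀', sub_self]; exact zero_mem _⟩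
    let A : Set X := ⋃ i ∈ good, Set.range ⇑(ι i)
    let B : Set X := ⋃ i ∈ goodᶜ, Set.range ⇑(ι i)
    have hcl : ∀ T : Set (Fin n), IsClosed (⋃ i ∈ T, Set.range ⇑(ι i)) := fun T =>
      (Set.toFinite T).isClosed_biUnion fun i _ => (hι i).base_closed.isClosed_range
    have hcov : (⋃ i, Set.range ⇑(ι i)) ⊆ A ∪ B := by
      intro x hx
      obtain ⟨i, hi⟩ := Set.mem_iUnion.1 hx
      by_cases hg : i ∈ good
      · exact Or.inl (Set.mem_iUnion₂.2 ⟨i, hg, hi⟩)
      · exact Or.inr (Set.mem_iUnion₂.2 ⟨i, hg, hi⟩)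
    haveI := hint j
    obtain ⟨x, -, hxA, hxB⟩ := isPreconnected_closed_iff.1 hconn.isPreconnected A B (hcl _) (hcl _) hcov
      ⟨x₀, hPC, Set.mem_iUnion₂.2 ⟨i₀, hi₀g, hi₀⟩⟩
      ⟨ι j (genericPoint (C j)), Set.mem_iUnion.2 ⟨j, ⟨_, rfl⟩⟩, Set.mem_iUnion₂.2 ⟨j, hj, ⟨_, rfl⟩⟩⟩
    obtain ⟨i, hig, hxi⟩ := Set.mem_iUnion₂.1 hxA
    obtain ⟨l, hlg, c', hc'⟩ := Set.mem_iUnion₂.1 hxB
    haveI := hprop l
    haveI := hprop i
    haveI := hι i
    haveI := hι l
    haveI : CompactSpace (C l) := QuasiCompact.compactSpace_of_compactSpace (q l)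
    let K : Set (C l) := ι l ⁻¹' Set.range ⇑(ι i)
    have hK : IsClosed K := (hι i).base_closed.isClosed_range.preimage (ι l).continuous
    obtain ⟨c, hcK, hc⟩ := hK.exists_closed_singleton ⟨c', by show ι l c' ∈ Set.range ⇑(ι i); rw [hc']; exact hxi⟩
    let b := pointOfClosedPoint (q l) c hc
    have hb : b ≫ q l = 𝟙 _ := pointOfClosedPoint_comp _ _ _
    obtain ⟨a, ha, ha'⟩ := hlift (b ≫ ι l) (by rw [Category.assoc, hq l, hb]) i (by
      rw [Scheme.Hom.comp_apply, pointOfClosedPoint_apply]; exact hcK)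
    refine hlg ⟨b, hb, ?_⟩
    have := (hall i).1 hig a ha
    rwa [ha', Scheme.Hom.comp_apply] at this
  obtain ⟨i₁, hi₁⟩ := Set.mem_iUnion.1 hQC
  obtain ⟨a₁, ha₁, ha₁'⟩ := hlift Q hQ i₁ hi₁
  have := (hall i₁).1 (hgood i₁) a₁ ha₁
  rw [ha₁'] at this
  show cls x₀ - cls (Q (IsLocalRing.closedPoint k)) ∈ AlgEqCyc.algTriv p
  simpa using neg_mem this
end Groth.Agent.S15439
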