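import Groth.Statements.S15440
import Groth.Agent.H9AlgEq.Connected
import Groth.Agent.WeilLib.Cycles

set_option linter.style.haveILetI false
set_option backward.isDefEq.respectTransparency false
set_option backward.isDefEq.respectTransparency.types false


set_option autoImplicit false
universe u
open AlgEqCyc

namespace Groth.Agent.S15440

open AlgebraicGeometry CategoryTheory CategoryTheory.Limits in
/-- Let k be an algebraically closed field of characteristic zero and X a connected scheme, smooth and
projective over k, with structure morphism p; let δ be the weight function on X induced from weight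
0 on the point Spec k and let α be a zero-cycle on X for δ whose degree over k is zero. Then α is
algebraically equivalent to zero on X. (This is one inclusion of the published statement, which
asserts that on such an X the zero-cycles of degree zero, identified there with the homologically
trivial ones for a fixed Weil cohomology, are exactly the algebraically trivial zero-cycles; the
reverse inclusion is not stated here.) -/
theorem result (k : Type u) [Field k]
    [IsAlgClosed k] [CharZero k] (X : Scheme.{u}) (p : X ⟶ Spec (CommRingCat.of k)) [QuasiCompact p]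
    (hs : Smooth p) (hp : Neron.IsProjectiveOver k (Over.mk p)) (hc : ConnectedSpace ↥X)
    (δ : ↥X → ℤ) (hδ : Cyc.DeltaCompat p δ (fun _ => 0)) (α : AlgebraicCycle X ℤ)
    (hα : α ∈ Cyc.Zk X δ 0) (hdeg : ChowOps.deg p δ α = 0) :
    AlgEqCyc.IsAlgEquivZero p α := by
  classical
  letI : X.Over (Spec (CommRingCat.of k)) := ⟨p⟩
  obtain ⟨m, i, hi, hcomp⟩ := hp
  have hcomp' : i ≫ CohB1.ProjSpaceOver.toBase m (Spec (CommRingCat.of k)) = p := hcomp
  haveI : IsProper (CohB1.ProjSpaceOver.toBase m (Spec (CommRingCat.of k))) :=
    Groth.Agent.TwistFlat.isProper_toBase m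
  haveI : IsClosedImmersion i := hi
  haveI : IsProper (X ↘ Spec (CommRingCat.of k)) := by
    show IsProper p
    rw [← hcomp']; infer_instance
  haveI : LocallyOfFiniteType p := inferInstance
  haveI : IsLocallyNoetherian X := LocallyOfFiniteType.isLocallyNoetherian p
  haveI : CompactSpace X := QuasiCompact.compactSpace_of_compactSpace p
  haveI : IsNoetherian X := {}
  haveI := hc
  obtain ⟨e, he⟩ := Groth.Agent.PicGlue.exists_projSpace_iso m k
  let G : X ⟶ CohB1.ProjSpace m k := i ≫ e.inv
  have hG : G ≫ CohB1.ProjSpace.toSpec m k = X ↘ Spec (CommRingCat.of k) := by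
    show (i ≫ e.inv) ≫ _ = p
    rw [← he, Category.assoc, Iso.inv_hom_id_assoc, hcomp']
  haveI : JacobsonSpace X := LocallyOfFiniteType.jacobsonSpace p
  have hfin : α.support.Finite := by
    have := α.locallyFiniteSupport.finite_inter_support_of_isCompact (isCompact_univ (X := ↥X))
    rwa [Set.univ_inter] at this
  set s := hfin.toFinset with hs'
  have hmem : ∀ x, x ∈ s ↔ α x ≠ 0 := fun x => hfin.mem_toFinset
  have hclosed : ∀ x ∈ s, IsClosed ({x} : Set X) ∧ δ x = 0 := fun x hx => by
    have h0 : δ x = 0 := not_not.1 fun h => (hmem x).1 hx (hα x h)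
    obtain ⟨n, hn, hxn⟩ := hδ x
    have h : Groth.Agent.VarDim.tdeg p x = n := (Groth.Agent.VarDim.tdeg_eq_rdeg p x).trans hn
    have hd : Groth.Agent.VarDim.deg p x = 0 := by
      rw [Groth.Agent.VarDim.deg, h, Cardinal.toNat_natCast]
      rw [h0, zero_add] at hxn
      exact_mod_cast hxn.symm
    exact ⟨(Groth.Agent.VarDim.closedPoint_iff_deg_eq_zero p x).2 hd, h0⟩
  have hsum : ∑ x ∈ s, α x = 0 := by
    rw [← hdeg]
    symm
    show (∑ᶠ x ∈ p ⁻¹' {IsLocalRing.closedPoint k},
      α x * (AlgebraicCycle.mapCoeff p δ (fun _ => (0 : ℤ)) x : ℤ)) = _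
    rw [finsum_mem_eq_sum_of_subset (t := s) _ ?_ ?_]
    · refine Finset.sum_congr rfl fun x hx => ?_
      obtain ⟨hc, h0⟩ := hclosed x hx
      rw [AlgebraicCycle.mapCoeff, if_pos h0, Groth.Agent.WeilLib.residueDegree_hom_of_isClosed p x hc,
        Nat.cast_one, mul_one]
    · intro x hx
      exact (hmem x).2 fun h => hx.2 (by
        show α x * _ = 0
        rw [h, zero_mul])
    · intro x _
      exact (Subsingleton.elim (p x) (IsLocalRing.closedPoint k) :)
  obtain ⟨x₀, -, hx₀⟩ := (isClosed_univ (X := ↥X)).exists_closed_singleton Set.univ_nonempty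
  let cls : X → AlgebraicCycle X ℤ := fun x => Function.locallyFinsuppWithin.single x 1
  have hα' : α = ∑ x ∈ s, α x • (cls x - cls x₀) := by
    simp only [smul_sub, Finset.sum_sub_distrib, ← Finset.sum_smul, hsum, zero_smul, sub_zero]
    ext z
    rw [show (∑ x ∈ s, α x • cls x) z = ∑ x ∈ s, α x * (cls x z) by
      simp [Function.locallyFinsuppWithin.coe_sum, Finset.sum_apply]]
    rw [Finset.sum_eq_single z (fun b _ hb => by simp [cls, hb.symm]) (fun hz => by
      rw [show α z = 0 from not_not.1 fun h => hz ((hmem z).2 h), zero_mul])]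
    simp [cls]
  rw [IsAlgEquivZero, hα']
  exact sum_mem fun x hx => zsmul_mem
    (Groth.Agent.H9AlgEq.rel_closed G hG (hclosed x hx).1 hx₀) _
end Groth.Agent.S15440
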