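import Groth.Statements.S15465
import Mathlib.CategoryTheory.Abelian.Refinements

set_option autoImplicit false
universe v u
open HomAlg

namespace Groth.Agent.S15465

open CategoryTheory CategoryTheory.Limits in
/-- In an abelian category let 0 → A₂ → B₂ → C₂ → 0 (maps i₂, π₂), 0 → A₁ → A₂ → A₃ → 0 (maps i₁, p₁)
and 0 → C₁ → C₂ → C₃ → 0 (maps j, q) be short exact sequences, let α = i₁ ≫ i₂ : A₁ → B₂ and β = π₂
≫ q : B₂ → C₃, and let K = ker β / im α be the homology object of the complex A₁ → B₂ → C₃. Let f :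
A₃ → K be the map induced by i₂ (the unique map whose composite with p₁ is the homology class of the
cycle i₂) and g : K → C₁ the map induced by π₂ (the unique map whose composite with j is the map K →
C₂ induced by π₂). Then 0 → A₃ → K → C₁ → 0, with maps f and g, is a short exact sequence. (The
hypotheses w, h₂, h₃ are consequences of i₂ ≫ π₂ = 0, carried so that the maps can be named; the
published statement assumes in addition that the category has enough injective objects, which plays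
no role in this assertion.) -/
theorem result
    {C : Type u} [Category.{v} C] [Abelian C] {A₁ A₂ A₃ B₂ C₁ C₂ C₃ : C}
    (i₁ : A₁ ⟶ A₂) (p₁ : A₂ ⟶ A₃) (wA : i₁ ≫ p₁ = 0) (hA : (ShortComplex.mk i₁ p₁ wA).ShortExact)
    (i₂ : A₂ ⟶ B₂) (π₂ : B₂ ⟶ C₂) (wB : i₂ ≫ π₂ = 0) (hB : (ShortComplex.mk i₂ π₂ wB).ShortExact)
    (j : C₁ ⟶ C₂) (q : C₂ ⟶ C₃) (wC : j ≫ q = 0) (hC : (ShortComplex.mk j q wC).ShortExact)
    (w : (i₁ ≫ i₂) ≫ (π₂ ≫ q) = 0) (h₂ : i₂ ≫ (π₂ ≫ q) = 0) (h₃ : (i₁ ≫ i₂) ≫ π₂ = 0)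
    (f : A₃ ⟶ (CategoryTheory.ShortComplex.mk (i₁ ≫ i₂) (π₂ ≫ q) w).homology)
    (g : (CategoryTheory.ShortComplex.mk (i₁ ≫ i₂) (π₂ ≫ q) w).homology ⟶ C₁)
    (hf : p₁ ≫ f = (CategoryTheory.ShortComplex.mk (i₁ ≫ i₂) (π₂ ≫ q) w).liftCycles i₂ h₂ ≫ (CategoryTheory.ShortComplex.mk (i₁ ≫ i₂) (π₂ ≫ q) w).homologyπ)
    (hg : g ≫ j = (CategoryTheory.ShortComplex.mk (i₁ ≫ i₂) (π₂ ≫ q) w).homologyι ≫ (CategoryTheory.ShortComplex.mk (i₁ ≫ i₂) (π₂ ≫ q) w).descOpcycles π₂ h₃) :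
    ∃ wfg : f ≫ g = 0, (ShortComplex.mk f g wfg).ShortExact := by
  let S := CategoryTheory.ShortComplex.mk (i₁ ≫ i₂) (π₂ ≫ q) w
  haveI : Mono i₂ := hB.mono_f
  haveI : Epi π₂ := hB.epi_g
  haveI : Mono j := hC.mono_f
  haveI : Epi p₁ := hA.epi_g
  -- the class of a cycle and its image
  have hgz : ∀ {T : C} (b : T ⟶ B₂) (hb : b ≫ (π₂ ≫ q) = 0),
      (S.liftCycles b hb ≫ S.homologyπ) ≫ g ≫ j = b ≫ π₂ := by
    intro T b hb
    rw [hg, Category.assoc, ShortComplex.homology_π_ι_assoc, ShortComplex.p_descOpcycles,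
      ShortComplex.liftCycles_i_assoc]
  have wfg : f ≫ g = 0 := by
    rw [← cancel_epi p₁, ← cancel_mono j, ← Category.assoc p₁, hf, comp_zero, zero_comp, Category.assoc _ g j]
    exact (hgz i₂ h₂).trans wB
  refine ⟨wfg, ?_⟩
  haveI : Mono f := by
    refine Preadditive.mono_of_cancel_zero f fun {T} a ha => ?_
    obtain ⟨T', r, hr, a₂, fac⟩ := surjective_up_to_refinements_of_epi p₁ a
    haveI := hr
    have h1 : S.liftCycles (a₂ ≫ i₂) (by rw [Category.assoc, h₂, comp_zero]) ≫ S.homologyπ = 0 := by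
      rw [← ShortComplex.comp_liftCycles S i₂ h₂ a₂, Category.assoc, ← hf, ← Category.assoc, ← fac,
        Category.assoc, ha, comp_zero]
    obtain ⟨T'', r', hr', b, hb⟩ :=
      (S.liftCycles_comp_homologyπ_eq_zero_iff_up_to_refinements _ _).1 h1
    haveI := hr'
    change r' ≫ a₂ ≫ i₂ = b ≫ i₁ ≫ i₂ at hb
    rw [← Category.assoc, ← Category.assoc, cancel_mono] at hb
    rw [← cancel_epi r, ← cancel_epi r', fac, ← Category.assoc r', hb, Category.assoc, wA, comp_zero, comp_zero, comp_zero]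
  haveI : Epi g := by
    rw [epi_iff_surjective_up_to_refinements]
    intro T c
    obtain ⟨T', r, hr, b, fac⟩ := surjective_up_to_refinements_of_epi π₂ (c ≫ j)
    have hb : b ≫ (π₂ ≫ q) = 0 := by
      rw [← Category.assoc, ← fac, Category.assoc, Category.assoc, wC, comp_zero, comp_zero]
    exact ⟨T', r, hr, S.liftCycles b hb ≫ S.homologyπ, by
      rw [← cancel_mono j, Category.assoc r, fac, Category.assoc _ g, hgz b hb]⟩
  refine { exact := ?_, mono_f := inferInstanceAs (Mono f), epi_g := inferInstanceAs (Epi g) }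
  rw [ShortComplex.exact_iff_exact_up_to_refinements]
  intro T k hk
  change k ≫ g = 0 at hk
  obtain ⟨T', r, hr, b, hb, fac⟩ := S.eq_liftCycles_homologyπ_up_to_refinements k
  have hbπ : b ≫ π₂ = 0 := by
    rw [← hgz b hb, ← fac, Category.assoc, ← Category.assoc k g, hk, zero_comp, comp_zero]
  obtain ⟨T'', r', hr', a₂, ha₂⟩ := hB.exact.exact_up_to_refinements b hbπ
  change r' ≫ b = a₂ ≫ i₂ at ha₂
  refine ⟨T'', r' ≫ r, inferInstance, a₂ ≫ p₁, ?_⟩
  change (r' ≫ r) ≫ k = (a₂ ≫ p₁) ≫ f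
  rw [Category.assoc, fac, Category.assoc, hf, ← Category.assoc, ← Category.assoc,
    ShortComplex.comp_liftCycles, ShortComplex.comp_liftCycles]
  congr 2

end Groth.Agent.S15465
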