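import Groth.Statements.S15499
-- import your own Groth.Agent.* helpers here
import Mathlib
import Groth.Agent.S17853

set_option autoImplicit false
open Polynomial LaurentPolynomial
open scoped TensorProduct
universe u
open CAlg

namespace Groth.Agent.S15499

/-- Let S = Spec R be a smooth connected affine complex variety, so that R is a finitely generated
smooth ℂ-algebra and an integral domain, and let F be a locally free sheaf of finite rank on the
projective line over S, presented by its two standard charts: a finitely generated projective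
R[X]-module P on the affine line over S, a finitely generated projective R[X]-module P' on the chart
at infinity, and an identification of their base changes to R[X, X⁻¹] that is additive, bijective
and semilinear over the R-algebra involution X ↦ X⁻¹. Then S is covered by basic open sets D(g_1),
…, D(g_n) such that F restricted to the affine line over each D(g_i) is free: the localisation of P
at g_i is a free module over the localisation of R[X] at g_i. -/
theorem result
    (R : Type u) [CommRing R] [IsDomain R] [Algebra ℂ R] [Algebra.FiniteType ℂ R]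
    [Algebra.Smooth ℂ R]
    (P : Type u) [AddCommGroup P] [Module R[X] P] [Module.Finite R[X] P]
    [Module.Projective R[X] P]
    (P' : Type u) [AddCommGroup P'] [Module R[X] P'] [Module.Finite R[X] P']
    [Module.Projective R[X] P']
    (e : R[T;T⁻¹] ⊗[R[X]] P ≃+ R[T;T⁻¹] ⊗[R[X]] P')
    (he : ∀ (a : R[T;T⁻¹]) (m : R[T;T⁻¹] ⊗[R[X]] P),
      e (a • m) = LaurentPolynomial.invert a • e m) :
    ∃ (n : ℕ) (g : Fin n → R), Ideal.span (Set.range g) = ⊤ ∧
      ∀ i, Module.Free (Localization.Away (Polynomial.C (g i) : R[X]))
        (LocalizedModule (Submonoid.powers (Polynomial.C (g i) : R[X])) P) := by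
  let ψ : (R[T;T⁻¹] ⊗[R[X]] P) →ₛₗ[(LaurentPolynomial.invert (R := R)).toRingEquiv.toRingHom]
      (R[T;T⁻¹] ⊗[R[X]] P') :=
    { toFun := e
      map_add' := e.map_add
      map_smul' := he }
  obtain ⟨Q, _, _, ⟨eP⟩⟩ := (S17853.result R P).mpr ⟨P', inferInstance, inferInstance, inferInstance, inferInstance, ψ, e.bijective⟩
  letI : Algebra R[X] R := (Polynomial.evalRingHom (0 : R)).toAlgebra
  haveI : IsScalarTower R R[X] R := IsScalarTower.of_algebraMap_eq fun a => (Polynomial.eval_C (x := (0 : R))).symm
  haveI : Module.Finite R[X] (R[X] ⊗[R] Q) := Module.Finite.equiv eP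
  haveI : Module.Projective R[X] (R[X] ⊗[R] Q) := Module.Projective.of_equiv eP
  let eQ : R ⊗[R[X]] (R[X] ⊗[R] Q) ≃ₗ[R] Q :=
    TensorProduct.AlgebraTensorModule.cancelBaseChange R R[X] R R Q ≪≫ₗ TensorProduct.lid R Q
  haveI : Module.Finite R Q := Module.Finite.equiv eQ
  haveI : Module.Projective R Q := Module.Projective.of_equiv eQ
  haveI : IsNoetherianRing R := Algebra.FiniteType.isNoetherianRing ℂ R
  haveI : Module.FinitePresentation R Q := Module.finitePresentation_of_finite R Q
  have hloc : ∀ p : PrimeSpectrum R, ∃ r : R, r ∉ p.asIdeal ∧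
      Module.Free (Localization.Away r) (LocalizedModule.Away r Q) := fun p => by
    have : Module.Free (Localization.AtPrime p.asIdeal) (LocalizedModule p.asIdeal.primeCompl Q) :=
      Module.free_of_flat_of_isLocalRing
    obtain ⟨r, hr, hr', -⟩ := Module.FinitePresentation.exists_free_localizedModule_powers
      p.asIdeal.primeCompl (LocalizedModule.mkLinearMap p.asIdeal.primeCompl Q) (Localization.AtPrime p.asIdeal)
    exact ⟨r, hr, hr'⟩
  choose r hr hfree using hloc
  have htop : Ideal.span (Set.range r) = ⊤ := by
    by_contra hne
    obtain ⟨m, hm, hle⟩ := Ideal.exists_le_maximal _ hne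
    exact hr ⟨m, hm.isPrime⟩ (hle (Ideal.subset_span ⟨_, rfl⟩))
  have key : ∀ x : R, x ∈ Set.range r →
      Module.Free (Localization.Away (Polynomial.C x : R[X]))
        (LocalizedModule (Submonoid.powers (Polynomial.C x : R[X])) P) := by
    rintro _ ⟨p, rfl⟩
    let g := r p
    let Rg := Localization.Away g
    let L := Localization.Away (Polynomial.C g : R[X])
    letI : Algebra Rg L := (IsLocalization.Away.lift g (S := Rg) (g := algebraMap R L) (by
      rw [IsScalarTower.algebraMap_apply R R[X] L]
      exact IsLocalization.Away.algebraMap_isUnit (S := L) (Polynomial.C g))).toAlgebra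
    haveI : IsScalarTower R Rg L := IsScalarTower.of_algebraMap_eq fun a =>
      (IsLocalization.Away.lift_eq g (S := Rg) _ a).symm
    haveI : Module.Free Rg (Rg ⊗[R] Q) :=
      haveI := hfree p
      Module.Free.of_equiv (LocalizedModule.equivTensorProduct (Submonoid.powers g) Q)
    exact Module.Free.of_equiv
      ((TensorProduct.AlgebraTensorModule.cancelBaseChange R Rg L L Q ≪≫ₗ
        (TensorProduct.AlgebraTensorModule.cancelBaseChange R R[X] L L Q).symm ≪≫ₗ
        TensorProduct.AlgebraTensorModule.congr (LinearEquiv.refl L L) eP.symm) ≪≫ₗ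
        (LocalizedModule.equivTensorProduct (Submonoid.powers (Polynomial.C g : R[X])) P).symm)
  obtain ⟨s, hs, h1⟩ := Submodule.mem_span_finite_of_mem_span ((Ideal.eq_top_iff_one _).mp htop)
  refine ⟨s.card, fun i => (s.equivFin.symm i).1, ?_, fun i => ?_⟩
  · have hrange : Set.range (fun i => (s.equivFin.symm i).1) = (s : Set R) := by
      rw [show (fun i => (s.equivFin.symm i).1) = Subtype.val ∘ s.equivFin.symm from rfl, Set.range_comp,
        s.equivFin.symm.range_eq_univ, Set.image_univ, Subtype.range_coe_subtype]
      rfl
    rw [hrange]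
    exact (Ideal.eq_top_iff_one _).mpr h1
  exact key _ (hs (s.equivFin.symm i).2)

end Groth.Agent.S15499
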