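import Groth.Statements.S15512
import Groth.Agent.S10932
import Mathlib.RingTheory.LocalProperties.Projective
import Mathlib.RingTheory.Ideal.Height

set_option autoImplicit false
universe u
open CategoryTheory
open CAlg

namespace Groth.Agent.S15512

theorem pdLE_of_localized (A : Type u) [CommRing A] [IsNoetherianRing A] :
    ∀ (n : ℕ) (M : Type u) [AddCommGroup M] [Module A M] [Module.Finite A M],
      (∀ (m : Ideal A) [m.IsMaximal], RegLoc6.PdLE (Localization.AtPrime m) n (LocalizedModule m.primeCompl M)) →
      RegLoc6.PdLE A n M := by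
  intro n
  induction n with
  | zero =>
    intro M _ _ _ h
    haveI := Module.finitePresentation_of_finite A M
    exact RegLoc6.pdLE_zero_iff.2 (Module.projective_of_localization_maximal fun m hm => RegLoc6.pdLE_zero_iff.1 (h m))
  | succ n ih =>
    intro M _ _ _ h
    obtain ⟨k, g, hg⟩ := RegLoc6.exists_presentation (R := A) (M := M)
    refine (RegLoc6.pdLE_succ_iff g hg).2 (ih (LinearMap.ker g) fun m hm => ?_)
    let S := m.primeCompl
    let g' := LocalizedModule.map S g
    have hg' : Function.Surjective g' := LocalizedModule.map_surjective S g hg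
    let i' := LocalizedModule.map S (LinearMap.ker g).subtype
    have hi : Function.Injective i' := LocalizedModule.map_injective S _ Subtype.val_injective
    have hex : Function.Exact i' g' := LocalizedModule.map_exact S _ _ (LinearMap.exact_subtype_ker_map g)
    haveI : Module.Projective (Localization S) (LocalizedModule S (Fin k → A)) :=
      Module.Projective.of_equiv ((LocalizedModule.equivTensorProduct S (Fin k → A)).symm)
    let e := (LinearEquiv.ofInjective i' hi).trans (LinearEquiv.ofEq _ _ (LinearMap.exact_iff.1 hex).symm)
    exact RegLoc6.pdLE_of_equiv e.symm ((RegLoc6.pdLE_succ_iff g' hg').1 (h m))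

/-- Let A be a Noetherian ring which is regular (its localization at every maximal ideal is a regular
local ring) and of finite Krull dimension, M a finitely generated A-module and d a natural number.
If Ext^i_A(M, A) vanishes for every i > d, then the projective dimension of M is at most d. -/
theorem result (A : Type u) [CommRing A]
    [IsNoetherianRing A] (hreg : ∀ m : MaximalSpectrum A, IsRegularLocalRing (Localization.AtPrime m.asIdeal))
    (hdim : ringKrullDim A < ⊤) (M : Type u) [AddCommGroup M] [Module A M] [Module.Finite A M] (d : ℕ)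
    (h : ∀ i : ℕ, d < i → Subsingleton (Abelian.Ext (ModuleCat.of A M) (ModuleCat.of A A) i)) :
    HasProjectiveDimensionLT (ModuleCat.of A M) (d + 1) := by
  obtain ⟨N, hN⟩ : ∃ N : ℕ, ringKrullDim A ≤ (N : WithBot ℕ∞) := by
    match hx : ringKrullDim A with
    | ⊥ => exact ⟨0, bot_le⟩
    | ((⊤ : ℕ∞) : WithBot ℕ∞) => exact absurd hx hdim.ne
    | (((k : ℕ) : ℕ∞) : WithBot ℕ∞) => exact ⟨k, le_rfl⟩
  have hM : RegLoc6.PdLE A N M := pdLE_of_localized A N M fun m hm => by
    haveI := hreg ⟨m, hm⟩
    refine RegLoc6.pdLE_mono ?_ (RegLoc6.pdLE_of_isRegularLocalRing (Localization.AtPrime m) (LocalizedModule m.primeCompl M))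
    have h1 : ((IsLocalRing.maximalIdeal (Localization.AtPrime m)).spanFinrank : WithBot ℕ∞) ≤ (N : WithBot ℕ∞) := by
      rw [IsRegularLocalRing.spanFinrank_maximalIdeal, IsLocalization.AtPrime.ringKrullDim_eq_height m (Localization.AtPrime m)]
      exact (Ideal.height_le_ringKrullDim_of_ne_top hm.ne_top).trans hN
    exact_mod_cast h1
  exact LC.pdLE_of_ext_finite d M (LC.ext_finite_vanish N d hM h)

end Groth.Agent.S15512
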