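import Groth.Statements.S15515
import Groth.Agent.PnVan.HomTw
-- import your own Groth.Agent.* helpers here

set_option autoImplicit false
universe u
open CategoryTheory AlgebraicGeometry
open ProjDual

namespace Groth.Agent.S15515

/-- (iii) ⇒ (i): let k be a field and X a k-scheme of dimension n with a closed immersion ι into P^N_k
over k. Let (ω, t) be a dualizing sheaf for X: ω is a coherent O_X-module and t : H^n(X, ω) → k a
k-linear map such that for every coherent F and every k-linear form ψ on H^n(X, F) there is exactly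
one φ : F → ω with ψ = t ∘ H^n(φ). Suppose that for every coherent O_X-module F and every i ≤ n, the
group Ext^i(F, ω) in the category of all O_X-modules (the Ext instance is the stated hypothesis; it
holds) vanishes if and only if H^(n-i)(X, F) vanishes. Then the local ring of X at every closed
point is Cohen–Macaulay of Krull dimension n. (The published statement assumes X connected and that
the duality maps Ext^i(F, ω) → H^(n-i)(X, F)' are bijective for all i and F, and concludes that X is
Cohen–Macaulay; the weaker vanishing hypothesis used here suffices for the published proof, which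
also yields the dimension of the local rings at closed points.) -/
theorem result
    (k : Type u) [Field k] (N n : ℕ) (X : Scheme.{u}) [X.Over (Spec (CommRingCat.of k))]
    (ι : X ⟶ CohB1.ProjSpace N k) [IsClosedImmersion ι]
    (hι : ι ≫ CohB1.ProjSpace.toSpec N k = X ↘ Spec (CommRingCat.of k))
    (hn : topologicalKrullDim ↥X = n) [HasExt.{u} X.Modules]
    (ω : X.Modules) (hω : Coh.IsCoh ω) (t : Coh.HH X ω n →ₗ[k] k)
    (hdual : ∀ F : X.Modules, Coh.IsCoh F → ∀ ψ : Coh.HH X F n →ₗ[k] k,
        ∃! φ : F ⟶ ω, ∀ x : Coh.HH X F n,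
          ψ x = t (Sheaf.H.map ((SheafOfModules.toSheaf X.ringCatSheaf).map φ) n x))
    (h : ∀ F : X.Modules, Coh.IsCoh F → ∀ i : ℕ, i ≤ n →
        (Subsingleton (Abelian.Ext F ω i) ↔ Subsingleton (Coh.HH X F (n - i)))) :
    ∀ x : X, IsClosed ({x} : Set ↥X) →
      LocCoh.IsCohenMacaulayLocalRing (X.presheaf.stalk x) ∧ ringKrullDim (X.presheaf.stalk x) = n := by
  let ι' : X ⟶ Groth.Agent.PnVan.P k N := ι
  haveI : IsClosedImmersion ι' := ‹IsClosedImmersion ι›
  have hnN := Groth.Agent.PnVan.dim_le ι' hn
  haveI := Groth.Agent.PnVan.isLocNoeth ι'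
  haveI : IsProper (X ↘ Spec (CommRingCat.of k)) := by
    rw [← hι]
    haveI := Groth.Agent.PnCoh.Chow.isProper_toSpec N k
    infer_instance
  let O1 := (Scheme.Modules.pullback ι').obj (Twist.twist (CohB1.polyGrading N k) 1)
  have hO1 : CohB1.IsAmple O1 := Groth.Agent.PnVan.isAmple_pull_twist ι'
  refine (Groth.Agent.PnVan.cm_iff ι' hn).2 fun F hF => ?_
  have hFc : Coh.IsCoh F := Groth.Agent.QCoh.isCoh_iff_isFP.2 (Groth.Agent.QCoh.isFP_of_isFinLocFree hF)
  obtain ⟨q₀, hq₀⟩ := Groth.Agent.AmpleVan.exists_vanishing (A := k) hO1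
    (Groth.Agent.SheafHomX.isCoh_hom hFc hω)
  refine ⟨q₀, fun q hq j hj => ?_⟩
  obtain ⟨l, hl⟩ : ∃ l, n - j = l + 1 := ⟨n - j - 1, by omega⟩
  have hD := Groth.Agent.PnVan.isInvertible_pull_twist ι' (-(q : ℤ))
  have h1 : Subsingleton (Abelian.Ext (CohB1.tensorMod F
      ((Scheme.Modules.pullback ι').obj (Twist.twist (CohB1.polyGrading N k) (-(q : ℤ))))) ω (l + 1)) :=
    Groth.Agent.PnVan.subsingleton_ext_tensor (k := k) hF (Groth.Agent.InvX.isInvertible_tensorPow hO1.1 q) hD
      (Groth.Agent.PnVan.pull_twist_inverse ι' q) ω _ (hq₀ q hq l)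
  have h2 := (h _ (Groth.Agent.AmpleVan.isCoh_tensor hFc (Groth.Agent.CurveDeg.isCoh_of_isInvertible hD))
    (l + 1) (by omega)).1 h1
  rwa [show n - (l + 1) = j by omega] at h2

end Groth.Agent.S15515
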