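import Groth.Statements.S15518
import Groth.Agent.ExtShX.AffineGlobal

set_option autoImplicit false
universe u
open CategoryTheory CategoryTheory.Limits AlgebraicGeometry
open Coherent

namespace Groth.Agent.S15518

set_option linter.style.haveILetI false
set_option backward.isDefEq.respectTransparency false
set_option backward.isDefEq.respectTransparency.types false
set_option maxHeartbeats 1000000

open CategoryTheory AlgebraicGeometry

/-- The unit. -/
noncomputable def unitIso {A : CommRingCat.{u}} (M : ModuleCat.{u} A) :
    M ≅ (moduleSpecΓFunctor (R := A)).obj ((tilde.functor A).obj M) :=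
  (asIso (tilde.adjunction (R := A)).unit).app M

/-- A quasi-coherent module is the tilde of its sections. -/
theorem qcoh_iso {A : CommRingCat.{u}} {F : (Spec A).Modules} (hF : Coh.IsQCoh F) :
    Nonempty (F ≅ (tilde.functor A).obj ((moduleSpecΓFunctor (R := A)).obj F)) := by
  obtain ⟨M, ⟨e⟩⟩ := Groth.Agent.QCoh.isQCoh_spec_iff.1 hF
  exact ⟨e.symm ≪≫ (tilde.functor A).mapIso (unitIso M ≪≫ (moduleSpecΓFunctor (R := A)).mapIso e)⟩

/-- Ext in an isomorphic module. -/
noncomputable def extMapIso {A : CommRingCat.{u}} (M : ModuleCat.{u} A) {Y Y' : ModuleCat.{u} A} (c : Y ≅ Y') (i : ℕ) :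
    Abelian.Ext M Y i ≃ₗ[A] Abelian.Ext M Y' i :=
  { ((Abelian.extFunctorObj M i).mapIso c).addCommGroupIsoToAddEquiv with
    map_smul' := fun r x => Abelian.Ext.smul_comp x (Abelian.Ext.mk₀ c.hom) (add_zero i) r }

/-- The affine computation. -/
theorem main {A : CommRingCat.{u}} [IsNoetherianRing A] (M N : ModuleCat.{u} A) [Module.Finite A M] (i : ℕ) :
    Nonempty ((Groth.Agent.ExtShX.E ((tilde.functor A).obj M) i).obj ((tilde.functor A).obj N) ≅
      (tilde.functor A).obj (ModuleCat.of A (Abelian.Ext M N i))) := by
  obtain ⟨hq, ⟨e⟩⟩ := Groth.Agent.ExtShX.isQCoh_and_gamma_iso (G := (tilde.functor A).obj N)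
    (inferInstanceAs (Coh.IsQCoh (tilde N))) i M ‹Module.Finite A M›
  obtain ⟨b⟩ := qcoh_iso hq
  exact ⟨b ≪≫ (tilde.functor A).mapIso (e.trans (extMapIso M (unitIso N).symm i)).toModuleIso⟩

/-- Let A be a Noetherian ring, X = Spec A, M a finitely generated A-module and N an arbitrary A-module.
Then for every i the Ext sheaf Ext^i_{O_X}(M~, N~) — the i-th right derived functor of the internal
Hom functor Hom(M~, -) on O_X-modules (its existence and that of injective resolutions are the
stated instance hypotheses, both true), evaluated at N~ — is isomorphic as an O_X-module to the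
sheaf associated with the A-module Ext^i_A(M, N) (Ext in the category of A-modules, with its
A-linear structure). (Existence of an isomorphism only; the published identification is the natural
one.) -/
theorem result (A : Type u) [CommRing A] [IsNoetherianRing A]
    (M : Type u) [AddCommGroup M] [Module A M] [Module.Finite A M] (N : Type u) [AddCommGroup N] [Module A N]
    [ModSite.HasSheafHom (O := (Spec (CommRingCat.of A)).sheaf) (tilde (R := CommRingCat.of A) (ModuleCat.of A M))]
    [HasInjectiveResolutions (ModSite.Mod (Spec (CommRingCat.of A)).sheaf)] (i : ℕ) :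
    Nonempty (((ModSite.extSh (O := (Spec (CommRingCat.of A)).sheaf) (tilde (R := CommRingCat.of A) (ModuleCat.of A M)) i).obj
        (tilde (R := CommRingCat.of A) (ModuleCat.of A N))) ≅
      tilde (R := CommRingCat.of A) (ModuleCat.of A (Abelian.Ext (ModuleCat.of A M) (ModuleCat.of A N) i))) := by
  let R := CommRingCat.of A
  haveI : IsNoetherianRing R := ‹IsNoetherianRing A›
  obtain ⟨a⟩ := Groth.Agent.ExtShX.extSh_iso (tilde (R := R) (ModuleCat.of A M)) i (tilde (R := R) (ModuleCat.of A N))
  haveI : Module.Finite R (ModuleCat.of A M) := ‹Module.Finite A M›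
  obtain ⟨b⟩ := main (A := R) (ModuleCat.of A M) (ModuleCat.of A N) i
  exact ⟨a ≪≫ b⟩

end Groth.Agent.S15518
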