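import Groth.Statements.S15519
import Groth.Agent.ExtShX.HighTwist

set_option autoImplicit false
universe u
open CategoryTheory CategoryTheory.Limits AlgebraicGeometry
open ProjDual

namespace Groth.Agent.S15519

set_option linter.style.haveILetI false
set_option backward.isDefEq.respectTransparency false
set_option backward.isDefEq.respectTransparency.types false
set_option maxHeartbeats 1000000

open Groth.Agent Groth.Agent.PnCoh Groth.Agent.PnCoh.Finite Groth.Agent.PnDual Groth.Agent.H23.PicMul in
theorem pull_twist_pow {k : Type u} [Field k] {n : ℕ} {X : Scheme.{u}} (i : X ⟶ CohB1.ProjSpace n k) (d : ℕ) :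
    Nonempty ((Scheme.Modules.pullback i).obj (Twist.twistProjSpace n k (d : ℤ)) ≅
      CohB1.tensorPow ((Scheme.Modules.pullback i).obj (Twist.twist (CohB1.polyGrading n k) 1)) d) := by
  obtain ⟨e⟩ := twist_tensorPow_iso (coordsR k n) coordsR_mem coordsR_cover d
  refine cl_eq_iff.1 ?_
  rw [cl_tensorPow]
  have h := congrArg (PicF.pullCl i) (cl_eq_iff.2 ⟨e⟩)
  rw [cl_tensorPow, pullCl_pow] at h
  exact h


/-- Let k be a field, ι : X → P^n_k a closed immersion over k, O_X(1) = ι^*O(1), and F, G coherent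
O_X-modules. Then for every m there is d₀ such that for every d ≥ d₀ the group Ext^m_{O_X}(F, G(d)),
computed in the category of all O_X-modules (the Ext instance, the internal Hom functor of F and
injective resolutions are the stated instance hypotheses, all true) with its k-linear structure, is
k-linearly isomorphic to the k-vector space of global sections H^0(X, Ext^m_{O_X}(F, G(d))) of the
Ext sheaf, where G(d) = G ⊗ ι^*O(d). (Existence of a k-linear isomorphism only; the published
identification is the edge map of the local-to-global spectral sequence.) -/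
theorem result (k : Type u) [Field k] (n : ℕ)
    (X : Scheme.{u}) [X.Over (Spec (CommRingCat.of k))] (ι : X ⟶ CohB1.ProjSpace n k) [IsClosedImmersion ι]
    (hι : ι ≫ CohB1.ProjSpace.toSpec n k = X ↘ Spec (CommRingCat.of k))
    [HasExt.{u} X.Modules] (F G : X.Modules) (hF : Coh.IsCoh F) (hG : Coh.IsCoh G)
    [ModSite.HasSheafHom (O := X.sheaf) F] [HasInjectiveResolutions (ModSite.Mod X.sheaf)] (m : ℕ) :
    ∃ d₀ : ℕ, ∀ d : ℕ, d₀ ≤ d →
      Nonempty (Abelian.Ext F (CohB1.tensorMod G ((Scheme.Modules.pullback ι).obj (Twist.twistProjSpace n k (d : ℤ)))) m ≃ₗ[k]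
        Coh.HH X ((ModSite.extSh (O := X.sheaf) F m).obj
          (CohB1.tensorMod G ((Scheme.Modules.pullback ι).obj (Twist.twistProjSpace n k (d : ℤ))))) 0) := by
  haveI : IsProper (CohB1.ProjSpace.toSpec n k) := Groth.Agent.PnCoh.Chow.isProper_toSpec n k
  haveI : IsProper (X ↘ Spec (CommRingCat.of k)) := by rw [← hι]; infer_instance
  obtain ⟨d₀, hd₀⟩ := Groth.Agent.ExtShX.exists_ext_linearEquiv_HH0 (A := k)
    (Groth.Agent.PnVan.isAmple_pull_twist (k := k) (r := n) ι) hF hG m
  refine ⟨d₀, fun d hd => ?_⟩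
  let N := (Scheme.Modules.pullback ι).obj (Twist.twistProjSpace n k (d : ℤ))
  obtain ⟨w⟩ := hd₀ d hd N (pull_twist_pow ι d)
  obtain ⟨a⟩ := Groth.Agent.ExtShX.extSh_iso F m (CohB1.tensorMod G N)
  obtain ⟨g₁⟩ := Groth.Agent.ExtShX.exists_hom_HH0 (A := k)
    ((Groth.Agent.ExtShX.E F m).obj (CohB1.tensorMod G N))
  obtain ⟨g₂⟩ := Groth.Agent.ExtShX.exists_hom_HH0 (A := k)
    ((ModSite.extSh (O := X.sheaf) F m).obj (CohB1.tensorMod G N))
  exact ⟨((w.trans g₁.symm).trans (Linear.homCongr k (Iso.refl (Coh.structureModule X)) a.symm)).trans g₂⟩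

end Groth.Agent.S15519
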