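import Groth.Statements.S15520
import Groth.Agent.ExtShX.Resolution

set_option autoImplicit false
universe u
open CategoryTheory CategoryTheory.Limits AlgebraicGeometry
open Coherent

namespace Groth.Agent.S15520

set_option linter.style.haveILetI false
set_option backward.isDefEq.respectTransparency false
set_option backward.isDefEq.respectTransparency.types false
set_option maxHeartbeats 1000000


/-- Let X be a scheme, F and G O_X-modules, and E_• → F → 0 a resolution of F whose terms E_i are finite
locally free O_X-modules: E is a chain complex indexed by the natural numbers with an augmentation π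
: E_0 → F such that E is exact in every positive degree and E_1 → E_0 → F → 0 is exact. Let C be the
cochain complex Hom_{O_X}(E_•, G), given with identifications C^i ≅ Hom_{O_X}(E_i, G) under which
its differentials are the maps induced by the differentials of E (contravariant functoriality of the
internal Hom). Then for every i the i-th cohomology object of C is isomorphic to the Ext sheaf
Ext^i_{O_X}(F, G), the i-th right derived functor of the internal Hom functor Hom(F, -) evaluated at
G. (Existence of an isomorphism of O_X-modules only; the published statement is for a ringed space.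
The internal Hom functors and injective resolutions are the stated instance hypotheses, all true.) -/
theorem result (X : Scheme.{u}) (F G : X.Modules)
    (E : ChainComplex X.Modules ℕ) (π : E.X 0 ⟶ F) [Epi π] (hπ : E.d 1 0 ≫ π = 0)
    (hex0 : (ShortComplex.mk (E.d 1 0) π hπ).Exact) (hex : ∀ j : ℕ, E.ExactAt (j + 1))
    (hE : ∀ j : ℕ, FlatMod.IsFinLocFree (E.X j))
    [∀ j : ℕ, ModSite.HasSheafHom (O := X.sheaf) (E.X j)] [ModSite.HasSheafHom (O := X.sheaf) F]
    [HasInjectiveResolutions (ModSite.Mod X.sheaf)]
    (C : CochainComplex X.Modules ℕ) (e : ∀ j : ℕ, C.X j ≅ (ModSite.sheafHom (O := X.sheaf) (E.X j)).obj G)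
    (hC : ∀ j : ℕ, C.d j (j + 1) ≫ (e (j + 1)).hom =
      (e j).hom ≫ (ExtSupp.sheafHomMap (O := X.sheaf) (E.d (j + 1) j)).app G)
    (i : ℕ) :
    Nonempty (C.homology i ≅ (ModSite.extSh (O := X.sheaf) F i).obj G) := by
  let G' := G
  let e' : ∀ j : ℕ, C.X j ≅ (Groth.Agent.SheafHomX.hom (E.X j)).obj G := fun j =>
    e j ≪≫ (Groth.Agent.ExtShX.sheafHomIso (E.X j)).app G
  have hC' : ∀ j : ℕ, C.d j (j + 1) ≫ (e' (j + 1)).hom =
      (e' j).hom ≫ (Groth.Agent.SheafHomX.homMap (E.d (j + 1) j)).app G := fun j => by
    show C.d j (j + 1) ≫ (e (j + 1)).hom ≫ (Groth.Agent.ExtShX.sheafHomIso (E.X (j + 1))).hom.app G =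
      ((e j).hom ≫ (Groth.Agent.ExtShX.sheafHomIso (E.X j)).hom.app G) ≫ _
    rw [← Category.assoc, hC, Category.assoc, Category.assoc]
    exact congrArg ((e j).hom ≫ ·) (Groth.Agent.ExtShX.sheafHomIso_naturality (E.d (j + 1) j) G)
  obtain ⟨a⟩ := Groth.Agent.ExtShX.extSh_iso F i G
  let q : Groth.Agent.ExtShX.syz E 0 ≅ F := IsColimit.coconePointUniqueUpToIso
    (cokernelIsCokernel (E.d 1 0)) hex0.gIsCokernel
  obtain ⟨b⟩ := Groth.Agent.ExtShX.iso_of_iso q i G
  rcases i with _ | i
  · obtain ⟨c⟩ := Groth.Agent.ExtShX.homology_zero E C e' hC'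
    exact ⟨c ≪≫ b ≪≫ a.symm⟩
  · obtain ⟨c⟩ := Groth.Agent.ExtShX.homology_succ E C e' hC' hex hE i
    exact ⟨c ≪≫ b ≪≫ a.symm⟩

end Groth.Agent.S15520
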