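import Groth.Statements.S1553
import Groth.Agent.FibDim.StalkIneq
-- import your own Groth.Agent.* helpers here

set_option autoImplicit false
universe u
open CategoryTheory CategoryTheory.Limits AlgebraicGeometry
open Variety

namespace Groth.Agent.S1553

/-- Let f : X → Y be locally of finite type, x a point with image y such that the local ring of Y at y
is Noetherian, and d a natural number such that at the generic points η of the irreducible
components of X passing through x we have f(η) ≠ y and local fibre dimension d. Then the local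
dimension at x of the fibre over y is at most d + dim O_{Y,y} - 1 (written additively). -/
theorem result {X Y : Scheme.{u}} (f : X ⟶ Y) [LocallyOfFiniteType f]
    (x : X) [IsNoetherianRing (Y.presheaf.stalk (f.base x))] (d : ℕ)
    (hgen : ∀ Z ∈ irreducibleComponents (X : Type u), x ∈ Z → ∀ η : X, IsGenericPoint η Z →
      f.base η ≠ f.base x ∧ FlatMor.fibreDimAt f η = d) :
    FlatMor.fibreDimAt f x + 1 ≤ (d : WithBot ℕ∞) + ringKrullDim (Y.presheaf.stalk (f.base x)) := by
  obtain ⟨z, hzx, hfz, -, he⟩ := Groth.Agent.FibDim.exists_fibMax_generization f x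
  obtain ⟨η, hη, hmax, hirr⟩ := Groth.Agent.FibDim.exists_maximal z
  have hxmem : x ∈ closure ({η} : Set X) := specializes_iff_mem_closure.1 (hη.trans hzx)
  obtain ⟨hne, hd⟩ := hgen _ hirr hxmem η isGenericPoint_closure
  rw [Groth.Agent.FibDim.fibreDimAt_eq_rd f (Groth.Agent.FibDim.fibMax_of_maximal f hmax)] at hd
  have hne' : f η ≠ f z := fun e => hne (e.trans hfz)
  haveI : IsNoetherianRing (Y.presheaf.stalk (f z)) := by rw [hfz]; infer_instance
  have h1 := Groth.Agent.FibDim.rd_add_one_le f hη hne'
  rw [hfz] at h1
  rw [he]
  have hd' : ((Groth.Agent.FibDim.rd f η : ℕ∞) : WithBot ℕ∞) = (d : WithBot ℕ∞) := hd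
  rw [hd'] at h1
  refine le_trans ?_ h1
  exact_mod_cast le_rfl

end Groth.Agent.S1553
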