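import Groth.Statements.S1554
import Groth.Agent.FibDim.StalkIneq
-- import your own Groth.Agent.* helpers here

set_option autoImplicit false
universe u
open CategoryTheory CategoryTheory.Limits AlgebraicGeometry
open Variety

namespace Groth.Agent.S1554

/-- Let f : X → Y be locally of finite type, x a point with image y such that the local ring of Y at y
is Noetherian of dimension at most one, and d a natural number such that the local fibre dimension
is d at the generic points of the irreducible components of X passing through x. Then the local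
dimension at x of the fibre over y equals d. -/
theorem result {X Y : Scheme.{u}} (f : X ⟶ Y) [LocallyOfFiniteType f]
    (x : X) [IsNoetherianRing (Y.presheaf.stalk (f.base x))] (hdimY : ringKrullDim (Y.presheaf.stalk (f.base x)) ≤ 1) (d : ℕ)
    (hgen : ∀ Z ∈ irreducibleComponents (X : Type u), x ∈ Z → ∀ η : X, IsGenericPoint η Z → FlatMor.fibreDimAt f η = d) :
    FlatMor.fibreDimAt f x = d := by
  obtain ⟨z, hzx, hfz, hzmax, he⟩ := Groth.Agent.FibDim.exists_fibMax_generization f x
  obtain ⟨η, hη, hmax, hirr⟩ := Groth.Agent.FibDim.exists_maximal z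
  have hxmem : x ∈ closure ({η} : Set X) := specializes_iff_mem_closure.1 (hη.trans hzx)
  have hd := hgen _ hirr hxmem η isGenericPoint_closure
  rw [Groth.Agent.FibDim.fibreDimAt_eq_rd f (Groth.Agent.FibDim.fibMax_of_maximal f hmax)] at hd
  have hd' : Groth.Agent.FibDim.rd f η = d := by
    have h0 : ((Groth.Agent.FibDim.rd f η : ℕ∞) : WithBot ℕ∞) = ((d : ℕ∞) : WithBot ℕ∞) := hd
    exact_mod_cast h0
  have hge := Groth.Agent.FibDim.fibreDimAt_ge_rd f (hη.trans hzx)
  rw [hd'] at hge
  refine le_antisymm ?_ hge
  rw [he]
  suffices h : Groth.Agent.FibDim.rd f z ≤ d by exact_mod_cast h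
  by_cases hne : f η = f z
  · rw [← hd', hzmax η hη hne]
  · haveI : IsNoetherianRing (Y.presheaf.stalk (f z)) := by rw [hfz]; infer_instance
    have h1 := (Groth.Agent.FibDim.rd_add_one_le f hη hne)
    rw [hfz, hd'] at h1
    have h2 := h1.trans (add_le_add le_rfl hdimY)
    have h3 : Groth.Agent.FibDim.rd f z + 1 ≤ d + 1 := by exact_mod_cast h2
    omega

end Groth.Agent.S1554
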