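import Groth.Statements.S15547
import Mathlib.AlgebraicGeometry.Morphisms.Finite
import Mathlib.RingTheory.Ideal.GoingUp
import Groth.Agent.QCoh.Support
-- import your own Groth.Agent.* helpers here

set_option autoImplicit false
set_option linter.style.haveILetI false
open CategoryTheory AlgebraicGeometry TopologicalSpace
universe u
open Coherent

namespace Groth.Agent.S15547

/-- Let g : Z ⟶ X be a finite morphism of schemes (Z is the spectrum of the finite quasi-coherent
O_X-algebra C = g_*O_Z) and x a point of X. Then the points of Z over x correspond bijectively to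
the maximal ideals of the stalk C_x = (g_*O_Z)_x: the map sending z with g(z) = x to the preimage of
the maximal ideal of O_{Z,z} under the canonical map (g_*O_Z)_x ⟶ O_{Z,z} is a bijection from the
fibre onto the set of maximal ideals. -/
theorem result {Z X : Scheme.{u}} (g : Z ⟶ X)
    [IsFinite g] (x : X) :
    Set.BijOn (fun z : {z : Z // g.base z = x} =>
        Ideal.comap (((g.base _* Z.presheaf).stalkCongr (Inseparable.of_eq z.2)).inv ≫
            TopCat.Presheaf.stalkPushforward CommRingCat g.base Z.presheaf z.1).hom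
          (IsLocalRing.maximalIdeal (Z.presheaf.stalk z.1)))
      Set.univ {I : Ideal ((g.base _* Z.presheaf).stalk x) | I.IsMaximal} := by
    obtain ⟨U, hU, hxU, -⟩ := exists_isAffineOpen_mem_and_subset (X := X) (x := x) (U := ⊤) trivial
    let W : Z.Opens := g ⁻¹ᵁ U
    have hW : IsAffineOpen W := hU.preimage g
    letI : Algebra Γ(X, U) Γ(Z, W) := (g.app U).hom.toAlgebra
    haveI : Module.Finite Γ(X, U) Γ(Z, W) := g.finite_app U hU
    haveI : Algebra.IsIntegral Γ(X, U) Γ(Z, W) := Algebra.IsIntegral.of_finite _ _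
    let p : Ideal Γ(X, U) := (hU.primeIdealOf ⟨x, hxU⟩).asIdeal
    let φ := ((g.base _* Z.presheaf).germ U x hxU).hom
    let P : {z : Z // g.base z = x} → Ideal ((g.base _* Z.presheaf).stalk x) := fun z =>
          Ideal.comap (((g.base _* Z.presheaf).stalkCongr (Inseparable.of_eq z.2)).inv ≫
              TopCat.Presheaf.stalkPushforward CommRingCat g.base Z.presheaf z.1).hom
            (IsLocalRing.maximalIdeal (Z.presheaf.stalk z.1))
    have memW : ∀ z : {z : Z // g.base z = x}, z.1 ∈ W := fun z => by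
      show g.base z.1 ∈ U
      rw [z.2]; exact hxU
    have hcomp : ∀ z, (g.base _* Z.presheaf).germ U x hxU ≫
        (((g.base _* Z.presheaf).stalkCongr (Inseparable.of_eq z.2)).inv ≫
          TopCat.Presheaf.stalkPushforward CommRingCat g.base Z.presheaf z.1) =
        Z.presheaf.germ W z.1 (memW z) := fun z => by
      refine (Category.assoc _ _ _).symm.trans ((congrArg (· ≫ _)
        (TopCat.Presheaf.germ_stalkSpecializes _ hxU (Inseparable.of_eq z.2).specializes)).trans ?_)
      exact TopCat.Presheaf.stalkPushforward_germ _ g.base Z.presheaf U z.1 _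
    have hP : ∀ z, (P z).comap φ = (hW.primeIdealOf ⟨z.1, memW z⟩).asIdeal := fun z => by
      rw [hW.primeIdealOf_eq_map_closedPoint]
      show Ideal.comap φ (Ideal.comap _ _) = Ideal.comap _ _
      rw [Ideal.comap_comap]
      exact congrArg (fun k => Ideal.comap (CommRingCat.Hom.hom k) _) (hcomp z)
    have hover : ∀ z : {z : Z // g.base z = x},
        (hW.primeIdealOf ⟨z.1, memW z⟩).asIdeal.comap (algebraMap Γ(X, U) Γ(Z, W)) = p := fun z => by
      have h := hU.comap_primeIdealOf_appLE U W hW le_rfl (memW z)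
      have h' := congrArg PrimeSpectrum.asIdeal h
      rw [g.appLE_eq_app] at h'
      refine h'.trans ?_
      show (hU.primeIdealOf _).asIdeal = p
      congr 2
      exact Subtype.ext z.2
    have hinjA : ∀ z z' : {z : Z // g.base z = x},
        (hW.primeIdealOf ⟨z.1, memW z⟩).asIdeal = (hW.primeIdealOf ⟨z'.1, memW z'⟩).asIdeal → z = z' := by
      intro z z' h
      have h2 := congrArg (fun q => hW.fromSpec q) (PrimeSpectrum.ext h)
      exact Subtype.ext (((hW.fromSpec_primeIdealOf ⟨z.1, memW z⟩).symm.trans h2).trans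
        (hW.fromSpec_primeIdealOf ⟨z'.1, memW z'⟩))
    have hunit : ∀ r : Γ(X, U), r ∉ p → IsUnit (φ (algebraMap Γ(X, U) Γ(Z, W) r)) := by
      intro r hr
      have hxr : x ∈ X.basicOpen r := (QCoh.mem_basicOpen_iff_notMem hU hxU r).2 hr
      have h1 : IsUnit (X.presheaf.map (homOfLE (X.basicOpen_le r)).op r) := RingedSpace.isUnit_res_basicOpen _ r
      have h2 := ((h1.map (g.app (X.basicOpen r)).hom).map
        ((g.base _* Z.presheaf).germ (X.basicOpen r) x hxr).hom)
      convert h2 using 1
      show ((g.base _* Z.presheaf).germ U x hxU) (g.app U r) = _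
      rw [← TopCat.Presheaf.germ_res_apply (g.base _* Z.presheaf) (homOfLE (X.basicOpen_le r)) x hxr]
      refine congrArg _ ?_
      exact (congr($(g.naturality (homOfLE (X.basicOpen_le r)).op) r)).symm
    have hfrac : ∀ t : (g.base _* Z.presheaf).stalk x, ∃ (c : Γ(Z, W)) (u : _), IsUnit u ∧ t * u = φ c := by
      intro t
      obtain ⟨V, hxV, s, rfl⟩ := (g.base _* Z.presheaf).exists_germ_eq t
      obtain ⟨r, hrV, hxr⟩ := hU.exists_basicOpen_le (V := V) ⟨x, hxV⟩ hxU
      have hpre : g ⁻¹ᵁ X.basicOpen r = Z.basicOpen (g.app U r) := Scheme.preimage_basicOpen g r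
      let s' := Z.presheaf.map (homOfLE (hpre.ge.trans (g.preimage_mono hrV))).op s
      haveI := hW.isLocalization_basicOpen (g.app U r)
      obtain ⟨⟨c, ⟨_, n, rfl⟩⟩, hc⟩ := IsLocalization.surj (Submonoid.powers (g.app U r)) s'
      refine ⟨c, φ (g.app U r ^ n), ?_, ?_⟩
      · rw [map_pow]
        exact (hunit r ((QCoh.mem_basicOpen_iff_notMem hU hxU r).1 hxr)).pow n
      have e1 : (g.base _* Z.presheaf).germ V x hxV s = (g.base _* Z.presheaf).germ (X.basicOpen r) x hxr
          (Z.presheaf.map (homOfLE (g.preimage_mono hrV)).op s) :=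
        (TopCat.Presheaf.germ_res_apply (g.base _* Z.presheaf) (homOfLE hrV) x hxr s).symm
      have e2 : ∀ a : Γ(Z, W), φ a = (g.base _* Z.presheaf).germ (X.basicOpen r) x hxr
          (Z.presheaf.map (homOfLE (g.preimage_mono (X.basicOpen_le r))).op a) := fun a =>
        (TopCat.Presheaf.germ_res_apply (g.base _* Z.presheaf) (homOfLE (X.basicOpen_le r)) x hxr a).symm
      show (g.base _* Z.presheaf).germ V x hxV s * φ _ = φ c
      rw [e1, e2, e2]
      refine (map_mul ((g.base _* Z.presheaf).germ (X.basicOpen r) x hxr).hom _ _).symm.trans (congrArg _ ?_)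
      have hc' := congrArg (Z.presheaf.map (homOfLE hpre.le).op) hc
      rw [map_mul] at hc'
      have res2 : ∀ {A B C : Z.Opens} (h1 : B ≤ A) (h2 : C ≤ B) (h3 : C ≤ A) (a : Γ(Z, A)),
          Z.presheaf.map (homOfLE h2).op (Z.presheaf.map (homOfLE h1).op a) = Z.presheaf.map (homOfLE h3).op a :=
        fun h1 h2 h3 a => (congr($(Z.presheaf.map_comp (homOfLE h1).op (homOfLE h2).op) a)).symm
      have ea : ∀ a : Γ(Z, W), Z.presheaf.map (homOfLE hpre.le).op (algebraMap Γ(Z, W) Γ(Z, Z.basicOpen (g.app U r)) a)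
          = Z.presheaf.map (homOfLE (g.preimage_mono (X.basicOpen_le r))).op a := fun a => res2 _ _ _ a
      rw [ea, ea, res2 _ _ (g.preimage_mono hrV)] at hc'
      exact hc'
    have hle : ∀ (I : Ideal ((g.base _* Z.presheaf).stalk x)) (z : {z : Z // g.base z = x}),
        I.comap φ ≤ (hW.primeIdealOf ⟨z.1, memW z⟩).asIdeal → I ≤ P z := by
      intro I z h t ht
      obtain ⟨c, u, hu, he⟩ := hfrac t
      have h1 : c ∈ I.comap φ := by
        show φ c ∈ I
        rw [← he]; exact I.mul_mem_right u ht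
      have h2 : φ c ∈ P z := ((hP z).ge (h h1) :)
      rw [← he] at h2
      exact (Ideal.mul_unit_mem_iff_mem _ hu).1 h2
    have hexists : ∀ I : Ideal ((g.base _* Z.presheaf).stalk x), I.IsPrime →
        ∃ z, I ≤ P z := by
      intro I hI
      haveI := hI
      let J : Ideal Γ(Z, W) := I.comap φ
      haveI : J.IsPrime := hI.comap φ
      have hJ : J.comap (algebraMap Γ(X, U) Γ(Z, W)) ≤ p := by
        intro r hr
        by_contra hrp
        exact hI.ne_top (Ideal.eq_top_of_isUnit_mem _ hr (hunit r hrp))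
      haveI : p.IsPrime := (hU.primeIdealOf ⟨x, hxU⟩).isPrime
      obtain ⟨Q, hQJ, hQ, hQp⟩ := Ideal.exists_ideal_over_prime_of_isIntegral p J hJ
      let q : Spec Γ(Z, W) := ⟨Q, hQ⟩
      have hzW : hW.fromSpec q ∈ W := hW.range_fromSpec.le ⟨q, rfl⟩
      have hq : hW.primeIdealOf ⟨hW.fromSpec q, hzW⟩ = q :=
        hW.fromSpec.isOpenEmbedding.injective (hW.fromSpec_primeIdealOf ⟨_, hzW⟩)
      have hz : g.base (hW.fromSpec q) = x := by
        have h := hU.comap_primeIdealOf_appLE U W hW le_rfl hzW
        rw [hq, g.appLE_eq_app] at h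
        have h' : hU.primeIdealOf ⟨g.base (hW.fromSpec q), hzW⟩ = hU.primeIdealOf ⟨x, hxU⟩ :=
          h.symm.trans (PrimeSpectrum.ext hQp)
        exact (hU.fromSpec_primeIdealOf ⟨_, hzW⟩).symm.trans
          ((congrArg (fun q => hU.fromSpec q) h').trans (hU.fromSpec_primeIdealOf ⟨x, hxU⟩))
      exact ⟨⟨hW.fromSpec q, hz⟩, hle I ⟨_, hz⟩ (hQJ.trans (congrArg PrimeSpectrum.asIdeal hq).ge)⟩
    have hmax : ∀ z, (P z).IsMaximal := by
      intro z
      haveI : (P z).IsPrime := Ideal.IsPrime.comap _
      obtain ⟨I, hI, hzI⟩ := Ideal.exists_le_maximal (P z) (Ideal.IsPrime.ne_top inferInstance)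
      obtain ⟨w, hw⟩ := hexists I hI.isPrime
      have hlez : (hW.primeIdealOf ⟨z.1, memW z⟩).asIdeal ≤ (hW.primeIdealOf ⟨w.1, memW w⟩).asIdeal := by
        rw [← hP, ← hP]; exact Ideal.comap_mono (hzI.trans hw)
      rcases hlez.eq_or_lt with h | h
      · obtain rfl := hinjA z w h
        exact le_antisymm hzI hw ▸ hI
      · haveI := (hW.primeIdealOf ⟨z.1, memW z⟩).isPrime
        have h2 := Ideal.IsIntegral.comap_lt_comap (R := Γ(X, U)) h
        rw [hover, hover] at h2
        exact absurd h2 (lt_irrefl _)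
    refine ⟨fun z _ => hmax z, fun z _ z' _ h => hinjA z z' ?_, fun I hI => ?_⟩
    · rw [← hP, ← hP]
      exact congrArg (fun J => Ideal.comap φ J) h
    · haveI : I.IsMaximal := hI
      obtain ⟨z, hz⟩ := hexists I inferInstance
      exact ⟨z, trivial, (Ideal.IsMaximal.eq_of_le inferInstance (hmax z).ne_top hz).symm⟩

end Groth.Agent.S15547
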