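import Groth.Statements.S15548
import Groth.Agent.H6Tor.Res
import Mathlib

set_option autoImplicit false
universe u
open CategoryTheory
open CAlg

namespace Groth.Agent.S15548

/-- Let R be a Noetherian commutative ring, I an ideal of R and M a finitely generated R-module. Then
for every natural number n there is m ≥ n such that the map Tor_1^R(M, R/I^m) → Tor_1^R(M, R/I^n)
induced by the projection R/I^m → R/I^n is the zero map. Here Tor_1^R(M, -) is the first left
derived functor of M ⊗_R - (derived in the second variable). -/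
theorem result (R : Type u) [CommRing R] [IsNoetherianRing R] (I : Ideal R)
    (M : Type u) [AddCommGroup M] [Module R M] [Module.Finite R M] (n : ℕ) :
    ∃ m : ℕ, n ≤ m ∧ ∀ h : I ^ m ≤ I ^ n,
      ((CategoryTheory.Tor (ModuleCat.{u} R) 1).obj (ModuleCat.of R M)).map
        (ModuleCat.ofHom (Submodule.factor h)) = 0 := by
  obtain ⟨P, hP⟩ := H6Tor.exists_finite_res (R := R) M
  haveI := hP 0
  obtain ⟨c, hc⟩ := Ideal.exists_pow_inf_eq_pow_smul I (LinearMap.range (P.d 0))
  have hcrit : H6Tor.Crit P I 0 c := by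
    intro k x hx
    have key : ∃ g ∈ I ^ (k - c) • (⊤ : Submodule R ↥(P.X 1)), P.d 0 g = P.d 0 x := by
      rcases le_or_gt c k with hk | hk
      · have h2 : P.d 0 x ∈ (I ^ k • ⊤ : Submodule R ↥(P.X 0)) ⊓ LinearMap.range (P.d 0) :=
          ⟨hx, LinearMap.mem_range_self _ _⟩
        rw [hc k hk] at h2
        have h3 := Submodule.smul_mono (le_refl (I ^ (k - c))) inf_le_right h2
        rw [← Submodule.map_top, ← Submodule.map_smul''] at h3
        exact h3
      · exact ⟨x, by rw [Nat.sub_eq_zero_of_le hk.le, pow_zero, Ideal.one_eq_top, Submodule.top_smul]; trivial, rfl⟩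
    obtain ⟨g, hg, hgd⟩ := key
    obtain ⟨y, hy⟩ := (P.exact 0 (x - g)).1 (by rw [map_sub, hgd, sub_self])
    exact ⟨y, by rw [hy, sub_sub_cancel]; exact hg⟩
  refine ⟨n + c, Nat.le_add_right n c, ?_⟩
  have e : n + c - c = n := Nat.add_sub_cancel n c
  have key := fun hle => H6Tor.tor_map_eq_zero_of_crit P I hcrit (n + c) hle
  rw [e] at key
  intro h
  exact key h

end Groth.Agent.S15548
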