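import Groth.Statements.S15551
import Groth.Agent.Big.AmpleConnNorm
import Groth.Agent.Pi1X.NormalCover

set_option autoImplicit false
universe u
open CategoryTheory CategoryTheory.Limits AlgebraicGeometry
open Pi1

attribute [-instance] CategoryTheory.catToReflQuiver

namespace Groth.Agent.S15551

open Groth.Agent Groth.Agent.H23.PicMul

theorem connected_pullback (k : Type u) [Field k] {X : Scheme.{u}} [X.Over (Spec (CommRingCat.of k))]
    [IsProper (X ↘ Spec (CommRingCat.of k))] [IsIntegral X] (hN : Pi1.IsNormalScheme X)
    (hdim : (2 : WithBot ℕ∞) ≤ topologicalKrullDim X) {L : X.Modules} (hL : CohB1.IsAmple L)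
    (s : Coh.structureModule X ⟶ L) (hs : Mono s) {W : Scheme.{u}} (g : W ⟶ X) [IsFinite g] [Etale g]
    [ConnectedSpace W] : ConnectedSpace ↥(pullback g (PicF2.zeroScheme L s).subschemeι) := by
  haveI := Groth.Agent.Pi1X.isIntegral_of_connected hN g
  have hsurj : Function.Surjective g := fun x =>
    (IsClopen.eq_univ (s := Set.range g) ⟨g.isClosedMap.isClosed_range, g.isOpenMap.isOpen_range⟩
      (Set.range_nonempty _)).ge (Set.mem_univ x)
  have h := Groth.Agent.Big.AmpleConn.isConnected_preimage k hdim hL s hs g hsurj
  have hr := Scheme.Pullback.range_fst (f := g) (g := (PicF2.zeroScheme L s).subschemeι)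
  rw [Scheme.IdealSheafData.range_subschemeι] at hr
  refine connectedSpace_iff_univ.2 ?_
  rw [← hr] at h
  obtain ⟨_, ⟨z, -⟩⟩ := h.1
  exact ⟨⟨z, trivial⟩, (pullback.fst g (PicF2.zeroScheme L s).subschemeι).isEmbedding.isInducing.isPreconnected_image.1
    (by rw [Set.image_univ]; exact h.2)⟩

/-- Let k be an algebraically closed field and X an integral normal scheme (all local rings integrally
closed domains), proper over k and of dimension at least 2, with an ample invertible module L; let s
be a nonzero global section of L, given as a monomorphism O_X → L, and D = Z(s) ⊆ X its zero scheme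
(the support of an effective ample divisor). Then for every finite étale cover Y → X with Y
connected, the fibre product Y ×_X D is connected. This is the statement that the étale fundamental
group of D maps onto that of X. (The published statement takes X projective over k; this row takes X
proper over k with an ample invertible module, which is equivalent.) -/
theorem result (k : Type u) [Field k] [IsAlgClosed k]
    (X : Scheme.{u}) (f : X ⟶ Spec (CommRingCat.of k)) [IsProper f] [IsIntegral X] (hN : Pi1.IsNormalScheme X)
    (hdim : (2 : WithBot ℕ∞) ≤ topologicalKrullDim X)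
    (L : X.Modules) (hL : CohB1.IsAmple L) (s : Coh.structureModule X ⟶ L) (hs : Mono s)
    (Y : FEt.Cat X) [ConnectedSpace Y.left] :
    ConnectedSpace ↥(pullback Y.hom (PicF2.zeroScheme L s).subschemeι) := by
  letI : X.Over (Spec (CommRingCat.of k)) := ⟨f⟩
  haveI : IsProper (X ↘ Spec (CommRingCat.of k)) := ‹IsProper f›
  exact @connected_pullback k _ X _ _ _ hN hdim L hL s hs Y.left Y.hom Y.prop.1 Y.prop.2 ‹_›

end Groth.Agent.S15551
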