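import Groth.Statements.S15556
import Groth.Agent.H9Insep.Basic
import Groth.Agent.S1855

set_option linter.style.haveILetI false
set_option backward.isDefEq.respectTransparency false
set_option backward.isDefEq.respectTransparency.types false


set_option autoImplicit false
universe u
open CategoryTheory AlgebraicGeometry
open CategoryTheory.Limits
open Cyc

attribute [-instance] CategoryTheory.catToReflQuiver

namespace Groth.Agent.S15556

/-- Let k be a field of characteristic p > 0, E a finite purely inseparable field extension of k, X a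
separated scheme of finite type over k, X' = X ×_k E with projection f : X' → X (any pullback
square), δ a dimension function on X making (X, δ) a cycle setup (X locally Noetherian with
universally catenary local rings) and δ' the induced dimension function on X' (so (X', δ') is a
cycle setup and δ' is compatible with δ along f, which has relative dimension 0). Then flat pullback
of cycles along f induces a bijection of Chow groups of i-cycles after inverting p, in the following
two-sided sense: for every i-cycle β on X' there are an i-cycle α on X, an i-cycle α' on X' with the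
flat-pullback coefficients of α, and an exponent s with [α'] = p^s · [β] in CH_i(X'); and for every
i-cycle α on X and every i-cycle α' on X' with the flat-pullback coefficients of α, if [α'] = 0 in
CH_i(X') then p^s · [α] = 0 in CH_i(X) for some s. (The published statement allows an arbitrary
purely inseparable extension E of k; this row takes E finite over k, the case the printed argument
carries out.) -/
theorem result (k E : Type u) [Field k] [Field E] [Algebra k E] (p : ℕ) [Fact p.Prime] [CharP k p] [Module.Finite k E] [IsPurelyInseparable k E] (X X' : Scheme.{u}) (g : X ⟶ Spec (CommRingCat.of k)) [IsSeparated g] [LocallyOfFiniteType g] [QuasiCompact g] (f : X' ⟶ X) (g' : X' ⟶ Spec (CommRingCat.of E)) (hsq : IsPullback f g' g (Spec.map (CommRingCat.ofHom (algebraMap k E)))) (δ : X → ℤ) (δ' : X' → ℤ) (hX : Cyc.IsSetup X δ) (hX' : Cyc.IsSetup X' δ') (hδ : Cyc.DeltaCompat f δ' δ) (i : ℤ) : (∀ (β : AlgebraicCycle X' ℤ) (hβ : β ∈ Cyc.Zk X' δ' i), ∃ (α : AlgebraicCycle X ℤ) (hα : α ∈ Cyc.Zk X δ i) (α' : AlgebraicCycle X'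 ℤ) (hα' : α' ∈ Cyc.Zk X' δ' i) (s : ℕ), ⇑α' = Cyc.pullFun f δ' δ 0 ⇑α ∧ ChowOps.cl α' hα' = p ^ s • ChowOps.cl β hβ) ∧ (∀ (α : AlgebraicCycle X ℤ) (hα : α ∈ Cyc.Zk X δ i) (α' : AlgebraicCycle X' ℤ) (hα' : α' ∈ Cyc.Zk X' δ' i), ⇑α' = Cyc.pullFun f δ' δ 0 ⇑α → ChowOps.cl α' hα' = 0 → ∃ s : ℕ, p ^ s • ChowOps.cl α hα = 0) := by
  let φ := Spec.map (CommRingCat.ofHom (algebraMap k E))
  haveI : ExpChar k p := ExpChar.prime Fact.out
  haveI : IsFinite φ := (IsFinite.SpecMap_iff _).2 (RingHom.finite_algebraMap.2 inferInstance)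
  haveI : Flat φ := Flat.SpecMap_iff.2 (RingHom.flat_algebraMap_iff.2 inferInstance)
  haveI : UniversallyInjective φ := by
    refine ((tfae_universallyInjective _).out 0 1).2 fun L hL g₁ g₂ hg => ?_
    letI := hL
    obtain ⟨a, rfl⟩ := Spec.map_surjective g₁
    obtain ⟨b, rfl⟩ := Spec.map_surjective g₂
    have hg' : CommRingCat.ofHom (algebraMap k E) ≫ a = CommRingCat.ofHom (algebraMap k E) ≫ b :=
      Spec.map_injective (by rw [Spec.map_comp, Spec.map_comp]; exact hg)
    congr 1
    ext1
    exact IsPurelyInseparable.injective_comp_algebraMap k E L congr($(hg').hom)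
  haveI : Surjective φ := ⟨fun x => ⟨IsLocalRing.closedPoint E,
    @Subsingleton.elim _ (inferInstanceAs (Subsingleton (PrimeSpectrum k))) _ _⟩⟩
  haveI : IsFinite f := MorphismProperty.of_isPullback hsq.flip ‹IsFinite φ›
  haveI : Flat f := MorphismProperty.of_isPullback hsq.flip ‹Flat φ›
  haveI : UniversallyInjective f := MorphismProperty.of_isPullback hsq.flip ‹UniversallyInjective φ›
  haveI : Surjective f := MorphismProperty.of_isPullback hsq.flip ‹Surjective φ›
  obtain ⟨a, ha⟩ := IsPurelyInseparable.finrank_eq_pow k E p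
  have hN : ∀ x, f.finrank x = p ^ a := fun x => by
    rw [Scheme.Hom.finrank_of_isPullback g' f φ g hsq.flip x,
      Scheme.Hom.finrank_SpecMap_algebraMap, Module.rankAtStalk_eq_finrank_of_free, ← ha]
    rfl
  have hlin : ∀ (c : AlgebraicCycle X' ℤ) (x' : X'),
      AlgebraicCycle.map f δ' δ c (f x') = c x' * (f.residueDegree x' : ℤ) :=
    Groth.Agent.H9Insep.map_apply_eq f hδ
  refine ⟨fun β hβ => ?_, fun α hα α' hα' he h0 => ⟨a, ?_⟩⟩
  · have hmem : ((p ^ a : ℕ) • β) ∈ Cyc.Zk X' δ' i := (ChowOps.zk X' δ' i).nsmul_mem hβ _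
    refine ⟨AlgebraicCycle.map f δ' δ β, Groth.Agent.H9Insep.map_mem f hδ β hβ, (p ^ a : ℕ) • β, hmem, a, ?_, ?_⟩
    · funext x'
      rw [Groth.Agent.H9Insep.pull_map f hδ hN]
      exact nsmul_eq_mul _ _
    · exact (ChowOps.clHom X' δ' i).map_nsmul _ ⟨β, hβ⟩
  · have hmem : ∀ c, c ∈ Cyc.Zk X' δ' i → AlgebraicCycle.map f δ' δ c ∈ Cyc.Zk X δ i := Groth.Agent.H9Insep.map_mem f hδ
    have hker : (⟨α', hα'⟩ : ↥(ChowOps.zk X' δ' i)) ∈ ChowOps.ratTriv X' δ' i := (QuotientAddGroup.eq_zero_iff _).1 h0
    have key : ∀ c : ↥(ChowOps.zk X' δ' i), c ∈ ChowOps.ratTriv X' δ' i →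
        (⟨AlgebraicCycle.map f δ' δ c.1, hmem _ c.2⟩ : ↥(ChowOps.zk X δ i)) ∈ ChowOps.ratTriv X δ i := by
      intro c hc
      induction hc using AddSubgroup.closure_induction with
      | mem c hc =>
        refine AddSubgroup.subset_closure ?_
        have h := Groth.Agent.S1855.result X' X δ' δ hX' hX f hδ i c.1 0 c.2 (fun _ _ => rfl) (by
          unfold Cyc.RatEquiv; rw [sub_zero]; exact hc)
        have e : AlgebraicCycle.map f δ' δ (0 : AlgebraicCycle X' ℤ) = 0 := by
          ext x
          obtain ⟨x', rfl⟩ := f.surjective x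
          rw [hlin]
          exact zero_mul _
        unfold Cyc.RatEquiv at h
        rwa [e, sub_zero] at h
      | zero =>
        convert (ChowOps.ratTriv X δ i).zero_mem
        ext x
        obtain ⟨x', rfl⟩ := f.surjective x
        show AlgebraicCycle.map f δ' δ (0 : AlgebraicCycle X' ℤ) (f x') = 0
        rw [hlin]
        exact zero_mul _
      | add c d _ _ hc hd =>
        convert (ChowOps.ratTriv X δ i).add_mem hc hd
        ext x
        obtain ⟨x', rfl⟩ := f.surjective x
        show AlgebraicCycle.map f δ' δ (c.1 + d.1) (f x') = AlgebraicCycle.map f δ' δ c.1 (f x') + AlgebraicCycle.map f δ' δ d.1 (f x')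
        rw [hlin, hlin, hlin]
        exact add_mul _ _ _
      | neg c _ hc =>
        convert (ChowOps.ratTriv X δ i).neg_mem hc
        ext x
        obtain ⟨x', rfl⟩ := f.surjective x
        show AlgebraicCycle.map f δ' δ (-c.1) (f x') = -AlgebraicCycle.map f δ' δ c.1 (f x')
        rw [hlin, hlin]
        exact neg_mul _ _
    have e : (⟨AlgebraicCycle.map f δ' δ α', hmem _ hα'⟩ : ↥(ChowOps.zk X δ i)) = (p ^ a : ℕ) • ⟨α, hα⟩ := by
      refine Subtype.ext ?_
      ext x
      exact (Groth.Agent.H9Insep.map_pull f hδ hN α α' he x).trans (nsmul_eq_mul (p ^ a) (α x)).symm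
    have := key _ hker
    rw [e] at this
    exact ((ChowOps.clHom X δ i).map_nsmul _ ⟨α, hα⟩).symm.trans ((QuotientAddGroup.eq_zero_iff _).2 this)
end Groth.Agent.S15556
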