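import Groth.Statements.S15558
-- import your own Groth.Agent.* helpers here
import Mathlib
import Groth.Agent.H4Cof.Main

set_option autoImplicit false
universe u v
open CategoryTheory AlgebraicGeometry
open Lim

namespace Groth.Agent.S15558

set_option backward.isDefEq.respectTransparency false in
set_option backward.isDefEq.respectTransparency.types false in
/-- Let Λ be a cofinite partially ordered set (every element has finitely many elements below it; Λ need
not be directed) and X : Λᵒᵖ ⥤ Scheme an inverse system of quasi-compact quasi-separated schemes.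
Then there exist an inverse system Y : Λᵒᵖ ⥤ Scheme of affine schemes and a morphism of inverse
systems π : Y ⟶ X such that each π_λ : Y_λ → X_λ is a Zariski covering: it is surjective and Y_λ is
covered by pairwise disjoint open subschemes each of which maps to X_λ by an open immersion. (The
published statement is for schemes over a fixed perfect field; the base field plays no role, and the
version for schemes over a base follows by composing with the structure morphisms.) -/
theorem result {Λ : Type v} [PartialOrder Λ]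
    (hΛ : ∀ l : Λ, (Set.Iic l).Finite) (X : Λᵒᵖ ⥤ Scheme.{u})
    (hqc : ∀ l : Λ, CompactSpace ↥(X.obj (Opposite.op l)))
    (hqs : ∀ l : Λ, QuasiSeparatedSpace ↥(X.obj (Opposite.op l))) :
    ∃ (Y : Λᵒᵖ ⥤ Scheme.{u}) (π : Y ⟶ X), ∀ l : Λ,
      IsAffine (Y.obj (Opposite.op l)) ∧ Surjective (π.app (Opposite.op l)) ∧
        ∃ (ι : Type u) (U : ι → (Y.obj (Opposite.op l)).Opens),
          Pairwise (fun i j => Disjoint (U i) (U j)) ∧ iSup U = ⊤ ∧
            ∀ i, IsOpenImmersion ((U i).ι ≫ π.app (Opposite.op l)) := by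
  classical
  haveI := hqc
  haveI := hqs
  choose V₁ hV₁ hxV₁ _ using fun (l : Λ) (x : X.obj (Opposite.op l)) =>
    exists_isAffineOpen_mem_and_subset (x := x) (U := ⊤) trivial
  have hS₁' : ∀ l : Λ, ∃ S : Finset ↥(X.obj (Opposite.op l)),
      Set.univ ⊆ ⋃ x ∈ S, ((V₁ l x : (X.obj (Opposite.op l)).Opens) : Set ↥(X.obj (Opposite.op l))) := fun l =>
    (isCompact_univ (X := ↥(X.obj (Opposite.op l)))).elim_finite_subcover
      (fun x => (V₁ l x : Set ↥(X.obj (Opposite.op l)))) (fun x => (V₁ l x).isOpen)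
      (fun x _ => Set.mem_iUnion.2 ⟨x, hxV₁ l x⟩)
  choose S₁ hS₁ using hS₁'
  let D : H4Cof.Data X :=
    { ι := fun l => ↥(S₁ l)
      fin := fun l => inferInstance
      U := fun l i => V₁ l i.1
      cover := fun l x => by
        obtain ⟨z, hz, hxz⟩ := Set.mem_iUnion₂.1 (hS₁ l (Set.mem_univ x))
        exact ⟨⟨z, hz⟩, hxz⟩ }
  have hD : ∀ l i, IsAffineOpen (D.U l i) := fun l i => hV₁ l i.1
  haveI : ∀ l, Finite (H4Cof.T D l) := fun l => H4Cof.finite_T hΛ D l
  obtain ⟨Y₁, π₁, e₁, hπ₁⟩ := H4Cof.exists_system hΛ D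
  haveI hYs : ∀ l, (Y₁.obj (Opposite.op l)).IsSeparated := fun l => (e₁ l).symm ▸ H4Cof.isSeparated_obj hΛ D hD l
  haveI hYc : ∀ l, CompactSpace ↥(Y₁.obj (Opposite.op l)) := fun l => (e₁ l).symm ▸ H4Cof.compactSpace_obj D hΛ hD l
  have hloc : ∀ (l : Λ) (y : Y₁.obj (Opposite.op l)), ∃ V : (Y₁.obj (Opposite.op l)).Opens,
      IsAffineOpen V ∧ y ∈ V ∧ IsOpenImmersion (V.ι ≫ π₁.app (Opposite.op l)) := by
    intro l y
    rw [hπ₁ l]
    generalize e₁ l = e
    revert e y
    generalize Y₁.obj (Opposite.op l) = Z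
    intro y e
    subst e
    obtain ⟨t, ht⟩ := H4Cof.exists_inj D y
    obtain ⟨V, hV, hyV, hle⟩ := exists_isAffineOpen_mem_and_subset (x := y) (U := (H4Cof.inj D l t).opensRange) ht
    refine ⟨V, hV, hyV, ?_⟩
    have hr : Set.range V.ι ⊆ Set.range (H4Cof.inj D l t) := by rw [Scheme.Opens.range_ι]; exact hle
    rw [eqToHom_refl, Category.id_comp, ← IsOpenImmersion.lift_fac (H4Cof.inj D l t) V.ι hr, Category.assoc, H4Cof.inj_proj]
    haveI : IsOpenImmersion (IsOpenImmersion.lift (H4Cof.inj D l t) V.ι hr ≫ H4Cof.inj D l t) := by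
      rw [IsOpenImmersion.lift_fac]; infer_instance
    haveI : IsOpenImmersion (IsOpenImmersion.lift (H4Cof.inj D l t) V.ι hr) := IsOpenImmersion.of_comp _ (H4Cof.inj D l t)
    infer_instance
  choose V₂ hV₂ hyV₂ hiV₂ using hloc
  have hS₂' : ∀ l : Λ, ∃ S : Finset ↥(Y₁.obj (Opposite.op l)),
      Set.univ ⊆ ⋃ x ∈ S, ((V₂ l x : (Y₁.obj (Opposite.op l)).Opens) : Set ↥(Y₁.obj (Opposite.op l))) := fun l =>
    (isCompact_univ (X := ↥(Y₁.obj (Opposite.op l)))).elim_finite_subcover
      (fun x => (V₂ l x : Set ↥(Y₁.obj (Opposite.op l)))) (fun x => (V₂ l x).isOpen)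
      (fun x _ => Set.mem_iUnion.2 ⟨x, hyV₂ l x⟩)
  choose S₂ hS₂ using hS₂'
  let E : H4Cof.Data Y₁ :=
    { ι := fun l => ↥(S₂ l)
      fin := fun l => inferInstance
      U := fun l i => V₂ l i.1
      cover := fun l x => by
        obtain ⟨z, hz, hxz⟩ := Set.mem_iUnion₂.1 (hS₂ l (Set.mem_univ x))
        exact ⟨⟨z, hz⟩, hxz⟩ }
  haveI : ∀ l, Finite (H4Cof.T E l) := fun l => H4Cof.finite_T hΛ E l
  obtain ⟨Y, π₂, e₂, hπ₂⟩ := H4Cof.exists_system hΛ E
  refine ⟨Y, π₂ ≫ π₁, fun l => ?_⟩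
  haveI : ∀ t, IsAffine (H4Cof.W E l t).toScheme := fun t => H4Cof.isAffineOpen_W E hΛ (fun l i => hV₂ l i.1) l t
  rw [NatTrans.comp_app, hπ₂ l]
  generalize e₂ l = e
  revert e
  generalize Y.obj (Opposite.op l) = Z
  intro e
  subst e
  rw [eqToHom_refl, Category.id_comp]
  haveI := H4Cof.surjective_proj hΛ E l
  haveI : Surjective (π₁.app (Opposite.op l)) := by
    rw [hπ₁ l]
    haveI := H4Cof.surjective_proj hΛ D l
    infer_instance
  refine ⟨by dsimp [H4Cof.obj]; infer_instance, inferInstance, Shrink.{u} (H4Cof.T E l),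
    fun s => (H4Cof.inj E l ((equivShrink.{u} (H4Cof.T E l)).symm s)).opensRange, ?_, ?_, fun s => ?_⟩
  · intro a b hab
    exact disjoint_opensRange_sigmaι _ _ _ fun h => hab ((equivShrink.{u} (H4Cof.T E l)).symm.injective h)
  · refine TopologicalSpace.Opens.ext (Set.eq_univ_of_forall fun y => ?_)
    obtain ⟨t, ht⟩ := H4Cof.exists_inj E y
    rw [TopologicalSpace.Opens.coe_iSup]
    refine Set.mem_iUnion.2 ⟨equivShrink.{u} (H4Cof.T E l) t, ?_⟩
    rw [Equiv.symm_apply_apply]
    exact ht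
  · let t := (equivShrink.{u} (H4Cof.T E l)).symm s
    show IsOpenImmersion ((H4Cof.inj E l t).opensRange.ι ≫ H4Cof.proj E l ≫ π₁.app (Opposite.op l))
    rw [← Scheme.Hom.isoOpensRange_inv_comp (H4Cof.inj E l t), Category.assoc, ← Category.assoc (H4Cof.inj E l t),
      H4Cof.inj_proj]
    have hle := H4Cof.W_le_self E l t
    haveI : IsOpenImmersion ((H4Cof.W E l t).ι ≫ π₁.app (Opposite.op l)) := by
      rw [← Scheme.homOfLE_ι _ hle, Category.assoc]
      haveI := hiV₂ l (t ⟨l, le_refl l⟩).1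
      show IsOpenImmersion ((Y₁.obj (Opposite.op l)).homOfLE hle ≫ (V₂ l (t ⟨l, le_refl l⟩).1).ι ≫ π₁.app (Opposite.op l))
      infer_instance
    infer_instance

end Groth.Agent.S15558
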