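import Groth.Statements.S15559
import Groth.Agent.PerfPic.Tower
import Groth.Agent.S0591
import Groth.Agent.S2075
set_option backward.isDefEq.respectTransparency false
set_option backward.isDefEq.respectTransparency.types false
set_option linter.style.haveILetI false
open CategoryTheory CategoryTheory.Limits AlgebraicGeometry Opposite
open Groth.Agent.H9Misc.PerfSchLib Groth.Agent.PerfPic

set_option autoImplicit false
universe u
open CategoryTheory AlgebraicGeometry
open FrobSch

namespace Groth.Agent.S15559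

/-- Call a morphism V → U of quasi-compact quasi-separated perfect schemes of characteristic p flat of
finite presentation in the perfect sense when it factors as V → V₀ → U with V → V₀ a perfection map
(V perfect and universal for morphisms from perfect schemes of characteristic p into V₀) and V₀ → U
flat, locally of finite presentation, quasi-compact and quasi-separated; faithfully flat of finite
presentation when moreover V₀ → U is surjective. If Z → Y and Y → X are flat of finite presentation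
in the perfect sense, so is the composite Z → X, and it is faithfully flat of finite presentation
when both are. Here the data are given as Y₀ → X with perfection map Y → Y₀ and Z₀ → Y with
perfection map Z → Z₀, and the conclusion produces W₀ → X with a perfection map Z → W₀ over X. (The
published proposition is stated for pro-objects of perfections of schemes of finite type over a
perfect field and also for morphisms flat of profinite presentation; this row is its case of
schemes, which its proof treats first, with the base field replaced by characteristic p.) -/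
theorem result (p : ℕ) [Fact p.Prime]
    {X Y Z Y₀ Z₀ : Scheme.{u}} [FrobSch.IsCharP X p] [FrobSch.IsCharP Y p] [FrobSch.IsCharP Z p]
    [FrobSch.IsCharP Y₀ p] [FrobSch.IsCharP Z₀ p]
    [CompactSpace ↥X] [QuasiSeparatedSpace ↥X] [CompactSpace ↥Y] [QuasiSeparatedSpace ↥Y]
    [CompactSpace ↥Z] [QuasiSeparatedSpace ↥Z] (hX : FrobSch.IsPerfect X p)
    (g₀ : Y₀ ⟶ X) [Flat g₀] [LocallyOfFinitePresentation g₀] [QuasiCompact g₀] [QuasiSeparated g₀]
    (πY : Y ⟶ Y₀) (hY : FrobSch.IsPerfection πY p)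
    (f₀ : Z₀ ⟶ Y) [Flat f₀] [LocallyOfFinitePresentation f₀] [QuasiCompact f₀] [QuasiSeparated f₀]
    (πZ : Z ⟶ Z₀) (hZ : FrobSch.IsPerfection πZ p) :
    ∃ (W₀ : Scheme.{u}) (h₀ : W₀ ⟶ X) (ϖ : Z ⟶ W₀),
      Flat h₀ ∧ LocallyOfFinitePresentation h₀ ∧ QuasiCompact h₀ ∧ QuasiSeparated h₀ ∧
        FrobSch.IsPerfection ϖ p ∧ ϖ ≫ h₀ = πZ ≫ f₀ ≫ πY ≫ g₀ ∧
          (Surjective g₀ → Surjective f₀ → Surjective h₀) := by
  haveI : CompactSpace Y₀ := QuasiCompact.compactSpace_of_compactSpace g₀
  haveI : QuasiSeparatedSpace Y₀ := quasiSeparatedSpace_of_quasiSeparated g₀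
  haveI : IsIso (FrobSch.frob X p) := hX
  have hmap : ∀ {a b : ℕ} (hab : a ≤ b), ∃ F : X ⟶ X, IsIso F ∧
      (towerℕ p Y₀).map (homOfLE hab).op ≫ g₀ = g₀ ≫ F := by
    intro a b hab
    induction hab with
    | refl =>
      exact ⟨𝟙 X, inferInstance, by
        rw [show (homOfLE (le_refl a)).op = 𝟙 (op a) from rfl, CategoryTheory.Functor.map_id, Category.comp_id]
        exact Category.id_comp g₀⟩
    | @step m hm ih =>
      obtain ⟨F, hF, e⟩ := ih
      haveI := hF
      refine ⟨FrobSch.frob X p ≫ F, inferInstance, ?_⟩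
      rw [show (homOfLE (Nat.le.step hm)).op = (homOfLE (Nat.le_add_right m 1)).op ≫ (homOfLE hm).op from rfl,
        Functor.map_comp, towerℕ_succ]
      refine (Category.assoc _ _ _).trans ((congrArg (FrobSch.frob Y₀ p ≫ ·) e).trans ?_)
      refine (Category.assoc _ _ _).symm.trans ?_
      rw [FrobSch.frob_comp, Category.assoc]
  have hbij : ∀ {a b : ℕ} (hab : a ≤ b) (T : Scheme.{u}) [FrobSch.IsCharP T p], FrobSch.IsPerfect T p →
      Function.Bijective fun q : T ⟶ Y₀ => q ≫ (towerℕ p Y₀).map (homOfLE hab).op := by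
    intro a b hab T _ hT
    haveI : IsIso (FrobSch.frob T p) := hT
    induction hab with
    | refl =>
      rw [show (homOfLE (le_refl a)).op = 𝟙 (op a) from rfl, CategoryTheory.Functor.map_id]
      exact ⟨fun q q' e => (Category.comp_id q).symm.trans (e.trans (Category.comp_id q')),
        fun q => ⟨q, Category.comp_id q⟩⟩
    | @step m hm ih =>
      rw [show (homOfLE (Nat.le.step hm)).op = (homOfLE (Nat.le_add_right m 1)).op ≫ (homOfLE hm).op from rfl,
        Functor.map_comp, towerℕ_succ]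
      have h1 : Function.Bijective fun q : T ⟶ Y₀ => q ≫ FrobSch.frob Y₀ p := by
        have h2 : (fun q : T ⟶ Y₀ => q ≫ FrobSch.frob Y₀ p) = fun q => FrobSch.frob T p ≫ q :=
          funext fun q => (FrobSch.frob_comp (p := p) q).symm
        rw [h2]
        exact ⟨fun q q' e => (cancel_epi (FrobSch.frob T p)).1 e,
          fun q => ⟨inv (FrobSch.frob T p) ≫ q, IsIso.hom_inv_id_assoc _ _⟩⟩
      have h3 := ih.comp h1
      have h4 : (fun q : T ⟶ Y₀ => q ≫ FrobSch.frob Y₀ p ≫ (towerℕ p Y₀).map (homOfLE hm).op) =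
          (fun q : T ⟶ Y₀ => q ≫ (towerℕ p Y₀).map (homOfLE hm).op) ∘ fun q : T ⟶ Y₀ => q ≫ FrobSch.frob Y₀ p :=
        funext fun q => (Category.assoc q _ _).symm
      rw [h4]
      exact h3
  obtain ⟨τ, hc, h0⟩ := exists_limit_cone p πY hY
  obtain ⟨i, Z₁, f₁, g₁, hlfp, hqc, hqs, hsq⟩ :=
    Groth.Agent.S0591.result (tower p Y₀) (Cone.mk Y τ) hc Z₀ f₀
  haveI := hlfp; haveI := hqc; haveI := hqs
  haveI : CompactSpace Z₁ := QuasiCompact.compactSpace_of_compactSpace f₁
  haveI : QuasiSeparatedSpace Z₁ := quasiSeparatedSpace_of_quasiSeparated f₁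
  obtain ⟨j, φ, Xi, Yi, fi, gi, pY, pX, hYi, hXi, hflat⟩ :=
    Groth.Agent.S2075.result (tower p Y₀) (Cone.mk Y τ) hc i f₁ (𝟙 _) f₀ (𝟙 _) (τ.app i) g₁
      (IsPullback.of_vert_isIso ⟨by simp⟩) hsq
  haveI := hflat
  haveI : IsIso gi := hYi.isIso_snd_of_isIso
  let fj : Xi ⟶ (tower p Y₀).obj j := fi ≫ gi
  have hfj : IsPullback pX fj f₁ ((tower p Y₀).map φ) := by
    have := hXi.paste_vert hYi
    rwa [Category.comp_id] at this
  haveI : LocallyOfFinitePresentation fj := MorphismProperty.of_isPullback hfj inferInstance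
  haveI : QuasiCompact fj := MorphismProperty.of_isPullback hfj inferInstance
  haveI : QuasiSeparated fj := MorphismProperty.of_isPullback hfj inferInstance
  haveI : Flat fj := inferInstanceAs (Flat (fi ≫ gi))
  let l : Z₀ ⟶ Xi := hfj.lift g₁ (f₀ ≫ τ.app j) (by
    rw [Category.assoc, (Cone.mk Y τ).w φ]
    exact hsq.w)
  have hl : IsPullback l f₀ fj (τ.app j) := by
    refine IsPullback.of_right ?_ (hfj.lift_snd _ _ _) hfj
    rw [hfj.lift_fst]
    have e := (Cone.mk Y τ).w φ
    exact e.symm ▸ hsq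
  haveI : FrobSch.IsCharP (((Functor.const (ULift.{u} ℕ)ᵒᵖ).obj Y).obj j) p := (inferInstance : FrobSch.IsCharP Y p)
  let ψ : j ⟶ op (ULift.up 0) := (homOfLE (show (ULift.up 0 : ULift.{u} ℕ) ≤ j.unop from Nat.zero_le _)).op
  have hτ : τ.app j ≫ (towerℕ p Y₀).map (homOfLE (Nat.zero_le j.unop.down)).op = πY :=
    ((Cone.mk Y τ).w ψ).trans h0
  have hτj : FrobSch.IsPerfection (τ.app j) p := by
    refine ⟨hY.1, fun T _ hT => ?_⟩
    have h1 := hY.2 T hT
    have h2 := hbij (Nat.zero_le j.unop.down) T hT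
    refine ⟨fun a b e => h1.1 ?_, fun q => ?_⟩
    · show a ≫ πY = b ≫ πY
      rw [← hτ]
      exact (Category.assoc _ _ _).symm.trans ((congrArg (· ≫ _) e).trans (Category.assoc _ _ _))
    · obtain ⟨a, ha⟩ := h1.2 (q ≫ (towerℕ p Y₀).map (homOfLE (Nat.zero_le j.unop.down)).op)
      refine ⟨a, h2.1 ?_⟩
      show (a ≫ τ.app j) ≫ _ = q ≫ _
      refine (Category.assoc _ _ _).trans ?_
      rw [hτ]
      exact ha
  obtain ⟨F, hF, eF⟩ := hmap (Nat.zero_le j.unop.down)
  haveI := hF
  refine ⟨Xi, fj ≫ g₀ ≫ F, πZ ≫ l, inferInstance, inferInstance, inferInstance, inferInstance,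
    ⟨hZ.1, fun T _ hT => ⟨fun a b e => (hZ.2 T hT).1 ?_, fun q => ?_⟩⟩, ?_, fun hg hf => ?_⟩
  · show a ≫ πZ = b ≫ πZ
    replace e : a ≫ πZ ≫ l = b ≫ πZ ≫ l := e
    refine hl.hom_ext (by simpa only [Category.assoc] using e) ((hτj.2 T hT).1 ?_)
    show ((a ≫ πZ) ≫ f₀) ≫ τ.app j = ((b ≫ πZ) ≫ f₀) ≫ τ.app j
    simp only [Category.assoc, ← hl.w]
    rw [reassoc_of% e]
  · obtain ⟨y, hy⟩ := (hτj.2 T hT).2 (q ≫ fj)
    obtain ⟨a, ha⟩ := (hZ.2 T hT).2 (hl.lift q y hy.symm)
    replace ha : a ≫ πZ = hl.lift q y hy.symm := ha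
    refine ⟨a, ?_⟩
    show a ≫ πZ ≫ l = q
    rw [← Category.assoc, ha, hl.lift_fst]
  · rw [Category.assoc, reassoc_of% hl.w]
    rw [← hτ, Category.assoc]
    exact congrArg (fun t => πZ ≫ f₀ ≫ τ.app j ≫ t) eF.symm
  · haveI := hg; haveI := hf
    haveI : FrobSch.IsCharP ((tower p Y₀).obj j) p := (inferInstance : FrobSch.IsCharP Y₀ p)
    haveI := Groth.Agent.H9Misc.PerfSchLib.surjective p (τ.app j) hτj
    haveI : Surjective (l ≫ fj) := by rw [hl.w]; infer_instance
    haveI : Surjective fj := Surjective.of_comp l fj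
    infer_instance

end Groth.Agent.S15559
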