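import Groth.Statements.S15568
import Mathlib
-- import your own Groth.Agent.* helpers here

set_option autoImplicit false
universe u
open QuiverStab

namespace Groth.Agent.S15568

/-- Walls and chambers for stability weights of a quiver. Let I be the finite vertex set, d ∈ ℕ^I a
dimension vector, and call two weights θ₁, θ₂ ∈ ℝ^I orthogonal to d numerically equivalent when, for
every d′ ≤ d in ℕ^I, the numbers θ₁·d′ and θ₂·d′ are both positive, both negative or both zero. The
walls are the hyperplanes W(d′) = {θ ⊥ d : θ·d′ = 0} of d^⊥ for d′ ≤ d such that d is not a multiple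
of d′. Then θ₁ and θ₂ are numerically equivalent if and only if there is a set J₁ of such d′ for
which θ₁ and θ₂ lie in the same connected component of the locally closed subset of d^⊥ consisting
of the weights lying on W(d₁) for every d₁ ∈ J₁ and off W(d₂) for every other wall W(d₂). (Only the
quiver's vertex set enters; multiples are taken with natural-number factors.) -/
theorem result
    (I : Type u) [Fintype I] (d : I → ℕ) (θ₁ θ₂ : I → ℝ)
    (h₁ : ∑ i, θ₁ i * (d i : ℝ) = 0) (h₂ : ∑ i, θ₂ i * (d i : ℝ) = 0) :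
    (∀ d' : I → ℕ, d' ≤ d →
        SignType.sign (∑ i, θ₁ i * (d' i : ℝ)) = SignType.sign (∑ i, θ₂ i * (d' i : ℝ))) ↔
    ∃ J₁ : Set (I → ℕ), J₁ ⊆ {d' | d' ≤ d ∧ ¬ ∃ m : ℕ, d = m • d'} ∧
      θ₂ ∈ connectedComponentIn
        {θ : I → ℝ | ∑ i, θ i * (d i : ℝ) = 0 ∧ (∀ d₁ ∈ J₁, ∑ i, θ i * (d₁ i : ℝ) = 0) ∧
          ∀ d₂ : I → ℕ, d₂ ≤ d → (¬ ∃ m : ℕ, d = m • d₂) → d₂ ∉ J₁ →
            ∑ i, θ i * (d₂ i : ℝ) ≠ 0} θ₁ := by
  let g : (I → ℕ) → (I → ℝ) →ₗ[ℝ] ℝ := fun d' =>
    { toFun := fun θ => ∑ i, θ i * (d' i : ℝ)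
      map_add' := fun x y => by simp [add_mul, Finset.sum_add_distrib]
      map_smul' := fun c x => by simp [Finset.mul_sum, mul_assoc] }
  change (∀ d' : I → ℕ, d' ≤ d → SignType.sign (g d' θ₁) = SignType.sign (g d' θ₂)) ↔ _
  constructor
  · intro h
    refine ⟨{d' | (d' ≤ d ∧ ¬ ∃ m : ℕ, d = m • d') ∧ g d' θ₁ = 0}, fun d' hd => hd.1, ?_⟩
    have hmem : ∀ θ ∈ segment ℝ θ₁ θ₂, ∀ d' ≤ d, g d' θ₁ = 0 ↔ g d' θ = 0 := by
      rintro _ ⟨a, b, ha, hb, hab, rfl⟩ d' hd'
      rw [map_add, map_smul, map_smul, smul_eq_mul, smul_eq_mul]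
      have hs := h d' hd'
      rcases lt_trichotomy (g d' θ₁) 0 with h' | h' | h'
      · rw [sign_neg h', eq_comm, sign_eq_neg_one_iff] at hs
        refine iff_of_false h'.ne (ne_of_lt ?_)
        rcases ha.eq_or_lt with rfl | ha'
        · obtain rfl : b = 1 := by linarith
          simpa using hs
        · nlinarith
      · rw [h', sign_zero, eq_comm, sign_eq_zero_iff] at hs
        simp [h', hs]
      · rw [sign_pos h', eq_comm, sign_eq_one_iff] at hs
        refine iff_of_false h'.ne' (ne_of_gt ?_)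
        rcases ha.eq_or_lt with rfl | ha'
        · obtain rfl : b = 1 := by linarith
          simpa using hs
        · nlinarith
    refine Set.mem_of_subset_of_mem ((convex_segment θ₁ θ₂).isPreconnected.subset_connectedComponentIn
      (left_mem_segment ℝ θ₁ θ₂) ?_) (right_mem_segment ℝ θ₁ θ₂)
    refine fun θ hθ => ⟨?_, ?_, ?_⟩
    · exact (hmem θ hθ d le_rfl).mp h₁
    · exact fun d₁ hd₁ => (hmem θ hθ d₁ hd₁.1.1).mp hd₁.2
    · exact fun d₂ hle hnm hnot h0 => hnot ⟨⟨hle, hnm⟩, (hmem θ hθ d₂ hle).mpr h0⟩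
  · rintro ⟨J, hJ, hc⟩ d' hd'
    set S := {θ : I → ℝ | ∑ i, θ i * (d i : ℝ) = 0 ∧ (∀ d₁ ∈ J, ∑ i, θ i * (d₁ i : ℝ) = 0) ∧
          ∀ d₂ : I → ℕ, d₂ ≤ d → (¬ ∃ m : ℕ, d = m • d₂) → d₂ ∉ J →
            ∑ i, θ i * (d₂ i : ℝ) ≠ 0} with hS
    have hne : θ₁ ∈ S := connectedComponentIn_nonempty_iff.mp ⟨θ₂, hc⟩
    have hsub := connectedComponentIn_subset S θ₁
    by_cases hm : ∃ m : ℕ, d = m • d'
    · obtain ⟨m, rfl⟩ := hm
      have key : ∀ θ : I → ℝ, g (m • d') θ = 0 → g d' θ = 0 := by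
        intro θ h0
        rcases Nat.eq_zero_or_pos m with rfl | hm0
        · obtain rfl : d' = 0 := le_antisymm (by simpa using hd') (fun i => Nat.zero_le _)
          simp [g]
        · have : g (m • d') θ = (m : ℝ) * g d' θ := by simp [g, Finset.mul_sum, mul_left_comm]
          rw [this] at h0
          exact (mul_eq_zero.mp h0).resolve_left (by positivity)
      rw [key θ₁ h₁, key θ₂ h₂]
    · by_cases hJ' : d' ∈ J
      · rw [show g d' θ₁ = 0 from hne.2.1 d' hJ', show g d' θ₂ = 0 from (hsub hc).2.1 d' hJ']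
      · have hnz : ∀ θ ∈ connectedComponentIn S θ₁, g d' θ ≠ 0 := fun θ hθ =>
          (hsub hθ).2.2 d' hd' hm hJ'
        have hcont : Continuous (g d') := LinearMap.continuous_of_finiteDimensional _
        have h1m : θ₁ ∈ connectedComponentIn S θ₁ := mem_connectedComponentIn hne
        rcases lt_or_gt_of_ne (hnz θ₁ h1m) with h' | h' <;>
          rcases lt_or_gt_of_ne (hnz θ₂ hc) with h'' | h''
        · rw [sign_neg h', sign_neg h'']
        · obtain ⟨θ, hθ, h0⟩ := isPreconnected_connectedComponentIn.intermediate_value h1m hc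
            hcont.continuousOn (show (0 : ℝ) ∈ Set.Icc (g d' θ₁) (g d' θ₂) from ⟨h'.le, h''.le⟩)
          exact absurd h0 (hnz θ hθ)
        · obtain ⟨θ, hθ, h0⟩ := isPreconnected_connectedComponentIn.intermediate_value hc h1m
            hcont.continuousOn (show (0 : ℝ) ∈ Set.Icc (g d' θ₂) (g d' θ₁) from ⟨h''.le, h'.le⟩)
          exact absurd h0 (hnz θ hθ)
        · rw [sign_pos h', sign_pos h'']


end Groth.Agent.S15568
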