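import Groth.Statements.S15595
-- import your own Groth.Agent.* helpers here
import Mathlib
import Groth.Agent.Hensel.HenselizationLoc

set_option autoImplicit false
universe u
open TensorProduct
attribute [local instance] RingHom.ker_isPrime
open CAlg

namespace Groth.Agent.S15595

/-- Let k ⊆ K be a field extension and A a Noetherian local k-algebra with residue field k, recorded by
a k-algebra map π : A → k whose kernel is the maximal ideal. Let π_K : K ⊗_k A → K be the induced
K-algebra map, m' its kernel, and A' the localization of K ⊗_k A at m'. Assume A' is Noetherian.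
Then A is a regular local ring if and only if A' is a regular local ring. -/
theorem result (k K A : Type u) [Field k] [Field K]
    [Algebra k K] [CommRing A] [Algebra k A] [IsLocalRing A] [IsNoetherianRing A]
    (π : A →ₐ[k] k) (hπ : RingHom.ker π = IsLocalRing.maximalIdeal A)
    [IsNoetherianRing (Localization.AtPrime (RingHom.ker
      ((Algebra.TensorProduct.rid k K K).toAlgHom.comp (Algebra.TensorProduct.map (AlgHom.id K K) π))))] :
    IsRegularLocalRing A ↔ IsRegularLocalRing (Localization.AtPrime (RingHom.ker
      ((Algebra.TensorProduct.rid k K K).toAlgHom.comp (Algebra.TensorProduct.map (AlgHom.id K K) π)))) := by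
  set P := (Algebra.TensorProduct.rid k K K).toAlgHom.comp
    (Algebra.TensorProduct.map (AlgHom.id K K) π) with hP
  set M := RingHom.ker P with hMdef
  have hker : M = (IsLocalRing.maximalIdeal A).map
      (Algebra.TensorProduct.includeRight : A →ₐ[k] TensorProduct k K A) := by
    have hsurj : Function.Surjective π := fun c => ⟨algebraMap k A c, π.commutes c⟩
    rw [← hπ]
    refine Eq.trans ?_ (Algebra.TensorProduct.lTensor_ker (R := k) (A := K) π hsurj)
    ext x
    simp only [hMdef, hP, RingHom.mem_ker, AlgHom.comp_apply]
    exact (map_eq_zero_iff _ (Algebra.TensorProduct.rid k K K).injective).trans Iff.rfl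
  letI : Algebra A (TensorProduct k K A) := Algebra.TensorProduct.rightAlgebra
  have hfl : Module.Flat A (TensorProduct k K A) :=
    Module.Flat.isBaseChange k A K (TensorProduct k K A)
      (Algebra.IsPushout.out (R := k) (S := A) (R' := K) (S' := TensorProduct k K A))
  have : Module.Flat (TensorProduct k K A) (Localization.AtPrime M) :=
    IsLocalization.flat _ M.primeCompl
  have : Module.Flat A (Localization.AtPrime M) := Module.Flat.trans A (TensorProduct k K A) _
  have hmap : (IsLocalRing.maximalIdeal A).map (algebraMap A (Localization.AtPrime M)) =
      IsLocalRing.maximalIdeal (Localization.AtPrime M) := by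
    rw [IsScalarTower.algebraMap_eq A (TensorProduct k K A) (Localization.AtPrime M),
      ← Ideal.map_map, ← Localization.AtPrime.map_eq_maximalIdeal]
    congr 1
    exact hker.symm
  have : IsLocalHom (algebraMap A (Localization.AtPrime M)) :=
    (((IsLocalRing.local_hom_TFAE _).out 0 2)).2 hmap.le
  exact Groth.Agent.Hensel.isRegularLocalRing_iff_of_flat hmap

end Groth.Agent.S15595
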