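import Groth.Statements.S15597
import Groth.Agent.Deform.SSTorus.Basic
import Groth.Agent.S7956

open CategoryTheory TensorProduct

set_option autoImplicit false
universe u v
open HopfRep

namespace Groth.Agent.S15597

/-- Let k be an algebraically closed field and G = Spec A a smooth connected affine k-group, that is, A
is a finitely generated commutative Hopf algebra over k which is reduced and has no idempotents
other than 0 and 1; commutativity of G is not assumed. If every k-point of G is semisimple, in the
sense that it acts semisimply in every finite-dimensional A-comodule, then G is a torus: A is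
spanned over k by its group-like elements. (The published statement is over an arbitrary field, with
the hypothesis on the points over an algebraic closure; this row is the algebraically closed case.) -/
theorem result (k : Type u) (A : Type v) [Field k]
    [IsAlgClosed k] [CommRing A] [HopfAlgebra k A] [Algebra.FiniteType k A] [IsReduced A]
    (hconn : ∀ e : A, IsIdempotentElem e → e = 0 ∨ e = 1)
    (hss : ∀ (g : A →ₐ[k] k) (V : Type v) [AddCommGroup V] [Module k V] [HopfRep.Comod k A V],
      Module.Finite k V → Module.End.IsSemisimple (HopfRep.Comod.act k A V g)) :
    HopfRep.IsDiagonalizable k A := by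
  obtain ⟨A', _, _, e, he, hA'ft, hΔ, -⟩ := GrpSchLib.HopfFlat.exists_small (k := k) A
  have hred : _root_.IsReduced A' := isReduced_of_injective e he.1
  have hconn' : ∀ x : A', IsIdempotentElem x → x = 0 ∨ x = 1 := fun x hx => by
    rcases hconn (e x) (hx.map e) with h | h
    · exact Or.inl (he.1 (h.trans (map_zero e).symm))
    · exact Or.inr (he.1 (h.trans (map_one e).symm))
  haveI := Deform.SSTorus.isCommMonObj_of_locSS A' hconn'
    (Deform.SSTorus.locSS_of_equiv e he hΔ (Deform.SSTorus.locSS_of_forall_isSemisimple A hss))
  have hc' : Coalgebra.IsCocomm k A' := AVFrobKer.isCocomm (𝟙 (GrpSchLib.AffineHopf.sp k A'))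
  haveI : Coalgebra.IsCocomm k A := by
    refine ⟨LinearMap.ext fun a => ?_⟩
    obtain ⟨x, rfl⟩ := he.2 a
    have hx := LinearMap.congr_fun hc'.comm_comp_comul x
    simp only [LinearMap.comp_apply, LinearEquiv.coe_coe] at hx ⊢
    have key : ∀ z : A' ⊗[k] A', TensorProduct.comm k A A (Algebra.TensorProduct.map e e z) =
        Algebra.TensorProduct.map e e (TensorProduct.comm k A' A' z) := fun z => by
      induction z using TensorProduct.induction_on with
      | zero => simp
      | add p q hp hq => simp only [map_add, hp, hq]
      | tmul p q => rfl
    rw [← hΔ, key, hx]
  exact (S7956.result k A).mpr hss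

end Groth.Agent.S15597
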