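import Groth.Statements.S15599
import Groth.Agent.Deform.Luna.CharRad

set_option autoImplicit false
universe u
open CategoryTheory MonoidalCategory CartesianMonoidalCategory MonObj GrpObj AlgebraicGeometry
open AGF

namespace Groth.Agent.S15599
attribute [local instance] CategoryTheory.Hom.monoid CategoryTheory.Hom.group
/-- Let k be an algebraically closed field and G a smooth affine k-group scheme, not necessarily
connected, whose unipotent radical is trivial: every smooth connected normal closed subgroup scheme
of G containing no non-trivial subtorus is trivial. Let N ⟶ G be a smooth closed normal subgroup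
scheme, not necessarily connected. Then N has the same property: every smooth connected closed
subgroup scheme of N which is normal in N and contains no non-trivial subtorus is trivial.
Reductivity, in this sense allowing disconnected groups, passes to smooth normal subgroups. (The
published statement is over an arbitrary field, with reductivity defined after extension to an
algebraic closure; this row is the algebraically closed case.) -/
theorem result (k : Type u) [Field k] [IsAlgClosed k]
    (G N : Over (Spec (CommRingCat.of k))) [GrpObj G] [GrpObj N] [IsAffine G.left] [Smooth G.hom]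
    (j : N ⟶ G) [IsMonHom j] (hj : IsClosedImmersion j.left) [Smooth N.hom] (hN : AlgGrp.IsNormalHom j)
    (hG : ∀ (U : Over (Spec (CommRingCat.of k))) [GrpObj U] (i : U ⟶ G) [IsMonHom i], IsClosedImmersion i.left → Smooth U.hom →
        ConnectedSpace ↥U.left → AlgGrp.IsNormalHom i → Red.HasNoSubtorus k U → Red.IsTrivialGrp U) :
    ∀ (U : Over (Spec (CommRingCat.of k))) [GrpObj U] (i : U ⟶ N) [IsMonHom i], IsClosedImmersion i.left → Smooth U.hom →
        ConnectedSpace ↥U.left → AlgGrp.IsNormalHom i → Red.HasNoSubtorus k U → Red.IsTrivialGrp U := by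
  intro U _ i _ hic hUs hUc hn hU
  haveI := hj; haveI := hic; haveI := hUs; haveI := hUc
  haveI : IsAffineHom G.hom := isAffineHom_of_isAffine _
  haveI : IsAffine N.left := isAffine_of_isAffineHom j.left
  haveI : IsAffineHom N.hom := isAffineHom_of_isAffine _
  haveI : QuasiCompact N.hom := inferInstance
  haveI : IsAffine U.left := isAffine_of_isAffineHom i.left
  obtain ⟨M, gM, m, hm, hmc, hMs, hMq, hMc, -, -, hlift⟩ := Deform.Borel.exists_neutral_fin (G := N) (⊤ : Subgroup (Deform.Chev.Pt N))
    (C := Set.univ) isClosed_univ fun h => ⟨fun _ => trivial, fun _ => trivial⟩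
  haveI := hm; haveI := hmc; haveI := hMs; haveI := hMc
  haveI : Mono m := (Over.forget _).mono_of_mono_map (inferInstanceAs (Mono m.left))
  have hchar : ∀ (σ : N ⟶ N) [IsIso σ] [IsMonHom σ] (x : Deform.Chev.Pt M), ∃ x' : Deform.Chev.Pt M, x' ≫ m = x ≫ m ≫ σ :=
    fun σ _ _ x => by
      obtain ⟨f, -, hf⟩ := hlift M (m ≫ σ) fun _ => trivial
      exact ⟨x ≫ f, by rw [Category.assoc, hf]⟩
  obtain ⟨i', hi'm, hi'⟩ := hlift U i fun _ => trivial
  haveI := hi'm
  haveI : IsClosedImmersion (i'.left ≫ m.left) := by
    have e : i'.left ≫ m.left = i.left := congrArg CommaMorphism.left hi'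
    rw [e]; infer_instance
  haveI : IsClosedImmersion i'.left := IsClosedImmersion.of_comp i'.left m.left
  haveI : IsClosedImmersion (m ≫ j).left := inferInstanceAs (IsClosedImmersion (m.left ≫ j.left))
  refine Deform.Luna.radical_trivial_of_normal (m ≫ j) (Deform.Luna.isNormalHom_of_char j hN m hchar) hG i'
    (fun g x => ?_) hU
  obtain ⟨x', hx'⟩ := hn _ (g ≫ m) x
  refine ⟨x', (cancel_mono m).mp ?_⟩
  simp only [MonObj.mul_comp, GrpObj.inv_comp, Category.assoc, hi']
  exact hx'.symm

end Groth.Agent.S15599
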