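import Groth.Statements.S15600
import Groth.Agent.Deform.NeutralRad.Basic

set_option autoImplicit false
universe u
open CategoryTheory MonoidalCategory CartesianMonoidalCategory MonObj GrpObj AlgebraicGeometry
open AGF

namespace Groth.Agent.S15600

attribute [local instance] CategoryTheory.Hom.monoid CategoryTheory.Hom.group

/-- A scheme with connected geometric fibres over a field is connected. -/
theorem connected_of_geom {k : Type u} [Field k] (U : Over (Spec (CommRingCat.of k)))
    (h : ∀ s : ↥(Spec (CommRingCat.of k)), ConnectedSpace (Red.geomFibre s U).left) : ConnectedSpace U.left := by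
  let s : ↥(Spec (CommRingCat.of k)) := IsLocalRing.closedPoint k
  haveI : Surjective (Red.geomPt s) := ⟨fun y => ⟨IsLocalRing.closedPoint _, Subsingleton.elim (α := PrimeSpectrum k) _ _⟩⟩
  haveI : ConnectedSpace ↥(Limits.pullback U.hom (Red.geomPt s)) := h s
  exact Function.Surjective.connectedSpace (f := (Limits.pullback.fst U.hom (Red.geomPt s)))
    Surjective.surj (Limits.pullback.fst U.hom _).continuous

/-- A connected group over a field has connected geometric fibres. -/
theorem geom_of_connected {k : Type u} [Field k] (U : Over (Spec (CommRingCat.of k))) [GrpObj U]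
    [LocallyOfFiniteType U.hom] [ConnectedSpace U.left] (s : ↥(Spec (CommRingCat.of k))) :
    ConnectedSpace (Red.geomFibre s U).left :=
  Deform.Luna.connectedSpace_geom (fun s => by
    rw [show U.hom.base ⁻¹' {s} = Set.univ from Set.eq_univ_of_forall fun x =>
      Subsingleton.elim (α := PrimeSpectrum k) _ _]
    exact isConnected_univ) s

/-- Normality passes to an intermediate subgroup. -/
theorem normal_of_comp {S : Scheme.{u}} {V H G : Over S} [GrpObj V] [GrpObj H] [GrpObj G] (v : V ⟶ H) (j : H ⟶ G)
    [IsMonHom j] [Mono j] (h : AlgGrp.IsNormalHom (v ≫ j)) : AlgGrp.IsNormalHom v := by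
  intro T g n
  obtain ⟨m, hm⟩ := h _ (g ≫ j) n
  refine ⟨m, ?_⟩
  rw [← cancel_mono j]
  simpa only [MonObj.mul_comp, GrpObj.inv_comp, Category.assoc] using hm

/-- Let k be a field, G a smooth affine k-group scheme and G⁰ ⟶ G its identity component, that is, an
open subgroup scheme whose underlying space is connected. If U ⟶ G⁰ is the k-unipotent radical of G⁰
(the largest normal closed subgroup scheme of G⁰, smooth and quasi-compact over k, with connected
geometric fibre containing no non-trivial subtorus), then the composite U ⟶ G⁰ ⟶ G is the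
k-unipotent radical of G. -/
theorem result (k : Type u) [Field k]
    (G G₀ U : Over (Spec (CommRingCat.of k))) [GrpObj G] [GrpObj G₀] [GrpObj U] [IsAffine G.left] [Smooth G.hom]
    (j : G₀ ⟶ G) [IsMonHom j] [IsOpenImmersion j.left] [ConnectedSpace ↥G₀.left]
    (u : U ⟶ G₀) (hu : Par.IsUnipotentRadical u) : Par.IsUnipotentRadical (u ≫ j) := by
  classical
  obtain ⟨hum, huc, hun, hus, huq, hgeo, huniv⟩ := hu
  haveI := hum; haveI := huc; haveI := hus
  haveI hjc : IsClosedImmersion j.left := Deform.NeutralRad.isClosedImmersion_open j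
  haveI : Mono j := (Over.forget _).mono_of_mono_map (inferInstanceAs (Mono j.left))
  haveI : Mono u := (Over.forget _).mono_of_mono_map (inferInstanceAs (Mono u.left))
  haveI : IsAffineHom G.hom := isAffineHom_of_isAffine _
  haveI : IsClosedImmersion (u ≫ j).left := inferInstanceAs (IsClosedImmersion (u.left ≫ j.left))
  haveI : IsAffine U.left := isAffine_of_isAffineHom (u ≫ j).left
  haveI : ConnectedSpace U.left := connected_of_geom U fun s => (hgeo s).1
  obtain ⟨I, gI, i, hi, hic, hIs, hIq, hIc, hIT, hIn, t, ht⟩ :=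
    Deform.NeutralRad.exists_gen (AlgebraicClosure k) j u hun (Deform.PseudoRed.bc_of_geom U fun s => (hgeo s).2)
  haveI := hi; haveI := hic; haveI := hIs; haveI := hIc
  haveI : IsClosedImmersion (i ≫ j).left := inferInstanceAs (IsClosedImmersion (i.left ≫ j.left))
  haveI : IsAffine I.left := isAffine_of_isAffineHom (i ≫ j).left
  obtain ⟨f, hf⟩ := huniv I i hic (normal_of_comp i j hIn) hIs hIq fun s =>
    ⟨geom_of_connected I s, Deform.PseudoRed.geom_of_bc I hIT s⟩
  refine ⟨inferInstance, inferInstance, fun T g n => ?_, hus, huq, hgeo,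
    fun U' _ u' _ hc' hn' hs' hq' hgeo' => ?_⟩
  · obtain ⟨m, hm⟩ := hIn _ g (n ≫ t)
    refine ⟨m ≫ f, ?_⟩
    rw [show n ≫ u ≫ j = (n ≫ t) ≫ i ≫ j by rw [Category.assoc, ht], hm, Category.assoc, ← Category.assoc f u j, hf]
  · haveI := hs'
    haveI := hc'
    haveI : ConnectedSpace U'.left := connected_of_geom U' fun s => (hgeo' s).1
    obtain ⟨u₀, hu₀⟩ := Deform.NeutralRad.exists_lift_open j u' (1 : 𝟙_ (Over (Spec (CommRingCat.of k))) ⟶ U')
      (MonObj.one_comp u')
    haveI : IsMonHom u₀ := Deform.isMonHom_of_comp u₀ j (i := u') hu₀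
    haveI : IsClosedImmersion u₀.left := by
      haveI : IsClosedImmersion (u₀.left ≫ j.left) := by rw [← Over.comp_left, hu₀]; exact hc'
      exact IsClosedImmersion.of_comp u₀.left j.left
    obtain ⟨f', hf'⟩ := huniv U' u₀ inferInstance (normal_of_comp u₀ j (by rw [hu₀]; exact hn')) hs' hq' hgeo'
    exact ⟨f', by rw [← Category.assoc, hf', hu₀]⟩

end Groth.Agent.S15600
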