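import Groth.Statements.S15601
import Groth.Agent.LieKolchin.Main
import Groth.Agent.S3266
import Groth.Agent.ComodLib.Trig
import Mathlib.Tactic.Module
import Mathlib.GroupTheory.Abelianization.Defs

set_option autoImplicit false
universe u v
open HopfRep

namespace Groth.Agent.S15601

/-- Let k be an algebraically closed field and G = Spec A a smooth connected affine k-group: A is a
finitely generated commutative Hopf algebra over k which is reduced and has no idempotents other
than 0 and 1. Suppose G is solvable, i.e. the group G(k) of k-algebra maps A → k under convolution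
is solvable. Then the derived group of G is unipotent: every element of the commutator subgroup of
G(k) acts in every finite-dimensional A-comodule by an operator u with u − 1 nilpotent. (Stated over
an algebraically closed field, where the derived group is determined by the commutators of k-points;
the case of a general field reduces to this one.) -/
theorem result (k : Type u) [Field k] [IsAlgClosed k]
    (A : Type v) [CommRing A] [HopfAlgebra k A] [Algebra.FiniteType k A] [IsReduced A]
    (hconn : ∀ e : A, IsIdempotentElem e → e = 0 ∨ e = 1)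
    [Group.IsSolvable (WithConv (A →ₐ[k] k))]
    (g : WithConv (A →ₐ[k] k)) (hg : g ∈ commutator (WithConv (A →ₐ[k] k)))
    (V : Type v) [AddCommGroup V] [Module k V] [HopfRep.Comod k A V] [Module.Finite k V] :
    IsNilpotent (HopfRep.Comod.act k A V g.ofConv - 1) := by
  classical
  let n := Module.finrank k V
  obtain ⟨F, hmono, hsub, htop, hrank⟩ :=
    Groth.Agent.ComodLib.exists_flag (Groth.Agent.S3266.result k A hconn) V
  let ρ := Groth.Agent.LieKolchin.rho k A V
  have hmem : ∀ (i : ℕ) (x : WithConv (A →ₐ[k] k)) (u : V), u ∈ F i → ρ x u ∈ F i := fun i x u hu =>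
    Groth.Agent.ComodLib.subcomod_actF_mem (hsub i) x.ofConv.toLinearMap hu
  have hscal : ∀ i < n, ∀ x : WithConv (A →ₐ[k] k), ∃ c : k, ∀ u ∈ F (i + 1), ρ x u - c • u ∈ F i := by
    intro i hi x
    have hlt : F i < F (i + 1) := lt_of_le_of_ne (hmono (Nat.le_succ i)) fun h => by
      have h1 := hrank i hi.le
      have h2 := hrank (i + 1) hi
      rw [h] at h1; omega
    obtain ⟨e, he, he'⟩ := SetLike.exists_of_lt hlt
    have hsup : F i ⊔ Submodule.span k {e} = F (i + 1) := by
      have hle : F i ⊔ Submodule.span k {e} ≤ F (i + 1) := sup_le hlt.le (by simpa using he)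
      refine Submodule.eq_of_le_of_finrank_le hle ?_
      have hlt' : F i < F i ⊔ Submodule.span k {e} := lt_of_le_of_ne le_sup_left fun h =>
        he' (h ▸ Submodule.mem_sup_right (Submodule.mem_span_singleton_self e))
      have := Submodule.finrank_lt_finrank_of_lt hlt'
      rw [hrank (i + 1) hi]; rw [hrank i hi.le] at this; omega
    obtain ⟨f, hf, g', hg', hsum⟩ := Submodule.mem_sup.mp (hsup.ge (hmem (i + 1) x e he))
    obtain ⟨c, rfl⟩ := Submodule.mem_span_singleton.mp hg'
    refine ⟨c, fun u hu => ?_⟩
    obtain ⟨f1, hf1, g1, hg1, rfl⟩ := Submodule.mem_sup.mp (hsup.ge hu)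
    obtain ⟨t, rfl⟩ := Submodule.mem_span_singleton.mp hg1
    have : ρ x (f1 + t • e) - c • (f1 + t • e) = (ρ x f1 - c • f1) + t • f := by
      rw [map_add, map_smul, ← hsum]; module
    rw [this]
    exact add_mem (sub_mem (hmem i x f1 hf1) (Submodule.smul_mem _ c hf1)) (Submodule.smul_mem _ t hf)
  let H : Subgroup (WithConv (A →ₐ[k] k)) :=
    { carrier := {x | ∀ i < n, ∀ u ∈ F (i + 1), ρ x u - u ∈ F i}
      one_mem' := fun i _ u _ => by simp
      mul_mem' := fun {x y} hx hy i hi u hu => by
        rw [map_mul, Module.End.mul_apply, ← sub_add_sub_cancel (ρ x (ρ y u)) (ρ y u) u]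
        exact add_mem (hx i hi _ (hmem _ y u hu)) (hy i hi u hu)
      inv_mem' := fun {x} hx i hi u hu => by
        have h := hx i hi _ (hmem _ x⁻¹ u hu)
        rw [← Module.End.mul_apply, ← map_mul, mul_inv_cancel, map_one, Module.End.one_apply] at h
        rw [← neg_sub]; exact neg_mem h }
  have hH : commutator (WithConv (A →ₐ[k] k)) ≤ H := by
    rw [commutator_def, Subgroup.commutator_le]
    open scoped commutatorElement in intro x _ y _ i hi u hu
    obtain ⟨a, ha⟩ := hscal i hi x
    obtain ⟨b, hb⟩ := hscal i hi y
    set v := ρ (y * x)⁻¹ u with hv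
    have hvm : v ∈ F (i + 1) := hmem _ _ u hu
    have hu' : u = ρ (y * x) v := by
      rw [hv, ← Module.End.mul_apply, ← map_mul, mul_inv_cancel, map_one, Module.End.one_apply]
    open scoped commutatorElement in
    have key : ρ ⁅x, y⁆ u = ρ (x * y) v := by
      rw [hu', ← Module.End.mul_apply, ← map_mul]
      congr 2
      rw [commutatorElement_def]; group
    rw [key, hu', map_mul, map_mul, Module.End.mul_apply, Module.End.mul_apply]
    have h1 := hmem i x _ (hb v hvm)
    have h2 := hmem i y _ (ha v hvm)
    have h3 := ha v hvm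
    have h4 := hb v hvm
    have e : ρ x (ρ y v) - ρ y (ρ x v) = (ρ x (ρ y v - b • v) + b • (ρ x v - a • v))
        - (ρ y (ρ x v - a • v) + a • (ρ y v - b • v)) := by
      rw [map_sub, map_sub, map_smul, map_smul]; module
    rw [e]
    exact sub_mem (add_mem h1 (Submodule.smul_mem _ b h3)) (add_mem h2 (Submodule.smul_mem _ a h4))
  refine ⟨n, LinearMap.ext fun v => ?_⟩
  have hpow : ∀ j, j ≤ n → ∀ u ∈ F j, ((HopfRep.Comod.act k A V g.ofConv - 1) ^ j) u = 0 := by
    intro j
    induction j with
    | zero =>
      intro hj u hu
      have : F 0 = ⊥ := Submodule.finrank_eq_zero.mp (hrank 0 hj)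
      rw [this, Submodule.mem_bot] at hu
      simp [hu]
    | succ j ih =>
      intro hj u hu
      rw [pow_succ, Module.End.mul_apply]
      exact ih (by omega) _ (hH hg j (by omega) u hu)
  exact hpow n le_rfl v (htop ▸ Submodule.mem_top)

end Groth.Agent.S15601
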