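import Groth.Statements.S15606
import Groth.Agent.S15602
import Groth.Agent.Deform.GaIsog.Poly
import Groth.Agent.GrpSchLib.KernelGrp
import Groth.Agent.GrpSchLib.HomFlat
import Groth.Agent.GrpSchLib.SmoothReduced
import Groth.Agent.GrpSchLib.RankOneNonComm


set_option autoImplicit false
universe u
open CategoryTheory MonoidalCategory CartesianMonoidalCategory MonObj GrpObj AlgebraicGeometry
open AlgGrp

namespace Groth.Agent.S15606
open Groth.Agent GrpSchLib Kunneth LineGroups Limits
open scoped Polynomial TensorProduct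
attribute [local instance] CategoryTheory.Hom.monoid CategoryTheory.Hom.group

theorem epi_and_tensor {S : Scheme.{u}} {G H : Over S} (f : G ⟶ H) [Flat f.left] [Surjective f.left]
    [QuasiCompact f.left] : Epi f ∧ Epi (f ⊗ₘ f) := by
  haveI : Epi f.left := inferInstance
  refine ⟨(Over.forget _).epi_of_epi_map (inferInstanceAs (Epi f.left)), ?_⟩
  have hF : Flat (f ⊗ₘ f).left := by
    rw [Over.tensorHom_left]
    exact MorphismProperty.pullback_map (P := @Flat) ‹_› ‹_› (Over.w f).symm (Over.w f).symm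
  have hS : Surjective (f ⊗ₘ f).left := by
    haveI : MorphismProperty.IsStableUnderComposition @Surjective.{u} :=
      ⟨fun a b (ha : Surjective a) (hb : Surjective b) => ⟨hb.surj.comp ha.surj⟩⟩
    rw [Over.tensorHom_left]
    exact MorphismProperty.pullback_map (P := @Surjective) ‹_› ‹_› (Over.w f).symm (Over.w f).symm
  have hQ : QuasiCompact (f ⊗ₘ f).left := by
    rw [Over.tensorHom_left]
    exact MorphismProperty.pullback_map (P := @QuasiCompact) ‹_› ‹_› (Over.w f).symm (Over.w f).symm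
  haveI : Epi (f ⊗ₘ f).left := inferInstance
  exact (Over.forget _).epi_of_epi_map (inferInstanceAs (Epi (f ⊗ₘ f).left))

theorem exists_desc {S : Scheme.{u}} {G H Q : Over S} [GrpObj G] [GrpObj H] [GrpObj Q] (f : G ⟶ H) (q : G ⟶ Q)
    [IsMonHom f] [IsMonHom q] [Flat f.left] [Surjective f.left] [QuasiCompact f.left]
    (hfq : ∀ (T : Over S) (g : T ⟶ G), g ≫ f = 1 → g ≫ q = 1) : ∃ g : H ⟶ Q, f ≫ g = q ∧ IsMonHom g := by
  haveI : EffectiveEpi f.left := inferInstance
  obtain ⟨he, he2⟩ := epi_and_tensor f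
  have hdesc : ∀ {Z : Scheme.{u}} (g₁ g₂ : Z ⟶ G.left), g₁ ≫ f.left = g₂ ≫ f.left →
      g₁ ≫ q.left = g₂ ≫ q.left := by
    intro Z g₁ g₂ hg
    let T : Over S := Over.mk (g₁ ≫ G.hom)
    let a : T ⟶ G := Over.homMk g₁ rfl
    let b : T ⟶ G := Over.homMk g₂ (by
      show g₂ ≫ G.hom = g₁ ≫ G.hom
      rw [← Over.w f, ← Category.assoc, ← hg, Category.assoc])
    have hab : a ≫ f = b ≫ f := Over.OverMorphism.ext hg
    have h := hfq T (a * b⁻¹) (by rw [MonObj.mul_comp, GrpObj.inv_comp, hab, mul_inv_cancel])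
    rw [MonObj.mul_comp, GrpObj.inv_comp, mul_inv_eq_one] at h
    exact congrArg (fun m : T ⟶ Q => m.left) h
  let g₀ := EffectiveEpi.desc f.left q.left hdesc
  have hg₀ : f.left ≫ g₀ = q.left := EffectiveEpi.fac _ _ hdesc
  let g : H ⟶ Q := Over.homMk g₀ (by
    rw [← cancel_epi f.left, ← Category.assoc, hg₀, Over.w, Over.w])
  have hg : f ≫ g = q := Over.OverMorphism.ext hg₀
  exact ⟨g, hg, ⟨by rw [← IsMonHom.one_hom f, Category.assoc, hg, IsMonHom.one_hom q], by
    rw [← cancel_epi (f ⊗ₘ f), ← Category.assoc, ← IsMonHom.mul_hom f, Category.assoc, hg,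
      IsMonHom.mul_hom q, ← Category.assoc, MonoidalCategory.tensorHom_comp_tensorHom, hg]⟩⟩

theorem exists_coord (k : Type u) [Field k] :
    IsAffine (Red.Ga (Spec (CommRingCat.of k))).left ∧
      ∃ φ : k[X] ≃ₐ[k] Fn (Red.Ga (Spec (CommRingCat.of k))), evPt η[Red.Ga (Spec (CommRingCat.of k))] (φ Polynomial.X) = 0 := by
  let R := ULift.{u} ℤ
  let : Algebra R k := ((algebraMap ℤ k).comp (ULift.ringEquiv.toRingHom)).toAlgebra
  obtain ⟨e1⟩ := AffineHopf.nonempty_bc_iso (Limits.IsTerminal.from specULiftZIsTerminal (Spec (CommRingCat.of k)))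
    (Spec.map (CommRingCat.ofHom (algebraMap R k))) (specULiftZIsTerminal.hom_ext _ _) Red.GaZ
  obtain ⟨e2⟩ := AffineHopf.nonempty_bc_sp (R := R) k (SymmetricAlgebra R R)
  let j : Red.Ga (Spec (CommRingCat.of k)) ≅ _ := (Grp.forget _).mapIso (e1.trans e2)
  obtain ⟨hA, ⟨ψ⟩⟩ := Groth.Agent.S15602.aux R k
  refine ⟨@IsAffine.of_isIso _ _ ((Over.forget _).mapIso j).hom (Iso.isIso_hom _) hA, ?_⟩
  let φ₀ : k[X] ≃ₐ[k] Fn (Red.Ga (Spec (CommRingCat.of k))) := ψ.trans (fnEquiv j)
  let c := evPt η[Red.Ga (Spec (CommRingCat.of k))] (φ₀ Polynomial.X)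
  refine ⟨(Polynomial.algEquivAevalXAddC (-c)).trans φ₀, ?_⟩
  show evPt η[Red.Ga (Spec (CommRingCat.of k))] (φ₀ (Polynomial.aeval _ Polynomial.X)) = 0
  rw [Polynomial.aeval_X, map_add, map_add]
  show c + evPt η[Red.Ga (Spec (CommRingCat.of k))] (φ₀ (algebraMap k _ (-c))) = 0
  rw [AlgEquiv.commutes, AlgHom.commutes]
  exact add_neg_cancel c


/-- Additive case. Let k be a field, H an affine smooth connected k-group scheme, and f a homomorphism
from the additive group over k to H which is finite and surjective (an isogeny onto H). Then H is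
isomorphic, as a k-group scheme, to the additive group. In particular every quotient of the additive
group by a finite k-subgroup scheme is isomorphic to the additive group over k itself, for any field
k. -/
theorem result (k : Type u) [Field k]
    (H : Over (Spec (CommRingCat.of k))) [GrpObj H] [IsAffine H.left] [Smooth H.hom] [ConnectedSpace ↥H.left]
    (f : Red.Ga (Spec (CommRingCat.of k)) ⟶ H) [IsMonHom f] [IsFinite f.left] [Surjective f.left] :
    Nonempty (Grp.mk H ≅ Grp.mk (Red.Ga (Spec (CommRingCat.of k)))) := by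
  let S := Spec (CommRingCat.of k)
  let G : Over S := Red.Ga S
  obtain ⟨hA, φ, h0⟩ := exists_coord k
  haveI : IsAffine G.left := hA
  let t : Fn G := φ Polynomial.X
  haveI : Smooth G.hom := RankOne.smooth_ga _
  haveI : LocallyOfFiniteType G.hom := inferInstance
  haveI : Smooth (Red.Ga (Spec (CommRingCat.of k))).hom := RankOne.smooth_ga _
  have hpt : ∀ (T : Over S) (a : Fn T), ∃ g : T ⟶ G, ev g t = a := fun T a => by
    obtain ⟨g, hg⟩ := exists_hom_ev (X := G) ((Polynomial.aeval a).comp φ.symm.toAlgHom)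
    exact ⟨g, by rw [hg]; simp [t]⟩
  have hadd : ∀ {T : Over S} (g h : T ⟶ G), ev (g * h) t = ev g t + ev h t := fun g h => by
    rw [Hom.mul_def, ← ev_ev, mul_coord_Ga G φ h0, map_add, ev_ev, ev_ev, lift_fst, lift_snd]
  have hone : ∀ (T : Over S), ev (1 : T ⟶ G) t = 0 := fun T => by rw [Hom.one_def, one_fn_const, h0, map_zero]
  haveI : IsSeparated H.hom := inferInstance
  obtain ⟨N, hNg, i, hi, hci, -, hN⟩ := exists_kernel f
  have hfac : ∀ {T : Over S} (g : T ⟶ G), g ≫ f = 1 ↔ ∃ n : T ⟶ N, n ≫ i = g := fun {T} g => by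
    constructor
    · intro hg
      exact ⟨hN.lift g (toUnit _) (by rw [hg]; rfl), hN.lift_fst _ _ _⟩
    · rintro ⟨n, rfl⟩
      rw [Category.assoc, hN.w, ← Category.assoc, comp_toUnit]
      rfl
  haveI := hci
  obtain ⟨hNa, hsurj⟩ := IsClosedImmersion.isAffine_surjective_of_isAffine (f := i.left)
  let r : k[X] →ₐ[k] Fn N := (ev i).comp φ.toAlgHom
  have hr : Function.Surjective r := fun z => by
    obtain ⟨w, hw⟩ := hsurj z
    exact ⟨φ.symm w, by show ev i (φ (φ.symm w)) = z; rw [φ.apply_symm_apply]; exact hw⟩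
  have hcrit : ∀ {T : Over S} (g : T ⟶ G), g ≫ f = 1 ↔ ∀ p : k[X], r p = 0 → Polynomial.aeval (ev g t) p = 0 := by
    intro T g
    rw [hfac]
    constructor
    · rintro ⟨n, rfl⟩ p hp
      rw [← ev_aeval G φ, ← ev_ev]
      exact (congrArg (ev n) hp).trans (map_zero _)
    · intro h
      obtain ⟨n, hn⟩ := exists_hom_ev (X := N) (AlgHom.liftOfSurjective r hr (Polynomial.aeval (ev g t)) (fun p hp => h p hp))
      refine ⟨n, ext_coord_Ga φ ?_⟩
      rw [← ev_ev, hn]
      show AlgHom.liftOfSurjective r hr _ _ (r Polynomial.X) = ev g t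
      rw [AlgHom.liftOfSurjective_apply, Polynomial.aeval_X]
  have hker0 : RingHom.ker r ≠ ⊥ := by
    intro hbot
    have hid : 𝟙 G ≫ f = 1 := (hcrit _).2 fun p hp => by
      rw [show p = 0 from (Submodule.mem_bot k[X]).1 (hbot ▸ (RingHom.mem_ker.2 hp)), map_zero]
    rw [Category.id_comp, Hom.one_def] at hid
    haveI : IsFinite ((toUnit G).left ≫ η[H].left) := by rw [← Over.comp_left, ← hid]; infer_instance
    haveI : IsSeparated η[H].left := by
      have : IsSeparated (η[H].left ≫ H.hom) := by rw [Over.w]; exact inferInstanceAs (IsSeparated (𝟙 _))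
      exact IsSeparated.of_comp η[H].left H.hom
    haveI : IsFinite G.hom := IsFinite.of_comp (toUnit G).left η[H].left
    have h1 : RingHom.Finite (str G) := RingHom.Finite.comp (Scheme.Hom.finite_appTop G.hom)
      (RingHom.Finite.of_surjective _ (ConcreteCategory.bijective_of_isIso (Scheme.ΓSpecIso (CommRingCat.of k)).inv).2)
    haveI : Module.Finite k (Fn G) := h1
    haveI : Module.Finite k k[X] := Module.Finite.equiv φ.symm.toLinearEquiv
    exact Polynomial.not_finite (R := k) inferInstance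
  obtain ⟨P₀, hP₀⟩ := (IsPrincipalIdealRing.principal (RingHom.ker r)).1
  have hP₀ne : P₀ ≠ 0 := fun h => hker0 (by rw [hP₀, h]; simp)
  let P : k[X] := P₀ * Polynomial.C P₀.leadingCoeff⁻¹
  have hPm : P.Monic := Polynomial.monic_mul_leadingCoeff_inv hP₀ne
  have hP : ∀ {T : Over S} (g : T ⟶ G), g ≫ f = 1 ↔ Polynomial.aeval (ev g t) P = 0 := by
    intro T g
    rw [hcrit]
    constructor
    · intro h
      refine h P (RingHom.mem_ker.1 ?_)
      rw [hP₀]
      exact Ideal.mem_span_singleton.2 (Dvd.intro _ rfl)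
    · intro h p hp
      have hp' : P₀ ∣ p := Ideal.mem_span_singleton.1 (show p ∈ Ideal.span {P₀} by rw [← Ideal.submodule_span_eq, ← hP₀]; exact hp)
      obtain ⟨c, rfl⟩ := hp'
      have h' : Polynomial.aeval (ev g t) P₀ * algebraMap k (Fn T) P₀.leadingCoeff⁻¹ = 0 := by
        rw [← Polynomial.aeval_C (ev g t) P₀.leadingCoeff⁻¹, ← map_mul]; exact h
      have hu : IsUnit (algebraMap k (Fn T) P₀.leadingCoeff⁻¹) :=
        (IsUnit.mk0 _ (inv_ne_zero (Polynomial.leadingCoeff_ne_zero.2 hP₀ne))).map _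
      rw [map_mul, (hu.mul_left_eq_zero).1 h', zero_mul]
  haveI : Nontrivial (Fn G) := φ.injective.nontrivial
  have hP0 : P.eval 0 = 0 := by
    have h := (hP (1 : G ⟶ G)).1 (MonObj.one_comp f)
    rw [hone, ← map_zero (algebraMap k (Fn G)), Polynomial.aeval_algebraMap_apply, Polynomial.coe_aeval_eq_eval] at h
    exact (algebraMap k (Fn G)).injective h
  have hdpos : 0 < P.natDegree := Nat.pos_of_ne_zero fun hd =>
    one_ne_zero (show (1 : k) = 0 by rw [← hP0, hPm.natDegree_eq_zero.1 hd, Polynomial.eval_one])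
  let A := AdjoinRoot P
  let B := A ⊗[k] A
  let T₂ : Over S := Over.mk (Spec.map (CommRingCat.ofHom (algebraMap k B)))
  let x : A := AdjoinRoot.root P
  let e : B ≃ₐ[k] Fn T₂ := spEquiv (k := k) B
  obtain ⟨g₁, hg₁⟩ := hpt T₂ (e (x ⊗ₜ[k] 1))
  obtain ⟨g₂, hg₂⟩ := hpt T₂ (e (1 ⊗ₜ[k] x))
  have hx : Polynomial.aeval x P = 0 := by rw [AdjoinRoot.aeval_eq, AdjoinRoot.mk_self]
  have hv : Polynomial.aeval (x ⊗ₜ[k] (1 : A) + (1 : A) ⊗ₜ[k] x) P = 0 := by
    have k1 : g₁ ≫ f = 1 := (hP g₁).2 (by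
      rw [hg₁, show e (x ⊗ₜ[k] (1 : A)) = (e.toAlgHom.comp Algebra.TensorProduct.includeLeft) x from rfl,
        Polynomial.aeval_algHom_apply, hx, map_zero])
    have k2 : g₂ ≫ f = 1 := (hP g₂).2 (by
      rw [hg₂, show e ((1 : A) ⊗ₜ[k] x) = (e.toAlgHom.comp Algebra.TensorProduct.includeRight) x from rfl,
        Polynomial.aeval_algHom_apply, hx, map_zero])
    have k3 := (hP (g₁ * g₂)).1 (by rw [MonObj.mul_comp, k1, k2, _root_.one_mul])
    rw [hadd, hg₁, hg₂, ← map_add, ← AlgEquiv.coe_toAlgHom, Polynomial.aeval_algHom_apply] at k3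
    exact e.injective (k3.trans (map_zero _).symm)
  have haddP : ∀ {C : Type u} [CommRing C] [Algebra k C] (a b : C),
      Polynomial.aeval (a + b) P = Polynomial.aeval a P + Polynomial.aeval b P :=
    fun a b => Deform.GaIsog.additive_of_vanish hPm hP0 hv a b
  obtain ⟨q, hq⟩ := hpt G (Polynomial.aeval t P)
  have hgq : ∀ {T : Over S} (g : T ⟶ G), ev (g ≫ q) t = Polynomial.aeval (ev g t) P := fun g => by
    rw [← ev_ev, hq]
    exact (Polynomial.aeval_algHom_apply (ev g) t P).symm
  haveI : IsMonHom q := GrpSchLib.RankOne.isMonHom_of_comp q fun T a b => ext_coord_Ga φ (by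
    show ev ((a * b) ≫ q) t = ev ((a ≫ q) * (b ≫ q)) t
    rw [hgq, hadd, hadd, hgq, hgq, haddP])
  have hkq : ∀ (T : Over S) (g : T ⟶ G), g ≫ q = 1 ↔ g ≫ f = 1 := fun T g => by
    rw [hP, ← hgq]
    exact ⟨fun h => by rw [h]; exact hone T, fun h => ext_coord_Ga φ (by show ev (g ≫ q) t = ev 1 t; rw [h, hone])⟩
  haveI : Surjective q.left := by
    have hcomm : (ev q).comp φ.toAlgHom = φ.toAlgHom.comp (Polynomial.aeval P) := Polynomial.algHom_ext (by
      show ev q t = φ (Polynomial.aeval P Polynomial.X)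
      rw [hq, Polynomial.aeval_X, show t = φ.toAlgHom Polynomial.X from rfl, Polynomial.aeval_algHom_apply,
        Polynomial.aeval_X_left_apply]
      rfl)
    have hconj : (ev q).toRingHom = φ.toAlgHom.toRingHom.comp ((Polynomial.aeval P).toRingHom.comp φ.symm.toAlgHom.toRingHom) :=
      RingHom.ext fun z => by
        have := DFunLike.congr_fun hcomm (φ.symm z)
        simpa using this
    have hint : q.left.appTop.hom.IsIntegral := by
      show (ev q).toRingHom.IsIntegral
      rw [hconj]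
      exact RingHom.IsIntegral.trans _ _ (RingHom.IsIntegral.trans _ _
        (RingHom.isIntegral_of_surjective _ φ.symm.surjective) (Deform.GaIsog.isIntegral_aeval hPm hdpos))
        (RingHom.isIntegral_of_surjective _ φ.surjective)
    have hinj : Function.Injective q.left.appTop.hom := by
      show Function.Injective (ev q).toRingHom
      rw [hconj]
      show Function.Injective (⇑φ ∘ ⇑(Polynomial.aeval P : k[X] →ₐ[k] k[X]) ∘ ⇑φ.symm)
      refine φ.injective.comp (Function.Injective.comp ?_ φ.symm.injective)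
      intro a b hab
      have h2 : Polynomial.comp (a - b) P = 0 := by
        rw [Polynomial.sub_comp, Polynomial.comp_eq_aeval, Polynomial.comp_eq_aeval, sub_eq_zero]
        exact hab
      rcases Polynomial.comp_eq_zero_iff.1 h2 with h | ⟨-, hc⟩
      · exact sub_eq_zero.1 h
      · rw [hc, Polynomial.natDegree_C] at hdpos
        exact absurd hdpos (lt_irrefl 0)
    have hs : Surjective (Spec.map q.left.appTop) :=
      ⟨RingHom.IsIntegral.comap_surjective hint hinj⟩
    exact (MorphismProperty.arrow_mk_iso_iff @Surjective (arrowIsoSpecΓOfIsAffine q.left)).2 hs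
  haveI : IsReduced G.left := GrpSchLib.isReduced_of_smooth_field G.hom
  haveI : IsReduced H.left := GrpSchLib.isReduced_of_smooth_field H.hom
  haveI : Flat q.left := GrpSchLib.flat_of_surjective_hom q
  haveI : Flat f.left := GrpSchLib.flat_of_surjective_hom f
  obtain ⟨a, ha, haM⟩ := exists_desc f q fun T g h => (hkq T g).2 h
  obtain ⟨b, hb, hbM⟩ := exists_desc q f fun T g h => (hkq T g).1 h
  haveI := (epi_and_tensor f).1
  haveI := (epi_and_tensor q).1
  let iso : H ≅ G :=
    { hom := a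
      inv := b
      hom_inv_id := by rw [← cancel_epi f, ← Category.assoc, ha, hb, Category.comp_id]
      inv_hom_id := by rw [← cancel_epi q, ← Category.assoc, hb, ha, Category.comp_id] }
  haveI : IsMonHom iso.hom := haM
  exact ⟨Grp.mkIso iso (IsMonHom.one_hom iso.hom) (IsMonHom.mul_hom iso.hom)⟩

end Groth.Agent.S15606
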