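import Groth.Statements.S15607
import Groth.Agent.S17465
import Groth.Agent.S19598
import Groth.Agent.S16617
import Groth.Agent.Deform.TorusQuot.Basic
import Groth.Agent.Deform.PowTorus
import Groth.Agent.Deform.Chev.SemiAbExt
import Groth.Agent.Deform.AVFactor
import Groth.Agent.GrpSchLib.KernelGrp
import Groth.Agent.GrpSchLib.HomFlat
import Groth.Agent.GrpSchLib.MultTypeComm


set_option autoImplicit false
universe u
open CategoryTheory MonoidalCategory CartesianMonoidalCategory MonObj GrpObj AlgebraicGeometry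
open AlgGrp

namespace Groth.Agent.S15607
set_option linter.style.haveILetI false
attribute [local instance] CategoryTheory.Hom.monoid CategoryTheory.Hom.group
open Groth.Agent

/-- The multiplicative group over a field is a torus. -/
theorem isTorus_Gm' (k : Type u) [Field k] : Red.IsTorus (Red.Gm (Spec (CommRingCat.of k))) := by
  obtain ⟨a⟩ := Deform.SplitQuot.nonempty_DS_congr (S := Spec (CommRingCat.of k)) (AddEquiv.piUnique (fun _ : Fin 1 => ℤ)).symm
  exact Deform.isTorus_of_split 1 ⟨a.symm⟩

open CategoryTheory.Limits in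
/-- The first projection and the translation form the kernel pair of a homomorphism. -/
theorem isPullback_kernel {S : Scheme.{u}} {G Q N : Over S} [GrpObj G] [GrpObj Q] (i : N ⟶ G) (q : G ⟶ Q)
    [IsMonHom q] (hk : AlgGrp.IsKernel i q) :
    IsPullback (fst G N) ((G ◁ i) ≫ μ[G]) q q := by
  have hiq : i ≫ q = 1 := hk.w
  have hm : (G ◁ i) ≫ μ[G] = fst G N * (snd G N ≫ i) := by
    rw [Hom.mul_def]
    congr 1
  rw [hm]
  haveI : Mono i := ⟨fun a b hab => hk.hom_ext hab (toUnit_unique _ _)⟩
  have hw : fst G N ≫ q = (fst G N * (snd G N ≫ i)) ≫ q := by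
    rw [MonObj.mul_comp, Category.assoc, hiq, MonObj.comp_one, _root_.mul_one]
  refine IsPullback.of_isLimit' ⟨hw⟩ ?_
  have hl : ∀ (c : PullbackCone q q), (c.fst⁻¹ * c.snd) ≫ q = toUnit _ ≫ η[Q] := fun c => by
    rw [MonObj.mul_comp, GrpObj.inv_comp, c.condition, inv_mul_cancel]
    exact Hom.one_def
  refine PullbackCone.IsLimit.mk _ (fun c => lift c.fst (hk.lift _ _ (hl c))) (fun c => lift_fst _ _) (fun c => ?_) ?_
  · rw [MonObj.comp_mul, lift_fst, lift_snd_assoc, hk.lift_fst, mul_inv_cancel_left]
  · intro c m h1 h2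
    apply CartesianMonoidalCategory.hom_ext
    · rw [lift_fst, h1]
    · rw [lift_snd, ← cancel_mono i, hk.lift_fst, Category.assoc, ← h2, MonObj.comp_mul, h1, inv_mul_cancel_left]

/-- A morphism from an integral scheme with a rational point to a finite scheme is constant. -/
theorem eq_const_of_finite {k : Type u} [Field k] {X N : Over (Spec (CommRingCat.of k))} [IsIntegral X.left]
    [IsFinite N.hom] (l : X ⟶ N) (x : 𝟙_ (Over (Spec (CommRingCat.of k))) ⟶ X) : l = toUnit X ≫ x ≫ l := by
  haveI : IsAffine N.left := isAffine_of_isAffineHom N.hom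
  letI : Algebra k Γ(N.left, ⊤) := ((Scheme.ΓSpecIso (CommRingCat.of k)).inv ≫ N.hom.appTop).hom.toAlgebra
  letI : Algebra k Γ(X.left, ⊤) := ((Scheme.ΓSpecIso (CommRingCat.of k)).inv ≫ X.hom.appTop).hom.toAlgebra
  haveI : Module.Finite k Γ(N.left, ⊤) := by
    haveI : IsAffine (Spec (CommRingCat.of k)) := inferInstance
    have h : N.hom.appTop.hom.Finite :=
      ((HasAffineProperty.iff_of_isAffine (P := @IsFinite)).mp ‹IsFinite N.hom›).2
    exact RingHom.finite_algebraMap.mp
      (RingHom.Finite.comp h (RingHom.Finite.of_surjective _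
        (ConcreteCategory.bijective_of_isIso (Scheme.ΓSpecIso (CommRingCat.of k)).inv).2))
  let φ : Γ(N.left, ⊤) →ₐ[k] Γ(X.left, ⊤) :=
    { l.left.appTop.hom with
      commutes' := fun r => by
        show l.left.appTop (N.hom.appTop _) = X.hom.appTop _
        rw [← CommRingCat.comp_apply, ← Scheme.Hom.comp_appTop, Over.w l] }
  haveI : Module.Finite k φ.range := Module.Finite.of_surjective φ.rangeRestrict.toLinearMap φ.rangeRestrict_surjective
  haveI : IsDomain Γ(X.left, ⊤) := inferInstance
  have hR : IsField φ.range :=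
    have : Algebra.IsIntegral k φ.range := Algebra.IsIntegral.of_finite k φ.range
    isField_of_isIntegral_of_isField' (Field.toIsField k)
  have hw : x.left ≫ X.hom = 𝟙 _ := Over.w x
  apply Over.OverMorphism.ext
  refine ext_of_isAffine (CommRingCat.hom_ext (RingHom.ext fun a => ?_))
  let e := (Scheme.ΓSpecIso (CommRingCat.of k))
  let c : k := e.hom (x.left.appTop (l.left.appTop a))
  let d : φ.range := ⟨φ a, a, rfl⟩ - algebraMap k φ.range c
  have hx : ∀ r : k, x.left.appTop (algebraMap k Γ(X.left, ⊤) r) = e.inv r := fun r => by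
    show x.left.appTop (X.hom.appTop (e.inv r)) = e.inv r
    rw [← CommRingCat.comp_apply, ← Scheme.Hom.comp_appTop, hw]
    rfl
  have hxd : x.left.appTop (d : Γ(X.left, ⊤)) = 0 := by
    show x.left.appTop (φ a - algebraMap k Γ(X.left, ⊤) c) = 0
    rw [map_sub, hx, sub_eq_zero]
    exact (e.hom_inv_id_apply _).symm
  have hd : d = 0 := by
    by_contra hne
    obtain ⟨b, hb⟩ := hR.mul_inv_cancel hne
    have h1 : x.left.appTop ((d * b : φ.range) : Γ(X.left, ⊤)) = 1 := by rw [hb]; exact map_one _
    rw [MulMemClass.coe_mul, map_mul, hxd, zero_mul] at h1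
    have := congrArg e.hom h1
    rw [map_zero, map_one] at this
    exact zero_ne_one this
  have h : l.left.appTop a = algebraMap k Γ(X.left, ⊤) c := sub_eq_zero.mp (congrArg Subtype.val hd)
  show l.left.appTop a = (X.hom ≫ x.left ≫ l.left).appTop a
  rw [Scheme.Hom.comp_appTop, Scheme.Hom.comp_appTop, CommRingCat.comp_apply, CommRingCat.comp_apply]
  refine h.trans ?_
  exact congrArg X.hom.appTop (e.hom_inv_id_apply (x.left.appTop (l.left.appTop a)))


/-- Multiplicative case. Let k be a field, H a smooth connected k-group scheme, and f a homomorphism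
from H to the multiplicative group over k which is finite and surjective (an isogeny). Then H is
isomorphic, as a k-group scheme, to the multiplicative group: a smooth connected k-group isogenous
to the multiplicative group over k is the split one-dimensional torus. -/
theorem result (k : Type u) [Field k]
    (H : Over (Spec (CommRingCat.of k))) [GrpObj H] [Smooth H.hom] [ConnectedSpace ↥H.left]
    (f : H ⟶ Red.Gm (Spec (CommRingCat.of k))) [IsMonHom f] [IsFinite f.left] [Surjective f.left] :
    Nonempty (Grp.mk H ≅ Grp.mk (Red.Gm (Spec (CommRingCat.of k)))) := by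
  haveI : IsAffine (Red.diag (ULift.{u} ℤ) ℤ).left := inferInstanceAs (IsAffine (Spec _))
  obtain ⟨hGa, hGl, hGs, hGc⟩ := Deform.TorusBasic.props (isTorus_Gm' k)
  haveI := hGa; haveI := hGl; haveI := hGs; haveI := hGc
  haveI : IsAffineHom (Red.Gm (Spec (CommRingCat.of k))).hom := isAffineHom_of_isAffine _
  haveI : IsAffine H.left := isAffine_of_isAffineHom f.left
  haveI : IsAffineHom H.hom := isAffineHom_of_isAffine _
  haveI : QuasiCompact H.hom := inferInstance
  haveI : IsCommMonObj (Red.Gm (Spec (CommRingCat.of k))) := Deform.Extension.isCommMonObj_of fun T x y =>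
    GrpSchLib.MultTypeComm.points_comm (Deform.isMultTypeFT_of_isTorus (isTorus_Gm' k)) x y
  obtain ⟨N, iN, i, hi, hic, -, hk⟩ := GrpSchLib.exists_kernel f
  letI := iN
  haveI := hi
  haveI : IsFinite N.hom := by
    have hsq : IsPullback i.left (toUnit N).left f.left η[Red.Gm (Spec (CommRingCat.of k))].left := hk.map (Over.forget _)
    exact MorphismProperty.of_isPullback (P := @IsFinite) hsq inferInstance
  -- commutativity
  haveI : IsCommMonObj H := by
    refine Deform.Extension.isCommMonObj_of fun T x y => ?_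
    haveI : GeometricallyIntegral H.hom := Deform.AVFactor.geometricallyIntegral_smooth H
    haveI : IsIntegral H.left := GeometricallyIntegral.isIntegral_of_subsingleton H.hom
    haveI : IsLocallyNoetherian H.left := LocallyOfFiniteType.isLocallyNoetherian H.hom
    haveI : IsIntegral (H ⊗ H).left := inferInstanceAs (IsIntegral (Limits.pullback H.hom H.hom))
    let a := fst H H
    let b := snd H H
    have hc : (a * b * (b * a)⁻¹) ≫ f = toUnit _ ≫ η[Red.Gm (Spec (CommRingCat.of k))] := by
      have hinv : ∀ u : H ⊗ H ⟶ H, u⁻¹ ≫ f = (u ≫ f)⁻¹ := fun u => GrpObj.inv_comp u f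
      rw [MonObj.mul_comp, hinv, MonObj.mul_comp, MonObj.mul_comp, mul_comm (b ≫ f), mul_inv_cancel]
      exact Hom.one_def
    have hl := hk.lift_fst _ _ hc
    have hconst := eq_const_of_finite (hk.lift _ _ hc) (1 : 𝟙_ _ ⟶ H ⊗ H)
    have h1 : a * b * (b * a)⁻¹ = 1 := by
      rw [← hl, hconst, Category.assoc, Category.assoc, hl]
      simp only [MonObj.comp_mul, GrpObj.comp_inv, a, b, MonObj.one_comp, MonObj.comp_one, _root_.one_mul, inv_one]
    have h2 := congrArg (lift x y ≫ ·) (mul_inv_eq_one.mp h1)
    simpa only [MonObj.comp_mul, a, b, lift_fst, lift_snd] using h2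
  -- a torus
  have hiso : SGA7.IsIsogenyOver f := by
    refine ⟨inferInstance, fun N' i' hk' => ?_⟩
    have hsq : IsPullback i'.left (toUnit N').left f.left η[Red.Gm (Spec (CommRingCat.of k))].left := hk'.map (Over.forget _)
    exact MorphismProperty.of_isPullback (P := @IsFinite) hsq inferInstance
  have hHt : Red.IsTorus H := (S17465.result k H (Red.Gm (Spec (CommRingCat.of k))) f hiso).mpr (isTorus_Gm' k)
  -- the inverse isogeny
  obtain ⟨n, hn, hNn⟩ := Deform.PowTorus.exists_pow_eq_one N
  haveI : IsMonHom (𝟙 H ^ n : H ⟶ H) := Deform.Chev.SemiAb.isMonHom_pow (𝟙 H) n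
  haveI : IsReduced (Red.Gm (Spec (CommRingCat.of k))).left := GrpSchLib.isReduced_of_smooth_field (Red.Gm (Spec (CommRingCat.of k))).hom
  haveI : LocallyOfFiniteType H.hom := inferInstance
  haveI : Flat f.left := GrpSchLib.flat_of_surjective_hom f
  obtain ⟨g, hg, hfg⟩ := Deform.Chev.SemiAbExt.exists_desc f i hk (𝟙 H ^ n) (by
    rw [MonObj.comp_pow, Category.comp_id]
    calc i ^ n = (𝟙 N ^ n : N ⟶ N) ≫ i := by rw [MonObj.pow_comp, Category.id_comp]
      _ = 1 := by rw [hNn, MonObj.one_comp])
  haveI := hg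
  haveI : Surjective (f.left ≫ g.left) := by
    rw [← Over.comp_left, hfg]
    exact (Deform.PowTorus.flat_surjective_pow hHt hn).2
  haveI : Surjective g.left := Surjective.of_comp f.left _
  haveI : IsReduced H.left := GrpSchLib.isReduced_of_smooth_field H.hom
  haveI : IsSeparated H.hom := inferInstance
  haveI : QuasiCompact g.left := Deform.MaxNormal.quasiCompact_hom g
  haveI : Flat g.left := GrpSchLib.flat_of_surjective_hom g
  obtain ⟨K, iK, j, hj, hjc, -, hjk⟩ := GrpSchLib.exists_kernel g
  letI := iK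
  haveI := hj; haveI := hjc
  haveI : Mono j := Deform.MaxNormal.mono_of_closed j
  haveI : LocallyOfFiniteType K.hom := by rw [← Over.w j]; infer_instance
  have hKm : SGA3x.IsMultTypeFT K := S19598.result K _ (Deform.isMultTypeFT_of_isTorus (isTorus_Gm' k)) j hjc
    inferInstance inferInstance
  obtain ⟨c⟩ := Deform.SplitQuot.nonempty_DS_congr (S := Spec (CommRingCat.of k)) (AddEquiv.piUnique (fun _ : Fin 1 => ℤ)).symm
  haveI : LocallyOfFiniteType g.left := by
    haveI : LocallyOfFiniteType (g.left ≫ H.hom) := by rw [Over.w g]; infer_instance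
    exact locallyOfFiniteType_of_comp g.left H.hom
  haveI : LocallyOfFinitePresentation g.left := by
    haveI : IsLocallyNoetherian H.left := LocallyOfFiniteType.isLocallyNoetherian H.hom
    infer_instance
  obtain ⟨r, hr, ⟨e⟩⟩ := S16617.result (Q := H) 1 ⟨c.symm⟩ j hKm g
    ⟨inferInstance, inferInstance, inferInstance, isPullback_kernel j g hjk⟩
  interval_cases r
  · exfalso
    obtain ⟨e0⟩ := GrpSchLib.AffineHopf.nonempty_DS_iso k (Fin 0 → ℤ)
    let e' := e ≪≫ e0.symm
    haveI : IsIso e'.hom.hom.hom.left := ((Grp.forget _ ⋙ Over.forget _).mapIso e').isIso_hom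
    haveI : Subsingleton ↥(Red.Gm (Spec (CommRingCat.of k))).left := by
      have h0 : Subsingleton ↥(GrpSchLib.AffineHopf.sp k (MonoidAlgebra k (Multiplicative (Fin 0 → ℤ)))).left := by
        have : Subsingleton (PrimeSpectrum (MonoidAlgebra k (Multiplicative (Fin 0 → ℤ)))) :=
          (PrimeSpectrum.homeomorphOfRingEquiv (MonoidAlgebra.uniqueRingEquiv (Multiplicative (Fin 0 → ℤ)) :
            MonoidAlgebra k (Multiplicative (Fin 0 → ℤ)) ≃+* k)).injective.subsingleton
        exact this
      haveI : Subsingleton ↥H.left := e'.hom.hom.hom.left.homeomorph.injective.subsingleton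
      exact f.left.surjective.subsingleton
    obtain ⟨e1⟩ := GrpSchLib.AffineHopf.nonempty_DS_iso k ℤ
    haveI : IsIso e1.hom.hom.hom.left := ((Grp.forget _ ⋙ Over.forget _).mapIso e1).isIso_hom
    have hsub : Subsingleton (PrimeSpectrum (MonoidAlgebra k (Multiplicative ℤ))) :=
      e1.hom.hom.hom.left.homeomorph.injective.subsingleton
    haveI : IsDomain (MonoidAlgebra k (Multiplicative ℤ)) := inferInstance
    obtain ⟨m, hm⟩ := Ideal.exists_maximal (MonoidAlgebra k (Multiplicative ℤ))
    have hbot : m = ⊥ := congrArg PrimeSpectrum.asIdeal (hsub.elim ⟨m, hm.isPrime⟩ ⟨⊥, Ideal.isPrime_bot⟩)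
    subst hbot
    have hF : IsField (MonoidAlgebra k (Multiplicative ℤ)) := Ring.isField_iff_maximal_bot.mpr hm
    let x : MonoidAlgebra k (Multiplicative ℤ) := MonoidAlgebra.of k _ (Multiplicative.ofAdd 1) - 1
    let ε : MonoidAlgebra k (Multiplicative ℤ) →+* k := (MonoidAlgebra.lift k k (Multiplicative ℤ) 1).toRingHom
    have hx0 : x ≠ 0 := fun h => by
      have h' := MonoidAlgebra.of_injective ((sub_eq_zero.mp h).trans (map_one (MonoidAlgebra.of k (Multiplicative ℤ))).symm)
      exact one_ne_zero (show (1 : ℤ) = 0 from Multiplicative.ofAdd.injective h')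
    obtain ⟨y, hy⟩ := hF.mul_inv_cancel hx0
    have h1 := congrArg ε hy
    rw [map_mul, map_one, show ε x = 0 by simp [x, ε], zero_mul] at h1
    exact zero_ne_one h1
  · exact ⟨e ≪≫ c⟩

end Groth.Agent.S15607
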