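import Groth.Statements.S15608
import Groth.Agent.Deform.GenSub.GenClosed
import Groth.Agent.GrpSchLib.Cartier
import Groth.Agent.GrpSchLib.IsogenyFibre

set_option autoImplicit false
universe u
open CategoryTheory MonoidalCategory CartesianMonoidalCategory MonObj GrpObj AlgebraicGeometry
open AlgGrp

namespace Groth.Agent.S15608
attribute [local instance] CategoryTheory.Hom.monoid CategoryTheory.Hom.group
set_option linter.style.haveILetI false
set_option maxHeartbeats 1000000
open Groth.Agent CategoryTheory.Limits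

/-- Let k be a field, G a smooth k-group scheme of finite type and Σ a subgroup of the abstract group
G(k) of k-rational points. Then the Zariski closure of Σ in G, with its reduced structure, is a
smooth closed k-subgroup: there are a smooth k-group scheme H and a homomorphism H ⟶ G which is a
closed immersion whose image is the closure of the set of points of G underlying the elements of Σ.
(The published statement also asserts that forming this closure commutes with extension of the
ground field; that clause is not stated here, its affine form being stated separately.) -/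
theorem result (k : Type u) [Field k]
    (G : Over (Spec (CommRingCat.of k))) [GrpObj G] [Smooth G.hom] [QuasiCompact G.hom]
    (S : Subgroup (𝟙_ (Over (Spec (CommRingCat.of k))) ⟶ G)) :
    ∃ (H : Over (Spec (CommRingCat.of k))) (_ : GrpObj H) (i : H ⟶ G), IsMonHom i ∧ IsClosedImmersion i.left ∧ Smooth H.hom ∧
      Set.range i.left.base =
        closure ((fun s : (𝟙_ (Over (Spec (CommRingCat.of k))) ⟶ G) => s.left.base (IsLocalRing.closedPoint k)) '' (S : Set _)) := by
  classical
  let Pk : (𝟙_ (Over (Spec (CommRingCat.of k)))).left ⟶ Spec (CommRingCat.of k) := (𝟙_ (Over (Spec (CommRingCat.of k)))).hom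
  let X : Over (Spec (CommRingCat.of k)) := Over.mk (Sigma.desc (fun _ : S => Pk) : (∐ fun _ : S => (𝟙_ (Over (Spec (CommRingCat.of k)))).left) ⟶ _)
  let c : S → (𝟙_ (Over (Spec (CommRingCat.of k))) ⟶ X) := fun s =>
    Over.homMk (Sigma.ι (fun _ : S => (𝟙_ (Over (Spec (CommRingCat.of k)))).left) s) (Sigma.ι_desc _ _)
  let f : X ⟶ G := Over.homMk (Sigma.desc fun s : S => (s.1).left) (by
    apply Sigma.hom_ext
    intro s
    show Sigma.ι _ s ≫ Sigma.desc (fun s : S => (s.1).left) ≫ G.hom = Sigma.ι _ s ≫ Sigma.desc (fun _ : S => Pk)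
    rw [← Category.assoc, Sigma.ι_desc, Sigma.ι_desc]
    exact Over.w s.1)
  have hcf : ∀ s, c s ≫ f = s.1 := fun s => Over.OverMorphism.ext (Sigma.ι_desc _ _)
  haveI : Smooth X.hom := by
    haveI : Smooth Pk := inferInstanceAs (Smooth (𝟙 (Spec (CommRingCat.of k))))
    exact IsZariskiLocalAtSource.sigmaDesc (fun _ => inferInstance)
  haveI : GeometricallyReduced X.hom := GrpSchLib.IsogenyFibre.geometricallyReduced_of_smooth' X.hom
  obtain ⟨H, iH, i, hi, hci, -, hgr, hrange, -⟩ := Deform.GenSub.exists_generated_closed f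
  haveI := hci
  haveI : LocallyOfFiniteType H.hom := by rw [← Over.w i]; infer_instance
  refine ⟨H, iH, i, hi, hci, GrpSchLib.smooth_of_isReduced_baseChange H
    (GeometricallyReduced.geometrically_isReduced (f := H.hom) _ _ _ (IsPullback.of_hasPullback _ _)), ?_⟩
  rw [hrange]
  have hpt : ∀ l (z : (Deform.GenSub.wObj X l).left), ∃ p : 𝟙_ _ ⟶ Deform.GenSub.wObj X l,
      p.left (IsLocalRing.closedPoint k) = z ∧ p ≫ Deform.GenSub.wMor f l ∈ S := by
    intro l
    induction l with
    | nil =>
      intro z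
      refine ⟨𝟙 _, @Subsingleton.elim (Spec (CommRingCat.of k)) inferInstance _ _, ?_⟩
      show 𝟙 _ ≫ (1 : 𝟙_ _ ⟶ G) ∈ S
      rw [Category.id_comp]; exact S.one_mem
    | cons b l ih =>
      intro z
      obtain ⟨s, u, hu⟩ := (sigmaOpenCover (fun _ : S => (𝟙_ (Over (Spec (CommRingCat.of k)))).left)).exists_eq
        ((pullback.fst X.hom (Deform.GenSub.wObj X l).hom) z)
      obtain ⟨w, hw⟩ : z ∈ Set.range (pullback.map (𝟙_ (Over (Spec (CommRingCat.of k)))).hom (Deform.GenSub.wObj X l).hom
          X.hom (Deform.GenSub.wObj X l).hom (c s).left (𝟙 _) (𝟙 _) (by simp) (by simp)) := by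
        rw [Scheme.Pullback.range_map]
        exact ⟨⟨u, hu⟩, ⟨_, rfl⟩⟩
      have hw' : ((c s) ▷ Deform.GenSub.wObj X l).left w = z := hw
      let v := (λ_ (Deform.GenSub.wObj X l)).hom
      obtain ⟨p, hp, hpS⟩ := ih (v.left w)
      have hvw : (λ_ (Deform.GenSub.wObj X l)).inv.left (v.left w) = w :=
        congrArg (fun φ => φ.left w) (λ_ (Deform.GenSub.wObj X l)).hom_inv_id
      refine ⟨p ≫ (λ_ _).inv ≫ (c s ▷ _), ?_, ?_⟩
      · show ((c s) ▷ Deform.GenSub.wObj X l).left ((λ_ (Deform.GenSub.wObj X l)).inv.left (p.left _)) = z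
        rw [hp, hvw, hw']
      · cases b
        · show (p ≫ (λ_ _).inv ≫ (c s ▷ _)) ≫ ((fst X _ ≫ f)⁻¹ * (snd X _ ≫ Deform.GenSub.wMor f l)) ∈ S
          rw [MonObj.comp_mul, GrpObj.comp_inv]
          simp only [Category.assoc, whiskerRight_fst_assoc, whiskerRight_snd_assoc, hcf, leftUnitor_inv_snd_assoc]
          rw [← Category.assoc p, ← Category.assoc _ (fst _ _), toUnit_unique ((p ≫ _) ≫ fst _ _) (𝟙 _), Category.id_comp]
          exact S.mul_mem (S.inv_mem s.2) hpS
        · show (p ≫ (λ_ _).inv ≫ (c s ▷ _)) ≫ ((fst X _ ≫ f) * (snd X _ ≫ Deform.GenSub.wMor f l)) ∈ S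
          rw [MonObj.comp_mul]
          simp only [Category.assoc, whiskerRight_fst_assoc, whiskerRight_snd_assoc, hcf, leftUnitor_inv_snd_assoc]
          rw [← Category.assoc p, ← Category.assoc _ (fst _ _), toUnit_unique ((p ≫ _) ≫ fst _ _) (𝟙 _), Category.id_comp]
          exact S.mul_mem s.2 hpS
  refine congrArg closure (Set.Subset.antisymm ?_ ?_)
  · refine Set.iUnion_subset fun l => ?_
    rintro _ ⟨z, rfl⟩
    obtain ⟨p, rfl, hp⟩ := hpt l z
    exact ⟨_, hp, rfl⟩
  · rintro _ ⟨g, hg, rfl⟩
    refine Set.mem_iUnion.2 ⟨[true], (lift (c ⟨g, hg⟩) (𝟙 _)).left (IsLocalRing.closedPoint k), ?_⟩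
    show ((lift (c ⟨g, hg⟩) (𝟙 _)) ≫ ((fst X _ ≫ f) * (snd X _ ≫ (1 : 𝟙_ _ ⟶ G)))).left _ = _
    rw [MonObj.comp_mul, lift_fst_assoc, lift_snd_assoc, Category.id_comp, _root_.mul_one, hcf]

end Groth.Agent.S15608
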