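import Groth.Statements.S1565
import Groth.Agent.SepPt.Point
import Groth.Agent.H23.TrivBasic

set_option autoImplicit false
set_option linter.style.haveILetI false
set_option linter.unusedSectionVars false
set_option backward.isDefEq.respectTransparency false
set_option backward.isDefEq.respectTransparency.types false
set_option maxHeartbeats 1000000
universe u
open CategoryTheory CategoryTheory.Limits AlgebraicGeometry
attribute [local instance] Curv2.resAlgebra
open Curves

namespace Groth.Agent.S1565

open Groth.Agent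

set_option linter.style.haveILetI false
set_option backward.isDefEq.respectTransparency false
set_option backward.isDefEq.respectTransparency.types false

open Groth.Agent.CurveVA (sc) in
open TopologicalSpace in
theorem aux_zero (k : Type u) [Field k] {X : Scheme.{u}} [X.Over (Spec (CommRingCat.of k))] [IsIntegral X]
    [IsProper (X ↘ Spec (CommRingCat.of k))] [Smooth (X ↘ Spec (CommRingCat.of k))]
    (hdim : topologicalKrullDim X = 1) (h0 : Module.finrank k (Coh.HH X (Coh.structureModule X) 0) = 1)
    (hg : 2 ≤ Curv2.genus k X) :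
    ∃ x : X, IsClosed ({x} : Set X) ∧ Module.finrank k (X.residueField x) ≤ 2 * Curv2.genus k X - 2 := by
  haveI := Groth.Agent.CurveCohLib.isNoetherian_of_proper (k := k) (X := X)
  obtain ⟨hh, hdeg⟩ := Groth.Agent.CurveBC.canonical_invariants k X hdim h0
  have hΩ := Groth.Agent.CurveBC.isInvertible_omega k X hdim h0
  haveI := Groth.Agent.CurveCohLib.finite_HH (k := k) (Groth.Agent.CurveDeg.isCoh_of_isInvertible hΩ) 0
  haveI := Module.nontrivial_of_finrank_pos (R := k) (M := Coh.HH X (Omega.sheaf (X ↘ Spec (CommRingCat.of k))) 0) (by omega)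
  obtain ⟨t, ht⟩ := exists_ne (0 : Coh.HH X (Omega.sheaf (X ↘ Spec (CommRingCat.of k))) 0)
  let σ : Γ(Omega.sheaf (X ↘ Spec (CommRingCat.of k)), ⊤) := Sheaf.H.equiv₀ (Coh.toAb (Omega.sheaf (X ↘ Spec (CommRingCat.of k)))) isTerminalTop t
  have hσ : σ ≠ 0 := fun h => ht ((Sheaf.H.equiv₀ (Coh.toAb (Omega.sheaf (X ↘ Spec (CommRingCat.of k)))) isTerminalTop).injective (h.trans (map_zero _).symm))
  -- a point outside the generating locus
  by_cases hall : ∀ y : X, y ∈ Groth.Agent.H23.TrivBasic.locus σ
  · exfalso
    have hfr : Groth.Agent.InvX.IsFrame (Groth.Agent.AModX.res _ (le_top : (⊤ : X.Opens) ≤ ⊤) σ) :=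
      Groth.Agent.H23.TrivBasic.isFrame_res_of_le_locus (fun y _ => hall y)
    rw [Groth.Agent.AModX.res_self] at hfr
    have := Groth.Agent.SepPt.finrank_h0_le_one k h0 σ hfr
    omega
  · push Not at hall
    obtain ⟨y, hy⟩ := hall
    obtain ⟨x, hxy, hx⟩ := (isClosed_closure (s := ({y} : Set X))).exists_closed_singleton ⟨y, subset_closure (Set.mem_singleton y)⟩
    have hxL : x ∉ Groth.Agent.H23.TrivBasic.locus σ := fun h =>
      hy ((specializes_iff_mem_closure.2 hxy).mem_open (Groth.Agent.H23.TrivBasic.locus σ).2 h)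
    obtain ⟨W, hxW, e, he⟩ := Groth.Agent.InvX.exists_frame hΩ x
    obtain ⟨a, ha⟩ := he.exists_coord le_rfl (Groth.Agent.AModX.res _ (le_top : W ≤ ⊤) σ)
    rw [Groth.Agent.AModX.res_self] at ha
    have hle := Groth.Agent.SepPt.finrank_residueField_le k hdim hΩ hσ hx hxW e a ha (by
      refine (IsLocalRing.mem_maximalIdeal _).2 fun hu => hxL ?_
      refine Groth.Agent.H23.TrivBasic.mem_locus_iff.2 ⟨X.basicOpen a, (Scheme.mem_basicOpen X a x hxW).2 hu, ?_⟩
      rw [← Groth.Agent.AModX.res_res (le_top : W ≤ ⊤) (X.basicOpen_le a), ha, Groth.Agent.AModX.res_smul]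
      exact (he.res (X.basicOpen_le a)).isUnit_smul (X.toRingedSpace.isUnit_res_basicOpen a))
    refine ⟨x, hx, ?_⟩
    rw [hdeg] at hle
    omega

theorem aux_finite (k : Type u) [Field k] {X : Scheme.{u}} [X.Over (Spec (CommRingCat.of k))]
    [IsProper (X ↘ Spec (CommRingCat.of k))] (x : X) (hx : IsClosed ({x} : Set X)) :
    FiniteDimensional k (X.residueField x) :=
  Groth.Agent.SepPt.finite_residueField k x hx

open Groth.Agent.CurveVA (sc) in
theorem aux_imperfect (k : Type u) [Field k] [Infinite k] {X : Scheme.{u}} [X.Over (Spec (CommRingCat.of k))]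
    [IsIntegral X] [IsProper (X ↘ Spec (CommRingCat.of k))] [Smooth (X ↘ Spec (CommRingCat.of k))]
    (hdim : topologicalKrullDim X = 1) (h0 : Module.finrank k (Coh.HH X (Coh.structureModule X) 0) = 1)
    (hg : 2 ≤ Curv2.genus k X) :
    ∃ x : X, IsClosed ({x} : Set X) ∧ Algebra.IsSeparable k (X.residueField x) ∧
      Module.finrank k (X.residueField x) ≤ 2 * Curv2.genus k X - 2 ∧ FiniteDimensional k (X.residueField x) := by
  obtain ⟨hh, hdeg⟩ := Groth.Agent.CurveBC.canonical_invariants k X hdim h0
  have hΩ := Groth.Agent.CurveBC.isInvertible_omega k X hdim h0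
  obtain ⟨W, hW, hη, s, t, a, ht, hst, hD, htr, hne⟩ := Groth.Agent.SepPt.exists_ratio_D_ne_zero k hdim h0 hg
  obtain ⟨c, x, hx, hxW, hm, hsep, hfin⟩ :=
    Groth.Agent.SepPt.exists_separable_point k hdim hW hη a hD htr
  refine ⟨x, hx, hsep, ?_, hfin⟩
  have hle := Groth.Agent.SepPt.finrank_residueField_le k hdim hΩ (hne c) hx hxW
    (Groth.Agent.AModX.res _ (le_top : W ≤ ⊤) t)
    (a - Groth.Agent.AModX.resR (le_top : W ≤ ⊤) (sc (X := X) k c))
    (by rw [map_sub, Groth.Agent.AModX.res_smul, hst, sub_smul]) hm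
  rw [hdeg] at hle
  omega

/-- Let X be a smooth proper curve over a field k whose global functions are k, of genus g ≥ 2. Then X
has a closed point whose residue field is a separable extension of k of degree at most 2g - 2. -/
theorem result (k : Type u) [Field k] (X : Scheme.{u}) [X.Over (Spec (CommRingCat.of k))]
    (hX : Curve.IsSmoothProperCurve k X (X ↘ (Spec (CommRingCat.of k)))) (h0 : Module.finrank k (Coh.HH X (Coh.structureModule X) 0) = 1) (hg : 2 ≤ Curv2.genus k X) :
    ∃ x : X, IsClosed ({x} : Set X) ∧ Algebra.IsSeparable k (X.residueField x) ∧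
      Module.finrank k (X.residueField x) ≤ 2 * Curv2.genus k X - 2 ∧ FiniteDimensional k (X.residueField x) := by
  obtain ⟨hp, hs, hint, hdim⟩ := hX
  haveI := hp
  haveI := hs
  haveI := hint
  haveI : CompactSpace X := QuasiCompact.compactSpace_of_compactSpace (X ↘ Spec (CommRingCat.of k))
  by_cases hperf : PerfectField k
  · -- any zero of a section of the differentials
    obtain ⟨hh, hdeg⟩ := Groth.Agent.CurveBC.canonical_invariants k X hdim h0
    obtain ⟨x, hx, hle⟩ := aux_zero k hdim h0 hg
    have hfin := aux_finite k x hx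
    refine ⟨x, hx, ?_, hle, hfin⟩
    haveI := hfin
    haveI : Algebra.IsAlgebraic k (X.residueField x) := Algebra.IsAlgebraic.of_finite k _
    exact Algebra.IsAlgebraic.isSeparable_of_perfectField
  · haveI : Infinite k := by
      by_contra hk
      haveI : Finite k := not_infinite_iff_finite.1 hk
      exact hperf PerfectField.ofFinite
    exact aux_imperfect k hdim h0 hg

end Groth.Agent.S1565
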