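import Groth.Statements.S15650
import Groth.Agent.StrictNode.Main
-- import your own Groth.Agent.* helpers here

set_option autoImplicit false
universe u
open StrictSS

attribute [-instance] CategoryTheory.catToReflQuiver

namespace Groth.Agent.S15650

open CategoryTheory CategoryTheory.Limits AlgebraicGeometry in
/-- Let k be a separably closed field and (C, D) a semistable multipointed curve over Spec k with C and
D reduced, and assume that every irreducible component of C carries a reduced closed subscheme
structure which is smooth over k. Then (C, D) is strictly semistable. (The published remark asserts
that, for semistable curves over such a field, strict semistability is equivalent to smoothness of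
the irreducible components; this row is the converse implication. Semistability cannot be dropped:
three concurrent lines in the plane have smooth components and no chart at the common point.) -/
theorem result
    (k : Type u) [Field k] [IsSepClosed k]
    {C D : Scheme.{u}} (φ : C ⟶ Spec (CommRingCat.of k)) (i : D ⟶ C) [IsReduced C] [IsReduced D]
    (hss : SSMod.IsSemistable φ i)
    (hZ : ∀ Z ∈ irreducibleComponents (C : Type u), ∃ (W : Scheme.{u}) (e : W ⟶ C),
      IsClosedImmersion e ∧ IsReduced W ∧ Set.range e.base = Z ∧ Smooth (e ≫ φ)) :
    StrictSS.IsStrictlySemistable φ i := by
  exact Groth.Agent.StrictNode.isStrictlySemistable φ i hss hZ

end Groth.Agent.S15650
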