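import Groth.Statements.S15686
import Groth.Agent.StkTwLib.Exists
import Groth.Agent.StkTwLib.Twist
import Groth.Agent.StkTwLib.Count
-- import your own Groth.Agent.* helpers here

set_option autoImplicit false
universe u
open CategoryTheory AlgebraicGeometry MonObj
open StackCount

namespace Groth.Agent.S15686

open MonObj Groth.Agent.StkTwLib

/-- Let k be a finite field with algebraic closure k̄, G a smooth affine algebraic group over k acting
on a variety X over k (reduced and of finite type), and [X/G] the quotient stack whose objects over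
a k-scheme T are G-torsors P → T (schemes, locally trivial for the étale topology) with a
G-equivariant morphism P → X. Suppose the Galois cohomology set H¹(k, G) (continuous cocycles of
Gal(k̄/k) with values in G(k̄), up to equivalence) is finite, and choose for every class c a
continuous cocycle z_c in it, a twist X_c of X by z_c through the action (a k-scheme whose base
change to k̄ is identified with that of X so that the Galois action becomes x ↦ z_c(σ) · σx), and
the inner form G_c of G determined by z_c. If the groupoid of k-points of [X/G] is essentially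
finite, then its point count (the sum over isomorphism classes of the inverse orders of the
automorphism groups) equals the sum over the classes c of #X_c(k) / #G_c(k). (The published
statement is for the k′-points over any finite extension k′ of k and for any smooth algebraic group
G; this row is the case k′ = k, to which the general case reduces by base change, and takes G affine
so that every torsor is a scheme.) -/
theorem result (k : Type u) [Field k] [Finite k]
    (kb : Type u) [Field kb] [Algebra k kb] [IsAlgClosure k kb]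
    (G : Over (Spec (CommRingCat.of k))) [GrpObj G] [Smooth G.hom] [IsAffineHom G.hom]
    (X : Over (Spec (CommRingCat.of k))) [LocallyOfFiniteType X.hom] [QuasiCompact X.hom]
    [IsReduced X.left] (aX : AlgGrp.Action G X)
    [Fintype (GpH1.H1lc (kb ≃ₐ[k] kb) (SGA7.Pts kb G))]
    (z : GpH1.H1lc (kb ≃ₐ[k] kb) (SGA7.Pts kb G) → GpH1.OneCocycleLC (kb ≃ₐ[k] kb) (SGA7.Pts kb G))
    (hz : ∀ c, (z c).cl = c)
    (Xz : GpH1.H1lc (kb ≃ₐ[k] kb) (SGA7.Pts kb G) → Over (Spec (CommRingCat.of k)))
    (hXz : ∀ c, GalTw.IsActTwist kb aX (z c).1 (Xz c))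
    (Gin : GpH1.H1lc (kb ≃ₐ[k] kb) (SGA7.Pts kb G) → Over (Spec (CommRingCat.of k)))
    [∀ c, GrpObj (Gin c)]
    (hGin : ∀ c, GalTw.IsInnTwist kb G (z c).1 (Gin c))
    (h : StkCnt.IsEssFinite (StkCnt.pts (AlgSt.QuotSt Scheme.etalePrecoverage G aX) k)) :
    StkCnt.ptCount (AlgSt.QuotSt Scheme.etalePrecoverage G aX) k h =
      ∑ c : GpH1.H1lc (kb ≃ₐ[k] kb) (SGA7.Pts kb G),
        (Nat.card (SGA7.Pts k (Xz c)) : ℚ) / (Nat.card (SGA7.Pts k (Gin c)) : ℚ) := by
  haveI : IsAlgClosed kb := IsAlgClosure.isAlgClosed k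
  haveI : Algebra.IsAlgebraic k kb := IsAlgClosure.isAlgebraic
  haveI : IsGalois k kb := inferInstance
  haveI : IsAffine G.left := isAffine_of_isAffineHom G.hom
  let Γ : GpH1.H1lc (kb ≃ₐ[k] kb) (SGA7.Pts kb G) → Subgroup (SGA7.Pts kb G) := fun c =>
    { carrier := {g | ∀ σ, (z c).1 σ * σ • g = g * (z c).1 σ}
      one_mem' := fun σ => by rw [smul_one, _root_.mul_one, _root_.one_mul]
      mul_mem' := fun {g g'} hg hg' σ => by
        rw [smul_mul', ← _root_.mul_assoc, hg σ, _root_.mul_assoc, hg' σ, _root_.mul_assoc]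
      inv_mem' := fun {g} hg σ => by
        rw [smul_inv', eq_inv_mul_iff_mul_eq, ← _root_.mul_assoc, ← hg σ, _root_.mul_assoc, mul_inv_cancel,
          _root_.mul_one] }
  let M : GpH1.H1lc (kb ≃ₐ[k] kb) (SGA7.Pts kb G) → Type u := fun c =>
    {x : SGA7.Pts kb X // ∀ σ, sm aX ((z c).1 σ) (σ • x) = x}
  letI actI : ∀ c, MulAction (Γ c) (M c) := fun c =>
    { smul := fun g x => ⟨sm aX g.1 x.1, mk_move aX x.2 g.2⟩
      one_smul := fun x => Subtype.ext (sm_one aX x.1)
      mul_smul := fun g g' x => Subtype.ext (sm_sm aX g.1 g'.1 x.1).symm }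
  haveI hM : ∀ c, Finite (M c) := fun c => by
    obtain ⟨L, hL, hz1⟩ := exists_fixing_one (z c)
    refine ((finite_fixed X L).subset fun x hx σ hσ => ?_ : {x : SGA7.Pts kb X | ∀ σ, sm aX ((z c).1 σ) (σ • x) = x}.Finite).to_subtype
    simpa [hz1 σ hσ, sm_one] using hx σ
  haveI : QuasiCompact G.hom := inferInstance
  haveI hΓ : ∀ c, Finite (Γ c) := fun c => by
    obtain ⟨L, hL, hz1⟩ := exists_fixing_one (z c)
    refine ((finite_fixed G L).subset fun x hx σ hσ => ?_ : ((Γ c : Set (SGA7.Pts kb G))).Finite).to_subtype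
    have h2 := hx σ
    simpa [hz1 σ hσ] using h2
  have hobj : ∀ c (x : M c), ∃ (A : StkCnt.pts (AlgSt.QuotSt Scheme.etalePrecoverage G aX) k)
      (b : SGA7.Pts kb A.1.P), Mk A.1.act (z c).1 b ∧ b ≫ A.1.φ = x.1 := fun c x => exists_obj (z c) x.1 x.2
  choose obj b hb hbx using hobj
  show StkCnt.count _ h = _
  rw [count_actions h (Γ := fun c => Γ c) (M := M) obj ?_ ?_ ?_]
  · refine Finset.sum_congr rfl fun c _ => ?_
    rw [card_actTwist aX (z c).1 (hXz c), card_innTwist (z c).1 (hGin c)]
    rfl
  · intro A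
    obtain ⟨p, hp⟩ := exists_point (B := kb) A
    obtain ⟨w, hw⟩ := exists_cocycle (isTrs_obj A) hp
    obtain ⟨g, hg⟩ := (GpH1.OneCocycleLC.cl_eq_cl_iff w (z w.cl)).1 (hz w.cl).symm
    have hg' : ∀ σ, (z w.cl).1 σ * σ • g = g * w.1 σ := fun σ => by rw [hg σ]; group
    have hp' := mk_move _ hw hg'
    let x : M w.cl := ⟨_, mk_comp A.1.act aX A.1.φ A.1.eqv hp'⟩
    refine ⟨w.cl, x, ?_⟩
    obtain ⟨e, -⟩ := exists_hom (hb _ x) hp'
    haveI := StkMassLib.isIso_hom (e.symm ⟨1, fun σ => by rw [smul_one, _root_.mul_one, _root_.one_mul],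
      by rw [sm_one]; exact (hbx _ x).symm⟩)
    exact ⟨asIso (e.symm ⟨1, fun σ => by rw [smul_one, _root_.mul_one, _root_.one_mul],
      by rw [sm_one]; exact (hbx _ x).symm⟩)⟩
  · rintro c c' x x' ⟨i⟩
    obtain ⟨e, -⟩ := exists_hom (hb c x) (hb c' x')
    obtain ⟨g, hg, -⟩ := e i.hom
    refine ((hz c).symm.trans ?_).trans (hz c')
    refine ((GpH1.OneCocycleLC.cl_eq_cl_iff _ _).2 ⟨g, fun σ => ?_⟩).symm
    rw [_root_.mul_assoc, hg σ, inv_mul_cancel_left]
  · intro c x x'
    obtain ⟨e, -⟩ := exists_hom (hb c x) (hb c x')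
    refine ⟨(Equiv.ofBijective (fun i : obj c x ≅ obj c x' => i.hom)
      ⟨fun _ _ e => Iso.ext e, fun f => haveI := StkMassLib.isIso_hom f; ⟨asIso f, rfl⟩⟩).trans (e.trans
      { toFun := fun g => ⟨⟨g.1, g.2.1⟩, Subtype.ext (by
          show sm aX g.1 x'.1 = x.1
          rw [← hbx c x', ← hbx c x]
          exact g.2.2)⟩
        invFun := fun g => ⟨g.1.1, g.1.2, by
          rw [hbx c x', hbx c x]
          exact congrArg Subtype.val g.2⟩
        left_inv := fun _ => rfl
        right_inv := fun _ => rfl })⟩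

end Groth.Agent.S15686
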