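import Groth.Statements.S15701
import Mathlib.AlgebraicGeometry.Morphisms.Separated

set_option autoImplicit false
universe u
open CategoryTheory AlgebraicGeometry
open RatVar

namespace Groth.Agent.S15701

/-- A faithful action of a finite group on a geometrically integral variety is almost free. Here k is a
field of characteristic zero, X is an integral separated scheme of finite type over k, and the
finite group G acts on X by k-automorphisms through an injective homomorphism to Aut X; the
conclusion is a non-empty G-stable open subscheme U of X such that for every field K and every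
morphism Spec K → X whose image lies in U, an element of G fixing that K-point is the identity. (X
is taken separated: for the affine line with a doubled origin and the involution exchanging the two
origins the action is faithful while every point off the origins is fixed, so no such U exists;
integrality replaces geometric integrality, which is all the codimension argument uses.) -/
theorem result (k : Type u) [Field k] [CharZero k]
    (X : Scheme.{u}) (f : X ⟶ Spec (CommRingCat.of k)) [IsIntegral X] [LocallyOfFiniteType f]
    [QuasiCompact f] [IsSeparated f]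
    (G : Type u) [Group G] [Finite G] (ρ : G →* Aut X)
    (hρ : ∀ g : G, (ρ g).hom ≫ f = f) (hfaith : Function.Injective ρ) :
    ∃ U : X.Opens, (U : Set X).Nonempty ∧ (∀ g : G, (ρ g).hom ⁻¹ᵁ U = U) ∧
      ∀ (K : Type u) [Field K] (x : Spec (CommRingCat.of K) ⟶ X),
        Set.range x.base ⊆ (U : Set X) → ∀ g : G, x ≫ (ρ g).hom = x → g = 1 := by
  classical
  let F := {g : G // g ≠ 1}
  have : Finite F := inferInstance
  have hstep : ∀ g : F, ∃ V : X.Opens, (V : Set X).Nonempty ∧
      ∀ (K : Type u) [Field K] (x : Spec (CommRingCat.of K) ⟶ X),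
        Set.range x.base ⊆ (V : Set X) → x ≫ (ρ g.1).hom ≠ x := by
    intro g
    let a : Over.mk f ⟶ Over.mk f := Over.homMk (ρ g.1).hom (hρ g.1)
    have : IsSeparated (Over.mk f).hom := ‹IsSeparated f›
    let j : (Limits.equalizer a (𝟙 (Over.mk f))).left ⟶ X := (Limits.equalizer.ι a (𝟙 (Over.mk f))).left
    have : IsClosedImmersion j := isClosedImmersion_equalizer_ι_left a (𝟙 (Over.mk f))
    refine ⟨⟨(Set.range j.base)ᶜ, j.isClosedEmbedding.isClosed_range.isOpen_compl⟩, ?_, ?_⟩
    · show ((Set.range j.base)ᶜ).Nonempty
      rw [Set.nonempty_compl]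
      intro htop
      have : Surjective j := ⟨Set.range_eq_univ.1 htop⟩
      have : IsIso j := isIso_of_isClosedImmersion_of_surjective j
      have h1 := congrArg CommaMorphism.left (Limits.equalizer.condition a (𝟙 (Over.mk f)))
      have h2 : (ρ g.1).hom = 𝟙 X := by
        rw [← cancel_epi j]
        exact h1
      exact g.2 (hfaith (by rw [map_one]; exact Iso.ext h2))
    · intro K _ x hx hfix
      let x' : Over.mk (x ≫ f) ⟶ Over.mk f := Over.homMk x rfl
      have hx' : x' ≫ a = x' ≫ 𝟙 (Over.mk f) := by
        ext1
        simp [x', a, hfix]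
      have hl := congrArg CommaMorphism.left (Limits.equalizer.lift_ι x' hx')
      let p : ↥(Spec (CommRingCat.of K)) := IsLocalRing.closedPoint K
      refine hx ⟨p, rfl⟩ ⟨((Limits.equalizer.lift x' hx').left).base p, ?_⟩
      rw [← Scheme.Hom.comp_apply]
      exact congrArg (fun φ : Spec (CommRingCat.of K) ⟶ X => φ.base p) hl
  choose V hVne hV using hstep
  let U₀ : X.Opens := ⨅ g : F, V g
  have hU₀ : (U₀ : Set X) = ⋂ g : F, (V g : Set X) := by
    simp only [U₀, TopologicalSpace.Opens.coe_iInf]
  let U : X.Opens := ⨅ h : G, (ρ h).hom ⁻¹ᵁ U₀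
  have hU : (U : Set X) = ⋂ h : G, (ρ h).hom.base ⁻¹' (U₀ : Set X) := by
    simp only [U, TopologicalSpace.Opens.coe_iInf]
    rfl
  have hgen : genericPoint X ∈ (U₀ : Set X) := by
    rw [hU₀, Set.mem_iInter]
    exact fun g => ((genericPoint_spec X).mem_open_set_iff (V g).isOpen).2 (by simpa using hVne g)
  refine ⟨U, ⟨genericPoint X, ?_⟩, fun g => ?_, fun K _ x hx g hfix => ?_⟩
  · rw [hU, Set.mem_iInter]
    intro h
    show (ρ h).hom.base (genericPoint X) ∈ (U₀ : Set X)
    have : IsGenericPoint ((ρ h).hom.base (genericPoint X)) (Set.univ : Set X) :=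
      by
        have h' := (genericPoint_spec X).image (ρ h).hom.base.hom.continuous
        have hs : Function.Surjective ⇑(ρ h).hom.base := fun y => ⟨(ρ h).inv.base y, by
          have hid : (ρ h).inv ≫ (ρ h).hom = 𝟙 X := Iso.inv_hom_id _
          exact congrArg (fun φ : X ⟶ X => φ.base y) hid⟩
        rwa [Set.image_univ, hs.range_eq, closure_univ] at h'
    rw [this.eq (genericPoint_spec X)]
    exact hgen
  · ext y
    change (ρ g).hom.base y ∈ (U : Set X) ↔ y ∈ (U : Set X)
    rw [hU]
    simp only [Set.mem_iInter, Set.mem_preimage]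
    have hcomp : ∀ h : G, (ρ h).hom.base ((ρ g).hom.base y) = (ρ (h * g)).hom.base y := by
      intro h
      rw [map_mul]
      rfl
    simp only [hcomp]
    exact ⟨fun hy h => by simpa using hy (h * g⁻¹), fun hy h => hy _⟩
  · by_contra hg
    refine hV ⟨g, hg⟩ K x (hx.trans ?_) hfix
    rw [hU]
    intro y hy
    have := Set.mem_iInter.1 hy 1
    rw [Set.mem_preimage, map_one] at this
    rw [hU₀] at this
    exact Set.mem_iInter.1 this ⟨g, hg⟩

end Groth.Agent.S15701
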