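import Groth.Statements.S15712
import Groth.Agent.AssPtX.Noeth
import Groth.Agent.S5752

set_option linter.style.haveILetI false
set_option backward.isDefEq.respectTransparency false
set_option backward.isDefEq.respectTransparency.types false

set_option autoImplicit false
universe u
open CategoryTheory AlgebraicGeometry TopologicalSpace
open RatSing

namespace Groth.Agent.S15712

open TopologicalSpace Groth.Agent

/-- Let X be a locally Noetherian scheme with Serre's property (S_1), i.e. every local ring O_{X,x} has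
depth at least min(1, dim O_{X,x}) (for instance X Cohen–Macaulay), and let U ⊆ X be open. Then
scheme-theoretic density of U in X is equivalent to U being dense as a subset. (The published
statement assumes every scheme excellent, in particular locally Noetherian.) -/
theorem result (X : Scheme.{u}) [IsLocallyNoetherian X]
    (hS1 : ∀ x : X, min (1 : WithBot ℕ∞) (ringKrullDim (X.presheaf.stalk x)) ≤
      ((LocCoh.depth (X.presheaf.stalk x) (X.presheaf.stalk x) : ℕ∞) : WithBot ℕ∞))
    (U : X.Opens) : CInt.IsSchematicallyDense U ↔ Dense (U : Set X) := by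
  refine ⟨fun h => dense_iff_inter_open.2 fun W hW hne => ?_, fun hd => (AssPtX.isSchematicallyDense_iff U).2 fun x hx => ?_⟩
  · by_contra he
    let V : X.Opens := ⟨W, hW⟩
    have hVU : V ⊓ U = ⊥ := Opens.ext (Set.not_nonempty_iff_eq_empty.1 he)
    haveI : Subsingleton Γ(X, V ⊓ U) := by rw [hVU]; infer_instance
    have h10 : (1 : Γ(X, V)) = 0 := h V (Subsingleton.elim _ _)
    obtain ⟨x, hx⟩ := hne
    have h2 := X.basicOpen_of_isUnit (U := V) isUnit_one
    rw [h10, Scheme.basicOpen_zero] at h2
    exact ((SetLike.ext_iff.1 h2 x).2 hx : x ∈ (⊥ : X.Opens))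
  have hdep : LocCoh.depth (X.presheaf.stalk x) (X.presheaf.stalk x) = 0 :=
    (S5752.result (X.presheaf.stalk x) (X.presheaf.stalk x)).2 hx
  have hdim : ringKrullDim (X.presheaf.stalk x) ≤ 0 := by
    have h := hS1 x
    rw [hdep] at h
    rcases min_le_iff.1 h with h1 | h1
    · exact absurd h1 (by decide)
    · exact h1
  rw [ringKrullDim_stalk_eq_coheight] at hdim
  have hmax : IsMax x := Order.coheight_eq_zero.1 (le_antisymm (by exact_mod_cast hdim) zero_le)
  obtain ⟨V, hV, hxV, -⟩ := exists_isAffineOpen_mem_and_subset (x := x) (U := ⊤) trivial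
  haveI := IsLocallyNoetherian.component_noetherian ⟨V, hV⟩
  haveI : IsNoetherianRing Γ(X, V) := IsLocallyNoetherian.component_noetherian ⟨V, hV⟩
  haveI : IsAffine (V : Scheme) := hV
  haveI : IsLocallyNoetherian (V : Scheme) := isLocallyNoetherian_of_isOpenImmersion V.ι
  haveI : IsNoetherian (V : Scheme) := {}
  let x' : (V : Scheme) := ⟨x, hxV⟩
  have hfin := NoetherianSpace.finite_irreducibleComponents (α := (V : Scheme))
  have hcl := (hfin.sdiff (t := {closure ({x'} : Set (V : Scheme))})).isClosed_biUnion (f := id)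
    fun Z hZ => isClosed_of_mem_irreducibleComponents Z hZ.1
  have hmax' : ∀ y : (V : Scheme), y ⤳ x' → y = x' := fun y hy => Subtype.ext (by
    have h1 : y.1 ⤳ x := hy.map continuous_subtype_val
    exact (Specializes.antisymm (hmax (b := y.1) h1 : x ⤳ y.1) h1).eq.symm)
  have hxW : x' ∈ ((⋃ Z ∈ irreducibleComponents (V : Scheme) \ {closure ({x'} : Set (V : Scheme))}, id Z))ᶜ := by
    intro hm
    obtain ⟨Z, ⟨hZ, hne⟩, hxZ⟩ := Set.mem_iUnion₂.1 hm
    obtain ⟨η, hη⟩ := QuasiSober.sober hZ.1 (isClosed_of_mem_irreducibleComponents Z hZ)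
    exact hne (Set.mem_singleton_iff.2 (by rw [← hη.def, hmax' η (hη.specializes hxZ)]))
  let O : Set X := (fun y : (V : Scheme) => y.1) '' ((⋃ Z ∈ irreducibleComponents (V : Scheme) \ {closure ({x'} : Set (V : Scheme))}, id Z))ᶜ
  have hO : IsOpen O := V.2.isOpenMap_subtype_val _ hcl.isOpen_compl
  obtain ⟨_, ⟨y, hy, rfl⟩, hyU⟩ := hd.inter_open_nonempty O hO ⟨x, x', hxW, rfl⟩
  obtain ⟨Z, hZ, hyZ⟩ : ∃ Z ∈ irreducibleComponents (V : Scheme), y ∈ Z :=
    ⟨_, irreducibleComponent_mem_irreducibleComponents y, mem_irreducibleComponent⟩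
  have hZx : Z = closure ({x'} : Set (V : Scheme)) := by
    by_contra hne
    exact hy (Set.mem_iUnion₂.2 ⟨Z, ⟨hZ, hne⟩, hyZ⟩)
  rw [hZx, ← specializes_iff_mem_closure] at hyZ
  exact (hyZ.map continuous_subtype_val).mem_open U.2 hyU

end Groth.Agent.S15712
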