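import Groth.Statements.S15715
import Groth.Agent.AssPtX.Noeth
import Groth.Agent.InvX.Frame

set_option linter.style.haveILetI false
set_option backward.isDefEq.respectTransparency false
set_option backward.isDefEq.respectTransparency.types false

set_option autoImplicit false
universe u
open CategoryTheory AlgebraicGeometry TopologicalSpace
open RatSing

namespace Groth.Agent.S15715

open TopologicalSpace Groth.Agent

/-- Let X be a locally Noetherian scheme, φ : F → G a homomorphism of O_X-modules with F quasi-coherent
and torsion-free (over every affine open V, no nonzero section of F is killed by a regular element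
of O_X(V)), and U a scheme-theoretically dense open subset of X such that the restriction of φ to U
is injective. Then φ is injective. (The published statement allows an arbitrary O_X-module F; for
the skyscraper sheaf on the affine line over a field, placed at a closed point with value the local
ring at that point, which is torsion-free in this sense, the zero map to the zero module is
injective over the dense open complement of the point but not injective. This row takes F
quasi-coherent.) -/
theorem result (X : Scheme.{u})
    [IsLocallyNoetherian X] (F G : X.Modules) (hF : Coh.IsQCoh F)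
    (htf : ∀ V : X.affineOpens, Submodule.torsion Γ(X, V.1) (F.val.obj (Opposite.op V.1)) = ⊥)
    (φ : F ⟶ G) (U : X.Opens) (hU : CInt.IsSchematicallyDense U)
    (hφU : ∀ V : X.Opens, V ≤ U → Function.Injective ⇑(ConcreteCategory.hom (φ.val.app (Opposite.op V)))) (V : X.Opens) :
    Function.Injective ⇑(ConcreteCategory.hom (φ.val.app (Opposite.op V))) := by
  classical
  show Function.Injective (φ.app V)
  refine (injective_iff_map_eq_zero _).2 fun s hs => AModX.eq_of_locally _ _ fun x hx => ?_
  obtain ⟨W, hW, hxW, hWV'⟩ := exists_isAffineOpen_mem_and_subset (x := x) (U := V) hx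
  have hWV : W ≤ V := hWV'
  refine ⟨W, hWV, hxW, ?_⟩
  rw [map_zero]
  haveI : IsNoetherianRing Γ(X, W) := IsLocallyNoetherian.component_noetherian ⟨W, hW⟩
  let I : Ideal Γ(X, W) := ⨅ y : {y : W // y.1 ∉ U}, (hW.primeIdealOf y.1).asIdeal
  have hI : ∀ a ∈ I, X.basicOpen a ≤ U := fun a ha y hy => by
    by_contra hyU
    have hyW : y ∈ W := X.basicOpen_le a hy
    exact (QCoh.mem_basicOpen_iff_notMem hW hyW a).1 hy ((Ideal.mem_iInf.1 ha) ⟨⟨y, hyW⟩, hyU⟩)
  obtain ⟨a, haI, hareg⟩ : ∃ a ∈ I, a ∈ nonZeroDivisors Γ(X, W) := by
    by_contra! hno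
    have hlt := Ideal.bot_lt_annihilator_of_disjoint_nonZeroDivisors (I := I)
      (Set.disjoint_left.2 fun a ha hb => hno a ha hb)
    obtain ⟨t, ht, ht0⟩ := SetLike.exists_of_lt hlt
    refine ht0 ((Submodule.mem_bot Γ(X, W)).2 (hU W ?_))
    rw [map_zero]
    refine TopCat.Presheaf.section_ext X.sheaf (W ⊓ U) _ 0 fun y hy => ?_
    rw [map_zero]
    show X.presheaf.germ (W ⊓ U) y hy (X.presheaf.map (homOfLE inf_le_left).op t) = 0
    rw [X.presheaf.germ_res_apply]
    obtain ⟨f, hfU, hyf⟩ := hW.exists_basicOpen_le ⟨y, hy.2⟩ hy.1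
    have hfI : f ∈ I := Ideal.mem_iInf.2 fun z => by
      by_contra hz
      exact z.2 (hfU ((QCoh.mem_basicOpen_iff_notMem hW z.1.2 f).2 hz))
    have hft : f * t = 0 := by
      have := Submodule.mem_annihilator.1 ht f hfI
      rwa [smul_eq_mul, mul_comm] at this
    refine ((X.mem_basicOpen f y hy.1).1 hyf).mul_left_cancel ?_
    rw [← map_mul, hft, map_zero, mul_zero]
  let D := X.basicOpen a
  letI := QCoh.basicModule a F
  have h1 : AModX.res F (X.basicOpen_le a) (AModX.res F hWV s) = 0 := by
    refine hφU D (hI a haI) ?_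
    show φ.app D _ = φ.app D 0
    rw [map_zero, AModX.res_res, AModX.app_res, hs, map_zero]
  haveI := QCoh.isLocalizedModule_basicRes a hF hW
  obtain ⟨⟨b, n, rfl⟩, hb⟩ := (IsLocalizedModule.eq_zero_iff (Submonoid.powers a) (QCoh.basicRes a F)).1 h1
  have hmem : AModX.res F hWV s ∈ Submodule.torsion Γ(X, W) Γ(F, W) :=
    Submodule.mem_torsion_iff _ |>.2 ⟨⟨a ^ n, pow_mem hareg n⟩, hb⟩
  exact (Submodule.mem_bot Γ(X, W)).1 ((htf ⟨W, hW⟩).le hmem)

end Groth.Agent.S15715
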