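import Groth.Statements.S1575
import Groth.Agent.ZClosLib.ClosedDepth
import Groth.Agent.RefX.Ext

set_option autoImplicit false
universe u
open CategoryTheory CategoryTheory.Limits AlgebraicGeometry
open Divisors

namespace Groth.Agent.Ref1X

theorem bij_congr {X : Scheme.{u}} (F : X.Modules) {U U' W : X.Opens} (h : U' = U)
    (hb : Function.Bijective (Groth.Agent.ZClosLib.res F (inf_le_left : W ⊓ U' ≤ W))) :
    Function.Bijective (AModX.res F (inf_le_left : W ⊓ U ≤ W)) := by
  subst h
  exact hb

end Groth.Agent.Ref1X

namespace Groth.Agent.S1575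

/-- Let X be locally Noetherian, F coherent, and U open such that at every point outside U the stalk of
F has depth at least two over the local ring. Then F → j_*(F|_U) is an isomorphism: for every open
V, restriction of sections Γ(V, F) → Γ(V ∩ U, F) is a bijection. -/
theorem result (X : Scheme.{u}) [IsLocallyNoetherian X]
    (F : X.Modules) (hF : Coh.IsCoh F) (U : X.Opens)
    (hdepth : ∀ x : X, x ∉ U → 2 ≤ LocCoh.depth (X.presheaf.stalk x) (F.presheaf.stalk x)) (V : X.Opens) :
    Function.Bijective (F.val.presheaf.map (homOfLE (inf_le_left : V ⊓ U ≤ V)).op) := by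
  have hZ : StableUnderSpecialization ((U : Set X)ᶜ) := U.isOpen.stableUnderGeneralization.compl
  have h0 : ZClos.IsZClosed ((U : Set X)ᶜ) F := Groth.Agent.ZClosLib.isIso_of_stalkMap_bijective _
    (fun x => Groth.Agent.ZClosLib.isZClosedAt_of_two_le_depth hF hZ fun x' _ hx' => hdepth x' hx')
  have h2 : Groth.Agent.RefX.ExtendsAcross U F := by
    refine Groth.Agent.RefX.extendsAcross_of_affine _ fun W hW => ?_
    have h1 := Groth.Agent.ZClosLib.isZClosed_iff_forall_bijective.1 h0
      ⟨U.compl, subset_refl _⟩ W hW.isCompact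
    have h3 : ZClos.Cl.U (Z := (U : Set X)ᶜ) ⟨U.compl, subset_refl _⟩ = U := TopologicalSpace.Opens.ext (compl_compl _)
    exact Groth.Agent.Ref1X.bij_congr F h3 h1
  exact h2 V

end Groth.Agent.S1575
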