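import Groth.Statements.S15756
import Groth.Agent.H9Elkik.Section
import Groth.Agent.H9Elkik.Completion

set_option autoImplicit false
universe u
open CAlg

namespace Groth.Agent.S15756

/-- Case of the whole affine base U = Spec A, the unit ideal I = A and an affine scheme X: let A be a
ring with an element t such that (A, tA) is a Henselian pair and the t-power torsion of A is
bounded, let Â be the t-adic completion, and let B be an A-algebra of finite type with B[1/t] smooth
over A[1/t]. Then every A-algebra homomorphism B → Â is congruent modulo t^n, for any prescribed n,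
to an A-algebra homomorphism B → A. (The published statement allows any quasi-compact open U of Spec
A containing Spec A[1/t], any bounded Zariski Gabber–Ramero triple (A, t, I) that is Henselian (or,
instead, satisfies a lifting condition for Zariski pairs over A[1/t]), and U-schemes locally of
finite type that are ind-quasi-affine or subprojective and smooth over A[1/t], and it asserts
density of X(U) in X(U_Â) for the (t, I)-adic topology; this row is the case U = Spec A, I = A, X =
Spec B affine, under the Henselian alternative.) -/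
theorem result (A : Type u) [CommRing A] (t : A)
    [HenselianRing A (Ideal.span {t})]
    (hbd : ∃ N : ℕ, ∀ a : A, (∃ m : ℕ, t ^ m * a = 0) → t ^ N * a = 0)
    (B : Type u) [CommRing B] [Algebra A B] [Algebra.FiniteType A B]
    (hsm : Algebra.Smooth (Localization.Away t)
      (Localization (Algebra.algebraMapSubmonoid B (Submonoid.powers t))))
    (n : ℕ) (σ : B →ₐ[A] AdicCompletion (Ideal.span {t}) A) :
    ∃ τ : B →ₐ[A] A,
      (Ideal.Quotient.mkₐ A (Ideal.span {t} ^ n)).comp τ =
        (AdicCompletion.evalₐ (Ideal.span {t}) n).comp σ := by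
  classical
  obtain ⟨N, hN⟩ := hbd
  haveI := hsm
  let At := Localization.Away t
  let φ : A →+* AdicCompletion (Ideal.span {t}) A := algebraMap A _
  let ψ : At →+* Localization.Away (φ t) := Localization.awayMap φ t
  have hψ : ∀ a, ψ (algebraMap A At a) = algebraMap _ _ (φ a) := fun a => IsLocalization.map_eq _ a
  let Bt := Localization (Algebra.algebraMapSubmonoid B (Submonoid.powers t))
  have hunit : ∀ y : Algebra.algebraMapSubmonoid B (Submonoid.powers t),
      IsUnit (((algebraMap _ (Localization.Away (φ t))).comp σ.toRingHom) y) := by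
    rintro ⟨_, _, ⟨e, rfl⟩, rfl⟩
    show IsUnit (algebraMap _ (Localization.Away (φ t)) (σ (algebraMap A B (t ^ e))))
    rw [σ.commutes, map_pow, map_pow]
    exact (IsLocalization.Away.algebraMap_isUnit (φ t)).pow e
  let σt : Bt →+* Localization.Away (φ t) :=
    IsLocalization.lift (M := Algebra.algebraMapSubmonoid B (Submonoid.powers t)) (S := Bt) hunit
  have hσt : ∀ b, σt (algebraMap B Bt b) = algebraMap _ _ (σ b) := fun b => IsLocalization.lift_eq hunit b
  have hσtA : ∀ z, σt (algebraMap At Bt z) = ψ z := fun z => by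
    have : σt.comp (algebraMap At Bt) = ψ := IsLocalization.ringHom_ext (Submonoid.powers t) (RingHom.ext fun a => by
      rw [RingHom.comp_apply, RingHom.comp_apply, RingHom.comp_apply, ← IsScalarTower.algebraMap_apply A At Bt,
        IsScalarTower.algebraMap_apply A B Bt, hσt, σ.commutes, hψ])
    exact RingHom.congr_fun this z
  obtain ⟨r, π, hπ⟩ := Algebra.FiniteType.iff_quotient_mvPolynomial''.1 (inferInstance : Algebra.FiniteType A B)
  let P := n + N
  obtain ⟨τt, hτt⟩ := Groth.Agent.H9Elkik.exists_section φ ψ hψ (Groth.Agent.H9Elkik.completion_inj A t)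
    (Groth.Agent.H9Elkik.completion_surj A t) σt hσtA P (fun j => algebraMap B Bt (π (MvPolynomial.X j)))
  choose c hc using hτt
  have hex : ∀ j : Fin r, ∃ a : A, algebraMap A At a = τt (algebraMap B Bt (π (MvPolynomial.X j))) ∧
      σ (π (MvPolynomial.X j)) - φ a ∈ Ideal.span {φ t ^ P} := by
    intro j
    obtain ⟨e, x, hx⟩ := IsLocalization.Away.surj (S := At) t (τt (algebraMap B Bt (π (MvPolynomial.X j))))
    obtain ⟨a, ha⟩ := Groth.Agent.H9Elkik.completion_surj A t P (σ (π (MvPolynomial.X j)))
    obtain ⟨d, hd⟩ := Ideal.mem_span_singleton.1 ha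
    have h1 : algebraMap _ (Localization.Away (φ t)) (φ (x - t ^ e * a)) =
        algebraMap _ _ (φ t ^ (P + e) * (d - c j)) := by
      have h2 := congrArg ψ hx
      rw [map_mul, map_pow, hψ, hψ] at h2
      have h3 := hc j
      rw [hσt, show σ (π (MvPolynomial.X j)) = φ a + φ t ^ P * d from sub_eq_iff_eq_add'.1 hd] at h3
      simp only [map_sub, map_add, map_mul, map_pow, pow_add] at h3 ⊢
      linear_combination (algebraMap _ (Localization.Away (φ t)) (φ t)) ^ e * (-h3) - h2
    obtain ⟨⟨_, m, rfl⟩, hm⟩ := (IsLocalization.eq_iff_exists (Submonoid.powers (φ t)) _).1 h1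
    change φ t ^ m * φ (x - t ^ e * a) = φ t ^ m * (φ t ^ (P + e) * (d - c j)) at hm
    obtain ⟨y, hy⟩ := Ideal.mem_span_singleton.1 (Groth.Agent.H9Elkik.completion_inj A t (m + (P + e))
      (t ^ m * (x - t ^ e * a)) (Ideal.mem_span_singleton.2 ⟨d - c j, by
        rw [map_mul, map_pow]; show φ t ^ m * φ _ = _; rw [hm]; simp only [φ, pow_add]; ring⟩))
    refine ⟨a + t ^ P * y, ?_, ?_⟩
    · refine ((IsLocalization.Away.algebraMap_isUnit (S := At) t).pow (m + e)).mul_left_cancel ?_
      have h4 := congrArg (algebraMap A At) hy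
      simp only [map_mul, map_pow, map_sub, map_add, pow_add] at h4 hx ⊢
      linear_combination -h4 - (algebraMap A At t) ^ m * hx
    · rw [map_add, ← sub_sub, map_mul, map_pow]
      exact Ideal.sub_mem _ ha (Ideal.mul_mem_right _ _ (Ideal.mem_span_singleton_self _))
  choose a ha haσ using hex
  have hz : ∀ f : MvPolynomial (Fin r) A, φ (MvPolynomial.aeval a f) - σ (π f) ∈ Ideal.span {φ t ^ P} := by
    intro f
    induction f using MvPolynomial.induction_on with
    | C s =>
      rw [← MvPolynomial.algebraMap_eq, AlgHom.commutes, AlgHom.commutes, σ.commutes, Algebra.algebraMap_self, RingHom.id_apply]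
      show φ s - φ s ∈ _
      rw [sub_self]
      exact Ideal.zero_mem _
    | add f g hf hg =>
      simp only [map_add, add_sub_add_comm]
      exact Ideal.add_mem _ hf hg
    | mul_X f j hf =>
      simp only [map_mul, MvPolynomial.aeval_X]
      rw [show φ (MvPolynomial.aeval a f) * φ (a j) - σ (π f) * σ (π (MvPolynomial.X j)) =
        (φ (MvPolynomial.aeval a f) - σ (π f)) * φ (a j) - σ (π f) * (σ (π (MvPolynomial.X j)) - φ (a j)) by ring]
      exact Ideal.sub_mem _ (Ideal.mul_mem_right _ _ hf) (Ideal.mul_mem_left _ _ (haσ j))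
  have hker : ∀ f ∈ RingHom.ker π, MvPolynomial.aeval a f = 0 := fun f hf => by
    have hf0 : π f = 0 := hf
    have h1 : φ (MvPolynomial.aeval a f) ∈ Ideal.span {φ t ^ P} := by
      have := hz f
      rwa [hf0, map_zero, sub_zero] at this
    obtain ⟨y, hy⟩ := Ideal.mem_span_singleton.1 (Groth.Agent.H9Elkik.completion_inj A t P _ h1)
    have h2 : ∀ g : MvPolynomial (Fin r) A, algebraMap A At (MvPolynomial.aeval a g) = τt (algebraMap B Bt (π g)) := by
      intro g
      induction g using MvPolynomial.induction_on with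
      | C s =>
        rw [← MvPolynomial.algebraMap_eq, AlgHom.commutes, AlgHom.commutes, Algebra.algebraMap_self, RingHom.id_apply,
          ← IsScalarTower.algebraMap_apply A B Bt, IsScalarTower.algebraMap_apply A At Bt, τt.commutes,
          Algebra.algebraMap_self, RingHom.id_apply]
      | add f g hf hg => simp only [map_add, hf, hg]
      | mul_X f j hf => simp only [map_mul, MvPolynomial.aeval_X, hf, ha]
    have h3 : algebraMap A At (MvPolynomial.aeval a f) = 0 := by rw [h2, hf0, map_zero, map_zero]
    obtain ⟨⟨_, m, rfl⟩, hm⟩ := (IsLocalization.map_eq_zero_iff (Submonoid.powers t) At _).1 h3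
    change t ^ m * MvPolynomial.aeval a f = 0 at hm
    rw [hy, ← mul_assoc, ← pow_add] at hm
    rw [hy, show P = n + N from rfl, pow_add, mul_assoc, hN y ⟨_, hm⟩, mul_zero]
  let τ : B →ₐ[A] A := (Ideal.Quotient.liftₐ (RingHom.ker π) (MvPolynomial.aeval a) hker).comp
    (Ideal.quotientKerAlgEquivOfSurjective hπ).symm.toAlgHom
  refine ⟨τ, AlgHom.ext fun b => ?_⟩
  obtain ⟨f, rfl⟩ := hπ b
  have hτ : τ (π f) = MvPolynomial.aeval a f := by
    have : (Ideal.quotientKerAlgEquivOfSurjective hπ).symm (π f) = Ideal.Quotient.mk _ f := by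
      apply (Ideal.quotientKerAlgEquivOfSurjective hπ).injective
      rw [AlgEquiv.apply_symm_apply]
      rfl
    simp only [τ, AlgHom.comp_apply, AlgEquiv.toAlgHom_eq_coe, AlgHom.coe_coe]
    erw [this]
    rfl
  obtain ⟨d, hd⟩ := Ideal.mem_span_singleton.1 (hz f)
  have h := congrArg (AdicCompletion.evalₐ (Ideal.span {t}) n) hd
  simp only [map_sub, map_mul, map_pow, φ, AlgHom.commutes] at h
  have hP : (algebraMap A (A ⧸ Ideal.span {t} ^ n) t) ^ P = 0 := by
    rw [← map_pow]
    exact Ideal.Quotient.eq_zero_iff_mem.2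
      (Ideal.pow_le_pow_right (Nat.le_add_right n N) (Ideal.pow_mem_pow (Ideal.mem_span_singleton_self t) _))
  rw [hP, zero_mul, sub_eq_zero] at h
  rw [AlgHom.comp_apply]
  erw [hτ]
  rw [AlgHom.comp_apply, ← h]
  rfl

end Groth.Agent.S15756
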