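import Groth.Statements.S15759
import Groth.Agent.H9Elkik.ModApprox
import Groth.Agent.H9Elkik.PolyLoc
-- import your own Groth.Agent.* helpers here

set_option autoImplicit false
universe u
open Polynomial TensorProduct
open CAlg

namespace Groth.Agent.S15759

/-- Let R be a ring, L = R(t) the localisation of R[t] at the monoid generated by t and the polynomials
with constant term 1 (that is, (R[t]_{1+tR[t]})[1/t]), and L' an L-algebra identified with R((t))
compatibly with R[t] → R((t)). Then (b) finitely generated projective L-modules that become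
isomorphic over L' are isomorphic, and (c) every stably free L'-module is the base change of a
stably free L-module. -/
theorem result (R : Type u) [CommRing R]
    (L : Type u) [CommRing L] [Algebra R[X] L]
    [IsLocalization (Submonoid.closure ({f : R[X] | f.coeff 0 = 1} ∪ {X})) L]
    (L' : Type u) [CommRing L'] [Algebra L L'] (e : L' ≃+* LaurentSeries R)
    (he : ∀ p : R[X], e (algebraMap L L' (algebraMap R[X] L p)) =
      HahnSeries.ofPowerSeries ℤ R (Polynomial.coeToPowerSeries.ringHom p)) :
    (∀ (M N : Type u) [AddCommGroup M] [Module L M] [Module.Finite L M] [Module.Projective L M]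
        [AddCommGroup N] [Module L N] [Module.Finite L N] [Module.Projective L N],
        Nonempty (L' ⊗[L] M ≃ₗ[L'] L' ⊗[L] N) → Nonempty (M ≃ₗ[L] N)) ∧
    (∀ (M' : Type u) [AddCommGroup M'] [Module L' M'] [Module.Finite L' M'],
        (∃ n m : ℕ, Nonempty ((M' × (Fin n → L')) ≃ₗ[L'] (Fin m → L'))) →
        ∃ (M : Type u) (_ : AddCommGroup M) (_ : Module L M), Module.Finite L M ∧
          (∃ n m : ℕ, Nonempty ((M × (Fin n → L)) ≃ₗ[L] (Fin m → L))) ∧
          Nonempty (L' ⊗[L] M ≃ₗ[L'] M')) := by
  obtain ⟨_, hT, hloc⟩ := H9Elkik.isLocalization_away R L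
  letI : Algebra (PowerSeries R) L' := (e.symm.toRingHom.comp (HahnSeries.ofPowerSeries ℤ R)).toAlgebra
  letI : Algebra (H9Elkik.PolyLoc R) (PowerSeries R) := (H9Elkik.expand R).toAlgebra
  letI : Algebra (H9Elkik.PolyLoc R) L' := ((algebraMap L L').comp (algebraMap (H9Elkik.PolyLoc R) L)).toAlgebra
  haveI : IsScalarTower (H9Elkik.PolyLoc R) L L' := IsScalarTower.of_algebraMap_eq fun _ => rfl
  haveI : IsScalarTower (H9Elkik.PolyLoc R) (PowerSeries R) L' := by
    refine IsScalarTower.of_algebraMap_eq' ?_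
    refine IsLocalization.ringHom_ext (H9Elkik.constOne R) (RingHom.ext fun p => ?_)
    refine e.injective ?_
    show e (algebraMap L L' (algebraMap (H9Elkik.PolyLoc R) L (algebraMap R[X] _ p))) =
      e (e.symm (HahnSeries.ofPowerSeries ℤ R (H9Elkik.expand R (algebraMap R[X] _ p))))
    rw [← IsScalarTower.algebraMap_apply R[X] (H9Elkik.PolyLoc R) L, he, RingEquiv.apply_symm_apply, H9Elkik.expand_algebraMap]
    rfl
  have ht : algebraMap (H9Elkik.PolyLoc R) (PowerSeries R) (algebraMap R[X] _ X) = PowerSeries.X :=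
    (H9Elkik.expand_algebraMap R X).trans Polynomial.coe_X
  haveI : IsLocalization.Away (algebraMap (H9Elkik.PolyLoc R) (PowerSeries R) (algebraMap R[X] _ X)) L' := by
    rw [ht]
    haveI : IsLocalization.Away (PowerSeries.X : PowerSeries R) (LaurentSeries R) :=
      LaurentSeries.of_powerSeries_localization
    exact IsLocalization.isLocalization_of_algEquiv _
      ({ e.symm with commutes' := fun _ => rfl } : LaurentSeries R ≃ₐ[PowerSeries R] L')
  refine ⟨fun M N _ _ _ _ _ _ _ _ ⟨α⟩ =>
    H9Elkik.nonempty_linearEquiv_of_tensor (H9Elkik.approx_expand R) (H9Elkik.X_mem_jacobson R) M N α, ?_⟩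
  rintro M' _ _ _ ⟨n, m, ⟨ε⟩⟩
  obtain ⟨M, i₁, i₂, hfin, hfree, hα⟩ := H9Elkik.exists_stablyFree (At := L) (H9Elkik.approx_expand R)
    (H9Elkik.X_mem_jacobson R) (ht ▸ H9Elkik.series_X_mem_jacobson R) M' n m ε
  exact ⟨M, i₁, i₂, hfin, ⟨n, m, hfree⟩, hα⟩

end Groth.Agent.S15759
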