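import Groth.Statements.S15763
import Groth.Agent.H9Elkik.FEtEquiv
import Groth.Agent.H9Elkik.Laurent
import Groth.Agent.H9Elkik.PowerComplete
-- import your own Groth.Agent.* helpers here

set_option autoImplicit false
universe u
open CategoryTheory AlgebraicGeometry Polynomial
open FEt

namespace Groth.Agent.S15763

/-- The instance R{t}[1/t] → R((t)): for any ring R, base change along the canonical map from the
Henselian Laurent series ring R{t}[1/t] (R{t} a henselization of R[t] along (t), ψ its map to
R[[t]], χ the induced map to R((t))) to R((t)) is an equivalence between finite étale schemes over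
Spec R{t}[1/t] and over Spec R((t)). (The published statement is for any topological ring with a
Henselian open nonunital subring whose induced topology has a neighbourhood base of zero consisting
of ideals, and its completion; this row is the case R{t}[1/t] → R((t)), which the published
statement singles out.) -/
theorem result (R : Type u) [CommRing R]
    (B : Type u) [CommRing B] [Algebra R[X] B] (hB : Hens2.IsPairHenselization R[X] (Ideal.span {(X : R[X])}) B)
    (ψ : B →ₐ[R[X]] PowerSeries R)
    (χ : Localization.Away (algebraMap R[X] B X) →+* LaurentSeries R)
    (hχ : χ.comp (algebraMap B (Localization.Away (algebraMap R[X] B X))) =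
      (HahnSeries.ofPowerSeries ℤ R).comp ψ.toRingHom) :
    (FEt.restrict (Spec.map (CommRingCat.ofHom χ))).IsEquivalence := by
  let t : B := algebraMap R[X] B X
  haveI : HenselianRing B (Ideal.span {t}) := H9Elkik.henz_henselian hB
  letI : Algebra B (PowerSeries R) := ψ.toRingHom.toAlgebra
  haveI : HenselianRing (PowerSeries R) (Ideal.span {algebraMap B (PowerSeries R) t}) := by
    haveI := H9Elkik.isAdicComplete_X R
    rw [show algebraMap B (PowerSeries R) t = PowerSeries.X from H9Elkik.henz_map_X ψ]
    infer_instance
  haveI : IsLocalization.Away (algebraMap B (PowerSeries R) t) (LaurentSeries R) := H9Elkik.isLocalization_laurent ψ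
  letI : Algebra (Localization.Away t) (LaurentSeries R) := χ.toAlgebra
  letI : Algebra B (LaurentSeries R) := ((HahnSeries.ofPowerSeries ℤ R).comp ψ.toRingHom).toAlgebra
  haveI : IsScalarTower B (PowerSeries R) (LaurentSeries R) := IsScalarTower.of_algebraMap_eq fun _ => rfl
  haveI : IsScalarTower B (Localization.Away t) (LaurentSeries R) :=
    IsScalarTower.of_algebraMap_eq fun b => (RingHom.congr_fun hχ b).symm
  exact H9Elkik.isEquivalence_fet (A := B) (A' := PowerSeries R) (At := Localization.Away t)
    (A't := LaurentSeries R) (t := t) ⟨H9Elkik.henz_inj hB ψ, H9Elkik.henz_surj ψ⟩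

end Groth.Agent.S15763
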