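import Groth.Statements.S15766
import Groth.Agent.H9Laurent.SplitPts
-- import your own Groth.Agent.* helpers here

set_option autoImplicit false
universe u
open CategoryTheory CategoryTheory.Limits AlgebraicGeometry
open FEt

namespace Groth.Agent.S15766

/-- Let R be a strictly Henselian local ring with residue field k, let d > 0 be invertible in R, and let
X → Spec R((t)) be finite étale and split (a trivial finite cover) after base change along the
substitution t ↦ t^d. Then every k((t))-point of X over R((t)) comes from a unique R((t))-section of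
X; here ρ : R((t)) → k((t)) is the coefficientwise residue map, pinned on power series. (The
published statement is for a finite étale group scheme G of order invertible in R that becomes
constant over a finite étale cover of R((t)) tamely ramified relative to R, in the form H⁰(R((t)),
G) ≅ H⁰(k((t)), G); the covers t ↦ t^d with d invertible in R are cofinal among such tame covers,
and the group structure plays no role in the H⁰ statement, so this row states it for any finite
étale X split by such a cover.) -/
theorem result (R : Type u) [CommRing R]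
    [HenselianLocalRing R] [IsSepClosed (IsLocalRing.ResidueField R)]
    (d : ℕ) (hd : 0 < d) (hdu : IsUnit (d : R))
    (hinj : Function.Injective (AddMonoidHom.mulLeft (d : ℤ)))
    (hmono : ∀ g g' : ℤ, AddMonoidHom.mulLeft (d : ℤ) g ≤ AddMonoidHom.mulLeft (d : ℤ) g' ↔ g ≤ g')
    (ρ : LaurentSeries R →+* LaurentSeries (IsLocalRing.ResidueField R))
    (hρ : ρ.comp (HahnSeries.ofPowerSeries ℤ R) =
      (HahnSeries.ofPowerSeries ℤ (IsLocalRing.ResidueField R)).comp (PowerSeries.map (IsLocalRing.residue R)))
    (X : Scheme.{u}) (p : X ⟶ Spec (CommRingCat.of (LaurentSeries R))) [IsFinite p] [Etale p]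
    (hsplit : ∃ (n : ℕ) (e : pullback p (Spec.map (CommRingCat.ofHom
        (HahnSeries.embDomainRingHom (R := R) (AddMonoidHom.mulLeft (d : ℤ)) hinj hmono))) ≅
        (∐ fun _ : Fin n => Spec (CommRingCat.of (LaurentSeries R)))),
      e.hom ≫ Sigma.desc (fun _ : Fin n => 𝟙 (Spec (CommRingCat.of (LaurentSeries R)))) =
        pullback.snd p (Spec.map (CommRingCat.ofHom
          (HahnSeries.embDomainRingHom (R := R) (AddMonoidHom.mulLeft (d : ℤ)) hinj hmono)))) :
    (∀ s₁ s₂ : Spec (CommRingCat.of (LaurentSeries R)) ⟶ X,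
        s₁ ≫ p = 𝟙 _ → s₂ ≫ p = 𝟙 _ →
        Spec.map (CommRingCat.ofHom ρ) ≫ s₁ = Spec.map (CommRingCat.ofHom ρ) ≫ s₂ → s₁ = s₂) ∧
    (∀ s' : Spec (CommRingCat.of (LaurentSeries (IsLocalRing.ResidueField R))) ⟶ X,
        s' ≫ p = Spec.map (CommRingCat.ofHom ρ) →
        ∃ s : Spec (CommRingCat.of (LaurentSeries R)) ⟶ X, s ≫ p = 𝟙 _ ∧ Spec.map (CommRingCat.ofHom ρ) ≫ s = s') := by
  obtain ⟨n, e, he⟩ := hsplit
  let k := IsLocalRing.ResidueField R
  let res := IsLocalRing.residue R
  let E := HahnSeries.embDomainRingHom (R := R) (AddMonoidHom.mulLeft (d : ℤ)) hinj hmono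
  let E' := HahnSeries.embDomainRingHom (R := k) (AddMonoidHom.mulLeft (d : ℤ)) hinj hmono
  let SE := Spec.map (CommRingCat.ofHom E)
  let SE' := Spec.map (CommRingCat.ofHom E')
  let r := Spec.map (CommRingCat.ofHom ρ)
  haveI : IsAffine X := isAffine_of_isAffineHom p
  haveI : Nonempty (Spec (CommRingCat.of (LaurentSeries k))) := inferInstanceAs (Nonempty (PrimeSpectrum (LaurentSeries k)))
  haveI : Nonempty (Spec (CommRingCat.of (LaurentSeries R))) := inferInstanceAs (Nonempty (PrimeSpectrum (LaurentSeries R)))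
  have hρ' : ρ = H9Laurent.mapHom res := H9Laurent.eq_mapHom res ρ hρ
  have hsq : SE' ≫ r = r ≫ SE := by
    rw [← Spec.map_comp, ← Spec.map_comp]
    refine congrArg Spec.map (CommRingCat.hom_ext (RingHom.ext fun x => ?_))
    show E' (ρ x) = ρ (E x)
    rw [hρ']
    exact (H9Laurent.mapHom_emb res x).symm
  have hex := fun (v : Spec (CommRingCat.of (LaurentSeries k)) ⟶ X) (hv : v ≫ p = r ≫ SE) =>
    H9Laurent.existsUnique_point p SE e he (H9Laurent.spec_clopen k) (H9Laurent.spec_clopen R) r v hv
  refine ⟨fun s₁ s₂ h₁ h₂ h => ?_, fun s' hs' => ?_⟩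
  · refine H9Laurent.cancel_spec E H9Laurent.emb_injective ?_
    have hv : (SE' ≫ r ≫ s₁) ≫ p = r ≫ SE := by
      rw [Category.assoc, Category.assoc, h₁, Category.comp_id, hsq]
    refine (hex _ hv).unique ⟨by rw [Category.assoc, h₁, Category.comp_id], ?_⟩
      ⟨by rw [Category.assoc, h₂, Category.comp_id], ?_⟩
    · rw [← Category.assoc, ← hsq, Category.assoc]
    · rw [← Category.assoc, ← hsq, Category.assoc, ← h]
  · have hv : (SE' ≫ s') ≫ p = r ≫ SE := by rw [Category.assoc, hs', hsq]
    obtain ⟨u, ⟨hup, hur⟩, huniq⟩ := hex _ hv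
    obtain ⟨z, hz, hunit⟩ := H9Laurent.exists_root_unit R d hd hdu
    let g := Spec.map (CommRingCat.ofHom (H9Laurent.twist z))
    let g' := Spec.map (CommRingCat.ofHom (H9Laurent.twist (Units.map res.toMonoidHom z)))
    have hgE : g ≫ SE = SE := by
      rw [← Spec.map_comp]
      exact congrArg Spec.map (CommRingCat.hom_ext (RingHom.ext fun x => H9Laurent.twist_emb z hz x))
    have hgr : r ≫ g = g' ≫ r := by
      rw [← Spec.map_comp, ← Spec.map_comp]
      refine congrArg Spec.map (CommRingCat.hom_ext (RingHom.ext fun x => ?_))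
      show ρ (H9Laurent.twist z x) = H9Laurent.twist _ (ρ x)
      rw [hρ']
      exact H9Laurent.mapHom_twist res z x
    have hg'E : g' ≫ SE' = SE' := by
      rw [← Spec.map_comp]
      exact congrArg Spec.map (CommRingCat.hom_ext (RingHom.ext fun x =>
        H9Laurent.twist_emb _ (by rw [← map_pow, hz, map_one]) x))
    have hinv : g ≫ u = u := huniq _ ⟨by rw [Category.assoc, hup, hgE], by
      rw [← Category.assoc, hgr, Category.assoc, hur, ← Category.assoc, hg'E]⟩
    obtain ⟨s, hs⟩ := H9Laurent.exists_factor_spec E H9Laurent.emb_injective (H9Laurent.twist z)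
      (fun x hx => H9Laurent.exists_emb_eq hd z hunit x hx) u hinv
    refine ⟨s, H9Laurent.cancel_spec E H9Laurent.emb_injective ?_,
      H9Laurent.cancel_spec E' H9Laurent.emb_injective ?_⟩
    · show SE ≫ s ≫ p = SE ≫ _
      rw [← Category.assoc, hs, hup, Category.comp_id]
    · show SE' ≫ r ≫ s = SE' ≫ s'
      rw [← Category.assoc, hsq, Category.assoc, hs, hur]

end Groth.Agent.S15766
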