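import Groth.Statements.S15775
import Groth.Agent.H9Elkik.FEtEquiv
import Groth.Agent.H9Elkik.Completion
-- import your own Groth.Agent.* helpers here

set_option autoImplicit false
universe u
open CategoryTheory AlgebraicGeometry
open FEt

namespace Groth.Agent.S15775

/-- The instance A[1/t] → Â[1/t]: for (A, tA) a Henselian pair with bounded t-power torsion and Â the
t-adic completion, base change along Spec Â[1/t] → Spec A[1/t] is an equivalence of categories of
finite étale schemes. -/
theorem result (A : Type u) [CommRing A] (t : A) [HenselianRing A (Ideal.span {t})]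
    (hbd : ∃ N : ℕ, ∀ a : A, (∃ m : ℕ, t ^ m * a = 0) → t ^ N * a = 0) :
    (FEt.restrict (Spec.map (CommRingCat.ofHom (Localization.awayMap (algebraMap A (AdicCompletion (Ideal.span {t}) A)) t)))).IsEquivalence := by
  let Â := AdicCompletion (Ideal.span {t}) A
  let f := Localization.awayMap (algebraMap A Â) t
  letI : Algebra (Localization.Away t) (Localization.Away (algebraMap A Â t)) := f.toAlgebra
  haveI : IsScalarTower A (Localization.Away t) (Localization.Away (algebraMap A Â t)) :=
    IsScalarTower.of_algebraMap_eq fun a => by
      show _ = f (algebraMap A (Localization.Away t) a)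
      rw [IsScalarTower.algebraMap_apply A Â (Localization.Away (algebraMap A Â t))]
      exact (IsLocalization.map_eq _ a).symm
  haveI : IsAdicComplete ((Ideal.span {t}).map (algebraMap A Â)) Â :=
    (IsAdicComplete.map_algebraMap_iff _ _).mpr (AdicCompletion.isAdicComplete ⟨{t}, by simp⟩)
  haveI : HenselianRing Â (Ideal.span {algebraMap A Â t}) := by
    have h : HenselianRing Â ((Ideal.span {t}).map (algebraMap A Â)) := inferInstance
    rwa [Ideal.map_span, Set.image_singleton] at h
  exact H9Elkik.isEquivalence_fet (A := A) (A' := Â) (At := Localization.Away t)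
    (A't := Localization.Away (algebraMap A Â t)) (t := t) ⟨H9Elkik.completion_inj A t, H9Elkik.completion_surj A t⟩

end Groth.Agent.S15775
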