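import Groth.Statements.S15782
import Groth.Agent.WeilNeutral.Neron

set_option autoImplicit false
set_option backward.isDefEq.respectTransparency false
set_option backward.isDefEq.respectTransparency.types false
universe u
open CategoryTheory MonoidalCategory CartesianMonoidalCategory MonObj GrpObj AlgebraicGeometry
open Neron

namespace Groth.Agent.S15782

/-- Let R ⊆ R' be discrete valuation rings with R complete, R' a finite R-algebra and the residue field
k of R algebraically closed; let k' be the residue field of R' and f the morphism Spec R' → Spec R.
Let N' be a smooth separated R'-group scheme and (W, q) a Weil restriction of N' along f, endowed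
with a group structure for which q is a homomorphism. Say that a group scheme G over a discrete
valuation ring has split reduction when for every rational point x of its special fibre there is a
rational point y of the special fibre lying in the connected component of x (x·y⁻¹ lies in the
identity component) whose order equals the order of the component of x in the component group: for
every n, y^n = 1 if and only if x^n lies in the identity component (for a commutative group scheme
with finitely generated component group over an algebraically closed residue field this says that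
the extension of the component group by the identity component splits). If W has split reduction
then N' has split reduction. (The published statement: if the Weil restriction to K of a
semi-abelian variety G over a finite separable extension L of K has split reduction then so does G,
reduction being taken on Néron lft-models; this row states the implication for any smooth separated
group scheme N' over R' and a Weil restriction W of it.) -/
theorem result
    (R : Type u) [CommRing R] [IsDomain R] [IsDiscreteValuationRing R]
    [IsAdicComplete (IsLocalRing.maximalIdeal R) R] [IsAlgClosed (IsLocalRing.ResidueField R)]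
    (R' : Type u) [CommRing R'] [IsDomain R'] [IsDiscreteValuationRing R'] [Algebra R R']
    [Module.Finite R R'] [FaithfulSMul R R']
    (N' : Over (Spec (CommRingCat.of R'))) [GrpObj N'] [Smooth N'.hom] [IsSeparated N'.hom]
    (W : Over (Spec (CommRingCat.of R))) [GrpObj W]
    (q : Red.bc (Spec.map (CommRingCat.ofHom (algebraMap R R'))) W ⟶ N') [IsMonHom q]
    (hW : WeilRes.IsWeilRes (Spec.map (CommRingCat.ofHom (algebraMap R R'))) N' W q)
    (hsplit : ∀ x : (Over.mk (Spec.map (CommRingCat.ofHom (IsLocalRing.residue R)))) ⟶ W, ∃ y : (Over.mk (Spec.map (CommRingCat.ofHom (IsLocalRing.residue R)))) ⟶ W,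
      (x * y⁻¹).left.base (IsLocalRing.closedPoint (IsLocalRing.ResidueField R)) ∈ SGA3x.neutralSet W ∧
        ∀ n : ℕ, y ^ n = 1 ↔ (x ^ n).left.base (IsLocalRing.closedPoint (IsLocalRing.ResidueField R)) ∈ SGA3x.neutralSet W)
    (x' : (Over.mk (Spec.map (CommRingCat.ofHom (IsLocalRing.residue R')))) ⟶ N') :
    ∃ y' : (Over.mk (Spec.map (CommRingCat.ofHom (IsLocalRing.residue R')))) ⟶ N',
      (x' * y'⁻¹).left.base (IsLocalRing.closedPoint (IsLocalRing.ResidueField R')) ∈ SGA3x.neutralSet N' ∧
        ∀ n : ℕ, y' ^ n = 1 ↔ (x' ^ n).left.base (IsLocalRing.closedPoint (IsLocalRing.ResidueField R')) ∈ SGA3x.neutralSet N' := by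
  obtain ⟨Γ, hΓ, -, hiff, -⟩ := Groth.Agent.WeilNeutral.exists_reduction hW
  obtain ⟨x, rfl⟩ := hΓ x'
  obtain ⟨y, hy, hn⟩ := hsplit x
  refine ⟨Γ y, ?_, fun n => ?_⟩
  · rw [← map_inv, ← map_mul]
    exact (hiff _).1 hy
  · rw [← map_pow, ← map_pow]
    refine ⟨fun h => ?_, fun h => ?_⟩
    · have hs : Function.Surjective (algebraMap R (IsLocalRing.ResidueField R)) := Ideal.Quotient.mk_surjective
      refine (hiff _).1 ((Groth.Agent.WeilNeutral.mem_neutralSet_iff_rel hs _).2 ?_)
      refine (Groth.Agent.WeilNeutral.Rel.pow hs (Groth.Agent.WeilNeutral.Rel.of_mul_inv hs
        ((Groth.Agent.WeilNeutral.mem_neutralSet_iff_rel hs _).1 hy)) n).trans ?_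
      refine (Groth.Agent.WeilNeutral.mem_neutralSet_iff_rel hs _).1 ((hiff _).2 ?_)
      have h1 : Γ (y ^ n) = Γ 1 := h.trans (map_one Γ).symm
      rw [h1]
      exact (hiff 1).1 ((Groth.Agent.WeilNeutral.mem_neutralSet_iff_rel hs _).2 (Groth.Agent.WeilNeutral.Rel.refl hs 1))
    · rw [(hn n).2 ((hiff _).2 h), map_one]

end Groth.Agent.S15782
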