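import Groth.Statements.S15802
import Groth.Agent.WildPurity.Inertia
-- import your own Groth.Agent.* helpers here

set_option autoImplicit false
universe u v w
open WildQuot

namespace Groth.Agent.S15802

/-- Let `R` be a regular local ring and `A` a normal local domain, finite over `R` (with `R → A`
injective) and with the same residue field; let a finite group `H` act faithfully on `A` by
`R`-algebra automorphisms with ring of invariants exactly `R` (so `Frac(A)/Frac(R)` is Galois with
group `H`). Then `H` is generated by the inertia subgroups of the height-one prime ideals `P` of `A`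
(the elements acting trivially on `A/P`). (The published statement is for `A` a complete regular
local ring with an action ramified precisely at the origin, `R = k[[x_1, …, x_n]]` a norm subring
and `H` the Galois group of `Frac(A)/Frac(R)`, when that extension is Galois; this row assumes only
the hypotheses listed above.) -/
theorem result
    (R : Type u) [CommRing R] [IsRegularLocalRing R]
    (A : Type v) [CommRing A] [IsDomain A] [IsIntegrallyClosed A] [IsLocalRing A]
    [Algebra R A] [Module.Finite R A] (hinj : Function.Injective (algebraMap R A))
    (hres : Function.Surjective (IsLocalRing.residue A ∘ algebraMap R A))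
    (H : Type w) [Group H] [Finite H] [MulSemiringAction H A] [SMulCommClass H R A] [FaithfulSMul H A]
    (hfix : ∀ a : A, (∀ h : H, h • a = a) → a ∈ Set.range (algebraMap R A)) :
    (⨆ P : {P : Ideal A // P.IsPrime ∧ P.height = 1}, P.1.inertia H) = ⊤ := by
  let R' := (algebraMap R A).range
  let e : R ≃+* R' := RingEquiv.ofBijective (algebraMap R A).rangeRestrict
    ⟨fun a b h => hinj (congrArg Subtype.val h), (algebraMap R A).rangeRestrict_surjective⟩
  have hc : ∀ r : R, ((e r : R') : A) = algebraMap R A r := fun _ => rfl
  haveI : IsRegularLocalRing R' := IsRegularLocalRing.of_ringEquiv e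
  haveI : Module.Finite R' A := by
    obtain ⟨s, hs⟩ := ‹Module.Finite R A›.fg_top
    refine ⟨⟨s, eq_top_iff.mpr ?_⟩⟩
    rintro x -
    have hx : x ∈ Submodule.span R (s : Set A) := hs ▸ Submodule.mem_top
    induction hx using Submodule.span_induction with
    | mem y hy => exact Submodule.subset_span hy
    | zero => exact zero_mem _
    | add a b _ _ ha hb => exact add_mem ha hb
    | smul r a _ ha =>
      rw [Algebra.smul_def, ← hc]
      exact Submodule.smul_mem _ (e r) ha
  haveI : FaithfulSMul R' A := (faithfulSMul_iff_algebraMap_injective R' A).mpr Subtype.val_injective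
  haveI : SMulCommClass H R' A := ⟨fun g r a => by
    obtain ⟨r, rfl⟩ := e.surjective r
    show g • (((e r : R') : A) * a) = ((e r : R') : A) * g • a
    rw [hc, smul_mul', smul_algebraMap]⟩
  refine Groth.Agent.WildPurity.iSup_inertia_eq_top (R := R') (fun y => ?_) fun a ha => ?_
  · obtain ⟨r, hr⟩ := hres y
    exact ⟨e r, hr⟩
  · obtain ⟨r, hr⟩ := hfix a ha
    exact ⟨e r, hr⟩


end Groth.Agent.S15802
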