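import Groth.Statements.S15803
import Groth.Agent.S15802
-- import your own Groth.Agent.* helpers here

set_option autoImplicit false
universe u v w
open WildQuot

namespace Groth.Agent.S15803

/-- Let `R` be a regular local ring and `A` a normal local domain, finite over `R` (with `R → A`
injective) and with the same residue field; let a finite group `H` act faithfully on `A` by
`R`-algebra automorphisms with ring of invariants exactly `R` (so `Frac(A)/Frac(R)` is Galois with
group `H`); let `p` be a prime and suppose that every nontrivial inertia subgroup of a height-one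
prime of `A` has order `p` and is normal in `H`. Then `H` is commutative and every element satisfies
`h ^ p = 1`: `H` is an elementary abelian `p`-group (of order the degree of `Frac(A)` over
`Frac(R)`). (The published statement is for `A` a complete regular local ring with an action
ramified precisely at the origin, `R = k[[x_1, …, x_n]]` a norm subring and `H` the Galois group of
`Frac(A)/Frac(R)`, when that extension is Galois; this row assumes only the hypotheses listed
above.) -/
theorem result
    (p : ℕ) [Fact p.Prime] (R : Type u) [CommRing R] [IsRegularLocalRing R]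
    (A : Type v) [CommRing A] [IsDomain A] [IsIntegrallyClosed A] [IsLocalRing A]
    [Algebra R A] [Module.Finite R A] (hinj : Function.Injective (algebraMap R A))
    (hres : Function.Surjective (IsLocalRing.residue A ∘ algebraMap R A))
    (H : Type w) [Group H] [Finite H] [MulSemiringAction H A] [SMulCommClass H R A] [FaithfulSMul H A]
    (hfix : ∀ a : A, (∀ h : H, h • a = a) → a ∈ Set.range (algebraMap R A))
    (hMR2 : ∀ P : Ideal A, P.IsPrime → P.height = 1 → P.inertia H ≠ ⊥ →
      Nat.card (P.inertia H) = p ∧ (P.inertia H).Normal) :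
    (∀ g h : H, g * h = h * g) ∧ ∀ h : H, h ^ p = 1 := by
  classical
  have htop := Groth.Agent.S15802.result R A hinj hres H hfix
  let s : Set H := {h | h ^ p = 1 ∧ ∀ g ∈ ⋃ P : {P : Ideal A // P.IsPrime ∧ P.height = 1}, (P.1.inertia H : Set H), g * h = h * g}
  have hsub : ∀ (P : {P : Ideal A // P.IsPrime ∧ P.height = 1}), ∀ h ∈ P.1.inertia H,
      h ^ p = 1 ∧ ∀ (Q : {P : Ideal A // P.IsPrime ∧ P.height = 1}), ∀ g ∈ Q.1.inertia H, g * h = h * g := by
    intro P h hh
    by_cases hP : P.1.inertia H = ⊥
    · rw [hP, Subgroup.mem_bot] at hh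
      subst hh
      exact ⟨one_pow p, fun _ g _ => by rw [mul_one, one_mul]⟩
    obtain ⟨hc, hn⟩ := hMR2 P.1 P.2.1 P.2.2 hP
    refine ⟨?_, fun Q g hg => ?_⟩
    · have := pow_card_eq_one' (G := P.1.inertia H) (x := ⟨h, hh⟩)
      rw [hc] at this
      exact congrArg Subtype.val this
    by_cases hQ : Q.1.inertia H = ⊥
    · rw [hQ, Subgroup.mem_bot] at hg
      subst hg
      rw [mul_one, one_mul]
    obtain ⟨hc', hn'⟩ := hMR2 Q.1 Q.2.1 Q.2.2 hQ
    haveI : Fact (Nat.card (Q.1.inertia H)).Prime := ⟨hc' ▸ (Fact.out : p.Prime)⟩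
    haveI : IsCyclic (Q.1.inertia H) := isCyclic_of_prime_card hc'
    by_cases hmem : h ∈ Q.1.inertia H
    · exact congrArg Subtype.val ((IsCyclic.commutative (α := Q.1.inertia H)).is_comm.comm ⟨g, hg⟩ ⟨h, hmem⟩)
    · have hinf : P.1.inertia H ⊓ Q.1.inertia H = ⊥ := by
        haveI : Fact (Nat.card (P.1.inertia H)).Prime := ⟨hc ▸ (Fact.out : p.Prime)⟩
        rcases ((P.1.inertia H ⊓ Q.1.inertia H).subgroupOf (P.1.inertia H)).eq_bot_or_eq_top_of_prime_card with h1 | h1
        · rw [Subgroup.subgroupOf_eq_bot, disjoint_iff, inf_assoc, inf_comm (Q.1.inertia H), ← inf_assoc, inf_idem] at h1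
          exact h1
        · exact absurd ((Subgroup.subgroupOf_eq_top.mp h1) hh).2 hmem
      exact (Subgroup.commute_of_normal_of_disjoint _ _ hn' hn (disjoint_iff.mpr (inf_comm (P.1.inertia H) _ ▸ hinf)) g h hg hh)
  have hgen : ∀ h : H, h ∈ (⨆ P : {P : Ideal A // P.IsPrime ∧ P.height = 1}, P.1.inertia H) := fun h =>
    htop ▸ Subgroup.mem_top h
  have hcomm : ∀ g h : H, g * h = h * g := by
    intro g
    refine Subgroup.iSup_induction (C := fun g => ∀ h, g * h = h * g) _ (hgen g) (fun P g hg h => ?_)
      (fun h => by simp) (fun a b ha hb h => by rw [mul_assoc, hb, ← mul_assoc, ha, mul_assoc])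
    refine Subgroup.iSup_induction (C := fun h => g * h = h * g) _ (hgen h) (fun Q h hh => (hsub Q h hh).2 P g hg)
      (by simp) (fun a b ha hb => by rw [← mul_assoc, ha, mul_assoc, hb, mul_assoc])
  refine ⟨hcomm, fun h => ?_⟩
  exact Subgroup.iSup_induction (C := fun h => h ^ p = 1) _ (hgen h) (fun P h hh => (hsub P h hh).1) (one_pow p)
    (fun a b ha hb => by rw [(show Commute a b from hcomm a b).mul_pow, ha, hb, one_mul])


end Groth.Agent.S15803
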