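import Groth.Statements.S15806
import Mathlib

-- import your own Groth.Agent.* helpers here

set_option autoImplicit false
universe u
open CategoryTheory AlgebraicGeometry
open WildQuot

namespace Groth.Agent.S15806

/-- Let `S` be a Noetherian scheme, `G_1 → S` and `G_2 → S` finite flat morphisms, and `U ⊆ S` an open
subset containing every associated point of `S`, i.e. every point whose local ring has the maximal
ideal as an associated prime (for `S` Noetherian this says exactly that `U` is dense and contains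
all points at which `S` does not satisfy Serre's condition `S_1`, which is the printed hypothesis).
If two `S`-morphisms `φ, ψ : G_1 → G_2` agree on the preimage of `U`, then `φ = ψ`. -/
theorem result
    (S G₁ G₂ : Scheme.{u}) [AlgebraicGeometry.IsNoetherian S] (f₁ : G₁ ⟶ S) (f₂ : G₂ ⟶ S)
    [AlgebraicGeometry.IsFinite f₁] [AlgebraicGeometry.Flat f₁]
    [AlgebraicGeometry.IsFinite f₂] [AlgebraicGeometry.Flat f₂]
    (U : S.Opens)
    (hU : ∀ s : S, IsLocalRing.maximalIdeal (S.presheaf.stalk s) ∈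
        associatedPrimes (S.presheaf.stalk s) (S.presheaf.stalk s) → s ∈ U)
    (φ ψ : G₁ ⟶ G₂) (hφ : φ ≫ f₂ = f₁) (hψ : ψ ≫ f₂ = f₁)
    (h : (f₁ ⁻¹ᵁ U).ι ≫ φ = (f₁ ⁻¹ᵁ U).ι ≫ ψ) : φ = ψ := by
  refine (Scheme.Cover.hom_ext (G₁.openCoverOfIsOpenCover (fun V : S.affineOpens => f₁ ⁻¹ᵁ V.1) ?_) _ _ fun V => ?_)
  · refine eq_top_iff.mpr fun x _ => ?_
    obtain ⟨V, hV, hxV, -⟩ := TopologicalSpace.Opens.isBasis_iff_nbhd.mp S.isBasis_affineOpens
      (TopologicalSpace.Opens.mem_top (f₁ x))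
    exact TopologicalSpace.Opens.mem_iSup.mpr ⟨⟨V, hV⟩, hxV⟩
  obtain ⟨V, hV⟩ := V
  show (f₁ ⁻¹ᵁ V).ι ≫ φ = (f₁ ⁻¹ᵁ V).ι ≫ ψ
  let W := f₁ ⁻¹ᵁ V
  let W₂ := f₂ ⁻¹ᵁ V
  have hW : IsAffineOpen W := hV.preimage f₁
  have hW₂ : IsAffineOpen W₂ := hV.preimage f₂
  have eφ : W ≤ φ ⁻¹ᵁ W₂ := by
    show f₁ ⁻¹ᵁ V ≤ (φ ≫ f₂) ⁻¹ᵁ V
    rw [hφ]
  have eψ : W ≤ ψ ⁻¹ᵁ W₂ := by
    show f₁ ⁻¹ᵁ V ≤ (ψ ≫ f₂) ⁻¹ᵁ V
    rw [hψ]
  suffices happ : φ.appLE W₂ W eφ = ψ.appLE W₂ W eψ by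
    haveI : IsAffine W₂.toScheme := hW₂
    have : φ.resLE W₂ W eφ = ψ.resLE W₂ W eψ := by
      refine ext_of_isAffine ?_
      rw [Scheme.Hom.appTop, Scheme.Hom.appTop, Scheme.Hom.resLE_app_top, Scheme.Hom.resLE_app_top, happ]
    rw [← Scheme.Hom.resLE_comp_ι φ eφ, ← Scheme.Hom.resLE_comp_ι ψ eψ, this]
  ext c
  rw [← sub_eq_zero]
  set b := φ.appLE W₂ W eφ c - ψ.appLE W₂ W eψ c with hb
  letI := (f₁.appLE V W le_rfl).hom.toAlgebra
  haveI hflat : Module.Flat Γ(S, V) Γ(G₁, W) :=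
    HasRingHomProperty.appLE @AlgebraicGeometry.Flat f₁ inferInstance ⟨V, hV⟩ ⟨W, hW⟩ le_rfl
  haveI : IsNoetherianRing Γ(S, V) := IsLocallyNoetherian.component_noetherian ⟨V, hV⟩
  let J : Ideal Γ(S, V) := LinearMap.ker (LinearMap.toSpanSingleton Γ(S, V) Γ(G₁, W) b)
  have key : ∀ P ∈ associatedPrimes Γ(S, V) Γ(S, V), ¬ J ≤ P := by
    intro P hP hJ
    haveI := hP.isPrime
    let s : S := hV.fromSpec ⟨P, inferInstance⟩
    have hsV : s ∈ V := hV.range_fromSpec.le ⟨_, rfl⟩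
    letI : Algebra Γ(S, V) (S.presheaf.stalk s) := (S.presheaf.germ V s hsV).hom.toAlgebra
    haveI : IsLocalization.AtPrime (S.presheaf.stalk s) P := hV.isLocalization_stalk' ⟨P, inferInstance⟩ hsV
    haveI : IsLocalizedModule P.primeCompl (Algebra.linearMap Γ(S, V) (S.presheaf.stalk s)) :=
      (isLocalizedModule_iff_isLocalization' P.primeCompl _).mpr ‹_›
    have hsU : s ∈ U := hU s (Module.associatedPrimes.mem_associatedPrimes_of_comap_mem_associatedPrimes_of_isLocalizedModule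
      P.primeCompl (Algebra.linearMap Γ(S, V) (S.presheaf.stalk s)) _ (by
        show (IsLocalRing.maximalIdeal (S.presheaf.stalk s)).under Γ(S, V) ∈ _
        rwa [IsLocalization.AtPrime.under_maximalIdeal (S.presheaf.stalk s) P]))
    obtain ⟨a, haU, has⟩ := hV.exists_basicOpen_le (V := U ⊓ V) ⟨s, hsU, hsV⟩ hsV
    have haP : a ∉ P := by
      intro ha
      have h1 := (Scheme.mem_basicOpen S a s hsV).mp has
      exact ((IsLocalization.AtPrime.isUnit_to_map_iff (S.presheaf.stalk s) P a).mp h1) ha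
    let D := G₁.basicOpen (f₁.appLE V W le_rfl a)
    have hDW : D ≤ W := G₁.basicOpen_le _
    have hDU : D ≤ f₁ ⁻¹ᵁ U := by
      intro x hx
      have hx' : x ∈ W ⊓ f₁ ⁻¹ᵁ S.basicOpen a := (Scheme.basicOpen_appLE f₁ W V le_rfl a).le hx
      exact (haU hx'.2).1
    letI := (G₁.presheaf.map (homOfLE hDW).op).hom.toAlgebra
    haveI : IsLocalization.Away (f₁.appLE V W le_rfl a) Γ(G₁, D) := hW.isLocalization_basicOpen _
    have hres : G₁.presheaf.map (homOfLE hDW).op b = 0 := by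
      have hι : D.ι ≫ φ = D.ι ≫ ψ := by
        rw [← G₁.homOfLE_ι hDU, Category.assoc, Category.assoc, h]
      have hD : (⊤ : D.toScheme.Opens) ≤ D.ι ⁻¹ᵁ D := le_of_eq D.ι_preimage_self.symm
      rw [hb, map_sub, sub_eq_zero, ← CommRingCat.comp_apply, ← CommRingCat.comp_apply,
        Scheme.Hom.appLE_map, Scheme.Hom.appLE_map]
      have e1 : φ.appLE W₂ D (hDW.trans eφ) ≫ D.ι.appLE D ⊤ hD =
          ψ.appLE W₂ D (hDW.trans eψ) ≫ D.ι.appLE D ⊤ hD := by
        rw [Scheme.Hom.appLE_comp_appLE, Scheme.Hom.appLE_comp_appLE]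
        simp only [hι]
      haveI : IsIso (D.ι.appLE D ⊤ hD) := by
        rw [show D.ι.appLE D ⊤ hD = D.topIso.inv from ?_]
        · infer_instance
        · simp [Scheme.Opens.ι_appLE]
          congr 1
      rw [cancel_mono] at e1
      exact congrArg (fun g : Γ(G₂, W₂) ⟶ Γ(G₁, D) => g c) e1
    obtain ⟨⟨_, n, rfl⟩, hn⟩ := (IsLocalization.map_eq_zero_iff (Submonoid.powers (f₁.appLE V W le_rfl a)) Γ(G₁, D) b).mp hres
    refine haP (hP.isPrime.mem_of_pow_mem n (hJ ?_))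
    show (a ^ n) • b = 0
    rw [Algebra.smul_def, map_pow]
    exact hn
  obtain ⟨r, hrJ, hr⟩ : ∃ r ∈ J, r ∈ nonZeroDivisors Γ(S, V) := by
    by_contra! H
    obtain ⟨P, hP, hle⟩ := (J.subset_union_prime_finite (associatedPrimes.finite Γ(S, V) Γ(S, V)) (f := id) 0 0
      fun _ h' _ _ => h'.isPrime).1 (by
        simp_rw [id, biUnion_associatedPrimes_eq_compl_nonZeroDivisors]
        exact fun x hx => H x hx)
    exact key P hP hle
  exact Module.Flat.isSMulRegular_of_nonZeroDivisors hr (show r • b = r • 0 by rw [smul_zero]; exact hrJ)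


end Groth.Agent.S15806
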