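import Groth.Statements.S15809
import Groth.Agent.WildPurity.Fibres
-- import your own Groth.Agent.* helpers here

set_option autoImplicit false
universe u
open CategoryTheory MonoidalCategory CartesianMonoidalCategory AlgebraicGeometry Limits
open WildQuot

namespace Groth.Agent.S15809

/-- Let `S` be a Noetherian scheme, `G` a finite flat `S`-group scheme and `Y` a finite flat `S`-scheme
with an action of `G`; let `Ψ : G ×_S Y → Y ×_S Y` be `(g, y) ↦ (g y, y)`. Suppose that for every
point `s ∈ S` of codimension at most `1` (local ring of dimension `≤ 1`) the fibre `Y_s` is a torsor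
under `G_s`: it is nonempty and the base change of `Ψ` to `Spec κ(s)` is an isomorphism. Then `Y` is
a `G`-torsor: `Ψ` is an isomorphism and `Y → S` is surjective (so the finite flat cover `Y → S`
itself trivialises `Y`). -/
theorem result
    (S : Scheme.{u}) [AlgebraicGeometry.IsNoetherian S]
    (G Y : Over S) [GrpObj G]
    [AlgebraicGeometry.IsFinite G.hom] [AlgebraicGeometry.Flat G.hom]
    [AlgebraicGeometry.IsFinite Y.hom] [AlgebraicGeometry.Flat Y.hom]
    (a : AlgGrp.Action G Y)
    (hfib : ∀ s : S, ringKrullDim (S.presheaf.stalk s) ≤ 1 →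
      s ∈ Set.range Y.hom.base ∧
      IsIso (pullback.map (G ⊗ Y).hom (S.fromSpecResidueField s) (Y ⊗ Y).hom (S.fromSpecResidueField s)
        (CartesianMonoidalCategory.lift a.act (CartesianMonoidalCategory.snd G Y)).left
        (𝟙 _) (𝟙 S)
        ((Category.comp_id _).trans
          (Over.w (CartesianMonoidalCategory.lift a.act (CartesianMonoidalCategory.snd G Y))).symm)
        ((Category.comp_id _).trans (Category.id_comp _).symm))) :
    IsIso (CartesianMonoidalCategory.lift a.act (CartesianMonoidalCategory.snd G Y)).left ∧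
      Function.Surjective Y.hom.base := by
  let Ψ : G ⊗ Y ⟶ Y ⊗ Y := CartesianMonoidalCategory.lift a.act (CartesianMonoidalCategory.snd G Y)
  haveI : AlgebraicGeometry.IsFinite (G ⊗ Y).hom :=
    inferInstanceAs (AlgebraicGeometry.IsFinite (pullback.fst G.hom Y.hom ≫ G.hom))
  haveI : AlgebraicGeometry.Flat (G ⊗ Y).hom :=
    inferInstanceAs (AlgebraicGeometry.Flat (pullback.fst G.hom Y.hom ≫ G.hom))
  haveI : AlgebraicGeometry.IsFinite (Y ⊗ Y).hom :=
    inferInstanceAs (AlgebraicGeometry.IsFinite (pullback.fst Y.hom Y.hom ≫ Y.hom))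
  haveI : AlgebraicGeometry.Flat (Y ⊗ Y).hom :=
    inferInstanceAs (AlgebraicGeometry.Flat (pullback.fst Y.hom Y.hom ≫ Y.hom))
  refine ⟨Groth.Agent.WildPurity.isIso_of_isIso_fibres_codim_one Ψ fun s hs =>
    (Groth.Agent.WildPurity.isIso_pullback_map_iff Ψ _ _ _).mp (hfib s hs).2, fun x => ?_⟩
  obtain ⟨V, hV, hxV, -⟩ := TopologicalSpace.Opens.isBasis_iff_nbhd.mp S.isBasis_affineOpens
    (TopologicalSpace.Opens.mem_top x)
  obtain ⟨p, rfl⟩ := hV.range_fromSpec.ge hxV
  obtain ⟨q, hq, hqp⟩ := Ideal.exists_minimalPrimes_le (bot_le : (⊥ : Ideal Γ(S, V)) ≤ p.asIdeal)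
  haveI := hq.1.1
  let s : S := hV.fromSpec ⟨q, inferInstance⟩
  have hsV : s ∈ V := hV.range_fromSpec.le ⟨_, rfl⟩
  letI : Algebra Γ(S, V) (S.presheaf.stalk s) := (S.presheaf.germ V s hsV).hom.toAlgebra
  haveI : IsLocalization.AtPrime (S.presheaf.stalk s) q := hV.isLocalization_stalk' ⟨q, inferInstance⟩ hsV
  have hdim : ringKrullDim (S.presheaf.stalk s) ≤ 1 := by
    rw [IsLocalization.AtPrime.ringKrullDim_eq_height q (S.presheaf.stalk s), Ideal.height_eq_zero_iff.mpr hq]
    exact zero_le_one
  have hsp : s ⤳ hV.fromSpec p := ((PrimeSpectrum.le_iff_specializes ⟨q, inferInstance⟩ p).mp hqp).map hV.fromSpec.continuous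
  exact (Y.hom.isClosedMap.isClosed_range).stableUnderSpecialization hsp (hfib s hdim).1


end Groth.Agent.S15809
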