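import Groth.Statements.S15824
-- import your own Groth.Agent.* helpers here
import Groth.Agent.S18944
import Groth.Agent.S5752
import Groth.Agent.LC.ExtDim
import Groth.Agent.LC.LiaisonLocal
import Groth.Agent.LC.DepthFlatFibre

set_option autoImplicit false
universe u
open CategoryTheory AlgebraicGeometry
open RegImm

open Groth.Agent

namespace Groth.Agent.S15824

/-- Let X be a locally Noetherian scheme all of whose local rings are Cohen–Macaulay, and i : Z → X a
closed immersion which is regular (around every point, on some affine open of X the ideal of Z is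
generated by a regular sequence). Then Z has no embedded points (each associated point of Z is
generic in an irreducible component): for every point z of Z, if the maximal ideal of O_{Z,z} is an
associated prime of O_{Z,z} (as a module over itself), then O_{Z,z} has Krull dimension 0. (The
published statement takes X Noetherian and Z a local complete intersection subscheme; the assertion
is local on X and uses only that the ideal of Z is locally generated by a regular sequence.) -/
theorem result {X Z : Scheme.{u}}
    [IsLocallyNoetherian X] (hCM : ∀ x : X, LocCoh.IsCohenMacaulayLocalRing (X.presheaf.stalk x))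
    (i : Z ⟶ X) [IsClosedImmersion i] (hi : RegImm.IsRegularImmersion RegImm.Kind.regular i) (z : Z)
    (hz : IsAssociatedPrime (IsLocalRing.maximalIdeal (Z.presheaf.stalk z)) (Z.presheaf.stalk z)) :
    ringKrullDim (Z.presheaf.stalk z) = 0 := by
  obtain ⟨rs, hrs, hker⟩ := Groth.Agent.S18944.result i hi z
  haveI hR := hCM (i z)
  let R := X.presheaf.stalk (i z)
  let A := Z.presheaf.stalk z
  have hsurj : Function.Surjective (i.stalkMap z).hom := i.stalkMap_surjective z
  let e : R ⧸ Ideal.ofList rs ≃+* A :=
    (Ideal.quotEquivOfEq hker.symm).trans (RingHom.quotientKerEquivOfSurjective hsurj)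
  haveI : Nontrivial (R ⧸ Ideal.ofList rs) := e.toEquiv.nontrivial
  haveI : IsLocalRing (R ⧸ Ideal.ofList rs) := IsLocalRing.of_surjective' (Ideal.Quotient.mk _) Ideal.Quotient.mk_surjective
  have hmem : ∀ r ∈ rs, r ∈ IsLocalRing.maximalIdeal R := fun r hr =>
    IsLocalRing.le_maximalIdeal (Ideal.Quotient.nontrivial_iff.1 (inferInstance : Nontrivial (R ⧸ Ideal.ofList rs))) (Ideal.subset_span (show r ∈ {x | x ∈ rs} from hr))
  have hM : LocCoh.IsCohenMacaulayModule R R := hR.supportDim_eq_depth
  have hq := LC.isCM_quot_ofList R hM hrs.toIsWeaklyRegular hmem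
  have heq : (Ideal.ofList rs • ⊤ : Submodule R R) = Ideal.ofList rs := by rw [smul_eq_mul, Ideal.mul_top]
  let l := Submodule.quotEquivOfEq (Ideal.ofList rs • ⊤ : Submodule R R) (Ideal.ofList rs) heq
  have hdim : Module.supportDim R (R ⧸ (Ideal.ofList rs • ⊤ : Submodule R R)) =
      ringKrullDim (R ⧸ Ideal.ofList rs) := by
    rw [Module.supportDim_eq_of_equiv l, Module.supportDim_quotient_eq_ringKrullDim]
  haveI : LocCoh.IsCohenMacaulayLocalRing (R ⧸ Ideal.ofList rs) := by
    refine { supportDim_eq_depth := ?_ }
    rw [Module.supportDim_self_eq_ringKrullDim, ← hdim]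
    refine hq.trans ?_
    unfold LocCoh.depth
    rw [LC.idealDepth_congr _ l, LC.idealDepth_quot_self_le,
      IsLocalRing.map_maximalIdeal_of_surjective _ Ideal.Quotient.mk_surjective]
  haveI : IsNoetherianRing A := isNoetherianRing_of_surjective _ _ _ hsurj
  haveI hA : LocCoh.IsCohenMacaulayLocalRing A := LC.Liaison.isCMLocal_of_ringEquiv e
  have h0 : LocCoh.depth A A = 0 := (Groth.Agent.S5752.result A A).2 hz
  have h1 := hA.supportDim_eq_depth
  rw [h0, Module.supportDim_self_eq_ringKrullDim] at h1
  exact h1

end Groth.Agent.S15824
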