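import Groth.Statements.S15826
import Groth.Agent.H6KO.Transitivity
import Groth.Agent.QCoh.Support
import Groth.Agent.PPSheaf.GrCoh
import Groth.Agent.KRegLib.WeakReg
import Groth.Agent.RegKinds.Imm
import Groth.Agent.QuotRep.Frame
import Groth.Agent.KRRReg.LamPull

set_option autoImplicit false
universe u
open CategoryTheory AlgebraicGeometry Opposite
open RegImm

namespace Groth.Agent.S15826

/-- Let X be a scheme, E a finite locally free O_X-module of rank n and s : E → O_X a regular section,
meaning that around every point of X there is an affine open U and a basis e_1, …, e_n of E(U) over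
Γ(X, U) such that s(e_1), …, s(e_n) is a weakly regular sequence in Γ(X, U) (each a non-zero-divisor
modulo the previous ones). Let i : Y → X be a closed immersion whose ideal sheaf I_Y is the image of
s: t : E → I_Y is an epimorphism of O_X-modules with t followed by the inclusion I_Y → O_X equal to
s. Then the pulled-back map i^*t : i^*E → i^*I_Y is an isomorphism of O_Y-modules; its target is the
conormal sheaf C_{Y/X} = I_Y/I_Y², so E|_Y ≅ C_{Y/X} via s and, dually, N_{Y/X} ≅ E^∨|_Y. (The
published statement calls s regular when its image is a regular ideal sheaf locally generated by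
rank-many sections; the local bases mapping to regular sequences used here are how the published
proofs read that condition.) -/
theorem result {X Y : Scheme.{u}} (n : ℕ) (E : X.Modules)
    (hE : FlatMod.IsFinLocFreeOfRank n E) (s : E ⟶ Coh.structureModule X)
    (hs : ∀ x : X, ∃ U : X.affineOpens, x ∈ U.1 ∧
      ∃ b : Module.Basis (Fin n) Γ(X, U.1) (E.val.obj (op U.1)),
        @RingTheory.Sequence.IsWeaklyRegular Γ(X, U.1) Γ(X, U.1) _ _ _ (List.ofFn fun k => (s.val.app (op U.1)).hom (b k)))
    (i : Y ⟶ X) [IsClosedImmersion i] (t : E ⟶ ClSub.idealMod i.ker) [Epi t]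
    (hts : t ≫ ClSub.idealModι i.ker = s) :
    IsIso ((Scheme.Modules.pullback i).map t) := by
  classical
  have hE' : FlatMod.IsFinLocFree E := Groth.Agent.ExtPowSh.flf_of_rank hE
  have hreg : RegImm.IsRegularImmersionOfCodim RegImm.Kind.koszul n i := ⟨inferInstance, fun z => by
    obtain ⟨U, hxU, b, hb⟩ := hs (i z)
    refine ⟨U, hxU, inferInstance, List.ofFn fun k => (s.val.app (op U.1)).hom (b k), List.length_ofFn,
      (Groth.Agent.RegKinds.seq_ofFn (k := .koszul) (by decide) (R := Γ(X, U.1))
        (fun k => (s.val.app (op U.1)).hom (b k))).2 (Groth.Agent.KRegLib.isExact_of_isWeaklyRegular _ hb), ?_⟩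
    refine le_antisymm (fun r hr => ?_) (Ideal.span_le.2 ?_)
    · obtain ⟨k, hk⟩ := Groth.Agent.OmegaUniv.exists_idealSect_of_app_eq_zero i U.1 r hr
      obtain ⟨e, he⟩ := Groth.Agent.QCoh.app_surjective_of_epi (Groth.Agent.QCoh.isQCoh_of_isFinLocFree hE')
        (Groth.Agent.PPSheaf.GrCoh.isQCoh_idealMod i.ker) t U.2 k
      have hr' : r = (s.val.app (op U.1)).hom e := by
        rw [← hk, ← he, ← hts]
        rfl
      rw [hr', ← b.sum_repr e, map_sum]
      exact sum_mem fun l _ => by
        rw [map_smul]
        exact Ideal.mul_mem_left _ _ (Ideal.subset_span (List.mem_ofFn.2 ⟨l, rfl⟩))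
    · rintro y hy
      obtain ⟨l, rfl⟩ := List.mem_ofFn.1 hy
      show i.app U.1 _ = 0
      rw [← hts]
      exact Groth.Agent.OmegaUniv.app_idealSect i U.1 (t.app U.1 (b l))⟩
  haveI : (Scheme.Modules.pullback i).PreservesEpimorphisms :=
    Functor.preservesEpimorphisms_of_adjunction (Scheme.Modules.pullbackPushforwardAdjunction i)
  haveI : Epi ((Scheme.Modules.pullback i).map t) :=
    CategoryTheory.Functor.map_epi _ t
  have hC : FlatMod.IsFinLocFreeOfRank n ((Scheme.Modules.pullback i).obj (ClSub.idealMod i.ker)) :=
    Groth.Agent.H6KO.isFinLocFreeOfRank_conormal i hreg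
  exact @Groth.Agent.QuotRep.isIso_of_epi_rank _ _ _ _ (Groth.Agent.KRRReg.isFinLocFreeOfRank_pullback i hE) hC
    ((Scheme.Modules.pullback i).map t) (CategoryTheory.Functor.map_epi _ t)

end Groth.Agent.S15826
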