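import Groth.Statements.S15828
import Mathlib

set_option autoImplicit false
universe u
open CategoryTheory CategoryTheory.Limits MonoidalCategory
open Koszul

namespace Groth.Agent.S15828

open CategoryTheory CategoryTheory.Limits MonoidalCategory HomologicalComplex
open CochainComplex (mappingCone)
open CochainComplex.mappingCone

set_option backward.isDefEq.respectTransparency false

section
variable {A : Type u} [CommRing A] {F F' G : CochainComplex (ModuleCat.{u} A) ℤ} (φ : F ⟶ F')

/-- The forward map in degree `n`. -/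
noncomputable def fwd (n : ℤ) :
    (HomologicalComplex.tensorObj (mappingCone φ) G).X n ⟶
      (mappingCone (HomologicalComplex.tensorHom φ (𝟙 G))).X n :=
  mapBifunctorDesc fun p q (h : p + q = n) =>
    (fst φ).1.v p (p + 1) rfl ▷ G.X q ≫ ιTensorObj F G (p + 1) q (n + 1) (by omega) ≫
      (inl (HomologicalComplex.tensorHom φ (𝟙 G))).v (n + 1) n (by omega) +
    (snd φ).v p p (add_zero p) ▷ G.X q ≫ ιTensorObj F' G p q n h ≫
      (inr (HomologicalComplex.tensorHom φ (𝟙 G))).f n

theorem inl_fwd (p p' q n n' : ℤ) (hp : p' + (-1) = p) (h : p + q = n) (hn : n' + (-1) = n)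
    (h' : p' + q = n') :
    (inl φ).v p' p hp ▷ G.X q ≫ ιTensorObj (mappingCone φ) G p q n h ≫ fwd φ n =
      ιTensorObj F G p' q n' h' ≫ (inl (HomologicalComplex.tensorHom φ (𝟙 G))).v n' n hn := by
  obtain rfl : p' = p + 1 := by omega
  obtain rfl : n' = n + 1 := by omega
  simp [fwd, ← comp_whiskerRight_assoc, Preadditive.comp_add]

theorem inr_fwd (p q n : ℤ) (h : p + q = n) :
    (inr φ).f p ▷ G.X q ≫ ιTensorObj (mappingCone φ) G p q n h ≫ fwd φ n =
      ιTensorObj F' G p q n h ≫ (inr (HomologicalComplex.tensorHom φ (𝟙 G))).f n := by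
  simp [fwd, ← comp_whiskerRight_assoc, Preadditive.comp_add]

/-- The backward map in degree `n`. -/
noncomputable def bwd (n : ℤ) :
    (mappingCone (HomologicalComplex.tensorHom φ (𝟙 G))).X n ⟶
      (HomologicalComplex.tensorObj (mappingCone φ) G).X n :=
  (fst (HomologicalComplex.tensorHom φ (𝟙 G))).1.v n (n + 1) rfl ≫
    mapBifunctorDesc (fun p q (h : p + q = n + 1) =>
      (inl φ).v p (p - 1) (by omega) ▷ G.X q ≫ ιTensorObj (mappingCone φ) G (p - 1) q n (by omega)) +
  (snd (HomologicalComplex.tensorHom φ (𝟙 G))).v n n (add_zero n) ≫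
    mapBifunctorDesc (fun p q (h : p + q = n) =>
      (inr φ).f p ▷ G.X q ≫ ιTensorObj (mappingCone φ) G p q n h)

theorem inl_ι_congr (p p₁ p₂ q n : ℤ) (e : p₁ = p₂) (hp : p + (-1) = p₁) (h : p₁ + q = n) :
    (inl φ).v p p₁ hp ▷ G.X q ≫ ιTensorObj (mappingCone φ) G p₁ q n h =
      (inl φ).v p p₂ (e ▸ hp) ▷ G.X q ≫ ιTensorObj (mappingCone φ) G p₂ q n (e ▸ h) := by
  subst e; rfl

/-- Two maps out of a summand of the tensor product of a cone agree if they agree on both parts. -/
theorem cone_tensor_ext (p p' : ℤ) (hp : p + 1 = p') (Y Z : ModuleCat.{u} A)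
    (f g : (mappingCone φ).X p ⊗ Y ⟶ Z)
    (h₁ : (inl φ).v p' p (by omega) ▷ Y ≫ f = (inl φ).v p' p (by omega) ▷ Y ≫ g)
    (h₂ : (inr φ).f p ▷ Y ≫ f = (inr φ).f p ▷ Y ≫ g) : f = g := by
  have h : ((fst φ).1.v p p' hp ≫ (inl φ).v p' p (by omega) +
      (snd φ).v p p (add_zero p) ≫ (inr φ).f p) ▷ Y ≫ f =
      ((fst φ).1.v p p' hp ≫ (inl φ).v p' p (by omega) +
        (snd φ).v p p (add_zero p) ≫ (inr φ).f p) ▷ Y ≫ g := by
    simp only [MonoidalPreadditive.add_whiskerRight, comp_whiskerRight, Preadditive.add_comp,
      Category.assoc, h₁, h₂]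
  rwa [id_X, id_whiskerRight, Category.id_comp, Category.id_comp] at h

theorem neg_whiskerRight {X Y : ModuleCat.{u} A} (f : X ⟶ Y) (Z : ModuleCat.{u} A) : (-f) ▷ Z = -(f ▷ Z) :=
  ((tensoringRight (ModuleCat.{u} A)).obj Z).map_neg

/-- A mapping cone tensored with a complex. -/
noncomputable def coneTensorIso :
    HomologicalComplex.tensorObj (mappingCone φ) G ≅
      mappingCone (HomologicalComplex.tensorHom φ (𝟙 G)) :=
  HomologicalComplex.Hom.isoOfComponents
    (fun n =>
      { hom := fwd φ n
        inv := bwd φ n
        hom_inv_id := by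
          refine mapBifunctor.hom_ext fun p q (h : p + q = n) => ?_
          refine cone_tensor_ext φ p (p + 1) rfl _ _ _ _ ?_ ?_
          · rw [reassoc_of% inl_fwd φ p (p + 1) q n (n + 1) (by omega) h (by omega) (by omega)]
            simp [bwd, Preadditive.comp_add]
            exact inl_ι_congr φ (p + 1) (p + 1 - 1) p q n (by omega) (by omega) (by omega)
          · rw [reassoc_of% inr_fwd φ p q n h]
            simp [bwd, Preadditive.comp_add]
        inv_hom_id := by
          refine ext_from _ (n + 1) n rfl ?_ ?_
          · refine mapBifunctor.hom_ext fun p q (h : p + q = n + 1) => ?_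
            simp only [bwd, Preadditive.add_comp, Preadditive.comp_add, Category.assoc,
              inl_v_fst_v_assoc, inl_v_snd_v_assoc, zero_comp, comp_zero, add_zero,
              ι_mapBifunctorDesc_assoc, Category.comp_id]
            exact inl_fwd φ (p - 1) p q n (n + 1) (by omega) (by omega) (by omega) h
          · refine mapBifunctor.hom_ext fun p q (h : p + q = n) => ?_
            simp only [bwd, Preadditive.add_comp, Preadditive.comp_add, Category.assoc,
              inr_f_fst_v_assoc, inr_f_snd_v_assoc, zero_comp, comp_zero, zero_add,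
              ι_mapBifunctorDesc_assoc, Category.comp_id]
            exact inr_fwd φ p q n h })
    (fun n m (hnm : n + 1 = m) => by
      subst hnm
      refine mapBifunctor.hom_ext fun p q (h : p + q = n) => ?_
      show ιTensorObj (mappingCone φ) G p q n h ≫ fwd φ n ≫ _ = ιTensorObj (mappingCone φ) G p q n h ≫ _ ≫ fwd φ (n + 1)
      have hrel : ∀ a : ℤ, (ComplexShape.up ℤ).Rel a (a + 1) := fun a => rfl
      rw [mapBifunctor.d_eq, Preadditive.add_comp, Preadditive.comp_add (C := ModuleCat.{u} A),
        mapBifunctor.ι_D₁_assoc, mapBifunctor.ι_D₂_assoc,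
        mapBifunctor.d₁_eq _ _ _ _ (hrel p) q (n + 1) (by show p + 1 + q = n + 1; omega),
        mapBifunctor.d₂_eq _ _ _ _ p (hrel q) (n + 1) (by show p + (q + 1) = n + 1; omega)]
      simp only [ComplexShape.ε₁, ComplexShape.ε₂, ComplexShape.ε_up_ℤ, one_smul,
        curriedTensor_map_app, curriedTensor_obj_map, Category.assoc, Linear.units_smul_comp]
      refine cone_tensor_ext φ p (p + 1) rfl _ _ _ _ ?_ ?_
      · rw [reassoc_of% inl_fwd φ p (p + 1) q n (n + 1) (by omega) h (by omega) (by omega)]
        rw [inl_v_d _ (n + 1) n (n + 2) (by omega) (by omega)]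
        simp only [Preadditive.comp_add, Linear.comp_units_smul, ← comp_whiskerRight_assoc]
        rw [inl_v_d φ (p + 1) p (p + 2) (by omega) (by omega)]
        simp only [MonoidalPreadditive.add_whiskerRight, sub_eq_add_neg,
          Preadditive.comp_add, Preadditive.comp_neg, Preadditive.add_comp, Preadditive.neg_comp,
          neg_whiskerRight, comp_whiskerRight, Category.assoc]
        rw [← whisker_exchange_assoc,
          inr_fwd φ (p + 1) q (n + 1) (by omega),
          inl_fwd φ (p + 1) (p + 2) q (n + 1) (n + 2) (by omega) (by omega) (by omega) (by omega),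
          inl_fwd φ p (p + 1) (q + 1) (n + 1) (n + 2) (by omega) (by omega) (by omega) (by omega)]
        rw [mapBifunctor.d_eq]
        simp only [Preadditive.comp_add, Preadditive.add_comp, mapBifunctor.ι_D₁_assoc,
          mapBifunctor.ι_D₂_assoc, ι_mapBifunctorMap_assoc]
        rw [mapBifunctor.d₁_eq _ _ _ _ (i₁ := p + 1) (i₁' := p + 2) (show p + 1 + 1 = p + 2 by omega) q
            (n + 2) (by show p + 2 + q = n + 2; omega),
          mapBifunctor.d₂_eq _ _ _ _ (p + 1) (hrel q) (n + 2) (by show p + 1 + (q + 1) = n + 2; omega)]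
        simp [ComplexShape.ε₁, ComplexShape.ε₂, Int.negOnePow_succ]
        abel
      · rw [reassoc_of% inr_fwd φ p q n h, inr_f_d, ← Category.assoc, mapBifunctor.d_eq]
        simp only [Preadditive.comp_add, Preadditive.add_comp, mapBifunctor.ι_D₁,
          mapBifunctor.ι_D₂, Linear.comp_units_smul]
        rw [mapBifunctor.d₁_eq _ _ _ _ (hrel p) q (n + 1) (by show p + 1 + q = n + 1; omega),
          mapBifunctor.d₂_eq _ _ _ _ p (hrel q) (n + 1) (by show p + (q + 1) = n + 1; omega)]
        simp only [ComplexShape.ε₁, ComplexShape.ε₂, ComplexShape.ε_up_ℤ, one_smul,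
          curriedTensor_map_app, curriedTensor_obj_map, Category.assoc, Linear.units_smul_comp,
          ← comp_whiskerRight_assoc, inr_f_d]
        simp only [comp_whiskerRight, Category.assoc]
        rw [← whisker_exchange_assoc, inr_fwd φ (p + 1) q (n + 1) (by omega),
          inr_fwd φ p (q + 1) (n + 1) (by omega)])

theorem tensorHom_smul (a : A) (K L : CochainComplex (ModuleCat.{u} A) ℤ) :
    HomologicalComplex.tensorHom (a • 𝟙 K) (𝟙 L) = a • 𝟙 (HomologicalComplex.tensorObj K L) := by
  refine HomologicalComplex.hom_ext _ _ fun n => mapBifunctor.hom_ext fun p q h => ?_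
  simp [MonoidalLinear.smul_whiskerRight]

end


/-- Let A be a commutative ring and f = (f_1, …, f_r), g = (g_1, …, g_s) finite sequences of elements of
A (Koszul complexes of free modules of finite rank with chosen bases). Then the tensor product of
cochain complexes K(f) ⊗ K(g) is isomorphic to the Koszul complex K(f_1, …, f_r, g_1, …, g_s) of the
concatenated sequence (existence of an isomorphism of cochain complexes of A-modules; the Koszul
complexes are the iterated mapping-cone model and ⊗ is the tensor product of complexes). The second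
assertion of the published statement, K(f, g) ≅ Cone(g : K(f) → K(f)) for a single element g, is the
defining recursion of the mapping-cone model and is not restated. -/
theorem result (A : Type u) [CommRing A] (f g : List A) :
    Nonempty ((MonoidalCategoryStruct.tensorObj (C := DRing.Cx A) (Koszul.koszul A f) (Koszul.koszul A g)) ≅
      Koszul.koszul A (f ++ g)) := by
  induction f with
  | nil => exact ⟨λ_ (Koszul.koszul A g : DRing.Cx A)⟩
  | cons a l ih =>
    obtain ⟨e⟩ := ih
    have h := tensorHom_smul a (Koszul.koszul A l) (Koszul.koszul A g)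
    exact ⟨coneTensorIso (a • 𝟙 (Koszul.koszul A l)) ≪≫
      { hom := CochainComplex.mappingCone.map _ _ e.hom e.hom (by rw [h]; simp)
        inv := CochainComplex.mappingCone.map _ _ e.inv e.inv (by rw [h]; simp)
        hom_inv_id := by rw [← CochainComplex.mappingCone.map_comp]; simp [CochainComplex.mappingCone.map_id]
        inv_hom_id := by rw [← CochainComplex.mappingCone.map_comp]; simp [CochainComplex.mappingCone.map_id]; rfl  }⟩

end Groth.Agent.S15828
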