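import Groth.Statements.S15849
import Groth.Agent.SurfStab.Criterion

set_option autoImplicit false
set_option linter.style.haveILetI false
set_option backward.isDefEq.respectTransparency false
set_option backward.isDefEq.respectTransparency.types false
universe u
open CategoryTheory CategoryTheory.Limits AlgebraicGeometry
open ShStab

namespace Groth.Agent.S15849

open Groth.Agent Groth.Agent.SurfStab Groth.Agent.ShStabLib Groth.Agent.HilbPoly

/-- A subsheaf lifting the quotient in codimension one splits the extension. -/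
theorem exists_retraction {S : Scheme.{u}} [IsIntegral S] [IsLocallyNoetherian S] (hX : Pi1.IsNormalScheme S)
    {V N G : S.Modules} (a : Coh.structureModule S ⟶ V) [Mono a] (b : V ⟶ N) (w : a ≫ b = 0)
    (hex : (ShortComplex.mk a b w).ShortExact) (γ : G ⟶ V)
    (hinj : Function.Injective (RefHull.stalkMapₗ (γ ≫ b) (genericPoint S)))
    (hsη : Function.Surjective (RefHull.stalkMapₗ (γ ≫ b) (genericPoint S)))
    (hs : ∀ y : S, Order.coheight y = 1 → Function.Surjective (RefHull.stalkMapₗ (γ ≫ b) y)) :
    ∃ r : V ⟶ Coh.structureModule S, a ≫ r = 𝟙 _ := by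
  let η := genericPoint S
  have hker : ∀ (y : S) (v : V.presheaf.stalk y), RefHull.stalkMapₗ b y v = 0 →
      ∃ c, RefHull.stalkMapₗ a y c = v := fun y v hv => by
    have h2 := (hex.map_of_exact (DerSch.stalkFunctor S y)).exact
    rw [ShortComplex.moduleCat_exact_iff] at h2
    exact h2 v hv
  let s := (LinearEquiv.ofBijective _ ⟨hinj, hsη⟩).symm
  let P : V.presheaf.stalk η →ₗ[S.presheaf.stalk η] V.presheaf.stalk η :=
    LinearMap.id - (RefHull.stalkMapₗ γ η).comp (s.toLinearMap.comp (RefHull.stalkMapₗ b η))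
  let A := LinearEquiv.ofInjective (RefHull.stalkMapₗ a η) (CurveBundle.stalkMap_injective a η)
  have hs' : ∀ z, RefHull.stalkMapₗ b η (RefHull.stalkMapₗ γ η (s z)) = z := fun z => by
    have h : RefHull.stalkMapₗ (γ ≫ b) η (s z) = z :=
      (LinearEquiv.ofBijective _ ⟨hinj, hsη⟩).apply_symm_apply z
    rw [RefFun.stalkMapₗ_comp] at h
    exact h
  have hPv : ∀ v, P v = v - RefHull.stalkMapₗ γ η (s (RefHull.stalkMapₗ b η v)) := fun v => rfl
  have hP : ∀ v, P v ∈ LinearMap.range (RefHull.stalkMapₗ a η) := fun v => by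
    refine hker η (P v) ?_
    rw [hPv, map_sub, hs', sub_self]
  let T := A.symm.toLinearMap.comp (P.codRestrict _ hP)
  have hT : ∀ v c, RefHull.stalkMapₗ a η c = P v → T v = c := fun v c h => by
    refine A.injective ?_
    show A (A.symm _) = _
    rw [A.apply_symm_apply]
    exact Subtype.ext h.symm
  obtain ⟨r, hr⟩ := Ref1X.exists_hom hX RefX.isCoh_unit Ref1X.isReflexive_unit T fun y hy m => by
    obtain ⟨g, hg⟩ := hs y hy (RefHull.stalkMapₗ b y m)
    rw [RefFun.stalkMapₗ_comp, LinearMap.comp_apply] at hg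
    obtain ⟨c, hc⟩ := hker y (m - RefHull.stalkMapₗ γ y g) (by rw [map_sub, hg, sub_self])
    refine ⟨c, (hT _ _ ?_).symm⟩
    have hsg : s (RefHull.stalkMapₗ b η (Ref1X.gsp V y m)) = Ref1X.gsp G y g := by
      rw [LinearEquiv.symm_apply_eq, LinearEquiv.ofBijective_apply, RefFun.stalkMapₗ_comp, LinearMap.comp_apply,
        ← Ref1X.sp_stalkMap γ (Ref1X.eta_le y), ← Ref1X.sp_stalkMap b (Ref1X.eta_le y),
        ← Ref1X.sp_stalkMap b (Ref1X.eta_le y), hg]
    rw [hPv, hsg, ← Ref1X.sp_stalkMap a (Ref1X.eta_le y), hc, map_sub, Ref1X.sp_stalkMap γ (Ref1X.eta_le y)]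
  refine ⟨r, Ref1X.hom_ext_eta (Ref1X.gsp_injective RefX.isCoh_unit Ref1X.isReflexive_unit) fun v => ?_⟩
  rw [RefFun.stalkMapₗ_comp, hr]
  refine (hT _ v ?_).trans ?_
  · have h0 : RefHull.stalkMapₗ b η (RefHull.stalkMapₗ a η v) = 0 :=
      ConcreteCategory.congr_hom (ShortComplex.zero (ShortComplex.map (ShortComplex.mk a b w)
        (DerSch.stalkFunctor S η))) v
    rw [hPv, h0, map_zero, map_zero, sub_zero]
  · exact (ConcreteCategory.congr_hom ((DerSch.stalkFunctor S η).map_id (Coh.structureModule S)) v).symm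

/-- Let k be an algebraically closed field of characteristic zero and S a smooth projective surface over
k (integral, smooth over k, of dimension two, with a closed immersion over k into some projective
space) whose Picard group is infinite cyclic, generated by the class of an ample invertible sheaf L.
Let N ⊆ L be a coherent subsheaf whose quotient L/N has support of dimension at most zero (N is L
twisted by the ideal sheaf of a finite subscheme, possibly empty), and let V be a coherent
O_S-module with torsion-free stalks in a short exact sequence 0 → O_S → V → N → 0 that does not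
split. Then V is slope-stable of dimension two with respect to L: V has no coherent subsheaf with
one-dimensional support, and every coherent subsheaf whose multiplicity lies strictly between 0 and
that of V has normalised slope of its Hilbert polynomial strictly smaller than that of V. (The
published statement does not ask the extension to be non-split; for the split extension V = O_S ⊕ N
the subsheaf N has larger slope than V, and the printed argument uses that the sequence does not
split, so non-splitness is assumed here.) -/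
theorem result
    (k : Type u) [Field k] [IsAlgClosed k] [CharZero k]
    (S : Scheme.{u}) [S.Over (Spec (CommRingCat.of k))] [IsIntegral S]
    [Smooth (S ↘ Spec (CommRingCat.of k))] (hdim : topologicalKrullDim S = 2)
    [IsProper (S ↘ Spec (CommRingCat.of k))]
    (hproj : ∃ (n : ℕ) (ι : S ⟶ CohB1.ProjSpace n k), IsClosedImmersion ι ∧
      ι ≫ CohB1.ProjSpace.toSpec n k = S ↘ Spec (CommRingCat.of k))
    (L : S.Modules) (hLi : PicF.IsInvertible L) (hLa : CohB1.IsAmple L)
    [PicGrp.Law S] (hgen : ∀ c : PicLoc.PicSet S, ∃ n : ℤ, c = PicGrp.cls L hLi ^ n)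
    (hfree : ∀ n : ℤ, PicGrp.cls L hLi ^ n = 1 → n = 0)
    (N : S.Modules) (ι : N ⟶ L) [Mono ι] (hN : Coh.IsCoh N)
    (hZ : topologicalKrullDim (CohB1.support (cokernel ι)) ≤ 0)
    (V : S.Modules) (hV : Coh.IsCoh V) (hVtf : TorSh.IsTorsionFree V)
    (a : Coh.structureModule S ⟶ V) (b : V ⟶ N) (w : a ≫ b = 0)
    (hex : (ShortComplex.mk a b w).ShortExact)
    (hns : ∀ r : V ⟶ Coh.structureModule S, a ≫ r ≠ 𝟙 (Coh.structureModule S)) :
    ShStab.IsMuStable k S L V 2 := by
  haveI : IsNoetherian S := CurveCohLib.isNoetherian_of_proper (k := k)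
  have hX := normal_of_smooth (k := k) (X := S)
  haveI : Mono a := hex.mono_f
  haveI : Epi b := hex.epi_g
  have hLc := AmpleVan.isCoh_invertible hLi
  have hO := RefX.isCoh_unit (X := S)
  have ha := pos_a₂_unit (k := k) hdim hLa
  -- the invariants of `L` and `N`
  have hLinv : a₂ k L L = a₂ k L (Coh.structureModule S) ∧
      a₁ k L L = a₁ k L (Coh.structureModule S) + a₂ k L (Coh.structureModule S) := by
    obtain ⟨hT, h2, h1⟩ := twist_invariants (k := k) hLa (tame_of_coh hdim hO)
    obtain ⟨e2, e1⟩ := invariants_iso (k := k) hdim hLa hT.coh (CurveTensor.structureTensorIso L)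
    exact ⟨e2.trans h2, e1.trans h1⟩
  have hQc : Coh.IsCoh (cokernel ι) := QCoh.isCoh_cokernel hN.1 hLc ι
  have hsη : Function.Surjective (RefHull.stalkMapₗ ι (genericPoint S)) := by
    refine (StabHom.bijective_stalk ι _ fun hm => ?_).2
    have h1 := H23.TopDim.dim_le_dim_of_subset ((QCoh.isClosed_support_of_ft hQc.2).closure_subset_iff.2
      (Set.singleton_subset_iff.2 hm))
    rw [genericPoint_closure, (IsHomeomorph.topologicalKrullDim_eq _
      (Homeomorph.Set.univ S).isHomeomorph), hdim] at h1
    exact absurd (h1.trans hZ) (by decide)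
  obtain ⟨-, eN2, eN1, -⟩ := invariants_of_mono hdim (k := k) hLa hN hLc ι hsη
  have hQ1 : a₁ k L (cokernel ι) = 0 :=
    hp_alpha_eq_zero (d := 1) hLa hQc (lt_of_le_of_lt hZ (by decide))
  obtain ⟨eV2, eV1⟩ := invariants_add (k := k) hdim hLa a b w hex hO hV hN
  have hinjV := gsp_injective hV.1 hVtf
  have hV0 : ¬ IsZero V := fun hz =>
    one_ne_zero (α := Γ(S, ⊤)) (congrArg InvX.one ((IsZero.of_mono a hz).eq_of_src (𝟙 (Coh.structureModule S)) 0))
  refine isMuStable_of hdim hLa hV hinjV hV0 fun G γ hγ hG hG0 hlt => ?_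
  haveI := hγ
  obtain ⟨K, I, α, p, β, w', hfac, hα, hβ, hp', hse, hK, hI⟩ := exists_factor (k := k) hG hN (γ ≫ b)
  haveI := hα; haveI := hβ
  obtain ⟨eG2, eG1⟩ := invariants_add (k := k) hdim hLa α p w' hse hK hG hI
  -- the intersection with the trivial submodule
  let c : K ⟶ Coh.structureModule S := hex.fIsKernel.lift (KernelFork.ofι (α ≫ γ) (by
    rw [Category.assoc, ← hfac, ← Category.assoc, w', zero_comp]))
  have hc : c ≫ a = α ≫ γ := hex.fIsKernel.fac _ WalkingParallelPair.zero
  haveI : Mono c := by haveI : Mono (c ≫ a) := by rw [hc]; infer_instance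
                       exact mono_of_mono c a
  have hLinj := invertible_gsp_injective (k := k) hLi
  have hKpos : ¬ IsZero K → a₂ k L K = a₂ k L (Coh.structureModule S) ∧ a₁ k L K ≤ a₁ k L (Coh.structureModule S) := fun h => by
    obtain ⟨-, e2, e1, h0⟩ := invariants_of_mono hdim (k := k) hLa hK hO c
      (surjective_eta_of_mono (k := k) InvX.isInvertible_structureModule c h)
    exact ⟨e2, by linarith⟩
  have hIpos : ¬ IsZero I → a₂ k L I = a₂ k L (Coh.structureModule S) := fun h => by
    obtain ⟨-, e2, -, -⟩ := invariants_of_mono hdim (k := k) hLa hI hLc (β ≫ ι)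
      (surjective_eta_of_mono (k := k) hLi (β ≫ ι) h)
    exact e2.trans hLinv.1
  by_cases hI0 : IsZero I
  · obtain ⟨z2, z1⟩ := invariants_zero (k := k) hdim hLa hI hI0
    have hK0 : ¬ IsZero K := fun hz => (pos_a₂ (k := k) hdim hLa hG (gsp_injective_of_mono γ hinjV) hG0).ne'
      (by rw [eG2, z2, (invariants_zero (k := k) hdim hLa hK hz).1, add_zero])
    obtain ⟨k2, k1⟩ := hKpos hK0
    rw [eG1, eG2, z1, z2, add_zero, add_zero, k2, eV1, eV2, eN2, hLinv.1]
    nlinarith [hLinv.2]
  have hi2 := hIpos hI0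
  by_cases hK0 : IsZero K
  swap
  · exfalso
    rw [eG2, (hKpos hK0).1, hi2, eV2, eN2, hLinv.1] at hlt
    exact lt_irrefl _ hlt
  obtain ⟨z2, z1⟩ := invariants_zero (k := k) hdim hLa hK hK0
  haveI : Mono p := hse.exact.mono_g (hK0.eq_of_src _ _)
  haveI := hp'
  rcases lt_or_surjective hdim (k := k) hLa hgen hLi hI (β ≫ ι) hI0 with h | ⟨-, h⟩
  · rw [eG1, eG2, z1, z2, zero_add, zero_add, hi2, eV1, eV2, eN2, hLinv.1]
    nlinarith [hLinv.2]
  exfalso
  haveI : Mono (γ ≫ b) := by rw [← hfac]; infer_instance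
  have hsur : ∀ y, Function.Surjective (RefHull.stalkMapₗ (β ≫ ι) y) →
      Function.Surjective (RefHull.stalkMapₗ (γ ≫ b) y) := fun y hy v => by
    obtain ⟨m, hm⟩ := hy (RefHull.stalkMapₗ ι y v)
    rw [RefFun.stalkMapₗ_comp] at hm
    haveI := ((DerSch.stalkFunctor S y).map_epi p)
    obtain ⟨g, rfl⟩ := (ModuleCat.epi_iff_surjective ((DerSch.stalkFunctor S y).map p)).1 inferInstance m
    refine ⟨g, CurveBundle.stalkMap_injective ι y ?_⟩
    rw [← hfac, RefFun.stalkMapₗ_comp]
    exact hm
  obtain ⟨r, hr⟩ := exists_retraction hX a b w hex γ (CurveBundle.stalkMap_injective (γ ≫ b) _)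
    (hsur _ (surjective_eta_of_mono (k := k) hLi (β ≫ ι) hI0)) fun y hy => hsur y (h y hy)
  exact hns r hr

end Groth.Agent.S15849
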