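import Groth.Statements.S15853
import Groth.Agent.SurfStab.RankTwo

set_option autoImplicit false
set_option linter.style.haveILetI false
set_option backward.isDefEq.respectTransparency false
set_option backward.isDefEq.respectTransparency.types false
universe u
open CategoryTheory CategoryTheory.Limits AlgebraicGeometry Polynomial
open ShStab

namespace Groth.Agent.S15853

open Groth.Agent Groth.Agent.SurfStab Groth.Agent.ShStabLib Groth.Agent.HilbPoly StabCat

/-- Let k be an algebraically closed field of characteristic zero and S a K3 surface over k — a smooth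
projective surface (integral, smooth over k, of dimension two, with a closed immersion over k into
some projective space) whose structure sheaf is a second exterior power of its sheaf of
differentials and with H^1(S, O_S) = 0 — whose Picard group is infinite cyclic, generated by the
class of an ample invertible sheaf L. Let V be a coherent O_S-module with torsion-free stalks,
stable of dimension two with respect to L, and let P be its Hilbert polynomial with respect to L,
P(m) = χ(V ⊗ L^m). Assume: the leading coefficient of P is twice that of the Hilbert polynomial of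
O_S (V has rank two); the coefficients of m and of m^2 in P agree (on such a surface this says
c_1(V)·L = L^2, i.e. the first Chern class of V is the class of L); and P(0) = χ(V) ≥ 1
(equivalently c_2(V) ≤ L^2/2 + 3). Then V is an extension of L ⊗ I_Z by O_S for some finite
subscheme Z: there are a coherent subsheaf N ⊆ L with L/N supported in dimension at most zero and a
short exact sequence 0 → O_S → V → N → 0, which moreover does not split. -/
theorem result
    (k : Type u) [Field k] [IsAlgClosed k] [CharZero k]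
    (S : Scheme.{u}) [S.Over (Spec (CommRingCat.of k))] [IsIntegral S]
    [Smooth (S ↘ Spec (CommRingCat.of k))] (hdim : topologicalKrullDim S = 2)
    [IsProper (S ↘ Spec (CommRingCat.of k))]
    (hproj : ∃ (n : ℕ) (ι : S ⟶ CohB1.ProjSpace n k), IsClosedImmersion ι ∧
      ι ≫ CohB1.ProjSpace.toSpec n k = S ↘ Spec (CommRingCat.of k))
    (hK : Canon.IsTopDiff (S ↘ Spec (CommRingCat.of k)) 2 (Coh.structureModule S))
    (hq : Module.finrank k (Coh.HH S (Coh.structureModule S) 1) = 0)
    (L : S.Modules) (hLi : PicF.IsInvertible L) (hLa : CohB1.IsAmple L)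
    [PicGrp.Law S] (hgen : ∀ c : PicLoc.PicSet S, ∃ n : ℤ, c = PicGrp.cls L hLi ^ n)
    (hfree : ∀ n : ℤ, PicGrp.cls L hLi ^ n = 1 → n = 0)
    (V : S.Modules) (hV : Coh.IsCoh V) (hVtf : TorSh.IsTorsionFree V)
    (hst : ShStab.IsStable k S L V 2)
    (P PO : ℚ[X]) (hP : ShStab.IsHilbPoly k S L V P)
    (hPO : ShStab.IsHilbPoly k S L (Coh.structureModule S) PO)
    (hrk : P.coeff 2 = 2 * PO.coeff 2) (hc1 : P.coeff 1 = P.coeff 2) (hchi : 1 ≤ P.coeff 0) :
    ∃ (N : S.Modules) (ι : N ⟶ L) (_ : Mono ι) (_ : Coh.IsCoh N)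
      (_ : topologicalKrullDim (CohB1.support (cokernel ι)) ≤ 0)
      (a : Coh.structureModule S ⟶ V) (b : V ⟶ N) (w : a ≫ b = 0),
      (ShortComplex.mk a b w).ShortExact ∧
        ∀ r : V ⟶ Coh.structureModule S, a ≫ r ≠ 𝟙 (Coh.structureModule S) := by
  obtain ⟨N₀, ι₀, hι₀, hι₀'⟩ := hproj
  haveI := hι₀
  haveI : IsNoetherian S := CurveCohLib.isNoetherian_of_proper (k := k)
  have hO := RefX.isCoh_unit (X := S)
  have hTV := tame_of_coh (X := S) hdim hV
  have eP := hp_eq (k := k) hLa hTV hP
  have eO := hp_eq (k := k) hLa (tame_of_coh hdim hO) hPO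
  subst eP eO
  have hA := pos_a₂_unit (k := k) hdim hLa
  have hLc := AmpleVan.isCoh_invertible hLi
  -- the linear coefficient of the structure sheaf vanishes
  have hO1 : a₁ k L (Coh.structureModule S) = 0 := by
    obtain ⟨D, hD, ⟨eD⟩⟩ := H23.PicInv.exists_inverse hLi
    obtain ⟨cD⟩ := H23.PicMul.comm D L
    have hDc := AmpleVan.isCoh_invertible hD
    obtain ⟨hTD, hDp⟩ := hp_twist (k := k) hLa (tame_of_coh hdim hDc)
    obtain ⟨hTL, hLp⟩ := hp_twist (k := k) hLa (tame_of_coh hdim hO)
    rw [← hp_iso (k := k) hLa hTD (cD ≪≫ eD)] at hDp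
    rw [← hp_iso (k := k) hLa hTL (CurveTensor.structureTensorIso L)] at hLp
    refine coeff_one_eq_zero_of_eval (hp_natDegree hLa (tame_of_coh hdim hO)) ?_
    have h1 := euler_eq_eval (k := k) hdim hLa hDc
    have h2 := euler_eq_eval (k := k) hdim hLa hLc
    rw [euler_inverse (k := k) hdim ι₀ hι₀' hK hD eD] at h1
    rw [hLp, eval_comp] at h2
    have h3 : (hp k L (Coh.structureModule S)).eval (-1) = (hp k L D).eval 0 := by rw [hDp, eval_comp]; simp
    rw [h3]
    simpa using h1.symm.trans h2
  have hV2 : a₂ k L V = 2 * a₂ k L (Coh.structureModule S) := by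
    simp only [a₂, alpha]; rw [hrk]; ring
  have hV1 : a₁ k L V = a₂ k L (Coh.structureModule S) := by
    simp only [a₁, a₂, alpha]; rw [hc1, hrk]; norm_num
  have hinj := gsp_injective hV.1 hVtf
  -- slopes of rank one subsheaves
  have hsub : ∀ (G : S.Modules) (γ : G ⟶ V), Mono γ → Coh.IsCoh G → a₂ k L G = a₂ k L (Coh.structureModule S) →
      2 * a₁ k L G ≤ a₂ k L (Coh.structureModule S) := by
    intro G γ hγ hG hG2
    have hG0 : ¬ IsZero G := fun hz => hA.ne' (hG2.symm.trans (invariants_zero (k := k) hdim hLa hG hz).1)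
    have hni : ¬ IsIso γ := fun h => by
      haveI := h
      have := (invariants_iso (k := k) hdim hLa hG (asIso γ)).1
      linarith
    have hlt := hst.2.2.2 G γ hγ hG hG0 hni _ _ (hp_spec hLa (tame_of_coh hdim hG)) hP
    have hG2' : alpha 2 (hp k L G) = alpha 2 (hp k L (Coh.structureModule S)) := hG2
    have hV2' : alpha 2 (hp k L V) = 2 * alpha 2 (hp k L (Coh.structureModule S)) := hV2
    have htop : alpha 2 (hp k L V) * (hp k L G).coeff 2 = alpha 2 (hp k L G) * (hp k L V).coeff 2 := by
      simp only [alpha]; ring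
    have h1 := alpha_one_le_of_polyLT (hp_natDegree hLa (tame_of_coh hdim hG)) (hp_natDegree hLa hTV) htop hlt
    rw [hG2', hV2', show alpha 1 (hp k L V) = _ from hV1] at h1
    refine le_of_mul_le_mul_left ?_ hA
    show _ * (2 * alpha 1 (hp k L G)) ≤ _
    linarith
  -- no maps to the structure sheaf
  have hom0 : ∀ φ : V ⟶ Coh.structureModule S, φ = 0 := fun φ => by
    by_contra hφ
    obtain ⟨K, I, α, p, β, w', hfac, hα, hβ, hp', hse, hKc, hI⟩ := exists_factor (k := k) hV hO φ
    haveI := hβ
    have hI0 : ¬ IsZero I := fun hz => hφ (by rw [← hfac, hz.eq_of_tgt p 0, Limits.zero_comp])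
    obtain ⟨-, i2, i1, i0⟩ := invariants_of_mono hdim (k := k) hLa hI hO β
      (surjective_eta_of_mono (k := k) InvX.isInvertible_structureModule β hI0)
    obtain ⟨e2, e1⟩ := invariants_add (k := k) hdim hLa α p w' hse hKc hV hI
    have := hsub K α hα hKc (by linarith)
    linarith
  -- a section
  obtain ⟨a, ha⟩ : ∃ a : Coh.structureModule S ⟶ V, a ≠ 0 := by
    by_contra hc
    push Not at hc
    haveI : Subsingleton (Coh.HH S V 0) := subsingleton_of_forall_eq (SheafHomX.cls 0) fun h => by
      obtain ⟨y, rfl⟩ := SheafHomX.cls_surjective h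
      rw [hc y]
    have h2 := h2_eq_zero (k := k) hdim ι₀ hι₀' hK hV hom0
    have he := euler_eq_eval (k := k) hdim hLa hV
    rw [euler_eq_three hdim, Module.finrank_zero_of_subsingleton, h2, ← coeff_zero_eq_eval_zero] at he
    push_cast at he
    have : (0 : ℚ) ≤ (Module.finrank k (Coh.HH S V 1) : ℚ) := Nat.cast_nonneg _
    linarith
  obtain ⟨N, ι, hι, hN, hZ, b, w, hex⟩ := exists_extension (k := k) hdim hLa hgen hO1 hV hinj hV2 hV1 hsub a ha
  refine ⟨N, ι, hι, hN, hZ, a, b, w, hex, fun r hr => ?_⟩
  rw [hom0 r, Limits.comp_zero] at hr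
  exact one_ne_zero (α := Γ(S, ⊤)) (congrArg InvX.one hr.symm)

end Groth.Agent.S15853
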