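import Groth.Statements.S15854
import Groth.Agent.SurfStab.RankTwoBundle
import Groth.Agent.H23.DblAlg
import Groth.Agent.ExtShX.Adjunction

set_option autoImplicit false
set_option linter.style.haveILetI false
set_option backward.isDefEq.respectTransparency false
set_option backward.isDefEq.respectTransparency.types false
universe u
open CategoryTheory CategoryTheory.Limits AlgebraicGeometry Polynomial
open ShStab

namespace Groth.Agent.S15854

open Groth.Agent Groth.Agent.SurfStab Groth.Agent.ShStabLib Groth.Agent.HilbPoly StabCat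

/-- Let k be an algebraically closed field of characteristic zero and S a K3 surface over k — a smooth
projective surface (integral, smooth over k, of dimension two, with a closed immersion over k into
some projective space) whose structure sheaf is a second exterior power of its sheaf of
differentials and with H^1(S, O_S) = 0 — whose Picard group is infinite cyclic, generated by the
class of an ample invertible sheaf L. Let V be a locally free O_S-module of rank two, stable of
dimension two with respect to L, with Hilbert polynomial P, P(m) = χ(V ⊗ L^m), such that the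
coefficients of m and m^2 in P agree (c_1(V)·L = L^2, i.e. the first Chern class of V is the class
of L), and let n be a natural number with P(n) = χ(V ⊗ L^n) ≥ 1 (by Riemann–Roch this is the bound
c_2(V) ≤ (n^2 + n + 1/2) L^2 + 3). Then V is an extension of type m for some m ≤ n: there are a
natural number m ≤ n, an invertible O_S-module M whose class is the inverse of the class of L^{⊗m},
a coherent subsheaf N ⊆ L^{⊗(m+1)} whose quotient is supported in dimension at most zero (N is
L^{⊗(m+1)} twisted by the ideal of a finite subscheme Z_m), and a short exact sequence 0 → M → V → N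
→ 0. (The published statement also records the length of Z_m as c_2 + m(m+1)L^2; that Chern-class
bookkeeping is not restated here. The published statement also assumes the lower bound c_2 >
((n-1)^2 + (n-1) + 1/2) L^2 + 3 with n ≥ 1; the argument uses only the upper bound, and neither the
lower bound nor n ≥ 1 is assumed here.) -/
theorem result
    (k : Type u) [Field k] [IsAlgClosed k] [CharZero k]
    (S : Scheme.{u}) [S.Over (Spec (CommRingCat.of k))] [IsIntegral S]
    [Smooth (S ↘ Spec (CommRingCat.of k))] (hdim : topologicalKrullDim S = 2)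
    [IsProper (S ↘ Spec (CommRingCat.of k))]
    (hproj : ∃ (n : ℕ) (ι : S ⟶ CohB1.ProjSpace n k), IsClosedImmersion ι ∧
      ι ≫ CohB1.ProjSpace.toSpec n k = S ↘ Spec (CommRingCat.of k))
    (hK : Canon.IsTopDiff (S ↘ Spec (CommRingCat.of k)) 2 (Coh.structureModule S))
    (hq : Module.finrank k (Coh.HH S (Coh.structureModule S) 1) = 0)
    (L : S.Modules) (hLi : PicF.IsInvertible L) (hLa : CohB1.IsAmple L)
    [PicGrp.Law S] (hgen : ∀ c : PicLoc.PicSet S, ∃ n : ℤ, c = PicGrp.cls L hLi ^ n)
    (hfree : ∀ n : ℤ, PicGrp.cls L hLi ^ n = 1 → n = 0)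
    (V : S.Modules) (hV : FlatMod.IsFinLocFreeOfRank 2 V)
    (hst : ShStab.IsStable k S L V 2)
    (P : ℚ[X]) (hP : ShStab.IsHilbPoly k S L V P) (hc1 : P.coeff 1 = P.coeff 2)
    (n : ℕ) (hn : 1 ≤ P.eval (n : ℚ)) :
    ∃ (m : ℕ) (_ : m ≤ n) (M : S.Modules) (hM : PicF.IsInvertible M)
      (_ : PicGrp.cls M hM * PicGrp.cls L hLi ^ m = 1)
      (N : S.Modules) (ι : N ⟶ CohB1.tensorPow L (m + 1)) (_ : Mono ι) (_ : Coh.IsCoh N)
      (_ : topologicalKrullDim (CohB1.support (cokernel ι)) ≤ 0)
      (a : M ⟶ V) (b : V ⟶ N) (w : a ≫ b = 0),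
      (ShortComplex.mk a b w).ShortExact := by
  obtain ⟨N₀, ι₀, hι₀, hι₀'⟩ := hproj
  haveI := hι₀
  haveI : IsNoetherian S := CurveCohLib.isNoetherian_of_proper (k := k)
  have hO := RefX.isCoh_unit (X := S)
  have hVlf := H23.DblAlg.isFinLocFree_of_rank hV
  have hVc : Coh.IsCoh V := CurveDeg.isCoh_of_isFinLocFree hVlf
  have hVr : RefHull.IsReflexive V := (RefX.isReflexive_iff hVc).2 fun x => by
    haveI := QCoh.free_stalk_of_isFinLocFree hVlf x
    haveI := QCoh.finite_stalk_of_isFT hVc.1 hVc.2 x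
    exact (inferInstance : Module.IsReflexive (S.presheaf.stalk x) (V.presheaf.stalk x))
  have hinj := Ref1X.gsp_injective hVc hVr
  have hTV := tame_of_coh (X := S) hdim hVc
  have eP := hp_eq (k := k) hLa hTV hP
  subst eP
  have hA := pos_a₂_unit (k := k) hdim hLa
  have hLc := AmpleVan.isCoh_invertible hLi
  -- the linear coefficient of the structure sheaf vanishes
  have hO1 : a₁ k L (Coh.structureModule S) = 0 := by
    obtain ⟨D, hD, ⟨eD⟩⟩ := H23.PicInv.exists_inverse hLi
    obtain ⟨cD⟩ := H23.PicMul.comm D L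
    have hDc := AmpleVan.isCoh_invertible hD
    obtain ⟨hTD, hDp⟩ := hp_twist (k := k) hLa (tame_of_coh hdim hDc)
    obtain ⟨hTL, hLp⟩ := hp_twist (k := k) hLa (tame_of_coh hdim hO)
    rw [← hp_iso (k := k) hLa hTD (cD ≪≫ eD)] at hDp
    rw [← hp_iso (k := k) hLa hTL (CurveTensor.structureTensorIso L)] at hLp
    refine coeff_one_eq_zero_of_eval (hp_natDegree hLa (tame_of_coh hdim hO)) ?_
    have h1 := euler_eq_eval (k := k) hdim hLa hDc
    have h2 := euler_eq_eval (k := k) hdim hLa hLc
    rw [euler_inverse (k := k) hdim ι₀ hι₀' hK hD eD] at h1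
    rw [hLp, eval_comp] at h2
    have h3 : (hp k L (Coh.structureModule S)).eval (-1) = (hp k L D).eval 0 := by rw [hDp, eval_comp]; simp
    rw [h3]
    simpa using h1.symm.trans h2
  have hV2 : a₂ k L V = 2 * a₂ k L (Coh.structureModule S) := by
    rw [a₂_eq_finrank (k := k) hdim hLa hVc, (ExtShX.finrank_stalk_eq hV (genericPoint S)).2.2]
    norm_num
  have hV1 : a₁ k L V = a₂ k L (Coh.structureModule S) := by
    have h2 : a₂ k L V = 2 * (hp k L V).coeff 2 := by simp only [a₂, alpha]; norm_num
    have h1 : a₁ k L V = (hp k L V).coeff 1 := by simp only [a₁, alpha]; norm_num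
    linarith
  -- slopes of rank one subsheaves
  have hsub : ∀ (G : S.Modules) (γ : G ⟶ V), Mono γ → Coh.IsCoh G → a₂ k L G = a₂ k L (Coh.structureModule S) →
      2 * a₁ k L G ≤ a₂ k L (Coh.structureModule S) := by
    intro G γ hγ hG hG2
    have hV := hVc
    have hG0 : ¬ IsZero G := fun hz => hA.ne' (hG2.symm.trans (invariants_zero (k := k) hdim hLa hG hz).1)
    have hni : ¬ IsIso γ := fun h => by
      haveI := h
      have := (invariants_iso (k := k) hdim hLa hG (asIso γ)).1
      linarith
    have hlt := hst.2.2.2 G γ hγ hG hG0 hni _ _ (hp_spec hLa (tame_of_coh hdim hG)) hP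
    have hG2' : alpha 2 (hp k L G) = alpha 2 (hp k L (Coh.structureModule S)) := hG2
    have hV2' : alpha 2 (hp k L V) = 2 * alpha 2 (hp k L (Coh.structureModule S)) := hV2
    have htop : alpha 2 (hp k L V) * (hp k L G).coeff 2 = alpha 2 (hp k L G) * (hp k L V).coeff 2 := by
      simp only [alpha]; ring
    have h1 := alpha_one_le_of_polyLT (hp_natDegree hLa (tame_of_coh hdim hG)) (hp_natDegree hLa hTV) htop hlt
    rw [hG2', hV2', show alpha 1 (hp k L V) = _ from hV1] at h1
    refine le_of_mul_le_mul_left ?_ hA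
    show _ * (2 * alpha 1 (hp k L G)) ≤ _
    linarith
  -- a section after twisting
  let Ln := CohB1.tensorPow L n
  have hLn : PicF.IsInvertible Ln := InvX.isInvertible_tensorPow hLi n
  obtain ⟨D, hD, ⟨eD⟩⟩ := H23.PicInv.exists_inverse hLn
  have hDcls : PicGrp.cls D hD = PicGrp.cls L hLi ^ (-(n : ℤ)) := by
    rw [zpow_neg, zpow_natCast, ← ASB.cls_tensorPow hLi]
    exact eq_inv_of_mul_eq_one_right ((PicGrp.cls_mul_cls_eq_one_iff hLn hD).2 ⟨eD⟩)
  obtain ⟨hD2, hD1⟩ := invariants_of_cls (k := k) hdim hLa hD _ hDcls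
  rw [hO1, zero_add] at hD1
  push_cast at hD1
  let W := CohB1.tensorMod V Ln
  obtain ⟨hTW, -, -⟩ := twistPow_invariants (k := k) hLa hTV n
  let eW : CohB1.tensorMod W D ≅ V :=
    (((KFlatLib.tensorAssocSch S).app V).app Ln).app D ≪≫ (DCoh.tensorBi.obj V).mapIso eD ≪≫ AmpleVan.twUnit.app V
  haveI : (AmpleVan.tw D).IsEquivalence := AmpleVan.isEquivalence_tw hD
  have hom0 : ∀ φ : W ⟶ Coh.structureModule S, φ = 0 := fun φ => by
    have hψ : eW.inv ≫ (AmpleVan.tw D).map φ ≫ (CurveTensor.structureTensorIso D).hom = 0 := by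
      by_contra hψ
      obtain ⟨K, I, α, p, β, w', hfac, hα, hβ, hp', hse, hKc, hI⟩ :=
        exists_factor (k := k) hVc (AmpleVan.isCoh_invertible hD)
          (eW.inv ≫ (AmpleVan.tw D).map φ ≫ (CurveTensor.structureTensorIso D).hom)
      haveI := hβ
      have hI0 : ¬ IsZero I := fun hz => hψ (by rw [← hfac, hz.eq_of_tgt p 0, Limits.zero_comp])
      obtain ⟨-, i2, i1, i0⟩ := invariants_of_mono hdim (k := k) hLa hI (AmpleVan.isCoh_invertible hD) β
        (surjective_eta_of_mono (k := k) hD β hI0)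
      obtain ⟨e2, e1⟩ := invariants_add (k := k) hdim hLa α p w' hse hKc hVc hI
      have := hsub K α hα hKc (by linarith)
      have : (0 : ℚ) ≤ n := Nat.cast_nonneg n
      nlinarith
    refine (AmpleVan.tw D).map_injective ?_
    rw [Functor.map_zero, ← cancel_epi eW.inv, ← cancel_mono (CurveTensor.structureTensorIso D).hom, Category.assoc]
    simpa using hψ
  obtain ⟨s, hs⟩ : ∃ s : Coh.structureModule S ⟶ W, s ≠ 0 := by
    by_contra hc
    push Not at hc
    haveI : Subsingleton (Coh.HH S W 0) := subsingleton_of_forall_eq (SheafHomX.cls 0) fun h => by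
      obtain ⟨y, rfl⟩ := SheafHomX.cls_surjective h
      rw [hc y]
    have h2 := h2_eq_zero (k := k) hdim ι₀ hι₀' hK hTW.coh hom0
    have he : (Curv2.euler k S W : ℚ) = (hp k L V).eval (n : ℚ) := hp_spec hLa hTV n
    rw [euler_eq_three hdim, Module.finrank_zero_of_subsingleton, h2] at he
    push_cast at he
    have : (0 : ℚ) ≤ (Module.finrank k (Coh.HH S W 1) : ℚ) := Nat.cast_nonneg _
    linarith
  have ha₀ : (CurveTensor.structureTensorIso D).inv ≫ (AmpleVan.tw D).map s ≫ eW.hom ≠ 0 := fun h => hs <| by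
    refine (AmpleVan.tw D).map_injective ?_
    rw [Functor.map_zero, ← cancel_epi (CurveTensor.structureTensorIso D).inv, ← cancel_mono eW.hom, Category.assoc]
    simpa using h
  obtain ⟨M, N, M', hM, hM', μ, hμ, hN, hZ, a, b, w, ha, hex, hM2, hle, hsum⟩ :=
    exists_saturation (k := k) hdim hLa hVc hVr hV2 hD hD2
      ((CurveTensor.structureTensorIso D).inv ≫ (AmpleVan.tw D).map s ≫ eW.hom) ha₀
  obtain ⟨c, hc⟩ := hgen (PicGrp.cls M hM)
  obtain ⟨-, hc1'⟩ := invariants_of_cls (k := k) hdim hLa hM c hc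
  rw [hO1, zero_add] at hc1'
  have hsl := hsub M a ha (AmpleVan.isCoh_invertible hM) hM2
  have hlo : -(n : ℚ) ≤ c := le_of_mul_le_mul_right (by linarith) hA
  have hhi : (c : ℚ) < 1 := lt_of_mul_lt_mul_right (by linarith) hA.le
  have hlo' : -(n : ℤ) ≤ c := by exact_mod_cast hlo
  have hhi' : c < 1 := by exact_mod_cast hhi
  obtain ⟨m, rfl⟩ : ∃ m : ℕ, c = -(m : ℤ) := ⟨(-c).toNat, by omega⟩
  have hcls : PicGrp.cls M' hM' = PicGrp.cls L hLi ^ (((m + 1 : ℕ) : ℤ)) := by
    refine cls_of_a₁ (k := k) hdim hLa hgen hM' ?_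
    rw [hV1, hc1'] at hsum
    rw [hO1, zero_add]
    push_cast at hsum ⊢
    linarith
  rw [zpow_natCast, ← ASB.cls_tensorPow hLi] at hcls
  obtain ⟨e⟩ := ASB.iso_of_cls hcls
  haveI := hμ
  refine ⟨m, by omega, M, hM, ?_, N, μ ≫ e.hom, inferInstance, hN, ?_, a, b, w, hex⟩
  · rw [hc, zpow_neg, zpow_natCast, inv_mul_cancel]
  · have hc0 := QCoh.isCoh_cokernel hN.1 (AmpleVan.isCoh_invertible hM') μ
    have h0 : topologicalKrullDim ↥(CohB1.support (cokernel μ)) ≤ ((0 : ℕ) : WithBot ℕ∞) := hZ
    exact ((Tame.mk hc0 h0).of_epi (QCoh.isCoh_cokernel hN.1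
      (AmpleVan.isCoh_invertible (InvX.isInvertible_tensorPow hLi (m + 1))) (μ ≫ e.hom))
      (cokernelCompIsIso μ e.hom).inv).dim

end Groth.Agent.S15854
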