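import Groth.Statements.S15866
import Groth.Agent.SurfRR.Effective
import Groth.Agent.SurfRR.FiniteInter
import Groth.Agent.ParShLib.FibD
import Groth.Agent.CurveCohLib.GlobGen
import Groth.Agent.FlatX.FibreQuasi
import Groth.Agent.Big.SectionDivisor
import Groth.Agent.H9AlgEq.LinForm
import Groth.Agent.SmoothReg.Scheme
import Groth.Agent.ExtShX.SmoothDual

set_option autoImplicit false
set_option linter.style.haveILetI false
set_option linter.unusedSectionVars false
set_option backward.isDefEq.respectTransparency false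
set_option backward.isDefEq.respectTransparency.types false
set_option maxHeartbeats 1000000
open CategoryTheory CategoryTheory.Limits AlgebraicGeometry
open SurfBl

namespace Groth.Agent.S15866

open Groth.Agent
open Groth.Agent.H23.PicMul
section Alg

open IsLocalRing

/-- In a quotient of a local ring of dimension at least two by an ideal inside `m ^ n`, cutting by an element of the
maximal ideal leaves length at least `n`. -/
theorem le_finrank_quot {k : Type*} [Field k] {R A : Type} [CommRing R] [IsLocalRing R] [IsNoetherianRing R]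
    (hdim : 2 ≤ ringKrullDim R) [CommRing A] (φ : R →+* A) (hφ : Function.Surjective φ) {n : ℕ}
    (hker : RingHom.ker φ ≤ maximalIdeal R ^ n) {h : R} (hh : h ∈ maximalIdeal R)
    {V : Type*} [AddCommGroup V] [Module k V] [Module.Finite k V] (π : A →+ V) (hπ : Function.Surjective π)
    (hπk : ∀ a, π a = 0 → a ∈ Ideal.span {φ h})
    (hπh : ∀ a ∈ Ideal.span {φ h}, π a = 0)
    (hsmul : ∀ (c : k), ∃ r : A, ∀ a, π (r * a) = c • π a) :
    n ≤ Module.finrank k V := by
  let M := (maximalIdeal R).map φ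
  let N : ℕ → Submodule k V := fun i =>
    { carrier := π '' (↑(M ^ i) : Set A)
      add_mem' := by
        rintro _ _ ⟨a, ha, rfl⟩ ⟨b, hb, rfl⟩
        exact ⟨a + b, (M ^ i).add_mem ha hb, map_add π a b⟩
      zero_mem' := ⟨0, (M ^ i).zero_mem, map_zero π⟩
      smul_mem' := by
        rintro c _ ⟨a, ha, rfl⟩
        obtain ⟨r, hr⟩ := hsmul c
        exact ⟨r * a, (M ^ i).mul_mem_left r ha, hr a⟩ }
  have hlt : ∀ i, i < n → N (i + 1) < N i := fun i hi => by
    refine lt_of_le_of_ne ?_ fun heq => ?_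
    · rintro _ ⟨a, ha, rfl⟩
      exact ⟨a, Ideal.pow_le_pow_right (Nat.le_succ i) ha, rfl⟩
    have h1 : maximalIdeal R ^ i ≤ Ideal.span {h} ⊔ maximalIdeal R • maximalIdeal R ^ i := fun r hr => by
      obtain ⟨b, hb, hbr⟩ : π (φ r) ∈ N (i + 1) := by
        rw [heq]
        exact ⟨φ r, by rw [← Ideal.map_pow]; exact Ideal.mem_map_of_mem φ hr, rfl⟩
      rw [SetLike.mem_coe, ← Ideal.map_pow] at hb
      obtain ⟨b', hb', rfl⟩ := (Ideal.mem_map_iff_of_surjective φ hφ).1 hb
      have h2 := hπk (φ r - φ b') (by rw [map_sub, hbr, sub_self])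
      obtain ⟨c, hc⟩ := Ideal.mem_span_singleton'.1 h2
      obtain ⟨c', rfl⟩ := hφ c
      have h3 : r - b' - c' * h ∈ maximalIdeal R ^ (i + 1) :=
        Ideal.pow_le_pow_right hi (hker (by rw [RingHom.mem_ker, map_sub, map_sub, map_mul, hc, sub_self]))
      have h4 : r = c' * h + (b' + (r - b' - c' * h)) := by ring
      rw [h4, smul_eq_mul, ← pow_succ']
      exact Submodule.add_mem_sup (Ideal.mul_mem_left _ _ (Ideal.mem_span_singleton_self h))
        ((maximalIdeal R ^ (i + 1)).add_mem hb' h3)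
    have h2 : maximalIdeal R ^ i ≤ Ideal.span {h} :=
      Submodule.le_of_le_smul_of_le_jacobson_bot (IsNoetherian.noetherian _)
        (maximalIdeal_le_jacobson ⊥) h1
    have h3 : maximalIdeal R ∈ (Ideal.span {h}).minimalPrimes :=
      ⟨⟨inferInstance, (Ideal.span_singleton_le_iff_mem _).2 hh⟩, fun p hp _ =>
        fun x hx => hp.1.mem_of_pow_mem i (hp.2 (h2 (Ideal.pow_mem_pow hx i)))⟩
    have h4 := Ideal.height_le_one_of_isPrincipal_of_mem_minimalPrimes (Ideal.span {h}) _ h3
    have h5 : ((2 : ℕ∞) : WithBot ℕ∞) ≤ ((maximalIdeal R).height : WithBot ℕ∞) := by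
      rw [IsLocalRing.maximalIdeal_height_eq_ringKrullDim]; exact hdim
    exact absurd ((WithBot.coe_le_coe.1 h5).trans h4) (by norm_num)
  have key : ∀ j, j ≤ n → j ≤ Module.finrank k (N (n - j)) := by
    intro j
    induction j with
    | zero => exact fun _ => Nat.zero_le _
    | succ j ih =>
      intro hj
      have h1 := ih (by omega)
      have h2 := hlt (n - (j + 1)) (by omega)
      rw [show n - (j + 1) + 1 = n - j by omega] at h2
      have h3 := Submodule.finrank_lt_finrank_of_lt h2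
      omega
  exact (key n le_rfl).trans (Submodule.finrank_le _)

end Alg

/-- The stalk of the ideal of a closed point. -/
theorem stI_point {X : Scheme.{0}} {x : X} (hx : IsClosed ({x} : Set X)) :
    Div21Lib.stI (Scheme.IdealSheafData.vanishingIdeal ⟨{x}, hx⟩) x = IsLocalRing.maximalIdeal (X.presheaf.stalk x) := by
  obtain ⟨U, hU, hxU, -⟩ := exists_isAffineOpen_mem_and_subset (x := x) (U := ⊤) trivial
  let p := hU.primeIdealOf ⟨x, hxU⟩
  letI := X.presheaf.algebra_section_stalk (⟨x, hxU⟩ : U)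
  haveI : IsLocalization.AtPrime (X.presheaf.stalk x) p.asIdeal := hU.isLocalization_stalk ⟨x, hxU⟩
  have hpre : hU.fromSpec.base ⁻¹' ({x} : Set X) = {p} := by
    ext q
    refine ⟨fun hq => hU.fromSpec.isOpenEmbedding.injective (Eq.trans hq (hU.fromSpec_primeIdealOf ⟨x, hxU⟩).symm),
      fun hq => ?_⟩
    rw [Set.mem_singleton_iff] at hq
    subst hq
    exact hU.fromSpec_primeIdealOf ⟨x, hxU⟩
  rw [Div21Lib.stI_eq _ ⟨U, hU⟩ hxU, Scheme.IdealSheafData.vanishingIdeal_ideal]
  change Ideal.map _ (PrimeSpectrum.vanishingIdeal (hU.fromSpec.base ⁻¹' ({x} : Set X))) = _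
  rw [hpre]
  erw [PrimeSpectrum.vanishingIdeal_singleton]
  exact IsLocalization.AtPrime.map_eq_maximalIdeal p.asIdeal (X.presheaf.stalk x)

theorem stI_pow {X : Scheme.{0}} (J : X.IdealSheafData) (x : X) (n : ℕ) :
    Div21Lib.stI (J ^ n) x = Div21Lib.stI J x ^ n := by
  obtain ⟨U, hU, hxU, -⟩ := exists_isAffineOpen_mem_and_subset (x := x) (U := ⊤) trivial
  rw [Div21Lib.stI_eq _ ⟨U, hU⟩ hxU, Div21Lib.stI_eq _ ⟨U, hU⟩ hxU, ← Ideal.map_pow,
    Scheme.IdealSheafData.ideal_pow]
  rfl

theorem stI_mono {X : Scheme.{0}} {I J : X.IdealSheafData} (h : I ≤ J) (x : X) :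
    Div21Lib.stI I x ≤ Div21Lib.stI J x :=
  iSup_mono fun U => Ideal.map_mono (h U.1)

section Deg

open Groth.Agent.H23.PicMul

variable (k : Type) [Field k] {C : Scheme.{0}} [C.Over (Spec (CommRingCat.of k))] [IsIntegral C]
  [IsProper (C ↘ Spec (CommRingCat.of k))]

/-- The degree of a module cut out by a divisor. -/
theorem deg_eq_euler_quot (hdim : topologicalKrullDim C = 1) {M : C.Modules} (hM : PicF.IsInvertible M)
    {I : C.IdealSheafData} (hI : BlowUp.IsEffCartierIdeal I) (hcl : PicF.cl M * PicF.cl (ClSub.idealMod I) = 1) :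
    Curv2.deg k C M 1 = Curv2.euler k C (ClSub.quotMod I) := by
  haveI := CurveCohLib.isNoetherian_of_proper (k := k) (X := C)
  have hIi := Big.isInvertible_ideal hI
  rw [← cl_tensor, H23.PicMul.one_def] at hcl
  obtain ⟨e⟩ := cl_eq_iff.1 hcl
  have h1 := CurveRR.deg_tensor k hdim hM hIi
  have h2 := CurveRR.deg_congr k (L := (DCoh.tensorBi.obj M).obj (ClSub.idealMod I)) e 1
  have h3 := CurveCohLib.euler_additive (k := k) (Big.shortExact_ideal I)
    (CurveDeg.isCoh_of_isInvertible hIi) QCoh.isCoh_structureModule' (ParShLib.isCoh_quotMod I)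
  rw [h2, CurveDeg.deg_structureModule] at h1
  simp only [Curv2.deg, Nat.cast_one, one_mul] at h1 ⊢
  dsimp only at h3
  linarith

theorem exists_sum_stalks (hdim : topologicalKrullDim C = 1) {I : C.IdealSheafData} (hI : BlowUp.IsEffCartierIdeal I) :
    letI := fun x : C => CurveCohLib.stalkModuleK k (ClSub.quotMod I) x
    ∃ S : Finset C, (I.support : Set C) ⊆ S ∧
      Curv2.euler k C (ClSub.quotMod I) = ∑ x ∈ S, (Module.finrank k ((ClSub.quotMod I).presheaf.stalk x) : ℤ) ∧
      ∀ x ∈ S, Module.Finite k ((ClSub.quotMod I).presheaf.stalk x) := by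
  haveI := CurveCohLib.isNoetherian_of_proper (k := k) (X := C)
  have hD : FGA.IsEffCartier I := (S8914.result _).1 (Big.isInvertible_ideal hI)
  have hs : CohB1.support (ClSub.quotMod I) ⊆ (I.support : Set C) := fun x hx => by
    by_contra h
    exact hx (ParShLib.subsingleton_stalk_quotMod I h)
  exact ⟨(ParShLib.finite_support k hdim I hD).toFinset, by simp,
    CurveCohLib.euler_eq_sum_stalks (k := k) (ParShLib.isCoh_quotMod I)
      (fun x hx => ParShLib.isClosed_singleton_of_mem_support k hdim I hD (hs hx)) _ (hs.trans (by simp))⟩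

theorem finite_stalk (hdim : topologicalKrullDim C = 1) {I : C.IdealSheafData} (hI : BlowUp.IsEffCartierIdeal I) (z : C) :
    letI := CurveCohLib.stalkModuleK k (ClSub.quotMod I) z
    Module.Finite k ((ClSub.quotMod I).presheaf.stalk z) := by
  obtain ⟨S, hS, -, hf⟩ := exists_sum_stalks k hdim hI
  by_cases hz : z ∈ (I.support : Set C)
  · exact hf z (hS hz)
  · letI := CurveCohLib.stalkModuleK k (ClSub.quotMod I) z
    haveI : Subsingleton ((ClSub.quotMod I).presheaf.stalk z) := ParShLib.subsingleton_stalk_quotMod I hz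
    exact Module.Finite.of_finite

theorem finrank_le_deg (hdim : topologicalKrullDim C = 1) {N : ℕ} {K : Type} [Field K] (p : C ⟶ CohB1.ProjSpace N K)
    {I : C.IdealSheafData} (hI : BlowUp.IsEffCartierIdeal I)
    (hcl : PicF.cl (PnCoh.Chow.pullTw p ((1 : ℕ) : ℤ)) * PicF.cl (ClSub.idealMod I) = 1)
    {M : C.Modules} (hM : PicF.cl M = PicF.cl ((Scheme.Modules.pullback p).obj (Twist.twistProjSpace N K 1)))
    {z : C} (hz : z ∈ (I.support : Set C)) :
    letI := CurveCohLib.stalkModuleK k (ClSub.quotMod I) z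
    (Module.finrank k ((ClSub.quotMod I).presheaf.stalk z) : ℤ) ≤ Curv2.deg k C M 1 := by
  letI := fun x : C => CurveCohLib.stalkModuleK k (ClSub.quotMod I) x
  obtain ⟨S, hS, hsum, -⟩ := exists_sum_stalks k hdim hI
  have hP := PicClLib.isInvertible_pullback p (Big.isAmple_hyperplane N K).1
  have hMi : PicF.IsInvertible M := by
    obtain ⟨e⟩ := cl_eq_iff.1 hM
    exact H23.PicMul.isInvertible_of_iso e.symm hP
  rw [deg_eq_euler_quot k hdim hMi hI (by rw [hM]; exact hcl), hsum]
  exact Finset.single_le_sum (f := fun x => (Module.finrank k ((ClSub.quotMod I).presheaf.stalk x) : ℤ))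
    (fun _ _ => Int.natCast_nonneg _) (Finset.mem_coe.1 (hS hz))

theorem deg_nonneg_of_divisor (hdim : topologicalKrullDim C = 1) {N : ℕ} {K : Type} [Field K] (p : C ⟶ CohB1.ProjSpace N K)
    {I : C.IdealSheafData} (hI : BlowUp.IsEffCartierIdeal I)
    (hcl : PicF.cl (PnCoh.Chow.pullTw p ((1 : ℕ) : ℤ)) * PicF.cl (ClSub.idealMod I) = 1)
    {M : C.Modules} (hM : PicF.cl M = PicF.cl ((Scheme.Modules.pullback p).obj (Twist.twistProjSpace N K 1))) :
    0 ≤ Curv2.deg k C M 1 := by
  obtain ⟨S, hS, hsum, -⟩ := exists_sum_stalks k hdim hI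
  have hP := PicClLib.isInvertible_pullback p (Big.isAmple_hyperplane N K).1
  have hMi : PicF.IsInvertible M := by
    obtain ⟨e⟩ := cl_eq_iff.1 hM
    exact H23.PicMul.isInvertible_of_iso e.symm hP
  rw [deg_eq_euler_quot k hdim hMi hI (by rw [hM]; exact hcl), hsum]
  exact Finset.sum_nonneg fun _ _ => Int.natCast_nonneg _

end Deg


/-- Let S be a smooth projective surface over the complex numbers (integral, smooth of relative
dimension 2 over C) with a closed immersion ι over C into some projective space P^n, H = ι^*O(1) the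
very ample invertible module, C ⊆ S an integral curve (an integral closed subscheme of dimension
one, closed immersion j over C), P a closed point of S with ideal m_P, and m a natural number such
that the ideal of C is contained in m_P^m, i.e. C has multiplicity at least m at P. Then H·C ≥ m,
where H·C is the degree of H|_C on C, written χ(C, j^*H) − χ(C, O_C). (The published statement is
for a curve C ⊆ S; this row takes C integral.) -/
theorem result
    (S : Scheme.{0}) [S.Over (Spec (CommRingCat.of ℂ))] [IsIntegral S]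
    [SmoothOfRelativeDimension 2 (S ↘ Spec (CommRingCat.of ℂ))]
    (n : ℕ) (ι : S ⟶ CohB1.ProjSpace n ℂ) [IsClosedImmersion ι]
    (hι : ι ≫ CohB1.ProjSpace.toSpec n ℂ = S ↘ Spec (CommRingCat.of ℂ))
    (C : Scheme.{0}) [C.Over (Spec (CommRingCat.of ℂ))] [IsIntegral C] (hdimC : topologicalKrullDim ↥C = 1)
    (j : C ⟶ S) [IsClosedImmersion j] (hj : j ≫ (S ↘ Spec (CommRingCat.of ℂ)) = C ↘ Spec (CommRingCat.of ℂ))
    (P : ↥S) (hP : IsClosed ({P} : Set ↥S)) (m : ℕ)
    (hm : j.ker ≤ Scheme.IdealSheafData.vanishingIdeal ⟨{P}, hP⟩ ^ m) :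
    (m : ℤ) ≤ Curv2.deg ℂ C ((Scheme.Modules.pullback j).obj
      ((Scheme.Modules.pullback ι).obj (Twist.twistProjSpace n ℂ 1))) 1 := by
  haveI : Smooth (S ↘ Spec (CommRingCat.of ℂ)) := SmoothOfRelativeDimension.smooth (n := 2) _
  haveI : IsProper (CohB1.ProjSpace.toSpec n ℂ) := PnCoh.Chow.isProper_toSpec n ℂ
  haveI : IsProper (S ↘ Spec (CommRingCat.of ℂ)) := by rw [← hι]; infer_instance
  haveI : IsProper (C ↘ Spec (CommRingCat.of ℂ)) := by rw [← hj]; infer_instance
  haveI : IsNoetherian C := CurveCohLib.isNoetherian_of_proper (k := ℂ)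
  haveI : IsNoetherian S := CurveCohLib.isNoetherian_of_proper (k := ℂ)
  have hdimS : topologicalKrullDim S = 2 :=
    (ExtShX.SmoothDual.topologicalKrullDim_eq (S ↘ Spec (CommRingCat.of ℂ)) 2).trans Nat.cast_ofNat
  rcases Nat.eq_zero_or_pos m with rfl | hmpos
  · obtain ⟨i, hi⟩ := TopologicalSpace.Opens.mem_iSup.1
      ((H9AlgEq.iSup_chart (k := ℂ) (m := n)).ge (trivial : (j ≫ ι) (genericPoint C) ∈ ⊤))
    obtain ⟨I, hI, -, hcl⟩ := Big.exists_linForm_divisor (j ≫ ι) _ (ProjPt.X_mem i) hi
    exact_mod_cast deg_nonneg_of_divisor ℂ hdimC (j ≫ ι) hI hcl (cl_eq_iff.2 ⟨(Scheme.Modules.pullbackComp j ι).app _⟩)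
  -- the point lies on the curve
  obtain ⟨z, hz⟩ : P ∈ Set.range j := by
    have h1 : P ∈ (j.ker.support : Set S) := by
      refine Scheme.IdealSheafData.support_antitone hm (Scheme.IdealSheafData.le_support_iff_le_vanishingIdeal.2
        (fun U => ?_) (show P ∈ (⟨{P}, hP⟩ : TopologicalSpace.Closeds S) from rfl))
      rw [Scheme.IdealSheafData.ideal_pow]
      exact Ideal.pow_le_self hmpos.ne'
    rw [Scheme.Hom.support_ker] at h1
    rwa [j.isClosedEmbedding.isClosed_range.closure_eq] at h1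
  have hzc : IsClosed ({z} : Set C) := by
    rw [← j.isClosedEmbedding.injective.preimage_image ({z} : Set C), Set.image_singleton, hz]
    exact hP.preimage j.continuous
  have hne : genericPoint C ≠ z := fun h => CurveEmbed.genericPoint_not_closed hdimC (h ▸ hzc)
  let q : C ⟶ CohB1.ProjSpace n ℂ := j ≫ ι
  have hq : q ≫ CohB1.ProjSpace.toSpec n ℂ = C ↘ Spec (CommRingCat.of ℂ) := by rw [Category.assoc, hι, hj]
  have hqc : IsClosed ({q z} : Set (CohB1.ProjSpace n ℂ)) := by
    rw [← Set.image_singleton]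
    exact q.isClosedEmbedding.isClosedMap _ hzc
  let t := pointOfClosedPoint (CohB1.ProjSpace.toSpec n ℂ) (q z) hqc
  have ht : t (IsLocalRing.closedPoint ℂ) = q z := pointOfClosedPoint_apply _ _ _ _
  obtain ⟨ℓ, hℓ, hℓt, hℓη⟩ := H9AlgEq.exists_linForm t (pointOfClosedPoint_comp _ _ _) (q (genericPoint C))
    (fun h => hne (q.isClosedEmbedding.injective (h.trans ht)))
  obtain ⟨I, hI, hIs, hcl⟩ := Big.exists_linForm_divisor q ℓ hℓ hℓη
  have hzI : z ∈ (I.support : Set C) := by
    rw [hIs]
    intro h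
    exact hℓt (ht ▸ h)
  refine le_trans ?_ (finrank_le_deg ℂ hdimC q hI hcl (cl_eq_iff.2 ⟨(Scheme.Modules.pullbackComp j ι).app _⟩) hzI)
  norm_cast
  subst hz
  letI := CurveCohLib.stalkModuleK ℂ (ClSub.quotMod I) z
  obtain ⟨g, -, hg⟩ := Div21Lib.exists_stI_generator hI z
  obtain ⟨h, rfl⟩ := j.stalkMap_surjective z g
  haveI : Module.Finite ℂ ((ClSub.quotMod I).presheaf.stalk z) := finite_stalk ℂ hdimC hI z
  have hh : h ∈ IsLocalRing.maximalIdeal (S.presheaf.stalk (j z)) := by
    by_contra hu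
    rw [IsLocalRing.mem_maximalIdeal, mem_nonunits_iff, not_not] at hu
    have h1 : Div21Lib.stI I z = ⊤ := by rw [hg]; exact Ideal.span_singleton_eq_top.2 (hu.map _)
    haveI : Subsingleton (C.presheaf.stalk z ⧸ Div21Lib.stI I z) := Ideal.Quotient.subsingleton_iff.2 h1
    haveI := (SurfRR.FiniteInter.stalkQuotEquiv I z).symm.toEquiv.subsingleton
    haveI := (not_subsingleton_iff_nontrivial.1 (CurveCohLib.GlobGen.nontrivial_stalk_quotMod I hzI) : Nontrivial (ParShLib.stk (ClSub.quotMod I) z))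
    exact false_of_nontrivial_of_subsingleton (ParShLib.stk (ClSub.quotMod I) z)
  refine le_finrank_quot (k := ℂ) (le_of_eq ?_) (j.stalkMap z).hom (j.stalkMap_surjective z) ?_ hh
    (SurfRR.FiniteInter.toStalk I z).toAddMonoidHom (SurfRR.FiniteInter.toStalk_surjective I z) ?_ ?_ fun c => ?_
  · haveI : IrreducibleSpace S := inferInstance
    rw [SmoothReg.ringKrullDim_stalk_closedPoint (S ↘ Spec (CommRingCat.of ℂ)) hP, hdimS]
  · rw [FlatX.ker_stalkMap_eq_stI, ← stI_point hP, ← stI_pow]
    exact stI_mono hm _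
  · intro a ha
    have := (SurfRR.FiniteInter.ker_toStalk I z).le ha
    rwa [hg] at this
  · intro a ha
    exact (SurfRR.FiniteInter.ker_toStalk I z).ge (hg.ge ha)
  · exact ⟨Curv2.stalkMap ℂ C z c, fun a => map_smul (SurfRR.FiniteInter.toStalk I z) _ a⟩

end Groth.Agent.S15866
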