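import Groth.Statements.S1587
import Groth.Agent.NodalQ.Scheme
import Groth.Agent.GrpSchLib.Reduced


set_option autoImplicit false
set_option linter.style.haveILetI false
set_option backward.isDefEq.respectTransparency false
set_option backward.isDefEq.respectTransparency.types false
set_option maxHeartbeats 1000000
universe u
open CategoryTheory CategoryTheory.Limits AlgebraicGeometry
attribute [local instance] Curv2.resAlgebra Curv2.stalkAlgebra
open Curves

namespace Groth.Agent.S1587

/-- Let X be a scheme of finite type over a field k of dimension one and x a closed point of X with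
residue field κ. Then x is a node if and only if κ is separable over k and the completion of the
local ring O_{X,x} is isomorphic, compatibly with the maps from k, to κ[[u, v]]/(a u² + b uv + c v²)
for some a, b, c ∈ κ with 4ac − b² ≠ 0 (a nondegenerate quadratic form). -/
theorem result (k : Type u) [Field k] (X : Scheme.{u}) [X.Over (Spec (CommRingCat.of k))]
    [LocallyOfFiniteType (X ↘ (Spec (CommRingCat.of k)))] [QuasiCompact (X ↘ (Spec (CommRingCat.of k)))] (hdim : topologicalKrullDim X = 1)
    (x : X) (hx : IsClosed ({x} : Set X)) :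
    Curv2.IsNode k X x ↔
      (Algebra.IsSeparable k (X.residueField x) ∧
        ∃ a b c : X.residueField x, 4 * a * c - b ^ 2 ≠ 0 ∧
          ∃ e : AdicCompletion (IsLocalRing.maximalIdeal (X.presheaf.stalk x)) (X.presheaf.stalk x) ≃+*
              (MvPowerSeries (Fin 2) (X.residueField x) ⧸ Ideal.span
                {(MvPowerSeries.C a * MvPowerSeries.X 0 ^ 2 + MvPowerSeries.C b * MvPowerSeries.X 0 * MvPowerSeries.X 1 +
                  MvPowerSeries.C c * MvPowerSeries.X 1 ^ 2 : MvPowerSeries (Fin 2) (X.residueField x))}),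
            ∀ t : k, e (algebraMap (X.presheaf.stalk x) _ (algebraMap k (X.presheaf.stalk x) t)) =
              Ideal.Quotient.mk _ (MvPowerSeries.C (algebraMap k (X.residueField x) t))) := by
  haveI : IsLocallyNoetherian X := LocallyOfFiniteType.isLocallyNoetherian (X ↘ Spec (CommRingCat.of k))
  let K := AlgebraicClosure k
  let f := Curv2.bcFst k X K
  constructor
  · intro h
    obtain ⟨v, hv⟩ : ∃ v, f v = x := by
      obtain ⟨v, hv, -⟩ := h.2
      exact ⟨v, hv⟩
    subst hv
    have hsep := Groth.Agent.NodalQ.isSeparable_of_node k X hdim.le _ h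
    refine ⟨hsep, ?_⟩
    haveI : Algebra.IsSeparable k (IsLocalRing.ResidueField (X.presheaf.stalk (f v))) := by
      letI := Curv2.resAlgebra k X (f v)
      exact @Algebra.IsSeparable.of_equiv_equiv k (X.residueField (f v)) k (IsLocalRing.ResidueField (X.presheaf.stalk (f v))) _ _ _ _
        (Curv2.resAlgebra k X (f v)) _ (RingEquiv.refl k) (RingEquiv.refl _) (RingHom.ext fun t => rfl) hsep
    obtain ⟨a, b, c, hd, e, he⟩ := Groth.Agent.NodalQ.exists_iso k (Groth.Agent.NodalQ.node_spec k X hdim.le v h).2
    exact ⟨a, b, c, hd, e, he⟩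
  · rintro ⟨hsep, a, b, c, hd, e, -⟩
    refine ⟨hx, ?_⟩
    have hq := (Groth.Agent.NodalQ.qcrit_of_iso (A := X.presheaf.stalk x) hd e).1
    let g := Spec.map (CommRingCat.ofHom (algebraMap k K))
    obtain ⟨v, hv⟩ : ∃ v, f v = x := by
      obtain ⟨v, hv, -⟩ := Scheme.Pullback.exists_preimage_pullback (f := X ↘ Spec (CommRingCat.of k)) (g := g) x
        (IsLocalRing.closedPoint K) (Subsingleton.elim (α := PrimeSpectrum k) _ _)
      exact ⟨v, hv⟩
    subst hv
    refine ⟨v, rfl, ?_⟩
    let W := Curv2.bc k X K
    letI : W.Over (Spec (CommRingCat.of K)) := ⟨Curv2.bcSnd k X K⟩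
    haveI : LocallyOfFiniteType (W ↘ Spec (CommRingCat.of K)) :=
      inferInstanceAs (LocallyOfFiniteType (pullback.snd (X ↘ Spec (CommRingCat.of k)) g))
    haveI : IsLocallyNoetherian W := LocallyOfFiniteType.isLocallyNoetherian (W ↘ Spec (CommRingCat.of K))
    haveI : Flat f := MorphismProperty.pullback_fst (X ↘ Spec (CommRingCat.of k)) g inferInstance
    letI := Curv2.stalkAlgebra K W v
    haveI : _root_.IsReduced (TensorProduct k K (X.residueField (f v))) :=
      Groth.Agent.GrpSchLib.isReduced_field_tensor k (X.residueField (f v)) K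
    haveI : _root_.IsReduced (TensorProduct k (X.residueField (f v)) K) :=
      isReduced_of_injective (Algebra.TensorProduct.comm k (X.residueField (f v)) K).toRingHom
        (Algebra.TensorProduct.comm k (X.residueField (f v)) K).injective
    have hm := Groth.Agent.NodalQ.map_maximalIdeal_of_isReduced_tensor k X K v hx inferInstance
    have hv := Groth.Agent.NodalQ.isClosed_of_over k X K v hx
    haveI : IsLocalHom (f.stalkMap v).hom := f.toLRSHom.prop v
    haveI : IsAlgClosed (IsLocalRing.ResidueField (W.presheaf.stalk v)) :=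
      IsAlgClosed.of_ringEquiv K _ (RingEquiv.ofBijective (Curv2.resMap K W v)
        ⟨(Curv2.resMap K W v).injective, Groth.Agent.CurveSection.surjective_resMap K hv⟩)
    exact (Groth.Agent.NodalLib.isOrdDoublePt_iff_crit (Groth.Agent.NodalLib.exists_sub_mem_of_closed hv)).2
      (Groth.Agent.NodalQ.QCrit.crit (Groth.Agent.NodalQ.QCrit.map (f.stalkMap v).hom (Flat.stalkMap f v) hm hq))

end Groth.Agent.S1587
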