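import Groth.Statements.S15874
import Groth.Agent.H9EtGen.Basic
import Groth.Agent.H9TorsCl.Basic

set_option linter.style.haveILetI false
set_option backward.isDefEq.respectTransparency false
set_option backward.isDefEq.respectTransparency.types false


set_option autoImplicit false
universe u
open CategoryTheory MonoidalCategory CartesianMonoidalCategory MonObj GrpObj AlgebraicGeometry
open NonAbH1

attribute [-instance] CategoryTheory.catToReflQuiver

namespace Groth.Agent.S15874

/-- Let G be an étale k-group scheme and S a normal integral k-scheme with generic point η. Then an fppf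
torsor over S under G whose base change to Spec κ(η) is trivial is itself trivial: the kernel of
H¹(S, G) → H¹(κ(η), G) on classes of torsors that are schemes is the base point. (The published
statement takes S merely integral; the connected étale double cover of a nodal cubic over an
algebraically closed field is a non-trivial torsor under the constant group of order 2 that is
trivial at the generic point, so S is taken normal here, which is what the published proof uses.) -/
theorem result (k : Type u) [Field k]
    (G : Over (Spec (CommRingCat.of k))) [GrpObj G] [Etale G.hom]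
    (S : Scheme.{u}) [IsIntegral S] (hS : Pi1.IsNormalScheme S) (s : S ⟶ Spec (CommRingCat.of k))
    (c : NonAbH1.H1Sch (Red.bc s G) Scheme.fppfPrecoverage)
    (hc : NonAbH1.H1Sch.bcMap (S.fromSpecResidueField (genericPoint S)) (Red.bc s G) Scheme.fppfPrecoverage c = 1) :
    c = 1 := by
  obtain ⟨E, rfl⟩ := Quot.exists_rep c
  change NonAbH1.TorsorSch.cl E = 1
  rw [show Quot.mk _ E = E.cl from rfl, ← NonAbH1.TorsorSch.cl_bc,
    H9TorsCl.cl_eq_one_iff Scheme.fppfPrecoverage_le_fpqcPrecoverage] at hc
  rw [H9TorsCl.cl_eq_one_iff Scheme.fppfPrecoverage_le_fpqcPrecoverage]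
  obtain ⟨σ₀, hσ₀⟩ := hc
  obtain ⟨σ, hσ, -⟩ := H9EtGen.exists_section hS s E
    (σ₀ ≫ Limits.pullback.fst E.X.hom (S.fromSpecResidueField (genericPoint S))) (by
      rw [Category.assoc, Limits.pullback.condition, ← Category.assoc]
      exact (congrArg (· ≫ S.fromSpecResidueField (genericPoint S)) hσ₀).trans (Category.id_comp _))
  exact ⟨σ, hσ⟩
end Groth.Agent.S15874
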