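import Groth.Statements.S15875
import Groth.Agent.Deform.QCDescent.Basic

set_option autoImplicit false
universe u
open CategoryTheory MonoidalCategory CartesianMonoidalCategory MonObj GrpObj AlgebraicGeometry
open AGF

namespace Groth.Agent.S15875
attribute [local instance] CategoryTheory.Hom.monoid CategoryTheory.Hom.group
set_option linter.style.haveILetI false
set_option maxHeartbeats 1000000
open Groth.Agent CategoryTheory CategoryTheory.Limits MonoidalCategory CartesianMonoidalCategory AlgebraicGeometry

/-- Let k'/k be a finite purely inseparable field extension, G a k-group locally of finite type, q :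
G_{k'} → Ḡ a faithfully flat homomorphism onto a k'-group Ḡ locally of finite type with
quasi-compact kernel N, and (R, q_R) a Weil restriction of Ḡ to k carrying a group structure for
which q_R is a homomorphism. Then the comparison morphism i : G → R corresponding to q is
quasi-compact. (The published statement allows any finite extension k'/k and adds that the kernel of
i is quasi-compact as well; the published proof goes through the purely inseparable case of the
kernel of the counit of Weil restriction, so k'/k is taken purely inseparable here.) -/
theorem result (k k' : Type u) [Field k] [Field k'] [Algebra k k']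
    [Module.Finite k k'] [IsPurelyInseparable k k']
    (G : Over (Spec (CommRingCat.of k))) [GrpObj G] [LocallyOfFiniteType G.hom]
    (Gbar : Over (Spec (CommRingCat.of k'))) [GrpObj Gbar] [LocallyOfFiniteType Gbar.hom]
    (q : Red.bc (Spec.map (CommRingCat.ofHom (algebraMap k k'))) G ⟶ Gbar) [IsMonHom q] [Surjective q.left] [Flat q.left]
    (N : Over (Spec (CommRingCat.of k'))) (iN : N ⟶ Red.bc (Spec.map (CommRingCat.ofHom (algebraMap k k'))) G) (hN : AlgGrp.IsKernel iN q) [CompactSpace N.left]
    (R : Over (Spec (CommRingCat.of k))) [GrpObj R] (qR : Red.bc (Spec.map (CommRingCat.ofHom (algebraMap k k'))) R ⟶ Gbar) [IsMonHom qR]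
    (hR : WeilRes.IsWeilRes (Spec.map (CommRingCat.ofHom (algebraMap k k'))) Gbar R qR) :
    QuasiCompact (hR.lift G q).left := by
  let f := Spec.map (CommRingCat.ofHom (algebraMap k k'))
  haveI : LocallyOfFiniteType (Red.bc f G).hom := inferInstanceAs (LocallyOfFiniteType (pullback.snd G.hom f))
  haveI hq : QuasiCompact q.left := Deform.QCDescent.quasiCompact_of_kernel q iN hN
  have hi : ((Over.pullback f).map (hR.lift G q)).left ≫ qR.left = q.left := by
    rw [← Over.comp_left]
    exact congrArg Over.Hom.left ((Equiv.ofBijective _ (hR G)).apply_symm_apply q)
  haveI : QuasiSeparated R.hom := Deform.QCDescent.quasiSeparated_hom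
  haveI : QuasiSeparated (Red.bc f R).hom := inferInstanceAs (QuasiSeparated (pullback.snd R.hom f))
  haveI : QuasiSeparated (qR.left ≫ Gbar.hom) := by rw [Over.w qR]; infer_instance
  haveI : QuasiSeparated qR.left := QuasiSeparated.of_comp qR.left Gbar.hom
  haveI : QuasiCompact (((Over.pullback f).map (hR.lift G q)).left ≫ qR.left) := by rw [hi]; exact hq
  haveI : QuasiCompact ((Over.pullback f).map (hR.lift G q)).left := QuasiCompact.of_comp _ qR.left
  haveI : Surjective f := ⟨PrimeSpectrum.comap_surjective_of_faithfullyFlat (A := k) (B := k')⟩
  haveI : IsAffineHom f := inferInstance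
  haveI : QuasiCompact (pullback.fst R.hom f) := inferInstance
  haveI : Surjective (pullback.fst G.hom f) := inferInstance
  exact Deform.QCDescent.quasiCompact_of_comm _ ((Over.pullback f).map (hR.lift G q)).left
    (pullback.fst G.hom f) (pullback.fst R.hom f) (pullback.lift_fst _ _ _).symm

end Groth.Agent.S15875
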