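import Groth.Statements.S15880
import Groth.Agent.FreeFinTriv.Basic
import Groth.Agent.PnCoh.Global
import Groth.Agent.QCoh.LocFree
-- import your own Groth.Agent.* helpers here

set_option autoImplicit false
universe u
open CategoryTheory CategoryTheory.Limits AlgebraicGeometry
open CohB1

namespace Groth.Agent.S15880

/-- Let k be a field, s a k-point of P^n_k and f : F → P^n_k a finite morphism whose direct image of the
structure sheaf is isomorphic to the free module O^{⊕d} on P^n_k. Then F is, over P^n_k, isomorphic
to the base change F_s ×_k P^n_k of its fibre at s (existence of an isomorphism over P^n_k). (The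
published statement is the equivalence of categories between finite k-schemes and finite flat
P^n_k-schemes with free direct image of the structure sheaf, with inverse F ↦ s^*F; this row states
its essential surjectivity in the pinned form F ≅ (s^*F) ×_k P^n_k.) -/
theorem result (k : Type u) [Field k] (n d : ℕ)
    (s : Spec (CommRingCat.of k) ⟶ CohB1.ProjSpace n k) (hs : s ≫ CohB1.ProjSpace.toSpec n k = 𝟙 _)
    (F : Scheme.{u}) (f : F ⟶ CohB1.ProjSpace n k) [IsFinite f]
    (e : (Scheme.Modules.pushforward f).obj (SheafOfModules.unit F.ringCatSheaf) ≅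
      ∐ fun _ : ULift.{u} (Fin d) => (SheafOfModules.unit (CohB1.ProjSpace n k).ringCatSheaf :
        (CohB1.ProjSpace n k).Modules)) :
    Nonempty (Over.mk f ≅ Over.mk (pullback.snd (pullback.snd f s) (CohB1.ProjSpace.toSpec n k))) := by
    have hτ : Function.Bijective (CohB1.ProjSpace.toSpec n k).appTop.hom :=
      Groth.Agent.PnCoh.bijective_toSpecR_appTop (ι := Fin (n + 1)) (R := k)
    let e' := e ≪≫ (Groth.Agent.QCoh.freeModIso (CohB1.ProjSpace n k) d).symm
    obtain ⟨b, hb⟩ := Groth.Agent.TopDiff.exists_bases (U := (⊤ : (CohB1.ProjSpace n k).Opens))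
      (E := (Scheme.Modules.pushforward f).obj (SheafOfModules.unit F.ringCatSheaf)) (n := d)
      ((Scheme.Modules.restrictFunctor (⊤ : (CohB1.ProjSpace n k).Opens).ι).mapIso e' ≪≫
        Groth.Agent.QCoh.freeModRestrict _ d)
    let b' : Fin d → Γ(F, ⊤) := b
    refine Groth.Agent.FreeFinTriv.nonempty_iso_fibre _ hτ s hs f (b := b') ⟨?_, fun U _ => hb U le_top⟩
    have key : ∀ c : Fin d → Γ(CohB1.ProjSpace n k, ⊤),
        (∑ i, f.appTop (c i) * F.presheaf.map (homOfLE (le_refl (⊤ : F.Opens))).op (b' i) : Γ(F, ⊤)) =
          ∑ i, f.appTop (c i) * b' i := fun c => Finset.sum_congr rfl fun i _ => by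
      congr 1
      exact congr($(F.presheaf.map_id (Opposite.op ⊤)) (b' i))
    have hf : (fun c : Fin d → Γ(CohB1.ProjSpace n k, ⊤) => ∑ i, f.appTop (c i) * b' i) =
        fun c => (∑ i, f.appTop (c i) * F.presheaf.map (homOfLE (le_refl (⊤ : F.Opens))).op (b' i) : Γ(F, ⊤)) :=
      funext fun c => (key c).symm
    rw [hf]
    exact hb ⊤ le_rfl

end Groth.Agent.S15880
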