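import Groth.Statements.S15881
import Groth.Agent.H9BLHom.Main
import Groth.Agent.H9BLHom.Torsor
import Groth.Agent.SchTorsor.Props
import Groth.Agent.ConsPropLib.QuasiAffine

set_option linter.style.haveILetI false
set_option backward.isDefEq.respectTransparency false
set_option backward.isDefEq.respectTransparency.types false


set_option autoImplicit false
universe u
open CategoryTheory MonoidalCategory CartesianMonoidalCategory MonObj GrpObj AlgebraicGeometry
open NonAbH1

namespace Groth.Agent.S15881

/-- With φ : A → A' and t as in the glueing set-up (A/t^m → A'/t^m bijective for all m, φ bijective on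
t-power torsion), G a flat A-group scheme with quasi-affine underlying scheme, and P, P' fppf
G-torsors over A: an equivariant isomorphism of the base changes to A[1/t] and one of the base
changes to A', which agree over A'[1/t] under the canonical identifications of iterated base
changes, are the base changes of a unique equivariant isomorphism P ≅ P' over A. (The hypothesis h
is the evident commutativity of the square of base rings.) -/
theorem result (A A' : Type u) [CommRing A] [CommRing A']
    (φ : A →+* A') (t : A)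
    (hq : ∀ m : ℕ, Function.Bijective (Ideal.quotientMap (Ideal.map φ (Ideal.span {t} ^ m)) φ Ideal.le_comap_map))
    (htor : ∀ a' : A', (∃ m : ℕ, φ t ^ m * a' = 0) → ∃! a : A, (∃ m : ℕ, t ^ m * a = 0) ∧ φ a = a')
    (h : Spec.map (CommRingCat.ofHom (Localization.awayMap φ t)) ≫
        Spec.map (CommRingCat.ofHom (algebraMap A (Localization.Away t))) =
      Spec.map (CommRingCat.ofHom (algebraMap A' (Localization.Away (φ t)))) ≫ Spec.map (CommRingCat.ofHom φ))
    (G : Over (Spec (CommRingCat.of A))) [GrpObj G] [Flat G.hom] [G.left.IsQuasiAffine]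
    (P P' : NonAbH1.TorsorSch G Scheme.fppfPrecoverage)
    (αU : NonAbH1.EquivIso (P.act.bc (Spec.map (CommRingCat.ofHom (algebraMap A (Localization.Away t))))) (P'.act.bc (Spec.map (CommRingCat.ofHom (algebraMap A (Localization.Away t))))))
    (α' : NonAbH1.EquivIso (P.act.bc (Spec.map (CommRingCat.ofHom φ))) (P'.act.bc (Spec.map (CommRingCat.ofHom φ))))
    (hagree : (NonAbH1.EquivIso.bc (Spec.map (CommRingCat.ofHom (Localization.awayMap φ t))) αU).iso.hom ≫ (ActBC.bcCompIso (Spec.map (CommRingCat.ofHom (Localization.awayMap φ t))) (Spec.map (CommRingCat.ofHom (algebraMap A (Localization.Away t)))) P'.X h).hom =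
      (ActBC.bcCompIso (Spec.map (CommRingCat.ofHom (Localization.awayMap φ t))) (Spec.map (CommRingCat.ofHom (algebraMap A (Localization.Away t)))) P.X h).hom ≫ (ActBC.bcCompIso (Spec.map (CommRingCat.ofHom (algebraMap A' (Localization.Away (φ t))))) (Spec.map (CommRingCat.ofHom φ)) P.X rfl).inv ≫
        (NonAbH1.EquivIso.bc (Spec.map (CommRingCat.ofHom (algebraMap A' (Localization.Away (φ t))))) α').iso.hom ≫ (ActBC.bcCompIso (Spec.map (CommRingCat.ofHom (algebraMap A' (Localization.Away (φ t))))) (Spec.map (CommRingCat.ofHom φ)) P'.X rfl).hom) :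
    ∃! α : NonAbH1.EquivIso P.act P'.act,
      (NonAbH1.EquivIso.bc (Spec.map (CommRingCat.ofHom (algebraMap A (Localization.Away t)))) α).iso = αU.iso ∧ (NonAbH1.EquivIso.bc (Spec.map (CommRingCat.ofHom φ)) α).iso = α'.iso := by
  classical
  have hp : H9BLHom.IsPair φ t := ⟨hq, htor⟩
  have hT : ∀ Q : NonAbH1.TorsorSch G Scheme.fppfPrecoverage,
      NonAbH1.IsTorsorFor Scheme.fpqcPrecoverage Q.act := by
    intro Q
    obtain ⟨R, hR, hsec⟩ := Q.isTorsor.2
    exact ⟨Q.isTorsor.1, R, Scheme.fppfPrecoverage_le_fpqcPrecoverage _ hR, hsec⟩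
  haveI := ConsPropLib.fpqc_qa.{u}
  haveI : P'.X.left.IsQuasiAffine := (ConsPropLib.qa_iff_of_isAffine P'.X.hom).1
    (SchTorsor.torsor_property ConsPropLib.qa (hT P') ((ConsPropLib.qa_iff_of_isAffine G.hom).2 inferInstance))
  haveI : Flat P.X.hom := SchTorsor.torsor_property @Flat (hT P) inferInstance
  haveI : Flat (G ⊗ P.X).hom := by
    show Flat (CategoryTheory.Limits.pullback.fst G.hom P.X.hom ≫ G.hom)
    infer_instance
  have hab := H9BLHom.compat_of_agree h αU.iso α'.iso hagree
  obtain ⟨f, hft, hfp⟩ := H9BLHom.exists_hom_pair hp αU.iso.hom α'.iso.hom hab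
  have hcomm : P.act.act ≫ f = (G ◁ f) ≫ P'.act.act := by
    have key : ∀ {B : Scheme.{u}} (j : B ⟶ Spec (CommRingCat.of A))
        (e : NonAbH1.EquivIso (P.act.bc j) (P'.act.bc j)), (Over.pullback j).map f = e.iso.hom →
        (Over.pullback j).map (P.act.act ≫ f) = (Over.pullback j).map ((G ◁ f) ≫ P'.act.act) := by
      intro B j e he
      rw [← cancel_epi (Functor.LaxMonoidal.μ (Over.pullback j) G P.X), Functor.map_comp, Functor.map_comp,
        ← Functor.LaxMonoidal.μ_natural_right_assoc, he, ← Category.assoc]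
      exact e.comm
    exact H9BLHom.hom_ext_pair hp (key _ αU hft) (key _ α' hfp)
  haveI : IsIso f := SchTorsor.isIso_of_equivariant (hT P) P'.isTorsor.1 f hcomm
  refine ⟨⟨asIso f, hcomm⟩, ⟨Iso.ext hft, Iso.ext hfp⟩, ?_⟩
  rintro ⟨e, he⟩ ⟨h1, h2⟩
  have : e = asIso f := Iso.ext (H9BLHom.hom_ext_pair hp ((congrArg Iso.hom h1).trans hft.symm)
    ((congrArg Iso.hom h2).trans hfp.symm))
  subst this
  rfl
end Groth.Agent.S15881
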