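import Groth.Statements.S1589
import Groth.Agent.NodalLib.Gor
import Groth.Agent.S2535

set_option autoImplicit false
set_option linter.style.haveILetI false
set_option linter.unusedSectionVars false
set_option backward.isDefEq.respectTransparency false
set_option backward.isDefEq.respectTransparency.types false
set_option maxHeartbeats 1000000
universe u
open CategoryTheory CategoryTheory.Limits AlgebraicGeometry
open Curves

namespace Groth.Agent.S1589

open Groth.Agent


/-- Let X be locally of finite type over k with all irreducible components of dimension one and
at-worst-nodal singularities. Then every local ring of X is Gorenstein and X is geometrically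
reduced over k. -/
theorem result (k : Type u) [Field k] (X : Scheme.{u}) [X.Over (Spec (CommRingCat.of k))] [LocallyOfFiniteType (X ↘ (Spec (CommRingCat.of k)))]
    (hequi : ∀ Z ∈ irreducibleComponents (X : Type u), topologicalKrullDim Z = 1) (hX : Curv2.AtWorstNodal k X) :
    (∀ x : X, LocCoh.IsGorensteinLocalRing (X.presheaf.stalk x)) ∧ GeometricallyReduced (X ↘ (Spec (CommRingCat.of k))) := by
  have hdim := NodalLib.topologicalKrullDim_le_one_of_components k X hequi
  refine ⟨NodalLib.gorenstein_stalk k X hdim hX, ?_⟩
  haveI : AlgebraicGeometry.IsReduced (FBase.bc (X ↘ (Spec (CommRingCat.of k))) (AlgebraicClosure k)) :=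
    NodalLib.isReduced_bc k X hdim hX
  exact S2535.result (Ω := AlgebraicClosure k) _

end Groth.Agent.S1589
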