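import Groth.Statements.S1590
import Groth.Agent.NodalQ.NodeIff


set_option autoImplicit false
set_option linter.style.haveILetI false
set_option backward.isDefEq.respectTransparency false
set_option backward.isDefEq.respectTransparency.types false
set_option maxHeartbeats 1000000
universe u
open CategoryTheory CategoryTheory.Limits AlgebraicGeometry
open Curves

namespace Groth.Agent.S1590

/-- Let X be locally of finite type over k, with all irreducible components of dimension one and
at-worst-nodal singularities. A reduced closed subscheme Y of X all of whose irreducible components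
have dimension one again has at-worst-nodal singularities. -/
theorem result (k : Type u) [Field k] (X : Scheme.{u}) [X.Over (Spec (CommRingCat.of k))] [LocallyOfFiniteType (X ↘ (Spec (CommRingCat.of k)))]
    (hequi : ∀ Z ∈ irreducibleComponents (X : Type u), topologicalKrullDim Z = 1) (hX : Curv2.AtWorstNodal k X)
    (I : X.IdealSheafData) [IsReduced I.subscheme]
    (hY : ∀ Z ∈ irreducibleComponents (I.subscheme : Type u), topologicalKrullDim Z = 1) :
    @Curv2.AtWorstNodal k _ I.subscheme ⟨I.subschemeι ≫ (X ↘ (Spec (CommRingCat.of k)))⟩ := by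
  let Y := I.subscheme
  let ι := I.subschemeι
  let str := X ↘ Spec (CommRingCat.of k)
  letI oY : Y.Over (Spec (CommRingCat.of k)) := ⟨ι ≫ str⟩
  haveI : LocallyOfFiniteType (Y ↘ Spec (CommRingCat.of k)) := inferInstanceAs (LocallyOfFiniteType (ι ≫ str))
  haveI : IsLocallyNoetherian X := LocallyOfFiniteType.isLocallyNoetherian str
  haveI : IsLocallyNoetherian Y := LocallyOfFiniteType.isLocallyNoetherian (Y ↘ Spec (CommRingCat.of k))
  intro y hy
  have hx : IsClosed ({ι y} : Set X) := by
    have := ι.isClosedEmbedding.isClosedMap _ hy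
    rwa [Set.image_singleton] at this
  have hdim : topologicalKrullDim (X : Type u) ≤ 1 := by
    haveI : Subsingleton ↥(Spec (CommRingCat.of k)) := inferInstanceAs (Subsingleton (PrimeSpectrum k))
    rw [Groth.Agent.FibDim.topologicalKrullDim_eq_iSup_rd str]
    refine iSup_le fun z => ?_
    obtain ⟨C, hC, hsub⟩ := exists_mem_irreducibleComponents_subset_of_isIrreducible (closure {z})
      isIrreducible_singleton.closure
    rw [← Groth.Agent.FibDim.topologicalKrullDim_closure str z, ← hequi C hC]
    exact Topology.IsInducing.topologicalKrullDim_le (f := Set.inclusion hsub) (Topology.IsEmbedding.inclusion hsub).toIsInducing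
  let φ := (ι.stalkMap y).hom
  have hφs : Function.Surjective φ := ι.stalkMap_surjective y
  haveI : IsLocalHom φ := IsLocalHom.of_surjective φ hφs
  have hpos : ¬ IsField (Y.presheaf.stalk y) := by
    intro hF
    obtain ⟨C, hC, hsub⟩ := exists_mem_irreducibleComponents_subset_of_isIrreducible (closure {y})
      isIrreducible_singleton.closure
    obtain ⟨η, rfl, -⟩ := Groth.Agent.VarDim.exists_generic_of_component hC
    have hηy : η ⤳ y := specializes_iff_mem_closure.2 (hsub (subset_closure rfl))
    have hne : η ≠ y := by
      rintro rfl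
      have h1 := hY _ hC
      haveI : Subsingleton ↥(Spec (CommRingCat.of k)) := inferInstanceAs (Subsingleton (PrimeSpectrum k))
      rw [Groth.Agent.FibDim.topologicalKrullDim_closure (Y ↘ Spec (CommRingCat.of k)),
        (Groth.Agent.NodalLib.isClosed_iff_rd_eq_zero (k := k) _).1 hy] at h1
      norm_num at h1
    have hlt : y < η := lt_of_le_not_ge hηy fun h => hne (Specializes.antisymm hηy h).eq
    have h0 : ringKrullDim (Y.presheaf.stalk y) = 0 := ringKrullDim_eq_zero_of_isField hF
    rw [ringKrullDim_stalk_eq_coheight] at h0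
    have h2 := Order.coheight_add_one_le hlt
    have h3 : Order.coheight y = 0 := by exact_mod_cast h0
    rw [h3] at h2
    exact absurd h2 (by simp)
  rcases hX (ι y) hx with hsm | hnode
  · refine Or.inl (Groth.Agent.NodalLib.exists_smooth_open k Y ?_)
    have hxs := Groth.Agent.NodalLib.mem_smoothLocus_of_open k X hsm
    haveI := Groth.Agent.SmoothReg.isRegularLocalRing_stalk_of_mem_smoothLocus str hxs
    haveI := Groth.Agent.RegLoc6.isDomain_of_isRegularLocalRing (X.presheaf.stalk (ι y))
    have hdimA : Ring.KrullDimLE 1 (X.presheaf.stalk (ι y)) :=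
      Ring.krullDimLE_iff.2 ((Groth.Agent.SchTop.ringKrullDim_stalk_le _).trans hdim)
    have hinj : Function.Injective φ := by
      rw [RingHom.injective_iff_ker_eq_bot]
      by_contra hne
      obtain ⟨p, hp, hpy⟩ : ∃ p : Ideal (Y.presheaf.stalk y), p.IsPrime ∧ p ≠ IsLocalRing.maximalIdeal _ := by
        by_contra! hall
        haveI : Ring.KrullDimLE 0 (Y.presheaf.stalk y) :=
          Ring.KrullDimLE.mk₀ fun p hp => hall p hp ▸ IsLocalRing.maximalIdeal.isMaximal _
        exact hpos Ring.KrullDimLE.isField_of_isReduced
      have h1 : p.comap φ = IsLocalRing.maximalIdeal _ := by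
        haveI := Ideal.comap_isPrime φ p
        refine IsLocalRing.eq_maximalIdeal (Ring.krullDimLE_one_iff_of_noZeroDivisors.1 hdimA _ ?_ inferInstance)
        intro h
        exact hne (eq_bot_iff.2 ((Ideal.comap_mono bot_le).trans h.le))
      apply hpy
      rw [← Ideal.map_comap_of_surjective φ hφs p, h1, IsLocalRing.map_maximalIdeal_of_surjective φ hφs]
    rw [Scheme.Hom.mem_smoothLocus] at hxs ⊢
    show ((ι ≫ str).stalkMap y).hom.FormallySmooth
    rw [Scheme.Hom.stalkMap_comp, CommRingCat.hom_comp]
    exact RingHom.FormallySmooth.respectsIso.1 (str.stalkMap (ι y)).hom (RingEquiv.ofBijective φ ⟨hinj, hφs⟩) hxs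
  · obtain ⟨v, hv⟩ : ∃ v, Curv2.bcFst k X (AlgebraicClosure k) v = ι y := by
      obtain ⟨v, hv, -⟩ := hnode.2
      exact ⟨v, hv⟩
    have hq : Groth.Agent.NodalQ.QCrit (X.presheaf.stalk (ι y)) :=
      hv ▸ (Groth.Agent.NodalQ.node_spec k X hdim v (hv ▸ hnode)).2
    have hsepx := Groth.Agent.NodalQ.isSeparable_of_node k X hdim _ hnode
    letI := Curv2.resAlgebra k X (ι y)
    letI := Curv2.resAlgebra k Y y
    haveI : Algebra.IsSeparable k (Y.residueField y) := by
      have hcomp : ∀ c : k, ι.residueFieldMap y (Curv2.resMap k X (ι y) c) = Curv2.resMap k Y y c := by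
        intro c
        show ι.residueFieldMap y (X.residue (ι y) (X.presheaf.germ ⊤ (ι y) trivial (Coh.toGlobal str c))) =
          Y.residue y (Y.presheaf.germ ⊤ y trivial (Coh.toGlobal (ι ≫ str) c))
        refine (ConcreteCategory.congr_hom (Scheme.residue_residueFieldMap ι y) _).trans ?_
        refine congrArg (Y.residue y) ((Scheme.Hom.germ_stalkMap_apply ι ⊤ y trivial _).trans ?_)
        rfl
      let g : X.residueField (ι y) →ₐ[k] Y.residueField y :=
        { (ι.residueFieldMap y).hom with commutes' := hcomp }
      have hg : Function.Bijective g := by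
        refine ⟨g.toRingHom.injective, fun z => ?_⟩
        obtain ⟨w, rfl⟩ := IsLocalRing.residue_surjective z
        obtain ⟨r, rfl⟩ := hφs w
        exact ⟨X.residue (ι y) r, ConcreteCategory.congr_hom (Scheme.residue_residueFieldMap ι y) r⟩
      exact Algebra.IsSeparable.of_algHom k (X.residueField (ι y)) (AlgEquiv.ofBijective g hg).symm.toAlgHom
    by_cases hp : (IsLocalRing.maximalIdeal (Y.presheaf.stalk y)).IsPrincipal
    · refine Or.inl (Groth.Agent.NodalLib.exists_smooth_open k Y ?_)
      exact Groth.Agent.SmoothReg.mem_smoothLocus_of_isSeparable _ y (fun c => rfl)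
        (Groth.Agent.NodalQ.isRegularLocalRing_of_isPrincipal hp)
    · exact Or.inr (Groth.Agent.NodalQ.isNode_of_qcrit k Y y hy inferInstance
        (Groth.Agent.NodalQ.QCrit.of_surjective φ hφs hq hp))

end Groth.Agent.S1590
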