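import Groth.Statements.S15923
import Groth.Agent.MeroX.EffCartier
import Groth.Agent.SmoothReg.Scheme
import Groth.Agent.CurveCohLib.SubBundle
import Groth.Agent.Div21Lib.GenMap
import Groth.Agent.Div21Lib.StalkIdeal
import Groth.Agent.AlgSpLib.CartierDepth
import Groth.Agent.GenusOnePt.Basic
import Groth.Agent.CDiv6.Normal
import Groth.Agent.S8914
import Groth.Agent.RegLoc6.Basic
import Groth.Agent.S10831
-- import your own Groth.Agent.* helpers here

set_option autoImplicit false
set_option linter.style.haveILetI false
set_option backward.isDefEq.respectTransparency false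
set_option backward.isDefEq.respectTransparency.types false
universe u
open CategoryTheory CategoryTheory.Limits AlgebraicGeometry
open Curves

namespace Groth.Agent.S15923

attribute [local instance] Curv2.resAlgebra

open IsLocalRing in
/-- The stalk of the ideal of a closed point. -/
theorem map_vanishing {X : Scheme.{u}} {x : X} (hx : IsClosed ({x} : Set X)) (U : X.affineOpens) (hxU : x ∈ U.1) :
    ((Scheme.IdealSheafData.vanishingIdeal ⟨{x}, hx⟩).ideal U).map (X.presheaf.germ U.1 x hxU).hom =
      maximalIdeal (X.presheaf.stalk x) := by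
  letI := X.presheaf.algebra_section_stalk (⟨x, hxU⟩ : U.1)
  haveI := U.2.isLocalization_stalk ⟨x, hxU⟩
  have hpre : U.2.fromSpec.base ⁻¹' ({x} : Set X) = {U.2.primeIdealOf ⟨x, hxU⟩} := by
    ext q
    refine ⟨fun hq => U.2.fromSpec.isOpenEmbedding.injective
      (Eq.trans hq (U.2.fromSpec_primeIdealOf ⟨x, hxU⟩).symm), fun hq => ?_⟩
    rw [Set.mem_singleton_iff] at hq
    subst hq
    exact U.2.fromSpec_primeIdealOf ⟨x, hxU⟩
  rw [Scheme.IdealSheafData.vanishingIdeal_ideal]
  change Ideal.map _ (PrimeSpectrum.vanishingIdeal (U.2.fromSpec.base ⁻¹' ({x} : Set X))) = _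
  rw [hpre]
  erw [PrimeSpectrum.vanishingIdeal_singleton]
  exact IsLocalization.AtPrime.map_eq_maximalIdeal _ (X.presheaf.stalk x)

/-- Let k be an algebraically closed field, X a curve over k (proper over k, reduced, connected, every
irreducible component of dimension one) and P a closed point of X, with m_P the ideal sheaf of the
reduced point P as an O_X-module. Then m_P is invertible (locally on X isomorphic to the structure
sheaf) exactly when some open neighbourhood of P is smooth over k. -/
theorem result (k : Type u) [Field k] [IsAlgClosed k] (X : Scheme.{u}) [X.Over (Spec (CommRingCat.of k))] [IsProper (X ↘ (Spec (CommRingCat.of k)))] [IsReduced X] [ConnectedSpace X]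
    (hequi : ∀ Z ∈ irreducibleComponents (X : Type u), topologicalKrullDim Z = 1)
    (P : X) (hP : IsClosed ({P} : Set X)) :
    PicF.IsInvertible (ClSub.idealMod (Scheme.IdealSheafData.vanishingIdeal ⟨{P}, hP⟩)) ↔
      ∃ U : X.Opens, P ∈ U ∧ Smooth (U.ι ≫ (X ↘ (Spec (CommRingCat.of k)))) := by
  let f := X ↘ Spec (CommRingCat.of k)
  let J := Scheme.IdealSheafData.vanishingIdeal ⟨({P} : Set X), hP⟩
  haveI := LocallyOfFiniteType.isLocallyNoetherian f
  haveI : LocallyOfFinitePresentation f := inferInstance
  have hdim : topologicalKrullDim X ≤ 1 := by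
    rw [Groth.Agent.S10831.result]
    exact iSup₂_le fun Z hZ => (hequi Z hZ).le
  obtain ⟨Z, hZ, hPZ⟩ := exists_mem_irreducibleComponents_subset_of_isIrreducible {P} isIrreducible_singleton
  have hlow : (1 : WithBot ℕ∞) ≤ ringKrullDim (X.presheaf.stalk P) := by
    obtain ⟨η, hη⟩ := QuasiSober.sober hZ.1 (isClosed_of_mem_irreducibleComponents Z hZ)
    have hsp : η ⤳ P := hη.specializes (hPZ rfl)
    have hne : η ≠ P := by
      rintro rfl
      have hZP : Z = {η} := by rw [← hη.def, hP.closure_eq]
      have h := hequi Z hZ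
      subst hZP
      haveI : Subsingleton (TopologicalSpace.IrreducibleCloseds ↥({η} : Set X)) :=
        ⟨fun a b => TopologicalSpace.IrreducibleCloseds.ext (by
          ext y
          obtain ⟨a', ha⟩ := a.isIrreducible.nonempty
          obtain ⟨b', hb⟩ := b.isIrreducible.nonempty
          exact ⟨fun _ => Subsingleton.elim b' y ▸ hb, fun _ => Subsingleton.elim a' y ▸ ha⟩)⟩
      have : topologicalKrullDim ↥({η} : Set X) ≤ 0 := Order.krullDim_nonpos_of_subsingleton
      rw [h] at this
      exact absurd this (by norm_num)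
    have h1 := Groth.Agent.Div21Lib.ringKrullDim_stalk_lt hsp hne
    have h0 : (0 : WithBot ℕ∞) ≤ ringKrullDim (X.presheaf.stalk η) := ringKrullDim_nonneg_of_nontrivial
    rcases hr : ringKrullDim (X.presheaf.stalk P) with _ | a
    · rw [hr] at h1; exact absurd h1 not_lt_bot
    · rw [hr] at h1
      have h2 : ((0 : ℕ∞) : WithBot ℕ∞) < (a : WithBot ℕ∞) := lt_of_le_of_lt h0 h1
      rw [WithBot.coe_lt_coe] at h2
      exact WithBot.coe_le_coe.2 (Order.one_le_iff_pos.2 h2)
  have hd : ringKrullDim (X.presheaf.stalk P) = 1 :=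
    le_antisymm ((Groth.Agent.CurveCohLib.ringKrullDim_stalk_le_topologicalKrullDim P).trans hdim) hlow
  rw [Groth.Agent.S8914.result J]
  constructor
  · intro hJ
    obtain ⟨U, hPU, a, ha, hU⟩ := hJ P
    have hm : IsLocalRing.maximalIdeal (X.presheaf.stalk P) = Ideal.span {X.presheaf.germ U.1 P hPU a} := by
      rw [← map_vanishing hP U hPU, hU, Ideal.map_span, Set.image_singleton]
    have hreg : IsRegularLocalRing (X.presheaf.stalk P) := IsRegularLocalRing.of_spanFinrank_maximalIdeal_le _ (by
      rw [hd]
      have h1 : (IsLocalRing.maximalIdeal (X.presheaf.stalk P)).spanFinrank ≤ 1 := by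
        rw [hm]
        exact (Submodule.spanFinrank_span_le_ncard_of_finite (Set.finite_singleton _)).trans (Set.ncard_singleton _).le
      exact_mod_cast h1)
    haveI : Module.Finite k (X.residueField P) :=
      by
      haveI : IsClosedImmersion (X.fromSpecResidueField P) :=
        IsClosedImmersion.of_isPreimmersion _ (by rw [Scheme.range_fromSpecResidueField]; exact hP)
      have h : LocallyOfFiniteType (Spec.map (CommRingCat.ofHom (Curv2.resMap k X P))) := by
        rw [← Groth.Agent.GeomConn5.spec_resMap]; infer_instance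
      haveI : Algebra.FiniteType k (X.residueField P) :=
        (HasRingHomProperty.Spec_iff (P := @LocallyOfFiniteType)).1 h
      exact finite_of_finite_type_of_isJacobsonRing k (X.residueField P)
    haveI : Algebra.IsSeparable k (X.residueField P) := inferInstance
    have hmem : P ∈ f.smoothLocus :=
      Groth.Agent.SmoothReg.mem_smoothLocus_of_isSeparable f P (fun c => rfl) hreg
    refine ⟨f.smoothLocus, hmem, ?_⟩
    exact (AlgebraicGeometry.Scheme.Hom.smoothLocus_eq_top_iff).1
      ((Scheme.Hom.preimage_smoothLocus_eq f.smoothLocus.ι f).symm.trans f.smoothLocus.ι_preimage_self)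
  · rintro ⟨U, hPU, hU⟩
    haveI : Smooth (U.ι ≫ f) := hU
    have hmem : P ∈ f.smoothLocus := by
      have h1 : (⟨P, hPU⟩ : U.toScheme) ∈ U.ι ⁻¹ᵁ f.smoothLocus := by
        rw [Scheme.Hom.preimage_smoothLocus_eq, Scheme.Hom.smoothLocus_eq_top]
        trivial
      exact h1
    haveI hreg := Groth.Agent.SmoothReg.isRegularLocalRing_stalk_of_mem_smoothLocus f hmem
    haveI := Groth.Agent.RegLoc6.isDomain_of_isRegularLocalRing (X.presheaf.stalk P)
    rw [IsRegularLocalRing.iff_finrank_cotangentSpace, hd] at hreg
    haveI : IsDiscreteValuationRing (X.presheaf.stalk P) :=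
      IsLocalRing.finrank_CotangentSpace_eq_one_iff.mp (by exact_mod_cast hreg)
    refine Groth.Agent.MeroX.isEffCartier_of_stalk J fun x hx V hxV => ?_
    obtain rfl : x = P := by
      have h1 : x ∈ closure ({P} : Set X) := by
        rw [hP.closure_eq]
        exact hx
      rwa [hP.closure_eq, Set.mem_singleton_iff] at h1
    obtain ⟨ϖ, hϖ⟩ := IsDiscreteValuationRing.exists_irreducible (X.presheaf.stalk x)
    refine ⟨ϖ, mem_nonZeroDivisors_of_ne_zero hϖ.ne_zero, ?_⟩
    rw [← hϖ.maximalIdeal_eq]
    exact map_vanishing hP V hxV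

end Groth.Agent.S15923
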