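import Groth.Statements.S15939
import Mathlib

set_option autoImplicit false
universe u
open CAlg

namespace Groth.Agent.S15939

open Polynomial in
/-- Let κ be a field and A a commutative κ-algebra whose only κ-subalgebras are the image of κ and A
itself, these two being different. Then A is finite-dimensional over κ, and A is isomorphic as a
κ-algebra to the dual numbers over κ, or to κ × κ, or A is a field which is either separable over κ
or isomorphic to κ[X]/(X^p - a) with p the (positive) characteristic of κ and a an element of κ that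
is not a p-th power. (The published statement also records that these four cases exclude one
another; that part is not restated.) -/
theorem result (κ A : Type u) [Field κ] [CommRing A] [Algebra κ A]
    (h : IsSimpleOrder (Subalgebra κ A)) :
    FiniteDimensional κ A ∧
    (Nonempty (A ≃ₐ[κ] DualNumber κ) ∨ Nonempty (A ≃ₐ[κ] (κ × κ)) ∨
      (IsField A ∧ (Algebra.IsSeparable κ A ∨
        ∃ (p : ℕ) (a : κ), p.Prime ∧ CharP κ p ∧ (∀ b : κ, b ^ p ≠ a) ∧
          Nonempty (A ≃ₐ[κ] AdjoinRoot (X ^ p - C a))))) := by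
  classical
  haveI : Nontrivial A := by
    by_contra hA
    rw [not_nontrivial_iff_subsingleton] at hA
    exact bot_ne_top (α := Subalgebra κ A) (SetLike.ext fun x => ⟨fun _ => Algebra.mem_top, fun _ => by
      rw [Subsingleton.elim x 0]; exact zero_mem _⟩)
  have hinj : Function.Injective (algebraMap κ A) := (algebraMap κ A).injective
  have htop : ∀ x : A, x ∉ (⊥ : Subalgebra κ A) → Algebra.adjoin κ {x} = ⊤ := fun x hx =>
    (eq_bot_or_eq_top _).resolve_left fun h0 => hx (h0 ▸ Algebra.subset_adjoin rfl)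
  obtain ⟨x, hx⟩ : ∃ x : A, x ∉ (⊥ : Subalgebra κ A) := by
    by_contra hc
    push Not at hc
    exact bot_ne_top (α := Subalgebra κ A) (eq_top_iff.mpr fun x _ => hc x)
  have hint : IsIntegral κ x := by
    refine IsAlgebraic.isIntegral ?_
    rcases eq_bot_or_eq_top (Algebra.adjoin κ {x * x}) with h0 | h0
    · obtain ⟨c, hc⟩ := Algebra.mem_bot.mp (h0 ▸ Algebra.subset_adjoin (Set.mem_singleton (x * x)))
      refine ⟨X ^ 2 - C c, X_pow_sub_C_ne_zero two_pos c, ?_⟩
      rw [map_sub, map_pow, aeval_X, aeval_C, hc, sq, sub_self]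
    · have hmem : x ∈ Algebra.adjoin κ {x * x} := h0 ▸ Algebra.mem_top
      rw [Algebra.adjoin_singleton_eq_range_aeval] at hmem
      obtain ⟨g, hg⟩ := hmem
      refine ⟨expand κ 2 g - X, fun e => ?_, ?_⟩
      · have := congrArg (fun q => q.coeff 1) e
        simp [coeff_expand two_pos] at this
      · rw [map_sub, expand_aeval, aeval_X, sq]
        exact sub_eq_zero.mpr hg
  haveI hfin : Module.Finite κ A := by
    have := Algebra.finite_adjoin_simple_of_isIntegral hint
    rw [htop x hx] at this
    exact Module.Finite.equiv Subalgebra.topEquiv.toLinearEquiv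
  refine ⟨hfin, ?_⟩
  have hsurj : ∀ {B : Type u} [CommRing B] [Algebra κ B] (ψ : B →ₐ[κ] A) (y : A), y ∉ (⊥ : Subalgebra κ A) →
      y ∈ ψ.range → Function.Surjective ψ := by
    intro B _ _ ψ y hy hmem a
    have : (⊤ : Subalgebra κ A) ≤ ψ.range := htop y hy ▸ Algebra.adjoin_le (Set.singleton_subset_iff.mpr hmem)
    exact this (Algebra.mem_top (x := a))
  by_cases hred : IsReduced A
  swap
  · left
    obtain ⟨y, hy0, hy⟩ : ∃ y : A, y ≠ 0 ∧ y * y = 0 := by
      by_contra hc
      push Not at hc
      exact hred ((isReduced_iff_pow_one_lt 2 one_lt_two).mpr fun y hy => by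
        by_contra hy0
        exact hc y hy0 (by rw [← sq]; exact hy))
    have hyb : y ∉ (⊥ : Subalgebra κ A) := fun hb => by
      obtain ⟨c, rfl⟩ := Algebra.mem_bot.mp hb
      rw [← map_mul, map_eq_zero_iff _ hinj, mul_self_eq_zero] at hy
      exact hy0 (by rw [hy, map_zero])
    let ψ : DualNumber κ →ₐ[κ] A := DualNumber.lift ⟨(Algebra.ofId κ A, y), hy, fun _ => Commute.all _ _⟩
    refine ⟨(AlgEquiv.ofBijective ψ ⟨?_, hsurj ψ y hyb ⟨DualNumber.eps, DualNumber.lift_apply_eps _⟩⟩).symm⟩
    rw [injective_iff_map_eq_zero]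
    intro z hz
    rw [show ψ z = algebraMap κ A z.fst + algebraMap κ A z.snd * y from DualNumber.lift_apply_apply _ z] at hz
    have h1 : z.fst = 0 := by
      have := congrArg (fun w => algebraMap κ A z.fst * w) hz
      simp only [mul_zero, mul_add] at this
      have h2 : algebraMap κ A (z.fst * z.fst) = 0 := by
        rw [map_mul]
        linear_combination (algebraMap κ A z.fst - algebraMap κ A z.snd * y) * hz + (algebraMap κ A z.snd) ^ 2 * hy
      exact mul_self_eq_zero.mp ((map_eq_zero_iff _ hinj).mp h2)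
    rw [h1, map_zero, zero_add] at hz
    refine TrivSqZeroExt.ext h1 ?_
    by_contra hs
    exact hy0 (((Ne.isUnit (show z.snd ≠ 0 from hs)).map (algebraMap κ A)).mul_right_eq_zero.mp hz)
  by_cases hF : IsField A
  swap
  · right; left
    obtain ⟨z, hz0, hzu⟩ : ∃ z : A, z ≠ 0 ∧ ¬ IsUnit z := by
      by_contra hc
      push Not at hc
      exact hF ⟨exists_pair_ne A, mul_comm, fun {a} ha => (hc a ha).exists_right_inv⟩
    haveI : IsArtinianRing A := isArtinian_of_tower κ inferInstance
    obtain ⟨n, w, hw⟩ := IsArtinian.exists_pow_succ_smul_dvd z (1 : A)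
    rw [smul_eq_mul, smul_eq_mul, mul_one, Nat.succ_eq_add_one] at hw
    have hzw : z = z * z * w := by
      have h0 : (z - z * z * w) ^ (n + 1) = 0 := by
        rw [show z - z * z * w = z * (1 - z * w) by ring, mul_pow, pow_succ (1 - z * w)]
        have : z ^ (n + 1) * (1 - z * w) = 0 := by
          linear_combination (-z) * hw
        linear_combination (1 - z * w) ^ n * this
      exact sub_eq_zero.mp (IsReduced.eq_zero _ ⟨n + 1, h0⟩)
    set e := z * w with hedef
    have he : e * e = e := by rw [hedef]; linear_combination (-w) * hzw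
    have he0 : e ≠ 0 := fun h0 => hz0 (by rw [hzw, mul_assoc, ← hedef, h0, mul_zero])
    have he1 : e ≠ 1 := fun h1 => hzu (IsUnit.of_mul_eq_one w h1)
    have heb : e ∉ (⊥ : Subalgebra κ A) := fun hb => by
      obtain ⟨c, hc⟩ := Algebra.mem_bot.mp hb
      rw [← hc, ← map_mul] at he
      rcases mul_eq_zero.mp (show c * (c - 1) = 0 by linear_combination hinj he) with h0 | h0
      · exact he0 (by rw [← hc, h0, map_zero])
      · exact he1 (by rw [← hc, sub_eq_zero.mp h0, map_one])
    let ψ : κ × κ →ₐ[κ] A := AlgHom.ofLinearMap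
      ((LinearMap.toSpanSingleton κ A e).comp (LinearMap.fst κ κ κ) +
        (LinearMap.toSpanSingleton κ A (1 - e)).comp (LinearMap.snd κ κ κ))
      (by simp) (fun a b => by
        simp only [LinearMap.add_apply, LinearMap.comp_apply, LinearMap.fst_apply, LinearMap.snd_apply,
          LinearMap.toSpanSingleton_apply, Prod.fst_mul, Prod.snd_mul, Algebra.smul_def, map_mul]
        linear_combination (-(algebraMap κ A a.1 * algebraMap κ A b.1) - algebraMap κ A a.2 * algebraMap κ A b.2
          + algebraMap κ A a.1 * algebraMap κ A b.2 + algebraMap κ A a.2 * algebraMap κ A b.1) * he)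
    refine ⟨(AlgEquiv.ofBijective ψ ⟨?_, hsurj ψ e heb ⟨(1, 0), by simp [ψ]⟩⟩).symm⟩
    rw [injective_iff_map_eq_zero]
    intro q hq
    have hq' : algebraMap κ A q.1 * e + algebraMap κ A q.2 * (1 - e) = 0 := by
      simpa [ψ, Algebra.smul_def] using hq
    have h1 : algebraMap κ A q.1 * e = 0 := by linear_combination e * hq' - (algebraMap κ A q.1 - algebraMap κ A q.2) * he
    have h2 : algebraMap κ A q.2 * (1 - e) = 0 := by linear_combination hq' - h1
    refine Prod.ext ?_ ?_ <;> by_contra hs
    · exact he0 (((Ne.isUnit hs).map (algebraMap κ A)).mul_right_eq_zero.mp h1)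
    · exact he1 (sub_eq_zero.mp (((Ne.isUnit hs).map (algebraMap κ A)).mul_right_eq_zero.mp h2)).symm
  right; right
  refine ⟨hF, ?_⟩
  letI := hF.toField
  by_cases hsep : ∃ y : A, y ∉ (⊥ : Subalgebra κ A) ∧ IsSeparable κ y
  · left
    obtain ⟨y, hy, hys⟩ := hsep
    refine ⟨fun a => ?_⟩
    have hyt : IntermediateField.adjoin κ {y} = ⊤ := eq_top_iff.mpr fun b _ => by
      exact IntermediateField.algebra_adjoin_le_adjoin κ _ (htop y hy ▸ Algebra.mem_top (x := b))
    haveI := IntermediateField.isSeparable_adjoin_simple_iff_isSeparable κ A |>.mpr hys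
    haveI : Algebra.IsSeparable κ A := Algebra.IsSeparable.of_algHom κ _
      (((IntermediateField.equivOfEq hyt).trans IntermediateField.topEquiv).symm.toAlgHom)
    exact Algebra.IsSeparable.isSeparable κ a
  right
  push Not at hsep
  obtain ⟨q, hq⟩ := ExpChar.exists κ
  haveI : ExpChar A q := expChar_of_injective_algebraMap hinj q
  haveI : IsPurelyInseparable κ A := by
    rw [isPurelyInseparable_iff]
    intro a
    refine ⟨Algebra.IsIntegral.isIntegral a, fun ha => ?_⟩
    by_contra hna
    exact hsep a (fun hb => hna (Algebra.mem_bot.mp hb)) ha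
  obtain ⟨p, hp, hqp⟩ : ∃ p, p.Prime ∧ q = p := by
    rcases hq with _ | ⟨hp⟩
    · exfalso
      obtain ⟨n, hn⟩ := IsPurelyInseparable.pow_mem κ 1 x
      rw [one_pow, pow_one] at hn
      exact hx (Algebra.mem_bot.mpr hn)
    · exact ⟨q, hp, rfl⟩
  subst hqp
  haveI : CharP κ q := by cases hq; exact absurd hp Nat.not_prime_one; assumption
  obtain ⟨n, hn⟩ := IsPurelyInseparable.pow_mem κ q x
  obtain ⟨y, hy, a, ha⟩ : ∃ y : A, y ∉ (⊥ : Subalgebra κ A) ∧ ∃ a : κ, algebraMap κ A a = y ^ q := by
    induction n with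
    | zero => rw [pow_zero, pow_one] at hn; exact absurd (Algebra.mem_bot.mpr hn) hx
    | succ n ih =>
      by_cases hb : x ^ q ^ n ∈ (algebraMap κ A).range
      · exact ih hb
      · obtain ⟨a, ha⟩ := hn
        exact ⟨x ^ q ^ n, fun h => hb (Algebra.mem_bot.mp h), a, by rw [← pow_mul, ← pow_succ]; exact ha⟩
  have hnp : ∀ b : κ, b ^ q ≠ a := fun b hb => hy (Algebra.mem_bot.mpr ⟨b, frobenius_inj A q (by
    rw [frobenius_def, frobenius_def, ← map_pow, hb, ha])⟩)
  refine ⟨q, a, hp, inferInstance, hnp, ?_⟩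
  haveI := Fact.mk (X_pow_sub_C_irreducible_of_prime hp hnp)
  let ψ : AdjoinRoot (X ^ q - C a) →ₐ[κ] A := AdjoinRoot.liftAlgHom _ (Algebra.ofId κ A) y (by
    simp [ha, Algebra.ofId_apply])
  exact ⟨(AlgEquiv.ofBijective ψ ⟨ψ.toRingHom.injective, hsurj ψ y hy ⟨AdjoinRoot.root _, by simp [ψ]⟩⟩).symm⟩

end Groth.Agent.S15939
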