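import Groth.Statements.S15954
import Groth.Agent.PinchPO.Basic
import Groth.Agent.RingPO.BaseChange
import Groth.Agent.RingPO.CokerFlat
import Groth.Agent.H23.GeomConnGamma
import Mathlib
-- import your own Groth.Agent.* helpers here

set_option autoImplicit false
universe u
open Pinch

set_option backward.isDefEq.respectTransparency false
attribute [-instance] CategoryTheory.catToReflQuiver
set_option linter.style.haveILetI false

namespace Groth.Agent.S15954

open CategoryTheory AlgebraicGeometry in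
/-- Let Y be a scheme, f : X → Y a morphism, t : T → Y a scheme affine over Y, ξ : Z → T a morphism with
Z affine over Y via ξ followed by t, and ι : Z → X a closed immersion over Y; assume every point of
Y has an affine open neighbourhood U together with an affine open V of X inside the preimage of U
containing the image under ι of the part of Z over U; assume moreover that Y is locally Noetherian,
f and t are of finite type and ξ is finite, and let X → P ← T be a push-out of ι and ξ in the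
category of schemes; assume finally that ξ is faithfully flat and that over every affine open U of Y
the cokernel of the map from functions on t⁻¹(U) to functions on the part of Z over U is a
projective module over the functions on U. Let p : P → Y be the induced morphism. Then the push-out
commutes with every base change: for every morphism Y' → Y the square obtained by pulling back Z →
X, Z → T, X → P and T → P along Y' → Y is a push-out square in the category of schemes. -/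
theorem result {X Y T Z : Scheme.{u}} (f : X ⟶ Y) (t : T ⟶ Y) (ξ : Z ⟶ T) (ι : Z ⟶ X)
    [IsAffineHom t] [IsAffineHom (ξ ≫ t)] [IsClosedImmersion ι] (hsq : ι ≫ f = ξ ≫ t)
    (hstd : ∀ y : Y, ∃ U : Y.Opens, IsAffineOpen U ∧ y ∈ U ∧ ∃ V : X.Opens, IsAffineOpen V ∧
      V ≤ f ⁻¹ᵁ U ∧ ∀ z : Z, (ξ ≫ t).base z ∈ U → ι.base z ∈ V)
    [IsLocallyNoetherian Y] [LocallyOfFiniteType f] [QuasiCompact f] [LocallyOfFiniteType t] [QuasiCompact t]
    [IsFinite ξ] {P : Scheme.{u}} (a : X ⟶ P) (b : T ⟶ P) (hP : IsPushout ι ξ a b)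
    [Flat ξ] [Surjective ξ]
    (hv : ∀ U : Y.affineOpens, @Pinch.CokerProjective Γ(Y, U) Γ(Z, (ξ ≫ t) ⁻¹ᵁ U) Γ(T, t ⁻¹ᵁ U) _ _ _
      ((ξ ≫ t).app U).hom.toAlgebra (ξ.app (t ⁻¹ᵁ U)).hom)
    (p : P ⟶ Y) (hap : a ≫ p = f) (hbp : b ≫ p = t) {Y' : Scheme.{u}} (g : Y' ⟶ Y) :
    IsPushout ((Over.pullback g).map (Over.homMk ι hsq : Over.mk (ξ ≫ t) ⟶ Over.mk f)).left
      ((Over.pullback g).map (Over.homMk ξ rfl : Over.mk (ξ ≫ t) ⟶ Over.mk t)).left
      ((Over.pullback g).map (Over.homMk a hap : Over.mk f ⟶ Over.mk p)).left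
      ((Over.pullback g).map (Over.homMk b hbp : Over.mk t ⟶ Over.mk p)).left := by
  have hc := Groth.Agent.PinchPO.charts hsq hstd
  haveI : IsIntegralHom a := RingPO.isIntegralHom_inl hP hc
  haveI : IsClosedImmersion b := RingPO.isClosedImmersion_inr hP hc
  subst hbp
  let iT := ((Over.pullback g).map (Over.homMk ι hsq : Over.mk (ξ ≫ b ≫ p) ⟶ Over.mk f)).left
  let jT := ((Over.pullback g).map (Over.homMk ξ rfl : Over.mk (ξ ≫ b ≫ p) ⟶ Over.mk (b ≫ p))).left
  have sA : IsPullback (Limits.pullback.fst f g) ((Over.pullback g).map (Over.homMk a hap : Over.mk f ⟶ Over.mk p)).left a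
      (Limits.pullback.fst p g) :=
    RingPO.isPullback_map_square hap g (Limits.pullback.lift_fst _ _ _) (Limits.pullback.lift_snd _ _ _)
  have sB : IsPullback (Limits.pullback.fst (b ≫ p) g)
      ((Over.pullback g).map (Over.homMk b rfl : Over.mk (b ≫ p) ⟶ Over.mk p)).left b (Limits.pullback.fst p g) :=
    RingPO.isPullback_map_square rfl g (Limits.pullback.lift_fst _ _ _) (Limits.pullback.lift_snd _ _ _)
  have sI : IsPullback (Limits.pullback.fst (ξ ≫ b ≫ p) g) iT ι (Limits.pullback.fst f g) :=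
    RingPO.isPullback_map_square hsq g (Limits.pullback.lift_fst _ _ _) (Limits.pullback.lift_snd _ _ _)
  haveI : IsAffineHom ((Over.pullback g).map (Over.homMk a hap : Over.mk f ⟶ Over.mk p)).left :=
    MorphismProperty.of_isPullback (P := @IsAffineHom) sA inferInstance
  have hw2 : iT ≫ ((Over.pullback g).map (Over.homMk a hap : Over.mk f ⟶ Over.mk p)).left =
      jT ≫ ((Over.pullback g).map (Over.homMk b rfl : Over.mk (b ≫ p) ⟶ Over.mk p)).left := by
    rw [← Over.comp_left, ← Over.comp_left, ← Functor.map_comp, ← Functor.map_comp]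
    congr 2
    ext
    exact hP.w
  refine RingPO.isPushout_baseChange_core hP hc p g (Or.inr fun Sa U hSa hU eS => ⟨?_, ?_⟩)
    (IsPullback.of_hasPullback p g) sA sB sI (Limits.pullback.lift_fst _ _ _) hw2
  · have key : ∀ (W : Z.Opens) (e : W ≤ ξ ⁻¹ᵁ b ⁻¹ᵁ U), W = ξ ⁻¹ᵁ b ⁻¹ᵁ U →
        Function.Injective (ξ.appLE (b ⁻¹ᵁ U) W e) := by
      intro W e hW
      subst hW
      rw [← Scheme.Hom.app_eq_appLE]
      exact H23.GeomConnGamma.app_injective ξ _
    exact key _ _ (RingPO.chartOver hP hU).eq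
  · have hV₀ : IsAffineOpen ((b ≫ p) ⁻¹ᵁ Sa) := hSa.preimage (b ≫ p)
    have hW : ι ⁻¹ᵁ a ⁻¹ᵁ U = ξ ⁻¹ᵁ b ⁻¹ᵁ U := by
      rw [← Scheme.Hom.comp_preimage, ← Scheme.Hom.comp_preimage, hP.w]
    have e₁ : ι ⁻¹ᵁ a ⁻¹ᵁ U ≤ (ξ ≫ b ≫ p) ⁻¹ᵁ Sa := by
      rw [hW]; exact fun z hz => eS hz
    have h1 := RingPO.cokerFlat_restrict ξ (b ≫ p) hV₀ (hU.preimage b) le_rfl (fun z hz => eS hz) hW e₁
      (by
        have h2 := hv ⟨Sa, hSa⟩
        rw [Pinch.CokerProjective] at h2
        let P' : (↑Γ(Y, Sa) →+* ↑Γ(Z, ξ ⁻¹ᵁ (b ≫ p) ⁻¹ᵁ Sa)) → Prop := fun φ =>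
          letI := φ.toAlgebra
          Module.Flat Γ(Y, Sa) (Γ(Z, ξ ⁻¹ᵁ (b ≫ p) ⁻¹ᵁ Sa) ⧸
            Submodule.span Γ(Y, Sa) (Set.range (ξ.app ((b ≫ p) ⁻¹ᵁ Sa)).hom))
        have h3 : P' ((ξ ≫ b ≫ p).app Sa).hom := by
          letI := ((ξ ≫ b ≫ p).app Sa).hom.toAlgebra
          haveI := h2
          exact Module.Flat.of_projective
        have hh : ((ξ ≫ b ≫ p).app Sa).hom =
            ((ξ ≫ b ≫ p).appLE Sa (ξ ⁻¹ᵁ (b ≫ p) ⁻¹ᵁ Sa) (fun z hz => hz)).hom :=
          congrArg CommRingCat.Hom.hom (Scheme.Hom.app_eq_appLE (ξ ≫ b ≫ p))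
        exact hh ▸ h3)
    have hhom : (ξ ≫ b ≫ p).appLE Sa (ι ⁻¹ᵁ a ⁻¹ᵁ U) e₁ =
        p.appLE Sa U eS ≫ a.appLE U (a ⁻¹ᵁ U) le_rfl ≫ ι.appLE (a ⁻¹ᵁ U) (ι ⁻¹ᵁ a ⁻¹ᵁ U) le_rfl := by
      rw [Scheme.Hom.appLE_comp_appLE, Scheme.Hom.appLE_comp_appLE]
      simp only [← reassoc_of% hP.w, Category.assoc]
    rw [hhom] at h1
    exact h1


end Groth.Agent.S15954
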