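import Groth.Statements.S1596
import Groth.Agent.Lib.CurveFamR1
import Groth.Agent.NodalLib.Gor
import Groth.Agent.S15985
import Groth.Agent.H23.RigidGamma

set_option autoImplicit false
set_option linter.style.haveILetI false
set_option linter.unusedSectionVars false
set_option backward.isDefEq.respectTransparency false
set_option backward.isDefEq.respectTransparency.types false
set_option maxHeartbeats 1000000
universe u
open CategoryTheory CategoryTheory.Limits AlgebraicGeometry
open Curves

namespace Groth.Agent.S1596

open Groth.Agent


/-- Let f : X → S be a proper morphism of schemes that is at-worst-nodal of relative dimension one with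
geometrically connected fibres. Then R¹f_*O_X is a finite locally free O_S-module and R^q f_*O_X = 0
for every q ≥ 2. The published statement also includes the compatibility of these direct images with
base change, which is not asserted here. (Existence of injective resolutions in the category of
O_X-modules is carried as an instance binder.) -/
theorem result {X S : Scheme.{u}} (f : X ⟶ S) [IsProper f] (hf : Curv2.IsNodalFamily f)
    [GeometricallyConnected f] [HasInjectiveResolutions X.Modules] :
    FlatMod.IsFinLocFree ((Coh.Rpush f 1).obj (Coh.structureModule X)) ∧
      ∀ q : ℕ, 2 ≤ q → IsZero ((Coh.Rpush f q).obj (Coh.structureModule X)) := by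
  obtain ⟨hfl, hfp, hfib⟩ := hf
  haveI := hfl
  haveI := hfp
  have hdim : ∀ s : S, topologicalKrullDim ↥(f.fiber s) ≤ (1 : ℕ) := fun s => by
    letI : (f.fiber s).Over (Spec (CommRingCat.of (S.residueField s))) := ⟨f.fiberToSpecResidueField s⟩
    haveI : LocallyOfFiniteType ((f.fiber s) ↘ Spec (CommRingCat.of (S.residueField s))) :=
      inferInstanceAs (LocallyOfFiniteType (f.fiberToSpecResidueField s))
    exact_mod_cast NodalLib.topologicalKrullDim_le_one_of_components (S.residueField s) (f.fiber s) (hfib s).1
  have hc : H23.RigidApply.ConstFibres f := fun s => by
    letI : (f.fiber s).Over (Spec (CommRingCat.of (S.residueField s))) := ⟨f.fiberToSpecResidueField s⟩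
    haveI : LocallyOfFiniteType ((f.fiber s) ↘ Spec (CommRingCat.of (S.residueField s))) :=
      inferInstanceAs (LocallyOfFiniteType (f.fiberToSpecResidueField s))
    haveI : IsProper (f.fiberToSpecResidueField s) :=
      inferInstanceAs (IsProper (pullback.snd f (S.fromSpecResidueField s)))
    haveI : GeometricallyConnected (f.fiberToSpecResidueField s) :=
      inferInstanceAs (GeometricallyConnected (pullback.snd f (S.fromSpecResidueField s)))
    haveI : IsReduced (pullback (f.fiberToSpecResidueField s)
        (Spec.map (CommRingCat.ofHom (algebraMap (S.residueField s) (AlgebraicClosure (S.residueField s)))))) :=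
      NodalLib.isReduced_bc (S.residueField s) (f.fiber s) (by exact_mod_cast hdim s) (hfib s).2
    haveI : ConnectedSpace ↥(pullback (f.fiberToSpecResidueField s)
        (Spec.map (CommRingCat.ofHom (algebraMap (S.residueField s) (AlgebraicClosure (S.residueField s)))))) :=
      GeometricallyConnected.geometrically_connectedSpace _ _ _ (.of_hasPullback _ _)
    exact H23.RigidGamma.bijective_appTop_of_algClosure (k := S.residueField s) (f.fiberToSpecResidueField s)
  refine ⟨CurveFamR1.isFinLocFree_R1 f hc hdim, fun q hq => ?_⟩
  haveI := QCoh.isQCoh_of_isFP (AssDimLoci.isFP_structureModule (X := X))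
  exact S15985.result f _ AssDimLoci.isFP_structureModule (AssDimLoci.isFlatOver_structureModule f) q
    fun y => PBC.subsingleton_fiberH_of_dim f y (hdim y) (by omega)

end Groth.Agent.S1596
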