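import Groth.Statements.S15989
import Groth.Agent.HypCurve.PlaneGenusOne
import Groth.Agent.H23.RatProductK

set_option autoImplicit false
set_option linter.style.haveILetI false
set_option linter.unusedSectionVars false
set_option backward.isDefEq.respectTransparency false
set_option backward.isDefEq.respectTransparency.types false
set_option maxHeartbeats 1000000
universe u
open ModFun

namespace Groth.Agent.S15989

open Groth.Agent
open CategoryTheory CategoryTheory.Limits AlgebraicGeometry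

open MvPolynomial in
/-- The cubics `X³ + uY³ + u²Z³ + auXYZ`. -/
noncomputable def cubic (K : Type u) [Field K] (a u : K) : LefPen.Form 2 K 3 :=
  ⟨X 0 ^ 3 + C u * X 1 ^ 3 + C (u ^ 2) * X 2 ^ 3 + C (a * u) * (X 0 * X 1 * X 2),
    ((((isHomogeneous_X K 0).pow 3).add (isHomogeneous_C_mul_X_pow u 1 3)).add
      (isHomogeneous_C_mul_X_pow (u ^ 2) 2 3)).add
      ((((isHomogeneous_X K 0).mul (isHomogeneous_X K 1)).mul (isHomogeneous_X K 2)).C_mul (a * u))⟩

open MvPolynomial in
theorem subst_cubic (K L : Type u) [Field K] [Field L] [Algebra K L] (a u : K) (u' : L)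
    (c : Fin (2 + 1) → Lˣ) (h0 : (c 0 : L) = 1) (h1 : algebraMap K L u * (c 1 : L) ^ 3 = u')
    (h2 : (c 2 : L) = (c 1 : L) ^ 2) :
    (cubic L (algebraMap K L a) u').1 = HypCurve.Scale.subst K L c (cubic K a u).1 := by
  subst h1
  simp only [cubic, HypCurve.Scale.subst, map_add, map_mul, map_pow, eval₂Hom_C, eval₂Hom_X', h0, h2, map_one,
    RingHom.comp_apply, one_mul]
  ring

open MvPolynomial in
theorem cubic_ne_zero (K : Type u) [Field K] (a u : K) : cubic K a u ≠ 0 := fun h => by
  have h1 := congrArg (eval ![(1 : K), 0, 0]) (congrArg Subtype.val h)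
  simp [cubic] at h1

open MvPolynomial in
theorem smooth_cubic (K : Type u) [Field K] (a u : K) (hu : u ≠ 0) (h3 : ((3 : K) ≠ 0 ∧ a = 0) ∨ ((3 : K) = 0 ∧ a ≠ 0)) :
    Smooth (HypCurve.pStr (cubic K a u)) := by
  rw [HypCurve.smooth_iff_no_singular_point (cubic_ne_zero K a u)]
  intro i v hv h0
  by_contra hc
  push Not at hc
  have d0 := hc 0
  have d1 := hc 1
  have d2 := hc 2
  simp [cubic] at d0 d1 d2 h0
  set φ := algebraMap K (AlgebraicClosure K)
  have hu' : φ u ≠ 0 := by simpa using hu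
  have hv0 : v 0 = 0 ∧ v 1 = 0 ∧ v 2 = 0 := by
    rcases h3 with ⟨h3, rfl⟩ | ⟨h3, ha⟩
    · have h3' : (3 : AlgebraicClosure K) ≠ 0 := by
        rw [← map_ofNat φ 3]; exact fun h => h3 (φ.injective (h.trans φ.map_zero.symm))
      simp [h3', hu', hu] at d0 d1 d2
      exact ⟨by assumption, by assumption, by assumption⟩
    · have h3' : (3 : AlgebraicClosure K) = 0 := by rw [← map_ofNat φ 3, h3, map_zero]
      have ha' : φ a ≠ 0 := by simpa using ha
      simp [h3', hu', hu, ha', ha] at d0 d1 d2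
      rcases d0 with h | h <;> rcases d1 with h' | h' <;> rcases d2 with h'' | h'' <;>
        simp [h, h', h'', hu'] at h0 ⊢ <;> simp [*]
  obtain ⟨e0, e1, e2⟩ := hv0
  fin_cases i
  · exact one_ne_zero (hv.symm.trans e0)
  · exact one_ne_zero (hv.symm.trans e1)
  · exact one_ne_zero (hv.symm.trans e2)

open Polynomial in
theorem descent (k : Type u) [Field k] (α : k) : ∀ (n : ℕ) (a b c : k[X]),
    a.natDegree + b.natDegree + c.natDegree ≤ n →
    a ^ 3 + X * b ^ 3 + X ^ 2 * c ^ 3 + C α * X * (a * b * c) = 0 → a = 0 ∧ b = 0 ∧ c = 0 := by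
  intro n
  induction n using Nat.strong_induction_on with
  | _ n ih =>
    intro a b c hn h
    have hp : Prime (X : k[X]) := prime_X
    obtain ⟨a', rfl⟩ : X ∣ a := hp.dvd_of_dvd_pow (n := 3)
      ⟨-(b ^ 3 + X * c ^ 3 + C α * (a * b * c)), by linear_combination h⟩
    have hb : X * b ^ 3 + X ^ 2 * (X * a' ^ 3 + c ^ 3 + C α * (a' * b * c)) = 0 := by linear_combination h
    obtain ⟨b', rfl⟩ : X ∣ b := hp.dvd_of_dvd_pow (n := 3)
      ⟨-(X * a' ^ 3 + c ^ 3 + C α * (a' * b * c)), mul_left_cancel₀ X_ne_zero (by linear_combination hb)⟩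
    obtain ⟨c', rfl⟩ : X ∣ c := hp.dvd_of_dvd_pow (n := 3)
      ⟨-(a' ^ 3 + X * b' ^ 3 + C α * (a' * b' * c)), mul_left_cancel₀ (pow_ne_zero 2 X_ne_zero)
        (by linear_combination h)⟩
    have h' : a' ^ 3 + X * b' ^ 3 + X ^ 2 * c' ^ 3 + C α * X * (a' * b' * c') = 0 :=
      mul_left_cancel₀ (pow_ne_zero 3 X_ne_zero) (by linear_combination h)
    by_contra hne
    have hdeg : ∀ p : k[X], p ≠ 0 → (X * p).natDegree = p.natDegree + 1 := fun p hp => by
      rw [natDegree_X_mul hp]
    have hlt : a'.natDegree + b'.natDegree + c'.natDegree < n := by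
      rcases eq_or_ne a' 0 with rfl | ha <;> rcases eq_or_ne b' 0 with rfl | hb0 <;>
        rcases eq_or_ne c' 0 with rfl | hc <;> simp_all [hdeg] <;> omega
    obtain ⟨rfl, rfl, rfl⟩ := ih _ hlt a' b' c' le_rfl h'
    simp at hne

theorem no_point (k : Type u) [Field k] (α : k)
    (s : Spec (CommRingCat.of (RatFunc k)) ⟶
      (LefPen.hypIdeal (cubic (RatFunc k) (algebraMap k (RatFunc k) α) RatFunc.X)).subscheme)
    (hs : s ≫ HypCurve.pStr (cubic (RatFunc k) (algebraMap k (RatFunc k) α) RatFunc.X) = 𝟙 _) : False := by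
  obtain ⟨i, v, hvi, hev⟩ := HypCurve.exists_coords _ s hs
  obtain ⟨⟨d, hd⟩, hint⟩ := IsLocalization.exist_integer_multiples_of_finite (nonZeroDivisors (Polynomial k)) v
  choose w hw using hint
  have hd0 : algebraMap (Polynomial k) (RatFunc k) d ≠ 0 :=
    fun h => nonZeroDivisors.ne_zero hd ((RatFunc.algebraMap_injective k) (h.trans (map_zero _).symm))
  have hw' : ∀ j, algebraMap (Polynomial k) (RatFunc k) (w j) = algebraMap (Polynomial k) (RatFunc k) d * v j :=
    fun j => (hw j).trans (Algebra.smul_def _ _)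
  have h : (w 0) ^ 3 + Polynomial.X * (w 1) ^ 3 + Polynomial.X ^ 2 * (w 2) ^ 3 +
      Polynomial.C α * Polynomial.X * (w 0 * w 1 * w 2) = 0 := by
    apply RatFunc.algebraMap_injective k
    simp only [map_add, map_mul, map_pow, map_zero, hw', RatFunc.algebraMap_X, RatFunc.algebraMap_C]
    simp [cubic] at hev
    linear_combination (algebraMap (Polynomial k) (RatFunc k) d) ^ 3 * hev
  obtain ⟨e0, e1, e2⟩ := descent k α _ _ _ _ le_rfl h
  have hz : ∀ j, w j = 0 := fun j => by fin_cases j <;> assumption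
  have := hw' i
  rw [hz i, map_zero, hvi, mul_one] at this
  exact hd0 this.symm


open AlgebraicGeometry CategoryTheory in
/-- Over an algebraically closed field k, the moduli problem of curves of genus 1 (proper smooth
geometrically irreducible C → T with one-dimensional geometric fibres of genus 1, modulo isomorphism
over T, on all k-schemes T) is not representable: no k-scheme M carries a universal family. (The
published statement asserts non-representability for every genus g and every number n of marked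
points, which fails for g = 0 and n = 3: three disjoint sections identify every family with the
projective line over the base marked at 0, 1 and ∞, so that functor is represented by a point; its
argument is carried out in genus 1 with one marked point, and the unpointed genus-1 case stated here
is what that argument, with the same isotrivial family, proves.) -/
theorem result (k : Type u) [Field k] [IsAlgClosed k]
    (M : Over (Spec (CommRingCat.of k))) :
    ¬ ModFun.IsFineModuli ⊤ (ModFun.Mg (Spec (CommRingCat.of k)) 1) M := by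
  classical
  rintro ⟨ξ, -, huniv⟩
  obtain ⟨α, hα⟩ : ∃ α : k, ((3 : k) ≠ 0 ∧ α = 0) ∨ ((3 : k) = 0 ∧ α ≠ 0) := by
    by_cases h : (3 : k) = 0
    · exact ⟨1, Or.inr ⟨h, one_ne_zero⟩⟩
    · exact ⟨0, Or.inl ⟨h, rfl⟩⟩
  let K : Type u := RatFunc k
  let L : Type u := AlgebraicClosure K
  have hαF : ∀ (F : Type u) [Field F] [Algebra k F],
      ((3 : F) ≠ 0 ∧ algebraMap k F α = 0) ∨ ((3 : F) = 0 ∧ algebraMap k F α ≠ 0) := fun F _ _ => by
    rw [← map_ofNat (algebraMap k F) 3]
    rcases hα with ⟨h, h'⟩ | ⟨h, h'⟩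
    · exact Or.inl ⟨by simpa using h, by simp [h']⟩
    · exact Or.inr ⟨by simp [h], by simpa using h'⟩
  let αK : K := algebraMap k K α
  let G : K → LefPen.Form 2 K 3 := cubic K αK
  obtain ⟨ρ, hρ⟩ := IsAlgClosed.exists_pow_nat_eq (algebraMap K L RatFunc.X) (n := 3) (by norm_num)
  have hX : algebraMap K L RatFunc.X ≠ 0 := by
    simpa using (RatFunc.X_ne_zero (K := k))
  have hρ0 : ρ ≠ 0 := fun h => hX (by rw [← hρ, h]; simp)
  let GF : LefPen.Form 2 L 3 := cubic L (algebraMap K L αK) 1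
  have hαL : ((3 : L) ≠ 0 ∧ algebraMap K L αK = 0) ∨ ((3 : L) = 0 ∧ algebraMap K L αK ≠ 0) := by
    rw [show algebraMap K L αK = algebraMap k L α from (IsScalarTower.algebraMap_apply k K L α).symm]
    exact hαF L
  -- the base
  let a : Spec (CommRingCat.of K) ⟶ Spec (CommRingCat.of k) := Spec.map (CommRingCat.ofHom (algebraMap k K))
  let b : Spec (CommRingCat.of L) ⟶ Spec (CommRingCat.of K) := Spec.map (CommRingCat.ofHom (algebraMap K L))
  let T : Over (Spec (CommRingCat.of k)) := Over.mk a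
  let T' : Over (Spec (CommRingCat.of k)) := Over.mk (b ≫ a)
  let m : T' ⟶ T := Over.homMk b
  let Cf : K → Over T.left := fun w => Over.mk (HypCurve.pStr (G w))
  have hsm : ∀ w : K, w ≠ 0 → Smooth (HypCurve.pStr (G w)) := fun w hw => smooth_cubic K αK w hw (hαF K)
  have hok : ∀ w : K, w ≠ 0 → (ModFun.Mg (Spec (CommRingCat.of k)) 1).ok T (Cf w) := fun w hw =>
    ⟨trivial, HypCurve.isCurveOfGenus_pStr (cubic_ne_zero K αK w) (hsm w hw)⟩
  let D : Over T'.left := Over.mk (HypCurve.pStr GF)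
  have hD : (ModFun.Mg (Spec (CommRingCat.of k)) 1).ok T' D :=
    ⟨trivial, HypCurve.isCurveOfGenus_pStr (cubic_ne_zero L _ 1) (smooth_cubic L _ 1 one_ne_zero hαL)⟩
  have hbc : ∀ (w : K) (c : Fin (2 + 1) → Lˣ), GF.1 = HypCurve.Scale.subst K L c (G w).1 →
      Nonempty ((Over.pullback m.left).obj (Cf w) ≅ D) := fun w c h => by
    obtain ⟨j, hj⟩ := HypCurve.Scale.exists_isPullback K L c (G w) h
    exact ⟨Over.isoMk hj.isoPullback.symm (hj.isoPullback_inv_snd)⟩
  obtain ⟨e1⟩ := hbc 1 (fun _ => 1) (subst_cubic K L αK 1 1 _ rfl (by simp) (by simp))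
  obtain ⟨e2⟩ := hbc RatFunc.X ![1, (Units.mk0 ρ hρ0)⁻¹, (Units.mk0 ρ hρ0)⁻¹ ^ 2]
    (subst_cubic K L αK RatFunc.X 1 _ rfl (by simp [← hρ, hρ0]) (by simp))
  obtain ⟨g1, ⟨r1⟩, -⟩ := huniv T (Cf 1) trivial (hok 1 one_ne_zero)
  obtain ⟨g2, ⟨r2⟩, -⟩ := huniv T (Cf RatFunc.X) trivial (hok _ RatFunc.X_ne_zero)
  obtain ⟨g, -, hg⟩ := huniv T' D trivial hD
  have hg1 : m ≫ g1 = g := hg (m ≫ g1)
    ⟨(Over.pullbackComp m.left g1.left).app ξ ≪≫ (Over.pullback m.left).mapIso r1 ≪≫ e1⟩
  have hg2 : m ≫ g2 = g := hg (m ≫ g2)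
    ⟨(Over.pullbackComp m.left g2.left).app ξ ≪≫ (Over.pullback m.left).mapIso r2 ≪≫ e2⟩
  have h12 : g1 = g2 := by
    haveI : Subsingleton ↥(Spec (CommRingCat.of K)) := inferInstanceAs (Subsingleton (PrimeSpectrum K))
    haveI : Surjective b := ⟨fun y => ⟨IsLocalRing.closedPoint L, Subsingleton.elim _ _⟩⟩
    haveI : Flat b := by
      rw [show b = Spec.map (CommRingCat.ofHom (algebraMap K L)) from rfl, Flat.SpecMap_iff]
      exact RingHom.flat_algebraMap_iff.2 inferInstance
    ext
    exact (cancel_epi b).1 (congrArg (fun f => f.left) (hg1.trans hg2.symm))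
  subst h12
  let e : Cf 1 ≅ Cf RatFunc.X := r1.symm ≪≫ r2
  -- a rational point on the split cubic
  let G0 : LefPen.Form 2 k 3 := cubic k α 1
  have hs0 : Smooth (HypCurve.pStr G0) := smooth_cubic k α 1 one_ne_zero hα
  obtain ⟨hp0, hi0, -⟩ := HypCurve.plane_cubic_facts (cubic_ne_zero k α 1) hs0
  haveI := hi0
  haveI := hp0
  let Y : Over (Spec (CommRingCat.of k)) := Over.mk (HypCurve.pStr G0)
  haveI : LocallyOfFiniteType Y.hom := inferInstanceAs (LocallyOfFiniteType (HypCurve.pStr G0))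
  haveI : Nonempty Y.left := inferInstanceAs (Nonempty (LefPen.hypIdeal G0).subscheme)
  obtain ⟨pt⟩ := H23.RatProductK.exists_point (L := k) Y
  obtain ⟨j, hj⟩ := HypCurve.Scale.exists_isPullback k K (fun _ => 1) G0 (G' := G 1)
    (subst_cubic k K α 1 1 _ rfl (by simp) (by simp))
  let s1 := hj.lift (a ≫ pt.left) (𝟙 _) (by
    rw [Category.assoc, Category.id_comp]
    exact (congrArg (a ≫ ·) (Over.w pt)).trans (Category.comp_id a))
  refine no_point k α (s1 ≫ e.hom.left) ?_
  rw [Category.assoc]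
  exact (congrArg (s1 ≫ ·) (Over.w e.hom)).trans (hj.lift_snd _ _ _)

end Groth.Agent.S15989
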