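import Groth.Statements.S15993
import Groth.Agent.FlatBirLib.Basic
import Groth.Agent.S5435
import Mathlib.AlgebraicGeometry.Morphisms.FlatMono
-- import your own Groth.Agent.* helpers here

set_option autoImplicit false
open CategoryTheory AlgebraicGeometry
universe u
open EtHull


open CategoryTheory.Limits
set_option backward.isDefEq.respectTransparency false
set_option backward.isDefEq.respectTransparency.types false

namespace Groth.Agent.S15993

/-- Let f : X → S be a morphism of schemes which is faithfully flat (flat and surjective), quasi-compact
and separated, and schematically birational in the following sense: there are schematically dense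
opens U of S and V of X, with the inclusion V → X quasi-compact, such that f maps V into U and the
induced morphism V → U is an isomorphism. Then f is an isomorphism. (The source states this for
algebraic spaces and puts no quasi-compactness condition on the dense opens. Its proof base-changes
along f and uses that the inverse image of V in X ×_S X is again schematically dense, which holds
when V → X is quasi-compact, for instance when X is locally Noetherian, and fails in general: over
the Boolean ring of eventually constant sequences of elements of the field with two elements, the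
spectrum of the ring of eventually two-periodic sequences is faithfully flat and affine, and it is
an isomorphism above the open set of principal points, which is schematically dense on both sides,
yet it is not an isomorphism, the point at infinity being doubled. So V is taken retrocompact in X
here, and X, S are schemes.) -/
theorem result {X S : Scheme.{u}} (f : X ⟶ S)
    [Flat f] [Surjective f] [QuasiCompact f] [IsSeparated f]
    (U : S.Opens) (V : X.Opens) [QuasiCompact V.ι]
    (hU : CInt.IsSchematicallyDense U) (hV : CInt.IsSchematicallyDense V)
    (hle : V ≤ f ⁻¹ᵁ U) (hiso : IsIso (f.resLE U V hle)) : IsIso f := by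
  skip
  have hres : V.ι ≫ f = f.resLE U V hle ≫ U.ι := (Scheme.Hom.resLE_comp_ι f hle).symm
  let i := X.homOfLE hle
  have hi : i ≫ (f ∣_ U) = f.resLE U V hle := rfl
  haveI := hiso
  haveI : IsClosedImmersion (i ≫ f ∣_ U) := by rw [hi]; infer_instance
  haveI : IsSeparated (f ∣_ U) := IsZariskiLocalAtTarget.restrict (P := @IsSeparated) ‹_› U
  haveI : IsClosedImmersion i := IsClosedImmersion.of_comp i (f ∣_ U)
  have hsurj : Function.Surjective i := by
    by_contra hns
    obtain ⟨w, hw⟩ := not_forall.1 hns
    obtain ⟨O, hO, hO'⟩ := isOpen_induced_iff.1 i.isClosedEmbedding.isClosed_range.isOpen_compl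
    have hwO : w.1 ∈ O := (Set.ext_iff.1 hO' w).2 (by simpa using hw)
    obtain ⟨x, ⟨hxO, hxU⟩, hxV⟩ := Groth.Agent.S5435.dense_of_isSchematicallyDense hV
      (⟨O, hO⟩ ⊓ f ⁻¹ᵁ U) ⟨w.1, hwO, w.2⟩
    exact (Set.ext_iff.1 hO' ⟨x, hxU⟩).1 hxO ⟨⟨x, hxV⟩, Subtype.ext (X.homOfLE_apply hle _)⟩
  haveI : Epi i.base := (TopCat.epi_iff_surjective i.base).2 hsurj
  haveI : IsIso i := IsOpenImmersion.isIso i
  have hisoU : IsIso (f ∣_ U) := IsIso.of_isIso_fac_left hi
  let O₂ : (pullback f f).Opens := pullback.fst f f ⁻¹ᵁ V
  haveI : QuasiCompact O₂.ι :=
    MorphismProperty.of_isPullback (P := @QuasiCompact) (isPullback_morphismRestrict (pullback.fst f f) V) ‹QuasiCompact V.ι›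
  have hO₂ : CInt.IsSchematicallyDense O₂ :=
    Groth.Agent.AlgSpDec.SchDenseFacts.preimage_of_flat_qc (pullback.fst f f) V hV
      fun W hW => Groth.Agent.AlgSpDec.SchDenseFacts.isCompact_inf_of_quasiCompact V W hW
  have heq : O₂.ι ≫ pullback.fst f f = O₂.ι ≫ pullback.snd f f :=
    Groth.Agent.FlatBirLib.eq_of_comp_eq f U hisoU _ _ (fun t => hle t.2)
      (by simp only [Category.assoc, pullback.condition])
  have hfac : (O₂.ι ≫ pullback.fst f f) ≫ pullback.diagonal f = O₂.ι := by
    apply pullback.hom_ext
    · simp
    · rw [Category.assoc, pullback.diagonal_snd, Category.comp_id]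
      exact heq
  have hker : (pullback.diagonal f).ker = ⊥ := by
    have h1 := Scheme.Hom.le_ker_comp (O₂.ι ≫ pullback.fst f f) (pullback.diagonal f)
    rw [hfac, (Groth.Agent.AlgSpDec.SchDenseFacts.iff_ker_eq_bot O₂).1 hO₂] at h1
    exact le_bot_iff.1 h1
  haveI : IsIso (pullback.diagonal f) := IsClosedImmersion.isIso_iff_ker_eq_bot.2 hker
  haveI : Mono f := (pullback.isIso_diagonal_iff f).1 ‹_›
  exact Flat.isIso_of_surjective_of_mono f

end Groth.Agent.S15993
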