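import Groth.Statements.S16004
import Groth.Agent.Lib.CurveHiggsMax

set_option autoImplicit false
set_option linter.style.haveILetI false
set_option linter.unusedVariables false
set_option backward.isDefEq.respectTransparency false
set_option backward.isDefEq.respectTransparency.types false
open CategoryTheory AlgebraicGeometry CategoryTheory.Limits
open VBCurve

namespace Groth.Agent.S16004

open Groth.Agent.CurveBundle Groth.Agent.CurveSlope Groth.Agent.CurveStable

/-- Let X be a smooth proper integral curve over the complex numbers and L an invertible O_X-module of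
degree 0; an L-valued pair is a finite locally free O_X-module E of rank r ≥ 1 with a map φ : E → E
⊗ L; a submodule j : G → E (a monomorphism) is φ-invariant when some χ : G → G ⊗ L followed by j ⊗ L
equals j followed by φ; the pair is semistable when deg G · r ≤ deg E · n for every φ-invariant
finite locally free submodule G of rank n ≥ 1, degrees being χ − rank · χ(O_X). If (E, φ) is a
semistable pair then E is slope-semistable as a module of rank r: deg G · r ≤ deg E · n for every
finite locally free submodule G of rank n ≥ 1, invariant or not. (The published statement deletes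
one degree-zero twisting map from a tuple of finitely many commuting ones; this is the case of a
single map.) -/
theorem result
    (X : Scheme.{0}) [X.Over (Spec (CommRingCat.of ℂ))] [IsIntegral X]
    [IsProper (X ↘ Spec (CommRingCat.of ℂ))] [Smooth (X ↘ Spec (CommRingCat.of ℂ))]
    (hdim : topologicalKrullDim X = 1)
    (L : X.Modules) (hL : PicF.IsInvertible L) (hL0 : Curv2.deg ℂ X L 1 = 0)
    (r : ℕ) (hr : 0 < r) (E : X.Modules) (hE : FlatMod.IsFinLocFreeOfRank r E)
    (φ : E ⟶ CohB1.tensorMod E L)
    (hss : (∀ (G : X.Modules) (n : ℕ) (j : G ⟶ E) (χ : G ⟶ CohB1.tensorMod G L), Mono j → 0 < n →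
      FlatMod.IsFinLocFreeOfRank n G →
      χ ≫ (CohB1.sheafifyMod X).map (MonoidalCategoryStruct.whiskerRight (C := CohB1.PMod X) j.val (CohB1.toPMod L)) = j ≫ φ →
      Curv2.deg ℂ X G n * (r : ℤ) ≤ Curv2.deg ℂ X E r * (n : ℤ))) :
    ∀ (G : X.Modules) (n : ℕ) (j : G ⟶ E), Mono j → 0 < n → FlatMod.IsFinLocFreeOfRank n G →
      Curv2.deg ℂ X G n * (r : ℤ) ≤ Curv2.deg ℂ X E r * (n : ℤ) := by
  haveI := Groth.Agent.CurveCohLib.isNoetherian_of_proper (k := ℂ) (X := X)
  have hEf := isFinLocFree_of_rank hE
  have hLf := isFinLocFree_of_rank (Groth.Agent.InvEnd.isFinLocFreeOfRank_one hL)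
  obtain ⟨A, i, hi, hA0, hA, hmax⟩ := exists_max_slope ℂ hdim.le hr hE
  haveI := hi
  have ha : (0 : ℤ) < rk A := by exact_mod_cast hA0
  have hAc := coh_of_free ℂ hA
  have hS := shortExact_cokernel_of_mono i
  have hQc : Coh.IsCoh (cokernel i) := Groth.Agent.QCoh.isCoh_cokernel hAc.1 (coh_of_free ℂ hEf) i
  have hQ := isFinLocFree_of_max ℂ hdim.le i (cokernel.π i) _ hS hAc hEf hQc fun F f hf hF hrF => by
    have := (hmax F f hf hF (by omega)).1
    rw [hrF] at this
    exact le_of_mul_le_mul_right this ha
  have h0 := Groth.Agent.CurveHiggs.hom_eq_zero_of_max ℂ hdim hEf hA hA0 i hQ hL hL0.le hmax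
    ((i ≫ φ) ≫ Groth.Agent.CurveHiggs.twist L (cokernel.π i))
  obtain ⟨χ, hχ⟩ := Groth.Agent.CurveHiggs.exists_lift hLf i (cokernel.π i) (cokernel.condition i) hS (i ≫ φ) h0
  have hA1 := isFinLocFreeOfRank_rk hA
  have hAE := hss A (rk A) i χ hi hA0 hA1 hχ
  intro G n j hj hn hG
  have hGA := (hmax G j hj (isFinLocFree_of_rank hG) (by rw [rk_eq hG]; exact hn)).1
  rw [rk_eq hG] at hGA
  rw [deg_eq_dg ℂ hA1, deg_eq_dg ℂ hE] at hAE
  rw [deg_eq_dg ℂ hG, deg_eq_dg ℂ hE]
  refine le_of_mul_le_mul_right ?_ ha
  have h1 := mul_le_mul_of_nonneg_right hGA (Int.natCast_nonneg r)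
  have h2 := mul_le_mul_of_nonneg_right hAE (Int.natCast_nonneg n)
  linarith

end Groth.Agent.S16004
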