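import Groth.Statements.S16005
import Groth.Agent.Lib.CurveHiggsMax

set_option autoImplicit false
set_option linter.style.haveILetI false
set_option linter.unusedVariables false
set_option backward.isDefEq.respectTransparency false
set_option backward.isDefEq.respectTransparency.types false
open CategoryTheory AlgebraicGeometry CategoryTheory.Limits
open VBCurve

namespace Groth.Agent.S16005

open Groth.Agent.CurveBundle Groth.Agent.CurveSlope Groth.Agent.CurveStable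

universe u

/-- The maximal slope subsheaf with a property. -/
theorem exists_max_slope_of (k : Type u) [Field k] {X : Scheme.{u}} [X.Over (Spec (CommRingCat.of k))]
    [IsIntegral X] [IsProper (X ↘ Spec (CommRingCat.of k))] [Smooth (X ↘ Spec (CommRingCat.of k))]
    (hdim : topologicalKrullDim X ≤ 1) {E : X.Modules} (hE : FlatMod.IsFinLocFree E)
    (P : ∀ (G : X.Modules), (G ⟶ E) → Prop)
    (h : ∃ (G : X.Modules) (j : G ⟶ E), Mono j ∧ FlatMod.IsFinLocFree G ∧ 0 < rk G ∧ P G j) :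
    ∃ (E₁ : X.Modules) (i₁ : E₁ ⟶ E), Mono i₁ ∧ 0 < rk E₁ ∧ FlatMod.IsFinLocFree E₁ ∧ P E₁ i₁ ∧
      ∀ (G : X.Modules) (j : G ⟶ E), Mono j → FlatMod.IsFinLocFree G → 0 < rk G → P G j →
        dg k G * (rk E₁ : ℤ) ≤ dg k E₁ * (rk G : ℤ) ∧
        (dg k G * (rk E₁ : ℤ) = dg k E₁ * (rk G : ℤ) → rk G ≤ rk E₁) := by
  classical
  let J : Finset ℕ := (Finset.Icc 1 (rk E)).filter fun a =>
    ∃ (F : X.Modules) (i : F ⟶ E), Mono i ∧ FlatMod.IsFinLocFree F ∧ rk F = a ∧ P F i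
  obtain ⟨G₀, j₀, hj₀, hG₀, hG₀0, hP₀⟩ := h
  haveI := hj₀
  have hJ : J.Nonempty := ⟨rk G₀, Finset.mem_filter.2 ⟨Finset.mem_Icc.2
    ⟨hG₀0, rk_le_of_mono k j₀ (coh_of_free k hE)⟩, G₀, j₀, hj₀, hG₀, rfl, hP₀⟩⟩
  have hmax : ∀ a, a ∈ J → ∃ d : ℤ, (∃ (F : X.Modules) (i : F ⟶ E), Mono i ∧ FlatMod.IsFinLocFree F ∧
      rk F = a ∧ P F i ∧ dg k F = d) ∧
      ∀ (F : X.Modules) (i : F ⟶ E), Mono i → FlatMod.IsFinLocFree F → rk F = a → P F i → dg k F ≤ d := by
    intro a ha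
    obtain ⟨F₀, i₀, hi₀, hF₀, hr₀, hp₀⟩ := (Finset.mem_filter.1 ha).2
    obtain ⟨d, hd1, hd2⟩ := Int.exists_greatest_of_bdd
      (P := fun d => ∃ (F : X.Modules) (i : F ⟶ E), Mono i ∧ FlatMod.IsFinLocFree F ∧ rk F = a ∧ P F i ∧ dg k F = d)
      ⟨(Module.finrank k (Coh.HH X E 0) : ℤ) - (a : ℤ) * Curv2.euler k X (Coh.structureModule X),
        fun d ⟨F, i, hi, hF, hr, _, hd⟩ => by
          haveI := hi
          rw [← hd, ← hr]
          exact dg_le_h0 k hdim i (coh_of_free k hF) (coh_of_free k hE)⟩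
      ⟨_, F₀, i₀, hi₀, hF₀, hr₀, hp₀, rfl⟩
    exact ⟨d, hd1, fun F i hi hF hr hp => hd2 _ ⟨F, i, hi, hF, hr, hp, rfl⟩⟩
  choose! d hd hd' using hmax
  obtain ⟨a₁, ha₁, hbest⟩ := J.exists_max_image (fun a => toLex ((d a : ℚ) / (a : ℚ), a)) hJ
  obtain ⟨E₁, i₁, hi₁, hE₁, hrk₁, hP₁, hdg₁⟩ := hd a₁ ha₁
  have hpos : 0 < a₁ := (Finset.mem_Icc.1 (Finset.mem_filter.1 ha₁).1).1
  refine ⟨E₁, i₁, hi₁, hrk₁ ▸ hpos, hE₁, hP₁, fun G j hj hG hG0 hPG => ?_⟩
  haveI := hj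
  have haJ : rk G ∈ J := Finset.mem_filter.2 ⟨Finset.mem_Icc.2 ⟨hG0,
    rk_le_of_mono k j (coh_of_free k hE)⟩, G, j, hj, hG, rfl, hPG⟩
  have hle := mul_le_mul_of_nonneg_right (hd' _ haJ G j hj hG rfl hPG) (Int.natCast_nonneg a₁)
  rw [hrk₁, hdg₁]
  have haQ : (0 : ℚ) < rk G := by exact_mod_cast hG0
  have h1Q : (0 : ℚ) < a₁ := by exact_mod_cast hpos
  rcases Prod.Lex.toLex_le_toLex.1 (hbest _ haJ) with h | ⟨h, h'⟩
  · rw [div_lt_div_iff₀ haQ h1Q] at h
    have h2 : d (rk G) * (a₁ : ℤ) < d a₁ * (rk G : ℤ) := by exact_mod_cast h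
    exact ⟨by linarith, fun he => absurd he (by intro he; linarith)⟩
  · rw [div_eq_div_iff haQ.ne' h1Q.ne'] at h
    have h2 : d (rk G) * (a₁ : ℤ) = d a₁ * (rk G : ℤ) := by exact_mod_cast h
    exact ⟨by linarith, fun _ => h'⟩

/-- Let X be a smooth proper integral curve over the complex numbers and L an invertible O_X-module; an
L-valued pair is a finite locally free O_X-module E of rank r ≥ 1 with a map φ : E → E ⊗ L; a
submodule j : G → E (a monomorphism) is φ-invariant when some χ : G → G ⊗ L followed by j ⊗ L equals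
j followed by φ; the pair is semistable when deg G · r ≤ deg E · n for every φ-invariant finite
locally free submodule G of rank n ≥ 1, degrees being χ − rank · χ(O_X). Let (E, φ) be a pair and ψ
: E → E an endomorphism commuting with φ (ψ followed by φ equals φ followed by ψ ⊗ L); a submodule
is ψ-invariant when ψ restricts to an endomorphism of it. Then (E, φ, ψ) is semistable, meaning deg
G · r ≤ deg E · n for every finite locally free submodule G of rank n ≥ 1 that is both φ-invariant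
and ψ-invariant, if and only if the pair (E, φ) is semistable. (The published statement takes L to
be the canonical sheaf; the row allows any invertible L.) -/
theorem result
    (X : Scheme.{0}) [X.Over (Spec (CommRingCat.of ℂ))] [IsIntegral X]
    [IsProper (X ↘ Spec (CommRingCat.of ℂ))] [Smooth (X ↘ Spec (CommRingCat.of ℂ))]
    (hdim : topologicalKrullDim X = 1)
    (L : X.Modules) (hL : PicF.IsInvertible L)
    (r : ℕ) (hr : 0 < r) (E : X.Modules) (hE : FlatMod.IsFinLocFreeOfRank r E)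
    (φ : E ⟶ CohB1.tensorMod E L) (ψ : E ⟶ E)
    (hcomm : ψ ≫ φ = φ ≫ (CohB1.sheafifyMod X).map (MonoidalCategoryStruct.whiskerRight (C := CohB1.PMod X) ψ.val (CohB1.toPMod L))) :
    (∀ (G : X.Modules) (n : ℕ) (j : G ⟶ E) (χ : G ⟶ CohB1.tensorMod G L) (ψ' : G ⟶ G), Mono j → 0 < n →
      FlatMod.IsFinLocFreeOfRank n G →
      χ ≫ (CohB1.sheafifyMod X).map (MonoidalCategoryStruct.whiskerRight (C := CohB1.PMod X) j.val (CohB1.toPMod L)) = j ≫ φ → ψ' ≫ j = j ≫ ψ →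
      Curv2.deg ℂ X G n * (r : ℤ) ≤ Curv2.deg ℂ X E r * (n : ℤ)) ↔
    (∀ (G : X.Modules) (n : ℕ) (j : G ⟶ E) (χ : G ⟶ CohB1.tensorMod G L), Mono j → 0 < n →
      FlatMod.IsFinLocFreeOfRank n G →
      χ ≫ (CohB1.sheafifyMod X).map (MonoidalCategoryStruct.whiskerRight (C := CohB1.PMod X) j.val (CohB1.toPMod L)) = j ≫ φ →
      Curv2.deg ℂ X G n * (r : ℤ) ≤ Curv2.deg ℂ X E r * (n : ℤ)) := by
  haveI := Groth.Agent.CurveCohLib.isNoetherian_of_proper (k := ℂ) (X := X)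
  refine ⟨fun h G n j χ hj hn hG hc => ?_, fun h G n j χ ψ' hj hn hG hc hc' => h G n j χ hj hn hG hc⟩
  have hEf := isFinLocFree_of_rank hE
  have hEc := coh_of_free ℂ hEf
  have hLf := isFinLocFree_of_rank (Groth.Agent.InvEnd.isFinLocFreeOfRank_one hL)
  haveI := hj
  let Inv : ∀ (G : X.Modules), (G ⟶ E) → Prop := fun G j =>
    ∃ χ : G ⟶ (DCoh.tensorBi.obj G).obj L, χ ≫ Groth.Agent.CurveHiggs.twist L j = j ≫ φ
  obtain ⟨A, i, hi, hA0, hA, ⟨χA, hχA⟩, hmax⟩ := exists_max_slope_of ℂ hdim.le hEf Inv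
    ⟨G, j, hj, isFinLocFree_of_rank hG, by rw [rk_eq hG]; exact hn, χ, hc⟩
  haveI := hi
  have ha : (0 : ℤ) < rk A := by exact_mod_cast hA0
  have hAc := coh_of_free ℂ hA
  have hQc : Coh.IsCoh (cokernel i) := Groth.Agent.QCoh.isCoh_cokernel hAc.1 hEc i
  have hS := shortExact_cokernel_of_mono i
  let φQ : cokernel i ⟶ (DCoh.tensorBi.obj (cokernel i)).obj L :=
    cokernel.desc i (φ ≫ Groth.Agent.CurveHiggs.twist L (cokernel.π i)) (by
      rw [← Category.assoc, ← hχA, Category.assoc, ← Groth.Agent.CurveHiggs.twist_comp, cokernel.condition,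
        Groth.Agent.CurveHiggs.twist_zero, comp_zero])
  have hπφ : cokernel.π i ≫ φQ = φ ≫ Groth.Agent.CurveHiggs.twist L (cokernel.π i) := cokernel.π_desc _ _ _
  have hcomm' : ψ ≫ φ = φ ≫ Groth.Agent.CurveHiggs.twist L ψ := hcomm
  let f : A ⟶ cokernel i := i ≫ ψ ≫ cokernel.π i
  have hf : f ≫ φQ = χA ≫ Groth.Agent.CurveHiggs.twist L f := by
    simp only [f, Category.assoc, Groth.Agent.CurveHiggs.twist_comp, hπφ]
    rw [← Category.assoc ψ, hcomm', Category.assoc, ← Category.assoc χA, hχA, Category.assoc]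
  obtain ⟨J, π, l, hl, hfac, hKc, hJc, hπ, w, hSJ⟩ := exists_factor hAc hQc f
  haveI := hl
  haveI := hπ
  obtain ⟨⟨χK, hχK⟩, χJ, hχJ⟩ := Groth.Agent.CurveHiggs.exists_invariant hLf χA φQ f hf π l hfac
  -- the preimage of the image
  let φC : cokernel l ⟶ (DCoh.tensorBi.obj (cokernel l)).obj L :=
    cokernel.desc l (φQ ≫ Groth.Agent.CurveHiggs.twist L (cokernel.π l)) (by
      rw [← Category.assoc, ← hχJ, Category.assoc, ← Groth.Agent.CurveHiggs.twist_comp, cokernel.condition,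
        Groth.Agent.CurveHiggs.twist_zero, comp_zero])
  let p := cokernel.π i ≫ cokernel.π l
  have hp : p ≫ φC = φ ≫ Groth.Agent.CurveHiggs.twist L p := by
    simp only [p, φC, Category.assoc, cokernel.π_desc, Groth.Agent.CurveHiggs.twist_comp]
    rw [← Category.assoc, hπφ, Category.assoc]
  haveI : Epi p := epi_comp _ _
  obtain ⟨⟨χP, hχP⟩, -⟩ := Groth.Agent.CurveHiggs.exists_invariant hLf φ φC p hp p (𝟙 _) (Category.comp_id _)
  have hCc : Coh.IsCoh (cokernel l) := Groth.Agent.QCoh.isCoh_cokernel hJc.1 hQc l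
  have hPc : Coh.IsCoh (kernel p) := Groth.Agent.QCoh.isCoh_kernel hEc hCc p
  have hP := isFinLocFree_of_mono ℂ hdim.le hPc (kernel.ι p) hEf
  have hKf := isFinLocFree_of_mono ℂ hdim.le hKc (kernel.ι f) hA
  have r1 := rk_add_coh ℂ _ _ _ (shortExact_kernel_of_epi p) hEc
  have r2 := rk_add_coh ℂ _ _ _ hS hEc
  have r3 := rk_add_coh ℂ _ _ _ (shortExact_cokernel_of_mono l) hQc
  have r4 := rk_add_coh ℂ _ _ w hSJ hAc
  have d1 := dg_add ℂ _ _ _ (shortExact_kernel_of_epi p) hPc hEc hCc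
  have d2 := dg_add ℂ _ _ _ hS hAc hEc hQc
  have d3 := dg_add ℂ _ _ _ (shortExact_cokernel_of_mono l) hJc hQc hCc
  have d4 := dg_add ℂ _ _ w hSJ hKc hAc hJc
  have hK0 : dg ℂ (kernel f) * (rk A : ℤ) ≤ dg ℂ A * (rk (kernel f) : ℤ) := by
    rcases Nat.eq_zero_or_pos (rk (kernel f)) with h0 | h0
    · rw [dg_eq_zero_of_isZero ℂ (isZero_of_rk_zero hKf h0), h0]
      simp
    · refine (hmax _ (kernel.ι f ≫ i) inferInstance hKf h0 ⟨χK, ?_⟩).1
      rw [Groth.Agent.CurveHiggs.twist_comp, ← Category.assoc, hχK, Category.assoc, hχA, Category.assoc]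
  have hP0 := hmax _ (kernel.ι p) inferInstance hP (by omega) ⟨χP, hχP⟩
  have hrP : (rk (kernel p) : ℤ) = (rk A : ℤ) + rk J := by omega
  have hdP : dg ℂ (kernel p) = dg ℂ A + dg ℂ J := by omega
  have hrA : (rk A : ℤ) = (rk (kernel f) : ℤ) + rk J := by omega
  rw [hdP, hrP] at hP0
  have heq : (dg ℂ A + dg ℂ J) * (rk A : ℤ) = dg ℂ A * ((rk A : ℤ) + rk J) :=
    le_antisymm hP0.1 (by linear_combination hK0 + (rk A : ℤ) * d4 - dg ℂ A * hrA)
  have hJ0 : rk J = 0 := by have := hP0.2 heq; omega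
  rw [hJ0, Nat.cast_zero, add_zero, add_mul] at heq
  have hdJ : dg ℂ J = 0 := (mul_eq_zero.1 (by linarith : dg ℂ J * (rk A : ℤ) = 0)).resolve_right ha.ne'
  have hJz : IsZero J := by
    obtain ⟨-, h4⟩ := Groth.Agent.Euler.euler_nonneg_of_good ℂ hJc (Groth.Agent.Euler.good_of_dim_le_zero ℂ hJc
      (Groth.Agent.CurveDeg.topologicalKrullDim_le_zero_of_ne_univ hdim.le
        (Groth.Agent.QCoh.isClosed_support_of_isFT hJc.1 hJc.2) (support_ne_univ_of_rk hJc hJ0)))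
    refine h4 ?_
    unfold dg at hdJ
    rw [hJ0, Nat.cast_zero, zero_mul, sub_zero] at hdJ
    exact hdJ
  have hf0 : (i ≫ ψ) ≫ cokernel.π i = 0 := by
    rw [Category.assoc]
    exact hfac.symm.trans (by rw [hJz.eq_of_tgt π 0, zero_comp])
  let ψA : A ⟶ A := hS.exact.lift (i ≫ ψ) hf0
  have hψA : ψA ≫ i = i ≫ ψ := hS.exact.lift_f _ _
  have hAE := h A (rk A) i χA ψA hi hA0 (isFinLocFreeOfRank_rk hA) hχA hψA
  have hGA := (hmax G j hj (isFinLocFree_of_rank hG) (by rw [rk_eq hG]; exact hn) ⟨χ, hc⟩).1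
  rw [rk_eq hG] at hGA
  rw [deg_eq_dg ℂ (isFinLocFreeOfRank_rk hA), deg_eq_dg ℂ hE] at hAE
  rw [deg_eq_dg ℂ hG, deg_eq_dg ℂ hE]
  refine le_of_mul_le_mul_right ?_ ha
  have h1 := mul_le_mul_of_nonneg_right hGA (Int.natCast_nonneg r)
  have h2 := mul_le_mul_of_nonneg_right hAE (Int.natCast_nonneg n)
  linarith

end Groth.Agent.S16005
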