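import Groth.Statements.S16006
import Groth.Agent.S16004
import Groth.Agent.Lib.CurveHom
import Groth.Agent.Lib.CurveCanonical

set_option autoImplicit false
set_option linter.style.haveILetI false
set_option linter.unusedVariables false
set_option backward.isDefEq.respectTransparency false
set_option backward.isDefEq.respectTransparency.types false
open CategoryTheory AlgebraicGeometry CategoryTheory.Limits
open VBCurve

namespace Groth.Agent.S16006

open Groth.Agent.CurveBundle Groth.Agent.CurveSlope Groth.Agent.CurveStable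

/-- Let X be a smooth proper integral curve of genus 1 over the complex numbers (genus = dim H¹(O_X))
and L an invertible O_X-module of degree 0 such that L ⊗ L is not isomorphic to O_X; an L-valued
pair is a finite locally free O_X-module E of rank r ≥ 1 with a map φ : E → E ⊗ L; a submodule j : G
→ E (a monomorphism) is φ-invariant when some χ : G → G ⊗ L followed by j ⊗ L equals j followed by
φ; the pair is semistable when deg G · r ≤ deg E · n for every φ-invariant finite locally free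
submodule G of rank n ≥ 1, degrees being χ − rank · χ(O_X), and it is stable when deg G · r < deg E
· n for every φ-invariant finite locally free submodule G of rank n with 1 ≤ n < r. If (E, φ) is a
stable pair of rank 2, then E is slope-stable as a module of rank 2: deg G · 2 < deg E · n for every
finite locally free submodule G of rank n with 1 ≤ n < 2, φ-invariant or not. (The published
statement assumes only that L is not isomorphic to O_X. For L of order two and E = O_X ⊕ L, the
isomorphism φ : E → E ⊗ L = (O_X ⊗ L) ⊕ (L ⊗ L) that maps the summand O_X of E onto the summand L ⊗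
L ≅ O_X and the summand L onto O_X ⊗ L ≅ L leaves no rank-one submodule of degree 0 invariant, so
(E, φ) is a stable pair while E is not stable; the published argument derives L ⊗ L ≅ O_X in the
split case, so the row assumes L ⊗ L ≄ O_X.) -/
theorem result
    (X : Scheme.{0}) [X.Over (Spec (CommRingCat.of ℂ))] [IsIntegral X]
    [IsProper (X ↘ Spec (CommRingCat.of ℂ))] [Smooth (X ↘ Spec (CommRingCat.of ℂ))]
    (hdim : topologicalKrullDim X = 1)
    (hg : Curv2.genus ℂ X = 1)
    (L : X.Modules) (hL : PicF.IsInvertible L) (hL0 : Curv2.deg ℂ X L 1 = 0)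
    (hL2 : ¬ Nonempty (CohB1.tensorMod L L ≅ Coh.structureModule X))
    (E : X.Modules) (hE : FlatMod.IsFinLocFreeOfRank 2 E)
    (φ : E ⟶ CohB1.tensorMod E L)
    (hst : (∀ (G : X.Modules) (n : ℕ) (j : G ⟶ E) (χ : G ⟶ CohB1.tensorMod G L), Mono j → 0 < n → n < 2 →
      FlatMod.IsFinLocFreeOfRank n G →
      χ ≫ (CohB1.sheafifyMod X).map (MonoidalCategoryStruct.whiskerRight (C := CohB1.PMod X) j.val (CohB1.toPMod L)) = j ≫ φ →
      Curv2.deg ℂ X G n * (2 : ℤ) < Curv2.deg ℂ X E 2 * (n : ℤ))) :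
    ∀ (G : X.Modules) (n : ℕ) (j : G ⟶ E), Mono j → 0 < n → n < 2 → FlatMod.IsFinLocFreeOfRank n G →
      Curv2.deg ℂ X G n * (2 : ℤ) < Curv2.deg ℂ X E 2 * (n : ℤ) := by
  haveI := Groth.Agent.CurveCohLib.isNoetherian_of_proper (k := ℂ) (X := X)
  have hEf := isFinLocFree_of_rank hE
  have hEc := coh_of_free ℂ hEf
  have hLf := isFinLocFree_of_rank (Groth.Agent.InvEnd.isFinLocFreeOfRank_one hL)
  have hss := Groth.Agent.S16004.result X hdim L hL hL0 2 two_pos E hE φ (by
    intro G n j χ hj hn hG hc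
    haveI := hj
    have hle := rk_le_of_mono ℂ j hEc
    rw [rk_eq hG, rk_eq hE] at hle
    rcases hle.lt_or_eq with h | h
    · exact_mod_cast (hst G n j χ hj hn h hG hc).le
    · subst h
      refine mul_le_mul_of_nonneg_right ?_ (by norm_num)
      rw [deg_eq_dg ℂ hG, deg_eq_dg ℂ hE]
      by_cases hiso : IsIso j
      · exact (dg_congr ℂ (asIso j)).le
      · exact (dg_lt_of_rk_eq ℂ hdim.le j (coh_of_free ℂ (isFinLocFree_of_rank hG)) hEc
          (by rw [rk_eq hG, rk_eq hE]) hiso).le)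
  intro G n j hj hn hn2 hG
  obtain rfl : n = 1 := by omega
  haveI := hj
  have hle := hss G 1 j hj one_pos hG
  refine lt_of_le_of_ne hle fun heq => ?_
  have key : ∀ (H : X.Modules) (i : H ⟶ E) (C : X.Modules) (p : E ⟶ C) (w : i ≫ p = 0),
      (ShortComplex.mk i p w).ShortExact → Mono i → FlatMod.IsFinLocFreeOfRank 1 H →
      FlatMod.IsFinLocFreeOfRank 1 C → Curv2.deg ℂ X H 1 = Curv2.deg ℂ X C 1 →
      Curv2.deg ℂ X H 1 * 2 = Curv2.deg ℂ X E 2 →
      Nonempty (H ≅ (DCoh.tensorBi.obj C).obj L) := by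
    intro H i C p w hS hi hH hC hdeg hEq
    by_cases h0 : (i ≫ φ) ≫ Groth.Agent.CurveHiggs.twist L p = 0
    · obtain ⟨χ, hχ⟩ := Groth.Agent.CurveHiggs.exists_lift hLf i p w hS (i ≫ φ) h0
      have := hst H 1 i χ hi one_pos one_lt_two hH hχ
      push_cast at this
      omega
    · have hC' := Groth.Agent.CurveDuality.isInvertible_of_rank_one hC
      have hT : PicF.IsInvertible ((DCoh.tensorBi.obj C).obj L) :=
        Groth.Agent.InvX.isInvertible_tensorMod hC' hL
      haveI := (Groth.Agent.CurveDeg.deg_le_and_isIso ℂ hdim.le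
        (Groth.Agent.CurveDuality.isInvertible_of_rank_one hH) hT _ h0).2
        (by rw [Groth.Agent.CurveRR.deg_tensor ℂ hdim hC' hL, hL0, add_zero, hdeg])
      exact ⟨asIso ((i ≫ φ) ≫ Groth.Agent.CurveHiggs.twist L p)⟩
  have hGf := isFinLocFree_of_rank hG
  have hGc := coh_of_free ℂ hGf
  have hQc : Coh.IsCoh (cokernel j) := Groth.Agent.QCoh.isCoh_cokernel hGc.1 hEc j
  have hS := shortExact_cokernel_of_mono j
  have hQ := isFinLocFree_of_max ℂ hdim.le j (cokernel.π j) _ hS hGc hEf hQc fun F f hf hF hrF => by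
    rw [rk_eq hG] at hrF
    have := hss F 1 f hf one_pos (hrF ▸ isFinLocFreeOfRank_rk hF)
    rw [← deg_eq_dg ℂ hG, ← deg_eq_dg ℂ (hrF ▸ isFinLocFreeOfRank_rk hF : FlatMod.IsFinLocFreeOfRank 1 F)]
    push_cast at this heq ⊢
    omega
  have h1 := rk_add_coh ℂ _ _ _ hS hEc
  have h2 := dg_add ℂ _ _ _ hS hGc hEc hQc
  rw [rk_eq hE, rk_eq hG] at h1
  have hQ1 : FlatMod.IsFinLocFreeOfRank 1 (cokernel j) :=
    (show rk (cokernel j) = 1 by omega) ▸ isFinLocFreeOfRank_rk hQ
  rw [← deg_eq_dg ℂ hE, ← deg_eq_dg ℂ hG, ← deg_eq_dg ℂ hQ1] at h2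
  push_cast at heq
  have hd : Curv2.deg ℂ X G 1 = Curv2.deg ℂ X (cokernel j) 1 := by omega
  obtain ⟨e₁⟩ := key G j _ (cokernel.π j) _ hS hj hG hQ1 hd (by omega)
  have hGi := Groth.Agent.CurveDuality.isInvertible_of_rank_one hG
  have hQi := Groth.Agent.CurveDuality.isInvertible_of_rank_one hQ1
  have cancel : ∀ {A M : X.Modules}, PicF.IsInvertible A → (A ≅ (DCoh.tensorBi.obj A).obj M) →
      Nonempty (M ≅ Coh.structureModule X) := fun {A M} hA e => by
    obtain ⟨D, hD, -, ⟨e₀⟩⟩ := Groth.Agent.CurveDuality.exists_inverse_deg ℂ hdim hA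
    have eDA : (DCoh.tensorBi.obj D).obj A ≅ Coh.structureModule X := Groth.Agent.CurveTensor.commIso D A ≪≫ e₀
    exact ⟨((Groth.Agent.CurveRR.cancelIso eDA).app M).symm ≪≫ (DCoh.tensorBi.obj D).mapIso e.symm ≪≫ eDA⟩
  have hz : ∀ f : G ⟶ cokernel j, f = 0 := fun f => by
    by_contra hf
    haveI := (Groth.Agent.CurveDeg.deg_le_and_isIso ℂ hdim.le hGi hQi f hf).2 hd
    obtain ⟨eL⟩ := cancel hQi ((asIso f).symm ≪≫ e₁)
    exact hL2 ⟨show (DCoh.tensorBi.obj L).obj L ≅ _ from
      (DCoh.tensorBi.mapIso eL).app L ≪≫ Groth.Agent.CurveTensor.structureTensorIso L ≪≫ eL⟩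
  obtain ⟨ω, μ, hω⟩ := Groth.Agent.CurveDuality.exists_isDualizing ℂ (X := X) hdim
  obtain ⟨e⟩ := Groth.Agent.CurveDuality.nonempty_iso_of_genus_one ℂ
    (Groth.Agent.CurveCohLib.finrank_h0_eq_one ℂ X) hω hdim hg
  haveI : IsSplitEpi (cokernel.π j) := Groth.Agent.CurveHom.isSplitEpi_of_hom_eq_zero ℂ hω e hdim hS hGf hQ hz
  have hsp := ShortComplex.Splitting.ofExactOfSection _ hS.exact (section_ (cokernel.π j))
    (IsSplitEpi.id (cokernel.π j)) inferInstance
  have hS' : (ShortComplex.mk hsp.s hsp.r hsp.s_r).ShortExact :=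
    ShortComplex.Splitting.shortExact
      { r := cokernel.π j
        s := j
        f_r := hsp.s_g
        s_g := hsp.f_r
        id := (add_comm _ _).trans hsp.id }
  obtain ⟨e₂⟩ := key (cokernel j) hsp.s G hsp.r hsp.s_r hS' hS'.mono_f hQ1 hG hd.symm (by omega)
  obtain ⟨eLL⟩ := cancel hGi (show G ≅ (DCoh.tensorBi.obj G).obj ((DCoh.tensorBi.obj L).obj L) from
    e₁ ≪≫ Groth.Agent.CurveTensor.commIso (cokernel j) L ≪≫ (DCoh.tensorBi.obj L).mapIso
      (e₂ ≪≫ Groth.Agent.CurveTensor.commIso G L) ≪≫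
    (Groth.Agent.CurveRR.tensorCompIso L L).app G ≪≫
    Groth.Agent.CurveTensor.commIso ((DCoh.tensorBi.obj L).obj L) G)
  exact hL2 ⟨eLL⟩

end Groth.Agent.S16006
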