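import Groth.Statements.S16017
import Mathlib

-- import your own Groth.Agent.* helpers here

set_option autoImplicit false
universe u
open W4c3ghconstell

namespace Groth.Agent.S16017

/-- Let ι index the irreducible representations, θ : ι → ℚ a weight negative at only finitely many
indices (the finite set D₋), h h' : ι → ℕ with h' ≤ h pointwise (the isotypic dimensions of an
object and of a sub-object) and Σ_i θ_i h_i summable. For a finite set D of indices put S_D = Σ_{i ∉
D} θ_i h_i, d = #(D ∖ D₋), and θ̃_D = Σ_{i ∈ D} θ_i h'_i + (S_D / d) · Σ_{i ∈ D ∖ D₋} h'_i / h_i,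
the modified weight attached to the parameters chosen for D (for D ⊇ D₋ the first sum is the
negative part plus the part over D ∖ D₋). Then θ̃_D tends to Σ_i θ_i h'_i as D grows through the
finite subsets of ι. (Here D runs over all finite sets of indices and a quotient by zero is zero;
the source lets D run over the finite subsets of the locus θ ≠ 0 containing D₋, and the same tail
estimate gives both.) -/
theorem result {ι : Type u} [DecidableEq ι] (θ : ι → ℚ) (h h' : ι → ℕ)
    (hle : ∀ i, h' i ≤ h i) (hfin : {i | θ i < 0}.Finite)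
    (hsum : Summable (fun i => (θ i : ℝ) * (h i : ℝ))) :
    Filter.Tendsto
      (fun D : Finset ι =>
        (∑ i ∈ D, (θ i : ℝ) * (h' i : ℝ)) +
          ((∑' i, if i ∈ D then (0 : ℝ) else (θ i : ℝ) * (h i : ℝ)) / ((D \ hfin.toFinset).card : ℝ)) *
            ∑ i ∈ D \ hfin.toFinset, ((h' i : ℝ) / (h i : ℝ)))
      Filter.atTop (nhds (∑' i, (θ i : ℝ) * (h' i : ℝ))) := by
  classical
  set f : ι → ℝ := fun i => (θ i : ℝ) * (h i : ℝ) with hf
  have hr : ∀ i, (h' i : ℝ) / (h i : ℝ) ≤ 1 := fun i =>
    div_le_one_of_le₀ (by exact_mod_cast hle i) (Nat.cast_nonneg _)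
  have hs' : Summable (fun i => (θ i : ℝ) * (h' i : ℝ)) := by
    refine Summable.of_norm_bounded hsum.abs fun i => ?_
    rw [Real.norm_eq_abs, abs_mul, abs_mul, Nat.abs_cast, Nat.abs_cast]
    exact mul_le_mul_of_nonneg_left (by exact_mod_cast hle i) (abs_nonneg _)
  have hS : ∀ D : Finset ι, (∑' i, if i ∈ D then (0 : ℝ) else f i) = ∑' i, f i - ∑ i ∈ D, f i := by
    intro D
    have h1 : HasSum (fun i => if i ∈ D then f i else 0) (∑ i ∈ D, f i) := by
      have := hasSum_sum_of_ne_finset_zero (f := fun i => if i ∈ D then f i else 0) (s := D)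
        (L := SummationFilter.unconditional ι) (by intro b hb; simp [hb])
      rwa [Finset.sum_congr rfl fun i hi => if_pos hi] at this
    refine HasSum.tsum_eq ?_
    refine (hsum.hasSum.sub h1).congr_fun fun i => ?_
    by_cases hi : i ∈ D <;> simp [hi, f]
  have h0 : Filter.Tendsto (fun D : Finset ι => ∑' i, f i - ∑ i ∈ D, f i)
      Filter.atTop (nhds 0) := by
    simpa using (tendsto_const_nhds (x := ∑' i, f i)).sub hsum.hasSum
  have h2 : Filter.Tendsto (fun D : Finset ι =>
      ((∑' i, if i ∈ D then (0 : ℝ) else f i) / ((D \ hfin.toFinset).card : ℝ)) *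
        ∑ i ∈ D \ hfin.toFinset, ((h' i : ℝ) / (h i : ℝ))) Filter.atTop (nhds 0) := by
    refine squeeze_zero_norm (fun D => ?_) ((tendsto_zero_iff_norm_tendsto_zero).mp h0)
    rw [hS, norm_mul, norm_div, Real.norm_natCast]
    rcases eq_or_lt_of_le (Nat.cast_nonneg (α := ℝ) (D \ hfin.toFinset).card) with hd | hd
    · rw [← hd, div_zero, zero_mul]
      exact norm_nonneg _
    rw [div_mul_eq_mul_div, div_le_iff₀ hd]
    refine mul_le_mul_of_nonneg_left ?_ (norm_nonneg _)
    refine (norm_sum_le _ _).trans ?_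
    calc ∑ i ∈ D \ hfin.toFinset, ‖(h' i : ℝ) / (h i : ℝ)‖
        ≤ ∑ i ∈ D \ hfin.toFinset, (1 : ℝ) := Finset.sum_le_sum fun i _ => by
          rw [Real.norm_eq_abs, abs_of_nonneg (div_nonneg (Nat.cast_nonneg _) (Nat.cast_nonneg _))]
          exact hr i
      _ = _ := by simp
  have := Filter.Tendsto.add (f := fun D : Finset ι => ∑ i ∈ D, (θ i : ℝ) * (h' i : ℝ)) hs'.hasSum h2
  rw [add_zero] at this
  exact this


end Groth.Agent.S16017
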