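import Groth.Statements.S16033
import Groth.Agent.Deform.AntiAffineParts
import Groth.Agent.GrpSchLib.AntiAffineSmoothAny
import Groth.Agent.Deform.FieldHom.MonoAffine
import Groth.Agent.Deform.AffineKernel
import Groth.Agent.S18067
import Groth.Agent.Deform.Chev.SemiAb

set_option autoImplicit false
universe u
open CategoryTheory CategoryTheory.Limits AlgebraicGeometry MonoidalCategory MonObj
open GrpSch

namespace Groth.Agent.S16033
attribute [local instance] CategoryTheory.Hom.monoid CategoryTheory.Hom.group CategoryTheory.Hom.commGroup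
set_option linter.style.haveILetI false
set_option maxHeartbeats 1000000
open Groth.Agent.Deform

/-- For a commutative group scheme G of finite type over a field and an integer n > 0, the n-th power
homomorphism n_G : G ⟶ G is an affine morphism. -/
theorem result
    (k : Type u) [Field k] (G : Over (Spec (CommRingCat.of k))) [GrpObj G] [IsCommMonObj G]
    [LocallyOfFiniteType G.hom] [QuasiCompact G.hom] (n : ℕ) (hn : 0 < n) :
    IsAffineHom ((𝟙 G ^ n : G ⟶ G).left) := by
  classical
  haveI : IsSeparated G.hom := GrpSchLib.AntiAffine.isSeparated_grp G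
  let f : G ⟶ G := 𝟙 G ^ n
  haveI : IsMonHom f := Chev.SemiAb.isMonHom_pow (𝟙 G) n
  haveI : QuasiCompact f.left := by
    haveI : QuasiCompact (f.left ≫ G.hom) := by rw [Over.w f]; infer_instance
    exact QuasiCompact.of_comp f.left G.hom
  obtain ⟨N, gN, i, hi, hic, hin, hk⟩ := GrpSchLib.exists_kernel f
  haveI := hi; haveI := hic
  haveI : LocallyOfFiniteType N.hom := by rw [← Over.w i]; infer_instance
  haveI : QuasiCompact N.hom := by rw [← Over.w i]; infer_instance
  haveI : Mono i := (Over.forget _).mono_of_mono_map (inferInstanceAs (Mono i.left))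
  obtain ⟨K, gK, κ, hκ, hκc, hKl, hKq, hK, I, gI, p, hp, hI, hIl, hpf, hps, hkp⟩ := AntiAffineParts.exists_ant N
  haveI := hκ; haveI := hκc; haveI := hKl; haveI := hKq; haveI := hp; haveI := hI; haveI := hIl
  haveI : Mono κ := (Over.forget _).mono_of_mono_map (inferInstanceAs (Mono κ.left))
  haveI : Smooth K.hom := GrpSchLib.AntiAffineSmooth.smooth hK
  haveI : IsSeparated K.hom := GrpSchLib.AntiAffine.isSeparated_grp K
  have hpow : (𝟙 K : K ⟶ K) ^ n = 1 := by
    refine (cancel_mono (κ ≫ i)).1 ?_
    rw [MonObj.one_comp, MonObj.pow_comp, Category.id_comp]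
    calc (κ ≫ i) ^ n = (κ ≫ i) ≫ f := by
          show _ = (κ ≫ i) ≫ (𝟙 G ^ n); rw [MonObj.comp_pow, Category.comp_id]
      _ = 1 := by rw [Category.assoc, show i ≫ f = 1 from hk.w, MonObj.comp_one]
  have hfin := (S18067.result k K ((GrpSchLib.AntiAffine.bijective_appTop_iff K.hom).mpr hK) (n : ℤ) (by omega)).2
  rw [zpow_natCast, hpow] at hfin
  haveI : IsAffineHom (K.hom ≫ η[K].left) := by
    haveI := hfin
    have e : ((1 : K ⟶ K)).left = K.hom ≫ η[K].left := rfl
    rw [← e]; infer_instance
  haveI : IsClosedImmersion η[K].left := by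
    haveI : IsClosedImmersion (η[K].left ≫ K.hom) := by
      rw [Over.w η[K]]; exact inferInstanceAs (IsClosedImmersion (𝟙 _))
    exact IsClosedImmersion.of_comp η[K].left K.hom
  haveI : IsAffineHom K.hom := IsAffineHom.of_comp K.hom η[K].left
  haveI : IsAffine K.left := isAffine_of_isAffineHom K.hom
  haveI : IsIso K.hom := AntiAffineParts.isIso_hom_of_isAffine hK
  haveI : Mono p := AntiAffineParts.mono_of_trivial p κ hkp
  haveI : QuasiCompact p.left := by
    haveI : QuasiCompact (p.left ≫ I.hom) := by rw [Over.w p]; infer_instance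
    haveI : IsAffineHom I.hom := isAffineHom_of_isAffine _
    exact QuasiCompact.of_comp p.left I.hom
  haveI := FieldHom.isClosedImmersion_of_mono p
  haveI : IsAffine N.left := isAffine_of_isAffineHom p.left
  exact AffineKernel.isAffineHom_of_ker f i hin hk

end Groth.Agent.S16033
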