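import Groth.Statements.S16046
-- import your own Groth.Agent.* helpers here
import Mathlib

set_option autoImplicit false
universe u
open TensorProduct
open ValRing

namespace Groth.Agent.S16046

open scoped TensorProduct

/-- Elements of `K'` differ from elements of `K` by elements of `A'`, by density. -/
lemma exists_approx {A K A' K' : Type u} [CommRing A] [IsDomain A] [Field K] [Algebra A K] [IsFractionRing A K]
    [CommRing A'] [IsDomain A'] [ValuationRing A'] [Field K'] [Algebra A' K'] [IsFractionRing A' K']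
    [Algebra A A'] [Algebra K K'] [Algebra A K'] [IsScalarTower A A' K'] [IsScalarTower A K K']
    (hdense : ∀ a' b' : A', b' ≠ 0 → ∃ a : A, b' ∣ a' - algebraMap A A' a) (c : K') :
    ∃ (k : K) (a' : A'), c - algebraMap K K' k = algebraMap A' K' a' := by
  obtain ⟨a', b', hb', rfl⟩ := IsFractionRing.div_surjective A' c
  have hb0 : b' ≠ 0 := nonZeroDivisors.ne_zero hb'
  by_cases hu : IsUnit b'
  · obtain ⟨w, rfl⟩ := hu
    exact ⟨0, a' * ↑w⁻¹, by rw [map_zero, sub_zero, map_mul, map_units_inv, div_eq_mul_inv]⟩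
  obtain ⟨a, s, hs⟩ := hdense a' (b' * b') (mul_ne_zero hb0 hb0)
  obtain ⟨b, t, ht⟩ := hdense b' (b' * b') (mul_ne_zero hb0 hb0)
  have he : IsUnit (1 - b' * t) := IsLocalRing.isUnit_one_sub_self_of_mem_nonunits _
    (Ideal.mul_mem_right t (IsLocalRing.maximalIdeal A') hu)
  obtain ⟨e, he⟩ := he
  refine ⟨algebraMap A K a / algebraMap A K b, (-a' * t + b' * s) * ↑e⁻¹, ?_⟩
  have hb : algebraMap A A' b = b' * e := by rw [he]; linear_combination -ht
  have ha : algebraMap A A' a = a' - b' * b' * s := by linear_combination -hs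
  rw [map_div₀, ← IsScalarTower.algebraMap_apply A K K', ← IsScalarTower.algebraMap_apply A K K',
    IsScalarTower.algebraMap_apply A A' K', IsScalarTower.algebraMap_apply A A' K' b, hb, ha]
  simp only [map_mul, map_sub, map_add, map_neg, map_units_inv]
  have he' : algebraMap A' K' e = 1 - algebraMap A' K' b' * algebraMap A' K' t := by rw [he]; simp
  have hb'0 : algebraMap A' K' b' ≠ 0 := (map_ne_zero_iff _ (IsFractionRing.injective A' K')).mpr hb0
  have he0 : algebraMap A' K' e ≠ 0 := (e.isUnit.map _).ne_zero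
  field_simp
  rw [he']
  ring

/-- An element of `K` integral over the dominating valuation ring lies in `A`. -/
lemma mem_range_of_isIntegral {A K A' K' : Type u} [CommRing A] [IsDomain A] [ValuationRing A] [Field K]
    [Algebra A K] [IsFractionRing A K] [CommRing A'] [IsDomain A'] [ValuationRing A'] [Field K'] [Algebra A' K']
    [IsFractionRing A' K'] [Algebra A A'] [IsLocalHom (algebraMap A A')] [Algebra K K'] [Algebra A K']
    [IsScalarTower A A' K'] [IsScalarTower A K K'] {k : K} (hk : IsIntegral A' (algebraMap K K' k)) :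
    k ∈ Set.range (algebraMap A K) := by
  obtain ⟨a', ha'⟩ := IsIntegrallyClosed.isIntegral_iff.mp hk
  rcases ValuationRing.isInteger_or_isInteger A k with ⟨a, ha⟩ | ⟨a, ha⟩
  · exact ⟨a, ha⟩
  · by_cases hk0 : k = 0
    · exact ⟨0, by rw [hk0, map_zero]⟩
    have h1 : a' * algebraMap A A' a = 1 := by
      apply IsFractionRing.injective A' K'
      rw [map_mul, map_one, ha', ← IsScalarTower.algebraMap_apply A A' K', IsScalarTower.algebraMap_apply A K K',
        ha, ← map_mul, mul_inv_cancel₀ hk0, map_one]
    obtain ⟨w, rfl⟩ := isUnit_of_map_unit (algebraMap A A') a (IsUnit.of_mul_eq_one_right _ h1)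
    refine ⟨↑w⁻¹, ?_⟩
    rw [map_units_inv, ha, inv_inv]

/-- A monic polynomial whose roots are integral and which splits has integral coefficients. -/
lemma isIntegral_coeff_of_roots {R Ω : Type u} [CommRing R] [Field Ω] [Algebra R Ω] {p : Polynomial Ω}
    (hm : p.Monic) (hs : p.Splits) (hr : ∀ r ∈ p.roots, IsIntegral R r) (i : ℕ) :
    IsIntegral R (p.coeff i) := by
  let S := (integralClosure R Ω).toSubring
  have h : p ∈ Polynomial.lifts S.subtype := by
    rw [hs.eq_prod_roots_of_monic hm]
    refine Submonoid.multiset_prod_mem _ _ fun q hq => ?_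
    obtain ⟨r, hrm, rfl⟩ := Multiset.mem_map.mp hq
    exact ⟨Polynomial.X - Polynomial.C ⟨r, hr r hrm⟩, by simp⟩
  obtain ⟨c, hc⟩ := (Polynomial.lifts_iff_coeff_lifts _).mp h i
  exact hc ▸ c.2

/-- Surjectivity assertion: let A ⊆ A' be valuation rings with fraction fields K ⊆ K', A' dominating A
and A dense in A' for the valuation topology, and L a finite extension of K; put L' = K' ⊗_K L. Then
every element of L' modulo its nilradical which is integral over A' is a finite sum Σ a'ᵢ·lᵢ with
a'ᵢ ∈ A' and lᵢ ∈ L integral over A. (The published statement also identifies the kernel of the map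
from the tensor product with the nilradical; that part is not stated here.) -/
theorem result
    (A K L A' K' : Type u) [CommRing A] [IsDomain A] [ValuationRing A] [Field K] [Algebra A K] [IsFractionRing A K]
    [Field L] [Algebra K L] [FiniteDimensional K L] [Algebra A L] [IsScalarTower A K L]
    [CommRing A'] [IsDomain A'] [ValuationRing A'] [Field K'] [Algebra A' K'] [IsFractionRing A' K']
    [Algebra A A'] [IsLocalHom (algebraMap A A')] (hinj : Function.Injective (algebraMap A A'))
    [Algebra K K'] [Algebra A K'] [IsScalarTower A A' K'] [IsScalarTower A K K']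
    (hdense : ∀ a' b' : A', b' ≠ 0 → ∃ a : A, b' ∣ a' - algebraMap A A' a)
    (x : (K' ⊗[K] L) ⧸ nilradical (K' ⊗[K] L))
    (hx : ((Ideal.Quotient.mk (nilradical (K' ⊗[K] L))).comp
            ((Algebra.TensorProduct.includeLeft : K' →ₐ[K] K' ⊗[K] L).toRingHom.comp (algebraMap A' K'))).IsIntegralElem x) :
    ∃ (n : ℕ) (a : Fin n → A') (l : Fin n → L), (∀ i, IsIntegral A (l i)) ∧
      x = Ideal.Quotient.mk (nilradical (K' ⊗[K] L)) (∑ i, algebraMap A' K' (a i) ⊗ₜ[K] l i) := by
  classical
  let T := K' ⊗[K] L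
  let mk := Ideal.Quotient.mk (nilradical T)
  let ι : A' →+* T ⧸ nilradical T :=
    mk.comp ((Algebra.TensorProduct.includeLeft : K' →ₐ[K] K' ⊗[K] L).toRingHom.comp (algebraMap A' K'))
  letI : Algebra A' (T ⧸ nilradical T) := ι.toAlgebra
  let b₀ := Module.finBasis K L
  choose m hm using fun i => IsIntegral.exists_multiple_integral_of_isLocalization (nonZeroDivisors A) (b₀ i)
    (IsIntegral.of_finite K (b₀ i))
  let l := fun i => m i • b₀ i
  have hψ : ∀ z : L, IsIntegral A z → IsIntegral A' (mk (1 ⊗ₜ[K] z)) := by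
    rintro z ⟨P, hP, hPz⟩
    refine ⟨P.map (algebraMap A A'), hP.map _, ?_⟩
    rw [Polynomial.eval₂_map]
    let ψ : L →+* T ⧸ nilradical T := mk.comp (Algebra.TensorProduct.includeRight : L →ₐ[K] K' ⊗[K] L).toRingHom
    have e : ψ.comp (algebraMap A L) = (algebraMap A' (T ⧸ nilradical T)).comp (algebraMap A A') := by
      ext a
      show mk (1 ⊗ₜ[K] algebraMap A L a) = mk (algebraMap A' K' (algebraMap A A' a) ⊗ₜ[K] 1)
      rw [← IsScalarTower.algebraMap_apply A A' K', IsScalarTower.algebraMap_apply A K K',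
        IsScalarTower.algebraMap_apply A K L, Algebra.algebraMap_eq_smul_one, Algebra.algebraMap_eq_smul_one (A := K'),
        TensorProduct.smul_tmul]
    have := congrArg ψ hPz
    rw [Polynomial.hom_eval₂, map_zero, e] at this
    exact this
  obtain ⟨z, rfl⟩ := Ideal.Quotient.mk_surjective x
  have hu : ∀ i, algebraMap A K (m i) ≠ 0 := fun i =>
    (map_ne_zero_iff _ (IsFractionRing.injective A K)).mpr (nonZeroDivisors.coe_ne_zero _)
  let c := fun i => (Algebra.TensorProduct.basis K' b₀).repr z i * (algebraMap K K' (algebraMap A K (m i)))⁻¹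
  choose k a hka using fun i => exists_approx (K := K) hdense (c i)
  let y : L := ∑ i, k i • l i
  have hz : z = (∑ i, algebraMap A' K' (a i) ⊗ₜ[K] l i) + 1 ⊗ₜ[K] y := by
    conv_lhs => rw [← (Algebra.TensorProduct.basis K' b₀).sum_repr z]
    rw [TensorProduct.tmul_sum, ← Finset.sum_add_distrib]
    refine Finset.sum_congr rfl fun i _ => ?_
    rw [← hka i, show (1 : K') ⊗ₜ[K] (k i • l i) = algebraMap K K' (k i) ⊗ₜ[K] l i by
        rw [TensorProduct.tmul_smul, TensorProduct.smul_tmul', Algebra.algebraMap_eq_smul_one],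
      ← TensorProduct.add_tmul,
      sub_add_cancel, Algebra.TensorProduct.basis_apply, TensorProduct.smul_tmul', smul_eq_mul, mul_one]
    show _ = c i ⊗ₜ[K] (m i • b₀ i)
    rw [show m i • b₀ i = algebraMap A K (m i) • b₀ i from (IsScalarTower.algebraMap_smul K (m i : A) (b₀ i)).symm,
      ← TensorProduct.smul_tmul, Algebra.smul_def]
    congr 1
    simp only [c]
    have := (map_ne_zero (algebraMap K K')).mpr (hu i)
    field_simp
  have hy1 : IsIntegral A' (mk (1 ⊗ₜ[K] y)) := by
    have hx' : IsIntegral A' (mk z) := hx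
    have e : mk (1 ⊗ₜ[K] y) = mk z - ∑ i, algebraMap A' (T ⧸ nilradical T) (a i) * mk (1 ⊗ₜ[K] l i) := by
      rw [hz, map_add, map_sum, eq_sub_iff_add_eq, add_comm]
      congr 1
      refine Finset.sum_congr rfl fun i _ => ?_
      show mk (algebraMap A' K' (a i) ⊗ₜ[K] 1) * _ = _
      rw [← map_mul, Algebra.TensorProduct.tmul_mul_tmul, mul_one, one_mul]
    rw [e]
    exact hx'.sub (IsIntegral.sum _ fun i _ => isIntegral_algebraMap.mul (hψ _ (hm i)))
  have hy : IsIntegral A y := by
    have hint : IsIntegral K y := IsIntegral.of_finite K y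
    let Ω := AlgebraicClosure K'
    let p := (minpoly K y).map (algebraMap K Ω)
    have hroots : ∀ r ∈ p.roots, IsIntegral A' r := by
      intro r hr
      have hr' : r ∈ (minpoly K y).rootSet Ω := by
        rw [Polynomial.mem_rootSet]
        have := Polynomial.mem_roots'.mp hr
        refine ⟨minpoly.ne_zero hint, ?_⟩
        rw [Polynomial.aeval_def, ← Polynomial.eval_map]
        exact this.2
      rw [← Algebra.IsAlgebraic.range_eval_eq_rootSet_minpoly (F := K) (K := L) Ω y] at hr'
      obtain ⟨σ, rfl⟩ := hr'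
      let Φ : T →ₐ[K] Ω := Algebra.TensorProduct.lift (IsScalarTower.toAlgHom K K' Ω) σ fun _ _ => Commute.all _ _
      let Φ' : T ⧸ nilradical T →+* Ω := Ideal.Quotient.lift (nilradical T) Φ.toRingHom fun w hw =>
        ((mem_nilradical.mp hw).map Φ.toRingHom).eq_zero
      obtain ⟨P, hP, hPy⟩ := hy1
      refine ⟨P, hP, ?_⟩
      have := congrArg Φ' hPy
      rw [Polynomial.hom_eval₂, map_zero] at this
      have e1 : Φ'.comp (algebraMap A' (T ⧸ nilradical T)) = algebraMap A' Ω := by
        ext w
        show Φ (algebraMap A' K' w ⊗ₜ[K] 1) = algebraMap A' Ω w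
        rw [Algebra.TensorProduct.lift_tmul, map_one, mul_one, IsScalarTower.coe_toAlgHom',
          ← IsScalarTower.algebraMap_apply A' K' Ω]
      have e2 : Φ' (mk (1 ⊗ₜ[K] y)) = σ y := by
        show Φ (1 ⊗ₜ[K] y) = σ y
        rw [Algebra.TensorProduct.lift_tmul, map_one, one_mul]
      rw [e1, e2] at this
      exact this
    have hcoef : minpoly K y ∈ Polynomial.lifts (algebraMap A K) := by
      refine (Polynomial.lifts_iff_coeff_lifts _).mpr fun i => mem_range_of_isIntegral (K' := K') (A' := A') ?_
      have := isIntegral_coeff_of_roots (R := A') ((minpoly.monic hint).map (algebraMap K Ω)) (IsAlgClosed.splits p) hroots i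
      rw [Polynomial.coeff_map, IsScalarTower.algebraMap_apply K K' Ω] at this
      exact (isIntegral_algHom_iff (IsScalarTower.toAlgHom A' K' Ω) (algebraMap K' Ω).injective).mp this
    obtain ⟨P, hP, -, hPm⟩ := Polynomial.lifts_and_degree_eq_and_monic hcoef (minpoly.monic hint)
    refine ⟨P, hPm, ?_⟩
    rw [IsScalarTower.algebraMap_eq A K L, ← Polynomial.eval₂_map, hP]
    exact minpoly.aeval K y
  refine ⟨Module.finrank K L + 1, Fin.cons 1 a, Fin.cons y l, Fin.cases hy hm, ?_⟩
  rw [Fin.sum_univ_succ, hz]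
  simp [add_comm]

end Groth.Agent.S16046
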