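import Groth.Statements.S16051
import Mathlib.Tactic.LinearCombination
-- import your own Groth.Agent.* helpers here

set_option autoImplicit false
universe u
open LieAlg

namespace Groth.Agent.S16051

open Matrix

attribute [local instance 100] LieRing.ofAssociativeRing

variable {O : Type u} [CommRing O] {N : ℕ}

/-- The entries of a matrix, extended by zero. -/
def en (M : Matrix (Fin N) (Fin N) O) (i j : ℕ) : O :=
  if h : i < N ∧ j < N then M ⟨i, h.1⟩ ⟨j, h.2⟩ else 0

theorem en_fin (M : Matrix (Fin N) (Fin N) O) (i j : Fin N) : en M i j = M i j := by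
  simp [en]

theorem en_add (M M' : Matrix (Fin N) (Fin N) O) (i j : ℕ) :
    en (M + M') i j = en M i j + en M' i j := by
  unfold en; split_ifs <;> simp

theorem en_smul (c : O) (M : Matrix (Fin N) (Fin N) O) (i j : ℕ) :
    en (c • M) i j = c * en M i j := by
  unfold en; split_ifs <;> simp

/-- The partial sums along the diagonals. -/
def F (m : ℕ → ℕ → O) : ℕ → ℕ → O
  | 0, _ => 0
  | a + 1, 0 => m a 0
  | a + 1, b + 1 => m a (b + 1) + F m a b

theorem F_add (m m' : ℕ → ℕ → O) : ∀ a b, F (fun i j => m i j + m' i j) a b = F m a b + F m' a b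
  | 0, _ => by simp [F]
  | a + 1, 0 => by simp [F]
  | a + 1, b + 1 => by simp [F, F_add m m' a b]; ring

theorem F_smul (c : O) (m : ℕ → ℕ → O) : ∀ a b, F (fun i j => c * m i j) a b = c * F m a b
  | 0, _ => by simp [F]
  | a + 1, 0 => by simp [F]
  | a + 1, b + 1 => by simp [F, F_smul c m a b, mul_add]

theorem F_zero (m : ℕ → ℕ → O) : ∀ a b, (∀ i, i < a → ∀ j, m i j = 0) → F m a b = 0
  | 0, _, _ => rfl
  | a + 1, 0, h => h a (by omega) 0
  | a + 1, b + 1, h => by
    rw [F, h a (by omega) _, F_zero m a b fun i hi => h i (by omega), add_zero]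

theorem F_diag (m : ℕ → ℕ → O) : ∀ a, F m (a + 1) a = ∑ i ∈ Finset.range (a + 1), m i i
  | 0 => by simp [F]
  | a + 1 => by rw [F, F_diag m a, Finset.sum_range_succ (fun i => m i i) (a + 1), add_comm]

/-- The commutator with the nilpotent block, on entries. -/
def br (n : ℕ) (y : ℕ → ℕ → O) (i j : ℕ) : O :=
  (if i + 1 < n then y (i + 1) j else 0) - (if 1 ≤ j ∧ j < n then y i (j - 1) else 0)

theorem F_br (n : ℕ) (y : ℕ → ℕ → O) : ∀ a b, a ≤ n → b < n →
    F (br n y) a b = (if a < n then y a b else 0) - (if a ≤ b then y 0 (b - a) else 0)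
  | 0, b, _, hb => by simp [F, show 0 < n by omega]
  | a + 1, 0, _, _ => by simp [F, br]
  | a + 1, b + 1, ha, hb => by
    rw [F, F_br n y a b (by omega) (by omega), br, if_pos (show a < n by omega),
      if_pos (show 1 ≤ b + 1 ∧ b + 1 < n from ⟨by omega, hb⟩)]
    simp only [Nat.add_sub_cancel, Nat.succ_le_succ_iff, Nat.add_sub_add_right]
    split_ifs <;> ring

section

variable (n : ℕ) (x : Matrix (Fin (n + 1)) (Fin (n + 1)) O)
  (hx : ∀ i j : Fin (n + 1), x i j = if j.val = i.val + 1 ∧ j.val < n then 1 else 0)

include hx in
theorem bracket_entry (Y : Matrix (Fin (n + 1)) (Fin (n + 1)) O) (i j : ℕ) (hi : i ≤ n) (hj : j ≤ n) :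
    en (x * Y - Y * x) i j = br n (en Y) i j := by
  have h1 : (x * Y) ⟨i, by omega⟩ ⟨j, by omega⟩ = if i + 1 < n then en Y (i + 1) j else 0 := by
    rw [Matrix.mul_apply]
    simp only [hx, ite_mul, one_mul, zero_mul]
    split_ifs with h
    · rw [Finset.sum_eq_single ⟨i + 1, by omega⟩]
      · simp [en, h, show i < n by omega, show j < n + 1 by omega]
      · intro k _ hk
        rw [if_neg]
        rintro ⟨h', -⟩
        exact hk (Fin.ext h')
      · simp
    · refine Finset.sum_eq_zero fun k _ => if_neg ?_
      rintro ⟨h', h''⟩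
      omega
  have h2 : (Y * x) ⟨i, by omega⟩ ⟨j, by omega⟩ =
      if 1 ≤ j ∧ j < n then en Y i (j - 1) else 0 := by
    rw [Matrix.mul_apply]
    simp only [hx, mul_ite, mul_one, mul_zero]
    split_ifs with h
    · rw [Finset.sum_eq_single ⟨j - 1, by omega⟩]
      · simp [en, show i < n + 1 by omega, show j - 1 < n + 1 by omega,
          if_pos (show j = j - 1 + 1 ∧ j < n from ⟨by omega, h.2⟩)]
      · intro k _ hk
        rw [if_neg]
        rintro ⟨h', -⟩
        exact hk (Fin.ext (by simp only; omega))
      · simp
    · refine Finset.sum_eq_zero fun k _ => if_neg ?_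
      rintro ⟨h', h''⟩
      omega
  rw [br, ← h1, ← h2, en, dif_pos ⟨by omega, by omega⟩]
  rfl

/-- The invariants. -/
def Φ : Matrix (Fin (n + 1)) (Fin (n + 1)) O →ₗ[O] (Fin n → O) × O × O where
  toFun M := (fun b => F (en M) n b, en M (n - 1) n, en M n 0)
  map_add' M M' := by
    have : en (M + M') = fun i j => en M i j + en M' i j := funext₂ (en_add M M')
    simp [this, F_add, Prod.ext_iff, funext_iff]
  map_smul' c M := by
    have : en (c • M) = fun i j => c * en M i j := funext₂ (en_smul c M)
    simp [this, F_smul, Prod.ext_iff, funext_iff]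

end

/-- Let O be a discrete valuation ring of characteristic zero with residue field of characteristic p,
let 1 ≤ n with n + 1 < p (type A_n with p above the Coxeter number), and let x ∈ sl_{n+1}(O) be the
standard subregular nilpotent element, the matrix with entries x_{i,i+1} = 1 for i + 1 < n and 0
elsewhere (one Jordan block of size n and one of size 1; in the source this is the sum of the root
vectors of the first n − 1 simple roots, completed there to an sl₂-triple). Then the quotient of
sl_{n+1}(O) by the image of ad_x is a free O-module of rank n + 2. (The source works over a complete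
such ring with algebraically closed residue field; completeness and algebraic closedness are not
used for this statement.) -/
theorem result (O : Type u) [CommRing O] [IsDomain O] [IsDiscreteValuationRing O]
    [CharZero O] (p : ℕ) [Fact p.Prime] [CharP (IsLocalRing.ResidueField O) p]
    (n : ℕ) (hn : 1 ≤ n) (hp : n + 1 < p)
    (x : LieAlgebra.SpecialLinear.sl (Fin (n + 1)) O)
    (hx : ∀ i j : Fin (n + 1), (x : Matrix (Fin (n + 1)) (Fin (n + 1)) O) i j =
      if j.val = i.val + 1 ∧ j.val < n then 1 else 0) :
    Module.Free O (LieAlgebra.SpecialLinear.sl (Fin (n + 1)) O ⧸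
        LinearMap.range (LieAlgebra.ad O (LieAlgebra.SpecialLinear.sl (Fin (n + 1)) O) x)) ∧
      Module.finrank O (LieAlgebra.SpecialLinear.sl (Fin (n + 1)) O ⧸
        LinearMap.range (LieAlgebra.ad O (LieAlgebra.SpecialLinear.sl (Fin (n + 1)) O) x)) = n + 2 := by
  let L := LieAlgebra.SpecialLinear.sl (Fin (n + 1)) O
  let xm : Matrix (Fin (n + 1)) (Fin (n + 1)) O := (x : Matrix (Fin (n + 1)) (Fin (n + 1)) O)
  let T : L →ₗ[O] (Fin n → O) × O × O := (Φ n).comp L.toSubmodule.subtype
  have hu : IsUnit ((n + 1 : ℕ) : O) := by
    by_contra h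
    rw [← mem_nonunits_iff, ← IsLocalRing.mem_maximalIdeal,
      ← IsLocalRing.residue_eq_zero_iff, map_natCast, CharP.cast_eq_zero_iff _ p] at h
    have := Nat.le_of_dvd (by omega) h
    omega
  obtain ⟨u, hu⟩ := hu
  have htr : ∀ M : Matrix (Fin (n + 1)) (Fin (n + 1)) O,
      M.trace = F (en M) n (n - 1) + en M n n := by
    intro M
    obtain ⟨m, rfl⟩ : ∃ m, n = m + 1 := ⟨n - 1, by omega⟩
    rw [Nat.add_sub_cancel, F_diag, ← Finset.sum_range_succ (fun i => en M i i),
      ← Fin.sum_univ_eq_sum_range (fun i => en M i i)]
    exact Finset.sum_congr rfl fun i _ => (en_fin M i i).symm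
  have hsurj : Function.Surjective T := by
    rintro ⟨c, v, w⟩
    let cn : ℕ → O := fun b => if h : b < n then c ⟨b, h⟩ else 0
    let m : ℕ → ℕ → O := fun i j =>
      if i + 1 = n ∧ j < n then cn j
      else if i + 1 = n ∧ j = n then v
      else if i = n ∧ j = 0 then w
      else if i = n ∧ j = n then -cn (n - 1) else 0
    let M : Matrix (Fin (n + 1)) (Fin (n + 1)) O := Matrix.of fun i j => m i j
    have hen : ∀ i j, i ≤ n → j ≤ n → en M i j = m i j := by
      intro i j hi hj
      simp [en, M, show i < n + 1 by omega, show j < n + 1 by omega]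
    have hF : ∀ b, b < n → F (en M) n b = cn b := by
      intro b hb
      obtain ⟨a, rfl⟩ : ∃ a, n = a + 1 := ⟨n - 1, by omega⟩
      have hz : ∀ i, i < a → ∀ j, en M i j = 0 := by
        intro i hi j
        by_cases hj : j ≤ a + 1
        · rw [hen i j (by omega) hj]
          simp [m, show i ≠ a by omega, show i ≠ a + 1 by omega]
        · simp [en, show ¬ j < a + 1 + 1 by omega]
      cases b with
      | zero => rw [F, hen a 0 (by omega) (by omega)]; simp [m]
      | succ b =>
        rw [F, F_zero _ _ _ hz, hen a (b + 1) (by omega) (by omega), add_zero]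
        simp [m, show b < a by omega]
    have hM : M.trace = 0 := by
      rw [htr, hF _ (by omega), hen n n le_rfl le_rfl]
      simp [m, show n ≠ 0 by omega]
    refine ⟨⟨M, hM⟩, ?_⟩
    refine Prod.ext (funext fun b => ?_) (Prod.ext ?_ ?_)
    · exact (hF b b.2).trans (by simp [cn])
    · refine (hen (n - 1) n (by omega) le_rfl).trans ?_
      simp [m, show n - 1 + 1 = n by omega]
    · refine (hen n 0 le_rfl (by omega)).trans ?_
      simp [m]
  have hker : LinearMap.ker T = LinearMap.range (LieAlgebra.ad O L x) := by
    apply le_antisymm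
    · intro M hM
      let Mm : Matrix (Fin (n + 1)) (Fin (n + 1)) O := (M : Matrix (Fin (n + 1)) (Fin (n + 1)) O)
      have h0 : ∀ b, b < n → F (en Mm) n b = 0 := fun b hb =>
        congrFun (congrArg Prod.fst (LinearMap.mem_ker.mp hM)) ⟨b, hb⟩
      have hv : en Mm (n - 1) n = 0 := congrArg (fun q => q.2.1) (LinearMap.mem_ker.mp hM)
      have hw : en Mm n 0 = 0 := congrArg (fun q => q.2.2) (LinearMap.mem_ker.mp hM)
      have hnn : en Mm n n = 0 := by
        have h : Mm.trace = 0 := M.2
        rwa [htr, h0 _ (by omega), zero_add] at h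
      let Y : Matrix (Fin (n + 1)) (Fin (n + 1)) O := Matrix.of fun i j =>
        if i.val < n then (if j.val < n then F (en Mm) i j else
          if i.val = 0 then 0 else en Mm (i - 1) n)
        else if j.val + 1 < n then -en Mm n (j + 1) else 0
      have hY : xm * Y - Y * xm = Mm := by
        ext i j
        rw [← en_fin (xm * Y - Y * xm) i j, ← en_fin Mm i j,
          bracket_entry n xm hx Y i j (by omega) (by omega)]
        have hi := i.2
        have hj := j.2
        generalize (i : ℕ) = a, (j : ℕ) = b at hi hj
        simp only [br, en, Y, Matrix.of_apply]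
        rcases Nat.lt_or_ge a n with ha | ha <;> rcases Nat.lt_or_ge b n with hb | hb
        · cases b with
          | zero =>
            by_cases h : a + 1 < n
            · simp [h, show a + 1 < n + 1 by omega, F, show 0 < n by omega, en]
            · obtain rfl : a + 1 = n := by omega
              simpa [F, en] using (h0 0 (by omega)).symm
          | succ b =>
            by_cases h : a + 1 < n
            · simp [h, hb, F, show a + 1 < n + 1 by omega, show b + 1 < n + 1 by omega, ha,
                show a < n + 1 by omega, show b < n + 1 by omega, show b < n by omega, en]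
            · obtain rfl : a + 1 = n := by omega
              have h' := h0 (b + 1) hb
              simp [F, en, show b + 1 < a + 1 + 1 by omega] at h'
              simp [show b ≤ a by omega, show b < a by omega, show b < a + 1 + 1 by omega, show b + 1 < a + 1 + 1 by omega]
              linear_combination (norm := ring_nf) -h'
        · obtain rfl : b = n := by omega
          by_cases h : a + 1 < b
          · simp [h, show a + 1 < b + 1 by omega, show a < b + 1 by omega, en]
          · obtain rfl : a + 1 = b := by omega
            simpa [en] using hv.symm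
        · obtain rfl : a = n := by omega
          cases b with
          | zero => simpa [en] using hw.symm
          | succ b => simp [hb, show b < a + 1 by omega, show b + 1 < a + 1 by omega, en]
        · obtain rfl : a = n := by omega
          obtain rfl : b = a := by omega
          simpa [en] using hnn.symm
      let c : O := (↑u⁻¹ : O) * Y.trace
      have hY' : (Y - c • 1).trace = 0 := by
        rw [Matrix.trace_sub, Matrix.trace_smul, Matrix.trace_one, Fintype.card_fin, smul_eq_mul,
          ← hu, mul_comm (↑u⁻¹ * Y.trace), ← mul_assoc, Units.mul_inv, one_mul, sub_self]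
      refine ⟨⟨Y - c • 1, hY'⟩, Subtype.ext ?_⟩
      change xm * (Y - c • 1) - (Y - c • 1) * xm = Mm
      rw [← hY]
      simp [mul_sub, sub_mul]
    · rintro _ ⟨Y, rfl⟩
      rw [LinearMap.mem_ker]
      let Ym : Matrix (Fin (n + 1)) (Fin (n + 1)) O := (Y : Matrix (Fin (n + 1)) (Fin (n + 1)) O)
      change Φ n (xm * Ym - Ym * xm) = 0
      have hb : ∀ a, a ≤ n → ∀ b, b ≤ n →
          F (en (xm * Ym - Ym * xm)) a b = F (br n (en Ym)) a b := by
        intro a
        induction a with
        | zero => simp [F]
        | succ a ih =>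
          intro ha b hb
          cases b with
          | zero => rw [F, F, bracket_entry n xm hx Ym a 0 (by omega) (by omega)]
          | succ b =>
            rw [F, F, bracket_entry n xm hx Ym a (b + 1) (by omega) hb,
              ih (by omega) b (by omega)]
      refine Prod.ext (funext fun b => ?_) (Prod.ext ?_ ?_)
      · refine (hb n le_rfl b (by omega)).trans ?_
        rw [F_br n _ n b le_rfl b.2]
        simp [show ¬ n ≤ (b : ℕ) by omega]
      · refine (bracket_entry n xm hx Ym (n - 1) n (by omega) le_rfl).trans ?_
        simp [br, show ¬ n - 1 + 1 < n by omega]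
      · refine (bracket_entry n xm hx Ym n 0 le_rfl (by omega)).trans ?_
        simp [br]
  let e := (Submodule.quotEquivOfEq _ _ hker.symm).trans (T.quotKerEquivOfSurjective hsurj)
  refine ⟨Module.Free.of_equiv e.symm, ?_⟩
  rw [e.finrank_eq]
  simp

end Groth.Agent.S16051
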