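import Groth.Statements.S16083
import Groth.Agent.Ref1X.Bidual

set_option autoImplicit false
universe u
open CategoryTheory CategoryTheory.Limits AlgebraicGeometry TopologicalSpace
open SDiv

namespace Groth.Agent.S16083

/-- Suppose X is a normal scheme that is integral and locally Noetherian, write η for its generic point,
let F and G be coherent O_X-modules, and let T : G_η → F_η be an O_{X,η}-linear map of generic
stalks. Then T extends to a morphism G ⟶ F^** — there is a morphism ψ whose stalk map at η is T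
followed by the stalk map at η of the canonical map F ⟶ F^** — if and only if for every point x with
dim O_{X,x} = 1 the map T sends the image of G_x in G_η into the image of F_x in F_η. -/
theorem result (X : Scheme.{u}) [IsIntegral X] [IsLocallyNoetherian X]
    (hX : Pi1.IsNormalScheme X) (F G : X.Modules) (hF : Coh.IsCoh F) (hG : Coh.IsCoh G)
    (T : ↑(G.presheaf.stalk (genericPoint ↥X)) →ₗ[↑(X.presheaf.stalk (genericPoint ↥X))]
      ↑(F.presheaf.stalk (genericPoint ↥X))) :
    (∃ ψ : G ⟶ RefHull.ddual F, RefHull.stalkMapₗ ψ (genericPoint ↥X) =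
        (RefHull.stalkMapₗ (RefHull.bidualMap F) (genericPoint ↥X)).comp T) ↔
      ∀ x : ↥X, ringKrullDim ↑(X.presheaf.stalk x) = 1 →
        Set.MapsTo ⇑T
          (Set.range ⇑(G.presheaf.stalkSpecializes ((genericPoint_spec ↥X).specializes (Set.mem_univ x))).hom)
          (Set.range ⇑(F.presheaf.stalkSpecializes ((genericPoint_spec ↥X).specializes (Set.mem_univ x))).hom) := by
  have hD := Groth.Agent.RefX.isCoh_dual hF
  have hR : Coh.IsCoh (RefHull.ddual F) := Groth.Agent.RefX.isCoh_dual hD
  have hRr : RefHull.IsReflexive (RefHull.ddual F) := Groth.Agent.Ref1X.isReflexive_dual hD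
  have hb := Groth.Agent.RefX.stalkMap_bidual_bijective_iff hF
  set η := genericPoint ↥X
  have hbη : Function.Bijective (RefHull.stalkMapₗ (RefHull.bidualMap F) η) := by
    refine (hb η).2 ?_
    haveI : Module.Finite (X.presheaf.stalk η) (F.presheaf.stalk η) :=
      Groth.Agent.QCoh.finite_stalk_of_isFT hF.1 hF.2 η
    letI : Field (X.presheaf.stalk η) := (Groth.Agent.Ref1X.isField_stalk_eta (X := X)).toField
    haveI : Module.Free (X.presheaf.stalk η) (F.presheaf.stalk η) := Module.Free.of_divisionRing _ _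
    exact (inferInstance : Module.IsReflexive (X.presheaf.stalk η) (F.presheaf.stalk η))
  have hsur : ∀ y : X, Order.coheight y = 1 →
      Function.Surjective (RefHull.stalkMapₗ (RefHull.bidualMap F) y) := by
    intro y hy
    haveI := Groth.Agent.CDiv6.isDVR_of_coheight_one hX hy
    haveI : Module.Finite (X.presheaf.stalk y) (F.presheaf.stalk y) :=
      Groth.Agent.QCoh.finite_stalk_of_isFT hF.1 hF.2 y
    exact Groth.Agent.Ref1X.bidual_surjective_of_pid hF y
  have hdim : ∀ y : X, ringKrullDim ↑(X.presheaf.stalk y) = 1 ↔ Order.coheight y = 1 := fun y => by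
    rw [ringKrullDim_stalk_eq_coheight]; exact_mod_cast Iff.rfl
  constructor
  · rintro ⟨ψ, hψ⟩ x hx _ ⟨m, rfl⟩
    obtain ⟨m', hm'⟩ := hsur x ((hdim x).1 hx) (RefHull.stalkMapₗ ψ x m)
    refine ⟨m', hbη.1 ?_⟩
    have h1 := Groth.Agent.Ref1X.sp_stalkMap ψ (Groth.Agent.Ref1X.eta_le x) m
    rw [← hm', Groth.Agent.Ref1X.sp_stalkMap] at h1
    exact h1.trans (LinearMap.congr_fun hψ _)
  · intro h
    obtain ⟨ψ, hψ⟩ := Groth.Agent.Ref1X.exists_hom hX hR hRr
      ((RefHull.stalkMapₗ (RefHull.bidualMap F) η).comp T) fun y hy m => by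
        obtain ⟨m', hm'⟩ := h y ((hdim y).2 hy) (Set.mem_range_self m)
        refine ⟨RefHull.stalkMapₗ (RefHull.bidualMap F) y m', ?_⟩
        rw [Groth.Agent.Ref1X.sp_stalkMap]
        exact congrArg _ hm'
    exact ⟨ψ, hψ⟩


end Groth.Agent.S16083
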