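import Groth.Statements.S16084
import Groth.Agent.Ref1X.Class

set_option autoImplicit false
universe u
open CategoryTheory CategoryTheory.Limits AlgebraicGeometry TopologicalSpace
open SDiv

namespace Groth.Agent.S16084

/-- Let X be an integral locally Noetherian normal scheme, F a rank one coherent reflexive O_X-module
and s a nonzero global section of F. Let Z be the set of points x at which multiplication by the
germ of s, O_{X,x} → F_x, fails to be bijective (the complement of the open where s generates F).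
Then every irreducible component of Z has codimension 1 in X: at each point z of Z to which no other
point of Z specializes, the local ring O_{X,z} has dimension 1. -/
theorem result (X : Scheme.{u}) [IsIntegral X] [IsLocallyNoetherian X]
    (hX : Pi1.IsNormalScheme X) (F : X.Modules) (hF : RefHull.IsRef1 F) (s : Γ(F, ⊤)) (hs : s ≠ 0) (z : ↥X)
    (hz : ¬ Function.Bijective fun a : ↑(X.presheaf.stalk z) => a • F.presheaf.germ ⊤ z trivial s)
    (hmax : ∀ y : ↥X, ¬ Function.Bijective (fun a : ↑(X.presheaf.stalk y) => a • F.presheaf.germ ⊤ y trivial s) →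
      y ⤳ z → y = z) :
    ringKrullDim ↑(X.presheaf.stalk z) = 1 := by

  set η := genericPoint ↥X with hη
  have hinj := Groth.Agent.Ref1X.gsp_injective hF.1 hF.2.1
  have hsη : F.presheaf.germ ⊤ η trivial s ≠ 0 := fun h0 => hs <|
    Groth.Agent.Ref1X.eq_of_germ_eta hinj (x := z) (W := ⊤) trivial (h0.trans (map_zero _).symm)
  obtain ⟨g, hg⟩ := Groth.Agent.Ref1X.exists_gen_eta hF.2.2
  have hgen : Groth.Agent.Ref1X.IsGen (F.presheaf.germ ⊤ η trivial s) := Groth.Agent.Ref1X.one_dim hg hsη
  by_contra hdim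
  apply hz
  have hz1 : Order.coheight z ≠ 1 := fun h1 => hdim (by rw [ringKrullDim_stalk_eq_coheight, h1]; rfl)
  have hsp : ∀ y : X, Groth.Agent.Ref1X.gsp F y (F.presheaf.germ ⊤ y trivial s) = F.presheaf.germ ⊤ η trivial s :=
    fun y => Groth.Agent.Ref1X.sp_germ _ (U := ⊤) trivial s
  refine ⟨fun c c' h => Groth.Agent.Ref1X.spR_injective z (hgen.1 ?_), fun m => ?_⟩
  · have h1 := congrArg (Groth.Agent.Ref1X.gsp F z) h
    simp only [Groth.Agent.Ref1X.sp_smul] at h1
    rw [hsp] at h1
    exact h1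
  obtain ⟨f, hf⟩ := hgen.2 (Groth.Agent.Ref1X.gsp F z m)
  dsimp only at hf
  by_cases hf0 : f = 0
  · refine ⟨0, hinj z ?_⟩
    dsimp only
    rw [zero_smul, map_zero, ← hf, hf0, zero_smul]
  obtain ⟨c, hc⟩ := Groth.Agent.CDiv6.reg_of_forall_ord_nonneg hX (x := z) (f := (f : X.functionField)) hf0
    fun y hyz hy => by
      have hb : Function.Bijective fun a : ↑(X.presheaf.stalk y) => a • F.presheaf.germ ⊤ y trivial s :=
        by_contra fun hnb => hz1 (by rw [← hmax y hnb hyz]; exact hy)
      refine Groth.Agent.CDiv6.reg_ord_nonneg hf0 ?_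
      obtain ⟨a, ha⟩ := hb.2 (Groth.Agent.Ref1X.sp F hyz m)
      refine ⟨a, hgen.1 ?_⟩
      show Groth.Agent.Ref1X.spR X (Groth.Agent.Ref1X.eta_le y) a • _ = f • _
      rw [hf, ← hsp y, ← Groth.Agent.Ref1X.sp_smul]
      exact (congrArg (Groth.Agent.Ref1X.gsp F y) ha).trans (Groth.Agent.Ref1X.sp_sp F _ _ m)
  refine ⟨c, hinj z ?_⟩
  show Groth.Agent.Ref1X.gsp F z (c • _) = _
  rw [Groth.Agent.Ref1X.sp_smul, hsp, ← hf]
  exact congrArg (· • _) hc


end Groth.Agent.S16084
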