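import Groth.Statements.S16085
import Groth.Agent.Ref1X.Class
import Groth.Prelude.Def_Ref1Cl

set_option autoImplicit false
universe u
open CategoryTheory CategoryTheory.Limits AlgebraicGeometry TopologicalSpace
open SDiv

namespace Groth.Agent.S16085

/-- Let X be an integral locally Noetherian normal scheme. Sending (F, G) to the reflexive hull (F
⊗_{O_X} G)^** makes the isomorphism classes of rank one coherent reflexive O_X-modules into an
abelian group: on that set there are a commutative and associative composition law, a neutral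
element and inverses, such that the product of the classes of F and G is the class of the reflexive
hull of F ⊗_{O_X} G, the neutral element is the class of O_X, and the inverse of the class of F is
the class of its dual 𝓗om_{O_X}(F, O_X). -/
theorem result (X : Scheme.{u}) [IsIntegral X] [IsLocallyNoetherian X] (hX : Pi1.IsNormalScheme X) :
    ∃ (mul : {c : PicF.Cl X // ∃ F : X.Modules, PicF.cl F = c ∧ RefHull.IsRef1 F} →
          {c : PicF.Cl X // ∃ F : X.Modules, PicF.cl F = c ∧ RefHull.IsRef1 F} →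
            {c : PicF.Cl X // ∃ F : X.Modules, PicF.cl F = c ∧ RefHull.IsRef1 F})
      (one : {c : PicF.Cl X // ∃ F : X.Modules, PicF.cl F = c ∧ RefHull.IsRef1 F})
      (inv : {c : PicF.Cl X // ∃ F : X.Modules, PicF.cl F = c ∧ RefHull.IsRef1 F} →
          {c : PicF.Cl X // ∃ F : X.Modules, PicF.cl F = c ∧ RefHull.IsRef1 F}),
      (∀ a b, mul a b = mul b a) ∧ (∀ a b c, mul (mul a b) c = mul a (mul b c)) ∧ (∀ a, mul one a = a) ∧
        (∀ a, mul (inv a) a = one) ∧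
        (∀ (F G : X.Modules) (hF : RefHull.IsRef1 F) (hG : RefHull.IsRef1 G),
          (mul ⟨PicF.cl F, F, rfl, hF⟩ ⟨PicF.cl G, G, rfl, hG⟩).1 = PicF.cl (RefHull.ddual (CohB1.tensorMod F G))) ∧
        one.1 = PicF.cl (Coh.structureModule X) ∧
        (∀ (F : X.Modules) (hF : RefHull.IsRef1 F), (inv ⟨PicF.cl F, F, rfl, hF⟩).1 = PicF.cl (RefHull.dual F)) := by

  let S := {c : PicF.Cl X // ∃ F : X.Modules, PicF.cl F = c ∧ RefHull.IsRef1 F}
  have rep : ∀ a : S, ∃ (F : X.Modules) (hF : RefHull.IsRef1 F), a = ⟨PicF.cl F, F, rfl, hF⟩ := by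
    rintro ⟨c, F, rfl, hF⟩
    exact ⟨F, hF, rfl⟩
  let mul : S → S → S := fun a b => ⟨RefFun.refMulCl a.1 b.1, by
    obtain ⟨F, hF, rfl⟩ := rep a
    obtain ⟨G, hG, rfl⟩ := rep b
    exact ⟨_, rfl, Groth.Agent.Ref1X.isRef1_refTensor hF hG⟩⟩
  let dcl : PicF.Cl X → PicF.Cl X := Quot.lift (fun F => PicF.cl (RefHull.dual F))
    fun F F' ⟨e⟩ => Quot.sound ⟨RefFun.dualIso e⟩
  let inv : S → S := fun a => ⟨dcl a.1, by
    obtain ⟨F, hF, rfl⟩ := rep a
    exact ⟨_, rfl, Groth.Agent.Ref1X.isRef1_dual hF⟩⟩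
  let one : S := ⟨PicF.cl (Coh.structureModule X), _, rfl, Groth.Agent.Ref1X.isRef1_unit⟩
  have key : ∀ {F G : X.Modules} (_ : RefHull.IsRef1 F) (_ : RefHull.IsRef1 G) (s : F.presheaf.stalk (genericPoint ↥X))
      (t : G.presheaf.stalk (genericPoint ↥X)), s ≠ 0 → t ≠ 0 → (∀ x : X, Order.coheight x = 1 →
        Groth.Agent.Ref1X.ordF F s x = Groth.Agent.Ref1X.ordF G t x) → PicF.cl F = PicF.cl G :=
    fun hF hG s t hs ht h => (PicGrp.cl_eq_cl_iff _ _).2 (Groth.Agent.Ref1X.iso_of_ord hX hF hG hs ht h)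
  refine ⟨mul, one, inv, fun a b => ?_, fun a b c => ?_, fun a => ?_, fun a => ?_, fun F G hF hG => rfl, rfl,
    fun F hF => rfl⟩
  · obtain ⟨F, hF, rfl⟩ := rep a
    obtain ⟨G, hG, rfl⟩ := rep b
    obtain ⟨s, hs⟩ := Groth.Agent.Ref1X.exists_ne_zero hF.2.2
    obtain ⟨t, ht⟩ := Groth.Agent.Ref1X.exists_ne_zero hG.2.2
    obtain ⟨w, hw, h⟩ := Groth.Agent.Ref1X.exists_ord_refTensor hX hF hG hs ht
    obtain ⟨w', hw', h'⟩ := Groth.Agent.Ref1X.exists_ord_refTensor hX hG hF ht hs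
    exact Subtype.ext (key (Groth.Agent.Ref1X.isRef1_refTensor hF hG) (Groth.Agent.Ref1X.isRef1_refTensor hG hF)
      w w' hw hw' fun x hx => by rw [h x hx, h' x hx, add_comm])
  · obtain ⟨F, hF, rfl⟩ := rep a
    obtain ⟨G, hG, rfl⟩ := rep b
    obtain ⟨H, hH, rfl⟩ := rep c
    obtain ⟨s, hs⟩ := Groth.Agent.Ref1X.exists_ne_zero hF.2.2
    obtain ⟨t, ht⟩ := Groth.Agent.Ref1X.exists_ne_zero hG.2.2
    obtain ⟨r, hr⟩ := Groth.Agent.Ref1X.exists_ne_zero hH.2.2
    have hFG := Groth.Agent.Ref1X.isRef1_refTensor hF hG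
    have hGH := Groth.Agent.Ref1X.isRef1_refTensor hG hH
    obtain ⟨u, hu, h1⟩ := Groth.Agent.Ref1X.exists_ord_refTensor hX hF hG hs ht
    obtain ⟨v, hv, h2⟩ := Groth.Agent.Ref1X.exists_ord_refTensor hX hG hH ht hr
    obtain ⟨w, hw, h3⟩ := Groth.Agent.Ref1X.exists_ord_refTensor hX hFG hH hu hr
    obtain ⟨w', hw', h4⟩ := Groth.Agent.Ref1X.exists_ord_refTensor hX hF hGH hs hv
    exact Subtype.ext (key (Groth.Agent.Ref1X.isRef1_refTensor hFG hH) (Groth.Agent.Ref1X.isRef1_refTensor hF hGH)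
      w w' hw hw' fun x hx => by rw [h3 x hx, h1 x hx, h4 x hx, h2 x hx, add_assoc])
  · obtain ⟨F, hF, rfl⟩ := rep a
    obtain ⟨s, hs⟩ := Groth.Agent.Ref1X.exists_ne_zero hF.2.2
    have h1 : Groth.Agent.RefX.unitStalk (genericPoint ↥X) 1 ≠ 0 := fun h0 => one_ne_zero (α := X.functionField)
      ((Groth.Agent.RefX.unitStalk (genericPoint ↥X)).injective (h0.trans (map_zero _).symm))
    obtain ⟨w, hw, h⟩ := Groth.Agent.Ref1X.exists_ord_refTensor hX Groth.Agent.Ref1X.isRef1_unit hF h1 hs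
    exact Subtype.ext (key (Groth.Agent.Ref1X.isRef1_refTensor Groth.Agent.Ref1X.isRef1_unit hF) hF w s hw hs
      fun x hx => by rw [h x hx, Groth.Agent.Ref1X.ordF_unit hx, zero_add])
  · obtain ⟨F, hF, rfl⟩ := rep a
    obtain ⟨s, hs⟩ := Groth.Agent.Ref1X.exists_ne_zero hF.2.2
    have h1 : Groth.Agent.RefX.unitStalk (genericPoint ↥X) 1 ≠ 0 := fun h0 => one_ne_zero (α := X.functionField)
      ((Groth.Agent.RefX.unitStalk (genericPoint ↥X)).injective (h0.trans (map_zero _).symm))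
    obtain ⟨s', hs', hd⟩ := Groth.Agent.Ref1X.exists_ord_dual hX hF hs
    have hD := Groth.Agent.Ref1X.isRef1_dual hF
    obtain ⟨w, hw, h⟩ := Groth.Agent.Ref1X.exists_ord_refTensor hX hD hF hs' hs
    exact Subtype.ext (key (Groth.Agent.Ref1X.isRef1_refTensor hD hF) Groth.Agent.Ref1X.isRef1_unit w _ hw h1
      fun x hx => by rw [h x hx, hd x hx, Groth.Agent.Ref1X.ordF_unit hx, neg_add_cancel])


end Groth.Agent.S16085
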