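import Groth.Statements.S16086
import Groth.Agent.Ref1X.Class

set_option autoImplicit false
universe u
open CategoryTheory CategoryTheory.Limits AlgebraicGeometry TopologicalSpace
open SDiv

namespace Groth.Agent.S16086

/-- The class map is well defined and injective: fix a scheme X that is integral, normal and locally
Noetherian, and write η for its generic point; suppose F and G are rank one coherent reflexive
O_X-modules and let s ∈ F_η and t ∈ G_η be nonzero rational sections. At a point x of codimension 1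
the stalks F_x, G_x are free of rank one over the discrete valuation ring O_{X,x}, so s and t have
orders ord_{x,F}(s), ord_{x,G}(t). Then F ≅ G if and only if the Weil divisors of s and t are
linearly equivalent: for some nonzero rational function f one has ord_{x,F}(s) = ord_{x,G}(t) +
ord_x(f) at every point x of codimension 1. -/
theorem result (X : Scheme.{u}) [IsIntegral X] [IsLocallyNoetherian X]
    (hX : Pi1.IsNormalScheme X) (F G : X.Modules) (hF : RefHull.IsRef1 F) (hG : RefHull.IsRef1 G)
    (s : Cyc.secFibre F (genericPoint ↥X)) (hs : s ≠ 0) (t : Cyc.secFibre G (genericPoint ↥X)) (ht : t ≠ 0) :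
    Nonempty (F ≅ G) ↔
      ∃ f : ↑X.functionField, f ≠ 0 ∧
        ∀ (x : ↥X), Order.coheight x = 1 →
          Cyc.secOrdAt F (genericPoint ↥X) x ((genericPoint_spec ↥X).specializes (Set.mem_univ x)) s =
            Cyc.secOrdAt G (genericPoint ↥X) x ((genericPoint_spec ↥X).specializes (Set.mem_univ x)) t +
              Scheme.ord f x := by

  obtain ⟨s, rfl⟩ := (Groth.Agent.Ref1X.cls_bijective F).2 s
  obtain ⟨t, rfl⟩ := (Groth.Agent.Ref1X.cls_bijective G).2 t
  rw [Groth.Agent.Ref1X.cls_ne_zero] at hs ht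
  constructor
  · rintro ⟨e⟩
    obtain ⟨g, hg⟩ := Groth.Agent.Ref1X.exists_gen_eta hG.2.2
    obtain ⟨f, hf⟩ := (Groth.Agent.Ref1X.one_dim hg ht).2 (RefHull.stalkMapₗ e.hom (genericPoint ↥X) s)
    have hes : RefHull.stalkMapₗ e.hom (genericPoint ↥X) s ≠ 0 := fun h0 =>
      hs ((Groth.Agent.Ref1X.stalkMap_bijective e _).1 (h0.trans (map_zero _).symm))
    dsimp only at hf
    have hf0 : f ≠ 0 := fun h0 => hes (by rw [← hf, h0, zero_smul])
    refine ⟨f, hf0, fun x hx => ?_⟩
    show Groth.Agent.Ref1X.ordF F s x = Groth.Agent.Ref1X.ordF G t x + _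
    rw [← Groth.Agent.Ref1X.ordF_map hX hF hG e hx hs, ← hf,
      Groth.Agent.Ref1X.ordF_smul hX hG hx ht hf0, add_comm]
  · rintro ⟨f, hf, h⟩
    obtain ⟨g, hg⟩ := Groth.Agent.Ref1X.exists_gen_eta hG.2.2
    refine Groth.Agent.Ref1X.iso_of_ord hX hF hG hs
      (Groth.Agent.Ref1X.smul_ne_zero' (Groth.Agent.Ref1X.one_dim hg ht) (c := f) hf) fun x hx => ?_
    rw [Groth.Agent.Ref1X.ordF_smul hX hG hx ht hf, add_comm]
    exact h x hx


end Groth.Agent.S16086
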