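import Groth.Statements.S16087
import Groth.Agent.Ref1X.OD2

set_option autoImplicit false
universe u
open CategoryTheory CategoryTheory.Limits AlgebraicGeometry TopologicalSpace
open SDiv

namespace Groth.Agent.S16087

/-- The class map takes values in Weil divisor classes and is surjective: suppose X is a normal scheme
that is integral and locally Noetherian, and denote its generic point by η. For a rank one coherent
reflexive O_X-module F and a nonzero rational section s ∈ F_η write ord_{x,F}(s) for the order of s
with respect to a generator of the free rank one O_{X,x}-module F_x at a point x of codimension 1.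
Then (1) the function sending a codimension-1 point x to ord_{x,F}(s) and every other point to 0 has
locally finite support, so it is a Weil divisor; and (2) every Weil divisor D on X (an
integer-valued function with locally finite support vanishing outside the codimension-1 points)
arises this way: D(x) = ord_{x,F}(s) at all codimension-1 points x for some rank one coherent
reflexive F and nonzero s ∈ F_η. -/
theorem result (X : Scheme.{u}) [IsIntegral X] [IsLocallyNoetherian X]
    (hX : Pi1.IsNormalScheme X) :
    (∀ (F : X.Modules) (hF : RefHull.IsRef1 F) (s : Cyc.secFibre F (genericPoint ↥X)), s ≠ 0 →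
        ∃ D : AlgebraicCycle X ℤ, (∀ x : ↥X, Order.coheight x ≠ 1 → D x = 0) ∧
          ∀ (x : ↥X), Order.coheight x = 1 →
            D x = Cyc.secOrdAt F (genericPoint ↥X) x ((genericPoint_spec ↥X).specializes (Set.mem_univ x)) s) ∧
      ∀ D : AlgebraicCycle X ℤ, (∀ x : ↥X, Order.coheight x ≠ 1 → D x = 0) →
        ∃ (F : X.Modules) (_ : RefHull.IsRef1 F) (s : Cyc.secFibre F (genericPoint ↥X)), s ≠ 0 ∧
          ∀ (x : ↥X), Order.coheight x = 1 →
            D x = Cyc.secOrdAt F (genericPoint ↥X) x ((genericPoint_spec ↥X).specializes (Set.mem_univ x)) s := by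
  classical
  constructor
  · intro F hF s hs
    obtain ⟨s, rfl⟩ := (Groth.Agent.Ref1X.cls_bijective F).2 s
    rw [Groth.Agent.Ref1X.cls_ne_zero] at hs
    refine ⟨{ toFun := fun x => if Order.coheight x = 1 then Groth.Agent.Ref1X.ordF F s x else 0
              supportWithinDomain' := fun _ _ => trivial
              supportLocallyFiniteWithinDomain' := fun z _ => ?_ }, fun x hx => if_neg hx, fun x hx => if_pos hx⟩
    obtain ⟨_, ⟨V, hV, rfl⟩, hz, -⟩ :=
      X.isBasis_affineOpens.exists_subset_of_mem_open (Set.mem_univ z) isOpen_univ
    refine ⟨V, V.2.mem_nhds hz, (Groth.Agent.Ref1X.finite_ordF_ne_zero hX hF hs hV).subset ?_⟩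
    rintro x ⟨hxV, hx⟩
    simp only [Function.mem_support, ne_eq, ite_eq_right_iff, Classical.not_imp] at hx
    exact ⟨hxV, hx.1, hx.2⟩
  · intro D hD1
    obtain ⟨F, hF, s, hs, h⟩ := Groth.Agent.Ref1X.OD.exists_ref1 (D := fun x => D x)
      (fun V hV => (LocallyFiniteSupport.finite_inter_support_of_isCompact
        D.locallyFiniteSupport hV.isCompact).subset fun y hy => ⟨hy.1, hy.2⟩) hD1 hX
    exact ⟨F, hF, Groth.Agent.Ref1X.cls F s, Groth.Agent.Ref1X.cls_ne_zero.2 hs, fun x hx => (h x hx).symm⟩


end Groth.Agent.S16087
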