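import Groth.Statements.S16088
import Groth.Agent.S8914
import Groth.Agent.H9PB.DualPull
import Groth.Agent.CanonDual.HomShCoh
import Groth.Agent.KRRReg.LamPull
import Groth.Agent.Lib.InvEnd
-- import your own Groth.Agent.* helpers here

set_option autoImplicit false
universe u
open CategoryTheory CategoryTheory.Limits AlgebraicGeometry TopologicalSpace
open SDiv

namespace Groth.Agent.S16088

/-- Let S be a scheme, D ⊆ S an effective Cartier divisor with ideal sheaf 𝓓 and i : D ⟶ S its closed
immersion. The normal sheaf of D in S, the O_D-dual of the conormal sheaf i^*𝓓, is isomorphic to the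
restriction i^*(O_S(D)) to D of O_S(D) = 𝓗om_{O_S}(𝓓, O_S), the dual of the invertible ideal 𝓓.
Existence of an isomorphism of O_D-modules only; the canonical identification is not named here. -/
theorem result (S : Scheme.{u}) (𝓓 : S.IdealSheafData)
    (hD : BlowUp.IsEffCartierIdeal 𝓓) :
    Nonempty (RefHull.dual (Omega.conormal 𝓓.subschemeι) ≅
      (Scheme.Modules.pullback 𝓓.subschemeι).obj (RefHull.dual (ClSub.idealMod 𝓓))) := by
    have hinv : PicF.IsInvertible (ClSub.idealMod 𝓓) := (Groth.Agent.S8914.result 𝓓).2 hD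
    have hr := Groth.Agent.InvEnd.isFinLocFreeOfRank_one hinv
    have hlf : FlatMod.IsFinLocFree (ClSub.idealMod 𝓓) := fun x =>
      let ⟨U, hx, he⟩ := hr x; ⟨U, 1, hx, he⟩
    have hlf' : FlatMod.IsFinLocFree ((Scheme.Modules.pullback 𝓓.subschemeι).obj (ClSub.idealMod 𝓓)) := fun x =>
      let ⟨U, hx, he⟩ := Groth.Agent.KRRReg.isFinLocFreeOfRank_pullback 𝓓.subschemeι hr x; ⟨U, 1, hx, he⟩
    obtain ⟨e⟩ := Groth.Agent.H9PB.nonempty_pullback_dual 𝓓.subschemeι hlf
    obtain ⟨a⟩ := Groth.Agent.ExtShX.nonempty_hom_iso_homSh_of_locFree hlf (Coh.structureModule S)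
    obtain ⟨b⟩ := Groth.Agent.ExtShX.nonempty_hom_iso_homSh_of_locFree hlf' (Coh.structureModule 𝓓.subscheme)
    unfold Omega.conormal
    rw [Scheme.IdealSheafData.ker_subschemeι]
    exact ⟨b.symm ≪≫ e.symm ≪≫ (Scheme.Modules.pullback 𝓓.subschemeι).mapIso a⟩

end Groth.Agent.S16088
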