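import Groth.Statements.S16092
import Groth.Agent.Ref1X.Class

set_option autoImplicit false
universe u
open CategoryTheory CategoryTheory.Limits AlgebraicGeometry TopologicalSpace
open SDiv

namespace Groth.Agent.S16092

/-- Let X be an integral scheme that is locally Noetherian, with generic point η, let L and N be
invertible O_X-modules and s ∈ L_η, t ∈ N_η nonzero rational sections, with orders ord_{x,L}(s),
ord_{x,N}(t) along the prime divisors, i.e. at the points x with dim O_{X,x} = 1, taken with respect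
to generators of the stalks. Then L ⊗_{O_X} N has a nonzero rational section w with ord_{x,L ⊗ N}(w)
= ord_{x,L}(s) + ord_{x,N}(t) at every such x; hence the Weil divisor class of L ⊗ N is the sum of
the classes of L and N. The published statement names w as the product s·t; here only the existence
of such a w is asserted. -/
theorem result (X : Scheme.{u}) [IsIntegral X] [IsLocallyNoetherian X] (L N : X.Modules)
    (hL : PicF.IsInvertible L) (hN : PicF.IsInvertible N) (s : Cyc.secFibre L (genericPoint ↥X)) (hs : s ≠ 0)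
    (t : Cyc.secFibre N (genericPoint ↥X)) (ht : t ≠ 0) :
    ∃ w : Cyc.secFibre (CohB1.tensorMod L N) (genericPoint ↥X), w ≠ 0 ∧
      ∀ (x : ↥X), ringKrullDim ↑(X.presheaf.stalk x) = 1 →
        Cyc.secOrdAt (CohB1.tensorMod L N) (genericPoint ↥X) x ((genericPoint_spec ↥X).specializes (Set.mem_univ x)) w =
          Cyc.secOrdAt L (genericPoint ↥X) x ((genericPoint_spec ↥X).specializes (Set.mem_univ x)) s +
            Cyc.secOrdAt N (genericPoint ↥X) x ((genericPoint_spec ↥X).specializes (Set.mem_univ x)) t := by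
  obtain ⟨s, rfl⟩ := (Groth.Agent.Ref1X.cls_bijective L).2 s
  obtain ⟨t, rfl⟩ := (Groth.Agent.Ref1X.cls_bijective N).2 t
  rw [Groth.Agent.Ref1X.cls_ne_zero] at hs ht
  have hLc := Groth.Agent.AmpleVan.isCoh_invertible hL
  have hNc := Groth.Agent.AmpleVan.isCoh_invertible hN
  have hTc := Groth.Agent.AmpleVan.isCoh_tensor hLc hNc
  have hgen : ∀ {M : X.Modules}, PicF.IsInvertible M → ∀ x : X, ∃ t : M.presheaf.stalk x, Groth.Agent.Ref1X.IsGen t := by
    intro M hM x
    obtain ⟨U, hx, e, he⟩ := Groth.Agent.InvX.exists_frame hM x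
    exact ⟨_, Groth.Agent.Ref1X.IsGen.of_frame he hx⟩
  have hinv : ∀ {M : X.Modules}, PicF.IsInvertible M → RefHull.GenInvertible M := by
    intro M hM
    obtain ⟨U, hx, e, he⟩ := Groth.Agent.InvX.exists_frame hM (genericPoint ↥X)
    exact Groth.Agent.Ref1X.genInvertible_of_frame hx he
  obtain ⟨w, hw⟩ := Groth.Agent.Ref1X.exists_tensorSec (hinv hL) (hinv hN) s t
  have key : ∀ x : X, ∃ (a : L.presheaf.stalk x) (b : N.presheaf.stalk x) (p : (CohB1.tensorMod L N).presheaf.stalk x)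
      (φ ψ : X.presheaf.stalk (genericPoint ↥X)), Groth.Agent.Ref1X.IsGen a ∧ Groth.Agent.Ref1X.IsGen b ∧
        Groth.Agent.Ref1X.IsGen p ∧ φ ≠ 0 ∧ ψ ≠ 0 ∧ s = φ • Groth.Agent.Ref1X.gsp L x a ∧
        t = ψ • Groth.Agent.Ref1X.gsp N x b ∧ w = (φ * ψ) • Groth.Agent.Ref1X.gsp _ x p := by
    intro x
    obtain ⟨a, ha⟩ := hgen hL x
    obtain ⟨b, hb⟩ := hgen hN x
    obtain ⟨φ, hφ⟩ := (ha.specialize hLc (Groth.Agent.Ref1X.eta_le x)).2 s
    obtain ⟨ψ, hψ⟩ := (hb.specialize hNc (Groth.Agent.Ref1X.eta_le x)).2 t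
    dsimp only at hφ hψ
    obtain ⟨p, hp, hpw⟩ := Groth.Agent.Ref1X.IsTensorSec.coord hLc hNc ha hb
    exact ⟨a, b, p, φ, ψ, ha, hb, hp, fun h0 => hs (by rw [← hφ, h0, zero_smul]),
      fun h0 => ht (by rw [← hψ, h0, zero_smul]), hφ.symm, hψ.symm, hpw hw hφ.symm hψ.symm⟩
  refine ⟨Groth.Agent.Ref1X.cls _ w, Groth.Agent.Ref1X.cls_ne_zero.2 ?_, fun x hx => ?_⟩
  · obtain ⟨a, b, p, φ, ψ, ha, hb, hp, hφ, hψ, -, -, e⟩ := key (genericPoint ↥X)
    rw [e]
    exact (Groth.Agent.Ref1X.ne_zero_of_gen hTc hp).2 (mul_ne_zero (M₀ := X.functionField) hφ hψ)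
  · obtain ⟨a, b, p, φ, ψ, ha, hb, hp, hφ, hψ, e₁, e₂, e₃⟩ := key x
    rw [ringKrullDim_stalk_eq_coheight] at hx
    have hx1 : Order.coheight x = 1 := by exact_mod_cast hx
    show Groth.Agent.Ref1X.ordF _ w x = Groth.Agent.Ref1X.ordF L s x + Groth.Agent.Ref1X.ordF N t x
    rw [Groth.Agent.Ref1X.ordF_eq hLc hx1 ha hφ e₁, Groth.Agent.Ref1X.ordF_eq hNc hx1 hb hψ e₂,
      Groth.Agent.Ref1X.ordF_eq hTc hx1 hp (mul_ne_zero (M₀ := X.functionField) hφ hψ) e₃]
    exact Scheme.ord_mul hφ hψ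


end Groth.Agent.S16092
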