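import Groth.Statements.S16107
import Groth.Agent.ComodLib.MatrixComod
import Groth.Agent.ComodLib.Reductive
import Groth.Agent.ComodLib.Integral
import Groth.Agent.ComodLib.Tame
import Mathlib.RingTheory.MvPolynomial.Homogeneous
import Mathlib.RingTheory.Polynomial.Basic
import Mathlib.RingTheory.FiniteType

set_option autoImplicit false
universe u v w
open LunaSt

namespace Groth.Agent.S16107

open TensorProduct Groth.Agent.ComodLib

section
variable {k : Type u} [Field k] {H : Type v} [CommRing H] [HopfAlgebra k H]

/-- A finitely generated commutative bialgebra is generated by the entries of one matrix. -/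
theorem exists_generating_matrix [Algebra.FiniteType k H] :
    ∃ (n : ℕ) (M : Fin n → Fin n → H), IsComodMatrix k M ∧
      Algebra.adjoin k (Set.range fun p : Fin n × Fin n => M p.1 p.2) = ⊤ := by
  obtain ⟨gens, hgens⟩ := (Algebra.FiniteType.out : (⊤ : Subalgebra k H).FG)
  obtain ⟨U, hUf, hgU, hU⟩ := exists_finite_subcomod_le (k := k) (C := H) (V := H) gens.finite_toSet
  let cU : HopfRep.Comod k H U := ComodSub.Comod.restr (HopfRep.Comod.regular k H) U hU
  obtain ⟨n, ⟨b⟩⟩ : ∃ n, Nonempty (Module.Basis (Fin n) k U) := ⟨_, ⟨Module.finBasis k U⟩⟩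
  let M := @matrixOf k _ H _ _ _ (Fin n) U _ _ cU b
  refine ⟨n, M, @isComodMatrix_matrixOf k _ H _ _ _ (Fin n) _ _ U _ _ cU b, eq_top_iff.mpr ?_⟩
  set S := Algebra.adjoin k (Set.range fun p : Fin n × Fin n => M p.1 p.2)
  rw [← hgens]
  refine Algebra.adjoin_le fun a ha => ?_
  have hb : ∀ j, (b j : H) ∈ S := by
    intro j
    have h1 : Coalgebra.comul (R := k) (b j : H) = ∑ i, (b i : H) ⊗ₜ[k] M i j := by
      rw [← show _ = Coalgebra.comul (R := k) (b j : H) from
        ComodSub.restr_coact_coe (HopfRep.Comod.regular k H) U hU (b j),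
        @coact_matrixOf k _ H _ _ _ (Fin n) _ _ U _ _ cU b j, map_sum]
      rfl
    have h2 := congrArg (TensorProduct.lid k H) (Coalgebra.rTensor_counit_comul (R := k) (b j : H))
    rw [TensorProduct.lid_tmul, one_smul, h1, map_sum, map_sum] at h2
    rw [← h2]
    refine sum_mem fun i _ => ?_
    rw [LinearMap.rTensor_tmul, TensorProduct.lid_tmul]
    exact Subalgebra.smul_mem _ (Algebra.subset_adjoin (show M i j ∈ Set.range fun p : Fin n × Fin n => M p.1 p.2 from ⟨(i, j), rfl⟩)) _
  have hU' : (U : Submodule k H) ≤ Subalgebra.toSubmodule S := fun y hy => by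
    rw [show y = ((⟨y, hy⟩ : U) : H) from rfl, ← b.sum_repr ⟨y, hy⟩, Submodule.coe_sum]
    exact Submodule.sum_mem _ fun i _ => Submodule.smul_mem _ _ (hb i)
  exact hU' (hgU ha)

/-- A coaction given by an algebra map. -/
theorem exists_comod {B : Type w} [CommRing B] [Algebra k B] (ρ : B →ₐ[k] B ⊗[k] H)
    (h₁ : ((Algebra.TensorProduct.assoc k k k B H H).toAlgHom.comp
      (Algebra.TensorProduct.map ρ (AlgHom.id k H))).comp ρ =
        (Algebra.TensorProduct.map (AlgHom.id k B) (Bialgebra.comulAlgHom k H)).comp ρ)
    (h₂ : (Algebra.TensorProduct.map (AlgHom.id k B) (Bialgebra.counitAlgHom k H)).comp ρ =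
      Algebra.TensorProduct.includeLeft) :
    ∃ (c : HopfRep.Comod k H B) (_ : @GLin.IsCoactAlg k _ H _ _ B _ _ c),
      ∀ b, @HopfRep.Comod.coact k H _ _ _ _ B _ _ c b = ρ b := by
  let c : HopfRep.Comod k H B :=
    { coact := ρ.toLinearMap
      coassoc := by
        refine LinearMap.ext fun b => ?_
        have h := AlgHom.congr_fun h₁ b
        simp only [AlgHom.comp_apply] at h
        simp only [LinearMap.comp_apply, LinearEquiv.coe_coe, AlgHom.toLinearMap_apply]
        refine (Eq.trans ?_ h).trans ?_
        · induction ρ b using TensorProduct.induction_on with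
          | zero => simp
          | add p q hp hq => simp only [map_add, hp, hq]
          | tmul p q => rfl
        · induction ρ b using TensorProduct.induction_on with
          | zero => simp
          | add p q hp hq => simp only [map_add, hp, hq]
          | tmul p q => rfl
      counit_comp := by
        refine LinearMap.ext fun b => ?_
        have h := AlgHom.congr_fun h₂ b
        simp only [AlgHom.comp_apply] at h
        simp only [LinearMap.comp_apply, AlgHom.toLinearMap_apply, LinearMap.flip_apply, TensorProduct.mk_apply]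
        refine Eq.trans ?_ h
        induction ρ b using TensorProduct.induction_on with
        | zero => simp
        | add p q hp hq => simp only [map_add, hp, hq]
        | tmul p q => rfl }
  letI := c
  exact ⟨c, ⟨map_one ρ, map_mul ρ⟩, fun b => rfl⟩

theorem algHom_ext_mv {A : Type*} [CommRing A] [Algebra k A] {σ B : Type*} [CommRing B] [Algebra k B]
    {f g : MvPolynomial σ A →ₐ[k] B} (hC : ∀ a, f (MvPolynomial.C a) = g (MvPolynomial.C a))
    (hX : ∀ j, f (MvPolynomial.X j) = g (MvPolynomial.X j)) : f = g :=
  AlgHom.coe_ringHom_injective (MvPolynomial.ringHom_ext hC hX)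

theorem homogeneousComponent_mul {A σ : Type*} [CommRing A] (g : MvPolynomial σ A) {f : MvPolynomial σ A}
    {e : ℕ} (hf : f.IsHomogeneous e) (d : ℕ) :
    MvPolynomial.homogeneousComponent d (g * f) =
      if e ≤ d then MvPolynomial.homogeneousComponent (d - e) g * f else 0 := by
  classical
  induction g using MvPolynomial.induction_on' with
  | monomial m a =>
    have h := (MvPolynomial.isHomogeneous_monomial a (rfl : m.degree = m.degree)).mul hf
    rw [MvPolynomial.homogeneousComponent_of_mem h]
    split_ifs with h1 h2 h2
    · rw [MvPolynomial.homogeneousComponent_of_mem (MvPolynomial.isHomogeneous_monomial a (rfl : m.degree = m.degree)),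
        if_pos (by omega)]
    · omega
    · rw [MvPolynomial.homogeneousComponent_of_mem (MvPolynomial.isHomogeneous_monomial a (rfl : m.degree = m.degree)),
        if_neg (by omega), zero_mul]
    · rfl
  | add p q hp hq =>
    rw [add_mul, map_add, hp, hq]
    split_ifs <;> simp [map_add, add_mul]

end


/-- Let k be a field and H a commutative Hopf algebra of finite type over k all of whose
finite-dimensional comodules are semisimple (a linearly reductive affine group G = Spec H of finite
type). Let A be a Noetherian commutative k-algebra with a coaction of H that is an algebra map (an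
action of G on Spec A). Then A is of finite type as an algebra over its subring of invariants A^G.
(The published statement is that a good moduli space with affine diagonal of a Noetherian algebraic
stack is of finite type; this row is its case [Spec A/G] → Spec A^G.) -/
theorem result
    (k : Type u) [Field k] (H : Type v) [CommRing H] [HopfAlgebra k H] [Algebra.FiniteType k H]
    (hG : HopfRep.IsLinearlyReductive k H)
    (A : Type w) [CommRing A] [Algebra k A] [IsNoetherianRing A]
    [HopfRep.Comod k H A] [GLin.IsCoactAlg k H A] :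
    Algebra.FiniteType ↥(GLin.invariants k H A) A := by
  classical
  obtain ⟨α₀, hα₀, h1⟩ := exists_integral_of_isLinearlyReductive hG
  obtain ⟨n, M, hM, hgen⟩ := exists_generating_matrix (k := k) (H := H)
  let X := Fin n × Fin n
  let N : X → X → H := fun p q => if p.1 = q.1 then M p.2 q.2 else 0
  have hN : IsComodMatrix k N := by
    refine ⟨fun p q => ?_, fun p q => ?_⟩
    · rw [Fintype.sum_prod_type]
      by_cases h : p.1 = q.1
      · rw [Finset.sum_eq_single p.1]
        · simp [N, h, hM.comul]
        · intro i _ hi
          simp [N, Ne.symm hi]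
        · simp
      · simp only [N, if_neg h, map_zero]
        refine (Finset.sum_eq_zero fun i _ => Finset.sum_eq_zero fun l _ => ?_).symm
        by_cases h' : p.1 = i
        · subst h'; simp [h]
        · simp [h']
    · by_cases e : p = q
      · subst e
        simp [N, hM.counit]
      · rw [if_neg e]
        by_cases h : p.1 = q.1
        · have h' : p.2 ≠ q.2 := fun h' => e (Prod.ext h h')
          simp [N, h, hM.counit, h']
        · simp [N, h]
  let P := MvPolynomial X A
  let cA : A →ₐ[k] A ⊗[k] H := GLin.coactAlgHom k H A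
  let ι : A →ₐ[k] P := IsScalarTower.toAlgHom k A P
  let f0 : A →ₐ[k] P ⊗[k] H := (Algebra.TensorProduct.map ι (AlgHom.id k H)).comp cA
  let g0 : X → P ⊗[k] H := fun q => ∑ p, (MvPolynomial.X p : P) ⊗ₜ[k] N p q
  let ρ : P →ₐ[k] P ⊗[k] H :=
    { MvPolynomial.eval₂Hom f0.toRingHom g0 with
      commutes' := fun r => by
        show MvPolynomial.eval₂Hom f0.toRingHom g0 (algebraMap k P r) = _
        rw [IsScalarTower.algebraMap_apply k A P, MvPolynomial.algebraMap_eq, MvPolynomial.eval₂Hom_C]
        exact f0.commutes r }
  have hρC : ∀ a, ρ (MvPolynomial.C a) = Algebra.TensorProduct.map ι (AlgHom.id k H) (cA a) := fun a =>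
    MvPolynomial.eval₂Hom_C _ _ a
  have hρX : ∀ q, ρ (MvPolynomial.X q) = ∑ p, (MvPolynomial.X p : P) ⊗ₜ[k] N p q := fun q =>
    MvPolynomial.eval₂Hom_X' _ _ q
  have hρι : ∀ a, ρ (ι a) = Algebra.TensorProduct.map ι (AlgHom.id k H) (cA a) := hρC
  obtain ⟨cP, hcP, hcρ⟩ := exists_comod ρ (algHom_ext_mv (fun a => by
      simp only [AlgHom.comp_apply, hρC]
      have h := congrArg (Algebra.TensorProduct.map ι (AlgHom.id k (H ⊗[k] H)))
        (LinearMap.congr_fun (HopfRep.Comod.coassoc (k := k) (A := H) (V := A)) a)
      simp only [LinearMap.comp_apply, LinearEquiv.coe_coe] at h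
      refine (Eq.trans ?_ h).trans ?_
      · show _ = Algebra.TensorProduct.map ι (AlgHom.id k (H ⊗[k] H))
          (TensorProduct.assoc k A H H ((HopfRep.Comod.coact (k := k) (A := H)).rTensor H (cA a)))
        induction cA a using TensorProduct.induction_on with
        | zero => simp
        | add p q hp hq => simp only [map_add, hp, hq]
        | tmul p q =>
          simp only [Algebra.TensorProduct.map_tmul, AlgHom.id_apply, hρι, LinearMap.rTensor_tmul, cA,
            GLin.coactAlgHom_apply]
          induction HopfRep.Comod.coact (k := k) (A := H) p using TensorProduct.induction_on with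
          | zero => simp
          | add x y hx hy => simp only [map_add, TensorProduct.add_tmul, hx, hy]
          | tmul x y => rfl
      · show Algebra.TensorProduct.map ι (AlgHom.id k (H ⊗[k] H))
          ((Coalgebra.comul (R := k)).lTensor A (cA a)) = _
        induction cA a using TensorProduct.induction_on with
        | zero => simp
        | add p q hp hq => simp only [map_add, hp, hq]
        | tmul p q => rfl)
    (fun q => by
      simp only [AlgHom.comp_apply, hρX, map_sum, Algebra.TensorProduct.map_tmul, TensorProduct.sum_tmul,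
        AlgHom.id_apply, Bialgebra.comulAlgHom_apply, hN.comul, TensorProduct.tmul_sum]
      exact Finset.sum_comm))
    (algHom_ext_mv (fun a => by
      simp only [AlgHom.comp_apply, hρC]
      have h := congrArg (Algebra.TensorProduct.map ι (AlgHom.id k k))
        (LinearMap.congr_fun (HopfRep.Comod.counit_comp (k := k) (A := H) (V := A)) a)
      simp only [LinearMap.comp_apply, LinearMap.flip_apply, TensorProduct.mk_apply,
        Algebra.TensorProduct.map_tmul, AlgHom.id_apply] at h
      refine Eq.trans ?_ h
      show _ = Algebra.TensorProduct.map ι (AlgHom.id k k) ((Coalgebra.counit (R := k)).lTensor A (cA a))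
      induction cA a using TensorProduct.induction_on with
      | zero => simp
      | add p q hp hq => simp only [map_add, hp, hq]
      | tmul p q => rfl)
    (fun q => by
      simp only [AlgHom.comp_apply, hρX, map_sum, Algebra.TensorProduct.map_tmul, AlgHom.id_apply,
        Bialgebra.counitAlgHom_apply, hN.counit, Algebra.TensorProduct.includeLeft_apply, TensorProduct.tmul_ite]
      rw [Finset.sum_ite_eq']
      simp))
  letI := cP
  haveI := hcP
  -- the Reynolds operator
  let α : H →ₗ[k] P := (Algebra.linearMap k P) ∘ₗ α₀
  have hα : Hoch.IsComodHom H α := LinearMap.ext fun c => by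
    show HopfRep.Comod.coact (k := k) (A := H) (algebraMap k P (α₀ c)) = α.rTensor H (Coalgebra.comul (R := k) c)
    rw [hcρ, AlgHom.commutes, show α.rTensor H = (Algebra.linearMap k P).rTensor H ∘ₗ α₀.rTensor H from
      LinearMap.rTensor_comp _ _ _, LinearMap.comp_apply, hα₀ c, LinearMap.rTensor_tmul]
    rfl
  have hα1 : α 1 = 1 := by simp [α, h1]
  let E : P →ₗ[k] P := TameAct.reynolds k H P P α
  haveI := isHopfMod_self (k := k) (A := H) (B := P)
  have hEinv : ∀ g, E g ∈ GLin.invariants k H P := fun g => reynolds_mem_fixedPts hα g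
  -- degrees
  let L : ℕ → P →ₗ[k] P := fun d => (MvPolynomial.homogeneousComponent (R := A) (σ := X) d).restrictScalars k
  let V : ℕ → Submodule k P := fun e => (MvPolynomial.homogeneousSubmodule X A e).restrictScalars k
  have hV : ∀ e f (z w : P ⊗[k] H), z ∈ LinearMap.range ((V e).subtype.rTensor H) →
      w ∈ LinearMap.range ((V f).subtype.rTensor H) → z * w ∈ LinearMap.range ((V (e + f)).subtype.rTensor H) := by
    rintro e f _ _ ⟨z, rfl⟩ ⟨w, rfl⟩
    induction z using TensorProduct.induction_on with
    | zero => simp
    | add p q hp hq => simp only [map_add, add_mul]; exact Submodule.add_mem _ hp hq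
    | tmul x c =>
      induction w using TensorProduct.induction_on with
      | zero => simp
      | add p q hp hq => simp only [map_add, mul_add]; exact Submodule.add_mem _ hp hq
      | tmul y c' =>
        exact ⟨(⟨(x : P) * y, x.2.mul y.2⟩ : V (e + f)) ⊗ₜ[k] (c * c'), by simp⟩
  have hdeg : ∀ (m : X →₀ ℕ) (a : A), ρ (MvPolynomial.monomial m a) ∈ LinearMap.range ((V m.degree).subtype.rTensor H) := by
    intro m a
    induction m using Finsupp.induction generalizing a with
    | zero =>
      show ρ (MvPolynomial.C a) ∈ _
      rw [hρC]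
      induction cA a using TensorProduct.induction_on with
      | zero => simp
      | add p q hp hq => rw [map_add]; exact Submodule.add_mem _ hp hq
      | tmul p q =>
        exact ⟨(⟨ι p, by rw [map_zero]; exact (MvPolynomial.isHomogeneous_C X p : (MvPolynomial.C p : P).IsHomogeneous 0)⟩ : V _) ⊗ₜ[k] q, rfl⟩
    | single_add q j m hm hj ih =>
      rw [MvPolynomial.monomial_single_add, map_mul, map_pow, map_add Finsupp.degree, Finsupp.degree_single]
      refine hV _ _ _ _ ?_ (ih a)
      clear ih hj
      induction j with
      | zero =>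
        exact ⟨(⟨1, MvPolynomial.isHomogeneous_one X A⟩ : V 0) ⊗ₜ[k] 1, by
          simp [Algebra.TensorProduct.one_def]⟩
      | succ j ihj =>
        rw [pow_succ]
        refine hV _ _ _ _ ihj ?_
        rw [hρX]
        exact Submodule.sum_mem _ fun p _ =>
          ⟨(⟨MvPolynomial.X p, MvPolynomial.isHomogeneous_X A p⟩ : V 1) ⊗ₜ[k] N p q, rfl⟩
  have hL : ∀ d p, ρ (L d p) = (L d).rTensor H (ρ p) := by
    intro d p
    induction p using MvPolynomial.induction_on' with
    | add p q hp hq => simp only [map_add, hp, hq]
    | monomial m a =>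
      obtain ⟨z, hz⟩ := hdeg m a
      have hm : L d (MvPolynomial.monomial m a) = if d = m.degree then MvPolynomial.monomial m a else 0 := by
        exact MvPolynomial.homogeneousComponent_of_mem (MvPolynomial.isHomogeneous_monomial a rfl)
      have hz' : (L d).rTensor H ((V m.degree).subtype.rTensor H z) =
          if d = m.degree then (V m.degree).subtype.rTensor H z else 0 := by
        clear hz
        induction z using TensorProduct.induction_on with
        | zero => simp
        | add p q hp hq => rw [map_add, map_add, hp, hq]; split_ifs <;> simp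
        | tmul x c =>
          have hx : L d (x : P) = if d = m.degree then (x : P) else 0 :=
            MvPolynomial.homogeneousComponent_of_mem x.2
          simp only [LinearMap.rTensor_tmul, Submodule.subtype_apply, hx]
          split_ifs <;> simp
      rw [hm, ← hz, hz', hz]
      split_ifs <;> simp
  have hLE : ∀ d p, L d (E p) = E (L d p) := fun d p => by
    show L d (reynoldsAux α (HopfRep.Comod.coact (k := k) (A := H) p)) =
      reynoldsAux α (HopfRep.Comod.coact (k := k) (A := H) (L d p))
    rw [hcρ, hcρ, hL]
    induction ρ p using TensorProduct.induction_on with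
    | zero => simp
    | add x y hx hy => simp only [map_add, hx, hy]
    | tmul x c =>
      simp only [reynoldsAux_tmul, LinearMap.rTensor_tmul, α, LinearMap.comp_apply, Algebra.linearMap_apply,
        smul_eq_mul, ← Algebra.smul_def, map_smul]
  have hLinv : ∀ d p, p ∈ GLin.invariants k H P → L d p ∈ GLin.invariants k H P := fun d p hp => by
    rw [GLin.mem_invariants_iff, hcρ] at hp ⊢
    rw [hL, hp, LinearMap.rTensor_tmul]
  -- the map to `A ⊗ H`
  let σ : A ⊗[k] H →ₐ[k] (A ⊗[k] H) ⊗[k] H := Algebra.TensorProduct.lift
    ((Algebra.TensorProduct.map (Algebra.TensorProduct.includeLeft : A →ₐ[k] A ⊗[k] H) (AlgHom.id k H)).comp cA)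
    ((Algebra.TensorProduct.map (Algebra.TensorProduct.includeRight : H →ₐ[k] A ⊗[k] H) (AlgHom.id k H)).comp
      (Bialgebra.comulAlgHom k H)) (fun _ _ => Commute.all _ _)
  let π : P →ₐ[k] A ⊗[k] H :=
    { MvPolynomial.eval₂Hom (Algebra.TensorProduct.includeLeft : A →ₐ[k] A ⊗[k] H).toRingHom
        (fun q : X => (1 : A) ⊗ₜ[k] M q.1 q.2) with
      commutes' := fun r => by
        show MvPolynomial.eval₂Hom _ _ (algebraMap k P r) = _
        rw [IsScalarTower.algebraMap_apply k A P, MvPolynomial.algebraMap_eq, MvPolynomial.eval₂Hom_C]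
        exact (Algebra.TensorProduct.includeLeft : A →ₐ[k] A ⊗[k] H).commutes r }
  have hπC : ∀ a, π (MvPolynomial.C a) = a ⊗ₜ[k] (1 : H) := fun a => MvPolynomial.eval₂Hom_C _ _ a
  have hπX : ∀ q : X, π (MvPolynomial.X q) = (1 : A) ⊗ₜ[k] M q.1 q.2 := fun q => MvPolynomial.eval₂Hom_X' _ _ q
  have hσπ : (Algebra.TensorProduct.map π (AlgHom.id k H)).comp ρ = σ.comp π := by
    refine algHom_ext_mv (fun a => ?_) (fun q => ?_)
    · simp only [AlgHom.comp_apply, hρC, hπC, σ, Algebra.TensorProduct.lift_tmul, map_one, mul_one]
      induction cA a using TensorProduct.induction_on with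
      | zero => simp
      | add x y hx hy => simp only [map_add, hx, hy]
      | tmul x y =>
        simp only [Algebra.TensorProduct.map_tmul, AlgHom.id_apply]
        rw [show π (ι x) = x ⊗ₜ[k] (1 : H) from hπC x]
        rfl
    · simp only [AlgHom.comp_apply, hρX, hπX, σ, Algebra.TensorProduct.lift_tmul, map_one, one_mul, map_sum,
        Algebra.TensorProduct.map_tmul, AlgHom.id_apply, Bialgebra.comulAlgHom_apply, hM.comul]
      rw [Fintype.sum_prod_type, Finset.sum_eq_single q.1]
      · simp [N]
      · intro i _ hi
        simp [N, hi]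
      · simp
  have hπsurj : Function.Surjective π := by
    rw [← AlgHom.range_eq_top, eq_top_iff, ← Algebra.TensorProduct.adjoin_tmul_eq_top k A H]
    refine Algebra.adjoin_le ?_
    rintro _ ⟨a, c, rfl⟩
    have hc : (1 : A) ⊗ₜ[k] c ∈ π.range := by
      have hc' : c ∈ Algebra.adjoin k (Set.range fun q : X => M q.1 q.2) := hgen ▸ Algebra.mem_top
      have h' : (Algebra.TensorProduct.includeRight : H →ₐ[k] A ⊗[k] H) c ∈
          (Algebra.adjoin k (Set.range fun q : X => M q.1 q.2)).map
            (Algebra.TensorProduct.includeRight : H →ₐ[k] A ⊗[k] H) := ⟨c, hc', rfl⟩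
      rw [AlgHom.map_adjoin] at h'
      refine Algebra.adjoin_le ?_ h'
      rintro _ ⟨_, ⟨q, rfl⟩, rfl⟩
      exact ⟨MvPolynomial.X q, hπX q⟩
    rw [show a ⊗ₜ[k] c = (a ⊗ₜ[k] (1 : H)) * ((1 : A) ⊗ₜ[k] c) by simp]
    exact π.range.mul_mem ⟨MvPolynomial.C a, hπC a⟩ hc
  let θ : P →ₐ[k] A := ((Algebra.TensorProduct.rid k k A).toAlgHom.comp
    (Algebra.TensorProduct.map (AlgHom.id k A) (Bialgebra.counitAlgHom k H))).comp π
  have hθ : ∀ a : A, ∃ p ∈ GLin.invariants k H P, θ p = a := by
    intro a
    let z : A ⊗[k] H := (HopfAlgebra.antipode k (A := H)).lTensor A (cA a)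
    have hz : σ z = z ⊗ₜ[k] (1 : H) := by
      let Φ : (A ⊗[k] H) ⊗[k] H →ₗ[k] (A ⊗[k] H) ⊗[k] H :=
        LinearMap.mul' k ((A ⊗[k] H) ⊗[k] H) ∘ₗ TensorProduct.map
          (Algebra.TensorProduct.map (Algebra.TensorProduct.includeLeft : A →ₐ[k] A ⊗[k] H) (AlgHom.id k H)).toLinearMap
          ((Algebra.TensorProduct.map (Algebra.TensorProduct.includeRight : H →ₐ[k] A ⊗[k] H)
            (AlgHom.id k H)).toLinearMap ∘ₗ Coalgebra.comul (R := k) ∘ₗ HopfAlgebra.antipode k)
      have k1 : ∀ w : A ⊗[k] H, σ ((HopfAlgebra.antipode k (A := H)).lTensor A w) =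
          Φ ((HopfRep.Comod.coact (k := k) (A := H)).rTensor H w) := fun w => by
        induction w using TensorProduct.induction_on with
        | zero => simp
        | add x y hx hy => simp only [map_add, hx, hy]
        | tmul x y =>
          simp only [LinearMap.lTensor_tmul, LinearMap.rTensor_tmul, σ, Φ, Algebra.TensorProduct.lift_tmul,
            LinearMap.comp_apply, TensorProduct.map_tmul, AlgHom.toLinearMap_apply, LinearMap.mul'_apply,
            AlgHom.comp_apply, Bialgebra.comulAlgHom_apply, cA, GLin.coactAlgHom_apply]
      have k2 : ∀ w : A ⊗[k] H, Φ ((TensorProduct.assoc k A H H).symm ((Coalgebra.comul (R := k)).lTensor A w)) =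
          ((HopfAlgebra.antipode k (A := H)).lTensor A w) ⊗ₜ[k] (1 : H) := fun w => by
        induction w using TensorProduct.induction_on with
        | zero => simp
        | add x y hx hy => simp only [map_add, TensorProduct.add_tmul, hx, hy]
        | tmul x y =>
          have h0 : ∀ u : H ⊗[k] H, Φ ((TensorProduct.assoc k A H H).symm (x ⊗ₜ[k] u)) =
              (TensorProduct.mk k A H x).rTensor H (antipodeTwist u) := fun u => by
            induction u using TensorProduct.induction_on with
            | zero => simp
            | add p q hp hq => simp only [TensorProduct.tmul_add, map_add, hp, hq]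
            | tmul p q =>
              simp only [TensorProduct.assoc_symm_tmul, Φ, LinearMap.comp_apply, TensorProduct.map_tmul,
                AlgHom.toLinearMap_apply, LinearMap.mul'_apply, antipodeTwist_tmul]
              induction Coalgebra.comul (R := k) (HopfAlgebra.antipode k q) using TensorProduct.induction_on with
              | zero => simp
              | tmul c e => simp
              | add c e hc he => simp only [map_add, mul_add, hc, he]
          rw [LinearMap.lTensor_tmul, h0, antipodeTwist_comul, LinearMap.rTensor_tmul, LinearMap.lTensor_tmul]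
          rfl
      have hc := congrArg (TensorProduct.assoc k A H H).symm
        (LinearMap.congr_fun (HopfRep.Comod.coassoc (k := k) (A := H) (V := A)) a)
      simp only [LinearMap.comp_apply, LinearEquiv.coe_coe, LinearEquiv.symm_apply_apply] at hc
      rw [show σ z = _ from k1 (cA a), show cA a = HopfRep.Comod.coact (k := k) (A := H) a from rfl, hc]
      exact k2 _
    obtain ⟨p, hp⟩ := hπsurj z
    refine ⟨E p, hEinv p, ?_⟩
    have hEp : π (E p) = z := by
      show π (reynoldsAux α (HopfRep.Comod.coact (k := k) (A := H) p)) = z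
      let G : (A ⊗[k] H) ⊗[k] H →ₗ[k] A ⊗[k] H :=
        (TensorProduct.rid k (A ⊗[k] H)).toLinearMap ∘ₗ (α₀ ∘ₗ HopfAlgebra.antipode k).lTensor (A ⊗[k] H)
      have k3 : ∀ w, π (reynoldsAux α w) = G (Algebra.TensorProduct.map π (AlgHom.id k H) w) := fun w => by
        induction w using TensorProduct.induction_on with
        | zero => simp
        | add x y hx hy => simp only [map_add, hx, hy]
        | tmul x y => simp [G, α, reynoldsAux_tmul, smul_eq_mul, ← Algebra.smul_def]
      rw [k3, hcρ, ← AlgHom.comp_apply, hσπ, AlgHom.comp_apply, hp, hz]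
      simp [G, h1]
    show Algebra.TensorProduct.rid k k A (Algebra.TensorProduct.map (AlgHom.id k A) (Bialgebra.counitAlgHom k H)
      (π (E p))) = a
    rw [hEp]
    have h := congrArg (Algebra.TensorProduct.rid k k A)
      (LinearMap.congr_fun (HopfRep.Comod.counit_comp (k := k) (A := H) (V := A)) a)
    simp only [LinearMap.comp_apply, LinearMap.flip_apply, TensorProduct.mk_apply,
      Algebra.TensorProduct.rid_tmul, one_smul] at h
    refine Eq.trans ?_ h
    congr 1
    show _ = (Coalgebra.counit (R := k)).lTensor A (cA a)
    simp only [z]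
    induction cA a using TensorProduct.induction_on with
    | zero => simp
    | add x y hx hy => simp only [map_add, hx, hy]
    | tmul x y => simp [HopfAlgebra.counit_antipode]
  -- finitely many homogeneous invariants
  let ss : Set P := {f | f ∈ GLin.invariants k H P ∧ ∃ e, 0 < e ∧ f.IsHomogeneous e}
  obtain ⟨t, hts, htI⟩ := (Submodule.fg_span_iff_fg_span_finset_subset ss).mp
    (IsNoetherian.noetherian (Submodule.span P ss))
  let T := Algebra.adjoin ↥(GLin.invariants k H A) ((t.image θ : Finset A) : Set A)
  have main : ∀ d (p : P), p ∈ GLin.invariants k H P → p.IsHomogeneous d → θ p ∈ T := by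
    intro d
    induction d using Nat.strong_induction_on with
    | _ d ih =>
    intro p hp hpd
    rcases Nat.eq_zero_or_pos d with rfl | hd
    · have hpC : p = MvPolynomial.C (MvPolynomial.coeff 0 p) := by
        have h := MvPolynomial.homogeneousComponent_of_mem (m := 0) (n := 0) (p := p) hpd
        rw [if_pos rfl, MvPolynomial.homogeneousComponent_zero] at h
        exact h.symm
      set a := MvPolynomial.coeff 0 p
      have ha : a ∈ GLin.invariants k H A := by
        rw [GLin.mem_invariants_iff, hcρ] at hp
        rw [GLin.mem_invariants_iff]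
        rw [hpC, hρC] at hp
        have h := congrArg ((MvPolynomial.lcoeff A (0 : X →₀ ℕ)).restrictScalars k |>.rTensor H) hp
        rw [LinearMap.rTensor_tmul] at h
        refine (Eq.trans ?_ h).trans (by simp)
        show cA a = _
        induction cA a using TensorProduct.induction_on with
        | zero => simp
        | add x y hx hy => simp only [map_add, ← hx, ← hy]
        | tmul x y =>
          show x ⊗ₜ[k] y = MvPolynomial.coeff 0 (MvPolynomial.C x : P) ⊗ₜ[k] y
          rw [MvPolynomial.coeff_zero_C]
      have : θ p = a := by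
        rw [hpC]
        show Algebra.TensorProduct.rid k k A _ = a
        simp [hπC]
      rw [this]
      exact Subalgebra.algebraMap_mem T (⟨a, ha⟩ : ↥(GLin.invariants k H A))
    · have hpI : p ∈ Submodule.span P (t : Set P) := htI ▸ Submodule.subset_span ⟨hp, d, hd, hpd⟩
      obtain ⟨c, -, hc⟩ := Submodule.mem_span_finset.mp hpI
      have hE : p = ∑ f ∈ t, E (c f) * f := by
        conv_lhs => rw [← reynolds_of_fixed (B := P) (M := P) hα1 (show p ∈ HopfRep.fixedPts k H P from hp), ← hc,
          map_sum]
        refine Finset.sum_congr rfl fun f hf => ?_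
        exact reynolds_mul_invariant α (c f) ⟨f, (hts hf).1⟩
      have hcomp := congrArg (MvPolynomial.homogeneousComponent d) hE
      rw [MvPolynomial.homogeneousComponent_of_mem hpd, if_pos rfl, map_sum] at hcomp
      rw [hcomp, map_sum]
      refine Subalgebra.sum_mem _ fun f hf => ?_
      obtain ⟨e, he, hfe⟩ := (hts hf).2
      rw [homogeneousComponent_mul _ hfe]
      split_ifs with hed
      · rw [map_mul]
        refine T.mul_mem (ih (d - e) (by omega) _ (hLinv _ _ (hEinv _)) (MvPolynomial.homogeneousComponent_isHomogeneous _ _)) ?_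
        exact Algebra.subset_adjoin (Finset.mem_coe.mpr (Finset.mem_image_of_mem θ hf))
      · rw [map_zero]; exact T.zero_mem
  refine ⟨⟨t.image θ, eq_top_iff.mpr fun a _ => ?_⟩⟩
  obtain ⟨p, hp, rfl⟩ := hθ a
  rw [← MvPolynomial.sum_homogeneousComponent p, map_sum]
  exact Subalgebra.sum_mem T fun d _ =>
    main d _ (hLinv d p hp) (MvPolynomial.homogeneousComponent_isHomogeneous d p)

end Groth.Agent.S16107
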