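import Groth.Statements.S16119
import Groth.Agent.Deform.LinPic.Basic

set_option autoImplicit false
universe u
open CategoryTheory MonoidalCategory CartesianMonoidalCategory MonObj GrpObj AlgebraicGeometry CategoryTheory.Limits
open AlgGrp

namespace Groth.Agent.S16119
open Groth.Agent
open scoped Groth.Agent.H23.PicMul
set_option backward.isDefEq.respectTransparency false
set_option backward.isDefEq.respectTransparency.types false

/-- Over an algebraically closed field k, let G be a connected linear algebraic group (an affine,
smooth, connected k-group scheme) acting by σ on a normal irreducible variety X (an integral normal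
separated k-scheme of finite type); assume the Picard group laws on G, X and G × X, with pullback
along σ and along the projection p₂ : G × X → X multiplicative. Let n be the exponent of the group
Pic(G) (a finite group). Then for every invertible O_X-module L with class c, σ^*(L^{⊗n}) ≅
p₂^*(L^{⊗n}): σ^*(cⁿ) = p₂^*(cⁿ) in Pic(G × X). (The published statement concludes that L^{⊗n}
admits a G-linearization; its argument establishes the displayed isomorphism, which is equivalent to
G-linearizability of L^{⊗n}; that equivalence is not restated here.) -/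
theorem result (k : Type u) [Field k] [IsAlgClosed k]
    (G X : Over (Spec (CommRingCat.of k))) [GrpObj G] [IsAffine G.left] [Smooth G.hom] [ConnectedSpace ↥G.left]
    [IsIntegral X.left] [IsSeparated X.hom] [LocallyOfFiniteType X.hom] [QuasiCompact X.hom]
    (hX : Pi1.IsNormalScheme X.left) (a : AlgGrp.Action G X)
    [PicGrp.Law G.left] [PicGrp.Law X.left] [PicGrp.Law (G ⊗ X).left]
    (hσ : PicGrp.PullMul a.act.left) (hp : PicGrp.PullMul (snd G X).left) (c : PicLoc.PicSet X.left) :
    PicGrp.pullHom a.act.left hσ (c ^ Monoid.exponent (PicLoc.PicSet G.left)) =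
      PicGrp.pullHom (snd G X).left hp (c ^ Monoid.exponent (PicLoc.PicSet G.left)) := by
  obtain ⟨x, -⟩ := SquareNC.exists_pt_of_nonempty (U := X)
  haveI : LocallyOfFiniteType G.hom := inferInstance
  have key := Deform.LinPic.pullCl_act hX a x c.2
  let p : PicLoc.PicSet G.left := ⟨PicF.pullCl (a.orbitMap x).left c.1, PicClLib.isInvertibleCl_pullCl _ c.2⟩
  have hp1 : p ^ Monoid.exponent (PicLoc.PicSet G.left) = 1 := Monoid.pow_exponent_eq_one p
  generalize Monoid.exponent (PicLoc.PicSet G.left) = n at hp1 ⊢
  have hpow : ∀ (Y : Scheme.{u}) [PicGrp.Law Y] (q : PicLoc.PicSet Y) (m : ℕ), (q ^ m).1 = q.1 ^ m := by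
    intro Y _ q m
    induction m with
    | zero => rw [pow_zero, pow_zero, PicGrp.one_val]; rfl
    | succ m ih => rw [pow_succ, pow_succ, PicGrp.mul_val, ih]; rfl
  apply Subtype.ext
  rw [map_pow, map_pow, hpow, hpow, PicGrp.pullHom_apply_val, PicGrp.pullHom_apply_val]
  rw [key, mul_pow]
  have h1 : PicF.pullCl (fst G X).left p.1 ^ n = 1 := by
    have h := hpow _ p n
    rw [hp1, PicGrp.one_val] at h
    rw [← H23.PicMul.pullCl_pow, ← h]
    exact H23.PicMul.pullCl_one _
  rw [show PicF.pullCl (fst G X).left (PicF.pullCl (a.orbitMap x).left c.1) ^ n = 1 from h1, _root_.one_mul]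

end Groth.Agent.S16119
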