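import Groth.Statements.S16148
import Groth.Agent.HilbPoly.TopNonvanish
import Groth.Agent.HilbEv.Basic
import Groth.Agent.PnEuler.Omega
import Groth.Agent.S0055
-- import your own Groth.Agent.* helpers here

set_option autoImplicit false
universe u
open CategoryTheory CategoryTheory.Limits AlgebraicGeometry
open Variety

namespace Groth.Agent.S16148

/-- Let k be a characteristic-zero algebraically closed field and G a coherent O-module (quasi-coherent
of finite type) on projective n-space P^n_k whose support, as a subspace of P^n_k, has Krull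
dimension a with a ≥ 1. Then there is an integer m such that H^a(P^n_k, G(m)) ≠ 0, where G(m) = G ⊗
O(m). (The source works over the complex numbers.) -/
theorem result (k : Type u) [Field k] [IsAlgClosed k] [CharZero k]
    (n : ℕ) (G : (CohB1.ProjSpace n k).Modules) (hG : Coh.IsCoh G) (a : ℕ) (ha : 1 ≤ a)
    (hdim : topologicalKrullDim ↥(CohB1.support G) = a) :
    ∃ m : ℤ, Nontrivial (Coh.HH (CohB1.ProjSpace n k) (CohB1.tensorMod G (Twist.twistProjSpace n k m)) a) := by
  letI : (CohB1.ProjSpace n k).Over (Spec (CommRingCat.of k)) := ⟨CohB1.ProjSpace.toSpec n k⟩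
  haveI : IsProper (CohB1.ProjSpace n k ↘ Spec (CommRingCat.of k)) := PnCoh.Chow.isProper_toSpec n _
  obtain ⟨t⟩ := PnEuler.tw_add n k 1 (-1)
  obtain ⟨z⟩ := PnEuler.nonempty_unit n k
  obtain ⟨N, hN⟩ := HilbPoly.exists_nontrivial_top k (HilbEv.isAmple_O1 n k) (PnEuler.inv_tw n k (-1))
    (t ≪≫ eqToIso (by norm_num) ≪≫ z.symm) hG ha hdim
  obtain ⟨e⟩ := PnEuler.tensorPow_tw n k N
  refine ⟨-(N : ℤ), not_subsingleton_iff_nontrivial.1 fun h => ?_⟩
  exact not_subsingleton_iff_nontrivial.2 hN
    (S0055.HH_iso (((DCoh.tensorBi (X := CohB1.ProjSpace n k)).obj G).mapIso e.symm) a h)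

end Groth.Agent.S16148
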