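import Groth.Statements.S16157
import Groth.Agent.FMBase.Point
import Groth.Agent.FinDesc.Biduality
-- import your own Groth.Agent.* helpers here

set_option autoImplicit false
universe u
open CategoryTheory CategoryTheory.Limits MonoidalCategory CartesianMonoidalCategory MonObj GrpObj AlgebraicGeometry
attribute [local instance] HasDerivedCategory.standard
open AbVar

set_option backward.isDefEq.respectTransparency false
set_option synthInstance.maxHeartbeats 400000
set_option maxHeartbeats 1000000
attribute [-instance] CategoryTheory.catToReflQuiver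
open scoped Groth.Agent.H23.PicMul
attribute [local instance] HasDerivedCategory.standard

namespace Groth.Agent.S16157

/-- Let k be an algebraically closed field, A an abelian variety over k (a proper smooth k-group scheme
with geometrically connected fibres), (A^t, φ) a given dual abelian variety of A for the fppf
topology with A^t itself an abelian variety, P an invertible module on A ×_k A^t whose class is a
Poincaré class, and Φ_P = Rpr_{2,*}(Lpr_1^*(−) ⊗^L P) the Fourier–Mukai functor D(O_A) → D(O_{A^t})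
(the derived functors are assumed to exist). Let F be a coherent O_A-module satisfying the index
condition with index i: the cohomology sheaves of Φ_P(F) vanish in every degree other than i, and
the one in degree i (the transform of F) is finite locally free of rank n. Then the Euler
characteristic χ(A, F) = Σ_j (−1)^j dim_k H^j(A, F) equals (−1)^i · n. (The rank here is that of the
transform of F, which is what the last step of the published proof computes; reading it as the rank
of F itself is wrong already for an invertible sheaf of degree two on an elliptic curve, whose Euler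
characteristic is 2.) -/
theorem result (k : Type u) [Field k] [IsAlgClosed k]
    (A At : Over (Spec (CommRingCat.of k))) [GrpObj A] [IsProper A.hom] [Smooth A.hom] [GeometricallyConnected A.hom]
    [GrpObj At] [IsProper At.hom] [Smooth At.hom] [GeometricallyConnected At.hom]
    (φ : ∀ T : Over (Spec (CommRingCat.of k)), PicF.Cl (PicF.XT A.hom T) → (T ⟶ At))
    (hφ : AbDual.IsDualAV Scheme.fppfPrecoverage A At φ)
    (P : (pullback A.hom At.hom).Modules) (hP : PicF.IsInvertible P)
    (hPξ : AbDual.IsPoincareCl A At φ (PicF.cl P))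
    [DCoh.HasLpull (pullback.fst A.hom At.hom)] [DCoh.HasLTensorMod P] [DCoh.HasRpush (pullback.snd A.hom At.hom)]
    (F : A.left.Modules) (hF : Coh.IsCoh F) (i n : ℕ)
    (hvan : ∀ j : ℤ, j ≠ (i : ℤ) →
      IsZero (DCoh.HD ((DCoh.Lpull (pullback.fst A.hom At.hom) ⋙ DCoh.LTensorMod P ⋙
        DCoh.Rpush (pullback.snd A.hom At.hom)).obj (DCoh.inD A.left F)) j))
    (hfree : FlatMod.IsFinLocFreeOfRank n
      (DCoh.HD ((DCoh.Lpull (pullback.fst A.hom At.hom) ⋙ DCoh.LTensorMod P ⋙
        DCoh.Rpush (pullback.snd A.hom At.hom)).obj (DCoh.inD A.left F)) (i : ℤ))) :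
    @Curv2.euler k _ A.left ⟨A.hom⟩ F = (-1 : ℤ) ^ i * (n : ℤ) := by
  letI : A.left.Over (Spec (CommRingCat.of k)) := ⟨A.hom⟩
  haveI : GeometricallyIntegral A.hom := Groth.Agent.AVDual.geometricallyIntegral_of_smooth A
  haveI : IsCommMonObj A := isCommMonObj_of_isProper_of_geometricallyIntegral A
  haveI : HasInjectiveResolutions A.left.Modules := Groth.Agent.ExtShX.hasInjRes
  haveI : DCoh.HasRpush A.hom := Groth.Agent.KFlatLib.hasRpush_scheme _
  haveI : DCoh.HasLpull η[At].left := Groth.Agent.KFlatLib.hasLpull _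
  let i₀ := (CartesianMonoidalCategory.lift (𝟙 A) (toUnit A ≫ η[At])).left
  let M₀ := (Scheme.Modules.pullback i₀).obj P
  haveI : DCoh.HasLTensorMod M₀ := Groth.Agent.KFlatLib.hasLTensorMod _
  obtain ⟨e₀⟩ : Nonempty (M₀ ≅ Coh.structureModule A.left) := by
    refine (PicGrp.cl_eq_cl_iff _ _).1 ?_
    show PicF.pullCl i₀ (PicF.cl P) = _
    have e : i₀ = pullback.lift (𝟙 _) A.hom (by simp) ≫ PicF.XTmap A.hom η[At] := by
      apply pullback.hom_ext
      · simp [i₀, PicF.XTmap]
      · simp [i₀, PicF.XTmap]
    rw [e, ← Groth.Agent.PicClLib.pullCl_comp, Groth.Agent.FinDesc.poincare_at_one hφ hPξ]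
    exact Groth.Agent.AbDualBase.pullCl_one' _
  obtain ⟨t⟩ := Groth.Agent.FMBase.nonempty_ltensorMod_trivial e₀
  obtain ⟨b⟩ := Groth.Agent.FMBase.nonempty_transform_at_point A At hP η[At]
  let K := (DCoh.Lpull (pullback.fst A.hom At.hom) ⋙ DCoh.LTensorMod P ⋙
    DCoh.Rpush (pullback.snd A.hom At.hom)).obj (DCoh.inD A.left F)
  let e₁ : (DCoh.Lpull η[At].left).obj K ≅ (DCoh.Rpush A.hom).obj (DCoh.inD A.left F) :=
    b.app ⟨DCoh.inD A.left F, Groth.Agent.GBC.isQCohD_sD hF.1 0⟩ ≪≫
      (DCoh.Rpush A.hom).mapIso (t.app (DCoh.inD A.left F))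
  haveI : DerivedCategory.IsGE K i := (DerivedCategory.isGE_iff K i).2 fun j hj => hvan j (ne_of_lt hj)
  haveI : DerivedCategory.IsLE K i := (DerivedCategory.isLE_iff K i).2 fun j hj => hvan j (ne_of_gt hj)
  obtain ⟨M, ⟨eK⟩⟩ := DerivedCategory.exists_iso_singleFunctor_obj_of_isGE_of_isLE K i
  have hM : FlatMod.IsFinLocFreeOfRank n M := fun x => by
    obtain ⟨U, hU, ⟨e⟩⟩ := hfree x
    exact ⟨U, hU, ⟨(Scheme.Modules.restrictFunctor U.ι).mapIso
      (((DerivedCategory.singleFunctorCompHomologyFunctorIso At.left.Modules i).app M).symm ≪≫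
        (DerivedCategory.homologyFunctor _ _).mapIso eK.symm) ≪≫ e⟩⟩
  haveI : IsIso ((Groth.Agent.RBC.singleLpullNat η[At].left (i : ℤ)).app M) :=
    Groth.Agent.RBC.isIso_singleLpullNat η[At].left i (Groth.Agent.KFlatLib.isFlat_of_isFinLocFree fun x => by
      obtain ⟨U, hU, e⟩ := hM x
      exact ⟨U, n, hU, e⟩)
  obtain ⟨eM⟩ := Groth.Agent.FMBase.nonempty_pullback_point_free (k := k) η[At].left hM
  let e₂ : (DCoh.Rpush A.hom).obj (DCoh.inD A.left F) ≅
      (DerivedCategory.singleFunctor _ (i : ℤ)).obj (FlatMod.freeMod (Spec (CommRingCat.of k)) n) :=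
    e₁.symm ≪≫ (DCoh.Lpull η[At].left).mapIso eK ≪≫
      asIso ((Groth.Agent.RBC.singleLpullNat η[At].left (i : ℤ)).app M) ≪≫
      (DerivedCategory.singleFunctor _ (i : ℤ)).mapIso eM
  have hfin : ∀ j : ℕ, Module.finrank k (Coh.HH A.left F j) = if j = i then n else 0 := fun j => by
    obtain ⟨e₃⟩ := Groth.Agent.KFlatLib.nonempty_hd_rpush_single A.hom F j
    split_ifs with hji
    · subst hji
      exact Groth.Agent.FMBase.finrank_HH_of_rpush A hF.1 j (e₃.symm ≪≫
        (DerivedCategory.homologyFunctor _ _).mapIso e₂ ≪≫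
        (DerivedCategory.singleFunctorCompHomologyFunctorIso _ _).app _)
    · have hz : IsZero ((Coh.Rpush A.hom j).obj F) := by
        refine IsZero.of_iso ?_ (e₃.symm ≪≫ (DerivedCategory.homologyFunctor _ _).mapIso e₂)
        rcases lt_or_gt_of_ne (fun h => hji (Nat.cast_injective (R := ℤ) h) : (j : ℤ) ≠ i) with h | h
        · exact DerivedCategory.isZero_of_isGE _ (i : ℤ) _ h
        · exact DerivedCategory.isZero_of_isLE _ (i : ℤ) _ h
      exact Groth.Agent.FMBase.finrank_HH_of_rpush A hF.1 j (n := 0) (hz.iso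
        ((IsZero.iff_id_eq_zero _).2 (Sigma.hom_ext _ _ fun l => l.elim0)))
  refine (finsum_eq_single _ i fun j hj => ?_).trans ?_
  · rw [hfin j, if_neg hj]
    simp
  · rw [hfin i, if_pos rfl]


end Groth.Agent.S16157
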