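import Groth.Statements.S16185
import Groth.Agent.LC.GorFlat

set_option autoImplicit false
universe u
open CategoryTheory CategoryTheory.Limits AlgebraicGeometry
open Dual3

namespace Groth.Agent.S16185

/-- Let A be an Artinian local ring with maximal ideal m and let f : P → Spec A be a flat morphism of
schemes whose closed fibre X = P ×_{Spec A} Spec (A/m) is a Gorenstein scheme (locally Noetherian,
all local rings Gorenstein). Then f is a Gorenstein morphism: flat at every point with Gorenstein
local rings on its fibres. (The source takes A to be a local Artinian algebra over a field k with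
residue field k and X a k-scheme deformed flatly over A; the k-algebra structure plays no role, so
the residue field of A is used directly.) -/
theorem result
    {A : Type u} [CommRing A] [IsArtinianRing A] [IsLocalRing A]
    {P X : Scheme.{u}} (f : P ⟶ Spec (CommRingCat.of A)) [Flat f]
    (i : X ⟶ P) (q : X ⟶ Spec (CommRingCat.of (IsLocalRing.ResidueField A)))
    (hsq : IsPullback i q f (Spec.map (CommRingCat.ofHom (IsLocalRing.residue A))))
    (hX : Dual3.IsGorenstein X) : Dual3.IsGorensteinMor f := by
  intro x
  refine ⟨AlgebraicGeometry.Flat.stalkMap f x, ?_⟩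
  let S := Spec (CommRingCat.of A)
  let r : Spec (CommRingCat.of (IsLocalRing.ResidueField A)) ⟶ S := Spec.map (CommRingCat.ofHom (IsLocalRing.residue A))
  let y : S := f.base x
  let g : Spec (S.residueField y) ⟶ S := S.fromSpecResidueField y
  haveI : IsClosedImmersion r := IsClosedImmersion.spec_of_surjective _ IsLocalRing.residue_surjective
  have hy : r.base (IsLocalRing.closedPoint (IsLocalRing.ResidueField A)) = y :=
    Subsingleton.elim (α := PrimeSpectrum A) _ _
  obtain ⟨b, hb⟩ : ∃ b : Spec (CommRingCat.of (IsLocalRing.ResidueField A)) ⟶ Spec (S.residueField y), b ≫ g = r := by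
    refine ⟨Spec.map (S.descResidueField (Scheme.stalkClosedPointTo r)) ≫
      Spec.map (S.residueFieldCongr hy.symm).hom, ?_⟩
    rw [Category.assoc, Scheme.residueFieldCongr_fromSpecResidueField]
    exact Scheme.descResidueField_stalkClosedPointTo_fromSpecResidueField _ _ r
  obtain ⟨a, ha⟩ : ∃ a : Spec (S.residueField y) ⟶ Spec (CommRingCat.of (IsLocalRing.ResidueField A)), a ≫ r = g := by
    obtain ⟨ψ, hψ⟩ : ∃ ψ, Spec.map ψ = g := ⟨Spec.preimage g, Spec.map_preimage g⟩
    have hk : IsLocalRing.maximalIdeal A ≤ RingHom.ker ψ.hom := by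
      haveI := RingHom.ker_isPrime ψ.hom
      exact (IsLocalRing.eq_maximalIdeal (IsArtinianRing.isMaximal_of_isPrime _)).ge
    refine ⟨Spec.map (CommRingCat.ofHom (Ideal.Quotient.lift (IsLocalRing.maximalIdeal A) ψ.hom hk)), ?_⟩
    rw [← hψ, ← Spec.map_comp]
    congr 1
  let θ : Spec (S.residueField y) ≅ Spec (CommRingCat.of (IsLocalRing.ResidueField A)) :=
    ⟨a, b, by rw [← cancel_mono g, Category.assoc, hb, ha, Category.id_comp],
      by rw [← cancel_mono r, Category.assoc, ha, hb, Category.id_comp]⟩
  have h1 : IsPullback (f.fiberι y) (f.fiberToSpecResidueField y) f g := IsPullback.of_hasPullback f g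
  have h2 : IsPullback i (q ≫ θ.inv) f g :=
    hsq.of_iso (Iso.refl X) (Iso.refl P) θ.symm (Iso.refl S) (by simp) (by simp [θ]) ((Category.comp_id f).trans (Category.id_comp f).symm)
      (by rw [Iso.symm_hom, Iso.refl_hom, Category.comp_id]; exact hb.symm)
  let e : f.fiber y ≅ X := h1.isoIsPullback _ _ h2
  haveI := hX.2 (e.hom.base (f.asFiber x))
  haveI : IsNoetherianRing ((f.fiber y).presheaf.stalk (f.asFiber x)) := isNoetherianRing_of_ringEquiv _
    (asIso (e.hom.stalkMap (f.asFiber x))).commRingCatIsoToRingEquiv
  exact Groth.Agent.LC.gorenstein_of_ringEquiv (asIso (e.hom.stalkMap (f.asFiber x))).commRingCatIsoToRingEquiv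

end Groth.Agent.S16185
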