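import Groth.Statements.S16190
import Groth.Agent.H9PowChart.Basic

set_option linter.style.haveILetI false
set_option backward.isDefEq.respectTransparency false
set_option backward.isDefEq.respectTransparency.types false


set_option autoImplicit false
universe u
open CategoryTheory CategoryTheory.Limits AlgebraicGeometry
open Deform

attribute [-instance] CategoryTheory.catToReflQuiver

namespace Groth.Agent.S16190

/-- Let k be an algebraically closed field and let X have a geometric smoothing, i.e. there are an
integral k-scheme C smooth of dimension one over k, a k-rational point c of C and a flat proper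
morphism π : Y → C whose fibre over c is X (as a k-scheme) and whose fibre over the generic point of
C is smooth. Then X has a smoothing over Spec k[[t]]: a flat proper morphism P → Spec k[[t]] with
closed fibre X over k and smooth generic fibre P ⊗ Frac k[[t]]. (The published lemma concludes that
X, assumed projective and equidimensional, is formally smoothable; its proof builds exactly this
family over the completed local ring of C at c, identified with k[[t]], and then appeals to a
criterion equating smoothings over a discrete valuation ring with formal smoothings, which is not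
restated; the hypotheses on X are not used in the step stated.) -/
theorem result
    (k : Type u) [Field k] [IsAlgClosed k]
    (X : Scheme.{u}) (pX : X ⟶ Spec (CommRingCat.of k))
    (C : Scheme.{u}) (qC : C ⟶ Spec (CommRingCat.of k)) (c : Spec (CommRingCat.of k) ⟶ C)
    (hc : c ≫ qC = 𝟙 (Spec (CommRingCat.of k))) [IsIntegral C] [Smooth qC]
    (hC : topologicalKrullDim C = 1)
    (Y : Scheme.{u}) (π : Y ⟶ C) [Flat π] [IsProper π] (j : X ⟶ Y) (hsq : IsPullback j pX π c)
    (hgen : Smooth (π.fiberToSpecResidueField (genericPoint C))) :
    ∃ (P : Scheme.{u}) (p : P ⟶ Spec (CommRingCat.of (PowerSeries k))) (_ : Flat p) (_ : IsProper p)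
      (i : X ⟶ P),
      IsPullback i pX p (Spec.map (CommRingCat.ofHom (PowerSeries.constantCoeff (R := k)))) ∧
      Smooth (pullback.snd p
        (Spec.map (CommRingCat.ofHom (algebraMap (PowerSeries k) (FractionRing (PowerSeries k)))))) := by
  classical
  set x : C := c (IsLocalRing.closedPoint k) with hx
  let A := C.presheaf.stalk x
  let cs : C.presheaf.stalk x ⟶ CommRingCat.of k := Scheme.stalkClosedPointTo c
  have hcs : Spec.map cs ≫ C.fromSpecStalk x = c := Scheme.Spec_stalkClosedPointTo_fromSpecStalk c
  let ψ : CommRingCat.of k ⟶ C.presheaf.stalk x := Spec.preimage (C.fromSpecStalk x ≫ qC)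
  have hψ : ψ ≫ cs = 𝟙 _ := by
    apply Spec.map_injective
    rw [Spec.map_comp, Spec.map_preimage, ← Category.assoc, hcs, hc, Spec.map_id]
  letI : Algebra k A := ψ.hom.toAlgebra
  have hπ : ∀ a : k, cs.hom (algebraMap k A a) = a := fun a =>
    RingHom.congr_fun (congrArg CommRingCat.Hom.hom hψ) a
  haveI : IsRegularLocalRing A :=
    SmoothReg.isRegularLocalRing_stalk_of_mem_smoothLocus qC (x := x)
      (by rw [qC.smoothLocus_eq_top]; trivial)
  haveI : Algebra.IsGeometricallyReduced k (IsLocalRing.ResidueField A) := by
    let e0 : k ≃ₐ[k] IsLocalRing.ResidueField A :=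
      AlgEquiv.ofBijective (Algebra.ofId k (IsLocalRing.ResidueField A))
        (H9PowChart.residue_bijective cs.hom hπ)
    haveI : Algebra.IsGeometricallyReduced k k := (Algebra.isGeometricallyReduced_field_iff k k).2
      (isReduced_of_injective (Algebra.TensorProduct.rid k k (AlgebraicClosure k))
        (Algebra.TensorProduct.rid k k (AlgebraicClosure k)).injective)
    exact Algebra.IsGeometricallyReduced.of_injective e0.symm.toAlgHom e0.symm.injective
  have hdim : ringKrullDim A = 1 := by
    have hle : ringKrullDim A ≤ 1 := hC ▸ CurveCohLib.ringKrullDim_stalk_le_topologicalKrullDim x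
    by_contra hne
    have h0 : ringKrullDim A ≤ 0 := by
      obtain ⟨d, hd⟩ := WithBot.ne_bot_iff_exists.1 (ringKrullDim_ne_bot (R := A))
      rw [← hd] at hle hne ⊢
      have h1 : d ≤ 1 := by exact_mod_cast hle
      have h2 : d ≠ 1 := fun h => hne (by rw [h]; rfl)
      have h3 : d < 1 := lt_of_le_of_ne h1 h2
      have h4 : d = 0 := ENat.lt_one_iff_eq_zero.1 h3
      rw [h4]
      exact le_rfl
    haveI : Ring.KrullDimLE 0 A := (Ring.krullDimLE_iff).2 h0
    have hf : IsField A := Ring.KrullDimLE.isField_of_isDomain
    letI := hf.toField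
    have hU : ∀ U : C.Opens, IsAffineOpen U → x ∈ U → ∀ y ∈ U, y = x := by
      intro U hU hxU
      haveI : Nonempty U := ⟨⟨x, hxU⟩⟩
      let ev : Γ(C, U) →+* k := cs.hom.comp (C.presheaf.germ U x hxU).hom
      have hinj : Function.Injective ev :=
        (RingHom.injective cs.hom).comp (germ_injective_of_isIntegral C x hxU)
      let s : k →+* Γ(C, U) :=
        ((CommRingCat.ofHom (RingHom.id k)) ≫ (Scheme.ΓSpecIso (CommRingCat.of k)).inv ≫
          qC.appLE ⊤ U le_top).hom
      have hev : Function.Surjective ev := by
        intro a
        refine ⟨s a, ?_⟩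
        have hsub : ev.comp s = RingHom.id k := by
          have h1 : C.fromSpecStalk x ≫ qC = Spec.map ψ := (Spec.map_preimage _).symm
          have h2 := congrArg Scheme.Hom.appTop h1
          rw [Scheme.Hom.comp_appTop, Scheme.fromSpecStalk_appTop] at h2
          have h3 : (Scheme.ΓSpecIso (CommRingCat.of k)).inv ≫ qC.appTop ≫
              C.presheaf.germ ⊤ x trivial = ψ := by
            have h4 := congrArg (fun m => (Scheme.ΓSpecIso (CommRingCat.of k)).inv ≫ m ≫
              (Scheme.ΓSpecIso (C.presheaf.stalk x)).hom) h2
            simpa using h4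
          ext b
          have h5 := RingHom.congr_fun (congrArg CommRingCat.Hom.hom (congrArg (· ≫ cs) h3)) b
          rw [hψ] at h5
          refine Eq.trans ?_ h5
          simp only [ev, s, CommRingCat.hom_comp, RingHom.comp_apply]
          congr 1
          have h6 : qC.appLE ⊤ U le_top ≫ C.presheaf.germ U x hxU =
              qC.appTop ≫ C.presheaf.germ ⊤ x trivial := by
            rw [Scheme.Hom.appLE, Category.assoc, C.presheaf.germ_res]
            rfl
          exact RingHom.congr_fun (congrArg CommRingCat.Hom.hom h6) _
        exact RingHom.congr_fun hsub a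
      have hfld : IsField Γ(C, U) :=
        MulEquiv.isField (Field.toIsField k) (RingEquiv.ofBijective ev ⟨hinj, hev⟩).toMulEquiv
      letI := hfld.toField
      intro y hy
      haveI : Subsingleton (Spec Γ(C, U)) := inferInstanceAs (Subsingleton (PrimeSpectrum Γ(C, U)))
      have hr := hU.range_fromSpec
      obtain ⟨p, hp⟩ : y ∈ Set.range hU.fromSpec := by rw [hr]; exact hy
      obtain ⟨q, hq⟩ : x ∈ Set.range hU.fromSpec := by rw [hr]; exact hxU
      rw [← hp, ← hq, Subsingleton.elim p q]
    obtain ⟨_, ⟨U, hUa, rfl⟩, hxU, -⟩ := C.isBasis_affineOpens.exists_subset_of_mem_open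
      (Set.mem_univ x) isOpen_univ
    have hη : genericPoint C = x :=
      hU U hUa hxU _ ((genericPoint_specializes x).mem_open U.2 hxU)
    haveI : Subsingleton C := ⟨fun a b => by
      have key : ∀ y : C, y = x := fun y => by
        obtain ⟨_, ⟨V, hVa, rfl⟩, hyV, -⟩ := C.isBasis_affineOpens.exists_subset_of_mem_open
          (Set.mem_univ y) isOpen_univ
        exact hU V hVa (hη ▸ (genericPoint_specializes y).mem_open V.2 hyV) y hyV
      rw [key a, key b]⟩
    haveI : Subsingleton (TopologicalSpace.IrreducibleCloseds C) :=
      (irreducibleSetEquivPoints (α := C)).toEquiv.subsingleton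
    have h9 : topologicalKrullDim C ≤ 0 := Order.krullDim_nonpos_of_subsingleton
    rw [hC] at h9
    exact absurd h9 (by decide)
  obtain ⟨φ, hφi, hφC, hφ0⟩ := H9PowChart.exists_injective_powerSeries hdim cs.hom hπ
  let φc : C.presheaf.stalk x ⟶ CommRingCat.of (PowerSeries k) := CommRingCat.ofHom φ
  let g := Spec.map φc ≫ C.fromSpecStalk x
  let cc := Spec.map (CommRingCat.ofHom (PowerSeries.constantCoeff (R := k)))
  have hg : cc ≫ g = c := by
    rw [← Category.assoc, ← Spec.map_comp]
    have : φc ≫ CommRingCat.ofHom (PowerSeries.constantCoeff (R := k)) = cs :=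
      CommRingCat.hom_ext hφ0
    rw [this, hcs]
  have hw : j ≫ π = (pX ≫ cc) ≫ g := by rw [Category.assoc, hg]; exact hsq.w
  refine ⟨pullback π g, pullback.snd π g, inferInstance, inferInstance,
    pullback.lift j (pX ≫ cc) hw, ?_, ?_⟩
  · refine IsPullback.of_right (h₁₂ := pullback.fst π g) ?_ (pullback.lift_snd _ _ _)
      (IsPullback.of_hasPullback π g)
    rw [pullback.lift_fst, hg]
    exact hsq
  · let K := FractionRing (PowerSeries k)
    let sK := Spec.map (CommRingCat.ofHom (algebraMap (PowerSeries k) K))
    let f : C.presheaf.stalk x ⟶ CommRingCat.of K :=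
      φc ≫ CommRingCat.ofHom (algebraMap (PowerSeries k) K)
    have hf : Function.Injective f.hom :=
      (IsFractionRing.injective (PowerSeries k) K).comp hφi
    let gK : Spec (CommRingCat.of K) ⟶ C := sK ≫ g
    have hgK : gK (IsLocalRing.closedPoint K) = genericPoint C := by
      have h1 : gK = Spec.map f ≫ C.fromSpecStalk x := by
        simp only [gK, g, f, sK, Spec.map_comp, Category.assoc]
      rw [h1, Scheme.Hom.comp_apply]
      have hbot : (Spec.map f (IsLocalRing.closedPoint K)).asIdeal = ⊥ := by
        show (IsLocalRing.maximalIdeal K).comap f.hom = ⊥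
        rw [IsLocalRing.maximalIdeal_eq_bot, ← RingHom.ker_eq_comap_bot,
          (RingHom.injective_iff_ker_eq_bot _).1 hf]
      have hmem : genericPoint C ∈ Set.range (C.fromSpecStalk x) := by
        rw [Scheme.range_fromSpecStalk]
        exact genericPoint_specializes x
      obtain ⟨q, hq⟩ := hmem
      have hsp : Spec.map f (IsLocalRing.closedPoint K) ⤳ q :=
        (PrimeSpectrum.le_iff_specializes _ _).1
          (by show (Spec.map f (IsLocalRing.closedPoint K)).asIdeal ≤ q.asIdeal; rw [hbot]; exact bot_le)
      have h2 := hsp.map (C.fromSpecStalk x).continuous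
      rw [hq] at h2
      exact (h2.antisymm (genericPoint_specializes _)).eq
    have hsm : Smooth (π.fiberToSpecResidueField (gK (IsLocalRing.closedPoint K))) := by
      rw [hgK]; exact hgen
    let r := Spec.map (Scheme.descResidueField (Scheme.stalkClosedPointTo gK))
    have hr : r ≫ C.fromSpecResidueField (gK (IsLocalRing.closedPoint K)) = gK :=
      Scheme.descResidueField_stalkClosedPointTo_fromSpecResidueField K C gK
    have sq : IsPullback (pullback.fst (pullback.snd π g) sK ≫ pullback.fst π g)
        (pullback.snd (pullback.snd π g) sK) π gK :=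
      (IsPullback.of_hasPullback (pullback.snd π g) sK).paste_horiz (IsPullback.of_hasPullback π g)
    have sq2 : IsPullback (pullback.lift (pullback.fst (pullback.snd π g) sK ≫ pullback.fst π g)
          (pullback.snd (pullback.snd π g) sK ≫ r) (by rw [Category.assoc (pullback.snd _ sK), hr]; exact sq.w))
        (pullback.snd (pullback.snd π g) sK)
        (π.fiberToSpecResidueField (gK (IsLocalRing.closedPoint K))) r := by
      refine IsPullback.of_right (h₁₂ := pullback.fst _ _) ?_ (pullback.lift_snd _ _ _)
        (IsPullback.of_hasPullback π (C.fromSpecResidueField (gK (IsLocalRing.closedPoint K))))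
      rw [pullback.lift_fst, hr]
      exact sq
    exact MorphismProperty.of_isPullback (P := @Smooth) sq2 hsm
end Groth.Agent.S16190
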