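import Groth.Statements.S16210
import Groth.Agent.CanonDual.DualGraph
import Groth.Agent.CanonDual.Nodal
import Groth.Agent.CanonDual.SemistableCrit
import Groth.Agent.CurveReg.Embed
import Groth.Agent.CurveReg.Nef
import Groth.Agent.GGFF.Descent
import Groth.Agent.S14092
import Groth.Agent.S1518
import Groth.Agent.AlgSpLib.CartierRegular
-- import your own Groth.Agent.* helpers here

set_option autoImplicit false
set_option linter.style.haveILetI false
universe u
open CategoryTheory CategoryTheory.Limits AlgebraicGeometry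
attribute [local instance] HasDerivedCategory.standard
open Curves

namespace Groth.Agent.S16210


theorem deg_nonneg_of_gg (k : Type u) [Field k] {W : Scheme.{u}} [W.Over (Spec (CommRingCat.of k))]
    [IsIntegral W] [IsProper (W ↘ (Spec (CommRingCat.of k)))] (hdim : topologicalKrullDim W = 1)
    {L : W.Modules} (hL : PicF.IsInvertible L) (hgg : Curv2.IsGloballyGenerated L) :
    0 ≤ Curv2.deg k W L 1 := by
  obtain ⟨z, hz⟩ := CurveReg.exists_locus_of_gg hL hgg (genericPoint W)
  refine S1518.result k W hdim L hL (QCoh.homOfTop z) fun h0 => ?_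
  have hz0 : z = 0 := by
    have h1 := congrArg (fun φ : Coh.structureModule W ⟶ L => φ.app ⊤ (1 : Γ(W, ⊤))) h0
    simpa [QCoh.homOfTop_app] using h1
  obtain ⟨U, hU, hf⟩ := H23.TrivBasic.mem_locus_iff.1 hz
  haveI : Nonempty U := ⟨⟨_, hU⟩⟩
  refine one_ne_zero (α := Γ(W, U)) ((hf U le_rfl).1 ?_)
  simp [hz0]

/-- Let k be an algebraically closed field and X a proper reduced connected scheme of dimension 1 over k
with at-worst-nodal singularities and H^1(X, O_X) = 0, and let p_1, …, p_n (n ≥ 3) be distinct
closed points at which X is smooth over k. Let ω_X be the dualizing module of X (degree −1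
cohomology sheaf of f^! O for the structure morphism f, for any choice of the data Rf_* on D_QCoh
with its right adjoint), N an inverse for the tensor product of the ideal sheaf of the reduced
closed subscheme {p_1, …, p_n}, and M any module isomorphic to ω_X ⊗ N (the dualizing module twisted
by the marked points). Then the n-pointed curve is semistable, i.e. every irreducible component E of
X has at least 2 special points (points of E on other components plus marked points on E), if and
only if M is globally generated. -/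
theorem result (k : Type u) [Field k] [IsAlgClosed k] (X : Scheme.{u}) [X.Over (Spec (CommRingCat.of k))]
    [IsProper (X ↘ (Spec (CommRingCat.of k)))] [IsReduced X] [ConnectedSpace X]
    (hdim : topologicalKrullDim X = 1) (hX : Curv2.AtWorstNodal k X)
    (hg : Subsingleton (Coh.HH X (Coh.structureModule X) 1))
    (n : ℕ) (p : Fin n → X) (hpinj : Function.Injective p) (hpcl : ∀ i, IsClosed ({p i} : Set X))
    (hpsm : ∀ i, ∃ U : X.Opens, p i ∈ U ∧ Smooth (U.ι ≫ (X ↘ (Spec (CommRingCat.of k))))) (hn : 3 ≤ n)
    (N : X.Modules) (hN : ClSub.IsInverseOf N (ClSub.idealMod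
      (Scheme.IdealSheafData.vanishingIdeal ⟨⋃ i, ({p i} : Set X), isClosed_iUnion_of_finite hpcl⟩)))
    [DCoh.HasRpush (X ↘ (Spec (CommRingCat.of k)))] (h : DCoh.RpushPreservesQCoh (X ↘ (Spec (CommRingCat.of k)))) [DCoh.HasShriek (X ↘ (Spec (CommRingCat.of k))) h]
    (OY : DCoh.DQCoh (Spec (CommRingCat.of k)))
    (hOY : Nonempty (OY.obj ≅ DCoh.inD (Spec (CommRingCat.of k)) (Coh.structureModule (Spec (CommRingCat.of k)))))
    (M : X.Modules) (hM : Nonempty (M ≅ CohB1.tensorMod (DCoh.dualizingMod (X ↘ (Spec (CommRingCat.of k))) h OY 1) N)) :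
    (∀ (E : Set X), E ∈ irreducibleComponents (X : Type u) → 2 ≤ (E ∩ closure Eᶜ).ncard + (p ⁻¹' E).ncard) ↔
      Curv2.IsGloballyGenerated M := by
  haveI := CurveCohLib.isNoetherian_of_proper (k := k) (X := X)
  have h0 := SurfRR.finrank_h0_reduced k (X := X)
  obtain ⟨tr, hω⟩ := CanonDual.exists_isRDualOver_dualizingMod h OY hOY (d := 1)
    (fun M hM q hq => CanonDual.subsingleton_HH_curve k hdim.le hM hq)
  have hinvω := CanonDual.isInvertible_dualizing_nodal hdim h0 hX hω
  have hXc := CanonDual.closedDimOne_of_connected k hdim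
  have hNi := CanonDual.isInvertible_of_inverse_ideal k _ hN
  obtain ⟨eM⟩ := hM
  have hMi := H23.PicMul.isInvertible_of_iso eM.symm (InvX.isInvertible_tensorMod hinvω hNi)
  have hDfin : (⋃ i, ({p i} : Set X)).Finite := Set.finite_iUnion fun i => Set.finite_singleton _
  have hDs : ∀ x ∈ (⋃ i, ({p i} : Set X)), x ∈ (X ↘ Spec (CommRingCat.of k)).smoothLocus := fun x hx => by
    obtain ⟨i, rfl⟩ := Set.mem_iUnion.1 hx
    obtain ⟨U, hxU, hU⟩ := hpsm i
    exact CanonDual.mem_smoothLocus_of_nhd k hxU hU
  have hequi : ∀ Z ∈ irreducibleComponents (X : Type u), topologicalKrullDim Z = 1 := fun Z hZ => by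
    exact_mod_cast CanonDual.components_dim_one k hXc Z hZ
  have key : ∀ (C : Set X) (hC : C ∈ irreducibleComponents (X : Type u)),
      IsIntegral (Scheme.IdealSheafData.vanishingIdeal (⟨C, isClosed_of_mem_irreducibleComponents C hC⟩ : TopologicalSpace.Closeds X)).subscheme ∧
      topologicalKrullDim (Scheme.IdealSheafData.vanishingIdeal (⟨C, isClosed_of_mem_irreducibleComponents C hC⟩ : TopologicalSpace.Closeds X)).subscheme = 1 ∧
      @Curv2.deg k _ (Scheme.IdealSheafData.vanishingIdeal (⟨C, isClosed_of_mem_irreducibleComponents C hC⟩ : TopologicalSpace.Closeds X)).subscheme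
        ⟨(Scheme.IdealSheafData.vanishingIdeal (⟨C, isClosed_of_mem_irreducibleComponents C hC⟩ : TopologicalSpace.Closeds X)).subschemeι ≫ (X ↘ (Spec (CommRingCat.of k)))⟩
        ((Scheme.Modules.pullback (Scheme.IdealSheafData.vanishingIdeal (⟨C, isClosed_of_mem_irreducibleComponents C hC⟩ : TopologicalSpace.Closeds X)).subschemeι).obj M) 1 =
      -2 + ((C ∩ closure Cᶜ).ncard : ℤ) + ((p ⁻¹' C).ncard : ℤ) := by
    intro C hC
    obtain ⟨hconn, hC1⟩ := CanonDual.component_props hequi C hC
    have hpts := CanonDual.deg_restrict_points hdim hDfin (isClosed_iUnion_of_finite hpcl) hDs hNi hN C hC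
    have hcard : ((⋃ i, ({p i} : Set X)) ∩ C).ncard = (p ⁻¹' C).ncard := by
      rw [← Set.ncard_image_of_injective _ hpinj]
      congr 1
      ext x
      simp only [Set.mem_inter_iff, Set.mem_iUnion, Set.mem_singleton_iff, Set.mem_image, Set.mem_preimage]
      exact ⟨fun ⟨⟨i, hi⟩, hx⟩ => ⟨i, hi ▸ hx, hi.symm⟩, fun ⟨i, hi, he⟩ => ⟨⟨i, he.symm⟩, he ▸ hi⟩⟩
    generalize hIC : Scheme.IdealSheafData.vanishingIdeal (⟨C, isClosed_of_mem_irreducibleComponents C hC⟩ : TopologicalSpace.Closeds X) = IC at hconn hC1 hpts ⊢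
    haveI := hconn
    haveI : IsReduced IC.subscheme := hIC ▸ H23.RedSub.isReduced_vanishingIdeal _
    have hsupp : (IC.support : Set X) = C := hIC ▸ Scheme.IdealSheafData.coe_support_vanishingIdeal _
    haveI : IrreducibleSpace IC.subscheme := by
      let e : IC.subscheme ≃ₜ C := IC.subschemeι.isEmbedding.toHomeomorph.trans
        (Homeomorph.setCongr (IC.range_subschemeι.trans hsupp))
      haveI : IrreducibleSpace C := Subtype.irreducibleSpace hC.1
      exact e.symm.surjective.irreducibleSpace e.symm.continuous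
    refine ⟨isIntegral_of_irreducibleSpace_of_isReduced _, hC1, ?_⟩
    letI : IC.subscheme.Over (Spec (CommRingCat.of k)) := ⟨IC.subschemeι ≫ (X ↘ Spec (CommRingCat.of k))⟩
    haveI : IsProper (IC.subscheme ↘ Spec (CommRingCat.of k)) :=
      inferInstanceAs (IsProper (IC.subschemeι ≫ (X ↘ Spec (CommRingCat.of k))))
    obtain ⟨hdω, -⟩ := CanonDual.deg_dualizing_subcurve hdim hω hinvω IC hC1
    rw [CanonDual.finrank_inter_eq hdim hX IC hC1, hsupp] at hdω
    obtain ⟨e⟩ := H23.PicMul.pull IC.subschemeι (DCoh.dualizingMod (X ↘ Spec (CommRingCat.of k)) h OY 1) N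
    have heq : Curv2.deg k IC.subscheme ((Scheme.Modules.pullback IC.subschemeι).obj M) 1 =
      Curv2.deg k IC.subscheme ((Scheme.Modules.pullback IC.subschemeι).obj (DCoh.dualizingMod (X ↘ Spec (CommRingCat.of k)) h OY 1)) 1 +
        Curv2.deg k IC.subscheme ((Scheme.Modules.pullback IC.subschemeι).obj N) 1 := by
      rw [← CanonDual.deg_tensorMod hC1.le (PicClLib.isInvertible_pullback _ hinvω) (PicClLib.isInvertible_pullback _ hNi)]
      unfold Curv2.deg
      rw [Euler.euler_congr k ((Scheme.Modules.pullback IC.subschemeι).mapIso eM ≪≫ e)]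
    have h1 := CurveReg.subsingleton_h1_closed k hdim.le hg IC.subschemeι
    rw [heq, hdω, hpts, hcard, CanonDual.euler_two hC1.le QCoh.isQCoh_structureModule, SurfRR.finrank_h0_reduced k,
      Module.finrank_zero_of_subsingleton]
    push_cast
    ring
  constructor
  · intro hss
    refine (S14092.result k X hdim hX ?_ M hMi fun J hJ hd => ?_).1
    · exact Module.finrank_zero_of_subsingleton
    haveI := hJ
    have hJC : (J.support : Set X) ∈ irreducibleComponents (X : Type u) := by
      have hirr : IsIrreducible (J.support : Set X) := by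
        rw [← J.range_subschemeι, ← Set.image_univ]
        exact (IrreducibleSpace.isIrreducible_univ _).image _ J.subschemeι.continuous.continuousOn
      obtain ⟨T, hT, hsub⟩ := exists_mem_irreducibleComponents_subset_of_isIrreducible _ hirr
      obtain ⟨η, hη⟩ := QuasiSober.sober hT.1 (isClosed_of_mem_irreducibleComponents T hT)
      obtain ⟨ξ, hξ⟩ := QuasiSober.sober hirr J.support.isClosed
      by_cases hηξ : η = ξ
      · rwa [← hξ.def, ← hηξ, hη.def]
      · refine absurd (CurvePsi.isClosed_of_dim_le_one hdim.le (hη.specializes (hsub hξ.mem)) (Ne.symm hηξ)) ?_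
        intro hc
        rw [← hξ.def, hc.closure_eq] at hd
        haveI : Subsingleton ({ξ} : Set X) := Set.subsingleton_coe _ |>.2 Set.subsingleton_singleton
        haveI : DiscreteTopology ({ξ} : Set X) := inferInstance
        exact absurd (hd ▸ topologicalKrullDim_zero_of_discreteTopology ({ξ} : Set X)) (by norm_num)
    obtain ⟨hi, h1, hdeg⟩ := key _ hJC
    have hJeq : J = Scheme.IdealSheafData.vanishingIdeal (⟨(J.support : Set X), isClosed_of_mem_irreducibleComponents _ hJC⟩ : TopologicalSpace.Closeds X) := by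
      rw [show (⟨(J.support : Set X), isClosed_of_mem_irreducibleComponents _ hJC⟩ : TopologicalSpace.Closeds X) = J.support from rfl]
      exact AlgSpLib.CartierRegular.eq_vanishingIdeal_support J
    generalize (J.support : Set X) = C at hJC hdeg hJeq
    subst hJeq
    rw [hdeg]
    have := hss C hJC
    omega
  · intro hgg E hE
    obtain ⟨hi, h1, hdeg⟩ := key E hE
    haveI := hi
    generalize hIC : Scheme.IdealSheafData.vanishingIdeal (⟨E, isClosed_of_mem_irreducibleComponents E hE⟩ : TopologicalSpace.Closeds X) = IC at hi h1 hdeg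
    letI : IC.subscheme.Over (Spec (CommRingCat.of k)) := ⟨IC.subschemeι ≫ (X ↘ Spec (CommRingCat.of k))⟩
    haveI : IsProper (IC.subscheme ↘ Spec (CommRingCat.of k)) :=
      inferInstanceAs (IsProper (IC.subschemeι ≫ (X ↘ Spec (CommRingCat.of k))))
    haveI := hi
    have := deg_nonneg_of_gg k h1 (PicClLib.isInvertible_pullback IC.subschemeι hMi)
      (GGFF.isGloballyGenerated_pullback IC.subschemeι hgg)
    omega

end Groth.Agent.S16210
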