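import Groth.Statements.S16214
import Groth.Agent.QuotLib.DiagKernel
import Groth.Agent.QuotLib.LocQToSelf

set_option backward.isDefEq.respectTransparency false
set_option backward.isDefEq.respectTransparency.types false
set_option linter.style.haveILetI false
-- import your own Groth.Agent.* helpers here

set_option autoImplicit false
set_option backward.isDefEq.respectTransparency false
set_option backward.isDefEq.respectTransparency.types false
universe u
open CategoryTheory AlgebraicGeometry MonoidalCategory
open AlgSt

namespace Groth.Agent.S16214

/-- Let k be an algebraically closed field and Δ a finite diagonalizable group scheme over k, written Δ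
= D(M) = Spec k[M] for a finite abelian group M. Then the classifying stack BΔ (whose objects over a
k-scheme T are the fppf-locally trivial Δ_T-torsors) is smooth over k, in the chart form: there are
schemes U, V over k, a smooth surjective chart (Sch/U) ⟶ BΔ, a smooth chart (Sch/V) of Spec k and a
smooth U ⟶ V making the chart square commute up to isomorphism. (Δ itself need not be smooth, e.g.
μ_p in characteristic p.) The published statement allows any diagonalizable Δ; this row takes Δ
finite, i.e. M finite, the case its proof treats. -/
theorem result (k : Type u) [Field k] [IsAlgClosed k]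
    (M : Type) [AddCommGroup M] [Finite M] :
    AlgSt.LocQ (AlgSp.LocP @Smooth)
      (FibCat.toSelf (AlgSt.BG Scheme.fppfPrecoverage (Red.diag k M))) := by
    classical
  have : Fintype M := Fintype.ofFinite M
  let f : (M → ℤ) →+ M :=
    { toFun := fun a => ∑ m, a m • m
      map_zero' := by simp
      map_add' := fun a b => by simp [add_smul, Finset.sum_add_distrib] }
  have hf : Function.Surjective f := fun m => ⟨Pi.single m 1, by
    show ∑ x, (Pi.single m 1 : M → ℤ) x • x = m
    rw [Finset.sum_eq_single m (fun x _ hx => by simp [Pi.single_eq_of_ne hx]) (fun h => absurd (Finset.mem_univ m) h)]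
    simp⟩
  haveI := Groth.Agent.S5427.isMonHom_diagMap k f
  haveI := Groth.Agent.S5427.isMonHom_diagMap k f.ker.subtype
  haveI := Groth.Agent.QuotLib.DiagKernel.isClosedImmersion_diagMap k f hf
  obtain ⟨hY, hT⟩ := Groth.Agent.QuotLib.DiagKernel.smooth_ker k f
  haveI : Smooth (Red.diag k f.ker).hom := hY
  haveI : Smooth (Red.diag k (M → ℤ)).hom := hT
  haveI : IsAffineHom (Red.diag k (M → ℤ)).hom := by
    haveI : IsAffine (Red.diag k (M → ℤ)).left := inferInstanceAs (IsAffine (Spec _))
    exact isAffineHom_of_isAffine _
  let aQ := Groth.Agent.QuotLib.DiagKernel.act (Red.diagMap k f.ker.subtype)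
  let aX := AlgSt.trivAction (Red.diag k (M → ℤ))
  have hq := Groth.Agent.QuotLib.BalProd.isQuotientOf
    (Groth.Agent.QuotLib.HomogProd.isBalProd (aX := aX) (Groth.Agent.QuotLib.DiagKernel.isHomog k f hf))
  have ht : aX.restrict (Red.diagMap k f) = AlgSt.trivAction (Red.diag k M) := by
    refine (AlgGrp.Action.mk.injEq ..).mpr ?_
    exact CartesianMonoidalCategory.toUnit_unique _ _
  rw [ht] at hq
  haveI : Smooth (Red.diag k f.ker ⊗ 𝟙_ (Over (Spec (CommRingCat.of k)))).hom := by
    have e := Over.w (ρ_ (Red.diag k f.ker)).hom
    rw [← e]
    infer_instance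
  exact Groth.Agent.QuotLib.LocQToSelf.locQ_of_isQuotientOf (Y := Red.diag k f.ker ⊗ 𝟙_ _) hq

end Groth.Agent.S16214
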