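import Groth.Statements.S16219
-- import your own Groth.Agent.* helpers here
import Groth.Agent.LimDomLib.Basic
import Mathlib

set_option autoImplicit false
universe u
open Lim

set_option backward.isDefEq.respectTransparency false
set_option backward.isDefEq.respectTransparency.types false

namespace Groth.Agent.S16219

open AlgebraicGeometry CategoryTheory in
/-- Let A be a commutative ring, X a scheme of finite type over Spec A (quasi-compact and locally of
finite type), C an A-algebra that is an integral domain and the union of a directed family of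
A-subalgebras C_i, and g : Spec C → X an A-morphism. Then for some index i there is an A-morphism
Spec C_i → X whose composite with the morphism Spec C → Spec C_i induced by the inclusion is g. The
published statement asserts that the map from the colimit of the sets of A-morphisms Spec C_i → X to
the set of A-morphisms Spec C → X is bijective; this row states only that it is surjective
(injectivity holds for every filtered colimit of A-algebras). -/
theorem result
    {ι : Type u} (A C : Type u) [CommRing A] [CommRing C] [Algebra A C] [IsDomain C]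
    (S : ι → Subalgebra A C) (hdir : Directed (· ≤ ·) S) (hcov : ∀ c : C, ∃ i, c ∈ S i)
    (X : Scheme.{u}) (f : X ⟶ Spec (CommRingCat.of A))
    [LocallyOfFiniteType f] [QuasiCompact f]
    (g : Spec (CommRingCat.of C) ⟶ X)
    (hg : g ≫ f = Spec.map (CommRingCat.ofHom (algebraMap A C))) :
    ∃ (i : ι) (g' : Spec (CommRingCat.of (S i)) ⟶ X),
      g' ≫ f = Spec.map (CommRingCat.ofHom (algebraMap A (S i))) ∧
      Spec.map (CommRingCat.ofHom (S i).val.toRingHom) ≫ g' = g := by
  classical
  haveI : Nonempty ι := let ⟨i, _⟩ := hcov 0; ⟨i⟩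
  let J : Type u := {T : Subalgebra A C // T ∈ Set.range S}
  haveI : Nonempty J := ⟨⟨S (Classical.arbitrary ι), _, rfl⟩⟩
  haveI : IsDirectedOrder J := ⟨fun a b => by
    obtain ⟨i, hi⟩ := a.2
    obtain ⟨j, hj⟩ := b.2
    obtain ⟨k, hki, hkj⟩ := hdir i j
    exact ⟨⟨S k, k, rfl⟩, (hi ▸ hki : a.1 ≤ S k), (hj ▸ hkj : b.1 ≤ S k)⟩⟩
  let F : J ⥤ CommRingCat.{u} :=
    { obj := fun T => CommRingCat.of T.1
      map := fun {T T'} h => CommRingCat.ofHom (Subalgebra.inclusion (leOfHom h : T.1 ≤ T'.1)).toRingHom }
  let co : Limits.Cocone F :=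
    { pt := CommRingCat.of C
      ι := { app := fun T => CommRingCat.ofHom T.1.val.toRingHom } }
  have hco : Limits.IsColimit co := by
    haveI : Limits.ReflectsColimit F (forget CommRingCat.{u}) := Limits.reflectsColimit_of_reflectsIsomorphisms _ _
    refine Limits.isColimitOfReflects (forget CommRingCat.{u}) ?_
    refine Limits.Types.FilteredColimit.isColimitOf' _ _ (fun z => ?_) fun T x y h => ?_
    · obtain ⟨i, hi⟩ := hcov z
      exact ⟨⟨S i, i, rfl⟩, ⟨z, hi⟩, rfl⟩
    · exact ⟨T, 𝟙 T, congrArg _ (Subtype.ext h)⟩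
  let D : Jᵒᵖ ⥤ Scheme.{u} := F.op ⋙ Scheme.Spec
  let c : Limits.Cone D := Scheme.Spec.mapCone co.op
  have hc : Limits.IsLimit c := Limits.isLimitOfPreserves Scheme.Spec hco.op
  haveI : ∀ i, IsAffine (D.obj i) := fun i => isAffine_Spec (CommRingCat.of i.unop.1)
  haveI : ∀ {i j : Jᵒᵖ} (h : i ⟶ j), IsAffineHom (D.map h) := fun h => isAffineHom_of_isAffine _
  haveI : ∀ i, CompactSpace (D.obj i) := fun i => inferInstance
  haveI : ∀ i, QuasiSeparatedSpace (D.obj i) := fun i => inferInstance
  let t : D ⟶ (Functor.const Jᵒᵖ).obj (Spec (CommRingCat.of A)) :=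
    { app := fun i => Spec.map (CommRingCat.ofHom (algebraMap A i.unop.1))
      naturality := fun i j h => by
        show Spec.map _ ≫ Spec.map _ = _ ≫ 𝟙 _
        rw [Category.comp_id, ← Spec.map_comp]
        rfl }
  have hπ : ∀ i, IsSchemeTheoreticallyDominant (c.π.app i) := fun i => by
    let T := i.unop.1
    show IsSchemeTheoreticallyDominant (Spec.map (CommRingCat.ofHom T.val.toRingHom))
    haveI : IsDomain T := inferInstance
    haveI : IsReduced (Spec (CommRingCat.of T)) := inferInstance
    haveI : IsDominant (Spec.map (CommRingCat.ofHom T.val.toRingHom)) :=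
      ⟨(PrimeSpectrum.denseRange_comap_iff_ker_le_nilRadical T.val.toRingHom).2
        (((RingHom.injective_iff_ker_eq_bot _).1 Subtype.val_injective).le.trans bot_le)⟩
    exact IsSchemeTheoreticallyDominant.of_isDominant _
  obtain ⟨i, g', h1, h2⟩ := Groth.Agent.LimDomLib.exists_π_app_comp_eq_of_locallyOfFiniteType D t f c hc hπ g (by
    refine NatTrans.ext (funext fun i => ?_)
    show Spec.map _ ≫ Spec.map _ = g ≫ f
    rw [hg, ← Spec.map_comp]
    rfl)
  obtain ⟨⟨T, k, rfl⟩⟩ := i
  exact ⟨k, g', h2, h1⟩

end Groth.Agent.S16219
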