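import Groth.Statements.S16223
import Groth.Agent.DescLib.ModDesc.Eval
import Mathlib.RingTheory.TensorProduct.IncludeLeftSubRight
import Mathlib.RingTheory.Flat.FaithfullyFlat.Algebra

set_option autoImplicit false
set_option backward.isDefEq.respectTransparency false
set_option backward.isDefEq.respectTransparency.types false
set_option linter.style.haveILetI false
open CategoryTheory Opposite
universe u
open CAlg

namespace Groth.Agent.S16223

section

open Groth.Agent.DescLib.ModDesc TensorProduct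

theorem exists_one_eq_gen {X Y Z : CommRingCat.{u}ᵒᵖ} (f : Y ⟶ X) (g₁ g₂ : Z ⟶ Y) (h : Z ⟶ X)
    (e₁ : g₁ ≫ f = h) (e₂ : g₂ ≫ f = h)
    (hex : ∀ y : Y.unop, g₁.unop y = g₂.unop y → ∃ x, f.unop x = y)
    (M : ModuleCat.{u} X.unop) [Module.Flat X.unop M]
    (k₁ : (ES g₁).obj ((ES f).obj M) ⟶ (ES h).obj M) (hk₁ : ∀ m, k₁ (one g₁ _ (one f M m)) = one h M m)
    (k₂ : (ES g₂).obj ((ES f).obj M) ⟶ (ES h).obj M) (hk₂ : ∀ m, k₂ (one g₂ _ (one f M m)) = one h M m)
    (z : (ES f).obj M) (hz : k₁ (one g₁ _ z) = k₂ (one g₂ _ z)) : ∃ m : M, one f M m = z := by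
  have key : ∀ (g : Z ⟶ Y) (k : (ES g).obj ((ES f).obj M) ⟶ (ES h).obj M),
      (∀ m, k (one g _ (one f M m)) = one h M m) →
        k (one g _ 0) = 0 ∧ (∀ y m, k (one g _ (tm f M y m)) = tm h M (g.unop y) m) ∧
          ∀ x y, k (one g _ (x + y)) = k (one g _ x) + k (one g _ y) := by
    intro g k hk
    exact ⟨by rw [one_zero, map_zero], fun y m => by rw [tm_eq, one_smul', map_smul, hk, ← tm_eq],
      fun x y => by rw [one_add, map_add]⟩
  letI : Algebra X.unop Y.unop := f.unop.hom.toAlgebra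
  letI : Algebra X.unop Z.unop := h.unop.hom.toAlgebra
  have he : ∀ (g : Z ⟶ Y), g ≫ f = h → ∀ r : X.unop, g.unop (f.unop r) = h.unop r := fun g e r => by
    rw [← e, unop_comp, CommRingCat.comp_apply]
  let a : ∀ (g : Z ⟶ Y), g ≫ f = h → (Y.unop →ₐ[X.unop] Z.unop) := fun g e =>
    { g.unop.hom with commutes' := he g e }
  let δ : Y.unop →ₗ[X.unop] Z.unop := (a g₁ e₁).toLinearMap - (a g₂ e₂).toLinearMap
  have hδ0 : Function.Exact (Algebra.linearMap X.unop Y.unop) δ := by
    intro y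
    refine ⟨fun hy => hex y (sub_eq_zero.1 hy), ?_⟩
    rintro ⟨r, rfl⟩
    exact sub_eq_zero.2 ((he g₁ e₁ r).trans (he g₂ e₂ r).symm)
  have hb : ∀ (g : Z ⟶ Y) (e : g ≫ f = h) (k : (ES g).obj ((ES f).obj M) ⟶ (ES h).obj M),
      (∀ m, k (one g _ (one f M m)) = one h M m) → ∀ (y : (ES f).obj M),
      (a g e).toLinearMap.rTensor M (y : Y.unop ⊗[X.unop] M) = k (one g _ y) := by
    intro g e k hk y
    induction y using es_induction with
    | h0 => exact (map_zero ((a g e).toLinearMap.rTensor M)).trans (key g k hk).1.symm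
    | h1 w m => exact ((key g k hk).2.1 w m).symm
    | h2 x y hx hy =>
      exact (map_add ((a g e).toLinearMap.rTensor M) x y).trans
        ((congrArg₂ (· + ·) hx hy).trans ((key g k hk).2.2 x y).symm)
  have hd : ((a g₁ e₁).toLinearMap.rTensor M) (z : Y.unop ⊗[X.unop] M) =
      ((a g₂ e₂).toLinearMap.rTensor M) (z : Y.unop ⊗[X.unop] M) := by
    rw [hb g₁ e₁ k₁ hk₁, hb g₂ e₂ k₂ hk₂, hz]
  have h0 : δ.rTensor M (z : Y.unop ⊗[X.unop] M) = 0 := by
    rw [LinearMap.rTensor_sub, LinearMap.sub_apply, hd, sub_self]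
  obtain ⟨v, hv⟩ := (Module.Flat.rTensor_exact M hδ0 _).1 h0
  refine ⟨TensorProduct.lid X.unop M v, ?_⟩
  refine Eq.trans ?_ hv
  obtain ⟨m, rfl⟩ := (TensorProduct.lid X.unop M).symm.surjective v
  show (1 : Y.unop) ⊗ₜ[X.unop] _ = _
  simp

theorem comm_gen {C : Type*} [Category* C] (F : Pseudofunctor (LocallyDiscrete Cᵒᵖ) Cat) {S X Y : C}
    (f : X ⟶ S) (M N : F.obj (.mk (op S)))
    (φ : (F.toDescentData (fun _ : PUnit.{u + 1} => f)).obj M ⟶ (F.toDescentData (fun _ : PUnit.{u + 1} => f)).obj N)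
    (q : Y ⟶ S) (g₁ g₂ : Y ⟶ X) (e₁ : g₁ ≫ f = q) (e₂ : g₂ ≫ f = q) :
    (F.map g₁.op.toLoc).toFunctor.map (φ.hom PUnit.unit) ≫
      (F.mapComp' f.op.toLoc g₁.op.toLoc q.op.toLoc (by subst e₁; rfl)).inv.toNatTrans.app N ≫
      (F.mapComp' f.op.toLoc g₂.op.toLoc q.op.toLoc (by subst e₂; rfl)).hom.toNatTrans.app N =
    ((F.mapComp' f.op.toLoc g₁.op.toLoc q.op.toLoc (by subst e₁; rfl)).inv.toNatTrans.app M ≫
      (F.mapComp' f.op.toLoc g₂.op.toLoc q.op.toLoc (by subst e₂; rfl)).hom.toNatTrans.app M) ≫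
      (F.map g₂.op.toLoc).toFunctor.map (φ.hom PUnit.unit) :=
  φ.comm q (i₁ := PUnit.unit) (i₂ := PUnit.unit) g₁ g₂ e₁ e₂

theorem comp_toPseudofunctor_mapComp' {C D : Type*} [Category* C] [Category* D] (W : C ⥤ D)
    (G : Pseudofunctor (LocallyDiscrete D) Cat.{u, u + 1}) {a b c : C} (f : a ⟶ b) (g : b ⟶ c) (h : a ⟶ c)
    (e : f.toLoc ≫ g.toLoc = h.toLoc) (e' : (W.map f).toLoc ≫ (W.map g).toLoc = (W.map h).toLoc) :
    (W.toPseudofunctor.comp G).mapComp' f.toLoc g.toLoc h.toLoc e =
      G.mapComp' (W.map f).toLoc (W.map g).toLoc (W.map h).toLoc e' := by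
  have : h = f ≫ g := by
    have := congrArg (fun x => x.as) e
    exact this.symm
  subst this
  first | rfl | (ext M; simp [Pseudofunctor.mapComp', Pseudofunctor.comp, Functor.toPseudofunctor]; erw [Category.id_comp]; rfl)

theorem comp_mapComp'_app_hom (W : CommRingCat.{u} ⥤ CommRingCat.{u})
    (G : Pseudofunctor (LocallyDiscrete CommRingCat.{u}) Cat.{u, u + 1}) {X Y Z : CommRingCat.{u}ᵒᵖ}
    (f : Y ⟶ X) (g : Z ⟶ Y) (M : G.obj (.mk (W.obj X.unop)))
    (e : f.op.toLoc ≫ g.op.toLoc = (g ≫ f).op.toLoc)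
    (e' : ((W.map f.unop).op).op.toLoc ≫ ((W.map g.unop).op).op.toLoc =
      ((W.map (g ≫ f).unop).op).op.toLoc) :
    ((((unopUnop CommRingCat.{u}) ⋙ W).toPseudofunctor.comp G).mapComp' f.op.toLoc g.op.toLoc
        (g ≫ f).op.toLoc e).hom.toNatTrans.app M =
      (((unopUnop CommRingCat.{u}).toPseudofunctor.comp G).mapComp' ((W.map f.unop).op).op.toLoc
        ((W.map g.unop).op).op.toLoc ((W.map (g ≫ f).unop).op).op.toLoc e').hom.toNatTrans.app M :=
  (congrArg (fun i => i.hom.toNatTrans.app M) (comp_toPseudofunctor_mapComp' ((unopUnop CommRingCat.{u}) ⋙ W)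
    G f.op g.op (g ≫ f).op e
      (congrArg Quiver.Hom.toLoc (Functor.map_comp ((unopUnop CommRingCat.{u}) ⋙ W) f.op g.op).symm))).trans
    (congrArg (fun i => i.hom.toNatTrans.app M) (comp_toPseudofunctor_mapComp' (unopUnop CommRingCat.{u})
      G ((W.map f.unop).op).op ((W.map g.unop).op).op ((W.map (g ≫ f).unop).op).op e' _)).symm

theorem comp_mapComp'_app_inv (W : CommRingCat.{u} ⥤ CommRingCat.{u})
    (G : Pseudofunctor (LocallyDiscrete CommRingCat.{u}) Cat.{u, u + 1}) {X Y Z : CommRingCat.{u}ᵒᵖ}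
    (f : Y ⟶ X) (g : Z ⟶ Y) (M : G.obj (.mk (W.obj X.unop)))
    (e : f.op.toLoc ≫ g.op.toLoc = (g ≫ f).op.toLoc)
    (e' : ((W.map f.unop).op).op.toLoc ≫ ((W.map g.unop).op).op.toLoc =
      ((W.map (g ≫ f).unop).op).op.toLoc) :
    ((((unopUnop CommRingCat.{u}) ⋙ W).toPseudofunctor.comp G).mapComp' f.op.toLoc g.op.toLoc
        (g ≫ f).op.toLoc e).inv.toNatTrans.app M =
      (((unopUnop CommRingCat.{u}).toPseudofunctor.comp G).mapComp' ((W.map f.unop).op).op.toLoc
        ((W.map g.unop).op).op.toLoc ((W.map (g ≫ f).unop).op).op.toLoc e').inv.toNatTrans.app M :=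
  (congrArg (fun i => i.inv.toNatTrans.app M) (comp_toPseudofunctor_mapComp' ((unopUnop CommRingCat.{u}) ⋙ W)
    G f.op g.op (g ≫ f).op e
      (congrArg Quiver.Hom.toLoc (Functor.map_comp ((unopUnop CommRingCat.{u}) ⋙ W) f.op g.op).symm))).trans
    (congrArg (fun i => i.inv.toNatTrans.app M) (comp_toPseudofunctor_mapComp' (unopUnop CommRingCat.{u})
      G ((W.map f.unop).op).op ((W.map g.unop).op).op ((W.map (g ≫ f).unop).op).op e' _)).symm

theorem comm_G (W : CommRingCat.{u} ⥤ CommRingCat.{u})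
    (G : Pseudofunctor (LocallyDiscrete CommRingCat.{u}) Cat.{u, u + 1}) {S X Y : CommRingCat.{u}ᵒᵖ}
    (f : X ⟶ S) (g₁ g₂ : Y ⟶ X) (h : Y ⟶ S) (e₁ : g₁ ≫ f = h) (e₂ : g₂ ≫ f = h)
    (M N : G.obj (.mk (W.obj S.unop)))
    (φ : (((unopUnop CommRingCat.{u} ⋙ W).toPseudofunctor.comp G).toDescentData (fun _ : PUnit.{u + 1} => f)).obj M ⟶
      (((unopUnop CommRingCat.{u} ⋙ W).toPseudofunctor.comp G).toDescentData (fun _ : PUnit.{u + 1} => f)).obj N)
    (φ' : (((unopUnop CommRingCat.{u}).toPseudofunctor.comp G).map ((W.map f.unop).op).op.toLoc).toFunctor.obj M ⟶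
      (((unopUnop CommRingCat.{u}).toPseudofunctor.comp G).map ((W.map f.unop).op).op.toLoc).toFunctor.obj N)
    (hφ : φ.hom PUnit.unit = φ')
    (k₁ : ((W.map f.unop).op).op.toLoc ≫ ((W.map g₁.unop).op).op.toLoc = ((W.map h.unop).op).op.toLoc)
    (k₂ : ((W.map f.unop).op).op.toLoc ≫ ((W.map g₂.unop).op).op.toLoc = ((W.map h.unop).op).op.toLoc) :
    (((unopUnop CommRingCat.{u}).toPseudofunctor.comp G).map ((W.map g₁.unop).op).op.toLoc).toFunctor.map φ' ≫
      (((unopUnop CommRingCat.{u}).toPseudofunctor.comp G).mapComp' ((W.map f.unop).op).op.toLoc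
        ((W.map g₁.unop).op).op.toLoc ((W.map h.unop).op).op.toLoc k₁).inv.toNatTrans.app N ≫
      (((unopUnop CommRingCat.{u}).toPseudofunctor.comp G).mapComp' ((W.map f.unop).op).op.toLoc
        ((W.map g₂.unop).op).op.toLoc ((W.map h.unop).op).op.toLoc k₂).hom.toNatTrans.app N =
    ((((unopUnop CommRingCat.{u}).toPseudofunctor.comp G).mapComp' ((W.map f.unop).op).op.toLoc
        ((W.map g₁.unop).op).op.toLoc ((W.map h.unop).op).op.toLoc k₁).inv.toNatTrans.app M ≫
      (((unopUnop CommRingCat.{u}).toPseudofunctor.comp G).mapComp' ((W.map f.unop).op).op.toLoc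
        ((W.map g₂.unop).op).op.toLoc ((W.map h.unop).op).op.toLoc k₂).hom.toNatTrans.app M) ≫
      (((unopUnop CommRingCat.{u}).toPseudofunctor.comp G).map ((W.map g₂.unop).op).op.toLoc).toFunctor.map φ' := by
  subst hφ
  have hk := comm_gen ((unopUnop CommRingCat.{u} ⋙ W).toPseudofunctor.comp G) f M N φ h g₁ g₂ e₁ e₂
  have aux : ∀ (g : Y ⟶ X) (e : g ≫ f = h) (M : G.obj (.mk (W.obj S.unop))) (k k'),
      (((unopUnop CommRingCat.{u} ⋙ W).toPseudofunctor.comp G).mapComp' f.op.toLoc g.op.toLoc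
          h.op.toLoc k).hom.toNatTrans.app M =
        (((unopUnop CommRingCat.{u}).toPseudofunctor.comp G).mapComp' ((W.map f.unop).op).op.toLoc
          ((W.map g.unop).op).op.toLoc ((W.map h.unop).op).op.toLoc k').hom.toNatTrans.app M ∧
      (((unopUnop CommRingCat.{u} ⋙ W).toPseudofunctor.comp G).mapComp' f.op.toLoc g.op.toLoc
          h.op.toLoc k).inv.toNatTrans.app M =
        (((unopUnop CommRingCat.{u}).toPseudofunctor.comp G).mapComp' ((W.map f.unop).op).op.toLoc
          ((W.map g.unop).op).op.toLoc ((W.map h.unop).op).op.toLoc k').inv.toNatTrans.app M := by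
    intro g e M k k'
    subst e
    exact ⟨comp_mapComp'_app_hom W G f g M k k', comp_mapComp'_app_inv W G f g M k k'⟩
  rw [(aux g₁ e₁ N _ k₁).2, (aux g₂ e₂ N _ k₂).1, (aux g₁ e₁ M _ k₁).2, (aux g₂ e₂ M _ k₂).1] at hk
  exact hk

variable (W : CommRingCat.{u} ⥤ CommRingCat.{u})

/-- The action of `W` on morphisms of affine schemes. -/
noncomputable abbrev Wop {X Y : CommRingCat.{u}ᵒᵖ} (f : Y ⟶ X) :
    op (W.obj Y.unop) ⟶ op (W.obj X.unop) :=
  (W.map f.unop).op

theorem Wop_comp {X Y Z : CommRingCat.{u}ᵒᵖ} (f : Y ⟶ X) (g : Z ⟶ Y) {h : Z ⟶ X} (e : g ≫ f = h) :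
    Wop W g ≫ Wop W f = Wop W h := by
  subst e
  simp [Wop, ← op_comp, ← Functor.map_comp]

/-- Modules over `W` as a pseudofunctor. -/
noncomputable abbrev FW : Pseudofunctor (LocallyDiscrete (CommRingCat.{u}ᵒᵖ)ᵒᵖ) Cat.{u, u + 1} :=
  ((unopUnop CommRingCat.{u}) ⋙ W).toPseudofunctor.comp
    CommRingCat.moduleCatExtendScalarsPseudofunctor.{u}

variable {R R' : Type u} [CommRing R] [CommRing R'] [Algebra R R']

variable (R R') in
/-- The morphism of affine schemes. -/
noncomputable abbrev pr : op (CommRingCat.of R') ⟶ op (CommRingCat.of R) :=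
  (CommRingCat.ofHom (algebraMap R R')).op

variable (R R') in
/-- The first projection. -/
noncomputable abbrev q₁ : op (CommRingCat.of (R' ⊗[R] R')) ⟶ op (CommRingCat.of R') :=
  (CommRingCat.ofHom Algebra.TensorProduct.includeLeftRingHom).op

variable (R R') in
/-- The second projection. -/
noncomputable abbrev q₂ : op (CommRingCat.of (R' ⊗[R] R')) ⟶ op (CommRingCat.of R') :=
  (CommRingCat.ofHom (Algebra.TensorProduct.includeRight (R := R) (A := R') (B := R')).toRingHom).op

variable (R R') in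
/-- The structure map of the double product. -/
noncomputable abbrev q₀ : op (CommRingCat.of (R' ⊗[R] R')) ⟶ op (CommRingCat.of R) :=
  (CommRingCat.ofHom (algebraMap R (R' ⊗[R] R'))).op

theorem q₁_pr : q₁ R R' ≫ pr R R' = q₀ R R' := rfl

theorem q₂_pr : q₂ R R' ≫ pr R R' = q₀ R R' := by
  refine Quiver.Hom.unop_inj (CommRingCat.hom_ext (RingHom.ext fun r => ?_))
  exact (Algebra.TensorProduct.tmul_one_eq_one_tmul r).symm

theorem compat (M N : ModuleCat.{u} (op (W.obj (CommRingCat.of R))).unop)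
    (φ : ((FW W).toDescentData (fun _ : PUnit.{u + 1} => pr R R')).obj M ⟶
      ((FW W).toDescentData (fun _ : PUnit.{u + 1} => pr R R')).obj N) (m : M)
    (φ' : (ES (Wop W (pr R R'))).obj M ⟶ (ES (Wop W (pr R R'))).obj N) (hφ : φ.hom PUnit.unit = φ')
    (z : (ES (Wop W (pr R R'))).obj N) (hz : φ' (one (Wop W (pr R R')) M m) = z) :
    compInv (Wop W (pr R R')) N (Wop W (q₁ R R')) (Wop_comp W _ _ q₁_pr) (one _ _ z) =
      compInv (Wop W (pr R R')) N (Wop W (q₂ R R')) (Wop_comp W _ _ q₂_pr) (one _ _ z) := by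
  have h : (ES (Wop W (q₁ R R'))).map φ' ≫
      compInv (Wop W (pr R R')) N (Wop W (q₁ R R')) (Wop_comp W _ _ q₁_pr) ≫
      compHom (Wop W (pr R R')) N (Wop W (q₂ R R')) (Wop_comp W _ _ q₂_pr) =
      (compInv (Wop W (pr R R')) M (Wop W (q₁ R R')) (Wop_comp W _ _ q₁_pr) ≫
        compHom (Wop W (pr R R')) M (Wop W (q₂ R R')) (Wop_comp W _ _ q₂_pr)) ≫
        (ES (Wop W (q₂ R R'))).map φ' :=
    comm_G W CommRingCat.moduleCatExtendScalarsPseudofunctor.{u} (pr R R') (q₁ R R') (q₂ R R') (q₀ R R')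
      q₁_pr q₂_pr M N φ φ' hφ
      (congrArg (fun x : op (W.obj (CommRingCat.of (R' ⊗[R] R'))) ⟶ op (W.obj (CommRingCat.of R)) => x.op.toLoc)
        (Wop_comp W (pr R R') (q₁ R R') q₁_pr))
      (congrArg (fun x : op (W.obj (CommRingCat.of (R' ⊗[R] R'))) ⟶ op (W.obj (CommRingCat.of R)) => x.op.toLoc)
        (Wop_comp W (pr R R') (q₂ R R') q₂_pr))
  have h1 := congrArg (fun k : (ES (Wop W (q₁ R R'))).obj ((ES (Wop W (pr R R'))).obj M) ⟶
    (ES (Wop W (q₂ R R'))).obj ((ES (Wop W (pr R R'))).obj N) => k (one _ _ (one (Wop W (pr R R')) M m))) h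
  simp only [CategoryTheory.comp_apply] at h1
  rw [es_map_tm, compInv_one, compHom_one, es_map_tm, hz] at h1
  have h2 := congrArg (compInv (Wop W (pr R R')) N (Wop W (q₂ R R')) (Wop_comp W _ _ q₂_pr)) h1
  rw [← CategoryTheory.comp_apply, compHom_inv] at h2
  exact h2

theorem map_bijective (M N : (FW W).obj (.mk (op (op (CommRingCat.of R)))))
    (hN : ∀ N' : ModuleCat.{u} (op (W.obj (CommRingCat.of R))).unop, HEq N' N →
      Module.Flat (op (W.obj (CommRingCat.of R))).unop N' ∧ Function.Injective (one (Wop W (pr R R')) N'))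
    (hex : ∀ y, (Wop W (q₁ R R')).unop y = (Wop W (q₂ R R')).unop y → ∃ x, (Wop W (pr R R')).unop x = y) :
    Function.Bijective (fun φ : M ⟶ N =>
      ((FW W).toDescentData (fun _ : PUnit.{u + 1} => (CommRingCat.ofHom (algebraMap R R')).op)).map φ) := by
  let M₀ : ModuleCat.{u} (op (W.obj (CommRingCat.of R))).unop := M
  let N₀ : ModuleCat.{u} (op (W.obj (CommRingCat.of R))).unop := N
  obtain ⟨hflat, hinj⟩ := hN N₀ HEq.rfl
  haveI := hflat
  constructor
  · intro a b e
    refine ModuleCat.hom_ext (LinearMap.ext fun m => hinj ?_)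
    exact congrArg (fun k : (ES (Wop W (pr R R'))).obj M₀ ⟶ (ES (Wop W (pr R R'))).obj N₀ =>
      k (one (Wop W (pr R R')) M₀ m)) (congrArg (fun φ => φ.hom PUnit.unit) e)
  · intro φ
    let φ' : (ES (Wop W (pr R R'))).obj M₀ ⟶ (ES (Wop W (pr R R'))).obj N₀ := φ.hom PUnit.unit
    choose a ha using fun m : M₀ => exists_one_eq_gen (Wop W (pr R R')) (Wop W (q₁ R R')) (Wop W (q₂ R R'))
      (Wop W (q₀ R R')) (Wop_comp W _ _ q₁_pr) (Wop_comp W _ _ q₂_pr) hex N₀
      _ (compInv_one (Wop_comp W (pr R R') (q₁ R R') q₁_pr)) _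
      (compInv_one (Wop_comp W (pr R R') (q₂ R R') q₂_pr)) _
      (compat W M₀ N₀ φ m φ' rfl (φ' (one (Wop W (pr R R')) M₀ m)) rfl)
    refine ⟨(ModuleCat.ofHom
      { toFun := a
        map_add' := fun m m' => hinj (by
          rw [ha, one_add, map_add, one_add, ha, ha])
        map_smul' := fun r m => hinj (by
          rw [ha, RingHom.id_apply, one_smul', map_smul, one_smul', ha]) } : M₀ ⟶ N₀), ?_⟩
    refine Pseudofunctor.DescentData.hom_ext fun i => ?_
    cases i
    show (ES (Wop W (pr R R'))).map _ = φ'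
    refine es_hom_ext fun m => ?_
    rw [es_map_tm]
    exact ha m

theorem map_bij_of_eq (F : Pseudofunctor (LocallyDiscrete (CommRingCat.{u}ᵒᵖ)ᵒᵖ) Cat.{u, u + 1}) (hF : F = FW W)
    (M N : F.obj (.mk (op (op (CommRingCat.of R)))))
    (hN : ∀ N' : ModuleCat.{u} (op (W.obj (CommRingCat.of R))).unop, HEq N' N →
      Module.Flat (op (W.obj (CommRingCat.of R))).unop N' ∧ Function.Injective (one (Wop W (pr R R')) N'))
    (hex : ∀ y, (Wop W (q₁ R R')).unop y = (Wop W (q₂ R R')).unop y → ∃ x, (Wop W (pr R R')).unop x = y) :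
    Function.Bijective (fun φ : M ⟶ N =>
      (F.toDescentData (fun _ : PUnit.{u + 1} => (CommRingCat.ofHom (algebraMap R R')).op)).map φ) := by
  subst hF
  exact map_bijective W M N hN hex

end

section

open TensorProduct Groth.Agent.DescLib.ModDesc

variable {p : ℕ} [Fact p.Prime] {n : ℕ} {R R' : Type u} [CommRing R] [CommRing R'] [Algebra R R']

theorem exact_witt [Module.FaithfullyFlat R R'] :
    letI := (WittGrp.truncMap p n (algebraMap R R')).toAlgebra
    letI := (WittGrp.truncMap p n (algebraMap R (R' ⊗[R] R'))).toAlgebra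
    ∀ x : TruncatedWittVector p n R',
      WittGrp.truncMap p n (Algebra.TensorProduct.includeLeftRingHom : R' →+* R' ⊗[R] R') x =
        WittGrp.truncMap p n (Algebra.TensorProduct.includeRight (R := R) (A := R') (B := R')).toRingHom x →
      ∃ y, WittGrp.truncMap p n (algebraMap R R') y = x := by
  intro x hx
  have hc : ∀ i, ∃ r : R, algebraMap R R' r = x.coeff i := by
    intro i
    have h1 := congrArg (fun w => TruncatedWittVector.coeff i w) hx
    simp only [WittGrp.coeff_truncMap] at h1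
    obtain ⟨r, hr⟩ := (Algebra.codRestrictEqLocusPushoutCocone.bijective_of_faithfullyFlat R R').2
      ⟨x.coeff i, h1⟩
    exact ⟨r, congrArg Subtype.val hr⟩
  choose r hr using hc
  exact ⟨TruncatedWittVector.mk p r, TruncatedWittVector.ext fun i => by
    rw [WittGrp.coeff_truncMap, TruncatedWittVector.coeff_mk, hr]⟩

theorem injective_witt [Module.FaithfullyFlat R R'] :
    Function.Injective (WittGrp.truncMap p n (algebraMap R R')) := fun x y h =>
  TruncatedWittVector.ext fun i => FaithfulSMul.algebraMap_injective R R' (by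
    simpa only [WittGrp.coeff_truncMap] using congrArg (fun w => TruncatedWittVector.coeff i w) h)

theorem one_witt_injective [Module.FaithfullyFlat R R'] (N : ModuleCat.{u} (TruncatedWittVector p n R))
    [Module.Projective (TruncatedWittVector p n R) N] :
    Function.Injective (one (Wop (W4c3truncdispsmooth.wittTrunc p n) (pr R R')) N) := by
  let W := TruncatedWittVector p n R
  letI : Algebra W (TruncatedWittVector p n R') := (WittGrp.truncMap p n (algebraMap R R')).toAlgebra
  have h1 : Function.Injective ((Algebra.linearMap W (TruncatedWittVector p n R')).rTensor N) :=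
    Module.Flat.rTensor_preserves_injective_linearMap _ injective_witt
  intro a b hab
  have h2 : ((Algebra.linearMap W (TruncatedWittVector p n R')).rTensor N) ((1 : W) ⊗ₜ a) =
      ((Algebra.linearMap W (TruncatedWittVector p n R')).rTensor N) ((1 : W) ⊗ₜ b) := by
    rw [LinearMap.rTensor_tmul, LinearMap.rTensor_tmul, Algebra.linearMap_apply, map_one]
    exact hab
  have := congrArg (TensorProduct.lid W N) (h1 h2)
  simpa using this

end

/-- Let p be a prime, n a natural number, and R → R' a faithfully flat homomorphism of commutative rings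
in which p is nilpotent; write W_n for truncated Witt vectors of length n. A descent datum of
W_n(R')-modules relative to R → R' is a W_n(R')-module M' with, for every ring T and every pair of
maps R' ⇉ T agreeing on R, an isomorphism between the two base changes of M' to W_n(T), natural in T
and satisfying the cocycle condition (equivalently an isomorphism over W_n(R' ⊗_R R') with the
cocycle condition over W_n(R' ⊗_R R' ⊗_R R')); base change W_n(R') ⊗_{W_n(R)} M of a W_n(R)-module M
carries the canonical such datum. Then for finitely generated projective W_n(R)-modules M and N, the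
map sending a W_n(R)-linear map M → N to the induced morphism of canonical descent data is bijective
(the functor to descent data is fully faithful on such modules). -/
theorem result (p : ℕ) [Fact p.Prime] (n : ℕ)
    (R R' : Type u) [CommRing R] [CommRing R'] [Algebra R R'] [Module.FaithfullyFlat R R']
    (hp : IsNilpotent (p : R))
    (M N : ModuleCat.{u} (TruncatedWittVector p n R))
    [Module.Finite (TruncatedWittVector p n R) M] [Module.Projective (TruncatedWittVector p n R) M]
    [Module.Finite (TruncatedWittVector p n R) N] [Module.Projective (TruncatedWittVector p n R) N] :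
    Function.Bijective (fun φ : M ⟶ N =>
      ((W4c3truncdispsmooth.wittModPF.{u} p n).toDescentData (fun _ : PUnit.{u + 1} => (CommRingCat.ofHom (algebraMap R R')).op)).map φ) := by
  refine map_bij_of_eq (W4c3truncdispsmooth.wittTrunc p n) (W4c3truncdispsmooth.wittModPF.{u} p n) rfl M N ?_
    (fun y hy => exact_witt y hy)
  intro N' h
  cases eq_of_heq h
  exact ⟨(inferInstance : Module.Flat (TruncatedWittVector p n R) N), one_witt_injective N⟩

end Groth.Agent.S16223
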