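import Groth.Statements.S16240
import Groth.Agent.KZ.LFRes
import Groth.Agent.CurveCohLib.SubBundle
-- import your own Groth.Agent.* helpers here

set_option autoImplicit false
universe u
open CategoryTheory CategoryTheory.Limits AlgebraicGeometry
open Coh

namespace Groth.Agent.S16240

/-- Let X be a Noetherian scheme all of whose local rings are regular, of (topological Krull) dimension
at most m, and let S be an exact sequence of O_X-modules G ⟶ E_m ⟶ ⋯ ⟶ E_1 ⟶ F with m + 2 terms (G
in position 0, F in position m + 1), injective at the first map and surjective at the last, in which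
F is coherent and E_1, …, E_m are finite locally free. Then G is finite locally free. (The source
asks for p + 1 vector bundles with p ≥ dim X − 1, i.e. at least dim X of them, and finite dimension;
here m bounds the dimension.) -/
theorem result (X : Scheme.{u}) [IsNoetherian X]
    (hreg : ∀ x : X, IsRegularLocalRing (X.presheaf.stalk x)) (m : ℕ)
    (hdim : topologicalKrullDim ↥X ≤ (m : WithBot ℕ∞))
    (S : ComposableArrows X.Modules (m + 1)) (hS : S.Exact)
    (hmono : Mono (S.map' 0 1 (Nat.zero_le 1) (Nat.le_add_left 1 m)))
    (hepi : Epi (S.map' m (m + 1) (Nat.le_succ m) (le_refl (m + 1))))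
    (hE : ∀ i : Fin m, FlatMod.IsFinLocFree (S.obj ⟨i.1 + 1, Nat.succ_lt_succ (Nat.lt_succ_of_lt i.2)⟩))
    (hF : Coh.IsCoh (S.obj (Fin.last (m + 1)))) :
    FlatMod.IsFinLocFree (S.obj 0) := by
    open KZ KZ.LFRes in
    haveI := hE
    classical
    have hpdF : PDLT (m + 1) (S.obj (Fin.last (m + 1))) := ⟨hF, fun x => by
      haveI := hreg x
      haveI : Module.Finite (X.presheaf.stalk x) (stk (S.obj (Fin.last (m + 1))) x) :=
        QCoh.finite_stalk_of_isFT hF.1 hF.2 x
      have hle : (IsLocalRing.maximalIdeal (X.presheaf.stalk x)).spanFinrank ≤ m := by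
        have h1 := (CurveCohLib.ringKrullDim_stalk_le_topologicalKrullDim x).trans hdim
        rw [← (isRegularLocalRing_iff _).mp (hreg x)] at h1
        exact_mod_cast h1
      exact RegLoc6.pdLE_mono hle
        (RegLoc6.pdLE_of_isRegularLocalRing (X.presheaf.stalk x) (stk (S.obj (Fin.last (m + 1))) x))⟩
    have hlf : ∀ i (hi : i ≤ m), 1 ≤ i → PDLT 1 (S.obj ⟨i, by omega⟩) := fun i hi h1 =>
      pdlt_one_iff.2 (by
        have := hE ⟨i - 1, by omega⟩
        simp only [show i - 1 + 1 = i by omega] at this
        exact this)
    have key : ∀ k, k < m → ∀ (j : ℕ) (hj : j + k = m), PDLT j (kernel (S.map' j (j + 1))) := by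
      intro k
      induction k with
      | zero =>
        intro hk j hj
        obtain rfl : j = m := by omega
        haveI : Epi (S.map' j (j + 1)) := hepi
        exact (PDLT.kernel_of (kerSeq_shortExact _)
          ((hlf j le_rfl (by omega)).mono (by omega)) hpdF)
      | succ k ih =>
        intro hk j hj
        have h := ih (by omega) (j + 1) (by omega)
        let p := kernel.lift (S.map' (j + 1) (j + 2))
          (S.map' j (j + 1)) (hS.toIsComplex.zero j)
        haveI : Epi p := (ShortComplex.exact_iff_epi_kernel_lift _).1 (hS.exact j)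
        have h' := PDLT.kernel_of (kerSeq_shortExact p) ((hlf j (by omega) (by omega)).mono (by omega)) h
        exact h'.iso ((kernelCompMono p (kernel.ι _)).symm ≪≫ kernelIsoOfEq (kernel.lift_ι _ _ _))
    rcases Nat.eq_zero_or_pos m with rfl | hm
    · haveI := hmono
      haveI : Epi (S.map' 0 1 (Nat.zero_le 1) (Nat.le_add_left 1 0)) := hepi
      haveI := isIso_of_mono_of_epi (S.map' 0 1 (Nat.zero_le 1) (Nat.le_add_left 1 0))
      exact pdlt_one_iff.1 (hpdF.iso (asIso (S.map' 0 1 (Nat.zero_le 1) (Nat.le_add_left 1 0))).symm)
    · have h := key (m - 1) (by omega) 1 (by omega)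
      let p := kernel.lift (S.map' 1 2)
        (S.map' 0 1) (hS.toIsComplex.zero 0)
      haveI : Epi p := (ShortComplex.exact_iff_epi_kernel_lift _).1 (hS.exact 0)
      haveI : Mono (p ≫ kernel.ι (S.map' 1 2)) := by
        rw [kernel.lift_ι]; exact hmono
      haveI : Mono p := mono_of_mono p (kernel.ι _)
      haveI := isIso_of_mono_of_epi p
      exact pdlt_one_iff.1 (h.iso (asIso p).symm)

end Groth.Agent.S16240
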