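import Groth.Statements.S16250
import Groth.Agent.Elliptic.Group

set_option autoImplicit false
set_option linter.style.haveILetI false
set_option linter.unusedSectionVars false
set_option backward.isDefEq.respectTransparency false
set_option backward.isDefEq.respectTransparency.types false
set_option maxHeartbeats 1000000
universe u
open CategoryTheory CategoryTheory.Limits AlgebraicGeometry MonObj
open AgPol

namespace Groth.Agent.S16250

open Groth.Agent


/-- Let f : E → S be a family of elliptic curves: proper, smooth of relative dimension one, with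
geometrically connected fibres whose structure sheaf has Euler characteristic 0 (genus one),
together with a section σ. Then E, regarded over S, carries one and only one structure of S-group
scheme whose multiplication on T-valued points (T any S-scheme) is characterised by: P·Q = R if and
only if I_P ⊗ I_Q ≅ I_R ⊗ I_{σ_T} ⊗ q^*M on E_T = E ×_S T for some invertible O_T-module M, where q
: E_T → T is the projection, I_P denotes the ideal sheaf of the section of q induced by P, and σ_T
is the section induced by σ; in divisor notation O(P) ⊗ O(Q) ⊗ O(−σ) ≅ O(R) up to a module pulled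
back from T. (The published display of this relation carries O(−R) instead of O(R), a misprint: the
fibre degrees would be 1 and −1.) -/
theorem result
    {E S : Scheme.{u}} (f : E ⟶ S) [IsProper f] [SmoothOfRelativeDimension 1 f]
    (hc : GeometricallyConnected f)
    (hg : ∀ s : S, @FGA.eulerCharLE (S.residueField s) _ (f.fiber s) (f.fiberOverSpecResidueField s)
      (Coh.structureModule (f.fiber s)) 1 = 0)
    (σ : S ⟶ E) (hσ : σ ≫ f = 𝟙 S) :
    ∃! g : GrpObj (Over.mk f), ∀ (T : Over S) (P Q R : T ⟶ Over.mk f),
      P * Q = R ↔ ∃ M : T.left.Modules, PicF.IsInvertible M ∧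
        Nonempty (CohB1.tensorMod
            (ClSub.idealMod (pullback.lift P.left (𝟙 T.left)
              ((Over.w P).trans (Category.id_comp T.hom).symm) : T.left ⟶ PicF.XT f T).ker)
            (ClSub.idealMod (pullback.lift Q.left (𝟙 T.left)
              ((Over.w Q).trans (Category.id_comp T.hom).symm) : T.left ⟶ PicF.XT f T).ker) ≅
          CohB1.tensorMod (CohB1.tensorMod
            (ClSub.idealMod (pullback.lift R.left (𝟙 T.left)
              ((Over.w R).trans (Category.id_comp T.hom).symm) : T.left ⟶ PicF.XT f T).ker)
            (ClSub.idealMod (PicF.secT f σ hσ T).ker))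
            ((Scheme.Modules.pullback (PicF.XTproj f T)).obj M)) := by
  have hf : Groth.Agent.Elliptic.IsFam f := ⟨inferInstance, inferInstance, hc, hg⟩
  let o : MonoidalCategoryStruct.tensorUnit (Over S) ⟶ Over.mk f := Over.homMk σ hσ
  have horig : ∀ T : Over S, Groth.Agent.Elliptic.secOf (Groth.Agent.Elliptic.orig o T) = PicF.secT f σ hσ T :=
    fun T => pullback.hom_ext ((pullback.lift_fst _ _ _).trans (pullback.lift_fst _ _ _).symm)
      ((pullback.lift_snd _ _ _).trans (pullback.lift_snd _ _ _).symm)
  have hiff : ∀ (T : Over S) (P Q R : T ⟶ Over.mk f),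
      Groth.Agent.Elliptic.add hf o P Q = R ↔ ∃ M : T.left.Modules, PicF.IsInvertible M ∧
        Nonempty (CohB1.tensorMod
            (ClSub.idealMod (Groth.Agent.Elliptic.secOf P).ker) (ClSub.idealMod (Groth.Agent.Elliptic.secOf Q).ker) ≅
          CohB1.tensorMod (CohB1.tensorMod (ClSub.idealMod (Groth.Agent.Elliptic.secOf R).ker)
            (ClSub.idealMod (PicF.secT f σ hσ T).ker))
            ((Scheme.Modules.pullback (PicF.XTproj f T)).obj M)) := by
    intro T P Q R
    rw [← horig T]
    constructor
    · rintro rfl
      obtain ⟨_, ⟨M, hM, rfl⟩, h⟩ := Groth.Agent.Elliptic.isSum_add hf o P Q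
      refine ⟨M, hM, H23.PicMul.cl_eq_iff.1 ?_⟩
      rw [H23.PicMul.cl_tensor, H23.PicMul.cl_tensor, H23.PicMul.cl_tensor]
      exact h
    · rintro ⟨M, hM, h⟩
      refine Groth.Agent.Elliptic.add_eq hf o ⟨_, ⟨M, hM, rfl⟩, ?_⟩
      have h' := H23.PicMul.cl_eq_iff.2 h
      rw [H23.PicMul.cl_tensor, H23.PicMul.cl_tensor, H23.PicMul.cl_tensor] at h'
      exact h'
  let G : GrpObj (Over.mk f) := (Groth.Agent.Elliptic.commGrpObj hf o).toGrpObj
  have hmulG : ∀ (T : Over S) (P Q : T ⟶ Over.mk f),
      (letI := G; P * Q) = Groth.Agent.Elliptic.add hf o P Q := by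
    intro T P Q
    letI := G
    rw [Hom.mul_def]
    show CartesianMonoidalCategory.lift P Q ≫ Groth.Agent.Elliptic.add hf o (SemiCartesianMonoidalCategory.fst _ _)
      (SemiCartesianMonoidalCategory.snd _ _) = _
    rw [Groth.Agent.Elliptic.comp_add, CartesianMonoidalCategory.lift_fst, CartesianMonoidalCategory.lift_snd]
  refine ⟨G, fun T P Q R => ?_, fun g hgP => ?_⟩
  · rw [hmulG T P Q]
    exact hiff T P Q R
  have hmul : ∀ (T : Over S) (P Q : T ⟶ Over.mk f), (letI := g; P * Q) = Groth.Agent.Elliptic.add hf o P Q :=
    fun T P Q => ((hiff T P Q _).2 ((hgP T P Q _).1 rfl)).symm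
  have hμ : g.toMonObj.mul = G.toMonObj.mul := by
    have h1 := hmul _ (SemiCartesianMonoidalCategory.fst (Over.mk f) (Over.mk f)) (SemiCartesianMonoidalCategory.snd _ _)
    have h2 := hmulG _ (SemiCartesianMonoidalCategory.fst (Over.mk f) (Over.mk f)) (SemiCartesianMonoidalCategory.snd _ _)
    have h3 := h1.trans h2.symm
    simp only [Hom.mul_def, CartesianMonoidalCategory.lift_fst_snd, Category.id_comp] at h3
    exact h3
  exact GrpObj.ext g G (MonObj.ext _ _ hμ)

end Groth.Agent.S16250
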