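import Groth.Statements.S8916
import Groth.Agent.SmoothField.FibreCrit
import Groth.Agent.OmegaUniv.Unram
import Groth.Agent.FittX.Sheaf
-- import your own Groth.Agent.* helpers here

set_option autoImplicit false
universe u
open CategoryTheory CategoryTheory.Limits AlgebraicGeometry TopologicalSpace
open SDiv

namespace Groth.Agent.S8916

/-- Let f : X ⟶ S be flat, locally of finite presentation and quasi-separated, and d ≥ 0 such that all
irreducible components of each nonempty fibre of f have dimension d. Then the closed subset of X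
defined by the Fitting ideal Fit_d(Ω_{X/S}) is exactly the set of points at which f is not smooth,
i.e. which have no open neighbourhood on which f is smooth. The published statement does not assume
f quasi-separated; this row does, because the module Ω_{X/S} used here is defined for
quasi-separated f. -/
theorem result {X S : Scheme.{u}} (f : X ⟶ S) [Flat f] [LocallyOfFinitePresentation f] [QuasiSeparated f]
    (d : ℕ) (hdim : ∀ s : ↥S, ∀ T ∈ irreducibleComponents ↥(f.fiber s), topologicalKrullDim ↥T = d) (x : ↥X) :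
    x ∈ (Fitt.sheafIdeal (Omega.sheaf f) d).support ↔ ¬ ∃ U : X.Opens, x ∈ U ∧ Smooth (U.ι ≫ f) := by
  classical
  have hxd : FlatMor.fibreDimAt f x = (d : WithBot ℕ∞) := by
    obtain ⟨z, -, hfz, hmax, he⟩ := Groth.Agent.FibDim.exists_fibMax_generization f x
    have hmem : ((Groth.Agent.FibDim.rd f z : ℕ∞) : WithBot ℕ∞) ∈
        (fun z => ((Groth.Agent.FibDim.rd f z : ℕ∞) : WithBot ℕ∞)) '' {w : X | f w = f x ∧ Groth.Agent.FibDim.FibMax f w} :=
      ⟨z, ⟨hfz, hmax⟩, rfl⟩
    rw [← Groth.Agent.FibDim.fiber_component_dims f (f x)] at hmem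
    obtain ⟨T, hT, hTd⟩ := hmem
    rw [he, ← hTd]
    exact hdim (f x) T hT
  have hsmooth : (∃ U : X.Opens, x ∈ U ∧ Smooth (U.ι ≫ f)) ↔ x ∈ f.smoothLocus := by
    constructor
    · rintro ⟨U, hxU, hU⟩
      have h1 : (⟨x, hxU⟩ : (U : Scheme.{u})) ∈ U.ι ⁻¹ᵁ f.smoothLocus := by
        rw [Scheme.Hom.preimage_smoothLocus_eq, Scheme.Hom.smoothLocus_eq_top]
        trivial
      exact h1
    · intro hx
      refine ⟨f.smoothLocus, hx, Scheme.Hom.smoothLocus_eq_top_iff.1 ?_⟩
      rw [← Scheme.Hom.preimage_smoothLocus_eq]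
      exact f.smoothLocus.ι_preimage_self
  obtain ⟨V, hV, hxV, -⟩ := exists_isAffineOpen_mem_and_subset (x := f x) (U := ⊤) trivial
  obtain ⟨U, hU, hxU, hUV⟩ := exists_isAffineOpen_mem_and_subset (x := x) (U := f ⁻¹ᵁ V) hxV
  letI : Algebra Γ(S, V) Γ(X, U) := (f.appLE V U hUV).hom.toAlgebra
  haveI : Algebra.FinitePresentation Γ(S, V) Γ(X, U) := f.finitePresentation_appLE hV hU hUV
  haveI : Module.Flat Γ(S, V) Γ(X, U) := Flat.flat_appLE f hV hU hUV
  let q := hU.primeIdealOf ⟨x, hxU⟩
  have hq : FlatMor.fibreDimAt (Spec.map (f.appLE V U hUV)) q = (d : WithBot ℕ∞) := by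
    rw [← hxd]
    haveI : LocallyOfFiniteType (Spec.map (f.appLE V U hUV)) := by
      rw [HasRingHomProperty.Spec_iff (P := @LocallyOfFiniteType)]
      exact f.finiteType_appLE hV hU hUV
    refine Eq.trans (Groth.Agent.DescLib.fibreDimAt_eq_of_etale f (Spec.map (f.appLE V U hUV))
      hU.fromSpec hV.fromSpec (IsAffineOpen.SpecMap_appLE_fromSpec f hV hU hUV) q).symm ?_
    exact congrArg (FlatMor.fibreDimAt f) (hU.fromSpec_primeIdealOf ⟨x, hxU⟩)
  have hM := Groth.Agent.OmegaUniv.isQCoh_omega f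
  have hft := Groth.Agent.OmegaUniv.isFT_omega f
  haveI := Groth.Agent.QCoh.finite_of_isFT hM hft hU
  obtain ⟨l⟩ := Groth.Agent.Synt29.OmegaStalk.exists_linearEquiv_sections
    (Groth.Agent.OmegaUniv.isUniversal_dOmega f) hU hV hUV
  have hrk : Module.finrank q.asIdeal.ResidueField
        (TensorProduct Γ(X, U) q.asIdeal.ResidueField Γ(Omega.sheaf f, U)) =
      Module.finrank q.asIdeal.ResidueField
        (TensorProduct Γ(X, U) q.asIdeal.ResidueField (KaehlerDifferential Γ(S, V) Γ(X, U))) :=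
    (TensorProduct.AlgebraTensorModule.congr
      (LinearEquiv.refl q.asIdeal.ResidueField q.asIdeal.ResidueField) l).finrank_eq
  rw [Groth.Agent.FittX.mem_support_sheafIdeal hM hft d hU hxU, hsmooth, Scheme.Hom.mem_smoothLocus,
    formallySmooth_stalkMap_iff V hV U hU hUV hxU, ← not_iff_not, not_not,
    Groth.Agent.FittX.not_le_iff_fiber, hrk]
  constructor
  · intro hle
    refine Groth.Agent.SmoothField.isSmoothAt_of_flat_of_finrank_le q.asIdeal ?_
    refine le_of_le_of_eq ?_ hq.symm
    exact_mod_cast hle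
  · intro hsm
    haveI : Algebra.IsSmoothAt Γ(S, V) q.asIdeal := hsm
    have h1 := Groth.Agent.SmoothField.fibreDimAt_eq_of_isSmoothAt (R := Γ(S, V)) q.asIdeal
      q.asIdeal.ResidueField (Ideal.ker_algebraMap_residueField _)
    rw [show FlatMor.fibreDimAt (Spec.map (CommRingCat.ofHom (algebraMap Γ(S, V) Γ(X, U))))
      ⟨q.asIdeal, inferInstance⟩ = (d : WithBot ℕ∞) from hq] at h1
    exact (by exact_mod_cast h1.symm : _ = d).le

end Groth.Agent.S8916
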