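import Groth.Statements.S16253
import Groth.Agent.S8916
import Groth.Agent.H6KO.SmoothChart
import Groth.Agent.Synt29.KoszulSyntomic

set_option autoImplicit false
universe u
open CategoryTheory CategoryTheory.Limits AlgebraicGeometry TopologicalSpace
open SDiv

namespace Groth.Agent.S16253

/-- Let f : X ⟶ Y be locally of finite presentation and quasi-separated and p ≥ 0, and let J^p(X/Y) ⊆ X
be the closed subset cut out by the p-th Fitting ideal of the module of differentials Ω_{X/Y} (the
p-th Jacobian locus). Then a point x of X lies outside J^p(X/Y) if and only if x has an open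
neighbourhood U admitting a closed immersion over Y into a Y-scheme U' which is smooth of relative
dimension p over Y. (The published statement takes f of finite presentation and asks U' smooth over
Y with fibre dimension p at x; after shrinking U' this is smoothness of relative dimension p.
Quasi-separatedness of f is assumed because the module Ω_{X/Y} used here is defined for such f.) -/
theorem result
    {X Y : Scheme.{u}} (f : X ⟶ Y) [LocallyOfFinitePresentation f] [QuasiSeparated f] (p : ℕ) (x : ↥X) :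
    x ∉ (Fitt.sheafIdeal (Omega.sheaf f) p).support ↔
      ∃ (U : X.Opens) (U' : Scheme.{u}) (i : (U : Scheme.{u}) ⟶ U') (g : U' ⟶ Y),
        x ∈ U ∧ IsClosedImmersion i ∧ SmoothOfRelativeDimension p g ∧ i ≫ g = U.ι ≫ f := by
  classical
  obtain ⟨V, hV, hxV, -⟩ := exists_isAffineOpen_mem_and_subset (x := f x) (U := ⊤) trivial
  have key : ∀ (V : Y.Opens) (_ : IsAffineOpen V) (U : X.Opens) (hU : IsAffineOpen U) (e : U ≤ f ⁻¹ᵁ V)
      (hxU : x ∈ U),
      letI := (f.appLE V U e).hom.toAlgebra
      x ∉ (Fitt.sheafIdeal (Omega.sheaf f) p).support ↔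
        Module.finrank (hU.primeIdealOf ⟨x, hxU⟩).asIdeal.ResidueField
          (TensorProduct Γ(X, U) (hU.primeIdealOf ⟨x, hxU⟩).asIdeal.ResidueField
            (KaehlerDifferential Γ(Y, V) Γ(X, U))) ≤ p := by
    intro V hV U hU e hxU
    letI := (f.appLE V U e).hom.toAlgebra
    have hM := Groth.Agent.OmegaUniv.isQCoh_omega f
    have hft := Groth.Agent.OmegaUniv.isFT_omega f
    haveI := Groth.Agent.QCoh.finite_of_isFT hM hft hU
    obtain ⟨l⟩ := Groth.Agent.Synt29.OmegaStalk.exists_linearEquiv_sections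
      (Groth.Agent.OmegaUniv.isUniversal_dOmega f) hU hV e
    rw [Groth.Agent.FittX.mem_support_sheafIdeal hM hft p hU hxU, Groth.Agent.FittX.not_le_iff_fiber,
      (TensorProduct.AlgebraTensorModule.congr
        (LinearEquiv.refl (hU.primeIdealOf ⟨x, hxU⟩).asIdeal.ResidueField
          (hU.primeIdealOf ⟨x, hxU⟩).asIdeal.ResidueField) l).finrank_eq]
  constructor
  · intro hx
    obtain ⟨U₀, hU₀, hxU₀, hUV⟩ := exists_isAffineOpen_mem_and_subset (x := x) (U := f ⁻¹ᵁ V) hxV
    letI : Algebra Γ(Y, V) Γ(X, U₀) := (f.appLE V U₀ hUV).hom.toAlgebra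
    haveI : Algebra.FinitePresentation Γ(Y, V) Γ(X, U₀) := f.finitePresentation_appLE hV hU₀ hUV
    obtain ⟨a, ha, D, _, _, hD, φ, hφ⟩ := Groth.Agent.H6KO.SmoothChart.exists_standardSmooth
      (hU₀.primeIdealOf ⟨x, hxU₀⟩).asIdeal p ((key V hV U₀ hU₀ hUV hxU₀).1 hx)
    let U := X.basicOpen a
    have hU : IsAffineOpen U := hU₀.basicOpen a
    letI : Algebra Γ(X, U₀) Γ(X, U) := (X.presheaf.map (homOfLE (X.basicOpen_le a)).op).hom.toAlgebra
    haveI : IsLocalization.Away a Γ(X, U) := hU₀.isLocalization_basicOpen a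
    let ε : Localization.Away a ≃ₐ[Γ(X, U₀)] Γ(X, U) := IsLocalization.algEquiv (Submonoid.powers a) _ _
    let ψ : D →+* Γ(X, U) := ε.toRingEquiv.toRingHom.comp φ.toRingHom
    have hψ : Function.Surjective ψ := ε.surjective.comp hφ
    refine ⟨U, Spec (CommRingCat.of D), hU.isoSpec.hom ≫ Spec.map (CommRingCat.ofHom ψ),
      Spec.map (CommRingCat.ofHom (algebraMap Γ(Y, V) D)) ≫ hV.fromSpec,
      (Groth.Agent.QCoh.mem_basicOpen_iff_notMem hU₀ hxU₀ a).2 ha, ?_, ?_, ?_⟩
    · haveI : IsClosedImmersion (Spec.map (CommRingCat.ofHom ψ)) :=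
        IsClosedImmersion.spec_of_surjective _ hψ
      infer_instance
    · haveI : SmoothOfRelativeDimension p (Spec.map (CommRingCat.ofHom (algebraMap Γ(Y, V) D))) := by
        rw [HasRingHomProperty.Spec_iff (P := @SmoothOfRelativeDimension p)]
        exact RingHom.locally_of RingHom.isStandardSmoothOfRelativeDimension_respectsIso _
          ((RingHom.isStandardSmoothOfRelativeDimension_algebraMap p).2 hD)
      have := smoothOfRelativeDimension_comp (n := p) (m := 0)
        (Spec.map (CommRingCat.ofHom (algebraMap Γ(Y, V) D))) hV.fromSpec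
      simpa using this
    · have e' : U ≤ f ⁻¹ᵁ V := le_trans (X.basicOpen_le a) hUV
      have hcomp : CommRingCat.ofHom (algebraMap Γ(Y, V) D) ≫ CommRingCat.ofHom ψ = f.appLE V U e' := by
        rw [← Scheme.Hom.appLE_map f hUV (homOfLE (X.basicOpen_le a)).op]
        apply CommRingCat.hom_ext
        apply RingHom.ext
        intro c
        change ε (φ (algebraMap Γ(Y, V) D c)) = _
        rw [φ.commutes, IsScalarTower.algebraMap_apply Γ(Y, V) Γ(X, U₀) (Localization.Away a), ε.commutes]
        rfl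
      rw [Category.assoc, ← Spec.map_comp_assoc, hcomp,
        IsAffineOpen.SpecMap_appLE_fromSpec f hV hU e', ← Category.assoc, IsAffineOpen.isoSpec_hom_fromSpec]
  · rintro ⟨U, U', i, g, hxU, hi, hg, hig⟩
    obtain ⟨V, hV, W, hW, hxW, e, hstd⟩ :=
      hg.exists_isStandardSmoothOfRelativeDimension (i ⟨x, hxU⟩)
    let U₁ := i ⁻¹ᵁ W
    have hU₁ : IsAffineOpen U₁ := hW.preimage i
    let U₂ := U.ι ''ᵁ U₁
    have hU₂ : IsAffineOpen U₂ := hU₁.image_of_isOpenImmersion U.ι
    have hxU₂ : x ∈ U₂ := ⟨⟨x, hxU⟩, hxW, rfl⟩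
    have e₂ : U₂ ≤ f ⁻¹ᵁ V := by
      rintro _ ⟨y, hy, rfl⟩
      have h := congrArg (fun t => t y) hig
      change f (U.ι y) ∈ V
      rw [← Scheme.Hom.comp_apply, ← hig, Scheme.Hom.comp_apply]
      exact e hy
    rw [key V hV U₂ hU₂ e₂ hxU₂]
    letI : Algebra Γ(Y, V) Γ(U', W) := (g.appLE V W e).hom.toAlgebra
    letI : Algebra Γ(Y, V) Γ(X, U₂) := (f.appLE V U₂ e₂).hom.toAlgebra
    let j : Γ(X, U₂) ⟶ Γ((U : Scheme.{u}), U₁) := (U.ι.appIso U₁).hom
    let φ : Γ(U', W) ⟶ Γ(X, U₂) := i.appLE W U₁ le_rfl ≫ (U.ι.appIso U₁).inv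
    have hφ : Function.Surjective φ.hom := by
      have h1 : Function.Surjective (i.appLE W U₁ le_rfl).hom := by
        rw [← Scheme.Hom.app_eq_appLE]
        haveI := hi
        exact (Groth.Agent.Synt29.surjective_app_of_isClosedImmersion_restrict i W hW).2
      exact (CategoryTheory.Iso.commRingCatIsoToRingEquiv (U.ι.appIso U₁).symm).surjective.comp h1
    have hcomp : g.appLE V W e ≫ φ = f.appLE V U₂ e₂ := by
      rw [← cancel_mono (U.ι.appIso U₁).hom, Category.assoc, Category.assoc, Iso.inv_hom_id,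
        Category.comp_id, Scheme.Hom.appLE_comp_appLE, Scheme.Hom.appIso_hom',
        Scheme.Hom.appLE_comp_appLE]
      congr 1
    letI : Algebra Γ(U', W) Γ(X, U₂) := φ.hom.toAlgebra
    haveI : IsScalarTower Γ(Y, V) Γ(U', W) Γ(X, U₂) :=
      IsScalarTower.of_algebraMap_eq' (congrArg CommRingCat.Hom.hom hcomp).symm
    haveI : Algebra.IsStandardSmoothOfRelativeDimension p Γ(Y, V) Γ(U', W) := hstd
    haveI : Algebra.IsStandardSmooth Γ(Y, V) Γ(U', W) :=
      Algebra.IsStandardSmoothOfRelativeDimension.isStandardSmooth p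
    let k := (hU₂.primeIdealOf ⟨x, hxU₂⟩).asIdeal.ResidueField
    haveI : Nontrivial Γ(X, U₂) := (hU₂.primeIdealOf ⟨x, hxU₂⟩).nontrivial
    haveI : Nontrivial Γ(U', W) := φ.hom.domain_nontrivial
    let π := (KaehlerDifferential.mapBaseChange Γ(Y, V) Γ(U', W) Γ(X, U₂)).baseChange k
    have hπ : Function.Surjective π :=
      LinearMap.lTensor_surjective k
        (KaehlerDifferential.mapBaseChange_surjective Γ(Y, V) Γ(U', W) Γ(X, U₂) hφ)
    have hle := LinearMap.finrank_range_le π
    rw [LinearMap.range_eq_top.2 hπ, finrank_top] at hle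
    refine hle.trans ?_
    rw [(TensorProduct.AlgebraTensorModule.cancelBaseChange Γ(U', W) Γ(X, U₂) k k _).finrank_eq,
      Module.finrank_baseChange]
    refine (Module.finrank_eq_of_rank_eq ?_).le
    exact Algebra.IsStandardSmoothOfRelativeDimension.rank_kaehlerDifferential p

end Groth.Agent.S16253
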