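import Groth.Statements.S9675
import Groth.Agent.NagataLib.IntClosure
import Groth.Agent.NagataLib.Scheme

set_option autoImplicit false
set_option linter.style.haveILetI false
universe u
open CategoryTheory CategoryTheory.Limits AlgebraicGeometry
open Mor

namespace Groth.Agent.S9675

/-- Let f : X ⟶ S be of finite type with X reduced and every affine open of S having Nagata coordinate
ring. Then the normalization of S in X is finite over S. (Such an f is automatically
quasi-separated; the binder is carried only to form the relative normalization.) -/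
theorem result {X S : Scheme.{u}} (f : X ⟶ S)
    [LocallyOfFiniteType f] [QuasiCompact f] [QuasiSeparated f] [IsReduced X]
    (hS : ∀ U : S.affineOpens, CAlg.IsNagata Γ(S, U)) :
    IsFinite f.fromNormalization := by
  refine ⟨fun U hU => ?_⟩
  letI := (f.app U).hom.toAlgebra
  have hA := hS ⟨U, hU⟩
  haveI := hA.1
  suffices h : Module.Finite Γ(S, U) (integralClosure Γ(S, U) Γ(X, f ⁻¹ᵁ U)) by
    rw [Scheme.Hom.fromNormalization_app f hU, CommRingCat.hom_comp]
    exact RingHom.Finite.comp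
      (RingHom.Finite.of_surjective _ (ConcreteCategory.bijective_of_isIso (f.normalizationObjIso hU).inv).2)
      ((RingHom.finite_algebraMap).mpr h)
  obtain ⟨s, hs, e⟩ := isCompact_iff_finite_and_eq_biUnion_affineOpens.mp (f.isCompact_preimage hU.isCompact)
  haveI := hs.to_subtype
  have hle : ∀ i : s, (i.1.1 : X.Opens) ≤ f ⁻¹ᵁ U := fun i => by
    rw [e]
    exact le_iSup₂_of_le i.1 i.2 le_rfl
  let res : ∀ i : s, Γ(X, f ⁻¹ᵁ U) →+* Γ(X, i.1.1) := fun i =>
    (X.presheaf.map (homOfLE (hle i)).op).hom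
  letI : ∀ i : s, Algebra Γ(S, U) Γ(X, i.1.1) := fun i => (f.appLE U i.1.1 (hle i)).hom.toAlgebra
  haveI : ∀ i : s, Algebra.FiniteType Γ(S, U) Γ(X, i.1.1) := fun i => f.finiteType_appLE hU i.1.2 (hle i)
  haveI : ∀ i : s, Module.Finite Γ(S, U) (integralClosure Γ(S, U) Γ(X, i.1.1)) := fun i =>
    NagataLib.finite_integralClosure_of_reduced hA Γ(X, i.1.1)
  haveI : IsNoetherian Γ(S, U) ((i : s) → integralClosure Γ(S, U) Γ(X, i.1.1)) :=
    isNoetherian_of_isNoetherianRing_of_finite _ _
  let resA : ∀ i : s, Γ(X, f ⁻¹ᵁ U) →ₐ[Γ(S, U)] Γ(X, i.1.1) := fun i =>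
    { res i with commutes' := fun a => rfl }
  let L : integralClosure Γ(S, U) Γ(X, f ⁻¹ᵁ U) →ₗ[Γ(S, U)] ((i : s) → integralClosure Γ(S, U) Γ(X, i.1.1)) :=
    LinearMap.pi fun i => ((resA i).comp (integralClosure Γ(S, U) Γ(X, f ⁻¹ᵁ U)).val).toLinearMap.codRestrict
      (integralClosure Γ(S, U) Γ(X, i.1.1)).toSubmodule fun z => z.2.map (resA i)
  refine Module.Finite.of_injective L fun a b h => Subtype.ext ?_
  refine X.IsSheaf.section_ext fun y hy => ?_
  rw [e] at hy
  simp only [TopologicalSpace.Opens.mem_iSup] at hy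
  obtain ⟨i, hi, hyi⟩ := hy
  exact ⟨i.1, hle ⟨i, hi⟩, hyi, congrArg Subtype.val (congrFun h ⟨i, hi⟩)⟩


end Groth.Agent.S9675
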