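import Groth.Statements.S9676
import Groth.Agent.S9675
import Groth.Agent.NormBoundary.Alg

set_option autoImplicit false
set_option linter.style.haveILetI false
set_option backward.isDefEq.respectTransparency false
set_option backward.isDefEq.respectTransparency.types false
universe u
open CategoryTheory CategoryTheory.Limits AlgebraicGeometry
open Mor

namespace Groth.Agent.S9676

/-- Let f : Y ⟶ X be of finite type with Y reduced and every affine open of X having Nagata coordinate
ring, and let X' be the normalization of X in Y. If x' is a point of X' whose local ring has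
dimension 1 and over which the fibre of Y ⟶ X' is empty, then the local ring of X' at x' is a
discrete valuation ring. (Such an f is automatically quasi-separated; the binder is carried only to
form the relative normalization.) -/
theorem result {X Y : Scheme.{u}} (f : Y ⟶ X)
    [LocallyOfFiniteType f] [QuasiCompact f] [QuasiSeparated f] [IsReduced Y]
    (hX : ∀ U : X.affineOpens, CAlg.IsNagata Γ(X, U))
    (x' : ↥f.normalization) (hdim : ringKrullDim (f.normalization.presheaf.stalk x') = 1)
    (hx' : x' ∉ Set.range f.toNormalization.base) :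
    ∃ _ : IsDomain (f.normalization.presheaf.stalk x'),
      IsDiscreteValuationRing (f.normalization.presheaf.stalk x') := by
  classical
  haveI : IsFinite f.fromNormalization := S9675.result f hX
  haveI : IsLocallyNoetherian X := ⟨fun U => (hX U).1⟩
  haveI : IsLocallyNoetherian f.normalization := LocallyOfFiniteType.isLocallyNoetherian f.fromNormalization
  obtain ⟨_, ⟨U, hU, rfl⟩, hxU, -⟩ := X.isBasis_affineOpens.exists_subset_of_mem_open
    (Set.mem_univ (f.fromNormalization x')) isOpen_univ
  letI alg := (f.app U).hom.toAlgebra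
  let B := Γ(Y, f ⁻¹ᵁ U)
  let C := integralClosure Γ(X, U) B
  let jU : Spec (CommRingCat.of C) ⟶ f.normalization := f.normalizationOpenCover.f ⟨U, hU⟩
  haveI : IsOpenImmersion jU := inferInstanceAs (IsOpenImmersion (f.normalizationOpenCover.f ⟨U, hU⟩))
  obtain ⟨P, hP⟩ : x' ∈ Set.range jU := by
    have h1 : x' ∈ f.fromNormalization ⁻¹ᵁ U := hxU
    rw [f.fromNormalization_preimage ⟨U, hU⟩] at h1
    exact h1
  subst hP
  let A : CommRingCat.{u} := (Spec (CommRingCat.of C)).presheaf.stalk P
  let e : f.normalization.presheaf.stalk (jU P) ≃+* A := (asIso (jU.stalkMap P)).commRingCatIsoToRingEquiv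
  haveI : IsNoetherianRing A := isNoetherianRing_of_ringEquiv _ e
  haveI : _root_.IsReduced A := isReduced_of_injective e.symm.toRingHom e.symm.injective
  have hdimA : ringKrullDim A = 1 := (ringKrullDim_eq_of_ringEquiv e).symm.trans hdim
  letI : Algebra C A := StructureSheaf.stalkAlgebra C P
  haveI : IsLocalization.AtPrime A P.asIdeal := StructureSheaf.IsLocalization.to_stalk (CommRingCat.of C) P
  have hC : ∀ z : B, IsIntegral C z → ∃ c : C, algebraMap C B c = z := fun z hz => by
    haveI : Algebra.IsIntegral Γ(X, U) C := ⟨fun c =>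
      (isIntegral_algHom_iff C.val Subtype.val_injective).mp c.2⟩
    exact ⟨⟨z, isIntegral_trans z hz⟩, rfl⟩
  have hqc : IsCompact ((f ⁻¹ᵁ U : Y.Opens) : Set Y) := f.isCompact_preimage hU.isCompact
  have hqs : IsQuasiSeparated ((f ⁻¹ᵁ U : Y.Opens) : Set Y) := by
    haveI : IsAffine (U : Scheme.{u}) := hU
    haveI : QuasiSeparatedSpace ↥(f ⁻¹ᵁ U : Y.Opens).toScheme := quasiSeparatedSpace_of_quasiSeparated (f ∣_ U)
    exact isQuasiSeparated_iff_quasiSeparatedSpace _ (f ⁻¹ᵁ U).isOpen |>.2 ‹_›
  have hu : ∀ β : C, algebraMap C A β ∈ nonZeroDivisors A →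
      ∃ g ∉ P.asIdeal, ∃ (h : B) (n : ℕ), algebraMap C B β * h = algebraMap C B g ^ n := by
    intro β hβ
    haveI : Ring.KrullDimLE 1 A := Ring.krullDimLE_iff.2 hdimA.le
    obtain ⟨s, hs, hcov⟩ := isCompact_iff_finite_and_eq_biUnion_affineOpens.mp hqc
    haveI := hs.fintype
    have hle : ∀ W : s, (W.1.1 : Y.Opens) ≤ f ⁻¹ᵁ U := fun W => by
      rw [hcov]
      exact le_iSup₂_of_le W.1 W.2 le_rfl
    -- on each affine piece some element off the prime is divisible by `β`
    have hloc : ∀ W : s, ∃ g ∉ P.asIdeal,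
        Y.presheaf.map (homOfLE (hle W)).op (algebraMap C B g) ∈
          Ideal.span {Y.presheaf.map (homOfLE (hle W)).op (algebraMap C B β)} := by
      intro W
      let ψ : C →+* Γ(Y, W.1.1) := (Y.presheaf.map (homOfLE (hle W)).op).hom.comp (algebraMap C B)
      by_contra hcon
      push Not at hcon
      obtain ⟨𝔮, h𝔮, hβ𝔮, hdisj⟩ := Ideal.exists_le_prime_disjoint (I := Ideal.span {ψ β})
        (P.asIdeal.primeCompl.map ψ) (Set.disjoint_left.2 fun z hz hz' => by
          obtain ⟨g, hg, rfl⟩ := hz'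
          exact hcon g hg hz)
      let Q : Ideal C := 𝔮.comap ψ
      haveI : Q.IsPrime := Ideal.IsPrime.comap ψ
      have hQP : Q ≤ P.asIdeal := fun g hg => by_contra fun hgP =>
        Set.disjoint_left.1 hdisj hg ⟨g, hgP, rfl⟩
      have hβQ : β ∈ Q := hβ𝔮 (Ideal.mem_span_singleton_self _)
      -- in the local ring of dimension one this prime is the maximal ideal
      have hQ : Q = P.asIdeal := by
        obtain ⟨QA, hQA, hQAc⟩ : ∃ QA : Ideal A, QA.IsPrime ∧ QA.comap (algebraMap C A) = Q := by
          have hd : Disjoint (P.asIdeal.primeCompl : Set C) (Q : Set C) :=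
            Set.disjoint_left.2 fun g hg hgQ => hg (hQP hgQ)
          exact ⟨_, IsLocalization.isPrime_of_isPrime_disjoint P.asIdeal.primeCompl A Q ‹_› hd,
            IsLocalization.under_map_of_isPrime_disjoint P.asIdeal.primeCompl A ‹_› hd⟩
        rcases (Ring.krullDimLE_one_iff.1 ‹_›) QA hQA with hmin | hmax
        · exact absurd hβ (Set.disjoint_left.1 (Ideal.disjoint_nonZeroDivisors_of_mem_minimalPrimes hmin)
            (show algebraMap C A β ∈ QA from hQAc.ge hβQ))
        · rw [← hQAc, IsLocalRing.eq_maximalIdeal hmax]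
          exact IsLocalization.AtPrime.comap_maximalIdeal A P.asIdeal
      -- so the point is hit
      refine hx' ⟨W.1.2.fromSpec ⟨𝔮, h𝔮⟩, ?_⟩
      have hfac : W.1.2.fromSpec ≫ f.toNormalization = Spec.map (CommRingCat.ofHom ψ) ≫ jU := by
        rw [← cancel_epi W.1.2.isoSpec.hom, IsAffineOpen.isoSpec_hom_fromSpec_assoc, IsAffineOpen.isoSpec_hom,
          ← Y.homOfLE_ι (hle W), Category.assoc, f.ι_toNormalization ⟨U, hU⟩,
          ← Scheme.Opens.toSpecΓ_SpecMap_presheaf_map_assoc _ _ (hle W), ← Spec.map_comp_assoc]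
        rfl
      show (W.1.2.fromSpec ≫ f.toNormalization) ⟨𝔮, h𝔮⟩ = jU P
      rw [hfac]
      exact congrArg jU (PrimeSpectrum.ext hQ)
    choose g hgP hgdiv using hloc
    refine ⟨∏ W, g W, fun h => ?_, ?_⟩
    · obtain ⟨W, -, hW⟩ := (P.2.prod_mem_iff).1 h
      exact hgP W hW
    set G : B := algebraMap C B (∏ W, g W)
    let D := Y.basicOpen G
    have hDle : D ≤ f ⁻¹ᵁ U := Y.basicOpen_le G
    letI : Algebra B Γ(Y, D) := (Y.presheaf.map (homOfLE hDle).op).hom.toAlgebra
    haveI : IsLocalization.Away G Γ(Y, D) := isLocalization_basicOpen_of_qcqs hqc hqs G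
    have hunit : IsUnit (algebraMap B Γ(Y, D) (algebraMap C B β)) := by
      refine RingedSpace.isUnit_of_isUnit_germ _ D _ fun y hy => ?_
      have hyU : y ∈ f ⁻¹ᵁ U := hDle hy
      have hyU' := hyU
      rw [hcov] at hyU'
      simp only [TopologicalSpace.Opens.mem_iSup] at hyU'
      obtain ⟨W, hW, hyW⟩ := hyU'
      have hG : IsUnit (Y.presheaf.germ (f ⁻¹ᵁ U) y hyU G) := (Y.mem_basicOpen _ y hyU).1 hy
      have hg : IsUnit (Y.presheaf.germ (f ⁻¹ᵁ U) y hyU (algebraMap C B (g ⟨W, hW⟩))) := by
        refine isUnit_of_dvd_unit (map_dvd _ ?_) hG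
        exact map_dvd (algebraMap C B) (Finset.dvd_prod_of_mem _ (Finset.mem_univ _))
      obtain ⟨h, hh⟩ := Ideal.mem_span_singleton'.1 (hgdiv ⟨W, hW⟩)
      have e1 := congrArg (Y.presheaf.germ W.1 y hyW) hh
      rw [map_mul] at e1
      simp only [TopCat.Presheaf.germ_res_apply] at e1
      rw [← e1] at hg
      show IsUnit (Y.presheaf.germ D y hy (Y.presheaf.map (homOfLE hDle).op (algebraMap C B β)))
      rw [TopCat.Presheaf.germ_res_apply]
      exact isUnit_of_mul_isUnit_right hg
    obtain ⟨u, hu⟩ := hunit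
    obtain ⟨⟨b, _, n, rfl⟩, hb⟩ := IsLocalization.surj (Submonoid.powers G) (↑u⁻¹ : Γ(Y, D))
    have h1 : algebraMap B Γ(Y, D) (algebraMap C B β * b) = algebraMap B Γ(Y, D) (G ^ n) := by
      rw [map_mul, ← hb, ← hu, Units.mul_inv_cancel_left]
    obtain ⟨⟨_, m, rfl⟩, hm⟩ := IsLocalization.exists_of_eq (M := Submonoid.powers G) h1
    refine ⟨G ^ m * b, m + n, ?_⟩
    rw [pow_add, ← (show G ^ m * (algebraMap C B β * b) = G ^ m * G ^ n from hm)]
    ring
  obtain ⟨hd, hdvr⟩ := NormBoundary.isDiscreteValuationRing_of_integrallyClosed hdimA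
    (NormBoundary.integrallyClosed_localization (C := C) (B := B) Subtype.val_injective hC P.asIdeal hu)
  haveI := hd
  haveI := hdvr
  haveI : IsDomain (f.normalization.presheaf.stalk (jU P)) := e.toMulEquiv.isDomain _
  exact ⟨inferInstance, IsDiscreteValuationRing.RingEquivClass.isDiscreteValuationRing e.symm⟩

end Groth.Agent.S9676
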