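import Groth.Statements.S1626
import Groth.Agent.S1625
import Groth.Agent.S9676
import Groth.Agent.S7616
import Groth.Agent.SchTop.Closed
import Groth.Agent.NagataLib.Scheme

set_option autoImplicit false
set_option linter.style.haveILetI false
set_option backward.isDefEq.respectTransparency false
set_option backward.isDefEq.respectTransparency.types false
universe u
open CategoryTheory CategoryTheory.Limits AlgebraicGeometry
open Variety

namespace Groth.Agent.S1626

/-- Let X be reduced, separated and of finite type over k with dim X ≤ 1. Then there are a closed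
subscheme Y of some P^d_k and a dense, scheme-theoretically dense open immersion j : X → Y over k
whose complement is a finite set of closed points at each of which the local ring of Y is a discrete
valuation ring. -/
theorem result (k : Type u) [Field k] (X : Scheme.{u}) [X.Over (Spec (CommRingCat.of k))] [IsReduced X] [IsSeparated (X ↘ (Spec (CommRingCat.of k)))] [LocallyOfFiniteType (X ↘ (Spec (CommRingCat.of k)))] [QuasiCompact (X ↘ (Spec (CommRingCat.of k)))] (hdim : topologicalKrullDim X ≤ 1) :
    ∃ (d : ℕ) (Y : Scheme.{u}) (c : Y ⟶ CohB1.ProjSpace d k) (j : X ⟶ Y), IsClosedImmersion c ∧ IsOpenImmersion j ∧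
      j ≫ c ≫ CohB1.ProjSpace.toSpec d k = X ↘ (Spec (CommRingCat.of k)) ∧ Dense (Set.range j.base) ∧ IsSchemeTheoreticallyDominant j ∧
      (Set.range j.base)ᶜ.Finite ∧ ∀ y ∈ (Set.range j.base)ᶜ, IsClosed ({y} : Set Y) ∧
        ∃ _ : IsDomain (Y.presheaf.stalk y), IsDiscreteValuationRing (Y.presheaf.stalk y) := by
  classical
  let f := X ↘ (Spec (CommRingCat.of k))
  obtain ⟨d₀, Y₀, c₀, j₀, hc₀, hj₀, hfac, hdense₀, -, -, -⟩ := S1625.result k X hdim
  haveI := hc₀
  haveI := hj₀
  haveI : IsProper (CohB1.ProjSpace.toSpec d₀ k) := Groth.Agent.PnCoh.Chow.isProper_toSpec d₀ k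
  let g₀ : Y₀ ⟶ Spec (CommRingCat.of k) := c₀ ≫ CohB1.ProjSpace.toSpec d₀ k
  have hjg₀ : j₀ ≫ g₀ = f := hfac
  letI : Y₀.Over (Spec (CommRingCat.of k)) := ⟨g₀⟩
  haveI : j₀.IsOver (Spec (CommRingCat.of k)) := ⟨hjg₀⟩
  haveI : LocallyOfFiniteType (Y₀ ↘ Spec (CommRingCat.of k)) := inferInstanceAs (LocallyOfFiniteType g₀)
  haveI : IsLocallyNoetherian Y₀ := LocallyOfFiniteType.isLocallyNoetherian g₀
  haveI : QuasiCompact (j₀ ≫ g₀) := by rw [hjg₀]; infer_instance
  haveI : QuasiCompact j₀ := .of_comp j₀ g₀
  haveI : IsFinite j₀.fromNormalization := S7616.result k Y₀ X j₀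
  let ν := j₀.fromNormalization
  -- the normalization agrees with the curve over its image
  haveI : IsIso (pullback.snd j₀ j₀) := inferInstance
  haveI : IsIntegralHom (pullback.snd j₀ j₀) := inferInstance
  let e : X ⟶ pullback ν j₀ :=
    inv (pullback.fst j₀ j₀) ≫ (pullback.snd j₀ j₀).toNormalization ≫ j₀.normalizationPullback j₀
  haveI : IsIso e := inferInstance
  have he : j₀.toNormalization = e ≫ pullback.fst _ _ := by
    simp only [e, ν, Category.assoc, Scheme.Hom.toNormalization_normalizationPullback_fst]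
    rw [IsIso.inv_hom_id_assoc]
  haveI hopen : IsOpenImmersion j₀.toNormalization := by rw [he]; infer_instance
  let Y := j₀.normalization
  let j := j₀.toNormalization
  let g : Y ⟶ Spec (CommRingCat.of k) := ν ≫ g₀
  have hjg : j ≫ g = f := by
    show j₀.toNormalization ≫ j₀.fromNormalization ≫ g₀ = f
    rw [Scheme.Hom.toNormalization_fromNormalization_assoc, hjg₀]
  haveI : IsProper g₀ := inferInstance
  haveI : IsProper g := inferInstance
  haveI : IsLocallyNoetherian Y := LocallyOfFiniteType.isLocallyNoetherian g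
  haveI : CompactSpace Y := QuasiCompact.compactSpace_of_compactSpace g
  haveI : IsNoetherian Y := {}
  have hdense : Dense (Set.range j.base) := j.denseRange
  let O : Y.Opens := j.opensRange
  have hgen : genericPoints Y ⊆ (O : Set Y) := Groth.Agent.PicGlue.genericPoints_subset_of_dense hdense
  have hdimY : topologicalKrullDim Y ≤ 1 := by
    rw [Groth.Agent.VarDim.topologicalKrullDim_eq_iSup_deg g]
    refine iSup_le fun z => ?_
    let η := genericPoints.ofComponent ⟨_, irreducibleComponent_mem_irreducibleComponents z⟩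
    have hspec : (η : Y) ⤳ z := by
      refine (genericPoints.isGenericPoint η).specializes ?_
      rw [genericPoints.component_ofComponent]
      exact mem_irreducibleComponent
    obtain ⟨x, hx⟩ := hgen η.2
    have h1 : Groth.Agent.VarDim.deg g z ≤ Groth.Agent.VarDim.deg g (η : Y) :=
      Groth.Agent.VarDim.deg_le_of_specializes g hspec
    rw [← hx, ← Groth.Agent.VarDim.deg_comp g j x] at h1
    have hdim' : topologicalKrullDim X ≤ 1 := hdim
    refine le_trans ?_ hdim'
    haveI : LocallyOfFiniteType (j ≫ g) := inferInstance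
    rw [Groth.Agent.VarDim.topologicalKrullDim_eq_iSup_deg (j ≫ g)]
    exact le_iSup_of_le x (by exact_mod_cast h1)
  obtain ⟨hfin, hcl⟩ := Groth.Agent.PicGlue.finite_compl hdimY O hgen
  letI : Y.Over (Spec (CommRingCat.of k)) := ⟨g⟩
  haveI : IsProper (Y ↘ Spec (CommRingCat.of k)) := ‹IsProper g›
  obtain ⟨d, c, hc, hcg⟩ := S1667.result k Y hdimY
  haveI := hc
  haveI : IsProper (CohB1.ProjSpace.toSpec d k) := Groth.Agent.PnCoh.Chow.isProper_toSpec d k
  haveI : IsProper (c ≫ CohB1.ProjSpace.toSpec d k) := by rw [hcg]; infer_instance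
  haveI : IsProper c := IsProper.of_comp c (CohB1.ProjSpace.toSpec d k)
  haveI : IsClosedImmersion c := .of_isPreimmersion c c.isClosedMap.isClosed_range
  refine ⟨d, Y, c, j, inferInstance, hopen, ?_, hdense, ?_, hfin, fun y hy => ⟨hcl y hy, ?_⟩⟩
  · rw [← Category.assoc]
    show (j ≫ c) ≫ _ = _
    rw [Category.assoc, hcg]
    exact hjg
  · rw [isSchemeTheoreticallyDominant_iff]
    exact j₀.ker_toNormalization
  haveI := Groth.Agent.S7616.result k Y₀ X j₀
  haveI : LocallyOfFiniteType j₀ := inferInstance
  refine S9676.result j₀ (fun U => NagataLib.isNagata_affineOpen g₀ U) y (le_antisymm ?_ ?_) hy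
  · exact (Groth.Agent.SchTop.ringKrullDim_stalk_le y).trans hdimY
  · let η := genericPoints.ofComponent ⟨_, irreducibleComponent_mem_irreducibleComponents y⟩
    have hspec : (η : Y) ⤳ y := by
      refine (genericPoints.isGenericPoint η).specializes ?_
      rw [genericPoints.component_ofComponent]
      exact mem_irreducibleComponent
    obtain ⟨p, hp⟩ : (η : Y) ∈ Set.range (Y.fromSpecStalk y) := by rw [Scheme.range_fromSpecStalk]; exact hspec
    have hne : p ≠ IsLocalRing.closedPoint (Y.presheaf.stalk y) := fun h => hy (by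
      rw [h, Scheme.fromSpecStalk_closedPoint] at hp
      exact hp ▸ hgen η.2)
    by_contra hlt
    have h0 : ringKrullDim (Y.presheaf.stalk y) ≤ 0 := Order.le_of_lt_succ (by
      rw [not_le] at hlt
      exact hlt)
    haveI : Ring.KrullDimLE 0 (Y.presheaf.stalk y) := Ring.krullDimLE_iff.2 h0
    refine hne (PrimeSpectrum.ext (IsLocalRing.eq_maximalIdeal ?_))
    exact Ring.krullDimLE_zero_iff.1 inferInstance _ p.2

end Groth.Agent.S1626
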