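import Groth.Statements.S1627
import Groth.Agent.PicGlue.CurveBoundary
import Groth.Agent.S7645

set_option autoImplicit false
universe u
open CategoryTheory CategoryTheory.Limits AlgebraicGeometry
open Variety

namespace Groth.Agent.S1627

/-- A curve X over k (integral, separated, of finite type, of dimension one) is either affine or
H-projective, i.e. admits a closed immersion into some P^d_k over k. -/
theorem result (k : Type u) [Field k] (X : Scheme.{u}) [X.Over (Spec (CommRingCat.of k))] [IsIntegral X] [IsSeparated (X ↘ (Spec (CommRingCat.of k)))] [LocallyOfFiniteType (X ↘ (Spec (CommRingCat.of k)))] [QuasiCompact (X ↘ (Spec (CommRingCat.of k)))] (hdim : topologicalKrullDim X = 1) :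
    IsAffine X ∨ ∃ (d : ℕ) (c : X ⟶ CohB1.ProjSpace d k), IsClosedImmersion c ∧ c ≫ CohB1.ProjSpace.toSpec d k = X ↘ (Spec (CommRingCat.of k)) := by
  classical
  by_cases hp : IsProper (X ↘ (Spec (CommRingCat.of k)))
  · refine Or.inr ?_
    obtain ⟨n, i, hi, hfac⟩ := Groth.Agent.S7645.result k X hdim.le
    exact ⟨n, i, hi, hfac⟩
  refine Or.inl (Groth.Agent.PicGlue.isAffine_of_no_proper_component (k := k) X hdim.le fun Y g j hg hj hdense hfac C hC _ => ?_)
  by_contra hne
  push Not at hne
  haveI := hg
  haveI := hj
  haveI : IrreducibleSpace Y := by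
    have h1 : IsIrreducible (Set.range j.base) := by
      rw [← Set.image_univ]
      exact (IrreducibleSpace.isIrreducible_univ _).image _ j.continuous.continuousOn
    rw [irreducibleSpace_def]
    show IsIrreducible (Set.univ : Set Y)
    rw [← hdense.closure_eq]
    exact h1.closure
  rw [irreducibleComponents_eq_singleton, Set.mem_singleton_iff] at hC
  subst hC
  haveI : Surjective j := ⟨fun y => hne y trivial⟩
  haveI : IsIso j := (isIso_iff_isOpenImmersion_and_surjective j).2 ⟨hj, inferInstance⟩
  exact hp (by rw [← hfac]; infer_instance)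

end Groth.Agent.S1627
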