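import Groth.Statements.S16286
import Groth.Agent.ExtFX.Resolution
-- import your own Groth.Agent.* helpers here

set_option autoImplicit false
set_option backward.isDefEq.respectTransparency false
set_option backward.isDefEq.respectTransparency.types false
set_option maxHeartbeats 1000000
universe u
open CategoryTheory CategoryTheory.Limits AlgebraicGeometry
open Coherent

namespace Groth.Agent.S16286

/-- Let f : X → Y be a morphism of schemes, F and G O_X-modules, and L_• → F → 0 a resolution of F: a
chain complex L of O_X-modules indexed by the natural numbers with an augmentation π : L_0 → F such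
that L is exact in every positive degree and L_1 → L_0 → F → 0 is exact. For an O_X-module M write
Ext^p_f(M, -) for the p-th right derived functor of the left exact functor G ↦ f_* Hom_{O_X}(M, G),
and assume Ext^p_f(L_i, G) = 0 for every i ≥ 0 and every p ≥ 1. Let C be the cochain complex f_*
Hom_{O_X}(L_•, G) of O_Y-modules, given with identifications C^i ≅ f_* Hom_{O_X}(L_i, G) under which
its differentials are f_* of the maps induced by the differentials of L. Then for every i the i-th
cohomology object of C is isomorphic to Ext^i_f(F, G). (Stated for schemes, the published statement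
being for ringed spaces; existence of an isomorphism of O_Y-modules only. The internal Hom functors,
injective resolutions and additivity of the composite functors are the stated instance hypotheses,
all true.) -/
theorem result (X Y : Scheme.{u}) (f : X ⟶ Y) (F G : X.Modules)
    (L : ChainComplex X.Modules ℕ) (π : L.X 0 ⟶ F) [Epi π] (hπ : L.d 1 0 ≫ π = 0)
    (hex0 : (ShortComplex.mk (L.d 1 0) π hπ).Exact) (hex : ∀ j : ℕ, L.ExactAt (j + 1))
    [∀ j : ℕ, ModSite.HasSheafHom (O := X.sheaf) (L.X j)] [ModSite.HasSheafHom (O := X.sheaf) F]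
    [HasInjectiveResolutions (ModSite.Mod X.sheaf)]
    [∀ j : ℕ, (ModSite.sheafHom (O := X.sheaf) (L.X j) ⋙ Scheme.Modules.pushforward f).Additive]
    [(ModSite.sheafHom (O := X.sheaf) F ⋙ Scheme.Modules.pushforward f).Additive]
    (hL : ∀ (j : ℕ) (p : ℕ), 1 ≤ p → IsZero (((ModSite.sheafHom (O := X.sheaf) (L.X j) ⋙ Scheme.Modules.pushforward f).rightDerived p).obj G))
    (C : CochainComplex Y.Modules ℕ)
    (e : ∀ j : ℕ, C.X j ≅ (Scheme.Modules.pushforward f).obj ((ModSite.sheafHom (O := X.sheaf) (L.X j)).obj G))
    (hC : ∀ j : ℕ, C.d j (j + 1) ≫ (e (j + 1)).hom =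
      (e j).hom ≫ (Scheme.Modules.pushforward f).map ((ExtSupp.sheafHomMap (O := X.sheaf) (L.d (j + 1) j)).app G))
    (i : ℕ) :
    Nonempty (C.homology i ≅ ((ModSite.sheafHom (O := X.sheaf) F ⋙ Scheme.Modules.pushforward f).rightDerived i).obj G) := by
    open Groth.Agent in
    open Groth.Agent.ExtFX in
    letI : ∀ M : X.Modules, (T f M).Additive := fun M => additive_T f M
    let g := Scheme.Modules.pushforward f
    let iso : ∀ (M : X.Modules) [ModSite.HasSheafHom (O := X.sheaf) M],
        ModSite.sheafHom (O := X.sheaf) M ⋙ g ≅ T f M := fun M _ =>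
      Functor.isoWhiskerRight (ExtShX.sheafHomIso M) g
    haveI : ∀ j, (ModSite.sheafHom (O := X.sheaf) (L.X j) ⋙ g).Additive := fun j => inferInstance
    have hT : ∀ j p : ℕ, 1 ≤ p → IsZero (((T f (L.X j)).rightDerived p).obj G) := fun j p hp => by
      obtain ⟨a⟩ := nonempty_derived_iso (iso (L.X j)) G p
      exact (hL j p hp).of_iso a.symm
    let e' : ∀ j : ℕ, C.X j ≅ (T f (L.X j)).obj G := fun j => e j ≪≫ (iso (L.X j)).app G
    have hC' : ∀ j : ℕ, C.d j (j + 1) ≫ (e' (j + 1)).hom = (e' j).hom ≫ (Tmap f (L.d (j + 1) j)).app G := fun j => by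
      show C.d j (j + 1) ≫ (e (j + 1)).hom ≫ g.map ((ExtShX.sheafHomIso (L.X (j + 1))).hom.app G) =
        ((e j).hom ≫ g.map ((ExtShX.sheafHomIso (L.X j)).hom.app G)) ≫ _
      rw [← Category.assoc, hC, Category.assoc, Category.assoc]
      exact congrArg ((e j).hom ≫ ·) (frozen_naturality (f := f) (L.d (j + 1) j) G)
    let q : ExtShX.syz L 0 ≅ F := IsColimit.coconePointUniqueUpToIso
      (cokernelIsCokernel (L.d 1 0)) hex0.gIsCokernel
    obtain ⟨b⟩ := nonempty_derived_iso ((Tiso f q).symm ≪≫ (iso F).symm) G i
    rcases i with _ | i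
    · obtain ⟨c⟩ := homology_zero f L C e' hC'
      exact ⟨c ≪≫ b⟩
    · obtain ⟨c⟩ := homology_succ f L hex hT C e' hC' i
      exact ⟨c ≪≫ b⟩

end Groth.Agent.S16286
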