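import Groth.Statements.S16287
import Groth.Agent.H6MV.Basic


set_option autoImplicit false
set_option backward.isDefEq.respectTransparency false
set_option backward.isDefEq.respectTransparency.types false
universe u
open CategoryTheory CategoryTheory.Limits TopologicalSpace
open LocCohZ

namespace Groth.Agent.S16287

open Abelian Groth.Agent.H6MV

variable {X : TopCat.{u}} (F : CohTop.Ab X) (U U' : Opens X)

private noncomputable def ofPair (i : ℕ) (y : LocCohZ.HZc F i U × LocCohZ.HZc F i U') :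
    Ext (mvSeq U U').X₂ F i :=
  (Ext.mk₀ biprod.fst).comp y.1 (zero_add i) + (Ext.mk₀ biprod.snd).comp y.2 (zero_add i)

private theorem g_comp (i : ℕ) (x : LocCohZ.HZc F i (U ⊔ U')) :
    (Ext.mk₀ (mvSeq U U').g).comp x (zero_add i) = ofPair F U U' i
      (LocCohZ.resZ F i (le_top : U ⊔ U' ≤ ⊤) (le_top : U ≤ ⊤) le_sup_left le_rfl x,
       LocCohZ.resZ F i (le_top : U ⊔ U' ≤ ⊤) (le_top : U' ≤ ⊤) le_sup_right le_rfl x) := by
  show _ = (Ext.mk₀ biprod.fst).comp ((Ext.mk₀ _).comp x (zero_add i)) (zero_add i) +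
    (Ext.mk₀ biprod.snd).comp ((Ext.mk₀ _).comp x (zero_add i)) (zero_add i)
  rw [Ext.mk₀_comp_mk₀_assoc, Ext.mk₀_comp_mk₀_assoc, ← Ext.add_comp, ← Ext.mk₀_add]
  congr 2
  exact biprod.desc_eq

private theorem f_comp (i : ℕ) (y : LocCohZ.HZc F i U × LocCohZ.HZc F i U') :
    (Ext.mk₀ (mvSeq U U').f).comp (ofPair F U U' i y) (zero_add i) =
      LocCohZ.resZ F i (le_top : U ≤ ⊤) (le_top : U ⊓ U' ≤ ⊤) inf_le_left le_rfl y.1 -
        LocCohZ.resZ F i (le_top : U' ≤ ⊤) (le_top : U ⊓ U' ≤ ⊤) inf_le_right le_rfl y.2 := by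
  rw [ofPair, Ext.comp_add, Ext.mk₀_comp_mk₀_assoc, Ext.mk₀_comp_mk₀_assoc]
  erw [biprod.lift_fst, biprod.lift_snd]
  rw [Ext.mk₀_neg, Ext.neg_comp, ← sub_eq_add_neg]
  rfl

private theorem ofPair_surjective (i : ℕ) (z : Ext (mvSeq U U').X₂ F i) :
    ∃ y, ofPair F U U' i y = z := by
  refine ⟨((Ext.mk₀ biprod.inl).comp z (zero_add i), (Ext.mk₀ biprod.inr).comp z (zero_add i)), ?_⟩
  rw [ofPair, Ext.mk₀_comp_mk₀_assoc, Ext.mk₀_comp_mk₀_assoc, ← Ext.add_comp, ← Ext.mk₀_add,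
    biprod.total]
  exact Ext.mk₀_id_comp z

private theorem inl_ofPair (i : ℕ) (y : LocCohZ.HZc F i U × LocCohZ.HZc F i U') :
    (Ext.mk₀ biprod.inl).comp (ofPair F U U' i y) (zero_add i) = y.1 := by
  rw [ofPair, Ext.comp_add, Ext.mk₀_comp_mk₀_assoc, Ext.mk₀_comp_mk₀_assoc]
  erw [biprod.inl_fst, biprod.inl_snd]
  rw [Ext.mk₀_zero, Ext.zero_comp, add_zero]
  exact Ext.mk₀_id_comp y.1

private theorem inr_ofPair (i : ℕ) (y : LocCohZ.HZc F i U × LocCohZ.HZc F i U') :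
    (Ext.mk₀ biprod.inr).comp (ofPair F U U' i y) (zero_add i) = y.2 := by
  rw [ofPair, Ext.comp_add, Ext.mk₀_comp_mk₀_assoc, Ext.mk₀_comp_mk₀_assoc]
  erw [biprod.inr_fst, biprod.inr_snd]
  rw [Ext.mk₀_zero, Ext.zero_comp, zero_add]
  exact Ext.mk₀_id_comp y.2

/-- Let X be a topological space, F an abelian sheaf on X, and U, U' open subsets with closed
complements Z = X ∖ U and Z' = X ∖ U' (so Z ∩ Z' = X ∖ (U ∪ U') and Z ∪ Z' = X ∖ (U ∩ U')). With
H^i_{X∖W}(X, F) = Ext^i(Z_X/Z_W, F) and the enlargement-of-support maps r : H^i_{Z∩Z'} → H^i_Z, r' :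
H^i_{Z∩Z'} → H^i_{Z'}, s : H^i_Z → H^i_{Z∪Z'}, s' : H^i_{Z'} → H^i_{Z∪Z'}: the map H^0_{Z∩Z'} →
H^0_Z ⊕ H^0_{Z'}, x ↦ (r x, r' x), is injective, and there are connecting homomorphisms δ_i :
H^i_{Z∪Z'}(X, F) → H^{i+1}_{Z∩Z'}(X, F) such that for every i the sequence H^i_{Z∩Z'} → H^i_Z ⊕
H^i_{Z'} → H^i_{Z∪Z'} → H^{i+1}_{Z∩Z'} → H^{i+1}_Z ⊕ H^{i+1}_{Z'} is exact, the middle map being (y,
y') ↦ s y − s' y'. -/
theorem result {X : TopCat.{u}} (F : CohTop.Ab X) (U U' : Opens X) :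
    Function.Injective (fun x : LocCohZ.HZc F 0 (U ⊔ U') =>
      (LocCohZ.resZ F 0 (le_top : U ⊔ U' ≤ ⊤) (le_top : U ≤ ⊤) le_sup_left le_rfl x,
       LocCohZ.resZ F 0 (le_top : U ⊔ U' ≤ ⊤) (le_top : U' ≤ ⊤) le_sup_right le_rfl x)) ∧
    ∃ δ : ∀ i : ℕ, LocCohZ.HZc F i (U ⊓ U') →+ LocCohZ.HZc F (i + 1) (U ⊔ U'),
      ∀ i : ℕ,
        (∀ y : LocCohZ.HZc F i U × LocCohZ.HZc F i U',
          LocCohZ.resZ F i (le_top : U ≤ ⊤) (le_top : U ⊓ U' ≤ ⊤) inf_le_left le_rfl y.1 -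
              LocCohZ.resZ F i (le_top : U' ≤ ⊤) (le_top : U ⊓ U' ≤ ⊤) inf_le_right le_rfl y.2 = 0 ↔
            ∃ x : LocCohZ.HZc F i (U ⊔ U'),
              LocCohZ.resZ F i (le_top : U ⊔ U' ≤ ⊤) (le_top : U ≤ ⊤) le_sup_left le_rfl x = y.1 ∧
              LocCohZ.resZ F i (le_top : U ⊔ U' ≤ ⊤) (le_top : U' ≤ ⊤) le_sup_right le_rfl x = y.2) ∧
        (∀ w : LocCohZ.HZc F i (U ⊓ U'),
          δ i w = 0 ↔ ∃ y : LocCohZ.HZc F i U × LocCohZ.HZc F i U',
            LocCohZ.resZ F i (le_top : U ≤ ⊤) (le_top : U ⊓ U' ≤ ⊤) inf_le_left le_rfl y.1 -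
              LocCohZ.resZ F i (le_top : U' ≤ ⊤) (le_top : U ⊓ U' ≤ ⊤) inf_le_right le_rfl y.2 = w) ∧
        (∀ x : LocCohZ.HZc F (i + 1) (U ⊔ U'),
          (LocCohZ.resZ F (i + 1) (le_top : U ⊔ U' ≤ ⊤) (le_top : U ≤ ⊤) le_sup_left le_rfl x = 0 ∧
            LocCohZ.resZ F (i + 1) (le_top : U ⊔ U' ≤ ⊤) (le_top : U' ≤ ⊤) le_sup_right le_rfl x = 0) ↔
            ∃ w : LocCohZ.HZc F i (U ⊓ U'), δ i w = x) := by
  have hS := mvSeq_shortExact U U'
  constructor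
  · intro x x' hxx
    obtain ⟨φ, rfl⟩ := (Ext.mk₀_bijective _ _).2 x
    obtain ⟨φ', rfl⟩ := (Ext.mk₀_bijective _ _).2 x'
    have h := (g_comp F U U' 0 (Ext.mk₀ φ)).trans ((congrArg (ofPair F U U' 0) hxx).trans (g_comp F U U' 0 (Ext.mk₀ φ')).symm)
    rw [Ext.mk₀_comp_mk₀, Ext.mk₀_comp_mk₀] at h
    have := hS.epi_g
    rw [(cancel_epi _).1 ((Ext.mk₀_bijective _ _).1 h)]
  · refine ⟨fun i => AddMonoidHom.mk' (fun w => hS.extClass.comp w (Nat.add_comm 1 i))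
      (fun a b => Ext.comp_add _ _ _ _), fun i => ⟨fun y => ?_, fun w => ?_, fun x => ?_⟩⟩
    · rw [← f_comp]
      constructor
      · intro h
        obtain ⟨x, hx⟩ := Ext.contravariant_sequence_exact₂ hS F _ h
        rw [g_comp] at hx
        refine ⟨x, ?_, ?_⟩
        · simpa only [inl_ofPair] using congrArg (fun z => (Ext.mk₀ biprod.inl).comp z (zero_add i)) hx
        · simpa only [inr_ofPair] using congrArg (fun z => (Ext.mk₀ biprod.inr).comp z (zero_add i)) hx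
      · rintro ⟨x, h1, h2⟩
        rw [show y = (_, _) from Prod.ext h1.symm h2.symm, ← g_comp, Ext.mk₀_comp_mk₀_assoc,
          ShortComplex.zero, Ext.mk₀_zero, Ext.zero_comp]
    · constructor
      · intro h
        obtain ⟨z, hz⟩ := Ext.contravariant_sequence_exact₁ hS F w (n₁ := i + 1) (by omega) h
        obtain ⟨y, rfl⟩ := ofPair_surjective F U U' i z
        exact ⟨y, (f_comp F U U' i y).symm.trans hz⟩
      · rintro ⟨y, rfl⟩
        rw [← f_comp]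
        exact ShortComplex.ShortExact.extClass_comp_assoc hS _ (h := Nat.add_comm 1 i)
    · constructor
      · rintro ⟨h1, h2⟩
        have h : (Ext.mk₀ (mvSeq U U').g).comp x (zero_add (i + 1)) = 0 := by
          rw [g_comp, h1, h2, ofPair, Ext.comp_zero, Ext.comp_zero, add_zero]
        obtain ⟨w, hw⟩ := Ext.contravariant_sequence_exact₃ hS F x h (n₀ := i) (by omega)
        exact ⟨w, hw⟩
      · rintro ⟨w, rfl⟩
        let x := hS.extClass.comp w (Nat.add_comm 1 i)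
        have h : (Ext.mk₀ (mvSeq U U').g).comp x (zero_add (i + 1)) = 0 := by
          rw [← Ext.comp_assoc _ hS.extClass w (zero_add 1) (Nat.add_comm 1 i) (by omega),
            ShortComplex.ShortExact.comp_extClass hS, Ext.zero_comp]
        rw [g_comp] at h
        constructor
        · have e := congrArg (fun z => (Ext.mk₀ biprod.inl).comp z (zero_add (i + 1))) h
          simp only [inl_ofPair, Ext.comp_zero] at e
          exact e
        · have e := congrArg (fun z => (Ext.mk₀ biprod.inr).comp z (zero_add (i + 1))) h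
          simp only [inr_ofPair, Ext.comp_zero] at e
          exact e

end Groth.Agent.S16287
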