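import Groth.Statements.S16293
import Groth.Agent.CanonDual.Pointed

set_option autoImplicit false
universe u
open CategoryTheory CategoryTheory.Limits AlgebraicGeometry
attribute [local instance] HasDerivedCategory.standard
open Curves

namespace Groth.Agent.S16293

/-- Let k be an algebraically closed field and (X, D) a stable n-pointed curve over k, taken in the
form: X is proper and connected over k, of dimension 1, with at-worst-nodal singularities; D ⊆ X is
a finite closed set of n points each having an open neighbourhood smooth over k; ω_X is the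
dualizing module of X (degree -1 cohomology sheaf of f^! O for the structure morphism f, for any
choice of the data Rf_* on D_QCoh with its right adjoint); L_D is an invertible module with L_D ⊗
I_D ≅ O_X for the ideal sheaf I_D of D with its reduced structure; and ω_X(D) := ω_X ⊗ L_D is ample.
Let g = dim_k H^1(X, O_X). Then for every l ≥ 2, dim_k H^0(X, ω_X(D)^{⊗l}) = l(2g - 2 + n) + 1 - g;
in particular for l = 3 it is 5g - 5 + 3n. -/
theorem result (k : Type u) [Field k] [IsAlgClosed k] (X : Scheme.{u}) [X.Over (Spec (CommRingCat.of k))]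
    [IsProper (X ↘ (Spec (CommRingCat.of k)))] [ConnectedSpace X] (hdim : topologicalKrullDim X = 1) (hX : Curv2.AtWorstNodal k X)
    [DCoh.HasRpush (X ↘ (Spec (CommRingCat.of k)))] (h : DCoh.RpushPreservesQCoh (X ↘ (Spec (CommRingCat.of k)))) [DCoh.HasShriek (X ↘ (Spec (CommRingCat.of k))) h]
    (OY : DCoh.DQCoh (Spec (CommRingCat.of k))) (hOY : Nonempty (OY.obj ≅ DCoh.inD (Spec (CommRingCat.of k)) (Coh.structureModule (Spec (CommRingCat.of k)))))
    (D : Set X) (hDfin : D.Finite) (hDcl : IsClosed D) (hDsm : ∀ x ∈ D, ∃ U : X.Opens, x ∈ U ∧ Smooth (U.ι ≫ (X ↘ (Spec (CommRingCat.of k)))))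
    (LD : X.Modules) (hLD : PicF.IsInvertible LD)
    (hinv : ClSub.IsInverseOf LD (ClSub.idealMod (Scheme.IdealSheafData.vanishingIdeal (⟨D, hDcl⟩ : TopologicalSpace.Closeds X))))
    (hst : CohB1.IsAmple (CohB1.tensorMod (DCoh.dualizingMod (X ↘ (Spec (CommRingCat.of k))) h OY 1) LD))
    (l : ℕ) (hl : 2 ≤ l) :
    (Module.finrank k (Coh.HH X (CohB1.tensorPow (CohB1.tensorMod (DCoh.dualizingMod (X ↘ (Spec (CommRingCat.of k))) h OY 1) LD) l) 0) : ℤ) =
      (l : ℤ) * (2 * (Curv2.genus k X : ℤ) - 2 + (Nat.card D : ℤ)) + 1 - (Curv2.genus k X : ℤ) := by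
  haveI := Groth.Agent.CanonDual.isReduced_of_nodal k hdim.le hX
  obtain ⟨hM, hdegM, hJ⟩ := Groth.Agent.CanonDual.pointed_data (k := k) hdim hX h OY hOY hDfin hDcl hLD hinv
  have hXc := Groth.Agent.CanonDual.closedDimOne_of_connected k hdim
  have hH : Subsingleton (Coh.HH X (CohB1.tensorPow (CohB1.tensorMod (DCoh.dualizingMod (X ↘ (Spec (CommRingCat.of k))) h OY 1) LD) l) 1) := by
    refine Groth.Agent.CanonDual.subsingleton_H1_of_subcurves (k := k) hdim hXc
      (Groth.Agent.InvX.isInvertible_tensorPow hM l) fun J h₁ h₂ h₃ => ?_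
    haveI := h₁
    haveI := h₂
    rw [Groth.Agent.CanonDual.deg_restrict_tensorPow J h₃ hM l]
    letI : J.subscheme.Over (Spec (CommRingCat.of k)) := ⟨J.subschemeι ≫ (X ↘ Spec (CommRingCat.of k))⟩
    haveI : IsProper (J.subscheme ↘ Spec (CommRingCat.of k)) :=
      inferInstanceAs (IsProper (J.subschemeι ≫ (X ↘ Spec (CommRingCat.of k))))
    have hd := Groth.Agent.CanonDual.deg_pos_of_ample k h₃ (Groth.Agent.AmpleDev.isAmple_pullback_finite k J.subschemeι hst)
    have hb := hJ J h₁ h₂ h₃
    have hm' : (2 : ℤ) ≤ (l : ℤ) := by exact_mod_cast hl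
    nlinarith [mul_le_mul_of_nonneg_right hm' hd.le]
  have h1 := Module.finrank_zero_of_subsingleton (R := k) (M := Coh.HH X (CohB1.tensorPow (CohB1.tensorMod (DCoh.dualizingMod (X ↘ (Spec (CommRingCat.of k))) h OY 1) LD) l) 1)
  have hd := Groth.Agent.CanonDual.deg_tensorPow (k := k) hdim.le hM l
  rw [hdegM] at hd
  unfold Curv2.deg at hd
  rw [Groth.Agent.CanonDual.euler_two hdim.le
      (Groth.Agent.ProjUPX.isQCoh_of_isInvertible (Groth.Agent.InvX.isInvertible_tensorPow hM l)), h1,
    Groth.Agent.CanonDual.euler_two hdim.le Groth.Agent.QCoh.isQCoh_structureModule,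
    Groth.Agent.SurfRR.finrank_h0_reduced k] at hd
  unfold Curv2.genus at hd ⊢
  push_cast at hd
  linarith

end Groth.Agent.S16293
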