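import Groth.Statements.S16294
import Groth.Agent.CanonDual.DualGraph
import Groth.Agent.CanonDual.Nodal
import Groth.Agent.S7642
-- import your own Groth.Agent.* helpers here

set_option autoImplicit false
universe u
open CategoryTheory CategoryTheory.Limits AlgebraicGeometry
attribute [local instance] HasDerivedCategory.standard
open Curves


namespace Groth.Agent.S16294

/-- Let k be an algebraically closed field and (X, D) a semi-stable n-pointed curve over k, taken in the
form: X is proper and connected over k, of dimension 1, with at-worst-nodal singularities; D ⊆ X is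
a finite closed set of points each having an open neighbourhood smooth over k; ω_X is the dualizing
module of X (degree -1 cohomology sheaf of f^! O for the structure morphism f, for any choice of the
data Rf_* on D_QCoh with its right adjoint); L_D is an invertible module with L_D ⊗ I_D ≅ O_X for
the ideal sheaf I_D of D with its reduced structure. Let (V, E, ends) be the dual graph of X over k
(vertices = irreducible components C_v, edges = singular points, each edge joining the components
through its node). Then (X, D) is stable, i.e. ω_X ⊗ L_D is ample, if and only if for every vertex v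
one has 2 p_a(C_v) - 2 + e_v + d_v > 0, where p_a(C_v) = dim_k H^1(C_v, O) for the reduced component
C_v, e_v is the number of nodes of X lying on C_v and on another component (non-loop edges at v) and
d_v is the number of marked points on C_v. (The published criterion is stated per component C̃_v of
the normalisation as 2 g(C̃_v) - 2 + n(C̃_v) > 0, n(C̃_v) counting its points over D and over the
nodes of X; since p_a(C_v) = g(C̃_v) + (number of nodes of X lying on C_v alone) and each such node
has two preimages in C̃_v, the two counts agree.) -/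
theorem result (k : Type u) [Field k] [IsAlgClosed k] (X : Scheme.{u}) [X.Over (Spec (CommRingCat.of k))]
    [IsProper (X ↘ (Spec (CommRingCat.of k)))] [ConnectedSpace X] (hdim : topologicalKrullDim X = 1) (hX : Curv2.AtWorstNodal k X)
    [DCoh.HasRpush (X ↘ (Spec (CommRingCat.of k)))] (h : DCoh.RpushPreservesQCoh (X ↘ (Spec (CommRingCat.of k)))) [DCoh.HasShriek (X ↘ (Spec (CommRingCat.of k))) h]
    (OY : DCoh.DQCoh (Spec (CommRingCat.of k))) (hOY : Nonempty (OY.obj ≅ DCoh.inD (Spec (CommRingCat.of k)) (Coh.structureModule (Spec (CommRingCat.of k)))))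
    (D : Set X) (hDfin : D.Finite) (hDcl : IsClosed D) (hDsm : ∀ x ∈ D, ∃ U : X.Opens, x ∈ U ∧ Smooth (U.ι ≫ (X ↘ (Spec (CommRingCat.of k)))))
    (LD : X.Modules) (hLD : PicF.IsInvertible LD)
    (hinv : ClSub.IsInverseOf LD (ClSub.idealMod (Scheme.IdealSheafData.vanishingIdeal (⟨D, hDcl⟩ : TopologicalSpace.Closeds X))))
    (V E : Type u) [Finite E] (cv : V → Set X) (ce : E → X) (ends : E → V × V)
    (hΓ : DualGr.IsDualGraph (X ↘ (Spec (CommRingCat.of k))) cv ce ends) :
    CohB1.IsAmple (CohB1.tensorMod (DCoh.dualizingMod (X ↘ (Spec (CommRingCat.of k))) h OY 1) LD) ↔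
      ∀ v : V, 0 < 2 * (@Curv2.genus k _ (Scheme.IdealSheafData.vanishingIdeal (⟨cv v, isClosed_of_mem_irreducibleComponents (cv v) (hΓ.comp_mem v)⟩ : TopologicalSpace.Closeds X)).subscheme ⟨(Scheme.IdealSheafData.vanishingIdeal (⟨cv v, isClosed_of_mem_irreducibleComponents (cv v) (hΓ.comp_mem v)⟩ : TopologicalSpace.Closeds X)).subschemeι ≫ (X ↘ (Spec (CommRingCat.of k)))⟩ : ℤ) - 2 +
        (Nat.card {e : E // (ends e).1 ≠ (ends e).2 ∧ ((ends e).1 = v ∨ (ends e).2 = v)} : ℤ) +
        (Nat.card ↥(D ∩ cv v) : ℤ) := by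
  haveI := CanonDual.isReduced_of_nodal k hdim.le hX
  haveI := CurveCohLib.isNoetherian_of_proper (k := k) (X := X)
  have h0 := SurfRR.finrank_h0_reduced k (X := X)
  obtain ⟨tr, hω⟩ := CanonDual.exists_isRDualOver_dualizingMod h OY hOY (d := 1)
    (fun M hM q hq => CanonDual.subsingleton_HH_curve k hdim.le hM hq)
  have hinvω := CanonDual.isInvertible_dualizing_nodal hdim h0 hX hω
  have hXc := CanonDual.closedDimOne_of_connected k hdim
  have hDs : ∀ x ∈ D, x ∈ (X ↘ Spec (CommRingCat.of k)).smoothLocus := fun x hx => by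
    obtain ⟨U, hxU, hU⟩ := hDsm x hx
    exact CanonDual.mem_smoothLocus_of_nhd k hxU hU
  have key : ∀ (v : V), @Curv2.deg k _ (Scheme.IdealSheafData.vanishingIdeal (⟨cv v, isClosed_of_mem_irreducibleComponents (cv v) (hΓ.comp_mem v)⟩ : TopologicalSpace.Closeds X)).subscheme
        ⟨(Scheme.IdealSheafData.vanishingIdeal (⟨cv v, isClosed_of_mem_irreducibleComponents (cv v) (hΓ.comp_mem v)⟩ : TopologicalSpace.Closeds X)).subschemeι ≫ (X ↘ (Spec (CommRingCat.of k)))⟩
        ((Scheme.Modules.pullback (Scheme.IdealSheafData.vanishingIdeal (⟨cv v, isClosed_of_mem_irreducibleComponents (cv v) (hΓ.comp_mem v)⟩ : TopologicalSpace.Closeds X)).subschemeι).obj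
          (CohB1.tensorMod (DCoh.dualizingMod (X ↘ (Spec (CommRingCat.of k))) h OY 1) LD)) 1 =
      2 * (@Curv2.genus k _ (Scheme.IdealSheafData.vanishingIdeal (⟨cv v, isClosed_of_mem_irreducibleComponents (cv v) (hΓ.comp_mem v)⟩ : TopologicalSpace.Closeds X)).subscheme ⟨(Scheme.IdealSheafData.vanishingIdeal (⟨cv v, isClosed_of_mem_irreducibleComponents (cv v) (hΓ.comp_mem v)⟩ : TopologicalSpace.Closeds X)).subschemeι ≫ (X ↘ (Spec (CommRingCat.of k)))⟩ : ℤ) - 2 +
        (Nat.card {e : E // (ends e).1 ≠ (ends e).2 ∧ ((ends e).1 = v ∨ (ends e).2 = v)} : ℤ) +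
        (Nat.card ↥(D ∩ cv v) : ℤ) := by
    intro v
    have hequi : ∀ Z ∈ irreducibleComponents (X : Type u), topologicalKrullDim Z = 1 := fun Z hZ => by
      exact_mod_cast CanonDual.components_dim_one k hXc Z hZ
    obtain ⟨hconn, hC1⟩ := CanonDual.component_props hequi (cv v) (hΓ.comp_mem v)
    have hpts := CanonDual.deg_restrict_points hdim hDfin hDcl hDs hLD hinv (cv v) (hΓ.comp_mem v)
    have hedge := CanonDual.ncard_inter_eq_edges (k := k) hΓ v
    generalize hIC : Scheme.IdealSheafData.vanishingIdeal (⟨cv v, isClosed_of_mem_irreducibleComponents (cv v) (hΓ.comp_mem v)⟩ : TopologicalSpace.Closeds X) = IC at hconn hC1 hpts ⊢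
    haveI := hconn
    haveI : IsReduced IC.subscheme := hIC ▸ H23.RedSub.isReduced_vanishingIdeal _
    letI : IC.subscheme.Over (Spec (CommRingCat.of k)) := ⟨IC.subschemeι ≫ (X ↘ Spec (CommRingCat.of k))⟩
    haveI : IsProper (IC.subscheme ↘ Spec (CommRingCat.of k)) :=
      inferInstanceAs (IsProper (IC.subschemeι ≫ (X ↘ Spec (CommRingCat.of k))))
    obtain ⟨hdω, -⟩ := CanonDual.deg_dualizing_subcurve hdim hω hinvω IC hC1
    have hsupp : (IC.support : Set X) = cv v := hIC ▸ Scheme.IdealSheafData.coe_support_vanishingIdeal _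
    rw [CanonDual.finrank_inter_eq hdim hX IC hC1, hsupp, hedge] at hdω
    obtain ⟨e⟩ := H23.PicMul.pull IC.subschemeι (DCoh.dualizingMod (X ↘ Spec (CommRingCat.of k)) h OY 1) LD
    have heq : Curv2.deg k IC.subscheme ((Scheme.Modules.pullback IC.subschemeι).obj
        (CohB1.tensorMod (DCoh.dualizingMod (X ↘ Spec (CommRingCat.of k)) h OY 1) LD)) 1 =
      Curv2.deg k IC.subscheme ((Scheme.Modules.pullback IC.subschemeι).obj (DCoh.dualizingMod (X ↘ Spec (CommRingCat.of k)) h OY 1)) 1 +
        Curv2.deg k IC.subscheme ((Scheme.Modules.pullback IC.subschemeι).obj LD) 1 := by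
      rw [← CanonDual.deg_tensorMod hC1.le (PicClLib.isInvertible_pullback _ hinvω) (PicClLib.isInvertible_pullback _ hLD)]
      unfold Curv2.deg
      rw [Euler.euler_congr k e]
    rw [heq, hdω, hpts, CanonDual.euler_two hC1.le QCoh.isQCoh_structureModule, SurfRR.finrank_h0_reduced k, Nat.card_coe_set_eq]
    unfold Curv2.genus
    push_cast
    ring
  have hrad : ∀ (C : Set X) (hC : C ∈ irreducibleComponents (X : Type u)),
      (X.irreducibleComponentIdeal C hC).radical = Scheme.IdealSheafData.vanishingIdeal ⟨C, isClosed_of_mem_irreducibleComponents C hC⟩ := fun C hC => by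
    rw [← Scheme.IdealSheafData.vanishingIdeal_support]
    exact congrArg _ (TopologicalSpace.Closeds.ext rfl)
  rw [S7642.result k X hdim.le _ (InvX.isInvertible_tensorMod hinvω hLD)]
  constructor
  · intro hpos v
    have := hpos (cv v) (hΓ.comp_mem v) (by exact_mod_cast CanonDual.components_dim_one k hXc _ (hΓ.comp_mem v))
    rw [hrad, key v] at this
    exact this
  · intro hpos C hC _
    obtain ⟨v, rfl⟩ := hΓ.comp_surjective C hC
    rw [hrad, key v]
    exact hpos v

end Groth.Agent.S16294
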