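import Groth.Statements.S16298
import Groth.Agent.CurveReg.Nef
import Groth.Agent.S1585
import Groth.Agent.NormCurve.Delta

set_option linter.style.haveILetI false
set_option backward.isDefEq.respectTransparency false
set_option backward.isDefEq.respectTransparency.types false

set_option autoImplicit false
universe u
open CategoryTheory CategoryTheory.Limits AlgebraicGeometry
open Curves

namespace Groth.Agent.S16298

open Groth.Agent Groth.Agent.CurveReg
open Groth.Agent.PnCoh.Finite (mapLin)

/-- Let k be a field and X a genus-zero curve over k, that is, an integral scheme proper over k of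
dimension one with H^1(X, O_X) = 0. Then the normalization Y of X again satisfies H^1(Y, O_Y) = 0,
so Y is again a genus-zero curve. (The two instance binders on the morphism from the generic point
always hold; they are only needed to form the normalization.) -/
theorem result (k : Type u) [Field k] (X : Scheme.{u}) [X.Over (Spec (CommRingCat.of k))]
    [IsIntegral X] [IsProper (X ↘ (Spec (CommRingCat.of k)))] (hdim : topologicalKrullDim X = 1)
    (h1 : Subsingleton (Coh.HH X (Coh.structureModule X) 1))
    [QuasiCompact (X.fromSpecStalk (genericPoint X))] [QuasiSeparated (X.fromSpecStalk (genericPoint X))] :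
    Subsingleton (Coh.HH (Curv2.normalization X) (Coh.structureModule (Curv2.normalization X)) 1) := by
  haveI := CurveCohLib.isNoetherian_of_proper (k := k) (X := X)
  let ν := Curv2.normalizationι X
  let Y := Curv2.normalization X
  haveI := NormCurve.isFinite_normalizationι X (S1585.isNagata_affine k X)
  haveI : Mono (ClSub.unitToPush ν) := NormCurve.mono_unitToPush X
  let η := ClSub.unitToPush ν
  have hS := CurveSlope.shortExact_cokernel_of_mono η
  haveI : IsLocallyNoetherian Y := LocallyOfFiniteType.isLocallyNoetherian ν
  have hPc : Coh.IsCoh ((Scheme.Modules.pushforward ν).obj (Coh.structureModule Y)) :=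
    QCoh.isCoh_pushforward_finite ν QCoh.isCoh_structureModule'
  have hC : Coh.IsCoh (cokernel η) := QCoh.isCoh_cokernel QCoh.isQCoh_structureModule hPc η
  have hcl : ∀ x ∈ CohB1.support (cokernel η), IsClosed ({x} : Set X) := fun x hx => by
    by_contra h
    refine hx ?_
    rw [← Module.length_eq_zero_iff (R := X.presheaf.stalk x), NormCurve.length_cokernel_stalk]
    exact NormCurve.deltaInv_of_isField (NormCurve.isField_stalk_of_not_isClosed X hdim x h)
  have hfin := CurveCohLib.finite_of_closedPoints (QCoh.isClosed_support_of_isFT hC.1 hC.2) hcl
  have hC1 : Subsingleton (Coh.HH X (cokernel η) 1) :=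
    CurveVanish.subsingleton_HH_of_finite hfin hcl (fun x hx => not_not.1 hx) 0
  have h2 : Subsingleton (Coh.HH X ((Scheme.Modules.pushforward ν).obj (Coh.structureModule Y)) 1) := by
    refine subsingleton_of_forall_eq 0 fun y => ?_
    obtain ⟨w, rfl⟩ := (CurveCohLib.ker_mapLin_g k hS 1).le
      (LinearMap.mem_ker.2 (hC1.elim (mapLin k (cokernel.π η) 1 y) 0))
    rw [h1.elim w 0, map_zero]
  obtain ⟨e⟩ := QCoh.HH_push_of_isAffineHom ν (M := Coh.structureModule Y) QCoh.isQCoh_structureModule 1
  exact e.toEquiv.subsingleton_congr.2 h2

end Groth.Agent.S16298
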