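import Groth.Statements.S16304
import Groth.Agent.S7338
import Groth.Agent.OmegaLib.IdealMod
-- import your own Groth.Agent.* helpers here

set_option autoImplicit false
universe u
open CategoryTheory CategoryTheory.Limits AlgebraicGeometry
open Resolve

namespace Groth.Agent.S16304

/-- Let k be a field and X a normal surface over k (an integral normal scheme, separated and of finite
type over k, of dimension two) whose only non-regular point is the closed point P, and f : Y → X a
resolution: a proper morphism from an integral scheme Y of dimension two with all local rings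
regular, restricting to an isomorphism over the complement of P. Let V be an effective Cartier
divisor on Y, given by a quasi-coherent ideal sheaf O_Y(-V) that is an invertible module, such that
P lies in f(Supp V) and O_Y(-V) is f-free, that is, the counit f^* f_* O_Y(-V) → O_Y(-V) is an
epimorphism. Then O_Y(-V) is contained in m_P O_Y, the inverse image ideal sheaf of the ideal of the
reduced point P. -/
theorem result (k : Type u) [Field k] (X : Scheme.{u}) [X.Over (Spec (CommRingCat.of k))]
    [IsIntegral X] [IsSeparated (X ↘ (Spec (CommRingCat.of k)))] [LocallyOfFiniteType (X ↘ (Spec (CommRingCat.of k)))]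
    [CompactSpace X] (hdim : topologicalKrullDim X = 2) (hnorm : Pi1.IsNormalScheme X)
    (P : X) (hPc : IsClosed ({P} : Set X)) (hP : ¬ IsRegularLocalRing (X.presheaf.stalk P))
    (hreg : ∀ x : X, x ≠ P → IsRegularLocalRing (X.presheaf.stalk x))
    (Y : Scheme.{u}) (f : Y ⟶ X) [IsIntegral Y] (hdimY : topologicalKrullDim Y = 2)
    (hregY : ∀ y : Y, IsRegularLocalRing (Y.presheaf.stalk y)) [IsProper f]
    (hiso : IsIso (f ∣_ ⟨({P} : Set X)ᶜ, hPc.isOpen_compl⟩))
    (V : Y.IdealSheafData) (hV : PicF.IsInvertible (ClSub.idealMod V)) (hPV : P ∈ f.base '' (V.support : Set Y))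
    (hfree : Epi ((Scheme.Modules.pullbackPushforwardAdjunction f).counit.app (ClSub.idealMod V))) :
    V ≤ (Scheme.IdealSheafData.vanishingIdeal ⟨{P}, hPc⟩).comap f := by
  let C := Scheme.IdealSheafData.vanishingIdeal (⟨{P}, hPc⟩ : TopologicalSpace.Closeds X)
  let K := C.comap f
  have hgen : genericPoint X ∈ (⟨({P} : Set X)ᶜ, hPc.isOpen_compl⟩ : X.Opens) := fun h => hP (by
    obtain rfl : genericPoint X = P := h
    haveI : IsRegularLocalRing X.functionField := inferInstance
    exact this)
  obtain ⟨-, e, hbij⟩ := Groth.Agent.S7338.isIso_mor_of_over (𝟙 X) f f (Category.comp_id f)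
    ⟨({P} : Set X)ᶜ, hPc.isOpen_compl⟩ inferInstance hiso hgen
  have hzero : ∀ (W : X.Opens) (g : Γ(Y, f ⁻¹ᵁ W)), V.subschemeι.app (f ⁻¹ᵁ W) g = 0 →
      K.subschemeι.app (f ⁻¹ᵁ W) g = 0 := by
    intro W g hg
    haveI := Groth.Agent.Ref1X.isIso_app_of_birational hnorm f e hbij W
    obtain ⟨a, rfl⟩ := (ConcreteCategory.bijective_of_isIso (f.app W)).2 g
    have hPa : P ∉ X.basicOpen a := by
      obtain ⟨z, hz, hzP⟩ := hPV
      intro hPa
      have hzb : z ∈ Y.basicOpen (f.app W a) := by
        rw [← Scheme.preimage_basicOpen]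
        show f z ∈ X.basicOpen a
        rwa [show f z = P from hzP]
      rw [← Scheme.IdealSheafData.range_subschemeι] at hz
      obtain ⟨z₀, rfl⟩ := hz
      have h0 : z₀ ∈ V.subschemeι ⁻¹ᵁ Y.basicOpen (f.app W a) := hzb
      rw [Scheme.preimage_basicOpen, hg, Scheme.basicOpen_zero] at h0
      exact h0
    haveI : IsReduced C.subscheme := inferInstance
    have h1 : C.subschemeι.app W a = 0 := by
      refine (basicOpen_eq_bot_iff _).1 ?_
      rw [← Scheme.preimage_basicOpen]
      refine le_bot_iff.1 fun c hc => ?_
      have hc' : C.subschemeι c ∈ ({P} : Set X) := by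
        have h2 : C.subschemeι c ∈ (C.support : Set X) := by
          rw [← Scheme.IdealSheafData.range_subschemeι]; exact ⟨c, rfl⟩
        rwa [Scheme.IdealSheafData.coe_support_vanishingIdeal] at h2
      exact (hPa (Set.mem_singleton_iff.1 hc' ▸ hc)).elim
    have hle : C ≤ (K.subschemeι ≫ f).ker := by
      exact Scheme.IdealSheafData.le_map_comap C f
    have e2 := IsClosedImmersion.lift_fac C.subschemeι (K.subschemeι ≫ f)
      (by rw [Scheme.IdealSheafData.ker_subschemeι]; exact hle)
    have h4 : ∀ (g : K.subscheme ⟶ C.subscheme), (g ≫ C.subschemeι).app W a = 0 := fun g => by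
      show g.app _ (C.subschemeι.app W a) = 0
      rw [h1, map_zero]
    have h3 : (K.subschemeι ≫ f).app W a = 0 := by
      have h5 := h4 (IsClosedImmersion.lift C.subschemeι (K.subschemeι ≫ f)
        (by rw [Scheme.IdealSheafData.ker_subschemeι]; exact hle))
      rw [Scheme.Hom.congr_app e2.symm W]
      exact (congrArg (K.subscheme.presheaf.map _) h5).trans (map_zero (K.subscheme.presheaf.map _).hom)
    exact h3
  let ψ : ClSub.idealMod V ⟶ ClSub.quotMod K := ClSub.idealModι V ≫ ClSub.toSubscheme K
  have hpush : (Scheme.Modules.pushforward f).map ψ = 0 := by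
    refine Scheme.Modules.hom_ext _ _ fun W => AddCommGrpCat.ext fun s => ?_
    exact hzero W (OmegaSh.idealSect V (f ⁻¹ᵁ W) s) (Groth.Agent.OmegaLib.subschemeι_app_idealSect V _ s)
  have hψ : ψ = 0 := by
    rw [← cancel_epi ((Scheme.Modules.pullbackPushforwardAdjunction f).counit.app (ClSub.idealMod V)), comp_zero]
    refine ((Scheme.Modules.pullbackPushforwardAdjunction f).counit.naturality ψ).symm.trans ?_
    rw [Functor.comp_map, hpush, Functor.map_zero, zero_comp]
  refine fun U x hx => ?_
  obtain ⟨k, rfl⟩ := Groth.Agent.OmegaLib.exists_of_mem V U x hx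
  rw [← K.ker_subschemeι_app, RingHom.mem_ker]
  exact congr(($hψ).app U.1 k)

end Groth.Agent.S16304
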