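import Groth.Statements.S16307
import Groth.Agent.CanonDual.GenusOneMul
import Groth.Agent.CurveReg.Nef
import Groth.Agent.AmpleDev.Curve
import Groth.Agent.GrpSchLib.SepPoints

set_option autoImplicit false
set_option linter.style.haveILetI false
set_option backward.isDefEq.respectTransparency false
set_option backward.isDefEq.respectTransparency.types false
set_option maxHeartbeats 1000000
universe u
open CategoryTheory CategoryTheory.Limits AlgebraicGeometry
open Curves

namespace Groth.Agent.S16307

open Groth.Agent Groth.Agent.CanonDual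

/-- In the case of a separably closed base field and a curve that is not geometrically integral (the
case proved in the text), let k be a separably closed field and X a Gorenstein genus-one curve over
k: an integral scheme, proper over k, of dimension one, all of whose local rings are Gorenstein,
with dim_k H^1(X, O_X) = 1 (so H^0(X, O_X) = k). Assume that X is not geometrically integral over k.
Let L be an invertible O_X-module of degree at least 3 over k. Then the section ring ⊕_{m ≥ 0}
H^0(X, L^{⊗ m}) is generated in degree one: for every m, the global sections of L^{⊗ m} ⊗ L = L^{⊗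
(m+1)} are spanned over H^0(X, O_X) by the sections a ⊗ b with a a global section of L^{⊗ m} and b a
global section of L; and L is very ample: for some n there is a closed immersion i : X → P^n_k over
k with i^*O(1) isomorphic to L (existence of an isomorphism only). (The published statement is for
an arbitrary base field and any Gorenstein genus-one curve; the text reduces to a separably closed
field, cites the literature for the geometrically integral case, and proves the remaining case,
which is the one stated here.) -/
theorem result (k : Type u) [Field k] (X : Scheme.{u}) [X.Over (Spec (CommRingCat.of k))] [IsSepClosed k]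
    [IsIntegral X] [IsProper (X ↘ (Spec (CommRingCat.of k)))] (hdim : topologicalKrullDim X = 1)
    (hgor : ∀ x : X, LocCoh.IsGorensteinLocalRing (X.presheaf.stalk x)) (hg : Curv2.genus k X = 1)
    (hngi : ¬ GeometricallyIntegral (X ↘ (Spec (CommRingCat.of k))))
    (L : X.Modules) (hL : PicF.IsInvertible L) (hdeg : 3 ≤ Curv2.deg k X L 1) :
    (∀ m : ℕ, Submodule.span (X.ringCatSheaf.obj.obj (Opposite.op ⊤))
        (Set.range (fun p : (CohB1.tensorPow L m).val.obj (Opposite.op ⊤) × L.val.obj (Opposite.op ⊤) =>
          SecTwist.tmul (CohB1.tensorPow L m) L ⊤ p.1 p.2)) = ⊤) ∧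
    ∃ (n : ℕ) (i : X ⟶ CohB1.ProjSpace n k), IsClosedImmersion i ∧
      i ≫ CohB1.ProjSpace.toSpec n k = X ↘ (Spec (CommRingCat.of k)) ∧
      Nonempty ((Scheme.Modules.pullback i).obj (Twist.twistProjSpace n k 1) ≅ L) := by
  haveI := CurveCohLib.isNoetherian_of_proper (k := k) (X := X)
  haveI : Infinite k := GrpSchLib.infinite_of_isSepClosed k
  have hgg := CanonDual.isGloballyGenerated_of_genus_one k hdim hg hL (by omega)
  obtain ⟨-, hL1, hh0, -⟩ := GOne.numbers k hdim hg hL (by omega)
  obtain ⟨N, t, hcov⟩ := CurveReg.exists_fin_cover hL hgg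
  have hbase : ∀ u : Γ(CohB1.tensorMod (CohB1.tensorPow L 1) L, ⊤), u ∈ CurveReg.tens (CohB1.tensorPow L 1) L :=
    fun u => GOne.products_span k hdim hL hg hdeg u
  let e : CohB1.tensorPow L 1 ≅ L := CurveTensor.commIso (Coh.structureModule X) L ≪≫ AmpleVan.twUnit.app L
  have hd1 : 0 < Curv2.deg k X (CohB1.tensorPow L 1) 1 := by
    unfold Curv2.deg at hdeg ⊢
    rw [Euler.euler_congr k e]
    omega
  have hpow1 : Subsingleton (Coh.HH X (CohB1.tensorPow L 1) 1) :=
    (GOne.numbers k hdim hg (InvX.isInvertible_tensorPow hL 1) hd1).2.1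
  refine ⟨fun m => eq_top_iff.2 fun u _ => ?_, ?_⟩
  · rcases m with - | _ | j
    · let e : CohB1.tensorMod (Coh.structureModule X) L ≅ L :=
        CurveTensor.commIso (Coh.structureModule X) L ≪≫ AmpleVan.twUnit.app L
      let v : Γ(CohB1.tensorMod (Coh.structureModule X) L, ⊤) := u
      have hu : v = InvX.tmul (show Γ(Coh.structureModule X, ⊤) from (1 : Γ(X, ⊤))) (e.hom.app ⊤ v) := by
        refine QCoh.app_injective e.hom ⊤ ?_
        refine Eq.trans ?_ (CurveReg.structure_tmul (1 : Γ(X, ⊤)) (e.hom.app ⊤ v)).symm
        rw [one_smul]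
      exact Submodule.subset_span ⟨((show Γ(Coh.structureModule X, ⊤) from (1 : Γ(X, ⊤))), e.hom.app ⊤ v), hu.symm⟩
    · have hu := hbase u
      induction hu using AddSubgroup.closure_induction with
      | mem y hy => exact Submodule.subset_span hy
      | zero => exact zero_mem _
      | add a b _ _ ha hb => exact add_mem (ha trivial) (hb trivial)
      | neg a _ ha => exact neg_mem (ha trivial)
    · have hj := CurveReg.h1_tensorPow k hdim.le hL t hcov hpow1 (j + 1) (by omega)
      obtain ⟨a, ha⟩ := CurveReg.exists_sum_tmul t k hdim.le (InvX.isInvertible_tensorPow hL (j + 1)) hL hcov hj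
        (show Γ(CohB1.tensorMod (CohB1.tensorMod (CohB1.tensorPow L (j + 1)) L) L, ⊤) from u)
      rw [show u = _ from ha]
      exact Submodule.sum_mem _ fun i _ => Submodule.subset_span ⟨(a i, t i), rfl⟩
  · have hamp := AmpleDev.isAmple_of_deg_pos (k := k) hdim hL (by omega)
    haveI := CurveCohLib.finite_HH (k := k) (CurveDeg.isCoh_of_isInvertible hL) 0
    obtain ⟨n, hn⟩ := Nat.exists_eq_add_one.2 (show 0 < Module.finrank k (Coh.HH X L 0) by omega)
    obtain ⟨σ, hspan⟩ := CurveReg.exists_span k (CurveDeg.isCoh_of_isInvertible hL) hn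
    have hσcov : ∀ x : X, ∃ j, x ∈ H23.TrivBasic.locus (σ j) := fun x => by
      obtain ⟨i, hi⟩ := hcov x
      exact CurveReg.exists_locus_of_span k (X ↘ Spec (CommRingCat.of k)) hL σ hspan hi
    have hPinv : ∀ m, PicF.IsInvertible (CurveEmbed.P L m) := fun m => CurveEmbed.isInvertible_P hL m
    have hP1 : ∀ m, Subsingleton (Coh.HH X (CurveEmbed.P L m) 1) := by
      intro m
      induction m with
      | zero => exact hL1
      | succ m ih => exact CurveReg.subsingleton_h1_tensor t k hdim.le (hPinv m) hL hcov ih
    have hm : ∀ (m : ℕ) (u : Γ(CurveEmbed.P L (m + 1), ⊤)), ∃ a : Fin (n + 1) → Γ(CurveEmbed.P L m, ⊤),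
        u = ((∑ j, InvX.tmul (a j) (σ j) : Γ(CohB1.tensorMod (CurveEmbed.P L m) L, ⊤))) := by
      intro m u
      rcases m with - | j
      · let v : Γ(CohB1.tensorMod L L, ⊤) := u
        have key : ∀ y, y ∈ CurveReg.tens (CohB1.tensorPow L 1) L → ∃ a : Fin (n + 1) → Γ(L, ⊤),
            ((AmpleVan.tw L).map e.hom).app ⊤ y = (∑ j, InvX.tmul (a j) (σ j) : Γ(CohB1.tensorMod L L, ⊤)) := by
          intro y hy
          induction hy using AddSubgroup.closure_induction with
          | mem y hy =>
            obtain ⟨⟨a, b⟩, rfl⟩ := hy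
            obtain ⟨c, rfl⟩ := hspan b
            refine ⟨fun j => (X ↘ Spec (CommRingCat.of k)).appTop ((Scheme.ΓSpecIso (CommRingCat.of k)).inv (c j)) • e.hom.app ⊤ a, ?_⟩
            refine (AmpleVan.map_tmul_left e.hom _ _).trans ?_
            let R : Γ(L, ⊤) →+ Γ(CohB1.tensorMod L L, ⊤) :=
              AddMonoidHom.mk' (fun b => InvX.tmul (e.hom.app ⊤ a) b) (CurveReg.tmul_add_right' _)
            show R _ = _
            rw [map_sum]
            exact Finset.sum_congr rfl fun j _ =>
              (InvX.tmul_smul_right _ _ _).trans (InvX.tmul_smul_left _ _ _).symm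
          | zero =>
            refine ⟨0, ?_⟩
            rw [map_zero]
            symm
            exact Finset.sum_eq_zero fun j _ => AmpleVan.tmul_zero_left _
          | add y z _ _ hy hz =>
            obtain ⟨a, ha⟩ := hy
            obtain ⟨b, hb⟩ := hz
            refine ⟨a + b, ?_⟩
            rw [map_add, ha, hb]
            exact Finset.sum_add_distrib.symm.trans (Finset.sum_congr rfl fun j _ => (AmpleVan.tmul_add_left _ _ _).symm)
          | neg y _ hy =>
            obtain ⟨a, ha⟩ := hy
            refine ⟨-a, ?_⟩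
            rw [map_neg, ha, ← Finset.sum_neg_distrib]
            refine Finset.sum_congr rfl fun j _ => (eq_neg_of_add_eq_zero_left ?_).symm
            rw [Pi.neg_apply, ← AmpleVan.tmul_add_left, neg_add_cancel, AmpleVan.tmul_zero_left]
        obtain ⟨a, ha⟩ := key _ (hbase (((AmpleVan.tw L).map e.inv).app ⊤ v))
        exact ⟨a, (congr(($(((AmpleVan.tw L).mapIso e).inv_hom_id)).app ⊤ v)).symm.trans ha⟩
      · exact CurveReg.exists_sum_tmul σ k hdim.le (hPinv j) hL hσcov (hP1 j) u
    exact ⟨n, CurveReg.exists_embedding (X ↘ Spec (CommRingCat.of k)) hamp σ hσcov hspan hm⟩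

end Groth.Agent.S16307
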