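import Groth.Statements.S16309
import Groth.Agent.CurveReg.NefBC
import Groth.Agent.CurveReg.Pow
set_option linter.style.haveILetI false
set_option backward.isDefEq.respectTransparency false
set_option backward.isDefEq.respectTransparency.types false

set_option autoImplicit false
universe u
open CategoryTheory CategoryTheory.Limits AlgebraicGeometry
open Curves

namespace Groth.Agent.S16309

open Groth.Agent Groth.Agent.CurveReg

/-- Let k be a field and X a proper scheme over k of dimension one (not assumed reduced or irreducible)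
with H^1(X, O_X) = 0 and H^0(X, O_X) = k, and let L be an ample invertible O_X-module. Then the
section ring ⊕_{n ≥ 0} H^0(X, L^{⊗ n}) is generated by H^0(X, L) as a k-algebra: for every n, the
global sections of L^{⊗ n} ⊗ L = L^{⊗ (n+1)} are spanned over H^0(X, O_X) = k by the sections a ⊗ b
with a a global section of L^{⊗ n} and b a global section of L. -/
theorem result (k : Type u) [Field k] (X : Scheme.{u}) [X.Over (Spec (CommRingCat.of k))]
    [IsProper (X ↘ (Spec (CommRingCat.of k)))] (hdim : topologicalKrullDim X = 1)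
    (h1 : Subsingleton (Coh.HH X (Coh.structureModule X) 1))
    (h0 : Module.finrank k (Coh.HH X (Coh.structureModule X) 0) = 1)
    (L : X.Modules) (hA : CohB1.IsAmple L) (n : ℕ) :
    Submodule.span (X.ringCatSheaf.obj.obj (Opposite.op ⊤))
        (Set.range (fun p : (CohB1.tensorPow L n).val.obj (Opposite.op ⊤) × L.val.obj (Opposite.op ⊤) =>
          SecTwist.tmul (CohB1.tensorPow L n) L ⊤ p.1 p.2)) = ⊤ := by
  haveI : CompactSpace X := QuasiCompact.compactSpace_of_compactSpace (X ↘ Spec (CommRingCat.of k))
  refine eq_top_iff.2 fun u _ => ?_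
  rcases n with - | j
  · let e : CohB1.tensorMod (Coh.structureModule X) L ≅ L :=
      CurveTensor.commIso (Coh.structureModule X) L ≪≫ AmpleVan.twUnit.app L
    let v : Γ(CohB1.tensorMod (Coh.structureModule X) L, ⊤) := u
    have hu : v = InvX.tmul (show Γ(Coh.structureModule X, ⊤) from (1 : Γ(X, ⊤))) (e.hom.app ⊤ v) := by
      refine QCoh.app_injective e.hom ⊤ ?_
      refine Eq.trans ?_ (structure_tmul (1 : Γ(X, ⊤)) (e.hom.app ⊤ v)).symm
      rw [one_smul]
    exact Submodule.subset_span ⟨((show Γ(Coh.structureModule X, ⊤) from (1 : Γ(X, ⊤))), e.hom.app ⊤ v), hu.symm⟩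
  obtain ⟨N, t, ht⟩ := (cover_of_ample k hdim.le h1 hA).exists_fin
  have hj := h1_tensorPow k hdim.le hA.1 t ht (j := 0) h1 j (Nat.zero_le _)
  obtain ⟨a, ha⟩ := exists_sum_tmul t k hdim.le (InvX.isInvertible_tensorPow hA.1 j) hA.1 ht hj
    (show Γ(CohB1.tensorMod (CohB1.tensorMod (CohB1.tensorPow L j) L) L, ⊤) from u)
  rw [show u = _ from ha]
  exact Submodule.sum_mem _ fun i _ => Submodule.subset_span ⟨(a i, t i), rfl⟩

end Groth.Agent.S16309
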