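import Groth.Statements.S1631
import Groth.Agent.NodalQ.Completion


set_option autoImplicit false
set_option linter.style.haveILetI false
set_option backward.isDefEq.respectTransparency false
set_option backward.isDefEq.respectTransparency.types false
set_option maxHeartbeats 1000000
universe u
open Curves
open Groth.Agent IsLocalRing

namespace Groth.Agent.S1631

/-- For a Noetherian local k-algebra (A, m, κ), these two conditions are equivalent: (i) κ is separable
over k, A is reduced, m/m^2 has dimension two, and there are x, y spanning m modulo m^2 and a, b, c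
∈ A whose residues form a nondegenerate quadratic form with a x^2 + b xy + c y^2 ∈ m^3; (ii) κ is
separable over k and the m-adic completion of A is isomorphic, compatibly with the maps from k, to
κ[[u, v]]/(a' u^2 + b' uv + c' v^2) for a nondegenerate quadratic form over κ. -/
theorem result (k : Type u) [Field k] (A : Type u) [CommRing A] [IsLocalRing A] [IsNoetherianRing A]
    [Algebra k A] :
    (Algebra.IsSeparable k (IsLocalRing.ResidueField A) ∧ IsReduced A ∧
      Module.finrank (IsLocalRing.ResidueField A) (IsLocalRing.CotangentSpace A) = 2 ∧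
      ∃ x y a b c : A, x ∈ IsLocalRing.maximalIdeal A ∧ y ∈ IsLocalRing.maximalIdeal A ∧
        Ideal.span {x, y} ⊔ IsLocalRing.maximalIdeal A ^ 2 = IsLocalRing.maximalIdeal A ∧
        IsLocalRing.residue A (4 * a * c - b ^ 2) ≠ 0 ∧
        a * x ^ 2 + b * x * y + c * y ^ 2 ∈ IsLocalRing.maximalIdeal A ^ 3) ↔
    (Algebra.IsSeparable k (IsLocalRing.ResidueField A) ∧
      ∃ a b c : IsLocalRing.ResidueField A, 4 * a * c - b ^ 2 ≠ 0 ∧
        ∃ e : AdicCompletion (IsLocalRing.maximalIdeal A) A ≃+*
            (MvPowerSeries (Fin 2) (IsLocalRing.ResidueField A) ⧸ Ideal.span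
              {(MvPowerSeries.C a * MvPowerSeries.X 0 ^ 2 + MvPowerSeries.C b * MvPowerSeries.X 0 * MvPowerSeries.X 1 +
                MvPowerSeries.C c * MvPowerSeries.X 1 ^ 2 : MvPowerSeries (Fin 2) (IsLocalRing.ResidueField A))}),
          ∀ t : k, e (algebraMap A _ (algebraMap k A t)) =
            Ideal.Quotient.mk _ (MvPowerSeries.C (algebraMap A (IsLocalRing.ResidueField A) (algebraMap k A t)))) := by
  constructor
  · rintro ⟨hsep, hred, hdim, x, y, a, b, c, hx, hy, hsup, hdisc, hrel⟩
    have hnp : ¬ (maximalIdeal A).IsPrincipal := fun h => by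
      have := finrank_cotangentSpace_le_one_iff.2 h
      omega
    have hspan : Ideal.span {x, y} = maximalIdeal A := by
      refine le_antisymm (Ideal.span_le.2 ?_) (PSQuad.maximalIdeal_le_of_le_sup_sq hsup.ge)
      rintro z (rfl | rfl)
      exacts [hx, hy]
    have hunit : ∀ {u v s t : A}, Ideal.span {u, v} = maximalIdeal A → s * u + t * v ∈ maximalIdeal A ^ 2 →
        s ∈ maximalIdeal A := by
      intro u v s t huv h
      by_contra hs
      have hsu : IsUnit s := by
        by_contra h'
        exact hs ((mem_maximalIdeal s).2 h')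
      refine hnp ⟨v, le_antisymm (PSQuad.maximalIdeal_le_of_le_sup_sq ?_) ?_⟩
      · conv_lhs => rw [← huv]
        rw [Ideal.span_le]
        rintro z (hz | hz) <;> rw [hz]
        · refine (Ideal.unit_mul_mem_iff_mem _ hsu).1 ?_
          rw [show s * u = -t * v + (s * u + t * v) by ring]
          exact Submodule.add_mem_sup (Ideal.mem_span_singleton'.2 ⟨-t, rfl⟩) h
        · exact Submodule.mem_sup_left (Ideal.mem_span_singleton_self v)
      · rw [← huv]
        exact Ideal.span_mono (by simp)
    have hsoc : ∀ z : A, (∀ t ∈ maximalIdeal A, t * z = 0) → z = 0 := by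
      intro z hz
      by_cases hzu : IsUnit z
      · refine absurd ⟨0, ?_⟩ hnp
        show maximalIdeal A = Submodule.span A {0}
        rw [Submodule.span_zero_singleton, eq_bot_iff]
        exact fun t ht => hzu.mul_left_eq_zero.1 (hz t ht)
      · exact IsNilpotent.eq_zero ⟨2, by rw [sq]; exact hz z ((mem_maximalIdeal z).2 hzu)⟩
    exact ⟨hsep, NodalQ.exists_iso k (NodalQ.qcrit_of_socle hspan
      (fun s t h => ⟨hunit hspan h, hunit (s := t) (t := s) (by rw [Set.pair_comm, hspan]) (by rwa [add_comm])⟩)
      hdisc hrel hsoc)⟩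
  · rintro ⟨hsep, a, b, c, hd, e, -⟩
    obtain ⟨hq, hred⟩ := NodalQ.qcrit_of_iso hd e
    have h2 := hq.ell_two
    obtain ⟨x, y, a', b', c', hspan, hdisc, hrel, -⟩ := hq
    refine ⟨hsep, hred, le_antisymm ?_ ?_, x, y, a', b', c', NodalQ.x_mem hspan, NodalQ.y_mem hspan, ?_, hdisc, hrel⟩
    · rw [← spanFinrank_maximalIdeal_eq_finrank_cotangentSpace, ← hspan]
      exact (Submodule.spanFinrank_span_le_ncard_of_finite (by simp)).trans
        ((Set.ncard_insert_le _ _).trans (by simp))
    · by_contra! hlt
      obtain ⟨g, hg⟩ := (finrank_cotangentSpace_le_one_iff (R := A)).1 (by omega)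
      have h := (NodalLib.ell_step (I := maximalIdeal A) (J := maximalIdeal A ^ 2) g ?_ ?_).1
      · rw [h2, NodalLib.ell_maximal] at h
        norm_cast at h
      · rw [hg]
        exact (sup_eq_right.2 (Ideal.pow_le_self two_ne_zero)).symm
      · refine NodalQ.mul_mem_pow_succ (n := 1) ?_
        rw [pow_one, hg]
        exact Ideal.mem_span_singleton_self g
    · rw [hspan, sup_eq_left]
      exact Ideal.pow_le_self two_ne_zero

end Groth.Agent.S1631
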