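import Groth.Statements.S16319
import Groth.Agent.CliffEq.Curve
import Groth.Agent.CurveCohLib.Pencil
import Groth.Agent.CurveCohLib.PointTwist

set_option autoImplicit false
set_option linter.style.haveILetI false
set_option backward.isDefEq.respectTransparency false
set_option backward.isDefEq.respectTransparency.types false
set_option maxHeartbeats 4000000
-- import your own Groth.Agent.* helpers here

set_option autoImplicit false
open CategoryTheory CategoryTheory.Limits AlgebraicGeometry
universe u
open Curves

namespace Groth.Agent.S16319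

open Groth.Agent
attribute [local instance] H9PB.CurveFinFF.ffAlg

/-- Let k be an algebraically closed field of characteristic zero and X a smooth proper integral curve
over k (integral, proper and smooth over k, of dimension one) of genus 9 whose Clifford index is 3:
some invertible module M with h^0(M) ≥ 2 and h^1(M) ≥ 2 has deg M − 2(h^0(M) − 1) = 3, and every
invertible module M with h^0(M) ≥ 2 and h^1(M) ≥ 2 has deg M − 2(h^0(M) − 1) ≥ 3 (degrees are χ(M) −
χ(O_X); in particular X is not hyperelliptic); let H be an invertible module of degree 7 with h^0(H)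
= 3 (a g^2_7) and D a globally generated invertible module of degree 5 with h^0(D) = 2 (a
base-point-free complete g^1_5). Then every module N with D ⊗ N ≅ H has h^0(N) = 1: the difference
of the two series is the class of an effective divisor of degree 2 with a one-dimensional space of
sections, so the pencil is cut out by the lines through a double point of the plane model of degree
7. -/
theorem result
    (k : Type u) [Field k] [IsAlgClosed k] [CharZero k]
    (X : Scheme.{u}) [X.Over (Spec (CommRingCat.of k))] [IsIntegral X]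
    [IsProper (X ↘ Spec (CommRingCat.of k))] [Smooth (X ↘ Spec (CommRingCat.of k))]
    (hdim : topologicalKrullDim X = 1) (hg : Curv2.genus k X = 9)
    (hex : ∃ M : X.Modules, PicF.IsInvertible M ∧ 2 ≤ Module.finrank k (Coh.HH X M 0) ∧
      2 ≤ Module.finrank k (Coh.HH X M 1) ∧ Curv2.deg k X M 1 = 2 * (Module.finrank k (Coh.HH X M 0) : ℤ) + 1)
    (hmin : ∀ M : X.Modules, PicF.IsInvertible M → 2 ≤ Module.finrank k (Coh.HH X M 0) →
      2 ≤ Module.finrank k (Coh.HH X M 1) → 2 * (Module.finrank k (Coh.HH X M 0) : ℤ) + 1 ≤ Curv2.deg k X M 1)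
    (H : X.Modules) (hH : PicF.IsInvertible H) (hdH : Curv2.deg k X H 1 = 7)
    (h0H : Module.finrank k (Coh.HH X H 0) = 3)
    (D : X.Modules) (hD : PicF.IsInvertible D) (hgD : Curv2.IsGloballyGenerated D)
    (hdD : Curv2.deg k X D 1 = 5) (h0D : Module.finrank k (Coh.HH X D 0) = 2)
    (N : X.Modules) (e : CohB1.tensorMod D N ≅ H) :
    Module.finrank k (Coh.HH X N 0) = 1 := by
  haveI := CurveCohLib.isNoetherian_of_proper (k := k) (X := X)
  have h0O := CurveCohLib.Clifford.finrank_h0_structure k (X := X)
  have hNi : PicF.IsInvertible N := by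
    obtain ⟨M, hM, ⟨ε⟩⟩ := H23.PicInv.exists_inverse hD
    exact H23.PicMul.isInvertible_of_iso (L := (DCoh.tensorBi.obj M).obj H)
      (((DCoh.tensorBi.obj M).mapIso e.symm) ≪≫
        (CurveRR.cancelIso (CurveTensor.commIso M D ≪≫ ε)).app N)
      (InvX.isInvertible_tensorMod hM hH)
  have hdN : Curv2.deg k X N 1 = 2 := by
    have h1 := CurveRR.deg_congr k e 1
    rw [show Curv2.deg k X (CohB1.tensorMod D N) 1 = _ from CurveRR.deg_tensor k hdim hD hNi, hdD, hdH] at h1
    omega
  have hdegN := CurveCohLib.Clifford.deg_eq k hdim hNi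
  have hle : Module.finrank k (Coh.HH X N 0) ≤ 1 := by
    by_contra hgt
    have := hmin _ hNi (by omega) (by omega)
    omega
  suffices hpos : Module.finrank k (Coh.HH X N 0) ≠ 0 by omega
  intro hN0
  have hom0 : ∀ φ : D ⟶ H, φ = 0 := fun φ => by
    by_contra hφ
    obtain ⟨M, hM, ⟨ε⟩⟩ := H23.PicInv.exists_inverse hD
    haveI : Mono φ := InvEnd.mono_of_ne_zero hD hH φ hφ
    haveI : Mono ((DCoh.tensorBi.obj M).map φ) :=
      (CurveTensor.shortExact_tensor (CurveStable.isFinLocFree_of_rank (InvEnd.isFinLocFreeOfRank_one hM)) φ _ _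
        (CurveSlope.shortExact_cokernel_of_mono φ)).mono_f
    let j : Coh.structureModule X ⟶ N := ε.inv ≫ (CurveTensor.commIso D M).hom ≫ (DCoh.tensorBi.obj M).map φ ≫
      (DCoh.tensorBi.obj M).map e.inv ≫ (CurveRR.cancelIso (CurveTensor.commIso M D ≪≫ ε)).hom.app N
    haveI : Mono j := mono_comp _ _
    haveI := S0002.result k X N (CurveDeg.isCoh_of_isInvertible hNi) 0
    have := LinearMap.finrank_le_finrank_of_injective
      (LinearMap.ker_eq_bot.mp (Euler.ker_mapLin_f_zero (k := k) (CurveSlope.shortExact_cokernel_of_mono j)))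
    rw [h0O] at this
    have h1N : 1 ≤ Module.finrank k (Coh.HH X N 0) := this
    omega
  have h6 := CurveCohLib.Pencil.two_mul_h0_le k hdim hD hH h0D
    (fun p hp => CurveCohLib.PointTwist.lt_of_gg k hD p hp hgD) hom0
  have hT : PicF.IsInvertible (CohB1.tensorMod D H) := InvX.isInvertible_tensorMod hD hH
  have hdT : Curv2.deg k X (CohB1.tensorMod D H) 1 = _ := CurveRR.deg_tensor k hdim hD hH
  rw [hdD, hdH] at hdT
  have hdegT := CurveCohLib.Clifford.deg_eq k hdim hT
  have := hmin _ hT (by omega) (by omega)
  omega

end Groth.Agent.S16319
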