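import Groth.Statements.S1632
import Groth.Agent.ResRes.GammaNormal
import Groth.Agent.ResRes.AlterN1
import Groth.Agent.ResolveX.CplRegular

set_option autoImplicit false
set_option linter.style.haveILetI false
set_option linter.unusedSectionVars false
set_option backward.isDefEq.respectTransparency false
set_option backward.isDefEq.respectTransparency.types false
set_option maxHeartbeats 1000000
universe u
open CategoryTheory CategoryTheory.Limits AlgebraicGeometry
open Resolve

namespace Groth.Agent.S1632

open Groth.Agent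
open Groth.Agent.ResRes
theorem normal_gamma_tensor_cpl (A : Type u) [CommRing A] [IsLocalRing A] [IsNoetherianRing A]
    (X : Scheme.{u}) (f : X ⟶ Spec (CommRingCat.of A)) [IsProper f]
    (hfin : letI := (gam f).toAlgebra; Module.Finite A Γ(X, ⊤))
    (hreg : ∀ x : X, IsRegularLocalRing (X.presheaf.stalk x)) :
    letI := (gam f).toAlgebra
    EGA4.IsNormalRing (TensorProduct A Γ(X, ⊤) (EGA4.Cpl A)) := by
  letI := (gam f).toAlgebra
  haveI := hfin
  haveI := Groth.Agent.FlatLoc6.isNoetherianRing_cpl A
  haveI := Groth.Agent.FlatLoc6.faithfullyFlat_cpl A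
  let c := CommRingCat.ofHom (algebraMap A (EGA4.Cpl A))
  haveI : Flat (Spec.map c) := (HasRingHomProperty.Spec_iff (P := @Flat)).2
    (RingHom.flat_algebraMap_iff.2 inferInstance)
  haveI : CompactSpace X := QuasiCompact.compactSpace_of_compactSpace f
  haveI : X.IsSeparated := ⟨by rw [← terminal.comp_from f]; infer_instance⟩
  let Y := Curv2.bcCpl A f
  have H : IsPullback (Curv2.bcCplFst A f) (Curv2.bcCplSnd A f) f (Spec.map c) := IsPullback.of_hasPullback _ _
  have h := Groth.Agent.HensCouple7.isPushout_appTop H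
  have h1 : IsPushout (CommRingCat.ofHom (algebraMap A Γ(X, ⊤))) c (Curv2.bcCplFst A f).appTop
      ((Scheme.ΓSpecIso _).inv ≫ (Curv2.bcCplSnd A f).appTop) :=
    h.of_iso (Scheme.ΓSpecIso _) (Iso.refl _) (Scheme.ΓSpecIso _) (Iso.refl _)
      (by
        rw [Iso.refl_hom, Category.comp_id]
        show f.appTop = (Scheme.ΓSpecIso _).hom ≫ ((Scheme.ΓSpecIso _).inv ≫ f.appTop)
        rw [Iso.hom_inv_id_assoc])
      (Scheme.ΓSpecIso_naturality c) (by simp) (by simp)
  have h2 := CommRingCat.isPushout_tensorProduct A Γ(X, ⊤) (EGA4.Cpl A)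
  let e := (h2.isoIsPushout _ _ h1).commRingCatIsoToRingEquiv
  haveI : IsNoetherianRing (TensorProduct A (EGA4.Cpl A) Γ(X, ⊤)) := IsNoetherianRing.of_finite (EGA4.Cpl A) _
  haveI : IsNoetherianRing (TensorProduct A Γ(X, ⊤) (EGA4.Cpl A)) :=
    isNoetherianRing_of_ringEquiv _ (Algebra.TensorProduct.comm A (EGA4.Cpl A) Γ(X, ⊤)).toRingEquiv
  haveI : IsNoetherianRing Γ(Y, ⊤) := isNoetherianRing_of_ringEquiv _ e
  haveI : IsLocallyNoetherian Y := LocallyOfFiniteType.isLocallyNoetherian (Curv2.bcCplSnd A f)
  haveI : CompactSpace Y := QuasiCompact.compactSpace_of_compactSpace (Curv2.bcCplSnd A f)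
  haveI : AlgebraicGeometry.IsNoetherian Y := {}
  refine isNormalRing_of_ringEquiv e.symm (isNormalRing_gamma Y fun y => ?_)
  haveI := (Groth.Agent.ResolveX.isRegular_iff A f).1 hreg y
  exact ⟨Groth.Agent.RegLoc6.isDomain_of_isRegularLocalRing _,
    Groth.Agent.RegLoc6.isIntegrallyClosed_of_isRegularLocalRing _⟩


/-- Let (A, m) be a Noetherian local domain such that Spec A admits an alteration X → Spec A with X
regular, and let B be the integral closure of A in its fraction field. Then the m-adic completion of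
B is a normal ring. -/
theorem result (A : Type u) [CommRing A] [IsDomain A] [IsLocalRing A] [IsNoetherianRing A]
    (X : Scheme.{u}) (f : X ⟶ Spec (CommRingCat.of A)) (hf : Curv2.IsAlteration f)
    (hreg : ∀ x : X, IsRegularLocalRing (X.presheaf.stalk x)) :
    EGA4.IsNormalRing (AdicCompletion ((IsLocalRing.maximalIdeal A).map
      (algebraMap A (integralClosure A (FractionRing A)))) (integralClosure A (FractionRing A))) := by
  obtain ⟨hp, hX, -, hd, -⟩ := hf
  haveI := hp; haveI := hX; haveI := hd
  let B := integralClosure A (FractionRing A)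
  haveI : Module.Finite A B := isN1 f hreg
  letI := (gam f).toAlgebra
  haveI : Module.Finite A Γ(X, ⊤) := finite_gamma f
  obtain ⟨β, hβ⟩ := exists_algHom_integralClosure f hreg
  letI : Algebra B Γ(X, ⊤) := β.toRingHom.toAlgebra
  haveI : IsScalarTower A B Γ(X, ⊤) := IsScalarTower.of_algebraMap_eq fun a => (β.commutes a).symm
  haveI : IsIntegrallyClosed B := integralClosure.isIntegrallyClosedOfFiniteExtension (FractionRing A)
  have hB : EGA4.IsNormalRing B := fun p _ =>
    ⟨IsLocalization.isDomain_of_le_nonZeroDivisors (R := B) _ p.primeCompl_le_nonZeroDivisors,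
      isIntegrallyClosed_of_isLocalization _ p.primeCompl p.primeCompl_le_nonZeroDivisors⟩
  obtain ⟨e⟩ := exists_cplEquiv_map A B
  exact isNormalRing_of_ringEquiv e.symm
    (isNormalRing_tensor_cpl_of_sub A B Γ(X, ⊤) hβ hB (normal_gamma_tensor_cpl A X f (finite_gamma f) hreg))

end Groth.Agent.S1632
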