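import Groth.Statements.S16320
import Groth.Agent.CliffEq.Curve
import Groth.Agent.CurveCohLib.Pencil
import Groth.Agent.CurveCohLib.PointTwist

set_option autoImplicit false
set_option linter.style.haveILetI false
set_option backward.isDefEq.respectTransparency false
set_option backward.isDefEq.respectTransparency.types false
set_option maxHeartbeats 4000000
-- import your own Groth.Agent.* helpers here

set_option autoImplicit false
open CategoryTheory CategoryTheory.Limits AlgebraicGeometry
universe u
open Curves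

namespace Groth.Agent.S16320

open Groth.Agent
attribute [local instance] H9PB.CurveFinFF.ffAlg

/-- Let k be an algebraically closed field of characteristic zero and X a smooth proper integral curve
over k (integral, proper and smooth over k, of dimension one) of genus 9 whose Clifford index is 3:
some invertible module M with h^0(M) ≥ 2 and h^1(M) ≥ 2 has deg M − 2(h^0(M) − 1) = 3, and every
invertible module M with h^0(M) ≥ 2 and h^1(M) ≥ 2 has deg M − 2(h^0(M) − 1) ≥ 3 (degrees are χ(M) −
χ(O_X); in particular X is not hyperelliptic), and let D be a globally generated invertible module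
of degree 5 with h^0(D) = 2 (a base-point-free complete g^1_5). Then h^0(D^{⊗2}) is 3 or 4,
h^0(D^{⊗3}) is 7 or 8, and h^0(D^{⊗3}) = 7 whenever h^0(D^{⊗2}) = 3. (The published statement says,
equivalently by Riemann–Roch applied to the numbers h^0(K − iD) − h^0(K − (i+1)D) for a canonical
module K, that the rational normal fourfold scroll formed by the linear spans of the pencil's
divisors in the canonical embedding has type S(2,1,1,1), S(2,2,1,0) or S(3,1,1,0); the scroll itself
is not restated here.) -/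
theorem result
    (k : Type u) [Field k] [IsAlgClosed k] [CharZero k]
    (X : Scheme.{u}) [X.Over (Spec (CommRingCat.of k))] [IsIntegral X]
    [IsProper (X ↘ Spec (CommRingCat.of k))] [Smooth (X ↘ Spec (CommRingCat.of k))]
    (hdim : topologicalKrullDim X = 1) (hg : Curv2.genus k X = 9)
    (hex : ∃ M : X.Modules, PicF.IsInvertible M ∧ 2 ≤ Module.finrank k (Coh.HH X M 0) ∧
      2 ≤ Module.finrank k (Coh.HH X M 1) ∧ Curv2.deg k X M 1 = 2 * (Module.finrank k (Coh.HH X M 0) : ℤ) + 1)
    (hmin : ∀ M : X.Modules, PicF.IsInvertible M → 2 ≤ Module.finrank k (Coh.HH X M 0) →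
      2 ≤ Module.finrank k (Coh.HH X M 1) → 2 * (Module.finrank k (Coh.HH X M 0) : ℤ) + 1 ≤ Curv2.deg k X M 1)
    (D : X.Modules) (hD : PicF.IsInvertible D) (hgD : Curv2.IsGloballyGenerated D)
    (hdD : Curv2.deg k X D 1 = 5) (h0D : Module.finrank k (Coh.HH X D 0) = 2) :
    (Module.finrank k (Coh.HH X (CohB1.tensorPow D 2) 0) = 3 ∨
        Module.finrank k (Coh.HH X (CohB1.tensorPow D 2) 0) = 4) ∧
      (Module.finrank k (Coh.HH X (CohB1.tensorPow D 3) 0) = 7 ∨
        Module.finrank k (Coh.HH X (CohB1.tensorPow D 3) 0) = 8) ∧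
      (Module.finrank k (Coh.HH X (CohB1.tensorPow D 2) 0) = 3 →
        Module.finrank k (Coh.HH X (CohB1.tensorPow D 3) 0) = 7) := by
  haveI := CurveCohLib.isNoetherian_of_proper (k := k) (X := X)
  have h0O := CurveCohLib.Clifford.finrank_h0_structure k (X := X)
  have hK := H9PB.CurveFinFF.isFunctionField k X hdim h0O
  have hgen : FunFld.genus k X.functionField = 9 := (H9PB.CurveFinFF.genus_eq k hdim h0O).trans hg
  obtain ⟨Δ, hΔ⟩ := H9PB.CurveFinFF.exists_hasClass k hdim hD
  have hΔl : FunFld.ell Δ = 2 := by rw [← CliffEq.finrank_eq_ell k hdim hΔ, h0D]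
  have hΔd : Δ.deg = 5 := (hΔ.deg k hdim h0O).trans hdD
  obtain ⟨C, hC⟩ := FFLib.exists_canonical hK
  obtain ⟨hP2, hc2⟩ := CliffEq.exists_class_pow k hdim hΔ 2
  obtain ⟨hP3, hc3⟩ := CliffEq.exists_class_pow k hdim hΔ 3
  have e2 := CliffEq.finrank_eq_ell k hdim hc2
  have e3 := CliffEq.finrank_eq_ell k hdim hc3
  have d2 : ((2 : ℕ) • Δ).deg = 10 := by rw [two_nsmul, FFLib.Divisor.deg_add, hΔd]; norm_num
  have d3 : ((3 : ℕ) • Δ).deg = 15 := by rw [succ_nsmul, FFLib.Divisor.deg_add, d2, hΔd]; norm_num
  have d2' : Curv2.deg k X (CohB1.tensorPow D 2) 1 = 10 := (hc2.deg k hdim h0O).symm.trans d2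
  have d3' : Curv2.deg k X (CohB1.tensorPow D 3) 1 = 15 := (hc3.deg k hdim h0O).symm.trans d3
  have hdeg2 := CurveCohLib.Clifford.deg_eq k hdim hP2
  have hdeg3 := CurveCohLib.Clifford.deg_eq k hdim hP3
  have hlow := CliffEq.ell_nsmul_add hK (D := (0 : FunFld.Divisor k X.functionField))
    (by rw [FFLib.ell_zero hK]; omega) hΔl 2
  rw [zero_add, FFLib.ell_zero hK, ← e2] at hlow
  have hup2 : Module.finrank k (Coh.HH X (CohB1.tensorPow D 2) 0) ≤ 4 := by
    by_contra hgt
    have := hmin _ hP2 (by omega) (by omega)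
    omega
  have hup3 : Module.finrank k (Coh.HH X (CohB1.tensorPow D 3) 0) ≤ 8 := by
    by_contra hgt
    have := hmin _ hP3 (by omega) (by omega)
    omega
  have hr2 := FFLib.riemann_roch hK hC ((2 : ℕ) • Δ)
  have hr3 := FFLib.riemann_roch hK hC ((3 : ℕ) • Δ)
  rw [d2, hgen] at hr2
  rw [d3, hgen] at hr3
  refine ⟨by omega, by omega, fun h3 => ?_⟩
  by_contra hne
  have h := CliffEq.ell_add_le hK (A := C - (3 : ℕ) • Δ) (B := Δ) (by omega) (by omega)
  rw [show C - (3 : ℕ) • Δ + Δ = C - (2 : ℕ) • Δ by rw [succ_nsmul _ 2]; abel] at h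
  omega

end Groth.Agent.S16320
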