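import Groth.Statements.S1633
import Groth.Agent.ResRes.AnUnramSch

set_option autoImplicit false
set_option linter.style.haveILetI false
set_option linter.unusedSectionVars false
set_option backward.isDefEq.respectTransparency false
set_option backward.isDefEq.respectTransparency.types false
set_option maxHeartbeats 1000000
universe u
open CategoryTheory CategoryTheory.Limits AlgebraicGeometry
open Resolve

namespace Groth.Agent.S1633

open Groth.Agent
open Groth.Agent.ResRes
open scoped TensorProduct

/-- Let (A, m) be a Noetherian local ring whose m-adic completion is reduced, and X an integral scheme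
locally of finite type over Spec A such that some open neighbourhood of the generic point of X is
étale over Spec A. Then the normalization morphism of X is finite. -/
theorem result (A : Type u) [CommRing A] [IsLocalRing A] [IsNoetherianRing A]
    [IsReduced (AdicCompletion (IsLocalRing.maximalIdeal A) A)]
    (X : Scheme.{u}) [IsIntegral X] (f : X ⟶ Spec (CommRingCat.of A)) [LocallyOfFiniteType f]
    (U : X.Opens) (hU : genericPoint X ∈ U) [Etale (U.ι ≫ f)]
    [QuasiCompact (X.fromSpecStalk (genericPoint X))] [QuasiSeparated (X.fromSpecStalk (genericPoint X))] :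
    IsFinite (Curv2.normalizationι X) := by
  refine isFinite_normalizationι_of_reduced f ?_
  letI := (gamGen f).toAlgebra
  obtain ⟨_, ⟨V, hV, rfl⟩, hηV, hVU⟩ := X.isBasis_affineOpens.exists_subset_of_mem_open hU U.isOpen
  haveI : Nonempty (V : X.Opens) := ⟨⟨_, hηV⟩⟩
  letI := (gamAt f V).toAlgebra
  haveI : IsScalarTower A Γ(X, V) X.functionField :=
    IsScalarTower.of_algebraMap_eq fun a => (germ_gamAt f V a).symm
  haveI := functionField_isFractionRing_of_isAffineOpen X V hV
  have hle : Set.range hV.fromSpec ⊆ Set.range U.ι := by
    rw [hV.range_fromSpec, Scheme.Opens.range_ι]; exact hVU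
  have het : Etale (Spec.map (CommRingCat.ofHom (gamAt f V))) := by
    rw [← specMap_gamAt f hV, ← IsOpenImmersion.lift_fac U.ι hV.fromSpec hle, Category.assoc]
    infer_instance
  haveI : Algebra.Etale A Γ(X, V) := RingHom.etale_algebraMap.1 ((HasRingHomProperty.Spec_iff (P := @Etale)).1 het)
  haveI : IsReduced (EGA4.Cpl A) := ‹IsReduced (AdicCompletion (IsLocalRing.maximalIdeal A) A)›
  haveI : IsReduced (TensorProduct A (EGA4.Cpl A) Γ(X, V)) :=
    Groth.Agent.Hensel.isReduced_of_etale (EGA4.Cpl A) _
  haveI : IsReduced (TensorProduct A Γ(X, V) (EGA4.Cpl A)) :=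
    isReduced_of_injective (Algebra.TensorProduct.comm A Γ(X, V) (EGA4.Cpl A)).toRingEquiv.toRingHom
      (Algebra.TensorProduct.comm A Γ(X, V) (EGA4.Cpl A)).injective
  exact isReduced_generic_cpl A Γ(X, V) X.functionField fun Q _ _ =>
    isReduced_localizationPreserves (R := TensorProduct A Γ(X, V) (EGA4.Cpl A)) Q.primeCompl (Localization.AtPrime Q)
      inferInstance

end Groth.Agent.S1633
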