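import Groth.Statements.S16338
-- import your own Groth.Agent.* helpers here
import Groth.Agent.AlgStLib.EndTrans
import Groth.Agent.AlgStLib.Imm

set_option autoImplicit false
universe u
open CategoryTheory
open AlgSt

namespace Groth.Agent.S16338

/-- Let `S` be a scheme, `𝒳` and `𝒴` Deligne–Mumford stacks over `(Sch/S)` (fppf topology) such that the
diagonal of `𝒴` is representable by algebraic spaces and separated (the isomorphism spaces of `𝒴`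
are separated), and `F : 𝒳 → 𝒴` a functor over `(Sch/S)` representable by algebraic spaces. Suppose
`i : 𝒰 → 𝒳` and `j : 𝒱 → 𝒴` are open immersions with `𝒰`, `𝒱` representable by algebraic spaces, the
image of `|𝒰|` is dense in `|𝒳|`, and `F` maps `𝒰` into `𝒱`: there is `G : 𝒰 → 𝒱` with a
2-isomorphism `G ⋙ j ≅ i ⋙ F` over `(Sch/S)`. Then every 2-endomorphism `α : F ⇒ F` over `(Sch/S)`
(all of which are invertible, the fibres being groupoids) equals the identity. Density is taken in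
the topological space of points of `𝒳` (topological, not scheme-theoretic, density). (The published
statement works over a Noetherian base with Deligne–Mumford stacks whose isomorphism spaces are
separated and of finite type; this row keeps only the separatedness of the isomorphism spaces of
`𝒴`, which its proof uses.) -/
theorem result
    (S : AlgebraicGeometry.Scheme.{u}) (𝒳 𝒴 𝒰 𝒱 : AlgSt.Cat S)
    (h𝒳 : AlgSt.IsDM AlgebraicGeometry.Scheme.fppfPrecoverage 𝒳)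
    (h𝒴 : AlgSt.IsDM AlgebraicGeometry.Scheme.fppfPrecoverage 𝒴)
    (hΔ : AlgSt.RepByAlgSpWith AlgSp.IsSeparatedMor (FibCat.diag (FibCat.toSelf 𝒴)))
    (F : 𝒳 ⥤ᵇ 𝒴) (hF : AlgSt.RepByAlgSp1 F)
    (i : 𝒰 ⥤ᵇ 𝒳) (hi : AlgSt.IsOpenImm i) (h𝒰 : AlgSt.RepByAlgSp 𝒰)
    (hdense : Dense (Set.range (AlgSt.Points.map i)))
    (j : 𝒱 ⥤ᵇ 𝒴) (hj : AlgSt.IsOpenImm j) (h𝒱 : AlgSt.RepByAlgSp 𝒱)
    (G : 𝒰 ⥤ᵇ 𝒱) (e : BasedFunctor.comp G j ≅ BasedFunctor.comp i F)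
    (α : F ⟶ F) : α = 𝟙 F := by
  have h𝒳g : FibCat.IsFibGrpd 𝒳.p := h𝒳.1.isStack.1
  have h𝒴g : FibCat.IsFibGrpd 𝒴.p := h𝒴.1.isStack.1
  have hu := Groth.Agent.AlgStLib.repByAlgSpWith_unr_diag_toSelf h𝒴.1.diag h𝒴.2
  obtain ⟨V, x, hx, hx'⟩ := h𝒳.1.atlas
  have h𝒰g : FibCat.IsFibGrpd 𝒰.p := (Groth.Agent.AlgStLib.isFibSetoid_of_repByAlgSp h𝒰).1
  have h𝒱s := Groth.Agent.AlgStLib.isFibSetoid_of_repByAlgSp h𝒱
  have hji : AlgSt.IsImm j := Groth.Agent.AlgStLib.repByAlgSpWith_mono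
    (Groth.Agent.AlgSpLib.repWith_mono (Q := @AlgebraicGeometry.IsImmersion)
      (fun _ _ f (_ : AlgebraicGeometry.IsOpenImmersion f) => (inferInstance : AlgebraicGeometry.IsImmersion f))) hj
  obtain ⟨hfull, hfaith⟩ := Groth.Agent.AlgStLib.full_faithful_of_isMono h𝒴g (Groth.Agent.AlgStLib.isMono_of_isImm hji)
  have hD : Dense (AlgSt.Points.ofChart x ⁻¹' Set.range (AlgSt.Points.map i)) :=
    hdense.preimage (Groth.Agent.AlgStLib.isOpenMap_ofChart h𝒳g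
      (Groth.Agent.AlgStLib.repByAlgSpWith_flat_of_smooth hx) (Groth.Agent.AlgStLib.repByAlgSpWith_lfp_of_smooth hx))
  refine Groth.Agent.AlgStLib.endTrans_eq_id h𝒳g h𝒴g hu hΔ hx hx' α hD fun u hu' => ?_
  obtain ⟨z, hz⟩ := hu'
  obtain ⟨q, rfl⟩ := AlgSt.Points.mk_surjective z
  obtain ⟨r, a, b, -⟩ := (Groth.Agent.AlgStLib.pts_mk_eq_iff h𝒳g).1 hz.symm
  let fu : Over.mk (V.left.fromSpecResidueField u ≫ V.hom) ⟶ V := Over.homMk (V.left.fromSpecResidueField u) rfl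
  let g : Over.mk r.str ⟶ Over.mk (V.left.fromSpecResidueField u ≫ V.hom) :=
    eqToHom r.lies.symm ≫ 𝒳.p.map a ≫ eqToHom (x.w_obj (Over.mk fu))
  let k : Over.mk r.str ⟶ V := g ≫ fu
  refine ⟨r.K, r.field, r.str, k,
    Set.mem_singleton_iff.1 ((AlgebraicGeometry.Scheme.range_fromSpecResidueField u).subset ⟨_, rfl⟩), ?_⟩
  -- the point is isomorphic to the third point
  let φ : Over.mk (k ≫ 𝟙 V) ⟶ Over.mk fu := Over.homMk g (Category.comp_id _).symm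
  have h₁ : 𝒳.p.IsHomLift g (x.map φ) := Groth.Agent.IsoNatLib.isHomLift_ovHom x φ rfl
  have h₂ : 𝒳.p.IsHomLift g a := IsHomLift.of_fac 𝒳.p g a r.lies (x.w_obj (Over.mk fu)) rfl
  obtain ⟨m, -, -⟩ := Groth.Agent.FibBase.exists_iso_of_lifts (hp := h𝒳g) g a (x.map φ)
  refine Groth.Agent.AlgStLib.comp1_eq_id_of_hom h𝒴g α m.hom ?_
  obtain ⟨o, -, -, j₀, -⟩ := Groth.Agent.AlgStLib.exists_lift_fpt h𝒰g h𝒳g i q r b
  refine Groth.Agent.AlgStLib.comp1_eq_id_of_hom h𝒴g α j₀.hom ?_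
  let ε : j.obj (G.obj o) ≅ F.obj (i.obj o) := Groth.Agent.FibBase.isoApp e o
  let t := ε.hom ≫ Groth.Agent.AlgStLib.comp1 α (i.obj o) ≫ ε.inv
  obtain ⟨s, hs⟩ := hfull.map_surjective t
  have hl₀ : 𝒴.p.IsHomLift (𝟙 (𝒰.p.obj o)) (Groth.Agent.AlgStLib.comp1 α (i.obj o)) :=
    Groth.Agent.FibBase.isHomLift_id_congr (i.w_obj o) (Groth.Agent.AlgStLib.comp1_lift α _)
  have hl₁ : 𝒴.p.IsHomLift (𝟙 (𝒰.p.obj o)) ε.hom := Groth.Agent.FibBase.isoApp_lift e (a := o) rfl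
  have hl₂ : 𝒴.p.IsHomLift (𝟙 (𝒰.p.obj o)) ε.inv := IsHomLift.lift_id_inv 𝒴.p _ ε
  have hl₃ : 𝒱.p.IsHomLift (𝟙 (𝒰.p.obj o)) s := by
    rw [← BasedFunctor.isHomLift_iff j, hs]
    exact inferInstanceAs (𝒴.p.IsHomLift _ (ε.hom ≫ Groth.Agent.AlgStLib.comp1 α (i.obj o) ≫ ε.inv))
  let c : 𝒱.p.Fiber (𝒰.p.obj o) := Functor.Fiber.mk (p := 𝒱.p) (a := G.obj o) (G.w_obj o)
  let χ : c ⟶ c := ⟨s, hl₃⟩
  have hχ : χ = 𝟙 c := (h𝒱s.2 _ _ _).elim _ _
  have hs1 : s = 𝟙 _ := congrArg Subtype.val hχ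
  have ht : t = 𝟙 _ := by rw [← hs, hs1]; exact j.toFunctor.map_id _
  calc Groth.Agent.AlgStLib.comp1 α (i.obj o) = ε.inv ≫ t ≫ ε.hom := by simp [t]
    _ = 𝟙 _ := by rw [ht]; simp

end Groth.Agent.S16338
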