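import Groth.Statements.S16339
-- import your own Groth.Agent.* helpers here
import Groth.Agent.AlgStLib.TrivStab
import Groth.Agent.AlgStLib.DMDiag
import Groth.Agent.AlgStLib.Faithful

set_option autoImplicit false
universe u
open CategoryTheory
open AlgSt

namespace Groth.Agent.S16339

/-- Let `S` be a scheme and `g : 𝒢 → ℱ` a functor over `(Sch/S)` between Deligne–Mumford stacks (fppf
topology). Suppose that for every algebraically closed field `k` and every object `ξ` of `𝒢` lying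
over `Spec k → S`, the homomorphism `Aut(ξ) → Aut(g(ξ))` of automorphism groups over the identity is
injective, stated here as: every endomorphism `a` of `ξ` over the identity of `Spec k` with `g(a) =
𝟙` is `𝟙` (such `a` are automorphisms, the fibres being groupoids). Then `g` is representable by
algebraic spaces. (The published statement is the equivalence of the two conditions. The converse
implication — a functor representable by algebraic spaces is injective on automorphism groups over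
identities — holds for every morphism of algebraic stacks and every object, and is not part of this
row. The published statement works under the convention that Deligne–Mumford stacks have isomorphism
spaces of finite type and separated over a Noetherian base; this row assumes only that both stacks
are Deligne–Mumford.) -/
theorem result
    (S : AlgebraicGeometry.Scheme.{u}) (𝒢 ℱ : AlgSt.Cat S)
    (h𝒢 : AlgSt.IsDM AlgebraicGeometry.Scheme.fppfPrecoverage 𝒢)
    (hℱ : AlgSt.IsDM AlgebraicGeometry.Scheme.fppfPrecoverage ℱ)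
    (g : 𝒢 ⥤ᵇ ℱ)
    (hinj : ∀ (k : Type u) [Field k] [IsAlgClosed k] (s : AlgebraicGeometry.Spec (CommRingCat.of k) ⟶ S)
        (ξ : 𝒢.obj) (hξ : 𝒢.p.obj ξ = Over.mk s) (a : ξ ⟶ ξ),
        𝒢.p.IsHomLift (𝟙 (𝒢.p.obj ξ)) a → g.map a = 𝟙 (g.obj ξ) → a = 𝟙 ξ) :
    AlgSt.RepByAlgSp1 g := by
  have h𝒢g : FibCat.IsFibGrpd 𝒢.p := h𝒢.1.isStack.1
  have hℱg : FibCat.IsFibGrpd ℱ.p := hℱ.1.isStack.1
  haveI : g.toFunctor.Faithful := by
    refine (Groth.Agent.AlgStLib.faithful_iff_trivial_kernel h𝒢g hℱg g).2 fun a φ hφ hgφ => ?_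
    obtain ⟨G, e, he⟩ := Groth.Agent.AlgStLib.exists_overCat_obj h𝒢g a rfl
    haveI := h𝒢g
    obtain ⟨R, hR⟩ := Groth.Agent.IsoNatLib.exists_autRep (v := G)
      (Groth.Agent.AlgStLib.repByAlgSpWith_inertiaToBase _
        (Groth.Agent.AlgStLib.repByAlgSpWith_unr_diag_toSelf h𝒢.1.diag h𝒢.2))
    have hl : 𝒢.p.IsHomLift (𝟙 (𝒢.p.obj a)) φ := hφ ▸ inferInstanceAs (𝒢.p.IsHomLift (𝒢.p.map φ) φ)
    let c : 𝒢.p.Fiber (𝒢.p.obj a) := Functor.Fiber.mk (p := 𝒢.p) (a := a) rfl
    let χ : c ⟶ c := ⟨φ, hl⟩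
    have : IsIso χ := Groth.Agent.FibBase.fiber_isIso χ
    let ec : Groth.Agent.IsoNatLib.fib G (Over.mk (𝟙 (𝒢.p.obj a))) ≅ c :=
      Groth.Agent.FibBase.fiberIsoMk (a := Groth.Agent.IsoNatLib.fib G (Over.mk (𝟙 (𝒢.p.obj a)))) (b := c) e he
    let γ : Groth.Agent.IsoNatLib.AutAt G (Over.mk (𝟙 (𝒢.p.obj a))) := ec ≪≫ asIso χ ≪≫ ec.symm
    have hγ1 : g.map γ.hom.1 = 𝟙 _ := by
      show g.map (e.hom ≫ φ ≫ e.inv) = 𝟙 _
      rw [g.toFunctor.map_comp, g.toFunctor.map_comp, hgφ, Category.id_comp, ← g.toFunctor.map_comp,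
        Iso.hom_inv_id, g.toFunctor.map_id]
    have hγ : γ = Iso.refl _ := by
      refine Groth.Agent.AlgStLib.autAt_eq_refl_of_geom R hR γ fun K _ _ str k => ?_
      let f := Groth.Agent.IsoNatLib.ovHom k (𝟙 (𝒢.p.obj a))
      let γ' := Groth.Agent.IsoNatLib.res (K := G) f γ
      have hs := Groth.Agent.IsoNatLib.res_spec f γ
      have hl' : 𝒢.p.IsHomLift (𝟙 (Over.mk str)) γ'.hom.1 := γ'.hom.2
      have hgγ : g.map γ'.hom.1 = 𝟙 _ := by
        have h1 : g.map γ'.hom.1 ≫ g.map (G.map f) = g.map (G.map f) :=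
          ((g.toFunctor.map_comp _ _).symm.trans (congrArg g.map hs)).trans
            ((g.toFunctor.map_comp _ _).trans ((congrArg (fun t => g.map (G.map f) ≫ t) hγ1).trans (Category.comp_id _)))
        have := hℱg.isStronglyCartesian (g.map (G.map f))
        have hl₁ : ℱ.p.IsHomLift (𝟙 (ℱ.p.obj (g.obj (G.obj (Over.mk (k ≫ 𝟙 (𝒢.p.obj a))))))) (g.map γ'.hom.1) :=
          Groth.Agent.FibBase.isHomLift_id_congr (show ℱ.p.obj (g.obj (G.obj (Over.mk (k ≫ 𝟙 (𝒢.p.obj a))))) = Over.mk str from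
            (g.w_obj _).trans (G.w_obj _)).symm (g.preserves_isHomLift (𝟙 (Over.mk str)) γ'.hom.1)
        have hl₂ : ℱ.p.IsHomLift (𝟙 (ℱ.p.obj (g.obj (G.obj (Over.mk (k ≫ 𝟙 (𝒢.p.obj a)))))))
            (𝟙 (g.obj (G.obj (Over.mk (k ≫ 𝟙 (𝒢.p.obj a)))))) := IsHomLift.id rfl
        refine Functor.IsStronglyCartesian.ext ℱ.p (ℱ.p.map (g.map (G.map f))) (g.map (G.map f))
          (𝟙 (ℱ.p.obj (g.obj (G.obj (Over.mk (k ≫ 𝟙 (𝒢.p.obj a))))))) ?_
        exact h1.trans (Category.id_comp _).symm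
      refine Iso.ext (Subtype.ext ?_)
      exact hinj K str _ (G.w_obj (Over.mk (k ≫ 𝟙 (𝒢.p.obj a)))) γ'.hom.1
        (Groth.Agent.FibBase.isHomLift_id_congr (G.w_obj (Over.mk (k ≫ 𝟙 (𝒢.p.obj a)))).symm hl') hgγ
    have h2 : e.hom ≫ φ ≫ e.inv = 𝟙 _ := congrArg (fun i => i.hom.1) hγ
    rw [← cancel_epi e.hom, ← cancel_mono e.inv, Category.assoc, h2, Category.comp_id, Iso.hom_inv_id]
  exact Groth.Agent.AlgStLib.repByAlgSp1_of_faithful h𝒢.1 hℱ.1 g

end Groth.Agent.S16339
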