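import Groth.Statements.S16344
import Mathlib
-- import your own Groth.Agent.* helpers here

set_option autoImplicit false
universe u v
open IdeleMod

namespace Groth.Agent.S16344

/-- Let (G_i) be an inverse system, indexed by a directed preorder, of compact Hausdorff topological
abelian groups with continuous surjective transition maps, let G be its limit (the group of
compatible families) and let m be a natural number. Then the canonical map G/mG → lim G_i/mG_i is
bijective: a compatible family that lies in mG_i at every index is m times a compatible family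
(injectivity), and every family that is compatible modulo m agrees modulo m, index by index, with a
compatible family (surjectivity). -/
theorem result
    {ι : Type u} [Preorder ι] [IsDirected ι (· ≤ ·)]
    (G : ι → Type v) [∀ i, AddCommGroup (G i)] [∀ i, TopologicalSpace (G i)]
    [∀ i, IsTopologicalAddGroup (G i)] [∀ i, CompactSpace (G i)] [∀ i, T2Space (G i)]
    (f : ∀ ⦃i j : ι⦄, i ≤ j → (G j →+ G i)) (hf : ∀ i j (h : i ≤ j), Continuous (f h))
    (hid : ∀ i (x : G i), f (le_refl i) x = x)
    (hcomp : ∀ i j k (hij : i ≤ j) (hjk : j ≤ k) (x : G k), f hij (f hjk x) = f (hij.trans hjk) x)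
    (hsurj : ∀ i j (h : i ≤ j), Function.Surjective (f h)) (m : ℕ) :
    (∀ x : ∀ i, G i, (∀ i j (h : i ≤ j), f h (x j) = x i) → (∀ i, ∃ y : G i, m • y = x i) →
        ∃ z : ∀ i, G i, (∀ i j (h : i ≤ j), f h (z j) = z i) ∧ ∀ i, m • z i = x i) ∧
    (∀ y : ∀ i, G i, (∀ i j (h : i ≤ j), ∃ w : G i, f h (y j) - y i = m • w) →
        ∃ x : ∀ i, G i, (∀ i j (h : i ≤ j), f h (x j) = x i) ∧ ∀ i, ∃ w : G i, x i - y i = m • w) := by
  classical
  have key : ∀ S : ∀ i, Set (G i), (∀ i, IsClosed (S i)) → (∀ i, (S i).Nonempty) →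
      (∀ i j (h : i ≤ j), ∀ x ∈ S j, f h x ∈ S i) →
      ∃ z : ∀ i, G i, (∀ i j (h : i ≤ j), f h (z j) = z i) ∧ ∀ i, z i ∈ S i := by
    intro S hcl hne hmap
    let C : {p : ι × ι // p.1 ≤ p.2} → Set (∀ i, G i) := fun p =>
      {z | f p.2 (z p.1.2) = z p.1.1}
    have hC : ∀ p, IsClosed (C p) := fun p =>
      isClosed_eq ((hf _ _ p.2).comp (continuous_apply _)) (continuous_apply _)
    have hbase : IsCompact (Set.pi Set.univ S) :=
      (isClosed_set_pi fun i _ => hcl i).isCompact
    obtain ⟨z, hzS, hz⟩ := hbase.inter_iInter_nonempty C hC (fun s => by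
      rcases isEmpty_or_nonempty ι with hι | hι
      · exact ⟨fun i => isEmptyElim i, fun i _ => isEmptyElim i, Set.mem_iInter₂.mpr fun p _ => isEmptyElim p.1.1⟩
      obtain ⟨l, hl⟩ := Finset.exists_le (s.image fun p => p.1.2)
      obtain ⟨w, hw⟩ := hne l
      refine ⟨fun i => if h : i ≤ l then f h w else (hne i).some, fun i _ => ?_,
        Set.mem_iInter₂.mpr fun p hp => ?_⟩
      · by_cases h : i ≤ l
        · simp only [dif_pos h]
          exact hmap i l h w hw
        · simp only [dif_neg h]
          exact (hne i).some_mem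
      · have h2 : p.1.2 ≤ l := hl _ (Finset.mem_image_of_mem _ hp)
        have h1 : p.1.1 ≤ l := p.2.trans h2
        show f p.2 (dite _ _ _) = dite _ _ _
        rw [dif_pos h2, dif_pos h1, hcomp])
    exact ⟨z, fun i j h => Set.mem_iInter.mp hz ⟨(i, j), h⟩, fun i => hzS i trivial⟩
  refine ⟨fun x hx hm => ?_, fun y hy => ?_⟩
  · obtain ⟨z, hz, hzx⟩ := key (fun i => {w | m • w = x i})
      (fun i => isClosed_eq (continuous_nsmul m) continuous_const) hm
      (fun i j h w hw => by
        simp only [Set.mem_setOf_eq] at hw ⊢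
        rw [← map_nsmul, hw, hx i j h])
    exact ⟨z, hz, hzx⟩
  · obtain ⟨z, hz, hzy⟩ := key (fun i => Set.range fun w : G i => y i + m • w)
      (fun i => (isCompact_range (continuous_const.add (continuous_nsmul m))).isClosed)
      (fun i => ⟨_, 0, rfl⟩)
      (fun i j h => by
        rintro _ ⟨w, rfl⟩
        obtain ⟨v, hv⟩ := hy i j h
        refine ⟨v + f h w, ?_⟩
        simp only [map_add, map_nsmul, smul_add, ← hv]
        abel)
    refine ⟨z, hz, fun i => ?_⟩
    obtain ⟨w, hw⟩ := hzy i
    exact ⟨w, by rw [← hw]; simp⟩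


end Groth.Agent.S16344
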