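import Groth.Statements.S16345
import Groth.Agent.Big.CompactifyGe
import Groth.Agent.CurveCohLib.SmoothCurve
import Groth.Agent.SmoothField.RelDim

set_option backward.isDefEq.respectTransparency false
set_option backward.isDefEq.respectTransparency.types false
set_option linter.style.haveILetI false
-- import your own Groth.Agent.* helpers here

set_option autoImplicit false
universe u
open KatoHom

namespace Groth.Agent.S16345

open AlgebraicGeometry CategoryTheory in
/-- Let X be a connected scheme, proper and smooth of relative dimension d ≥ 2 over a field L, and let D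
⊆ X be a closed subscheme, smooth of relative dimension d − 1 over L (a smooth divisor), whose
complement in X is an affine open subset. Then D is connected (in particular non-empty). -/
theorem result
    {L : Type u} [Field L] {X D : Scheme.{u}} (f : X ⟶ Spec (CommRingCat.of L)) (i : D ⟶ X)
    [IsProper f] (d : ℕ) (hd : 1 < d) [SmoothOfRelativeDimension d f]
    [IsClosedImmersion i] [SmoothOfRelativeDimension (d - 1) (i ≫ f)]
    [ConnectedSpace X] (U : X.Opens) (hU : IsAffineOpen U)
    (hDU : Set.range i.base = (U : Set X)ᶜ) : ConnectedSpace D := by
  classical
  letI : X.Over (Spec (CommRingCat.of L)) := ⟨f⟩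
  haveI : IsProper (X ↘ Spec (CommRingCat.of L)) := inferInstanceAs (IsProper f)
  haveI : Smooth f := SmoothOfRelativeDimension.smooth d f
  haveI : CompactSpace X := QuasiCompact.compactSpace_of_compactSpace f
  haveI : IsIntegral X := Groth.Agent.CurveCohLib.isIntegral_of_smooth_connected f
  have hD : _root_.IsConnected ((U : Set X)ᶜ) := by
    by_cases hne : (U : Set X).Nonempty
    · refine Groth.Agent.Big.isConnected_compl_affine_of_two_le L ?_ U hU hne
      obtain ⟨x, hx⟩ := Groth.Agent.SmoothField.exists_closedPoint (k := L) f
      have hdim : topologicalKrullDim ↥X = ((FibDim.rd f (genericPoint X) : ℕ) : WithBot ℕ∞) := by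
        have h2 := FibDim.topologicalKrullDim_closure f (genericPoint X)
        rwa [(genericPoint_spec X).def, (Homeomorph.Set.univ X).isHomeomorph.topologicalKrullDim_eq] at h2
      have h1 := Groth.Agent.SmoothField.codim_add_rd_eq f x hdim
      rw [Groth.Agent.SmoothField.codim_of_smoothOfRelativeDimension f d hx, Groth.Agent.SmoothField.rd_eq_zero_of_isClosed f hx] at h1
      rw [hdim]
      exact_mod_cast (show 2 ≤ FibDim.rd f (genericPoint X) by omega)
    · rw [Set.not_nonempty_iff_eq_empty.1 hne, Set.compl_empty]
      exact isConnected_univ
  rw [← hDU] at hD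
  have h := isConnected_iff_connectedSpace.1 hD
  exact i.isClosedEmbedding.isEmbedding.toHomeomorph.symm.surjective.connectedSpace i.isClosedEmbedding.isEmbedding.toHomeomorph.symm.continuous

end Groth.Agent.S16345
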