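import Groth.Statements.S16352
import Groth.Agent.CubicT.Tangent

set_option autoImplicit false
universe u
open Cubic

namespace Groth.Agent.S16352

/-- Let K be an algebraically closed field of characteristic zero and S = V(F) ⊂ P^3_K a cubic surface
which is irreducible and not a cone (no nonzero vector v has Σ_i v_i ∂F/∂x_i = 0). Let a be a smooth
point of S which is not a T-point: with ℓ = Σ_i ∂F/∂x_i(a) · x_i the (nonzero) linear form of the
tangent plane T_a S, F is not congruent modulo ℓ to a product of three linear forms (i.e. T_a S ∩ S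
is not set-theoretically a union of lines). Let P = Σ_i a_i ∂F/∂x_i be the first polar of a. Then
V(P) ∩ T_a S is a union of at most two lines through a, and every line through a lying on S lies in
V(P) ∩ T_a S; lines are 2-dimensional subspaces of K^4 and T_a S is the 3-dimensional subspace where
ℓ vanishes. -/
theorem result (K : Type u) [Field K] [IsAlgClosed K] [CharZero K]
    (F : MvPolynomial (Fin 4) K) (hF : F.IsHomogeneous 3) (hirr : Irreducible F)
    (hcone : ¬ ∃ v : Fin 4 → K, v ≠ 0 ∧ ∑ i : Fin 4, v i • MvPolynomial.pderiv i F = 0)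
    (a : Fin 4 → K) (ha : a ≠ 0) (hFa : MvPolynomial.eval a F = 0)
    (hsm : ∃ i : Fin 4, MvPolynomial.eval a (MvPolynomial.pderiv i F) ≠ 0)
    (ℓ : MvPolynomial (Fin 4) K)
    (hℓ : ℓ = ∑ i : Fin 4, MvPolynomial.C (MvPolynomial.eval a (MvPolynomial.pderiv i F)) * MvPolynomial.X i)
    (hT : ¬ ∃ L₁ L₂ L₃ : MvPolynomial (Fin 4) K, L₁.IsHomogeneous 1 ∧ L₂.IsHomogeneous 1 ∧ L₃.IsHomogeneous 1 ∧
      F - L₁ * L₂ * L₃ ∈ Ideal.span {ℓ})
    (P : MvPolynomial (Fin 4) K) (hP : P = ∑ i : Fin 4, a i • MvPolynomial.pderiv i F)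
    (H : Submodule K (Fin 4 → K)) (hH : ∀ x : Fin 4 → K, x ∈ H ↔ MvPolynomial.eval x ℓ = 0) :
    (∃ U₁ U₂ : Submodule K (Fin 4 → K), Module.finrank K ↥U₁ = 2 ∧ Module.finrank K ↥U₂ = 2 ∧ a ∈ U₁ ∧ a ∈ U₂ ∧
        U₁ ≤ H ∧ U₂ ≤ H ∧ {x : Fin 4 → K | x ∈ H ∧ MvPolynomial.eval x P = 0} = (U₁ : Set (Fin 4 → K)) ∪ (U₂ : Set (Fin 4 → K))) ∧
      ∀ U : Submodule K (Fin 4 → K), a ∈ U → Module.finrank K ↥U = 2 → (∀ u ∈ U, MvPolynomial.eval u F = 0) →
        U ≤ H ∧ ∀ u ∈ U, MvPolynomial.eval u P = 0 := by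
  obtain ⟨G, hg, hG, hG'⟩ := Groth.Agent.CubicT.exists_good F hF hirr hcone
  have hs : G.T a a ≠ 0 := (Groth.Agent.CubicT.smooth_iff hG' a).1 hsm
  have hFa' : G.F a = 0 := by rw [← hG, hFa]
  subst hℓ hP
  have hn : ¬ Groth.Agent.CubicT.IsT G a := fun h =>
    hT ((Groth.Agent.CubicT.tPoint_iff hG hG' a).2 h).2.2.2
  have hH' : H = LinearMap.ker (G.T a a) := Submodule.ext fun x => by
    rw [hH, LinearMap.mem_ker, Groth.Agent.CubicT.eval_tangent hG', mul_eq_zero,
      or_iff_right (three_ne_zero : (3 : K) ≠ 0)]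
  have hP : ∀ x, MvPolynomial.eval x (∑ i : Fin 4, a i • MvPolynomial.pderiv i F) = 3 * G.T a x x := by
    intro x
    rw [G.symm₁₃]
    conv_rhs => rw [pi_eq_sum_univ' a, map_sum, Finset.mul_sum]
    simp only [map_sum, MvPolynomial.smul_eval, hG', map_smul, smul_eq_mul]
    exact Finset.sum_congr rfl fun i _ => by ring
  simp only [hH', hP, mul_eq_zero, (three_ne_zero : (3 : K) ≠ 0), false_or, hG]
  exact Groth.Agent.CubicT.polar_inter hs hFa' hn

end Groth.Agent.S16352
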