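import Groth.Statements.S16354
import Groth.Agent.CubicT.Extension

set_option autoImplicit false
universe u
open Cubic

namespace Groth.Agent.S16354

/-- Let k be a subfield of ℝ (a field equipped with an embedding into the reals) and S = V(F) ⊂ P^3 the
cubic surface of a homogeneous cubic F ∈ k[x_0, …, x_3] which is geometrically irreducible and not a
cone (no nonzero vector v has Σ_i v_i ∂F/∂x_i = 0). Then S admits a linear Pfaffian representation
over a real intermediate field k ⊆ E ⊆ ℝ of degree [E : k] ≤ 3. A linear Pfaffian representation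
over E is a 6 × 6 alternating matrix M of linear forms in E[x_0, …, x_3] whose Pfaffian is a nonzero
constant multiple of F; since the determinant of an alternating matrix is the square of its Pfaffian
and the polynomial ring is factorial with no nonconstant units, this is the same as det M = c · F^2
for a nonzero constant c, which is how it is written here. -/
theorem result (k : Type u) [Field k] [Algebra k ℝ]
    (F : MvPolynomial (Fin 4) k) (hF : F.IsHomogeneous 3)
    (hirr : Irreducible (MvPolynomial.map (algebraMap k (AlgebraicClosure k)) F))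
    (hcone : ¬ ∃ v : Fin 4 → k, v ≠ 0 ∧ ∑ i : Fin 4, v i • MvPolynomial.pderiv i F = 0) :
    ∃ E : IntermediateField k ℝ, FiniteDimensional k ↥E ∧ Module.finrank k ↥E ≤ 3 ∧
      ∃ M : Matrix (Fin 6) (Fin 6) (MvPolynomial (Fin 4) ↥E), (∀ i j, (M i j).IsHomogeneous 1) ∧ M.transpose = -M ∧ (∀ i, M i i = 0) ∧
        ∃ c : ↥E, c ≠ 0 ∧ M.det = MvPolynomial.C c * (MvPolynomial.map (algebraMap k ↥E) F) ^ 2 := by
  haveI : CharZero k := (RingHom.charZero_iff (algebraMap k ℝ).injective).2 inferInstance
  obtain ⟨P, hP, h⟩ := Groth.Agent.CubicT.Extension.exists_line F hF hirr hcone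
  have hP0 : P ≠ 0 := fun e => by simp [e] at hP
  obtain ⟨r, hr⟩ : ∃ r : ℝ, (P.map (algebraMap k ℝ)).IsRoot r := by
    have hd : (P.map (algebraMap k ℝ)).natDegree = 3 := by rw [Polynomial.natDegree_map, hP]
    by_contra! hno
    have hirr' : Irreducible (P.map (algebraMap k ℝ)) :=
      (Polynomial.irreducible_iff_roots_eq_zero_of_degree_le_three (by omega) (by omega)).2
        (Multiset.eq_zero_of_forall_notMem fun x hx => hno x (Polynomial.mem_roots'.1 hx).2)
    have := hirr'.natDegree_le_two
    omega
  have hr' : Polynomial.aeval r P = 0 := by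
    rwa [Polynomial.IsRoot, Polynomial.eval_map, ← Polynomial.aeval_def] at hr
  have hint : IsIntegral k r := IsAlgebraic.isIntegral ⟨P, hP0, hr'⟩
  haveI hfd : FiniteDimensional k ↥(IntermediateField.adjoin k {r}) :=
    IntermediateField.adjoin.finiteDimensional hint
  let φ : ↥(IntermediateField.adjoin k {r}) →ₐ[k] AlgebraicClosure k := IsAlgClosed.lift
  letI := φ.toRingHom.toAlgebra
  haveI : IsScalarTower k ↥(IntermediateField.adjoin k {r}) (AlgebraicClosure k) :=
    IsScalarTower.of_algebraMap_eq fun x => (φ.commutes x).symm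
  refine ⟨IntermediateField.adjoin k {r}, hfd, ?_,
    h ↥(IntermediateField.adjoin k {r}) ⟨r, IntermediateField.mem_adjoin_simple_self k r⟩ ?_⟩
  · rw [IntermediateField.adjoin.finrank hint]
    exact (Polynomial.natDegree_le_of_dvd (minpoly.dvd k r hr') hP0).trans hP.le
  · apply (algebraMap ↥(IntermediateField.adjoin k {r}) ℝ).injective
    rw [map_zero, ← Polynomial.aeval_algebraMap_apply]
    exact hr'

end Groth.Agent.S16354
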