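import Groth.Statements.S16358
import Mathlib
-- import your own Groth.Agent.* helpers here

set_option autoImplicit false
universe u v w
open OrdAV

namespace Groth.Agent.S16358

/-- Let k be a perfect field of characteristic p > 0 and W = W(k); let M be a finitely generated free
W-module on which a finite group G acts W-linearly, with invariant submodule M^G. Then the map
(W/pW) ⊗ M^G → (W/pW) ⊗ M induced by the inclusion is injective. Since M^G is free, this implies
rank_W M^G ≤ dim_k (M/pM)^G; the published statement is that inequality, and this row states the
stronger injectivity. -/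
theorem result (p : ℕ) [Fact p.Prime]
    (k : Type u) [Field k] [CharP k p] [PerfectRing k p]
    (M : Type v) [AddCommGroup M] [Module (WittVector p k) M]
    [Module.Free (WittVector p k) M] [Module.Finite (WittVector p k) M]
    (G : Type w) [Group G] [Finite G] (ρ : Representation (WittVector p k) G M) :
    Function.Injective
      (LinearMap.lTensor (WittVector p k ⧸ Ideal.span {(p : WittVector p k)}) ρ.invariants.subtype) := by
  haveI : IsDomain (WittVector p k) := inferInstance
  haveI : Module.IsTorsionFree (WittVector p k) (M ⧸ ρ.invariants) := by
    refine Module.isTorsionFree_iff_smul_eq_zero.2 fun {r x} hx => ?_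
    obtain ⟨m, rfl⟩ := Submodule.Quotient.mk_surjective _ x
    rw [← Submodule.Quotient.mk_smul, Submodule.Quotient.mk_eq_zero] at hx
    by_cases hr : r = 0
    · exact Or.inl hr
    · refine Or.inr ((Submodule.Quotient.mk_eq_zero _).2 fun g => ?_)
      have h := hx g
      rw [map_smul] at h
      exact smul_right_injective M hr h
  haveI : Module.Free (WittVector p k) (M ⧸ ρ.invariants) := Module.free_of_finite_type_torsion_free'
  obtain ⟨l, hl⟩ := Module.projective_lifting_property ρ.invariants.mkQ LinearMap.id ρ.invariants.mkQ_surjective
  let r : M →ₗ[WittVector p k] ρ.invariants := LinearMap.codRestrict _ (LinearMap.id - l ∘ₗ ρ.invariants.mkQ) fun m => by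
    rw [← Submodule.Quotient.mk_eq_zero]
    show ρ.invariants.mkQ (m - l (ρ.invariants.mkQ m)) = 0
    rw [map_sub, show ρ.invariants.mkQ (l (ρ.invariants.mkQ m)) = ρ.invariants.mkQ m from LinearMap.congr_fun hl _, sub_self]
  have hr : r ∘ₗ ρ.invariants.subtype = LinearMap.id := LinearMap.ext fun x => Subtype.ext (by
    simp [r, (Submodule.Quotient.mk_eq_zero _).2 x.2])
  refine Function.LeftInverse.injective (g := r.lTensor _) fun z => ?_
  rw [← LinearMap.comp_apply, ← LinearMap.lTensor_comp, hr, LinearMap.lTensor_id, LinearMap.id_apply]


end Groth.Agent.S16358
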