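import Groth.Statements.S16360
-- import your own Groth.Agent.* helpers here
import Groth.Agent.H4PerfRes.Main

set_option autoImplicit false
set_option linter.style.haveILetI false
universe u
open Hensel

namespace Groth.Agent.S16360

/-- Let R be a discrete valuation ring that is Henselian and excellent, write k for its residue field
and p for the characteristic exponent of k. There is a Henselian discrete valuation ring R' and an
injective ring map R → R' such that the maximal ideal of R generates that of R' (so a uniformizer of
R is a uniformizer of R'), R' is the directed union of R-subalgebras that are finite free R-modules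
of rank a power of p, and the residue field k' of R' is a perfect closure of k: every element of k'
is a p-th power in k', and some p-power-th power of it lies in the image of k. (The published
statement also asserts that R' is excellent; that is not asserted here.) -/
theorem result (R : Type u) [CommRing R] [IsDomain R]
    [IsDiscreteValuationRing R] [HenselianLocalRing R] (hR : EGA4.IsExcellent R) :
    ∃ (R' : Type u) (_ : CommRing R') (_ : IsDomain R') (_ : IsDiscreteValuationRing R')
      (_ : HenselianLocalRing R') (_ : Algebra R R'),
      Function.Injective (algebraMap R R') ∧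
      Ideal.map (algebraMap R R') (IsLocalRing.maximalIdeal R) = IsLocalRing.maximalIdeal R' ∧
      (∀ s : Finset R', ∃ S : Subalgebra R R', (↑s : Set R') ⊆ ↑S ∧ Module.Finite R S ∧ Module.Free R S ∧
        ∃ m : ℕ, Module.finrank R S = ringExpChar (IsLocalRing.ResidueField R) ^ m) ∧
      (∀ y : R', ∃ z : R', z ^ ringExpChar (IsLocalRing.ResidueField R) - y ∈ IsLocalRing.maximalIdeal R') ∧
      (∀ y : R', ∃ (m : ℕ) (z : R),
        algebraMap R R' z - y ^ (ringExpChar (IsLocalRing.ResidueField R) ^ m) ∈ IsLocalRing.maximalIdeal R') := by
  obtain ⟨π, hπ⟩ := IsDiscreteValuationRing.exists_irreducible R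
  let K := FractionRing R
  have hinj : Function.Injective (algebraMap R (AlgebraicClosure K)) := by
    rw [IsScalarTower.algebraMap_eq R K (AlgebraicClosure K)]
    exact (algebraMap K _).injective.comp (IsFractionRing.injective R K)
  haveI : FaithfulSMul R (integralClosure R (AlgebraicClosure K)) :=
    (faithfulSMul_iff_algebraMap_injective R _).mpr fun a b e => hinj (congrArg Subtype.val e)
  exact H4PerfRes.exists_perfectClosure_extension (A := integralClosure R (AlgebraicClosure K))
    (fun n hn a => by
      obtain ⟨z₀, hz₀⟩ := IsAlgClosed.exists_pow_nat_eq (a : AlgebraicClosure K) hn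
      exact ⟨⟨z₀, IsIntegral.of_pow hn (hz₀ ▸ a.2)⟩, Subtype.ext hz₀⟩) hπ _ rfl

end Groth.Agent.S16360
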