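import Groth.Statements.S16363
import Groth.Agent.H9GeomPts.Basic

set_option linter.style.haveILetI false
set_option backward.isDefEq.respectTransparency false
set_option backward.isDefEq.respectTransparency.types false


set_option autoImplicit false
universe u
open CategoryTheory Limits
open MovLem


attribute [-instance] Module.Flat.isTorsionFree

namespace Groth.Agent.S16363

open AlgebraicGeometry in
/-- Let k be a field, X a k-scheme of finite type, K an extension field of k and U' ⊆ X_K = X ×_k Spec K
a dense open subset. There exists a dense open U ⊆ X with the following property: for every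
algebraic closure k̄ of k, every field Ω that is simultaneously a k̄-algebra and a K-algebra
compatibly with k, and every k-morphism x : Spec k̄ → X whose image point lies in U, every
K-morphism y : Spec Ω → X_K whose composite with the projection X_K → X is the composite Spec Ω →
Spec k̄ → X has image point in U'. (In words: the k̄-points of U, viewed as Ω-points of X_K, lie in
U'.) -/
theorem result
    {k K : Type u} [Field k] [Field K] [Algebra k K]
    (X : Scheme.{u}) (f : X ⟶ Spec (CommRingCat.of k)) [LocallyOfFiniteType f] [QuasiCompact f]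
    (U' : (pullback f (Spec.map (CommRingCat.ofHom (algebraMap k K)))).Opens)
    (hU' : Dense (U' : Set ↥(pullback f (Spec.map (CommRingCat.ofHom (algebraMap k K)))))) :
    ∃ U : X.Opens, Dense (U : Set ↥X) ∧
      ∀ (kb Ω : Type u) [Field kb] [Algebra k kb] [IsAlgClosure k kb]
        [Field Ω] [Algebra k Ω] [Algebra kb Ω] [Algebra K Ω] [IsScalarTower k kb Ω] [IsScalarTower k K Ω]
        (x : Spec (CommRingCat.of kb) ⟶ X),
        x ≫ f = Spec.map (CommRingCat.ofHom (algebraMap k kb)) →
        (∀ t : ↥(Spec (CommRingCat.of kb)), x.base t ∈ U) →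
        ∀ (y : Spec (CommRingCat.of Ω) ⟶ pullback f (Spec.map (CommRingCat.ofHom (algebraMap k K)))),
          y ≫ pullback.fst f (Spec.map (CommRingCat.ofHom (algebraMap k K))) =
              Spec.map (CommRingCat.ofHom (algebraMap kb Ω)) ≫ x →
          y ≫ pullback.snd f (Spec.map (CommRingCat.ofHom (algebraMap k K))) =
              Spec.map (CommRingCat.ofHom (algebraMap K Ω)) →
          ∀ t : ↥(Spec (CommRingCat.of Ω)), y.base t ∈ U' := by
  obtain ⟨U, hU, hmain⟩ := Groth.Agent.H9GeomPts.main f U' hU'
  refine ⟨U, hU, fun kb Ω _ _ _ _ _ _ _ _ _ x hx hxU y hy1 _ t => ?_⟩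
  let s : ↥(Spec (CommRingCat.of kb)) := (Spec.map (CommRingCat.ofHom (algebraMap kb Ω))).base t
  have hst : (pullback.fst f (Spec.map (CommRingCat.ofHom (algebraMap k K)))) (y t) = x s := by
    show (y ≫ pullback.fst f (Spec.map (CommRingCat.ofHom (algebraMap k K)))).base t = _
    rw [hy1]
    rfl
  refine hmain (y t) ?_ (by rw [hst]; exact hxU s)
  rw [hst]
  haveI : IsAlgClosed kb := IsAlgClosure.isAlgClosed k
  haveI : JacobsonSpace X := LocallyOfFiniteType.jacobsonSpace f
  haveI : IsIntegralHom (Spec.map (CommRingCat.ofHom (algebraMap k kb))) := by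
    rw [IsIntegralHom.SpecMap_iff]
    exact (algebraMap_isIntegral_iff (R := k) (A := kb)).2 inferInstance
  haveI : IsIntegralHom (x ≫ f) := hx ▸ inferInstance
  obtain ⟨V, hV, hsV, -⟩ := exists_isAffineOpen_mem_and_subset (x := x s) (U := ⊤) trivial
  haveI : IsAffine V.toScheme := hV
  have hrange : Set.range x ⊆ Set.range V.ι := by
    rw [Scheme.Opens.range_ι]
    rintro _ ⟨i, rfl⟩
    rw [Subsingleton.elim i s]
    exact hsV
  let x' := IsOpenImmersion.lift V.ι x hrange
  have hx' : x' ≫ V.ι = x := IsOpenImmersion.lift_fac _ _ _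
  haveI : IsIntegralHom (x' ≫ V.ι ≫ f) := by rw [← Category.assoc, hx']; infer_instance
  haveI : IsIntegralHom x' := IsIntegralHom.of_comp x' (V.ι ≫ f)
  refine isClosed_singleton_of_isLocallyClosed_singleton ?_
  have himg : ({x s} : Set X) = V.ι '' Set.range x' := by
    rw [← Set.range_comp]
    refine (Set.range_eq_singleton fun i => ?_).symm
    show (x' ≫ V.ι) i = x s
    rw [hx', Subsingleton.elim i s]
  rw [himg]
  exact x'.isClosedMap.isClosed_range.isLocallyClosed.image V.ι.isOpenEmbedding.isInducing
    (by rw [Scheme.Opens.range_ι]; exact V.2.isLocallyClosed)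

end Groth.Agent.S16363
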