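import Groth.Statements.S16385
import Groth.Agent.FMBase.ItZero
-- import your own Groth.Agent.* helpers here

set_option autoImplicit false
universe u
open CategoryTheory CategoryTheory.Limits MonoidalCategory CartesianMonoidalCategory MonObj GrpObj AlgebraicGeometry
attribute [local instance] HasDerivedCategory.standard
open AbVar

set_option backward.isDefEq.respectTransparency false
set_option backward.isDefEq.respectTransparency.types false
set_option synthInstance.maxHeartbeats 400000
set_option maxHeartbeats 1000000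
set_option linter.style.haveILetI false
attribute [-instance] CategoryTheory.catToReflQuiver

namespace Groth.Agent.S16385

/-- Let k be an algebraically closed field of arbitrary characteristic, A an abelian variety over k (a
proper smooth k-group scheme with geometrically connected fibres), (A^t, φ) a given dual abelian
variety of A for the fppf topology with A^t itself an abelian variety, and P an invertible module on
A ×_k A^t whose class is a Poincaré class; for a k-rational point α of A^t write P_α for the
restriction of P along A = A × {α} → A ×_k A^t, and Φ_P = Rpr_{2,*}(Lpr_1^*(−) ⊗^L P) : D(O_A) →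
D(O_{A^t}), the derived functors involved being assumed to exist. Let H be a coherent O_A-module
satisfying IT_0: H^i(A, H ⊗ P_α) = 0 for every i ≥ 1 and every α. Let F be an object of D(O_A),
bounded with coherent cohomology sheaves, which is a GV-object with respect to P in the sense of the
Fourier–Mukai transform: H^i(Φ_P F) = 0 for i < 0, and for i ≥ 0 the support of H^i(Φ_P F) has
codimension at least i in A^t (the local ring of A^t at each of its points has Krull dimension ≥ i).
Then F ⊗^L H satisfies the IT_0 vanishing: H^i(A, (F ⊗^L H) ⊗^L P_α) = 0 for every i ≥ 1 and every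
k-rational point α of A^t (nothing is asserted in degrees ≤ 0). -/
theorem result (k : Type u) [Field k] [IsAlgClosed k]
    (A At : Over (Spec (CommRingCat.of k))) [GrpObj A] [IsProper A.hom] [Smooth A.hom] [GeometricallyConnected A.hom]
    [GrpObj At] [IsProper At.hom] [Smooth At.hom] [GeometricallyConnected At.hom]
    (φ : ∀ T : Over (Spec (CommRingCat.of k)), PicF.Cl (PicF.XT A.hom T) → (T ⟶ At))
    (hφ : AbDual.IsDualAV Scheme.fppfPrecoverage A At φ)
    (P : (pullback A.hom At.hom).Modules) (hP : PicF.IsInvertible P)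
    (hPξ : AbDual.IsPoincareCl A At φ (PicF.cl P))
    [DCoh.HasLpull (pullback.fst A.hom At.hom)] [DCoh.HasLTensorMod P] [DCoh.HasRpush (pullback.snd A.hom At.hom)]
    (H : A.left.Modules) (hH : Coh.IsCoh H)
    (hH0 : ∀ (α : 𝟙_ (Over (Spec (CommRingCat.of k))) ⟶ At) (i : ℕ), 1 ≤ i → Subsingleton (Coh.HH A.left (CohB1.tensorMod H ((Scheme.Modules.pullback (CartesianMonoidalCategory.lift (𝟙 A) (toUnit A ≫ α)).left).obj P)) i))
    (F : DCoh.D A.left) (hF : DCoh.IsCohD F) (m n : ℤ) (hFm : DerivedCategory.IsGE F m) (hFn : DerivedCategory.IsLE F n)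
    [DCoh.HasLTensorMod H] [∀ α : 𝟙_ (Over (Spec (CommRingCat.of k))) ⟶ At, DCoh.HasLTensorMod ((Scheme.Modules.pullback (CartesianMonoidalCategory.lift (𝟙 A) (toUnit A ≫ α)).left).obj P)] [DCoh.HasRΓ A.left]
    (hneg : ∀ i : ℤ, i < 0 → IsZero (DCoh.HD ((DCoh.Lpull (pullback.fst A.hom At.hom) ⋙ DCoh.LTensorMod P ⋙ DCoh.Rpush (pullback.snd A.hom At.hom)).obj F) i))
    (hcodim : ∀ (i : ℕ) (y : ↥At.left), y ∈ CohB1.support (DCoh.HD ((DCoh.Lpull (pullback.fst A.hom At.hom) ⋙ DCoh.LTensorMod P ⋙ DCoh.Rpush (pullback.snd A.hom At.hom)).obj F) (i : ℤ)) →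
      (i : WithBot ℕ∞) ≤ ringKrullDim ↑(At.left.presheaf.stalk y))
    (α : 𝟙_ (Over (Spec (CommRingCat.of k))) ⟶ At) (i : ℕ) (hi : 1 ≤ i) :
    IsZero ((DerivedCategory.homologyFunctor AddCommGrpCat.{u} (i : ℤ)).obj ((DCoh.RΓ A.left).obj
      ((DCoh.LTensorMod ((Scheme.Modules.pullback (CartesianMonoidalCategory.lift (𝟙 A) (toUnit A ≫ α)).left).obj P)).obj ((DCoh.LTensorMod H).obj F)))) := by
  haveI : IsLocallyNoetherian A.left := LocallyOfFiniteType.isLocallyNoetherian A.hom
  haveI : GeometricallyIntegral A.hom := Groth.Agent.AVDual.geometricallyIntegral_of_smooth A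
  haveI : IsCommMonObj A := isCommMonObj_of_isProper_of_geometricallyIntegral A
  obtain ⟨g, hg⟩ := Groth.Agent.AVDegPoly.exists_dim (A := A)
  haveI : HasInjectiveResolutions (pullback A.hom At.hom).Modules :=
    Groth.Agent.KFlatLib.hasInjectiveResolutions_modules
  have hd := Groth.Agent.AVPoinc.dim_eq hφ hP hPξ hg
  have hFp := Groth.Agent.S1005.result A.left (Groth.Agent.GrpSchLib.isRegularLocalRing_stalk_of_smooth A.hom) F m n hF
  refine Groth.Agent.FMBase.isZero_hypercohomology_tensor_of_support hφ hP hPξ hg hH hH0 F hFp (fun q y hy => ?_) α i hi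
  exact (add_le_add le_rfl (hcodim q y hy)).trans
    ((Groth.Agent.FMBase.krullDim_closure_add_stalk_le y).trans hd.le)


end Groth.Agent.S16385
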