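import Groth.Statements.S16386
import Groth.Agent.AVCogen.Basic
import Groth.Agent.AVRosati.KkMax
-- import your own Groth.Agent.* helpers here

set_option autoImplicit false
universe u
open CategoryTheory MonoidalCategory CartesianMonoidalCategory MonObj GrpObj AlgebraicGeometry
open AbVar

set_option backward.isDefEq.respectTransparency false
set_option backward.isDefEq.respectTransparency.types false
set_option synthInstance.maxHeartbeats 400000
set_option maxHeartbeats 1000000
set_option linter.style.haveILetI false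
attribute [-instance] CategoryTheory.catToReflQuiver

namespace Groth.Agent.S16386

/-- (c₁) ⇒ (a₁): let k be a finite field with q elements and fix a polynomial P with integer
coefficients. Work with abelian varieties over k (proper, geometrically integral commutative group
schemes over k) together with their q-Frobenius endomorphism π (the identity on points and the q-th
power map on sections; a homomorphism) such that P(π) = 0 in the endomorphism ring; for P the
product of the minimal polynomials of a finite set w of Weil q-numbers these are exactly the abelian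
varieties with Weil support in w. Let A be such an abelian variety and suppose that every such Z
admits finitely many homomorphisms ψ_1, …, ψ_n : Z → A which are jointly monomorphic (two T-valued
points of Z over k with the same image under every ψ_i are equal; equivalently (ψ_i) : Z → A^n is an
injective homomorphism). Then the functor X ↦ Hom(X, A), with values in left End(A)-modules (End(A)
acting by postcomposition), is fully faithful on these abelian varieties: for such X and Y, two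
homomorphisms f, g : X → Y inducing the same map Hom(Y, A) → Hom(X, A) are equal, and every additive
End(A)-linear map Hom(Y, A) → Hom(X, A) is precomposition with some homomorphism X → Y. -/
theorem result (k : Type u) [Field k] [Finite k]
    (P : Polynomial ℤ) (A : Over (Spec (CommRingCat.of k))) [GrpObj A] [IsCommMonObj A] [IsProper A.hom] [GeometricallyIntegral A.hom]
    (πA : A ⟶ A) [IsMonHom πA] (hπAb : πA.left.base = 𝟙 _)
    (hπAle : ∀ U : A.left.Opens, U ≤ πA.left ⁻¹ᵁ U)
    (hπAapp : ∀ (U : A.left.Opens) (s : Γ(A.left, U)), (πA.left.appLE U U (hπAle U)).hom s = s ^ Nat.card k)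
    (hPA : Polynomial.eval₂ (Int.castRingHom (EndAV.End A)) (EndAV.End.of πA) P = 0)
    (hcog : ∀ (Z : Over (Spec (CommRingCat.of k))) [GrpObj Z] [IsCommMonObj Z] [IsProper Z.hom] [GeometricallyIntegral Z.hom]
      (πZ : Z ⟶ Z) [IsMonHom πZ] (hπZb : πZ.left.base = 𝟙 _) (hπZle : ∀ U : Z.left.Opens, U ≤ πZ.left ⁻¹ᵁ U)
      (hπZapp : ∀ (U : Z.left.Opens) (s : Γ(Z.left, U)), (πZ.left.appLE U U (hπZle U)).hom s = s ^ Nat.card k)
      (hPZ : Polynomial.eval₂ (Int.castRingHom (EndAV.End Z)) (EndAV.End.of πZ) P = 0),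
      ∃ (n : ℕ) (ψ : Fin n → EndAV.Hom Z A), ∀ (T : Over (Spec (CommRingCat.of k))) (x y : T ⟶ Z),
        (∀ i, x ≫ (ψ i).toHom = y ≫ (ψ i).toHom) → x = y)
    (X Y : Over (Spec (CommRingCat.of k))) [GrpObj X] [IsCommMonObj X] [IsProper X.hom] [GeometricallyIntegral X.hom]
    [GrpObj Y] [IsCommMonObj Y] [IsProper Y.hom] [GeometricallyIntegral Y.hom]
    (πX : X ⟶ X) [IsMonHom πX] (hπXb : πX.left.base = 𝟙 _)
    (hπXle : ∀ U : X.left.Opens, U ≤ πX.left ⁻¹ᵁ U)
    (hπXapp : ∀ (U : X.left.Opens) (s : Γ(X.left, U)), (πX.left.appLE U U (hπXle U)).hom s = s ^ Nat.card k)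
    (hPX : Polynomial.eval₂ (Int.castRingHom (EndAV.End X)) (EndAV.End.of πX) P = 0)
    (πY : Y ⟶ Y) [IsMonHom πY] (hπYb : πY.left.base = 𝟙 _)
    (hπYle : ∀ U : Y.left.Opens, U ≤ πY.left ⁻¹ᵁ U)
    (hπYapp : ∀ (U : Y.left.Opens) (s : Γ(Y.left, U)), (πY.left.appLE U U (hπYle U)).hom s = s ^ Nat.card k)
    (hPY : Polynomial.eval₂ (Int.castRingHom (EndAV.End Y)) (EndAV.End.of πY) P = 0) :
    (∀ f g : EndAV.Hom X Y, (∀ φ : EndAV.Hom Y A, f ≫ φ = g ≫ φ) → f = g) ∧
      (∀ g : EndAV.Hom Y A →+ EndAV.Hom X A,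
        (∀ (φ : EndAV.Hom Y A) (s : EndAV.Hom A A), g (φ ≫ s) = g φ ≫ s) →
          ∃ f : EndAV.Hom X Y, ∀ φ : EndAV.Hom Y A, g φ = f ≫ φ) := by
  classical
  obtain ⟨n, ψ, hψ⟩ := hcog Y πY hπYb hπYle hπYapp hPY
  have hfaith : ∀ f g : EndAV.Hom X Y, (∀ φ : EndAV.Hom Y A, f ≫ φ = g ≫ φ) → f = g := fun f g h =>
    EndAV.Hom.ext (hψ X _ _ fun t => congrArg EndAV.Hom.toHom (h (ψ t)))
  refine ⟨hfaith, fun g hg => ?_⟩
  obtain ⟨B, _, _, hBp, hBi, p, h, hpe, hhp, hlift⟩ := Groth.Agent.AVCogen.exists_pow_map ψ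
  haveI := hBp
  haveI := hBi
  haveI : Mono h.toHom := ⟨fun {T} a b hab => hψ T a b fun t => by
    rw [← hhp t, EndAV.Hom.toHom_comp, reassoc_of% hab]⟩
  haveI : IsClosedImmersion h.toHom.left :=
    Groth.Agent.AVRosati.KkMax.isClosedImmersion_of_mono h.toHom
  obtain ⟨Fh, hFp⟩ := hlift X (fun t => g (ψ t))
  obtain ⟨Q, _, _, hQp, hQi, π, hπs, hiπ, hker⟩ := Groth.Agent.AVCogen.exists_quotient_sub h.toHom
  haveI := hQp
  haveI := hQi
  haveI := hπs
  obtain ⟨πB, hπB, hBb, hBle, hBapp⟩ := Groth.Agent.AVCogen.exists_frobenius B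
  haveI := hπB
  obtain ⟨πQ, hπQ, hQb, hQle, hQapp⟩ := Groth.Agent.AVCogen.exists_frobenius Q
  haveI := hπQ
  have hpowB := Groth.Agent.AVCogen.isPowMap_of πB hBb hBle hBapp
  have hPB : Polynomial.eval₂ (Int.castRingHom (EndAV.End B)) (EndAV.End.of πB) P = 0 :=
    Groth.Agent.AVCogen.eval_eq_zero_of_jointly p (EndAV.End.of πB) (EndAV.End.of πA) (fun u v huv => hpe B u v huv)
      (fun t => Groth.Agent.AVCogen.frob_comm (p t).toHom πB hpowB πA
        (Groth.Agent.AVCogen.isPowMap_of πA hπAb hπAle hπAapp)) P hPA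
  have hPQ : Polynomial.eval₂ (Int.castRingHom (EndAV.End Q)) (EndAV.End.of πQ) P = 0 := by
    refine Groth.Agent.AVCogen.cancel_hom (A := Q) π (EndAV.Hom.ext ?_)
    show π.toHom ≫ EndAV.End.toHom (Polynomial.eval₂ (Int.castRingHom (EndAV.End Q)) (EndAV.End.of πQ) P) =
      π.toHom ≫ 1
    have h' := Groth.Agent.AVCogen.eval_comp π (EndAV.End.of πB) (EndAV.End.of πQ)
      (Groth.Agent.AVCogen.frob_comm π.toHom πB hpowB πQ (Groth.Agent.AVCogen.isPowMap_of πQ hQb hQle hQapp)) P
    rw [hPB, EndAV.End.toHom_zero, MonObj.one_comp] at h'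
    rw [MonObj.comp_one]
    exact h'.symm
  obtain ⟨m, χ, hχ⟩ := hcog Q πQ hQb hQle hQapp hPQ
  obtain ⟨y, hy⟩ := hker X Fh.toHom (hχ X _ _ fun t => by
    obtain ⟨s, hs⟩ := Groth.Agent.AVCogen.exists_coords p hpe hlift (π ≫ χ t)
    rw [MonObj.one_comp, Category.assoc]
    have h0 : ∑ l, ψ l ≫ s l = 0 := by
      have h1 : h ≫ π ≫ χ t = 0 := EndAV.Hom.ext (by
        show h.toHom ≫ π.toHom ≫ (χ t).toHom = 1
        rw [← Category.assoc, hiπ, MonObj.one_comp])
      rw [hs, Preadditive.comp_sum] at h1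
      exact (Finset.sum_congr rfl fun l _ => by rw [← hhp l, Category.assoc]).trans h1
    have h2 : Fh ≫ π ≫ χ t = 0 := by
      rw [hs, Preadditive.comp_sum]
      calc ∑ l, Fh ≫ p l ≫ s l = ∑ l, g (ψ l ≫ s l) :=
            Finset.sum_congr rfl fun l _ => by rw [← Category.assoc, hFp, hg]
        _ = 0 := by rw [← map_sum, h0, map_zero]
    exact congrArg EndAV.Hom.toHom h2)
  haveI : IsMonHom y := Groth.Agent.GrpSchLib.RigidHom.isMonHom_of_one y (by
    rw [← cancel_mono h.toHom, Category.assoc, hy, IsMonHom.one_hom, MonObj.one_comp, MonObj.one_eq_one])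
  refine ⟨EndAV.Hom.of y, fun φ => ?_⟩
  obtain ⟨u, N, hu, hN, hhu⟩ := Groth.Agent.AVCogen.exists_retraction h.toHom
  haveI := hu
  obtain ⟨s, hs⟩ := Groth.Agent.AVCogen.exists_coords p hpe hlift (EndAV.Hom.of u ≫ φ)
  have hNφ : N • φ = ∑ l, ψ l ≫ s l := by
    have h1 : h ≫ EndAV.Hom.of u ≫ φ = N • φ := EndAV.Hom.ext (by
      show h.toHom ≫ u ≫ φ.toHom = _
      rw [← Category.assoc, hhu, EndAV.Hom.toHom_nsmul, MonObj.pow_comp, Category.id_comp])
    rw [← h1, hs, Preadditive.comp_sum]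
    exact Finset.sum_congr rfl fun l _ => by rw [← hhp l, Category.assoc]
  have hy' : EndAV.Hom.of y ≫ h = Fh := EndAV.Hom.ext hy
  refine sub_eq_zero.1 (Groth.Agent.AVCogen.eq_zero_of_nsmul hN ?_)
  rw [smul_sub, ← map_nsmul, ← Preadditive.comp_nsmul, hNφ, map_sum, Preadditive.comp_sum,
    ← Finset.sum_sub_distrib]
  refine Finset.sum_eq_zero fun l _ => ?_
  rw [hg, ← hhp l, ← Category.assoc (EndAV.Hom.of y), ← Category.assoc (EndAV.Hom.of y), hy', hFp, hhp, sub_self]


end Groth.Agent.S16386
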