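import Groth.Statements.S16387
import Groth.Agent.AVTorsLib.GeomPts

set_option autoImplicit false
universe u
open CategoryTheory MonoidalCategory CartesianMonoidalCategory MonObj GrpObj AlgebraicGeometry
open AbVar

namespace Groth.Agent.S16387

/-- Let k be a finite field with algebraic closure Ω, l a prime number invertible in k, and A, B abelian
varieties over k (proper, geometrically integral commutative group schemes over k). If the
homomorphism i : A → B is injective (a closed immersion), then the induced ℤ_l-linear map between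
the l-adic Tate modules of Ω-points T_l(i) : T_l A → T_l B is injective with torsion-free, hence
free, cokernel: the quotient of T_l B by the image of T_l A is a free ℤ_l-module. -/
theorem result (k Ω : Type u) [Field k] [Finite k]
    [Field Ω] [Algebra k Ω] [IsAlgClosure k Ω] (l : ℕ) [Fact l.Prime] (hl : (l : k) ≠ 0)
    (A B : Over (Spec (CommRingCat.of k))) [GrpObj A] [IsCommMonObj A] [IsProper A.hom] [GeometricallyIntegral A.hom]
    [GrpObj B] [IsCommMonObj B] [IsProper B.hom] [GeometricallyIntegral B.hom]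
    (i : A ⟶ B) [IsMonHom i] [IsClosedImmersion i.left] :
    Function.Injective (AbDual.tateMapₗ (l := l) (T := SGA7.pt Ω) i) ∧
      Module.Free ℤ_[l] (AbDual.TateMod B l (SGA7.pt Ω) ⧸
        LinearMap.range (AbDual.tateMapₗ (l := l) (T := SGA7.pt Ω) i)) := by
  haveI : IsAlgClosed Ω := IsAlgClosure.isAlgClosed k
  haveI : Mono i := (Over.forget _).mono_of_mono_map (inferInstanceAs (Mono i.left))
  haveI := (Groth.Agent.AVTorsLib.tateMod_free_pt Ω (A := B) l hl).2
  refine ⟨fun x y h => AbDual.TateMod.ext fun n => ?_, ?_⟩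
  · have hh := congrArg (fun w : AbDual.TateMod B l (SGA7.pt (K := k) Ω) =>
      ((w : ℕ → Additive (SGA7.pt (K := k) Ω ⟶ B)) n).toMul) h
    exact congrArg Additive.ofMul ((cancel_mono i).1 hh)
  let R := LinearMap.range (AbDual.tateMapₗ (l := l) (T := SGA7.pt (K := k) Ω) i)
  have hl1 : ∀ y : AbDual.TateMod B l (SGA7.pt (K := k) Ω), (l : ℤ_[l]) • y ∈ R → y ∈ R := by
    rintro y ⟨x, hx⟩
    have hy : ∀ m, (y : ℕ → Additive (SGA7.pt (K := k) Ω ⟶ B)) m =
        Additive.ofMul (((x : ℕ → Additive (SGA7.pt (K := k) Ω ⟶ A)) (m + 1)).toMul ≫ i) := fun m => by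
      rw [← y.compat m]
      rw [Nat.cast_smul_eq_nsmul] at hx
      exact (congrArg (fun w : AbDual.TateMod B l (SGA7.pt (K := k) Ω) =>
        (w : ℕ → Additive (SGA7.pt (K := k) Ω ⟶ B)) (m + 1)) hx).symm
    refine ⟨⟨fun m => (x : ℕ → Additive (SGA7.pt (K := k) Ω ⟶ A)) (m + 1), fun m => ?_, fun m => x.compat (m + 1)⟩,
      AbDual.TateMod.ext fun m => (hy m).symm⟩
    refine congrArg Additive.ofMul ((cancel_mono i).1 ?_ :
      ((l ^ m) • (x : ℕ → Additive (SGA7.pt (K := k) Ω ⟶ A)) (m + 1)).toMul = 1)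
    have h2 := y.torsion m
    rw [hy] at h2
    rw [toMul_nsmul, MonObj.pow_comp, MonObj.one_comp]
    exact congrArg Additive.toMul h2
  have hpow : ∀ (v : ℕ) (y : AbDual.TateMod B l (SGA7.pt (K := k) Ω)), (l : ℤ_[l]) ^ v • y ∈ R → y ∈ R := by
    intro v
    induction v with
    | zero => intro y hy; simpa using hy
    | succ v ih => exact fun y hy => hl1 y (ih _ (by rw [smul_smul, ← pow_succ]; exact hy))
  haveI : Module.IsTorsionFree ℤ_[l] (AbDual.TateMod B l (SGA7.pt (K := k) Ω) ⧸ R) := by
    refine Module.IsTorsionFree.mk fun c hc => ?_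
    intro p q hpq
    obtain ⟨p, rfl⟩ := Submodule.mkQ_surjective R p
    obtain ⟨q, rfl⟩ := Submodule.mkQ_surjective R q
    simp only [Submodule.mkQ_apply, ← Submodule.Quotient.mk_smul, Submodule.Quotient.eq] at hpq ⊢
    rw [← smul_sub, PadicInt.unitCoeff_spec hc.ne_zero, mul_smul] at hpq
    exact hpow _ _ ((Submodule.smul_mem_iff_of_isUnit R (Units.isUnit _)).1 hpq)
  exact Module.free_of_finite_type_torsion_free'

end Groth.Agent.S16387
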