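import Groth.Statements.S16389
import Groth.Agent.S7795
import Groth.Agent.AVRosati.Reduc
import Groth.Agent.AVHomLib.TateIndep
import Groth.Agent.GrpSchLib.RigidHom
-- import your own Groth.Agent.* helpers here

set_option autoImplicit false
universe u
open CategoryTheory MonoidalCategory CartesianMonoidalCategory MonObj GrpObj AlgebraicGeometry
open AbVar

set_option backward.isDefEq.respectTransparency false
set_option backward.isDefEq.respectTransparency.types false
set_option synthInstance.maxHeartbeats 400000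
set_option maxHeartbeats 1000000
set_option linter.style.haveILetI false
attribute [-instance] CategoryTheory.catToReflQuiver

namespace Groth.Agent.S16389

/-- (b) ⇒ (c₂): let k be a finite field with q elements and fix a polynomial P with integer
coefficients. Work with abelian varieties over k (proper, geometrically integral commutative group
schemes over k) together with their q-Frobenius endomorphism π (the identity on points, the q-th
power map on sections; a homomorphism) such that P(π) = 0 in the endomorphism ring (for suitable P: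
the abelian varieties with Weil support in a given finite set of Weil q-numbers), and let A be one
of them. Assume (b₁): for every such Z and every finite closed subgroup scheme H ⊆ Z, a T-valued
point of Z over k that is sent to the unit by every homomorphism Z → A killing H factors through H
(H is the common kernel of the homomorphisms vanishing on it); and (b₂): for every such Z and every
additive subgroup M of Hom(Z, A) of finite index which is stable under postcomposition with
endomorphisms of A (an End(A)-submodule), a homomorphism f : Z → A belongs to M as soon as it kills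
the common kernel of M, i.e. every T-valued point of Z sent to the unit by all members of M is sent
to the unit by f. Then (c₂) holds: for such X and Y and a homomorphism φ : X → Y which is a closed
immersion, every homomorphism X → A extends along φ to a homomorphism Y → A. -/
theorem result
    (k : Type u) [Field k] [Finite k]
    (P : Polynomial ℤ) (A : Over (Spec (CommRingCat.of k))) [GrpObj A] [IsCommMonObj A] [IsProper A.hom] [GeometricallyIntegral A.hom]
    (πA : A ⟶ A) [IsMonHom πA] (hπAb : πA.left.base = 𝟙 _)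
    (hπAle : ∀ U : A.left.Opens, U ≤ πA.left ⁻¹ᵁ U)
    (hπAapp : ∀ (U : A.left.Opens) (s : Γ(A.left, U)), (πA.left.appLE U U (hπAle U)).hom s = s ^ Nat.card k)
    (hPA : Polynomial.eval₂ (Int.castRingHom (EndAV.End A)) (EndAV.End.of πA) P = 0)
    (hb1 : ∀ (Z : Over (Spec (CommRingCat.of k))) [GrpObj Z] [IsCommMonObj Z] [IsProper Z.hom] [GeometricallyIntegral Z.hom]
      (πZ : Z ⟶ Z) [IsMonHom πZ] (hπZb : πZ.left.base = 𝟙 _) (hπZle : ∀ U : Z.left.Opens, U ≤ πZ.left ⁻¹ᵁ U)
      (hπZapp : ∀ (U : Z.left.Opens) (s : Γ(Z.left, U)), (πZ.left.appLE U U (hπZle U)).hom s = s ^ Nat.card k)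
      (hPZ : Polynomial.eval₂ (Int.castRingHom (EndAV.End Z)) (EndAV.End.of πZ) P = 0)
      (H : Over (Spec (CommRingCat.of k))) [GrpObj H] [IsFinite H.hom] (i : H ⟶ Z) [IsMonHom i] [IsClosedImmersion i.left]
      (T : Over (Spec (CommRingCat.of k))) (x : T ⟶ Z), (∀ r : EndAV.Hom Z A, i ≫ r.toHom = 1 → x ≫ r.toHom = 1) → ∃ y : T ⟶ H, y ≫ i = x)
    (hrec : ∀ (Z : Over (Spec (CommRingCat.of k))) [GrpObj Z] [IsCommMonObj Z] [IsProper Z.hom] [GeometricallyIntegral Z.hom]
      (πZ : Z ⟶ Z) [IsMonHom πZ] (hπZb : πZ.left.base = 𝟙 _) (hπZle : ∀ U : Z.left.Opens, U ≤ πZ.left ⁻¹ᵁ U)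
      (hπZapp : ∀ (U : Z.left.Opens) (s : Γ(Z.left, U)), (πZ.left.appLE U U (hπZle U)).hom s = s ^ Nat.card k)
      (hPZ : Polynomial.eval₂ (Int.castRingHom (EndAV.End Z)) (EndAV.End.of πZ) P = 0)
      (M : AddSubgroup (EndAV.Hom Z A)), M.FiniteIndex → (∀ r ∈ M, ∀ s : EndAV.Hom A A, r ≫ s ∈ M) →
      ∀ f : EndAV.Hom Z A,
        (∀ (T : Over (Spec (CommRingCat.of k))) (x : T ⟶ Z), (∀ r ∈ M, x ≫ EndAV.Hom.toHom r = 1) →
          x ≫ f.toHom = 1) → f ∈ M)
    (X Y : Over (Spec (CommRingCat.of k))) [GrpObj X] [IsCommMonObj X] [IsProper X.hom] [GeometricallyIntegral X.hom]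
    [GrpObj Y] [IsCommMonObj Y] [IsProper Y.hom] [GeometricallyIntegral Y.hom]
    (πX : X ⟶ X) [IsMonHom πX] (hπXb : πX.left.base = 𝟙 _)
    (hπXle : ∀ U : X.left.Opens, U ≤ πX.left ⁻¹ᵁ U)
    (hπXapp : ∀ (U : X.left.Opens) (s : Γ(X.left, U)), (πX.left.appLE U U (hπXle U)).hom s = s ^ Nat.card k)
    (hPX : Polynomial.eval₂ (Int.castRingHom (EndAV.End X)) (EndAV.End.of πX) P = 0)
    (πY : Y ⟶ Y) [IsMonHom πY] (hπYb : πY.left.base = 𝟙 _)
    (hπYle : ∀ U : Y.left.Opens, U ≤ πY.left ⁻¹ᵁ U)
    (hπYapp : ∀ (U : Y.left.Opens) (s : Γ(Y.left, U)), (πY.left.appLE U U (hπYle U)).hom s = s ^ Nat.card k)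
    (hPY : Polynomial.eval₂ (Int.castRingHom (EndAV.End Y)) (EndAV.End.of πY) P = 0)
    (φ : EndAV.Hom X Y) [IsClosedImmersion φ.toHom.left] (f : EndAV.Hom X A) :
    ∃ g : EndAV.Hom Y A, φ ≫ g = f := by
  classical
  haveI : Smooth X.hom := Groth.Agent.S7795.result X
  haveI : Smooth Y.hom := Groth.Agent.S7795.result Y
  obtain ⟨ψ, n, hn, hψ⟩ := Groth.Agent.AVRosati.Reduc.exists_quasi_retraction (G := Y) (A := X) φ.toHom
  let u : Y ⟶ X := ψ * ((1 : Y ⟶ Y) ≫ ψ)⁻¹
  haveI hu : IsMonHom u := by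
    refine Groth.Agent.GrpSchLib.RigidHom.isMonHom_of_one u ?_
    simp only [u, MonObj.comp_mul, GrpObj.comp_inv, ← Category.assoc]
    rw [MonObj.comp_one η[Y], MonObj.one_eq_one, mul_inv_cancel]
  have hiu : φ.toHom ≫ u = (𝟙 X) ^ n := by
    have h := hψ X (1 : X ⟶ Y) (𝟙 X)
    rw [_root_.one_mul, Category.id_comp] at h
    have h1 : φ.toHom ≫ (1 : Y ⟶ Y) ≫ ψ = (1 : X ⟶ Y) ≫ ψ := by rw [← Category.assoc, MonObj.comp_one]
    simp only [u, MonObj.comp_mul, GrpObj.comp_inv, h1, h]
    rw [mul_comm ((1 : X ⟶ Y) ≫ ψ), mul_inv_cancel_right]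
  let res : EndAV.Hom Y A →+ EndAV.Hom X A :=
    AddMonoidHom.mk' (fun g => φ ≫ g) fun a b => Preadditive.comp_add _ _ _ _ _ _
  let M := res.range
  have hMn : ∀ r : EndAV.Hom X A, n • r ∈ M := fun r =>
    ⟨EndAV.Hom.of u ≫ r, EndAV.Hom.ext (by
      show φ.toHom ≫ u ≫ r.toHom = _
      rw [← Category.assoc, hiu, EndAV.Hom.toHom_nsmul, MonObj.pow_comp, Category.id_comp])⟩
  haveI : Module.Finite ℤ (EndAV.Hom X A) := (Groth.Agent.AVHomLib.hom_free (A := X) (B := A)).1
  haveI hfi : M.FiniteIndex := by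
    haveI : AddGroup.FG (EndAV.Hom X A) := Module.Finite.iff_addGroup_fg.1 inferInstance
    haveI : AddGroup.FG (EndAV.Hom X A ⧸ M) :=
      AddGroup.fg_of_surjective (f := QuotientAddGroup.mk' M) (QuotientAddGroup.mk'_surjective M)
    haveI : Finite (EndAV.Hom X A ⧸ M) := AddCommGroup.finite_of_fg_isAddTorsion _ fun z => by
      induction z using QuotientAddGroup.induction_on with
      | _ r =>
        exact isOfFinAddOrder_iff_nsmul_eq_zero.2 ⟨n, hn, (QuotientAddGroup.eq_zero_iff _).2 (hMn r)⟩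
    exact AddSubgroup.finiteIndex_of_finite_quotient
  haveI : Subsingleton ↥(𝟙_ (Over (Spec (CommRingCat.of k)))).left :=
    inferInstanceAs (Subsingleton (PrimeSpectrum k))
  haveI : IsClosedImmersion η[Y].left := by
    have h : η[Y].left ≫ Y.hom = 𝟙 _ := Over.w η[Y]
    exact isClosedImmersion_of_comp_eq_id _ _ h
  haveI : IsFinite (𝟙_ (Over (Spec (CommRingCat.of k)))).hom :=
    inferInstanceAs (IsFinite (𝟙 (Spec (CommRingCat.of k))))
  haveI : Mono φ.toHom := (Over.forget _).mono_of_mono_map (inferInstanceAs (Mono φ.toHom.left))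
  refine hrec X πX hπXb hπXle hπXapp hPX M hfi (fun r hr s => ?_) f (fun T x hx => ?_)
  · obtain ⟨g, rfl⟩ := hr
    refine ⟨g ≫ s, ?_⟩
    show φ ≫ g ≫ s = (φ ≫ g) ≫ s
    exact (Category.assoc _ _ _).symm
  · obtain ⟨y, hy⟩ := hb1 Y πY hπYb hπYle hπYapp hPY (𝟙_ (Over (Spec (CommRingCat.of k)))) η[Y] T (x ≫ φ.toHom)
      (fun r _ => by
        rw [Category.assoc]
        exact hx (φ ≫ r) ⟨r, rfl⟩)
    have hx1 : x = 1 := (cancel_mono φ.toHom).1 (by
      rw [MonObj.one_comp φ.toHom, ← hy, toUnit_unique y (toUnit T)]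
      rfl)
    rw [hx1, MonObj.one_comp]


end Groth.Agent.S16389
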