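import Groth.Statements.S16391
import Groth.Agent.AVCogen.Basic
import Groth.Agent.AVRosati.QuasiSection
-- import your own Groth.Agent.* helpers here

set_option autoImplicit false
universe u
open CategoryTheory MonoidalCategory CartesianMonoidalCategory MonObj GrpObj AlgebraicGeometry
open AbVar

set_option backward.isDefEq.respectTransparency false
set_option backward.isDefEq.respectTransparency.types false
set_option synthInstance.maxHeartbeats 400000
set_option maxHeartbeats 1000000
set_option linter.style.haveILetI false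
attribute [-instance] CategoryTheory.catToReflQuiver

namespace Groth.Agent.S16391

/-- (c) ⇒ (a₂): let k be a finite field with q elements and fix a polynomial P with integer
coefficients. Work with abelian varieties over k (proper, geometrically integral commutative group
schemes over k) together with their q-Frobenius endomorphism π (the identity on points, the q-th
power map on sections; a homomorphism) such that P(π) = 0 in the endomorphism ring (for suitable P:
the abelian varieties with Weil support in a given finite set of Weil q-numbers); let A be one of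
them and S = End(A) (product = composition). Assume that A is an injective cogenerator: (c₁) every
such Z admits finitely many homomorphisms Z → A which are jointly monomorphic on T-valued points
over k, and (c₂) for such X, Y and every homomorphism X → Y which is a closed immersion, the
restriction map Hom(Y, A) → Hom(X, A) is surjective. Then the functor X ↦ Hom(X, A) is essentially
surjective onto left S-modules that are free of finite rank over ℤ: for every such module M there
are such an abelian variety X (with its Frobenius and P(π_X) = 0) and an additive bijection M ≅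
Hom(X, A) carrying the action of s ∈ S to postcomposition with s. -/
theorem result
    (k : Type u) [Field k] [Finite k]
    (P : Polynomial ℤ) (A : Over (Spec (CommRingCat.of k))) [GrpObj A] [IsCommMonObj A] [IsProper A.hom] [GeometricallyIntegral A.hom]
    (πA : A ⟶ A) [IsMonHom πA] (hπAb : πA.left.base = 𝟙 _)
    (hπAle : ∀ U : A.left.Opens, U ≤ πA.left ⁻¹ᵁ U)
    (hπAapp : ∀ (U : A.left.Opens) (s : Γ(A.left, U)), (πA.left.appLE U U (hπAle U)).hom s = s ^ Nat.card k)
    (hPA : Polynomial.eval₂ (Int.castRingHom (EndAV.End A)) (EndAV.End.of πA) P = 0)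
    (hcog : ∀ (Z : Over (Spec (CommRingCat.of k))) [GrpObj Z] [IsCommMonObj Z] [IsProper Z.hom] [GeometricallyIntegral Z.hom]
      (πZ : Z ⟶ Z) [IsMonHom πZ] (hπZb : πZ.left.base = 𝟙 _) (hπZle : ∀ U : Z.left.Opens, U ≤ πZ.left ⁻¹ᵁ U)
      (hπZapp : ∀ (U : Z.left.Opens) (s : Γ(Z.left, U)), (πZ.left.appLE U U (hπZle U)).hom s = s ^ Nat.card k)
      (hPZ : Polynomial.eval₂ (Int.castRingHom (EndAV.End Z)) (EndAV.End.of πZ) P = 0),
      ∃ (n : ℕ) (ψ : Fin n → EndAV.Hom Z A), ∀ (T : Over (Spec (CommRingCat.of k))) (x y : T ⟶ Z),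
        (∀ i, x ≫ (ψ i).toHom = y ≫ (ψ i).toHom) → x = y)
    (hext : ∀ (X Y : Over (Spec (CommRingCat.of k))) [GrpObj X] [IsCommMonObj X] [IsProper X.hom] [GeometricallyIntegral X.hom]
      [GrpObj Y] [IsCommMonObj Y] [IsProper Y.hom] [GeometricallyIntegral Y.hom]
      (πX : X ⟶ X) [IsMonHom πX] (hπXb : πX.left.base = 𝟙 _) (hπXle : ∀ U : X.left.Opens, U ≤ πX.left ⁻¹ᵁ U)
      (hπXapp : ∀ (U : X.left.Opens) (s : Γ(X.left, U)), (πX.left.appLE U U (hπXle U)).hom s = s ^ Nat.card k)
      (hPX : Polynomial.eval₂ (Int.castRingHom (EndAV.End X)) (EndAV.End.of πX) P = 0)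
      (πY : Y ⟶ Y) [IsMonHom πY] (hπYb : πY.left.base = 𝟙 _) (hπYle : ∀ U : Y.left.Opens, U ≤ πY.left ⁻¹ᵁ U)
      (hπYapp : ∀ (U : Y.left.Opens) (s : Γ(Y.left, U)), (πY.left.appLE U U (hπYle U)).hom s = s ^ Nat.card k)
      (hPY : Polynomial.eval₂ (Int.castRingHom (EndAV.End Y)) (EndAV.End.of πY) P = 0)
      (φ : EndAV.Hom X Y) [IsClosedImmersion φ.toHom.left] (f : EndAV.Hom X A), ∃ g : EndAV.Hom Y A, φ ≫ g = f)
    (M : Type u) [AddCommGroup M] [Module (EndAV.End A) M] [Module.Finite ℤ M] [Module.Free ℤ M] :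
    ∃ (X : Over (Spec (CommRingCat.of k))) (_ : GrpObj X) (_ : IsCommMonObj X) (_ : IsProper X.hom)
      (_ : GeometricallyIntegral X.hom) (πX : X ⟶ X) (_ : IsMonHom πX) (_ : πX.left.base = 𝟙 _)
      (hπXle : ∀ U : X.left.Opens, U ≤ πX.left ⁻¹ᵁ U)
      (_ : ∀ (U : X.left.Opens) (s : Γ(X.left, U)), (πX.left.appLE U U (hπXle U)).hom s = s ^ Nat.card k)
      (_ : Polynomial.eval₂ (Int.castRingHom (EndAV.End X)) (EndAV.End.of πX) P = 0)
      (e : M ≃+ EndAV.Hom X A), ∀ (s : EndAV.End A) (m : M), (e (s • m)).toHom = (e m).toHom ≫ s.toHom := by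
  classical
  obtain ⟨hfin, -⟩ := Groth.Agent.AVHomLib.hom_free (A := A) (B := A)
  haveI : Module.Finite ℤ (EndAV.End A) := hfin
  obtain ⟨a, gen, hgen⟩ := Module.Finite.exists_fin (R := ℤ) (M := M)
  let π : (Fin a → EndAV.End A) →ₗ[EndAV.End A] M := Fintype.linearCombination (EndAV.End A) gen
  have hπ : Function.Surjective π := fun v => by
    obtain ⟨c, hc⟩ := (Submodule.mem_span_range_iff_exists_fun ℤ).1
      (hgen ▸ Submodule.mem_top : v ∈ Submodule.span ℤ (Set.range gen))
    refine ⟨fun t => ((c t : ℤ) : EndAV.End A), ?_⟩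
    rw [Fintype.linearCombination_apply, ← hc]
    exact Finset.sum_congr rfl fun t _ => Int.cast_smul_eq_zsmul _ _ _
  haveI : IsNoetherian ℤ (Fin a → EndAV.End A) := isNoetherian_of_isNoetherianRing_of_finite ℤ _
  obtain ⟨b, rel, hrel⟩ := Submodule.fg_iff_exists_fin_generating_family.1
    (IsNoetherian.noetherian (LinearMap.ker π.toAddMonoidHom.toIntLinearMap))
  have hrel0 : ∀ l, π (rel l) = 0 := fun l => by
    have h : rel l ∈ Submodule.span ℤ (Set.range rel) := Submodule.subset_span ⟨l, rfl⟩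
    rw [hrel] at h
    exact h
  obtain ⟨Y, _, _, hYp, hYi, p, -, hpe, -, hlift⟩ :=
    Groth.Agent.AVCogen.exists_pow_map (X := A) (fun _ : Fin a => (0 : EndAV.Hom A A))
  haveI := hYp
  haveI := hYi
  obtain ⟨W, _, _, hWp, hWi, p', -, hpe', -, hlift'⟩ :=
    Groth.Agent.AVCogen.exists_pow_map (X := A) (fun _ : Fin b => (0 : EndAV.Hom A A))
  haveI := hWp
  haveI := hWi
  obtain ⟨F, hF⟩ := hlift' Y (fun l => ∑ t, p t ≫ (rel l t : EndAV.Hom A A))
  obtain ⟨N, _, q, j, hq, hj, hjc, hqs, hNp, hNi, hqj⟩ := Groth.Agent.AVCogen.exists_factor_image F.toHom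
  haveI := hq
  haveI := hj
  haveI := hjc
  haveI := hqs
  haveI := hNp
  haveI := hNi
  haveI : IsCommMonObj N := isCommMonObj_of_isProper_of_geometricallyIntegral N
  obtain ⟨u, m₁, hu, hm₁, hju⟩ := Groth.Agent.AVCogen.exists_retraction j
  haveI := hu
  obtain ⟨σ, m₂, hm₂, hσ, hσq⟩ := Groth.Agent.AVRosati.QuasiSection.exists_quasi_section q
  haveI := hσ
  have hqjH : EndAV.Hom.of q ≫ EndAV.Hom.of j = F := EndAV.Hom.ext hqj
  have hjuH : EndAV.Hom.of j ≫ EndAV.Hom.of u = m₁ • 𝟙 _ := EndAV.Hom.ext (by simp only [EndAV.Hom.toHom_nsmul]; exact hju)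
  have hσqH : EndAV.Hom.of σ ≫ EndAV.Hom.of q = m₂ • 𝟙 _ := EndAV.Hom.ext (by simp only [EndAV.Hom.toHom_nsmul]; exact hσq)
  let d : EndAV.Hom Y Y := m₂ • 𝟙 _ - EndAV.Hom.of q ≫ EndAV.Hom.of σ
  have hdq : d ≫ EndAV.Hom.of q = 0 := by
    rw [Preadditive.sub_comp, Category.assoc, hσqH, Preadditive.comp_nsmul, Preadditive.nsmul_comp,
      Category.comp_id, Category.id_comp, sub_self]
  obtain ⟨X, _, q', i, hq', hi, hic, hq's, hXp, hXi, hqi⟩ := Groth.Agent.AVCogen.exists_factor_image d.toHom
  haveI := hq'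
  haveI := hi
  haveI := hic
  haveI := hq's
  haveI := hXp
  haveI := hXi
  haveI : IsCommMonObj X := isCommMonObj_of_isProper_of_geometricallyIntegral X
  haveI : Surjective (EndAV.Hom.of q').toHom.left := hq's
  have hqiH : EndAV.Hom.of q' ≫ EndAV.Hom.of i = d := EndAV.Hom.ext hqi
  have hiF : EndAV.Hom.of i ≫ F = 0 := by
    rw [← hqjH, ← Category.assoc]
    have h : EndAV.Hom.of i ≫ EndAV.Hom.of q = 0 :=
      Groth.Agent.AVCogen.cancel_hom (EndAV.Hom.of q') (by
        rw [← Category.assoc, hqiH, hdq, Limits.comp_zero])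
    rw [h, Limits.zero_comp]
  obtain ⟨πY, hπY, hYb, hYle, hYapp⟩ := Groth.Agent.AVCogen.exists_frobenius Y
  haveI := hπY
  obtain ⟨πX, hπX, hXb, hXle, hXapp⟩ := Groth.Agent.AVCogen.exists_frobenius X
  haveI := hπX
  have hpowA := Groth.Agent.AVCogen.isPowMap_of πA hπAb hπAle hπAapp
  have hPY : Polynomial.eval₂ (Int.castRingHom (EndAV.End Y)) (EndAV.End.of πY) P = 0 :=
    Groth.Agent.AVCogen.eval_eq_zero_of_jointly p (EndAV.End.of πY) (EndAV.End.of πA)
      (fun v w hvw => hpe Y v w hvw)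
      (fun t => Groth.Agent.AVCogen.frob_comm (p t).toHom πY
        (Groth.Agent.AVCogen.isPowMap_of πY hYb hYle hYapp) πA hpowA) P hPA
  haveI : Mono i := (Over.forget _).mono_of_mono_map (inferInstanceAs (Mono i.left))
  have hPX : Polynomial.eval₂ (Int.castRingHom (EndAV.End X)) (EndAV.End.of πX) P = 0 :=
    Groth.Agent.AVCogen.eval_eq_zero_of_jointly (fun t => EndAV.Hom.of i ≫ p t) (EndAV.End.of πX) (EndAV.End.of πA)
      (fun v w hvw => (cancel_mono i).1 (hpe X _ _ fun t => by
        rw [Category.assoc, Category.assoc]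
        exact hvw t))
      (fun t => Groth.Agent.AVCogen.frob_comm (EndAV.Hom.toHom (EndAV.Hom.of i ≫ p t)) πX
        (Groth.Agent.AVCogen.isPowMap_of πX hXb hXle hXapp) πA hpowA) P hPA
  haveI : IsClosedImmersion (EndAV.Hom.of i).toHom.left := hic
  let φ : (Fin a → EndAV.End A) →+ EndAV.Hom X A :=
    AddMonoidHom.mk' (fun s => ∑ t, (EndAV.Hom.of i ≫ p t) ≫ (s t : EndAV.Hom A A)) (fun s s' => by
      rw [← Finset.sum_add_distrib]
      exact Finset.sum_congr rfl fun t _ => Preadditive.comp_add _ _ _ _ _ _)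
  have hφ : ∀ s, φ s = EndAV.Hom.of i ≫ ∑ t, p t ≫ (s t : EndAV.Hom A A) := fun s => by
    rw [Preadditive.comp_sum]
    simp only [φ, AddMonoidHom.mk'_apply, Category.assoc]
  have hφsurj : Function.Surjective φ := fun f => by
    obtain ⟨g, hg⟩ := hext X Y πX hXb hXle hXapp hPX πY hYb hYle hYapp hPY (EndAV.Hom.of i) f
    obtain ⟨s, hs⟩ := Groth.Agent.AVCogen.exists_coords p hpe hlift g
    exact ⟨s, by rw [hφ, ← hg, hs]⟩
  choose inc hinc using fun v => hlift A (fun t => if v = t then 𝟙 _ else 0)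
  have hcoord : ∀ s s' : Fin a → EndAV.Hom A A, ∑ t, p t ≫ s t = ∑ t, p t ≫ s' t → s = s' := fun s s' h => by
    funext v
    have h' := congrArg (inc v ≫ ·) h
    simp only [Preadditive.comp_sum, ← Category.assoc, hinc] at h'
    simpa [ite_comp, Finset.sum_ite_eq] using h'
  have hπφ : ∀ s, π s = 0 ↔ φ s = 0 := by
    refine fun s => ⟨fun h => ?_, fun h => ?_⟩
    · have hs : s ∈ Submodule.span ℤ (Set.range rel) := hrel.symm ▸ LinearMap.mem_ker.2 h
      obtain ⟨c, hc⟩ := (Submodule.mem_span_range_iff_exists_fun ℤ).1 hs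
      rw [← hc, map_sum]
      refine Finset.sum_eq_zero fun l _ => ?_
      rw [map_zsmul, hφ, ← hF l, ← Category.assoc, hiF, Limits.zero_comp, smul_zero]
    · rw [hφ] at h
      let g : EndAV.Hom Y A := ∑ t, p t ≫ (s t : EndAV.Hom A A)
      have h1 : d ≫ g = 0 := by rw [← hqiH, Category.assoc, h, Limits.comp_zero]
      have h2 : m₂ • g = EndAV.Hom.of q ≫ EndAV.Hom.of σ ≫ g := by
        rw [Preadditive.sub_comp, Preadditive.nsmul_comp, Category.id_comp, Category.assoc, sub_eq_zero] at h1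
        exact h1
      have h3 : (m₁ * m₂) • g = F ≫ EndAV.Hom.of u ≫ EndAV.Hom.of σ ≫ g := by
        rw [← hqjH, Category.assoc, reassoc_of% hjuH, Preadditive.nsmul_comp, Category.id_comp, Preadditive.comp_nsmul, ← h2, ← mul_nsmul']
      obtain ⟨c, hc⟩ := Groth.Agent.AVCogen.exists_coords p' hpe' hlift'
        (EndAV.Hom.of u ≫ EndAV.Hom.of σ ≫ g)
      let cE : Fin b → EndAV.End A := fun l => c l
      have h4 : ((m₁ * m₂) • s : Fin a → EndAV.End A) = ∑ l, cE l • rel l := by
        refine hcoord _ _ ?_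
        rw [hc, Preadditive.comp_sum] at h3
        calc ∑ t, p t ≫ ((m₁ * m₂) • s) t = (m₁ * m₂) • g := by
              rw [Finset.smul_sum]
              exact Finset.sum_congr rfl fun t _ => Preadditive.comp_nsmul _ _ _
          _ = ∑ l, F ≫ p' l ≫ c l := h3
          _ = ∑ l, ∑ t, p t ≫ (rel l t : EndAV.Hom A A) ≫ c l := Finset.sum_congr rfl fun l _ => by
              rw [← Category.assoc, hF, Preadditive.sum_comp]
              exact Finset.sum_congr rfl fun t _ => Category.assoc _ _ _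
          _ = ∑ t, p t ≫ (∑ l, cE l • rel l) t := by
              rw [Finset.sum_comm]
              refine Finset.sum_congr rfl fun t _ => ?_
              rw [← Preadditive.comp_sum, Finset.sum_apply]
              rfl
      have h5 : (m₁ * m₂) • π s = 0 := by
        rw [← map_nsmul, h4, map_sum]
        exact Finset.sum_eq_zero fun l _ => by rw [map_smul, hrel0, smul_zero]
      exact (smul_eq_zero.1 (((natCast_zsmul (π s) (m₁ * m₂)).trans h5) : ((m₁ * m₂ : ℕ) : ℤ) • π s = 0)).resolve_left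
        (by exact_mod_cast (Nat.mul_pos hm₁ hm₂).ne')
  have hwd : ∀ s s', π s = π s' → φ s = φ s' := fun s s' h => by
    rw [← sub_eq_zero, ← map_sub, ← hπφ, map_sub, h, sub_self]
  have hinv := Function.rightInverse_surjInv hπ
  let e₀ : M →+ EndAV.Hom X A := AddMonoidHom.mk' (fun v => φ (Function.surjInv hπ v)) (fun v w => by
    rw [← map_add]
    exact hwd _ _ (by rw [map_add, hinv, hinv, hinv]))
  have he₀ : Function.Bijective e₀ := by
    refine ⟨(injective_iff_map_eq_zero e₀).2 fun v hv => ?_, fun f => ?_⟩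
    · rw [← hinv v, hπφ]
      exact hv
    · obtain ⟨s, hs⟩ := hφsurj f
      exact ⟨π s, (hwd _ _ (hinv (π s))).trans hs⟩
  refine ⟨X, inferInstance, inferInstance, hXp, hXi, πX, hπX, hXb, hXle, hXapp, hPX, AddEquiv.ofBijective e₀ he₀, fun s v => ?_⟩
  have hsmul : φ (s • Function.surjInv hπ v) = φ (Function.surjInv hπ v) ≫ (s : EndAV.Hom A A) := by
    simp only [φ, AddMonoidHom.mk'_apply]
    rw [Preadditive.sum_comp]
    exact Finset.sum_congr rfl fun t _ => (Category.assoc (EndAV.Hom.of i ≫ p t) (Function.surjInv hπ v t) s).symm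
  have h : e₀ (s • v) = e₀ v ≫ (s : EndAV.Hom A A) :=
    (hwd _ _ (by rw [map_smul, hinv, hinv])).trans hsmul
  exact congrArg EndAV.Hom.toHom h


end Groth.Agent.S16391
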