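import Groth.Statements.S16395
import Groth.Agent.AVCogen.Basic
-- import your own Groth.Agent.* helpers here

set_option autoImplicit false
universe u
open CategoryTheory MonoidalCategory CartesianMonoidalCategory MonObj GrpObj AlgebraicGeometry
open AbVar

set_option backward.isDefEq.respectTransparency false
set_option backward.isDefEq.respectTransparency.types false
set_option synthInstance.maxHeartbeats 400000
set_option maxHeartbeats 1000000
set_option linter.style.haveILetI false
attribute [-instance] CategoryTheory.catToReflQuiver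

namespace Groth.Agent.S16395

/-- (a) ⇒ (b₂): let k be a finite field with q elements and fix a polynomial P with integer
coefficients. Work with abelian varieties over k (proper, geometrically integral commutative group
schemes over k) with their q-Frobenius endomorphism π (identity on points, q-th power on sections; a
homomorphism) such that P(π) = 0 in the endomorphism ring (for suitable P: the abelian varieties
with Weil support in a given finite set of Weil q-numbers); let A be one of them and S = End(A)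
(product = composition), acting on each Hom(X, A) by postcomposition. Assume (a): the functor X ↦
Hom(X, A) is an anti-equivalence from these abelian varieties onto left S-modules free of finite
rank over ℤ — (a₁) for such X, Y, homomorphisms X → Y agreeing after composition with every
homomorphism Y → A are equal and every additive S-linear map Hom(Y, A) → Hom(X, A) is precomposition
with a homomorphism X → Y; (a₂) every left S-module whose additive group is free of finite rank over
ℤ is additively and S-linearly isomorphic to Hom(Y, A) for some such Y. Then (b₂): for every such X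
and every additive subgroup M ⊆ Hom(X, A) of finite index stable under postcomposition with
endomorphisms of A, a homomorphism f : X → A lies in M as soon as it kills the common kernel of M,
i.e. every T-valued point of X over k sent to the unit by all members of M is sent to the unit by f. -/
theorem result
    (k : Type u) [Field k] [Finite k]
    (P : Polynomial ℤ) (A : Over (Spec (CommRingCat.of k))) [GrpObj A] [IsCommMonObj A] [IsProper A.hom] [GeometricallyIntegral A.hom]
    (πA : A ⟶ A) [IsMonHom πA] (hπAb : πA.left.base = 𝟙 _) (hπAle : ∀ U : A.left.Opens, U ≤ πA.left ⁻¹ᵁ U)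
      (hπAapp : ∀ (U : A.left.Opens) (s : Γ(A.left, U)), (πA.left.appLE U U (hπAle U)).hom s = s ^ Nat.card k)
    (hPA : Polynomial.eval₂ (Int.castRingHom (EndAV.End A)) (EndAV.End.of πA) P = 0)
    (hff : ∀ (X Y : Over (Spec (CommRingCat.of k))) [GrpObj X] [IsCommMonObj X] [IsProper X.hom] [GeometricallyIntegral X.hom]
      [GrpObj Y] [IsCommMonObj Y] [IsProper Y.hom] [GeometricallyIntegral Y.hom]
      (πX : X ⟶ X) [IsMonHom πX] (hπXb : πX.left.base = 𝟙 _) (hπXle : ∀ U : X.left.Opens, U ≤ πX.left ⁻¹ᵁ U)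
      (hπXapp : ∀ (U : X.left.Opens) (s : Γ(X.left, U)), (πX.left.appLE U U (hπXle U)).hom s = s ^ Nat.card k)
      (hPX : Polynomial.eval₂ (Int.castRingHom (EndAV.End X)) (EndAV.End.of πX) P = 0)
      (πY : Y ⟶ Y) [IsMonHom πY] (hπYb : πY.left.base = 𝟙 _) (hπYle : ∀ U : Y.left.Opens, U ≤ πY.left ⁻¹ᵁ U)
      (hπYapp : ∀ (U : Y.left.Opens) (s : Γ(Y.left, U)), (πY.left.appLE U U (hπYle U)).hom s = s ^ Nat.card k)
      (hPY : Polynomial.eval₂ (Int.castRingHom (EndAV.End Y)) (EndAV.End.of πY) P = 0),
      (∀ f g : EndAV.Hom X Y, (∀ φ : EndAV.Hom Y A, f ≫ φ = g ≫ φ) → f = g) ∧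
        (∀ g : EndAV.Hom Y A →+ EndAV.Hom X A,
          (∀ (φ : EndAV.Hom Y A) (s : EndAV.Hom A A), g (φ ≫ s) = g φ ≫ s) →
            ∃ f : EndAV.Hom X Y, ∀ φ : EndAV.Hom Y A, g φ = f ≫ φ))
    (hes : ∀ (M : Type u) [AddCommGroup M] [Module (EndAV.End A) M] [Module.Finite ℤ M] [Module.Free ℤ M],
      ∃ (Y : Over (Spec (CommRingCat.of k))) (_ : GrpObj Y) (_ : IsCommMonObj Y) (_ : IsProper Y.hom)
        (_ : GeometricallyIntegral Y.hom) (πY : Y ⟶ Y) (_ : IsMonHom πY) (_ : πY.left.base = 𝟙 _)
        (hπYle : ∀ U : Y.left.Opens, U ≤ πY.left ⁻¹ᵁ U)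
        (_ : ∀ (U : Y.left.Opens) (s : Γ(Y.left, U)), (πY.left.appLE U U (hπYle U)).hom s = s ^ Nat.card k)
        (_ : Polynomial.eval₂ (Int.castRingHom (EndAV.End Y)) (EndAV.End.of πY) P = 0)
        (e : M ≃+ EndAV.Hom Y A), ∀ (s : EndAV.End A) (m : M), (e (s • m)).toHom = (e m).toHom ≫ s.toHom)
    (X : Over (Spec (CommRingCat.of k))) [GrpObj X] [IsCommMonObj X] [IsProper X.hom] [GeometricallyIntegral X.hom]
    (πX : X ⟶ X) [IsMonHom πX] (hπXb : πX.left.base = 𝟙 _) (hπXle : ∀ U : X.left.Opens, U ≤ πX.left ⁻¹ᵁ U)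
      (hπXapp : ∀ (U : X.left.Opens) (s : Γ(X.left, U)), (πX.left.appLE U U (hπXle U)).hom s = s ^ Nat.card k)
    (hPX : Polynomial.eval₂ (Int.castRingHom (EndAV.End X)) (EndAV.End.of πX) P = 0)
    (M : AddSubgroup (EndAV.Hom X A)) (hM : M.FiniteIndex) (hMS : ∀ r ∈ M, ∀ s : EndAV.Hom A A, r ≫ s ∈ M)
    (f : EndAV.Hom X A)
    (hf : ∀ (T : Over (Spec (CommRingCat.of k))) (x : T ⟶ X), (∀ r ∈ M, x ≫ EndAV.Hom.toHom r = 1) → x ≫ f.toHom = 1) :
    f ∈ M := by
  classical
  obtain ⟨hfin, hfree⟩ := Groth.Agent.AVHomLib.hom_free (A := X) (B := A)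
  haveI := hfin
  haveI := hfree
  letI modM : Module (EndAV.End A) M :=
    { smul := fun s r => ⟨(r.1 ≫ s : EndAV.Hom X A), hMS r.1 r.2 s⟩
      one_smul := fun r => Subtype.ext (Category.comp_id r.1)
      mul_smul := fun s t r => Subtype.ext (Category.assoc r.1 t s).symm
      smul_zero := fun s => Subtype.ext Limits.zero_comp
      smul_add := fun s r r' => Subtype.ext (Preadditive.add_comp _ _ _ r.1 r'.1 s)
      add_smul := fun s t r => Subtype.ext (Preadditive.comp_add _ _ _ r.1 s t)
      zero_smul := fun r => Subtype.ext Limits.comp_zero }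
  haveI : IsNoetherian ℤ (EndAV.Hom X A) := isNoetherian_of_isNoetherianRing_of_finite ℤ _
  haveI : Module.Finite ℤ M :=
    Module.Finite.of_injective M.subtype.toIntLinearMap Subtype.val_injective
  haveI : Module.Free ℤ M :=
    haveI : Module.IsTorsionFree ℤ M :=
      Subtype.val_injective.moduleIsTorsionFree _ (fun n r => map_zsmul M.subtype n r)
    Module.free_of_finite_type_torsion_free'
  obtain ⟨Y, _, _, hYp, hYi, πY, hπY, hYb, hYle, hYapp, hPY, e, he⟩ := hes M
  haveI := hYp
  haveI := hYi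
  haveI := hπY
  let g₀ : EndAV.Hom Y A →+ EndAV.Hom X A := M.subtype.comp e.symm.toAddMonoidHom
  obtain ⟨q, hq⟩ := (hff X Y πX hπXb hπXle hπXapp hPX πY hYb hYle hYapp hPY).2 g₀ (fun φ s => by
    have h1 : e.symm (φ ≫ s) = @HSMul.hSMul (EndAV.End A) M M _ s (e.symm φ) := by
      apply e.injective
      rw [e.apply_symm_apply]
      exact EndAV.Hom.ext (by rw [he, e.apply_symm_apply]; rfl)
    show ((e.symm (φ ≫ s) : M) : EndAV.Hom X A) = _
    rw [h1]
    rfl)
  have hinj : ∀ φ : EndAV.Hom Y A, q ≫ φ = 0 → φ = 0 := fun φ h => by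
    have h1 : ((e.symm φ : M) : EndAV.Hom X A) = 0 := (hq φ).trans h
    have h2 : e.symm φ = 0 := Subtype.ext h1
    rw [← e.apply_symm_apply φ, h2, map_zero]
  obtain ⟨N, _, q₀, j, hq₀, hj, hjc, hqs, hNp, hNi, hqj⟩ :=
    Groth.Agent.AVCogen.exists_factor_image q.toHom
  haveI := hj
  haveI := hjc
  haveI := hqs
  haveI := hNp
  haveI := hNi
  haveI : IsCommMonObj N := isCommMonObj_of_isProper_of_geometricallyIntegral N
  haveI := hq₀
  obtain ⟨u, m, hu, hm, hju⟩ := Groth.Agent.AVCogen.exists_retraction j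
  haveI := hu
  let w : EndAV.End Y := EndAV.Hom.of u ≫ EndAV.Hom.of j
  let d : EndAV.End Y := (m : EndAV.End Y) - w
  have hqd : q.toHom ≫ EndAV.End.toHom d = 1 := by
    rw [EndAV.End.toHom_sub, EndAV.End.toHom_natCast, GrpObj.comp_div, MonObj.comp_pow, Category.comp_id, ← hqj]
    show (q₀ ≫ j) ^ m / (q₀ ≫ j) ≫ u ≫ j = 1
    rw [Category.assoc, ← Category.assoc j u j, hju, MonObj.pow_comp, Category.id_comp, MonObj.comp_pow,
      div_self']
  have hd : ((d : EndAV.End Y) : EndAV.Hom Y Y) = 0 := by
    refine (hff Y Y πY hYb hYle hYapp hPY πY hYb hYle hYapp hPY).1 _ _ fun φ => ?_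
    rw [Limits.zero_comp]
    refine hinj _ (EndAV.Hom.ext ?_)
    show q.toHom ≫ EndAV.End.toHom d ≫ φ.toHom = 1
    rw [← Category.assoc, hqd, MonObj.one_comp]
  haveI : Surjective q.toHom.left := by
    haveI : IsIntegral Y.left := Groth.Agent.H23.MaxAbelian.isIntegral_of_geometricallyIntegral
    haveI : Surjective ((𝟙 Y : Y ⟶ Y) ^ m).left := Groth.Agent.AVMulN.surjective_pow (A := Y) m hm
    have hm' : (𝟙 Y : Y ⟶ Y) ^ m = u ≫ j := by
      have h := congrArg EndAV.End.toHom hd
      rw [EndAV.End.toHom_sub, EndAV.End.toHom_natCast, EndAV.End.toHom_zero, div_eq_one] at h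
      exact h
    haveI : Surjective (u.left ≫ j.left) := by rw [← Over.comp_left, ← hm']; infer_instance
    haveI : Surjective j.left := Surjective.of_comp u.left j.left
    rw [← hqj, Over.comp_left]
    infer_instance
  obtain ⟨g, hg, hgf⟩ := Groth.Agent.AVRosati.Factor.exists_factor q.toHom f.toHom (fun T x hx => hf T x fun r hr => by
    have h1 : r = q ≫ e ⟨r, hr⟩ := by
      have h := hq (e ⟨r, hr⟩)
      rw [show g₀ (e ⟨r, hr⟩) = r from congrArg Subtype.val (e.symm_apply_apply _)] at h
      exact h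
    rw [h1, EndAV.Hom.toHom_comp, ← Category.assoc, hx, MonObj.one_comp])
  haveI := hg
  have hfeq : f = q ≫ EndAV.Hom.of g := EndAV.Hom.ext hgf.symm
  rw [hfeq, ← hq]
  exact (e.symm (EndAV.Hom.of g)).2


end Groth.Agent.S16395
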