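import Groth.Statements.S16419
-- import your own Groth.Agent.* helpers here
import Mathlib

set_option autoImplicit false
universe u v
open CAlg

namespace Groth.Agent.S16419

open TensorProduct in
/-- For a commutative local Artinian ring R and an exact sequence 0 → H₁ → H → H₂ → 0 of finite free
R-modules, let F₁ ⊆ H₁ and F₂ ⊆ H₂ be submodules with H₁/F₁ and H₂/F₂ free; let 𝔫 be an ideal of R
of square zero, R̄ = R/𝔫, and F̄ an R̄-submodule of H̄ = R̄ ⊗ H with free quotient such that F̄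
meets the image of R̄ ⊗ H₁ in the image of R̄ ⊗ F₁ and the image of F̄ in R̄ ⊗ H₂ is the image of R̄
⊗ F₂. Then there is a direct summand F of H with F ∩ H₁ = F₁, whose image in H̄ is F̄ and whose
image in H₂ is F₂. -/
theorem result
    (R : Type u) [CommRing R] [IsArtinianRing R] [IsLocalRing R]
    (H₁ : Type v) (H : Type v) (H₂ : Type v)
    [AddCommGroup H₁] [Module R H₁] [AddCommGroup H] [Module R H] [AddCommGroup H₂] [Module R H₂]
    [Module.Free R H₁] [Module.Finite R H₁] [Module.Free R H] [Module.Finite R H]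
    [Module.Free R H₂] [Module.Finite R H₂]
    (f : H₁ →ₗ[R] H) (g : H →ₗ[R] H₂) (hf : Function.Injective f) (hg : Function.Surjective g)
    (hfg : Function.Exact f g)
    (F₁ : Submodule R H₁) (F₂ : Submodule R H₂) [Module.Free R (H₁ ⧸ F₁)] [Module.Free R (H₂ ⧸ F₂)]
    (𝔫 : Ideal R) (hn : 𝔫 * 𝔫 = ⊥)
    (Fb : Submodule (R ⧸ 𝔫) ((R ⧸ 𝔫) ⊗[R] H))
    [Module.Free (R ⧸ 𝔫) (((R ⧸ 𝔫) ⊗[R] H) ⧸ Fb)]
    (h1 : Fb ⊓ LinearMap.range (f.baseChange (R ⧸ 𝔫)) =
      Submodule.map (f.baseChange (R ⧸ 𝔫)) (F₁.baseChange (R ⧸ 𝔫)))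
    (h2 : Submodule.map (g.baseChange (R ⧸ 𝔫)) Fb = F₂.baseChange (R ⧸ 𝔫)) :
    ∃ F : Submodule R H, (∃ C : Submodule R H, IsCompl F C) ∧
      F ⊓ LinearMap.range f = Submodule.map f F₁ ∧
      F.baseChange (R ⧸ 𝔫) = Fb ∧ Submodule.map g F = F₂ := by
  classical
  set k := R ⧸ 𝔫
  haveI : Module.Projective R (H₁ ⧸ F₁) := inferInstance
  obtain ⟨C₁, hC₁⟩ : ∃ C, IsCompl F₁ C := by
    haveI : Module.Projective R (H₁ ⧸ F₁) := inferInstance
    obtain ⟨σ, hσ⟩ := F₁.mkQ.exists_rightInverse_of_surjective (LinearMap.range_eq_top.2 F₁.mkQ_surjective)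
    have hσ' : ∀ y, F₁.mkQ (σ y) = y := LinearMap.congr_fun hσ
    refine ⟨LinearMap.range σ, Submodule.disjoint_def.2 ?_, codisjoint_iff.2 (eq_top_iff.2 fun x _ => ?_)⟩
    · rintro _ hx ⟨y, rfl⟩
      rw [← hσ' y, Submodule.mkQ_apply, (Submodule.Quotient.mk_eq_zero _).2 hx, map_zero]
    · refine Submodule.mem_sup.2 ⟨x - σ (F₁.mkQ x), ?_, σ (F₁.mkQ x), ⟨_, rfl⟩, sub_add_cancel _ _⟩
      exact (Submodule.Quotient.mk_eq_zero F₁).1 (by
        show F₁.mkQ (x - σ (F₁.mkQ x)) = 0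
        rw [map_sub, hσ', sub_self])
  obtain ⟨C₂, hC₂⟩ : ∃ C, IsCompl F₂ C := by
    haveI : Module.Projective R (H₂ ⧸ F₂) := inferInstance
    obtain ⟨σ, hσ⟩ := F₂.mkQ.exists_rightInverse_of_surjective (LinearMap.range_eq_top.2 F₂.mkQ_surjective)
    have hσ' : ∀ y, F₂.mkQ (σ y) = y := LinearMap.congr_fun hσ
    refine ⟨LinearMap.range σ, Submodule.disjoint_def.2 ?_, codisjoint_iff.2 (eq_top_iff.2 fun x _ => ?_)⟩
    · rintro _ hx ⟨y, rfl⟩
      rw [← hσ' y, Submodule.mkQ_apply, (Submodule.Quotient.mk_eq_zero _).2 hx, map_zero]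
    · refine Submodule.mem_sup.2 ⟨x - σ (F₂.mkQ x), ?_, σ (F₂.mkQ x), ⟨_, rfl⟩, sub_add_cancel _ _⟩
      exact (Submodule.Quotient.mk_eq_zero F₂).1 (by
        show F₂.mkQ (x - σ (F₂.mkQ x)) = 0
        rw [map_sub, hσ', sub_self])
  haveI : Module.Projective R F₂ := Module.Projective.of_split F₂.subtype (F₂.projectionOnto C₂ hC₂)
    (LinearMap.ext fun x => Submodule.projectionOnto_apply_left hC₂ x)
  haveI : Module.Projective R C₂ := Module.Projective.of_split C₂.subtype (C₂.projectionOnto F₂ hC₂.symm)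
    (LinearMap.ext fun x => Submodule.projectionOnto_apply_left hC₂.symm x)
  let π : H →ₗ[R] k ⊗[R] H := TensorProduct.mk R k H 1
  let π₁ : H₁ →ₗ[R] k ⊗[R] H₁ := TensorProduct.mk R k H₁ 1
  let π₂ : H₂ →ₗ[R] k ⊗[R] H₂ := TensorProduct.mk R k H₂ 1
  let E : Submodule R H := (Fb.restrictScalars R).comap π
  let gE : E →ₗ[R] H₂ := g ∘ₗ E.subtype
  have hgbar : ∀ x, g.baseChange k (π x) = π₂ (g x) := fun x => by simp [π, π₂]
  have hsurjπ : Function.Surjective π := fun z => by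
    induction z with
    | zero => exact ⟨0, map_zero _⟩
    | tmul a x =>
      obtain ⟨r, rfl⟩ := Ideal.Quotient.mk_surjective a
      exact ⟨r • x, by rw [map_smul, show π x = (1 : k) ⊗ₜ[R] x from rfl, TensorProduct.smul_tmul', Algebra.smul_def, mul_one]; rfl⟩
    | add z w hz hw =>
      obtain ⟨a, rfl⟩ := hz
      obtain ⟨b, rfl⟩ := hw
      exact ⟨a + b, map_add _ _ _⟩
  have hker2 : ∀ y, π₂ y = 0 → ∃ z, g z = y ∧ π z = 0 := by
    intro y hy
    have hy' : y ∈ 𝔫 • (⊤ : Submodule R H₂) := by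
      have := congrArg (TensorProduct.quotTensorEquivQuotSMul H₂ 𝔫) hy
      rw [map_zero, show π₂ y = (1 : k) ⊗ₜ[R] y from rfl] at this
      simpa [k, Submodule.Quotient.mk_eq_zero, TensorProduct.quotTensorEquivQuotSMul_mk_one_tmul] using this
    refine Submodule.smul_induction_on hy' (fun r hr m _ => ?_) (fun a b ha hb => ?_)
    · obtain ⟨z, rfl⟩ := hg m
      refine ⟨r • z, map_smul g r z, ?_⟩
      show (1 : k) ⊗ₜ[R] (r • z) = 0
      rw [← TensorProduct.smul_tmul, Algebra.smul_def, Ideal.Quotient.algebraMap_eq,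
        Ideal.Quotient.eq_zero_iff_mem.2 hr, zero_mul, TensorProduct.zero_tmul]
    · obtain ⟨z, rfl, hz⟩ := ha
      obtain ⟨w, rfl, hw⟩ := hb
      exact ⟨z + w, map_add g z w, by rw [map_add, hz, hw, add_zero]⟩
  have hEF : ∀ y ∈ F₂, ∃ x ∈ E, g x = y := by
    intro y hy
    have hy2 : π₂ y ∈ Submodule.map (g.baseChange k) Fb := by
      rw [h2]; exact Submodule.tmul_mem_baseChange_of_mem _ hy
    obtain ⟨fb, hfb, hgfb⟩ := hy2
    obtain ⟨x, rfl⟩ := hsurjπ fb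
    obtain ⟨z, hz, hπz⟩ := hker2 (g x - y) (by rw [map_sub, ← hgbar, hgfb, sub_self])
    refine ⟨x - z, ?_, by rw [map_sub, hz, sub_sub_cancel]⟩
    show π (x - z) ∈ Fb
    rw [map_sub, hπz, sub_zero]
    exact hfb
  let gE' : ↥(E ⊓ F₂.comap g) →ₗ[R] F₂ :=
    (g ∘ₗ Submodule.subtype _).codRestrict F₂ fun x => x.2.2
  obtain ⟨s, hs⟩ := gE'.exists_rightInverse_of_surjective (LinearMap.range_eq_top.2 fun y => by
    obtain ⟨x, hx, hgx⟩ := hEF y y.2
    exact ⟨⟨x, hx, show g x ∈ F₂ from hgx ▸ y.2⟩, Subtype.ext hgx⟩)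
  let s' : F₂ →ₗ[R] H := Submodule.subtype _ ∘ₗ s
  have hs' : ∀ y, g (s' y) = y := fun y => congrArg Subtype.val (LinearMap.congr_fun hs y)
  obtain ⟨t, ht⟩ := Module.projective_lifting_property g C₂.subtype hg
  have ht' : ∀ y, g (t y) = y := LinearMap.congr_fun ht
  have hgf : ∀ a, g (f a) = 0 := fun a => hfg.apply_apply_eq_zero a
  let F : Submodule R H := F₁.map f ⊔ LinearMap.range s'
  have hgF : Submodule.map g F = F₂ := by
    apply le_antisymm
    · rw [Submodule.map_sup]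
      refine sup_le ?_ ?_
      · rintro _ ⟨_, ⟨a, -, rfl⟩, rfl⟩; rw [hgf]; exact zero_mem _
      · rintro _ ⟨_, ⟨y, rfl⟩, rfl⟩; rw [hs']; exact y.2
    · intro y hy
      exact ⟨s' ⟨y, hy⟩, Submodule.mem_sup_right ⟨_, rfl⟩, hs' _⟩
  refine ⟨F, ⟨C₁.map f ⊔ LinearMap.range t, ?_⟩, ?_, ?_, hgF⟩
  · constructor
    · rw [Submodule.disjoint_def]
      intro x hx hx'
      obtain ⟨_, ⟨a, ha, rfl⟩, _, ⟨b, rfl⟩, rfl⟩ := Submodule.mem_sup.1 hx
      obtain ⟨_, ⟨c, hc, rfl⟩, _, ⟨e, rfl⟩, he⟩ := Submodule.mem_sup.1 hx'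
      have h0 := congrArg g he
      rw [map_add, map_add, hgf, hgf, hs', ht', zero_add, zero_add] at h0
      have hb0 : b = 0 := Subtype.ext (Submodule.disjoint_def.1 hC₂.disjoint _ b.2 (h0 ▸ e.2))
      have he0 : e = 0 := Subtype.ext (by rw [h0, hb0]; rfl)
      rw [hb0, he0, map_zero, map_zero, add_zero, add_zero] at he
      have hca : c = a := hf he
      have : a = 0 := Submodule.disjoint_def.1 hC₁.disjoint _ ha (hca ▸ hc)
      rw [hb0, this, map_zero, map_zero, add_zero]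
    · rw [codisjoint_iff, eq_top_iff]
      intro x _
      obtain ⟨b, hb, e, he, hbe⟩ := Submodule.mem_sup.1 (hC₂.sup_eq_top.ge (Submodule.mem_top (x := g x)))
      obtain ⟨w, hw⟩ := (hfg (x - s' ⟨b, hb⟩ - t ⟨e, he⟩)).1 (by
        rw [map_sub, map_sub, hs', ht', ← hbe]; abel)
      obtain ⟨a, ha, c, hc, rfl⟩ := Submodule.mem_sup.1 (hC₁.sup_eq_top.ge (Submodule.mem_top (x := w)))
      rw [show x = (f a + s' ⟨b, hb⟩) + (f c + t ⟨e, he⟩) by
        rw [map_add, eq_sub_iff_add_eq, eq_sub_iff_add_eq] at hw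
        rw [← hw]; abel]
      exact Submodule.add_mem_sup (Submodule.add_mem_sup ⟨a, ha, rfl⟩ ⟨_, rfl⟩)
        (Submodule.add_mem_sup ⟨c, hc, rfl⟩ ⟨_, rfl⟩)
  · refine le_antisymm ?_ (le_inf le_sup_left (by rintro _ ⟨a, -, rfl⟩; exact ⟨a, rfl⟩))
    rintro x ⟨hx, ⟨w, rfl⟩⟩
    obtain ⟨_, ⟨a, ha, rfl⟩, _, ⟨b, rfl⟩, he⟩ := Submodule.mem_sup.1 hx
    have h0 := congrArg g he
    rw [map_add, hgf, hgf, hs', zero_add] at h0
    rw [← he, show b = 0 from Subtype.ext h0, map_zero, add_zero]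
    exact ⟨a, ha, rfl⟩
  · have hF1 : F₁.baseChange k ≤ (Fb ⊓ LinearMap.range (f.baseChange k)).comap (f.baseChange k) := by
      rw [h1]; exact Submodule.le_comap_map _ _
    have hle : F.baseChange k ≤ Fb := by
      rw [Submodule.baseChange_eq_span, Submodule.span_le]
      rintro _ ⟨x, hx, rfl⟩
      obtain ⟨_, ⟨a, ha, rfl⟩, _, ⟨b, rfl⟩, rfl⟩ := Submodule.mem_sup.1 hx
      show π (f a + s' b) ∈ Fb
      rw [map_add]
      refine add_mem ?_ (s b).2.1
      have := (hF1 (Submodule.tmul_mem_baseChange_of_mem (1 : k) ha)).1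
      rwa [LinearMap.baseChange_tmul] at this
    refine le_antisymm hle fun z hz => ?_
    have hz2 : g.baseChange k z ∈ F₂.baseChange k := h2 ▸ Submodule.mem_map_of_mem hz
    have hsub : F₂.baseChange k ≤ (F.baseChange k).map (g.baseChange k) := by
      rw [Submodule.baseChange_eq_span, Submodule.span_le]
      rintro _ ⟨y, hy, rfl⟩
      refine ⟨π (s' ⟨y, hy⟩), Submodule.tmul_mem_baseChange_of_mem _ (Submodule.mem_sup_right ⟨_, rfl⟩), ?_⟩
      rw [hgbar, hs']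
    obtain ⟨w, hw, hgw⟩ := hsub hz2
    have hex : Function.Exact (f.baseChange k) (g.baseChange k) := by
      exact lTensor_exact k hfg hg
    obtain ⟨v, hv⟩ := (hex (z - w)).1 (by rw [map_sub, hgw, sub_self])
    have hmem : z - w ∈ Fb ⊓ LinearMap.range (f.baseChange k) := ⟨sub_mem hz (hle hw), ⟨v, hv⟩⟩
    rw [h1] at hmem
    have hle1 : Submodule.map (f.baseChange k) (F₁.baseChange k) ≤ F.baseChange k := by
      rw [Submodule.baseChange_eq_span, Submodule.map_span, Submodule.span_le]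
      rintro _ ⟨_, ⟨a, ha, rfl⟩, rfl⟩
      show f.baseChange k ((1 : k) ⊗ₜ[R] a) ∈ _
      rw [LinearMap.baseChange_tmul]
      exact Submodule.tmul_mem_baseChange_of_mem _ (Submodule.mem_sup_left ⟨a, ha, rfl⟩)
    exact (sub_add_cancel z w) ▸ add_mem (hle1 hmem) hw

end Groth.Agent.S16419
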