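import Groth.Statements.S16431
import Groth.Agent.BrnchLib.NormRedEquiv
import Groth.Agent.BrnchLib.SHTower
import Groth.Agent.BrnchLib.Unibranch
import Groth.Agent.BrnchLib.HenzStrict
import Groth.Agent.Hensel.HenselizationFibre
import Groth.Agent.S0540
-- import your own Groth.Agent.* helpers here

set_option autoImplicit false
universe u
open Hensel

namespace Groth.Agent.S16431

open TensorProduct in
theorem isRadical_map_of_isHenzLike (B S : Type u) [CommRing B] [IsLocalRing B] [CommRing S] [IsLocalRing S]
    [Algebra B S] [IsLocalHom (algebraMap B S)] (h : Groth.Agent.Hensel.IsHenzLike B S) (q : Ideal B) [q.IsPrime] :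
    (q.map (algebraMap B S)).IsRadical := by
  haveI : IsReduced (S ⊗[B] (B ⧸ q)) := h.isReduced_tensor (B ⧸ q)
  exact (Ideal.isRadical_iff_quotient_reduced _).2
    (isReduced_of_injective (Algebra.TensorProduct.quotIdealMapEquivTensorQuot S q).toRingEquiv
      (Algebra.TensorProduct.quotIdealMapEquivTensorQuot S q).injective)

/-- Let A be an excellent reduced local ring with residue field k, let A' be the integral closure of A
in its total ring of fractions, let A^h be a henselization and A^hs a strict henselization of A, and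
let A^h → A^hs be the A-algebra map between them (it is the unique one). Then the residue field of
A' at every maximal ideal is purely inseparable over k — every element has some p^n-th power in the
image of A, p the characteristic exponent — if and only if every minimal prime ideal of A^hs is
generated by its contraction to A^h. -/
theorem result
    (A Ah Ash : Type u) [CommRing A] [IsLocalRing A] [IsReduced A] (hA : EGA4.IsExcellent A)
    [CommRing Ah] [IsLocalRing Ah] [Algebra A Ah] [IsLocalHom (algebraMap A Ah)]
    [Hensel.IsHenselization A Ah]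
    [CommRing Ash] [IsLocalRing Ash] [Algebra A Ash] [IsLocalHom (algebraMap A Ash)]
    [Hensel.IsStrictHenselization A Ash] [Algebra Ah Ash] [IsScalarTower A Ah Ash] :
    (∀ (M : Ideal (integralClosure A (FractionRing A))) [M.IsMaximal], ∀ x : (integralClosure A (FractionRing A)) ⧸ M, ∃ n : ℕ,
        x ^ (ringExpChar ((integralClosure A (FractionRing A)) ⧸ M)) ^ n ∈
          ((Ideal.Quotient.mk M).comp (algebraMap A (integralClosure A (FractionRing A)))).range) ↔
      (∀ Q ∈ minimalPrimes Ash, Q = Ideal.map (algebraMap Ah Ash) (Q.comap (algebraMap Ah Ash))) := by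
  classical
  haveI : IsNoetherianRing A := hA.1
  have hfinA : (minimalPrimes A).Finite := minimalPrimes.finite_of_isNoetherianRing A
  have hHh := Groth.Agent.Hensel.isHenzLike_of_isHenselization A Ah
  haveI : IsNoetherianRing Ah := hHh.isNoetherianRing_iff.1 inferInstance
  haveI : IsNoetherianRing Ash := (Groth.Agent.S0540.result A Ash).1 inferInstance
  haveI : IsLocalHom (algebraMap Ah Ash) := ⟨fun x hx => by
    by_contra hn
    have hm : (IsLocalRing.maximalIdeal Ah) = (IsLocalRing.maximalIdeal A).map (algebraMap A Ah) :=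
      (Groth.Agent.Hensel.map_maximalIdeal_of_isHenselization A Ah).symm
    have h1 : algebraMap Ah Ash x ∈ (IsLocalRing.maximalIdeal A).map (algebraMap A Ash) := by
      rw [IsScalarTower.algebraMap_eq A Ah Ash, ← Ideal.map_map]
      exact Ideal.mem_map_of_mem _ (hm ▸ (show x ∈ IsLocalRing.maximalIdeal Ah from hn))
    have h2 : (IsLocalRing.maximalIdeal A).map (algebraMap A Ash) ≤ IsLocalRing.maximalIdeal Ash :=
      Ideal.map_le_iff_le_comap.2 fun a ha => map_nonunit (algebraMap A Ash) a ha
    exact h2 h1 hx⟩
  haveI := Groth.Agent.BrnchLib.isStrictHenselization_over_henselization A Ah Ash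
  haveI := Groth.Agent.Hensel.faithfullyFlat_of_isStrictHenselization Ah Ash
  have hHs := Groth.Agent.Hensel.isHenzLike_of_isStrictHenselization Ah Ash
  let c : minimalPrimes Ash → minimalPrimes Ah := fun Q =>
    ⟨Q.1.comap (algebraMap Ah Ash), haveI := Q.2.1.1;
      (Groth.Agent.BrnchLib.mem_minimalPrimes_iff_comap hHs).1 Q.2⟩
  have hc : Function.Surjective c := fun q => by
    obtain ⟨Q, hQ, hQq⟩ := Groth.Agent.BrnchLib.exists_minimalPrimes_over hHs q.2
    exact ⟨⟨Q, hQ⟩, Subtype.ext hQq⟩
  haveI : Finite (minimalPrimes Ash) := (minimalPrimes.finite_of_isNoetherianRing Ash).to_subtype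
  have hgen : (∀ Q ∈ minimalPrimes Ash, Q = Ideal.map (algebraMap Ah Ash) (Q.comap (algebraMap Ah Ash))) ↔
      Function.Injective c := by
    constructor
    · intro h Q Q' he
      have he' : Q.1.comap (algebraMap Ah Ash) = Q'.1.comap (algebraMap Ah Ash) := congrArg Subtype.val he
      apply Subtype.ext
      exact (h Q.1 Q.2).trans ((congrArg (Ideal.map (algebraMap Ah Ash)) he').trans (h Q'.1 Q'.2).symm)
    · intro hinj Q hQ
      haveI := hQ.1.1
      set q := Q.comap (algebraMap Ah Ash)
      haveI : q.IsPrime := Ideal.IsPrime.comap _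
      have hrad : (q.map (algebraMap Ah Ash)).IsRadical := isRadical_map_of_isHenzLike Ah Ash hHs q
      refine le_antisymm ?_ Ideal.map_comap_le
      rw [← hrad.radical, ← Ideal.sInf_minimalPrimes (I := q.map (algebraMap Ah Ash))]
      refine le_sInf fun Q' hQ' => ?_
      haveI := hQ'.1.1
      obtain ⟨Q₀, hQ₀, hQ₀le⟩ := Ideal.exists_minimalPrimes_le (bot_le : (⊥ : Ideal Ash) ≤ Q')
      haveI := hQ₀.1.1
      -- a minimal prime below `Q'` lies over `q`
      have hq' : q ≤ Q'.comap (algebraMap Ah Ash) := Ideal.map_le_iff_le_comap.1 hQ'.1.2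
      have hQ'min : Q' ∈ minimalPrimes Ash := by
        refine (Groth.Agent.BrnchLib.mem_minimalPrimes_iff_comap hHs).2 ?_
        have hcq : Q'.comap (algebraMap Ah Ash) = q := by
          refine le_antisymm ?_ hq'
          obtain ⟨J, hJQ, hJp, hJc⟩ := Ideal.exists_ideal_le_liesOver_of_le (S := Ash) Q'
            (p := q) (q := Q'.comap (algebraMap Ah Ash)) hq'
          have h2 : q.map (algebraMap Ah Ash) ≤ J := Ideal.map_le_iff_le_comap.2 hJc.over.le
          have h3 : Q' ≤ J := hQ'.2 ⟨hJp, h2⟩ hJQ
          exact (Ideal.comap_mono h3).trans hJc.over.ge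
        rw [hcq]
        exact (c ⟨Q, hQ⟩).2
      have := hinj (a₁ := ⟨Q, hQ⟩) (a₂ := ⟨Q', hQ'min⟩) (Subtype.ext (show q = Q'.comap (algebraMap Ah Ash) from
        le_antisymm hq' (((Groth.Agent.BrnchLib.mem_minimalPrimes_iff_comap hHs).1 hQ'min).2
          ⟨inferInstance, bot_le⟩ hq')))
      exact le_of_eq (congrArg Subtype.val this)
  rw [hgen]
  -- compare cardinalities
  haveI : Finite (minimalPrimes A) := hfinA.to_subtype
  haveI : Finite (minimalPrimes Ah) := (minimalPrimes.finite_of_isNoetherianRing Ah).to_subtype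
  have hb : ENat.card (minimalPrimes Ah) = ENat.card (MaximalSpectrum (CAlg2.normRed A)) := by
    rw [Groth.Agent.BrnchLib.card_minimalPrimes_henselization A Ah, Brnch.numBranches, if_pos hfinA]
  have hg : ENat.card (minimalPrimes Ash) =
      ENat.card (Σ m : MaximalSpectrum (CAlg2.normRed A), Brnch.Emb A m) := by
    rw [Groth.Agent.BrnchLib.card_minimalPrimes_strictHenselization A Ash, Brnch.numGeomBranches, if_pos hfinA]
  haveI : Finite (MaximalSpectrum (CAlg2.normRed A)) := ENat.card_lt_top.1 (hb ▸ ENat.card_lt_top.2 inferInstance)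
  haveI : Finite (Σ m : MaximalSpectrum (CAlg2.normRed A), Brnch.Emb A m) :=
    ENat.card_lt_top.1 (hg ▸ ENat.card_lt_top.2 inferInstance)
  have hb' : Nat.card (minimalPrimes Ah) = Nat.card (MaximalSpectrum (CAlg2.normRed A)) := by
    rw [ENat.card_eq_coe_natCard, ENat.card_eq_coe_natCard] at hb; exact_mod_cast hb
  have hg' : Nat.card (minimalPrimes Ash) = Nat.card (Σ m : MaximalSpectrum (CAlg2.normRed A), Brnch.Emb A m) := by
    rw [ENat.card_eq_coe_natCard, ENat.card_eq_coe_natCard] at hg; exact_mod_cast hg
  have hp : Function.Surjective (Sigma.fst : (Σ m : MaximalSpectrum (CAlg2.normRed A), Brnch.Emb A m) → _) :=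
    fun m => ⟨⟨m, (Groth.Agent.BrnchLib.subsingleton_emb_iff A m).1.some⟩, rfl⟩
  have hiff : Function.Injective c ↔ ∀ m, Subsingleton (Brnch.Emb A m) := by
    constructor
    · intro hinj m
      have hle : Nat.card (Σ m : MaximalSpectrum (CAlg2.normRed A), Brnch.Emb A m) ≤
          Nat.card (MaximalSpectrum (CAlg2.normRed A)) := by
        rw [← hg', ← hb']; exact Nat.card_le_card_of_injective c hinj
      have hpi := (hp.bijective_of_nat_card_le hle).1
      exact ⟨fun x y => eq_of_heq (Sigma.mk.inj (hpi (a₁ := ⟨m, x⟩) (a₂ := ⟨m, y⟩) rfl)).2⟩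
    · intro h
      have hpi : Function.Injective (Sigma.fst : (Σ m : MaximalSpectrum (CAlg2.normRed A), Brnch.Emb A m) → _) := by
        rintro ⟨m, x⟩ ⟨m', y⟩ (rfl : m = m')
        rw [Subsingleton.elim x y]
      have hle : Nat.card (minimalPrimes Ash) ≤ Nat.card (minimalPrimes Ah) := by
        rw [hg', hb']; exact Nat.card_le_card_of_injective _ hpi
      exact (hc.bijective_of_nat_card_le hle).1
  rw [hiff]
  obtain ⟨e, he⟩ := Groth.Agent.BrnchLib.exists_normRed_equiv A
  -- transport of the residue condition
  have htr : ∀ (M : Ideal (integralClosure A (FractionRing A))) [M.IsMaximal] (m : MaximalSpectrum (CAlg2.normRed A)),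
      M = m.asIdeal.comap e.toRingHom →
      ((∀ x : (integralClosure A (FractionRing A)) ⧸ M, ∃ n : ℕ,
        x ^ (ringExpChar ((integralClosure A (FractionRing A)) ⧸ M)) ^ n ∈
          ((Ideal.Quotient.mk M).comp (algebraMap A (integralClosure A (FractionRing A)))).range) ↔
        Subsingleton (Brnch.Emb A m)) := by
    intro M _ m hM
    have hM' : m.asIdeal = M.map (e : integralClosure A (FractionRing A) →+* CAlg2.normRed A) := by
      rw [hM]; exact (Ideal.map_comap_of_surjective _ e.surjective _).symm
    let q : ((integralClosure A (FractionRing A)) ⧸ M) ≃+* (CAlg2.normRed A ⧸ m.asIdeal) :=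
      Ideal.quotientEquiv M m.asIdeal e hM'
    have hq : ∀ a : A, q (Ideal.Quotient.mk M (algebraMap A _ a)) = Brnch.toResidue A m a := fun a => by
      show Ideal.Quotient.mk m.asIdeal (e (algebraMap A _ a)) = _
      rw [he]; rfl
    rw [(Groth.Agent.BrnchLib.subsingleton_emb_iff A m).2]
    haveI : m.asIdeal.IsMaximal := m.isMaximal
    letI := Ideal.Quotient.field M
    letI := Ideal.Quotient.field m.asIdeal
    haveI : ExpChar ((integralClosure A (FractionRing A)) ⧸ M) (ringExpChar ((integralClosure A (FractionRing A)) ⧸ M)) :=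
      ringExpChar.expChar _
    haveI : ExpChar (CAlg2.normRed A ⧸ m.asIdeal) (ringExpChar ((integralClosure A (FractionRing A)) ⧸ M)) :=
      expChar_of_injective_ringHom (f := q.toRingHom) q.injective _
    rw [ringExpChar.eq (CAlg2.normRed A ⧸ m.asIdeal) (ringExpChar ((integralClosure A (FractionRing A)) ⧸ M))]
    constructor
    · intro h y
      obtain ⟨x, rfl⟩ := q.surjective y
      obtain ⟨n, a, ha⟩ := h x
      exact ⟨n, a, by rw [← hq, ← map_pow]; exact congrArg q ha⟩
    · intro h x
      obtain ⟨n, a, ha⟩ := h (q x)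
      exact ⟨n, a, q.injective (by rw [map_pow]; exact (hq a).trans ha)⟩
  constructor
  · intro h m
    haveI : (m.asIdeal.comap e.toRingHom).IsMaximal :=
      haveI := m.isMaximal
      Ideal.comap_isMaximal_of_surjective _ e.surjective
    exact (htr _ m rfl).1 (fun x => h (m.asIdeal.comap e.toRingHom) x)
  · intro h M _ x
    haveI : (M.map (e : integralClosure A (FractionRing A) →+* CAlg2.normRed A)).IsMaximal := Ideal.map_isMaximal_of_equiv e
    exact (htr M ⟨M.map (e : integralClosure A (FractionRing A) →+* CAlg2.normRed A), inferInstance⟩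
      (Ideal.comap_map_of_bijective _ e.bijective).symm).2 (h _) x

end Groth.Agent.S16431
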