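import Groth.Statements.S16432
import Groth.Agent.SHEss.NormalInter
-- import your own Groth.Agent.* helpers here

set_option autoImplicit false
universe u
open EGA4loc

namespace Groth.Agent.S16432

/-- Let A be an excellent normal local domain and S a strict henselization of A; let D be an
A-subalgebra of S which is a local ring dominated by S (the inclusion is a local homomorphism), an
integrally closed domain, and whose fraction field is generated as a field over the image of A by
finitely many elements of D. Then D is an essentially etale local A-algebra: A-isomorphic to the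
localization of an etale A-algebra at a prime ideal over the maximal ideal of A. -/
theorem result
    (A S : Type u) [CommRing A] [IsLocalRing A] [IsDomain A] [IsIntegrallyClosed A]
    (hA : EGA4.IsExcellent A) [CommRing S] [IsLocalRing S] [Algebra A S] [IsLocalHom (algebraMap A S)]
    [Hensel.IsStrictHenselization A S] (D : Subalgebra A S) [IsLocalRing D]
    [IsLocalHom (algebraMap D S)] [IsDomain D] [IsIntegrallyClosed D]
    (hfg : ∃ s : Finset D, Subfield.closure (Set.range (algebraMap A (FractionRing D)) ∪
        (algebraMap D (FractionRing D)) '' (s : Set D)) = ⊤) :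
    EGA4loc.IsEssentiallyEtale A D := by
  classical
  haveI : IsNoetherianRing A := hA.1
  obtain ⟨s, hs⟩ := hfg
  obtain ⟨_, _⟩ := Groth.Agent.SHEss.isDomain_normal_sh A S
  obtain ⟨E, hsE, hEloc, hEl, hE⟩ := Groth.Agent.SHEss.exists_essEtale_subalgebra (A := A)
    (s.image (fun x : D => (x : S)))
  haveI := hEl
  haveI := Groth.Agent.EssEtLib.isLocalHom_algebraMap hE
  haveI := Groth.Agent.SHEss.isStrictHenselization_of_intermediate (S := S) hE
  haveI := Groth.Agent.Hensel.faithfullyFlat_of_isStrictHenselization E S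
  let KD := FractionRing D
  have key : ∀ z ∈ Subfield.closure (Set.range (algebraMap A KD) ∪ (algebraMap D KD) '' (s : Set D)),
      ∃ d e : D, d ≠ 0 ∧ (d : S) ∈ E ∧ (e : S) ∈ E ∧ z * algebraMap D KD d = algebraMap D KD e := by
    intro z hz
    induction hz using Subfield.closure_induction with
    | mem z hz =>
      rcases hz with ⟨a, rfl⟩ | ⟨x, hx, rfl⟩
      · exact ⟨1, algebraMap A D a, one_ne_zero, E.one_mem, E.algebraMap_mem a,
          by rw [map_one, mul_one, ← IsScalarTower.algebraMap_apply A D KD]⟩
      · exact ⟨1, x, one_ne_zero, E.one_mem, hsE (Finset.mem_image_of_mem _ hx), by rw [map_one, mul_one]⟩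
    | one => exact ⟨1, 1, one_ne_zero, E.one_mem, E.one_mem, by rw [map_one, mul_one]⟩
    | add x y _ _ hx hy =>
      obtain ⟨d, e, h0, hd, he, h⟩ := hx
      obtain ⟨d', e', h0', hd', he', h'⟩ := hy
      exact ⟨d * d', e * d' + e' * d, mul_ne_zero h0 h0', E.mul_mem hd hd',
        E.add_mem (E.mul_mem he hd') (E.mul_mem he' hd), by rw [map_add, map_mul, map_mul, map_mul, ← h, ← h']; ring⟩
    | neg x _ hx =>
      obtain ⟨d, e, h0, hd, he, h⟩ := hx
      exact ⟨d, -e, h0, hd, E.neg_mem he, by rw [map_neg, neg_mul, h]⟩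
    | inv x _ hx =>
      obtain ⟨d, e, h0, hd, he, h⟩ := hx
      by_cases hx0 : x = 0
      · exact ⟨1, 0, one_ne_zero, E.one_mem, E.zero_mem, by rw [hx0, inv_zero, zero_mul, map_zero]⟩
      · have hd0 : algebraMap D KD d ≠ 0 :=
          (map_ne_zero_iff _ (IsFractionRing.injective D KD)).2 h0
        refine ⟨e, d, fun he0 => ?_, he, hd, by rw [← h, ← mul_assoc, inv_mul_cancel₀ hx0, one_mul]⟩
        rw [he0, map_zero] at h
        exact (mul_ne_zero hx0 hd0) h
    | mul x y _ _ hx hy =>
      obtain ⟨d, e, h0, hd, he, h⟩ := hx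
      obtain ⟨d', e', h0', hd', he', h'⟩ := hy
      exact ⟨d * d', e * e', mul_ne_zero h0 h0', E.mul_mem hd hd', E.mul_mem he he',
        by rw [map_mul, map_mul, ← h, ← h']; ring⟩
  have hDE : D ≤ E := fun x hx => by
    obtain ⟨d, e, hd0, hd, he, h⟩ := key (algebraMap D KD ⟨x, hx⟩) (hs.ge trivial)
    rw [← map_mul] at h
    have h' : x * (d : S) = e := congrArg Subtype.val (IsFractionRing.injective D KD h)
    have h1 : (⟨_, he⟩ : E) ∈ Ideal.span {(⟨_, hd⟩ : E)} := by
      rw [← Ideal.comap_map_eq_self_of_faithfullyFlat (B := S) (Ideal.span {(⟨_, hd⟩ : E)}), Ideal.mem_comap,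
        Ideal.map_span, Set.image_singleton, Ideal.mem_span_singleton']
      exact ⟨x, h'⟩
    obtain ⟨w, hw⟩ := Ideal.mem_span_singleton'.1 h1
    have : (w : S) = x := mul_right_cancel₀ (fun h => hd0 (Subtype.ext h))
      ((congrArg Subtype.val hw).trans h'.symm)
    exact this ▸ w.2
  obtain ⟨D', hle, hinf, hloc, hl, het⟩ := Groth.Agent.SHEss.exists_essEtale_inf D hE
  rwa [le_antisymm hle (fun x hx => hinf ⟨hx, hDE hx⟩)] at het

end Groth.Agent.S16432
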