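import Groth.Statements.S16434
import Groth.Agent.SHEss.Saturate2
-- import your own Groth.Agent.* helpers here

set_option autoImplicit false
universe u
open EGA4loc

namespace Groth.Agent.S16434

/-- Let A be an excellent henselian local domain such that a strict henselization S of A is again a
domain, let K be the fraction field of S, and let L be the subfield of K generated over the image of
A by a finite subset t of K (so L is an intermediate field between the fraction fields of A and of
S, finitely generated over the former). Then the intersection of L with S is (the underlying set of)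
an A-subalgebra D of S which is a local ring with local inclusion into S and which is an essentially
etale local A-algebra: A-isomorphic to the localization of an etale A-algebra at a prime over the
maximal ideal. -/
theorem result
    (A S : Type u) [CommRing A] [HenselianLocalRing A] [IsDomain A] (hA : EGA4.IsExcellent A)
    [CommRing S] [IsLocalRing S] [Algebra A S] [IsLocalHom (algebraMap A S)]
    [Hensel.IsStrictHenselization A S] [IsDomain S] (t : Finset (FractionRing S)) :
    ∃ D : Subalgebra A S, (D : Set S) = (algebraMap S (FractionRing S)) ⁻¹'
        (Subfield.closure (Set.range (algebraMap A (FractionRing S)) ∪ (t : Set (FractionRing S))) :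
          Set (FractionRing S)) ∧
      ∃ _ : IsLocalRing D, IsLocalHom (algebraMap D S) ∧ EGA4loc.IsEssentiallyEtale A D := by
  let K := FractionRing A
  let K' := FractionRing S
  haveI := Groth.Agent.Hensel.faithfullyFlat_of_isStrictHenselization A S
  haveI : FaithfulSMul A K' := (faithfulSMul_iff_algebraMap_injective A K').2 (by
    rw [IsScalarTower.algebraMap_eq A S K']
    exact (IsFractionRing.injective S K').comp (FaithfulSMul.algebraMap_injective A S))
  letI : Algebra K K' := FractionRing.liftAlgebra A K'
  haveI : IsScalarTower A K K' := inferInstance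
  obtain ⟨f, θ, hf, hirr, hsep, hθ, hgen⟩ := Groth.Agent.SHEss.exists_root_generating (A := A) (S := S) K K' t
  obtain ⟨⟨hloc, hl, het, -⟩, -⟩ := Groth.Agent.SHEss.adjoin_root_props f hf hirr hsep θ hθ
  have hcl : (IntermediateField.adjoin K (t : Set K')).toSubfield =
      Subfield.closure (Set.range (algebraMap A K') ∪ (t : Set K')) := by
    rw [IntermediateField.adjoin_toSubfield]
    refine le_antisymm (Subfield.closure_le.2 (Set.union_subset ?_ (fun x hx => Subfield.subset_closure (Or.inr hx))))
      (Subfield.closure_mono (Set.union_subset_union_left _ ?_))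
    · rintro _ ⟨c, rfl⟩
      obtain ⟨a, b, -, rfl⟩ := IsFractionRing.div_surjective (A := A) c
      rw [map_div₀, ← IsScalarTower.algebraMap_apply A K K', ← IsScalarTower.algebraMap_apply A K K']
      exact Subfield.div_mem _ (Subfield.subset_closure (Or.inl ⟨a, rfl⟩)) (Subfield.subset_closure (Or.inl ⟨b, rfl⟩))
    · rintro _ ⟨a, rfl⟩
      exact ⟨algebraMap A K a, (IsScalarTower.algebraMap_apply A K K' a).symm⟩
  refine ⟨Algebra.adjoin A ({θ} : Set S), ?_, hloc, hl, het⟩
  rw [← hcl, ← hgen]
  ext x
  refine ⟨fun hx => ?_, fun hx => Groth.Agent.SHEss.mem_adjoin_of_mem_field K K' f hf hirr hsep θ hθ x hx⟩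
  have hx' : x ∈ Algebra.adjoin A ({θ} : Set S) := hx
  rw [Algebra.adjoin_singleton_eq_range_aeval] at hx'
  obtain ⟨p, rfl⟩ := hx'
  show algebraMap S K' (Polynomial.aeval θ p) ∈ IntermediateField.adjoin K {algebraMap S K' θ}
  rw [← Polynomial.aeval_algebraMap_apply, ← Polynomial.aeval_map_algebraMap K]
  exact IntermediateField.algebra_adjoin_le_adjoin K _ (Polynomial.aeval_mem_adjoin_singleton K _)

end Groth.Agent.S16434
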