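import Groth.Statements.S16435
import Groth.Agent.SHEss.ResidueBound
import Groth.Agent.SHEss.EtUnionMain
import Groth.Agent.SHEss.NormResidueFinite
-- import your own Groth.Agent.* helpers here

set_option autoImplicit false
set_option maxHeartbeats 1000000
set_option synthInstance.maxHeartbeats 200000
universe u
open Hensel

namespace Groth.Agent.S16435

/-- Let A be an excellent henselian reduced local ring, S a strict henselization of A and D any
A-subalgebra of S (an intermediate ring between A and S). Write D' for the integral closure of D in
its total ring of fractions. Then D is Noetherian if and only if, for every maximal ideal M of D'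
with residue field l, writing k_0 for the subfield of l generated by the image of D (it is the image
itself, a copy of the residue field of the local ring D), the separable closure of k_0 in l has
finite degree over k_0. -/
theorem result
    (A S : Type u) [CommRing A] [HenselianLocalRing A] [IsReduced A] (hA : EGA4.IsExcellent A)
    [CommRing S] [IsLocalRing S] [Algebra A S] [IsLocalHom (algebraMap A S)]
    [Hensel.IsStrictHenselization A S] (D : Subalgebra A S) :
    IsNoetherianRing D ↔
      ∀ (M : Ideal (integralClosure D (FractionRing D))) [M.IsMaximal],
        FiniteDimensional (Subfield.closure (Set.range ((algebraMap (integralClosure D (FractionRing D)) M.ResidueField).comp (algebraMap D (integralClosure D (FractionRing D)))))) (separableClosure (Subfield.closure (Set.range ((algebraMap (integralClosure D (FractionRing D)) M.ResidueField).comp (algebraMap D (integralClosure D (FractionRing D)))))) M.ResidueField) := by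
  classical
  haveI : IsNoetherianRing A := hA.1
  haveI : HenselianLocalRing D := (Groth.Agent.SHEss.henselian_sub D).choose
  haveI := Groth.Agent.SHEss.isReduced_sh A S
  haveI : IsReduced D := isReduced_of_injective D.val Subtype.val_injective
  constructor
  · intro hN M hM
    haveI := hN
    haveI := Groth.Agent.SHEss.finite_quotient_normalisation D M
    exact Groth.Agent.SHEss.finiteDimensional_separableClosure M
  · intro hfin
    haveI : IsNoetherianRing S := (Groth.Agent.S0540.result A S).1 inferInstance
    haveI : Finite (minimalPrimes S) := (minimalPrimes.finite_of_isNoetherianRing S).to_subtype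
    have hgen : ∀ Q : minimalPrimes S, ∃ z : IsLocalRing.ResidueField S, ∀ u : S,
        algebraMap (S ⧸ Q.1) (FractionRing (S ⧸ Q.1)) (Ideal.Quotient.mk Q.1 u) ∈
          Subfield.closure (Set.range (((algebraMap (S ⧸ Q.1) (FractionRing (S ⧸ Q.1))).comp (Ideal.Quotient.mk Q.1)).comp D.val.toRingHom)) →
        IsLocalRing.residue S u ∈ Groth.Agent.SHEss.resField D ⊔ IntermediateField.adjoin _ {z} := fun Q => by
      haveI : Q.1.IsPrime := Q.2.1.1
      obtain ⟨n, hn⟩ := Groth.Agent.SHEss.exists_residue_degree_bound D Q.1 Q.2 hfin
      exact Groth.Agent.SHEss.exists_residue_generator D Q.1 n hn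
    choose z hz using hgen
    refine Groth.Agent.SHEss.isNoetherianRing_of_le_etUnion D (Set.range z) (Set.finite_range z) ?_
    exact Groth.Agent.SHEss.le_etUnion_of_residues hA D _ fun Q hQ _ u hu =>
      (sup_le_sup_left (IntermediateField.adjoin.mono _ _ _ (Set.singleton_subset_iff.2 (Set.mem_range_self (⟨Q, hQ⟩ : minimalPrimes S)))) _)
        (hz ⟨Q, hQ⟩ u hu)

end Groth.Agent.S16435
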