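import Groth.Statements.S16436
import Groth.Agent.SHEss.FiniteSub
import Groth.Agent.SHEss.FiniteSubBranch
import Groth.Agent.SHEss.GeomBase
import Groth.Agent.S16431
import Groth.Agent.CplFib6.Excellent
-- import your own Groth.Agent.* helpers here

set_option autoImplicit false
set_option maxHeartbeats 1600000
set_option synthInstance.maxHeartbeats 200000
universe u
open Hensel

namespace Groth.Agent.S16436

/-- Let A be an excellent henselian reduced local ring, S a strict henselization of A and D an
A-subalgebra of S which is finitely generated as an A-module. Write D' for the integral closure of D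
in its total ring of fractions. Then D is etale over A and every minimal prime ideal of S is
generated by its contraction to D, if and only if, for every maximal ideal M of D' with residue
field l, writing k_0 for the subfield of l generated by the image of D (the image itself, a copy of
the residue field of D), k_0 is separably closed in l: every element of l separable over k_0 lies in
k_0. -/
theorem result
    (A S : Type u) [CommRing A] [HenselianLocalRing A] [IsReduced A] (hA : EGA4.IsExcellent A)
    [CommRing S] [IsLocalRing S] [Algebra A S] [IsLocalHom (algebraMap A S)]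
    [Hensel.IsStrictHenselization A S] (D : Subalgebra A S) [Module.Finite A D] :
    (Algebra.Etale A D ∧
        ∀ Q ∈ minimalPrimes S, Q = Ideal.map (algebraMap D S) (Q.comap (algebraMap D S))) ↔
      ∀ (M : Ideal (integralClosure D (FractionRing D))) [M.IsMaximal],
        separableClosure (Subfield.closure (Set.range ((algebraMap (integralClosure D (FractionRing D)) M.ResidueField).comp (algebraMap D (integralClosure D (FractionRing D)))))) M.ResidueField = ⊥ := by
  classical
  haveI : IsNoetherianRing A := hA.1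
  obtain ⟨hD, hDl, hDint⟩ := Groth.Agent.SHEss.henselian_sub D
  haveI := hD
  haveI := hDl
  haveI := Groth.Agent.SHEss.isReduced_sh A S
  haveI : IsReduced D := isReduced_of_injective D.val Subtype.val_injective
  haveI : IsNoetherianRing D := IsNoetherianRing.of_finite A D
  haveI : Algebra.FiniteType A D := Module.Finite.finiteType _
  haveI : IsLocalHom (algebraMap A D) := Groth.Agent.Hensel.isLocalHom_of_isIntegral_local A D
  constructor
  · rintro ⟨het, hgen⟩ M hM
    haveI := het
    let P := IsLocalRing.maximalIdeal D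
    have hP : P.comap (algebraMap A D) = IsLocalRing.maximalIdeal A :=
      IsLocalRing.eq_maximalIdeal (Ideal.isMaximal_comap_of_isIntegral_of_isMaximal _)
    let e : Localization.AtPrime P ≃ₐ[D] D :=
      (IsLocalization.atUnits D P.primeCompl (fun x hx => IsLocalRing.notMem_maximalIdeal.1 hx)).symm
    have hDE : EGA4loc.IsEssentiallyEtale A D :=
      ⟨D, inferInstance, inferInstance, P, inferInstance, het, hP, ⟨(e.restrictScalars A).symm⟩⟩
    haveI := Groth.Agent.SHEss.isStrictHenselization_of_intermediate (S := S) hDE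
    haveI : IsLocalHom (algebraMap D D) := ⟨fun a ha => ha⟩
    haveI : Hensel.IsHenselization D D := ⟨inferInstance, fun T _ _ f _ =>
      ⟨f, f.comp_id, fun g hg => by rw [← hg]; exact (g.comp_id).symm⟩⟩
    have h := (Groth.Agent.S16431.result D D S (Groth.Agent.CplFib6.isExcellent_of_finiteType hA D)).2 hgen M
    exact Groth.Agent.SHEss.separableClosure_eq_bot_of_pow_mem (algebraMap D (integralClosure D (FractionRing D))) M h
  · intro hcond
    -- the finite étale part
    let k := IsLocalRing.ResidueField A
    let kS := IsLocalRing.ResidueField S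
    haveI := (inferInstance : Hensel.IsStrictHenselization A S).isSepClosure
    haveI : Algebra.IsSeparable k kS := IsSepClosure.separable
    let ρ : IsLocalRing.ResidueField D →ₐ[k] kS :=
      { IsLocalRing.ResidueField.map (algebraMap D S) with
        commutes' := fun c => by
          obtain ⟨a, rfl⟩ := IsLocalRing.residue_surjective c
          rfl }
    haveI : Module.Finite k (IsLocalRing.ResidueField D) := inferInstance
    haveI : Algebra.IsSeparable k (IsLocalRing.ResidueField D) :=
      Algebra.IsSeparable.of_algHom k kS ρ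
    obtain ⟨z₀, hz₀⟩ := Field.exists_primitive_element k (IsLocalRing.ResidueField D)
    obtain ⟨d₀, hd₀⟩ := IsLocalRing.residue_surjective z₀
    obtain ⟨f₀, hfm₀, -, hf₀⟩ := Polynomial.lifts_and_natDegree_eq_and_monic
      ((Polynomial.lifts_iff_coeff_lifts (minpoly k z₀)).mpr fun n => IsLocalRing.residue_surjective _)
      (minpoly.monic (IsIntegral.of_finite k z₀))
    have hirr₀ : Irreducible (f₀.map (IsLocalRing.residue A)) := by
      rw [hfm₀]; exact minpoly.irreducible (IsIntegral.of_finite k z₀)
    have hsep₀ : (f₀.map (IsLocalRing.residue A)).Separable := by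
      rw [hfm₀]; exact Algebra.IsSeparable.isSeparable k z₀
    obtain ⟨θ₀, hθ₀D, hθ₀, hθ₀r⟩ := Groth.Agent.SHEss.exists_root (D := D) d₀ f₀ hf₀ hsep₀ (by
      rw [hfm₀, show IsLocalRing.residue S (d₀ : S) = ρ z₀ from hd₀ ▸ rfl, Polynomial.aeval_algHom_apply,
        minpoly.aeval, map_zero])
    obtain ⟨⟨hE₀loc, hE₀l, hE₀, hE₀fin⟩, -⟩ := Groth.Agent.SHEss.adjoin_root_props f₀ hf₀ hirr₀ hsep₀ θ₀ hθ₀
    let E := Algebra.adjoin A ({θ₀} : Set S)
    haveI : Module.Finite A E := hE₀fin
    haveI := Groth.Agent.EssEtLib.isLocalHom_algebraMap hE₀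
    haveI := Groth.Agent.SHEss.isStrictHenselization_of_intermediate (S := S) hE₀
    haveI := Groth.Agent.Hensel.faithfullyFlat_of_isStrictHenselization E S
    haveI := Groth.Agent.Hensel.faithfullyFlat_of_isStrictHenselization A S
    haveI : HenselianLocalRing E := Groth.Agent.Hensel.henselianLocalRing_of_isIntegral_local A E
    haveI : IsNoetherianRing E := IsNoetherianRing.of_finite A E
    have hED : E ≤ D := Algebra.adjoin_le (Set.singleton_subset_iff.2 hθ₀D)
    -- every residue of `D` is one of `E`
    have hresE : ∀ d : D, ∃ e : E, IsLocalRing.residue S (d : S) = IsLocalRing.residue S (e : S) := fun d => by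
      have hz : IsLocalRing.residue D d ∈ Algebra.adjoin k ({z₀} : Set (IsLocalRing.ResidueField D)) := by
        rw [← IntermediateField.adjoin_simple_toSubalgebra_of_isAlgebraic (Algebra.IsAlgebraic.isAlgebraic z₀), hz₀]
        trivial
      rw [Algebra.adjoin_singleton_eq_range_aeval] at hz
      obtain ⟨p, hp⟩ := hz
      obtain ⟨p, rfl⟩ := Polynomial.map_surjective (IsLocalRing.residue A) IsLocalRing.residue_surjective p
      refine ⟨⟨Polynomial.aeval θ₀ p, Polynomial.aeval_mem_adjoin_singleton A θ₀⟩, ?_⟩
      show ρ (IsLocalRing.residue D d) = _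
      rw [← hp]
      refine (Polynomial.aeval_algHom_apply ρ z₀ _).symm.trans ?_
      rw [show ρ z₀ = IsLocalRing.residue S θ₀ from hθ₀r.symm ▸ (hd₀ ▸ rfl)]
      show _ = IsLocalRing.residue S (Polynomial.aeval θ₀ p)
      rw [Polynomial.aeval_def θ₀, Polynomial.hom_eval₂, Polynomial.aeval_def, Polynomial.eval₂_map]
      rfl
    have hbranch : ∀ Q ∈ minimalPrimes S, Q = Ideal.map (algebraMap E S) (Q.comap (algebraMap E S)) ∧
        ∀ x : D, ∃ e : E, (x : S) - e ∈ Q := by
      intro Q hQ
      haveI : Q.IsPrime := hQ.1.1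
      let Kb := FractionRing (S ⧸ Q)
      let πS : S →+* Kb := (algebraMap (S ⧸ Q) Kb).comp (Ideal.Quotient.mk Q)
      let C := Subfield.closure (Set.range (πS.comp D.val.toRingHom))
      obtain ⟨f, θ, hf, hirr, hsep, hθ, hPQ, hθK⟩ := Groth.Agent.SHEss.exists_geom_base A S hA Q hQ
      have hAC : Subfield.closure (Set.range (algebraMap A Kb)) ≤ C := Subfield.closure_le.2 (by
        rintro _ ⟨a, rfl⟩; exact Subfield.subset_closure ⟨algebraMap A D a, rfl⟩)
      obtain ⟨d, hd⟩ := Groth.Agent.SHEss.residue_mem_of_sep_closed D Q hQ hcond θ (hAC hθK)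
      obtain ⟨e₁, he₁⟩ := hresE d
      have hθE : θ ∈ E := Groth.Agent.SHEss.mem_of_root_residue E f hf hsep θ hθ e₁ (hd.trans he₁)
      have hle : Algebra.adjoin A ({θ} : Set S) ≤ E := Algebra.adjoin_le (Set.singleton_subset_iff.2 hθE)
      have hPQ' : Q = Ideal.map (algebraMap E S) (Q.comap (algebraMap E S)) := by
        refine le_antisymm (hPQ.symm.le.trans (Ideal.map_le_iff_le_comap.2 fun x hx => ?_)) Ideal.map_comap_le
        exact Ideal.mem_map_of_mem (algebraMap E S) (show (⟨x, hle x.2⟩ : E) ∈ Q.comap (algebraMap E S) from hx)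
      exact ⟨hPQ', Groth.Agent.SHEss.exists_sub_mem_branch (A := A) E D (fun e => hED e.2) Q hPQ'.symm fun u hu => by
        obtain ⟨d', hd'⟩ := Groth.Agent.SHEss.residue_mem_of_sep_closed D Q hQ hcond u hu
        obtain ⟨e₂, he₂⟩ := hresE d'
        exact ⟨e₂, hd'.trans he₂⟩⟩
    -- glue
    have hDE : D ≤ E := by
      intro x hx
      haveI : IsNoetherianRing S := (Groth.Agent.S0540.result A S).1 inferInstance
      haveI : Finite (minimalPrimes S) := (minimalPrimes.finite_of_isNoetherianRing S).to_subtype
      haveI := Fintype.ofFinite (minimalPrimes S)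
      have hsep : ∀ Q Q' : minimalPrimes S, Q' ≠ Q → ∃ w : E, (w : S) ∈ Q'.1 ∧ (w : S) ∉ Q.1 := fun Q Q' hne => by
        by_contra h
        push Not at h
        have : Q'.1 ≤ Q.1 := by
          rw [(hbranch Q'.1 Q'.2).1, Ideal.map_le_iff_le_comap]
          exact fun w hw => h w hw
        exact hne (Subtype.ext (le_antisymm this (Q.2.2 Q'.2.1 this)))
      choose w hw hw' using hsep
      let eQ : minimalPrimes S → E := fun Q => ∏ Q' : {Q' : minimalPrimes S // Q' ≠ Q}, w Q Q'.1 Q'.2
      have heQ' : ∀ Q Q', Q' ≠ Q → (eQ Q : S) ∈ Q'.1 := fun Q Q' hne => by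
        show E.val (∏ _, _) ∈ Q'.1
        rw [map_prod, (Q'.2.1.1).prod_mem_iff]
        exact ⟨⟨Q', hne⟩, Finset.mem_univ _, hw Q Q' hne⟩
      have heQ : ∀ Q, (eQ Q : S) ∉ Q.1 := fun Q h => by
        change E.val (∏ _, _) ∈ Q.1 at h
        rw [map_prod, (Q.2.1.1).prod_mem_iff] at h
        obtain ⟨Q', -, hQ'⟩ := h
        exact hw' Q Q'.1 Q'.2 hQ'
      choose dQ hdQ using fun Q : minimalPrimes S => (hbranch Q.1 Q.2).2 ⟨x, hx⟩
      let c : E := ∑ Q, eQ Q
      let r : E := ∑ Q, eQ Q * dQ Q
      have hmem : ∀ y : S, (∀ Q : minimalPrimes S, y ∈ Q.1) → y = 0 := fun y hy => by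
        have h1 : y ∈ sInf (minimalPrimes S) := Submodule.mem_sInf.2 fun Q hQ => hy ⟨Q, hQ⟩
        rw [minimalPrimes_eq_minimals] at h1
        have h2 : y ∈ nilradical S := by
          rw [nilradical, Submodule.zero_eq_bot, ← Ideal.sInf_minimalPrimes]
          exact Submodule.mem_sInf.2 fun Q hQ => hy ⟨Q, hQ⟩
        rwa [nilradical_eq_zero, Ideal.zero_eq_bot, Ideal.mem_bot] at h2
      have hxc : x * (c : S) = r := by
        rw [← sub_eq_zero]
        refine hmem _ fun Q => ?_
        show x * E.val (∑ _, _) - E.val (∑ _, _) ∈ Q.1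
        rw [map_sum, map_sum, Finset.mul_sum, ← Finset.sum_sub_distrib]
        refine Q.1.sum_mem fun Q' _ => ?_
        show x * (eQ Q' : S) - (eQ Q' : S) * (dQ Q' : S) ∈ Q.1
        rw [mul_comm x, ← mul_sub]
        by_cases h : Q' = Q
        · subst h; exact Q'.1.mul_mem_left _ (hdQ Q')
        · exact Q.1.mul_mem_right _ (heQ' Q' Q (Ne.symm h))
      have hc : ∀ y : S, y * (c : S) = 0 → y = 0 := fun y hy => hmem y fun Q => by
        refine ((Q.2.1.1).mem_or_mem (show y * (c : S) ∈ Q.1 from hy ▸ Q.1.zero_mem)).resolve_right fun hcQ => heQ Q ?_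
        have hsplit : E.val c = (eQ Q : S) + ∑ Q' ∈ Finset.univ.erase Q, (eQ Q' : S) := by
          rw [map_sum]
          exact (Finset.add_sum_erase _ _ (Finset.mem_univ Q)).symm
        change E.val c ∈ Q.1 at hcQ
        rw [hsplit] at hcQ
        exact (Q.1.add_mem_iff_left (Q.1.sum_mem fun Q' hQ' => heQ' Q' Q (Finset.ne_of_mem_erase hQ').symm)).1 hcQ
      have h1 : r ∈ Ideal.span {c} := by
        rw [← Ideal.comap_map_eq_self_of_faithfullyFlat (B := S) (Ideal.span {c}), Ideal.mem_comap,
          Ideal.map_span, Set.image_singleton, Ideal.mem_span_singleton']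
        exact ⟨x, hxc⟩
      obtain ⟨v, hv⟩ := Ideal.mem_span_singleton'.1 h1
      have : (v : S) = x := sub_eq_zero.1 (hc _ (by
        rw [sub_mul, hxc]
        exact sub_eq_zero.2 (congrArg Subtype.val hv)))
      exact this ▸ v.2
    have hEq : E = D := le_antisymm hED hDE
    refine ⟨?_, fun Q hQ => ?_⟩
    · rw [← hEq]
      haveI : IsNoetherianRing E := IsNoetherianRing.of_finite A E
      obtain ⟨C, _, _, q, _, _, _, hC, -, hl⟩ := Groth.Agent.EtAlg7.exists_presentation hE₀
      haveI := hC
      haveI : Algebra.FormallyEtale C E := Algebra.FormallyEtale.of_isLocalization (Rₘ := E) q.primeCompl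
      haveI : Algebra.FormallyEtale A E := Algebra.FormallyEtale.comp A C E
      exact ⟨inferInstance, Algebra.FinitePresentation.of_finiteType.1 (Module.Finite.finiteType _)⟩
    · rw [← hEq]
      exact (hbranch Q hQ).1

end Groth.Agent.S16436
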