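import Groth.Statements.S16437
import Groth.Agent.SHEss.GeomBase
import Groth.Agent.SHEss.RangeHens
import Groth.Agent.N12Aux.Nagata
import Groth.Agent.BrnchLib.HenzMin
-- import your own Groth.Agent.* helpers here

set_option autoImplicit false
set_option maxHeartbeats 1600000
set_option synthInstance.maxHeartbeats 200000
universe u
open Hensel

namespace Groth.Agent.S16437

open TensorProduct in
theorem comap_includeRight_eq_bot (A B S : Type u) [CommRing A] [CommRing B] [IsDomain B] [CommRing S] [Algebra A B]
    [Algebra A S] [Module.Flat A S] (W : Ideal (S ⊗[A] B)) (hW : W ∈ minimalPrimes (S ⊗[A] B)) :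
    W.comap (Algebra.TensorProduct.includeRight : B →ₐ[A] S ⊗[A] B).toRingHom = ⊥ := by
  rw [eq_bot_iff]
  intro y hy
  by_contra hy0
  rw [Ideal.mem_bot] at hy0
  have hinj : Function.Injective (LinearMap.lTensor S (LinearMap.mulLeft A y)) :=
    Module.Flat.lTensor_preserves_injective_linearMap _ (mul_right_injective₀ hy0)
  have heq : ∀ w : S ⊗[A] B, LinearMap.lTensor S (LinearMap.mulLeft A y) w = ((1 : S) ⊗ₜ[A] y) * w := fun w => by
    induction w with
    | zero => simp
    | tmul s b => simp
    | add v w hv hw => rw [map_add, hv, hw, mul_add]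
  have hyz : (1 : S) ⊗ₜ[A] y ∈ nonZeroDivisors (S ⊗[A] B) := mem_nonZeroDivisors_iff_right.2 fun w hw =>
    hinj (by rw [heq, map_zero, mul_comm, hw])
  have hd := Ideal.disjoint_nonZeroDivisors_of_mem_minimalPrimes (p := W) hW
  exact Set.disjoint_left.1 hd (show ((1 : S) ⊗ₜ[A] y) ∈ (W : Set (S ⊗[A] B)) from hy) hyz

open IsLocalRing in
/-- Let A be an excellent henselian local domain with residue field k, whose integral closure A' in its
fraction field is a local ring (as it is, A being henselian) with local inclusion A → A' and residue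
field k'; let k^s be the separable closure of k in k', S a strict henselization of A, and E a local
ring which is an essentially etale local A-algebra with local structure map, together with an
A-algebra map E → S. Then every minimal prime ideal of S is generated by its contraction to E if and
only if the number of k-algebra maps from k^s to the residue field of E equals the degree [k^s : k];
equivalently, the minimal polynomial of a primitive element of k^s over k splits into linear factors
over the residue field of E. -/
theorem result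
    (A S E : Type u) [CommRing A] [HenselianLocalRing A] [IsDomain A] (hA : EGA4.IsExcellent A)
    [IsLocalRing (integralClosure A (FractionRing A))] [IsLocalHom (algebraMap A (integralClosure A (FractionRing A)))]
    [CommRing S] [IsLocalRing S] [Algebra A S] [IsLocalHom (algebraMap A S)]
    [Hensel.IsStrictHenselization A S]
    [CommRing E] [IsLocalRing E] [Algebra A E] [IsLocalHom (algebraMap A E)]
    (hE : EGA4loc.IsEssentiallyEtale A E) [Algebra E S] [IsScalarTower A E S] :
    (∀ Q ∈ minimalPrimes S, Q = Ideal.map (algebraMap E S) (Q.comap (algebraMap E S))) ↔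
      Nat.card (separableClosure (ResidueField A) (ResidueField (integralClosure A (FractionRing A))) →ₐ[ResidueField A]
          ResidueField E) =
        Module.finrank (ResidueField A)
          (separableClosure (ResidueField A) (ResidueField (integralClosure A (FractionRing A)))) := by
  classical
  haveI : IsNoetherianRing A := hA.1
  let K := FractionRing A
  let A' := integralClosure A K
  let k := IsLocalRing.ResidueField A
  let kS := IsLocalRing.ResidueField S
  haveI : Module.Finite A A' :=
    Groth.Agent.N12Aux.isN2_of_isNagata (Groth.Agent.S2654.result A ⟨hA.1, hA.2.2.1, hA.2.2.2⟩) K inferInstance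
  haveI : HenselianLocalRing A' := Groth.Agent.Hensel.henselianLocalRing_of_isIntegral_local A A'
  haveI : FiniteDimensional k (IsLocalRing.ResidueField A') := inferInstance
  let ks := separableClosure k (IsLocalRing.ResidueField A')
  haveI : FiniteDimensional k ks := inferInstance
  have hH : Hensel.IsStrictHenselization A S := inferInstance
  haveI := hH.isSepClosure
  haveI hSh : HenselianLocalRing S := hH.henselian
  haveI : IsSepClosed kS := IsSepClosure.sep_closed k
  haveI := Groth.Agent.Hensel.faithfullyFlat_of_isStrictHenselization A S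
  haveI : IsLocalHom (algebraMap E S) :=
    Groth.Agent.EtAlg7.isLocalHom_algHom hE (IsScalarTower.toAlgHom A E S)
  haveI : Algebra.FormallyUnramified A E := Groth.Agent.EtAlg7.formallyUnramified hE
  haveI : Algebra.EssFiniteType A E := Groth.Agent.EtAlg7.essFiniteType hE
  haveI : Module.Finite A E := Groth.Agent.SHEss.finite_of_essEtale hE (IsScalarTower.toAlgHom A E S)
  haveI := Groth.Agent.SHEss.isStrictHenselization_of_intermediate (S := S) hE
  haveI := Groth.Agent.Hensel.faithfullyFlat_of_isStrictHenselization E S
  let ι : IsLocalRing.ResidueField E →ₐ[k] kS :=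
    { IsLocalRing.ResidueField.map (algebraMap E S) with
      commutes' := fun c => by
        obtain ⟨a, rfl⟩ := IsLocalRing.residue_surjective c
        exact congrArg (IsLocalRing.residue S) (IsScalarTower.algebraMap_apply A E S a).symm }
  have hsplits : ∀ x : ks, IsIntegral k x ∧ ((minpoly k x).map (algebraMap k kS)).Splits := fun x =>
    ⟨IsIntegral.of_finite k x, IsSepClosed.splits_of_separable _ (Polynomial.Separable.map (Algebra.IsSeparable.isSeparable k x))⟩
  -- counting embeddings
  let pb := Field.powerBasisOfFiniteOfSeparable k ks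
  have hcardS : Nat.card (ks →ₐ[k] kS) = Module.finrank k ks := by
    rw [AlgHom.natCard_of_powerBasis pb (Algebra.IsSeparable.isSeparable k pb.gen) (hsplits pb.gen).2, pb.finrank]
  haveI : Finite (ks →ₐ[k] kS) := Nat.finite_of_card_ne_zero (by
    rw [hcardS]; exact Module.finrank_pos.ne')
  have hιi : Function.Injective (fun σ : ks →ₐ[k] IsLocalRing.ResidueField E => ι.comp σ) := fun σ τ h =>
    AlgHom.ext fun x => ι.injective (AlgHom.congr_fun h x)
  have hcount : Nat.card (ks →ₐ[k] IsLocalRing.ResidueField E) = Module.finrank k ks ↔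
      ∀ σ : ks →ₐ[k] kS, ∃ τ, ι.comp τ = σ := by
    rw [← hcardS]
    haveI : Finite (ks →ₐ[k] IsLocalRing.ResidueField E) := Finite.of_injective _ hιi
    exact ⟨fun h => (hιi.bijective_of_nat_card_le h.ge).2,
      fun h => Nat.card_eq_of_bijective _ ⟨hιi, h⟩⟩
  rw [hcount]
  constructor
  · -- every minimal prime generated from `E` gives all embeddings
    intro hgen σ
    obtain ⟨z, hz⟩ := Field.exists_primitive_element k ks
    have hzsep : IsSeparable k (z : IsLocalRing.ResidueField A') := mem_separableClosure_iff.1 z.2
    obtain ⟨f, hfm, -, hf⟩ := Polynomial.lifts_and_natDegree_eq_and_monic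
      ((Polynomial.lifts_iff_coeff_lifts (minpoly k (z : IsLocalRing.ResidueField A'))).mpr
        fun n => IsLocalRing.residue_surjective _) (minpoly.monic hzsep.isIntegral)
    have hsep : (f.map (IsLocalRing.residue A)).Separable := by rw [hfm]; exact hzsep
    have hev : ∀ {R : Type u} [CommRing R] [IsLocalRing R] [Algebra A R] [IsLocalHom (algebraMap A R)] (x : R)
        (p : Polynomial A), IsLocalRing.residue R (Polynomial.aeval x p) =
          Polynomial.aeval (IsLocalRing.residue R x) (p.map (IsLocalRing.residue A)) := fun x p => by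
      rw [Polynomial.aeval_def, Polynomial.hom_eval₂, Polynomial.aeval_def, Polynomial.eval₂_map]
      rfl
    obtain ⟨ρ₀, hρ₀⟩ := IsLocalRing.residue_surjective (z : IsLocalRing.ResidueField A')
    obtain ⟨ρ, hρ, hρ'⟩ := HenselianLocalRing.is_henselian (f.map (algebraMap A A')) (hf.map _) ρ₀
      (by
        rw [← IsLocalRing.residue_eq_zero_iff, Polynomial.eval_map, ← Polynomial.aeval_def, hev, hρ₀, hfm]
        exact minpoly.aeval k _)
      (by
        by_contra hu
        have h0 := (IsLocalRing.residue_eq_zero_iff _).2 hu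
        rw [Polynomial.derivative_map, Polynomial.eval_map, ← Polynomial.aeval_def, hev, hρ₀,
          ← Polynomial.derivative_map, hfm] at h0
        exact hzsep.aeval_derivative_ne_zero (minpoly.aeval k _) h0)
    replace hρ : Polynomial.aeval ρ f = 0 := by
      rw [Polynomial.IsRoot, Polynomial.eval_map, ← Polynomial.aeval_def] at hρ; exact hρ
    replace hρ' : IsLocalRing.residue A' ρ = z := by
      rw [← hρ₀, ← sub_eq_zero, ← map_sub]
      exact (IsLocalRing.residue_eq_zero_iff _).2 hρ'
    -- the root in `S` over `σ z`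
    have hσz : Polynomial.aeval (σ z) (f.map (IsLocalRing.residue A)) = 0 := by
      rw [hfm, Polynomial.aeval_algHom_apply]
      have : Polynomial.aeval z (minpoly k (z : IsLocalRing.ResidueField A')) = 0 := Subtype.ext (by
        rw [← IntermediateField.coe_val, ← Polynomial.aeval_algHom_apply]
        exact minpoly.aeval k _)
      rw [this, map_zero]
    haveI : IsLocalRing (⊤ : Subalgebra A S) := (Subalgebra.topEquiv (R := A) (A := S)).symm.toRingEquiv.isLocalRing
    haveI : HenselianLocalRing (⊤ : Subalgebra A S) :=
      Groth.Agent.Hensel.henselianLocalRing_of_ringEquiv (Subalgebra.topEquiv).symm.toRingEquiv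
    haveI : IsLocalHom (algebraMap (⊤ : Subalgebra A S) S) :=
      ⟨fun d hd => hd.map (Subalgebra.topEquiv (R := A) (A := S)).symm⟩
    obtain ⟨s₀, hs₀⟩ := IsLocalRing.residue_surjective (σ z)
    obtain ⟨θ, -, hθ, hθz⟩ := Groth.Agent.SHEss.exists_root (D := (⊤ : Subalgebra A S)) ⟨s₀, trivial⟩ f hf hsep
      (by show Polynomial.aeval (IsLocalRing.residue S s₀) _ = 0; rwa [hs₀])
    replace hθz : IsLocalRing.residue S θ = σ z := hθz.trans hs₀
    -- a prime of `S ⊗ A'` identifying `θ` and `ρ`
    let Ω := AlgebraicClosure kS
    letI : Algebra ks (IsLocalRing.ResidueField A') := inferInstance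
    letI algΩ : Algebra ks Ω := ((algebraMap kS Ω).comp σ.toRingHom).toAlgebra
    let σ' : IsLocalRing.ResidueField A' →ₐ[ks] Ω := IsAlgClosed.lift
    have hσ' : σ' (z : IsLocalRing.ResidueField A') = algebraMap kS Ω (σ z) := σ'.commutes z
    have hσ'k : ∀ a : A, σ' (IsLocalRing.residue A' (algebraMap A A' a)) =
        algebraMap kS Ω (IsLocalRing.residue S (algebraMap A S a)) := fun a => by
      refine (σ'.commutes (algebraMap k ks (IsLocalRing.residue A a))).trans ?_
      show algebraMap kS Ω (σ (algebraMap k ks (IsLocalRing.residue A a))) = _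
      rw [σ.commutes]
      rfl
    let fS : S →ₐ[A] Ω := { (algebraMap kS Ω).comp (IsLocalRing.residue S) with commutes' := fun a => rfl }
    let fA : A' →ₐ[A] Ω := { σ'.toRingHom.comp (IsLocalRing.residue A') with commutes' := fun a => hσ'k a }
    let T := TensorProduct A S A'
    let χ : T →ₐ[A] Ω := Algebra.TensorProduct.lift fS fA fun _ _ => Commute.all _ _
    have hχp : (RingHom.ker χ.toRingHom).IsPrime := RingHom.ker_isPrime _
    obtain ⟨W, hW, hWle⟩ := Ideal.exists_minimalPrimes_le (bot_le : (⊥ : Ideal T) ≤ RingHom.ker χ.toRingHom)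
    haveI : W.IsPrime := hW.1.1
    let iS : S →ₐ[A] T := Algebra.TensorProduct.includeLeft
    let iA : A' →ₐ[A] T := Algebra.TensorProduct.includeRight
    have huv : iS θ - iA ρ ∈ W := by
      have h1 : (f.map (algebraMap A S)).IsRoot θ := by
        rwa [Polynomial.IsRoot, Polynomial.eval_map, ← Polynomial.aeval_def]
      obtain ⟨g, hg⟩ := Polynomial.dvd_iff_isRoot.2 h1
      have h0 : Polynomial.eval₂ iS.toRingHom (iA ρ) (f.map (algebraMap A S)) = 0 := by
        rw [Polynomial.eval₂_map, AlgHom.toRingHom_eq_coe, iS.comp_algebraMap, ← Polynomial.aeval_def,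
          Polynomial.aeval_algHom_apply, hρ, map_zero]
      rw [hg, Polynomial.eval₂_mul, Polynomial.eval₂_sub, Polynomial.eval₂_X, Polynomial.eval₂_C] at h0
      rcases hW.1.1.mem_or_mem (h0 ▸ W.zero_mem) with h | hgW
      · rw [← neg_sub]
        exact W.neg_mem h
      · exfalso
        have h2 : χ.toRingHom (Polynomial.eval₂ iS.toRingHom (iA ρ) g) = 0 := hWle hgW
        have e1 : χ.toRingHom.comp iS.toRingHom = fS.toRingHom := by
          ext s
          show χ (s ⊗ₜ[A] 1) = fS s
          rw [Algebra.TensorProduct.lift_tmul, map_one, mul_one]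
        have e2 : χ.toRingHom (iA ρ) = fS.toRingHom θ := by
          show χ (1 ⊗ₜ[A] ρ) = fS θ
          rw [Algebra.TensorProduct.lift_tmul, map_one, one_mul]
          show σ' (IsLocalRing.residue A' ρ) = algebraMap kS Ω (IsLocalRing.residue S θ)
          rw [hρ', hθz, hσ']
        rw [Polynomial.hom_eval₂, e1, e2, Polynomial.eval₂_at_apply] at h2
        have hd : Polynomial.eval θ (Polynomial.derivative (f.map (algebraMap A S))) = g.eval θ := by
          rw [hg, Polynomial.derivative_mul]
          simp
        have h0' : IsLocalRing.residue S (g.eval θ) = 0 := (map_eq_zero (algebraMap kS Ω)).1 h2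
        rw [← hd, Polynomial.derivative_map, Polynomial.eval_map, ← Polynomial.aeval_def, hev,
          ← Polynomial.derivative_map, hθz] at h0'
        exact hsep.aeval_derivative_ne_zero hσz h0'
    -- contract to a minimal prime of `S`
    let Q : Ideal S := W.comap iS.toRingHom
    haveI : Q.IsPrime := Ideal.IsPrime.comap _
    have hW0 : W.comap iA.toRingHom = ⊥ := comap_includeRight_eq_bot A A' S W hW
    have hQA : Q.comap (algebraMap A S) = ⊥ := by
      rw [Ideal.comap_comap, AlgHom.toRingHom_eq_coe, iS.comp_algebraMap,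
        show algebraMap A T = iA.toRingHom.comp (algebraMap A A') from iA.comp_algebraMap.symm,
        ← Ideal.comap_comap, hW0]
      exact Ideal.comap_bot_of_injective _ (FaithfulSMul.algebraMap_injective A A')
    have hQmin : Q ∈ minimalPrimes S :=
      (Groth.Agent.BrnchLib.mem_minimalPrimes_iff_comap (Groth.Agent.Hensel.isHenzLike_of_isStrictHenselization A S)).2 (by
        rw [hQA]; exact ⟨⟨Ideal.isPrime_bot, le_rfl⟩, fun _ _ _ => bot_le⟩)
    -- `θ` agrees with an element of `E` on `Q`
    obtain ⟨a, b, hb, hab⟩ := IsFractionRing.div_surjective (A := A) (ρ : K)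
    have hbρ : algebraMap A A' b * ρ = algebraMap A A' a := Subtype.ext (by
      show algebraMap A K b * (ρ : K) = algebraMap A K a
      rw [← hab, mul_div_cancel₀ _ (IsFractionRing.to_map_ne_zero_of_mem_nonZeroDivisors hb)])
    have hQel : algebraMap A S b * θ - algebraMap A S a ∈ Q := by
      show iS (algebraMap A S b * θ - algebraMap A S a) ∈ W
      rw [map_sub, map_mul, iS.commutes, iS.commutes, ← iA.commutes, ← iA.commutes a, ← hbρ, map_mul, ← mul_sub]
      exact W.mul_mem_left _ huv
    let P : Ideal E := Q.comap (algebraMap E S)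
    have h2 : algebraMap A E a ∈ Ideal.span {algebraMap A E b} ⊔ P := by
      rw [← Ideal.comap_map_eq_self_of_faithfullyFlat (B := S) (Ideal.span {algebraMap A E b} ⊔ P), Ideal.mem_comap,
        Ideal.map_sup, ← hgen Q hQmin, Ideal.map_span, Set.image_singleton, ← IsScalarTower.algebraMap_apply,
        ← IsScalarTower.algebraMap_apply]
      exact Submodule.mem_sup.2 ⟨algebraMap A S b * θ, Ideal.mem_span_singleton'.2 ⟨θ, mul_comm _ _⟩,
        -(algebraMap A S b * θ - algebraMap A S a), Q.neg_mem hQel, by ring⟩
    obtain ⟨u, hu, p, hp, hup⟩ := Submodule.mem_sup.1 h2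
    obtain ⟨e, rfl⟩ := Ideal.mem_span_singleton'.1 hu
    have h3 : algebraMap A S b * (θ - algebraMap E S e) ∈ Q := by
      have : algebraMap A S b * (θ - algebraMap E S e) =
          (algebraMap A S b * θ - algebraMap A S a) + algebraMap E S p := by
        have := congrArg (algebraMap E S) hup
        rw [map_add, map_mul, ← IsScalarTower.algebraMap_apply, ← IsScalarTower.algebraMap_apply] at this
        rw [← this]; ring
      rw [this]
      exact Q.add_mem hQel hp
    have h4 : θ - algebraMap E S e ∈ Q := ((inferInstance : Q.IsPrime).mem_or_mem h3).resolve_left fun hb' => by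
      have : b ∈ Q.comap (algebraMap A S) := hb'
      rw [hQA, Ideal.mem_bot] at this
      exact nonZeroDivisors.ne_zero hb this
    have h5 : σ z = ι (IsLocalRing.residue E e) := by
      rw [← hθz]
      show IsLocalRing.residue S θ = IsLocalRing.residue S (algebraMap E S e)
      rw [← sub_eq_zero, ← map_sub, IsLocalRing.residue_eq_zero_iff]
      exact IsLocalRing.le_maximalIdeal (Ideal.IsPrime.ne_top inferInstance) h4
    have hrange : ∀ w : ks, σ w ∈ ι.range := by
      intro w
      have hw : w ∈ Algebra.adjoin k ({z} : Set ks) := by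
        rw [← IntermediateField.adjoin_simple_toSubalgebra_of_isAlgebraic (Algebra.IsAlgebraic.isAlgebraic z), hz]
        trivial
      have : (Algebra.adjoin k ({z} : Set ks)).map σ ≤ ι.range := by
        rw [AlgHom.map_adjoin, Algebra.adjoin_le_iff]
        rintro _ ⟨y, hy, rfl⟩
        obtain rfl : y = z := hy
        exact ⟨_, h5.symm⟩
      exact this ⟨w, hw, rfl⟩
    exact ⟨(AlgEquiv.ofInjectiveField ι).symm.toAlgHom.comp (σ.codRestrict ι.range hrange),
      AlgHom.ext fun w => congrArg Subtype.val
        ((AlgEquiv.ofInjectiveField ι).apply_symm_apply (σ.codRestrict ι.range hrange w))⟩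
  · -- all embeddings in `l` force generation from `E`
    intro hemb Q hQ
    haveI : Q.IsPrime := hQ.1.1
    obtain ⟨f, θ, hf, hirr, hsep, hθ, hPQ, hθK⟩ := Groth.Agent.SHEss.exists_geom_base A S hA Q hQ
    let Kb := FractionRing (S ⧸ Q)
    have hQA : Q.comap (algebraMap A S) = ⊥ := by
      have := (Groth.Agent.BrnchLib.mem_minimalPrimes_iff_comap (Groth.Agent.Hensel.isHenzLike_of_isStrictHenselization A S)).1 hQ
      exact le_bot_iff.1 (this.2 ⟨Ideal.isPrime_bot, le_rfl⟩ bot_le)
    have hAKb : Function.Injective (algebraMap A Kb) := by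
      rw [injective_iff_map_eq_zero]
      intro a ha
      rw [IsScalarTower.algebraMap_apply A (S ⧸ Q) Kb, map_eq_zero_iff _ (IsFractionRing.injective (S ⧸ Q) Kb)] at ha
      have ha' : Ideal.Quotient.mk Q (algebraMap A S a) = 0 := ha
      have : a ∈ Q.comap (algebraMap A S) := Ideal.mem_comap.2 (Ideal.Quotient.eq_zero_iff_mem.1 ha')
      rwa [hQA, Ideal.mem_bot] at this
    let j : K →ₐ[A] Kb := IsFractionRing.liftAlgHom (g := Algebra.ofId A Kb) hAKb
    obtain ⟨κ, hκ⟩ : ∃ κ : K, j κ = algebraMap (S ⧸ Q) Kb (Ideal.Quotient.mk Q θ) := by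
      have hle : Subfield.closure (Set.range (algebraMap A Kb)) ≤ j.toRingHom.fieldRange :=
        Subfield.closure_le.2 (by rintro _ ⟨a, rfl⟩; exact ⟨algebraMap A K a, j.commutes a⟩)
      exact hle hθK
    have hκ0 : Polynomial.aeval κ f = 0 := by
      apply j.toRingHom.injective
      show j (Polynomial.aeval κ f) = j 0
      rw [← Polynomial.aeval_algHom_apply, hκ, map_zero, Polynomial.aeval_algebraMap_apply]
      show algebraMap (S ⧸ Q) Kb (Polynomial.aeval (Ideal.Quotient.mkₐ A Q θ) f) = 0
      rw [Polynomial.aeval_algHom_apply, hθ, map_zero, map_zero]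
    let ρ : A' := ⟨κ, f, hf, by rwa [← Polynomial.aeval_def]⟩
    have hρ : Polynomial.aeval ρ f = 0 := Subtype.ext (by
      show A'.val (Polynomial.aeval ρ f) = 0
      rw [← Polynomial.aeval_algHom_apply]
      exact hκ0)
    have hev : ∀ {R : Type u} [CommRing R] [IsLocalRing R] [Algebra A R] [IsLocalHom (algebraMap A R)] (x : R),
        Polynomial.aeval x f = 0 → Polynomial.aeval (IsLocalRing.residue R x) (f.map (IsLocalRing.residue A)) = 0 :=
      fun {R} _ _ _ _ x hx => by
      rw [Polynomial.aeval_def, Polynomial.eval₂_map, show (algebraMap (IsLocalRing.ResidueField A) (IsLocalRing.ResidueField R)).comp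
        (IsLocalRing.residue A) = (IsLocalRing.residue R).comp (algebraMap A R) from rfl, ← Polynomial.hom_eval₂,
        ← Polynomial.aeval_def, hx, map_zero]
    have hρks : IsLocalRing.residue A' ρ ∈ ks := mem_separableClosure_iff.2
      (hsep.of_dvd (minpoly.dvd k _ (hev ρ hρ)))
    have hy : Polynomial.aeval (IsLocalRing.residue S θ) (minpoly k (⟨_, hρks⟩ : ks)) = 0 := by
      have hm : minpoly k (⟨_, hρks⟩ : ks) = minpoly k (IsLocalRing.residue A' ρ) :=
        (minpoly.algHom_eq ks.val ks.val.injective ⟨_, hρks⟩).symm
      have heq := minpoly.eq_of_irreducible_of_monic hirr (hev ρ hρ) (hf.map _)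
      rw [hm, ← heq]
      exact hev θ hθ
    obtain ⟨σ, hσ⟩ := IntermediateField.exists_algHom_of_splits_of_aeval hsplits hy
    obtain ⟨τ, hτ⟩ := hemb σ
    obtain ⟨e₀, he₀⟩ := IsLocalRing.residue_surjective (τ ⟨_, hρks⟩)
    have he₀' : IsLocalRing.residue S (algebraMap E S e₀) = IsLocalRing.residue S θ := by
      rw [← hσ, ← hτ]
      show _ = ι (τ _)
      rw [← he₀]
      rfl
    haveI : IsLocalRing (IsScalarTower.toAlgHom A E S).range :=
      (AlgEquiv.ofInjective (IsScalarTower.toAlgHom A E S) (FaithfulSMul.algebraMap_injective E S)).toRingEquiv.isLocalRing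
    haveI : HenselianLocalRing E := Groth.Agent.Hensel.henselianLocalRing_of_isIntegral_local A E
    haveI : HenselianLocalRing (IsScalarTower.toAlgHom A E S).range :=
      Groth.Agent.Hensel.henselianLocalRing_of_ringEquiv
        (AlgEquiv.ofInjective (IsScalarTower.toAlgHom A E S) (FaithfulSMul.algebraMap_injective E S)).toRingEquiv
    haveI : IsLocalHom (algebraMap (IsScalarTower.toAlgHom A E S).range S) := ⟨fun d hd => by
      obtain ⟨d, rfl⟩ := (AlgEquiv.ofInjective (IsScalarTower.toAlgHom A E S) (FaithfulSMul.algebraMap_injective E S)).surjective d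
      exact (isUnit_of_map_unit (algebraMap E S) d hd).map _⟩
    obtain ⟨θ', hθ'mem, hθ', hθ'r⟩ := Groth.Agent.SHEss.exists_root (D := (IsScalarTower.toAlgHom A E S).range)
      ⟨algebraMap E S e₀, e₀, rfl⟩ f hf hsep (by
        show Polynomial.aeval (IsLocalRing.residue S (algebraMap E S e₀)) _ = 0
        rw [he₀']; exact hev θ hθ)
    obtain rfl : θ' = θ := Groth.Agent.SHEss.eq_of_residue_eq f hsep θ' θ hθ' hθ (hθ'r.trans he₀')
    have hle : Algebra.adjoin A ({θ'} : Set S) ≤ (IsScalarTower.toAlgHom A E S).range :=
      Algebra.adjoin_le (Set.singleton_subset_iff.2 hθ'mem)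
    refine le_antisymm (hPQ.symm.le.trans (Ideal.map_le_iff_le_comap.2 fun x hx => ?_)) Ideal.map_comap_le
    obtain ⟨e, he⟩ := hle x.2
    refine Ideal.mem_comap.2 ?_
    rw [show algebraMap _ S x = algebraMap E S e from he.symm]
    exact Ideal.mem_map_of_mem _ (Ideal.mem_comap.2 ((show algebraMap E S e = (x : S) from he).symm ▸ (Ideal.mem_comap.1 hx : (x : S) ∈ Q)))

end Groth.Agent.S16437
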