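import Groth.Statements.S16438
import Groth.Agent.SHEss.Basic
-- import your own Groth.Agent.* helpers here

set_option autoImplicit false
universe u
open EGA4loc

namespace Groth.Agent.S16438

open IsLocalRing in
/-- Let A be a Noetherian local ring with maximal ideal m, S a strict henselization of A, and D an
A-subalgebra of S which is a local ring dominated by S (the inclusion is local), essentially of
finite type over A, and such that m D is the maximal ideal of D. Then D is an essentially etale
local A-algebra: A-isomorphic to the localization of an etale A-algebra at a prime over m. (The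
published statement also assumes the total ring of fractions of D finitely generated over that of A;
for D essentially of finite type over A and dominated by S this is automatic, D then lying in a
local etale subextension of S, so that hypothesis is omitted here.) -/
theorem result
    (A S : Type u) [CommRing A] [IsLocalRing A] [IsNoetherianRing A]
    [CommRing S] [IsLocalRing S] [Algebra A S] [IsLocalHom (algebraMap A S)]
    [Hensel.IsStrictHenselization A S] (D : Subalgebra A S) [IsLocalRing D]
    [IsLocalHom (algebraMap D S)] [Algebra.EssFiniteType A D]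
    (hm : Ideal.map (algebraMap A D) (maximalIdeal A) = maximalIdeal D) :
    EGA4loc.IsEssentiallyEtale A D := by
  haveI : IsLocalHom (algebraMap A D) := ⟨fun a ha => by
    have : IsUnit (algebraMap A S a) := ha.map (algebraMap D S)
    exact isUnit_of_map_unit (algebraMap A S) a this⟩
  haveI := (inferInstance : Hensel.IsStrictHenselization A S).isSepClosure
  haveI : Algebra.IsSeparable (ResidueField A) (ResidueField S) := IsSepClosure.separable
  haveI : Algebra.IsSeparable (ResidueField A) (ResidueField D) :=
    Algebra.isSeparable_tower_bot_of_isSeparable (ResidueField A) (ResidueField D) (ResidueField S)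
  haveI : Algebra.FormallyUnramified A D := Algebra.FormallyUnramified.of_map_maximalIdeal hm
  let C := Algebra.EssFiniteType.subalgebra A D
  let Q : Ideal C := (maximalIdeal D).comap (algebraMap C D)
  haveI : IsLocalization.AtPrime D Q := by
    have : Q.primeCompl = Algebra.EssFiniteType.submonoid A D := by
      ext c
      simp [Q, Algebra.EssFiniteType.submonoid, IsUnit.mem_submonoid_iff, C]
    show IsLocalization Q.primeCompl D
    rw [this]
    infer_instance
  let e : Localization.AtPrime Q ≃ₐ[C] D := IsLocalization.algEquiv Q.primeCompl _ _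
  haveI : Algebra.IsUnramifiedAt A Q := Algebra.FormallyUnramified.of_equiv (e.restrictScalars A).symm
  obtain ⟨c₀, hc₀, P, φ, hφ⟩ := Algebra.IsUnramifiedAt.exists_hasStandardEtaleSurjectionOn (R := A) Q
  let χ : Localization.Away c₀ →ₐ[A] D := IsLocalization.liftAlgHom (M := Submonoid.powers c₀)
    (f := IsScalarTower.toAlgHom A C D) fun y => by
      obtain ⟨n, hn⟩ := y.2
      simp only [← hn, map_pow]
      exact (IsLocalization.map_units D (⟨c₀, hc₀⟩ : Q.primeCompl)).pow n
  have hχ : ∀ c : C, χ (algebraMap C (Localization.Away c₀) c) = algebraMap C D c := fun c =>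
    IsLocalization.lift_eq _ c
  let g : P.Ring →ₐ[A] D := χ.comp φ
  let q : Ideal P.Ring := (maximalIdeal D).comap g
  have hq : q.comap (algebraMap A P.Ring) = maximalIdeal A := by
    ext a
    show g (algebraMap A P.Ring a) ∈ maximalIdeal D ↔ _
    rw [AlgHom.commutes, mem_maximalIdeal, mem_maximalIdeal, mem_nonunits_iff, mem_nonunits_iff,
      isUnit_map_iff (algebraMap A D)]
  let E := Localization.AtPrime q
  have hE : EGA4loc.IsEssentiallyEtale A E :=
    ⟨P.Ring, inferInstance, inferInstance, q, inferInstance, inferInstance, hq, ⟨AlgEquiv.refl⟩⟩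
  haveI : IsLocalHom (algebraMap A E) := ⟨fun a ha => by
    by_contra hna
    rw [IsScalarTower.algebraMap_apply A P.Ring E, IsLocalization.AtPrime.isUnit_to_map_iff E q] at ha
    exact ha (show a ∈ q.comap (algebraMap A P.Ring) from hq.symm ▸ hna)⟩
  have hu : ∀ y : q.primeCompl, IsUnit (g y) := fun y => by
    by_contra h
    exact y.2 h
  let π : E →ₐ[A] D := IsLocalization.liftAlgHom (M := q.primeCompl) (f := g) hu
  have hπ : ∀ x, π (algebraMap P.Ring E x) = g x := fun x => IsLocalization.lift_eq _ x
  have hsurj : Function.Surjective π := fun d => by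
    obtain ⟨c, t, rfl⟩ := IsLocalization.exists_mk'_eq Q.primeCompl d
    obtain ⟨a, ha⟩ := hφ (algebraMap C _ c)
    obtain ⟨b, hb⟩ := hφ (algebraMap C _ t)
    have hga : g a = algebraMap C D c := by rw [← hχ, ← ha]; rfl
    have hgb : g b = algebraMap C D t := by rw [← hχ, ← hb]; rfl
    have hbq : b ∈ q.primeCompl := fun h => by
      have h' : g b ∈ maximalIdeal D := h
      rw [hgb] at h'
      exact t.2 h'
    refine ⟨IsLocalization.mk' E a ⟨b, hbq⟩, ?_⟩
    rw [IsLocalization.eq_mk'_iff_mul_eq, ← hgb, ← hπ, ← map_mul, show IsLocalization.mk' E a ⟨b, hbq⟩ * algebraMap P.Ring E b = algebraMap P.Ring E a from IsLocalization.mk'_spec E a ⟨b, hbq⟩, hπ, hga]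
  have hinj : Function.Injective π := fun x y hxy =>
    Groth.Agent.SHEss.injective_algHom hE ((D.val).comp π) (congrArg D.val hxy)
  exact ⟨P.Ring, inferInstance, inferInstance, q, inferInstance, inferInstance, hq,
    ⟨(AlgEquiv.ofBijective π ⟨hinj, hsurj⟩).symm⟩⟩

end Groth.Agent.S16438
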