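import Groth.Statements.S16441
import Groth.Agent.SHEss.Contain

set_option autoImplicit false
universe u
open EGA4loc

namespace Groth.Agent.S16441

/-- Let A be a reduced local ring with finitely many minimal prime ideals, S a strict henselization of
A, and D an A-subalgebra of S which is a local ring dominated by S (local inclusion). Then the total
ring of fractions K_D of D is finitely generated over that of A — there is a finite subset t of K_D
such that every element of K_D, multiplied by (the image of) some non-zero-divisor of A, is a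
polynomial expression in t with coefficients from A — if and only if D is contained in some
A-subalgebra E of S which is a local ring and an essentially etale local A-algebra (a localization
of an etale A-algebra at a prime over the maximal ideal). -/
theorem result
    (A S : Type u) [CommRing A] [IsLocalRing A] [IsReduced A] (hmin : (minimalPrimes A).Finite)
    [CommRing S] [IsLocalRing S] [Algebra A S] [IsLocalHom (algebraMap A S)]
    [Hensel.IsStrictHenselization A S] (D : Subalgebra A S) [IsLocalRing D]
    [IsLocalHom (algebraMap D S)] :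
    (∃ t : Finset (FractionRing D), ∀ x : FractionRing D, ∃ a ∈ nonZeroDivisors A,
        algebraMap A (FractionRing D) a * x ∈ Algebra.adjoin A (t : Set (FractionRing D))) ↔
      ∃ E : Subalgebra A S, D ≤ E ∧ ∃ _ : IsLocalRing E, EGA4loc.IsEssentiallyEtale A E := by
  classical
  constructor
  · rintro ⟨t, ht⟩
    choose nd hnd' using fun x : FractionRing D => IsLocalization.surj (nonZeroDivisors D) x
    obtain ⟨E, hsE, hEloc, hEl, hE⟩ := Groth.Agent.SHEss.exists_essEtale_subalgebra (A := A)
      (t.image (fun x => ((nd x).1 : S)) ∪ t.image (fun x => (((nd x).2 : D) : S)))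
    refine ⟨E, fun x hx => ?_, hEloc, hE⟩
    haveI := hEl
    haveI : IsLocalHom (algebraMap A E) := ⟨fun a ha =>
      isUnit_of_map_unit (algebraMap A S) a (ha.map (algebraMap E S))⟩
    haveI := Groth.Agent.SHEss.isStrictHenselization_of_intermediate (S := S) hE
    haveI := Groth.Agent.Hensel.faithfullyFlat_of_isStrictHenselization E S
    let KD := FractionRing D
    have key : ∀ z ∈ Algebra.adjoin A (t : Set KD), ∃ d e : D, d ∈ nonZeroDivisors D ∧ (d : S) ∈ E ∧ (e : S) ∈ E ∧
        algebraMap D KD d * z = algebraMap D KD e := by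
      intro z hz
      induction hz using Algebra.adjoin_induction with
      | mem z hz =>
        refine ⟨(nd z).2, (nd z).1, (nd z).2.2, hsE (Finset.mem_union_right _ (Finset.mem_image_of_mem _ hz)),
          hsE (Finset.mem_union_left _ (Finset.mem_image_of_mem _ hz)), ?_⟩
        rw [mul_comm]; exact hnd' z
      | algebraMap a =>
        refine ⟨1, algebraMap A D a, one_mem _, E.one_mem, E.algebraMap_mem a, ?_⟩
        rw [map_one, one_mul, ← IsScalarTower.algebraMap_apply A D KD]
      | add y z _ _ hy hz =>
        obtain ⟨d₁, e₁, h1, h1', h1'', h1e⟩ := hy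
        obtain ⟨d₂, e₂, h2, h2', h2'', h2e⟩ := hz
        refine ⟨d₁ * d₂, e₁ * d₂ + d₁ * e₂, mul_mem h1 h2, E.mul_mem h1' h2',
          E.add_mem (E.mul_mem h1'' h2') (E.mul_mem h1' h2''), ?_⟩
        rw [map_add, map_mul, map_mul, map_mul, ← h1e, ← h2e]
        ring
      | mul y z _ _ hy hz =>
        obtain ⟨d₁, e₁, h1, h1', h1'', h1e⟩ := hy
        obtain ⟨d₂, e₂, h2, h2', h2'', h2e⟩ := hz
        refine ⟨d₁ * d₂, e₁ * e₂, mul_mem h1 h2, E.mul_mem h1' h2', E.mul_mem h1'' h2'', ?_⟩
        rw [map_mul, map_mul, ← h1e, ← h2e]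
        ring
    obtain ⟨a, ha, hax⟩ := ht (algebraMap D KD ⟨x, hx⟩)
    obtain ⟨d₀, e, hd₀, hd₀E, heE, hde⟩ := key _ hax
    have hS : (d₀ : S) * (algebraMap A S a * x) = e := by
      rw [IsScalarTower.algebraMap_apply A D KD, ← map_mul, ← map_mul] at hde
      exact congrArg Subtype.val (IsFractionRing.injective D KD hde)
    obtain ⟨h1, -⟩ := Groth.Agent.SHEss.exists_mul_eq_algebraMap hmin hE (D.comap E.val)
    obtain ⟨a', ha', ⟨d', hd'D⟩, hd'⟩ := h1 ⟨⟨d₀, hd₀E⟩, d₀.2⟩ (mem_nonZeroDivisors_iff_right.2 fun y hy => by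
      have h0 : (⟨((y : E) : S), y.2⟩ : D) * d₀ = 0 :=
        Subtype.ext (congrArg (fun z : D.comap E.val => ((z : E) : S)) hy)
      have := (mem_nonZeroDivisors_iff_right.1 hd₀) _ h0
      exact Subtype.ext (Subtype.ext (by simpa using congrArg Subtype.val this)))
    have hd'S : (d₀ : S) * (d' : S) = algebraMap A S a' := congrArg Subtype.val hd'
    have hfl : Module.FaithfullyFlat A S := Groth.Agent.Hensel.faithfullyFlat_of_isStrictHenselization A S
    have hreg : IsSMulRegular S (a' * a) :=
      Module.Flat.isSMulRegular_of_nonZeroDivisors (M := S) (mul_mem ha' ha)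
    let e' : E := ⟨(e : S) * (d' : S), E.mul_mem heE d'.2⟩
    have he' : e' ∈ Ideal.span {algebraMap A E (a' * a)} := by
      rw [← Ideal.comap_map_eq_self_of_faithfullyFlat (B := S) (Ideal.span {algebraMap A E (a' * a)}), Ideal.mem_comap,
        Ideal.map_span, Set.image_singleton, Ideal.mem_span_singleton']
      refine ⟨x, ?_⟩
      show x * algebraMap A S (a' * a) = (e : S) * (d' : S)
      rw [← hS, map_mul, ← hd'S]
      ring
    obtain ⟨y, hy⟩ := Ideal.mem_span_singleton'.1 he'
    have hyx : (y : S) = x := by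
      refine hreg ?_
      show (a' * a) • (y : S) = (a' * a) • x
      rw [Algebra.smul_def, Algebra.smul_def, mul_comm, show (y : S) * algebraMap A S (a' * a) = (e : S) * (d' : S) from congrArg Subtype.val hy,
        ← hS, map_mul, ← hd'S]
      ring
    exact hyx ▸ y.2
  · rintro ⟨E, hDE, hEloc, hE⟩
    haveI := hEloc
    haveI : IsLocalHom (algebraMap A E) := ⟨fun a ha =>
      isUnit_of_map_unit (algebraMap A S) a (ha.map (algebraMap E S))⟩
    obtain ⟨h1, t, ht⟩ := Groth.Agent.SHEss.exists_mul_eq_algebraMap hmin hE (D.comap E.val)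
    let ι : D.comap E.val →ₐ[A] D := (E.val.comp (D.comap E.val).val).codRestrict D fun z => z.2
    let KD := FractionRing D
    let κ : D.comap E.val →ₐ[A] KD := (IsScalarTower.toAlgHom A D KD).comp ι
    refine ⟨t.image κ, fun z => ?_⟩
    obtain ⟨⟨n, d, hd⟩, hz⟩ := IsLocalization.surj (nonZeroDivisors D) z
    obtain ⟨a, ha, d', hd'⟩ := h1 ⟨⟨d, hDE d.2⟩, d.2⟩ (mem_nonZeroDivisors_iff_right.2 fun y hy => by
      have := (mem_nonZeroDivisors_iff_right.1 hd) (ι y) (Subtype.ext (congrArg (fun z : D.comap E.val => ((z : E) : S)) hy))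
      exact Subtype.ext (Subtype.ext (by exact (congrArg Subtype.val this : ((ι y : D) : S) = ((0 : D) : S)))))
    have hdd : d * ι d' = algebraMap A D a := Subtype.ext (congrArg (fun w : E => (w : S)) hd')
    let m : D.comap E.val := ⟨⟨(n : S), hDE n.2⟩, n.2⟩ * d'
    obtain ⟨b, hb, hbm⟩ := ht m
    refine ⟨b * a, mul_mem hb ha, ?_⟩
    have hm : κ m = algebraMap A KD a * z := by
      rw [show κ m = algebraMap D KD n * algebraMap D KD (ι d') from (congrArg (algebraMap D KD) (show ι m = n * ι d' from Subtype.ext rfl)).trans (map_mul _ _ _),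
        IsScalarTower.algebraMap_apply A D KD, ← hdd, map_mul, ← hz]
      ring
    rw [map_mul, mul_assoc, ← hm, ← κ.commutes, ← map_mul, Finset.coe_image]
    refine Algebra.span_le_adjoin A _ ?_
    exact Submodule.map_span κ.toLinearMap _ ▸ Submodule.mem_map_of_mem hbm

end Groth.Agent.S16441
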