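import Groth.Statements.S16442
import Groth.Agent.SHEss.Contain

set_option autoImplicit false
universe u
open EGA4loc

namespace Groth.Agent.S16442

/-- Let A be a reduced local ring with finitely many minimal prime ideals, S a strict henselization of
A, and D an A-subalgebra of S which is a local ring dominated by S (local inclusion) and essentially
of finite type over A. Then D is contained in some A-subalgebra E of S which is a local ring and an
essentially etale local A-algebra. -/
theorem result
    (A S : Type u) [CommRing A] [IsLocalRing A] [IsReduced A] (hmin : (minimalPrimes A).Finite)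
    [CommRing S] [IsLocalRing S] [Algebra A S] [IsLocalHom (algebraMap A S)]
    [Hensel.IsStrictHenselization A S] (D : Subalgebra A S) [IsLocalRing D]
    [IsLocalHom (algebraMap D S)] [Algebra.EssFiniteType A D] :
    ∃ E : Subalgebra A S, D ≤ E ∧ ∃ _ : IsLocalRing E, EGA4loc.IsEssentiallyEtale A E := by
  classical
  let F := Algebra.EssFiniteType.finset A D
  obtain ⟨E, hFE, hEloc, hEl, hE⟩ := Groth.Agent.SHEss.exists_essEtale_subalgebra (A := A)
    (F.image (fun x : D => (x : S)))
  refine ⟨E, fun x hx => ?_, hEloc, hE⟩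
  haveI := hEl
  have hle : (Algebra.EssFiniteType.subalgebra A D).map D.val ≤ E := by
    rw [Algebra.EssFiniteType.subalgebra, AlgHom.map_adjoin, Algebra.adjoin_le_iff]
    rintro _ ⟨y, hy, rfl⟩
    exact hFE (Finset.mem_image_of_mem _ hy)
  obtain ⟨⟨c, u⟩, hcu⟩ := IsLocalization.surj (Algebra.EssFiniteType.submonoid A D) (⟨x, hx⟩ : D)
  have hcE : ((c : D) : S) ∈ E := hle ⟨c, c.2, rfl⟩
  have huE : (((u : Algebra.EssFiniteType.subalgebra A D) : D) : S) ∈ E := hle ⟨u.1, u.1.2, rfl⟩
  have huD : IsUnit ((u : Algebra.EssFiniteType.subalgebra A D) : D) := u.2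
  have hu : IsUnit (⟨_, huE⟩ : E) :=
    isUnit_of_map_unit (algebraMap E S) _ (huD.map D.val)
  obtain ⟨v, hv⟩ := hu.exists_right_inv
  have hx' : x * (((u : Algebra.EssFiniteType.subalgebra A D) : D) : S) = ((c : D) : S) := congrArg Subtype.val hcu
  have hv' : (((u : Algebra.EssFiniteType.subalgebra A D) : D) : S) * (v : S) = 1 := congrArg Subtype.val hv
  have : x = ((c : D) : S) * (v : S) := by rw [← hx', mul_assoc, hv', mul_one]
  rw [this]
  exact E.mul_mem hcE v.2

end Groth.Agent.S16442
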