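import Groth.Statements.S16444
import Groth.Agent.EtAlg7.EssEtale
import Groth.Agent.Hensel.FiniteEtaleLift
import Groth.Agent.Hensel.Local
import Groth.Agent.Hensel.IntegralStrict
-- import your own Groth.Agent.* helpers here

set_option autoImplicit false
universe u
open scoped TensorProduct
open Hensel

namespace Groth.Agent.S16444

open IsLocalRing in
/-- Let A be a complete Noetherian local ring and R → A a local homomorphism from a henselian Noetherian
local ring R inducing a bijection on residue fields. Then every local ring E which is an essentially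
etale local A-algebra with local structure map is A-isomorphic to A ⊗_R S for some local ring S
which is a finite etale R-algebra (its residue field is then that of E). (The published statement
takes R to be a coefficient ring of A, that is a field or an image of a complete p-ring with the
same residue field; its proof uses only that R is henselian with the same residue field as A, which
is the hypothesis made here.) -/
theorem result
    (R A E : Type u) [CommRing R] [HenselianLocalRing R] [IsNoetherianRing R]
    [CommRing A] [IsLocalRing A] [IsNoetherianRing A] [IsAdicComplete (maximalIdeal A) A]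
    [Algebra R A] [IsLocalHom (algebraMap R A)]
    (hres : Function.Bijective (ResidueField.map (algebraMap R A)))
    [CommRing E] [IsLocalRing E] [Algebra A E] [IsLocalHom (algebraMap A E)]
    (hE : EGA4loc.IsEssentiallyEtale A E) :
    ∃ (S : Type u) (_ : CommRing S) (_ : IsLocalRing S) (_ : Algebra R S),
      Module.Finite R S ∧ Algebra.Etale R S ∧ Nonempty (E ≃ₐ[A] A ⊗[R] S) := by
  haveI : HenselianLocalRing A := Hensel.henselianLocalRing_of_henselianRing A
  haveI := EtAlg7.formallyUnramified hE
  haveI := EtAlg7.essFiniteType hE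
  haveI : IsNoetherianRing E := Algebra.EssFiniteType.isNoetherianRing A E
  let kR := R ⧸ maximalIdeal R
  let kE := ResidueField E
  letI : Algebra R E := ((algebraMap A E).comp (algebraMap R A)).toAlgebra
  haveI : IsScalarTower R A E := IsScalarTower.of_algebraMap_eq fun _ => rfl
  haveI : IsLocalHom (algebraMap R E) := RingHom.isLocalHom_comp (algebraMap A E) (algebraMap R A)
  have hsA : Function.Surjective (algebraMap (ResidueField R) (ResidueField A)) := fun y => by
    obtain ⟨x, hx⟩ := hres.2 y
    obtain ⟨r, rfl⟩ := residue_surjective x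
    refine ⟨residue R r, ?_⟩
    rw [← hx, ResidueField.map_residue]
    rfl
  haveI : Module.Finite (ResidueField R) (ResidueField A) :=
    Module.Finite.of_surjective (Algebra.linearMap (ResidueField R) (ResidueField A)) hsA
  haveI : Algebra.IsSeparable (ResidueField R) (ResidueField A) := by
    refine ⟨fun x => ?_⟩
    obtain ⟨y, rfl⟩ := hsA x
    exact isSeparable_algebraMap (F := ResidueField R) (K := ResidueField A) y
  haveI : Module.Finite (ResidueField R) kE := Module.Finite.trans (ResidueField A) kE
  haveI : Algebra.IsSeparable (ResidueField R) kE := Algebra.IsSeparable.trans (ResidueField R) (ResidueField A) kE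
  haveI : Algebra.FormallyEtale (ResidueField R) kE := Algebra.FormallyEtale.of_isSeparable _ _
  haveI : Algebra.Etale (ResidueField R) kE :=
    ⟨inferInstance, Algebra.FinitePresentation.of_finiteType.mp inferInstance⟩
  letI : Algebra kR kE := (inferInstance : Algebra (ResidueField R) kE)
  haveI : Module.Finite kR kE := ‹Module.Finite (ResidueField R) kE›
  haveI : Algebra.Etale kR kE := ‹Algebra.Etale (ResidueField R) kE›
  obtain ⟨S, _, _, hfin, het, ⟨φ⟩⟩ := Hensel.exists_finite_etale_lift (I := maximalIdeal R) kE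
  haveI := hfin
  haveI := het
  -- the residue map of `A ⊗ S`
  let θ : S →ₐ[R] kE :=
    { toRingHom := φ.toRingHom.comp (Algebra.TensorProduct.includeRight : S →ₐ[R] kR ⊗[R] S).toRingHom
      commutes' := fun r => by
        show φ (Algebra.TensorProduct.includeRight (R := R) (A := kR) (algebraMap R S r)) = _
        rw [AlgHom.commutes, IsScalarTower.algebraMap_apply R kR (kR ⊗[R] S), AlgEquiv.commutes]
        rfl }
  have hker : ∀ s, θ s = 0 → s ∈ (maximalIdeal R).map (algebraMap R S) := by
    intro s hs
    have h0 : (1 : kR) ⊗ₜ[R] s = 0 := φ.injective (hs.trans (map_zero φ).symm)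
    let e : (S ⧸ (maximalIdeal R).map (algebraMap R S)) ≃ₐ[R] kR ⊗[R] S :=
      ((Algebra.TensorProduct.quotIdealMapEquivTensorQuot S (maximalIdeal R)).restrictScalars R).trans
        (Algebra.TensorProduct.comm R S kR)
    have he : e (Ideal.Quotient.mk _ s) = 1 ⊗ₜ s := by simp [e]
    exact Ideal.Quotient.eq_zero_iff_mem.1 (e.injective (by rw [he, h0, map_zero]))
  have hθ : Function.Surjective θ := fun z => by
    obtain ⟨w, rfl⟩ := φ.surjective z
    induction w with
    | zero => exact ⟨0, by simp⟩
    | tmul a b =>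
      obtain ⟨a, rfl⟩ := Ideal.Quotient.mk_surjective a
      refine ⟨a • b, congrArg φ ?_⟩
      show (1 : kR) ⊗ₜ[R] (a • b) = _
      rw [← TensorProduct.smul_tmul]
      exact congrArg (· ⊗ₜ[R] b) (Algebra.smul_def a (1 : kR) |>.trans (mul_one _))
    | add x y hx hy =>
      obtain ⟨u, hu⟩ := hx
      obtain ⟨v, hv⟩ := hy
      exact ⟨u + v, by rw [map_add, map_add, hu, hv]⟩
  have hSloc : IsLocalRing S := by
    refine IsLocalRing.of_unique_max_ideal ⟨RingHom.ker θ, RingHom.ker_isMaximal_of_surjective θ.toRingHom hθ, fun M hM => ?_⟩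
    refine (Ideal.IsMaximal.eq_of_le (RingHom.ker_isMaximal_of_surjective θ.toRingHom hθ) hM.ne_top fun s hs => ?_).symm
    haveI := hM
    haveI := Ideal.isMaximal_comap_of_isIntegral_of_isMaximal (R := R) M
    exact Ideal.map_le_iff_le_comap.2 (IsLocalRing.eq_maximalIdeal this).ge (hker s hs)
  let T := A ⊗[R] S
  let χ : T →ₐ[R] kE := Algebra.TensorProduct.lift ((IsScalarTower.toAlgHom R E kE).comp (IsScalarTower.toAlgHom R A E)) θ
    fun _ _ => Commute.all _ _
  have hχA : ∀ a : A, χ (a ⊗ₜ 1) = residue E (algebraMap A E a) := fun a => by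
    show Algebra.TensorProduct.lift _ θ _ (a ⊗ₜ[R] 1) = _
    rw [Algebra.TensorProduct.lift_tmul, map_one, mul_one]
    rfl
  have hχS : ∀ s : S, χ (1 ⊗ₜ s) = θ s := fun s => by
    show Algebra.TensorProduct.lift _ θ _ ((1 : A) ⊗ₜ[R] s) = _
    rw [Algebra.TensorProduct.lift_tmul, map_one, one_mul]
  have hχ : Function.Surjective χ := fun z => ⟨1 ⊗ₜ (hθ z).choose, by rw [hχS, (hθ z).choose_spec]⟩
  have hmod : ∀ z : A ⊗[R] S, ∃ s : S, z - 1 ⊗ₜ[R] s ∈ (maximalIdeal A).map (algebraMap A (A ⊗[R] S)) := by
    intro z
    induction z with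
    | zero => exact ⟨0, by simp⟩
    | tmul a s =>
      obtain ⟨r, hr⟩ := hres.2 (residue A a)
      obtain ⟨r, rfl⟩ := residue_surjective r
      rw [ResidueField.map_residue, eq_comm, ← sub_eq_zero, ← map_sub, residue_eq_zero_iff] at hr
      refine ⟨r • s, ?_⟩
      rw [← TensorProduct.smul_tmul, ← TensorProduct.sub_tmul, Algebra.smul_def, mul_one,
        show (a - algebraMap R A r) ⊗ₜ[R] s = algebraMap A T (a - algebraMap R A r) * (1 ⊗ₜ s) by simp [T]]
      exact Ideal.mul_mem_right _ _ (Ideal.mem_map_of_mem _ hr)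
    | add x y hx hy =>
      obtain ⟨u, hu⟩ := hx
      obtain ⟨v, hv⟩ := hy
      refine ⟨u + v, ?_⟩
      rw [TensorProduct.tmul_add, add_sub_add_comm]
      exact add_mem hu hv
  have hmT : (maximalIdeal A).map (algebraMap A T) ≤ RingHom.ker χ := Ideal.map_le_iff_le_comap.2 fun a ha => by
    show χ (a ⊗ₜ 1) = 0
    rw [hχA, residue_eq_zero_iff]
    exact map_nonunit (algebraMap A E) a ha
  have hkχ : RingHom.ker χ = (maximalIdeal A).map (algebraMap A T) := le_antisymm (fun z hz => by
    obtain ⟨s, hs⟩ := hmod z
    have hs0 : θ s = 0 := by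
      have := hmT hs
      rw [RingHom.mem_ker, map_sub, RingHom.mem_ker.1 hz, hχS, zero_sub, neg_eq_zero] at this
      exact this
    have h1 : (1 : A) ⊗ₜ[R] s ∈ (maximalIdeal A).map (algebraMap A T) := by
      have h2 := Ideal.mem_map_of_mem (Algebra.TensorProduct.includeRight : S →ₐ[R] T).toRingHom (hker s hs0)
      rw [Ideal.map_map, AlgHom.toRingHom_eq_coe, AlgHom.comp_algebraMap, IsScalarTower.algebraMap_eq R A T,
        ← Ideal.map_map] at h2
      exact Ideal.map_mono (((local_hom_TFAE (algebraMap R A)).out 0 2 rfl rfl).mp inferInstance) h2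
    simpa using add_mem hs h1) hmT
  haveI : IsLocalRing T := by
    have hm := RingHom.ker_isMaximal_of_surjective χ.toRingHom hχ
    refine IsLocalRing.of_unique_max_ideal ⟨RingHom.ker χ, hm, fun M hM => ?_⟩
    refine (Ideal.IsMaximal.eq_of_le hm hM.ne_top ?_).symm
    haveI := hM
    haveI := Ideal.isMaximal_comap_of_isIntegral_of_isMaximal (R := A) M
    show RingHom.ker χ ≤ M
    rw [hkχ]
    exact Ideal.map_le_iff_le_comap.2 (IsLocalRing.eq_maximalIdeal this).ge
  haveI : HenselianLocalRing T := Hensel.henselianLocalRing_of_finite A T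
  have hTmax : maximalIdeal T = RingHom.ker χ :=
    ((IsLocalRing.eq_maximalIdeal (RingHom.ker_isMaximal_of_surjective χ.toRingHom hχ))).symm
  haveI : IsLocalHom (algebraMap A T) := Hensel.isLocalHom_of_isIntegral_local A T
  let αe : (T ⧸ RingHom.ker χ) ≃+* kE := RingHom.quotientKerEquivOfSurjective (f := χ.toRingHom) hχ
  let α : kE ≃+* ResidueField T := αe.symm.trans (Ideal.quotEquivOfEq hTmax.symm)
  have hα : ∀ z : T, α (χ z) = residue T z := fun z => by
    show Ideal.quotEquivOfEq hTmax.symm (αe.symm (χ z)) = _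
    rw [show αe.symm (χ z) = Ideal.Quotient.mk _ z from αe.symm_apply_eq.2 rfl]
    rfl
  obtain ⟨ψ, hψ, -⟩ := EtAlg7.existsUnique_algHom hE (B := T) α.toRingHom (fun a => by
    show α (residue E (algebraMap A E a)) = _
    rw [← hχA, hα]
    rfl)
  have hsurj : Function.Surjective ψ := by
    haveI := Module.Finite.base_change R A S
    intro z
    have htop : LinearMap.range ψ.toLinearMap = ⊤ := by
      refine top_unique (Submodule.le_of_le_smul_of_le_jacobson_bot Module.Finite.fg_top
        (IsLocalRing.jacobson_eq_maximalIdeal ⊥ bot_ne_top).ge ?_)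
      intro z _
      obtain ⟨x, hx⟩ := residue_surjective (χ z)
      have h1 : residue T (ψ x) = residue T z := by rw [hψ, hx]; exact hα z
      have h2 : z - ψ x ∈ maximalIdeal T := by rw [← residue_eq_zero_iff, map_sub, h1, sub_self]
      rw [hTmax, hkχ, ← Submodule.restrictScalars_mem A, ← Ideal.smul_top_eq_map] at h2
      rw [← sub_add_cancel z (ψ x)]
      refine add_mem (Submodule.mem_sup_right h2) (Submodule.mem_sup_left ⟨x, rfl⟩)
    obtain ⟨x, hx⟩ : z ∈ LinearMap.range ψ.toLinearMap := htop ▸ trivial
    exact ⟨x, hx⟩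
  letI : Algebra E T := ψ.toRingHom.toAlgebra
  haveI : IsScalarTower A E T := IsScalarTower.of_algebraMap_eq fun a => (ψ.commutes a).symm
  haveI : Algebra.FormallyEtale A T := inferInstance
  haveI : Algebra.FormallyEtale E T := Algebra.FormallyEtale.of_restrictScalars (R := A)
  have hinj : Function.Injective ψ := by
    let K := RingHom.ker (Algebra.ofId E T)
    let q : (E ⧸ K) ≃ₐ[E] T := Ideal.quotientKerAlgEquivOfSurjective (f := Algebra.ofId E T) hsurj
    have hle : K ≤ K ^ 2 := by
      let g : (E ⧸ K ^ 2) →ₐ[E] T := Ideal.Quotient.liftₐ (K ^ 2) (Algebra.ofId E T)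
        fun z hz => Ideal.pow_le_self two_ne_zero hz
      have hgn : IsNilpotent (RingHom.ker g.toRingHom) := by
        refine ⟨2, le_bot_iff.1 ?_⟩
        have : RingHom.ker g.toRingHom ≤ K.map (Ideal.Quotient.mk (K ^ 2)) := fun z hz => by
          obtain ⟨z, rfl⟩ := Ideal.Quotient.mk_surjective z
          exact Ideal.mem_map_of_mem _ hz
        refine (Ideal.pow_right_mono this 2).trans ?_
        rw [← Ideal.map_pow, Ideal.map_quotient_self]
      obtain ⟨f, -⟩ : ∃ f : T →ₐ[E] E ⧸ K ^ 2, g.comp f = AlgHom.id E T :=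
        ⟨Algebra.FormallySmooth.liftOfSurjective (AlgHom.id E T) g
            (fun z => ⟨Ideal.Quotient.mk _ (hsurj z).choose, (hsurj z).choose_spec⟩) hgn,
          Algebra.FormallySmooth.comp_liftOfSurjective _ _ _ _⟩
      intro z hz
      rw [← Ideal.Quotient.eq_zero_iff_mem]
      have h1 : f (algebraMap E T z) = Ideal.Quotient.mk (K ^ 2) z := f.commutes z
      rw [← h1, show algebraMap E T z = 0 from hz, map_zero]
    have : K = ⊥ := Submodule.eq_bot_of_le_smul_of_le_jacobson_bot K K (IsNoetherian.noetherian K)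
      (by rw [smul_eq_mul, ← pow_two]; exact hle)
      ((IsLocalRing.le_maximalIdeal (RingHom.ker_ne_top _)).trans (IsLocalRing.jacobson_eq_maximalIdeal ⊥ bot_ne_top).ge)
    exact (RingHom.injective_iff_ker_eq_bot ψ.toRingHom).2 this
  exact ⟨S, inferInstance, hSloc, inferInstance, hfin, het, ⟨AlgEquiv.ofBijective ψ ⟨hinj, hsurj⟩⟩⟩

end Groth.Agent.S16444
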