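import Groth.Statements.S16446
import Groth.Agent.SHEss.Contain
import Groth.Agent.EssEtLib.LocalHom
import Groth.Agent.S0540
-- import your own Groth.Agent.* helpers here

set_option autoImplicit false
universe u
open Hensel

namespace Groth.Agent.S16446

/-- Let A be an excellent henselian reduced local ring, S a strict henselization of A and Q a minimal
prime ideal of S with contraction q to A; let K be the fraction field of S/Q and L the subfield of K
generated over the image of A by a finite subset t of K. Then there is an A-subalgebra E of S, a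
local ring and an essentially etale local A-algebra, such that (i) every minimal prime ideal of S
over the ideal qS is generated by its contraction to E, and (ii) every element of S/Q whose image in
K lies in L is the class of an element of E — so that the intersection of L with S/Q equals its
intersection with the image of E. -/
theorem result
    (A S : Type u) [CommRing A] [HenselianLocalRing A] [IsReduced A] (hA : EGA4.IsExcellent A)
    [CommRing S] [IsLocalRing S] [Algebra A S] [IsLocalHom (algebraMap A S)]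
    [Hensel.IsStrictHenselization A S] (Q : Ideal S) (hQ : Q ∈ minimalPrimes S) [Q.IsPrime]
    (t : Finset (FractionRing (S ⧸ Q))) :
    ∃ E : Subalgebra A S, ∃ _ : IsLocalRing E, EGA4loc.IsEssentiallyEtale A E ∧
      (∀ Q' ∈ ((Q.comap (algebraMap A S)).map (algebraMap A S)).minimalPrimes,
        Q' = Ideal.map (algebraMap E S) (Q'.comap (algebraMap E S))) ∧
      ∀ x : S, algebraMap (S ⧸ Q) (FractionRing (S ⧸ Q)) (Ideal.Quotient.mk Q x) ∈
          Subfield.closure (Set.range (algebraMap A (FractionRing (S ⧸ Q))) ∪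
            (t : Set (FractionRing (S ⧸ Q)))) →
        ∃ e ∈ E, Ideal.Quotient.mk Q e = Ideal.Quotient.mk Q x := by
  classical
  haveI : IsNoetherianRing A := hA.1
  haveI : IsNoetherianRing S := (Groth.Agent.S0540.result A S).1 inferInstance
  let I : Ideal S := (Q.comap (algebraMap A S)).map (algebraMap A S)
  choose gens hgens using fun Q' : Ideal S => IsNoetherian.noetherian Q'
  choose num den hden heq using fun x : t => IsFractionRing.div_surjective (A := S ⧸ Q) (x : FractionRing (S ⧸ Q))
  let lift : S ⧸ Q → S := Function.surjInv Ideal.Quotient.mk_surjective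
  have hlift : ∀ y, Ideal.Quotient.mk Q (lift y) = y := Function.surjInv_eq Ideal.Quotient.mk_surjective
  obtain ⟨E, hsE, hEloc, hEl, hE⟩ := Groth.Agent.SHEss.exists_essEtale_subalgebra (A := A)
    ((Finset.univ.image fun x => lift (num x)) ∪ (Finset.univ.image fun x => lift (den x)) ∪
      I.finite_minimalPrimes_of_isNoetherianRing.toFinset.biUnion gens)
  haveI := hEl
  have hgen : ∀ Q' ∈ I.minimalPrimes, Q' = Ideal.map (algebraMap E S) (Q'.comap (algebraMap E S)) := by
    intro Q' hQ'
    refine le_antisymm ((hgens Q').symm.le.trans (Ideal.span_le.2 fun g hg => ?_)) Ideal.map_comap_le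
    have hgE : g ∈ E := hsE (Finset.mem_union_right _ (Finset.mem_biUnion.2
      ⟨Q', (Set.Finite.mem_toFinset _).2 hQ', hg⟩))
    exact Ideal.mem_map_of_mem (algebraMap E S) (show (⟨g, hgE⟩ : E) ∈ Q'.comap (algebraMap E S) from
      (hgens Q').le (Ideal.subset_span hg))
  refine ⟨E, hEloc, hE, hgen, ?_⟩
  have hQI : Q ∈ I.minimalPrimes :=
    ⟨⟨inferInstance, Ideal.map_comap_le⟩, fun J hJ hle => hQ.2 ⟨hJ.1, bot_le⟩ hle⟩
  haveI := Groth.Agent.EssEtLib.isLocalHom_algebraMap hE
  haveI := Groth.Agent.SHEss.isStrictHenselization_of_intermediate (S := S) hE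
  haveI := Groth.Agent.Hensel.faithfullyFlat_of_isStrictHenselization E S
  let K' := FractionRing (S ⧸ Q)
  let π : S →+* K' := (algebraMap (S ⧸ Q) K').comp (Ideal.Quotient.mk Q)
  have hπ : ∀ s, π s = 0 ↔ s ∈ Q := fun s => by
    show algebraMap (S ⧸ Q) K' _ = 0 ↔ _
    exact (map_eq_zero_iff _ (IsFractionRing.injective (S ⧸ Q) K')).trans Ideal.Quotient.eq_zero_iff_mem
  have hπl : ∀ y, π (lift y) = algebraMap (S ⧸ Q) K' y := fun y => congrArg (algebraMap (S ⧸ Q) K') (hlift y)
  have hπA : ∀ a, π (algebraMap A S a) = algebraMap A K' a := fun a => rfl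
  have key : ∀ z ∈ Subfield.closure (Set.range (algebraMap A K') ∪ (t : Set K')),
      ∃ b c : S, b ∈ E ∧ c ∈ E ∧ π c ≠ 0 ∧ z * π c = π b := by
    intro z hz
    induction hz using Subfield.closure_induction with
    | mem z hz =>
      rcases hz with ⟨a, rfl⟩ | hz
      · exact ⟨algebraMap A S a, 1, E.algebraMap_mem a, E.one_mem, by rw [map_one]; exact one_ne_zero,
          by rw [map_one, mul_one, hπA]⟩
      · have h0 : algebraMap (S ⧸ Q) K' (den ⟨z, hz⟩) ≠ 0 :=
          IsFractionRing.to_map_ne_zero_of_mem_nonZeroDivisors (hden _)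
        refine ⟨lift (num ⟨z, hz⟩), lift (den ⟨z, hz⟩),
          hsE (Finset.mem_union_left _ (Finset.mem_union_left _ (Finset.mem_image_of_mem _ (Finset.mem_univ _)))),
          hsE (Finset.mem_union_left _ (Finset.mem_union_right _ (Finset.mem_image_of_mem _ (Finset.mem_univ _)))),
          by rwa [hπl], ?_⟩
        rw [hπl, hπl]
        exact ((div_eq_iff h0).1 (heq ⟨z, hz⟩)).symm
    | one => exact ⟨1, 1, E.one_mem, E.one_mem, by rw [map_one]; exact one_ne_zero, one_mul _⟩
    | add x y _ _ hx hy =>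
      obtain ⟨b, c, hb, hc, h0, h⟩ := hx
      obtain ⟨b', c', hb', hc', h0', h'⟩ := hy
      exact ⟨b * c' + b' * c, c * c', E.add_mem (E.mul_mem hb hc') (E.mul_mem hb' hc), E.mul_mem hc hc',
        by rw [map_mul]; exact mul_ne_zero h0 h0', by rw [map_add, map_mul, map_mul, map_mul, ← h, ← h']; ring⟩
    | neg x _ hx =>
      obtain ⟨b, c, hb, hc, h0, h⟩ := hx
      exact ⟨-b, c, E.neg_mem hb, hc, h0, by rw [map_neg, neg_mul, h]⟩
    | inv x _ hx =>
      obtain ⟨b, c, hb, hc, h0, h⟩ := hx
      by_cases hx0 : x = 0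
      · exact ⟨0, 1, E.zero_mem, E.one_mem, by rw [map_one]; exact one_ne_zero, by rw [hx0, inv_zero, zero_mul, map_zero]⟩
      · exact ⟨c, b, hc, hb, h ▸ mul_ne_zero hx0 h0, by rw [← h, ← mul_assoc, inv_mul_cancel₀ hx0, one_mul]⟩
    | mul x y _ _ hx hy =>
      obtain ⟨b, c, hb, hc, h0, h⟩ := hx
      obtain ⟨b', c', hb', hc', h0', h'⟩ := hy
      exact ⟨b * b', c * c', E.mul_mem hb hb', E.mul_mem hc hc', by rw [map_mul]; exact mul_ne_zero h0 h0',
        by rw [map_mul, map_mul, ← h, ← h']; ring⟩
  intro x hx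
  obtain ⟨b, c, hb, hc, hc0, hbc⟩ := key _ hx
  have hxc : x * c - b ∈ Q := by
    rw [← hπ, map_sub, map_mul, sub_eq_zero]
    exact hbc
  let P : Ideal E := Q.comap (algebraMap E S)
  have h1 : (⟨b, hb⟩ : E) ∈ Ideal.span {(⟨c, hc⟩ : E)} ⊔ P := by
    rw [← Ideal.comap_map_eq_self_of_faithfullyFlat (B := S) (Ideal.span {(⟨c, hc⟩ : E)} ⊔ P), Ideal.mem_comap,
      Ideal.map_sup, ← hgen Q hQI, Ideal.map_span, Set.image_singleton]
    exact Submodule.mem_sup.2 ⟨x * c, Ideal.mem_span_singleton'.2 ⟨x, rfl⟩, -(x * c - b), Q.neg_mem hxc, by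
      show x * c + -(x * c - b) = b
      ring⟩
  obtain ⟨u, hu, p, hp, hup⟩ := Submodule.mem_sup.1 h1
  obtain ⟨e, rfl⟩ := Ideal.mem_span_singleton'.1 hu
  have h2 : (e : S) * c + (p : S) = b := congrArg Subtype.val hup
  refine ⟨e, e.2, ?_⟩
  have h3 : c * (x - e) ∈ Q := by
    have : c * (x - (e : S)) = (x * c - b) + (p : S) := by rw [← h2]; ring
    rw [this]
    exact Q.add_mem hxc hp
  refine Ideal.Quotient.eq.2 ?_
  rw [← neg_sub]
  exact Q.neg_mem (((inferInstance : Q.IsPrime).mem_or_mem h3).resolve_left fun h => hc0 ((hπ c).2 h))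

end Groth.Agent.S16446
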