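import Groth.Statements.S16447
import Groth.Agent.S16448
import Groth.Agent.EtAlg7.EssEtale
import Groth.Agent.BrnchLib.NormBij
import Groth.Agent.Hensel.EtaleReduced
import Groth.Agent.Hensel.HenselizationDescent
-- import your own Groth.Agent.* helpers here

set_option autoImplicit false
universe u
open EGA4loc

namespace Groth.Agent.S16447

theorem isMaximal_comap_aux {A C R : Type*} [CommRing A] [CommRing C] [CommRing R] (α : A →+* C) (f : C →+* R)
    (M : Ideal R) [M.IsMaximal] (h : ((Ideal.Quotient.mk M).comp (f.comp α)).IsIntegral) :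
    (M.comap f).IsMaximal := by
  let θ : C ⧸ M.comap f →+* R ⧸ M := Ideal.quotientMap M f le_rfl
  have hθ : Function.Injective θ := Ideal.quotientMap_injective
  have hint : ((Ideal.Quotient.mk (M.comap f)).comp α).IsIntegral := fun x => by
    obtain ⟨p, hp, hpx⟩ := h (θ x)
    refine ⟨p, hp, hθ ?_⟩
    rw [map_zero, Polynomial.hom_eval₂]
    exact hpx
  haveI : (⊥ : Ideal (R ⧸ M)).IsMaximal := by
    letI := Ideal.Quotient.field M
    exact Ideal.bot_isMaximal
  have h1 := Ideal.isMaximal_comap_of_isIntegral_of_isMaximal' _ h (⊥ : Ideal (R ⧸ M))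
  haveI : (M.comap f).IsPrime := Ideal.IsPrime.comap _
  have h2 : ((⊥ : Ideal (C ⧸ M.comap f)).comap ((Ideal.Quotient.mk (M.comap f)).comp α)).IsMaximal := by
    convert h1 using 1
    ext a
    simp only [Ideal.mem_comap, Ideal.mem_bot]
    exact (map_eq_zero_iff θ hθ).symm
  haveI : (⊥ : Ideal (C ⧸ M.comap f)).IsPrime := Ideal.isPrime_bot
  have h3 := Ideal.isMaximal_of_isIntegral_of_isMaximal_comap' _ hint (⊥ : Ideal (C ⧸ M.comap f)) h2
  exact Ideal.Quotient.maximal_of_isField _ (Ring.isField_iff_maximal_bot.2 h3)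

/-- Let A be a Noetherian reduced local ring, E a local ring which is an essentially etale local
A-algebra with local structure map, K_E the total ring of fractions of E, E' the integral closure of
E in K_E (viewed as an A-subalgebra of K_E), and L an A-subalgebra of K_E containing an inverse of
the image of every non-zero-divisor of A. Let C be the A-subalgebra L ⊓ E' of K_E. Then C is
integrally closed in L, C has only finitely many maximal ideals, the maximal ideals of C are exactly
the contractions of the maximal ideals of E', and every element of L is an element of C times the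
inverse of the image of a non-zero-divisor of A. (The published statement assumes only that A is
reduced; its proof uses that the integral closure of E in K_E has finitely many maximal ideals,
which holds when A is Noetherian and can fail otherwise, so A is taken Noetherian here.) -/
theorem result
    (A E : Type u) [CommRing A] [IsLocalRing A] [IsReduced A] [IsNoetherianRing A]
    [CommRing E] [IsLocalRing E] [Algebra A E] [IsLocalHom (algebraMap A E)]
    (hE : EGA4loc.IsEssentiallyEtale A E) (L : Subalgebra A (FractionRing E))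
    (hL : ∀ s ∈ nonZeroDivisors A, ∃ y ∈ L, algebraMap A (FractionRing E) s * y = 1)
    (C : Subalgebra A (FractionRing E))
    (hC : C = L ⊓ (integralClosure E (FractionRing E)).restrictScalars A) :
    (∀ x ∈ L, IsIntegral C x → x ∈ C) ∧
      {N : Ideal C | N.IsMaximal}.Finite ∧
      (∀ N : Ideal C, N.IsMaximal ↔ ∃ M : Ideal ((integralClosure E (FractionRing E)).restrictScalars A),
          M.IsMaximal ∧ N = M.comap (Subalgebra.inclusion (hC.trans_le inf_le_right))) ∧
      ∀ l ∈ L, ∃ c ∈ C, ∃ s ∈ nonZeroDivisors A, ∃ y ∈ L,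
        algebraMap A (FractionRing E) s * y = 1 ∧ l = c * y := by
  classical
  have hmin : (minimalPrimes A).Finite := minimalPrimes.finite_of_isNoetherianRing A
  obtain ⟨hloc, t, ht⟩ := Groth.Agent.S16448.result A E hmin hE
  haveI := hloc
  haveI := Groth.Agent.EssEtFrac5.isArtinianRing_fractionRing hmin
  haveI := Groth.Agent.EtAlg7.formallyUnramified hE
  haveI := Groth.Agent.EtAlg7.essFiniteType hE
  haveI : IsNoetherianRing E := Algebra.EssFiniteType.isNoetherianRing A E
  haveI : IsReduced E := by
    obtain ⟨B₀, _, _, q, _, _, _, hB₀, -, hl⟩ := Groth.Agent.EtAlg7.exists_presentation hE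
    haveI := hB₀
    haveI := Groth.Agent.Hensel.isReduced_of_etale A B₀
    exact isReduced_localizationPreserves q.primeCompl E inferInstance
  let K := FractionRing A
  let KE := FractionRing E
  let E' := (integralClosure E KE).restrictScalars A
  have hu : ∀ a : nonZeroDivisors A, IsUnit (algebraMap A KE a) := fun a => by
    obtain ⟨y, -, hy⟩ := hL a a.2
    exact IsUnit.of_mul_eq_one _ hy
  -- units of `E'` lying in `L` have inverses in `L`
  let g : K →ₐ[A] KE := IsLocalization.liftAlgHom (M := nonZeroDivisors A) (f := Algebra.ofId A KE) hu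
  letI : Algebra K KE := g.toRingHom.toAlgebra
  haveI : IsScalarTower A K KE := IsScalarTower.of_algebraMap_eq fun a => (g.commutes a).symm
  have hK : ∀ c : K, algebraMap K KE c ∈ L := fun c => by
    obtain ⟨r, a, rfl⟩ := IsLocalization.exists_mk'_eq (nonZeroDivisors A) c
    rw [IsLocalization.mk'_eq_mul_mk'_one, map_mul, ← IsScalarTower.algebraMap_apply A K KE]
    obtain ⟨y, hy, hy'⟩ := hL a a.2
    refine L.mul_mem (L.algebraMap_mem r) ?_
    have : algebraMap A KE a * algebraMap K KE (IsLocalization.mk' K 1 a) = 1 := by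
      rw [IsScalarTower.algebraMap_apply A K KE, ← map_mul, mul_comm, IsLocalization.mk'_spec, map_one, map_one]
    rwa [(hu a).mul_left_cancel (this.trans hy'.symm)]
  let L' : Submodule K KE :=
    { L.toSubsemiring.toAddSubmonoid with
      smul_mem' := fun c x hx => by rw [Algebra.smul_def]; exact L.mul_mem (hK c) hx }
  haveI : Module.Finite K KE := ⟨⟨t, eq_top_iff.2 fun x _ => by
    obtain ⟨a, ha, hx⟩ := ht x
    have h1 : algebraMap A KE a * x ∈ Submodule.span K (t : Set KE) := Submodule.span_le_restrictScalars A K _ hx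
    have h2 := Submodule.smul_mem _ (IsLocalization.mk' K (1 : A) ⟨a, ha⟩) h1
    rwa [Algebra.smul_def, ← mul_assoc, IsScalarTower.algebraMap_apply A K KE, ← map_mul,
      IsLocalization.mk'_spec, map_one, map_one, one_mul] at h2⟩⟩
  haveI : IsNoetherian K KE := inferInstance
  haveI : IsArtinian K ↥L' := inferInstance
  have hunit : ∀ l ∈ L, ∀ v, l * v = 1 → v ∈ L := fun l hl v hv => by
    let μ : ↥L' →ₗ[K] ↥L' :=
      { toFun := fun x => ⟨l * x, L.mul_mem hl x.2⟩
        map_add' := fun x y => Subtype.ext (mul_add l x.1 y.1)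
        map_smul' := fun c x => Subtype.ext (mul_smul_comm c l x.1) }
    have hμ : Function.Injective μ := fun x y h => Subtype.ext ((IsUnit.of_mul_eq_one v hv).mul_left_cancel (congrArg Subtype.val h))
    obtain ⟨⟨y, hy⟩, hy'⟩ := (IsArtinian.bijective_of_injective_endomorphism μ hμ).2 ⟨1, L.one_mem⟩
    have : l * y = l * v := (congrArg Subtype.val hy').trans hv.symm
    rwa [← (IsUnit.of_mul_eq_one v hv).mul_left_cancel this]
  subst hC
  set C : Subalgebra A KE := L ⊓ E'
  -- finitely many maximal ideals upstairs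
  haveI : Finite (MaximalSpectrum E') := by
    let e₀ : E ≃+* CAlg2.red E := RingEquiv.ofBijective (Ideal.Quotient.mk (nilradical E))
      ⟨by
        rw [injective_iff_map_eq_zero]
        intro x hx
        rwa [Ideal.Quotient.eq_zero_iff_mem, nilradical_eq_zero, Ideal.zero_eq_bot, Ideal.mem_bot] at hx,
        Ideal.Quotient.mk_surjective⟩
    let eK : KE ≃+* FractionRing (CAlg2.red E) := IsFractionRing.ringEquivOfRingEquiv e₀
    have heK : ∀ x : E, eK (algebraMap E KE x) = algebraMap (CAlg2.red E) _ (e₀ x) := fun x =>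
      IsFractionRing.ringEquivOfRingEquiv_algebraMap e₀ x
    have hint : ∀ z, z ∈ E' ↔ IsIntegral (CAlg2.red E) (eK z) := fun z => by
      show IsIntegral E z ↔ _
      constructor
      · rintro ⟨p, hp, hpz⟩
        refine ⟨p.map e₀.toRingHom, hp.map _, ?_⟩
        rw [Polynomial.eval₂_map, show (algebraMap (CAlg2.red E) (FractionRing (CAlg2.red E))).comp e₀.toRingHom =
          eK.toRingHom.comp (algebraMap E KE) from RingHom.ext fun x => (heK x).symm]
        exact (Polynomial.hom_eval₂ p _ eK.toRingHom z).symm.trans (by rw [hpz, map_zero])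
      · rintro ⟨p, hp, hpz⟩
        refine ⟨p.map e₀.symm.toRingHom, hp.map _, eK.injective ?_⟩
        rw [map_zero, Polynomial.eval₂_map]
        refine (Polynomial.hom_eval₂ p _ eK.toRingHom z).trans ?_
        rw [← RingHom.comp_assoc, show (eK.toRingHom.comp (algebraMap E KE)).comp e₀.symm.toRingHom =
          algebraMap (CAlg2.red E) (FractionRing (CAlg2.red E)) from RingHom.ext fun x => by
            show eK (algebraMap E KE (e₀.symm x)) = _
            rw [heK, e₀.apply_symm_apply]]
        exact hpz
    let j : E' →+* CAlg2.normRed E :=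
      (eK.toRingHom.comp E'.val.toRingHom).codRestrict (integralClosure (CAlg2.red E) (FractionRing (CAlg2.red E)))
        fun z => (hint z).1 z.2
    have hj : Function.Bijective j := ⟨fun a b h => Subtype.ext (eK.injective (congrArg Subtype.val h)), fun w =>
      ⟨⟨eK.symm w, (hint _).2 (by rw [eK.apply_symm_apply]; exact w.2)⟩, Subtype.ext (eK.apply_symm_apply _)⟩⟩
    haveI : IsNoetherianRing (Groth.Agent.Hensel.LocalHenz E) :=
      Groth.Agent.Hensel.isNoetherianRing_henz (R := E) (L := IsLocalRing.ResidueField E)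
    haveI : Finite (minimalPrimes E) := (minimalPrimes.finite_of_isNoetherianRing E).to_subtype
    obtain ⟨e⟩ := Groth.Agent.BrnchLib.nonempty_minimalPrimes_equiv_maximalSpectrum E
      (Groth.Agent.Hensel.LocalHenz E) (CAlg2.normRed E)
      (fun m _ => Groth.Agent.BrnchLib.isDomain_normal_localization (Groth.Agent.BrnchLib.comps E) m)
      (Groth.Agent.BrnchLib.bijOn_normRed E) (Groth.Agent.BrnchLib.birational_normRed E)
    haveI : Finite (minimalPrimes (Groth.Agent.Hensel.LocalHenz E)) :=
      (minimalPrimes.finite_of_isNoetherianRing _).to_subtype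
    haveI : Finite (MaximalSpectrum (CAlg2.normRed E)) := Finite.of_equiv _ e
    let jE := RingEquiv.ofBijective j hj
    refine Finite.of_surjective (fun m : MaximalSpectrum (CAlg2.normRed E) =>
      (⟨m.asIdeal.comap jE, by haveI := m.isMaximal; exact Ideal.comap_isMaximal_of_surjective _ jE.surjective⟩ :
        MaximalSpectrum E')) fun M => ?_
    refine ⟨⟨M.asIdeal.map jE, by haveI := M.isMaximal; exact Ideal.map_isMaximal_of_equiv jE⟩, ?_⟩
    exact MaximalSpectrum.ext (Ideal.comap_map_of_bijective jE jE.bijective)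
  let ι : C →ₐ[A] E' := Subalgebra.inclusion inf_le_right
  have hcu : ∀ c : C, IsUnit (ι c) → IsUnit c := fun c hc => by
    obtain ⟨v, hv⟩ := hc.exists_right_inv
    have hvv : (c : KE) * (v : KE) = 1 := congrArg Subtype.val hv
    exact IsUnit.of_mul_eq_one (⟨v, hunit _ c.2.1 _ hvv, v.2⟩ : C) (Subtype.ext hvv)
  -- contractions of maximal ideals are maximal
  let incE : E →ₐ[A] E' := (IsScalarTower.toAlgHom A E KE).codRestrict E' fun x => isIntegral_algebraMap
  have hincE : incE.toRingHom.IsIntegral := fun z => by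
    obtain ⟨p, hp, hpz⟩ := z.2
    refine ⟨p, hp, Subtype.ext ?_⟩
    show ((Polynomial.eval₂ incE.toRingHom z p : E') : KE) = 0
    exact (Polynomial.hom_eval₂ p incE.toRingHom E'.val.toRingHom z).trans hpz
  have hmax : ∀ M : Ideal E', M.IsMaximal → (M.comap ι).IsMaximal := by
    intro M hM
    have hME : M.comap incE.toRingHom = IsLocalRing.maximalIdeal E :=
      IsLocalRing.eq_maximalIdeal (Ideal.isMaximal_comap_of_isIntegral_of_isMaximal' incE.toRingHom hincE M)
    haveI := hM
    have hmM : ∀ a ∈ IsLocalRing.maximalIdeal A, algebraMap A E' a ∈ M := fun a ha => by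
      have : algebraMap A E a ∈ M.comap incE.toRingHom := hME ▸ map_nonunit (algebraMap A E) a ha
      rw [Ideal.mem_comap] at this
      exact incE.commutes a ▸ this
    letI := Ideal.Quotient.field M
    let φ : IsLocalRing.ResidueField A →+* E' ⧸ M :=
      Ideal.Quotient.lift _ ((Ideal.Quotient.mk M).comp (algebraMap A E')) fun a ha =>
        Ideal.Quotient.eq_zero_iff_mem.2 (hmM a ha)
    have hφint : φ.IsIntegral := by
      intro w
      obtain ⟨z, rfl⟩ := Ideal.Quotient.mk_surjective w
      let ψ : IsLocalRing.ResidueField E →+* E' ⧸ M :=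
        Ideal.Quotient.lift _ ((Ideal.Quotient.mk M).comp incE.toRingHom) fun x hx =>
          Ideal.Quotient.eq_zero_iff_mem.2 (hME.ge hx)
      have hcomp : ψ.comp (algebraMap (IsLocalRing.ResidueField A) (IsLocalRing.ResidueField E)) = φ :=
        Ideal.Quotient.ringHom_ext (RingHom.ext fun a => congrArg (Ideal.Quotient.mk M) (incE.commutes a))
      have h1 : ψ.IsIntegralElem (Ideal.Quotient.mk M z) := by
        obtain ⟨p, hp, hpz⟩ := hincE z
        refine ⟨p.map (IsLocalRing.residue E), hp.map _, ?_⟩
        rw [Polynomial.eval₂_map]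
        exact (Polynomial.hom_eval₂ p incE.toRingHom (Ideal.Quotient.mk M) z).symm.trans (by rw [hpz, map_zero])
      haveI : Algebra.IsIntegral (IsLocalRing.ResidueField A) (IsLocalRing.ResidueField E) := inferInstance
      letI : Algebra (IsLocalRing.ResidueField E) (E' ⧸ M) := ψ.toAlgebra
      letI : Algebra (IsLocalRing.ResidueField A) (E' ⧸ M) := φ.toAlgebra
      haveI : IsScalarTower (IsLocalRing.ResidueField A) (IsLocalRing.ResidueField E) (E' ⧸ M) :=
        IsScalarTower.of_algebraMap_eq fun x => (RingHom.congr_fun hcomp x).symm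
      exact isIntegral_trans (R := IsLocalRing.ResidueField A) (A := IsLocalRing.ResidueField E) _ h1
    exact isMaximal_comap_aux (algebraMap A C) ι.toRingHom M
      ((RingHom.isIntegral_of_surjective _ IsLocalRing.residue_surjective).trans (IsLocalRing.residue A) φ hφint)
  have hchar : ∀ N : Ideal C, N.IsMaximal → ∃ M : Ideal E', M.IsMaximal ∧ N = M.comap ι := by
    intro N hN
    haveI := Fintype.ofFinite (MaximalSpectrum E')
    have hsub : (N : Set C) ⊆ ⋃ M ∈ (↑(Finset.univ : Finset (MaximalSpectrum E')) : Set (MaximalSpectrum E')),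
        ((M.asIdeal.comap ι : Ideal C) : Set C) := by
      intro c hc
      have hnu : ¬ IsUnit (ι c) := fun h => hN.ne_top (Ideal.eq_top_of_isUnit_mem _ hc (hcu c h))
      obtain ⟨M, hM, hcM⟩ := exists_max_ideal_of_mem_nonunits hnu
      exact Set.mem_biUnion (Finset.mem_univ (⟨M, hM⟩ : MaximalSpectrum E')) hcM
    obtain ⟨M₀, hM₀⟩ : ∃ M : MaximalSpectrum E', M ∈ (Finset.univ : Finset (MaximalSpectrum E')) :=
      ⟨⟨(Ideal.exists_maximal E').choose, (Ideal.exists_maximal E').choose_spec⟩, Finset.mem_univ _⟩
    obtain ⟨M, -, hNM⟩ := (Ideal.subset_union_prime M₀ M₀ (fun M _ _ _ => by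
      haveI := M.isMaximal
      exact Ideal.IsPrime.comap _)).1 hsub
    exact ⟨M.asIdeal, M.isMaximal, hN.eq_of_le (hmax _ M.isMaximal).ne_top hNM⟩
  refine ⟨fun x hx hxi => ⟨hx, ?_⟩, ?_, fun N => ⟨hchar N, ?_⟩, fun l hl => ?_⟩
  · have h1 : IsIntegral (integralClosure E KE) x := by
      obtain ⟨p, hp, hpx⟩ := hxi
      refine ⟨p.map (C.val.toRingHom.codRestrict (integralClosure E KE) fun c => c.2.2), hp.map _, ?_⟩
      rw [Polynomial.eval₂_map]
      exact hpx
    exact isIntegral_trans (R := E) (A := integralClosure E KE) x h1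
  · refine (Set.finite_range fun M : MaximalSpectrum E' => M.asIdeal.comap ι).subset fun N hN => ?_
    obtain ⟨M, hM, rfl⟩ := hchar N hN
    exact ⟨⟨M, hM⟩, rfl⟩
  · rintro ⟨M, hM, rfl⟩
    exact hmax M hM
  · obtain ⟨e, ⟨_, a, ha, rfl⟩, rfl⟩ := IsLocalization.exists_mk'_eq ((nonZeroDivisors A).map (algebraMap A E)) l
    obtain ⟨y, hy, hy'⟩ := hL a ha
    have h1 : IsLocalization.mk' KE e (⟨_, a, ha, rfl⟩ : (nonZeroDivisors A).map (algebraMap A E)) * algebraMap A KE a =
        algebraMap E KE e := by
      rw [IsScalarTower.algebraMap_apply A E KE]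
      exact IsLocalization.mk'_spec KE e _
    refine ⟨algebraMap E KE e, ⟨?_, isIntegral_algebraMap⟩, a, ha, y, hy, hy', ?_⟩
    · exact h1 ▸ L.mul_mem hl (L.algebraMap_mem a)
    · rw [← h1, mul_assoc, hy', mul_one]

end Groth.Agent.S16447
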