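import Groth.Statements.S16449
import Groth.Agent.SHEss.NormFinite
import Groth.Agent.SHEss.NormTrace
import Groth.Agent.SHEss.SemilocalFinite
-- import your own Groth.Agent.* helpers here

set_option autoImplicit false
set_option maxHeartbeats 1000000
set_option synthInstance.maxHeartbeats 200000
universe u
open EGA4loc

namespace Groth.Agent.S16449

/-- Let A be an excellent reduced local ring, E a local ring which is an essentially etale local
A-algebra with local structure map, and D an A-subalgebra of E which is a local ring dominated by E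
(local inclusion). Inside the total ring of fractions K_E of E, let D' be the normalization of D —
the elements of K_E integral over D which are carried into D by the image of some non-zero-divisor
of A (these are the elements of the total ring of fractions of D) — and let E' be the integral
closure of E. Suppose that D' has finitely many maximal ideals and that the inclusion D' → E' is a
semilocal morphism: maximal ideals of E' contract to maximal ideals of D', and every maximal ideal
of D' arises this way. Then D is essentially of finite type over A. -/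
theorem result
    (A E : Type u) [CommRing A] [IsLocalRing A] [IsReduced A] (hA : EGA4.IsExcellent A)
    [CommRing E] [IsLocalRing E] [Algebra A E] [IsLocalHom (algebraMap A E)]
    (hE : EGA4loc.IsEssentiallyEtale A E)
    (D : Subalgebra A E) [IsLocalRing D] [IsLocalHom (algebraMap D E)]
    (D' : Subalgebra A (FractionRing E))
    (hD' : ∀ x : (FractionRing E), x ∈ D' ↔ (IsIntegral D x ∧
      ∃ a ∈ nonZeroDivisors A, ∃ d ∈ D, algebraMap A (FractionRing E) a * x = algebraMap E (FractionRing E) d))
    (hle : D' ≤ ((integralClosure E (FractionRing E)).restrictScalars A))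
    (hfin : {N : Ideal D' | N.IsMaximal}.Finite)
    (hmax : ∀ M : Ideal ((integralClosure E (FractionRing E)).restrictScalars A), M.IsMaximal → (M.comap (Subalgebra.inclusion hle)).IsMaximal)
    (hsurj : ∀ N : Ideal D', N.IsMaximal →
      ∃ M : Ideal ((integralClosure E (FractionRing E)).restrictScalars A), M.IsMaximal ∧ M.comap (Subalgebra.inclusion hle) = N) :
    Algebra.EssFiniteType A D := by
  classical
  haveI : IsNoetherianRing A := hA.1
  let KE := FractionRing E
  have hmin : (minimalPrimes A).Finite := minimalPrimes.finite_of_isNoetherianRing A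
  haveI := (Groth.Agent.S16448.result A E hmin hE).1
  have hu : ∀ a ∈ nonZeroDivisors A, IsUnit (algebraMap A KE a) := fun a ha => by
    rw [IsScalarTower.algebraMap_apply A E KE]
    exact IsLocalization.map_units KE (⟨_, a, ha, rfl⟩ : (nonZeroDivisors A).map (algebraMap A E))
  let L : Subalgebra A KE :=
    { carrier := {x | ∃ a ∈ nonZeroDivisors A, ∃ d ∈ D, algebraMap A KE a * x = algebraMap E KE d}
      mul_mem' := by
        rintro x y ⟨a, ha, d, hd, h⟩ ⟨a', ha', d', hd', h'⟩
        exact ⟨a * a', mul_mem ha ha', d * d', D.mul_mem hd hd', by rw [map_mul, map_mul, ← h, ← h']; ring⟩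
      add_mem' := by
        rintro x y ⟨a, ha, d, hd, h⟩ ⟨a', ha', d', hd', h'⟩
        refine ⟨a * a', mul_mem ha ha', algebraMap A E a' * d + algebraMap A E a * d',
          D.add_mem (D.mul_mem (D.algebraMap_mem a') hd) (D.mul_mem (D.algebraMap_mem a) hd'), ?_⟩
        rw [map_add (algebraMap E KE), map_mul (algebraMap E KE), map_mul (algebraMap E KE),
          ← IsScalarTower.algebraMap_apply, ← IsScalarTower.algebraMap_apply, map_mul, ← h, ← h']
        ring
      algebraMap_mem' := fun r => ⟨1, one_mem _, algebraMap A E r, D.algebraMap_mem r, by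
        rw [map_one, one_mul, ← IsScalarTower.algebraMap_apply]⟩ }
  have hL : ∀ a ∈ nonZeroDivisors A, ∃ y ∈ L, algebraMap A KE a * y = 1 := fun a ha => by
    obtain ⟨y, hy⟩ := (hu a ha).exists_right_inv
    exact ⟨y, ⟨a, ha, 1, D.one_mem, by rw [hy, map_one]⟩, hy⟩
  haveI : IsLocalHom (algebraMap A D) := ⟨fun a ha =>
    isUnit_of_map_unit (algebraMap A E) a (ha.map D.val)⟩
  let j : D →ₐ[A] D' := ((IsScalarTower.toAlgHom A E KE).comp D.val).codRestrict D' fun d =>
    (hD' _).2 ⟨isIntegral_algebraMap, 1, one_mem _, d, d.2, by rw [map_one, one_mul]; rfl⟩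
  letI : Algebra D D' := j.toRingHom.toAlgebra
  haveI : IsScalarTower A D D' := IsScalarTower.of_algebraMap_eq fun a => (j.commutes a).symm
  haveI : IsScalarTower D D' KE := IsScalarTower.of_algebraMap_eq fun d => rfl
  haveI : Algebra.IsIntegral D D' := ⟨fun z =>
    (isIntegral_algHom_iff (IsScalarTower.toAlgHom D D' KE) Subtype.val_injective).1 ((hD' _).1 z.2).1⟩
  let C₀ := integralClosure A KE
  haveI : Module.Finite A C₀ := Groth.Agent.SHEss.finite_integralClosure_essEtale A E hA hE
  let B : Subalgebra A D' := (L ⊓ C₀).comap D'.val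
  have hB₀ : ∀ z : KE, z ∈ L → IsIntegral A z → z ∈ D' := fun z hz hzi =>
    (hD' z).2 ⟨hzi.tower_top, hz⟩
  haveI : Module.Finite A B := by
    let f : B →ₗ[A] C₀ := ((D'.val.comp B.val).codRestrict C₀ fun z => z.2.2).toLinearMap
    exact Module.Finite.of_injective f fun x y h =>
      Subtype.ext (Subtype.ext (congrArg (fun z : C₀ => (z : KE)) h))
  refine Groth.Agent.SHEss.essFiniteType_of_semilocal A D D' (fun x y h => ?_) B hfin fun x => ?_
  · exact Subtype.ext (IsFractionRing.injective E KE (congrArg Subtype.val h))
  haveI := hfin.to_subtype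
  haveI := Fintype.ofFinite {N : Ideal D' | N.IsMaximal}
  let I : Ideal B :=
    { carrier := {s | (s : D') * x ∈ B}
      add_mem' := fun {s t} hs ht => by
        show ((s : D') + (t : D')) * x ∈ B
        rw [add_mul]; exact B.add_mem hs ht
      zero_mem' := by
        show (0 : D') * x ∈ B
        rw [zero_mul]; exact B.zero_mem
      smul_mem' := fun c s hs => by
        show (c : D') * (s : D') * x ∈ B
        rw [mul_assoc]; exact B.mul_mem c.2 hs }
  obtain ⟨s, hsI, hs⟩ := Groth.Agent.SHEss.exists_mem_isUnit_of_semilocal (R := B) B.val.toRingHom hfin I fun N hN => by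
    obtain ⟨M, hM, hMN⟩ := hsurj N hN
    haveI := hM
    obtain ⟨t, htL, htA, htM, htx⟩ := Groth.Agent.SHEss.exists_integral_multiplier A E hE L hL (x : KE)
      ((hD' _).1 x.2).2 (hle x.2) M
    have htD : t ∈ D' := hB₀ t htL htA
    have htB : (⟨t, htD⟩ : D') ∈ B := ⟨htL, htA⟩
    have h1 : (⟨⟨t, htD⟩, htB⟩ : B) ∈ I := ⟨L.mul_mem htL ((hD' _).1 x.2).2, htx⟩
    refine ⟨_, h1, fun h2 => ?_⟩
    replace h2 : (⟨t, htD⟩ : D') ∈ N := h2
    rw [← hMN] at h2
    exact htM (hle htD) h2
  exact ⟨s, s.2, hs, hsI⟩

end Groth.Agent.S16449
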