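import Groth.Statements.S1645
import Groth.Agent.PicGlue.PoleSectionsGen
import Groth.Agent.VeryAmple.Main
-- import your own Groth.Agent.* helpers here

set_option autoImplicit false
universe u
open CategoryTheory CategoryTheory.Limits AlgebraicGeometry
open Variety

namespace Groth.Agent.S1645

/-- Let X be integral and separated and U a nonempty affine open outside of which there are only
finitely many points, each with a one-dimensional Noetherian local ring. Then there are a globally
generated invertible module L and a global section s with U equal to the locus where s generates L. -/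
theorem result (X : Scheme.{u}) [IsIntegral X] [X.IsSeparated]
    (U : X.Opens) (hU : IsAffineOpen U) (hne : (U : Set X).Nonempty) (hfin : ((U : Set X)ᶜ).Finite)
    (hloc : ∀ x : X, x ∉ U → IsNoetherianRing (X.presheaf.stalk x) ∧ ringKrullDim (X.presheaf.stalk x) = 1) :
    ∃ (L : X.Modules) (s : Coh.structureModule X ⟶ L), PicF.IsInvertible L ∧ Curv2.IsGloballyGenerated L ∧
      CohB1.genLocus L s = U := by
  classical
  haveI : QuasiCompact U.ι := by
    haveI := hU
    haveI : CompactSpace (U : Scheme.{u}) := isCompact_iff_compactSpace.1 hU.isCompact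
    exact QuasiCompact.of_comp (f := U.ι) (g := Limits.terminal.from X)
  have hle : ∀ x : X, x ∉ U → IsNoetherianRing (X.presheaf.stalk x) ∧ ringKrullDim (X.presheaf.stalk x) ≤ 1 :=
    fun x hx => ⟨(hloc x hx).1, (hloc x hx).2.le⟩
  have hη : genericPoint X ∈ U := ((genericPoint_spec X).mem_open_set_iff U.2).2 (by simpa using hne)
  have hiso : ∀ z x : X, z ∉ U → x ∉ U → z ⤳ x → z = x := by
    intro z x hz hx hzx
    by_contra hzne
    haveI := (hle x hx).1
    exact hz ((Groth.Agent.PicGlue.generalisations (hle x hx).2).2 (genericPoint X) (genericPoint_specializes x)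
      (fun e => hx (e ▸ hη)) z hzx hzne (genericPoint_specializes z) ▸ hη)
  haveI : Finite ↥((U : Set X)ᶜ) := hfin.to_subtype
  haveI : T1Space ↥((U : Set X)ᶜ) :=
    t1Space_iff_specializes_imp_eq.2 fun a b hab => Subtype.ext (hiso a.1 b.1 a.2 b.2 (hab.map continuous_subtype_val))
  obtain ⟨L, s, t, hL, hs, ht⟩ := Groth.Agent.PicGlue.exists_two_sections' U hU hfin inferInstance hle
  refine ⟨L, InvX.ofSect s, hL, ?_, ?_⟩
  · refine InvX.isGloballyGenerated_of_generated (ι := ULift.{u} Bool) (s := fun b => if b.down then s else t) ?_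
    refine Groth.Agent.VeryAmple.generatedBy_of_locus _ fun y => ?_
    rcases ht y with hy | hy
    · exact ⟨⟨true⟩, show y ∈ CohB1.genLocus L (InvX.ofSect s) by rw [Groth.Agent.AmpleX.genLocus_eq_locus, InvX.one_ofSect, hs]; exact hy⟩
    · exact ⟨⟨false⟩, show y ∈ CohB1.genLocus L (InvX.ofSect t) by rw [Groth.Agent.AmpleX.genLocus_eq_locus, InvX.one_ofSect]; exact hy⟩
  · rw [Groth.Agent.AmpleX.genLocus_eq_locus, InvX.one_ofSect, hs]

end Groth.Agent.S1645
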