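import Groth.Statements.S16450
import Groth.Agent.SHEss.PtsCriterion
import Groth.Agent.SHEss.TensorNorm
import Groth.Agent.S16449
import Groth.Agent.S16441
import Groth.Agent.S16438
-- import your own Groth.Agent.* helpers here

set_option autoImplicit false
set_option maxHeartbeats 4000000
set_option synthInstance.maxHeartbeats 200000
universe u
open scoped TensorProduct
open EGA4loc

namespace Groth.Agent.S16450

open IsLocalRing TensorProduct in
/-- Maximal ideals of an integral extension of a local ring are kernels of geometric points. -/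
theorem exists_point_ker {D D' Ω : Type u} [CommRing D] [IsLocalRing D] [CommRing D'] [Field Ω] [IsAlgClosed Ω]
    (ι : D →+* D') (hι : ι.IsIntegral) (jD : D →+* Ω) (hjD : RingHom.ker jD = maximalIdeal D)
    (N : Ideal D') (hN : N.IsMaximal) : ∃ σ : D' →+* Ω, σ.comp ι = jD ∧ RingHom.ker σ = N := by
  haveI := hN
  letI := Ideal.Quotient.field N
  have hND : N.comap ι = maximalIdeal D :=
    IsLocalRing.eq_maximalIdeal (Ideal.isMaximal_comap_of_isIntegral_of_isMaximal' ι hι N)
  obtain ⟨σ, hσ⟩ := Groth.Agent.SHEss.exists_point_extension ((Ideal.Quotient.mk N).comp ι)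
    (RingHom.IsIntegral.trans ι _ hι (RingHom.isIntegral_of_surjective _ Ideal.Quotient.mk_surjective)) jD
    (hjD ▸ inferInstance) (by rw [← RingHom.comap_ker, Ideal.mk_ker, hND, hjD])
  refine ⟨σ.comp (Ideal.Quotient.mk N), by rw [RingHom.comp_assoc, hσ], ?_⟩
  rw [← RingHom.comap_ker, (RingHom.injective_iff_ker_eq_bot σ).1 (RingHom.injective σ), ← RingHom.ker_eq_comap_bot,
    Ideal.mk_ker]

open IsLocalRing TensorProduct in
/-- The forward direction. -/
theorem forward (A S : Type u) [CommRing A] [IsLocalRing A] [IsReduced A] (hA : EGA4.IsExcellent A)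
    [CommRing S] [IsLocalRing S] [Algebra A S] [IsLocalHom (algebraMap A S)]
    [Hensel.IsStrictHenselization A S] (D : Subalgebra A S) [IsLocalRing D]
    [IsLocalHom (algebraMap D S)] (hD : EGA4loc.IsEssentiallyEtale A D)
    (A' D' : Subalgebra A (FractionRing S))
    (hA' : ∀ x : (FractionRing S), x ∈ A' ↔ (IsIntegral A x ∧
      ∃ a ∈ nonZeroDivisors A, ∃ b : A, algebraMap A (FractionRing S) a * x = algebraMap A (FractionRing S) b))
    (hD' : ∀ x : (FractionRing S), x ∈ D' ↔ (IsIntegral D x ∧
      ∃ a ∈ nonZeroDivisors A, ∃ d ∈ D, algebraMap A (FractionRing S) a * x = algebraMap S (FractionRing S) d))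
    (hle : A' ≤ D') (ι : D →ₐ[A] D') (hι : ∀ d : D, (ι d : (FractionRing S)) = algebraMap S (FractionRing S) d) :
    Function.Surjective ((Ideal.Quotient.mkₐ A (Ideal.jacobson (⊥ : Ideal D'))).comp
          (Algebra.TensorProduct.productMap (Subalgebra.inclusion hle) ι)) ∧
        RingHom.ker ((Ideal.Quotient.mkₐ A (Ideal.jacobson (⊥ : Ideal D'))).comp
          (Algebra.TensorProduct.productMap (Subalgebra.inclusion hle) ι)) =
          (Ideal.jacobson (⊥ : Ideal A')).map
              (Algebra.TensorProduct.includeLeft : A' →ₐ[A] A' ⊗[A] D) ⊔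
            (maximalIdeal D).map
              (Algebra.TensorProduct.includeRight : D →ₐ[A] A' ⊗[A] D) := by
  classical
  haveI : IsNoetherianRing A := hA.1
  let K := FractionRing S
  haveI := Groth.Agent.EssEtLib.isLocalHom_algebraMap hD
  haveI := Groth.Agent.SHEss.isStrictHenselization_of_intermediate (S := S) hD
  haveI := Groth.Agent.Hensel.faithfullyFlat_of_isStrictHenselization D S
  haveI : Module.Flat A D := by
    obtain ⟨C, _, _, q, _, _, _, hC, -, hl⟩ := Groth.Agent.EtAlg7.exists_presentation hD
    haveI := hC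
    haveI : Module.Flat C D := IsLocalization.flat D q.primeCompl
    exact Module.Flat.trans A C D
  haveI : Algebra.IsIntegral A A' := ⟨fun z =>
    (isIntegral_algHom_iff A'.val Subtype.val_injective).1 ((hA' _).1 z.2).1⟩
  have hDK : Function.Injective (algebraMap D K) := (IsFractionRing.injective S K).comp Subtype.val_injective
  have hu : ∀ a ∈ nonZeroDivisors A, IsUnit (algebraMap A K a) := fun a ha =>
    Groth.Agent.SHEss.isUnit_algebraMap_fractionRing ha
  let Ψ := Algebra.TensorProduct.productMap (Subalgebra.inclusion hle) ι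
  have hΨ : ∀ z, ((Ψ z : D') : K) = Algebra.TensorProduct.productMap A'.val (IsScalarTower.toAlgHom A D K) z := fun z => by
    induction z using TensorProduct.induction_on with
    | zero => rw [map_zero, map_zero]; rfl
    | tmul x d =>
      rw [show Ψ (x ⊗ₜ[A] d) = Subalgebra.inclusion hle x * ι d from
        Algebra.TensorProduct.productMap_apply_tmul _ ι x d, MulMemClass.coe_mul, hι,
        Algebra.TensorProduct.productMap_apply_tmul]
      rfl
    | add y z hy hz => rw [map_add, map_add, AddMemClass.coe_add, hy, hz]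
  have hinj : Function.Injective Ψ := fun y z h =>
    Groth.Agent.SHEss.injective_productMap_of_frac hDK hu A' (fun x hx => ((hA' x).1 hx).2)
      (by rw [← hΨ, ← hΨ, h])
  have hsurj : Function.Surjective Ψ := fun x => by
    obtain ⟨hx, a, ha, d, hd, h⟩ := (hD' _).1 x.2
    obtain ⟨z, hz⟩ := Groth.Agent.SHEss.mem_range_productMap_of_isIntegral hD hDK hu A'
      (fun y hy hy' => (hA' y).2 ⟨hy, hy'⟩) (x : K) hx ⟨a, ha, ⟨d, hd⟩, h⟩
    exact ⟨z, Subtype.ext ((hΨ z).trans hz)⟩
  refine ⟨Ideal.Quotient.mk_surjective.comp hsurj, ?_⟩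
  refine Eq.trans ?_ (Groth.Agent.SHEss.jacobson_tensor (S := S) A' D ?_)
  · have h1 := Ideal.comap_jacobson_of_surjective (R := A' ⊗[A] D) (S := D') (f := Ψ.toRingHom) hsurj (K := (⊥ : Ideal D'))
    rw [Ideal.comap_bot_of_injective Ψ.toRingHom hinj] at h1
    refine Eq.trans ?_ h1
    ext z
    exact Ideal.Quotient.eq_zero_iff_mem
  haveI := Groth.Agent.EssEtLib.isLocalHom_algebraMap hD
  exact Groth.Agent.EtAlg7.map_maximalIdeal hD

open IsLocalRing TensorProduct in
/-- Every maximal ideal of the normalization is attained from an essentially étale extension. -/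
theorem exists_maximal_over (A S : Type u) [CommRing A] [IsLocalRing A] [IsReduced A] [IsNoetherianRing A]
    [CommRing S] [IsLocalRing S] [Algebra A S] [IsLocalHom (algebraMap A S)]
    [Hensel.IsStrictHenselization A S] {E : Subalgebra A S} [IsLocalRing E]
    (hE : EGA4loc.IsEssentiallyEtale A E) (Ω : Type u) [Field Ω] [IsAlgClosed Ω] (jS : S →+* Ω)
    (hjS : RingHom.ker jS = maximalIdeal S)
    (A' : Subalgebra A (FractionRing S))
    (hA' : ∀ x : (FractionRing S), x ∈ A' ↔ (IsIntegral A x ∧
      ∃ a ∈ nonZeroDivisors A, ∃ b : A, algebraMap A (FractionRing S) a * x = algebraMap A (FractionRing S) b))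
    (ψ : FractionRing E →ₐ[A] FractionRing S) (hψ : Function.Injective ψ)
    (τ : A' →+* Ω) (hτ : τ.comp (algebraMap A A') = jS.comp (algebraMap A S)) :
    ∃ σ : ((integralClosure E (FractionRing E)).restrictScalars A) →+* Ω,
      (∀ e : E, ∀ h : algebraMap E (FractionRing E) e ∈ (integralClosure E (FractionRing E)).restrictScalars A,
        σ ⟨_, h⟩ = jS (e : S)) ∧
      ∀ (x : FractionRing E) (h : x ∈ (integralClosure E (FractionRing E)).restrictScalars A) (h' : ψ x ∈ A'),
        σ ⟨x, h⟩ = τ ⟨ψ x, h'⟩ := by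
  classical
  haveI := Groth.Agent.EssEtLib.isLocalHom_algebraMap hE
  haveI : IsLocalHom (algebraMap E S) := Groth.Agent.EtAlg7.isLocalHom_algHom hE E.val
  let KE := FractionRing E
  haveI : Module.Flat A E := by
    obtain ⟨C, _, _, q, _, _, _, hC, -, hl⟩ := Groth.Agent.EtAlg7.exists_presentation hE
    haveI := hC
    haveI : Module.Flat C E := IsLocalization.flat E q.primeCompl
    exact Module.Flat.trans A C E
  let E' := (integralClosure E KE).restrictScalars A
  let AE : Subalgebra A KE := A'.comap ψ
  have hAE : ∀ x : KE, x ∈ AE → IsIntegral A x := fun x hx => (isIntegral_algHom_iff ψ hψ).1 ((hA' _).1 hx).1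
  have hhu : ∀ a ∈ nonZeroDivisors A, IsUnit (algebraMap A KE a) := fun a ha => by
    obtain ⟨hloc, -⟩ := Groth.Agent.S16448.result A E (minimalPrimes.finite_of_isNoetherianRing A) hE
    haveI := hloc
    rw [IsScalarTower.algebraMap_apply A E KE]
    exact IsLocalization.map_units KE (⟨_, a, ha, rfl⟩ : (nonZeroDivisors A).map (algebraMap A E))
  have hAE' : ∀ x ∈ AE, ∃ a ∈ nonZeroDivisors A, ∃ b : A, algebraMap A KE a * x = algebraMap A KE b := fun x hx => by
    obtain ⟨-, a, ha, b, h⟩ := (hA' _).1 hx
    exact ⟨a, ha, b, hψ (by rw [map_mul, AlgHom.commutes, AlgHom.commutes]; exact h)⟩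
  have hmemE : ∀ z, Algebra.TensorProduct.productMap AE.val (IsScalarTower.toAlgHom A E KE) z ∈ E' := fun z => by
    induction z using TensorProduct.induction_on with
    | zero => rw [map_zero]; exact E'.zero_mem
    | tmul x e =>
      rw [Algebra.TensorProduct.productMap_apply_tmul]
      exact E'.mul_mem ((hAE x x.2).tower_top) isIntegral_algebraMap
    | add y z hy hz => rw [map_add]; exact E'.add_mem hy hz
  let f : AE ⊗[A] E →ₐ[A] E' := (Algebra.TensorProduct.productMap AE.val (IsScalarTower.toAlgHom A E KE)).codRestrict E' hmemE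
  have hf : Function.Injective f := fun y z h =>
    Groth.Agent.SHEss.injective_productMap_of_frac (IsFractionRing.injective E KE) hhu AE hAE' (congrArg Subtype.val h)
  let eE : E →ₐ[A] E' := (IsScalarTower.toAlgHom A E KE).codRestrict E' fun z => isIntegral_algebraMap
  have heE : eE.toRingHom.IsIntegral := fun z => by
    obtain ⟨p, hp, hpz⟩ := z.2
    exact ⟨p, hp, Subtype.ext ((Polynomial.hom_eval₂ p eE.toRingHom E'.val.toRingHom z).trans hpz)⟩
  let iR : E →ₐ[A] AE ⊗[A] E := Algebra.TensorProduct.includeRight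
  have hfi : f.toRingHom.comp iR.toRingHom = eE.toRingHom := RingHom.ext fun e => Subtype.ext (by
    show Algebra.TensorProduct.productMap AE.val (IsScalarTower.toAlgHom A E KE) (1 ⊗ₜ[A] e) = algebraMap E KE e
    rw [Algebra.TensorProduct.productMap_apply_tmul, map_one, one_mul]
    rfl)
  have hcomp : (f.toRingHom.comp iR.toRingHom).IsIntegral := by rw [hfi]; exact heE
  have hint : RingHom.IsIntegral (R := AE ⊗[A] E) (A := E') f.toRingHom :=
    RingHom.IsIntegral.tower_top (R := E) (S := AE ⊗[A] E) (T := E') iR.toRingHom f.toRingHom hcomp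
  have hiR : RingHom.IsIntegral (R := E) (A := AE ⊗[A] E) iR.toRingHom :=
    RingHom.IsIntegral.tower_bot (R := E) (S := AE ⊗[A] E) (T := E') iR.toRingHom f.toRingHom hf hcomp
  letI : Algebra A Ω := (jS.comp (algebraMap A S)).toAlgebra
  let τE : AE →ₐ[A] Ω :=
    { τ.comp ((ψ.comp AE.val).codRestrict A' fun x => x.2).toRingHom with
      commutes' := fun a => by
        show τ (((ψ.comp AE.val).codRestrict A' fun x => x.2) (algebraMap A AE a)) = _
        rw [AlgHom.commutes]
        exact RingHom.congr_fun hτ a }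
  let jE : E →ₐ[A] Ω := { jS.comp (algebraMap E S) with commutes' := fun a => rfl }
  let θ := Algebra.TensorProduct.productMap τE jE
  have hθE : θ.toRingHom.comp iR.toRingHom = jS.comp (algebraMap E S) := RingHom.ext fun e => by
    show θ (1 ⊗ₜ[A] e) = _
    rw [Algebra.TensorProduct.productMap_apply_tmul, map_one, one_mul]
    rfl
  haveI : (RingHom.ker θ.toRingHom).IsPrime := RingHom.ker_isPrime _
  have hmax : (RingHom.ker θ.toRingHom).IsMaximal := by
    refine Ideal.isMaximal_of_isIntegral_of_isMaximal_comap' (R := E) (S := AE ⊗[A] E) iR.toRingHom hiR _ ?_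
    rw [RingHom.comap_ker, hθE, ← RingHom.comap_ker, hjS,
      (((local_hom_TFAE (algebraMap E S)).out 0 4).1 ‹_› : (maximalIdeal S).comap (algebraMap E S) = maximalIdeal E)]
    infer_instance
  obtain ⟨σ, hσ⟩ := Groth.Agent.SHEss.exists_point_extension (R := AE ⊗[A] E) (N := E') f.toRingHom hint θ.toRingHom hmax
    (fun z hz => by
      have hz0 : z = 0 := hf (((RingHom.mem_ker).1 hz).trans (map_zero f).symm)
      rw [hz0]
      exact zero_mem _)
  refine ⟨σ, fun e h => ?_, fun x h h' => ?_⟩
  · have := RingHom.congr_fun hσ (iR e)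
    rw [show (⟨_, h⟩ : E') = f.toRingHom (iR e) from Subtype.ext (congrArg Subtype.val (RingHom.congr_fun hfi e)).symm]
    exact this.trans (RingHom.congr_fun hθE e)
  · have hxAE : x ∈ AE := h'
    rw [show (⟨x, h⟩ : E') = f.toRingHom ((⟨x, hxAE⟩ : AE) ⊗ₜ[A] (1 : E)) from Subtype.ext (by
      show x = Algebra.TensorProduct.productMap AE.val (IsScalarTower.toAlgHom A E KE) ((⟨x, hxAE⟩ : AE) ⊗ₜ[A] (1 : E))
      rw [Algebra.TensorProduct.productMap_apply_tmul, map_one, mul_one]
      rfl)]
    refine (RingHom.congr_fun hσ _).trans ?_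
    show θ _ = _
    rw [Algebra.TensorProduct.productMap_apply_tmul, map_one, mul_one]
    rfl

open IsLocalRing in
/-- Let A be an excellent reduced local ring with maximal ideal m and residue field k, S a strict
henselization of A with total ring of fractions K, and D an A-subalgebra of S which is a local ring
dominated by S (local inclusion) and whose total ring of fractions is finitely generated over that
of A. Inside K, let A' and D' be the normalizations of A and of D: the elements of K integral over A
(resp. over D) which are carried into A (resp. into D) by the image of some non-zero-divisor of A;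
so A' ⊆ D', and let ι : D → D' be the inclusion. Then D is an essentially etale local A-algebra if
and only if D' has finitely many maximal ideals and the canonical map A' ⊗_A D → D'/Rad(D') is
surjective with kernel the ideal generated by Rad(A') ⊗ D and A' ⊗ m_D — in other words the residual
field products satisfy (A'/Rad A') ⊗_k (D/m_D) ≅ D'/Rad(D') via the canonical maps. -/
theorem result
    (A S : Type u) [CommRing A] [IsLocalRing A] [IsReduced A] (hA : EGA4.IsExcellent A)
    [CommRing S] [IsLocalRing S] [Algebra A S] [IsLocalHom (algebraMap A S)]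
    [Hensel.IsStrictHenselization A S] (D : Subalgebra A S) [IsLocalRing D]
    [IsLocalHom (algebraMap D S)]
    (hfg : ∃ t : Finset (FractionRing D), ∀ x : FractionRing D, ∃ a ∈ nonZeroDivisors A,
      algebraMap A (FractionRing D) a * x ∈ Algebra.adjoin A (t : Set (FractionRing D)))
    (A' D' : Subalgebra A (FractionRing S))
    (hA' : ∀ x : (FractionRing S), x ∈ A' ↔ (IsIntegral A x ∧
      ∃ a ∈ nonZeroDivisors A, ∃ b : A, algebraMap A (FractionRing S) a * x = algebraMap A (FractionRing S) b))
    (hD' : ∀ x : (FractionRing S), x ∈ D' ↔ (IsIntegral D x ∧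
      ∃ a ∈ nonZeroDivisors A, ∃ d ∈ D, algebraMap A (FractionRing S) a * x = algebraMap S (FractionRing S) d))
    (hle : A' ≤ D') (ι : D →ₐ[A] D') (hι : ∀ d : D, (ι d : (FractionRing S)) = algebraMap S (FractionRing S) d) :
    EGA4loc.IsEssentiallyEtale A D ↔
      ({N : Ideal D' | N.IsMaximal}.Finite ∧
        Function.Surjective ((Ideal.Quotient.mkₐ A (Ideal.jacobson (⊥ : Ideal D'))).comp
          (Algebra.TensorProduct.productMap (Subalgebra.inclusion hle) ι)) ∧
        RingHom.ker ((Ideal.Quotient.mkₐ A (Ideal.jacobson (⊥ : Ideal D'))).comp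
          (Algebra.TensorProduct.productMap (Subalgebra.inclusion hle) ι)) =
          (Ideal.jacobson (⊥ : Ideal A')).map
              (Algebra.TensorProduct.includeLeft : A' →ₐ[A] A' ⊗[A] D) ⊔
            (maximalIdeal D).map
              (Algebra.TensorProduct.includeRight : D →ₐ[A] A' ⊗[A] D)) := by
  classical
  haveI : IsNoetherianRing A := hA.1
  let K := FractionRing S
  haveI : IsReduced S := by
    haveI := (Groth.Agent.Hensel.isHenzLike_of_isStrictHenselization A S).isReduced_tensor A
    exact isReduced_of_injective (Algebra.TensorProduct.rid A A S).symm (Algebra.TensorProduct.rid A A S).symm.injective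
  haveI : IsReduced D := isReduced_of_injective D.val Subtype.val_injective
  haveI : IsNoetherianRing S := (Groth.Agent.S0540.result A S).1 inferInstance
  haveI : Finite (minimalPrimes S) := (minimalPrimes.finite_of_isNoetherianRing S).to_subtype
  haveI : IsLocalHom (algebraMap A D) := ⟨fun a ha => isUnit_of_map_unit (algebraMap A S) a (ha.map D.val)⟩
  haveI : Algebra.IsIntegral A A' := ⟨fun z =>
    (isIntegral_algHom_iff A'.val Subtype.val_injective).1 ((hA' _).1 z.2).1⟩
  have hιint : ι.toRingHom.IsIntegral := fun z => by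
    obtain ⟨p, hp, hpz⟩ := ((hD' _).1 z.2).1
    refine ⟨p, hp, Subtype.ext ((Polynomial.hom_eval₂ p ι.toRingHom D'.val.toRingHom z).trans ?_)⟩
    rw [show D'.val.toRingHom.comp ι.toRingHom = algebraMap D K from RingHom.ext hι]
    exact hpz
  let Ω := AlgebraicClosure (ResidueField S)
  let jS : S →+* Ω := (algebraMap (ResidueField S) Ω).comp (residue S)
  have hjS : RingHom.ker jS = maximalIdeal S := by
    ext s
    rw [RingHom.mem_ker, ← residue_eq_zero_iff]
    exact map_eq_zero (algebraMap (ResidueField S) Ω)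
  let jD : D →+* Ω := jS.comp (algebraMap D S)
  have hjD : RingHom.ker jD = maximalIdeal D := by
    rw [← RingHom.comap_ker, hjS]
    exact (((local_hom_TFAE (algebraMap D S)).out 0 4).1 ‹_› :)
  -- points count minimal primes
  obtain ⟨eD, heD⟩ := Groth.Agent.SHEss.exists_normalisation_equiv D D' hD' ι hι
  have hcountD : ∀ (Dsh : Type u) [CommRing Dsh] [IsLocalRing Dsh] [Algebra D Dsh] [IsLocalHom (algebraMap D Dsh)]
      [Hensel.IsStrictHenselization D Dsh],
      ENat.card (minimalPrimes Dsh) = ENat.card {σ : D' →+* Ω // σ.comp ι.toRingHom = jD} := fun Dsh _ _ _ _ _ => by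
    have h := Groth.Agent.SHEss.card_minimalPrimes_sh_eq D Dsh (Groth.Agent.SHEss.finite_minimalPrimes_intermediate D)
      D' ι.toRingHom eD heD Ω ((algebraMap (ResidueField S) Ω).comp (ResidueField.map (algebraMap D S)))
    exact h
  constructor
  · intro hD
    obtain ⟨h2, h3⟩ := forward A S hA D hD A' D' hA' hD' hle ι hι
    refine ⟨?_, h2, h3⟩
    haveI := Groth.Agent.EssEtLib.isLocalHom_algebraMap hD
    haveI := Groth.Agent.SHEss.isStrictHenselization_of_intermediate (S := S) hD
    haveI hfinP : Finite {σ : D' →+* Ω // σ.comp ι.toRingHom = jD} :=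
      ENat.card_lt_top.1 (hcountD S ▸ ENat.card_lt_top.2 inferInstance)
    refine (Set.finite_range fun σ : {σ : D' →+* Ω // σ.comp ι.toRingHom = jD} => RingHom.ker σ.1).subset fun N hN => ?_
    obtain ⟨σ, hσ, hσN⟩ := exists_point_ker ι.toRingHom hιint jD hjD N hN
    exact ⟨⟨σ, hσ⟩, hσN⟩
  · rintro ⟨hfin, hsurj, hker⟩
    obtain ⟨huniq, hex⟩ := Groth.Agent.SHEss.pts_restrict_bijective (Subalgebra.inclusion hle) ι hιint jD
      (fun d hd => hjD.ge hd) hsurj hker.le
    have hjA : jD.comp (algebraMap A D) = jS.comp (algebraMap A S) := rfl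
    -- the base
    have hmulA : ∀ d : nonZeroDivisors A, ∃ a ∈ nonZeroDivisors A, ∃ d' : A, (d : A) * d' = algebraMap A A a :=
      fun d => ⟨d, d.2, 1, mul_one _⟩
    haveI := Groth.Agent.Hensel.faithfullyFlat_of_isStrictHenselization A S
    obtain ⟨eA, heA⟩ := Groth.Agent.SHEss.exists_normalisation_equiv_gen A (FaithfulSMul.algebraMap_injective A S)
      hmulA A' hA' (Algebra.ofId A A') fun a => rfl
    have hcountA : ENat.card (minimalPrimes S) =
        ENat.card {τ : A' →+* Ω // τ.comp (algebraMap A A') = jS.comp (algebraMap A S)} :=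
      Groth.Agent.SHEss.card_minimalPrimes_sh_eq A S (minimalPrimes.finite_of_isNoetherianRing A)
        A' (algebraMap A A') eA heA Ω ((algebraMap (ResidueField S) Ω).comp (ResidueField.map (algebraMap A S)))
    let R : {σ : D' →+* Ω // σ.comp ι.toRingHom = jD} →
        {τ : A' →+* Ω // τ.comp (algebraMap A A') = jS.comp (algebraMap A S)} := fun σ =>
      ⟨σ.1.comp (Subalgebra.inclusion hle).toRingHom, by
        refine RingHom.ext fun a => ?_
        show σ.1 (Subalgebra.inclusion hle (algebraMap A A' a)) = jD (algebraMap A D a)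
        rw [AlgHom.commutes, ← ι.commutes]
        exact RingHom.congr_fun σ.2 (algebraMap A D a)⟩
    have hR : Function.Bijective R := ⟨fun σ₁ σ₂ h => Subtype.ext (huniq σ₁.1 σ₂.1 σ₁.2 σ₂.2 (congrArg Subtype.val h)),
      fun τ => by
        obtain ⟨σ, h1, h2⟩ := hex τ.1 (τ.2.trans hjA.symm)
        exact ⟨⟨σ, h1⟩, Subtype.ext h2⟩⟩
    have hm := Groth.Agent.SHEss.map_maximalIdeal_of_card_eq D (fun Dsh _ _ _ _ _ => by
      rw [hcountD Dsh, hcountA]
      exact ENat.card_congr (Equiv.ofBijective R hR))
    -- finite type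
    obtain ⟨E, hDE, hEloc, hE⟩ :=
      (Groth.Agent.S16441.result A S (minimalPrimes.finite_of_isNoetherianRing A) D).1 hfg
    haveI := hEloc
    haveI := Groth.Agent.EssEtLib.isLocalHom_algebraMap hE
    haveI : IsLocalHom (algebraMap E S) := Groth.Agent.EtAlg7.isLocalHom_algHom hE E.val
    let KE := FractionRing E
    have hnzE : ∀ e : nonZeroDivisors E, IsUnit (((IsScalarTower.toAlgHom A S K).comp E.val) e) := fun e => by
      haveI := Groth.Agent.SHEss.isStrictHenselization_of_intermediate (S := S) hE
      haveI := Groth.Agent.Hensel.faithfullyFlat_of_isStrictHenselization E S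
      have h : algebraMap E S (e : E) ∈ nonZeroDivisors S := by
        refine mem_nonZeroDivisors_iff_right.2 fun w hw => ?_
        have hreg : IsSMulRegular S (e : E) := Module.Flat.isSMulRegular_of_nonZeroDivisors e.2
        refine hreg ?_
        show (e : E) • w = (e : E) • (0 : S)
        rw [smul_zero, Algebra.smul_def, mul_comm, hw]
      exact IsLocalization.map_units K (⟨_, h⟩ : nonZeroDivisors S)
    let ψ : KE →ₐ[A] K := IsLocalization.liftAlgHom (M := nonZeroDivisors E) (f := (IsScalarTower.toAlgHom A S K).comp E.val) hnzE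
    have hψE : ∀ e : E, ψ (algebraMap E KE e) = algebraMap S K (e : S) := fun e => IsLocalization.lift_eq _ e
    have hψ : Function.Injective ψ := by
      rw [injective_iff_map_eq_zero]
      intro z hz
      obtain ⟨x, y, rfl⟩ := IsLocalization.exists_mk'_eq (nonZeroDivisors E) z
      rw [IsLocalization.mk'_eq_zero_iff]
      refine ⟨1, ?_⟩
      have h1 : ψ (algebraMap E KE x) = 0 := by rw [← IsLocalization.mk'_spec KE x y, map_mul, hz, zero_mul]
      rw [hψE] at h1
      rw [Submonoid.coe_one, one_mul]
      exact Subtype.ext (IsFractionRing.injective S K (h1.trans (map_zero _).symm))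
    let DE : Subalgebra A E := D.comap E.val
    let eDE : D ≃ₐ[A] DE :=
      { toFun := fun d => ⟨⟨(d : S), hDE d.2⟩, d.2⟩
        invFun := fun d => ⟨((d : E) : S), d.2⟩
        left_inv := fun d => rfl
        right_inv := fun d => rfl
        map_mul' := fun a b => rfl
        map_add' := fun a b => rfl
        commutes' := fun a => rfl }
    haveI : IsLocalRing DE := eDE.toRingEquiv.isLocalRing
    haveI : IsLocalHom (algebraMap DE E) := ⟨fun x hx => by
      obtain ⟨d, rfl⟩ := eDE.surjective x
      exact (isUnit_of_map_unit (algebraMap D S) d (hx.map E.val)).map eDE⟩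
    let DE' : Subalgebra A KE := D'.comap ψ
    have hint : ∀ x : KE, IsIntegral DE x ↔ IsIntegral D (ψ x) := fun x => by
      have hcomp : ψ.toRingHom.comp ((algebraMap DE KE).comp eDE.toRingEquiv.toRingHom) = algebraMap D K :=
        RingHom.ext fun d => hψE _
      constructor
      · rintro ⟨p, hp, hpx⟩
        refine ⟨p.map eDE.symm.toRingEquiv.toRingHom, hp.map _, ?_⟩
        have h := congrArg ψ hpx
        rw [map_zero] at h
        refine Eq.trans ?_ ((Polynomial.hom_eval₂ p _ ψ.toRingHom x).symm.trans h)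
        rw [Polynomial.eval₂_map]
        congr 1
        rw [← hcomp]
        exact RingHom.ext fun d => congrArg (fun t => ψ (algebraMap DE KE t)) (eDE.apply_symm_apply d)
      · rintro ⟨p, hp, hpx⟩
        refine ⟨p.map eDE.toRingEquiv.toRingHom, hp.map _, hψ ?_⟩
        rw [map_zero, Polynomial.eval₂_map]
        refine (Polynomial.hom_eval₂ p _ ψ.toRingHom x).trans ?_
        rw [hcomp]
        exact hpx
    have hDE' : ∀ x : KE, x ∈ DE' ↔ (IsIntegral DE x ∧ ∃ a ∈ nonZeroDivisors A, ∃ d ∈ DE,
        algebraMap A KE a * x = algebraMap E KE d) := fun x => by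
      show ψ x ∈ D' ↔ _
      rw [hD', ← hint]
      refine and_congr_right fun _ => ⟨?_, ?_⟩
      · rintro ⟨a, ha, d, hd, h⟩
        exact ⟨a, ha, ⟨d, hDE hd⟩, hd, hψ (by rw [map_mul, AlgHom.commutes, hψE]; exact h)⟩
      · rintro ⟨a, ha, d, hd, h⟩
        exact ⟨a, ha, (d : S), hd, by rw [← hψE, ← h, map_mul, AlgHom.commutes]⟩
    let E' := (integralClosure E KE).restrictScalars A
    have hleE : DE' ≤ E' := fun x hx => by
      obtain ⟨p, hp, hpx⟩ := ((hDE' x).1 hx).1
      refine ⟨p.map (algebraMap DE E), hp.map _, ?_⟩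
      rw [Polynomial.eval₂_map]
      exact hpx
    have hrange : ∀ y ∈ D', ∃ x : KE, ψ x = y := fun y hy => by
      obtain ⟨-, a, ha, d, hd, h⟩ := (hD' y).1 hy
      obtain ⟨hloc, -⟩ := Groth.Agent.S16448.result A E (minimalPrimes.finite_of_isNoetherianRing A) hE
      haveI := hloc
      have hu : IsUnit (algebraMap A KE a) := by
        rw [IsScalarTower.algebraMap_apply A E KE]
        exact IsLocalization.map_units KE (⟨_, a, ha, rfl⟩ : (nonZeroDivisors A).map (algebraMap A E))
      obtain ⟨v, hv⟩ := hu.exists_right_inv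
      refine ⟨v * algebraMap E KE ⟨d, hDE hd⟩, ?_⟩
      rw [map_mul, hψE, ← h, ← mul_assoc, mul_comm (ψ v), ← ψ.commutes, ← map_mul ψ, hv, map_one, one_mul]
    let eD' : DE' ≃ₐ[A] D' := AlgEquiv.ofBijective ((ψ.comp DE'.val).codRestrict D' fun x => x.2)
      ⟨fun x y h => Subtype.ext (hψ (congrArg Subtype.val h)), fun y => by
        obtain ⟨x, hx⟩ := hrange y y.2
        exact ⟨⟨x, (hx.symm ▸ y.2 : ψ x ∈ D')⟩, Subtype.ext hx⟩⟩
    have hfinE : {N : Ideal DE' | N.IsMaximal}.Finite := by
      refine (hfin.image (Ideal.comap eD'.toRingEquiv.toRingHom)).subset fun N hN => ?_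
      haveI : N.IsMaximal := hN
      exact ⟨N.map eD'.toRingEquiv.toRingHom, Ideal.map_isMaximal_of_equiv eD'.toRingEquiv,
        Ideal.comap_map_of_bijective _ eD'.toRingEquiv.bijective⟩
    have hmaxE : ∀ M : Ideal E', M.IsMaximal → (M.comap (Subalgebra.inclusion hleE)).IsMaximal := fun M hM => by
      haveI := hM
      let j : DE →ₐ[A] DE' := ((IsScalarTower.toAlgHom A E KE).comp DE.val).codRestrict DE' fun d =>
        (hDE' _).2 ⟨isIntegral_algebraMap (R := DE) (x := d), 1, one_mem _, d, d.2, by rw [map_one, one_mul]; rfl⟩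
      let eE : E →ₐ[A] E' := (IsScalarTower.toAlgHom A E KE).codRestrict E' fun z => isIntegral_algebraMap
      have hjint : j.toRingHom.IsIntegral := fun z => by
        obtain ⟨p, hp, hpz⟩ := ((hDE' _).1 z.2).1
        exact ⟨p, hp, Subtype.ext ((Polynomial.hom_eval₂ p j.toRingHom DE'.val.toRingHom z).trans hpz)⟩
      have heE : eE.toRingHom.IsIntegral := fun z => by
        obtain ⟨p, hp, hpz⟩ := z.2
        exact ⟨p, hp, Subtype.ext ((Polynomial.hom_eval₂ p eE.toRingHom E'.val.toRingHom z).trans hpz)⟩
      haveI : (M.comap (Subalgebra.inclusion hleE)).IsPrime := Ideal.comap_isPrime _ _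
      refine Ideal.isMaximal_of_isIntegral_of_isMaximal_comap' j.toRingHom hjint _ ?_
      have h1 : (M.comap (Subalgebra.inclusion hleE)).comap j.toRingHom = (M.comap eE.toRingHom).comap (algebraMap DE E) := by
        ext d
        rfl
      rw [h1, IsLocalRing.eq_maximalIdeal (Ideal.isMaximal_comap_of_isIntegral_of_isMaximal' eE.toRingHom heE M),
        (((local_hom_TFAE (algebraMap DE E)).out 0 4).1 ‹_› : (maximalIdeal E).comap (algebraMap DE E) = maximalIdeal DE)]
      infer_instance
    have hsurjE : ∀ N : Ideal DE', N.IsMaximal →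
        ∃ M : Ideal E', M.IsMaximal ∧ M.comap (Subalgebra.inclusion hleE) = N := fun N hN => by
      haveI := hN
      let N' : Ideal D' := N.map eD'.toRingEquiv.toRingHom
      obtain ⟨σ, hσ, hσN⟩ := exists_point_ker ι.toRingHom hιint jD hjD N' (Ideal.map_isMaximal_of_equiv eD'.toRingEquiv)
      obtain ⟨ρ, hρE, hρA⟩ := exists_maximal_over A S hE Ω jS hjS A' hA' ψ hψ (R ⟨σ, hσ⟩).1 (R ⟨σ, hσ⟩).2
      let σ' : D' →+* Ω := (ρ.comp (Subalgebra.inclusion hleE).toRingHom).comp eD'.symm.toRingEquiv.toRingHom
      have hval : ∀ y : D', ψ ((eD'.symm y : DE') : KE) = (y : K) := fun y =>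
        congrArg Subtype.val (eD'.apply_symm_apply y)
      have h1 : σ'.comp ι.toRingHom = jD := RingHom.ext fun d => by
        show ρ (Subalgebra.inclusion hleE (eD'.symm (ι d))) = jS (d : S)
        have : ((eD'.symm (ι d) : DE') : KE) = algebraMap E KE ⟨(d : S), hDE d.2⟩ :=
          hψ (by rw [hval, hψE, hι])
        refine Eq.trans (congrArg ρ (show Subalgebra.inclusion hleE (eD'.symm (ι d)) = ⟨_, ?_⟩ from Subtype.ext this))
          (hρE ⟨(d : S), hDE d.2⟩ ?_)
        all_goals exact isIntegral_algebraMap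
      have h2 : σ'.comp (Subalgebra.inclusion hle).toRingHom = σ.comp (Subalgebra.inclusion hle).toRingHom :=
        RingHom.ext fun x => by
          show ρ (Subalgebra.inclusion hleE (eD'.symm (Subalgebra.inclusion hle x))) = _
          have h' : ψ ((eD'.symm (Subalgebra.inclusion hle x) : DE') : KE) = (x : K) := hval _
          refine (hρA _ (hleE (eD'.symm _).2) (h'.symm ▸ x.2)).trans ?_
          exact congrArg (R ⟨σ, hσ⟩).1 (Subtype.ext h')
      have hσ' := huniq σ' σ h1 hσ h2
      haveI : (RingHom.ker ρ).IsPrime := RingHom.ker_isPrime ρ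
      have hM : (RingHom.ker ρ).IsMaximal := by
        let eE : E →ₐ[A] E' := (IsScalarTower.toAlgHom A E KE).codRestrict E' fun z => isIntegral_algebraMap
        have heE : eE.toRingHom.IsIntegral := fun z => by
          obtain ⟨p, hp, hpz⟩ := z.2
          exact ⟨p, hp, Subtype.ext ((Polynomial.hom_eval₂ p eE.toRingHom E'.val.toRingHom z).trans hpz)⟩
        refine Ideal.isMaximal_of_isIntegral_of_isMaximal_comap' eE.toRingHom heE _ ?_
        have : (RingHom.ker ρ).comap eE.toRingHom = (RingHom.ker jS).comap (algebraMap E S) := by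
          ext e
          rw [Ideal.mem_comap, Ideal.mem_comap, RingHom.mem_ker, RingHom.mem_ker]
          exact Iff.of_eq (congrArg (· = 0) (hρE e isIntegral_algebraMap))
        rw [this, hjS,
          (((local_hom_TFAE (algebraMap E S)).out 0 4).1 ‹_› : (maximalIdeal S).comap (algebraMap E S) = maximalIdeal E)]
        infer_instance
      refine ⟨RingHom.ker ρ, hM, ?_⟩
      ext z
      rw [Ideal.mem_comap, RingHom.mem_ker]
      have h3 : σ' (eD' z) = ρ (Subalgebra.inclusion hleE z) := by
        show ρ (Subalgebra.inclusion hleE (eD'.symm (eD' z))) = _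
        rw [eD'.symm_apply_apply]
      rw [← h3, hσ', ← RingHom.mem_ker, hσN]
      exact ⟨fun h => by
        have := Ideal.comap_map_of_bijective (f := eD'.toRingEquiv.toRingHom) (I := N) eD'.toRingEquiv.bijective
        exact this.le h, fun h => Ideal.mem_map_of_mem _ h⟩
    haveI := Groth.Agent.S16449.result A E hA hE DE DE' hDE' hleE hfinE hmaxE hsurjE
    haveI : Algebra.EssFiniteType A D := Algebra.EssFiniteType.of_surjective eDE.symm.toAlgHom eDE.symm.surjective
    exact Groth.Agent.S16438.result A S D hm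

end Groth.Agent.S16450
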