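import Groth.Statements.S16451
import Groth.Agent.SHEss.HensUnion
import Groth.Agent.S0540
import Groth.Agent.SmallFlat.Misc
-- import your own Groth.Agent.* helpers here

set_option autoImplicit false
set_option maxHeartbeats 4000000
set_option synthInstance.maxHeartbeats 200000
universe u
open scoped TensorProduct
open EGA4loc

namespace Groth.Agent.S16451

open IsLocalRing TensorProduct in
/-- Maximal ideals of an integral extension of a local ring are kernels of geometric points. -/
theorem exists_point_ker {D D' Ω : Type u} [CommRing D] [IsLocalRing D] [CommRing D'] [Field Ω] [IsAlgClosed Ω]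
    (ι : D →+* D') (hι : ι.IsIntegral) (jD : D →+* Ω) (hjD : RingHom.ker jD = maximalIdeal D)
    (N : Ideal D') (hN : N.IsMaximal) : ∃ σ : D' →+* Ω, σ.comp ι = jD ∧ RingHom.ker σ = N := by
  haveI := hN
  letI := Ideal.Quotient.field N
  have hND : N.comap ι = maximalIdeal D :=
    IsLocalRing.eq_maximalIdeal (Ideal.isMaximal_comap_of_isIntegral_of_isMaximal' ι hι N)
  obtain ⟨σ, hσ⟩ := Groth.Agent.SHEss.exists_point_extension ((Ideal.Quotient.mk N).comp ι)
    (RingHom.IsIntegral.trans ι _ hι (RingHom.isIntegral_of_surjective _ Ideal.Quotient.mk_surjective)) jD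
    (hjD ▸ inferInstance) (by rw [← RingHom.comap_ker, Ideal.mk_ker, hND, hjD])
  refine ⟨σ.comp (Ideal.Quotient.mk N), by rw [RingHom.comp_assoc, hσ], ?_⟩
  rw [← RingHom.comap_ker, (RingHom.injective_iff_ker_eq_bot σ).1 (RingHom.injective σ), ← RingHom.ker_eq_comap_bot,
    Ideal.mk_ker]

open IsLocalRing TensorProduct in
/-- When `S` is a strict henselization of `D`, the residual criterion holds. -/
theorem forward (A S : Type u) [CommRing A] [IsLocalRing A] [IsReduced A] [IsNoetherianRing A]
    [CommRing S] [IsLocalRing S] [Algebra A S] [IsLocalHom (algebraMap A S)]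
    [Hensel.IsStrictHenselization A S] (D : Subalgebra A S) [IsLocalRing D]
    [IsLocalHom (algebraMap D S)] [IsLocalHom (algebraMap A D)] [Hensel.IsStrictHenselization D S]
    (A' D' : Subalgebra A (FractionRing S))
    (hA' : ∀ x : (FractionRing S), x ∈ A' ↔ (IsIntegral A x ∧
      ∃ a ∈ nonZeroDivisors A, ∃ b : A, algebraMap A (FractionRing S) a * x = algebraMap A (FractionRing S) b))
    (hD' : ∀ x : (FractionRing S), x ∈ D' ↔ (IsIntegral D x ∧
      ∃ a ∈ nonZeroDivisors A, ∃ d ∈ D, algebraMap A (FractionRing S) a * x = algebraMap S (FractionRing S) d))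
    (hle : A' ≤ D') (ι : D →ₐ[A] D') (hι : ∀ d : D, (ι d : (FractionRing S)) = algebraMap S (FractionRing S) d) :
    Function.Surjective ((Ideal.Quotient.mkₐ A (Ideal.jacobson (⊥ : Ideal D'))).comp
          (Algebra.TensorProduct.productMap (Subalgebra.inclusion hle) ι)) ∧
        RingHom.ker ((Ideal.Quotient.mkₐ A (Ideal.jacobson (⊥ : Ideal D'))).comp
          (Algebra.TensorProduct.productMap (Subalgebra.inclusion hle) ι)) =
          (Ideal.jacobson (⊥ : Ideal A')).map
              (Algebra.TensorProduct.includeLeft : A' →ₐ[A] A' ⊗[A] D) ⊔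
            (maximalIdeal D).map
              (Algebra.TensorProduct.includeRight : D →ₐ[A] A' ⊗[A] D) := by
  classical
  let K := FractionRing S
  haveI := Groth.Agent.Hensel.faithfullyFlat_of_isStrictHenselization D S
  haveI := Groth.Agent.Hensel.faithfullyFlat_of_isStrictHenselization A S
  haveI : Module.Flat A D := Groth.Agent.SmallFlat.flat_of_faithfullyFlat_tower A D S
  haveI : Algebra.IsIntegral A A' := ⟨fun z =>
    (isIntegral_algHom_iff A'.val Subtype.val_injective).1 ((hA' _).1 z.2).1⟩
  have hDK : Function.Injective (algebraMap D K) := (IsFractionRing.injective S K).comp Subtype.val_injective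
  have hu : ∀ a ∈ nonZeroDivisors A, IsUnit (algebraMap A K a) := fun a ha =>
    Groth.Agent.SHEss.isUnit_algebraMap_fractionRing ha
  let Ψ := Algebra.TensorProduct.productMap (Subalgebra.inclusion hle) ι
  have hΨ : ∀ z, ((Ψ z : D') : K) = Algebra.TensorProduct.productMap A'.val (IsScalarTower.toAlgHom A D K) z := fun z => by
    induction z using TensorProduct.induction_on with
    | zero => rw [map_zero, map_zero]; rfl
    | tmul x d =>
      rw [show Ψ (x ⊗ₜ[A] d) = Subalgebra.inclusion hle x * ι d from
        Algebra.TensorProduct.productMap_apply_tmul _ ι x d, MulMemClass.coe_mul, hι,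
        Algebra.TensorProduct.productMap_apply_tmul]
      rfl
    | add y z hy hz => rw [map_add, map_add, AddMemClass.coe_add, hy, hz]
  have hinj : Function.Injective Ψ := fun y z h =>
    Groth.Agent.SHEss.injective_productMap_of_frac hDK hu A' (fun x hx => ((hA' x).1 hx).2)
      (by rw [← hΨ, ← hΨ, h])
  have hsurj : Function.Surjective Ψ := fun x => by
    obtain ⟨hx, a, ha, d, hd, h⟩ := (hD' _).1 x.2
    obtain ⟨z, hz⟩ := Groth.Agent.SHEss.mem_range_productMap_of_ff (S := S) (IsFractionRing.injective S K) hu A'
      hA' (x : K) hx ⟨a, ha, ⟨d, hd⟩, h⟩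
    exact ⟨z, Subtype.ext ((hΨ z).trans hz)⟩
  refine ⟨Ideal.Quotient.mk_surjective.comp hsurj, ?_⟩
  refine Eq.trans ?_ (Groth.Agent.SHEss.jacobson_tensor (S := S) A' D ?_)
  · have h1 := Ideal.comap_jacobson_of_surjective (R := A' ⊗[A] D) (S := D') (f := Ψ.toRingHom) hsurj (K := (⊥ : Ideal D'))
    rw [Ideal.comap_bot_of_injective Ψ.toRingHom hinj] at h1
    refine Eq.trans ?_ h1
    ext z
    exact Ideal.Quotient.eq_zero_iff_mem
  rw [← Ideal.comap_map_eq_self_of_faithfullyFlat (B := S) ((maximalIdeal A).map (algebraMap A D)), Ideal.map_map,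
    ← IsScalarTower.algebraMap_eq, Groth.Agent.Hensel.map_maximalIdeal_of_isStrictHenselization A S]
  exact (((local_hom_TFAE (algebraMap D S)).out 0 4).1 ‹_› :)

open IsLocalRing TensorProduct in
/-- Let A be an excellent reduced local ring with maximal ideal m and residue field k, S a strict
henselization of A with total ring of fractions K, and D an A-subalgebra of S which is a local ring
dominated by S (local inclusion); let D^h be a henselization of D and θ : D^h → S the D-algebra map
to S (the unique one, S being henselian). Inside K, let A' and D' be the normalizations of A and of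
D — the elements of K integral over A (resp. over D) and carried into A (resp. into D) by the image
of some non-zero-divisor of A — so A' ⊆ D', and let ι : D → D' be the inclusion. Then θ is injective
and its image is a directed union of A-subalgebras of S which are local rings and essentially etale
local A-algebras (that is, D^h is a direct limit of local etale extensions of A) if and only if D'
has finitely many maximal ideals and the canonical map A' ⊗_A D → D'/Rad(D') is surjective with
kernel the ideal generated by Rad(A') ⊗ D and A' ⊗ m_D (the residual field products satisfy (A'/Rad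
A') ⊗_k (D/m_D) ≅ D'/Rad(D')). -/
theorem result
    (A S : Type u) [CommRing A] [IsLocalRing A] [IsReduced A] (hA : EGA4.IsExcellent A)
    [CommRing S] [IsLocalRing S] [Algebra A S] [IsLocalHom (algebraMap A S)]
    [Hensel.IsStrictHenselization A S] (D : Subalgebra A S) [IsLocalRing D]
    [IsLocalHom (algebraMap D S)]
    (Dh : Type u) [CommRing Dh] [IsLocalRing Dh] [Algebra D Dh] [IsLocalHom (algebraMap D Dh)]
    [Hensel.IsHenselization D Dh] [Algebra Dh S] [IsScalarTower D Dh S]
    (A' D' : Subalgebra A (FractionRing S))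
    (hA' : ∀ x : (FractionRing S), x ∈ A' ↔ (IsIntegral A x ∧
      ∃ a ∈ nonZeroDivisors A, ∃ b : A, algebraMap A (FractionRing S) a * x = algebraMap A (FractionRing S) b))
    (hD' : ∀ x : (FractionRing S), x ∈ D' ↔ (IsIntegral D x ∧
      ∃ a ∈ nonZeroDivisors A, ∃ d ∈ D, algebraMap A (FractionRing S) a * x = algebraMap S (FractionRing S) d))
    (hle : A' ≤ D') (ι : D →ₐ[A] D') (hι : ∀ d : D, (ι d : (FractionRing S)) = algebraMap S (FractionRing S) d) :
    (Function.Injective (algebraMap Dh S) ∧
        ∀ s : Finset S, (s : Set S) ⊆ Set.range (algebraMap Dh S) →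
          ∃ E : Subalgebra A S, (s : Set S) ⊆ (E : Set S) ∧ (E : Set S) ⊆ Set.range (algebraMap Dh S) ∧
            ∃ _ : IsLocalRing E, EGA4loc.IsEssentiallyEtale A E) ↔
      ({N : Ideal D' | N.IsMaximal}.Finite ∧
        Function.Surjective ((Ideal.Quotient.mkₐ A (Ideal.jacobson (⊥ : Ideal D'))).comp
          (Algebra.TensorProduct.productMap (Subalgebra.inclusion hle) ι)) ∧
        RingHom.ker ((Ideal.Quotient.mkₐ A (Ideal.jacobson (⊥ : Ideal D'))).comp
          (Algebra.TensorProduct.productMap (Subalgebra.inclusion hle) ι)) =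
          (Ideal.jacobson (⊥ : Ideal A')).map
              (Algebra.TensorProduct.includeLeft : A' →ₐ[A] A' ⊗[A] D) ⊔
            (maximalIdeal D).map
              (Algebra.TensorProduct.includeRight : D →ₐ[A] A' ⊗[A] D)) := by
  classical
  haveI : IsNoetherianRing A := hA.1
  let K := FractionRing S
  haveI : IsReduced S := by
    haveI := (Groth.Agent.Hensel.isHenzLike_of_isStrictHenselization A S).isReduced_tensor A
    exact isReduced_of_injective (Algebra.TensorProduct.rid A A S).symm (Algebra.TensorProduct.rid A A S).symm.injective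
  haveI : IsReduced D := isReduced_of_injective D.val Subtype.val_injective
  haveI : IsNoetherianRing S := (Groth.Agent.S0540.result A S).1 inferInstance
  haveI : Finite (minimalPrimes S) := (minimalPrimes.finite_of_isNoetherianRing S).to_subtype
  haveI : IsLocalHom (algebraMap A D) := ⟨fun a ha => isUnit_of_map_unit (algebraMap A S) a (ha.map D.val)⟩
  haveI : Algebra.IsIntegral A A' := ⟨fun z =>
    (isIntegral_algHom_iff A'.val Subtype.val_injective).1 ((hA' _).1 z.2).1⟩
  have hιint : ι.toRingHom.IsIntegral := fun z => by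
    obtain ⟨p, hp, hpz⟩ := ((hD' _).1 z.2).1
    refine ⟨p, hp, Subtype.ext ((Polynomial.hom_eval₂ p ι.toRingHom D'.val.toRingHom z).trans ?_)⟩
    rw [show D'.val.toRingHom.comp ι.toRingHom = algebraMap D K from RingHom.ext hι]
    exact hpz
  let Ω := AlgebraicClosure (ResidueField S)
  let jS : S →+* Ω := (algebraMap (ResidueField S) Ω).comp (residue S)
  have hjS : RingHom.ker jS = maximalIdeal S := by
    ext s
    rw [RingHom.mem_ker, ← residue_eq_zero_iff]
    exact map_eq_zero (algebraMap (ResidueField S) Ω)
  let jD : D →+* Ω := jS.comp (algebraMap D S)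
  have hjD : RingHom.ker jD = maximalIdeal D := by
    rw [← RingHom.comap_ker, hjS]
    exact (((local_hom_TFAE (algebraMap D S)).out 0 4).1 ‹_› :)
  -- points count minimal primes
  obtain ⟨eD, heD⟩ := Groth.Agent.SHEss.exists_normalisation_equiv D D' hD' ι hι
  have hcountD : ∀ (Dsh : Type u) [CommRing Dsh] [IsLocalRing Dsh] [Algebra D Dsh] [IsLocalHom (algebraMap D Dsh)]
      [Hensel.IsStrictHenselization D Dsh],
      ENat.card (minimalPrimes Dsh) = ENat.card {σ : D' →+* Ω // σ.comp ι.toRingHom = jD} := fun Dsh _ _ _ _ _ => by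
    have h := Groth.Agent.SHEss.card_minimalPrimes_sh_eq D Dsh (Groth.Agent.SHEss.finite_minimalPrimes_intermediate D)
      D' ι.toRingHom eD heD Ω ((algebraMap (ResidueField S) Ω).comp (ResidueField.map (algebraMap D S)))
    exact h
  haveI : IsLocalHom (algebraMap Dh S) := ((local_hom_TFAE (algebraMap Dh S)).out 0 2).2 (by
    rw [← Groth.Agent.Hensel.map_maximalIdeal_of_isHenselization D Dh, Ideal.map_map, ← IsScalarTower.algebraMap_eq]
    exact Ideal.map_le_iff_le_comap.2 fun d hd => map_nonunit (algebraMap D S) d hd)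
  constructor
  · rintro ⟨hinjD, hun⟩
    haveI := Groth.Agent.SHEss.isStrictHenselization_of_henselization_union D Dh hinjD hun
    obtain ⟨h2, h3⟩ := forward A S D A' D' hA' hD' hle ι hι
    refine ⟨?_, h2, h3⟩
    haveI hfinP : Finite {σ : D' →+* Ω // σ.comp ι.toRingHom = jD} :=
      ENat.card_lt_top.1 (hcountD S ▸ ENat.card_lt_top.2 inferInstance)
    refine (Set.finite_range fun σ : {σ : D' →+* Ω // σ.comp ι.toRingHom = jD} => RingHom.ker σ.1).subset fun N hN => ?_
    obtain ⟨σ, hσ, hσN⟩ := exists_point_ker ι.toRingHom hιint jD hjD N hN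
    exact ⟨⟨σ, hσ⟩, hσN⟩
  · rintro ⟨-, hsurj, hker⟩
    obtain ⟨huniq, hex⟩ := Groth.Agent.SHEss.pts_restrict_bijective (Subalgebra.inclusion hle) ι hιint jD
      (fun d hd => hjD.ge hd) hsurj hker.le
    have hjA : jD.comp (algebraMap A D) = jS.comp (algebraMap A S) := rfl
    -- the base
    have hmulA : ∀ d : nonZeroDivisors A, ∃ a ∈ nonZeroDivisors A, ∃ d' : A, (d : A) * d' = algebraMap A A a :=
      fun d => ⟨d, d.2, 1, mul_one _⟩
    haveI := Groth.Agent.Hensel.faithfullyFlat_of_isStrictHenselization A S
    obtain ⟨eA, heA⟩ := Groth.Agent.SHEss.exists_normalisation_equiv_gen A (FaithfulSMul.algebraMap_injective A S)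
      hmulA A' hA' (Algebra.ofId A A') fun a => rfl
    have hcountA : ENat.card (minimalPrimes S) =
        ENat.card {τ : A' →+* Ω // τ.comp (algebraMap A A') = jS.comp (algebraMap A S)} :=
      Groth.Agent.SHEss.card_minimalPrimes_sh_eq A S (minimalPrimes.finite_of_isNoetherianRing A)
        A' (algebraMap A A') eA heA Ω ((algebraMap (ResidueField S) Ω).comp (ResidueField.map (algebraMap A S)))
    let R : {σ : D' →+* Ω // σ.comp ι.toRingHom = jD} →
        {τ : A' →+* Ω // τ.comp (algebraMap A A') = jS.comp (algebraMap A S)} := fun σ =>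
      ⟨σ.1.comp (Subalgebra.inclusion hle).toRingHom, by
        refine RingHom.ext fun a => ?_
        show σ.1 (Subalgebra.inclusion hle (algebraMap A A' a)) = jD (algebraMap A D a)
        rw [AlgHom.commutes, ← ι.commutes]
        exact RingHom.congr_fun σ.2 (algebraMap A D a)⟩
    have hR : Function.Bijective R := ⟨fun σ₁ σ₂ h => Subtype.ext (huniq σ₁.1 σ₂.1 σ₁.2 σ₂.2 (congrArg Subtype.val h)),
      fun τ => by
        obtain ⟨σ, h1, h2⟩ := hex τ.1 (τ.2.trans hjA.symm)
        exact ⟨⟨σ, h1⟩, Subtype.ext h2⟩⟩
    haveI := Groth.Agent.SHEss.isStrictHenselization_of_card_eq D (fun Dsh _ _ _ _ _ => by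
      rw [hcountD Dsh, hcountA]
      exact ENat.card_congr (Equiv.ofBijective R hR))
    letI : Algebra A Dh := ((algebraMap D Dh).comp (algebraMap A D)).toAlgebra
    haveI : IsScalarTower A Dh S := IsScalarTower.of_algebraMap_eq fun a => by
      show algebraMap A S a = algebraMap Dh S (algebraMap D Dh (algebraMap A D a))
      rw [← IsScalarTower.algebraMap_apply D Dh S]
      rfl
    haveI : HenselianLocalRing Dh := (inferInstance : Hensel.IsHenselization D Dh).henselian
    haveI := Groth.Agent.BrnchLib.isStrictHenselization_over_henselization D Dh S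
    haveI := Groth.Agent.Hensel.faithfullyFlat_of_isStrictHenselization Dh S
    exact ⟨FaithfulSMul.algebraMap_injective Dh S, fun s hs =>
      Groth.Agent.SHEss.exists_essEtale_sub_of_henselian (A := A) Dh s hs⟩

end Groth.Agent.S16451
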