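import Groth.Statements.S16452
import Mathlib

set_option autoImplicit false
set_option backward.isDefEq.respectTransparency false
universe u
open CAlg

namespace Groth.Agent.S16452

theorem quot_bij (R : Type u) [CommRing R] (S : Type u) [CommRing S] [Algebra R S] [Algebra.FormallyEtale R S]
    (J : Ideal S) (hJ : Function.Surjective (algebraMap R (S ⧸ J))) (n : ℕ) :
    (∀ a : R, algebraMap R S a ∈ J ^ (n + 1) → a ∈ (J.comap (algebraMap R S)) ^ (n + 1)) ∧
      ∀ b : S, ∃ a : R, b - algebraMap R S a ∈ J ^ (n + 1) := by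
  let I := J.comap (algebraMap R S)
  let ι₁ : (R ⧸ I) →ₐ[R] S ⧸ J := Ideal.quotientMapₐ J (Algebra.ofId R S) le_rfl
  have hι₁ : Function.Bijective ι₁ := by
    refine ⟨Ideal.quotientMap_injective, fun y => ?_⟩
    obtain ⟨a, ha⟩ := hJ y
    exact ⟨Ideal.Quotient.mk I a, ha⟩
  let e : (R ⧸ I) ≃ₐ[R] S ⧸ J := AlgEquiv.ofBijective ι₁ hι₁
  let π : (R ⧸ I ^ (n + 1)) →ₐ[R] R ⧸ I := Ideal.Quotient.factorₐ R (Ideal.pow_le_self (Nat.succ_ne_zero n))
  have hπker : RingHom.ker π.toRingHom ≤ I.map (Ideal.Quotient.mk (I ^ (n + 1))) := by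
    intro x hx
    obtain ⟨a, rfl⟩ := Ideal.Quotient.mk_surjective x
    exact Ideal.mem_map_of_mem _ (Ideal.Quotient.eq_zero_iff_mem.1 hx)
  have hπnil : IsNilpotent (RingHom.ker π.toRingHom) :=
    ⟨n + 1, le_bot_iff.1 ((Ideal.pow_right_mono hπker (n + 1)).trans (by rw [← Ideal.map_pow, Ideal.map_quotient_self]))⟩
  let σ : S →ₐ[R] R ⧸ I ^ (n + 1) := Algebra.FormallySmooth.liftOfSurjective
    (e.symm.toAlgHom.comp (Ideal.Quotient.mkₐ R J)) π (Ideal.Quotient.factor_surjective (Ideal.pow_le_self (Nat.succ_ne_zero n))) hπnil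
  have hσ : ∀ s, π (σ s) = e.symm (Ideal.Quotient.mk J s) := fun s =>
    Algebra.FormallySmooth.liftOfSurjective_apply _ π (Ideal.Quotient.factor_surjective (Ideal.pow_le_self (Nat.succ_ne_zero n))) hπnil s
  have hσJ : ∀ j ∈ J ^ (n + 1), σ j = 0 := by
    intro j hj
    have h1 : J ≤ (I.map (Ideal.Quotient.mk (I ^ (n + 1)))).comap σ.toRingHom := fun s hs => hπker (by
      rw [RingHom.mem_ker]
      show π (σ s) = 0
      rw [hσ, Ideal.Quotient.eq_zero_iff_mem.2 hs, map_zero])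
    have h2 := (Ideal.pow_right_mono h1 (n + 1)).trans (Ideal.le_comap_pow σ.toRingHom _) hj
    rw [Ideal.mem_comap, ← Ideal.map_pow, Ideal.map_quotient_self] at h2
    exact h2
  refine ⟨fun a ha => ?_, fun b => ?_⟩
  · have h := hσJ _ ha
    rw [AlgHom.commutes] at h
    exact Ideal.Quotient.eq_zero_iff_mem.1 h
  · have hle : I ^ (n + 1) ≤ (J ^ (n + 1)).comap (algebraMap R S) := Ideal.le_comap_pow _ _
    let ι : (R ⧸ I ^ (n + 1)) →ₐ[R] S ⧸ J ^ (n + 1) := Ideal.quotientMapₐ (J ^ (n + 1)) (Algebra.ofId R S) hle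
    have heq : ι.comp σ = Ideal.Quotient.mkₐ R (J ^ (n + 1)) := by
      refine Algebra.FormallyUnramified.ext (I := J.map (Ideal.Quotient.mk (J ^ (n + 1))))
        ⟨n + 1, by rw [← Ideal.map_pow, Ideal.map_quotient_self]; rfl⟩ fun s => ?_
      obtain ⟨a, ha⟩ := Ideal.Quotient.mk_surjective (σ s)
      have h3 : ι₁ (π (σ s)) = Ideal.Quotient.mk J s := by rw [hσ]; exact e.apply_symm_apply _
      have h4 : Ideal.Quotient.mk J (algebraMap R S a) = Ideal.Quotient.mk J s := by rw [← h3, ← ha]; rfl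
      rw [Ideal.Quotient.eq]
      show ι (σ s) - Ideal.Quotient.mk (J ^ (n + 1)) s ∈ _
      rw [← ha]
      show Ideal.Quotient.mk (J ^ (n + 1)) (algebraMap R S a) - Ideal.Quotient.mk (J ^ (n + 1)) s ∈ _
      rw [← map_sub]
      exact Ideal.mem_map_of_mem _ (Ideal.Quotient.eq.1 h4)
    obtain ⟨a, ha⟩ := Ideal.Quotient.mk_surjective (σ b)
    refine ⟨a, Ideal.Quotient.eq.1 ?_⟩
    have h5 := (AlgHom.congr_fun heq b).symm
    rw [AlgHom.comp_apply, ← ha] at h5
    exact h5

/-- Let R → S be formally étale and J an ideal of S such that the composite R → S → S/J is surjective;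
let I ⊆ R be its kernel, the preimage of J in R. Then the homomorphism of associated graded rings ⊕ₙ
Iⁿ/Iⁿ⁺¹ → ⊕ₙ Jⁿ/Jⁿ⁺¹ induced by R → S (which carries I into J) is bijective. -/
theorem result (R : Type u) [CommRing R] (S : Type u)
    [CommRing S] [Algebra R S] [Algebra.FormallyEtale R S] (J : Ideal S)
    (hJ : Function.Surjective (algebraMap R (S ⧸ J))) :
    Function.Bijective (AssocGr.map (AssocGr.IsFiltHom.adic
      (Ideal.map_comap_le : (J.comap (algebraMap R S)).map (algebraMap R S) ≤ J))) := by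
  classical
  let I := J.comap (algebraMap R S)
  let φ := algebraMap R S
  have hφ : ∀ n, ∀ a ∈ I ^ n, φ a ∈ J ^ n := fun n a ha => Ideal.le_comap_pow φ n ha
  have hbar : ∀ n, ∀ b ∈ J ^ n, ∃ a ∈ I ^ n, b - φ a ∈ J ^ (n + 1) := by
    intro n b hb
    obtain ⟨a, ha⟩ := (quot_bij R S J hJ n).2 b
    refine ⟨a, ?_, ha⟩
    rcases Nat.eq_zero_or_pos n with rfl | hn
    · simp
    · obtain ⟨k, rfl⟩ := Nat.exists_eq_succ_of_ne_zero hn.ne'
      exact (quot_bij R S J hJ k).1 a (by
        have := sub_mem hb (Ideal.pow_le_pow_right (Nat.le_succ _) ha)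
        rwa [sub_sub_cancel] at this)
  constructor
  · rw [injective_iff_map_eq_zero]
    intro x hx
    obtain ⟨f, rfl⟩ := AssocGr.mkG_surjective _ x
    rw [AssocGr.map_mkG, AssocGr.mkG_eq_zero_iff] at hx
    rw [AssocGr.mkG_eq_zero_iff]
    intro n
    refine (quot_bij R S J hJ n).1 _ ?_
    have := hx n
    rwa [AssocGr.coe_reesMap, Polynomial.coeff_map] at this
  · intro x
    obtain ⟨g, rfl⟩ := AssocGr.mkG_surjective _ x
    choose a haI ha using fun n => hbar n ((g : Polynomial S).coeff n) (g.2 n)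
    let f : (FiltBl.IdealFiltration.adic I).rees :=
      ∑ n ∈ (g : Polynomial S).support, (AssocGr.monom (FiltBl.IdealFiltration.adic I) n ⟨a n, haI n⟩).1
    refine ⟨AssocGr.mkG _ f, ?_⟩
    rw [AssocGr.map_mkG, ← sub_eq_zero, ← map_sub, AssocGr.mkG_eq_zero_iff]
    intro n
    show ((f : Polynomial R).map φ - (g : Polynomial S)).coeff n ∈ J ^ (n + 1)
    rw [Polynomial.coeff_sub, Polynomial.coeff_map]
    simp only [f, AddSubmonoidClass.coe_finsetSum, Polynomial.finsetSum_coeff, AssocGr.coe_coe_monom,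
      Polynomial.coeff_monomial]
    rw [Finset.sum_ite_eq']
    split_ifs with h
    · rw [← neg_sub]; exact neg_mem (ha n)
    · rw [Polynomial.notMem_support_iff.1 h, map_zero, sub_zero]; exact zero_mem _

end Groth.Agent.S16452
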