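import Groth.Statements.S16486
import Groth.Agent.Deform.SubFT.Basic
import Groth.Agent.ParaFX.Ufd
import Groth.Agent.Ref1X.Big


set_option autoImplicit false
universe u
open CategoryTheory AlgebraicGeometry
open SGA3

namespace Groth.Agent.S16486
set_option backward.isDefEq.respectTransparency false
set_option linter.style.haveILetI false
open Groth.Agent

/-- Let S be a Noetherian normal scheme, A a flat quasi-coherent O_S-module, F ⊆ A a sub-O_S-module of
finite type, and U ⊆ S the set of points s at which the stalk F_s is a flat O_{S,s}-module (the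
flatness locus of F, which is open); write j : U → S for the inclusion of the corresponding open
subscheme. Then the bidual F^** = 𝓗om(𝓗om(F, O_S), O_S) is identified with j_* j^* F: there is an
isomorphism F^** ≅ j_*(F|_U) whose composite with the canonical map F → F^** is the unit F → j_* j^*
F of the adjunction between restriction to U and direct image (such an isomorphism is unique). The
openness of U is taken as part of the hypothesis that U is an open with this underlying set. -/
theorem result (S : Scheme.{u}) [IsNoetherian S]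
    (hS : Pi1.IsNormalScheme S) (A F : S.Modules) (hA : Coh.IsQCoh A) (hAfl : FlatMod.IsFlat A)
    (ι : F ⟶ A) [Mono ι] (hF : CohB1.IsFT F) (U : S.Opens) (hU : (U : Set S) = {s : S | FlatMod.IsFlatAt F s}) :
    ∃ e : RefHull.ddual F ≅ (Scheme.Modules.pushforward U.ι).obj (F.restrict U.ι),
      RefHull.bidualMap F ≫ e.hom = (Scheme.Modules.restrictAdjunction U.ι).unit.app F := by
  have hFq : Coh.IsQCoh F := Deform.SubFT.isQCoh_of_mono ι hA hF
  have hFc : Coh.IsCoh F := ⟨hFq, hF⟩
  have hmem : ∀ x : S, x ∈ U ↔ FlatMod.IsFlatAt F x := fun x => Set.ext_iff.1 hU x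
  have hout : ∀ x : S, x ∉ U → (2 : ℕ∞) ≤ LocCoh.depth (S.presheaf.stalk x) (S.presheaf.stalk x) := by
    intro x hx
    haveI := (hS x).1
    haveI := (hS x).2
    refine ParaFX.two_le_depth_of_normal _ ?_
    by_contra hc
    haveI := QCoh.finite_stalk_of_isFT hFq hF x
    haveI : Module.Flat (S.presheaf.stalk x) (A.presheaf.stalk x) := hAfl x
    haveI : Module.IsTorsionFree (S.presheaf.stalk x) (A.presheaf.stalk x) := inferInstance
    haveI : Module.IsTorsionFree (S.presheaf.stalk x) (F.presheaf.stalk x) :=
      CAlgOdd.Refl.isTorsionFree_of_injective (RefHull.stalkMapₗ ι x) (ZClosLib.stalkMap_injective_of_mono ι x)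
    haveI := Ref1X.free_of_dim_le_one (R := S.presheaf.stalk x) (M := F.presheaf.stalk x)
      (Ref1X.le_one_of_not_two_le hc)
    exact hx ((hmem x).2 (show Module.Flat (S.presheaf.stalk x) (F.presheaf.stalk x) from inferInstance))
  have hbij : ∀ x ∈ U, Function.Bijective (RefHull.stalkMapₗ (RefHull.bidualMap F) x) := by
    intro x hx
    haveI := QCoh.finite_stalk_of_isFT hFq hF x
    haveI : Module.Flat (S.presheaf.stalk x) (F.presheaf.stalk x) := (hmem x).1 hx
    exact Ref1X.bidual_bijective_of_free hFc x Module.free_of_flat_of_isLocalRing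
  have hext : RefX.ExtendsAcross U (RefHull.ddual F) :=
    RefX.extendsAcross_homSh (RefX.isCoh_dual hFc).1 (RefX.extendsAcross_unit hout)
  haveI := RefX.isIso_unit_of_extendsAcross hext
  haveI := Ref1X.isIso_restrict_of_stalk (RefHull.bidualMap F) hbij
  let R := Scheme.Modules.restrictFunctor U.ι
  let P := Scheme.Modules.pushforward U.ι
  refine ⟨asIso ((Scheme.Modules.restrictAdjunction U.ι).unit.app (RefHull.ddual F)) ≪≫
    P.mapIso (asIso (R.map (RefHull.bidualMap F))).symm, ?_⟩
  have hn := (Scheme.Modules.restrictAdjunction U.ι).unit.naturality (RefHull.bidualMap F)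
  simp only [Functor.id_map, Functor.id_obj, Functor.comp_map] at hn
  rw [Iso.trans_hom, asIso_hom, ← Category.assoc]
  erw [hn]
  rw [Category.assoc]
  show _ ≫ P.map (R.map (RefHull.bidualMap F)) ≫ P.map (asIso (R.map (RefHull.bidualMap F))).inv = _
  rw [← Functor.map_comp, asIso_inv, IsIso.hom_inv_id, P.map_id]
  exact Category.comp_id _

end Groth.Agent.S16486
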