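import Groth.Statements.S16516
import Groth.Agent.BinQuintic.Basic

set_option autoImplicit false
universe u
open RatCurv

namespace Groth.Agent.S16516


/-- A smooth nondegenerate rational quintic curve C ⊂ P^4 has exactly one 3-secant line. Stated for C
given as the image of P^1 under a 5-dimensional linear series V of binary quintic forms which
separates every length-2 subscheme of P^1 (for every nonzero quadratic form e the forms of V
together with the multiples of e span all quintic forms), so that P^1 → P(V^*) = P^4 is a closed
embedding with nondegenerate image; the linear forms on P^4 are the elements of V, a line L ⊂ P^4 is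
recorded by the 3-dimensional space of linear forms vanishing on it, and L ∩ C has length at least 3
exactly when that space consists of the multiples g · K[s,t]_2 of a cubic form g. The conclusion: a
nonzero cubic g with g · K[s,t]_2 ⊆ V exists and is unique up to a scalar. (That such a line meets C
in length exactly 3, i.e. is not 4-secant, is immediate in this description and is not restated; the
ground field is algebraically closed of characteristic zero in place of the complex numbers.) -/
theorem result (K : Type u) [Field K] [IsAlgClosed K]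
    [CharZero K] (V : Submodule K (MvPolynomial (Fin 2) K))
    (hV : V ≤ MvPolynomial.homogeneousSubmodule (Fin 2) K 5) (hdim : Module.finrank K ↥V = 5)
    (hsep : ∀ e ∈ MvPolynomial.homogeneousSubmodule (Fin 2) K 2, e ≠ 0 →
      ∀ F ∈ MvPolynomial.homogeneousSubmodule (Fin 2) K 5, ∃ v ∈ V,
        ∃ h ∈ MvPolynomial.homogeneousSubmodule (Fin 2) K 3, F = v + e * h) :
    ∃ g ∈ MvPolynomial.homogeneousSubmodule (Fin 2) K 3, g ≠ 0 ∧
      (∀ h ∈ MvPolynomial.homogeneousSubmodule (Fin 2) K 2, g * h ∈ V) ∧
      ∀ g' ∈ MvPolynomial.homogeneousSubmodule (Fin 2) K 3,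
        (∀ h ∈ MvPolynomial.homogeneousSubmodule (Fin 2) K 2, g' * h ∈ V) → ∃ c : K, g' = c • g := by
  classical
  let V' : Submodule K (BinQuintic.S K 5) := V.comap (Submodule.subtype _)
  have hV' : Module.finrank K V' = 5 := by
    exact (Submodule.comapSubtypeEquivOfLe hV).finrank_eq.trans hdim
  have hlt : V' < ⊤ := by
    rw [lt_top_iff_ne_top]
    intro h
    rw [h, finrank_top, BinQuintic.finrank_S] at hV'
    omega
  obtain ⟨φ, hφ0, hφ⟩ := Submodule.exists_le_ker_of_lt_top V' hlt
  have hinj := BinQuintic.pair_injective (V := V) hsep φ (fun v hv => LinearMap.mem_ker.1 (hφ hv)) hφ0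
  have hker : LinearMap.ker φ = V' := by
    refine (Submodule.eq_of_le_of_finrank_le hφ ?_).symm
    have h1 := LinearMap.finrank_range_add_finrank_ker φ
    rw [BinQuintic.finrank_S, Module.Dual.range_eq_top_of_ne_zero hφ0, finrank_top, Module.finrank_self] at h1
    omega
  have hap := BinQuintic.finrank_apolar hinj
  have hiff : ∀ g : BinQuintic.S K 3, g ∈ BinQuintic.apolar φ ↔
      ∀ h ∈ MvPolynomial.homogeneousSubmodule (Fin 2) K 2, (g : MvPolynomial (Fin 2) K) * h ∈ V := by
    intro g
    rw [BinQuintic.mem_apolar]
    constructor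
    · intro hg h hh
      have := hg ⟨h, hh⟩
      rw [← LinearMap.mem_ker, hker] at this
      rw [mul_comm]; exact this
    · intro hg h
      rw [← LinearMap.mem_ker, hker]
      show ((h : MvPolynomial (Fin 2) K) * (g : MvPolynomial (Fin 2) K)) ∈ V
      rw [mul_comm]; exact hg h h.2
  obtain ⟨g, hg, hg0, hgen⟩ := BinQuintic.exists_gen_apolar hinj
  refine ⟨g.1, g.2, fun h => hg0 (Subtype.ext h), (hiff g).1 hg, fun g' hg' hall => ?_⟩
  obtain ⟨c, hc⟩ := hgen ⟨g', hg'⟩ ((hiff ⟨g', hg'⟩).2 hall)
  exact ⟨c, (congrArg (fun x => ((x : BinQuintic.S K 3) : MvPolynomial (Fin 2) K)) hc).symm⟩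

end Groth.Agent.S16516
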