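import Groth.Statements.S16517
-- import your own Groth.Agent.* helpers here
import Groth.Agent.H4CI.GorLink

set_option autoImplicit false
universe u
open CAlg

namespace Groth.Agent.S16517

/-- Let R be a regular local ring, A a Gorenstein local ring which is a flat R-algebra through a local
homomorphism, I ⊂ A an ideal of codimension zero (the Krull dimension of A/I equals that of A) with
A/I Cohen–Macaulay, and J = (0 : I) the annihilator of I in A (the ideal of the residual subscheme).
Then A/I and A/J are flat over R. -/
theorem result (R A : Type u)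
    [CommRing R] [IsRegularLocalRing R] [CommRing A] [Algebra R A] [LocCoh.IsGorensteinLocalRing A]
    [IsLocalHom (algebraMap R A)] [Module.Flat R A] (I : Ideal A)
    (hI : ringKrullDim (A ⧸ I) = ringKrullDim A) [LocCoh.IsCohenMacaulayLocalRing (A ⧸ I)] :
    Module.Flat R (A ⧸ I) ∧ Module.Flat R (A ⧸ (Submodule.annihilator I)) := by
  refine ⟨Groth.Agent.H4CI.GorLink.flat_quot I hI, ?_⟩
  by_cases hJ : Submodule.annihilator I = ⊤
  · haveI : Subsingleton (A ⧸ Submodule.annihilator I) := Ideal.Quotient.subsingleton_iff.2 hJ
    infer_instance
  · obtain ⟨h1, h2⟩ := Groth.Agent.H4CI.GorLink.residual I hI hJ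
    haveI := h2
    exact Groth.Agent.H4CI.GorLink.flat_quot _ h1

end Groth.Agent.S16517
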