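import Groth.Statements.S16520
import Groth.Agent.HyperellLib.Push
import Groth.Agent.Lib.CurveHiggs
import Groth.Agent.ConsPropLib.FibreLocFree

set_option linter.style.haveILetI false
set_option linter.unusedSectionVars false
set_option backward.isDefEq.respectTransparency false
set_option backward.isDefEq.respectTransparency.types false

set_option autoImplicit false
universe u
open CategoryTheory CategoryTheory.Limits AlgebraicGeometry
open Curves

namespace Groth.Agent.S16520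

open TopologicalSpace Opposite
open Groth.Agent Groth.Agent.CurveBundle Groth.Agent.CurveSlope Groth.Agent.CurveStable Groth.Agent.CurveDuality
open Groth.Agent.HyperellLib

local notation "tw" => Groth.Agent.P1Bundle.tw

theorem coprodIso {X : Scheme.{u}} (F : Fin 2 → X.Modules) : Nonempty (F 0 ⊞ F 1 ≅ ∐ F) :=
  ⟨{ hom := biprod.desc (Sigma.ι F 0) (Sigma.ι F 1)
     inv := Sigma.desc fun | 0 => biprod.inl | 1 => biprod.inr
     hom_inv_id := by
       refine biprod.hom_ext' _ _ ?_ ?_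
       · simp
       · simp
     inv_hom_id := by
       refine Sigma.hom_ext _ _ fun j => ?_
       fin_cases j <;> simp }⟩

variable {k : Type u} [Field k] [IsAlgClosed k] {E : Scheme.{u}} [E.Over (Spec (CommRingCat.of k))]
  [IsIntegral E] [IsProper (E ↘ Spec (CommRingCat.of k))] [Smooth (E ↘ Spec (CommRingCat.of k))]
  (hE : topologicalKrullDim E = 1) (h0 : Module.finrank k (Coh.HH E (Coh.structureModule E) 0) = 1)
  (hg : Curv2.genus k E = 1)

include hE in
theorem deg_nonneg_of_h0 {M : E.Modules} (hM : PicF.IsInvertible M)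
    (h : Module.finrank k (Coh.HH E M 0) ≠ 0) :
    0 ≤ Curv2.deg k E M 1 ∧ (Curv2.deg k E M 1 = 0 → Nonempty (M ≅ Coh.structureModule E)) := by
  obtain ⟨s, hs⟩ := CurveRR.exists_hom_ne_zero k h
  obtain ⟨h1, h2⟩ := CurveDeg.deg_le_and_isIso k hE.le CurveDeg.isInvertible_structureModule hM s hs
  have hO : Curv2.deg k E (Coh.structureModule E) 1 = 0 := by unfold Curv2.deg; omega
  rw [hO] at h1 h2
  refine ⟨h1, fun e => ?_⟩
  haveI := h2 e.symm
  exact ⟨(asIso s).symm⟩

include hE h0 hg in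
theorem h0_ge {M : E.Modules} (hM : PicF.IsInvertible M) :
    Curv2.deg k E M 1 ≤ Module.finrank k (Coh.HH E M 0) := by
  have h1 := CurveRR.euler_eq_h0_sub_h1 k hE.le (ProjUPX.isQCoh_of_isInvertible hM)
  have h2 := CurveRR.euler_eq_h0_sub_h1 k hE.le (QCoh.isQCoh_structureModule (X := E))
  rw [h0] at h2
  rw [Curv2.genus] at hg
  rw [hg] at h2
  unfold Curv2.deg
  omega

include hE h0 hg in
theorem split_types (f : E ⟶ CohB1.ProjSpace 1 k) (hf : f ≫ CohB1.ProjSpace.toSpec 1 k = E ↘ Spec (CommRingCat.of k))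
    [IsFinite f] [Flat f] (hrk : ∀ y : ↥(CohB1.ProjSpace 1 k), Scheme.Hom.finrank f y = 2)
    (L : E.Modules) (hL : PicF.IsInvertible L) :
    ∃ a b : ℤ, Nonempty ((Scheme.Modules.pushforward f).obj L ≅ tw k a ⊞ tw k b) ∧
      a + b = Curv2.deg k E L 1 - 2 ∧
      (∀ e : ℤ, Curv2.deg k E L 1 = 2 * e + 1 → a = e ∧ b = e - 1) ∧
      (∀ e : ℤ, Curv2.deg k E L 1 = 2 * e → IsEmpty (L ≅ (Scheme.Modules.pullback f).obj (tw k e)) →
        a = e - 1 ∧ b = e - 1) := by
  let F := Scheme.Modules.pullback f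
  let Pf := Scheme.Modules.pushforward f
  have hinv : ∀ n, PicF.IsInvertible (F.obj (tw k n)) := fun n => PicClLib.isInvertible_pullback f (P1Bundle.inv_tw k n)
  have hdegF := deg_pullback_tw k f hf hrk
  have hχ0 : Curv2.euler k E (Coh.structureModule E) = 0 := by
    rw [CurveRR.euler_eq_h0_sub_h1 k hE.le QCoh.isQCoh_structureModule, h0]
    rw [Curv2.genus] at hg
    rw [hg]
    omega
  -- comparisons with pulled back twists
  have hcmp : ∀ M N : E.Modules, PicF.IsInvertible M → PicF.IsInvertible N →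
      Curv2.deg k E M 1 < Curv2.deg k E N 1 → ∃ u : M ⟶ N, Mono u := fun M N hM hN hlt => by
    have hM1 := InvEnd.isFinLocFreeOfRank_one hM
    have hN1 := InvEnd.isFinLocFreeOfRank_one hN
    obtain ⟨u, hu⟩ := CurveHom.exists_hom_ne_zero k hE (CurveStable.isFinLocFree_of_rank hM1)
      (CurveStable.isFinLocFree_of_rank hN1) (by
        rw [rk_eq hM1, rk_eq hN1, hχ0, ← deg_eq_dg k hM1, ← deg_eq_dg k hN1]
        push_cast
        omega)
    exact ⟨u, InvEnd.mono_of_ne_zero hM hN u hu⟩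
  set d := Curv2.deg k E L 1 with hdd
  obtain ⟨u, hu⟩ := hcmp L (F.obj (tw k (|d| + 1))) hL (hinv _) (by rw [hdegF, ← hdd]; have := le_abs_self d; have := hdd; have := abs_nonneg d; omega)
  obtain ⟨v, hv⟩ := hcmp (F.obj (tw k (-|d| - 1))) L (hinv _) hL (by rw [hdegF, ← hdd]; have := neg_abs_le d; have := hdd; have := abs_nonneg d; omega)
  haveI := hu
  haveI := hv
  haveI : Pf.IsRightAdjoint := ⟨_, ⟨Scheme.Modules.pullbackPushforwardAdjunction f⟩⟩
  haveI : Mono (Pf.map u) := Functor.map_mono Pf u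
  haveI : Mono (Pf.map v) := Functor.map_mono Pf v
  haveI := CurveCohLib.isNoetherian_of_proper (k := k) (X := E)
  have hfree : ∀ n, FlatMod.IsFinLocFree (Pf.obj (F.obj (tw k n))) ∧ rk (Pf.obj (F.obj (tw k n))) = 2 := fun n => by
    obtain ⟨p⟩ := push_pullback_tw k f hf n (M := Coh.structureModule E)
    obtain ⟨e'⟩ := push_pullback_tw_decomp k f hf hrk h0 hg n
    refine ⟨(ConsPropLib.isFinLocFree_iso (p ≪≫ Pf.mapIso (KFlatLib.tensorUnitIso _))).1
      (KFlatLib.isFinLocFree_tensor (P1Bundle.free_tw k n)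
        (CurveStable.isFinLocFree_of_rank (isFinLocFreeOfRank_two k f hrk))), ?_⟩
    obtain ⟨c⟩ := coprodIso (fun i : Fin 2 => tw k (![n, n - (1 : ℕ) - 1] i))
    rw [rk_congr (e' ≪≫ c ≪≫ (biproduct.isoCoproduct _).symm)]
    exact (P1Bundle.finrank_biproduct k _).1
  have hLc : Coh.IsCoh (Pf.obj L) := QCoh.isCoh_pushforward_finite f (CurveDeg.isCoh_of_isInvertible hL)
  have hLf := isFinLocFree_of_mono k (P1Bundle.hdim k).le hLc (Pf.map u) (hfree _).1
  have hL2 : FlatMod.IsFinLocFreeOfRank 2 (Pf.obj L) := by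
    have h1 := rk_le_of_mono k (Pf.map u) (CurveStable.coh_of_free k (hfree (|d| + 1)).1)
    have h2 := rk_le_of_mono k (Pf.map v) hLc
    rw [(hfree _).2] at h1 h2
    have := isFinLocFreeOfRank_rk hLf
    rwa [show rk (Pf.obj L) = 2 by omega] at this
  obtain ⟨a, b, hab, ⟨e0⟩⟩ := exists_decomp_two k hL2
  have key : ∀ n : ℤ, ∃ M : E.Modules, PicF.IsInvertible M ∧ Curv2.deg k E M 1 = d - 2 * n ∧
      (Module.finrank k (Coh.HH E M 0) : ℤ) = max 0 (a - n + 1) + max 0 (b - n + 1) ∧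
      (Nonempty (M ≅ Coh.structureModule E) → Nonempty (L ≅ F.obj (tw k n))) := fun n => by
    let M := (DCoh.tensorBi.obj (F.obj (tw k (-n)))).obj L
    have hM : PicF.IsInvertible M := InvX.isInvertible_tensorMod (hinv _) hL
    refine ⟨M, hM, ?_, ?_, fun ⟨w⟩ => ?_⟩
    · rw [CurveRR.deg_tensor k hE (hinv _) hL, hdegF]; ring
    · obtain ⟨p⟩ := push_pullback_tw k f hf (-n) (M := L)
      let T := DCoh.tensorBi.obj (tw k (-n))
      haveI := DCoh.additive_tensorBi_obj (tw k (-n))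
      haveI := preservesBinaryBiproduct_of_preservesBinaryProduct (F := T) (X := tw k a) (Y := tw k b)
      obtain ⟨t0⟩ := tw_tensor k (-n) a
      obtain ⟨t1⟩ := tw_tensor k (-n) b
      rw [← finrank_hh_push k f hf (ProjUPX.isQCoh_of_isInvertible hM),
        (hhEquiv k (p.symm ≪≫ T.mapIso e0 ≪≫ T.mapBiprod (tw k a) (tw k b) ≪≫ biprod.mapIso t0 t1) 0).finrank_eq,
        (h_tw_add k _ _).1]
      omega
    · obtain ⟨z⟩ := tw_zero k
      obtain ⟨t⟩ := tw_tensor k n (-n)
      let B := DCoh.tensorBi.obj (F.obj (tw k n))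
      have hz : (DCoh.tensorBi.obj (F.obj (tw k n))).obj (F.obj (tw k (-n))) ≅ Coh.structureModule E :=
        (((KFlatLib.pullTensorBiIso f).app (tw k n)).app (tw k (-n))).symm ≪≫
          F.mapIso (t ≪≫ eqToIso (by rw [add_neg_cancel]) ≪≫ z) ≪≫ CurveBC.unitIso f
      exact ⟨((CurveRR.cancelIso hz).app L).symm ≪≫ B.mapIso w ≪≫ KFlatLib.tensorUnitIso _⟩
  have hsum : a + b = d - 2 := by
    have hh := h_tw_add k a b
    rw [← (hhEquiv k e0 0).finrank_eq, ← (hhEquiv k e0 1).finrank_eq,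
      finrank_hh_push k f hf (ProjUPX.isQCoh_of_isInvertible hL),
      finrank_hh_push k f hf (ProjUPX.isQCoh_of_isInvertible hL)] at hh
    have h1 := CurveRR.euler_eq_h0_sub_h1 k hE.le (ProjUPX.isQCoh_of_isInvertible hL)
    have hd' : d = Curv2.euler k E L := by rw [hdd, Curv2.deg, hχ0]; ring
    omega
  have hle : ∀ n, n ≤ a → 0 ≤ d - 2 * n ∧ (d = 2 * n → Nonempty (L ≅ F.obj (tw k n))) := fun n hn => by
    obtain ⟨M, hM, hd', hh, hi⟩ := key n
    obtain ⟨p1, p2⟩ := deg_nonneg_of_h0 hE hM (by omega : Module.finrank k (Coh.HH E M 0) ≠ 0)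
    exact ⟨by omega, fun e => hi (p2 (by omega))⟩
  have hge : ∀ n, 2 * n + 1 ≤ d → n ≤ a := fun n hn => by
    obtain ⟨M, hM, hd', hh, -⟩ := key n
    have := h0_ge hE h0 hg hM
    omega
  refine ⟨a, b, ⟨e0⟩, hsum, fun e he => ?_, fun e he hne => ?_⟩
  · have := hge e (by omega)
    have := (hle a le_rfl).1
    omega
  · have := (hle a le_rfl).1
    by_cases hae : a = e
    · exact (hne.false ((hle e (by omega)).2 he).some).elim
    · omega


/-- Let E be an elliptic curve over an algebraically closed field k of characteristic zero (in place of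
the complex numbers): smooth, proper and geometrically connected over k, of dimension one and genus
dim_k H^1(E, O_E) = 1; let π : E → P^1_k be a k-morphism which is finite and flat of constant rank
2, and L an invertible O_E-module of degree d = χ(L) − χ(O_E). If d = 2e + 1 then π_*L ≅ O(e) ⊕ O(e
− 1); if d = 2e and L ≅ π^*O(e) then π_*L ≅ O(e) ⊕ O(e − 2); if d = 2e and L is not isomorphic to
π^*O(e) then π_*L ≅ O(e − 1) ⊕ O(e − 1). (Existence of isomorphisms of O-modules on P^1_k; the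
source states the isomorphisms abstractly.) -/
theorem result (k : Type u) [Field k]
    [IsAlgClosed k] [CharZero k] (E : Scheme.{u}) [E.Over (Spec (CommRingCat.of k))] [IsProper (E ↘ Spec (CommRingCat.of k))]
    [Smooth (E ↘ Spec (CommRingCat.of k))] [GeometricallyConnected (E ↘ Spec (CommRingCat.of k))]
    (hE : topologicalKrullDim E = 1) (hg : Curv2.genus k E = 1)
    (π : E ⟶ CohB1.ProjSpace 1 k) (hπ : π ≫ CohB1.ProjSpace.toSpec 1 k = E ↘ Spec (CommRingCat.of k))
    [IsFinite π] [Flat π] (hrk : ∀ y : ↥(CohB1.ProjSpace 1 k), Scheme.Hom.finrank π y = 2)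
    (L : E.Modules) (hL : PicF.IsInvertible L) (d : ℤ) (hd : Curv2.deg k E L 1 = d) :
    (∀ e : ℤ, d = 2 * e + 1 → Nonempty ((Scheme.Modules.pushforward π).obj L ≅
        ∐ fun j : Fin 2 => Twist.twistProjSpace 1 k (![e, e - 1] j))) ∧
    (∀ e : ℤ, d = 2 * e → Nonempty (L ≅ (Scheme.Modules.pullback π).obj (Twist.twistProjSpace 1 k e)) →
        Nonempty ((Scheme.Modules.pushforward π).obj L ≅
          ∐ fun j : Fin 2 => Twist.twistProjSpace 1 k (![e, e - 2] j))) ∧
    (∀ e : ℤ, d = 2 * e → IsEmpty (L ≅ (Scheme.Modules.pullback π).obj (Twist.twistProjSpace 1 k e)) →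
        Nonempty ((Scheme.Modules.pushforward π).obj L ≅
          ∐ fun j : Fin 2 => Twist.twistProjSpace 1 k (![e - 1, e - 1] j))) := by
  haveI : IsIntegral E := CurveBC.isIntegral_of_h0 k E (CurveBC.finrank_h0_of_geometricallyConnected k E)
  have h0 := CurveBC.finrank_h0_of_geometricallyConnected k E
  obtain ⟨a, b, ⟨e0⟩, hsum, hodd, heven⟩ := split_types hE h0 hg π hπ hrk L hL
  rw [hd] at hsum hodd heven
  refine ⟨fun e he => ?_, fun e he ⟨w⟩ => ?_, fun e he hne => ?_⟩
  · obtain ⟨rfl, rfl⟩ := hodd e he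
    obtain ⟨c⟩ := coprodIso (fun j : Fin 2 => Twist.twistProjSpace 1 k (![a, a - 1] j))
    exact ⟨e0 ≪≫ c⟩
  · obtain ⟨z⟩ := push_pullback_tw_decomp k π hπ hrk h0 hg e
    obtain ⟨c⟩ := coprodIso (fun j : Fin 2 => Twist.twistProjSpace 1 k (![e, e - 2] j))
    exact ⟨(Scheme.Modules.pushforward π).mapIso w ≪≫ z ≪≫
      biprod.mapIso (Iso.refl _) (eqToIso (by norm_num [sub_sub])) ≪≫ c⟩
  · obtain ⟨rfl, rfl⟩ := heven e he hne
    obtain ⟨c⟩ := coprodIso (fun j : Fin 2 => Twist.twistProjSpace 1 k (![e - 1, e - 1] j))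
    exact ⟨e0 ≪≫ c⟩

end Groth.Agent.S16520
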