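import Groth.Statements.S1653
import Groth.Agent.FibDim.StalkIneq
import Groth.Agent.FibDim.BaseField
-- import your own Groth.Agent.* helpers here

set_option autoImplicit false
universe u
open CategoryTheory CategoryTheory.Limits AlgebraicGeometry
open Variety

namespace Groth.Agent.S1653

/-- Let f : X → Y be a k-morphism of schemes locally of finite type over a field k, with X irreducible
of dimension a, and let the closure of the image of f have dimension b. Then the local fibre
dimension of f at every point of X is at least a - b, and the set of points where it equals a - b is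
open and dense. -/
theorem result (k : Type u) [Field k] (X Y : Scheme.{u}) [X.Over (Spec (CommRingCat.of k))] [Y.Over (Spec (CommRingCat.of k))]
    [LocallyOfFiniteType (X ↘ (Spec (CommRingCat.of k)))] [LocallyOfFiniteType (Y ↘ (Spec (CommRingCat.of k)))] [IrreducibleSpace X]
    (f : X ⟶ Y) (hf : f ≫ (Y ↘ (Spec (CommRingCat.of k))) = X ↘ (Spec (CommRingCat.of k))) (a b : ℕ) (ha : topologicalKrullDim X = a)
    (hb : topologicalKrullDim (closure (Set.range f.base)) = b) :
    (∀ x : X, ((a - b : ℕ) : WithBot ℕ∞) ≤ FlatMor.fibreDimAt f x) ∧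
      IsOpen {x : X | FlatMor.fibreDimAt f x = (a - b : ℕ)} ∧ Dense {x : X | FlatMor.fibreDimAt f x = (a - b : ℕ)} := by
  let s := X ↘ (Spec (CommRingCat.of k))
  let t := Y ↘ (Spec (CommRingCat.of k))
  haveI : LocallyOfFiniteType f := by
    haveI : LocallyOfFiniteType (f ≫ t) := by rw [hf]; infer_instance
    exact locallyOfFiniteType_of_comp f t
  haveI : Subsingleton ↥(Spec (CommRingCat.of k)) := Groth.Agent.FibDim.subsingleton_spec_field k
  let η := genericPoint X
  have hgen : ∀ x : X, η ⤳ x := fun x => genericPoint_specializes x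
  have hclX : closure ({η} : Set X) = Set.univ := (genericPoint_spec X).def
  have ha' : Groth.Agent.FibDim.rd s η = a := by
    have h1 := Groth.Agent.FibDim.topologicalKrullDim_closure s η
    rw [hclX, (Homeomorph.Set.univ X).isHomeomorph.topologicalKrullDim_eq, ha] at h1
    exact_mod_cast h1.symm
  have hcl : closure (Set.range f.base) = closure ({f η} : Set Y) := by
    refine subset_antisymm (closure_minimal ?_ isClosed_closure)
      (closure_mono (Set.singleton_subset_iff.2 (Set.mem_range_self η)))
    rintro _ ⟨x, rfl⟩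
    exact specializes_iff_mem_closure.1 ((hgen x).map f.continuous)
  have hb' : Groth.Agent.FibDim.rd t (f η) = b := by
    have h1 := Groth.Agent.FibDim.topologicalKrullDim_closure t (f η)
    rw [← hcl, hb] at h1
    exact_mod_cast h1.symm
  have hrd : Groth.Agent.FibDim.rd f η = a - b := by
    have h1 := Groth.Agent.FibDim.rd_comp f t η
    simp only [show f ≫ t = s from hf] at h1
    omega
  have hmaxη : Groth.Agent.FibDim.FibMax f η := Groth.Agent.FibDim.fibMax_of_maximal f
    fun z hz => ((hgen z).antisymm hz).eq.symm
  have hge : ∀ x : X, ((a - b : ℕ) : WithBot ℕ∞) ≤ FlatMor.fibreDimAt f x := by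
    intro x
    have h1 := Groth.Agent.FibDim.fibreDimAt_ge_rd f (hgen x)
    rw [hrd] at h1
    exact h1
  have hopen : IsOpen {x : X | FlatMor.fibreDimAt f x = (a - b : ℕ)} := by
    have he : {x : X | FlatMor.fibreDimAt f x = (a - b : ℕ)} =
        {x : X | FlatMor.fibreDimAt f x ≤ (a - b : ℕ)} :=
      Set.ext fun x => ⟨fun h => h.le, fun h => le_antisymm h (hge x)⟩
    rw [he]
    exact Groth.Agent.FibDim.isOpen_fibreDimAt_le f (a - b)
  refine ⟨hge, hopen, ?_⟩
  refine Dense.mono (Set.singleton_subset_iff.2 ?_) (dense_iff_closure_eq.2 hclX)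
  show FlatMor.fibreDimAt f η = (a - b : ℕ)
  rw [Groth.Agent.FibDim.fibreDimAt_eq_rd f hmaxη, hrd]
  rfl

end Groth.Agent.S1653
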