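import Groth.Statements.S16547
import Mathlib


set_option autoImplicit false
universe u
open CAlg

namespace Groth.Agent.S16547

/-- Eakin–Nagata, via Formanek's argument. -/
theorem eakin (B A : Type u) [CommRing B] [CommRing A] [Algebra B A] [FaithfulSMul B A] [Module.Finite B A]
    [IsNoetherianRing A] : IsNoetherianRing B := by
  classical
  by_cases hA : IsNoetherian B A
  · exact isNoetherian_of_injective (Algebra.linearMap B A) (FaithfulSMul.algebraMap_injective B A)
  exfalso
  let S : Set (Ideal A) := {J | (J.comap (algebraMap B A)).map (algebraMap B A) = J ∧ ¬ IsNoetherian B (A ⧸ J)}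
  have h0 : (⊥ : Ideal A) ∈ S := ⟨le_bot_iff.1 Ideal.map_comap_le, fun h => hA (isNoetherian_of_linearEquiv
    (((Submodule.quotEquivOfEqBot (⊥ : Ideal A) rfl).restrictScalars B)))⟩
  obtain ⟨J, ⟨hJeq, hJN⟩, hJmax⟩ := set_has_maximal_iff_noetherian.mpr
    (inferInstance : IsNoetherian A A) S ⟨⊥, h0⟩
  let I : Ideal B := Ideal.comap (algebraMap B A) J
  let M := A ⧸ J
  obtain ⟨s, hs⟩ := (Module.Finite.fg_top : (⊤ : Submodule B M).FG)
  have hsmul : ∀ r : B, r ∈ I ↔ ∀ m : M, r • m = 0 := fun r => by
    refine ⟨fun hr m => ?_, fun h => ?_⟩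
    · obtain ⟨a, rfl⟩ := Ideal.Quotient.mk_surjective m
      rw [← Ideal.Quotient.mkₐ_eq_mk B, ← map_smul, Ideal.Quotient.mkₐ_eq_mk, Ideal.Quotient.eq_zero_iff_mem,
        Algebra.smul_def]
      exact Ideal.mul_mem_right _ J hr
    · have := h (Ideal.Quotient.mk J 1)
      rwa [← Ideal.Quotient.mkₐ_eq_mk B, ← map_smul, Ideal.Quotient.mkₐ_eq_mk, Ideal.Quotient.eq_zero_iff_mem,
        Algebra.smul_def, mul_one] at this
  let 𝒩 : Set (Submodule B M) := {N | ∀ r : B, (∀ m : M, r • m ∈ N) → r ∈ I}
  have hbot : (⊥ : Submodule B M) ∈ 𝒩 := fun r h => (hsmul r).2 fun m => by simpa using h m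
  have hgen : ∀ (N : Submodule B M) (r : B), (∀ x ∈ s, r • x ∈ N) → ∀ m : M, r • m ∈ N := fun N r h m => by
    have hm : m ∈ Submodule.span B (s : Set M) := by rw [hs]; trivial
    induction hm using Submodule.span_induction with
    | mem x hx => exact h x hx
    | zero => simp
    | add x y _ _ hx hy => rw [smul_add]; exact add_mem hx hy
    | smul a x _ hx => rw [smul_comm]; exact N.smul_mem a hx
  obtain ⟨N, -, hN⟩ := zorn_le_nonempty₀ 𝒩 (fun c hc hchain N₀ hN₀ => by
    refine ⟨sSup c, fun r hr => ?_, fun N hN => le_sSup hN⟩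
    have hdir : DirectedOn (· ≤ ·) c := hchain.directedOn
    have hne : c.Nonempty := ⟨N₀, hN₀⟩
    have : ∀ x ∈ s, ∃ N ∈ c, r • x ∈ N := fun x _ => (Submodule.mem_sSup_of_directed hne hdir).1 (hr x)
    choose Nx hNx hrx using this
    obtain ⟨N', hN', hle⟩ : ∃ N' ∈ c, ∀ x (hx : x ∈ s), Nx x hx ≤ N' := by
      suffices ∀ t : Finset {x // x ∈ s}, ∃ N' ∈ c, ∀ x ∈ t, Nx x.1 x.2 ≤ N' by
        obtain ⟨N', h1, h2⟩ := this s.attach
        exact ⟨N', h1, fun x hx => h2 ⟨x, hx⟩ (Finset.mem_attach _ _)⟩
      intro t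
      induction t using Finset.induction with
      | empty => exact ⟨N₀, hN₀, by simp⟩
      | insert x t _ ih =>
        obtain ⟨N₁, h1, h1'⟩ := ih
        obtain ⟨N₂, h2, hle1, hle2⟩ := hdir N₁ h1 (Nx x.1 x.2) (hNx _ _)
        refine ⟨N₂, h2, fun y hy => ?_⟩
        rcases Finset.mem_insert.1 hy with rfl | hy
        · exact hle2
        · exact (h1' y hy).trans hle1
    exact hc hN' r (hgen N' r fun x hx => hle x hx (hrx x hx))) ⊥ hbot
  have hN' : ¬ IsNoetherian B (M ⧸ N) := fun hNoeth => by
    let φ : B →ₗ[B] ({x // x ∈ s} → M ⧸ N) := LinearMap.pi fun x => LinearMap.toSpanSingleton B (M ⧸ N) (Submodule.Quotient.mk (x : M))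
    have hker : LinearMap.ker φ ≤ I := fun r hr => hN.prop r (hgen N r fun x hx => by
      have := congrFun (LinearMap.mem_ker.1 hr) ⟨x, hx⟩
      simpa [φ, ← Submodule.Quotient.mk_smul, Submodule.Quotient.mk_eq_zero] using this)
    haveI : IsNoetherian B (B ⧸ LinearMap.ker φ) := isNoetherian_of_linearEquiv φ.quotKerEquivRange.symm
    haveI : IsNoetherian B (B ⧸ I) := isNoetherian_of_surjective _ (LinearMap.range_eq_top.2 (Submodule.factor_surjective hker))
    let ψ : ({x // x ∈ s} → B ⧸ I) →ₗ[B] M := ∑ x : {x // x ∈ s}, (Submodule.liftQ I (LinearMap.toSpanSingleton B M (x : M))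
      (fun r hr => (hsmul r).1 hr x)).comp (LinearMap.proj x)
    refine hJN (isNoetherian_of_surjective ψ (LinearMap.range_eq_top.2 fun m => ?_))
    have hm : m ∈ Submodule.span B (s : Set M) := by rw [hs]; trivial
    obtain ⟨f, hf⟩ := (Submodule.mem_span_finset'.1 hm)
    exact ⟨fun x => Submodule.Quotient.mk (f x), by
      simp only [ψ, LinearMap.sum_apply, LinearMap.comp_apply, LinearMap.proj_apply, Submodule.liftQ_apply, LinearMap.toSpanSingleton_apply]
      exact hf⟩
  refine hN' ⟨fun L => ?_⟩
  by_cases hL : L = ⊥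
  · rw [hL]; exact Submodule.fg_bot
  obtain ⟨l, hlL, hl0⟩ := L.ne_bot_iff.1 hL
  obtain ⟨l₀, rfl⟩ := Submodule.Quotient.mk_surjective N l
  have hlN : l₀ ∉ N := fun h => hl0 ((Submodule.Quotient.mk_eq_zero N).2 h)
  let N' := N ⊔ Submodule.span B {l₀}
  have hN'lt : ¬ N' ∈ 𝒩 := fun h => hlN (hN.2 h le_sup_left (Submodule.mem_sup_right (Submodule.mem_span_singleton_self _)))
  simp only [𝒩, Set.mem_setOf_eq, not_forall] at hN'lt
  obtain ⟨r, hr, hrI⟩ := hN'lt
  let J' := J ⊔ Ideal.span {algebraMap B A r}
  have hJ' : IsNoetherian B (A ⧸ J') := by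
    by_contra hnot
    refine hJmax J' ⟨le_antisymm Ideal.map_comap_le (sup_le ?_ ?_), hnot⟩ (lt_of_le_of_ne le_sup_left fun h => hrI ?_)
    · exact hJeq.symm.le.trans (Ideal.map_mono (Ideal.comap_mono le_sup_left))
    · rw [Ideal.span_singleton_le_iff_mem]
      exact Ideal.mem_map_of_mem _ (Ideal.mem_sup_right (Ideal.mem_span_singleton_self _))
    · show algebraMap B A r ∈ J
      rw [h]; exact Ideal.mem_sup_right (Ideal.mem_span_singleton_self _)
  let g : (M ⧸ N) →ₗ[B] (M ⧸ N) ⧸ Submodule.span B {(Submodule.Quotient.mk l₀ : M ⧸ N)} := Submodule.mkQ _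
  have hQ : IsNoetherian B ((M ⧸ N) ⧸ Submodule.span B {(Submodule.Quotient.mk l₀ : M ⧸ N)}) := by
    let G : A →ₗ[B] (M ⧸ N) ⧸ Submodule.span B {(Submodule.Quotient.mk l₀ : M ⧸ N)} :=
      g.comp (N.mkQ.comp (Ideal.Quotient.mkₐ B J).toLinearMap)
    have hGker : J'.restrictScalars B ≤ LinearMap.ker G := fun x hx => by
      obtain ⟨a, ha, b, hb, rfl⟩ := Submodule.mem_sup.1 hx
      obtain ⟨c, rfl⟩ := Ideal.mem_span_singleton.1 hb
      have hG0 : G a = 0 := by
        show g (N.mkQ (Ideal.Quotient.mk J a)) = 0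
        rw [Ideal.Quotient.eq_zero_iff_mem.2 ha, map_zero, map_zero]
      rw [LinearMap.mem_ker, map_add, hG0, zero_add, ← Algebra.smul_def, map_smul]
      obtain ⟨n, hn, w, hw, hnw⟩ := Submodule.mem_sup.1 (hr (Ideal.Quotient.mk J c))
      show r • g (N.mkQ (Ideal.Quotient.mk J c)) = 0
      rw [← map_smul, ← map_smul, ← hnw, map_add, show N.mkQ n = 0 from (Submodule.Quotient.mk_eq_zero N).2 hn, zero_add]
      obtain ⟨k, rfl⟩ := Submodule.mem_span_singleton.1 hw
      exact (Submodule.Quotient.mk_eq_zero _).2 (by rw [map_smul]; exact Submodule.smul_mem _ k (Submodule.mem_span_singleton_self _))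
    haveI : IsNoetherian B (A ⧸ J'.restrictScalars B) :=
      isNoetherian_of_linearEquiv (Submodule.Quotient.restrictScalarsEquiv B J').symm
    refine isNoetherian_of_surjective (Submodule.liftQ _ G hGker) (LinearMap.range_eq_top.2 fun y => ?_)
    obtain ⟨y, rfl⟩ := Submodule.mkQ_surjective _ y
    obtain ⟨y, rfl⟩ := Submodule.mkQ_surjective _ y
    obtain ⟨a, rfl⟩ := Ideal.Quotient.mk_surjective y
    exact ⟨Submodule.Quotient.mk a, rfl⟩
  refine Submodule.fg_of_fg_map_of_fg_inf_ker g (IsNoetherian.noetherian _) ?_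
  rw [Submodule.ker_mkQ, inf_eq_right.2 ((Submodule.span_singleton_le_iff_mem _ _).2 hlL)]
  exact Submodule.fg_span_singleton _

/-- Total ramification: the order at `p` of an invariant element of `p` is at least the order of the group
fixing `p`, when the residue extension is trivial. -/
theorem card_le {A B D : Type u} [CommRing A] [IsDomain A] [CommRing B] [Algebra B A] [Module.Finite B A]
    [Group D] [Fintype D] [MulSemiringAction D A] [FaithfulSMul D A] (hB : ∀ (g : D) (b : B), g • algebraMap B A b = algebraMap B A b)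
    (π : A) (hπ : Prime π) (hD : ∀ g : D, Associated (g • π) π)
    (hres : ∀ a : A, ∃ b c : B, ¬ π ∣ algebraMap B A c ∧ π ∣ algebraMap B A c * a - algebraMap B A b)
    (b₀ : B) (m : ℕ) (hm : 0 < m) (u : A) (hu : ¬ π ∣ u) (hb₀ : algebraMap B A b₀ = π ^ m * u) :
    Fintype.card D ≤ m := by
  classical
  by_contra hlt
  rw [not_le] at hlt
  let B' := FixedPoints.subring A D
  have hB' : ∀ b : B, algebraMap B A b ∈ B' := fun b g => hB g b
  have hlin : ∀ (g : D) (b : B') (x : A), g • ((b : A) * x) = (b : A) * g • x := fun g b x => by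
    rw [smul_mul', b.2 g]
  haveI : Module.Finite B' A := by
    obtain ⟨s, hs⟩ := (Module.Finite.fg_top : (⊤ : Submodule B A).FG)
    refine ⟨⟨s, eq_top_iff.2 ?_⟩⟩
    rintro a -
    have ha : a ∈ Submodule.span B (s : Set A) := by rw [hs]; trivial
    induction ha using Submodule.span_induction with
    | mem x hx => exact Submodule.subset_span hx
    | zero => exact zero_mem _
    | add x y _ _ hx hy => exact add_mem hx hy
    | smul c x _ hx =>
      rw [Algebra.smul_def]
      exact Submodule.smul_mem _ (⟨_, hB' c⟩ : B') hx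
  let p' : Ideal A := Ideal.span {π}
  haveI : p'.IsPrime := (Ideal.span_singleton_prime hπ.ne_zero).2 hπ
  let q' : Ideal B' := p'.comap B'.subtype
  have hq' : ∀ x : B', x ∈ q' ↔ π ∣ (x : A) := fun x => Ideal.mem_span_singleton
  let S : Submodule B' A := Submodule.span B' (Set.range fun i : Fin m => π ^ (i : ℕ))
  have hstab : ∀ g : D, ¬ π ∣ g • u := fun g h => hu (by
    have h1 : g⁻¹ • π ∣ g⁻¹ • (g • u) := map_dvd (MulSemiringAction.toRingHom D A g⁻¹) h
    rw [inv_smul_smul] at h1
    exact (hD g⁻¹).dvd_iff_dvd_left.1 h1)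
  let Nu : B' := ⟨∏ g : D, g • u, fun h => by
    rw [Finset.smul_prod']
    exact Fintype.prod_equiv (Equiv.mulLeft h) _ _ fun g => by rw [Equiv.coe_mulLeft, ← mul_smul]⟩
  have hNu : Nu ∉ q' := fun h => by
    obtain ⟨g, -, hg⟩ := hπ.exists_mem_finset_dvd ((hq' Nu).1 h)
    exact hstab g hg
  obtain ⟨v, hv⟩ : ∃ v, (Nu : A) = u * v := by
    refine ⟨∏ g ∈ (Finset.univ : Finset D).erase 1, g • u, ?_⟩
    show (∏ g : D, g • u) = _
    rw [← Finset.mul_prod_erase (Finset.univ : Finset D) _ (Finset.mem_univ (1 : D)), one_smul]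
  have hstep : ∀ k, k ≤ m → ∀ x : A, ∃ c : B', c ∉ q' ∧ ∃ s ∈ S, π ^ k ∣ (c : A) * x - s := by
    intro k
    induction k with
    | zero => exact fun _ x => ⟨1, fun h => hπ.not_unit (isUnit_of_dvd_one ((hq' 1).1 h)), 0, zero_mem _, by simp⟩
    | succ k ih =>
      intro hk x
      obtain ⟨c, hc, s, hs, x', hx'⟩ := ih (by omega) x
      obtain ⟨b, c', hc', y, hy⟩ := hres x'
      refine ⟨(⟨_, hB' c'⟩ : B') * c, fun h => ?_, (⟨_, hB' c'⟩ : B') • s + (⟨_, hB' b⟩ : B') • π ^ k,
        add_mem (S.smul_mem _ hs) (S.smul_mem _ (Submodule.subset_span ⟨⟨k, by omega⟩, rfl⟩)), y, ?_⟩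
      · exact (Ideal.IsPrime.mem_or_mem inferInstance h).elim (fun h => hc' ((hq' _).1 h)) hc
      · show algebraMap B A c' * (c : A) * x - (algebraMap B A c' * s + algebraMap B A b * π ^ k) = π ^ (k + 1) * y
        linear_combination algebraMap B A c' * hx' + π ^ k * hy
  let M := A ⧸ S
  have hkill : ∀ x : A, ∃ c : B', c ∉ q' ∧ c • (Submodule.Quotient.mk x : M) ∈ q' • (⊤ : Submodule B' M) := fun x => by
    obtain ⟨c, hc, s, hs, y, hy⟩ := hstep m le_rfl x
    refine ⟨Nu * c, fun h => (Ideal.IsPrime.mem_or_mem inferInstance h).elim hNu hc, ?_⟩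
    have heq : (Submodule.Quotient.mk ((Nu * c : B') • x) : M) =
        (⟨_, hB' b₀⟩ : B') • (Submodule.Quotient.mk (v * y) : M) := by
      rw [← Submodule.Quotient.mk_smul, Submodule.Quotient.eq]
      have : (Nu * c : B') • x - (⟨_, hB' b₀⟩ : B') • (v * y) = Nu • s := by
        show (Nu : A) * (c : A) * x - algebraMap B A b₀ * (v * y) = (Nu : A) * s
        rw [hb₀, hv]
        linear_combination u * v * hy
      rw [this]
      exact S.smul_mem _ hs
    rw [← Submodule.Quotient.mk_smul, heq]
    refine Submodule.smul_mem_smul ((hq' _).2 ?_) Submodule.mem_top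
    show π ∣ algebraMap B A b₀
    rw [hb₀]
    exact dvd_mul_of_dvd_left (dvd_pow_self π hm.ne') u
  obtain ⟨s, hs⟩ := (Module.Finite.fg_top : (⊤ : Submodule B' A).FG)
  choose cx hcx hcxm using hkill
  let C : B' := ∏ x ∈ s, cx x
  have hC : C ∉ q' := fun h => by
    obtain ⟨x, -, hx⟩ := (Ideal.IsPrime.prod_mem_iff).1 h
    exact hcx x hx
  have hCM : LinearMap.range (C • LinearMap.id : Module.End B' M) ≤ q' • ⊤ := by
    rintro _ ⟨z, rfl⟩
    obtain ⟨a, rfl⟩ := Submodule.Quotient.mk_surjective S z
    show C • (Submodule.Quotient.mk a : M) ∈ _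
    have ha : a ∈ Submodule.span B' (s : Set A) := by rw [hs]; trivial
    induction ha using Submodule.span_induction with
    | mem x hx =>
      rw [show C = (∏ y ∈ s.erase x, cx y) * cx x from (Finset.prod_erase_mul s cx hx).symm, mul_smul]
      exact Submodule.smul_mem _ _ (hcxm x)
    | zero => simp
    | add x y _ _ hx hy => rw [Submodule.Quotient.mk_add, smul_add]; exact add_mem hx hy
    | smul c x _ hx => rw [Submodule.Quotient.mk_smul, smul_comm]; exact Submodule.smul_mem _ c hx
  obtain ⟨P, hPm, -, hPc, hP0⟩ :=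
    LinearMap.exists_monic_and_natDegree_eq_and_coeff_mem_pow_and_aeval_eq_zero B' (C • LinearMap.id : Module.End B' M) q' hCM
  let r := P.eval C
  have hr : r ∉ q' := fun h => by
    simp only [r, Polynomial.eval_eq_sum_range, Finset.sum_range_succ, hPm.coeff_natDegree, one_mul] at h
    rw [Ideal.add_mem_iff_right _ (Ideal.sum_mem _ fun i hi => Ideal.mul_mem_right _ _
      (Ideal.pow_le_self (Nat.sub_ne_zero_of_lt (Finset.mem_range.1 hi)) (hPc i)))] at h
    exact hC (Ideal.IsPrime.mem_of_pow_mem inferInstance _ h)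
  have hrM : ∀ x : A, r • x ∈ S := fun x => by
    have h1 : Polynomial.aeval (algebraMap B' (Module.End B' M) C) P = algebraMap B' (Module.End B' M) r :=
      Polynomial.aeval_algebraMap_apply_eq_algebraMap_eval C P
    rw [show algebraMap B' (Module.End B' M) C = C • LinearMap.id from Algebra.algebraMap_eq_smul_one C, hP0] at h1
    have h2 := LinearMap.congr_fun h1.symm (Submodule.Quotient.mk x : M)
    rw [Module.algebraMap_end_apply, LinearMap.zero_apply, ← Submodule.Quotient.mk_smul] at h2
    exact (Submodule.Quotient.mk_eq_zero S).1 h2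
  let T : (D → A) →ₗ[A] (Fin m → A) :=
    LinearMap.pi fun i => ∑ g : D, (g • π ^ (i : ℕ)) • LinearMap.proj g
  obtain ⟨w, hw, hw0⟩ : ∃ w : D → A, T w = 0 ∧ w ≠ 0 := by
    by_contra hcon
    push Not at hcon
    exact hlt.not_ge (by
      simpa using card_le_of_injective A T ((injective_iff_map_eq_zero T).2 hcon))
  have hall : ∀ x : A, ∑ g : D, w g * g • x = 0 := fun x => by
    have h1 : ∀ y ∈ S, ∑ g : D, w g * g • y = 0 := fun y hy => by
      induction hy using Submodule.span_induction with
      | mem y hy =>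
        obtain ⟨i, rfl⟩ := hy
        have := congrFun hw i
        simpa [T, mul_comm] using this
      | zero => simp
      | add y z _ _ hy hz => simp [smul_add, mul_add, Finset.sum_add_distrib, hy, hz]
      | smul c y _ hy =>
        have : ∀ g : D, w g * g • (c • y) = (c : A) * (w g * g • y) := fun g => by
          rw [show c • y = (c : A) * y from rfl, hlin]; ring
        rw [Finset.sum_congr rfl fun g _ => this g, ← Finset.mul_sum, hy, mul_zero]
    have h2 := h1 _ (hrM x)
    have : ∀ g : D, w g * g • (r • x) = (r : A) * (w g * g • x) := fun g => by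
      rw [show r • x = (r : A) * x from rfl, hlin]; ring
    rw [Finset.sum_congr rfl fun g _ => this g, ← Finset.mul_sum] at h2
    exact (mul_eq_zero.1 h2).resolve_left fun h => hr ((hq' r).2 (by rw [h]; exact dvd_zero π))
  let χ : D → (A →* A) := fun g => (MulSemiringAction.toRingHom D A g).toMonoidHom
  have hχ : Function.Injective χ := fun g h hgh => eq_of_smul_eq_smul fun a => DFunLike.congr_fun hgh a
  have hli := (linearIndependent_monoidHom A A).comp χ hχ
  refine hw0 (funext fun g => Fintype.linearIndependent_iff.1 hli w ?_ g)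
  funext x
  simpa [χ, Finset.sum_apply] using hall x

theorem isRegular_of_quotient {B : Type u} [CommRing B] [IsDomain B] [IsLocalRing B] [IsNoetherianRing B] (n : B)
    (hn0 : n ≠ 0) (hreg : IsRegularLocalRing (B ⧸ Ideal.span {n})) : IsRegularLocalRing B := by
  classical
  let π := Ideal.Quotient.mk (Ideal.span {n})
  let m := IsLocalRing.maximalIdeal B
  let m' := IsLocalRing.maximalIdeal (B ⧸ Ideal.span {n})
  have hnm : Ideal.span {n} ≤ m := IsLocalRing.le_maximalIdeal (fun h => by
    have := hreg.toIsLocalRing.toNontrivial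
    exact Ideal.Quotient.nontrivial_iff.1 this h)
  obtain ⟨s, hs, hspan⟩ := (IsNoetherian.noetherian m').exists_span_set_encard_eq_spanFinrank
  have hsfin : s.Finite := Set.finite_of_encard_eq_coe hs
  choose l hl using fun x => Ideal.Quotient.mk_surjective (I := Ideal.span {n}) x
  have hm : m = Ideal.span (insert n (l '' s)) := by
    have hmap : m.comap (RingHom.id B) = m'.comap π := by
      rw [Ideal.comap_id]
      exact (IsLocalRing.eq_maximalIdeal (Ideal.comap_isMaximal_of_surjective π Ideal.Quotient.mk_surjective)).symm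
    rw [Ideal.comap_id] at hmap
    have hmm : Ideal.map π (Ideal.span (l '' s)) = m' := by
      rw [Ideal.map_span, ← Set.image_comp, show π ∘ l = id from funext hl, Set.image_id]
      exact hspan
    rw [hmap, ← hmm, Ideal.comap_map_of_surjective π Ideal.Quotient.mk_surjective, ← RingHom.ker_eq_comap_bot,
      Ideal.mk_ker, Ideal.span_insert, sup_comm]
  refine IsRegularLocalRing.of_spanFinrank_maximalIdeal_le B ?_
  have h1 : m.spanFinrank ≤ m'.spanFinrank + 1 := by
    rw [hm]
    refine (Submodule.spanFinrank_span_le_ncard_of_finite ((hsfin.image l).insert n)).trans ?_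
    refine (Set.ncard_insert_le _ _).trans (Nat.add_le_add_right ((Set.ncard_image_le hsfin).trans (le_of_eq ?_)) 1)
    rw [Set.ncard_def, hs]; simp
  refine le_trans ?_ (ringKrullDim_quotient_succ_le_of_nonZeroDivisor (mem_nonZeroDivisors_of_ne_zero hn0))
  rw [← hreg.spanFinrank_maximalIdeal]
  exact_mod_cast h1

end Groth.Agent.S16547

namespace Groth.Agent.S16547

/-- Let A be a Noetherian factorial local domain and G a finite group acting faithfully on A by ring
automorphisms; let B be a ring with an injective ring map to A whose image is exactly the ring of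
invariants of G, and assume A is a finite B-module. Let q be a prime ideal of B of height one and p
a prime ideal of A lying over q such that the extension of residue fields of the local rings B_q and
A_p is trivial (every element of A is congruent modulo p to some c⁻¹b with b, c in B, c outside q).
Then q is a principal ideal; and if moreover B/q is a regular local ring, then B is a regular local
ring. -/
theorem result
    {A B G : Type u} [CommRing A] [IsDomain A] [IsNoetherianRing A] [IsLocalRing A]
    [UniqueFactorizationMonoid A]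
    [CommRing B] [Algebra B A] [FaithfulSMul B A] [Module.Finite B A]
    [Group G] [Finite G] [MulSemiringAction G A] [FaithfulSMul G A] [SMulCommClass G B A]
    [Algebra.IsInvariant B A G]
    (q : Ideal B) [q.IsPrime] (hq : q.height = 1) (p : Ideal A) [p.IsPrime] [p.LiesOver q]
    (hres : ∀ a : A, ∃ b c : B, c ∉ q ∧ algebraMap B A c * a - algebraMap B A b ∈ p) :
    Submodule.IsPrincipal q ∧ (IsRegularLocalRing (B ⧸ q) → IsRegularLocalRing B) := by
  classical
  haveI := Fintype.ofFinite G
  have hinj := FaithfulSMul.algebraMap_injective B A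
  haveI : IsDomain B := Function.Injective.isDomain (algebraMap B A) hinj
  have hinv : ∀ (g : G) (b : B), g • algebraMap B A b = algebraMap B A b := fun g b => by
    simp [Algebra.algebraMap_eq_smul_one, smul_comm g b]
  have hq0 : q ≠ ⊥ := fun h => by
    rw [h, Ideal.height_bot] at hq
    exact zero_ne_one hq
  have hlie : p.comap (algebraMap B A) = q := (Ideal.over_def p q).symm
  obtain ⟨b₁, hb₁q, hb₁0⟩ := q.ne_bot_iff.1 hq0
  have hp0 : p ≠ ⊥ := fun h => hb₁0 ((map_eq_zero_iff _ hinj).1 (by
    have : algebraMap B A b₁ ∈ p := Ideal.mem_comap.1 (hlie ▸ hb₁q)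
    rwa [h, Ideal.mem_bot] at this))
  obtain ⟨π, hπp, hπ⟩ := Ideal.IsPrime.exists_mem_prime_of_ne_bot ‹p.IsPrime› hp0
  haveI := (Ideal.span_singleton_prime hπ.ne_zero).2 hπ
  haveI : Algebra.IsIntegral B A := Algebra.IsIntegral.of_finite B A
  have hpeq : p = Ideal.span {π} := by
    by_contra hne
    have hlt : Ideal.span {π} < p := lt_of_le_of_ne ((Ideal.span_singleton_le_iff_mem _).2 hπp) (Ne.symm hne)
    have h1 := Ideal.IsIntegral.comap_lt_comap (R := B) hlt
    rw [hlie] at h1
    have h0 : (Ideal.span {π}).comap (algebraMap B A) ≠ ⊥ := fun h =>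
      hπ.ne_zero (Ideal.span_singleton_eq_bot.1 (Ideal.eq_bot_of_comap_eq_bot h))
    haveI : ((Ideal.span {π}).comap (algebraMap B A)).IsPrime := Ideal.comap_isPrime _ _
    haveI : (⊥ : Ideal B).IsPrime := Ideal.isPrime_bot
    have h2 := Ideal.height_add_one_le_of_lt_of_isPrime (bot_lt_iff_ne_bot.2 h0)
    have h3 := Ideal.height_add_one_le_of_lt_of_isPrime h1
    rw [Ideal.height_bot, zero_add] at h2
    rw [hq] at h3
    have h4 : (2 : ℕ∞) ≤ 1 := le_trans (by simpa [one_add_one_eq_two] using add_le_add_left h2 1) h3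
    exact absurd h4 (by decide)
  let D : Subgroup G :=
    { carrier := {g | Associated (g • π) π}
      mul_mem' := fun {g h} hg hh => by
        show Associated ((g * h) • π) π
        rw [mul_smul]
        exact ((Associated.map (MulSemiringAction.toRingHom G A g) hh).trans hg)
      one_mem' := by show Associated ((1 : G) • π) π; rw [one_smul]
      inv_mem' := fun {g} hg => by
        show Associated (g⁻¹ • π) π
        have := Associated.map (MulSemiringAction.toRingHom G A g⁻¹) hg
        simp only [MulSemiringAction.toRingHom_apply, inv_smul_smul] at this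
        exact this.symm }
  haveI : FaithfulSMul D A := ⟨fun {g h} hgh => Subtype.ext (eq_of_smul_eq_smul hgh)⟩
  have hkey : ∀ b : B, b ∈ q → π ^ Fintype.card D ∣ algebraMap B A b := fun b hb => by
    by_cases hb0 : algebraMap B A b = 0
    · rw [hb0]; exact dvd_zero _
    obtain ⟨m, u, hu, hbu⟩ := WfDvdMonoid.max_power_factor hb0 hπ.irreducible
    have hm : 0 < m := Nat.pos_of_ne_zero fun h => hu (by
      have : algebraMap B A b ∈ p := Ideal.mem_comap.1 (hlie ▸ hb)
      rw [hpeq, Ideal.mem_span_singleton, hbu, h, pow_zero, one_mul] at this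
      exact this)
    have hle := card_le (D := D) (fun g b => hinv g b) π hπ (fun g => g.2) (fun a => by
      obtain ⟨b', c', hc', hmem⟩ := hres a
      refine ⟨b', c', fun h => hc' ?_, by rwa [hpeq, Ideal.mem_span_singleton] at hmem⟩
      rw [← hlie, Ideal.mem_comap, hpeq, Ideal.mem_span_singleton]; exact h) b m hm u hu hbu
    rw [hbu]
    exact dvd_mul_of_dvd_left (pow_dvd_pow π hle) u
  let N : A := ∏ g : G, g • π
  have hN0 : N ≠ 0 := Finset.prod_ne_zero_iff.2 fun g _ h => hπ.ne_zero ((smul_eq_zero_iff_eq g).1 h)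
  have hNinv : ∀ h : G, h • N = N := fun h => by
    rw [Finset.smul_prod']
    exact Fintype.prod_equiv (Equiv.mulLeft h) _ _ fun g => by rw [Equiv.coe_mulLeft, ← mul_smul]
  obtain ⟨n, hn⟩ := Algebra.IsInvariant.isInvariant (A := B) (G := G) N hNinv
  have hnq : n ∈ q := by
    rw [← hlie, Ideal.mem_comap, hn, hpeq, Ideal.mem_span_singleton]
    simpa using Finset.dvd_prod_of_mem (fun g : G => g • π) (Finset.mem_univ (1 : G))
  have hprime : ∀ g : G, Prime (g • π) := fun g =>
    (MulEquiv.prime_iff (MulSemiringAction.toRingEquiv G A g).toMulEquiv).2 hπ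
  let key : G → Ideal A := fun g => Ideal.span {g • π}
  have hqeq : q = Ideal.span {n} := by
    refine le_antisymm (fun b hb => ?_) ((Ideal.span_singleton_le_iff_mem _).2 hnq)
    have hdvd : N ∣ algebraMap B A b := by
      rw [show N = ∏ c ∈ Finset.univ.image key, ∏ g ∈ Finset.univ.filter (fun g => key g = c), g • π from
        (Finset.prod_fiberwise_of_maps_to (fun g _ => Finset.mem_image_of_mem key (Finset.mem_univ g)) _).symm]
      refine Finset.prod_dvd_of_isRelPrime ?_ ?_
      · intro c hc c' hc' hne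
        refine IsRelPrime.prod_left fun g hg => IsRelPrime.prod_right fun g' hg' => ?_
        refine (hprime g).irreducible.isRelPrime_iff_not_dvd.2 fun hd => hne ?_
        have h1 := (hprime g).associated_of_dvd (hprime g') hd
        rw [← (Finset.mem_filter.1 hg).2, ← (Finset.mem_filter.1 hg').2]
        exact Ideal.span_singleton_eq_span_singleton.2 h1
      · intro c hc
        obtain ⟨h, -, rfl⟩ := Finset.mem_image.1 hc
        have hcard : (Finset.univ.filter (fun g => key g = key h)).card = Fintype.card D := by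
          rw [← Fintype.card_coe]
          refine Fintype.card_congr ⟨fun g => ⟨h⁻¹ * g.1, ?_⟩, fun d => ⟨h * d.1, ?_⟩, fun g => ?_, fun d => ?_⟩
          · show Associated ((h⁻¹ * g.1) • π) π
            have := Associated.map (MulSemiringAction.toRingHom G A h⁻¹)
              (Ideal.span_singleton_eq_span_singleton.1 (Finset.mem_filter.1 g.2).2)
            simp only [MulSemiringAction.toRingHom_apply, inv_smul_smul, ← mul_smul] at this
            rwa [inv_mul_cancel, one_smul] at this
          · refine Finset.mem_filter.2 ⟨Finset.mem_univ _, Ideal.span_singleton_eq_span_singleton.2 ?_⟩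
            rw [mul_smul]
            exact Associated.map (MulSemiringAction.toRingHom G A h) d.2
          · exact Subtype.ext (mul_inv_cancel_left h g.1)
          · exact Subtype.ext (inv_mul_cancel_left h d.1)
        have hassoc : Associated (∏ g ∈ Finset.univ.filter (fun g => key g = key h), g • π) ((h • π) ^ Fintype.card D) := by
          rw [← hcard, ← Finset.prod_const]
          exact Associated.prod _ _ _ fun g hg => Ideal.span_singleton_eq_span_singleton.1 (Finset.mem_filter.1 hg).2
        rw [hassoc.dvd_iff_dvd_left, ← hinv h b, ← smul_pow']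
        exact map_dvd (MulSemiringAction.toRingHom G A h) (hkey b hb)
    obtain ⟨a, ha⟩ := hdvd
    obtain ⟨b', hb'⟩ := Algebra.IsInvariant.isInvariant (A := B) (G := G) a (fun g => by
      refine mul_left_cancel₀ hN0 ?_
      calc N * g • a = g • (N * a) := by rw [smul_mul', hNinv]
        _ = N * a := by rw [← ha, hinv])
    refine Ideal.mem_span_singleton.2 ⟨b', hinj ?_⟩
    rw [map_mul, hn, hb', ← ha]
  refine ⟨⟨n, hqeq⟩, fun hreg => ?_⟩
  haveI : IsNoetherianRing B := eakin B A
  haveI : IsLocalHom (algebraMap B A) := ⟨fun b hb => by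
    obtain ⟨v, hv⟩ := hb.exists_right_inv
    obtain ⟨c, hc⟩ := Algebra.IsInvariant.isInvariant (A := B) (G := G) v (fun g => by
      have : algebraMap B A b * g • v = 1 := by rw [← hinv g b, ← smul_mul', hv, smul_one]
      calc g • v = (algebraMap B A b * v) * g • v := by rw [hv, one_mul]
        _ = v * (algebraMap B A b * g • v) := by ring
        _ = v := by rw [this, mul_one])
    exact IsUnit.of_mul_eq_one c (hinj (by rw [map_mul, hc, hv, map_one]))⟩
  haveI := RingHom.domain_isLocalRing (algebraMap B A)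
  subst hqeq
  refine isRegular_of_quotient n (fun h => hN0 (by rw [← hn, h, map_zero])) hreg

end Groth.Agent.S16547
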