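import Groth.Statements.S16548
import Groth.Agent.TameResidue.Basic

set_option autoImplicit false
universe u
open CategoryTheory CategoryTheory.Limits AlgebraicGeometry
attribute [local instance] Curv2.resAlgebra
open Curves

namespace Groth.Agent.S16548

/-- Let k be a field, X and Y smooth over k of relative dimension one (not necessarily proper), f : X ->
Y a finite k-morphism and x a closed point of X, with y = f(x). Suppose f is tamely ramified at x:
m_y O_{X,x} = m_x^e for an integer e ≥ 2 prime to the characteristic of k, and κ(x) is separable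
over κ(y). Then κ(x) is separable over k. (Consequently the field generated over k by the residue
fields of all such points is Galois over k.) -/
theorem result (k : Type u) [Field k]
    (X Y : Scheme.{u}) [X.Over (Spec (CommRingCat.of k))] [Y.Over (Spec (CommRingCat.of k))]
    [SmoothOfRelativeDimension 1 (X ↘ Spec (CommRingCat.of k))]
    [SmoothOfRelativeDimension 1 (Y ↘ Spec (CommRingCat.of k))]
    (f : X ⟶ Y) [IsFinite f] (hf : f ≫ (Y ↘ Spec (CommRingCat.of k)) = X ↘ Spec (CommRingCat.of k))
    (x : X) (hx : IsClosed ({x} : Set X)) (e : ℕ)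
    (he : (IsLocalRing.maximalIdeal (Y.presheaf.stalk (f.base x))).map (f.stalkMap x).hom =
      IsLocalRing.maximalIdeal (X.presheaf.stalk x) ^ e)
    (h2 : 2 ≤ e) (hp : ¬ ringChar k ∣ e)
    (hsep : @Algebra.IsSeparable (Y.residueField (f.base x)) (X.residueField x) _ _
      (f.residueFieldMap x).hom.toAlgebra) :
    Algebra.IsSeparable k (X.residueField x) := by
  by_contra hns
  letI := Curv2.stalkAlgebra k X x
  letI := Curv2.stalkAlgebra k Y (f.base x)
  letI : Algebra (Y.presheaf.stalk (f.base x)) (X.presheaf.stalk x) := (f.stalkMap x).hom.toAlgebra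
  haveI : IsLocalHom (algebraMap (Y.presheaf.stalk (f.base x)) (X.presheaf.stalk x)) :=
    inferInstanceAs (IsLocalHom (f.stalkMap x).hom)
  haveI : IsScalarTower k (Y.presheaf.stalk (f.base x)) (X.presheaf.stalk x) :=
    IsScalarTower.of_algebraMap_eq fun c => by
      show Curv2.stalkMap k X x c = f.stalkMap x (Curv2.stalkMap k Y (f.base x) c)
      show X.presheaf.germ ⊤ x trivial ((X ↘ Spec (CommRingCat.of k)).appTop _) =
        f.stalkMap x (Y.presheaf.germ ⊤ (f.base x) trivial ((Y ↘ Spec (CommRingCat.of k)).appTop _))
      erw [Scheme.Hom.germ_stalkMap_apply]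
      rw [← hf]
      rfl
  obtain ⟨hS, g, hg⟩ := Groth.Agent.TameResidue.exists_generator (k := k) X x
  haveI := hS
  haveI : Algebra.IsSeparable (IsLocalRing.ResidueField (Y.presheaf.stalk (f.base x)))
      (IsLocalRing.ResidueField (X.presheaf.stalk x)) := by
    have hA : (inferInstance : Algebra (IsLocalRing.ResidueField (Y.presheaf.stalk (f.base x)))
        (IsLocalRing.ResidueField (X.presheaf.stalk x))) = (f.residueFieldMap x).hom.toAlgebra :=
      Algebra.algebra_ext _ _ fun r => by
        obtain ⟨r, rfl⟩ := IsLocalRing.residue_surjective (R := Y.presheaf.stalk (f.base x)) r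
        rfl
    exact (congrArg (fun a : Algebra (IsLocalRing.ResidueField (Y.presheaf.stalk (f.base x)))
      (IsLocalRing.ResidueField (X.presheaf.stalk x)) => @Algebra.IsSeparable _ _ _ _ a) hA).mpr hsep
  have h1 := Groth.Agent.TameResidue.map_maximalIdeal (k := k) (R := Y.presheaf.stalk (f.base x))
    (S := X.presheaf.stalk x) g hg hns
  rw [RingHom.algebraMap_toAlgebra, he] at h1
  have hm : IsLocalRing.maximalIdeal (X.presheaf.stalk x) = ⊥ := by
    haveI : Smooth (X ↘ Spec (CommRingCat.of k)) := SmoothOfRelativeDimension.smooth 1 _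
    haveI := LocallyOfFiniteType.isLocallyNoetherian (X ↘ Spec (CommRingCat.of k))
    refine Submodule.eq_bot_of_le_smul_of_le_jacobson_bot (IsLocalRing.maximalIdeal (X.presheaf.stalk x)) _
      (IsNoetherian.noetherian _) ?_ (IsLocalRing.maximalIdeal_le_jacobson ⊥)
    rw [smul_eq_mul, ← sq]
    exact h1.ge.trans (Ideal.pow_le_pow_right h2)
  exact Groth.Agent.TameResidue.not_isField (k := k) X x hx (IsLocalRing.isField_iff_maximalIdeal_eq.2 hm)

end Groth.Agent.S16548
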