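import Groth.Statements.S16551
import Groth.Agent.GoDown.Basic
-- import your own Groth.Agent.* helpers here

set_option autoImplicit false
universe u
open CategoryTheory CategoryTheory.Limits AlgebraicGeometry
open Models

namespace Groth.Agent.S16551

/-- Let R be a discrete valuation ring, W and Z integral normal schemes which are flat, of finite type
and of dimension 2 over Spec R, and ψ : W -> Z a finite surjective R-morphism. Let z be a closed
point of Z lying in the special fibre, w a point of W with ψ(w) = z, and Δ an irreducible component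
of the special fibre of Z with z ∈ Δ. Then some irreducible component Γ of the special fibre of W
contains w and satisfies ψ(Γ) = Δ. (The published statement asks W and Z only to be normal; they are
taken integral as well here.) -/
theorem result
    (R : Type u) [CommRing R] [IsDomain R] [IsDiscreteValuationRing R]
    (W Z : Over (Spec (CommRingCat.of R))) [IsIntegral W.left] [IsIntegral Z.left]
    (hWn : Pi1.IsNormalScheme W.left) (hZn : Pi1.IsNormalScheme Z.left)
    [Flat W.hom] [LocallyOfFiniteType W.hom] [QuasiCompact W.hom]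
    [Flat Z.hom] [LocallyOfFiniteType Z.hom] [QuasiCompact Z.hom]
    (hdW : topologicalKrullDim W.left = 2) (hdZ : topologicalKrullDim Z.left = 2)
    (ψ : W ⟶ Z) [IsFinite ψ.left] [Surjective ψ.left]
    (z : Z.left) (hzc : IsClosed ({z} : Set Z.left)) (hz : z ∈ Models.specialFibreSet R Z)
    (w : W.left) (hw : ψ.left.base w = z)
    (Δ : Set Z.left) (hΔ : Δ ∈ Models.fibreComponents R Z) (hzΔ : z ∈ Δ) :
    ∃ Γ ∈ Models.fibreComponents R W, w ∈ Γ ∧ ψ.left.base '' Γ = Δ := by
  have hover : ∀ y, Z.hom.base (ψ.left.base y) = W.hom.base y := fun y =>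
    congr(($(Over.w ψ)).base y)
  have hfib : ∀ y, ψ.left.base y ∈ Models.specialFibreSet R Z ↔ y ∈ Models.specialFibreSet R W := by
    intro y
    simp only [Models.specialFibreSet, Set.mem_preimage, hover]
  have hΔc : IsClosed Δ := by
    have h := subset_antisymm (hΔ.2 (y := closure Δ) ⟨hΔ.1.1.closure,
      closure_minimal hΔ.1.2 (Models.isClosed_specialFibreSet R Z)⟩ subset_closure) subset_closure
    rw [← h]; exact isClosed_closure
  obtain ⟨δ, hδ⟩ := QuasiSober.sober hΔ.1.1 hΔc
  have hδw : δ ⤳ ψ.left.base w := by rw [hw]; exact hδ.specializes hzΔ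
  obtain ⟨γ, hγw, hγδ⟩ := Groth.Agent.GoDown.generalizingMap hZn ψ.left hδw
  have himg : ψ.left.base '' closure {γ} = Δ := by
    rw [← ψ.left.isClosedMap.closure_image_eq_of_continuous ψ.left.continuous, Set.image_singleton,
      hγδ, hδ]
  refine ⟨closure {γ}, ⟨⟨isIrreducible_singleton.closure, ?_⟩, ?_⟩, hγw.mem_closure, himg⟩
  · refine closure_minimal ?_ (Models.isClosed_specialFibreSet R W)
    rw [Set.singleton_subset_iff, ← hfib, hγδ]
    exact hΔ.1.2 hδ.mem
  · intro S hS hle
    have hcl : closure S ⊆ Models.specialFibreSet R W :=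
      closure_minimal hS.2 (Models.isClosed_specialFibreSet R W)
    obtain ⟨γ', hγ'⟩ := QuasiSober.sober hS.1.closure isClosed_closure
    have hsp : γ' ⤳ γ := hγ'.specializes (subset_closure (hle (subset_closure rfl)))
    have h1 : ψ.left.base γ' ⤳ δ := hγδ ▸ hsp.map ψ.left.continuous
    have h2 : closure {ψ.left.base γ'} ⊆ Δ := hΔ.2 ⟨isIrreducible_singleton.closure,
      closure_minimal (Set.singleton_subset_iff.mpr ((hfib γ').mpr (hcl hγ'.mem)))
        (Models.isClosed_specialFibreSet R Z)⟩ (by
      rw [← hδ]
      exact closure_minimal (Set.singleton_subset_iff.mpr h1.mem_closure) isClosed_closure)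
    have h3 : δ = ψ.left.base γ' := (hδ.specializes (h2 (subset_closure rfl))).antisymm h1 |>.eq
    have h4 : γ' = γ := Groth.Agent.GoDown.eq_of_specializes ψ.left hsp (h3.symm.trans hγδ.symm)
    intro y hy
    rw [← h4, hγ']
    exact subset_closure hy


end Groth.Agent.S16551
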