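import Groth.Statements.S16557
import Groth.Agent.SurfRR.Basic
import Groth.Agent.Lib.TopDiff
import Groth.Agent.Lib.InvEnd

set_option autoImplicit false
set_option linter.style.haveILetI false
set_option backward.isDefEq.respectTransparency false
set_option backward.isDefEq.respectTransparency.types false
universe u
open CategoryTheory CategoryTheory.Limits AlgebraicGeometry TopologicalSpace
open Surf

namespace Groth.Agent.S16557

open Groth.Agent

/-- Let X be a smooth proper integral surface over an algebraically closed field k, W = Λ²Ω_{X/k} a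
canonical module, and suppose H⁰(X, W) = 0 (the source states this for smooth rational surfaces and
uses exactly the vanishing of H⁰(X, K_X)). If L is an invertible O_X-module with H⁰(X, L) ≠ 0, then
H²(X, L) = 0. -/
theorem result (k : Type u) [Field k] [IsAlgClosed k]
    (X : Scheme.{u}) [X.Over (Spec (CommRingCat.of k))] [IsIntegral X] [IsProper (X ↘ (Spec (CommRingCat.of k)))] [Smooth (X ↘ (Spec (CommRingCat.of k)))]
    (hdim : topologicalKrullDim X = 2)
    (W : X.Modules) (hW : ExtPow.IsExtPow 2 (Omega.sheaf (X ↘ (Spec (CommRingCat.of k)))) W)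
    (hpg : Subsingleton (Coh.HH X W 0))
    (L : X.Modules) (hL : PicF.IsInvertible L) (h0 : Nontrivial (Coh.HH X L 0)) :
    Subsingleton (Coh.HH X L 2) := by
  haveI : IsNoetherian X := CurveCohLib.isNoetherian_of_proper (k := k)
  haveI := SurfStab.smoothOfRelativeDimension_two (k := k) hdim
  have hreg : ∀ x : X, IsRegularLocalRing (X.presheaf.stalk x) := fun x =>
    GrpSchLib.isRegularLocalRing_stalk_of_smooth (X ↘ Spec (CommRingCat.of k)) x
  obtain ⟨_, ⟨U, hU, rfl⟩, hxU, -⟩ := X.isBasis_affineOpens.exists_subset_of_mem_open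
    (Set.mem_univ (genericPoint X)) isOpen_univ
  obtain ⟨-, -, -, H, hH, -⟩ := Big.AffineBd.exists_ample_boundary k hdim hreg ⟨U, hU⟩ ⟨_, hxU⟩
  obtain ⟨N, ι, hι, hι'⟩ := AmpleEmbed.exists_closedImmersion (X ↘ Spec (CommRingCat.of k)) hH
  haveI := hι
  have hWi : PicF.IsInvertible W := TopDiff.isInvertible_of_isExtPow
    (TopDiff.isFinLocFreeOfRank_omega (X ↘ Spec (CommRingCat.of k)) 2) hW
  haveI : EnoughInjectives X.Modules := inferInstanceAs (EnoughInjectives (SheafOfModules _))
  haveI : HasExt.{u} X.Modules := inferInstance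
  obtain ⟨e⟩ := ExtShX.SmoothDual.nonempty_ext_dual (n := 2) (ι : X ⟶ PnVan.P k N) hι' hW
    (AmpleVan.isCoh_invertible hL) 0 (Nat.zero_le _)
  haveI : Subsingleton (L ⟶ W) := by
    refine subsingleton_of_forall_eq 0 fun φ => ?_
    by_contra hne
    obtain ⟨z, hz⟩ := exists_ne (0 : Coh.HH X L 0)
    refine hz ((Sheaf.H.equiv₀ (Coh.toAb L) isTerminalTop).injective ?_)
    haveI : Subsingleton Γ(W, (⊤ : X.Opens)) :=
      ((Sheaf.H.equiv₀ (Coh.toAb W) isTerminalTop).symm.toEquiv.subsingleton :)
    exact InvEnd.app_injective_of_ne_zero hL hWi φ hne ⊤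
      (Subsingleton.elim (α := Γ(W, (⊤ : X.Opens))) _ _) |>.trans (map_zero _).symm
  haveI : Subsingleton (Abelian.Ext.{u} L W 0) :=
    (Abelian.Ext.addEquiv₀ (X := L) (Y := W)).toEquiv.subsingleton
  haveI : Subsingleton (Module.Dual k (Coh.HH X L 2)) := e.symm.toEquiv.subsingleton
  haveI := CurveCohLib.finite_HH (k := k) (AmpleVan.isCoh_invertible hL) 2
  exact Module.finrank_zero_iff.1 ((Subspace.dual_finrank_eq (K := k)).symm.trans Module.finrank_zero_of_subsingleton)

end Groth.Agent.S16557
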