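import Groth.Statements.S1656
import Groth.Agent.CanonDual.Curve
import Groth.Agent.ExtShX.HighTwist
import Groth.Agent.Lib.CurveRR
import Groth.Agent.NodalLib.Gor
import Groth.Agent.KRRReg.PushOne

set_option autoImplicit false
set_option backward.isDefEq.respectTransparency.types false
universe u
open CategoryTheory CategoryTheory.Limits AlgebraicGeometry
attribute [local instance] HasDerivedCategory.standard
open Curves

namespace Groth.Agent.S1656

open Groth.Agent in
theorem subsingleton_HH_empty {X : Scheme.{u}} [IsEmpty X]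
    (F : X.Modules) (r : ℕ) : Subsingleton (Coh.HH X F r) := by
  refine Sheaf.subsingleton_H_of_isZero ((SheafOfModules.toSheaf X.ringCatSheaf).map_isZero
    ((IsZero.iff_id_eq_zero F).2 ?_)) r
  haveI : IsIso (0 : F ⟶ F) := KFlatLib.isIso_of_stalk _ fun y => isEmptyElim y
  rw [← cancel_epi (0 : F ⟶ F), zero_comp, zero_comp]

/-- Let X be proper over k, Cohen–Macaulay and equidimensional of dimension one, and let ω_X be its
dualizing module, i.e. the cohomology sheaf in degree -1 of f^! O for f : X → Spec k (assuming the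
derived direct image Rf_* on D_QCoh and its right adjoint exist, which is how the shared prelude
presents f^!). Then χ(X, O_X) = -χ(X, ω_X). -/
theorem result (k : Type u) [Field k] (X : Scheme.{u}) [X.Over (Spec (CommRingCat.of k))] [IsProper (X ↘ (Spec (CommRingCat.of k)))]
    (hCM : ∀ x : X, LocCoh.IsCohenMacaulayLocalRing (X.presheaf.stalk x))
    (hequi : ∀ Z ∈ irreducibleComponents (X : Type u), topologicalKrullDim Z = 1)
    [DCoh.HasRpush (X ↘ (Spec (CommRingCat.of k)))] (h : DCoh.RpushPreservesQCoh (X ↘ (Spec (CommRingCat.of k)))) [DCoh.HasShriek (X ↘ (Spec (CommRingCat.of k))) h]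
    (OY : DCoh.DQCoh (Spec (CommRingCat.of k))) (hOY : Nonempty (OY.obj ≅ DCoh.inD (Spec (CommRingCat.of k)) (Coh.structureModule (Spec (CommRingCat.of k))))) :
    Curv2.euler k X (Coh.structureModule X) = - Curv2.euler k X (DCoh.dualizingMod (X ↘ (Spec (CommRingCat.of k))) h OY 1) := by
  have hdim := Groth.Agent.NodalLib.topologicalKrullDim_le_one_of_components k X hequi
  obtain ⟨tr, hω⟩ := Groth.Agent.CanonDual.exists_isRDualOver_dualizingMod h OY hOY (d := 1)
    (fun M hM q hq => Groth.Agent.CanonDual.subsingleton_HH_curve k hdim hM hq)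
  have hc := Groth.Agent.CanonDual.isCoh_dualizing hdim hω
  have heul : ∀ M : X.Modules, Coh.IsQCoh M → Curv2.euler k X M =
      (Module.finrank k (Coh.HH X M 0) : ℤ) - Module.finrank k (Coh.HH X M 1) := fun M hM => by
    rw [Groth.Agent.Euler.euler_eq_sum k M 2 fun i hi =>
      Groth.Agent.CanonDual.subsingleton_HH_curve k hdim hM (by omega)]
    rw [Finset.sum_range_succ, Finset.sum_range_one]
    simp [sub_eq_add_neg]
  rw [heul _ Groth.Agent.QCoh.isQCoh_structureModule, heul _ hc.1]
  haveI : IsLocallyNoetherian X := LocallyOfFiniteType.isLocallyNoetherian (X ↘ Spec (CommRingCat.of k))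
  haveI : CompactSpace X := QuasiCompact.compactSpace_of_compactSpace (X ↘ Spec (CommRingCat.of k))
  haveI : IsNoetherian X := { __ := ‹IsLocallyNoetherian X›, __ := ‹CompactSpace X› }
  rcases isEmpty_or_nonempty X with hX | hX
  · have e : ∀ (M : X.Modules) (n : ℕ), Subsingleton (Coh.HH X M n) := fun M n =>
      subsingleton_HH_empty M n
    simp [Module.finrank_zero_of_subsingleton]
  have hdim1 : topologicalKrullDim X = 1 := by
    refine le_antisymm hdim ?_
    rw [← hequi _ (irreducibleComponent_mem_irreducibleComponents (Classical.arbitrary X))]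
    exact Topology.IsInducing.subtypeVal.topologicalKrullDim_le
  have hcdo : Groth.Agent.Proj16.ClosedDimOne X := by
    refine (Groth.Agent.Proj16.closedDimOne_iff_deg (X ↘ Spec (CommRingCat.of k))).2 fun z hz => ?_
    have h1 := hequi _ (Groth.Agent.VarDim.closure_mem_irreducibleComponents hz)
    rw [Groth.Agent.VarDim.topologicalKrullDim_closure_singleton (X ↘ Spec (CommRingCat.of k)) z] at h1
    exact_mod_cast h1
  have hcm : ∀ x : X, IsClosed ({x} : Set X) →
      LocCoh.IsCohenMacaulayLocalRing (X.presheaf.stalk x) ∧ ringKrullDim (X.presheaf.stalk x) = (1 : ℕ) :=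
    fun x hx => ⟨hCM x, by rw [hcdo x hx]; rfl⟩
  have hO : FlatMod.IsFinLocFree (Coh.structureModule X) := Groth.Agent.KRRReg.isFinLocFree_structure X
  obtain ⟨u⟩ := Groth.Agent.ExtShX.hom_structure_iso (DCoh.dualizingMod (X ↘ Spec (CommRingCat.of k)) h OY 1)
  let v := Groth.Agent.ExtShX.dualTensorIso hO (DCoh.dualizingMod (X ↘ Spec (CommRingCat.of k)) h OY 1) ≪≫ u
  have key : ∀ j ≤ 1, Module.finrank k (Coh.HH X (DCoh.dualizingMod (X ↘ Spec (CommRingCat.of k)) h OY 1) j) =
      Module.finrank k (Coh.HH X (Coh.structureModule X) (1 - j)) := fun j hj => by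
    obtain ⟨a⟩ := Groth.Agent.CanonDual.nonempty_dual_locFree hdim1 hcm hω hO j hj
    obtain ⟨b⟩ := Groth.Agent.ExtShX.nonempty_HH_equiv_of_iso (A := k) v j
    rw [(b.symm.trans a).finrank_eq, Subspace.dual_finrank_eq]
  rw [key 0 (by omega), key 1 le_rfl]
  simp

end Groth.Agent.S1656
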