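import Groth.Statements.S16562
import Groth.Agent.SurfRR.Divisors

set_option autoImplicit false
set_option linter.style.haveILetI false
set_option backward.isDefEq.respectTransparency false
set_option backward.isDefEq.respectTransparency.types false
universe u
open CategoryTheory CategoryTheory.Limits AlgebraicGeometry TopologicalSpace
open Surf

namespace Groth.Agent.S16562

open Groth.Agent
open Groth.Agent.H23.PicMul

/-- Let k be an algebraically closed field, p_1, …, p_r distinct closed points of the projective plane
P²_k and σ : X → P²_k the blow-up of P²_k in the ideal of the reduced finite set {p_1, …, p_r}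
(universal property), X being regarded over k through σ; X is then an integral smooth proper surface
(carried as hypotheses). Write H = σ^*O(1), (L·M) = χ(O_X) − χ(L) − χ(M) + χ(L ⊗ M) for the
intersection number of invertible modules L, M, and for a closed subscheme C ⊆ X with ideal I_C
write (L·C) = χ(O_C ⊗ L) − χ(O_C) and C² = (I_C·I_C). A (−1)-curve is an integral closed
one-dimensional subscheme E ⊆ X with H¹(E, O_E) = 0 and E² = −1. If L is an invertible O_X-module
and E a (−1)-curve whose H-degree satisfies 2(H·E) > (L·H), and (L·E) < −1, then H⁰(X, L) = 0. (The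
source takes the points in general position; that assumption plays no role here.) -/
theorem result (k : Type u) [Field k] [IsAlgClosed k]
    (r : ℕ) (P : Fin r → ↥(CohB1.ProjSpace 2 k)) (hP : Function.Injective P)
    (hPc : ∀ i, IsClosed ({P i} : Set ↥(CohB1.ProjSpace 2 k))) (hZ : IsClosed (Set.range P))
    (X : Scheme.{u}) [X.Over (Spec (CommRingCat.of k))] (σ : X ⟶ CohB1.ProjSpace 2 k)
    (hσk : σ ≫ CohB1.ProjSpace.toSpec 2 k = X ↘ (Spec (CommRingCat.of k)))
    (hσ : BlowUp.IsBlowUp σ (Scheme.IdealSheafData.vanishingIdeal ⟨Set.range P, hZ⟩))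
    [IsIntegral X] [IsProper (X ↘ (Spec (CommRingCat.of k)))] [Smooth (X ↘ (Spec (CommRingCat.of k)))] (hdim : topologicalKrullDim X = 2)
    (L : X.Modules) (hL : PicF.IsInvertible L)
    (E : X.IdealSheafData) (hEi : IsIntegral E.subscheme) (hE1 : topologicalKrullDim (E.support : Set X) = 1)
    (hEg : Subsingleton (Coh.HH E.subscheme (Coh.structureModule E.subscheme) 1))
    (hEE : FGA.intNum k X 2 ![ClSub.idealMod E, ClSub.idealMod E] (Coh.structureModule X) = -1)
    (hEH : FGA.intNum k X 2 ![L, ((Scheme.Modules.pullback σ).obj (Twist.twistProjSpace 2 k 1))] (Coh.structureModule X) < 2 * (Curv2.euler k X (CohB1.tensorMod (ClSub.quotMod E) ((Scheme.Modules.pullback σ).obj (Twist.twistProjSpace 2 k 1))) - Curv2.euler k X (ClSub.quotMod E)))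
    (hLE : (Curv2.euler k X (CohB1.tensorMod (ClSub.quotMod E) L) - Curv2.euler k X (ClSub.quotMod E)) < -1) :
    Subsingleton (Coh.HH X L 0) := by
  haveI := hEi
  obtain ⟨hH, hnef⟩ := SurfRR.pullTwist_nef k σ
  have hI := Big.NegDef.invertible_of_curve k hdim hEi hE1
  by_contra h
  rw [not_subsingleton_iff_nontrivial] at h
  have h1 := Big.NegDef.dot_eq_euler k hdim hI hL
  have hEHd := Big.NegDef.dot_eq_euler k hdim hI hH
  have hp : 0 < FGA.intNum k X 2 ![ClSub.idealMod E, L] (Coh.structureModule X) := by linarith
  have n1 := SurfRR.nontrivial_tensor_ideal k hdim hE1 hI hL hp h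
  let M := CohB1.tensorMod (ClSub.idealMod E) L
  have hM : PicF.IsInvertible M := InvX.isInvertible_tensorMod hI hL
  have hadd : ∀ {A B C : X.Modules}, PicF.IsInvertible A → PicF.IsInvertible B → PicF.IsInvertible C →
      FGA.intNum k X 2 ![CohB1.tensorMod A B, C] (Coh.structureModule X) =
        FGA.intNum k X 2 ![A, C] (Coh.structureModule X) + FGA.intNum k X 2 ![B, C] (Coh.structureModule X) := by
    intro A B C hA hB hC
    have h := Big.pair_add k hdim.le hA hB hC
    rw [← Big.intNum_eq_pair k hdim.le (InvX.isInvertible_tensorMod hA hB) hC,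
      ← Big.intNum_eq_pair k hdim.le hA hC, ← Big.intNum_eq_pair k hdim.le hB hC] at h
    exact_mod_cast h
  have hp2 : 0 < FGA.intNum k X 2 ![ClSub.idealMod E, M] (Coh.structureModule X) := by
    rw [Big.NegDef.dot_symm k hdim hI hM, hadd hI hL hI, Big.NegDef.dot_symm k hdim hL hI, hEE]
    linarith
  have n2 := SurfRR.nontrivial_tensor_ideal k hdim hE1 hI hM hp2 n1
  have h2 := SurfRR.intNum_nonneg_of_section k hdim (InvX.isInvertible_tensorMod hI hM) n2 hH hnef
  rw [hadd hI hM hH, hadd hI hL hH] at h2
  linarith

end Groth.Agent.S16562
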