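import Groth.Statements.S1657
import Groth.Agent.CanonDual.Bar
import Groth.Agent.CanonDual.VABar
import Groth.Agent.CanonDual.Deg
-- import your own Groth.Agent.* helpers here

set_option autoImplicit false
universe u
open CategoryTheory CategoryTheory.Limits AlgebraicGeometry
attribute [local instance] HasDerivedCategory.standard
open Curves

namespace Groth.Agent.S1657

/-- Let X be proper of dimension one over k with global functions k and genus g ≥ 2, with at-worst-nodal
singularities, and let ω_X be its dualizing module (degree -1 cohomology sheaf of f^! O for f : X →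
Spec k, assuming Rf_* on D_QCoh and its right adjoint exist). If ω_X is ample, then ω_X^{⊗3} is very
ample — some closed immersion i : X → P^n_k over k has i^* O(1) ≅ ω_X^{⊗3} — and H^1(X, ω_X^{⊗3}) =
0. -/
theorem result (k : Type u) [Field k] (X : Scheme.{u}) [X.Over (Spec (CommRingCat.of k))] [IsProper (X ↘ (Spec (CommRingCat.of k)))] (hdim : topologicalKrullDim X = 1)
    (h0 : Module.finrank k (Coh.HH X (Coh.structureModule X) 0) = 1) (hg : 2 ≤ Curv2.genus k X) (hX : Curv2.AtWorstNodal k X)
    [DCoh.HasRpush (X ↘ (Spec (CommRingCat.of k)))] (h : DCoh.RpushPreservesQCoh (X ↘ (Spec (CommRingCat.of k)))) [DCoh.HasShriek (X ↘ (Spec (CommRingCat.of k))) h]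
    (OY : DCoh.DQCoh (Spec (CommRingCat.of k))) (hOY : Nonempty (OY.obj ≅ DCoh.inD (Spec (CommRingCat.of k)) (Coh.structureModule (Spec (CommRingCat.of k)))))
    (hample : CohB1.IsAmple (DCoh.dualizingMod (X ↘ (Spec (CommRingCat.of k))) h OY 1)) :
    (∃ (n : ℕ) (i : X ⟶ CohB1.ProjSpace n k), IsClosedImmersion i ∧ i ≫ CohB1.ProjSpace.toSpec n k = X ↘ (Spec (CommRingCat.of k)) ∧
      Nonempty ((Scheme.Modules.pullback i).obj (Twist.twistProjSpace n k 1) ≅ CohB1.tensorPow (DCoh.dualizingMod (X ↘ (Spec (CommRingCat.of k))) h OY 1) 3)) ∧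
      Subsingleton (Coh.HH X (CohB1.tensorPow (DCoh.dualizingMod (X ↘ (Spec (CommRingCat.of k))) h OY 1) 3) 1) := by
  obtain ⟨tr, hω⟩ := Groth.Agent.CanonDual.exists_isRDualOver_dualizingMod h OY hOY (d := 1)
    (fun M hM q hq => Groth.Agent.CanonDual.subsingleton_HH_curve k hdim.le hM hq)
  revert tr hω hample
  generalize DCoh.dualizingMod (X ↘ (Spec (CommRingCat.of k))) h OY 1 = ω
  intro hample tr hω
  letI := Groth.Agent.CanonDual.barOver k X
  haveI := Groth.Agent.CanonDual.isProper_barOver k X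
  have hpb := Groth.Agent.CanonDual.isPullback_barOver k X
  obtain ⟨_, _, hdim', -, hX', hinv, hdeg⟩ := Groth.Agent.CanonDual.bar_data k X hdim h0 hX hω
  have hamp : CohB1.IsAmple ((Scheme.Modules.pullback (Curv2.bcFst k X (AlgebraicClosure k))).obj ω) :=
    Groth.Agent.HilbSnap.isAmple_of_affine_square hpb hample
  have hL := Groth.Agent.InvX.isInvertible_tensorPow hinv 3
  have hL' := Groth.Agent.PicClLib.isInvertible_pullback (Curv2.bcFst k X (AlgebraicClosure k)) hL
  obtain ⟨e⟩ := Groth.Agent.HilbSnap.pullback_tensorPow (Curv2.bcFst k X (AlgebraicClosure k)) ω 3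
  have key : ∀ J : (Curv2.bc k X (AlgebraicClosure k)).IdealSheafData, AlgebraicGeometry.IsReduced J.subscheme → ConnectedSpace J.subscheme →
      topologicalKrullDim J.subscheme = 1 →
      -2 * @Curv2.euler (AlgebraicClosure k) _ J.subscheme ⟨J.subschemeι ≫ ((Curv2.bc k X (AlgebraicClosure k)) ↘ Spec (CommRingCat.of (AlgebraicClosure k)))⟩
          (Coh.structureModule J.subscheme) + 2 <
        @Curv2.deg (AlgebraicClosure k) _ J.subscheme ⟨J.subschemeι ≫ ((Curv2.bc k X (AlgebraicClosure k)) ↘ Spec (CommRingCat.of (AlgebraicClosure k)))⟩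
          ((Scheme.Modules.pullback J.subschemeι).obj ((Scheme.Modules.pullback (Curv2.bcFst k X (AlgebraicClosure k))).obj (CohB1.tensorPow ω 3))) 1 := by
    intro J h₁ h₂ h₃
    have hb := (hdeg J h₁ h₂ h₃).1
    have hm := Groth.Agent.CanonDual.deg_restrict_tensorPow (k := (AlgebraicClosure k)) J h₃
      (Groth.Agent.PicClLib.isInvertible_pullback (Curv2.bcFst k X (AlgebraicClosure k)) hinv) 3
    letI : J.subscheme.Over (Spec (CommRingCat.of (AlgebraicClosure k))) := ⟨J.subschemeι ≫ ((Curv2.bc k X (AlgebraicClosure k)) ↘ Spec (CommRingCat.of (AlgebraicClosure k)))⟩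
    haveI : IsProper (J.subscheme ↘ Spec (CommRingCat.of (AlgebraicClosure k))) :=
      inferInstanceAs (IsProper (J.subschemeι ≫ ((Curv2.bc k X (AlgebraicClosure k)) ↘ Spec (CommRingCat.of (AlgebraicClosure k)))))
    have hd := Groth.Agent.CanonDual.deg_pos_of_ample (AlgebraicClosure k) h₃
      (Groth.Agent.AmpleDev.isAmple_pullback_finite (AlgebraicClosure k) J.subschemeι hamp)
    have he : Curv2.deg (AlgebraicClosure k) J.subscheme ((Scheme.Modules.pullback J.subschemeι).obj
          ((Scheme.Modules.pullback (Curv2.bcFst k X (AlgebraicClosure k))).obj (CohB1.tensorPow ω 3))) 1 =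
        Curv2.deg (AlgebraicClosure k) J.subscheme ((Scheme.Modules.pullback J.subschemeι).obj
          (CohB1.tensorPow ((Scheme.Modules.pullback (Curv2.bcFst k X (AlgebraicClosure k))).obj ω) 3)) 1 := by
      unfold Curv2.deg
      rw [Groth.Agent.Euler.euler_congr (AlgebraicClosure k) ((Scheme.Modules.pullback J.subschemeι).mapIso e)]
    rw [he, hm]
    push_cast
    have hd' : (0 : ℤ) < _ := hd
    omega
  refine ⟨Groth.Agent.CanonDual.isVeryAmple_of_bar k X h0 hL (Curv2.bcFst k X (AlgebraicClosure k)) hpb hdim' hX' key, ?_⟩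
  haveI := Groth.Agent.CanonDual.subsingleton_H1_of_subcurves (k := (AlgebraicClosure k)) hdim' hX' hL' fun J h₁ h₂ h₃ =>
    lt_trans (lt_add_of_pos_right _ two_pos) (key J h₁ h₂ h₃)
  haveI := quasiSeparatedSpace_of_quasiSeparated (X ↘ Spec (CommRingCat.of k))
  haveI := QuasiCompact.compactSpace_of_compactSpace (X ↘ Spec (CommRingCat.of k))
  haveI := Groth.Agent.CurveCohLib.isNoetherian_of_proper (k := k) (X := X)
  have hc := Groth.Agent.CurveDeg.isCoh_of_isInvertible hL
  haveI := Groth.Agent.CurveCohLib.finite_HH (k := k) hc 1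
  refine (Module.finrank_zero_iff (R := k)).1 ?_
  rw [← Groth.Agent.CurveBC.finrank_hh k (AlgebraicClosure k) (Curv2.bcFst k X (AlgebraicClosure k)) hpb _ hc.1 1]
  exact Module.finrank_zero_of_subsingleton

end Groth.Agent.S1657
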