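import Groth.Statements.S16572
import Mathlib.FieldTheory.Isaacs
import Mathlib.RingTheory.Polynomial.ScaleRoots
import Mathlib.RingTheory.Algebraic.Integral
import Mathlib.Algebra.Polynomial.Lifts
import Mathlib.FieldTheory.IsAlgClosed.AlgebraicClosure

set_option autoImplicit false
universe u
open CAlg

namespace Groth.Agent.S16572

abbrev T (A : Type u) [CommRing A] : Type u :=
  MvPolynomial {P : Polynomial A // P.Monic ∧ 0 < P.natDegree} A ⧸
      Ideal.span (Set.range fun P : {P : Polynomial A // P.Monic ∧ 0 < P.natDegree} =>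
        Polynomial.aeval (MvPolynomial.X (R := A) P) P.1)

theorem aeval_gen (A : Type u) [CommRing A] (P : {P : Polynomial A // P.Monic ∧ 0 < P.natDegree}) :
    Polynomial.aeval (Ideal.Quotient.mk _ (MvPolynomial.X P) : T A) P.1 = 0 := by
  rw [← Ideal.Quotient.mkₐ_eq_mk A, Polynomial.aeval_algHom_apply, Ideal.Quotient.mkₐ_eq_mk,
    Ideal.Quotient.eq_zero_iff_mem]
  exact Ideal.subset_span ⟨P, rfl⟩

theorem surjective_comap (A : Type u) [CommRing A] :
    Function.Surjective (PrimeSpectrum.comap (algebraMap A (T A))) := by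
  intro p
  classical
  let K := AlgebraicClosure p.asIdeal.ResidueField
  have hroot : ∀ P : {P : Polynomial A // P.Monic ∧ 0 < P.natDegree}, ∃ x : K, Polynomial.aeval x P.1 = 0 := fun P => by
    obtain ⟨x, hx⟩ := IsAlgClosed.exists_root (P.1.map (algebraMap A K)) (fun h => by
      have hn := Polynomial.natDegree_eq_of_degree_eq_some (p := P.1.map (algebraMap A K)) (n := 0) h
      rw [P.2.1.natDegree_map] at hn
      exact P.2.2.ne' hn)
    exact ⟨x, by rwa [Polynomial.IsRoot.def, Polynomial.eval_map, ← Polynomial.aeval_def] at hx⟩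
  choose x hx using hroot
  let φ : T A →ₐ[A] K := Ideal.Quotient.liftₐ _ (MvPolynomial.aeval x) (fun a ha => by
    have : Ideal.span (Set.range fun P : {P : Polynomial A // P.Monic ∧ 0 < P.natDegree} =>
        Polynomial.aeval (MvPolynomial.X (R := A) P) P.1) ≤ RingHom.ker (MvPolynomial.aeval x) := by
      rw [Ideal.span_le]
      rintro _ ⟨P, rfl⟩
      show MvPolynomial.aeval x (Polynomial.aeval (MvPolynomial.X (R := A) P) P.1) = 0
      rw [← Polynomial.aeval_algHom_apply, MvPolynomial.aeval_X, hx]
    exact this ha)
  refine ⟨⟨RingHom.ker φ.toRingHom, RingHom.ker_isPrime _⟩, PrimeSpectrum.ext ?_⟩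
  show Ideal.comap _ (RingHom.ker φ.toRingHom) = p.asIdeal
  rw [RingHom.comap_ker, show φ.toRingHom.comp (algebraMap A (T A)) = algebraMap A K from φ.comp_algebraMap,
    IsScalarTower.algebraMap_eq A p.asIdeal.ResidueField K,
    RingHom.ker_comp_of_injective _ (algebraMap p.asIdeal.ResidueField K).injective,
    Ideal.ker_algebraMap_residueField]

theorem residue_field (A : Type u) [CommRing A] (Q : Ideal (T A)) [Q.IsPrime] :
    IsAlgClosed Q.ResidueField ∧
      (Ideal.ResidueField.map (Q.comap (algebraMap A (T A))) Q (algebraMap A (T A)) rfl).IsIntegral := by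
  classical
  let p := Q.comap (algebraMap A (T A))
  letI : Algebra p.ResidueField Q.ResidueField :=
    (Ideal.ResidueField.map p Q (algebraMap A (T A)) rfl).toAlgebra
  haveI : IsScalarTower A p.ResidueField Q.ResidueField := IsScalarTower.of_algebraMap_eq fun a => by
    rw [IsScalarTower.algebraMap_apply A (T A) Q.ResidueField, RingHom.algebraMap_toAlgebra]
    exact (Ideal.ResidueField.map_algebraMap _ Q (algebraMap A (T A)) rfl a).symm
  haveI hTint : Algebra.IsIntegral A (T A) := ⟨fun t => by
    obtain ⟨q, rfl⟩ := Ideal.Quotient.mk_surjective t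
    induction q using MvPolynomial.induction_on with
    | C a => exact isIntegral_algebraMap (x := a)
    | add a b ha hb => rw [map_add]; exact ha.add hb
    | mul_X a P ha => rw [map_mul]; exact ha.mul ⟨P.1, P.2.1, aeval_gen A P⟩⟩
  have hfrac : ∀ y : Q.ResidueField, ∃ a b : T A,
      y = algebraMap (T A) Q.ResidueField a / algebraMap (T A) Q.ResidueField b := fun y => by
    obtain ⟨a, b, -, rfl⟩ := IsFractionRing.div_surjective (T A ⧸ Q) y
    obtain ⟨a, rfl⟩ := Ideal.Quotient.mk_surjective a
    obtain ⟨b, rfl⟩ := Ideal.Quotient.mk_surjective b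
    exact ⟨a, b, rfl⟩
  have hint : ∀ a : T A, IsAlgebraic p.ResidueField (algebraMap (T A) Q.ResidueField a) := fun a =>
    ((hTint.isIntegral a).map (IsScalarTower.toAlgHom A (T A) Q.ResidueField)).tower_top.isAlgebraic
  haveI : Algebra.IsAlgebraic p.ResidueField Q.ResidueField := ⟨fun y => by
    obtain ⟨a, b, rfl⟩ := hfrac y
    rw [div_eq_mul_inv]
    exact (hint a).mul (hint b).inv⟩
  haveI : IsAlgClosure p.ResidueField Q.ResidueField := IsAlgClosure.of_exists_root fun f hf hirr => by
    obtain ⟨⟨s, hs⟩, hs'⟩ := IsLocalization.exist_integer_multiples_of_finset (nonZeroDivisors (A ⧸ p))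
      (Finset.image f.coeff (Finset.range (f.natDegree + 1)))
    obtain ⟨s, rfl⟩ := Ideal.Quotient.mk_surjective s
    have hs0 : algebraMap A p.ResidueField s ≠ 0 := by
      rw [IsScalarTower.algebraMap_apply A (A ⧸ p) p.ResidueField]
      exact IsFractionRing.to_map_ne_zero_of_mem_nonZeroDivisors hs
    let g := f.scaleRoots (algebraMap A p.ResidueField s)
    have hg : g ∈ Polynomial.lifts (algebraMap A p.ResidueField) := by
      rw [Polynomial.lifts_iff_coeff_lifts]
      intro i
      rw [Polynomial.coeff_scaleRoots]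
      rcases lt_trichotomy i f.natDegree with h | h | h
      · obtain ⟨c, hc⟩ := hs' (f.coeff i) (Finset.mem_image_of_mem _ (Finset.mem_range.2 (by omega)))
        obtain ⟨c, rfl⟩ := Ideal.Quotient.mk_surjective c
        obtain ⟨k, hk⟩ : ∃ k, f.natDegree - i = k + 1 := ⟨f.natDegree - i - 1, by omega⟩
        refine ⟨c * s ^ k, ?_⟩
        have hc' : algebraMap A p.ResidueField c = algebraMap A p.ResidueField s * f.coeff i := by
          rw [Algebra.smul_def] at hc; exact hc
        rw [map_mul, map_pow, hc', hk, pow_succ]; ring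
      · exact ⟨1, by rw [h, hf.coeff_natDegree]; simp⟩
      · exact ⟨0, by rw [Polynomial.coeff_eq_zero_of_natDegree_lt h]; simp⟩
    obtain ⟨P, hP, hPdeg, hPm⟩ := Polynomial.lifts_and_natDegree_eq_and_monic hg
      ((Polynomial.monic_scaleRoots_iff _).2 hf)
    have hpos : 0 < P.natDegree := by
      rw [hPdeg, Polynomial.natDegree_scaleRoots]; exact hirr.natDegree_pos
    let X' : Q.ResidueField := algebraMap (T A) _ (Ideal.Quotient.mk _ (MvPolynomial.X ⟨P, hPm, hpos⟩))
    refine ⟨X' / algebraMap A Q.ResidueField s, ?_⟩
    have hX : Polynomial.aeval X' g = 0 := by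
      rw [← hP, Polynomial.aeval_map_algebraMap, Polynomial.aeval_algebraMap_apply, aeval_gen, map_zero]
    have hsQ : algebraMap A Q.ResidueField s ≠ 0 := by
      rw [IsScalarTower.algebraMap_apply A p.ResidueField Q.ResidueField]
      exact (map_ne_zero _).2 hs0
    have hval : Polynomial.eval₂ (algebraMap p.ResidueField Q.ResidueField)
        (algebraMap p.ResidueField Q.ResidueField (algebraMap A p.ResidueField s) *
          (X' / algebraMap A Q.ResidueField s)) g = 0 := by
      rw [← IsScalarTower.algebraMap_apply, mul_div_cancel₀ _ hsQ]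
      exact hX
    rw [Polynomial.scaleRoots_eval₂_mul] at hval
    exact (mul_eq_zero.1 hval).resolve_left (pow_ne_zero _ (by
      rw [← IsScalarTower.algebraMap_apply]; exact hsQ))
  exact ⟨IsAlgClosure.isAlgClosed p.ResidueField,
    (Algebra.IsAlgebraic.isIntegral : Algebra.IsIntegral p.ResidueField Q.ResidueField).isIntegral⟩

/-- Let A be a commutative ring and T the quotient of the polynomial ring over A in indeterminates X_P,
one for each monic polynomial P over A of positive degree, by the ideal generated by the elements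
P(X_P). Then the map on prime spectra Spec T → Spec A is surjective, and for every prime ideal Q of
T, with p its contraction to A, the residue field of Q is algebraically closed and integral over the
residue field of p under the induced map of residue fields (so it is an algebraic closure of it). -/
theorem result (A : Type u) [CommRing A] :
    Function.Surjective (PrimeSpectrum.comap (algebraMap A (MvPolynomial {P : Polynomial A // P.Monic ∧ 0 < P.natDegree} A ⧸
      Ideal.span (Set.range fun P : {P : Polynomial A // P.Monic ∧ 0 < P.natDegree} =>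
        Polynomial.aeval (MvPolynomial.X (R := A) P) P.1)))) ∧
    ∀ (Q : Ideal (MvPolynomial {P : Polynomial A // P.Monic ∧ 0 < P.natDegree} A ⧸
      Ideal.span (Set.range fun P : {P : Polynomial A // P.Monic ∧ 0 < P.natDegree} =>
        Polynomial.aeval (MvPolynomial.X (R := A) P) P.1))) [Q.IsPrime],
      IsAlgClosed Q.ResidueField ∧
      (Ideal.ResidueField.map (Q.comap (algebraMap A (MvPolynomial {P : Polynomial A // P.Monic ∧ 0 < P.natDegree} A ⧸
      Ideal.span (Set.range fun P : {P : Polynomial A // P.Monic ∧ 0 < P.natDegree} =>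
        Polynomial.aeval (MvPolynomial.X (R := A) P) P.1)))) Q (algebraMap A (MvPolynomial {P : Polynomial A // P.Monic ∧ 0 < P.natDegree} A ⧸
      Ideal.span (Set.range fun P : {P : Polynomial A // P.Monic ∧ 0 < P.natDegree} =>
        Polynomial.aeval (MvPolynomial.X (R := A) P) P.1))) rfl).IsIntegral := by
  exact ⟨surjective_comap A, fun Q _ => residue_field A Q⟩

end Groth.Agent.S16572
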