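import Groth.Statements.S16573
import Groth.Agent.AlgClosCover.Basic
-- import your own Groth.Agent.* helpers here

set_option autoImplicit false
set_option backward.isDefEq.respectTransparency false
set_option backward.isDefEq.respectTransparency.types false
universe u
open CategoryTheory AlgebraicGeometry
open EtCore


namespace Groth.Agent.S16573

/-- For a quasi-compact quasi-separated scheme X there are an affine scheme X' and a quasi-compact
surjective morphism f : X' → X such that for every point x' of X' the residue field of x' is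
algebraically closed and integral over the residue field of f(x') under the induced map of residue
fields, that is, an algebraic closure of it. -/
theorem result
    (X : Scheme.{u}) [CompactSpace X] [QuasiSeparatedSpace X] :
    ∃ (X' : Scheme.{u}) (f : X' ⟶ X), IsAffine X' ∧ QuasiCompact f ∧ Surjective f ∧
      ∀ x' : X', IsAlgClosed (X'.residueField x') ∧ (f.residueFieldMap x').hom.IsIntegral := by
  let 𝒰 := X.affineCover.finiteSubcover
  let p : (∐ 𝒰.X) ⟶ X := Limits.Sigma.desc 𝒰.f
  haveI : Etale p := IsZariskiLocalAtSource.sigmaDesc fun _ => inferInstance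
  haveI : Surjective p := Surjective.sigmaDesc_of_union_range_eq_univ 𝒰.iUnion_range
  haveI : QuasiCompact p := inferInstance
  obtain ⟨B, _, _, hint, haic, hsurj⟩ := Groth.Agent.AlgClosCover.exists_integral_aic Γ(∐ 𝒰.X, ⊤)
  haveI := hint
  let g : Spec (CommRingCat.of B) ⟶ ∐ 𝒰.X :=
    Spec.map (CommRingCat.ofHom (algebraMap Γ(∐ 𝒰.X, ⊤) B)) ≫ (∐ 𝒰.X).isoSpec.inv
  haveI : IsIntegralHom (Spec.map (CommRingCat.ofHom (algebraMap Γ(∐ 𝒰.X, ⊤) B))) :=
    IsIntegralHom.SpecMap_iff.2 (algebraMap_isIntegral_iff.2 inferInstance)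
  haveI : Surjective (Spec.map (CommRingCat.ofHom (algebraMap Γ(∐ 𝒰.X, ⊤) B))) := ⟨hsurj⟩
  haveI : IsIntegralHom g := inferInstance
  haveI : Surjective g := inferInstance
  refine ⟨Spec (CommRingCat.of B), g ≫ p, inferInstance, inferInstance, inferInstance, fun x => ⟨?_, ?_⟩⟩
  · refine Groth.Agent.AlgClosCover.isAlgClosed_residueField (fun f hf hd => ?_) x
    let ε := (Scheme.ΓSpecIso (CommRingCat.of B)).commRingCatIsoToRingEquiv
    obtain ⟨r, hr⟩ := haic (f.map (ε : _ →+* B)) (hf.map _)
      (by
        haveI : Nontrivial B := PrimeSpectrum.nontrivial (R := B) x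
        rwa [hf.natDegree_map])
    refine ⟨ε.symm r, ε.injective ?_⟩
    rw [map_zero, ← hr, Polynomial.eval_map]
    exact (Polynomial.eval₂_at_apply (ε : _ →+* B) (ε.symm r)).symm.trans
      (congrArg (fun z => Polynomial.eval₂ (ε : _ →+* B) z f) (ε.apply_symm_apply r))
  · rw [Scheme.residueFieldMap_comp, CommRingCat.hom_comp]
    exact RingHom.IsIntegral.trans _ _ (Groth.Agent.AlgSpDec.BiratStalk.isIntegral_residueFieldMap_of_etale p (g x))
      (Groth.Agent.AlgClosCover.isIntegral_residueFieldMap_of_isIntegralHom g x)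

end Groth.Agent.S16573
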