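import Groth.Statements.S16575
import Groth.Agent.BrnchLib.TensorDim
import Groth.Agent.BrnchLib.HenzStrict
import Groth.Agent.BrnchLib.DimOneComp
import Groth.Agent.FormalFib6.Cplt
import Groth.Agent.CILib.Basic

set_option autoImplicit false
universe u
open CAlg

namespace Groth.Agent.S16575

open IsLocalRing Groth.Agent

theorem forall_two_le_iff {R : Type u} [CommRing R] [IsLocalRing R] :
    (∀ p ∈ minimalPrimes R, (2 : WithBot ℕ∞) ≤ ringKrullDim (R ⧸ p)) ↔
      (¬ ∃ p ∈ minimalPrimes R, ringKrullDim (R ⧸ p) = 1) ∧ ringKrullDim R ≠ 0 := by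
  constructor
  · intro h
    refine ⟨fun ⟨p, hp, h1⟩ => ?_, fun h0 => ?_⟩
    · have h2 := h p hp
      rw [h1] at h2
      exact (by decide : ¬ (2 : ℕ) ≤ 1) (by exact_mod_cast h2)
    · obtain ⟨⟨p, hp⟩⟩ := Ideal.nonempty_minimalPrimes (I := (⊥ : Ideal R)) bot_ne_top
      have h2 := (h p hp).trans (ringKrullDim_quotient_le p)
      rw [h0] at h2
      exact (by decide : ¬ (2 : ℕ) ≤ 0) (by exact_mod_cast h2)
  · rintro ⟨h1, h0⟩ p hp
    haveI := hp.1.1
    have hpm : p ≠ maximalIdeal R := fun e => h0 (by
      haveI : Ring.KrullDimLE 0 R := by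
        refine Ring.KrullDimLE.mk₀ fun q hq => ?_
        have : q = maximalIdeal R := le_antisymm (le_maximalIdeal hq.ne_top)
          (e ▸ hp.2 ⟨hq, bot_le⟩ (e.symm ▸ le_maximalIdeal hq.ne_top))
        rw [this]; infer_instance
      exact le_antisymm (Ring.krullDimLE_iff.1 ‹_›) (ringKrullDim_nonneg_of_nontrivial))
    have hge := BrnchLib.one_le_ringKrullDim_quotient hpm
    by_contra hlt
    refine h1 ⟨p, hp, le_antisymm ?_ hge⟩
    revert hlt hge
    generalize ringKrullDim (R ⧸ p) = d
    intro hge hlt
    match d with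
    | ⊥ => exact bot_le
    | (⊤ : ℕ∞) => exact absurd (WithBot.coe_le_coe.2 (le_top : (2 : ℕ∞) ≤ ⊤)) hlt
    | ((n : ℕ) : ℕ∞) =>
      have hlt' : ¬ 2 ≤ n := fun hh => hlt (WithBot.coe_le_coe.2 (Nat.cast_le.2 hh))
      exact WithBot.coe_le_coe.2 (Nat.cast_le.2 (by omega : n ≤ 1))

/-- Let A be a Noetherian local ring, S a henselization of A, S' a strict henselization of A, A' the
integral closure of the reduction of A in its total ring of fractions, and Â the completion of A at
its maximal ideal. The following are equivalent: (i) for every maximal ideal m' of A' the local ring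
of A' at m' has Krull dimension at least 2; (ii) every irreducible component of Spec S has dimension
at least 2; (ii bis) every irreducible component of Spec S' has dimension at least 2; (iii) every
irreducible component of Spec Â has dimension at least 2. (A closed subscheme Z of a Noetherian
scheme X is called c_2 when these hold at the local ring of every point of Z; condition (i) at all
points of Z says that the preimage of Z in the normalization has codimension at least 2.) -/
theorem result
    (A : Type u) [CommRing A] [IsNoetherianRing A] [IsLocalRing A]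
    (S : Type u) [CommRing S] [IsLocalRing S] [Algebra A S] [IsLocalHom (algebraMap A S)]
    [Hensel.IsHenselization A S]
    (S' : Type u) [CommRing S'] [IsLocalRing S'] [Algebra A S'] [IsLocalHom (algebraMap A S')]
    [Hensel.IsStrictHenselization A S'] :
    List.TFAE [
      ∀ m' : MaximalSpectrum (CAlg2.normRed A), (2 : WithBot ℕ∞) ≤ ringKrullDim (Localization.AtPrime m'.asIdeal),
      ∀ p ∈ minimalPrimes S, (2 : WithBot ℕ∞) ≤ ringKrullDim (S ⧸ p),
      ∀ p ∈ minimalPrimes S', (2 : WithBot ℕ∞) ≤ ringKrullDim (S' ⧸ p),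
      ∀ q ∈ minimalPrimes (AdicCompletion (IsLocalRing.maximalIdeal A) A), (2 : WithBot ℕ∞) ≤ ringKrullDim (AdicCompletion (IsLocalRing.maximalIdeal A) A ⧸ q)] := by
  haveI : IsNoetherianRing (AdicCompletion (maximalIdeal A) A) :=
    Groth.Agent.FormalFib6.isNoetherianRing_adicCompletion A _
  haveI : Finite (minimalPrimes A) := (minimalPrimes.finite_of_isNoetherianRing A).to_subtype
  haveI : HenselianLocalRing S := _root_.Hensel.IsHenselization.henselian (R := A)
  haveI hS' : _root_.Hensel.IsStrictHenselization A S' := inferInstance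
  haveI : HenselianLocalRing S' := hS'.henselian
  haveI : IsNoetherianRing S := (Groth.Agent.Hensel.isHenzLike_of_isHenselization A S).isNoetherianRing_iff.1 inferInstance
  tfae_have 1 ↔ 2 := by
    refine (BrnchLib.forall_two_le_iff_tensor A S (Groth.Agent.Hensel.isHenzLike_of_isHenselization A S)
      (CAlg2.normRed A) ?_ (BrnchLib.bijOn_normRed A) (BrnchLib.birational_normRed A) _).symm
    intro n _
    exact BrnchLib.isDomain_localization_tensor A S (CAlg2.normRed A)
      (fun m _ => BrnchLib.isDomain_normal_localization (BrnchLib.comps A) m)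
      (BrnchLib.closedFibre_inj A S (CAlg2.normRed A)) n
  tfae_have 1 ↔ 3 := by
    exact (BrnchLib.forall_two_le_iff_tensor A S' (Groth.Agent.Hensel.isHenzLike_of_isStrictHenselization A S')
      (CAlg2.normRed A) (fun n _ => BrnchLib.isDomain_localization_tensor_strict A S' (CAlg2.normRed A)
        (fun m _ => BrnchLib.isDomain_normal_localization (BrnchLib.comps A) m) n)
      (BrnchLib.bijOn_normRed A) (BrnchLib.birational_normRed A) _).symm
  tfae_have 2 ↔ 4 := by
    haveI := BrnchLib.henselianLocalRing_completion A
    obtain ⟨ψ, hψ, -⟩ := _root_.Hensel.IsHenselization.universal (R := A) (S := S)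
      (AdicCompletion (maximalIdeal A) A) (algebraMap A _) inferInstance
    obtain ⟨hm, hres⟩ := Groth.Agent.S9279.completion_data A S ψ hψ
    have hff := BrnchLib.faithfullyFlat_psi A S ψ hψ
    letI := ψ.toAlgebra
    rw [forall_two_le_iff, forall_two_le_iff, BrnchLib.exists_dim_one_iff hff hm hres]
    rw [Groth.Agent.CILib.ringKrullDim_adicCompletion,
      ← (Groth.Agent.Hensel.isHenzLike_of_isHenselization A S).ringKrullDim_eq]
  tfae_finish

end Groth.Agent.S16575
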