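import Groth.Statements.S16576
import Groth.Agent.BrnchLib.FlatComponents
import Groth.Agent.BrnchLib.Compl
import Groth.Agent.FormalFib6.Cplt
import Groth.Agent.FlatLoc6.Cpl

set_option autoImplicit false
universe u
open CAlg

namespace Groth.Agent.S16576

open IsLocalRing

variable {A B : Type u} [CommRing A] [CommRing B] [IsNoetherianRing A] [IsNoetherianRing B]
    [IsLocalRing A] [IsLocalRing B] (f : A →+* B) [IsLocalHom f]

theorem pow_le_comap (n : ℕ) : maximalIdeal A ^ n ≤ (maximalIdeal B ^ n).comap f := by
  rw [← Ideal.map_le_iff_le_comap, Ideal.map_pow]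
  exact Ideal.pow_right_mono (Ideal.map_le_iff_le_comap.2 (maximalIdeal_comap f).ge) n

noncomputable def levelMap (n : ℕ) : AdicCompletion (maximalIdeal A) A →+* B ⧸ maximalIdeal B ^ n :=
  (Ideal.quotientMap (maximalIdeal B ^ n) f (pow_le_comap f n)).comp
    (AdicCompletion.evalₐ (maximalIdeal A) n).toRingHom

theorem levelMap_compat {m n : ℕ} (h : m ≤ n) :
    (Ideal.Quotient.factorPow (maximalIdeal B) h).comp (levelMap f n) = levelMap f m :=
  RingHom.ext fun z => by
    change Ideal.Quotient.factorPow (maximalIdeal B) h
      (Ideal.quotientMap _ f (pow_le_comap f n) (AdicCompletion.evalₐ (maximalIdeal A) n z)) = _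
    obtain ⟨a, ha⟩ := Ideal.Quotient.mk_surjective (AdicCompletion.evalₐ (maximalIdeal A) n z)
    change _ = Ideal.quotientMap _ f (pow_le_comap f m) (AdicCompletion.evalₐ (maximalIdeal A) m z)
    rw [← BrnchLib.evalₐ_factor (maximalIdeal A) h z, ← ha]
    rfl

noncomputable def cplMap : AdicCompletion (maximalIdeal A) A →+* AdicCompletion (maximalIdeal B) B :=
  AdicCompletion.liftRingHom (maximalIdeal B) _ (levelMap_compat f)

theorem cplMap_algebraMap (a : A) :
    cplMap f (algebraMap A _ a) = algebraMap B (AdicCompletion (maximalIdeal B) B) (f a) := by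
  refine AdicCompletion.ext_evalₐ fun n => ?_
  refine (AdicCompletion.evalₐ_liftRingHom _ _ (levelMap_compat f) n _).trans ?_
  change Ideal.quotientMap _ f (pow_le_comap f n) (AdicCompletion.evalₐ (maximalIdeal A) n (algebraMap A _ a)) = _
  rw [AlgHom.commutes, AlgHom.commutes]
  rfl

/-- Let A → B be a flat local homomorphism of Noetherian local rings and let Â, B̂ be their completions
at the maximal ideals. If every irreducible component of Spec Â has dimension at least 2, then every
irreducible component of Spec B̂ has dimension at least 2. (This is the c_2 condition in its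
completed form; globally: the preimage of a c_2 closed subset under a flat morphism of Noetherian
schemes is c_2, in particular the condition is invariant under Zariski and étale localization.) -/
theorem result
    (A B : Type u) [CommRing A] [CommRing B] [IsNoetherianRing A] [IsNoetherianRing B]
    [IsLocalRing A] [IsLocalRing B] (f : A →+* B) [IsLocalHom f] (hf : f.Flat)
    (hA : ∀ q ∈ minimalPrimes (AdicCompletion (IsLocalRing.maximalIdeal A) A), (2 : WithBot ℕ∞) ≤ ringKrullDim (AdicCompletion (IsLocalRing.maximalIdeal A) A ⧸ q)) :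
    ∀ q ∈ minimalPrimes (AdicCompletion (IsLocalRing.maximalIdeal B) B), (2 : WithBot ℕ∞) ≤ ringKrullDim (AdicCompletion (IsLocalRing.maximalIdeal B) B ⧸ q) := by
  haveI : IsNoetherianRing (AdicCompletion (maximalIdeal A) A) :=
    Groth.Agent.FormalFib6.isNoetherianRing_adicCompletion A _
  haveI : IsNoetherianRing (AdicCompletion (maximalIdeal B) B) :=
    Groth.Agent.FormalFib6.isNoetherianRing_adicCompletion B _
  letI : Algebra A B := f.toAlgebra
  letI : Algebra (AdicCompletion (maximalIdeal A) A) (AdicCompletion (maximalIdeal B) B) := (cplMap f).toAlgebra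
  haveI : IsScalarTower A (AdicCompletion (maximalIdeal A) A) (AdicCompletion (maximalIdeal B) B) :=
    IsScalarTower.of_algebraMap_eq fun a => ((cplMap_algebraMap f a).trans rfl).symm
  haveI : Module.Flat A B := hf
  haveI : Module.Flat B (AdicCompletion (maximalIdeal B) B) := AdicCompletion.flat_of_isNoetherian _
  haveI : Module.Flat A (AdicCompletion (maximalIdeal B) B) := Module.Flat.trans A B _
  have hle : (maximalIdeal A).map (algebraMap A (AdicCompletion (maximalIdeal B) B)) ≤
      maximalIdeal (AdicCompletion (maximalIdeal B) B) := by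
    rw [IsScalarTower.algebraMap_eq A B (AdicCompletion (maximalIdeal B) B), ← Ideal.map_map,
      AdicCompletion.maximalIdeal_eq_map]
    exact Ideal.map_mono (Ideal.map_le_iff_le_comap.2 (maximalIdeal_comap f).ge)
  haveI : Module.Flat (AdicCompletion (maximalIdeal A) A) (AdicCompletion (maximalIdeal B) B) := by
    refine Groth.Agent.FlatLoc6.flat_of_dense (A := A) (maximalIdeal A) (fun n r => ?_)
      (hle.trans (maximalIdeal_le_jacobson _))
    obtain ⟨a, ha⟩ := Submodule.mkQ_surjective _ (AdicCompletion.eval (maximalIdeal A) A n r)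
    refine ⟨a, (Groth.Agent.LocalCrit.smul_top_eq_map _ _).1 ?_⟩
    rw [AdicCompletion.pow_smul_top_eq_ker_eval (IsNoetherian.noetherian _), LinearMap.mem_ker, map_sub, sub_eq_zero]
    exact ha.symm
  haveI : IsLocalHom (algebraMap (AdicCompletion (maximalIdeal A) A) (AdicCompletion (maximalIdeal B) B)) := by
    refine ((local_hom_TFAE _).out 0 2).mpr ?_
    rw [AdicCompletion.maximalIdeal_eq_map (R := A), Ideal.map_map, ← IsScalarTower.algebraMap_eq]
    exact hle
  exact BrnchLib.two_le_dim_component _ _ hA

end Groth.Agent.S16576
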