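import Groth.Statements.S16578
import Groth.Agent.BrnchLib.SHExt
import Groth.Agent.FormalFib6.Cplt

set_option autoImplicit false
universe u
open Hensel

namespace Groth.Agent.S16578

/-- Let A be a Noetherian local ring with completion Â at its maximal ideal, S' a strict henselization
of A, T' a strict henselization of Â, and p a prime ideal of A. Say that a prime p of a Noetherian
local ring with strict henselization S is an immediate étale generization of the closed point when
some minimal prime P over pS has dim S/P = 1. Then p is an immediate étale generization of the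
closed point of A if and only if some minimal prime q over pÂ (a maximal point of the fibre over p
of Spec Â → Spec A) is an immediate étale generization of the closed point of Â. -/
theorem result
    (A : Type u) [CommRing A] [IsNoetherianRing A] [IsLocalRing A]
    (S' : Type u) [CommRing S'] [IsLocalRing S'] [Algebra A S'] [IsLocalHom (algebraMap A S')]
    [Hensel.IsStrictHenselization A S']
    (T' : Type u) [CommRing T'] [IsLocalRing T'] [Algebra (AdicCompletion (IsLocalRing.maximalIdeal A) A) T'] [IsLocalHom (algebraMap (AdicCompletion (IsLocalRing.maximalIdeal A) A) T')]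
    [Hensel.IsStrictHenselization (AdicCompletion (IsLocalRing.maximalIdeal A) A) T']
    (p : Ideal A) [p.IsPrime] :
    (∃ P ∈ (p.map (algebraMap A S')).minimalPrimes, ringKrullDim (S' ⧸ P) = 1) ↔
    (∃ q ∈ (p.map (algebraMap A (AdicCompletion (IsLocalRing.maximalIdeal A) A))).minimalPrimes,
      ∃ Q ∈ (q.map (algebraMap (AdicCompletion (IsLocalRing.maximalIdeal A) A) T')).minimalPrimes, ringKrullDim (T' ⧸ Q) = 1) := by
  haveI : IsNoetherianRing (AdicCompletion (IsLocalRing.maximalIdeal A) A) :=
    Groth.Agent.FormalFib6.isNoetherianRing_adicCompletion A _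
  haveI hS : _root_.Hensel.IsStrictHenselization A S' := inferInstance
  haveI : HenselianLocalRing S' := hS.henselian
  haveI : IsNoetherianRing S' := (Groth.Agent.S0540.result A S').1 inferInstance
  haveI : IsNoetherianRing T' := (Groth.Agent.S0540.result (AdicCompletion (IsLocalRing.maximalIdeal A) A) T').1 inferInstance
  obtain ⟨g, hg, hff, hm, hres⟩ := Groth.Agent.BrnchLib.exists_sh_ext A (AdicCompletion (IsLocalRing.maximalIdeal A) A)
    (AdicCompletion.maximalIdeal_eq_map (R := A)).symm (AdicCompletion.residueField_map_bijective A) S' T'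
  letI := g.toAlgebra
  haveI : Module.Flat (AdicCompletion (IsLocalRing.maximalIdeal A) A) T' :=
    (Groth.Agent.Hensel.isHenzLike_of_isStrictHenselization (AdicCompletion (IsLocalRing.maximalIdeal A) A) T').faithfullyFlat.toFlat
  haveI := (Groth.Agent.Hensel.isHenzLike_of_isStrictHenselization A S').faithfullyFlat
  have hI : p.map (algebraMap A S') ≠ ⊤ := fun e => ‹p.IsPrime›.ne_top (by
    rw [← Ideal.comap_map_eq_self_of_faithfullyFlat (B := S') p, e, Ideal.comap_top])
  rw [Groth.Agent.BrnchLib.exists_dim_one_iff_ideal hff hm hres _ hI, Ideal.map_map,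
    RingHom.algebraMap_toAlgebra, hg, ← Ideal.map_map]
  constructor
  · rintro ⟨Q, hQ', h⟩
    obtain ⟨q, hq, hQ⟩ := (Groth.Agent.BrnchLib.mem_minimalPrimes_map_iff_exists _ Q).1 hQ'
    exact ⟨q, hq, Q, hQ, h⟩
  · rintro ⟨q, hq, Q, hQ, h⟩
    exact ⟨Q, (Groth.Agent.BrnchLib.mem_minimalPrimes_map_iff_exists _ Q).2 ⟨q, hq, hQ⟩, h⟩

end Groth.Agent.S16578
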