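import Groth.Statements.S1658
import Groth.Agent.Big.SectionDivisorGen
import Groth.Agent.H23.SectionFinset
import Groth.Agent.Pencil.Restrict
import Groth.Agent.AssPtX.Basic
-- import your own Groth.Agent.* helpers here

set_option autoImplicit false
universe u
open CategoryTheory CategoryTheory.Limits AlgebraicGeometry
open Divisors

namespace Groth.Agent.S1658

/-- Let X be Noetherian with an ample invertible module and N any invertible O_X-module. For every
finite set E of points of X there are effective Cartier divisors D and D', whose supports miss E,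
with N ⊗ I_D ≅ I_{D'} (that is, N ≅ O_X(D) ⊗ O_X(D')^{-1}), where I_D, I_{D'} are the ideal sheaves
as O_X-modules. -/
theorem result (X : Scheme.{u}) [IsNoetherian X] (L : X.Modules) (hL : CohB1.IsAmple L)
    (N : X.Modules) (hN : PicF.IsInvertible N) (E : Set X) (hE : E.Finite) :
    ∃ D D' : X.IdealSheafData, BlowUp.IsEffCartierIdeal D ∧ BlowUp.IsEffCartierIdeal D' ∧
      Disjoint E (D.support : Set X) ∧ Disjoint E (D'.support : Set X) ∧
      Nonempty (CohB1.tensorMod N (ClSub.idealMod D) ≅ ClSub.idealMod D') := by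
  classical
  haveI : X.IsSeparated := Groth.Agent.AmpleX.isSeparated_of_isAmple hL
  set Z := E ∪ {x : X | x ∈ (⊤ : X.Opens) ∧ Curv2.IsAssPoint (Coh.structureModule X) x} with hZdef
  have hZ : Z.Finite := hE.union (Groth.Agent.AssPtX.finite_assPoints QCoh.isCoh_structureModule' (U := ⊤) isCompact_univ)
  obtain ⟨n₁, h₁⟩ := Groth.Agent.H23.SectionFinset.eventually_exists_section hL (CurveDeg.isInvertible_structureModule (X := X)) hZ
  obtain ⟨n₂, h₂⟩ := Groth.Agent.H23.SectionFinset.eventually_exists_section hL hN hZ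
  obtain ⟨s, hs⟩ := h₁ (max n₁ n₂) (le_max_left _ _)
  obtain ⟨t, ht⟩ := h₂ (max n₁ n₂) (le_max_right _ _)
  have hA := InvX.isInvertible_tensorMod (CurveDeg.isInvertible_structureModule (X := X)) (InvX.isInvertible_tensorPow hL.1 (max n₁ n₂))
  have hB := InvX.isInvertible_tensorMod hN (InvX.isInvertible_tensorPow hL.1 (max n₁ n₂))
  have hmem : ∀ z : X, Curv2.IsWeakAssPoint (Coh.structureModule X) z → z ∈ Z :=
    fun z hz => Or.inr ⟨trivial, Groth.Agent.AssPtX.isAssPoint_iff.2 hz⟩
  obtain ⟨hD, eD⟩ := Groth.Agent.Big.zeroScheme_divisor' hA s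
    (Groth.Agent.Big.exists_regular_coord hA s fun z hz => hs (hmem z hz))
  obtain ⟨hD', eD'⟩ := Groth.Agent.Big.zeroScheme_divisor' hB t
    (Groth.Agent.Big.exists_regular_coord hB t fun z hz => ht (hmem z hz))
  refine ⟨_, _, hD', hD, ?_, ?_, ?_⟩
  · refine Set.disjoint_left.2 fun x hx hx' => ?_
    have h1 := ht (show x ∈ Z from Or.inl hx)
    rw [← Scheme.IdealSheafData.range_subschemeι, Groth.Agent.Pencil.range_zeroScheme hB t] at hx'
    exact hx' h1
  · refine Set.disjoint_left.2 fun x hx hx' => ?_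
    have h1 := hs (show x ∈ Z from Or.inl hx)
    rw [← Scheme.IdealSheafData.range_subschemeι, Groth.Agent.Pencil.range_zeroScheme hA s] at hx'
    exact hx' h1
  · refine H23.PicMul.cl_eq_iff.1 ?_
    letI := H23.PicMul.clMonoid X
    rw [H23.PicMul.cl_tensor, ← H23.PicMul.one_def, _root_.one_mul] at eD
    rw [H23.PicMul.cl_tensor] at eD'
    rw [H23.PicMul.cl_tensor]
    calc PicF.cl N * PicF.cl (ClSub.idealMod (PicF2.zeroScheme _ t))
        = PicF.cl N * PicF.cl (ClSub.idealMod (PicF2.zeroScheme _ t)) *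
            (PicF.cl (CohB1.tensorPow L (max n₁ n₂)) * PicF.cl (ClSub.idealMod (PicF2.zeroScheme _ s))) := by
          rw [eD, _root_.mul_one]
      _ = (PicF.cl N * PicF.cl (CohB1.tensorPow L (max n₁ n₂)) * PicF.cl (ClSub.idealMod (PicF2.zeroScheme _ t))) *
            PicF.cl (ClSub.idealMod (PicF2.zeroScheme _ s)) := by ac_rfl
      _ = _ := by rw [eD', _root_.one_mul]

end Groth.Agent.S1658
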