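import Groth.Statements.S16614
import Groth.Agent.S16611
import Groth.Agent.Deform.TorusAlg

set_option autoImplicit false
open CategoryTheory MonoidalCategory CartesianMonoidalCategory MonObj GrpObj AlgebraicGeometry
universe u
open SGA3x

namespace Groth.Agent.S16614
open GrpSchLib.AffineHopf

attribute [local instance] CategoryTheory.Hom.monoid CategoryTheory.Hom.group
set_option linter.style.haveILetI false

theorem split_bc {S U : Scheme.{u}} (g : U ⟶ S) (r : ℕ) {T : Over S} [GrpObj T]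
    (h : Red.IsSplitTorusWith (Fin r → ℤ) T) : Red.IsSplitTorusWith (Fin r → ℤ) (Red.bc g T) := by
  obtain ⟨e⟩ := h
  obtain ⟨a⟩ := GrpSchLib.MultTypeBC.bc_iso g e
  obtain ⟨b⟩ := GrpSchLib.MultTypeBC.bc_DS g (Fin r → ℤ)
  exact ⟨a ≪≫ b⟩

theorem eq_of_rank_zero {S : Scheme.{u}} (X : Over S) (a b : X ⟶ Red.DS S (Fin 0 → ℤ)) : a = b := by
  haveI : IsIso (Red.DS S (Fin 0 → ℤ)).hom := by
    refine MorphismProperty.pullback_snd (P := MorphismProperty.isomorphisms Scheme.{u}) _ _ ?_
    show IsIso (Spec.map (CommRingCat.ofHom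
      (algebraMap (ULift.{u} ℤ) (MonoidAlgebra (ULift.{u} ℤ) (Multiplicative (Fin 0 → ℤ))))))
    haveI : IsIso (CommRingCat.ofHom
        (algebraMap (ULift.{u} ℤ) (MonoidAlgebra (ULift.{u} ℤ) (Multiplicative (Fin 0 → ℤ))))) :=
      (ConcreteCategory.isIso_iff_bijective _).2
        (MonoidAlgebra.uniqueAlgEquiv (ULift.{u} ℤ) (Multiplicative (Fin 0 → ℤ))).symm.bijective
    infer_instance
  refine Over.OverMorphism.ext ?_
  rw [← cancel_mono (Red.DS S (Fin 0 → ℤ)).hom, Over.w a, Over.w b]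

/-- The rank of a torus embedded in a diagonalisable group is at most the rank of the character group. -/
theorem rank_le {K : Type u} [Field K] {M : Type u} [CommGroup M] [Group.FG M] (r : ℕ)
    (g : sp K (MonoidAlgebra K (Multiplicative (Fin r → ℤ))) ⟶ sp K (MonoidAlgebra K M))
    [IsMonHom g] [IsClosedImmersion g.left] : r ≤ Module.finrank ℤ (Additive M) := by
  obtain ⟨F, rfl⟩ := exists_bialgHom g
  have hF : Function.Surjective F := by
    haveI : IsAffine (sp K (MonoidAlgebra K M)).left := isAffine_Spec _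
    have h := (IsClosedImmersion.isAffine_surjective_of_isAffine
      (spMap (F : MonoidAlgebra K M →ₐ[K] MonoidAlgebra K (Multiplicative (Fin r → ℤ)))).left).2
    intro y
    obtain ⟨z, hz⟩ := h ((Scheme.ΓSpecIso (CommRingCat.of (MonoidAlgebra K (Multiplicative (Fin r → ℤ))))).inv y)
    obtain ⟨w, rfl⟩ := (ConcreteCategory.bijective_of_isIso
      (Scheme.ΓSpecIso (CommRingCat.of (MonoidAlgebra K M))).inv).2 z
    refine ⟨w, (ConcreteCategory.bijective_of_isIso
      (Scheme.ΓSpecIso (CommRingCat.of (MonoidAlgebra K (Multiplicative (Fin r → ℤ))))).inv).1 ?_⟩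
    rw [← hz]
    exact (congrArg (fun m => m w) (congrArg CommRingCat.Hom.hom (Scheme.ΓSpecIso_inv_naturality
      (CommRingCat.ofHom (F : MonoidAlgebra K M →ₐ[K] MonoidAlgebra K (Multiplicative (Fin r → ℤ))).toRingHom))) :)
  let f : M →* Multiplicative (Fin r → ℤ) := MonoidAlgebra.mapDomainOfBialgHom F
  have hf : Function.Surjective f := fun n => by
    by_contra hn
    push Not at hn
    obtain ⟨p, hp⟩ := hF (MonoidAlgebra.single n 1)
    have key : ∀ q : MonoidAlgebra K M, (F q).coeff n = 0 := fun q => by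
      induction q using MonoidAlgebra.induction_linear with
      | zero => simp
      | single m c =>
        rw [← _root_.mul_one c, ← smul_eq_mul, ← MonoidAlgebra.smul_single, map_smul]
        have h1 : F (MonoidAlgebra.single m 1) = MonoidAlgebra.single (f m) 1 :=
          (MonoidAlgebra.single_mapDomainOfBialgHom F m 1).symm
        rw [h1]
        simp [hn m]
      | add x y hx hy => simp [map_add, hx, hy]
    have := key p
    rw [hp] at this
    simp at this
  haveI : Module.Finite ℤ (Additive M) := Module.Finite.iff_addGroup_fg.2 inferInstance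
  let fl : Additive M →ₗ[ℤ] (Fin r → ℤ) := (MonoidHom.toAdditiveLeft f).toIntLinearMap
  have := LinearMap.finrank_le_finrank_of_surjective (f := fl) (fun n => by
    obtain ⟨m, hm⟩ := hf (Multiplicative.ofAdd n)
    exact ⟨Additive.ofMul m, congrArg Multiplicative.toAdd hm⟩)
  simpa using this

/-- Split subtori of a group with diagonalisable geometric fibre have bounded rank. -/
theorem le_of_geom {S : Scheme.{u}} (s : S) {G : Over S} [GrpObj G] {M : Type u} [CommGroup M] [Group.FG M]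
    (e : Grp.mk (sp (AlgebraicClosure (S.residueField s)) (MonoidAlgebra (AlgebraicClosure (S.residueField s)) M)) ≅
      Grp.mk (Red.geomFibre s G))
    (r : ℕ) (T : Over S) [GrpObj T] (j : T ⟶ G) (hj : IsMonHom j) (hm : Mono j)
    (hT : Red.IsSplitTorusWith (Fin r → ℤ) T) : r ≤ Module.finrank ℤ (Additive M) := by
  let K := AlgebraicClosure (S.residueField s)
  obtain ⟨a⟩ := split_bc (Red.geomPt s) r hT
  obtain ⟨b⟩ := nonempty_DS_iso K (Fin r → ℤ)
  let c : Grp.mk (sp K (MonoidAlgebra K (Multiplicative (Fin r → ℤ)))) ≅ Grp.mk (Red.geomFibre s T) := b ≪≫ a.symm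
  haveI := hj
  haveI := hm
  let j' : Red.geomFibre s T ⟶ Red.geomFibre s G := (Over.pullback (Red.geomPt s)).map j
  haveI : IsMonHom j' := inferInstanceAs (IsMonHom ((Over.pullback (Red.geomPt s)).map j))
  haveI : Mono j' := inferInstanceAs (Mono ((Over.pullback (Red.geomPt s)).map j))
  let g : sp K (MonoidAlgebra K (Multiplicative (Fin r → ℤ))) ⟶ sp K (MonoidAlgebra K M) :=
    c.hom.hom.hom ≫ j' ≫ e.inv.hom.hom
  haveI : IsIso c.hom.hom.hom := ((Grp.forget _).mapIso c).isIso_hom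
  haveI : IsIso e.inv.hom.hom := ((Grp.forget _).mapIso e.symm).isIso_hom
  haveI : IsMonHom c.hom.hom.hom := c.hom.hom.isMonHom_hom
  haveI : IsMonHom e.inv.hom.hom := e.inv.hom.isMonHom_hom
  haveI : IsMonHom g := inferInstanceAs (IsMonHom (c.hom.hom.hom ≫ j' ≫ e.inv.hom.hom))
  haveI : Mono g := inferInstanceAs (Mono (c.hom.hom.hom ≫ j' ≫ e.inv.hom.hom))
  have hH : SGA3x.IsMultTypeFT (sp K (MonoidAlgebra K (Multiplicative (Fin r → ℤ)))) :=
    Deform.isMultTypeFT_of_isTorus (Deform.isTorus_of_split r ⟨b⟩)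
  haveI : IsAffine (sp K (MonoidAlgebra K M)).left := isAffine_Spec _
  haveI : IsAffineHom (sp K (MonoidAlgebra K M)).hom := isAffineHom_of_isAffine _
  haveI := Deform.isClosedImmersion_of_mono (Deform.isMultType_of_ft hH) g
  exact rank_le r g

theorem exists_bound {S : Scheme.{u}} (s : S) {G : Over S} [GrpObj G] (hG : SGA3x.IsMultTypeFT G) :
    ∃ B : ℕ, ∀ (r : ℕ) (T : Over S) [GrpObj T] (j : T ⟶ G), IsMonHom j → Mono j →
      Red.IsSplitTorusWith (Fin r → ℤ) T → r ≤ B := by
  obtain ⟨M, _, hfg, ⟨e⟩⟩ := Deform.exists_diag (Red.geomFibre s G)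
    (GrpSchLib.MultTypeBC.isMultTypeFT_bc (Red.geomPt s) hG)
  exact ⟨_, fun r T _ j hj hm hT => le_of_geom s e r T j hj hm hT⟩

theorem le_rank {S : Scheme.{u}} (s : S) (r : ℕ) {T : Over S} [GrpObj T]
    (hT : Red.IsSplitTorusWith (Fin r → ℤ) T) (r₁ : ℕ) (T₁ : Over S) [GrpObj T₁] (j : T₁ ⟶ T) [IsMonHom j] [Mono j]
    (hT₁ : Red.IsSplitTorusWith (Fin r₁ → ℤ) T₁) : r₁ ≤ r := by
  let K := AlgebraicClosure (S.residueField s)
  obtain ⟨a⟩ := split_bc (Red.geomPt s) r hT
  obtain ⟨b⟩ := nonempty_DS_iso K (Fin r → ℤ)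
  haveI : Group.FG (ULift.{u} (Multiplicative (Fin r → ℤ))) := by
    haveI : AddGroup.FG (Fin r → ℤ) := Module.Finite.iff_addGroup_fg.mp inferInstance
    exact Group.fg_of_surjective (f := (MulEquiv.ulift (α := Multiplicative (Fin r → ℤ))).symm.toMonoidHom)
      (MulEquiv.surjective _)
  have h := le_of_geom s (spIso (Deform.uliftEquiv K (Multiplicative (Fin r → ℤ))) ≪≫ b ≪≫ a.symm)
    r₁ T₁ j inferInstance inferInstance hT₁
  let l : Additive (ULift.{u} (Multiplicative (Fin r → ℤ))) ≃+ (Fin r → ℤ) :=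
    MulEquiv.toAdditiveLeft MulEquiv.ulift
  rwa [l.toIntLinearEquiv.finrank_eq, Module.finrank_fin_fun] at h

theorem isMonHom_one {S : Scheme.{u}} {X Y : Over S} [GrpObj X] [GrpObj Y] : IsMonHom (1 : X ⟶ Y) where
  one_hom := by rw [MonObj.comp_one, MonObj.one_eq_one]
  mul_hom := by
    rw [MonObj.comp_one, MonObj.mul_eq_mul, MonObj.comp_mul, tensorHom_fst, tensorHom_snd, MonObj.comp_one,
      MonObj.comp_one, _root_.one_mul]

/-- Over an arbitrary scheme S, an S-group G of finite multiplicative type admits a maximal split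
subtorus: a monomorphism T ⟶ G from a split torus T ≅ D_S(ℤ^r) which is maximal among split subtori
(if T factors through a split subtorus T' ⟶ G then the factoring morphism is an isomorphism). -/
theorem result {S : Scheme.{u}} {G : Over S} [GrpObj G]
    (hG : SGA3x.IsMultTypeFT G) :
    ∃ (T : Over S) (_ : GrpObj T) (j : T ⟶ G) (r : ℕ), IsMonHom j ∧ Mono j ∧ Red.IsSplitTorusWith (Fin r → ℤ) T ∧
      ∀ (T' : Over S) [GrpObj T'] (j' : T' ⟶ G) [IsMonHom j'] [Mono j'] (r' : ℕ) (g : T ⟶ T'),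
        Red.IsSplitTorusWith (Fin r' → ℤ) T' → g ≫ j' = j → IsIso g := by
  classical
  by_cases hS : Nonempty S
  · obtain ⟨s⟩ := hS
    let P : ℕ → Prop := fun r => ∃ (T : Over S) (_ : GrpObj T) (j : T ⟶ G),
      IsMonHom j ∧ Mono j ∧ Red.IsSplitTorusWith (Fin r → ℤ) T
    obtain ⟨B, hB⟩ := exists_bound s hG
    have hP0 : P 0 := by
      haveI hall : ∀ (X : Over S) (a b : X ⟶ Red.DS S (Fin 0 → ℤ)), a = b := eq_of_rank_zero
      haveI : Mono (1 : Red.DS S (Fin 0 → ℤ) ⟶ G) := ⟨fun a b _ => hall _ a b⟩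
      exact ⟨Red.DS S (Fin 0 → ℤ), inferInstance, 1, isMonHom_one, inferInstance, ⟨Iso.refl _⟩⟩
    have hle : ∀ r, P r → r ≤ B := fun r ⟨T, _, j, hj, hm, hT⟩ => hB r T j hj hm hT
    obtain ⟨T, hT, j, hj, hm, hsp⟩ := Nat.findGreatest_spec (P := P) (Nat.zero_le B) hP0
    refine ⟨T, hT, j, Nat.findGreatest P B, hj, hm, hsp, ?_⟩
    intro T' _ j' hj' hm' r' g hsp' hg
    have h1 : r' ≤ Nat.findGreatest P B :=
      Nat.le_findGreatest (hle r' ⟨T', ‹_›, j', hj', hm', hsp'⟩) ⟨T', ‹_›, j', hj', hm', hsp'⟩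
    haveI := hj
    haveI := hm
    haveI : Mono g := mono_of_mono_fac hg
    haveI : IsMonHom g := Deform.isMonHom_of_comp g j' hg
    have h2 := le_rank s r' hsp' _ T g hsp
    have hr : Nat.findGreatest P B = r' := le_antisymm h2 h1
    refine S16611.result (Deform.isTorus_of_split _ hsp) (Deform.isTorus_of_split _ hsp') g
      fun t => ⟨r', ?_, split_bc _ r' hsp'⟩
    rw [← hr]
    exact split_bc _ _ hsp
  · haveI : Mono (1 : Red.DS S (Fin 0 → ℤ) ⟶ G) := ⟨fun a b _ => eq_of_rank_zero _ a b⟩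
    refine ⟨Red.DS S (Fin 0 → ℤ), inferInstance, 1, 0, isMonHom_one, inferInstance, ⟨Iso.refl _⟩, ?_⟩
    intro T' _ j' _ _ r' g _ _
    haveI : IsEmpty S := not_nonempty_iff.1 hS
    haveI : IsEmpty T'.left := Function.isEmpty T'.hom
    haveI : IsIso g.left := inferInstance
    haveI : IsIso ((Over.forget S).map g) := ‹IsIso g.left›
    exact isIso_of_reflects_iso g (Over.forget S)

end Groth.Agent.S16614
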