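import Groth.Statements.S16612
import Groth.Agent.Deform.SplitQuot
import Groth.Agent.S16614
import Groth.Agent.GrpSchLib.MultTypeComm

set_option autoImplicit false
open CategoryTheory MonoidalCategory CartesianMonoidalCategory MonObj GrpObj AlgebraicGeometry
universe u
open SGA3x

namespace Groth.Agent.S16612
set_option linter.style.haveILetI false
open Groth.Agent.Deform
attribute [local instance] CategoryTheory.Hom.monoid CategoryTheory.Hom.group

theorem isMonHom_mul {S : Scheme.{u}} {X G : Over S} [GrpObj X] [GrpObj G] (hG : SGA3x.IsMultTypeFT G) (a b : X ⟶ G)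
    [IsMonHom a] [IsMonHom b] : IsMonHom (a * b) where
  one_hom := by
    rw [MonObj.comp_mul, IsMonHom.one_hom, IsMonHom.one_hom]
    simp [Hom.one_def, toUnit_unique (toUnit (𝟙_ (Over S))) (𝟙 _)]
  mul_hom := by
    rw [MonObj.mul_eq_mul (M := G), MonObj.comp_mul, MonObj.comp_mul, tensorHom_fst, tensorHom_snd, MonObj.comp_mul,
      MonObj.comp_mul, MonObj.mul_eq_mul (M := X), MonObj.mul_comp, MonObj.mul_comp]
    have h := GrpSchLib.MultTypeComm.points_comm hG (snd X X ≫ a) (fst X X ≫ b)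
    rw [_root_.mul_assoc, _root_.mul_assoc, ← _root_.mul_assoc (snd X X ≫ a), h, _root_.mul_assoc]

theorem exists_upper {S : Scheme.{u}} [ConnectedSpace ↥S] {G : Over S} [GrpObj G] (hG : SGA3x.IsMultTypeFT G)
    {T T' : Over S} [GrpObj T] [GrpObj T'] (j : T ⟶ G) [IsMonHom j] (j' : T' ⟶ G) [IsMonHom j'] {r r' : ℕ}
    (hT : Red.IsSplitTorusWith (Fin r → ℤ) T) (hT' : Red.IsSplitTorusWith (Fin r' → ℤ) T') :
    ∃ (E : Over S) (_ : GrpObj E) (ψ : E ⟶ G) (_ : IsMonHom ψ) (_ : Mono ψ) (n : ℕ) (g : T ⟶ E) (g' : T' ⟶ E),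
      Red.IsSplitTorusWith (Fin n → ℤ) E ∧ g ≫ ψ = j ∧ g' ≫ ψ = j' := by
  obtain ⟨e⟩ := hT
  obtain ⟨e'⟩ := hT'
  haveI : AddGroup.FG ((Fin r → ℤ) × (Fin r' → ℤ)) := Module.Finite.iff_addGroup_fg.mp inferInstance
  haveI : IsMonHom e.inv.hom.hom := e.inv.hom.isMonHom_hom
  haveI : IsMonHom e'.inv.hom.hom := e'.inv.hom.isMonHom_hom
  let a : Red.DS S ((Fin r → ℤ) × (Fin r' → ℤ)) ⟶ G :=
    Red.DSmap S (AddMonoidHom.inl (Fin r → ℤ) (Fin r' → ℤ)) ≫ e.inv.hom.hom ≫ j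
  let b : Red.DS S ((Fin r → ℤ) × (Fin r' → ℤ)) ⟶ G :=
    Red.DSmap S (AddMonoidHom.inr (Fin r → ℤ) (Fin r' → ℤ)) ≫ e'.inv.hom.hom ≫ j'
  haveI : IsMonHom a := inferInstanceAs (IsMonHom (Red.DSmap S _ ≫ e.inv.hom.hom ≫ j))
  haveI : IsMonHom b := inferInstanceAs (IsMonHom (Red.DSmap S _ ≫ e'.inv.hom.hom ≫ j'))
  haveI := isMonHom_mul hG a b
  obtain ⟨A, ψ, hψm, hψ, hfac⟩ := SplitQuot.exists_image hG (a * b)
  obtain ⟨n, ⟨bA⟩⟩ : ∃ n : ℕ, Nonempty (A ≃+ (Fin n → ℤ)) := by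
    let W := A.toIntSubmodule
    obtain ⟨n, bb⟩ := Submodule.basisOfPid ((Pi.basisFun ℤ (Fin r)).prod (Pi.basisFun ℤ (Fin r'))) W
    exact ⟨n, ⟨bb.equivFun.toAddEquiv⟩⟩
  have hh : ∀ {M N P : Type} [AddCommGroup M] [AddCommGroup N] [AddCommGroup P] (φ : M →+ N) (χ : N →+ P) {Z : Over S}
      (h : Red.DS S M ⟶ Z), Red.DSmap S χ ≫ Red.DSmap S φ ≫ h = Red.DSmap S (χ.comp φ) ≫ h :=
    fun φ χ _ h => by rw [← Category.assoc, DiagMaps.DSmap_comp]
  refine ⟨_, inferInstance, ψ, hψm, hψ, n,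
    e.hom.hom.hom ≫ Red.DSmap S (AddMonoidHom.fst _ _) ≫ Red.DSmap S A.subtype,
    e'.hom.hom.hom ≫ Red.DSmap S (AddMonoidHom.snd _ _) ≫ Red.DSmap S A.subtype, ?_, ?_, ?_⟩
  · exact SplitQuot.nonempty_DS_congr bA.symm
  · rw [Category.assoc, Category.assoc, hfac, MonObj.comp_mul, MonObj.comp_mul]
    simp only [a, b]
    rw [hh, hh, AddMonoidHom.fst_comp_inl, DiagMaps.DSmap_id, AddMonoidHom.fst_comp_inr, DiagMaps.DSmap_zero]
    have h1 : e.hom.hom.hom ≫ e.inv.hom.hom = 𝟙 T := congrArg (fun m => m.hom.hom) e.hom_inv_id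
    simp [reassoc_of% h1, MonObj.comp_one, MonObj.one_comp]
  · rw [Category.assoc, Category.assoc, hfac, MonObj.comp_mul, MonObj.comp_mul]
    simp only [a, b]
    rw [hh, hh, AddMonoidHom.snd_comp_inl, DiagMaps.DSmap_zero, AddMonoidHom.snd_comp_inr, DiagMaps.DSmap_id]
    have h1 : e'.hom.hom.hom ≫ e'.inv.hom.hom = 𝟙 T' := congrArg (fun m => m.hom.hom) e'.hom_inv_id
    simp [reassoc_of% h1, MonObj.comp_one, MonObj.one_comp]

/-- Let S be a connected scheme and G an S-group of finite multiplicative type. Then G admits a unique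
maximal split subtorus; equivalently, since split subtori form a directed family, a greatest one: a
monomorphism T ⟶ G from a split torus T ≅ D_S(ℤ^r) through which every split subtorus T' ⟶ G of G
factors. -/
theorem result {S : Scheme.{u}} [ConnectedSpace ↥S]
    {G : Over S} [GrpObj G] (hG : SGA3x.IsMultTypeFT G) :
    ∃ (T : Over S) (_ : GrpObj T) (j : T ⟶ G) (r : ℕ), IsMonHom j ∧ Mono j ∧ Red.IsSplitTorusWith (Fin r → ℤ) T ∧
      ∀ (T' : Over S) [GrpObj T'] (j' : T' ⟶ G) [IsMonHom j'] [Mono j'] (r' : ℕ),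
        Red.IsSplitTorusWith (Fin r' → ℤ) T' → ∃ g : T' ⟶ T, g ≫ j = j' := by
  obtain ⟨T, _, j, r, hj, hm, hT, hmax⟩ := S16614.result hG
  refine ⟨T, inferInstance, j, r, hj, hm, hT, fun T' _ j' _ _ r' hT' => ?_⟩
  haveI := hj
  obtain ⟨E, _, ψ, _, _, n, g, g', hE, hg, hg'⟩ := exists_upper hG j j' hT hT'
  haveI := hmax E ψ n g hE hg
  exact ⟨g' ≫ inv g, by rw [Category.assoc, ← hg, IsIso.inv_hom_id_assoc, hg']⟩

end Groth.Agent.S16612
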