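import Groth.Statements.S16613
import Groth.Agent.Deform.SubtorusJoin
import Groth.Agent.S16614

set_option autoImplicit false
open CategoryTheory MonoidalCategory CartesianMonoidalCategory MonObj GrpObj AlgebraicGeometry
universe u
open SGA3x

namespace Groth.Agent.S16613
set_option linter.style.haveILetI false
open Groth.Agent.Deform
attribute [local instance] CategoryTheory.Hom.monoid CategoryTheory.Hom.group

/-- The rank at a point. -/
abbrev HasRank {S : Scheme.{u}} (T : Over S) [GrpObj T] (s : S) (n : ℕ) : Prop :=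
  Red.IsSplitTorusWith (Fin n → ℤ) (Red.geomFibre s T)

theorem locSplit_of_split {S : Scheme.{u}} {T : Over S} [GrpObj T] {r : ℕ}
    (h : Red.IsSplitTorusWith (Fin r → ℤ) T) : SubtorusJoin.IsLocSplit T :=
  fun _ => ⟨⊤, trivial, r, S16614.split_bc _ r h⟩

theorem isTorus_of_locSplit {S : Scheme.{u}} {T : Over S} [GrpObj T] (h : SubtorusJoin.IsLocSplit T) :
    Red.IsTorus T := by
  refine ⟨S, 𝟙 S, inferInstance, inferInstance, fun V hV => ⟨V, hV.isCompact, by simp⟩, fun s => ?_⟩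
  obtain ⟨U, hs, r, ⟨e⟩⟩ := h s
  obtain ⟨c⟩ := GrpSchLib.MultTypeBC.bc_congr (Category.comp_id U.ι) T
  exact ⟨U, hs, r, ⟨c ≪≫ e⟩⟩

theorem le_of_mono {S : Scheme.{u}} {T T' : Over S} [GrpObj T] [GrpObj T'] (g : T ⟶ T') [IsMonHom g] [Mono g]
    {s : S} {n n' : ℕ} (h : HasRank T s n) (h' : HasRank T' s n') : n ≤ n' :=
  haveI : IsMonHom ((Over.pullback (Red.geomPt s)).map g) :=
    inferInstanceAs (IsMonHom ((Over.pullback (Red.geomPt s)).map g))
  S16614.le_rank (IsLocalRing.closedPoint (AlgebraicClosure (S.residueField s))) n' h' n _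
    ((Over.pullback (Red.geomPt s)).map g) h

theorem exists_rank {S : Scheme.{u}} {T : Over S} [GrpObj T] (h : SubtorusJoin.IsLocSplit T) (s : S) :
    ∃ n, HasRank T s n :=
  Deform.exists_split _ (Deform.isTorus_bc (Red.geomPt s) (isTorus_of_locSplit h))

theorem hasRank_of_open {S : Scheme.{u}} {T : Over S} [GrpObj T] {U : S.Opens} {r : ℕ}
    (h : Red.IsSplitTorusWith (Fin r → ℤ) (Red.bc U.ι T)) {t : S} (ht : t ∈ U) : HasRank T t r := by
  obtain ⟨e⟩ := h
  let x : Spec (CommRingCat.of (AlgebraicClosure (S.residueField t))) ⟶ U :=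
    IsOpenImmersion.lift U.ι (Red.geomPt t) (by
      rw [Scheme.Opens.range_ι]
      rintro _ ⟨p, rfl⟩
      rw [Scheme.Hom.comp_apply]
      have := Scheme.range_fromSpecResidueField t
      have h' : S.fromSpecResidueField t (Spec.map (CommRingCat.ofHom (algebraMap (S.residueField t)
          (AlgebraicClosure (S.residueField t)))) p) ∈ Set.range (S.fromSpecResidueField t) := ⟨_, rfl⟩
      rw [this] at h'
      rw [Set.mem_singleton_iff] at h'
      rw [h']
      exact ht)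
  obtain ⟨a⟩ := GrpSchLib.MultTypeBC.bc_bc x U.ι T
  obtain ⟨b⟩ := GrpSchLib.MultTypeBC.bc_congr (IsOpenImmersion.lift_fac U.ι _ _ : x ≫ U.ι = Red.geomPt t) T
  obtain ⟨c⟩ := GrpSchLib.MultTypeBC.bc_iso x e
  obtain ⟨d⟩ := GrpSchLib.MultTypeBC.bc_DS x (Fin r → ℤ)
  exact ⟨(a ≪≫ b).symm ≪≫ c ≪≫ d⟩

theorem rank_const {S : Scheme.{u}} [ConnectedSpace ↥S] {T : Over S} [GrpObj T] (h : SubtorusJoin.IsLocSplit T)
    {s : S} {n : ℕ} (hs : HasRank T s n) (t : S) : HasRank T t n := by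
  have huniq : ∀ {x : S} {a b : ℕ}, HasRank T x a → HasRank T x b → a = b := fun ha hb =>
    le_antisymm (le_of_mono (𝟙 T) ha hb) (le_of_mono (𝟙 T) hb ha)
  choose f hf using exists_rank h
  have hloc : IsLocallyConstant f := (IsLocallyConstant.iff_exists_open f).2 fun x => by
    obtain ⟨U, hx, r, hr⟩ := h x
    exact ⟨U, U.2, hx, fun y hy => huniq (hf y) (by rw [huniq (hf x) (hasRank_of_open hr hx)]; exact hasRank_of_open hr hy)⟩
  have h1 := hloc.apply_eq_of_preconnectedSpace t s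
  rw [← huniq (hf s) hs, ← h1]
  exact hf t

/-- Let S be a connected scheme and G an S-group of finite multiplicative type. Then G admits a unique
maximal locally split subtorus (a monomorphism T ⟶ G with T Zariski-locally on S isomorphic to split
tori D(ℤ^r)); since locally split subtori form a directed family it is the greatest one: every
locally split subtorus of G factors through it. -/
theorem result {S : Scheme.{u}}
    [ConnectedSpace ↥S] {G : Over S} [GrpObj G] (hG : SGA3x.IsMultTypeFT G) :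
    ∃ (T : Over S) (_ : GrpObj T) (j : T ⟶ G), IsMonHom j ∧ Mono j ∧
      (∀ s : ↥S, ∃ U : S.Opens, s ∈ U ∧ ∃ r : ℕ, Red.IsSplitTorusWith (Fin r → ℤ) (Red.bc U.ι T)) ∧
      ∀ (T' : Over S) [GrpObj T'] (j' : T' ⟶ G) [IsMonHom j'] [Mono j'],
        (∀ s : ↥S, ∃ U : S.Opens, s ∈ U ∧ ∃ r : ℕ, Red.IsSplitTorusWith (Fin r → ℤ) (Red.bc U.ι T')) → ∃ g : T' ⟶ T, g ≫ j = j' := by
  classical
  obtain ⟨s₀⟩ : Nonempty S := inferInstance
  let P : ℕ → Prop := fun n => ∃ (T : Over S) (_ : GrpObj T) (j : T ⟶ G),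
    IsMonHom j ∧ Mono j ∧ SubtorusJoin.IsLocSplit T ∧ HasRank T s₀ n
  obtain ⟨b⟩ : Nonempty ↥(Spec (CommRingCat.of (AlgebraicClosure (S.residueField s₀)))) :=
    ⟨IsLocalRing.closedPoint _⟩
  obtain ⟨B, hB⟩ := S16614.exists_bound b (GrpSchLib.MultTypeBC.isMultTypeFT_bc (Red.geomPt s₀) hG)
  have hle : ∀ n, P n → n ≤ B := by
    rintro n ⟨T, _, j, hj, hm, -, hn⟩
    haveI := hj
    haveI := hm
    exact hB n (Red.geomFibre s₀ T) ((Over.pullback (Red.geomPt s₀)).map j)
      (inferInstanceAs (IsMonHom ((Over.pullback (Red.geomPt s₀)).map j))) inferInstance hn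
  have hP0 : P 0 := by
    haveI : Mono (1 : Red.DS S (Fin 0 → ℤ) ⟶ G) := ⟨fun a b _ => S16614.eq_of_rank_zero _ a b⟩
    exact ⟨Red.DS S (Fin 0 → ℤ), inferInstance, 1, S16614.isMonHom_one, inferInstance,
      locSplit_of_split ⟨Iso.refl _⟩, S16614.split_bc _ 0 ⟨Iso.refl _⟩⟩
  obtain ⟨T, _, j, hj, hm, hsp, hn⟩ := Nat.findGreatest_spec (P := P) (Nat.zero_le B) hP0
  refine ⟨T, inferInstance, j, hj, hm, hsp, fun T' _ j' _ _ hsp' => ?_⟩
  haveI := hj
  haveI := hm
  obtain ⟨E, _, ψ, g, g', hψ, hψm, hspE, hg, hg'⟩ := SubtorusJoin.exists_join hG j j' hsp hsp'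
  haveI := hψ
  haveI := hψm
  haveI : Mono g := mono_of_mono_fac hg
  haveI : IsMonHom g := Deform.isMonHom_of_comp g ψ hg
  obtain ⟨m, hm'⟩ := exists_rank hspE s₀
  have h1 : Nat.findGreatest P B ≤ m := le_of_mono g hn hm'
  have h2 : m ≤ Nat.findGreatest P B :=
    Nat.le_findGreatest (hle m ⟨E, _, ψ, hψ, hψm, hspE, hm'⟩) ⟨E, _, ψ, hψ, hψm, hspE, hm'⟩
  haveI : IsIso g := S16611.result (isTorus_of_locSplit hsp) (isTorus_of_locSplit hspE) g fun t =>
    ⟨_, rank_const hsp hn t, rank_const hspE (by rw [le_antisymm h1 h2]; exact hm') t⟩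
  exact ⟨g' ≫ inv g, by rw [Category.assoc, ← hg, IsIso.inv_hom_id_assoc, hg']⟩

end Groth.Agent.S16613
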