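import Groth.Statements.S16615
import Groth.Agent.Deform.SplitQuot

set_option autoImplicit false
open CategoryTheory MonoidalCategory CartesianMonoidalCategory MonObj GrpObj AlgebraicGeometry
universe u
open SGA3x

namespace Groth.Agent.S16615
set_option linter.style.haveILetI false
open Groth.Agent.Deform
attribute [local instance] CategoryTheory.Hom.monoid CategoryTheory.Hom.group

/-- Over an arbitrary scheme S, the quotient Q = T/H of an S-torus T by a subgroup scheme H of (finite)
multiplicative type, when represented by an S-group Q with a homomorphism q : T ⟶ Q which is an fppf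
covering identifying T ×_S H with T ×_Q T, is again a torus. -/
theorem result {S : Scheme.{u}} {T H Q : Over S} [GrpObj T] [GrpObj H]
    [GrpObj Q] (hT : Red.IsTorus T) (i : H ⟶ T) [IsMonHom i] [Mono i] (hH : SGA3x.IsMultTypeFT H)
    (q : T ⟶ Q) [IsMonHom q] (hq : RedSub.IsQuotient i q) : Red.IsTorus Q := by
  obtain ⟨S', f, hflat, hsurj, hcov, hloc⟩ := hT
  refine ⟨S', f, hflat, hsurj, hcov, fun s => ?_⟩
  obtain ⟨U, hs, r, ⟨e⟩⟩ := hloc s
  obtain ⟨eb⟩ := GrpSchLib.MultTypeBC.bc_bc U.ι f T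
  obtain ⟨W, r', hW, ⟨eW⟩⟩ := SplitQuot.exists_splitTorus_open (S := S') U (⟨eb ≪≫ e⟩ :
      Red.IsSplitTorusWith (Fin r → ℤ) (Red.bc U.ι (Red.bc f T)))
    ((Over.pullback f).map i) (GrpSchLib.MultTypeBC.isMultTypeFT_bc f hH) ((Over.pullback f).map q)
    ((SplitQuot.pres_of_isQuotient i q hq).bc f) s hs
  obtain ⟨eb'⟩ := GrpSchLib.MultTypeBC.bc_bc W.ι f Q
  exact ⟨W, hW, r', ⟨eb'.symm ≪≫ eW⟩⟩

end Groth.Agent.S16615
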