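import Groth.Statements.S16638
import Groth.Agent.SplitGrp.Psi

set_option autoImplicit false
open CategoryTheory MonoidalCategory CartesianMonoidalCategory MonObj GrpObj AlgebraicGeometry
universe u
open RedSub

namespace Groth.Agent.S16638

/-- Let G be a reductive group scheme over a scheme S with a splitting D, and let Ψ be a closed set of
roots (a, b ∈ Ψ with a + b a root forces a + b ∈ Ψ) containing no pair of opposite roots. Then the
root groups U_a, a ∈ Ψ, directly span, in any order, one and the same closed subgroup scheme U_Ψ of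
G: U_Ψ is smooth over S with connected geometric fibres containing no non-trivial subtorus, it is
normalised by the torus of the splitting, and for every enumeration of Ψ the ordered product of the
root homomorphisms is an isomorphism from a power of the additive group onto U_Ψ. -/
theorem result {S : Scheme.{u}} {G : Over S} [GrpObj G]
    (D : Red.SplitRed G) (Ψ : Set D.idx)
    (hcl : ∀ a b c : D.idx, a ∈ Ψ → b ∈ Ψ → D.P.root a + D.P.root b = D.P.root c → c ∈ Ψ)
    (hneg : ∀ a b : D.idx, a ∈ Ψ → D.P.root b = -D.P.root a → b ∉ Ψ) :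
    ∃ (U : Over S) (_ : GrpObj U) (v : U ⟶ G), IsMonHom v ∧ IsClosedImmersion v.left ∧ Smooth U.hom ∧
      (∀ s : S, ConnectedSpace (Red.geomFibre s U).left ∧
        Red.HasNoSubtorus (AlgebraicClosure (S.residueField s)) (Red.geomFibre s U)) ∧
      (∀ (X : Over S) (t : X ⟶ D.T) (x : X ⟶ U), ∃ x' : X ⟶ U, (t ≫ D.i) * (x ≫ v) * (t ≫ D.i)⁻¹ = x' ≫ v) ∧
      ∀ {m : ℕ} (e : Fin m → D.idx), RedSub.Enumerates Ψ e →
        ∃ ψ : RedSub.pow (Red.Ga S) m ≅ U, ψ.hom ≫ v = RedSub.prodMap (Red.Ga S) m (fun k => D.u (e k)) := by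
  obtain ⟨p, a, ha⟩ := SplitGrp.exists_enum Ψ
  obtain ⟨lam, n, q, e, b, h⟩ := SplitGrp.exists_closedPos' D hcl hneg a ha
  refine ⟨SplitGrp.UObj h, inferInstance, h.incl, inferInstance, h.isClosedImmersion_incl, h.smooth,
    fun s => ⟨h.connected _, h.hasNoSubtorus _⟩, fun X t x => ?_, fun {m} e' he' => ?_⟩
  · obtain ⟨x', hx'⟩ := h.exists_conj_torus (t ≫ D.split.hom.hom.hom) x
    erw [SplitGrp.split_comp_j D t] at hx'
    exact ⟨x', hx'⟩
  · obtain ⟨lam', n', q', e'', b', h'⟩ := SplitGrp.exists_closedPos' D hcl hneg e' he'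
    obtain ⟨ψ, hψ⟩ := h.exists_iso h' (he'.2.trans ha.2.symm)
    exact ⟨ψ, hψ⟩

end Groth.Agent.S16638
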