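import Groth.Statements.S16647
import Groth.Agent.AlgSpLib.Descends2

set_option autoImplicit false
open CategoryTheory MonoidalCategory CartesianMonoidalCategory MonObj GrpObj AlgebraicGeometry
universe u
open GrpSch

namespace Groth.Agent.S16647
attribute [local instance] CategoryTheory.Hom.monoid CategoryTheory.Hom.group
set_option linter.style.haveILetI false
set_option maxHeartbeats 1000000
/-- In a commutative diagram of short exact sequences of S-group schemes that are flat, separated and of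
finite presentation over a scheme S (in each row the first homomorphism is the kernel of the second
and the second is a flat surjection), if the two outer vertical homomorphisms are closed immersions
then so is the middle one. -/
theorem result {S : Scheme.{u}}
    {H₁' H₁ H₁'' H₂' H₂ H₂'' : Over S} [GrpObj H₁'] [GrpObj H₁] [GrpObj H₁''] [GrpObj H₂'] [GrpObj H₂] [GrpObj H₂'']
    [Flat H₁'.hom] [Flat H₁.hom] [Flat H₁''.hom] [Flat H₂'.hom] [Flat H₂.hom] [Flat H₂''.hom]
    [IsSeparated H₁'.hom] [IsSeparated H₁.hom] [IsSeparated H₁''.hom]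
    [IsSeparated H₂'.hom] [IsSeparated H₂.hom] [IsSeparated H₂''.hom]
    [QuasiCompact H₁'.hom] [QuasiCompact H₁.hom] [QuasiCompact H₁''.hom]
    [QuasiCompact H₂'.hom] [QuasiCompact H₂.hom] [QuasiCompact H₂''.hom]
    [LocallyOfFinitePresentation H₁'.hom] [LocallyOfFinitePresentation H₁.hom] [LocallyOfFinitePresentation H₁''.hom]
    [LocallyOfFinitePresentation H₂'.hom] [LocallyOfFinitePresentation H₂.hom] [LocallyOfFinitePresentation H₂''.hom]
    (a₁ : H₁' ⟶ H₁) (b₁ : H₁ ⟶ H₁'') (a₂ : H₂' ⟶ H₂) (b₂ : H₂ ⟶ H₂'')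
    [IsMonHom a₁] [IsMonHom b₁] [IsMonHom a₂] [IsMonHom b₂]
    (h₁ : AlgGrp.IsKernel a₁ b₁) (hb₁ : Flat b₁.left ∧ Surjective b₁.left)
    (h₂ : AlgGrp.IsKernel a₂ b₂) (hb₂ : Flat b₂.left ∧ Surjective b₂.left)
    (j' : H₁' ⟶ H₂') (j : H₁ ⟶ H₂) (j'' : H₁'' ⟶ H₂'') [IsMonHom j'] [IsMonHom j] [IsMonHom j'']
    (sq₁ : a₁ ≫ j = j' ≫ a₂) (sq₂ : b₁ ≫ j'' = j ≫ b₂)
    (hj' : IsClosedImmersion j'.left) (hj'' : IsClosedImmersion j''.left) :
    IsClosedImmersion j.left := by
  haveI : Mono a₁ := ⟨fun a b hab => h₁.hom_ext hab (toUnit_unique _ _)⟩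
  haveI : Mono a₂ := ⟨fun a b hab => h₂.hom_ext hab (toUnit_unique _ _)⟩
  haveI := hb₁.1; haveI := hb₁.2; haveI := hj'; haveI := hj''
  have hw₁ : a₁ ≫ b₁ = 1 := h₁.w
  have hw₂ : a₂ ≫ b₂ = 1 := h₂.w
  haveI : QuasiCompact b₁.left := by
    haveI : QuasiCompact (b₁.left ≫ H₁''.hom) := by rw [Over.w b₁]; infer_instance
    exact QuasiCompact.of_comp b₁.left H₁''.hom
  let P : Over S := Over.mk (Limits.pullback.fst b₂.left j''.left ≫ H₂.hom)
  let p : P ⟶ H₂ := Over.homMk (Limits.pullback.fst b₂.left j''.left) rfl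
  let q : P ⟶ H₁'' := Over.homMk (Limits.pullback.snd b₂.left j''.left) (by
    show Limits.pullback.snd b₂.left j''.left ≫ H₁''.hom = Limits.pullback.fst b₂.left j''.left ≫ H₂.hom
    rw [← Over.w j'', ← Limits.pullback.condition_assoc, Over.w b₂])
  have hP : IsPullback p q b₂ j'' :=
    IsPullback.of_map (Over.forget S) (Over.OverMorphism.ext Limits.pullback.condition)
      (IsPullback.of_hasPullback b₂.left j''.left)
  let φ : H₁ ⟶ P := hP.lift j b₁ sq₂.symm
  let Ψ : H₂' ⊗ H₁ ⟶ P := hP.lift ((fst H₂' H₁ ≫ a₂) * (snd H₂' H₁ ≫ j)) (snd H₂' H₁ ≫ b₁) (by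
    rw [MonObj.mul_comp, Category.assoc, Category.assoc, hw₂, MonObj.comp_one, _root_.one_mul, ← sq₂,
      Category.assoc])
  let ψ : H₁' ⊗ H₁ ⟶ H₁ := (fst H₁' H₁ ≫ a₁) * snd H₁' H₁
  have sqψ : IsPullback ψ (j' ▷ H₁) φ Ψ := by
    refine IsPullback.mk' ?_ ?_ ?_
    · refine hP.hom_ext ?_ ?_
      · rw [Category.assoc, Category.assoc, hP.lift_fst, hP.lift_fst, MonObj.mul_comp, MonObj.comp_mul,
          whiskerRight_fst_assoc, whiskerRight_snd_assoc, Category.assoc, sq₁]
      · rw [Category.assoc, Category.assoc, hP.lift_snd, hP.lift_snd, MonObj.mul_comp, whiskerRight_snd_assoc,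
          Category.assoc, hw₁, MonObj.comp_one, _root_.one_mul]
    · intro T a b h1 h2
      have hs : a ≫ snd H₁' H₁ = b ≫ snd H₁' H₁ := by
        have := congrArg (fun m => m ≫ snd H₂' H₁) h2
        simpa only [Category.assoc, whiskerRight_snd] using this
      refine CartesianMonoidalCategory.hom_ext _ _ ?_ hs
      rw [← cancel_mono a₁]
      rw [MonObj.comp_mul, MonObj.comp_mul, hs] at h1
      rw [Category.assoc, Category.assoc]
      exact mul_right_cancel h1
    · intro T h x hx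
      have e1 : h ≫ j = (x ≫ fst _ _ ≫ a₂) * (x ≫ snd _ _ ≫ j) := by
        have := congrArg (fun m => m ≫ p) hx
        simpa only [φ, Ψ, Category.assoc, hP.lift_fst, MonObj.comp_mul] using this
      have e2 : h ≫ b₁ = x ≫ snd _ _ ≫ b₁ := by
        have := congrArg (fun m => m ≫ q) hx
        simpa only [φ, Ψ, Category.assoc, hP.lift_snd] using this
      have hker : (h * (x ≫ snd _ _)⁻¹) ≫ b₁ = 1 := by
        rw [MonObj.mul_comp, GrpObj.inv_comp, Category.assoc, ← e2, mul_inv_cancel]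
      let y : T ⟶ H₁' := h₁.lift _ (toUnit T) (hker.trans Hom.one_def)
      have hy : y ≫ a₁ = h * (x ≫ snd _ _)⁻¹ := h₁.lift_fst _ _ _
      refine ⟨lift y (x ≫ snd _ _), ?_, CartesianMonoidalCategory.hom_ext _ _ ?_ ?_⟩
      · rw [MonObj.comp_mul, lift_fst_assoc, lift_snd, hy, inv_mul_cancel_right]
      · rw [Category.assoc, whiskerRight_fst, lift_fst_assoc, ← cancel_mono a₂, Category.assoc, ← sq₁,
          ← Category.assoc, hy, MonObj.mul_comp, GrpObj.inv_comp, e1, Category.assoc, mul_inv_cancel_right,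
          Category.assoc]
      · rw [Category.assoc, whiskerRight_snd, lift_snd]
  have sqΨ : IsPullback Ψ (snd H₂' H₁) q b₁ := by
    refine IsPullback.mk' (hP.lift_snd _ _ _) ?_ ?_
    · intro T a b h1 h2
      refine CartesianMonoidalCategory.hom_ext _ _ ?_ h2
      rw [← cancel_mono a₂]
      have := congrArg (fun m => m ≫ p) h1
      simp only [Ψ, Category.assoc, hP.lift_fst, MonObj.comp_mul] at this
      rw [← Category.assoc a (snd _ _) j, ← Category.assoc b (snd _ _) j, h2] at this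
      rw [Category.assoc, Category.assoc]
      exact mul_right_cancel this
    · intro T z g hz
      have hker : ((z ≫ p) * (g ≫ j)⁻¹) ≫ b₂ = 1 := by
        rw [MonObj.mul_comp, GrpObj.inv_comp, Category.assoc, Category.assoc, hP.w, reassoc_of% hz, sq₂,
          mul_inv_cancel]
      let x : T ⟶ H₂' := h₂.lift _ (toUnit T) (hker.trans Hom.one_def)
      have hx : x ≫ a₂ = (z ≫ p) * (g ≫ j)⁻¹ := h₂.lift_fst _ _ _
      refine ⟨lift x g, hP.hom_ext ?_ ?_, lift_snd _ _⟩
      · rw [Category.assoc, hP.lift_fst, MonObj.comp_mul, lift_fst_assoc, lift_snd_assoc, hx, inv_mul_cancel_right]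
      · rw [Category.assoc, hP.lift_snd, lift_snd_assoc, hz]
  have hq' : (@Surjective ⊓ @Flat ⊓ @QuasiCompact : MorphismProperty Scheme.{u}) Ψ.left :=
    MorphismProperty.of_isPullback (sqΨ.map (Over.forget S)).flip ⟨⟨‹_›, ‹_›⟩, ‹_›⟩
  have hwh : IsClosedImmersion (j' ▷ H₁).left := by
    refine MorphismProperty.of_isPullback (P := @IsClosedImmersion) (g := j'.left)
      (f := (fst H₂' H₁).left) (f' := (fst H₁' H₁).left) ?_ hj'
    refine IsPullback.map (Over.forget S) (IsPullback.mk' (whiskerRight_fst _ _).symm ?_ ?_)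
    · intro T a b h1 h2
      refine CartesianMonoidalCategory.hom_ext _ _ h1 ?_
      have := congrArg (fun m => m ≫ snd H₂' H₁) h2
      simpa only [Category.assoc, whiskerRight_snd] using this
    · intro T a b hab
      refine ⟨lift a (b ≫ snd _ _), lift_fst _ _, CartesianMonoidalCategory.hom_ext _ _ ?_ ?_⟩
      · rw [Category.assoc, whiskerRight_fst, lift_fst_assoc, hab]
      · rw [Category.assoc, whiskerRight_snd, lift_snd]
  haveI : IsClosedImmersion φ.left :=
    MorphismProperty.of_isPullback_of_descendsAlong (P := @IsClosedImmersion)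
      (Q := @Surjective ⊓ @Flat ⊓ @QuasiCompact) (sqψ.map (Over.forget S)).flip hq' hwh
  haveI : IsClosedImmersion p.left :=
    MorphismProperty.pullback_fst (P := @IsClosedImmersion) b₂.left j''.left hj''
  rw [← hP.lift_fst j b₁ sq₂.symm, Over.comp_left]
  exact inferInstanceAs (IsClosedImmersion (φ.left ≫ p.left))

end Groth.Agent.S16647
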