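import Groth.Statements.S16651
import Groth.Agent.CliffSplit.Cover
import Groth.Agent.EvenCliff.Basic
-- import your own Groth.Agent.* helpers here

set_option autoImplicit false
universe u v
open scoped TensorProduct
open QuadZ

namespace Groth.Agent.S16651

/-- For a free module over an affine base, let Q be a non-degenerate quadratic form (polar form a
perfect pairing) on a free module V of even rank 2m ≥ 2 over a commutative ring A. Then fppf-locally
on A the Clifford algebra C(V,Q) is a matrix algebra of size 2^m and its even part a product of two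
matrix algebras of size 2^(m-1) (there is a faithfully flat finitely presented A-algebra A'
realising both), the centre of C(V,Q) is A, the map V → C(V,Q) is injective onto a direct summand,
and the even part is the centralizer in C(V,Q) of its own centre. -/
theorem result (A : Type u) [CommRing A] (V : Type u)
    [AddCommGroup V] [Module A V] [Module.Free A V] [Module.Finite A V] (m : ℕ) (hm : 1 ≤ m)
    (hV : Module.finrank A V = 2 * m) (Q : QuadraticForm A V) (hQ : Function.Bijective (QuadraticMap.polarBilin Q)) :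
    (∃ (A' : Type u) (_ : CommRing A') (_ : Algebra A A'), Module.FaithfullyFlat A A' ∧ Algebra.FinitePresentation A A' ∧
        Nonempty ((A' ⊗[A] CliffordAlgebra Q) ≃ₐ[A'] Matrix (Fin (2 ^ m)) (Fin (2 ^ m)) A') ∧
        Nonempty ((A' ⊗[A] ↥(CliffordAlgebra.even Q)) ≃ₐ[A']
          (Matrix (Fin (2 ^ (m - 1))) (Fin (2 ^ (m - 1))) A' × Matrix (Fin (2 ^ (m - 1))) (Fin (2 ^ (m - 1))) A'))) ∧
    Subalgebra.center A (CliffordAlgebra Q) = ⊥ ∧
    (Function.Injective (CliffordAlgebra.ι Q) ∧
      ∃ W : Submodule A (CliffordAlgebra Q), IsCompl (LinearMap.range (CliffordAlgebra.ι Q)) W) ∧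
    Subalgebra.centralizer A
        ((CliffordAlgebra.even Q).val '' (Subalgebra.center A ↥(CliffordAlgebra.even Q) : Set ↥(CliffordAlgebra.even Q))) =
      CliffordAlgebra.even Q := by
  obtain ⟨b⟩ := QFormLib.exists_basis hV
  refine ⟨?_, ?_, ⟨QFormLib.ι_injective b Q, QFormLib.exists_isCompl_range_ι b Q⟩, ?_⟩
  · obtain ⟨C, _, _, hff, hfp, c, hc⟩ := CliffSplit.exists_compat_cover b Q hQ
    obtain ⟨f⟩ := CliffSplit.exists_baseChange C hc
    obtain ⟨f'⟩ := QFormLib.exists_even_baseChange C hc
    obtain ⟨e, s, hs, hσ⟩ := CliffSplit.exists_hyperbolic_graded m (CliffSplit.hyp C m) (CliffSplit.hyp_apply C m)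
    obtain ⟨σ, hσ⟩ := hσ hm
    obtain ⟨g⟩ := CliffSplit.nonempty_even_prod e s hs σ hσ (2 ^ (m - 1))
      (by rw [← pow_succ', Nat.sub_add_cancel hm])
    exact ⟨C, inferInstance, inferInstance, hff, hfp, ⟨f.trans e⟩, ⟨f'.trans g⟩⟩
  · refine eq_bot_iff.2 fun x hx => ?_
    obtain ⟨r, rfl⟩ := QFormLib.center_eq_scalars b Q rfl hQ hx
    exact Algebra.mem_bot.2 ⟨r, rfl⟩
  · refine le_antisymm (fun x hx => ?_) fun x hx => ?_
    · have hz := Subalgebra.mem_centralizer_iff A |>.1 hx _
        ⟨_, (EvenCliff.zc b Q rfl).2, rfl⟩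
      obtain ⟨x0, h0, x1, h1, rfl⟩ := QFormLib.exists_even_odd_decomp Q x
      obtain ⟨w, hw⟩ := EvenCliff.exists_wc b Q rfl hQ
      replace hz : QFormLib.zEl b Q rfl * (x0 + x1) = (x0 + x1) * QFormLib.zEl b Q rfl := hz
      rw [mul_add, add_mul, QFormLib.zEl_comm_even b Q rfl h0, add_right_inj] at hz
      have hz2 : (QFormLib.zEl b Q rfl - (algebraMap A _ (QFormLib.pEl b Q rfl) - QFormLib.zEl b Q rfl)) * x1 = 0 := by
        rw [sub_mul, ← QFormLib.zEl_comm_odd b Q rfl h1, hz, sub_self]
      have hw' := congrArg (fun c : EvenCliff.Zc Q => ((c : EvenCliff.Ev Q) : CliffordAlgebra Q)) ((mul_comm _ _).trans hw)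
      have hx1 : x1 = 0 := by
        rw [← one_mul x1]
        refine (congrArg (· * x1) hw'.symm).trans ?_
        show ((w : EvenCliff.Ev Q) : CliffordAlgebra Q) *
          (QFormLib.zEl b Q rfl - (algebraMap A _ (QFormLib.pEl b Q rfl) - QFormLib.zEl b Q rfl)) * x1 = 0
        rw [mul_assoc, hz2, mul_zero]
      rw [hx1, add_zero]
      exact h0
    · rw [Subalgebra.mem_centralizer_iff]
      rintro _ ⟨c, hc, rfl⟩
      exact (congrArg Subtype.val (Subalgebra.mem_center_iff.1 hc ⟨x, hx⟩)).symm

end Groth.Agent.S16651
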