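import Groth.Statements.S16652
import Groth.Agent.SplitGrp.Level

set_option autoImplicit false
open CategoryTheory MonoidalCategory CartesianMonoidalCategory MonObj GrpObj AlgebraicGeometry
universe u
open RedSub

namespace Groth.Agent.S16652

open Groth.Agent.SplitGrp in
/-- Enumerations of the lowest level and of the upper piece form a level. -/
theorem exists_level {S : Scheme.{u}} {G : Over S} [GrpObj G]
    (D : Red.SplitRed G) (Ψ : Set D.idx)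
    (hcl : ∀ a b c : D.idx, a ∈ Ψ → b ∈ Ψ → D.P.root a + D.P.root b = D.P.root c → c ∈ Ψ)
    (lam : D.M →+ ℤ) (hlam : ∀ a : D.idx, lam (D.P.root a) ≠ 0) (hpos : ∀ a ∈ Ψ, 0 < lam (D.P.root a))
    (n : ℕ) {m k : ℕ} (e : Fin m → D.idx) (he : RedSub.Enumerates {a | a ∈ Ψ ∧ lam (D.P.root a) = n} e)
    (e₂ : Fin k → D.idx) (he₂ : RedSub.Enumerates {a | a ∈ Ψ ∧ (n : ℤ) + 1 ≤ lam (D.P.root a)} e₂) :
    RedSub.Enumerates {a | a ∈ Ψ ∧ (n : ℤ) ≤ lam (D.P.root a)} (Fin.append e e₂) ∧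
      ∃ (N q : ℕ) (eN : Fin N → D.idx) (b : Fin q → D.idx),
        IsLevel (D := ofSplit D) lam eN e e₂ b (n : ℤ) := by
  have h0 : ∀ l, e l ∈ Ψ ∧ lam (D.P.root (e l)) = n := fun l => he.2.le ⟨l, rfl⟩
  have h2 : ∀ l, e₂ l ∈ Ψ ∧ (n : ℤ) + 1 ≤ lam (D.P.root (e₂ l)) := fun l => he₂.2.le ⟨l, rfl⟩
  have hen : RedSub.Enumerates {a | a ∈ Ψ ∧ (n : ℤ) ≤ lam (D.P.root a)} (Fin.append e e₂) := by
    refine ⟨Fin.append_injective_iff.2 ⟨he.1, he₂.1, fun i j hij => ?_⟩, ?_⟩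
    · have := (h0 i).2
      have := (h2 j).2
      rw [hij] at *
      omega
    · ext c
      constructor
      · rintro ⟨l, rfl⟩
        refine Fin.addCases (fun i => ?_) (fun i => ?_) l
        · rw [Fin.append_left]; exact ⟨(h0 i).1, (h0 i).2.ge⟩
        · rw [Fin.append_right]; exact ⟨(h2 i).1, by have := (h2 i).2; omega⟩
      · rintro ⟨hc, hn⟩
        rcases eq_or_lt_of_le hn with hn | hn
        · obtain ⟨i, rfl⟩ := he.2.ge ⟨hc, hn.symm⟩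
          exact ⟨Fin.castAdd k i, Fin.append_left _ _ _⟩
        · obtain ⟨i, rfl⟩ := he₂.2.ge ⟨hc, hn⟩
          exact ⟨Fin.natAdd m i, Fin.append_right _ _ _⟩
  obtain ⟨N, q, eN, b, hc⟩ := exists_closedPos D
    (Ψ := {a | a ∈ Ψ ∧ (n : ℤ) ≤ lam (D.P.root a)}) (fun a b c ha hb habc => ⟨hcl a b c ha.1 hb.1 habc, by
      rw [← habc, map_add]; have := ha.2; have := hpos b hb.1; omega⟩) lam hlam (fun a ha => hpos a ha.1) _ hen
  exact ⟨hen, N, q, eN, b, hc, fun l => (h0 l).2, fun l => by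
    show (n : ℤ) < lam (D.P.root (e₂ l))
    have := (h2 l).2; omega⟩

/-- With G a reductive group scheme over a scheme S with splitting D, Ψ a closed set of roots without
opposite pairs, λ ∈ M^∨ non-vanishing on the roots and positive on Ψ, and n ≥ 1, let U₁ ⊃ U₂ be the
closed subgroups directly spanned by the root groups U_a (a ∈ Ψ) with λ(a) ≥ n, resp. λ(a) ≥ n + 1.
Then U₂ is normal in U₁, root groups U_a, U_b with λ(a) = λ(b) = n commute modulo U₂, and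
multiplication (∏_{λ(a) = n} U_a) × U₂ → U₁ (product in any order) is an isomorphism of schemes;
thus U₁/U₂ is the vector group ∏_{λ(a)=n} U_a. -/
theorem result {S : Scheme.{u}} {G : Over S} [GrpObj G]
    (D : Red.SplitRed G) (Ψ : Set D.idx)
    (hcl : ∀ a b c : D.idx, a ∈ Ψ → b ∈ Ψ → D.P.root a + D.P.root b = D.P.root c → c ∈ Ψ)
    (hneg : ∀ a b : D.idx, a ∈ Ψ → D.P.root b = -D.P.root a → b ∉ Ψ)
    (lam : Module.Dual ℤ D.M) (hlam : ∀ a : D.idx, lam (D.P.root a) ≠ 0) (hpos : ∀ a ∈ Ψ, 0 < lam (D.P.root a))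
    (n : ℕ) (hn : 1 ≤ n)
    {U₁ U₂ : Over S} [GrpObj U₁] [GrpObj U₂] (v₁ : U₁ ⟶ G) (v₂ : U₂ ⟶ G) [IsMonHom v₁] [IsMonHom v₂]
    (hv₁ : IsClosedImmersion v₁.left) (hv₂ : IsClosedImmersion v₂.left)
    (hU₁ : ∀ {m : ℕ} (e : Fin m → D.idx), RedSub.Enumerates {a | a ∈ Ψ ∧ (n : ℤ) ≤ lam (D.P.root a)} e →
      ∃ ψ : RedSub.pow (Red.Ga S) m ≅ U₁, ψ.hom ≫ v₁ = RedSub.prodMap (Red.Ga S) m (fun k => D.u (e k)))
    (hU₂ : ∀ {m : ℕ} (e : Fin m → D.idx), RedSub.Enumerates {a | a ∈ Ψ ∧ (n : ℤ) + 1 ≤ lam (D.P.root a)} e →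
      ∃ ψ : RedSub.pow (Red.Ga S) m ≅ U₂, ψ.hom ≫ v₂ = RedSub.prodMap (Red.Ga S) m (fun k => D.u (e k))) :
    (∃ f : U₂ ⟶ U₁, f ≫ v₁ = v₂ ∧ IsMonHom f ∧ AlgGrp.IsNormalHom f) ∧
    (∀ (a b : D.idx), a ∈ Ψ → b ∈ Ψ → lam (D.P.root a) = n → lam (D.P.root b) = n →
      ∀ (X : Over S) (x y : X ⟶ Red.Ga S), ∃ w : X ⟶ U₂,
        (x ≫ D.u a) * (y ≫ D.u b) * (x ≫ D.u a)⁻¹ * (y ≫ D.u b)⁻¹ = w ≫ v₂) ∧
    ∀ {m : ℕ} (e : Fin m → D.idx), RedSub.Enumerates {a | a ∈ Ψ ∧ lam (D.P.root a) = n} e →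
      ∃ ψ : RedSub.pow (Red.Ga S) m ⊗ U₂ ≅ U₁,
        ψ.hom ≫ v₁ = (fst _ _ ≫ RedSub.prodMap (Red.Ga S) m (fun k => D.u (e k))) * (snd _ _ ≫ v₂) := by
  haveI : Mono v₁ := (Over.forget S).mono_of_mono_map (inferInstanceAs (Mono v₁.left))
  haveI : Mono v₂ := (Over.forget S).mono_of_mono_map (inferInstanceAs (Mono v₂.left))
  let E := SplitGrp.ofSplit D
  have hl : ∀ a, lam.toAddMonoidHom (D.P.root a) ≠ 0 := hlam
  obtain ⟨k, e₂, he₂⟩ := SplitGrp.exists_enum {a | a ∈ Ψ ∧ (n : ℤ) + 1 ≤ lam (D.P.root a)}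
  obtain ⟨ψ₂, hψ₂⟩ := hU₂ e₂ he₂
  have hv₂ : ∀ {X : Over S} (y : X ⟶ U₂), y ≫ v₂ = E.Prod e₂ (SplitGrp.coord (y ≫ ψ₂.inv)) := fun y => by
    rw [← SplitGrp.comp_vmap, show SplitGrp.vmap (D := E) e₂ = ψ₂.hom ≫ v₂ from hψ₂.symm, Category.assoc,
      ψ₂.inv_hom_id_assoc]
  have hv₂' : ∀ {X : Over S} (w : Fin k → Γ(X.left, ⊤)), ∃ y : X ⟶ U₂, y ≫ v₂ = E.Prod e₂ w := fun w =>
    ⟨SplitGrp.ofCoord w ≫ ψ₂.hom, by rw [Category.assoc, hψ₂]; exact SplitGrp.ofCoord_vmap (D := E) w⟩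
  obtain ⟨m₀, e₀, he₀⟩ := SplitGrp.exists_enum {a | a ∈ Ψ ∧ lam (D.P.root a) = n}
  obtain ⟨hen₀, N₀, q₀, eN₀, b₀, h₀⟩ := exists_level D Ψ hcl lam.toAddMonoidHom hl hpos n e₀ he₀ e₂ he₂
  obtain ⟨ψ₁, hψ₁⟩ := hU₁ _ hen₀
  have hv₁ : ∀ {X : Over S} (y : X ⟶ U₁),
      y ≫ v₁ = E.Prod (Fin.append e₀ e₂) (SplitGrp.coord (y ≫ ψ₁.inv)) := fun y => by
    rw [← SplitGrp.comp_vmap, show SplitGrp.vmap (D := E) (Fin.append e₀ e₂) = ψ₁.hom ≫ v₁ from hψ₁.symm,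
      Category.assoc, ψ₁.inv_hom_id_assoc]
  have hv₁' : ∀ {X : Over S} (w : Fin (m₀ + k) → Γ(X.left, ⊤)), ∃ y : X ⟶ U₁,
      y ≫ v₁ = E.Prod (Fin.append e₀ e₂) w := fun w =>
    ⟨SplitGrp.ofCoord w ≫ ψ₁.hom, by rw [Category.assoc, hψ₁]; exact SplitGrp.ofCoord_vmap (D := E) w⟩
  refine ⟨?_, fun a b ha hb hla hlb X x y => ?_, fun {m} e he => ?_⟩
  · obtain ⟨f, hf⟩ := hv₁' (Fin.append (fun _ => 0) (SplitGrp.coord (𝟙 U₂ ≫ ψ₂.inv)))
    rw [← SplitGrp.Prod_upper, ← hv₂, Category.id_comp] at hf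
    haveI : IsMonHom f := GrpSchLib.RankOne.isMonHom_of_comp f fun Y x y => by
      rw [← cancel_mono v₁, MonObj.mul_comp (x ≫ f) (y ≫ f) v₁, Category.assoc, Category.assoc, Category.assoc, hf,
        MonObj.mul_comp]
    refine ⟨f, hf, ‹_›, fun T g y => ?_⟩
    obtain ⟨w, hw⟩ := h₀.exists_conj (SplitGrp.coord (g ≫ ψ₁.inv)) (SplitGrp.coord (y ≫ ψ₂.inv))
    obtain ⟨y', hy'⟩ := hv₂' w
    refine ⟨y', ?_⟩
    rw [← cancel_mono v₁, MonObj.mul_comp, MonObj.mul_comp, GrpObj.inv_comp, Category.assoc, Category.assoc, hf,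
      hy', hv₁, hv₂]
    exact hw
  · obtain ⟨i, rfl⟩ := he₀.2.ge ⟨ha, hla⟩
    obtain ⟨j, rfl⟩ := he₀.2.ge ⟨hb, hlb⟩
    obtain ⟨w, hw⟩ := h₀.exists_commutator (X := X) (Pi.single (Fin.castAdd k i) (Red.gaFn x))
      (Pi.single (Fin.castAdd k j) (Red.gaFn y))
    simp only [SplitGrp.Prod_single, Fin.append_left] at hw
    obtain ⟨z, hz⟩ := hv₂' w
    refine ⟨z, ?_⟩
    rw [hz, ← hw, show x ≫ D.u (e₀ i) = E.U (e₀ i) (Red.gaFn x) from SplitGrp.eq_U (D := E) (a := e₀ i) x,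
      show y ≫ D.u (e₀ j) = E.U (e₀ j) (Red.gaFn y) from SplitGrp.eq_U (D := E) (a := e₀ j) y]
  · obtain ⟨hen, N, q, eN, b, hlev⟩ := exists_level D Ψ hcl lam.toAddMonoidHom hl hpos n e he e₂ he₂
    obtain ⟨φ, hφ⟩ := hU₁ _ hen
    have hprod : ∀ {X : Over S} (z : X ⟶ RedSub.pow (Red.Ga S) m ⊗ U₂),
        z ≫ ((fst _ _ ≫ RedSub.prodMap (Red.Ga S) m (fun l => D.u (e l))) * (snd _ _ ≫ v₂)) =
          E.Prod (Fin.append e e₂)
            (Fin.append (SplitGrp.coord (z ≫ fst _ _)) (SplitGrp.coord ((z ≫ snd _ _) ≫ ψ₂.inv))) := fun z => by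
      rw [SplitGrp.Prod_append, ← hv₂, MonObj.comp_mul, ← Category.assoc, ← Category.assoc]
      congr 1
      exact SplitGrp.comp_prodMap (D := E) e _
    let F : RedSub.pow (Red.Ga S) m ⊗ U₂ ⟶ RedSub.pow (Red.Ga S) (m + k) :=
      SplitGrp.ofCoord (Fin.append (SplitGrp.coord (fst (RedSub.pow (Red.Ga S) m) U₂))
        (SplitGrp.coord (snd (RedSub.pow (Red.Ga S) m) U₂ ≫ ψ₂.inv)))
    let F' : RedSub.pow (Red.Ga S) (m + k) ⟶ RedSub.pow (Red.Ga S) m ⊗ U₂ :=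
      lift (SplitGrp.ofCoord fun i => SplitGrp.coord (𝟙 (RedSub.pow (Red.Ga S) (m + k))) (Fin.castAdd k i))
        (SplitGrp.ofCoord (fun i => SplitGrp.coord (𝟙 (RedSub.pow (Red.Ga S) (m + k))) (Fin.natAdd m i)) ≫ ψ₂.hom)
    have hFF' : F' ≫ F = 𝟙 _ := by
      refine SplitGrp.coord_injective (funext fun l => ?_)
      rw [SplitGrp.coord_comp]
      simp only [F, SplitGrp.coord_ofCoord]
      refine Fin.addCases (fun i => ?_) (fun i => ?_) l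
      · rw [Fin.append_left, ← congrFun (SplitGrp.coord_comp F' (fst (RedSub.pow (Red.Ga S) m) U₂)) i, lift_fst,
          SplitGrp.coord_ofCoord]
      · rw [Fin.append_right, ← congrFun (SplitGrp.coord_comp F'
          (snd (RedSub.pow (Red.Ga S) m) U₂ ≫ ψ₂.inv)) i, lift_snd_assoc, Category.assoc, ψ₂.hom_inv_id,
          Category.comp_id, SplitGrp.coord_ofCoord]
    have hFF : F ≫ F' = 𝟙 _ := by
      refine CartesianMonoidalCategory.hom_ext _ _ (SplitGrp.coord_injective (funext fun l => ?_))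
        ((cancel_mono ψ₂.inv).1 (SplitGrp.coord_injective (funext fun l => ?_)))
      · simp only [F', Category.assoc, lift_fst, Category.id_comp]
        rw [SplitGrp.coord_comp F]
        simp only [SplitGrp.coord_ofCoord]
        rw [← congrFun (SplitGrp.coord_comp F (𝟙 _)) (Fin.castAdd k l), Category.comp_id, SplitGrp.coord_ofCoord,
          Fin.append_left]
      · simp only [F', Category.assoc, lift_snd, lift_snd_assoc, ψ₂.hom_inv_id, Category.comp_id, Category.id_comp]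
        rw [SplitGrp.coord_comp F]
        simp only [SplitGrp.coord_ofCoord]
        rw [← congrFun (SplitGrp.coord_comp F (𝟙 _)) (Fin.natAdd m l), Category.comp_id, SplitGrp.coord_ofCoord,
          Fin.append_right]
    refine ⟨(⟨F, F', hFF, hFF'⟩ : RedSub.pow (Red.Ga S) m ⊗ U₂ ≅ _) ≪≫ φ, ?_⟩
    rw [Iso.trans_hom, Category.assoc, hφ]
    refine (SplitGrp.ofCoord_vmap (D := E) _).trans (Eq.trans ?_ ((hprod (𝟙 _)).symm.trans (Category.id_comp _)))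
    simp only [Category.id_comp]
    rfl

end Groth.Agent.S16652
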