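import Groth.Statements.S16667
import Groth.Agent.Alg6.AssDepth
import Groth.Agent.FlatLoc6.SerreNormal

set_option autoImplicit false
universe u
open CAlg

namespace Groth.Agent.S16667

/-- Let A be a Noetherian integral domain satisfying Serre's condition (S_2), with fraction field K. An
element of K which lies in the localization A_p for every prime p of A with depth(A_p) = 1 lies in
A. -/
theorem result {A : Type u} [CommRing A] [IsDomain A]
    [IsNoetherianRing A] (hS2 : LocCoh.HasSk 2 A A) (x : FractionRing A)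
    (hx : ∀ (p : Ideal A) [p.IsPrime],
      LocCoh.depth (Localization.AtPrime p) (Localization.AtPrime p) = 1 →
        x ∈ Set.range (algebraMap (Localization.AtPrime p) (FractionRing A))) :
    x ∈ Set.range (algebraMap A (FractionRing A)) := by
  classical
  obtain ⟨a, ⟨s, hs⟩, rfl⟩ := IsLocalization.exists_mk'_eq (nonZeroDivisors A) x
  by_contra hne
  have hs0 : s ≠ 0 := nonZeroDivisors.ne_zero hs
  let a' : A ⧸ Ideal.span {s} := Ideal.Quotient.mk _ a
  have ha' : a' ≠ 0 := by
    intro h
    obtain ⟨c, hc⟩ := Ideal.mem_span_singleton'.mp (Ideal.Quotient.eq_zero_iff_mem.mp h)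
    exact hne ⟨c, (IsLocalization.eq_mk'_iff_mul_eq).mpr (by rw [← map_mul]; exact congrArg _ hc)⟩
  obtain ⟨p, hp, hle⟩ := exists_le_isAssociatedPrime_of_isNoetherianRing A a' ha'
  haveI := hp.isPrime
  have hsp : s ∈ p := hle (by
    rw [Submodule.mem_colon_singleton, Submodule.mem_bot]
    show s • Ideal.Quotient.mk (Ideal.span {s}) a = 0
    rw [Algebra.smul_def, Ideal.Quotient.algebraMap_eq, ← map_mul, Ideal.Quotient.eq_zero_iff_mem]
    exact Ideal.mem_span_singleton'.mpr ⟨a, mul_comm _ _⟩)
  have hreg : IsSMulRegular A s := fun u v huv => mul_left_cancel₀ hs0 huv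
  have h1 : (1 : ℕ∞) ≤ LocCoh.depth (Localization.AtPrime p) (LocalizedModule p.primeCompl A) := by
    rw [Groth.Agent.Alg6.one_le_depth_atPrime_iff]
    intro hass
    exact Groth.Agent.Alg6.isSMulRegular_iff_forall_ass.mp hreg _ hass hsp
  have h2 : ¬ (2 : ℕ∞) ≤ LocCoh.depth (Localization.AtPrime p) (LocalizedModule p.primeCompl A) := by
    rw [Groth.Agent.Alg6.two_le_depth_atPrime_iff p hsp hreg, not_not]
    have e : QuotSMulTop s A ≃ₗ[A] (A ⧸ Ideal.span {s}) := Submodule.quotEquivOfEq _ _ (by
      rw [← Submodule.ideal_span_singleton_smul, Ideal.smul_top_eq_map]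
      simp)
    rw [LinearEquiv.AssociatedPrimes.eq e]
    exact hp
  rw [Groth.Agent.FlatLoc6.depth_self_atPrime] at h1 h2
  have hd : LocCoh.depth (Localization.AtPrime p) (Localization.AtPrime p) = 1 := by
    refine le_antisymm ?_ h1
    exact (ENat.lt_add_one_iff ENat.one_ne_top).mp (by rw [one_add_one_eq_two]; exact lt_of_not_ge h2)
  obtain ⟨y, hy⟩ := hx p hd
  obtain ⟨c, ⟨t, ht⟩, rfl⟩ := IsLocalization.exists_mk'_eq p.primeCompl y
  apply ht
  refine hle ?_
  rw [Submodule.mem_colon_singleton, Submodule.mem_bot]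
  show t • Ideal.Quotient.mk (Ideal.span {s}) a = 0
  rw [Algebra.smul_def, Ideal.Quotient.algebraMap_eq, ← map_mul, Ideal.Quotient.eq_zero_iff_mem]
  refine Ideal.mem_span_singleton'.mpr ⟨c, IsFractionRing.injective A (FractionRing A) ?_⟩
  have h3 := congrArg (algebraMap (Localization.AtPrime p) (FractionRing A))
    (IsLocalization.mk'_spec (Localization.AtPrime p) c ⟨t, ht⟩)
  rw [map_mul, hy, ← IsScalarTower.algebraMap_apply, ← IsScalarTower.algebraMap_apply] at h3
  rw [map_mul, map_mul, ← h3, mul_right_comm]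
  rw [IsLocalization.mk'_spec]
  exact mul_comm _ _

end Groth.Agent.S16667
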