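import Groth.Statements.S16673
import Groth.Agent.AVRosati.PRank
-- import your own Groth.Agent.* helpers here

set_option autoImplicit false
set_option backward.isDefEq.respectTransparency false
set_option backward.isDefEq.respectTransparency.types false
universe u
open CategoryTheory CategoryTheory.Limits MonoidalCategory CartesianMonoidalCategory MonObj GrpObj AlgebraicGeometry
open AbVar

namespace Groth.Agent.S16673

/-- Let k be a field of characteristic p > 0 with an algebraic closure k̄, let X and Y be abelian
varieties over k (proper, geometrically integral, commutative k-group schemes) and let h : X → Y be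
a homomorphism which is finite and surjective (an isogeny). If i and j are natural numbers such that
for every m ≥ 0 the group X[p^m](k̄) of k̄-valued points of X killed by p^m (k̄-valued points being
the k-morphisms Spec k̄ → X, a group under the group law of X) is isomorphic to (ℤ/p^m)^i and the
group Y[p^m](k̄) is isomorphic to (ℤ/p^m)^j (groups of points written multiplicatively), then i = j:
the p-rank is an isogeny invariant. -/
theorem result (k : Type u) [Field k] (p : ℕ) [Fact p.Prime] [CharP k p]
    (X Y : Over (Spec (CommRingCat.of k)))
    [GrpObj X] [IsCommMonObj X] [IsProper X.hom] [GeometricallyIntegral X.hom]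
    [GrpObj Y] [IsCommMonObj Y] [IsProper Y.hom] [GeometricallyIntegral Y.hom]
    (h : X ⟶ Y) [IsMonHom h] [IsFinite h.left] [Surjective h.left]
    (i j : ℕ)
    (hi : ∀ m : ℕ, Nonempty (AbDual.torsPts X (p ^ m)
      (Over.mk (Spec.map (CommRingCat.ofHom (algebraMap k (AlgebraicClosure k))))) ≃*
      Multiplicative (Fin i → ZMod (p ^ m))))
    (hj : ∀ m : ℕ, Nonempty (AbDual.torsPts Y (p ^ m)
      (Over.mk (Spec.map (CommRingCat.ofHom (algebraMap k (AlgebraicClosure k))))) ≃*
      Multiplicative (Fin j → ZMod (p ^ m)))) :
    i = j := by
  let T : Over (Spec (CommRingCat.of k)) :=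
    Over.mk (Spec.map (CommRingCat.ofHom (algebraMap k (AlgebraicClosure k))))
  let f : (T ⟶ X) →* (T ⟶ Y) :=
    { toFun := fun x => x ≫ h
      map_one' := MonObj.one_comp h
      map_mul' := fun x y => MonObj.mul_comp x y h }
  have hf : Function.Surjective f := fun z => Groth.Agent.GrpSchLib.exists_point_lift h z
  haveI := Groth.Agent.AVRosati.finite_fibre_points h (AlgebraicClosure k) (1 : T ⟶ Y)
  haveI : Finite f.ker :=
    Finite.of_injective (fun x : f.ker => (⟨x.1, x.2⟩ : {x : T ⟶ X // x ≫ h = 1}))
      fun x y hxy => Subtype.ext (congrArg Subtype.val hxy :)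
  exact Groth.Agent.AVRosati.rank_eq_of_surjective_finite_ker f hf p i j hi hj

end Groth.Agent.S16673
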