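import Groth.Statements.S16679
import Groth.Agent.AVRosati.SubAV

set_option backward.isDefEq.respectTransparency false
set_option backward.isDefEq.respectTransparency.types false
set_option linter.style.haveILetI false

set_option autoImplicit false
universe u
open CategoryTheory CategoryTheory.Limits MonoidalCategory CartesianMonoidalCategory MonObj GrpObj AlgebraicGeometry
open AbVar

-- keep the elaboration of the statement identical to the frozen one
attribute [-instance] CategoryTheory.catToReflQuiver

namespace Groth.Agent.S16679

/-- Let X be an abelian variety over an arbitrary field k (a proper, geometrically integral k-group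
scheme), let i : Y → X be a closed subgroup scheme (a homomorphism of k-group schemes which is a
closed immersion) whose underlying space is connected, and let j : Y_red → Y be the reduced closed
subscheme with the same underlying space (a closed immersion from a reduced scheme which is
surjective). Then Y_red is geometrically integral over k, and there is a k-group scheme structure on
Y_red for which j is a homomorphism: Y_red is an abelian subvariety of X. (For a closed subgroup
scheme which is not connected the reduced subscheme need not be geometrically reduced; the statement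
concerns the identity component.) -/
theorem result (k : Type u) [Field k]
    (X : Over (Spec (CommRingCat.of k))) [GrpObj X] [IsProper X.hom] [GeometricallyIntegral X.hom]
    (Y : Over (Spec (CommRingCat.of k))) [GrpObj Y] (i : Y ⟶ X) [IsMonHom i] [IsClosedImmersion i.left]
    [ConnectedSpace ↥Y.left]
    (Yr : Scheme.{u}) (j : Yr ⟶ Y.left) [IsClosedImmersion j] [Surjective j] [IsReduced Yr] :
    GeometricallyIntegral (j ≫ Y.hom) ∧
      ∃ _ : GrpObj (Over.mk (j ≫ Y.hom)), IsMonHom (Over.homMk j rfl : Over.mk (j ≫ Y.hom) ⟶ Y) := by
  obtain ⟨N, _, n, hn, hnc, hns, hNp, hNi⟩ := Groth.Agent.AVRosati.SubAV.exists_abelian_sub_of_connected i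
  haveI := hn
  haveI := hnc
  haveI := hns
  haveI := hNi
  haveI : IsIntegral N.left := Groth.Agent.H23.MaxAbelian.isIntegral_of_geometricallyIntegral
  let R : Over (Spec (CommRingCat.of k)) := Over.mk (j ≫ Y.hom)
  let jR : R ⟶ Y := Over.homMk j rfl
  haveI : IsClosedImmersion jR.left := inferInstanceAs (IsClosedImmersion j)
  haveI : IsReduced R.left := inferInstanceAs (IsReduced Yr)
  obtain ⟨a, ha⟩ := Groth.Agent.AVRosati.SubAV.exists_lift_over jR n
    (fun y _ => Scheme.Hom.surjective n.left y)
  obtain ⟨b, hb⟩ := Groth.Agent.AVRosati.SubAV.exists_lift_over n jR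
    (fun y _ => Scheme.Hom.surjective j y)
  haveI : Mono jR := Groth.Agent.AVRosati.SubAV.mono_of_closed jR
  haveI : Mono n := Groth.Agent.AVRosati.SubAV.mono_of_closed n
  let e : N ≅ R := ⟨b, a, by rw [← cancel_mono n, Category.assoc, ha, hb, Category.id_comp],
    by rw [← cancel_mono jR, Category.assoc, hb, ha, Category.id_comp]⟩
  refine ⟨?_, ?_⟩
  · haveI : IsIso e.inv.left := ((Over.forget _).mapIso e).isIso_inv
    show GeometricallyIntegral R.hom
    rw [← Over.w e.inv]
    exact (MorphismProperty.cancel_left_of_respectsIso @GeometricallyIntegral _ _).2 hNi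
  · obtain ⟨str, hstr⟩ := Groth.Agent.IsogLib.exists_grpObj_of_mono (jR : R ⟶ Y)
      ⟨η[N] ≫ e.hom, by rw [Category.assoc]; show η[N] ≫ b ≫ jR = _; rw [hb, IsMonHom.one_hom n]⟩
      ⟨(e.inv ⊗ₘ e.inv) ≫ μ[N] ≫ e.hom, by
        show (e.inv ⊗ₘ e.inv) ≫ (μ[N] ≫ b) ≫ jR = _
        rw [Category.assoc, hb, IsMonHom.mul_hom n, MonoidalCategory.tensorHom_comp_tensorHom_assoc,
          show e.inv ≫ n = jR from ha, Hom.mul_def]
        congr 1
        try (ext <;> simp)⟩
      ⟨((e.inv : R ⟶ N)⁻¹) ≫ e.hom, by
        rw [Category.assoc]
        show _ ≫ b ≫ jR = _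
        rw [hb, GrpObj.inv_comp, show e.inv ≫ n = jR from ha]⟩
    exact ⟨str, hstr⟩

end Groth.Agent.S16679
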