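import Groth.Statements.S16683
import Groth.Agent.AVPic.Dim
import Groth.Agent.S17906
import Groth.Agent.FppfPic.ExtendRegular
import Groth.Agent.SchTorsor.Props
import Groth.Agent.FibDim.BaseField
-- import your own Groth.Agent.* helpers here

set_option autoImplicit false
universe u
open CategoryTheory CategoryTheory.Limits MonoidalCategory CartesianMonoidalCategory MonObj GrpObj AlgebraicGeometry
open AbVar

set_option backward.isDefEq.respectTransparency false
set_option backward.isDefEq.respectTransparency.types false
set_option synthInstance.maxHeartbeats 400000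
set_option maxHeartbeats 1000000
set_option linter.style.haveILetI false
attribute [-instance] CategoryTheory.catToReflQuiver

namespace Groth.Agent.S16683

/-- Fix a field k and a g-dimensional abelian variety X over k (a proper, geometrically integral k-group
scheme with underlying space of Krull dimension g), and let P be a k-scheme locally of finite type
which represents, through φ, the relative Picard functor Pic_{X/k} (the fppf sheaf associated to T ↦
Pic(X ×_k T)). Then P is smooth over k — in particular its identity component Pic⁰_{X/k}, the dual
of X, is reduced and hence an abelian variety — and the underlying space of P has Krull dimension g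
= dim X. (The published statement also identifies g with dim_k H^1(X, O_X) and the kernel of φ_L
with K(L) for L ample; those clauses are not part of this statement. The Picard scheme is taken as
given.) -/
theorem result (k : Type u) [Field k]
    (X : Over (Spec (CommRingCat.of k))) [GrpObj X] [IsProper X.hom] [GeometricallyIntegral X.hom]
    (g : ℕ) (hg : topologicalKrullDim ↥X.left = g)
    (P : Over (Spec (CommRingCat.of k)))
    (φ : ∀ T : Over (Spec (CommRingCat.of k)), PicF.Cl (PicF.XT X.hom T) → (T ⟶ P))
    (hP : AbDual.IsRelPicK Scheme.fppfPrecoverage X.hom P φ) [LocallyOfFiniteType P.hom] :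
    Smooth P.hom ∧ topologicalKrullDim ↥P.left = g := by
  letI : X.left.Over (Spec (CommRingCat.of k)) := ⟨X.hom⟩
  haveI : Smooth X.hom := Groth.Agent.S7795.result X
  haveI : GeometricallyConnected X.hom := Groth.Agent.H23.CubeAb.geometricallyConnected_of_integral X.hom
  have hR : PicRel.IsRelPic X.hom P φ := Groth.Agent.AVPic.isRelPic_of_fppf X.hom η[X].left
    (Over.w η[X]) (Groth.Agent.FppfPic.bijective_app_of_connected X.hom η[X].left (Over.w η[X])) hP
  let K := AlgebraicClosure k
  let σ : Spec (CommRingCat.of K) ⟶ Spec (CommRingCat.of k) := Spec.map (CommRingCat.ofHom (algebraMap k K))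
  let AK := (Over.pullback σ).obj X
  letI : GrpObj AK := Functor.grpObjObj
  haveI : IsProper AK.hom := inferInstanceAs (IsProper (pullback.snd X.hom σ))
  haveI : GeometricallyIntegral AK.hom := Groth.Agent.AbDualBase.geometricallyIntegral_fibre σ X
  haveI : LocallyOfFiniteType (pullback.snd P.hom σ) := MorphismProperty.pullback_snd _ _ inferInstance
  haveI : LocallyOfFiniteType (Over.mk (pullback.snd P.hom σ)).hom := ‹LocallyOfFiniteType (pullback.snd P.hom σ)›
  haveI : Subsingleton ↥(Spec (CommRingCat.of k)) := inferInstanceAs (Subsingleton (PrimeSpectrum k))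
  haveI : Subsingleton ↥(Spec (CommRingCat.of K)) := inferInstanceAs (Subsingleton (PrimeSpectrum K))
  haveI : Nonempty ↥(Spec (CommRingCat.of K)) := inferInstanceAs (Nonempty (PrimeSpectrum K))
  have hgK : topologicalKrullDim AK.left = g :=
    (Groth.Agent.FibDim.topologicalKrullDim_baseChange (IsPullback.of_hasPullback X.hom σ)).trans hg
  obtain ⟨hs, hd⟩ := Groth.Agent.AVPic.smooth_and_dim AK (Groth.Agent.S17906.result X.hom σ P φ hR) hgK
  haveI : IsProper (X.hom) := inferInstance
  refine ⟨?_, (Groth.Agent.FibDim.topologicalKrullDim_baseChange (IsPullback.of_hasPullback P.hom σ)).symm.trans hd⟩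
  haveI : Surjective σ := Groth.Agent.GrpSchLib.surjective_spec_map_field _
  exact MorphismProperty.of_pullback_snd_of_descendsAlong (P := @Smooth) (Q := @Surjective ⊓ @Flat ⊓ @QuasiCompact)
    ⟨⟨inferInstance, inferInstance⟩, inferInstance⟩ hs


end Groth.Agent.S16683
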