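import Groth.Statements.S1671
import Groth.Agent.CanonDual.Nodal

set_option autoImplicit false
set_option backward.isDefEq.respectTransparency.types false
universe u
open CategoryTheory CategoryTheory.Limits AlgebraicGeometry
attribute [local instance] HasDerivedCategory.standard
open Curves

namespace Groth.Agent.S1671

/-- Let X be proper of dimension one over k with global functions k and at-worst-nodal singularities,
ω_X its dualizing module (degree -1 cohomology sheaf of f^! O for f : X → Spec k, assuming Rf_* on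
D_QCoh and its right adjoint exist), and C ⊆ X a rational tail, viewed as a reduced closed
subscheme. Then the restriction of ω_X to C has negative degree (over k). -/
theorem result (k : Type u) [Field k] (X : Scheme.{u}) [X.Over (Spec (CommRingCat.of k))] [IsProper (X ↘ (Spec (CommRingCat.of k)))] (hdim : topologicalKrullDim X = 1)
    (h0 : Module.finrank k (Coh.HH X (Coh.structureModule X) 0) = 1) (hX : Curv2.AtWorstNodal k X)
    [DCoh.HasRpush (X ↘ (Spec (CommRingCat.of k)))] (h : DCoh.RpushPreservesQCoh (X ↘ (Spec (CommRingCat.of k)))) [DCoh.HasShriek (X ↘ (Spec (CommRingCat.of k))) h]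
    (OY : DCoh.DQCoh (Spec (CommRingCat.of k))) (hOY : Nonempty (OY.obj ≅ DCoh.inD (Spec (CommRingCat.of k)) (Coh.structureModule (Spec (CommRingCat.of k)))))
    (C : Set X) (hC : C ∈ irreducibleComponents (X : Type u)) (hCt : Curv2.IsRationalTail X C hC) :
    @Curv2.deg k _ (Scheme.IdealSheafData.vanishingIdeal ⟨C, isClosed_of_mem_irreducibleComponents C hC⟩).subscheme
        ⟨(Scheme.IdealSheafData.vanishingIdeal ⟨C, isClosed_of_mem_irreducibleComponents C hC⟩).subschemeι ≫ (X ↘ (Spec (CommRingCat.of k)))⟩
        ((Scheme.Modules.pullback (Scheme.IdealSheafData.vanishingIdeal ⟨C, isClosed_of_mem_irreducibleComponents C hC⟩).subschemeι).obj (DCoh.dualizingMod (X ↘ (Spec (CommRingCat.of k))) h OY 1)) 1 < 0 := by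
  obtain ⟨-, -, hequi⟩ := Groth.Agent.CurveGenusCmp.oneDim_props k hdim h0
  haveI := Groth.Agent.CanonDual.isReduced_of_nodal k hdim.le hX
  obtain ⟨hconn, hC1⟩ := Groth.Agent.CanonDual.component_props hequi C hC
  haveI := hconn
  let IC := Scheme.IdealSheafData.vanishingIdeal ⟨C, isClosed_of_mem_irreducibleComponents C hC⟩
  letI : IC.subscheme.Over (Spec (CommRingCat.of k)) := ⟨IC.subschemeι ≫ (X ↘ Spec (CommRingCat.of k))⟩
  haveI : IsProper (IC.subscheme ↘ Spec (CommRingCat.of k)) := inferInstanceAs (IsProper (IC.subschemeι ≫ _))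
  haveI : IsReduced IC.subscheme := Groth.Agent.H23.RedSub.isReduced_vanishingIdeal _
  haveI : ConnectedSpace IC.subscheme := hconn
  have hdeg := Groth.Agent.CanonDual.deg_dualizingMod_restrict hdim h0 hX h OY hOY IC hC1
  rw [Groth.Agent.CanonDual.euler_two hC1.le Groth.Agent.QCoh.isQCoh_structureModule] at hdeg
  have hker := Groth.Agent.CanonDual.compl_component k C (isClosed_of_mem_irreducibleComponents C hC)
  obtain ⟨-, hne, hsub, hred, hev, h3⟩ := hCt
  haveI := h3
  let IX' := (Scheme.Opens.ι (⟨Cᶜ, (isClosed_of_mem_irreducibleComponents C hC).isOpen_compl⟩ : X.Opens)).ker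
  let P := (IC ⊔ IX').subscheme
  letI : P.Over (Spec (CommRingCat.of k)) := ⟨(IC ⊔ IX').subschemeι ≫ (X ↘ Spec (CommRingCat.of k))⟩
  haveI : Subsingleton P := hsub
  haveI : IsReduced P := hred
  let i : P ⟶ IC.subscheme := Scheme.IdealSheafData.inclusion (le_sup_left : IC ≤ IC ⊔ IX')
  have hi : i ≫ IC.subschemeι = (IC ⊔ IX').subschemeι := Scheme.IdealSheafData.inclusion_subschemeι _
  haveI : IsClosedImmersion i := by
    haveI : IsClosedImmersion (i ≫ IC.subschemeι) := by rw [hi]; infer_instance
    exact IsClosedImmersion.of_comp i IC.subschemeι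
  obtain ⟨c⟩ : Nonempty P := hne
  have hkey := Groth.Agent.CanonDual.finrank_H0_point k i
    (by show i ≫ IC.subschemeι ≫ _ = (IC ⊔ IX').subschemeι ≫ _; rw [reassoc_of% hi])
    (Groth.Agent.CanonDual.bijective_appTop_point i c (hev c))
  rw [← hker, Groth.Agent.CanonDual.finrank_HH_quotMod (IC ⊔ IX') 0] at hdeg
  rw [show Module.finrank k (Coh.HH P (Coh.structureModule P) 0) = _ from hkey,
    Module.finrank_zero_of_subsingleton (M := Coh.HH IC.subscheme (Coh.structureModule IC.subscheme) 1)] at hdeg
  have hpos : 0 < Module.finrank k (Coh.HH IC.subscheme (Coh.structureModule IC.subscheme) 0) := by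
    haveI : IsLocallyNoetherian IC.subscheme :=
      LocallyOfFiniteType.isLocallyNoetherian (IC.subscheme ↘ Spec (CommRingCat.of k))
    haveI : Nontrivial Γ(IC.subscheme, ⊤) := (IC.subscheme.presheaf.germ ⊤ (i c) trivial).hom.domain_nontrivial
    haveI := Groth.Agent.S0002.result k IC.subscheme (Coh.structureModule IC.subscheme) Groth.Agent.QCoh.isCoh_structureModule' 0
    haveI : Nonempty IC.subscheme := ⟨i c⟩
    haveI : Nontrivial (Coh.HH IC.subscheme (Coh.structureModule IC.subscheme) 0) :=
      (Sheaf.H.equiv₀ (Coh.toAb (Coh.structureModule IC.subscheme)) isTerminalTop).toEquiv.nontrivial_congr.2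
        ‹Nontrivial Γ(IC.subscheme, ⊤)›
    exact Module.finrank_pos
  refine hdeg.trans_lt ?_
  push_cast
  linarith

end Groth.Agent.S1671
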