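import Groth.Statements.S16710
import Groth.Agent.AmpleDev.Nef

set_option autoImplicit false
universe u
open CategoryTheory CategoryTheory.Limits AlgebraicGeometry TopologicalSpace
open Variety

namespace Groth.Agent.S16710

open scoped Groth.Agent.H23.PicMul

/-- Let X be a proper scheme over a field k and L an invertible O_X-module. Then L is ample if and only
if (i) L is strictly nef, meaning χ(O_C ⊗ L) - χ(O_C) > 0 for every integral closed subscheme C ⊆ X
of dimension one, and (ii) L is semiample, meaning some positive tensor power of L is generated by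
its global sections (is a quotient of a free O_X-module). -/
theorem result (k : Type u) [Field k] (X : Scheme.{u})
    [X.Over (Spec (CommRingCat.of k))] [IsProper (X ↘ (Spec (CommRingCat.of k)))]
    (L : X.Modules) (hL : PicF.IsInvertible L) :
    CohB1.IsAmple L ↔
      ((∀ C : X.IdealSheafData, IsIntegral C.subscheme →
          topologicalKrullDim (C.support : Set X) = 1 →
            0 < Curv2.euler k X (CohB1.tensorMod (ClSub.quotMod C) L) - Curv2.euler k X (ClSub.quotMod C)) ∧
        ∃ m : ℕ, Curv2.IsGloballyGenerated (CohB1.tensorPow L (m + 1))) := by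
  refine ⟨fun h => ⟨fun C hC hd => ?_, ?_⟩, fun ⟨hnef, m, hgen⟩ => ?_⟩
  · haveI := hC
    rw [Groth.Agent.AmpleDev.euler_sub_eq_deg k C hL]
    exact Groth.Agent.AmpleDev.deg_pos_on_curve k h C hd
  · haveI := Groth.Agent.CurveCohLib.isNoetherian_of_proper (k := k) (X := X)
    haveI := Groth.Agent.AmpleX.isSeparated_of_isAmple h
    have hO := Groth.Agent.QCoh.isCoh_structureModule' (X := X)
    obtain ⟨n₀, hn⟩ := Groth.Agent.AmpleX.eventually_generated h hO.1 hO.2
    obtain ⟨G, φ, ι, s, hs⟩ := hn (n₀ + 1) (Nat.le_succ _)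
    obtain ⟨ψ⟩ : Nonempty (G ≅ CohB1.tensorPow L (n₀ + 1)) := Groth.Agent.H23.PicMul.cl_eq_iff.1 (by
      rw [Groth.Agent.H23.PicMul.cl_eq_iff.2 ⟨φ⟩, Groth.Agent.H23.PicMul.cl_tensor,
        ← Groth.Agent.H23.PicMul.one_def]
      open scoped Groth.Agent.H23.PicMul in exact one_mul _)
    exact ⟨n₀, Groth.Agent.AmpleX.isGloballyGenerated_of_iso ψ
      (Groth.Agent.InvX.isGloballyGenerated_of_generated hs)⟩
  · refine Groth.Agent.AmpleX.isAmple_of_tensorPow hL (Nat.succ_pos m) ?_
    refine Groth.Agent.AmpleDev.isAmple_of_curves_ample k (Groth.Agent.InvX.isInvertible_tensorPow hL _) hgen fun C hC hd => ?_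
    haveI := hC
    letI : C.subscheme.Over (Spec (CommRingCat.of k)) := ⟨C.subschemeι ≫ (X ↘ Spec (CommRingCat.of k))⟩
    haveI : IsProper (C.subscheme ↘ Spec (CommRingCat.of k)) :=
      inferInstanceAs (IsProper (C.subschemeι ≫ (X ↘ Spec (CommRingCat.of k))))
    have hpos := hnef C hC hd
    rw [Groth.Agent.AmpleDev.euler_sub_eq_deg k C hL] at hpos
    have hLC := Groth.Agent.PicClLib.isInvertible_pullback C.subschemeι hL
    obtain ⟨e⟩ : Nonempty (CohB1.tensorPow ((Scheme.Modules.pullback C.subschemeι).obj L) (m + 1) ≅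
        (Scheme.Modules.pullback C.subschemeι).obj (CohB1.tensorPow L (m + 1))) := Groth.Agent.H23.PicMul.cl_eq_iff.1 (by
      rw [Groth.Agent.H23.PicMul.cl_tensorPow]
      show PicF.pullCl C.subschemeι (PicF.cl L) ^ (m + 1) = PicF.pullCl C.subschemeι (PicF.cl (CohB1.tensorPow L (m + 1)))
      rw [Groth.Agent.H23.PicMul.cl_tensorPow, Groth.Agent.H23.PicMul.pullCl_pow])
    exact Groth.Agent.AmpleX.isAmple_of_iso e (Groth.Agent.AmpleX.isAmple_tensorPow
      (Groth.Agent.AmpleDev.isAmple_of_deg_pos k ((Groth.Agent.AmpleDev.dim_subscheme k C).trans hd) hLC hpos)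
      (Nat.succ_pos m))

end Groth.Agent.S16710
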