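import Groth.Statements.S1672
import Groth.Agent.CanonDual.FieldDvd
import Groth.Agent.CanonDual.Nodal

set_option autoImplicit false
universe u
open CategoryTheory CategoryTheory.Limits AlgebraicGeometry
attribute [local instance] HasDerivedCategory.standard
open Curves

namespace Groth.Agent.S1672

/-- Let X be proper of dimension one over k with global functions k, at-worst-nodal singularities and no
rational tail, and ω_X its dualizing module (as in the other rows: via f^! O, assuming Rf_* on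
D_QCoh and its right adjoint exist). Then for every reduced connected closed subscheme Y ≠ X of
dimension one, deg(ω_X|_Y) ≥ dim_k H^1(Y, O_Y) (computed as H^1(X, i_* O_Y) = H^1(X, O_X/J)). -/
theorem result (k : Type u) [Field k] (X : Scheme.{u}) [X.Over (Spec (CommRingCat.of k))] [IsProper (X ↘ (Spec (CommRingCat.of k)))] (hdim : topologicalKrullDim X = 1)
    (h0 : Module.finrank k (Coh.HH X (Coh.structureModule X) 0) = 1) (hX : Curv2.AtWorstNodal k X) (hnt : ∀ (C : Set X) (hC : C ∈ irreducibleComponents (X : Type u)), ¬ Curv2.IsRationalTail X C hC)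
    [DCoh.HasRpush (X ↘ (Spec (CommRingCat.of k)))] (h : DCoh.RpushPreservesQCoh (X ↘ (Spec (CommRingCat.of k)))) [DCoh.HasShriek (X ↘ (Spec (CommRingCat.of k))) h]
    (OY : DCoh.DQCoh (Spec (CommRingCat.of k))) (hOY : Nonempty (OY.obj ≅ DCoh.inD (Spec (CommRingCat.of k)) (Coh.structureModule (Spec (CommRingCat.of k)))))
    (J : X.IdealSheafData) [IsReduced J.subscheme] [ConnectedSpace J.subscheme]
    (hJ1 : topologicalKrullDim J.subscheme = 1) (hJne : J ≠ ⊥) :
    (Module.finrank k (Coh.HH X (ClSub.quotMod J) 1) : ℤ) ≤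
      @Curv2.deg k _ J.subscheme ⟨J.subschemeι ≫ (X ↘ (Spec (CommRingCat.of k)))⟩ ((Scheme.Modules.pullback J.subschemeι).obj (DCoh.dualizingMod (X ↘ (Spec (CommRingCat.of k))) h OY 1)) 1 := by
  haveI := Groth.Agent.CanonDual.isReduced_of_nodal k hdim.le hX
  have hXc := Groth.Agent.CanonDual.closedDimOne_of_h0 k hdim h0
  have huniv : (J.support : Set X) ≠ Set.univ := fun hu => by
    refine hJne (le_antisymm ?_ bot_le)
    have h1 : J ≤ Scheme.IdealSheafData.vanishingIdeal (⊤ : TopologicalSpace.Closeds X) :=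
      Scheme.IdealSheafData.le_support_iff_le_vanishingIdeal.1 (fun x _ => hu.ge trivial)
    rwa [Scheme.IdealSheafData.vanishingIdeal_top, Scheme.nilradical_eq_bot] at h1
  have hnn := Groth.Agent.CanonDual.deg_dualizing_nonneg_of_no_tail k hdim h0 hX hnt h OY hOY J hJ1 huniv
  have hdeg := Groth.Agent.CanonDual.deg_dualizingMod_restrict hdim h0 hX h OY hOY J hJ1
  obtain ⟨he, ⟨m, hm⟩, ⟨d, hd⟩⟩ := Groth.Agent.CanonDual.subcurve_dvd k hXc J hJ1
  letI : J.subscheme.Over (Spec (CommRingCat.of k)) := ⟨J.subschemeι ≫ (X ↘ Spec (CommRingCat.of k))⟩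
  haveI : IsProper (J.subscheme ↘ Spec (CommRingCat.of k)) :=
    inferInstanceAs (IsProper (J.subschemeι ≫ (X ↘ Spec (CommRingCat.of k))))
  rw [Groth.Agent.CanonDual.euler_two hJ1.le Groth.Agent.QCoh.isQCoh_structureModule,
    ← Groth.Agent.CanonDual.finrank_HH_quotMod (k := k) J 0,
    ← Groth.Agent.CanonDual.finrank_HH_quotMod (k := k) J 1] at hdeg
  have hd0 : d ≠ 0 := fun h => huniv (by
    haveI : Nonempty J.subscheme := inferInstance
    haveI : ConnectedSpace X := (Groth.Agent.CurveGenusCmp.oneDim_props k hdim h0).1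
    exact Groth.Agent.CanonDual.support_eq_univ_of_inter_zero (k := k) J (by rw [hd, h, mul_zero]))
  set e := Module.finrank k (Coh.HH X (ClSub.quotMod J) 0) with hedef
  rw [hdeg] at hnn ⊢
  rw [hm, hd] at hnn ⊢
  push_cast at hnn ⊢
  have he' : (0 : ℤ) < (e : ℤ) := by exact_mod_cast he
  have h2 : (2 : ℤ) ≤ 2 * (m : ℤ) + (d : ℤ) := by
    by_contra hlt
    push Not at hlt
    nlinarith
  have hkey : (2 : ℤ) ≤ (m : ℤ) + (d : ℤ) := by
    have h3 : 0 < d := Nat.pos_of_ne_zero hd0
    omega
  nlinarith [mul_le_mul_of_nonneg_left hkey he'.le]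

end Groth.Agent.S1672
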