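import Groth.Statements.S16721
import Groth.Agent.QuotLib.CatModuli
import Groth.Agent.GITQuot.Successive

set_option autoImplicit false
set_option linter.style.haveILetI false
set_option backward.isDefEq.respectTransparency false
set_option backward.isDefEq.respectTransparency.types false
universe u
open CategoryTheory MonoidalCategory CartesianMonoidalCategory AlgebraicGeometry
open AlgSt

namespace Groth.Agent.S16721

/-- The trivial torsor in its fibre. -/
noncomputable abbrev fibTriv {S : Scheme.{u}} {G : Over S} [GrpObj G] {X : Over S} (aX : AlgGrp.Action G X)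
    {T : Over S} (x : T ⟶ X) : (AlgSt.QuotSt Scheme.fppfPrecoverage G aX).p.Fiber T :=
  ⟨Groth.Agent.QuotLib.triv _ G aX x, rfl⟩

open CategoryTheory CategoryTheory.Functor CategoryTheory.Limits MonoidalCategory CartesianMonoidalCategory MonObj
  GrpObj AlgebraicGeometry AlgSp Opposite Groth.Agent.QuotLib Groth.Agent.FibBase Groth.Agent.AlgStLib
  Groth.Agent.AlgSpLib in
variable {S : Scheme.{u}} {G : Over S} [GrpObj G] {X : Over S} {aX : AlgGrp.Action G X} in
/-- Objects over the same scheme with a morphism over its identity are isomorphic in the fibre. -/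
theorem nonempty_fiber_iso {T : Over S} (a b : (AlgSt.QuotSt Scheme.fppfPrecoverage G aX).p.Fiber T)
    (h : a.1 ⟶ b.1) (hb : h.base = eqToHom (a.2.trans b.2.symm)) : Nonempty (a ≅ b) := by
  obtain ⟨A, rfl⟩ := a
  obtain ⟨B, hB⟩ := b
  let k : B ⟶ A := homLift h (𝟙 B) (eqToHom hB) (by
    rw [hb]
    exact (eqToHom_trans _ _).trans (eqToHom_refl _ _))
  have hkh : k ≫ h = 𝟙 B := homLift_comp _ _ _ _
  have hkb : k.base = eqToHom hB := rfl
  have hhk : h ≫ k = 𝟙 A := hom_ext_of_comp h (by
    show h.base ≫ k.base = 𝟙 _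
    rw [hb, hkb]
    exact (eqToHom_trans _ _).trans (eqToHom_refl _ _)) (by rw [Category.assoc, hkh, Category.comp_id, Category.id_comp])
  refine ⟨⟨⟨h, IsHomLift.of_fac' _ _ h rfl hB ?_⟩, ⟨k, IsHomLift.of_fac' _ _ k hB rfl ?_⟩, Subtype.ext hhk,
    Subtype.ext hkh⟩⟩
  · show h.base = _
    rw [hb]; simp
  · show k.base = _
    rw [hkb]; simp

/-- Let `S` be a scheme, `G` a group scheme over `S` whose structure morphism is affine, flat and
locally of finite presentation, acting on a scheme `X` over `S`, and `f : X ⟶ Y` a `G`-invariant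
morphism of schemes over `S`. Assume (i) for every algebraically closed field `Ω` and every `t :
Spec Ω ⟶ S`, every `Ω`-point of `Y` over `t` is the image of an `Ω`-point of `X`, and two `Ω`-points
of `X` over `t` with the same image in `Y` are translates of one another by an `Ω`-point of `G` (the
geometric fibres of `f` are the orbits of geometric points); (ii) `f` is a categorical quotient in
the category of algebraic spaces over `S`: every `G`-invariant map of fppf sheaves `h_X ⟶ N` to an
algebraic space `N` factors uniquely through `h_Y`. Then the functor `[X/G] ⟶ Y` over `(Sch/S)`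
induced by `f` (the one whose composite with `X ⟶ [X/G]` is the functor of `f`) is a coarse moduli
space: `h_Y` is an algebraic space, every functor from `[X/G]` to an algebraic space factors
uniquely through it, and for every algebraically closed `Ω` it is a bijection from isomorphism
classes of objects of `[X/G]` over `Spec Ω` onto `Y(Spec Ω)`. Here `[X/G]` is the fppf quotient
stack described by `G`-torsors that are schemes with an equivariant map to `X`. Of the source's
hypothesis that `f` is a geometric quotient only the condition (i) on geometric points enters, and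
only (i) is assumed. (The published setting has an affine base scheme; this row allows any base
scheme.) -/
theorem result (S : Scheme.{u}) (G : Over S) [GrpObj G]
    [IsAffineHom G.hom] [Flat G.hom] [LocallyOfFinitePresentation G.hom]
    (X Y : Over S) (aX : AlgGrp.Action G X) (f : X ⟶ Y)
    (hinv : aX.act ≫ f = snd G X ≫ f)
    (horb : ∀ (Ω : Type u) [Field Ω] [IsAlgClosed Ω] (t : Spec (CommRingCat.of Ω) ⟶ S),
      (∀ y : Over.mk t ⟶ Y, ∃ x : Over.mk t ⟶ X, x ≫ f = y) ∧
      (∀ x x' : Over.mk t ⟶ X, x ≫ f = x' ≫ f → ∃ g : Over.mk t ⟶ G, lift g x' ≫ aX.act = x))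
    (hcat : ∀ (N : AlgSp.Space S) (ψ : (AlgSp.yon S).obj X ⟶ N.obj),
      (AlgSp.yon S).map aX.act ≫ ψ = (AlgSp.yon S).map (snd G X) ≫ ψ →
        ∃! χ : (AlgSp.yon S).obj Y ⟶ N.obj, (AlgSp.yon S).map f ≫ χ = ψ)
    (π : AlgSt.QuotSt Scheme.fppfPrecoverage G aX ⥤ᵇ AlgSt.ofSch Y)
    (hπ : Nonempty (BasedFunctor.comp (AlgSt.quotMap Scheme.fppfPrecoverage G aX) π ≅
      AlgSt.ofSpMap ((AlgSp.yon S).map f))) :
    AlgSt.IsCoarseModuli π := by
  obtain ⟨e⟩ := hπ
  have hπf : Groth.Agent.QuotLib.restrHom π = (AlgSp.yon S).map f :=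
    (Groth.Agent.AlgStLib.spHom_congr e).trans (Groth.Agent.AlgStLib.spHom_ofSpMap _)
  refine ⟨⟨AlgSp.IsAlgSpace.yon_obj Y, fun N hN φ => ?_⟩, fun Ω _ _ t => ⟨fun m => ?_, ?_⟩⟩
  · obtain ⟨χ, hχ, huniq⟩ := hcat ⟨N, hN⟩ (Groth.Agent.QuotLib.restrHom φ)
      (Groth.Agent.QuotLib.restrHom_invariant φ)
    refine ⟨χ, ?_, fun g hg => huniq g ?_⟩
    · show Nonempty _
      rw [Groth.Agent.QuotLib.nonempty_iso_iff, Groth.Agent.QuotLib.restrHom_comp, hπf]
      exact hχ
    · have hg' := (Groth.Agent.QuotLib.nonempty_iso_iff _ _).1 hg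
      rw [Groth.Agent.QuotLib.restrHom_comp, hπf] at hg'
      exact hg'
  · obtain ⟨y⟩ := m
    obtain ⟨x, hx⟩ := (horb Ω t).1 y
    refine ⟨⟨Groth.Agent.QuotLib.triv _ G aX x, rfl⟩, ?_⟩
    have h := congrArg (fun (k : (AlgSp.yon S).obj X ⟶ (AlgSp.yon S).obj Y) =>
      k.hom.app (Opposite.op (Over.mk t)) ⟨x⟩) hπf
    refine h.trans ?_
    exact congrArg ULift.up hx
  · have key : ∀ A : (AlgSt.QuotSt Scheme.fppfPrecoverage G aX).p.Fiber (Over.mk t),
        ∃ x : Over.mk t ⟶ X, AlgSt.fibSec π A = ⟨x ≫ f⟩ ∧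
          Nonempty (fibTriv aX x ≅ A) := by
      rintro ⟨A, hA⟩
      have hp := Groth.Agent.QuotLib.fppf_π A
      haveI : LocallyOfFinitePresentation A.π.left := hp.2
      haveI : Surjective A.π.left := hp.1.1
      obtain ⟨b, hb⟩ := Groth.Agent.GITQuot.Successive.exists_point (T := Over.mk t) (Iso.refl _) A.π
        (eqToHom hA.symm) fun s => A.π.left.surjective _
      let h := Groth.Agent.QuotLib.trivHom (K := Scheme.fppfPrecoverage) A b (b ≫ A.φ) rfl
      have hbase : h.base = eqToHom hA.symm := hb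
      refine ⟨b ≫ A.φ, ?_, nonempty_fiber_iso (fibTriv aX (b ≫ A.φ)) ⟨A, hA⟩ h hbase⟩
      have h1 := Groth.Agent.AlgStLib.secAt_map π h
      have h2 := congrArg (fun (k : (AlgSp.yon S).obj X ⟶ (AlgSp.yon S).obj Y) =>
        k.hom.app (Opposite.op (Over.mk t)) ⟨b ≫ A.φ⟩) hπf
      refine Eq.trans ?_ (h1.trans h2)
      rw [show (AlgSt.QuotSt Scheme.fppfPrecoverage G aX).p.map h = eqToHom hA.symm from hbase]
      exact (Groth.Agent.AlgStLib.res_congr _ (eqToHom_trans _ _).symm _).trans (Groth.Agent.AlgStLib.res_res _ _ _ _).symm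
    intro A B hAB
    obtain ⟨x, hx, ⟨i⟩⟩ := key A
    obtain ⟨x', hx', ⟨i'⟩⟩ := key B
    obtain ⟨g, hg⟩ := (horb Ω t).2 x x' (ULift.up_injective (hx.symm.trans (hAB.trans hx')))
    obtain ⟨h, hb, -⟩ := (Groth.Agent.QuotLib.hom_triv_iff (K := Scheme.fppfPrecoverage) (G := G) (aX := aX)
      (𝟙 (Over.mk t)) x x').2 g (by rw [Category.id_comp]; exact hg)
    obtain ⟨j⟩ := nonempty_fiber_iso (fibTriv aX x) (fibTriv aX x') h (by rw [hb]; exact (eqToHom_refl _ _).symm)
    exact ⟨i.symm ≪≫ j ≪≫ i'⟩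

end Groth.Agent.S16721
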