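import Groth.Statements.S1673
import Groth.Agent.CanonDual.Bar
import Groth.Agent.CanonDual.Nef
import Groth.Agent.CanonDual.FieldDvd
import Groth.Agent.CurveBC.Generated
import Groth.Agent.S7641
-- import your own Groth.Agent.* helpers here

set_option autoImplicit false
universe u
open CategoryTheory CategoryTheory.Limits AlgebraicGeometry
attribute [local instance] HasDerivedCategory.standard
open Curves

namespace Groth.Agent.S1673

/-- Let X be proper of dimension one over k with global functions k, at-worst-nodal singularities and no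
rational tail, and ω_X its dualizing module (via f^! O, assuming Rf_* on D_QCoh and its right
adjoint exist). In genus 1, ω_X ≅ O_X; in genus at least 2, every tensor power ω_X^{⊗m} with m ≥ 2
is globally generated. -/
theorem result (k : Type u) [Field k] (X : Scheme.{u}) [X.Over (Spec (CommRingCat.of k))] [IsProper (X ↘ (Spec (CommRingCat.of k)))] (hdim : topologicalKrullDim X = 1)
    (h0 : Module.finrank k (Coh.HH X (Coh.structureModule X) 0) = 1) (hX : Curv2.AtWorstNodal k X) (hnt : ∀ (C : Set X) (hC : C ∈ irreducibleComponents (X : Type u)), ¬ Curv2.IsRationalTail X C hC)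
    [DCoh.HasRpush (X ↘ (Spec (CommRingCat.of k)))] (h : DCoh.RpushPreservesQCoh (X ↘ (Spec (CommRingCat.of k)))) [DCoh.HasShriek (X ↘ (Spec (CommRingCat.of k))) h]
    (OY : DCoh.DQCoh (Spec (CommRingCat.of k))) (hOY : Nonempty (OY.obj ≅ DCoh.inD (Spec (CommRingCat.of k)) (Coh.structureModule (Spec (CommRingCat.of k))))) :
    (Curv2.genus k X = 1 → Nonempty ((DCoh.dualizingMod (X ↘ (Spec (CommRingCat.of k))) h OY 1) ≅ Coh.structureModule X)) ∧
      (2 ≤ Curv2.genus k X → ∀ m : ℕ, 2 ≤ m → Curv2.IsGloballyGenerated (CohB1.tensorPow (DCoh.dualizingMod (X ↘ (Spec (CommRingCat.of k))) h OY 1) m)) := by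
  obtain ⟨hconn, -, hequi⟩ := Groth.Agent.CurveGenusCmp.oneDim_props k hdim h0
  haveI := hconn
  haveI := Groth.Agent.CanonDual.isReduced_of_nodal k hdim.le hX
  haveI := Groth.Agent.CurveCohLib.isNoetherian_of_proper (k := k) (X := X)
  have hnn : 1 ≤ Curv2.genus k X → ∀ (C : Set X) (hC : C ∈ irreducibleComponents (X : Type u)),
      0 ≤ @Curv2.deg k _ (Scheme.IdealSheafData.vanishingIdeal ⟨C, isClosed_of_mem_irreducibleComponents C hC⟩).subscheme
        ⟨(Scheme.IdealSheafData.vanishingIdeal ⟨C, isClosed_of_mem_irreducibleComponents C hC⟩).subschemeι ≫ (X ↘ Spec (CommRingCat.of k))⟩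
        ((Scheme.Modules.pullback (Scheme.IdealSheafData.vanishingIdeal ⟨C, isClosed_of_mem_irreducibleComponents C hC⟩).subschemeι).obj
          (DCoh.dualizingMod (X ↘ Spec (CommRingCat.of k)) h OY 1)) 1 := by
    intro hg C hC
    obtain ⟨e, δ, h1, he, hed, heh, hdeg, hz, htail, -⟩ := Groth.Agent.CanonDual.component_data k hdim h0 hX h OY hOY C hC
    rw [hdeg]
    rcases Nat.eq_zero_or_pos δ with hδ | hδ
    · obtain ⟨-, rfl, rfl⟩ := hz hδ
      subst hδ
      push_cast
      omega
    · obtain ⟨d, rfl⟩ := hed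
      obtain ⟨m, rfl⟩ := heh
      have hd0 : 0 < d := Nat.pos_of_mul_pos_left hδ
      have hkey : 2 ≤ 2 * m + d := by
        by_contra hlt
        have hm : m = 0 := by omega
        have hd : d = 1 := by omega
        subst hm hd
        exact hnt C hC (htail (mul_zero e) (mul_one e))
      have h4 : (2 : ℤ) ≤ 2 * (m : ℤ) + (d : ℤ) := by exact_mod_cast hkey
      have h5 : (0 : ℤ) ≤ (e : ℤ) := Int.natCast_nonneg e
      push_cast
      nlinarith [mul_le_mul_of_nonneg_left h4 h5]
  obtain ⟨tr, hω⟩ := Groth.Agent.CanonDual.exists_isRDualOver_dualizingMod h OY hOY (d := 1)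
    (fun M hM q hq => Groth.Agent.CanonDual.subsingleton_HH_curve k hdim.le hM hq)
  have hinv := Groth.Agent.CanonDual.isInvertible_dualizing_nodal hdim h0 hX hω
  have hXc := Groth.Agent.CanonDual.closedDimOne_of_h0 k hdim h0
  revert tr
  generalize DCoh.dualizingMod (X ↘ (Spec (CommRingCat.of k))) h OY 1 = ω at hnn hinv ⊢
  intro tr hω
  refine ⟨fun hg => ?_, fun hg m hm => ?_⟩
  · have hCM := fun x hx => Groth.Agent.CanonDual.cm_of_reduced (k := k) hXc x hx
    obtain ⟨hfin0, hdual⟩ : (0 < Module.finrank k (Coh.HH X ω 0)) ∧ Curv2.deg k X ω 1 = 0 := by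
      have e0 := Groth.Agent.CanonDual.finrank_HH_dualizing hdim hCM hω 0 (by omega)
      have e1 := Groth.Agent.CanonDual.finrank_HH_dualizing hdim hCM hω 1 le_rfl
      unfold Curv2.genus at hg
      rw [show (1 : ℕ) - 0 = 1 from rfl] at e0
      rw [show (1 : ℕ) - 1 = 0 from rfl, h0] at e1
      refine ⟨by omega, ?_⟩
      unfold Curv2.deg
      rw [Groth.Agent.CanonDual.euler_two hdim.le (Groth.Agent.ProjUPX.isQCoh_of_isInvertible hinv),
        Groth.Agent.CanonDual.euler_two hdim.le Groth.Agent.QCoh.isQCoh_structureModule, h0]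
      omega
    refine (Groth.Agent.S7641.result k X hequi ω hinv fun C hC => ?_).resolve_left fun hs =>
      hfin0.ne' (Module.finrank_zero_of_subsingleton)
    have hle := Groth.Agent.CanonDual.deg_component_le_total hdim hinv (hnn (by omega)) C hC
    rw [hdual] at hle
    rw [show (X.irreducibleComponentIdeal C hC).radical =
      Scheme.IdealSheafData.vanishingIdeal ⟨C, isClosed_of_mem_irreducibleComponents C hC⟩ from by
        rw [← Scheme.IdealSheafData.vanishingIdeal_support]; exact congrArg _ (TopologicalSpace.Closeds.ext rfl)]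
    exact hle
  · letI := Groth.Agent.CanonDual.barOver k X
    haveI := Groth.Agent.CanonDual.isProper_barOver k X
    have hpb := Groth.Agent.CanonDual.isPullback_barOver k X
    obtain ⟨_, _, hdim', -, hX', -, hdeg⟩ := Groth.Agent.CanonDual.bar_data k X hdim h0 hX hω
    have hL := Groth.Agent.InvX.isInvertible_tensorPow hinv m
    have hL' := Groth.Agent.PicClLib.isInvertible_pullback (Curv2.bcFst k X (AlgebraicClosure k)) hL
    obtain ⟨_, _⟩ := Groth.Agent.CurveBC.flat_surjective k (AlgebraicClosure k) _ hpb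
    haveI := quasiSeparatedSpace_of_quasiSeparated (X ↘ Spec (CommRingCat.of k))
    haveI := QuasiCompact.compactSpace_of_compactSpace (X ↘ Spec (CommRingCat.of k))
    haveI := Groth.Agent.CurveCohLib.isNoetherian_of_proper (k := AlgebraicClosure k) (X := Curv2.bc k X (AlgebraicClosure k))
    have hc := Groth.Agent.CurveDeg.isCoh_of_isInvertible hL
    refine Groth.Agent.CurveBC.isGloballyGenerated_of_pullback k (AlgebraicClosure k) _ hpb hc.1
      (Groth.Agent.CurveCohLib.finite_HH hc 0)
      (Groth.Agent.CurveCohLib.finite_HH (Groth.Agent.CurveDeg.isCoh_of_isInvertible hL') 0) ?_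
    refine (Groth.Agent.CanonDual.isGloballyGenerated_of_subcurves (k := AlgebraicClosure k) hdim' hX' hL' fun J h₁ h₂ h₃ => ?_).2
    obtain ⟨hb, hb0⟩ := hdeg J h₁ h₂ h₃
    have hpos := Groth.Agent.CanonDual.deg_pullback_nonneg_of_nef hdim.le hinv
      (fun C hC _ => hnn (by omega) C hC) hpb J h₃
    obtain ⟨e⟩ := Groth.Agent.HilbSnap.pullback_tensorPow (Curv2.bcFst k X (AlgebraicClosure k)) ω m
    have hmd := Groth.Agent.CanonDual.deg_restrict_tensorPow (k := AlgebraicClosure k) J h₃
      (Groth.Agent.PicClLib.isInvertible_pullback (Curv2.bcFst k X (AlgebraicClosure k)) hinv) m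
    letI : J.subscheme.Over (Spec (CommRingCat.of (AlgebraicClosure k))) :=
      ⟨J.subschemeι ≫ ((Curv2.bc k X (AlgebraicClosure k)) ↘ Spec (CommRingCat.of (AlgebraicClosure k)))⟩
    haveI : IsProper (J.subscheme ↘ Spec (CommRingCat.of (AlgebraicClosure k))) :=
      inferInstanceAs (IsProper (J.subschemeι ≫ ((Curv2.bc k X (AlgebraicClosure k)) ↘ Spec (CommRingCat.of (AlgebraicClosure k)))))
    have he : Curv2.deg (AlgebraicClosure k) J.subscheme ((Scheme.Modules.pullback J.subschemeι).obj
          ((Scheme.Modules.pullback (Curv2.bcFst k X (AlgebraicClosure k))).obj (CohB1.tensorPow ω m))) 1 =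
        Curv2.deg (AlgebraicClosure k) J.subscheme ((Scheme.Modules.pullback J.subschemeι).obj
          (CohB1.tensorPow ((Scheme.Modules.pullback (Curv2.bcFst k X (AlgebraicClosure k))).obj ω) m)) 1 := by
      unfold Curv2.deg
      rw [Groth.Agent.Euler.euler_congr (AlgebraicClosure k) ((Scheme.Modules.pullback J.subschemeι).mapIso e)]
    rw [he, hmd]
    have hm' : (2 : ℤ) ≤ (m : ℤ) := by exact_mod_cast hm
    have hg' : (2 : ℤ) ≤ (Curv2.genus k X : ℤ) := by exact_mod_cast hg
    have key : ∀ (d χ : ℤ) (δ : ℕ), d = -2 * χ + δ → (δ = 0 → d = 2 * (Curv2.genus k X : ℤ) - 2) →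
        0 ≤ d → -2 * χ + 1 < (m : ℤ) * d := by
      intro d χ δ hb hb0 hpos
      rcases eq_or_lt_of_le hpos with hd | hd
      · subst hd
        rcases Nat.eq_zero_or_pos δ with hδ | hδ
        · have := hb0 hδ; omega
        · rw [mul_zero]; omega
      · have : 2 * d ≤ (m : ℤ) * d := mul_le_mul_of_nonneg_right hm' hd.le
        omega
    exact key _ _ _ hb hb0 hpos

end Groth.Agent.S1673
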