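import Groth.Statements.S16731
import Groth.Agent.CanonDual.TailBridge

set_option autoImplicit false
set_option linter.style.haveILetI false
set_option backward.isDefEq.respectTransparency false
set_option backward.isDefEq.respectTransparency.types false
universe u
open CurvSt

namespace Groth.Agent.S16731

open CategoryTheory CategoryTheory.Limits AlgebraicGeometry in
/-- Let k be an algebraically closed field and X a proper connected scheme over k of dimension one with
at-worst-nodal singularities. For a natural number g the following are equivalent: (i) X, with no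
marked points, is a stable curve of genus g in the component form — dim H^1(X, O_X) = g, every
irreducible component which is a smooth rational curve (the image of a closed immersion of the
projective line) contains at least three points lying on other components, and 2g ≥ 3; (ii) dim
H^1(X, O_X) = g with g ≥ 2, and no irreducible component of X is a rational tail or a rational
bridge. (With no marked points the published statement excludes only genus one; it fails for the
projective line, which has genus zero, no rational tail and no rational bridge, and is not stable,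
so genus at least two is required in (ii) here — exactly what the inequality 2g ≥ 3 of (i) forces.) -/
theorem result (k : Type u) [Field k] [IsAlgClosed k] (X : Scheme.{u})
    [X.Over (Spec (CommRingCat.of k))] [IsProper (X ↘ Spec (CommRingCat.of k))] [ConnectedSpace X]
    (hdim : topologicalKrullDim X = 1) (hX : Curv2.AtWorstNodal k X) (g : ℕ) :
    CurvSt.IsStablePtd k X (X ↘ Spec (CommRingCat.of k)) g (Fin.elim0 : Fin 0 → X) ↔
      (Curv2.genus k X = g ∧ 2 ≤ g ∧
        (∀ (C : Set X) (hC : C ∈ irreducibleComponents (X : Type u)), ¬ Curv2.IsRationalTail X C hC) ∧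
        (∀ (C : Set X) (hC : C ∈ irreducibleComponents (X : Type u)), ¬ Curv2.IsRationalBridge k X C hC)) := by
  haveI := CurveCohLib.isNoetherian_of_proper (k := k) (X := X)
  haveI := CanonDual.isReduced_of_nodal k hdim.le hX
  unfold CurvSt.IsStablePtd
  constructor
  · rintro ⟨_, _, _, ⟨_, hgen⟩, -, -, hstab, hg⟩
    refine ⟨hgen, by omega, fun C hC ht => ?_, fun C hC ht => ?_⟩
    · obtain ⟨htail, -, hfin, hsm⟩ := CanonDual.tail_bridge_iff k hdim hX C hC
      obtain ⟨h1, hn⟩ := htail.1 ht
      have h3 := hstab C (hsm.2 h1)
      rw [CanonDual.meetPts_eq k C hC, ← hfin.cast_ncard_eq, hn, Nat.card_of_isEmpty, Nat.cast_zero, add_zero] at h3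
      exact absurd h3 (by norm_num)
    · obtain ⟨-, hbr, hfin, hsm⟩ := CanonDual.tail_bridge_iff k hdim hX C hC
      obtain ⟨h1, hn⟩ := hbr.1 ht
      have h3 := hstab C (hsm.2 h1)
      rw [CanonDual.meetPts_eq k C hC, ← hfin.cast_ncard_eq, hn, Nat.card_of_isEmpty, Nat.cast_zero, add_zero] at h3
      exact absurd h3 (by norm_num)
  · rintro ⟨hgen, hg, ht, hb⟩
    refine ⟨inferInstance, inferInstance, hdim, ⟨hX, hgen⟩, fun i => i.elim0, fun i => i.elim0, fun E hE => ?_, by omega⟩
    obtain ⟨htail, hbr, hfin, hsm⟩ := CanonDual.tail_bridge_iff k hdim hX E hE.1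
    have h1 := hsm.1 hE
    rw [CanonDual.meetPts_eq k E hE.1, ← hfin.cast_ncard_eq, Nat.card_of_isEmpty, Nat.cast_zero, add_zero]
    by_contra hlt
    rw [not_le] at hlt
    have hlt' : (E ∩ closure Eᶜ).ncard < 3 := by exact_mod_cast hlt
    rcases (show (E ∩ closure Eᶜ).ncard = 0 ∨ (E ∩ closure Eᶜ).ncard = 1 ∨ (E ∩ closure Eᶜ).ncard = 2 by omega) with
      h0 | h | h
    · have hEc := isClosed_of_mem_irreducibleComponents E hE.1
      have hint : closure Eᶜ = Eᶜ := Set.Subset.antisymm (fun y hy hyE => by
        rw [Set.ncard_eq_zero hfin] at h0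
        exact (Set.notMem_empty y) (h0 ▸ ⟨hyE, hy⟩)) subset_closure
      have huniv : E = Set.univ := by
        refine IsClopen.eq_univ ⟨hEc, ?_⟩ hE.1.1.nonempty
        rw [← compl_compl E, ← hint]
        exact isClosed_closure.isOpen_compl
      generalize hI : Scheme.IdealSheafData.vanishingIdeal
        (⟨E, hEc⟩ : TopologicalSpace.Closeds X) = IC at h1
      haveI : Surjective IC.subschemeι := by
        refine ⟨Set.range_eq_univ.1 ?_⟩
        rw [IC.range_subschemeι, ← hI, Scheme.IdealSheafData.coe_support_vanishingIdeal]
        exact huniv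
      haveI : IsIso IC.subschemeι := isIso_of_isClosedImmersion_of_surjective _
      letI : IC.subscheme.Over (Spec (CommRingCat.of k)) := ⟨IC.subschemeι ≫ (X ↘ Spec (CommRingCat.of k))⟩
      have hpb : IsPullback IC.subschemeι (IC.subscheme ↘ Spec (CommRingCat.of k)) (X ↘ Spec (CommRingCat.of k))
          (Spec.map (CommRingCat.ofHom (algebraMap k k))) := by
        haveI : IsIso (Spec.map (CommRingCat.ofHom (algebraMap k k))) := by
          rw [show CommRingCat.ofHom (algebraMap k k) = 𝟙 (CommRingCat.of k) from rfl, Spec.map_id]
          infer_instance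
        refine IsPullback.of_horiz_isIso ⟨?_⟩
        rw [show CommRingCat.ofHom (algebraMap k k) = 𝟙 (CommRingCat.of k) from rfl, Spec.map_id, Category.comp_id]
        rfl
      have h := CurveBC.finrank_hh_unit k k IC.subschemeι hpb 1
      have h2 : Module.finrank k (Coh.HH IC.subscheme (Coh.structureModule IC.subscheme) 1) = 0 :=
        Module.finrank_zero_of_subsingleton
      have : Curv2.genus k X = 0 := by
        first | exact h.trans h2 | exact h.symm.trans h2
      omega
    · exact ht E hE.1 (htail.2 ⟨h1, h⟩)
    · exact hb E hE.1 (hbr.2 ⟨h1, h⟩)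

end Groth.Agent.S16731
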