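import Groth.Statements.S1674
import Groth.Agent.CanonDual.Nodal

set_option autoImplicit false
set_option backward.isDefEq.respectTransparency.types false
universe u
open CategoryTheory CategoryTheory.Limits AlgebraicGeometry
attribute [local instance] HasDerivedCategory.standard
open Curves

namespace Groth.Agent.S1674

/-- Let X be proper of dimension one over k with global functions k and at-worst-nodal singularities,
ω_X its dualizing module (via f^! O, assuming Rf_* on D_QCoh and its right adjoint exist), and C ⊆ X
a rational bridge, viewed as a reduced closed subscheme. Then the restriction of ω_X to C has degree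
zero (over k). -/
theorem result (k : Type u) [Field k] (X : Scheme.{u}) [X.Over (Spec (CommRingCat.of k))] [IsProper (X ↘ (Spec (CommRingCat.of k)))] (hdim : topologicalKrullDim X = 1)
    (h0 : Module.finrank k (Coh.HH X (Coh.structureModule X) 0) = 1) (hX : Curv2.AtWorstNodal k X)
    [DCoh.HasRpush (X ↘ (Spec (CommRingCat.of k)))] (h : DCoh.RpushPreservesQCoh (X ↘ (Spec (CommRingCat.of k)))) [DCoh.HasShriek (X ↘ (Spec (CommRingCat.of k))) h]
    (OY : DCoh.DQCoh (Spec (CommRingCat.of k))) (hOY : Nonempty (OY.obj ≅ DCoh.inD (Spec (CommRingCat.of k)) (Coh.structureModule (Spec (CommRingCat.of k)))))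
    (C : Set X) (hC : C ∈ irreducibleComponents (X : Type u)) (hCb : Curv2.IsRationalBridge k X C hC) :
    @Curv2.deg k _ (Scheme.IdealSheafData.vanishingIdeal ⟨C, isClosed_of_mem_irreducibleComponents C hC⟩).subscheme
        ⟨(Scheme.IdealSheafData.vanishingIdeal ⟨C, isClosed_of_mem_irreducibleComponents C hC⟩).subschemeι ≫ (X ↘ (Spec (CommRingCat.of k)))⟩
        ((Scheme.Modules.pullback (Scheme.IdealSheafData.vanishingIdeal ⟨C, isClosed_of_mem_irreducibleComponents C hC⟩).subschemeι).obj (DCoh.dualizingMod (X ↘ (Spec (CommRingCat.of k))) h OY 1)) 1 = 0 := by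
  obtain ⟨-, -, hequi⟩ := Groth.Agent.CurveGenusCmp.oneDim_props k hdim h0
  haveI := Groth.Agent.CanonDual.isReduced_of_nodal k hdim.le hX
  obtain ⟨hconn, hC1⟩ := Groth.Agent.CanonDual.component_props hequi C hC
  haveI := hconn
  let IC := Scheme.IdealSheafData.vanishingIdeal ⟨C, isClosed_of_mem_irreducibleComponents C hC⟩
  letI : IC.subscheme.Over (Spec (CommRingCat.of k)) := ⟨IC.subschemeι ≫ (X ↘ Spec (CommRingCat.of k))⟩
  haveI : IsProper (IC.subscheme ↘ Spec (CommRingCat.of k)) := inferInstanceAs (IsProper (IC.subschemeι ≫ _))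
  haveI : IsReduced IC.subscheme := Groth.Agent.H23.RedSub.isReduced_vanishingIdeal _
  haveI : ConnectedSpace IC.subscheme := hconn
  have hdeg := Groth.Agent.CanonDual.deg_dualizingMod_restrict hdim h0 hX h OY hOY IC hC1
  rw [Groth.Agent.CanonDual.euler_two hC1.le Groth.Agent.QCoh.isQCoh_structureModule] at hdeg
  have hker := Groth.Agent.CanonDual.compl_component k C (isClosed_of_mem_irreducibleComponents C hC)
  obtain ⟨-, h2, h3⟩ := hCb
  rw [hker, Groth.Agent.CanonDual.finrank_HH_quotMod IC 0] at h2
  haveI := h3
  rw [h2, Module.finrank_zero_of_subsingleton (M := Coh.HH IC.subscheme (Coh.structureModule IC.subscheme) 1)] at hdeg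
  exact hdeg.trans (by push_cast; ring)

end Groth.Agent.S1674
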