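import Groth.Statements.S16742
import Mathlib
import Groth.Agent.LocalCrit.Flatness

set_option autoImplicit false
universe u
open CAlg

open scoped TensorProduct

namespace Groth.Agent.S16742

/-- The equivalence in affine form, with flatness of the reduction in place of smoothness. Let p be a
prime, A~ a commutative ring flat over Z/p^2 and B~ an A~-algebra such that B~/pB~ is flat over
A~/pA~. Then B~ is flat over A~ if and only if every element of B~ killed by p is a multiple of p;
equivalently multiplication by p identifies B~/pB~ with pB~. (The published statement assumes the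
reduction smooth over A~/pA~ and the schemes noetherian, and phrases (b) as B~ being a lifting, that
is flat over A~; the statement here assumes only that the reduction is flat, where the equivalence
still holds by the local flatness criterion for the square-zero ideal generated by p.) -/
theorem result (p : ℕ) [Fact p.Prime]
    (Al : Type u) [CommRing Al] [Algebra (ZMod (p ^ 2)) Al] [Module.Flat (ZMod (p ^ 2)) Al]
    (Bl : Type u) [CommRing Bl] [Algebra Al Bl]
    (hB : Module.Flat (Al ⧸ Ideal.span {(p : Al)})
      (Bl ⧸ (Ideal.span {(p : Al)}).map (algebraMap Al Bl))) :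
    Module.Flat Al Bl ↔ ∀ b : Bl, (p : Bl) * b = 0 → b ∈ Ideal.span {(p : Bl)} := by
  classical
  let Z := ZMod (p ^ 2)
  have hp2 : (p : Al) * (p : Al) = 0 := by
    have h0 : ((p ^ 2 : ℕ) : Al) = 0 := by
      rw [← map_natCast (algebraMap Z Al), ZMod.natCast_self, map_zero]
    rwa [pow_two, Nat.cast_mul] at h0
  have hexA : Function.Exact (LinearMap.lsmul Al Al (p : Al)) (LinearMap.lsmul Al Al (p : Al)) := by
    have hexZ : Function.Exact (LinearMap.lsmul Z Z (p : Z)) (LinearMap.lsmul Z Z (p : Z)) := by
      intro z
      haveI : NeZero (p ^ 2) := ⟨pow_ne_zero 2 (Fact.out : p.Prime).ne_zero⟩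
      constructor
      · intro hz
        have h1 : ((p * z.val : ℕ) : Z) = 0 := by
          rw [Nat.cast_mul, ZMod.natCast_zmod_val]; exact hz
        rw [ZMod.natCast_eq_zero_iff] at h1
        obtain ⟨c, hc⟩ := Nat.dvd_of_mul_dvd_mul_left (Fact.out : p.Prime).pos ((dvd_of_eq (pow_two p).symm).trans h1)
        exact ⟨(c : Z), by show (p : Z) * (c : Z) = z; rw [← Nat.cast_mul, ← hc, ZMod.natCast_zmod_val]⟩
      · rintro ⟨w, rfl⟩
        show (p : Z) * ((p : Z) * w) = 0
        rw [← mul_assoc, ← Nat.cast_mul, ← pow_two, ZMod.natCast_self, zero_mul]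
    have h1 := Module.Flat.lTensor_exact (R := Z) Al hexZ
    intro a
    have h2 := h1 (a ⊗ₜ[Z] (1 : Z))
    have key : ∀ y : Al ⊗[Z] Z, TensorProduct.rid Z Al ((LinearMap.lsmul Z Z (p : Z)).lTensor Al y) =
        (p : Al) * TensorProduct.rid Z Al y := by
      intro y
      induction y using TensorProduct.induction_on with
      | zero => simp
      | tmul a z =>
        simp only [LinearMap.lTensor_tmul, LinearMap.lsmul_apply, TensorProduct.rid_tmul, smul_eq_mul]
        rw [mul_smul, Algebra.smul_def (p : Z), map_natCast]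
      | add x y hx hy => rw [map_add, map_add, hx, hy, map_add, mul_add]
    constructor
    · intro ha
      obtain ⟨y, hy⟩ := h2.mp ((TensorProduct.rid Z Al).injective (by
        rw [key, map_zero, TensorProduct.rid_tmul, one_smul]; exact ha))
      refine ⟨TensorProduct.rid Z Al y, ?_⟩
      show (p : Al) * _ = a
      rw [← key, hy, TensorProduct.rid_tmul, one_smul]
    · rintro ⟨w, rfl⟩
      show (p : Al) * ((p : Al) * w) = 0
      rw [← mul_assoc, hp2, zero_mul]
  constructor
  · intro _ b hb
    have h1 := Module.Flat.lTensor_exact (R := Al) Bl hexA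
    have key : ∀ y : Bl ⊗[Al] Al, TensorProduct.rid Al Bl ((LinearMap.lsmul Al Al (p : Al)).lTensor Bl y) =
        (p : Bl) * TensorProduct.rid Al Bl y := by
      intro y
      induction y using TensorProduct.induction_on with
      | zero => simp
      | tmul a z =>
        simp only [LinearMap.lTensor_tmul, LinearMap.lsmul_apply, TensorProduct.rid_tmul, smul_eq_mul]
        rw [mul_smul, Algebra.smul_def (p : Al), map_natCast]
      | add x y hx hy => rw [map_add, map_add, hx, hy, map_add, mul_add]
    obtain ⟨y, hy⟩ := (h1 (b ⊗ₜ[Al] (1 : Al))).mp ((TensorProduct.rid Al Bl).injective (by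
      rw [key, map_zero, TensorProduct.rid_tmul, one_smul]; exact hb))
    refine Ideal.mem_span_singleton'.mpr ⟨TensorProduct.rid Al Bl y, ?_⟩
    rw [mul_comm, ← key, hy, TensorProduct.rid_tmul, one_smul]
  · intro h
    let I : Ideal Al := Ideal.span {(p : Al)}
    refine Groth.Agent.LocalCrit.flat_of_isNilpotent I Bl ⟨2, ?_⟩ ?_ ?_
    · rw [Ideal.span_singleton_pow, pow_two, hp2, Ideal.zero_eq_bot, Ideal.span_singleton_eq_bot]
    · rw [injective_iff_map_eq_zero]
      intro z hz
      let pI : I := ⟨(p : Al), Ideal.mem_span_singleton_self _⟩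
      obtain ⟨b, rfl⟩ : ∃ b : Bl, z = pI ⊗ₜ[Al] b := by
        clear hz
        induction z using TensorProduct.induction_on with
        | zero => exact ⟨0, (TensorProduct.tmul_zero _ _).symm⟩
        | tmul x b =>
          obtain ⟨x, hx⟩ := x
          obtain ⟨a, rfl⟩ := Ideal.mem_span_singleton'.mp hx
          exact ⟨a • b, by rw [show (⟨a * (p : Al), hx⟩ : I) = a • pI from rfl, TensorProduct.smul_tmul]⟩
        | add x y hx hy =>
          obtain ⟨b, rfl⟩ := hx
          obtain ⟨c, rfl⟩ := hy
          exact ⟨b + c, (TensorProduct.tmul_add _ _ _).symm⟩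
      have hb : (p : Bl) * b = 0 := by
        have := congrArg (TensorProduct.lid Al Bl) hz
        rw [LinearMap.rTensor_tmul, map_zero, TensorProduct.lid_tmul] at this
        rw [← map_natCast (algebraMap Al Bl), ← Algebra.smul_def]
        exact this
      obtain ⟨c, rfl⟩ := Ideal.mem_span_singleton'.mp (h b hb)
      rw [mul_comm, ← map_natCast (algebraMap Al Bl), ← Algebra.smul_def, ← TensorProduct.smul_tmul,
        show (p : Al) • pI = 0 from Subtype.ext hp2, TensorProduct.zero_tmul]
    · let e0 : ((Al ⧸ I) ⊗[Al] Bl) ≃ₗ[Al] (Bl ⧸ (I.map (algebraMap Al Bl))) :=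
        (TensorProduct.quotTensorEquivQuotSMul Bl I).trans ((Submodule.quotEquivOfEq _ _ (Ideal.smul_top_eq_map I)).trans
          (Submodule.Quotient.restrictScalarsEquiv Al (I.map (algebraMap Al Bl))))
      haveI : Module.Flat (Al ⧸ I) (Bl ⧸ (I.map (algebraMap Al Bl))) := hB
      haveI : Module.Flat (Al ⧸ I) ((Al ⧸ I) ⊗[Al] Bl) :=
        Module.Flat.of_linearEquiv (e0.extendScalarsOfSurjective (S := Al ⧸ I) Ideal.Quotient.mk_surjective)
      exact Groth.Agent.LocalCrit.keepsInjective_of_flat I Bl

end Groth.Agent.S16742
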