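import Groth.Statements.S1675
import Groth.Agent.CanonDual.Components
import Groth.Agent.CanonDual.Nodal

set_option autoImplicit false
universe u
open CategoryTheory CategoryTheory.Limits AlgebraicGeometry
attribute [local instance] HasDerivedCategory.standard
open Curves

namespace Groth.Agent.S1675

/-- Let X be proper of dimension one over k with global functions k and at-worst-nodal singularities, of
genus g ≥ 2, with no rational tail and no rational bridge, and let ω_X be its dualizing module (via
f^! O, assuming Rf_* on D_QCoh and its right adjoint exist). Then ω_X is ample. -/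
theorem result (k : Type u) [Field k] (X : Scheme.{u}) [X.Over (Spec (CommRingCat.of k))] [IsProper (X ↘ (Spec (CommRingCat.of k)))] (hdim : topologicalKrullDim X = 1)
    (h0 : Module.finrank k (Coh.HH X (Coh.structureModule X) 0) = 1) (hX : Curv2.AtWorstNodal k X) (hnt : ∀ (C : Set X) (hC : C ∈ irreducibleComponents (X : Type u)), ¬ Curv2.IsRationalTail X C hC)
    (hnb : ∀ (C : Set X) (hC : C ∈ irreducibleComponents (X : Type u)), ¬ Curv2.IsRationalBridge k X C hC) (hg : 2 ≤ Curv2.genus k X)
    [DCoh.HasRpush (X ↘ (Spec (CommRingCat.of k)))] (h : DCoh.RpushPreservesQCoh (X ↘ (Spec (CommRingCat.of k)))) [DCoh.HasShriek (X ↘ (Spec (CommRingCat.of k))) h]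
    (OY : DCoh.DQCoh (Spec (CommRingCat.of k))) (hOY : Nonempty (OY.obj ≅ DCoh.inD (Spec (CommRingCat.of k)) (Coh.structureModule (Spec (CommRingCat.of k))))) :
    CohB1.IsAmple (DCoh.dualizingMod (X ↘ (Spec (CommRingCat.of k))) h OY 1) := by
  haveI := Groth.Agent.CurveCohLib.isNoetherian_of_proper (k := k) (X := X)
  obtain ⟨tr, hω⟩ := Groth.Agent.CanonDual.exists_isRDualOver_dualizingMod h OY hOY (d := 1)
    (fun M hM q hq => Groth.Agent.CanonDual.subsingleton_HH_curve k hdim.le hM hq)
  refine Groth.Agent.AmpleDev.isAmple_of_deg_pos_components k hdim.le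
    (Groth.Agent.CanonDual.isInvertible_dualizing_nodal hdim h0 hX hω) fun C hC _ => ?_
  have hI : (X.irreducibleComponentIdeal C hC).radical =
      Scheme.IdealSheafData.vanishingIdeal ⟨C, isClosed_of_mem_irreducibleComponents C hC⟩ := by
    rw [← Scheme.IdealSheafData.vanishingIdeal_support]
    exact congrArg _ (TopologicalSpace.Closeds.ext rfl)
  rw [hI]
  obtain ⟨e, δ, h1, he, hed, heh, hdeg, hz, htail, hbridge⟩ :=
    Groth.Agent.CanonDual.component_data k hdim h0 hX h OY hOY C hC
  rw [hdeg]
  rcases Nat.eq_zero_or_pos δ with hδ | hδ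
  · obtain ⟨-, he1, hh⟩ := hz hδ
    subst he1 hh hδ
    push_cast
    omega
  · obtain ⟨d, rfl⟩ := hed
    obtain ⟨m, rfl⟩ := heh
    rcases Nat.eq_zero_or_pos m with hm | hm
    · subst hm
      have h1 : d ≠ 1 := fun hd => hnt C hC (htail (mul_zero e) (by rw [hd, mul_one]))
      have h2 : d ≠ 2 := fun hd => hnb C hC (hbridge (mul_zero e) (by rw [hd, mul_comm]))
      have h3 : 3 ≤ d := by
        rcases d with _ | _ | _ | d
        · simp at hδ
        all_goals omega
      have h4 : (3 : ℤ) ≤ (d : ℤ) := by exact_mod_cast h3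
      have h5 : (0 : ℤ) < (e : ℤ) := by exact_mod_cast he
      push_cast
      nlinarith
    · have h4 : (1 : ℤ) ≤ (m : ℤ) := by exact_mod_cast hm
      have h5 : (0 : ℤ) < (e : ℤ) := by exact_mod_cast he
      have h6 : (0 : ℤ) < ((e * d : ℕ) : ℤ) := by exact_mod_cast hδ
      push_cast at h6 ⊢
      nlinarith

end Groth.Agent.S1675
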