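import Groth.Statements.S16754
import Groth.Agent.Lib.SmoothCurveFam

set_option autoImplicit false
set_option linter.style.haveILetI false
set_option linter.unusedSectionVars false
set_option backward.isDefEq.respectTransparency false
set_option backward.isDefEq.respectTransparency.types false
set_option maxHeartbeats 1000000
universe u
open CurvSt

namespace Groth.Agent.S16754

open Groth.Agent

open AlgebraicGeometry CategoryTheory Limits in
theorem conn_of_integral {X Y : Scheme.{u}} (f : X ⟶ Y) [hf : GeometricallyIntegral f] : GeometricallyConnected f := by
  refine ⟨fun K hK y Z fst snd h => ?_⟩
  haveI : IsIntegral Z := hf.geometrically_isIntegral _ _ _ h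
  exact inferInstanceAs (ConnectedSpace Z)


open CategoryTheory CategoryTheory.Limits AlgebraicGeometry in
/-- Let k be a field and X a scheme which is proper and smooth over k and of dimension one. Then the
following are equivalent: dim_k H^0(X, O_X) = 1 (the ground field is the ring of global functions);
X is geometrically connected over k; X is geometrically integral over k. (The remaining conditions
of the source concern membership in an open substack of the stack of curves and are not stated.) -/
theorem result (k : Type u) [Field k]
    (X : Scheme.{u}) [X.Over (Spec (CommRingCat.of k))] [IsProper (X ↘ Spec (CommRingCat.of k))]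
    [Smooth (X ↘ Spec (CommRingCat.of k))] (hdim : topologicalKrullDim ↥X = 1) :
    (Module.finrank k (Coh.HH X (Coh.structureModule X) 0) = 1 ↔ GeometricallyConnected (X ↘ Spec (CommRingCat.of k))) ∧
      (GeometricallyConnected (X ↘ Spec (CommRingCat.of k)) ↔ GeometricallyIntegral (X ↘ Spec (CommRingCat.of k))) := by
  refine ⟨⟨fun h => ?_, fun h => haveI := h; CurveBC.finrank_h0_of_geometricallyConnected k X⟩,
    ⟨fun h => haveI := h; SmoothCurveFam.geometricallyIntegral k X (CurveBC.finrank_h0_of_geometricallyConnected k X), fun h => ?_⟩⟩
  · haveI := SmoothCurveFam.geometricallyIntegral k X h
    exact conn_of_integral _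
  · haveI := h
    exact conn_of_integral _

end Groth.Agent.S16754
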