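import Groth.Statements.S16758
import Groth.Agent.Lib.GammaDescent
import Groth.Agent.S16759
-- import your own Groth.Agent.* helpers here

set_option autoImplicit false
universe u
open PicF

set_option backward.isDefEq.respectTransparency false
set_option backward.isDefEq.respectTransparency.types false
set_option synthInstance.maxHeartbeats 400000
set_option maxHeartbeats 1000000
set_option linter.style.haveILetI false
attribute [-instance] CategoryTheory.catToReflQuiver

namespace Groth.Agent.S16758

open AlgebraicGeometry CategoryTheory CategoryTheory.Limits in
/-- (2) ⇔ (3): let f : X → Y be proper and flat with Y locally Noetherian. Then dim_{κ(y)} H⁰(X_y,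
O_{X_y}) = 1 for every point y of Y if and only if for every morphism T → Y the base change f_T : X
×_Y T → T induces isomorphisms O_T(U) → O_{X ×_Y T}(f_T⁻¹ U) on all opens U of T, i.e. O_T = (f_T)_*
O universally. (The published statement takes X and Y Noetherian; the argument is local on Y, so Y
is only assumed locally Noetherian here.) -/
theorem result {X Y : Scheme.{u}} (f : X ⟶ Y)
    [IsProper f] [Flat f] [IsLocallyNoetherian Y] :
    (∀ y : Y, Module.finrank (Y.residueField y) Γ(f.fiber y, ⊤) = 1) ↔
      ∀ (T : Scheme.{u}) (g : T ⟶ Y) (U : T.Opens), IsIso ((pullback.snd f g).app U) := by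
  open Groth.Agent in
  haveI : LocallyOfFinitePresentation f := inferInstance
  open Groth.Agent in
  constructor
  · intro h T g U
    open Groth.Agent in
    haveI : Surjective f := ⟨fun y => by
      by_contra hy
      haveI : IsEmpty ↥(f.fiber y) := ⟨fun x => hy ⟨f.fiberι y x, by
        rw [← Set.mem_singleton_iff, ← Set.mem_preimage, ← f.range_fiberι y]; exact ⟨x, rfl⟩⟩⟩
      haveI : Subsingleton Γ(f.fiber y, ⊤) := inferInstance
      have := h y
      rw [Module.finrank_zero_of_subsingleton] at this
      exact zero_ne_one this⟩
    open Groth.Agent in
    haveI : Surjective (pullback.snd f g) := inferInstance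
    open Groth.Agent in
    exact (ConcreteCategory.isIso_iff_bijective _).2
      (GammaDescent.bijective_app (pullback.snd f g) ((S16759.constFibres f h).baseChange g) U)
  · intro h y
    open Groth.Agent in
    haveI := h _ (Y.fromSpecResidueField y) ⊤
    open Groth.Agent in
    have hb : Function.Bijective ((Scheme.ΓSpecIso (Y.residueField y)).inv ≫ (f.fiberToSpecResidueField y).appTop) :=
      (ConcreteCategory.bijective_of_isIso ((pullback.snd f (Y.fromSpecResidueField y)).app ⊤)).comp
        (ConcreteCategory.bijective_of_isIso (Scheme.ΓSpecIso (Y.residueField y)).inv)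
    open Groth.Agent in
    rw [← (LinearEquiv.ofBijective (Algebra.linearMap (Y.residueField y) Γ(f.fiber y, ⊤)) hb).finrank_eq]
    exact Module.finrank_self _


end Groth.Agent.S16758
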