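import Groth.Statements.S16775
import Groth.Agent.Deform.Luna.CentralPreimage

set_option autoImplicit false
open CategoryTheory MonoidalCategory CartesianMonoidalCategory MonObj GrpObj AlgebraicGeometry
universe u
open SGA3x

namespace Groth.Agent.S16775
attribute [local instance] CategoryTheory.Hom.monoid CategoryTheory.Hom.group
open CategoryTheory.Limits
set_option linter.style.haveILetI false

/-- Let G be a smooth affine group scheme with connected fibres over a scheme S, H ⊆ G a normal subgroup
scheme of multiplicative type (of finite type), G → Q = G/H the quotient, and H' ⊆ Q a central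
subgroup scheme of multiplicative type (of finite type). Then the preimage of H' in G is a central
subgroup scheme of G of multiplicative type. -/
theorem result {S : Scheme.{u}} {G H Q H' P : Over S}
    [GrpObj G] [GrpObj H] [GrpObj Q] [GrpObj H'] [GrpObj P]
    (hG : Smooth G.hom) (hGa : IsAffineHom G.hom) (hconn : ∀ s : S, _root_.IsConnected (G.hom.base ⁻¹' {s}))
    (i : H ⟶ G) [IsMonHom i] [Mono i] (hH : SGA3x.IsMultTypeFT H) (hHn : AlgGrp.IsNormalHom i)
    (q : G ⟶ Q) [IsMonHom q] (hq : RedSub.IsQuotient i q) (hker : AlgGrp.IsKernel i q)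
    (j : H' ⟶ Q) [IsMonHom j] [Mono j] (hH' : SGA3x.IsMultTypeFT H')
    (hcenH' : ∀ (X : Over S) (x : X ⟶ H') (g : X ⟶ Q), (x ≫ j) * g = g * (x ≫ j))
    (i' : P ⟶ G) [IsMonHom i'] (p : P ⟶ H') (hP : IsPullback i' p q j) :
    SGA3x.IsMultTypeFT P ∧ ∀ (X : Over S) (x : X ⟶ P) (g : X ⟶ G), (x ≫ i') * g = g * (x ≫ i') := by
  haveI := hGa; haveI := hq.1; haveI := hq.2.1; haveI := hq.2.2.1
  haveI : IsAffineHom H.hom := (TransLib.multTypeFT_essFree hH).1
  have hqc : FpqcDescLib.Covers q.left := FpqcDescLib.covers_of_isCovering (FpqcDescLib.isCovering_of_lfp q.left)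
  haveI : MorphismProperty.DescendsAlong (@IsAffineHom : MorphismProperty Scheme.{u})
      (@Surjective ⊓ @Flat ⊓ @QuasiCompact) := EtFound.fpqc_isAffineHom
  haveI : IsAffineHom q.left := Deform.Extension.property_quot hker hqc @IsAffineHom ‹_›
  haveI : QuasiCompact q.left := inferInstance
  have hQ : ∀ s : S, _root_.IsConnected (Q.hom.base ⁻¹' {s}) := fun s => by
    have e : q.left '' (G.hom.base ⁻¹' {s}) = Q.hom.base ⁻¹' {s} := by
      rw [← Over.w q]
      ext y
      constructor
      · rintro ⟨x, hx, rfl⟩
        exact hx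
      · intro hy
        obtain ⟨x, rfl⟩ := q.left.surjective y
        exact ⟨x, hy, rfl⟩
    rw [← e]
    exact (hconn s).image _ q.left.continuous.continuousOn
  haveI : IsMonHom p := Deform.Luna.isMonHom_snd hP
  exact (Deform.Luna.central_preimage (fun s => (hconn s).isPreconnected) i hH
    (S5430.result S G H Q q i hker hH hQ) q hker j hH' hcenH' i' p hP).1

end Groth.Agent.S16775
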