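import Groth.Statements.S16785
import Groth.Agent.Deform.WeilGeomInt.Over
import Groth.Agent.AlgSpPts.Sep


set_option autoImplicit false
open CategoryTheory MonoidalCategory CartesianMonoidalCategory MonObj GrpObj AlgebraicGeometry
universe u
open SGA3x

namespace Groth.Agent.S16785
open CategoryTheory.Limits
attribute [local instance] CategoryTheory.Hom.monoid CategoryTheory.Hom.group
set_option linter.style.haveILetI false

/-- Let G be an affine group scheme of finite presentation over a scheme S and Y ⊆ G a closed subscheme
of finite presentation, smooth over S with non-empty geometrically connected fibres. Then the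
centralizer of Y in G is representable by a closed subscheme of G. (The published statement asks
only that the fibres of Y be connected; this row asks them to be geometrically connected, the case
the printed argument treats.) -/
theorem result {S : Scheme.{u}} (G Y : Over S) [GrpObj G]
    (hGa : IsAffineHom G.hom) (hGfp : LocallyOfFinitePresentation G.hom)
    (y : Y ⟶ G) (hy : IsClosedImmersion y.left) (hYs : Smooth Y.hom) (hYfp : LocallyOfFinitePresentation Y.hom)
    (hYc : ∀ s : S, ConnectedSpace ↥(Red.geomFibre s Y).left) :
    ∃ (C : Over S) (c : C ⟶ G), IsClosedImmersion c.left ∧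
      ∀ (X : Over S) (g : X ⟶ G), (∃ z : X ⟶ C, z ≫ c = g) ↔
        ∀ (X' : Over S) (x : X' ⟶ X) (a : X' ⟶ Y), (x ≫ g) * (a ≫ y) = (a ≫ y) * (x ≫ g) := by
  haveI := hYs
  haveI := hGa
  let d : G ⟶ G ⊗ G := lift (𝟙 G) (𝟙 G)
  have hdd : d.left = pullback.diagonal G.hom := by
    apply pullback.hom_ext
    · rw [pullback.diagonal_fst]; exact congrArg CommaMorphism.left (lift_fst (𝟙 G) (𝟙 G))
    · rw [pullback.diagonal_snd]; exact congrArg CommaMorphism.left (lift_snd (𝟙 G) (𝟙 G))
  haveI : IsClosedImmersion d.left := by rw [hdd]; infer_instance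
  obtain ⟨C, c, hc, -, hu⟩ := Deform.WeilGeomInt.exists_locus_forall G Y (G ⊗ G) G hYc
    (lift (fst G Y * (snd G Y ≫ y)) ((snd G Y ≫ y) * fst G Y)) d
  refine ⟨C, c, hc, fun X g => (hu X g).trans ?_⟩
  refine forall_congr' fun X' => forall_congr' fun x => forall_congr' fun a => ⟨?_, fun h => ⟨(x ≫ g) * (a ≫ y), ?_⟩⟩
  · rintro ⟨a', ha'⟩
    have e1 := congrArg (· ≫ fst G G) ha'
    have e2 := congrArg (· ≫ snd G G) ha'
    simp only [d, Category.assoc, lift_fst, lift_snd, MonObj.comp_mul, lift_snd_assoc, Category.comp_id] at e1 e2
    exact e1.trans e2.symm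
  · apply CartesianMonoidalCategory.hom_ext
    · simp only [d, Category.assoc, lift_fst, MonObj.comp_mul, lift_snd_assoc, Category.comp_id]
    · simp only [d, Category.assoc, lift_snd, MonObj.comp_mul, lift_fst, lift_snd_assoc, Category.comp_id]
      exact h.symm

end Groth.Agent.S16785
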