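import Groth.Statements.S16786
import Groth.Agent.Deform.SubMT.Slice


set_option autoImplicit false
open CategoryTheory MonoidalCategory CartesianMonoidalCategory MonObj GrpObj AlgebraicGeometry
universe u
open CategoryTheory.Limits
open SGA3x

namespace Groth.Agent.S16786

/-- Let G be a smooth affine group scheme over a scheme S, s ∈ S, and H₀ a subgroup scheme of
multiplicative type of the fibre G_s. Then H₀ lifts to a subgroup scheme of multiplicative type of G
over an etale neighbourhood of s with trivial residue field extension: there are an etale S' → S, a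
κ(s)-point of S' over s and a multiplicative type subgroup of G_{S'} restricting to H₀ along that
point. -/
theorem result {S : Scheme.{u}} (G : Over S) [GrpObj G]
    (hG : Smooth G.hom) (hGa : IsAffineHom G.hom) (s : S)
    (H₀ : Over (Spec (S.residueField s))) [GrpObj H₀] (i₀ : H₀ ⟶ Red.bc (S.fromSpecResidueField s) G)
    [IsMonHom i₀] [Mono i₀] (hH₀ : SGA3x.IsMultTypeFT H₀) :
    ∃ (S' : Scheme.{u}) (e : S' ⟶ S) (σ : Spec (S.residueField s) ⟶ S'), Etale e ∧ σ ≫ e = S.fromSpecResidueField s ∧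
      ∃ (H' : Over S') (_ : GrpObj H') (i' : H' ⟶ Red.bc e G) (_ : IsMonHom i') (_ : Mono i'), SGA3x.IsMultTypeFT H' ∧
        ∃ φ : H₀.left ≅ (Red.bc σ H').left, φ.hom ≫ (Red.bc σ H').hom = H₀.hom ∧
          φ.hom ≫ ((Over.pullback σ).map i').left ≫ pullback.fst (Red.bc e G).hom σ ≫ pullback.fst G.hom e =
            i₀.left ≫ pullback.fst G.hom (S.fromSpecResidueField s) := by
  haveI := hG
  haveI := hGa
  haveI : Smooth (Red.bc (S.fromSpecResidueField s) G).hom :=
    MorphismProperty.pullback_snd (P := @Smooth) G.hom (S.fromSpecResidueField s) hG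
  haveI : IsAffineHom (Red.bc (S.fromSpecResidueField s) G).hom :=
    MorphismProperty.pullback_snd (P := @IsAffineHom) G.hom (S.fromSpecResidueField s) hGa
  haveI := Deform.isClosedImmersion_of_mono (Deform.isMultType_of_ft hH₀) i₀
  obtain ⟨κ, V, c, hcov⟩ := Deform.SubMT.exists_charts_smooth (G := G)
  obtain ⟨X, p, u, rfl, hu, huniv, w, hwo, hw, hrange⟩ := Deform.SubMT.exists_rep c
  haveI := hwo
  haveI : Smooth u.1 := Deform.SubMT.smooth_of_charts c u w hw fun x => by
    obtain ⟨i, hi⟩ := hu x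
    exact ⟨i, (hrange i x).mpr hi⟩
  obtain ⟨m, hm, -⟩ := huniv _ ⟨S.fromSpecResidueField s, i₀.left.ker, Deform.SubMT.isSub_ker i₀ hH₀⟩ (hcov _ _)
  obtain ⟨S', e, σ, h, he, hσ, hh, hσh⟩ := Deform.SubMT.exists_slice u.1 s m (congrArg Sigma.fst hm)
  subst hh
  let f' := Deform.SubMT.Fam.pull h u
  obtain ⟨iK, hmon, hK⟩ := Deform.SubMT.exists_grp f'.2.2
  haveI : IsClosedImmersion (Deform.SubMT.subj f'.2.1).left :=
    inferInstanceAs (IsClosedImmersion f'.2.1.subschemeι)
  haveI : Mono (Deform.SubMT.subj f'.2.1).left := inferInstanceAs (Mono f'.2.1.subschemeι)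
  have hmono : Mono (Deform.SubMT.subj f'.2.1) := Over.mono_of_mono_left _
  refine ⟨S', h ≫ u.1, σ, he, hσ, Deform.SubMT.subK f'.2.1, iK, Deform.SubMT.subj f'.2.1, hmon,
    hmono, hK, ?_⟩
  exact Deform.SubMT.exists_phi_of_pull_eq f' σ i₀ hH₀
    (by rw [← Deform.SubMT.Fam.pull_comp, hσh, hm])

end Groth.Agent.S16786
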