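import Groth.Statements.S16793

set_option autoImplicit false
universe v u
open PCurv

namespace Groth.Agent.S16793

open TensorProduct in
/-- Let B be a commutative algebra over a commutative ring A whose module Ω of Kähler differentials over
A is free of rank one on a form ω, and let ∇ be a connection on the free module B^r whose connection
matrix with respect to the standard basis e₁, …, e_r and ω is T, that is ∇(e_j) = Σ_i T_{ij} e_i ⊗
ω. Then for every A-derivation θ of B, writing f_θ ∈ B for the value on ω of the B-linear functional
Ω → B attached to θ, the covariant derivative along θ is given by ∇_θ(s) = f_θ · (T s) + θ(s) for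
all s ∈ B^r, where θ(s) is θ applied to each coordinate of s. -/
theorem result {A : Type v} {B : Type u} [CommRing A] [CommRing B] [Algebra A B]
    (bΩ : Module.Basis (Fin 1) B (KaehlerDifferential A B)) {r : ℕ} (T : Matrix (Fin r) (Fin r) B)
    (nabla : (Fin r → B) →ₗ[A] (Fin r → B) ⊗[B] KaehlerDifferential A B)
    (hc : Conn.IsConn (KaehlerDifferential.D A B) nabla)
    (hT : ∀ j : Fin r, nabla (Pi.single j 1) = ∑ i : Fin r, T i j • (Pi.single i (1 : B) ⊗ₜ[B] bΩ 0))
    (θ : Derivation A B B) (s : Fin r → B) :
    Conn.alongDer nabla θ s = θ.liftKaehlerDifferential (bΩ 0) • T.mulVec s + (fun i => θ (s i)) := by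
  classical
  have hs : s = ∑ j, s j • (Pi.single j 1 : Fin r → B) := by
    funext i
    simp [Finset.sum_apply, Pi.single_apply]
  conv_lhs => rw [hs]
  simp only [Conn.alongDer, Conn.along_apply, map_sum, (show ∀ (b : B) (m : Fin r → B), nabla (b • m) = b • nabla m + m ⊗ₜ[B] KaehlerDifferential.D A B b from hc), hT, map_add, Finset.smul_sum, map_smul,
    TensorProduct.map_tmul, LinearMap.id_apply, TensorProduct.rid_tmul,
    Derivation.liftKaehlerDifferential_comp_D]
  funext i
  simp [Finset.sum_apply, Pi.single_apply, Matrix.mulVec, dotProduct, Finset.sum_add_distrib,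
    mul_comm, mul_left_comm]
  rw [Finset.sum_mul]
  exact Finset.sum_congr rfl fun x _ => (mul_assoc _ _ _).symm

end Groth.Agent.S16793
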