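import Groth.Statements.S16794
import Groth.Agent.H6PCurv.Hochschild

set_option autoImplicit false
universe v u
open PCurv

namespace Groth.Agent.S16794

open TensorProduct in
/-- Let p be a prime number and B a commutative algebra of characteristic p over a commutative ring A
whose module Ω of Kähler differentials over A is free of rank one on a form ω; let θ₀ be the
A-derivation of B dual to ω (its B-linear functional Ω → B takes the value 1 on ω), and let ∇ be a
connection on a finite free B-module M. Then the p-curvature of ∇ vanishes identically — for every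
A-derivation θ of B and every derivation θ' that agrees with the p-fold iterate of θ, the
endomorphism (∇_θ)^p − ∇_{θ'} of M is zero — if and only if it vanishes for the single derivation
θ₀. -/
theorem result {A : Type v} {B M : Type u} [CommRing A] [CommRing B]
    [Algebra A B] (p : ℕ) [Fact p.Prime] [CharP B p]
    [AddCommGroup M] [Module B M] [Module A M] [IsScalarTower A B M] [Module.Finite B M] [Module.Free B M]
    (bΩ : Module.Basis (Fin 1) B (KaehlerDifferential A B)) (θ₀ : Derivation A B B)
    (hθ₀ : θ₀.liftKaehlerDifferential (bΩ 0) = 1)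
    (nabla : M →ₗ[A] M ⊗[B] KaehlerDifferential A B)
    (hc : Conn.IsConn (KaehlerDifferential.D A B) nabla) :
    (∀ θ θp : Derivation A B B, Conn.IsIterPow θ p θp → Conn.pCurv p nabla θ θp = 0) ↔
      (∀ θp : Derivation A B B, Conn.IsIterPow θ₀ p θp → Conn.pCurv p nabla θ₀ θp = 0) := by
  refine ⟨fun h θp hp => h θ₀ θp hp, fun h θ θp hp => ?_⟩
  let c := θ.liftKaehlerDifferential (bΩ 0)
  let a := H6PCurv.cf θ₀ c p 1
  have hθ : ∀ b : B, θ b = c * θ₀ b := fun b => by
    have e : θ.liftKaehlerDifferential = c • θ₀.liftKaehlerDifferential := bΩ.ext fun i => by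
      obtain rfl : i = 0 := Subsingleton.elim _ _
      simp [c, hθ₀]
    simpa using LinearMap.congr_fun e (KaehlerDifferential.D A B b)
  let θ₀p := H6PCurv.iterPow θ₀ p
  have hθp : θp.liftKaehlerDifferential =
      c ^ p • θ₀p.liftKaehlerDifferential + a • θ₀.liftKaehlerDifferential := by
    apply Derivation.liftKaehlerDifferential_unique
    ext b
    change θp.liftKaehlerDifferential (KaehlerDifferential.D A B b) =
      c ^ p • θ₀p.liftKaehlerDifferential (KaehlerDifferential.D A B b) +
        a • θ₀.liftKaehlerDifferential (KaehlerDifferential.D A B b)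
    rw [Derivation.liftKaehlerDifferential_comp_D, Derivation.liftKaehlerDifferential_comp_D,
      Derivation.liftKaehlerDifferential_comp_D, hp b, H6PCurv.iterPow_apply,
      show (⇑θ : B → B) = fun x => c • θ₀ x from funext hθ]
    exact H6PCurv.iterate_smul_p p θ₀ c θ₀.toLinearMap.toAddMonoidHom
      (fun x m => by
        change θ₀ (x * m) = θ₀ x * m + x * θ₀ m
        rw [Derivation.leibniz, smul_eq_mul, smul_eq_mul]
        ring) b
  have hlin : ∀ (x y : B) (l₁ l₂ : KaehlerDifferential A B →ₗ[B] B) (m : M),
      Conn.along nabla (x • l₁ + y • l₂) m = x • Conn.along nabla l₁ m + y • Conn.along nabla l₂ m := by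
    intro x y l₁ l₂ m
    simp only [Conn.along_apply]
    induction nabla m using TensorProduct.induction_on with
    | zero => simp
    | tmul u v =>
      simp only [TensorProduct.map_tmul, LinearMap.id_apply, TensorProduct.rid_tmul,
        LinearMap.add_apply, LinearMap.smul_apply, smul_eq_mul, add_smul, mul_smul]
    | add u v hu hv => simp only [map_add, smul_add, hu, hv]; abel
  have hleib : ∀ (b : B) (m : M), Conn.alongDer nabla θ₀ (b • m) =
      θ₀ b • m + b • Conn.alongDer nabla θ₀ m := fun b m => by
    simp only [Conn.alongDer, Conn.along_apply]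
    rw [hc b m, map_add, map_add, map_smul, map_smul, TensorProduct.map_tmul,
      TensorProduct.rid_tmul, Derivation.liftKaehlerDifferential_comp_D, LinearMap.id_apply, add_comm]
  have hsm : ∀ m : M, Conn.alongDer nabla θ m = c • Conn.alongDer nabla θ₀ m := fun m => by
    have e : θ.liftKaehlerDifferential = c • θ₀.liftKaehlerDifferential + (0 : B) • θ₀.liftKaehlerDifferential :=
      bΩ.ext fun i => by
        obtain rfl : i = 0 := Subsingleton.elim _ _
        simp [c, hθ₀]
    change Conn.along nabla θ.liftKaehlerDifferential m = _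
    rw [e, hlin, zero_smul, add_zero]
    rfl
  ext m
  have h0 : ((Conn.alongDer nabla θ₀) ^ p) m = Conn.alongDer nabla θ₀p m :=
    sub_eq_zero.1 (LinearMap.congr_fun (h θ₀p fun b => H6PCurv.iterPow_apply θ₀ p b) m)
  rw [Module.End.pow_apply] at h0
  change (Conn.alongDer nabla θ ^ p) m - Conn.along nabla θp.liftKaehlerDifferential m = 0
  rw [sub_eq_zero, Module.End.pow_apply, hθp, hlin,
    show (⇑(Conn.alongDer nabla θ) : M → M) = fun x => c • Conn.alongDer nabla θ₀ x from funext hsm]
  refine (H6PCurv.iterate_smul_p p θ₀ c (Conn.alongDer nabla θ₀).toAddMonoidHom hleib m).trans ?_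
  exact congrArg (fun z => c ^ p • z + a • Conn.alongDer nabla θ₀ m) h0

end Groth.Agent.S16794
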