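import Groth.Statements.S16828
import Groth.Agent.AlgStLib.DMDiag
import Groth.Agent.AlgStLib.RepDiag
import Groth.Agent.AlgStLib.SpProps
import Groth.Agent.NormSp.Zmt
import Groth.Agent.AlgSpDec.LimDescentRep

set_option backward.isDefEq.respectTransparency false
set_option backward.isDefEq.respectTransparency.types false
set_option linter.style.haveILetI false
-- import your own Groth.Agent.* helpers here

set_option autoImplicit false
universe u
open AlgSt

namespace Groth.Agent.S16828

open CategoryTheory AlgebraicGeometry in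
/-- Let 𝒳 be a Deligne–Mumford stack over (Sch/S) for the etale topology whose diagonal 𝒳 → 𝒳
×_{(Sch/S)} 𝒳 is separated and quasi-compact (representable by algebraic spaces with these
properties). Then the diagonal is quasi-affine: representable by algebraic spaces with every base
change to a scheme a quasi-affine morphism. The source states this for the absolute diagonal; the
diagonal over S is used here. -/
theorem result {S : Scheme.{u}} (𝒳 : AlgSt.Cat S)
    (h𝒳 : AlgSt.IsDM Scheme.etalePrecoverage 𝒳)
    (hsep : AlgSt.RepByAlgSpWith AlgSp.IsSeparatedMor (FibCat.diag (FibCat.toSelf 𝒳)))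
    (hqc : AlgSt.RepByAlgSpWith AlgSp.IsQuasiCompactMor (FibCat.diag (FibCat.toSelf 𝒳))) :
    AlgSt.RepByAlgSpWith AlgSp.IsQuasiAffineMor (FibCat.diag (FibCat.toSelf 𝒳)) := by
  intro U y
  obtain ⟨F, e, he, hu⟩ := Groth.Agent.AlgStLib.repByAlgSpWith_unr_diag_toSelf h𝒳.1.diag h𝒳.2 U y
  refine ⟨F, e, he, ?_⟩
  have hs := (Groth.Agent.AlgStLib.RepOver.property_of_stableBC
    Groth.Agent.AlgStLib.stableBC_isSeparatedMor (hsep U y) e he).2
  have hc := (Groth.Agent.AlgStLib.RepOver.property_of_stableBC
    Groth.Agent.AlgStLib.stableBC_isQuasiCompactMor (hqc U y) e he).2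
  have hl := Groth.Agent.AlgStLib.unr_le_lqf _ hu
  have hqs := Groth.Agent.AlgSpDec.isQuasiSeparatedMor_of_isSeparatedMor hs
  obtain ⟨Y', ν, f', hY', hUN⟩ :=
    Groth.Agent.NormSp.exists_isUN F.property (AlgSp.IsAlgSpace.yon_obj U) _ hc hqs
  obtain ⟨ho, hfc⟩ := Groth.Agent.NormSp.repWith_isOpenImmersion_norm F.property (AlgSp.IsAlgSpace.yon_obj U)
    hl hc hs hqs (hUN.isRelNormalization (AlgSp.IsAlgSpace.yon_obj U))
  exact Groth.Agent.NormSp.isQuasiAffineMor_of_open_affine ho hfc
    (Groth.Agent.AlgSpDec.isIntegralMor_iff_repWith.1 hUN.integral) hUN.fac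

end Groth.Agent.S16828
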