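import Groth.Statements.S16832
-- import your own Groth.Agent.* helpers here
import Groth.Agent.AlgStLib.TrivStab
import Groth.Agent.AlgStLib.SetoidEt

set_option autoImplicit false
universe u
open AlgSt

namespace Groth.Agent.S16832

open CategoryTheory AlgebraicGeometry in
/-- Let 𝒳 be an algebraic stack over (Sch/S) for the etale topology. Then 𝒳 is an algebraic space
(equivalent over (Sch/S) to the category of sections of an algebraic space) if and only if every
point of 𝒳 has trivial stabilizer: for every field k, every morphism Spec k → S and every functor x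
: (Sch/Spec k) → 𝒳 over (Sch/S), the group of automorphisms over the identity of the object x(T) is
trivial for every scheme T over Spec k (the stabilizer of x, a group algebraic space over k, has
only the identity section over every T). -/
theorem result {S : Scheme.{u}} (𝒳 : AlgSt.Cat S)
    (h𝒳 : AlgSt.IsAlgStack Scheme.etalePrecoverage 𝒳) :
    AlgSt.RepByAlgSp 𝒳 ↔
      ∀ (k : Type u) [Field k] (sk : Spec (CommRingCat.of k) ⟶ S)
        (x : FibCat.overCat (Over.mk sk) ⥤ᵇ 𝒳) (T : Over (Over.mk sk)),
        Subsingleton (Gerb.AutO (x.obj T)) := by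
  refine ⟨fun h k _ sk x T => ⟨fun α β => ?_⟩, fun h => ?_⟩
  · exact Iso.ext (((Groth.Agent.AlgStLib.isFibSetoid_of_repByAlgSp h).2 _ _ _).elim _ _)
  · exact Groth.Agent.AlgStLib.repByAlgSp_of_isFibSetoid_etale h𝒳
      (Groth.Agent.AlgStLib.isFibSetoid_of_forall_field_autO h𝒳.isStack.1
        (Groth.Agent.AlgStLib.repByAlgSpWith_lft_diag_toSelf h𝒳.diag h𝒳.atlas) h)

end Groth.Agent.S16832
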