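import Groth.Statements.S16833
import Groth.Agent.AlgSpDec.FiniteCrit
import Groth.Agent.AlgSpDec.SpQuot
import Groth.Agent.AlgSpDec.FppfLqf
-- import your own Groth.Agent.* helpers here

set_option autoImplicit false
universe u
open AlgSp

namespace Groth.Agent.S16833

open CategoryTheory AlgebraicGeometry in
/-- Let p : U → X and f : X → Y be morphisms of algebraic spaces over a scheme S with p etale and
surjective and f separated. If the composite U → Y is finite, then f is finite. -/
theorem result {S : Scheme.{u}}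
    {U X Y : AlgSp.Space S} (p : U ⟶ X) (f : X ⟶ Y)
    (hp : AlgSp.IsEtaleMor p.hom) (hps : AlgSp.IsSurjectiveMor p.hom)
    (hf : AlgSp.IsSeparatedMor f.hom) (h : AlgSp.IsFiniteMor (p ≫ f).hom) :
    AlgSp.IsFiniteMor f.hom := by
  obtain ⟨hpr, hq⟩ := Groth.Agent.AlgSpDec.proper_and_lqf_of_finite Y.property h
  refine Groth.Agent.AlgSpDec.finite_of_univClosed_lqf X.property Y.property ?_ hf ?_
  · intro Z Z' hZ g fst snd sq
    have sq₁ := IsPullback.of_hasPullback p.hom fst
    have h2 : IsClosedMap (AlgSp.Points.map (Limits.pullback.snd p.hom fst ≫ snd)) :=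
      hpr.2.2 hZ g _ _ (sq₁.paste_vert sq)
    intro C hC
    have h3 := h2 _ (hC.preimage (AlgSp.Points.continuous_map (Limits.pullback.snd p.hom fst)))
    have hsurj := Groth.Agent.AlgSpLib.surjective_map_of_isPullback sq₁ hps
    have e : AlgSp.Points.map (Limits.pullback.snd p.hom fst ≫ snd) =
        AlgSp.Points.map snd ∘ AlgSp.Points.map (Limits.pullback.snd p.hom fst) :=
      funext (AlgSp.Points.map_comp _ _)
    rwa [e, Set.image_comp, Set.image_preimage_eq C hsurj] at h3
  · obtain ⟨U₁, c, hc, hcs⟩ := U.property.atlas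
    have he := hp c hc
    refine Groth.Agent.AlgSpDec.locP_of_precomp he
      (Groth.Agent.AlgSpLib.repWith_surjective_of_surjective he.rep fun x => ?_) ?_
    · obtain ⟨y, rfl⟩ := hps x
      obtain ⟨z, rfl⟩ := Groth.Agent.AlgSpLib.surjective_map_of_repWith hcs y
      exact ⟨z, AlgSp.Points.map_comp _ _ z⟩
    · intro A B a b m ha hb w
      exact hq (a ≫ c) b m (Groth.Agent.AlgSpLib.repWith_comp ha hc) hb (by simpa [Category.assoc] using w)

end Groth.Agent.S16833
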