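import Groth.Statements.S16840
import Groth.Agent.AVRosati.PointCount

set_option backward.isDefEq.respectTransparency false
set_option backward.isDefEq.respectTransparency.types false
-- import your own Groth.Agent.* helpers here

set_option autoImplicit false
universe u
open CategoryTheory MonoidalCategory CartesianMonoidalCategory MonObj GrpObj AlgebraicGeometry
open AbVar

namespace Groth.Agent.S16840

/-- Let k be a finite field with q elements and algebraic closure Ω, ℓ a prime invertible in k, and X an
abelian variety over k (a proper, geometrically integral commutative group scheme over k) of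
dimension g, with geometric Frobenius π_X (the endomorphism that is the identity on points and the
q-th power map on sections); assume, as is the case, that the ℓ-adic Tate module of Ω-points T_ℓ X
is free of finite rank over ℤ_ℓ, and let f_X ∈ ℤ[t] be the polynomial mapping to the characteristic
polynomial of T_ℓ(π_X) (the characteristic polynomial of Frobenius). Let α_1, …, α_{2g} be the
complex roots of f_X with multiplicity. Then for every finite extension field k' of k, of degree n,
the number of k'-valued points of X equals ∏_i (1 − α_i^n). -/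
theorem result (k Ω : Type u) [Field k] [Finite k] [Field Ω] [Algebra k Ω] [IsAlgClosure k Ω]
    (l : ℕ) [Fact l.Prime] (hl : (l : k) ≠ 0) (X : Over (Spec (CommRingCat.of k)))
    [GrpObj X] [IsCommMonObj X] [IsProper X.hom] [GeometricallyIntegral X.hom]
    (πX : X ⟶ X) [IsMonHom πX] (hπb : πX.left.base = 𝟙 _)
    (hπle : ∀ U : X.left.Opens, U ≤ πX.left ⁻¹ᵁ U)
    (hπapp : ∀ (U : X.left.Opens) (s : Γ(X.left, U)), (πX.left.appLE U U (hπle U)).hom s = s ^ Nat.card k)
    [Module.Free ℤ_[l] (AbDual.TateMod X l (SGA7.pt Ω))] [Module.Finite ℤ_[l] (AbDual.TateMod X l (SGA7.pt Ω))]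
    (P : Polynomial ℤ) (hP : (AbDual.tateMapₗ (l := l) (T := SGA7.pt Ω) πX).charpoly = P.map (Int.castRingHom ℤ_[l]))
    (k' : Type u) [Field k'] [Algebra k k'] [Finite k'] :
    (Nat.card (Over.mk (Spec.map (CommRingCat.ofHom (algebraMap k k'))) ⟶ X) : ℂ) =
      (((P.map (Int.castRingHom ℂ)).roots.map (fun α => 1 - α ^ Module.finrank k k')).prod) := by
  haveI : IsAlgClosed Ω := IsAlgClosure.isAlgClosed k
  obtain ⟨g, hg⟩ := AVDegPoly.exists_dim (A := X)
  obtain ⟨P₀, hP₀, hpts, hcp⟩ := AVRosati.exists_weil_poly_points X hg
  have hpow : WeilLib.IsPowMap πX.left (Nat.card k) :=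
    ⟨fun x => congrArg (fun h => h x) hπb, fun U h s => hπapp U s⟩
  obtain rfl : P = P₀ := Polynomial.map_injective (Int.castRingHom ℤ_[l]) Int.cast_injective
    (hP.symm.trans (hcp πX hpow Ω l hl))
  rw [hpts k']
  set n := Module.finrank k k'
  have h : ((P.map (Int.castRingHom ℂ)).roots.map fun ω => ω ^ n - 1) =
      (P.map (Int.castRingHom ℂ)).roots.map fun ω => (-1) * (1 - ω ^ n) :=
    Multiset.map_congr rfl fun ω _ => by ring
  rw [h, Multiset.prod_map_mul, Multiset.map_const', Multiset.prod_replicate, hP₀.card_roots,
    (even_two_mul g).neg_one_pow]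
  exact _root_.one_mul _


end Groth.Agent.S16840
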