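import Groth.Statements.S16846
import Groth.Agent.AVFrobKer.Scheme
import Groth.Agent.AVTate.Points
-- import your own Groth.Agent.* helpers here

set_option autoImplicit false
universe u
open CategoryTheory MonoidalCategory CartesianMonoidalCategory MonObj GrpObj AlgebraicGeometry
open AbVar

set_option backward.isDefEq.respectTransparency false
set_option backward.isDefEq.respectTransparency.types false
set_option synthInstance.maxHeartbeats 400000
set_option maxHeartbeats 1000000
set_option linter.style.haveILetI false
attribute [-instance] CategoryTheory.catToReflQuiver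

namespace Groth.Agent.S16846

/-- Fix a finite field k of size q and an abelian variety X over k (a proper, geometrically integral
commutative group scheme over k) and π_X its geometric Frobenius (the identity on points, the q-th
power map on sections; a homomorphism). Then the endomorphism ring End_k(X) contains q/π_X: there is
a homomorphism v : X → X with π_X followed by v, and v followed by π_X, both equal to multiplication
by q (the q-th power of the identity in the group of morphisms X → X). -/
theorem result (k : Type u) [Field k] [Finite k] (X : Over (Spec (CommRingCat.of k)))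
    [GrpObj X] [IsCommMonObj X] [IsProper X.hom] [GeometricallyIntegral X.hom]
    (πX : X ⟶ X) [IsMonHom πX] (hπb : πX.left.base = 𝟙 _)
    (hπle : ∀ U : X.left.Opens, U ≤ πX.left ⁻¹ᵁ U)
    (hπapp : ∀ (U : X.left.Opens) (s : Γ(X.left, U)), (πX.left.appLE U U (hπle U)).hom s = s ^ Nat.card k) :
    ∃ (v : X ⟶ X) (_ : IsMonHom v), πX ≫ v = (𝟙 X) ^ Nat.card k ∧ v ≫ πX = (𝟙 X) ^ Nat.card k := by
  haveI : Surjective πX.left := ⟨fun x => ⟨x, by rw [hπb]; rfl⟩⟩
  haveI : IsMonHom (𝟙 X ^ Nat.card k : X ⟶ X) := AVDegLib.isMonHom_pow (A := X) _
  have hπ := AVCogen.isPowMap_of πX hπb hπle hπapp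
  obtain ⟨v, hv, hfv⟩ := AVRosati.Factor.exists_factor πX (𝟙 X ^ Nat.card k) (fun T g hg => by
    rw [MonObj.comp_pow, Category.comp_id]
    exact AVFrobKer.pow_card_eq_one πX hπ g hg)
  refine ⟨v, hv, hfv, ?_⟩
  haveI := hv
  rw [← AVCogen.frob_comm v πX hπ πX hπ]
  exact hfv


end Groth.Agent.S16846
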