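import Groth.Statements.S16847
import Groth.Agent.AVRosati.MinCharPoly
import Groth.Agent.S15655

set_option backward.isDefEq.respectTransparency false
set_option backward.isDefEq.respectTransparency.types false
-- import your own Groth.Agent.* helpers here

set_option autoImplicit false
universe u
open CategoryTheory MonoidalCategory CartesianMonoidalCategory MonObj GrpObj AlgebraicGeometry
open AbVar

namespace Groth.Agent.S16847

/-- Let k be a finite field with q elements and algebraic closure Ω, ℓ a prime invertible in k, and X an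
abelian variety over k (a proper, geometrically integral commutative group scheme over k) of
dimension g, with geometric Frobenius π_X (the endomorphism that is the identity on points and the
q-th power map on sections); assume, as is the case, that the ℓ-adic Tate module of Ω-points T_ℓ X
is free of finite rank over ℤ_ℓ, and let f_X ∈ ℤ[t] be the polynomial mapping to the characteristic
polynomial of T_ℓ(π_X) (the characteristic polynomial of Frobenius). Then ℚ[π_X] ⊆ End⁰(X) = ℚ ⊗
End_k(X) is a field (equivalently, X is elementary, i.e. isogenous to a power of a simple abelian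
variety — that reformulation is not restated) if and only if f_X = h^n for some irreducible h ∈ ℚ[t]
and some n ≥ 1. -/
theorem result (k Ω : Type u) [Field k] [Finite k] [Field Ω] [Algebra k Ω] [IsAlgClosure k Ω]
    (l : ℕ) [Fact l.Prime] (hl : (l : k) ≠ 0) (X : Over (Spec (CommRingCat.of k)))
    [GrpObj X] [IsCommMonObj X] [IsProper X.hom] [GeometricallyIntegral X.hom]
    (πX : X ⟶ X) [IsMonHom πX] (hπb : πX.left.base = 𝟙 _)
    (hπle : ∀ U : X.left.Opens, U ≤ πX.left ⁻¹ᵁ U)
    (hπapp : ∀ (U : X.left.Opens) (s : Γ(X.left, U)), (πX.left.appLE U U (hπle U)).hom s = s ^ Nat.card k)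
    [Module.Free ℤ_[l] (AbDual.TateMod X l (SGA7.pt Ω))] [Module.Finite ℤ_[l] (AbDual.TateMod X l (SGA7.pt Ω))]
    (P : Polynomial ℤ) (hP : (AbDual.tateMapₗ (l := l) (T := SGA7.pt Ω) πX).charpoly = P.map (Int.castRingHom ℤ_[l])) :
    IsField (EndAV.QAdj (EndAV.End.of πX)) ↔
      ∃ (h : Polynomial ℚ) (n : ℕ), Irreducible h ∧ 0 < n ∧ P.map (Int.castRingHom ℚ) = h ^ n := by
  haveI : IsAlgClosed Ω := IsAlgClosure.isAlgClosed k
  obtain ⟨g, hg⟩ := AVDegPoly.exists_dim (A := X)
  obtain ⟨P₀, hm, hd, hval, hcp⟩ := AVDegPoly.exists_charpoly hg (EndAV.End.of πX)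
  haveI := AVRosati.finite_End0 (A := X)
  set mp := minpoly ℚ (EndAV.toEnd0 (EndAV.End.of πX)) with hmpdef
  have hmp : IsIntegral ℚ (EndAV.toEnd0 (EndAV.End.of πX)) := Algebra.IsIntegral.isIntegral _
  obtain rfl : P = P₀ := Polynomial.map_injective (Int.castRingHom ℤ_[l]) Int.cast_injective (hP.symm.trans (hcp Ω l hl))
  rw [AVRosati.isField_qAdj_iff]
  constructor
  · intro hirr
    obtain ⟨n, hn⟩ := AVRosati.charpoly_eq_minpoly_pow hg (EndAV.End.of πX) hirr P hm hd hval
    refine ⟨mp, n, hirr, Nat.one_le_iff_ne_zero.2 fun h0 => ?_, hn⟩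
    rw [h0, pow_zero] at hn
    have h1 : P = 1 := Polynomial.map_injective (Int.castRingHom ℚ) Int.cast_injective (hn.trans (Polynomial.map_one _).symm)
    subst h1
    have h2 := AVRosati.aeval_charpoly_eq_zero hg (EndAV.End.of πX) Ω l hl 1 hP
    rw [map_one] at h2
    have h3 : (1 : EndAV.End0 X) = 0 := (map_one (EndAV.toEnd0 (A := X))).symm.trans ((congrArg EndAV.toEnd0 h2).trans (map_zero _))
    haveI : Subsingleton (EndAV.End0 X) := subsingleton_of_zero_eq_one h3.symm
    exact hirr.not_isUnit (by rw [minpoly.subsingleton]; exact isUnit_one)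
  · rintro ⟨h, n, hh, hn1, hn⟩
    have h0 := congrArg EndAV.toEnd0 (AVRosati.aeval_charpoly_eq_zero hg (EndAV.End.of πX) Ω l hl P hP)
    rw [map_zero, ← Polynomial.aeval_algHom_apply] at h0
    have h1 : mp ∣ P.map (Int.castRingHom ℚ) := minpoly.dvd _ _ (by
      rw [← algebraMap_int_eq, Polynomial.aeval_map_algebraMap]; exact h0)
    rw [hn] at h1
    obtain ⟨m, -, hm'⟩ := (dvd_prime_pow hh.prime _).1 h1
    have hsq := hm'.squarefree_iff.1 (AVRosati.frob_squarefree πX hπb hπle hπapp).2
    have hmp1 : ¬ IsUnit mp := by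
      intro hu
      have hd0 : mp.natDegree = 0 := Polynomial.natDegree_eq_zero_of_isUnit hu
      have hdvd := AVRosati.charpoly_dvd_minpoly_pow (EndAV.End.of πX) hg P hm hd hval
      have hu' := isUnit_of_dvd_unit hdvd (hu.pow _)
      rw [hn] at hu'
      exact hh.not_isUnit ((isUnit_pow_iff (Nat.one_le_iff_ne_zero.1 hn1)).1 hu')
    rcases Nat.eq_zero_or_pos m with hm0 | hm0
    · exact absurd (hm'.symm.isUnit (by rw [hm0, pow_zero]; exact isUnit_one)) hmp1
    · obtain rfl : m = 1 := by
        refine le_antisymm (Nat.lt_succ_iff.1 (Nat.lt_of_not_le fun h2 => hh.not_isUnit (hsq h ?_))) hm0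
        rw [← sq]
        exact pow_dvd_pow h h2
      rw [pow_one] at hm'
      exact hm'.symm.irreducible hh


end Groth.Agent.S16847
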