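import Groth.Statements.S3020
import Groth.Agent.GrpSchLib.Affinization
import Mathlib.AlgebraicGeometry.QuasiAffine


set_option autoImplicit false
universe u
open CategoryTheory MonoidalCategory CartesianMonoidalCategory MonObj GrpObj AlgebraicGeometry TensorProduct
open SGA3

namespace Groth.Agent.S3020

/-- Let G be a group scheme of finite type over a field k whose underlying scheme is quasi-affine (a
quasi-compact open subscheme of an affine scheme). Then G is affine. -/
theorem result (k : Type u) [Field k] (G : Over (Spec (CommRingCat.of k))) [GrpObj G]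
    [LocallyOfFiniteType G.hom] [QuasiCompact G.hom] [G.left.IsQuasiAffine] : IsAffine G.left := by
  obtain ⟨hs, -, -⟩ := Groth.Agent.GrpSchLib.Affinization.toSpecΓ_flat_surjective G
  haveI : IsOpenImmersion G.left.toSpecΓ := inferInstance
  haveI : IsIso G.left.toSpecΓ := (isIso_iff_isOpenImmersion_and_epi_base _).mpr
    ⟨inferInstance, (TopCat.epi_iff_surjective _).mpr hs.1⟩
  exact .of_isIso G.left.toSpecΓ

end Groth.Agent.S3020
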