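import Groth.Statements.S16859
-- import your own Groth.Agent.* helpers here
import Groth.Agent.AlgStLib.StabScheme
import Groth.Agent.AlgStLib.DiagLFT
import Groth.Agent.S3020

set_option autoImplicit false
universe u
open CategoryTheory CategoryTheory.Limits AlgebraicGeometry
open AlgSt

namespace Groth.Agent.S16859

/-- Let `𝒳` be an algebraic stack over a scheme `S` (fppf topology) whose diagonal over `S` is
representable by algebraic spaces and quasi-affine. Let `k` be a field with a morphism `Spec k → S`,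
let `x : (Sch/Spec k) → 𝒳` be a functor over `(Sch/S)` (a `k`-valued point of `𝒳`), and let `G` be a
group scheme over `Spec k` representing the automorphism presheaf of `x` on schemes over `Spec k`
(the stabilizer group scheme of `x`). Then `G` is affine and locally of finite type over `k`, i.e.
an affine algebraic group. (The published statement is over the base `Spec ℤ`; the same argument
applies to the diagonal over any base scheme.) -/
theorem result (S : Scheme.{u})
    (𝒳 : AlgSt.Cat S) (h𝒳 : AlgSt.IsAlgStack Scheme.fppfPrecoverage 𝒳)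
    (hΔ : AlgSt.RepByAlgSpWith AlgSp.IsQuasiAffineMor (FibCat.diag (FibCat.toSelf 𝒳)))
    (k : Type u) [Field k] (p : Spec (CommRingCat.of k) ⟶ S)
    (x : FibCat.overCat (Over.mk p) ⥤ᵇ 𝒳) (G : Over (Over.mk p).left) [GrpObj G]
    (hG : Gerb.AutRep x (Gerb.ptsGrp (Over.mk p) G)) :
    IsAffine G.left ∧ LocallyOfFiniteType G.hom := by
  have hf : FibCat.IsFibGrpd 𝒳.p := h𝒳.isStack.1
  have hk : IsAffine (Over.mk p).left := inferInstanceAs (IsAffine (Spec (CommRingCat.of k)))
  obtain ⟨R, hR⟩ := Groth.Agent.IsoNatLib.exists_autRep (v := x)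
    (Groth.Agent.AlgStLib.repByAlgSpWith_inertiaToBase _ hΔ)
  obtain ⟨e, he⟩ := Groth.Agent.AlgStLib.exists_iso_autRep hG R
  obtain ⟨W, i, fst, sq, hW⟩ := hR hk (𝟙 _)
  have : IsIso fst := sq.isIso_fst_of_isIso
  let ew : Groth.Agent.AlgStLib.overBase G ≅ W := (AlgSp.yon S).preimageIso (e ≪≫ (asIso fst).symm)
  let el : G.left ≅ W.left := (Over.forget S).mapIso ew
  have : CompactSpace ↥G.left := (Scheme.homeoOfIso el).symm.compactSpace
  have : G.left.IsQuasiAffine := Scheme.IsQuasiAffine.of_isImmersion el.hom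
  obtain ⟨R', hR'⟩ := Groth.Agent.IsoNatLib.exists_autRep (v := x)
    (Groth.Agent.AlgStLib.repByAlgSpWith_inertiaToBase _
      (Groth.Agent.AlgStLib.repByAlgSpWith_lft_diag_toSelf h𝒳.diag h𝒳.atlas))
  obtain ⟨e', he'⟩ := Groth.Agent.AlgStLib.exists_iso_autRep hG R'
  have hl : AlgSp.LocP @LocallyOfFiniteType ((AlgSp.yon S).map (Groth.Agent.AlgStLib.overBaseHom G)) := by
    rw [← he']
    exact Groth.Agent.AlgSpLib.locP_comp (AlgSp.IsAlgSpace.yon_obj _) R'.F.property (AlgSp.IsAlgSpace.yon_obj _)
      (Groth.Agent.AlgSpLib.locP_of_repWith (Groth.Agent.AlgSpLib.repWith_of_isIso _ _)) hR'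
  have hlft : LocallyOfFiniteType G.hom := AlgSp.locP_yon_map hl
  let G' : Over (Spec (CommRingCat.of k)) := G
  have : LocallyOfFiniteType G'.hom := hlft
  have : QuasiCompact G'.hom := HasAffineProperty.iff_of_isAffine.mpr (inferInstanceAs (CompactSpace ↥G.left))
  have : G'.left.IsQuasiAffine := inferInstanceAs (G.left.IsQuasiAffine)
  letI : GrpObj G' := inferInstanceAs (GrpObj G)
  exact ⟨Groth.Agent.S3020.result k G', hlft⟩

end Groth.Agent.S16859
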