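import Groth.Statements.S16870
-- import your own Groth.Agent.* helpers here
import Groth.Agent.AlgStLib.QcLocEss
import Groth.Agent.AlgStLib.DiagLFT
import Groth.Agent.GerbFlat.Main

set_option autoImplicit false
universe u
open CategoryTheory AlgebraicGeometry
open Gerb

namespace Groth.Agent.S16870

/-- If f : 𝒳 → 𝒴 makes 𝒳 a gerbe over 𝒴 and the diagonal of 𝒳 over the base scheme is quasi-compact,
then the diagonal of 𝒴 over the base scheme is quasi-compact. -/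
theorem result
    (S : Scheme.{u}) (𝒳 𝒴 : AlgSt.Cat S)
    (h𝒳 : AlgSt.IsAlgStack Scheme.fppfPrecoverage 𝒳) (h𝒴 : AlgSt.IsAlgStack Scheme.fppfPrecoverage 𝒴)
    (f : 𝒳 ⥤ᵇ 𝒴) (hf : Gerb.IsGerbeOver (QuotSh.J Scheme.fppfPrecoverage S) f)
    (hΔ : AlgSt.IsQuasiCompactMor Scheme.fppfPrecoverage (FibCat.diag (FibCat.toSelf 𝒳))) :
    AlgSt.IsQuasiCompactMor Scheme.fppfPrecoverage (FibCat.diag (FibCat.toSelf 𝒴)) := by
  let t := FibCat.toSelf 𝒴
  have h := (Groth.Agent.GerbFlat.fppf_and_diag_of_isGerbeOver h𝒳 h𝒴 hf).2.1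
  have hes := Groth.Agent.GerbFlat.locEssSurj_of_locSurjObj h𝒳.isStack.1 h𝒴.isStack.1 hf.1
  have htt := Groth.Agent.AlgStLib.isAlgStack_fp h𝒴 h𝒴 Groth.Agent.AlgStLib.isStack_selfOver
    Groth.Agent.AlgStLib.repByAlgSpWith_diag_toSelf_selfOver t t
  have hXX := Groth.Agent.AlgStLib.isAlgStack_fp h𝒳 h𝒳 Groth.Agent.AlgStLib.isStack_selfOver
    Groth.Agent.AlgStLib.repByAlgSpWith_diag_toSelf_selfOver
    (BasedFunctor.comp f t) (BasedFunctor.comp f t)
  have hΔ' : AlgSt.IsQuasiCompactMor Scheme.fppfPrecoverage (FibCat.diag (BasedFunctor.comp f t)) := by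
    rw [Groth.Agent.AlgStLib.comp_toSelf f]; exact hΔ
  have hw : AlgSt.IsQuasiCompactMor Scheme.fppfPrecoverage (Groth.Agent.FibBase.weaken f f t) :=
    Groth.Agent.AlgStLib.isQuasiCompactMor_of_triangle h𝒳 (Groth.Agent.GerbFlat.isAlgStack_fp_self h𝒳 h𝒴 f) hXX
      (Groth.Agent.AlgStLib.diagCompIso f t) h hΔ'
  refine Groth.Agent.AlgStLib.isQuasiCompactMor_of_locEssSurj h𝒴 htt
    (Groth.Agent.AlgStLib.locEssSurj_pairMap t hes hes) fun 𝒯 h𝒯 hq g => ?_
  haveI : (BasedFunctor.id (FibCat.fp (BasedFunctor.comp f t) (BasedFunctor.comp f t))).toFunctor.Full :=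
    inferInstanceAs (𝟭 _).Full
  haveI : (BasedFunctor.id (FibCat.fp (BasedFunctor.comp f t) (BasedFunctor.comp f t))).toFunctor.Faithful :=
    inferInstanceAs (𝟭 _).Faithful
  exact Groth.Agent.AlgStLib.isQuasiCompact_of_equiv
    (Groth.Agent.FibBase.fpMap_isEquivOver (F := g) (G := FibCat.fpFst (Groth.Agent.FibBase.pairMap f f t) (FibCat.diag t))
      (F' := g) (G' := Groth.Agent.FibBase.weaken f f t) (a := BasedFunctor.id _)
      (b := Groth.Agent.FibBase.diagComparison f f t) (c := BasedFunctor.id _) (Iso.refl _) (Iso.refl _)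
      Groth.Agent.FibBase.isEquivOver_id (Groth.Agent.FibBase.diagComparison_isEquivOver f f t))
    (hw 𝒯 h𝒯 hq g)

end Groth.Agent.S16870
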