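import Groth.Statements.S16896
import Groth.Agent.Big.IntNum
import Groth.Agent.CurveCohLib.SmoothCurve

set_option autoImplicit false
universe u
open CategoryTheory CategoryTheory.Limits AlgebraicGeometry
open Vanish

attribute [-instance] CategoryTheory.catToReflQuiver

namespace Groth.Agent.S16896

open Groth.Agent Groth.Agent.H23.PicMul

/-- Let k be an algebraically closed field of characteristic zero and X an irreducible proper smooth
k-scheme of dimension n with an ample invertible O_X-module (a projective manifold). Let L be a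
numerically effective invertible O_X-module (non-negative degree on every integral one-dimensional
closed subscheme) and L⁻¹ a tensor inverse of L. Then the Iitaka dimension of L equals n, expressed
by the equivalent condition that some L^⊗ν with ν > 0 receives a monomorphism from an ample
invertible module (L^⊗ν ≅ A(C) with A ample and C effective), if and only if the self-intersection
number c_1(L)^n = ∫ c_1(L)^n · [O_X] (the alternating sum of Euler characteristics attached to n
copies of L⁻¹) is positive. (Only the characteristic-zero case is stated; the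
positive-characteristic case assumes a lifting to the Witt vectors of length two.) -/
theorem result (k : Type u) [Field k] [IsAlgClosed k] [CharZero k]
    (X : Scheme.{u}) [X.Over (Spec (CommRingCat.of k))] [IsProper (X ↘ Spec (CommRingCat.of k))]
    [Smooth (X ↘ Spec (CommRingCat.of k))] [IrreducibleSpace X] (n : ℕ) (hn : topologicalKrullDim X = n)
    (H : X.Modules) (hH : CohB1.IsAmple H) (L Linv : X.Modules) (hL : PicF.IsInvertible L) (hLinv : ClSub.IsInverseOf Linv L)
    (hnef : (∀ (Y : Scheme.{u}) (i : Y ⟶ X) [IsClosedImmersion i], IsIntegral Y → topologicalKrullDim Y = 1 →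
      0 ≤ Pic13.curveDeg k (i ≫ (X ↘ Spec (CommRingCat.of k))) ((Scheme.Modules.pullback i).obj L))) :
    (∃ (ν : ℕ) (A : X.Modules) (φ : A ⟶ CohB1.tensorPow L ν), 0 < ν ∧ CohB1.IsAmple A ∧ Mono φ) ↔
      0 < FGA.intNum k X n (fun _ : Fin n => Linv) (Coh.structureModule X) := by
  haveI : CompactSpace X := QuasiCompact.compactSpace_of_compactSpace (X ↘ Spec (CommRingCat.of k))
  haveI : ConnectedSpace X := inferInstance
  haveI : IsIntegral X := CurveCohLib.isIntegral_of_smooth_connected (X ↘ Spec (CommRingCat.of k))
  haveI := CurveCohLib.isNoetherian_of_proper (k := k) (X := X)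
  have hN : Nakai.Nef k L := (Nakai.nef_iff_curveDeg k hL).2 hnef
  have h1 : PicF.cl Linv * PicF.cl L = 1 := by rw [← cl_tensor, cl_eq_iff.2 hLinv, H23.PicMul.one_def]
  obtain ⟨D, hD, ⟨δ⟩⟩ := H23.PicInv.exists_inverse hL
  have h2 : PicF.cl L * PicF.cl D = 1 := by rw [← cl_tensor, cl_eq_iff.2 ⟨δ⟩, H23.PicMul.one_def]
  have h3 : PicF.cl D = PicF.cl Linv := by rw [← one_mul (PicF.cl D), ← h1, mul_assoc, h2, mul_one]
  have hLi : PicF.IsInvertible Linv := isInvertible_of_iso (cl_eq_iff.1 h3).some hD
  obtain ⟨q, hq, hqn⟩ := Nakai.exists_poly k hL (QCoh.isCoh_structureModule' (X := X))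
    (C := (⊤ : TopologicalSpace.Closeds X)) (fun x _ => trivial) (Nakai.dim_univ_le hn)
  have hkey : (FGA.intNum k X n (fun _ : Fin n => Linv) (Coh.structureModule X) : ℚ) = n.factorial * q.coeff n :=
    Big.intNum_eq_coeff k hn.le hL hLi (by rw [mul_comm]; exact h1) (QCoh.isCoh_structureModule' (X := X))
      (C := (⊤ : TopologicalSpace.Closeds X)) (fun x _ => trivial) (Nakai.dim_univ_le hn) hq hqn
  have hf : (0 : ℚ) < n.factorial := by exact_mod_cast n.factorial_pos
  constructor
  · rintro ⟨ν, A, φ, hν, hA, hφ⟩
    haveI := hφ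
    have := Big.coeff_pos_of_mono k hn hL hN hA hν φ hq hqn
    have h4 : (0 : ℚ) < (FGA.intNum k X n (fun _ : Fin n => Linv) (Coh.structureModule X) : ℚ) := by
      rw [hkey]; exact mul_pos hf this
    exact_mod_cast h4
  · intro h
    have h4 : (0 : ℚ) < (FGA.intNum k X n (fun _ : Fin n => Linv) (Coh.structureModule X) : ℚ) := by exact_mod_cast h
    rw [hkey] at h4
    exact Big.exists_ample_mono_of_nef k hn hL hN hH hq hqn (pos_of_mul_pos_right h4 hf.le)

end Groth.Agent.S16896
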