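import Groth.Statements.S1690
import Groth.Agent.Ref1X.Big

set_option autoImplicit false
universe u
open CategoryTheory CategoryTheory.Limits AlgebraicGeometry TopologicalSpace
open SDiv

namespace Groth.Agent.S1690

/-- (1) if and only if (3): let X be an integral locally Noetherian normal scheme and F a coherent
module. Then F is reflexive (stalkwise) if and only if there is an open subscheme j : U ⟶ X such
that every point outside U has local ring of dimension at least 2, the restriction of F to U is
finite locally free, and the canonical map F ⟶ j_* j^* F is an isomorphism. -/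
theorem result (X : Scheme.{u}) [IsIntegral X] [IsLocallyNoetherian X] (hX : Pi1.IsNormalScheme X)
    (F : X.Modules) (hF : Coh.IsCoh F) :
    (∀ x : ↥X, Module.IsReflexive (X.presheaf.stalk x) (F.presheaf.stalk x)) ↔
      ∃ U : X.Opens, (∀ x : ↥X, x ∉ U → (2 : WithBot ℕ∞) ≤ ringKrullDim (X.presheaf.stalk x)) ∧
        FlatMod.IsFinLocFree (F.restrict U.ι) ∧ IsIso ((Scheme.Modules.restrictAdjunction U.ι).unit.app F) := by
  have hiff := Groth.Agent.RefX.isReflexive_iff hF
  have hD := Groth.Agent.RefX.isCoh_dual hF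
  have hR : Coh.IsCoh (RefHull.ddual F) := Groth.Agent.RefX.isCoh_dual hD
  constructor
  · intro h
    have hr : RefHull.IsReflexive F := hiff.2 h
    have hout : ∀ x : X, x ∉ (⟨_, Groth.Agent.Ref1X.isOpen_free_locus hF⟩ : X.Opens) →
        (2 : WithBot ℕ∞) ≤ ringKrullDim (X.presheaf.stalk x) := fun x hx => by
      by_contra hc
      haveI := (hX x).1
      haveI := h x
      haveI := Groth.Agent.Ref1X.isTorsionFree_of_isReflexive (R := X.presheaf.stalk x) (M := F.presheaf.stalk x)
      exact hx (Groth.Agent.Ref1X.free_of_dim_le_one' hX hF (Groth.Agent.Ref1X.le_one_of_not_two_le hc))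
    refine ⟨⟨_, Groth.Agent.Ref1X.isOpen_free_locus hF⟩, hout, Groth.Agent.QCoh.isFinLocFree_iff.2
      ⟨Groth.Agent.QCoh.isCoh_iff_isFP.1 (Groth.Agent.SheafHomX.isCoh_restrict _ hF),
        fun z => (Groth.Agent.Ref1X.free_stalk_restrict_iff F z.2).2 z.2⟩,
      Groth.Agent.RefX.isIso_unit_of_extendsAcross (Groth.Agent.RefX.extendsAcross_reflexive hF hr
        fun x hx => Groth.Agent.Ref1X.two_le_depth hX (hout x hx))⟩
  · rintro ⟨U, hout, hfree, hiso⟩
    refine hiff.1 (Groth.Agent.Ref1X.isIso_of_extendsAcross (U := U) (RefHull.bidualMap F)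
      (Groth.Agent.Ref1X.extendsAcross_of_isIso_unit hiso)
      (Groth.Agent.RefX.extendsAcross_reflexive hR (Groth.Agent.Ref1X.isReflexive_ddual hF)
        fun x hx => Groth.Agent.Ref1X.two_le_depth hX (hout x hx)) fun x hx => ?_)
    exact Groth.Agent.Ref1X.bidual_bijective_of_free hF x ((Groth.Agent.Ref1X.free_stalk_restrict_iff F hx).1
      (Groth.Agent.QCoh.free_stalk_of_isFinLocFree hfree ⟨x, hx⟩))

end Groth.Agent.S1690
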