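import Groth.Statements.S16901
import Groth.Agent.Big.Kodaira

set_option autoImplicit false
universe u
open CategoryTheory CategoryTheory.Limits AlgebraicGeometry
open Vanish

attribute [-instance] CategoryTheory.catToReflQuiver

namespace Groth.Agent.S16901

open Groth.Agent Groth.Agent.H23.PicMul

/-- Let k be an algebraically closed field and X an integral proper k-scheme of dimension n with an
ample invertible O_X-module (a projective variety, not assumed non-singular), and let L be an
invertible O_X-module. The Iitaka dimension of L is n, in the growth form the text adopts as its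
working definition (for some ν > 0 there is a constant a > 0 with μ^n ≤ a · dim_k H^0(X, L^⊗νμ) for
all μ ≥ 1), if and only if for some ν > 0 there are an ample invertible module A and a monomorphism
A → L^⊗ν (that is, L^⊗ν(−C) is ample for some effective divisor C). -/
theorem result (k : Type u) [Field k] [IsAlgClosed k]
    (X : Scheme.{u}) [X.Over (Spec (CommRingCat.of k))] [IsIntegral X] [IsProper (X ↘ Spec (CommRingCat.of k))]
    (n : ℕ) (hn : topologicalKrullDim X = n) (H : X.Modules) (hH : CohB1.IsAmple H)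
    (L : X.Modules) (hL : PicF.IsInvertible L) :
    (∃ ν a : ℕ, 0 < ν ∧ 0 < a ∧ ∀ μ : ℕ, 1 ≤ μ →
        μ ^ n ≤ a * Module.finrank k (Coh.HH X (CohB1.tensorPow L (ν * μ)) 0)) ↔
      ∃ (ν : ℕ) (A : X.Modules) (φ : A ⟶ CohB1.tensorPow L ν), 0 < ν ∧ CohB1.IsAmple A ∧ Mono φ := by
  constructor
  · rintro ⟨ν, a, hν, ha, h⟩
    have hgrow : ∀ e : ℕ, n = e + 1 → ∀ C : ℕ, ∃ m, C * (m + 1) ^ e < Big.h0 k (CohB1.tensorPow (CohB1.tensorPow L ν) m) := by
      intro e he C
      subst he
      let μ := a * C * 2 ^ e + 1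
      refine ⟨μ, ?_⟩
      have e1 : Big.h0 k (CohB1.tensorPow (CohB1.tensorPow L ν) μ) = Big.h0 k (CohB1.tensorPow L (ν * μ)) :=
        Big.h0_congr_cl k (by rw [cl_tensorPow, cl_tensorPow, cl_tensorPow, ← pow_mul])
      rw [e1]
      by_contra hle
      rw [not_lt] at hle
      have h1 : μ ^ (e + 1) ≤ a * (C * (μ + 1) ^ e) := (h μ (Nat.le_add_left 1 _)).trans (Nat.mul_le_mul_left a hle)
      have h2 : (μ + 1) ^ e ≤ 2 ^ e * μ ^ e := by
        rw [← mul_pow]
        exact Nat.pow_le_pow_left (by omega) e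
      have h3 : μ * μ ^ e ≤ (a * C * 2 ^ e) * μ ^ e := by
        rw [← pow_succ']
        exact h1.trans (le_of_le_of_eq (Nat.mul_le_mul_left a (Nat.mul_le_mul_left C h2)) (by ring))
      have h4 := Nat.le_of_mul_le_mul_right h3 (pow_pos (by omega) e)
      omega
    obtain ⟨m, B, φ, hm, hB, hφ⟩ := Big.exists_ample_mono k hn hH (InvX.isInvertible_tensorPow hL ν) hgrow
    obtain ⟨ε⟩ : Nonempty (CohB1.tensorPow (CohB1.tensorPow L ν) m ≅ CohB1.tensorPow L (ν * m)) :=
      cl_eq_iff.1 (by rw [cl_tensorPow, cl_tensorPow, cl_tensorPow, ← pow_mul])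
    haveI := hφ
    exact ⟨ν * m, B, φ ≫ ε.hom, Nat.mul_pos hν hm, hB, inferInstance⟩
  · rintro ⟨ν, A, φ, hν, hA, hφ⟩
    haveI := hφ
    obtain ⟨N, a, hN, ha, h⟩ := Big.exists_growth_of_mono k hn hA hL φ
    refine ⟨ν * N, a, Nat.mul_pos hν hN, ha, fun μ hμ => ?_⟩
    rw [mul_assoc]
    exact h μ hμ

end Groth.Agent.S16901
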