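import Groth.Statements.S16903
import Groth.Agent.Big.IntNum
import Groth.Agent.Big.NumDim
import Groth.Agent.CurveCohLib.SmoothCurve

set_option autoImplicit false
universe u
open CategoryTheory CategoryTheory.Limits AlgebraicGeometry
open Vanish

attribute [-instance] CategoryTheory.catToReflQuiver

namespace Groth.Agent.S16903

open Groth.Agent Groth.Agent.H23.PicMul

/-- Let k be an algebraically closed field of characteristic zero and X an irreducible proper smooth
k-scheme of dimension n with an ample invertible O_X-module (a projective manifold); let L be a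
numerically effective invertible O_X-module with tensor inverse L⁻¹ and m a natural number such that
c_1(L)^m is numerically trivial, i.e. the intersection number (L^m · V) = ∫ c_1(L)^m [O_V] vanishes
for every integral closed subscheme V ⊆ X of dimension m. Then κ(L) < m, in the growth form: there
are no ν > 0 and a > 0 with μ^m ≤ a · dim_k H^0(X, L^⊗νμ) for all μ ≥ 1. (This expresses ν(L) ≥
κ(L); only the characteristic-zero case is stated.) -/
theorem result (k : Type u) [Field k] [IsAlgClosed k] [CharZero k]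
    (X : Scheme.{u}) [X.Over (Spec (CommRingCat.of k))] [IsProper (X ↘ Spec (CommRingCat.of k))]
    [Smooth (X ↘ Spec (CommRingCat.of k))] [IrreducibleSpace X] (n : ℕ) (hn : topologicalKrullDim X = n)
    (H : X.Modules) (hH : CohB1.IsAmple H) (L Linv : X.Modules) (hL : PicF.IsInvertible L) (hLinv : ClSub.IsInverseOf Linv L)
    (hnef : (∀ (Y : Scheme.{u}) (i : Y ⟶ X) [IsClosedImmersion i], IsIntegral Y → topologicalKrullDim Y = 1 →
      0 ≤ Pic13.curveDeg k (i ≫ (X ↘ Spec (CommRingCat.of k))) ((Scheme.Modules.pullback i).obj L)))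
    (m : ℕ) (hm : (∀ (V : Scheme.{u}) (i : V ⟶ X) [IsClosedImmersion i], IsIntegral V → topologicalKrullDim V = (m : ℕ) →
      FGA.intNum k X n (fun _ : Fin m => Linv) ((Scheme.Modules.pushforward i).obj (Coh.structureModule V)) = 0)) :
    ¬ (∃ ν a : ℕ, 0 < ν ∧ 0 < a ∧ ∀ μ : ℕ, 1 ≤ μ →
        μ ^ m ≤ a * Module.finrank k (Coh.HH X (CohB1.tensorPow L (ν * μ)) 0)) := by
  haveI : CompactSpace X := QuasiCompact.compactSpace_of_compactSpace (X ↘ Spec (CommRingCat.of k))
  haveI : ConnectedSpace X := inferInstance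
  haveI : IsIntegral X := CurveCohLib.isIntegral_of_smooth_connected (X ↘ Spec (CommRingCat.of k))
  haveI := CurveCohLib.isNoetherian_of_proper (k := k) (X := X)
  have hN : Nakai.Nef k L := (Nakai.nef_iff_curveDeg k hL).2 hnef
  have h1 : PicF.cl Linv * PicF.cl L = 1 := by rw [← cl_tensor, cl_eq_iff.2 hLinv, H23.PicMul.one_def]
  obtain ⟨D, hD, ⟨δ⟩⟩ := H23.PicInv.exists_inverse hL
  have h2 : PicF.cl L * PicF.cl D = 1 := by rw [← cl_tensor, cl_eq_iff.2 ⟨δ⟩, H23.PicMul.one_def]
  have h3 : PicF.cl D = PicF.cl Linv := by rw [← one_mul (PicF.cl D), ← h1, mul_assoc, h2, mul_one]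
  have hLi : PicF.IsInvertible Linv := isInvertible_of_iso (cl_eq_iff.1 h3).some hD
  have htz : Big.TopZero k L m := by
    intro V i hi hV hVd q hq hqn
    haveI := hi
    haveI := hV
    have hdimC : topologicalKrullDim ↥((⟨Set.range i, i.isClosedEmbedding.isClosed_range⟩ : TopologicalSpace.Closeds X) : Set X) ≤ m :=
      ((AmpleDev.dim_eq_one_of_closedImmersion i rfl).symm.trans hVd).le
    have h := Big.intNum_eq_coeff k hn.le hL hLi (by rw [mul_comm]; exact h1)
      (QCoh.isCoh_push_structure i) (C := ⟨Set.range i, i.isClosedEmbedding.isClosed_range⟩)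
      (QCoh.support_push_subset i QCoh.isQCoh_structureModule) hdimC hq hqn
    have h' : FGA.intNum k X n (fun _ : Fin m => Linv) ((Coh.push i).obj (Coh.structureModule V)) = 0 := hm V i hV hVd
    rw [h', Int.cast_zero] at h
    exact (mul_eq_zero.1 h.symm).resolve_left (by exact_mod_cast m.factorial_ne_zero)
  rintro ⟨ν, a, hν, ha, hgrow⟩
  rcases Nat.eq_zero_or_pos m with rfl | hm0
  · obtain ⟨ξ, -, hξ⟩ := IsClosed.exists_closed_singleton (isClosed_univ (X := (X : Type u))) Set.univ_nonempty
    let W := Scheme.IdealSheafData.vanishingIdeal (⟨closure ({ξ} : Set X), isClosed_closure⟩ : TopologicalSpace.Closeds X)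
    haveI : IsIntegral W.subscheme := QCoh.isIntegral_closure_point ξ
    letI : W.subscheme.Over (Spec (CommRingCat.of k)) := ⟨W.subschemeι ≫ (X ↘ Spec (CommRingCat.of k))⟩
    haveI : IsProper (W.subscheme ↘ Spec (CommRingCat.of k)) :=
      inferInstanceAs (IsProper (W.subschemeι ≫ (X ↘ Spec (CommRingCat.of k))))
    haveI := CurveCohLib.isNoetherian_of_proper (k := k) (X := W.subscheme)
    have hdimW : topologicalKrullDim W.subscheme = (0 : ℕ) := by
      rw [AmpleDev.dim_eq_one_of_closedImmersion W.subschemeι (H23.RedSub.range_vanishingIdeal _), Nat.cast_zero]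
      show topologicalKrullDim ↥(closure ({ξ} : Set X)) = 0
      rw [hξ.closure_eq]
      haveI : Nonempty (TopologicalSpace.IrreducibleCloseds ↥({ξ} : Set X)) :=
        ⟨⟨closure {⟨ξ, rfl⟩}, isIrreducible_singleton.closure, isClosed_closure⟩⟩
      exact le_antisymm (topologicalKrullDim_zero_of_discreteTopology ↥({ξ} : Set X)) Order.krullDim_nonneg
    obtain ⟨q, hq, hqn⟩ := Nakai.exists_poly k (PicClLib.isInvertible_pullback W.subschemeι hL)
      (QCoh.isCoh_structureModule' (X := W.subscheme)) (C := (⊤ : TopologicalSpace.Closeds W.subscheme))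
      (fun x _ => trivial) (Nakai.dim_univ_le hdimW)
    have hz := htz W.subscheme W.subschemeι inferInstance inferInstance hdimW q hq fun j =>
      (Nakai.χ_push k W.subschemeι rfl hL QCoh.isQCoh_structureModule j).trans (hqn j)
    obtain ⟨p, hp, hpn⟩ := Nakai.exists_poly k (PicClLib.isInvertible_pullback W.subschemeι hH.1)
      (QCoh.isCoh_structureModule' (X := W.subscheme)) (C := (⊤ : TopologicalSpace.Closeds W.subscheme))
      (fun x _ => trivial) (Nakai.dim_univ_le hdimW)
    have hpos := Big.coeff_pos_invertible k hdimW (AmpleDev.isAmple_pullback_finite k W.subschemeι hH)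
      CurveDeg.isInvertible_structureModule hpn
    have h0q := hqn 0
    have h0p := hpn 0
    rw [Polynomial.eq_C_of_natDegree_le_zero hq, Polynomial.eval_C, hz] at h0q
    rw [Polynomial.eq_C_of_natDegree_le_zero hp, Polynomial.eval_C] at h0p
    rw [← h0p] at hpos
    refine hpos.ne' ?_
    rw [← h0q]
    refine congrArg Int.cast (CurveCohLib.euler_congr (k := k) ((cl_eq_iff.1 ?_).some))
    show PicF.cl (CohB1.tensorMod _ (CohB1.tensorPow _ 0)) = PicF.cl (CohB1.tensorMod _ (CohB1.tensorPow _ 0))
    rw [cl_tensor, cl_tensor, cl_tensorPow, cl_tensorPow, pow_zero, pow_zero]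
  obtain ⟨j, rfl⟩ := Nat.exists_eq_add_of_le' hm0
  obtain ⟨C, hC⟩ := Big.bound_of_topZero k n H L hH hL hN j htz _ (QCoh.isCoh_structureModule' (X := X))
    (⊤ : TopologicalSpace.Closeds X) (fun x _ => trivial) (Nakai.dim_univ_le hn)
  let μ := a * C * (2 * ν) ^ j + 1
  have h4 := hgrow μ (Nat.le_add_left 1 _)
  have h5 : Big.h0 k (CohB1.tensorPow L (ν * μ)) ≤ C * ((2 * ν) ^ j * μ ^ j) := by
    refine le_trans (le_of_eq (Big.h0_congr_cl k ?_)) ((hC (ν * μ)).trans ?_)
    · rw [cl_tensor, ← H23.PicMul.one_def, one_mul]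
    · rw [← mul_pow]
      exact Nat.mul_le_mul_left C (Nat.pow_le_pow_left (by
        have : 1 ≤ ν * μ := Nat.mul_pos hν (Nat.succ_pos _)
        rw [mul_assoc]; omega) j)
  have h6 : μ * μ ^ j ≤ (a * C * (2 * ν) ^ j) * μ ^ j := by
    rw [← pow_succ']
    exact (h4.trans (Nat.mul_le_mul_left a h5)).trans (le_of_eq (by ring))
  have h7 := Nat.le_of_mul_le_mul_right h6 (pow_pos (Nat.succ_pos _) j)
  omega

end Groth.Agent.S16903
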