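import Groth.Statements.S16904
import Groth.Agent.Big.IntNum
import Groth.Agent.Big.Semiample
import Groth.Agent.S16903

set_option autoImplicit false
universe u
open CategoryTheory CategoryTheory.Limits AlgebraicGeometry
open Vanish

attribute [-instance] CategoryTheory.catToReflQuiver

namespace Groth.Agent.S16904

open Groth.Agent Groth.Agent.H23.PicMul

/-- Let k be an algebraically closed field of characteristic zero and X an irreducible proper smooth
k-scheme of dimension n with an ample invertible O_X-module (a projective manifold); let L be a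
semi-ample invertible O_X-module (some L^⊗μ with μ > 0 is globally generated; such L is numerically
effective) with tensor inverse L⁻¹. Then for every natural number m, c_1(L)^m is numerically trivial
— (L^m · V) = 0 for every integral closed subscheme V ⊆ X of dimension m — if and only if κ(L) < m
in the growth form: there are no ν > 0 and a > 0 with μ^m ≤ a · dim_k H^0(X, L^⊗νμ) for all μ ≥ 1.
(This expresses ν(L) = κ(L) for semi-ample L; characteristic zero only.) -/
theorem result (k : Type u) [Field k] [IsAlgClosed k] [CharZero k]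
    (X : Scheme.{u}) [X.Over (Spec (CommRingCat.of k))] [IsProper (X ↘ Spec (CommRingCat.of k))]
    [Smooth (X ↘ Spec (CommRingCat.of k))] [IrreducibleSpace X] (n : ℕ) (hn : topologicalKrullDim X = n)
    (H : X.Modules) (hH : CohB1.IsAmple H) (L Linv : X.Modules) (hL : PicF.IsInvertible L) (hLinv : ClSub.IsInverseOf Linv L)
    (hsa : ∃ μ : ℕ, 0 < μ ∧ Curv2.IsGloballyGenerated (CohB1.tensorPow L μ))
    (m : ℕ) :
    (∀ (V : Scheme.{u}) (i : V ⟶ X) [IsClosedImmersion i], IsIntegral V → topologicalKrullDim V = (m : ℕ) →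
      FGA.intNum k X n (fun _ : Fin m => Linv) ((Scheme.Modules.pushforward i).obj (Coh.structureModule V)) = 0) ↔ ¬ (∃ ν a : ℕ, 0 < ν ∧ 0 < a ∧ ∀ μ : ℕ, 1 ≤ μ →
        μ ^ m ≤ a * Module.finrank k (Coh.HH X (CohB1.tensorPow L (ν * μ)) 0)) := by
  haveI := CurveCohLib.isNoetherian_of_proper (k := k) (X := X)
  obtain ⟨μ, hμ, hgg⟩ := hsa
  have hgen : ∀ x : X, ∃ t : Γ(CohB1.tensorPow L μ, (⊤ : X.Opens)), x ∈ AmpleX.locus t :=
    Big.exists_locus_of_gg (InvX.isInvertible_tensorPow hL μ) hgg
  have hN : Nakai.Nef k L := Big.nef_of_semiample k hL hμ hgen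
  constructor
  · intro hm
    exact S16903.result k X n hn H hH L Linv hL hLinv ((Nakai.nef_iff_curveDeg k hL).1 hN) m hm
  · intro hno V i _ hV hVd
    haveI := hV
    by_contra hne
    have h1 : PicF.cl Linv * PicF.cl L = 1 := by rw [← cl_tensor, cl_eq_iff.2 hLinv, H23.PicMul.one_def]
    obtain ⟨D, hD, ⟨δ⟩⟩ := H23.PicInv.exists_inverse hL
    have h2 : PicF.cl L * PicF.cl D = 1 := by rw [← cl_tensor, cl_eq_iff.2 ⟨δ⟩, H23.PicMul.one_def]
    have h3 : PicF.cl D = PicF.cl Linv := by rw [← one_mul (PicF.cl D), ← h1, mul_assoc, h2, mul_one]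
    have hLi : PicF.IsInvertible Linv := isInvertible_of_iso (cl_eq_iff.1 h3).some hD
    have hntz : ¬ Big.TopZero k L m := by
      intro htz
      letI : V.Over (Spec (CommRingCat.of k)) := ⟨i ≫ (X ↘ Spec (CommRingCat.of k))⟩
      haveI : IsProper (V ↘ Spec (CommRingCat.of k)) :=
        inferInstanceAs (IsProper (i ≫ (X ↘ Spec (CommRingCat.of k))))
      haveI := CurveCohLib.isNoetherian_of_proper (k := k) (X := V)
      obtain ⟨q, hq, hqn⟩ := Nakai.exists_poly k (PicClLib.isInvertible_pullback i hL)
        (QCoh.isCoh_structureModule' (X := V)) (C := (⊤ : TopologicalSpace.Closeds V))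
        (fun x _ => trivial) (Nakai.dim_univ_le hVd)
      have hqn' : ∀ j, Snapper.χ k L ((Coh.push i).obj (Coh.structureModule V)) j = q.eval (j : ℚ) := fun j =>
        (Nakai.χ_push k i rfl hL QCoh.isQCoh_structureModule j).trans (hqn j)
      have hq0 := htz V i inferInstance hV hVd q hq hqn'
      have hdimC : topologicalKrullDim ↥((⟨Set.range i, i.isClosedEmbedding.isClosed_range⟩ : TopologicalSpace.Closeds X) : Set X) ≤ m :=
        ((AmpleDev.dim_eq_one_of_closedImmersion i rfl).symm.trans hVd).le
      have h := Big.intNum_eq_coeff k hn.le hL hLi (by rw [mul_comm]; exact h1)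
        (QCoh.isCoh_push_structure i) (C := ⟨Set.range i, i.isClosedEmbedding.isClosed_range⟩)
        (QCoh.support_push_subset i QCoh.isQCoh_structureModule) hdimC hq hqn'
      rw [hq0, mul_zero, Int.cast_eq_zero] at h
      exact hne h
    exact hno ⟨μ, m.factorial, hμ, m.factorial_pos, fun j _ =>
      Big.exists_growth_of_semiample k hL hμ hgen hntz j⟩

end Groth.Agent.S16904
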