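import Groth.Statements.S16909
import Groth.Agent.AmpleX.QAGenerated
-- import your own Groth.Agent.* helpers here

set_option autoImplicit false
universe u
open CategoryTheory CategoryTheory.Limits AlgebraicGeometry
open ResProp

namespace Groth.Agent.S16909

section

open TopologicalSpace Groth.Agent Groth.Agent.AmpleX

set_option backward.isDefEq.respectTransparency false
set_option backward.isDefEq.respectTransparency.types false

variable {X : Scheme.{u}}

/-- Enough generated finite type ideals force quasi-affineness. -/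
theorem isQuasiAffine_of_generated_ideals_qs [CompactSpace X] [QuasiSeparatedSpace X]
    (h : ∀ (J : X.Modules) (i : J ⟶ Coh.structureModule X), Mono i → Coh.IsQCoh J → CohB1.IsFT J →
      Curv2.IsGloballyGenerated J) : X.IsQuasiAffine := by
  refine Scheme.IsQuasiAffine.of_forall_exists_mem_basicOpen X fun x => ?_
  obtain ⟨U, hU, hxU, -⟩ := exists_isAffineOpen_mem_and_subset (x := x) (U := ⊤) trivial
  let Z : Set X := (U : Set X)ᶜ
  let G := (QCoh.vanIdeal Z).toModules
  have hG : Coh.IsQCoh G := QCoh.isQCoh_vanIdeal Z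
  let N₀ : QCoh.SubMod G :=
    { mem := fun _ => ⊤, map_mem := fun _ _ _ => trivial, of_locally := fun _ _ _ => trivial }
  have h1mem : (show Γ(Coh.structureModule X, U) from (1 : Γ(X, U))) ∈ (QCoh.vanIdeal Z).mem U :=
    fun z hz hzb => hz (X.basicOpen_le _ hzb)
  obtain ⟨e, he⟩ := (QCoh.vanIdeal Z).exists_app_eq h1mem
  have h₀ : QCoh.FTOn N₀ U := fun y hy =>
    ⟨U, hU, hy, le_rfl, {e}, Set.finite_singleton e, fun _ _ => trivial, fun O hO s _ z hz =>
      ⟨O, le_rfl, hz, by
        rw [Set.image_singleton, Submodule.mem_span_singleton, QCoh.rs_self]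
        refine ⟨QCoh.toFn ((QCoh.vanIdeal Z).ι.app O s), (QCoh.vanIdeal Z).ι_app_injective O ?_⟩
        rw [Scheme.Modules.Hom.app_smul, QCoh.rs, QCoh.map_app_comm, he]
        show QCoh.toFn ((QCoh.vanIdeal Z).ι.app O s) * X.presheaf.map (homOfLE hO).op 1 = _
        rw [map_one, mul_one]⟩⟩
  obtain ⟨N, hN, hag⟩ : ∃ N : QCoh.SubMod G, QCoh.FTOn N ⊤ ∧ ∀ O, O ≤ U → N.mem O = N₀.mem O := by
    classical
    choose V hV hzV _ using fun z : X => exists_isAffineOpen_mem_and_subset (x := z) (U := ⊤) trivial
    have hind : ∀ S : Finset X, ∃ (W : X.Opens) (N : QCoh.SubMod G), IsCompact (W : Set X) ∧ U ≤ W ∧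
        (∀ z ∈ S, V z ≤ W) ∧ QCoh.FTOn N W ∧ ∀ O, O ≤ U → N.mem O = N₀.mem O := by
      intro S
      induction S using Finset.induction with
      | empty => exact ⟨U, N₀, hU.isCompact, le_rfl, by simp, h₀, fun _ _ => rfl⟩
      | insert z S hz ih =>
        obtain ⟨W, N, hWc, hUW, hS, hN, hag⟩ := ih
        have hK : IsCompact ((V z ⊓ W : X.Opens) : Set X) :=
          QuasiSeparatedSpace.inter_isCompact _ _ (V z).2 (hV z).isCompact W.2 hWc
        obtain ⟨N', hN', hft'⟩ := QCoh.exists_ft_step hG hN (hV z) hK
        refine ⟨W ⊔ V z, N', hWc.union (hV z).isCompact, hUW.trans le_sup_left, ?_, hft',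
          fun O hO => (hN' O (hO.trans hUW)).trans (hag O hO)⟩
        intro y hy
        rcases Finset.mem_insert.1 hy with rfl | hy
        · exact le_sup_right
        · exact (hS y hy).trans le_sup_left
    obtain ⟨S, hS⟩ := isCompact_univ.elim_finite_subcover (fun z : X => (V z : Set X)) (fun z => (V z).2)
      (fun z _ => Set.mem_iUnion.2 ⟨z, hzV z⟩)
    obtain ⟨W, N, -, -, hle, hN, hag⟩ := hind S
    obtain rfl : W = ⊤ := top_unique fun y _ => by
      obtain ⟨z, hz, hyz⟩ := Set.mem_iUnion₂.1 (hS (Set.mem_univ y))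
      exact hle z hz hyz
    exact ⟨N, hN, hag⟩
  let i : N.toModules ⟶ Coh.structureModule X := N.ι ≫ (QCoh.vanIdeal Z).ι
  obtain ⟨σ, p, hp⟩ := h N.toModules i inferInstance (QCoh.isQCoh_of_ftOn hG hN) (QCoh.isFT_of_ftOn hG hN)
  have hex : ∃ k : σ, x ∈ X.basicOpen
      (show Γ(X, ⊤) from InvX.one (SheafOfModules.ιFree k ≫ p ≫ i)) := by
    by_contra hcon
    push Not at hcon
    let j := X.fromSpecResidueField x
    have hj : ∀ z, j z = x := fun z => by
      have hz : j z ∈ Set.range j := ⟨z, rfl⟩
      rwa [Scheme.range_fromSpecResidueField] at hz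
    let φ : Coh.structureModule X ⟶ _ :=
      (Scheme.Modules.pullbackPushforwardAdjunction j).unit.app (Coh.structureModule X)
    have hinv := PicClLib.isInvertible_pullback j (InvX.isInvertible_structureModule (X := X))
    have hq : p ≫ i ≫ φ = 0 := by
      refine Limits.Sigma.hom_ext _ _ fun k => ?_
      rw [Limits.comp_zero]
      refine eq_zero_of_one_eq_zero _ ?_
      show InvX.pullElt j (InvX.one (SheafOfModules.ιFree k ≫ p ≫ i)) = 0
      refine eq_zero_of_locus_eq_bot hinv _ ?_
      rw [locus_pullElt InvX.isInvertible_structureModule, eq_bot_iff]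
      intro z hz
      have hz' : x ∈ locus (InvX.one (SheafOfModules.ιFree k ≫ p ≫ i)) := hj z ▸ hz
      refine absurd ?_ (hcon k)
      have h2 := locus_inf (InvX.one (SheafOfModules.ιFree k ≫ p ≫ i)) (le_refl (⊤ : X.Opens))
        (InvX.isFrame_one ⊤) (g := show Γ(X, ⊤) from InvX.one (SheafOfModules.ιFree k ≫ p ≫ i))
        (by rw [AModX.res_self]; exact (mul_one (show Γ(X, ⊤) from InvX.one (SheafOfModules.ιFree k ≫ p ≫ i))).symm)
      rw [inf_top_eq] at h2
      exact h2 ▸ hz'
    have hi : i ≫ φ = 0 := by rw [← cancel_epi p, hq, Limits.comp_zero]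
    obtain ⟨e', he'⟩ := N.exists_app_eq (s := e) (U := U) (by rw [hag U le_rfl]; trivial)
    have h0 : φ.app U (show Γ(Coh.structureModule X, U) from (1 : Γ(X, U))) = 0 := by
      rw [← he, ← he']
      show (i ≫ φ).app U e' = 0
      rw [hi]
      rfl
    have hfr := InvX.isFrame_pullElt j (InvX.isFrame_one (X := X) U)
    have h01 : (1 : Γ(Spec (X.residueField x), j ⁻¹ᵁ U)) = 0 := by
      refine (hfr _ le_rfl).1 ?_
      have he0 : InvX.pullElt j (show Γ(Coh.structureModule X, U) from (1 : Γ(X, U))) = 0 := h0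
      simp only [AModX.res_self, he0, smul_zero]
    obtain ⟨z⟩ : Nonempty (Spec (X.residueField x)) := inferInstance
    have hz : z ∈ j ⁻¹ᵁ U := by
      show j z ∈ U
      rw [hj]; exact hxU
    rw [← Scheme.basicOpen_of_isUnit (Spec (X.residueField x)) (U := j ⁻¹ᵁ U) isUnit_one, h01,
      Scheme.basicOpen_zero] at hz
    exact hz
  obtain ⟨k, hk⟩ := hex
  let g : Γ(X, ⊤) := InvX.one (SheafOfModules.ιFree k ≫ p ≫ i)
  refine ⟨g, ?_, hk⟩
  have hgU : X.basicOpen g ≤ U := fun z hz => by
    by_contra hzU
    exact (QCoh.vanIdeal Z).ι_app_mem ⊤ (N.ι.app ⊤ (InvX.one (SheafOfModules.ιFree k ≫ p))) z hzU hz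
  have := hU.basicOpen (X.presheaf.map (homOfLE (le_top : U ≤ ⊤)).op g)
  rwa [Scheme.basicOpen_res, inf_eq_right.2 hgU] at this

end

/-- Let `X` be a quasi-compact and quasi-separated scheme on which every quasi-coherent module is
globally generated (a quotient of a free module on some index type, i.e. the structure sheaf is a
generating family). Then `X` is quasi-affine. No separatedness hypothesis is made; it follows. (The
published statement is for an algebraic stack over an algebraic space with affine stabilizer groups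
at closed points and concludes that it is representable by a quasi-affine morphism; that general
case rests on results outside this text, and this row is the final step of its proof, the case of a
scheme.) -/
theorem result (X : Scheme.{u}) [CompactSpace X]
    [QuasiSeparatedSpace X] (h : ∀ M : X.Modules, Coh.IsQCoh M → Curv2.IsGloballyGenerated M) :
    X.IsQuasiAffine := by
  exact isQuasiAffine_of_generated_ideals_qs fun J _ _ hJ _ => h J hJ

end Groth.Agent.S16909
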