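import Groth.Statements.S1691
import Groth.Agent.Ref1X.Big
import Groth.Agent.QCoh.ExtendFT

set_option autoImplicit false
universe u
open CategoryTheory CategoryTheory.Limits AlgebraicGeometry TopologicalSpace
open SDiv

namespace Groth.Agent.S1691

/-- Let X be an integral locally Noetherian scheme and j : U ⟶ X an open subscheme such that the local
ring of X at every point outside U has depth at least 2. Then (a) for every coherent reflexive
module F on X the canonical map F ⟶ j_* j^* F is an isomorphism, and (b) for every coherent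
reflexive module G on U the direct image j_* G is coherent and reflexive (so that j^* and j_* are
mutually inverse equivalences). -/
theorem result (X : Scheme.{u}) [IsIntegral X] [IsLocallyNoetherian X] (U : X.Opens)
    (hU : ∀ x : ↥X, x ∉ U → (2 : ℕ∞) ≤ LocCoh.depth (X.presheaf.stalk x) (X.presheaf.stalk x)) :
    (∀ F : X.Modules, Coh.IsCoh F → (∀ x : ↥X, Module.IsReflexive (X.presheaf.stalk x) (F.presheaf.stalk x)) →
        IsIso ((Scheme.Modules.restrictAdjunction U.ι).unit.app F)) ∧
      (∀ G : (U : Scheme.{u}).Modules, Coh.IsCoh G → (∀ x : ↥(U : Scheme.{u}), Module.IsReflexive ((U : Scheme.{u}).presheaf.stalk x) (G.presheaf.stalk x)) →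
        Coh.IsCoh ((Scheme.Modules.pushforward U.ι).obj G) ∧
          (∀ x : ↥X, Module.IsReflexive (X.presheaf.stalk x) (((Scheme.Modules.pushforward U.ι).obj G).presheaf.stalk x))) := by
  have hA : ∀ F : X.Modules, Coh.IsCoh F → RefHull.IsReflexive F →
      IsIso ((Scheme.Modules.restrictAdjunction U.ι).unit.app F) := fun F hF hr =>
    Groth.Agent.RefX.isIso_unit_of_extendsAcross (Groth.Agent.RefX.extendsAcross_reflexive hF hr hU)
  refine ⟨fun F hF h => hA F hF ((Groth.Agent.RefX.isReflexive_iff hF).2 h), fun G hG h => ?_⟩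
  have hN : ∀ x : X, ∃ V : X.Opens, x ∈ V ∧ NoetherianSpace (V : Set X) := fun x => by
    obtain ⟨_, ⟨V, hV, rfl⟩, hxV, -⟩ := X.isBasis_affineOpens.exists_subset_of_mem_open (Set.mem_univ x) isOpen_univ
    haveI := IsLocallyNoetherian.component_noetherian ⟨V, hV⟩
    exact ⟨V, hxV, noetherianSpace_of_isAffineOpen V hV⟩
  haveI := Groth.Agent.QCoh.quasiCompact_ι_of_noetherian hN U
  obtain ⟨G', hq, hft, ⟨e⟩⟩ := Groth.Agent.QCoh.exists_extension_abs (Groth.Agent.QCoh.extStep_noetherian hN U) G hG.1 hG.2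
  have hG' : Coh.IsCoh G' := ⟨hq, hft⟩
  have hF : Coh.IsCoh (RefHull.ddual G') := Groth.Agent.RefX.isCoh_dual (Groth.Agent.RefX.isCoh_dual hG')
  have hb : ∀ x : X, x ∈ U → Function.Bijective (RefHull.stalkMapₗ (RefHull.bidualMap G') x) := fun x hx =>
    (Groth.Agent.RefX.stalkMap_bidual_bijective_iff hG' x).2 (Groth.Agent.Ref1X.isReflexiveAt_of_restrict G' hx
      (Groth.Agent.Ref1X.isReflexiveAt_of_iso e.symm ⟨x, hx⟩ (h ⟨x, hx⟩)))
  haveI := Groth.Agent.Ref1X.isIso_restrict_of_stalk (U := U) (RefHull.bidualMap G') hb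
  haveI := hA _ hF (Groth.Agent.Ref1X.isReflexive_ddual hG')
  let e' : RefHull.ddual G' ≅ (Scheme.Modules.pushforward U.ι).obj G :=
    asIso ((Scheme.Modules.restrictAdjunction U.ι).unit.app (RefHull.ddual G')) ≪≫
      (Scheme.Modules.pushforward U.ι).mapIso
        ((asIso ((Scheme.Modules.restrictFunctor U.ι).map (RefHull.bidualMap G'))).symm ≪≫ e)
  exact ⟨Groth.Agent.SheafHomX.isCoh_of_iso e' hF, fun x => Groth.Agent.Ref1X.isReflexiveAt_of_iso e' x
    ((Groth.Agent.RefX.isReflexive_iff hF).1 (Groth.Agent.Ref1X.isReflexive_ddual hG') x)⟩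

end Groth.Agent.S1691
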