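import Groth.Statements.S16914
-- import your own Groth.Agent.* helpers here
import Groth.Agent.AlgStLib.TrivStab
import Groth.Agent.AlgStLib.Bootstrap

set_option autoImplicit false
universe u
open CategoryTheory CategoryTheory.Limits AlgebraicGeometry
open ResProp

namespace Groth.Agent.S16914

/-- Let `𝒳` be an algebraic stack over `S` (fppf topology) whose diagonal is representable by algebraic
spaces, separated and quasi-compact. Then `𝒳` is representable by an algebraic space over `S` if and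
only if its stabilizer groups vanish at all geometric points: whenever `x` is an object of `𝒳` whose
scheme is the spectrum of an algebraically closed field, `ξ` an object with a morphism to `x` (a
pullback of `x` to some scheme) and `σ` an endomorphism of `ξ` lying over the identity, `σ` is the
identity. -/
theorem result (S : Scheme.{u}) (𝒳 : AlgSt.Cat S)
    (h𝒳 : AlgSt.IsAlgStack Scheme.fppfPrecoverage 𝒳)
    (hΔ : AlgSt.RepByAlgSpWith (AlgSp.IsSeparatedMor ⊓ AlgSp.IsQuasiCompactMor) (FibCat.diag (FibCat.toSelf 𝒳))) :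
    AlgSt.RepByAlgSp 𝒳 ↔
      ∀ (k : Type u) [Field k] [IsAlgClosed k] (x : 𝒳.obj) (e : (𝒳.p.obj x).left ≅ Spec (CommRingCat.of k))
        (ξ : 𝒳.obj) (φ : ξ ⟶ x) (σ : ξ ⟶ ξ), 𝒳.p.map σ = 𝟙 (𝒳.p.obj ξ) → σ = 𝟙 ξ := by
  refine ⟨fun h k _ _ x e ξ φ σ hσ => ?_, fun h => ?_⟩
  · have hl : 𝒳.p.IsHomLift (𝟙 (𝒳.p.obj ξ)) σ := hσ ▸ inferInstanceAs (𝒳.p.IsHomLift (𝒳.p.map σ) σ)
    let c : 𝒳.p.Fiber (𝒳.p.obj ξ) := Functor.Fiber.mk (p := 𝒳.p) (a := ξ) rfl
    let χ : c ⟶ c := ⟨σ, hl⟩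
    have h1 : χ = 𝟙 c := ((Groth.Agent.AlgStLib.isFibSetoid_of_repByAlgSp h).2 _ _ _).elim _ _
    exact congrArg Subtype.val h1
  · refine Groth.Agent.AlgStLib.repByAlgSp_of_isFibSetoid h𝒳
      (Groth.Agent.AlgStLib.isFibSetoid_of_forall_geom_autO h𝒳.isStack.1
        (Groth.Agent.AlgStLib.repByAlgSpWith_lft_diag_toSelf h𝒳.diag h𝒳.atlas) fun k _ _ sk x T => ?_)
    refine ⟨fun α β => ?_⟩
    have key : ∀ α : Gerb.AutO (x.obj T), α.hom.1 = 𝟙 (x.obj T) := fun α => by
      refine h k (x.obj (Over.mk (𝟙 (Over.mk sk)))) ((Over.forget S).mapIso (eqToIso (x.w_obj (Over.mk (𝟙 (Over.mk sk))))))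
        (x.obj T) (x.map (Over.homMk T.hom : T ⟶ Over.mk (𝟙 (Over.mk sk)))) α.hom.1 ?_
      exact Groth.Agent.FibBase.map_eq_of_isHomLift_id α.hom.2
    exact Iso.ext (Subtype.ext ((key α).trans (key β).symm))

end Groth.Agent.S16914
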