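import Groth.Statements.S16919
import Mathlib
-- import your own Groth.Agent.* helpers here

set_option autoImplicit false
universe u
open TensorProduct
open CAlg

namespace Groth.Agent.S16919

theorem eq_of_add_eq {e a τ : Cardinal.{u}} (he : e < Cardinal.aleph0) (hτ : Cardinal.aleph0 ≤ τ)
    (h : e + a = τ) : a = τ := by
  have ha : Cardinal.aleph0 ≤ a := by
    by_contra hc
    exact absurd (Cardinal.add_lt_aleph0 he (not_le.1 hc)) (not_lt.2 (h ▸ hτ))
  rwa [Cardinal.add_eq_right ha (he.le.trans ha)] at h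

theorem exists_ringEquiv_over {F K L : Type u} [Field F] [Field K] [Field L] [Algebra F K] [Algebra F L]
    [IsAlgClosed K] [IsAlgClosed L] (h : Algebra.trdeg F K = Algebra.trdeg F L) :
    ∃ e : K ≃+* L, ∀ x, e (algebraMap F K x) = algebraMap F L x := by
  obtain ⟨s, hs⟩ := exists_isTranscendenceBasis F K
  obtain ⟨t, ht⟩ := exists_isTranscendenceBasis F L
  obtain ⟨σ⟩ := Cardinal.eq.1 ((hs.cardinalMk_eq_trdeg.trans h).trans ht.cardinalMk_eq_trdeg.symm)
  let R₁ := Algebra.adjoin F (Set.range ((↑) : s → K))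
  let R₂ := Algebra.adjoin F (Set.range ((↑) : t → L))
  haveI : IsAlgClosure R₁ K := IsAlgClosed.isAlgClosure_of_transcendence_basis _ hs
  haveI : IsAlgClosure R₂ L := IsAlgClosed.isAlgClosure_of_transcendence_basis _ ht
  let e : R₁ ≃ₐ[F] R₂ := hs.1.aevalEquiv.symm.trans ((MvPolynomial.renameEquiv F σ).trans ht.1.aevalEquiv)
  refine ⟨IsAlgClosure.equivOfEquiv K L e.toRingEquiv, fun x => ?_⟩
  rw [show algebraMap F K x = algebraMap R₁ K (algebraMap F R₁ x) from rfl, IsAlgClosure.equivOfEquiv_algebraMap]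
  show algebraMap R₂ L (e (algebraMap F R₁ x)) = _
  rw [e.commutes]
  rfl

theorem exists_equiv_aux {k₀ k Ω R₀ : Type u} [Field k₀] [Field k] [Field Ω] [CommRing R₀] [IsDomain R₀]
    [Algebra k₀ k] [Algebra k₀ Ω] [Algebra k Ω] [IsScalarTower k₀ k Ω] [Algebra k₀ R₀]
    [Algebra.FiniteType k₀ R₀] [IsAlgClosed k] [IsAlgClosed Ω]
    (a : R₀ →ₐ[k₀] Ω) (ha : Function.Injective a) (b : R₀ →ₐ[k₀] k) (hb : Function.Injective b)
    (hτ : Cardinal.aleph0 ≤ Algebra.trdeg k₀ k) (hd : Algebra.trdeg k Ω < Cardinal.aleph0) :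
    ∃ e : Ω ≃+* k, ∀ r, e (a r) = b r := by
  let F₀ := FractionRing R₀
  let a' : F₀ →ₐ[k₀] Ω := IsFractionRing.liftAlgHom ha
  let b' : F₀ →ₐ[k₀] k := IsFractionRing.liftAlgHom hb
  letI : Algebra F₀ Ω := a'.toRingHom.toAlgebra
  letI : Algebra F₀ k := b'.toRingHom.toAlgebra
  haveI : IsScalarTower k₀ F₀ Ω := IsScalarTower.of_algebraMap_eq fun x => (a'.commutes x).symm
  haveI : IsScalarTower k₀ F₀ k := IsScalarTower.of_algebraMap_eq fun x => (b'.commutes x).symm
  have he : Algebra.trdeg k₀ F₀ < Cardinal.aleph0 := by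
    haveI : Algebra.IsAlgebraic R₀ F₀ := IsLocalization.isAlgebraic F₀ (nonZeroDivisors R₀)
    rw [← trdeg_add_eq k₀ R₀, trdeg_eq_zero (R := R₀) (A := F₀), add_zero]
    exact trdeg_lt_aleph0_of_finiteType
  have hk : Algebra.trdeg F₀ k = Algebra.trdeg k₀ k :=
    eq_of_add_eq he hτ (trdeg_add_eq k₀ F₀)
  have hΩ : Algebra.trdeg F₀ Ω = Algebra.trdeg k₀ k := by
    refine eq_of_add_eq he hτ ((trdeg_add_eq k₀ F₀).trans ?_)
    rw [← trdeg_add_eq k₀ k (A := Ω)]
    exact Cardinal.add_eq_left hτ (hd.le.trans hτ)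
  obtain ⟨e, he'⟩ := exists_ringEquiv_over (hΩ.trans hk.symm)
  refine ⟨e, fun r => ?_⟩
  have h1 : algebraMap F₀ Ω (algebraMap R₀ F₀ r) = a r := IsFractionRing.lift_algebraMap ha r
  rw [← h1, he']
  exact IsFractionRing.lift_algebraMap hb r

/-- Let k₀ → k be an extension of fields with k algebraically closed and of infinite transcendence
degree over k₀, R₀ a finitely generated k₀-algebra whose base change R = k ⊗ R₀ is an integral
domain (so Spec R is an integral affine k-scheme of finite type with the model Spec R₀ over k₀), and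
P a k-point of Spec R, i.e. a k-algebra homomorphism ev : R → k, lying over the generic point of
Spec R₀, i.e. with ev injective on R₀. Then there is a field isomorphism e from an algebraic closure
of the fraction field of R (the function field of Spec R) onto k such that e(1 ⊗ r) = ev(1 ⊗ r) for
every r in R₀: e extends evaluation at P on R₀. (The published setting has k algebraically closed of
characteristic zero and of infinite transcendence degree over its prime field, and k₀ the subfield
generated by the coefficients of equations of Spec R, which is finitely generated over the prime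
field, so that k has infinite transcendence degree over k₀; only this last property and no
characteristic assumption enter here. The isomorphism is not canonical.) -/
theorem result (k₀ k : Type u)
    [Field k₀] [Field k] [Algebra k₀ k] [IsAlgClosed k] (hinf : ∃ x : ℕ → k, AlgebraicIndependent k₀ x)
    (R₀ : Type u) [CommRing R₀] [Algebra k₀ R₀] [Algebra.FiniteType k₀ R₀] [IsDomain (k ⊗[k₀] R₀)]
    (ev : k ⊗[k₀] R₀ →ₐ[k] k) (hP : Function.Injective fun r : R₀ => ev (1 ⊗ₜ[k₀] r)) :
    ∃ e : AlgebraicClosure (FractionRing (k ⊗[k₀] R₀)) ≃+* k,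
      ∀ r : R₀, e (algebraMap (k ⊗[k₀] R₀) (AlgebraicClosure (FractionRing (k ⊗[k₀] R₀)))
        (1 ⊗ₜ[k₀] r)) = ev (1 ⊗ₜ[k₀] r) := by
  let R := k ⊗[k₀] R₀
  let F := FractionRing R
  have hι : Function.Injective (Algebra.TensorProduct.includeRight : R₀ →ₐ[k₀] R) :=
    Algebra.TensorProduct.includeRight_injective (RingHom.injective _)
  haveI : IsDomain R₀ := hι.isDomain Algebra.TensorProduct.includeRight.toRingHom
  obtain ⟨x, hx⟩ := hinf
  have hτ : Cardinal.aleph0 ≤ Algebra.trdeg k₀ k := by
    have h1 := hx.lift_cardinalMk_le_trdeg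
    simpa using h1
  have hinj : Function.Injective (algebraMap R (AlgebraicClosure F)) := by
    rw [IsScalarTower.algebraMap_eq R F (AlgebraicClosure F)]
    exact (algebraMap F (AlgebraicClosure F)).injective.comp (IsFractionRing.injective R F)
  have hd : Algebra.trdeg k (AlgebraicClosure F) < Cardinal.aleph0 := by
    haveI : Algebra.IsAlgebraic R F := IsLocalization.isAlgebraic F (nonZeroDivisors R)
    rw [← trdeg_add_eq k F, trdeg_eq_zero (R := F) (A := AlgebraicClosure F), add_zero, ← trdeg_add_eq k R,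
      trdeg_eq_zero (R := R) (A := F), add_zero]
    exact trdeg_lt_aleph0_of_finiteType
  exact exists_equiv_aux (k := k) (Ω := AlgebraicClosure F)
    (((IsScalarTower.toAlgHom k R (AlgebraicClosure F)).restrictScalars k₀).comp
      Algebra.TensorProduct.includeRight) (hinj.comp hι)
    ((ev.restrictScalars k₀).comp Algebra.TensorProduct.includeRight) hP hτ hd

end Groth.Agent.S16919
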