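import Groth.Statements.S16948
import Groth.Agent.GenBC.Compose
-- import your own Groth.Agent.* helpers here

set_option autoImplicit false
universe u
open Coherent

namespace Groth.Agent.S16948

open AlgebraicGeometry CategoryTheory Scheme.Modules in
/-- Take two cartesian squares of schemes side by side, f : X → Y over φ : U → V (vertical maps ξ : X →
U and η : Y → V, f ≫ η = ξ ≫ φ) and g : Y → Z over ψ : V → W (vertical map ζ : Z → W, g ≫ ζ = η ≫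
ψ), a quasi-coherent O_Z-module L and a natural number p. Write β for the degree-p base change maps
of higher direct images (R^p the p-th right derived functor of direct image on O-modules; the maps
are the pinned ones of the structure GenBC relative to pinned comparison data for ζ, η and ξ): B₂
for the right square, B₁ for the left square, B for the outer square. Then the composite of the
composition isomorphism φ^* ψ^* R^p ζ_* L ≅ (φ ≫ ψ)^* R^p ζ_* L with β_B(L) equals φ^* β_{B₂}(L)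
followed by β_{B₁}(g^* L) followed by R^p ξ_* of the composition isomorphism f^* g^* L ≅ (f ≫ g)^*
L. The source states this for arbitrary ζ and η; its verification evaluates both sides on sections
of R^p ζ_* L and R^p η_*(g^* L) over affine opens, identified with cohomology classes over their
preimages, and that identification is the one available for ζ and η quasi-compact and
quasi-separated, which are therefore assumed here. -/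
theorem result
    {X Y Z U V W : Scheme.{u}} (f : X ⟶ Y) (g : Y ⟶ Z) (ξ : X ⟶ U) (η : Y ⟶ V) (ζ : Z ⟶ W)
    (φ : U ⟶ V) (ψ : V ⟶ W) (h₁ : IsPullback f ξ η φ) (h₂ : IsPullback g η ζ ψ)
    (hw : (f ≫ g) ≫ ζ = ξ ≫ (φ ≫ ψ))
    [QuasiCompact ζ] [QuasiSeparated ζ] [QuasiCompact η] [QuasiSeparated η]
    [HasInjectiveResolutions X.Modules] [HasInjectiveResolutions Y.Modules] [HasInjectiveResolutions Z.Modules]
    (L : Z.Modules) [Coh.IsQCoh L] (p : ℕ)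
    {Δζ : RDer.DerivedLES (pushforward ζ)} {Δη : RDer.DerivedLES (pushforward η)} {Δξ : RDer.DerivedLES (pushforward ξ)}
    (Eζ : CohCmp.SectCmp ζ Δζ) (Eη : CohCmp.SectCmp η Δη) (Eξ : CohCmp.SectCmp ξ Δξ)
    (B₂ : CohCmp.GenBC ζ ψ η g h₂.w Eζ Eη) (B₁ : CohCmp.GenBC η φ ξ f h₁.w Eη Eξ)
    (B : CohCmp.GenBC ζ (φ ≫ ψ) ξ (f ≫ g) hw Eζ Eξ) :
    (pullbackComp φ ψ).hom.app ((Coh.Rpush ζ p).obj L) ≫ B.bc p L =
      (pullback φ).map (B₂.bc p L) ≫ B₁.bc p ((pullback g).obj L) ≫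
        (Coh.Rpush ξ p).map ((pullbackComp f g).hom.app L) := by
  let adjφ := pullbackPushforwardAdjunction φ
  let adjψ := pullbackPushforwardAdjunction ψ
  refine (adjφ.homEquiv _ _).injective ((adjψ.homEquiv _ _).injective (GenBC.hom_ext_ε ζ Eζ fun P z => ?_))
  let R := (Coh.Rpush ζ p).obj L
  let s : Γ(R, P) := Eζ.ε P L p z
  have hval : ∀ a : (pullback φ).obj ((pullback ψ).obj R) ⟶ (Coh.Rpush ξ p).obj ((pullback (f ≫ g)).obj L),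
      (adjψ.homEquiv _ _ (adjφ.homEquiv _ _ a)).app P s =
        (show Γ((Coh.Rpush ξ p).obj ((pullback (f ≫ g)).obj L), φ ⁻¹ᵁ (ψ ⁻¹ᵁ P)) from
          a.app (φ ⁻¹ᵁ (ψ ⁻¹ᵁ P)) (QCoh.pullSec φ ((pullback ψ).obj R) (le_refl (φ ⁻¹ᵁ (ψ ⁻¹ᵁ P)))
            (QCoh.pullSec ψ R (le_refl (ψ ⁻¹ᵁ P)) s))) := by
    intro a
    rw [Adjunction.homEquiv_unit, Adjunction.homEquiv_unit]
    have e₁ : QCoh.pullSec ψ R (le_refl (ψ ⁻¹ᵁ P)) s = (adjψ.unit.app R).app P s := QCoh.map_id' _ _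
    have e₂ : QCoh.pullSec φ ((pullback ψ).obj R) (le_refl (φ ⁻¹ᵁ (ψ ⁻¹ᵁ P))) ((adjψ.unit.app R).app P s) =
        (adjφ.unit.app ((pullback ψ).obj R)).app (ψ ⁻¹ᵁ P) ((adjψ.unit.app R).app P s) := QCoh.map_id' _ _
    rw [e₁, e₂]
    rfl
  refine (hval _).trans (Eq.trans ?_ (hval _).symm)
  let u₁ : Γ((pullback ψ).obj R, ψ ⁻¹ᵁ P) := QCoh.pullSec ψ R (le_refl (ψ ⁻¹ᵁ P)) s
  refine (congrArg ((B.bc p L).app (φ ⁻¹ᵁ (ψ ⁻¹ᵁ P)))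
    (ExistEasy.pullSec_comp φ ψ R (le_refl (ψ ⁻¹ᵁ P)) (le_refl (φ ⁻¹ᵁ (ψ ⁻¹ᵁ P))) s)).trans ?_
  refine (GenBC.bc_app_pullSec ζ Eζ B p L (W := φ ⁻¹ᵁ (ψ ⁻¹ᵁ P)) (le_refl _) s).trans ?_
  refine (GenBC.secMap_φ ζ (φ ≫ ψ) ξ (f ≫ g) hw B L p (V' := φ ⁻¹ᵁ (ψ ⁻¹ᵁ P)) (le_refl _) z).trans ?_
  let z₂ : Coh.HHon Y ((pullback g).obj L) (η ⁻¹ᵁ (ψ ⁻¹ᵁ P)) p :=
    CohPull.pullOn g (ζ ⁻¹ᵁ P) (η ⁻¹ᵁ (ψ ⁻¹ᵁ P)) (PBC.le_square ζ ψ η g h₂.w (le_refl _)) L p z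
  have h2 : (B₂.bc p L).app (ψ ⁻¹ᵁ P) u₁ = Eη.ε (ψ ⁻¹ᵁ P) ((pullback g).obj L) p z₂ :=
    (GenBC.bc_app_pullSec ζ Eζ B₂ p L (le_refl _) s).trans (GenBC.secMap_φ ζ ψ η g h₂.w B₂ L p (le_refl _) z)
  have h1 : ((pullback φ).map (B₂.bc p L)).app (φ ⁻¹ᵁ (ψ ⁻¹ᵁ P))
      (QCoh.pullSec φ ((pullback ψ).obj R) (le_refl (φ ⁻¹ᵁ (ψ ⁻¹ᵁ P))) u₁) =
      QCoh.pullSec φ ((Coh.Rpush η p).obj ((pullback g).obj L)) (le_refl (φ ⁻¹ᵁ (ψ ⁻¹ᵁ P)))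
        (Eη.ε (ψ ⁻¹ᵁ P) ((pullback g).obj L) p z₂) :=
    (ExistEasy.pullSec_natural φ (B₂.bc p L) (le_refl _) u₁).trans (congrArg _ h2)
  have h3 : (B₁.bc p ((pullback g).obj L)).app (φ ⁻¹ᵁ (ψ ⁻¹ᵁ P))
      (QCoh.pullSec φ ((Coh.Rpush η p).obj ((pullback g).obj L)) (le_refl (φ ⁻¹ᵁ (ψ ⁻¹ᵁ P)))
        (Eη.ε (ψ ⁻¹ᵁ P) ((pullback g).obj L) p z₂)) =
      Eξ.ε (φ ⁻¹ᵁ (ψ ⁻¹ᵁ P)) ((pullback f).obj ((pullback g).obj L)) p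
        (CohPull.pullOn f (η ⁻¹ᵁ (ψ ⁻¹ᵁ P)) (ξ ⁻¹ᵁ (φ ⁻¹ᵁ (ψ ⁻¹ᵁ P)))
          (PBC.le_square η φ ξ f h₁.w (le_refl _)) ((pullback g).obj L) p z₂) :=
    (GenBC.bc_app_pullSec η Eη B₁ p ((pullback g).obj L) (le_refl _) _).trans
      (GenBC.secMap_φ η φ ξ f h₁.w B₁ ((pullback g).obj L) p (le_refl _) z₂)
  refine Eq.trans ?_ (congrArg (((Coh.Rpush ξ p).map ((pullbackComp f g).hom.app L)).app (φ ⁻¹ᵁ (ψ ⁻¹ᵁ P)))
    ((congrArg ((B₁.bc p ((pullback g).obj L)).app (φ ⁻¹ᵁ (ψ ⁻¹ᵁ P))) h1).trans h3)).symm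
  refine Eq.trans ?_ (Eξ.natural (φ ⁻¹ᵁ (ψ ⁻¹ᵁ P)) ((pullbackComp f g).hom.app L) p _)
  exact congrArg (Eξ.ε (φ ⁻¹ᵁ (ψ ⁻¹ᵁ P)) ((pullback (f ≫ g)).obj L) p)
    (GenBC.pullOn_comp f g (ζ ⁻¹ᵁ P) (η ⁻¹ᵁ (ψ ⁻¹ᵁ P)) (ξ ⁻¹ᵁ (φ ⁻¹ᵁ (ψ ⁻¹ᵁ P))) _ _ L p z).symm

end Groth.Agent.S16948
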