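import Groth.Statements.S16950
import Groth.Agent.GenBC.FlatImagesGeom
-- import your own Groth.Agent.* helpers here

set_option autoImplicit false
universe u
open Coherent

namespace Groth.Agent.S16950

open AlgebraicGeometry CategoryTheory Scheme.Modules in
/-- For a single module in place of the complex, let S be a scheme, a : X → S and b : Y → S schemes over
S, f : X → Y a separated quasi-compact morphism with f ≫ b = a, and F a quasi-coherent O_X-module,
flat over S (via a), such that every higher direct image R^n f_* F (the n-th right derived functor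
of direct image on O-modules) is flat over S (via b). For any morphism g : S' → S form the cartesian
squares Y' = Y ×_S S' (projections g_Y : Y' → Y, b' : Y' → S') and X' = X ×_Y Y' (projections g_X :
X' → X, f' : X' → Y'). Then for every n the degree-n base change map g_Y^* R^n f_* F → R^n f'_*
(g_X^* F) is an isomorphism; the map is the pinned one of the structure GenBC, relative to pinned
comparison data for f and f'. -/
theorem result
    {X Y S X' Y' S' : Scheme.{u}} (a : X ⟶ S) (b : Y ⟶ S) (f : X ⟶ Y) (hf : f ≫ b = a)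
    [IsSeparated f] [QuasiCompact f]
    (g : S' ⟶ S) (gY : Y' ⟶ Y) (b' : Y' ⟶ S') (hY : IsPullback gY b' b g)
    (gX : X' ⟶ X) (f' : X' ⟶ Y') (hX : IsPullback gX f' f gY)
    [HasInjectiveResolutions X.Modules] [HasInjectiveResolutions X'.Modules]
    (F : X.Modules) [Coh.IsQCoh F] (hF : FlatMod.IsFlatOver a F)
    (hR : ∀ n : ℕ, FlatMod.IsFlatOver b ((Coh.Rpush f n).obj F))
    {Δ : RDer.DerivedLES (pushforward f)} {Δ' : RDer.DerivedLES (pushforward f')}
    (E : CohCmp.SectCmp f Δ) (E' : CohCmp.SectCmp f' Δ') (B : CohCmp.GenBC f gY f' gX hX.w E E') (n : ℕ) :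
    IsIso (B.bc n F) := by
  refine GenBC.isIso_transpose_local gY (B.φ n F) (QCoh.isQCoh_Rpush f ‹_› n) fun y => ?_
  obtain ⟨_, ⟨WS, hWS, rfl⟩, hWy, -⟩ :=
    S.isBasis_affineOpens.exists_subset_of_mem_open (Set.mem_univ (b (gY y))) isOpen_univ
  have hWS' : IsAffineOpen WS := hWS
  obtain ⟨_, ⟨V, hV, rfl⟩, hVy, hVW⟩ := Y.isBasis_affineOpens.exists_subset_of_mem_open
    (show gY y ∈ b ⁻¹ᵁ WS from hWy) (b ⁻¹ᵁ WS).isOpen
  have hV' : IsAffineOpen V := hV
  have hgy : g (b' y) = b (gY y) := by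
    rw [← Scheme.Hom.comp_apply, ← Scheme.Hom.comp_apply, hY.w]
  obtain ⟨_, ⟨T, hT, rfl⟩, hTy, hTW⟩ := S'.isBasis_affineOpens.exists_subset_of_mem_open
    (show b' y ∈ g ⁻¹ᵁ WS by show g (b' y) ∈ WS; rw [hgy]; exact hWy) (g ⁻¹ᵁ WS).isOpen
  have hT' : IsAffineOpen T := hT
  obtain ⟨hO, htow₁, htow₂, hpo⟩ := FibFlatMod.isPushout_sections hY hWS' hV' hVW hT' hTW
    (W := gY ⁻¹ᵁ V ⊓ b' ⁻¹ᵁ T) rfl inf_le_left inf_le_right
  refine ⟨V, gY ⁻¹ᵁ V ⊓ b' ⁻¹ᵁ T, hV', ⟨hVy, hTy⟩, inf_le_left, fun W hW hWO hle => ?_⟩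
  refine GenBC.isBCAt_φ f gY f' gX hX.w B hX ‹_› n hV' hW hle ?_
  intro κ _ U hU hcov
  let O : Y'.Opens := gY ⁻¹ᵁ V ⊓ b' ⁻¹ᵁ T
  letI : Algebra Γ(Y, V) Γ(Y', W) := (gY.appLE V W hle).hom.toAlgebra
  letI : Algebra Γ(S, WS) Γ(S', T) := (g.appLE WS T hTW).hom.toAlgebra
  letI : Algebra Γ(Y, V) Γ(Y', O) := (gY.appLE V O inf_le_left).hom.toAlgebra
  letI : Algebra Γ(S', T) Γ(Y', O) := (b'.appLE T O inf_le_right).hom.toAlgebra
  letI : Algebra Γ(S, WS) Γ(Y', O) := (b.appLE WS V hVW ≫ gY.appLE V O inf_le_left).hom.toAlgebra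
  letI : Algebra Γ(Y', O) Γ(Y', W) := (Scheme.Hom.appLE (𝟙 Y') O W hWO).hom.toAlgebra
  haveI : IsScalarTower Γ(Y, V) Γ(Y', O) Γ(Y', W) := IsScalarTower.of_algebraMap_eq fun x => by
    show gY.appLE V W hle x = (gY.appLE V O inf_le_left ≫ Scheme.Hom.appLE (𝟙 Y') O W hWO) x
    rw [Scheme.Hom.appLE_comp_appLE]
    simp only [Category.id_comp]
  haveI : Module.Flat Γ(Y', O) Γ(Y', W) := Scheme.Hom.flat_appLE (𝟙 Y') hO hW hWO
  exact GenBC.bijective_muT_flatImages f a b hf F ‹_› hF hR hWS' hV' hVW U hU hcov Γ(S', T) Γ(Y', O)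
    ⟨htow₁, htow₂, hpo⟩ (ModuleCat.of Γ(Y, V) Γ(Y', W)) n

end Groth.Agent.S16950
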