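import Groth.Statements.S16960
import Groth.Agent.S16721
import Groth.Agent.ConstActX.Bridge

set_option backward.isDefEq.respectTransparency false
set_option backward.isDefEq.respectTransparency.types false
set_option linter.style.haveILetI false
-- import your own Groth.Agent.* helpers here

set_option autoImplicit false
universe u
open ConstAct

namespace Groth.Agent.S16960

open CategoryTheory AlgebraicGeometry in
/-- Let R be a Noetherian commutative ring, A a commutative R-algebra of finite type, and G a finite
group acting on A by R-algebra automorphisms, with ring of invariants A^G. Let [Spec A/G] be the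
quotient stack of Spec A by the constant group scheme of G over Spec R, the category over (Sch/Spec
R) whose objects are torsors under the constant group scheme, locally trivial for the fppf topology,
with an equivariant morphism to Spec A; and let π : [Spec A/G] → Spec A^G be a functor over
(Sch/Spec R) whose composite with the canonical functor Spec A → [Spec A/G] is the functor of the
morphism Spec A → Spec A^G induced by the inclusion A^G ⊆ A. Then (a) π is a coarse moduli space:
every functor over (Sch/Spec R) from [Spec A/G] to the category of an algebraic space over Spec R
factors through π by exactly one morphism of algebraic spaces (up to 2-isomorphism), and for every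
algebraically closed field Ω over R the functor π induces a bijection from the isomorphism classes
of objects of [Spec A/G] lying over Spec Ω onto the Ω-points of Spec A^G; and (b) Spec A → Spec A^G
is bijective on Ω-points modulo G for every algebraically closed field Ω over R: every R-algebra map
A^G → Ω extends to A, and two R-algebra maps A → Ω with the same restriction to A^G differ by the
action of an element of G. (Together (a) and (b) say that Spec A → Spec A^G is a geometric quotient:
bijective on geometric points modulo G and universal for G-invariant maps to algebraic spaces.) (The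
published statement puts no finiteness condition on A; the published proof uses that A is finite
over A^G, which holds when A is of finite type over a Noetherian ring, the case stated here.) -/
theorem result (R : Type u) [CommRing R] [IsNoetherianRing R]
    (A : Type u) [CommRing A] [Algebra R A] [Algebra.FiniteType R A]
    (G : Type u) [Group G] [Fintype G] [DecidableEq G] [MulSemiringAction G A] [SMulCommClass G R A]
    (π : ConstAct.quotSt R A G Scheme.fppfPrecoverage ⥤ᵇ AlgSt.ofSch (ConstAct.specInv R A G))
    (hπ : BasedFunctor.comp
        (AlgSt.quotMap Scheme.fppfPrecoverage (ConstAct.GR R G) (ConstAct.gaction R A G)) π =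
      AlgSt.ofSpMap ((AlgSp.yon (Spec (CommRingCat.of R))).map (ConstAct.quot R A G))) :
    AlgSt.IsCoarseModuli π ∧
      ∀ (Ω : Type u) [Field Ω] [IsAlgClosed Ω] [Algebra R Ω],
        (∀ y : ↥(ConstAct.inv R A G) →ₐ[R] Ω, ∃ x : A →ₐ[R] Ω, x.comp (ConstAct.inv R A G).val = y) ∧
        (∀ x x' : A →ₐ[R] Ω, x.comp (ConstAct.inv R A G).val = x'.comp (ConstAct.inv R A G).val →
          ∃ g : G, x' = x.comp (MulSemiringAction.toAlgEquiv R A g : A →ₐ[R] A)) := by
  haveI := Groth.Agent.ConstActX.isInvariant_inv R A G
  haveI := Groth.Agent.ConstActX.smulCommClass_inv R A G
  haveI := Groth.Agent.ConstActX.finite_inv R A G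
  obtain ⟨_, _, _⟩ := Groth.Agent.ConstActX.gr_props R G
  refine ⟨Groth.Agent.S16721.result (Spec (CommRingCat.of R)) (ConstAct.GR R G) (ConstAct.X R A)
    (ConstAct.specInv R A G) (ConstAct.gaction R A G) (ConstAct.quot R A G)
    (Groth.Agent.ConstActX.gaction_quot R A G) (fun Ω _ _ t => Groth.Agent.ConstActX.horb R A G Ω t)
    (fun N ψ h => Groth.Agent.ConstActX.hcat R A G N ψ h) π ⟨eqToIso hπ⟩, fun Ω _ _ _ => ⟨fun y => ?_, fun x x' h => ?_⟩⟩
  · obtain ⟨ξ, hξ⟩ := Groth.Agent.ConstActX.exists_extend (A := ConstAct.inv R A G) (B := A)
      Subtype.val_injective y.toRingHom
    exact ⟨{ ξ with commutes' := fun r => (RingHom.congr_fun hξ (algebraMap R _ r)).trans (y.commutes r) },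
      AlgHom.ext fun a => RingHom.congr_fun hξ a⟩
  · obtain ⟨g, hg⟩ := Groth.Agent.ConstActX.exists_smul_eq (A := ConstAct.inv R A G) (G := G) x.toRingHom x'.toRingHom
      (RingHom.ext fun a => AlgHom.congr_fun h a)
    exact ⟨g, AlgHom.ext hg⟩

end Groth.Agent.S16960
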