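import Groth.Statements.S16968
import Groth.Agent.CliffEq.Curve

set_option autoImplicit false
set_option linter.style.haveILetI false
set_option backward.isDefEq.respectTransparency false
set_option backward.isDefEq.respectTransparency.types false
set_option maxHeartbeats 4000000
-- import your own Groth.Agent.* helpers here

set_option autoImplicit false
universe u
open CategoryTheory CategoryTheory.Limits AlgebraicGeometry Opposite
open Curves

namespace Groth.Agent.S16968

/-- Let X be a smooth projective curve over an algebraically closed field k of characteristic 0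
(integral, proper over k, of dimension one, all local rings regular) of genus g ≥ 3 which is
hyperelliptic, with a g^1_2 given as an invertible module N of degree 2 and two k-linearly
independent global sections t_0, t_1. Then the canonical morphism of X is linearly semistable but
not linearly stable, stated through the criterion by invertible subsheaves: (i) for every invertible
module M and every monomorphism ι : M ⟶ Ω_{X/k} which is not an isomorphism, with dim_k H^0(X, M) ≥
2, one has deg Ω_{X/k} · (h^0(M) - 1) ≤ deg M · (h^0(Ω_{X/k}) - 1); (ii) N admits a monomorphism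
into Ω_{X/k} which is not an isomorphism and for which equality holds. Degrees are χ(·) - χ(O_X).
(The published statement gives no genus bound for the hyperelliptic case; here g ≥ 3 is assumed,
since for g = 2 the module N is the canonical module itself and clause (ii) fails.) -/
theorem result (k : Type u) [Field k] [IsAlgClosed k] [CharZero k] (X : Scheme.{u}) [X.Over (Spec (CommRingCat.of k))]
    [IsIntegral X] [IsProper (X ↘ (Spec (CommRingCat.of k)))] (hdim : topologicalKrullDim X = 1)
    (hreg : ∀ x : X, IsRegularLocalRing (X.presheaf.stalk x))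
    (hg : 3 ≤ Curv2.genus k X)
    (N : X.Modules) (t : Fin 2 → LinSer.Sect X N) (hN : LinSer.IsLinSer k X N 2 1 t) :
    (∀ (M : X.Modules) (ι : M ⟶ Omega.sheaf (X ↘ (Spec (CommRingCat.of k)))), PicF.IsInvertible M → Mono ι → ¬ IsIso ι →
        2 ≤ Module.finrank k (Coh.HH X M 0) →
        Curv2.deg k X (Omega.sheaf (X ↘ (Spec (CommRingCat.of k)))) 1 * ((Module.finrank k (Coh.HH X M 0) : ℤ) - 1) ≤
          Curv2.deg k X M 1 * ((Module.finrank k (Coh.HH X (Omega.sheaf (X ↘ (Spec (CommRingCat.of k)))) 0) : ℤ) - 1)) ∧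
      ∃ ι : N ⟶ Omega.sheaf (X ↘ (Spec (CommRingCat.of k))), Mono ι ∧ ¬ IsIso ι ∧
        Curv2.deg k X (Omega.sheaf (X ↘ (Spec (CommRingCat.of k)))) 1 * ((Module.finrank k (Coh.HH X N 0) : ℤ) - 1) =
          Curv2.deg k X N 1 * ((Module.finrank k (Coh.HH X (Omega.sheaf (X ↘ (Spec (CommRingCat.of k)))) 0) : ℤ) - 1) := by
  haveI := Groth.Agent.CurveCohLib.RegularCurve.smooth_of_regular k fun x _ => hreg x
  haveI := Groth.Agent.CurveCohLib.isNoetherian_of_proper (k := k) (X := X)
  have h0 := Groth.Agent.CurveCohLib.Clifford.finrank_h0_structure k (X := X)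
  obtain ⟨hΩ0, hΩd⟩ := Groth.Agent.CurveBC.canonical_invariants k X hdim h0
  refine ⟨fun M ι hM hmono hι h2 => ?_, ?_⟩
  · haveI := hmono
    obtain ⟨hcl, -⟩ := Groth.Agent.CliffEq.clifford_sub k hdim (by omega) hM ι hι h2
    rw [hΩ0, hΩd]
    have hg1 : (0 : ℤ) ≤ (Curv2.genus k X : ℤ) - 1 := by omega
    nlinarith [mul_le_mul_of_nonneg_left hcl hg1]
  obtain ⟨hNi, hNd, hNs⟩ := hN
  have h0N := Groth.Agent.CurveCohLib.Pencil.le_h0_of_linIndep k
    (Groth.Agent.CurveDeg.isCoh_of_isInvertible hNi) t hNs
  have h2 : Module.finrank k (Coh.HH X N 0) = 2 := by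
    by_contra hne
    have := Groth.Agent.CurveCohLib.Clifford.dichotomy k hdim hNi (m := 2) (by omega)
    omega
  letI := Groth.Agent.H9PB.CurveFinFF.ffAlg k X
  have hK := Groth.Agent.H9PB.CurveFinFF.isFunctionField k X hdim h0
  obtain ⟨D, hD⟩ := Groth.Agent.H9PB.CurveFinFF.exists_hasClass k hdim hNi
  have hDl : FunFld.ell D = 2 := by rw [← Groth.Agent.CliffEq.finrank_eq_ell k hdim hD, h2]
  obtain ⟨hT, hTc⟩ := Groth.Agent.CliffEq.exists_class_pow k hdim hD (Curv2.genus k X - 2)
  have hNT := hD.tensor k hdim hTc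
  have hpos := Groth.Agent.CliffEq.ell_nsmul_add hK (D := (0 : FunFld.Divisor k X.functionField))
    (by rw [Groth.Agent.FFLib.ell_zero hK]; omega) hDl (Curv2.genus k X - 2)
  rw [zero_add, Groth.Agent.FFLib.ell_zero hK] at hpos
  obtain ⟨s, hsne⟩ := Groth.Agent.CurveRR.exists_hom_ne_zero k (P := CohB1.tensorPow N (Curv2.genus k X - 2))
    (by rw [Groth.Agent.CliffEq.finrank_eq_ell k hdim hTc]; omega)
  haveI : Mono s := Groth.Agent.InvEnd.mono_of_ne_zero Groth.Agent.CurveDeg.isInvertible_structureModule hT s hsne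
  haveI : Mono ((DCoh.tensorBi.obj N).map s) :=
    (Groth.Agent.CurveTensor.shortExact_tensor
      (Groth.Agent.CurveStable.isFinLocFree_of_rank (Groth.Agent.InvEnd.isFinLocFreeOfRank_one hNi)) s _ _
      (Groth.Agent.CurveSlope.shortExact_cokernel_of_mono s)).mono_f
  obtain ⟨e⟩ := Groth.Agent.CurveBC.nonempty_iso_omega k X hdim h0
    (L := CohB1.tensorMod N (CohB1.tensorPow N (Curv2.genus k X - 2)))
    (Groth.Agent.InvX.isInvertible_tensorMod hNi hT) (by
      rw [← hNT.deg k hdim h0]
      have e1 : ∀ i : ℕ, (i • D).deg = 2 * i := fun i => by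
        induction i with
        | zero => simp
        | succ i ih =>
          rw [succ_nsmul, Groth.Agent.FFLib.Divisor.deg_add, ih, hD.deg k hdim h0, hNd]; push_cast; ring
      rw [Groth.Agent.FFLib.Divisor.deg_add, hD.deg k hdim h0, hNd, e1]
      omega) (by
      rw [Groth.Agent.CliffEq.finrank_eq_ell k hdim hNT]
      have := Groth.Agent.CliffEq.ell_nsmul_add hK (D := D) (by omega) hDl (Curv2.genus k X - 2)
      omega)
  let f : N ⟶ Omega.sheaf (X ↘ Spec (CommRingCat.of k)) :=
    (SecTwist.unitorR N).inv ≫ (DCoh.tensorBi.obj N).map s ≫ e.hom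
  haveI : Mono f := mono_comp _ _
  refine ⟨f, inferInstance, fun h => ?_, ?_⟩
  · haveI := h
    have := Groth.Agent.CurveRR.deg_congr k (asIso f) 1
    rw [hΩd, hNd] at this
    omega
  · rw [hΩ0, hΩd, h2, hNd]
    push_cast
    ring

end Groth.Agent.S16968
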