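import Groth.Statements.S16981
import Mathlib.RingTheory.Filtration
import Mathlib.RingTheory.Nilpotent.Basic
import Mathlib.RingTheory.AdicCompletion.Exactness
import Mathlib.RingTheory.AdicCompletion.Functoriality
import Mathlib.RingTheory.AdicCompletion.Topology
-- import your own Groth.Agent.* helpers here

set_option autoImplicit false
universe u v
open CAlg

namespace Groth.Agent.S16981

theorem of_pi_surjective {R : Type*} [CommRing R] (I : Ideal R) (M : Type*) [AddCommGroup M]
    [Module R M] (ι : Type*) [Fintype ι] [DecidableEq ι]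
    (h : Function.Surjective (AdicCompletion.of I M)) (w : AdicCompletion I (ι → M)) :
    ∃ a : ι → M, AdicCompletion.of I (ι → M) a = w := by
  choose a ha using fun i => h (AdicCompletion.map I (LinearMap.proj i) w)
  refine ⟨a, (AdicCompletion.piEquivOfFintype I (fun _ : ι => M)).injective ?_⟩
  ext1 i
  simp only [AdicCompletion.piEquivOfFintype_apply, AdicCompletion.pi, LinearMap.pi_apply]
  rw [AdicCompletion.map_of]
  exact ha i

/-- In a Noetherian ring, if `J ≤ jacobson ⊥`, the quotient `E ⧸ N` is `J`-adically complete and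
`N` is killed by itself, then `E` is `J`-adically complete. -/
theorem isAdicComplete_of_sqZero {E : Type v} [CommRing E] (J N : Ideal E)
    [IsNoetherianRing (E ⧸ N)] (hN : N.FG) (hNN : N ^ 2 = ⊥) (hNJ : N ≤ J)
    [hc : IsAdicComplete (J.map (Ideal.Quotient.mk N)) (E ⧸ N)]
    (hjac : J ≤ Ideal.jacobson ⊥) : IsAdicComplete J E := by
  classical
  have hQ : IsNoetherian E (E ⧸ N) := by
    let l : (E ⧸ N) →ₛₗ[Ideal.Quotient.mk N] (E ⧸ N) :=
      { toFun := id
        map_add' := fun _ _ => rfl
        map_smul' := fun r x => by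
          obtain ⟨x, rfl⟩ := Ideal.Quotient.mk_surjective x
          rfl }
    haveI : RingHomSurjective (Ideal.Quotient.mk N) := ⟨Ideal.Quotient.mk_surjective⟩
    exact (LinearMap.isNoetherian_iff_of_bijective l Function.bijective_id).mpr inferInstance
  obtain ⟨r, g, hg⟩ := Submodule.fg_iff_exists_fin_generating_family.mp hN
  have hgN : ∀ i, g i ∈ N := fun i => hg ▸ Submodule.subset_span ⟨i, rfl⟩
  have hkill : ∀ i, N ≤ LinearMap.ker (LinearMap.toSpanSingleton E N ⟨g i, hgN i⟩) := by
    intro i e he
    apply Subtype.ext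
    have : e * g i ∈ N ^ 2 := by rw [sq]; exact Ideal.mul_mem_mul he (hgN i)
    rw [hNN] at this
    simpa using this
  let φ : (Fin r → E ⧸ N) →ₗ[E] N :=
    ∑ i, (N.liftQ (LinearMap.toSpanSingleton E N ⟨g i, hgN i⟩) (hkill i)).comp (LinearMap.proj i)
  have hφ : Function.Surjective φ := by
    rintro ⟨x, hx⟩
    rw [← hg, Submodule.mem_span_range_iff_exists_fun] at hx
    obtain ⟨c, hc⟩ := hx
    refine ⟨fun i => Submodule.Quotient.mk (c i), Subtype.ext ?_⟩
    simp [φ, ← hc]
    exact Finset.sum_congr rfl fun i _ => rfl
  haveI hNn : IsNoetherian E N := isNoetherian_of_surjective φ (LinearMap.range_eq_top.mpr hφ)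
  have hexact : Function.Exact (Submodule.subtype N) (Submodule.mkQ N) :=
    LinearMap.exact_subtype_mkQ N
  haveI : IsNoetherianRing E := isNoetherian_of_range_eq_ker (Submodule.subtype N)
    (Submodule.mkQ N) (LinearMap.exact_iff.mp hexact).symm
  have hQc : IsAdicComplete J (E ⧸ N) := by
    rwa [← Ideal.Quotient.algebraMap_eq, IsAdicComplete.map_algebraMap_iff] at hc
  haveI hH : IsHausdorff J E :=
    ⟨fun x hx => by
      have h0 : x ∈ (⨅ n : ℕ, J ^ n • ⊤ : Submodule E E) :=
        Submodule.mem_iInf _ |>.mpr fun n => by simpa [SModEq.zero] using hx n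
      rwa [Ideal.iInf_pow_smul_eq_bot_of_le_jacobson J hjac] at h0⟩
  refine AdicCompletion.of_bijective_iff.mp ⟨AdicCompletion.of_injective_iff.mpr hH, fun y => ?_⟩
  -- the image in the completion of the quotient
  obtain ⟨q, hq⟩ := (AdicCompletion.of_bijective J (E ⧸ N)).2
    (AdicCompletion.map J (Submodule.mkQ N) y)
  obtain ⟨e, rfl⟩ := Submodule.mkQ_surjective N q
  have hker : AdicCompletion.map J (Submodule.mkQ N) (y - AdicCompletion.of J E e) = 0 := by
    rw [map_sub, AdicCompletion.map_of, ← hq, sub_self]
  obtain ⟨z, hz⟩ := (AdicCompletion.map_exact (Submodule.subtype_injective N) hexact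
    (Submodule.mkQ_surjective N) _).mp hker
  obtain ⟨w, rfl⟩ := AdicCompletion.map_surjective J hφ z
  have hw := of_pi_surjective J (E ⧸ N) (Fin r) (AdicCompletion.of_bijective J (E ⧸ N)).2 w
  obtain ⟨a, rfl⟩ := hw
  refine ⟨(φ a : E) + e, ?_⟩
  rw [AdicCompletion.map_of, AdicCompletion.map_of] at hz
  rw [map_add]
  have := congrArg (· + AdicCompletion.of J E e) hz
  simpa using this

/-- Let A be a complete Noetherian local ring and f : E → A a surjective ring homomorphism whose kernel
has square zero and is finitely generated (equivalently, is a finite A-module for the induced module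
structure). Then E is separated and complete for the adic topology of the inverse image of the
maximal ideal of A. (The published statement takes A to be the completion of a local ring of a
scheme of finite type over an Artinian local ring and the kernel the completion of a finite module;
this row assumes only that A is complete Noetherian local and the kernel finitely generated.) -/
theorem result
    {A : Type u} {E : Type v} [CommRing A] [CommRing E] [IsNoetherianRing A] [IsLocalRing A]
    [IsAdicComplete (IsLocalRing.maximalIdeal A) A]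
    (f : E →+* A) (hf : Function.Surjective f)
    (hsq : RingHom.ker f ^ 2 = ⊥) (hfg : (RingHom.ker f).FG) :
    IsAdicComplete ((IsLocalRing.maximalIdeal A).comap f) E := by
  let e : (E ⧸ RingHom.ker f) ≃+* A := RingHom.quotientKerEquivOfSurjective hf
  haveI : IsNoetherianRing (E ⧸ RingHom.ker f) := isNoetherianRing_of_ringEquiv A e.symm
  have hNJ : RingHom.ker f ≤ (IsLocalRing.maximalIdeal A).comap f := Ideal.comap_mono bot_le
  haveI : IsAdicComplete (((IsLocalRing.maximalIdeal A).comap f).map
      (Ideal.Quotient.mk (RingHom.ker f))) (E ⧸ RingHom.ker f) := by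
    rw [← IsAdicComplete.congr_ringEquiv _ e]
    have he : (e : (E ⧸ RingHom.ker f) →+* A).comp (Ideal.Quotient.mk (RingHom.ker f)) = f :=
      RingHom.ext fun x => rfl
    have h2 : (((IsLocalRing.maximalIdeal A).comap f).map
        (Ideal.Quotient.mk (RingHom.ker f))).map e = IsLocalRing.maximalIdeal A :=
      (Ideal.map_map _ (e : (E ⧸ RingHom.ker f) →+* A)).trans
        (by rw [he, Ideal.map_comap_of_surjective f hf])
    rw [h2]
    infer_instance
  refine isAdicComplete_of_sqZero _ (RingHom.ker f) hfg hsq hNJ ?_
  intro x hx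
  rw [Ideal.mem_jacobson_bot]
  intro y
  -- units lift along a nilpotent kernel
  have hfx : f x ∈ IsLocalRing.maximalIdeal A := hx
  obtain ⟨u, hu⟩ : IsUnit (f (x * y + 1)) := by
    by_contra h
    rw [← mem_nonunits_iff, ← IsLocalRing.mem_maximalIdeal, map_add, map_mul, map_one] at h
    have h1 : (1 : A) ∈ IsLocalRing.maximalIdeal A := by
      simpa using sub_mem h (Ideal.mul_mem_right (f y) _ hfx)
    exact (IsLocalRing.maximalIdeal.isMaximal A).ne_top ((Ideal.eq_top_iff_one _).mpr h1)
  obtain ⟨v, hv⟩ := hf (↑u⁻¹ : A)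
  have hn : IsNilpotent ((x * y + 1) * v - 1) := by
    refine ⟨2, ?_⟩
    have hm : (x * y + 1) * v - 1 ∈ RingHom.ker f := by
      simp [RingHom.mem_ker, hv, ← hu]
    have := Ideal.pow_mem_pow hm 2
    rwa [hsq] at this
  have hun := IsNilpotent.isUnit_add_one hn
  rw [sub_add_cancel] at hun
  exact isUnit_of_mul_isUnit_left hun

end Groth.Agent.S16981
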