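import Groth.Statements.S16982
-- import your own Groth.Agent.* helpers here
import Mathlib
import Groth.Agent.S16981
import Groth.Agent.PSLib.Basic

set_option autoImplicit false
universe u v w w'
open CAlg

namespace Groth.Agent.S16982

/-- Let R be a commutative ring, A a complete Noetherian local R-algebra written as a quotient of a
power series ring over R in finitely many variables by a surjective R-algebra map π, and f : E → A a
surjective R-algebra map whose kernel has square zero and is finitely generated. Then π lifts along
f to an R-algebra map λ from the power series ring to E with f ∘ λ = π. (The published statement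
takes R Artinian local and asks for a lift that is continuous for the adic topologies; this row
allows any commutative R and asks for any lift.) -/
theorem result
    {R : Type u} [CommRing R] {σ : Type v} [Finite σ]
    {A : Type w} {E : Type w'} [CommRing A] [CommRing E] [Algebra R A] [Algebra R E]
    [IsNoetherianRing A] [IsLocalRing A] [IsAdicComplete (IsLocalRing.maximalIdeal A) A]
    (π : MvPowerSeries σ R →ₐ[R] A) (hπ : Function.Surjective π)
    (f : E →ₐ[R] A) (hf : Function.Surjective f)
    (hsq : RingHom.ker f.toRingHom ^ 2 = ⊥) (hfg : (RingHom.ker f.toRingHom).FG) :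
    ∃ l : MvPowerSeries σ R →ₐ[R] E, f.comp l = π := by
  obtain ⟨n, ⟨eσ⟩⟩ := Finite.exists_equiv_fin σ
  let ee := MvPowerSeries.renameEquiv (R := R) eσ
  let π' : MvPowerSeries (Fin n) R →ₐ[R] A := π.comp ee.symm.toAlgHom
  have hπ' : Function.Surjective π' := hπ.comp ee.symm.surjective
  have hm : ∀ i, π' (MvPowerSeries.X i) ∈ IsLocalRing.maximalIdeal A := by
    intro i
    rw [IsLocalRing.mem_maximalIdeal]
    intro hu
    obtain ⟨g, hg⟩ := hπ' (↑hu.unit⁻¹ : A)
    have h1 : IsUnit (1 - MvPowerSeries.X i * g) := by
      rw [MvPowerSeries.isUnit_iff_constantCoeff]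
      simp
    have h2 := h1.map π'
    rw [map_sub, map_one, map_mul, hg, IsUnit.mul_val_inv, sub_self] at h2
    exact not_isUnit_zero h2
  have hE := Groth.Agent.S16981.result f.toRingHom hf hsq hfg
  choose b hb using fun i => hf (π' (MvPowerSeries.X i))
  obtain ⟨ψ, hψ⟩ := Groth.Agent.PSLib.exists_algHom (R := R)
    ((IsLocalRing.maximalIdeal A).comap f.toRingHom) b (fun i => by
      show f (b i) ∈ IsLocalRing.maximalIdeal A
      rw [hb]; exact hm i)
  have h : f.comp ψ = π' := Groth.Agent.PSLib.algHom_ext (I := IsLocalRing.maximalIdeal A) _ _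
    (fun i => by rw [AlgHom.comp_apply, hψ, hb]; exact hm i)
    (fun i => by rw [AlgHom.comp_apply, hψ, hb])
  refine ⟨ψ.comp ee.toAlgHom, ?_⟩
  rw [← AlgHom.comp_assoc, h]
  exact AlgHom.ext fun x => congrArg π (ee.symm_apply_apply x)

end Groth.Agent.S16982
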