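import Groth.Statements.S17020
import Groth.Agent.S17018
import Groth.Agent.S1297
import Groth.Agent.FlatH0.Main
import Groth.Agent.FlatMisc.SteinUC
import Groth.Agent.SteinLib.Conn
import Groth.Agent.H23.RigidGamma
import Groth.Agent.CurveCohLib.SmoothCurve

set_option autoImplicit false
universe u
open CategoryTheory CategoryTheory.Limits AlgebraicGeometry
open scoped TensorProduct
open Models

set_option backward.isDefEq.respectTransparency false
set_option backward.isDefEq.respectTransparency.types false
set_option linter.style.haveILetI false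

namespace Groth.Agent.S17020

open Groth.Agent TopologicalSpace

/-- Constant functions on a connected reduced proper scheme over an algebraically closed field. -/
theorem surjective_appTop {k : Type u} [Field k] [IsAlgClosed k] {W : Scheme.{u}}
    (w : W ⟶ Spec (CommRingCat.of k)) [IsProper w] [ConnectedSpace W] [IsReduced W] :
    Function.Surjective w.appTop := by
  let ψ : CommRingCat.of k ⟶ Γ(W, ⊤) := (Scheme.ΓSpecIso _).inv ≫ w.appTop
  have hint : ψ.hom.IsIntegral := (RingHom.isIntegral_of_surjective _
    (ConcreteCategory.bijective_of_isIso (Scheme.ΓSpecIso (CommRingCat.of k)).inv).2).trans _ _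
    (isIntegral_appTop_of_universallyClosed w)
  algebraize [ψ.hom]
  have hne : Nonempty W := ConnectedSpace.toNonempty
  have : Nonempty (⊤ : W.Opens) := ⟨⟨hne.some, trivial⟩⟩
  have : Nontrivial Γ(W, ⊤) := inferInstance
  have hs : Function.Surjective ψ.hom :=
    H23.RigidGamma.surjective_of_isIntegral H23.RigidGamma.eq_zero_or_one_of_idem
  intro y
  obtain ⟨a, ha⟩ := hs y
  exact ⟨(Scheme.ΓSpecIso (CommRingCat.of k)).inv a, ha⟩

section

variable (R : Type u) [CommRing R] [IsDomain R] [IsDiscreteValuationRing R]
  {X : Scheme.{u}} (f : X ⟶ Spec (CommRingCat.of R))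
  {Xs : Scheme.{u}} (gs : Xs ⟶ X) (fs : Xs ⟶ Spec (CommRingCat.of (IsLocalRing.ResidueField R)))

/-- The kernel of the inclusion of the closed fibre. -/
theorem ker_gs (hs : IsPullback gs fs f (Spec.map (CommRingCat.ofHom (IsLocalRing.residue R)))) :
    gs.ker = Models.specialFibreIdeal R (Over.mk f) := by
  let i := Spec.map (CommRingCat.ofHom (IsLocalRing.residue R))
  haveI : IsClosedImmersion i := IsClosedImmersion.spec_of_surjective _ IsLocalRing.residue_surjective
  have h1 : gs.ker = (pullback.fst f i).ker := by
    rw [← hs.isoPullback_hom_fst, Scheme.Hom.ker_comp_of_isIso]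
  rw [h1, Scheme.IdealSheafData.ker_fst_of_isClosedImmersion, Scheme.ker_of_isAffine i]
  show _ = (Curv2.idealSheaf R (IsLocalRing.maximalIdeal R)).comap f
  congr 1
  show Scheme.IdealSheafData.ofIdealTop _ = Scheme.IdealSheafData.ofIdealTop _
  congr 1
  ext a
  have hn := ConcreteCategory.congr_hom (Scheme.ΓSpecIso_naturality (CommRingCat.ofHom (IsLocalRing.residue R))) a
  replace hn : (Scheme.ΓSpecIso (CommRingCat.of (IsLocalRing.ResidueField R))).hom (i.appTop a) =
      IsLocalRing.residue R ((Scheme.ΓSpecIso (CommRingCat.of R)).hom a) := hn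
  let eR := (Scheme.ΓSpecIso (CommRingCat.of R)).commRingCatIsoToRingEquiv
  let eK := (Scheme.ΓSpecIso (CommRingCat.of (IsLocalRing.ResidueField R))).commRingCatIsoToRingEquiv
  show i.appTop a = 0 ↔ a ∈ Ideal.map eR.symm.toRingHom (IsLocalRing.maximalIdeal R)
  rw [← map_eq_zero_iff eK eK.injective]
  constructor
  · intro ha
    have hm : IsLocalRing.residue R (eR a) = 0 := hn.symm.trans ha
    rw [IsLocalRing.residue_eq_zero_iff] at hm
    exact eR.symm_apply_apply a ▸ Ideal.mem_map_of_mem eR.symm.toRingHom hm
  · intro ha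
    refine hn.trans ((IsLocalRing.residue_eq_zero_iff _).2 ?_)
    obtain ⟨b, hb, rfl⟩ := (Ideal.mem_map_iff_of_surjective eR.symm.toRingHom eR.symm.surjective).1 ha
    show eR (eR.symm b) ∈ _
    rwa [eR.apply_symm_apply]

/-- Functions on a proper flat family with connected reduced closed fibre are the constants. -/
theorem bijective_appTop [IsAlgClosed (IsLocalRing.ResidueField R)] [IsProper f] [Flat f]
    (hs : IsPullback gs fs f (Spec.map (CommRingCat.ofHom (IsLocalRing.residue R))))
    [ConnectedSpace Xs] [IsReduced Xs] : Function.Bijective f.appTop := by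
  classical
  haveI : IsProper fs := MorphismProperty.of_isPullback (P := @IsProper) hs inferInstance
  haveI : IsClosedImmersion gs := MorphismProperty.of_isPullback (P := @IsClosedImmersion) hs.flip
    (IsClosedImmersion.spec_of_surjective _ IsLocalRing.residue_surjective)
  obtain ⟨π, hπ⟩ := IsDiscreteValuationRing.exists_irreducible R
  let φ : R →+* Γ(X, ⊤) := Coh.toGlobal f
  have hφ : ∀ r, φ r = f.appTop ((Scheme.ΓSpecIso (CommRingCat.of R)).inv r) := fun r => rfl
  let t := φ π
  -- vanishing on the closed fibre means divisible by `π`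
  have hdiv : ∀ g : Γ(X, ⊤), gs.appTop g = 0 → ∃ h, g = t * h := by
    intro g hg
    have hl : ∀ V : X.affineOpens, ∃ h : Γ(X, V.1), X.presheaf.map (homOfLE le_top).op g =
        X.presheaf.map (homOfLE le_top).op t * h := by
      intro V
      have h1 : X.presheaf.map (homOfLE (le_top : V.1 ≤ ⊤)).op g ∈ gs.ker.ideal V := by
        rw [Scheme.Hom.ker_apply, RingHom.mem_ker, ← ConcreteCategory.comp_apply, Scheme.Hom.naturality,
          ConcreteCategory.comp_apply]
        exact (congrArg _ (show gs.app ⊤ g = 0 from hg)).trans (map_zero _)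
      rw [ker_gs R f gs fs hs, FlatH0.ideal_specialFibre R f hπ V, Ideal.mem_span_singleton] at h1
      exact h1
    choose h hh using hl
    obtain ⟨H, hH, -⟩ := X.sheaf.existsUnique_gluing' (fun V : X.affineOpens => V.1) ⊤
      (fun V => homOfLE le_top) (by rw [iSup_affineOpens_eq_top]) h (fun V W => by
        refine X.sheaf.eq_of_locally_eq' (fun U : {U : X.affineOpens // U.1 ≤ V.1 ⊓ W.1} => U.1.1) (V.1 ⊓ W.1)
          (fun U => homOfLE U.2) ?_ _ _ fun U => ?_
        · intro x hx
          obtain ⟨U, hU, hxU, hle⟩ := exists_isAffineOpen_mem_and_subset hx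
          exact Opens.mem_iSup.2 ⟨⟨⟨U, hU⟩, hle⟩, hxU⟩
        refine FlatH0.regular_affine R f hπ.ne_zero U.1 ?_
        have e1 := congrArg (X.presheaf.map (homOfLE (U.2.trans inf_le_left)).op) (hh V)
        have e2 := congrArg (X.presheaf.map (homOfLE (U.2.trans inf_le_right)).op) (hh W)
        simp only [map_mul] at e1 e2
        simp only [← ConcreteCategory.comp_apply, ← Functor.map_comp, ← op_comp, homOfLE_comp] at e1 e2
        refine (congrArg (_ * ·) ?_).trans ((e1.symm.trans e2).trans (congrArg (_ * ·) ?_))
        · show X.presheaf.map (homOfLE U.2).op (X.presheaf.map (Opens.infLELeft V.1 W.1).op (h V)) = _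
          rw [← ConcreteCategory.comp_apply, ← Functor.map_comp]
          rfl
        · show _ = X.presheaf.map (homOfLE U.2).op (X.presheaf.map (Opens.infLERight V.1 W.1).op (h W))
          rw [← ConcreteCategory.comp_apply, ← Functor.map_comp]
          rfl)
    refine ⟨(show Γ(X, ⊤) from H), ?_⟩
    refine X.sheaf.eq_of_locally_eq' (fun V : X.affineOpens => V.1) ⊤ (fun V => homOfLE le_top)
      (by rw [iSup_affineOpens_eq_top]) _ _ fun V => ?_
    show X.presheaf.map (homOfLE (le_top : V.1 ≤ ⊤)).op g = X.presheaf.map (homOfLE (le_top : V.1 ≤ ⊤)).op (t * (show Γ(X, ⊤) from H))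
    rw [map_mul, hh V]
    exact congrArg (_ * ·) (hH V).symm
  have hfin : φ.Finite := RingHom.Finite.comp (S1297.finite_appTop f)
    (RingHom.Finite.of_surjective _ (ConcreteCategory.bijective_of_isIso (Scheme.ΓSpecIso (CommRingCat.of R)).inv).2)
  have hsur : Function.Surjective φ := by
    letI := φ.toAlgebra
    haveI : Module.Finite R Γ(X, ⊤) := hfin
    have hN : (⊤ : Submodule R Γ(X, ⊤)) ≤ LinearMap.range (Algebra.linearMap R Γ(X, ⊤)) := by
      refine Submodule.le_of_le_smul_of_le_jacobson_bot (I := IsLocalRing.maximalIdeal R) Module.Finite.fg_top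
        (IsLocalRing.maximalIdeal_le_jacobson _) fun g _ => ?_
      obtain ⟨c, hc⟩ := surjective_appTop fs (gs.appTop g)
      obtain ⟨r, hr⟩ := IsLocalRing.residue_surjective ((Scheme.ΓSpecIso (CommRingCat.of (IsLocalRing.ResidueField R))).hom c)
      have hgr : gs.appTop (g - φ r) = 0 := by
        have h2 : gs.appTop (φ r) = fs.appTop c := by
          rw [hφ, ← ConcreteCategory.comp_apply, ← Scheme.Hom.comp_appTop, hs.w, Scheme.Hom.comp_appTop,
            ConcreteCategory.comp_apply]
          congr 1
          apply (Scheme.ΓSpecIso (CommRingCat.of (IsLocalRing.ResidueField R))).commRingCatIsoToRingEquiv.injective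
          show ((Scheme.ΓSpecIso (CommRingCat.of R)).inv ≫ _ ≫ (Scheme.ΓSpecIso _).hom) r = _
          rw [Scheme.ΓSpecIso_naturality, Iso.inv_hom_id_assoc]
          exact hr
        rw [map_sub, h2, hc, sub_self]
      obtain ⟨h, hh⟩ := hdiv _ hgr
      refine Submodule.mem_sup.2 ⟨φ r, ⟨r, rfl⟩, π • h, Submodule.smul_mem_smul ?_ trivial, ?_⟩
      · exact (IsLocalRing.mem_maximalIdeal π).2 hπ.not_isUnit
      · rw [Algebra.smul_def]
        show φ r + t * h = g
        rw [← hh, add_sub_cancel]
    exact fun g => hN (show g ∈ ⊤ from trivial)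
  have hne : Nonempty X := ⟨gs (ConnectedSpace.toNonempty (α := Xs)).some⟩
  have hinj : Function.Injective φ := by
    obtain ⟨x⟩ := hne
    obtain ⟨V, hV, hxV, -⟩ := exists_isAffineOpen_mem_and_subset (show x ∈ (⊤ : X.Opens) from trivial)
    haveI : Nonempty V := ⟨⟨x, hxV⟩⟩
    refine (injective_iff_map_eq_zero _).2 fun r hr => by_contra fun hr0 => ?_
    have h0 := FlatH0.regular_affine R f hr0 ⟨V, hV⟩
    refine one_ne_zero (h0 (?_ : _ * (1 : Γ(X, V)) = _ * 0))
    rw [show Coh.toGlobal f r = φ r from rfl, hr, map_zero, zero_mul, mul_zero]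
  exact (Function.Bijective.of_comp_iff f.appTop
    (ConcreteCategory.bijective_of_isIso (Scheme.ΓSpecIso (CommRingCat.of R)).inv)).1 ⟨hinj, hsur⟩

end


/-- Let R be a discrete valuation ring with algebraically closed residue field and f : X → Spec R a
proper flat morphism whose generic fibre (base change to the fraction field of R) is smooth of
relative dimension 1 and connected and whose special fibre (base change to the residue field) is
connected and reduced; let ξ be the generic point of an irreducible component of the special fibre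
and B a discrete valuation ring given with an isomorphism from the local ring of X at ξ under which
R → B is the map induced by f. Then for F the algebraic closure of the fraction field of R, the ring
F ⊗_R B is a field. (The published setting takes everything essentially of finite type over a field
of characteristic zero; the printed argument does not use this and it is not imposed here.) -/
theorem result
    (R : Type u) [CommRing R] [IsDomain R] [IsDiscreteValuationRing R]
    [IsAlgClosed (IsLocalRing.ResidueField R)]
    (X : Scheme.{u}) (f : X ⟶ Spec (CommRingCat.of R)) [IsProper f] [Flat f]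
    (XK : Scheme.{u}) (gK : XK ⟶ X) (fK : XK ⟶ Spec (CommRingCat.of (FractionRing R)))
    (hK : IsPullback gK fK f (Spec.map (CommRingCat.ofHom (algebraMap R (FractionRing R)))))
    [SmoothOfRelativeDimension 1 fK] [ConnectedSpace XK]
    (Xs : Scheme.{u}) (gs : Xs ⟶ X) (fs : Xs ⟶ Spec (CommRingCat.of (IsLocalRing.ResidueField R)))
    (hs : IsPullback gs fs f (Spec.map (CommRingCat.ofHom (IsLocalRing.residue R))))
    [ConnectedSpace Xs] [IsReduced Xs]
    (ξ : Xs) (hξ : closure ({ξ} : Set Xs) ∈ irreducibleComponents Xs)
    (B : Type u) [CommRing B] [IsDomain B] [IsDiscreteValuationRing B] [Algebra R B]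
    (e : X.presheaf.stalk (gs.base ξ) ≅ CommRingCat.of B)
    (he : e.hom.hom.comp ((X.presheaf.germ ⊤ (gs.base ξ) trivial).hom.comp (Coh.toGlobal f)) =
      algebraMap R B) :
    IsField (AlgebraicClosure (FractionRing R) ⊗[R] B) := by
  have hmax := S17018.result R X f XK gK fK hK Xs gs fs hs ξ hξ B e he
  obtain ⟨π, hπ⟩ := IsDiscreteValuationRing.exists_irreducible R
  have hπB : algebraMap R B π ≠ 0 := fun h => IsDiscreteValuationRing.not_a_field B (by
    rw [hmax, hπ.maximalIdeal_eq, Ideal.map_span, Set.image_singleton, h, Ideal.span_singleton_eq_bot.2 rfl])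
  have hinjB : Function.Injective (algebraMap R B) := by
    refine (injective_iff_map_eq_zero _).2 fun r hr => by_contra fun hr0 => ?_
    obtain ⟨n, u, rfl⟩ := IsDiscreteValuationRing.eq_unit_mul_pow_irreducible hr0 hπ
    rw [map_mul, map_pow] at hr
    exact hπB (eq_zero_of_pow_eq_zero ((IsUnit.mul_right_eq_zero (u.isUnit.map _)).1 hr))
  let K := FractionRing R
  let F := AlgebraicClosure K
  let D := F ⊗[R] B
  -- geometric integrality of the generic fibre
  haveI := SteinLib.geometricallyConnected_of_isIso_app_noetherian f fun U =>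
    FlatMisc.isIso_app_of_bijective_affine f
      (fun z => ⟨⊤, isAffineOpen_top _, trivial, bijective_appTop R f gs fs hs⟩) U
  let jF : Spec (CommRingCat.of F) ⟶ Spec (CommRingCat.of R) :=
    Spec.map (CommRingCat.ofHom (algebraMap R F))
  let jK : Spec (CommRingCat.of K) ⟶ Spec (CommRingCat.of R) :=
    Spec.map (CommRingCat.ofHom (algebraMap R K))
  let jFK : Spec (CommRingCat.of F) ⟶ Spec (CommRingCat.of K) :=
    Spec.map (CommRingCat.ofHom (algebraMap K F))
  have hj : jFK ≫ jK = jF := by
    rw [← Spec.map_comp, ← CommRingCat.ofHom_comp, ← IsScalarTower.algebraMap_eq]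
  haveI hconn : ConnectedSpace ↥(pullback f jF) :=
    GeometricallyConnected.geometrically_connectedSpace (f := f) _ _ _ (IsPullback.of_hasPullback f jF)
  haveI : Smooth (pullback.snd f jF) := by
    have h1 : IsPullback (pullback.fst f jF) (pullback.snd f jF) f (jFK ≫ jK) := by
      rw [hj]
      exact IsPullback.of_hasPullback f jF
    haveI : SmoothOfRelativeDimension 1 fK := inferInstance
    haveI : Smooth fK := SmoothOfRelativeDimension.smooth 1 fK
    exact MorphismProperty.of_isPullback (P := @Smooth)
      ((IsPullback.of_right (h₁₁ := hK.lift (pullback.fst f jF) (pullback.snd f jF ≫ jFK) (by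
        rw [Category.assoc]; exact h1.w)) (by rw [hK.lift_fst]; exact h1) (hK.lift_snd _ _ _) hK)) inferInstance
  haveI : IsIntegral (pullback f jF) := CurveCohLib.isIntegral_of_smooth_connected (pullback.snd f jF)
  -- an affine neighbourhood
  let x := gs.base ξ
  obtain ⟨V, hV, hxV, -⟩ := exists_isAffineOpen_mem_and_subset (show x ∈ (⊤ : X.Opens) from trivial)
  let A := Γ(X, V)
  let θ : R →+* A := (X.presheaf.map (homOfLE (le_top : V ≤ ⊤)).op).hom.comp (Coh.toGlobal f)
  letI : Algebra R A := θ.toAlgebra
  let ρ : A →+* B := e.hom.hom.comp (X.presheaf.germ V x hxV).hom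
  letI : Algebra A B := ρ.toAlgebra
  haveI : IsScalarTower R A B := IsScalarTower.of_algebraMap_eq fun r => by
    show algebraMap R B r = e.hom (X.presheaf.germ V x hxV (X.presheaf.map (homOfLE le_top).op (Coh.toGlobal f r)))
    rw [TopCat.Presheaf.germ_res_apply, ← he]
    rfl
  haveI : IsLocalization.AtPrime B (hV.primeIdealOf ⟨x, hxV⟩).asIdeal := by
    letI := TopCat.Presheaf.algebra_section_stalk X.presheaf ⟨x, hxV⟩
    haveI := hV.isLocalization_stalk ⟨x, hxV⟩
    exact IsLocalization.isLocalization_of_algEquiv (hV.primeIdealOf ⟨x, hxV⟩).asIdeal.primeCompl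
      (AlgEquiv.ofRingEquiv (f := e.commRingCatIsoToRingEquiv) fun a => rfl)
  -- the fibre product over the neighbourhood is integral
  haveI : Nontrivial D := by
    let Ω := AlgebraicClosure (FractionRing B)
    have hRΩ : Function.Injective ((algebraMap (FractionRing B) Ω).comp ((algebraMap B (FractionRing B)).comp (algebraMap R B))) :=
      (algebraMap (FractionRing B) Ω).injective.comp ((IsFractionRing.injective B _).comp hinjB)
    letI : Algebra K Ω := (IsFractionRing.lift hRΩ).toAlgebra
    haveI : IsScalarTower R K Ω := IsScalarTower.of_algebraMap_eq fun r => by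
      show algebraMap R Ω r = IsFractionRing.lift hRΩ (algebraMap R K r)
      rw [IsFractionRing.lift_algebraMap]
      rw [IsScalarTower.algebraMap_apply R B Ω, IsScalarTower.algebraMap_apply B (FractionRing B) Ω]
      rfl
    let l : F →ₐ[K] Ω := IsAlgClosed.lift
    exact (Algebra.TensorProduct.lift (l.restrictScalars R) (IsScalarTower.toAlgHom R B Ω)
      fun _ _ => .all _ _).toRingHom.domain_nontrivial
  letI : Algebra (F ⊗[R] A) D :=
    (Algebra.TensorProduct.map (AlgHom.id R F) (IsScalarTower.toAlgHom R A B)).toAlgebra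
  haveI : IsScalarTower F (F ⊗[R] A) D := .of_algebraMap_eq <| by intro; simp [RingHom.algebraMap_toAlgebra, D]
  haveI hloc := IsLocalization.tensorProduct_tensorProduct_right R F (hV.primeIdealOf ⟨x, hxV⟩).asIdeal.primeCompl B
    (by ext a; exact Algebra.TensorProduct.map_tmul _ _ _ _)
  haveI : Nontrivial (F ⊗[R] A) := (algebraMap (F ⊗[R] A) D).domain_nontrivial
  haveI : IsDomain (F ⊗[R] A) := by
    let W := pullback jF (Spec.map (CommRingCat.ofHom θ))
    let wW : W ≅ Spec (CommRingCat.of (F ⊗[R] A)) := pullbackSpecIso R F A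
    haveI : Nonempty W := ⟨wW.inv (Classical.arbitrary (PrimeSpectrum (F ⊗[R] A)) : _)⟩
    have hθ : Spec.map (CommRingCat.ofHom θ) = hV.fromSpec ≫ f := by
      have h1 := IsAffineOpen.SpecMap_appLE_fromSpec f (isAffineOpen_top (Spec (CommRingCat.of R))) hV (by simp)
      rw [← h1, IsAffineOpen.fromSpec_top, Scheme.isoSpec_Spec_inv, ← Spec.map_comp]
      rfl
    let i : W ⟶ pullback f jF := (pullbackSymmetry _ _).hom ≫
      pullback.map _ _ _ _ hV.fromSpec (𝟙 _) (𝟙 _) (by rw [Category.comp_id, hθ]) (by simp)
    haveI : IsOpenImmersion i := inferInstance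
    haveI : IsIntegral W := isIntegral_of_isOpenImmersion i
    haveI : IsIntegral (Spec (CommRingCat.of (F ⊗[R] A))) := isIntegral_of_isOpenImmersion wW.inv
    exact (affine_isIntegral_iff (CommRingCat.of (F ⊗[R] A))).1 inferInstance
  haveI : IsDomain D := IsLocalization.isDomain_of_le_nonZeroDivisors
    (M := (hV.primeIdealOf ⟨x, hxV⟩).asIdeal.primeCompl.map (Algebra.TensorProduct.includeRight (R := R) (A := F)))
    (S := D) (R := F ⊗[R] A) fun z hz => mem_nonZeroDivisors_of_ne_zero fun h0 => by
      have hu := IsLocalization.map_units D (⟨z, hz⟩ : Submonoid.map _ _)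
      rw [show ((⟨z, hz⟩ : Submonoid.map _ _) : F ⊗[R] A) = 0 from h0, map_zero] at hu
      exact not_isUnit_zero hu
  -- integral over a field
  let ι : B →+* D := Algebra.TensorProduct.includeRight.toRingHom
  have hu : ∀ y : nonZeroDivisors B, IsUnit (ι y) := by
    rintro ⟨b, hb⟩
    have hirr : Irreducible (algebraMap R B π) := by
      rw [IsDiscreteValuationRing.irreducible_iff_uniformizer, hmax, hπ.maximalIdeal_eq, Ideal.map_span,
        Set.image_singleton]
    obtain ⟨n, u, rfl⟩ := IsDiscreteValuationRing.eq_unit_mul_pow_irreducible (nonZeroDivisors.ne_zero hb) hirr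
    show IsUnit (ι (↑u * algebraMap R B π ^ n))
    rw [map_mul, map_pow]
    refine (u.isUnit.map ι).mul (IsUnit.pow n ?_)
    show IsUnit ((1 : F) ⊗ₜ[R] algebraMap R B π)
    rw [← Algebra.TensorProduct.algebraMap_apply' π, IsScalarTower.algebraMap_apply R F D]
    exact (isUnit_iff_ne_zero.2 fun h => hπ.ne_zero
      (((algebraMap K F).injective.comp (IsFractionRing.injective R K)) ((h.symm.trans (IsScalarTower.algebraMap_apply R K F π)).symm.trans (by simp)))).map _
  let L := FractionRing B
  let ιL : L →+* D := IsLocalization.lift hu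
  letI : Algebra L D := ιL.toAlgebra
  letI : Algebra K L := (IsFractionRing.lift (g := (algebraMap B L).comp (algebraMap R B))
    ((IsFractionRing.injective B L).comp hinjB)).toAlgebra
  have hKD : ιL.comp (algebraMap K L) = (algebraMap F D).comp (algebraMap K F) :=
    IsLocalization.ringHom_ext (nonZeroDivisors R) (RingHom.ext fun r => by
      show ιL (IsFractionRing.lift _ (algebraMap R K r)) = algebraMap F D (algebraMap K F (algebraMap R K r))
      rw [IsFractionRing.lift_algebraMap, ← IsScalarTower.algebraMap_apply R K F,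
        ← IsScalarTower.algebraMap_apply R F D]
      show IsLocalization.lift hu (algebraMap B L (algebraMap R B r)) = _
      rw [IsLocalization.lift_eq]
      exact (Algebra.TensorProduct.algebraMap_apply' r).symm)
  haveI : Algebra.IsIntegral L D := ⟨fun d => by
    induction d using TensorProduct.induction_on with
    | zero => exact isIntegral_zero
    | add a b ha hb => exact ha.add hb
    | tmul a b =>
      rw [show a ⊗ₜ[R] b = algebraMap F D a * ι b by
        show _ = (a ⊗ₜ[R] (1 : B)) * ((1 : F) ⊗ₜ[R] b)
        rw [Algebra.TensorProduct.tmul_mul_tmul, mul_one, one_mul]]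
      refine IsIntegral.mul ?_ ?_
      · obtain ⟨P, hP, hPa⟩ := (Algebra.IsIntegral.isIntegral (R := K) a : _root_.IsIntegral K a)
        refine ⟨P.map (algebraMap K L), hP.map _, ?_⟩
        rw [Polynomial.eval₂_map, show (algebraMap L D) = ιL from rfl, hKD, ← Polynomial.hom_eval₂, hPa, map_zero]
      · rw [show ι b = algebraMap L D (algebraMap B L b) from (IsLocalization.lift_eq hu b).symm]
        exact isIntegral_algebraMap⟩
  exact isField_of_isIntegral_of_isField' (R := L) (Field.toIsField L)

end Groth.Agent.S17020
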