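import Groth.Statements.S17019
import Groth.Agent.S17018
import Groth.Agent.S17020

set_option autoImplicit false
universe u
open CategoryTheory CategoryTheory.Limits AlgebraicGeometry
open scoped TensorProduct
open Models

set_option backward.isDefEq.respectTransparency false
set_option linter.style.haveILetI false

namespace Groth.Agent.S17019

/-- Let R be a discrete valuation ring with algebraically closed residue field and f : X → Spec R a
proper flat morphism whose generic fibre (base change to the fraction field of R) is smooth of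
relative dimension 1 and connected and whose special fibre (base change to the residue field) is
connected and reduced; let ξ be the generic point of an irreducible component of the special fibre
and B a discrete valuation ring given with an isomorphism from the local ring of X at ξ under which
R → B is the map induced by f; let R' be a discrete valuation ring with an injective local
homomorphism R → R' which is generically finite (Frac R ⊗_R R' is a finite module over Frac R). Then
B ⊗_R R' is an integral domain and a discrete valuation ring. (The published setting takes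
everything essentially of finite type over a field of characteristic zero; the printed argument does
not use this and it is not imposed here.) -/
theorem result
    (R : Type u) [CommRing R] [IsDomain R] [IsDiscreteValuationRing R]
    [IsAlgClosed (IsLocalRing.ResidueField R)]
    (X : Scheme.{u}) (f : X ⟶ Spec (CommRingCat.of R)) [IsProper f] [Flat f]
    (XK : Scheme.{u}) (gK : XK ⟶ X) (fK : XK ⟶ Spec (CommRingCat.of (FractionRing R)))
    (hK : IsPullback gK fK f (Spec.map (CommRingCat.ofHom (algebraMap R (FractionRing R)))))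
    [SmoothOfRelativeDimension 1 fK] [ConnectedSpace XK]
    (Xs : Scheme.{u}) (gs : Xs ⟶ X) (fs : Xs ⟶ Spec (CommRingCat.of (IsLocalRing.ResidueField R)))
    (hs : IsPullback gs fs f (Spec.map (CommRingCat.ofHom (IsLocalRing.residue R))))
    [ConnectedSpace Xs] [IsReduced Xs]
    (ξ : Xs) (hξ : closure ({ξ} : Set Xs) ∈ irreducibleComponents Xs)
    (B : Type u) [CommRing B] [IsDomain B] [IsDiscreteValuationRing B] [Algebra R B]
    (e : X.presheaf.stalk (gs.base ξ) ≅ CommRingCat.of B)
    (he : e.hom.hom.comp ((X.presheaf.germ ⊤ (gs.base ξ) trivial).hom.comp (Coh.toGlobal f)) =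
      algebraMap R B)
    (R' : Type u) [CommRing R'] [IsDomain R'] [IsDiscreteValuationRing R'] [Algebra R R']
    (hinj : Function.Injective (algebraMap R R')) [IsLocalHom (algebraMap R R')]
    [Module.Finite (FractionRing R) (FractionRing R ⊗[R] R')] :
    ∃ _ : IsDomain (B ⊗[R] R'), IsDiscreteValuationRing (B ⊗[R] R') := by
  classical
  have hmax := S17018.result R X f XK gK fK hK Xs gs fs hs ξ hξ B e he
  have hfield := S17020.result R X f XK gK fK hK Xs gs fs hs ξ hξ B e he
  obtain ⟨π, hπ⟩ := IsDiscreteValuationRing.exists_irreducible R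
  obtain ⟨ϖ, hϖ⟩ := IsDiscreteValuationRing.exists_irreducible R'
  let K := FractionRing R
  let K' := FractionRing R'
  let F := AlgebraicClosure K
  -- the extension of fraction fields is algebraic
  have hinjK' : Function.Injective ((algebraMap R' K').comp (algebraMap R R')) :=
    (IsFractionRing.injective R' K').comp hinj
  letI : Algebra K K' := (IsFractionRing.lift hinjK').toAlgebra
  haveI : IsScalarTower R K K' := IsScalarTower.of_algebraMap_eq fun r => by
    show algebraMap R K' r = IsFractionRing.lift hinjK' (algebraMap R K r)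
    rw [IsFractionRing.lift_algebraMap, IsScalarTower.algebraMap_apply R R' K']
    rfl
  let ψ : K ⊗[R] R' →ₐ[K] K' := Algebra.TensorProduct.lift (Algebra.ofId K K')
    (IsScalarTower.toAlgHom R R' K') fun _ _ => .all _ _
  have hintR' : ∀ x : R', IsIntegral K (algebraMap R' K' x) := fun x => by
    have h1 := (IsIntegral.of_finite K ((1 : K) ⊗ₜ[R] x)).map ψ
    simpa [ψ] using h1
  haveI : Algebra.IsAlgebraic K K' := ⟨fun z => by
    obtain ⟨a, b, -, rfl⟩ := IsFractionRing.div_surjective (A := R') z
    rw [div_eq_mul_inv]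
    exact (hintR' a).isAlgebraic.mul (hintR' b).isAlgebraic.inv⟩
  let l : K' →ₐ[K] F := IsAlgClosed.lift
  let l' : R' →ₐ[R] F := (l.restrictScalars R).comp (IsScalarTower.toAlgHom R R' K')
  have hl' : Function.Injective l' := l.toRingHom.injective.comp (IsFractionRing.injective R' K')
  have halgR' : ∀ x : R', IsAlgebraic R x := fun x => by
    have h1 : IsAlgebraic R (algebraMap R' K' x) :=
      (IsFractionRing.isAlgebraic_iff R K K').2 (hintR' x).isAlgebraic
    exact (isAlgebraic_algebraMap_iff (IsFractionRing.injective R' K')).1 h1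
  -- the residue extension is trivial
  have hres : ∀ x : R', ∃ r : R, ∃ y : R', x = algebraMap R R' r + ϖ * y := by
    intro x
    haveI : Module.IsTorsionFree R R' := Module.isTorsionFree_iff_algebraMap_injective.2 hinj
    letI : NormalizedGCDMonoid R := Nonempty.some inferInstance
    obtain ⟨P, hP0, hPx⟩ := halgR' x
    have hQ := Polynomial.aeval_primPart_eq_zero hP0 hPx
    let Q := P.primPart
    have hQ0 : Q.map (IsLocalRing.residue R) ≠ 0 := fun h0 => hπ.not_isUnit (by
      refine P.isPrimitive_primPart π (Polynomial.C_dvd_iff_dvd_coeff _ _ |>.2 fun i => ?_)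
      rw [← Ideal.mem_span_singleton, ← hπ.maximalIdeal_eq, ← IsLocalRing.residue_eq_zero_iff]
      simpa [Q] using congrArg (fun p => Polynomial.coeff p i) h0)
    let k := IsLocalRing.ResidueField R
    let k' := IsLocalRing.ResidueField R'
    letI : Algebra k k' := (IsLocalRing.ResidueField.map (algebraMap R R')).toAlgebra
    have halg : IsAlgebraic k (IsLocalRing.residue R' x) := by
      refine ⟨_, hQ0, ?_⟩
      rw [Polynomial.aeval_def, Polynomial.eval₂_map]
      have hc : (algebraMap k k').comp (IsLocalRing.residue R) =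
          (IsLocalRing.residue R').comp (algebraMap R R') := rfl
      rw [hc, ← Polynomial.hom_eval₂]
      exact (congrArg _ hQ).trans (map_zero _)
    obtain ⟨c, hc⟩ : IsLocalRing.residue R' x ∈ (algebraMap k k').range :=
      minpoly.mem_range_of_degree_eq_one k _ (IsAlgClosed.degree_eq_one_of_irreducible k
        (minpoly.irreducible halg.isIntegral))
    obtain ⟨r, rfl⟩ := IsLocalRing.residue_surjective c
    have h2 : x - algebraMap R R' r ∈ IsLocalRing.maximalIdeal R' := by
      rw [← IsLocalRing.residue_eq_zero_iff, map_sub, ← hc]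
      exact sub_self _
    rw [hϖ.maximalIdeal_eq, Ideal.mem_span_singleton] at h2
    obtain ⟨y, hy⟩ := h2
    exact ⟨r, y, by rw [← hy, add_sub_cancel]⟩
  -- the domain
  have hπmem : algebraMap R B π ∈ IsLocalRing.maximalIdeal B := by
    rw [hmax]
    exact Ideal.mem_map_of_mem _ ((IsLocalRing.mem_maximalIdeal π).2 hπ.not_isUnit)
  have hπB : algebraMap R B π ≠ 0 := fun h => IsDiscreteValuationRing.not_a_field B (by
    rw [hmax, hπ.maximalIdeal_eq, Ideal.map_span, Set.image_singleton, h, Ideal.span_singleton_eq_bot.2 rfl])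
  have hinjB : Function.Injective (algebraMap R B) := by
    refine (injective_iff_map_eq_zero _).2 fun r hr => by_contra fun hr0 => ?_
    obtain ⟨n, u, rfl⟩ := IsDiscreteValuationRing.eq_unit_mul_pow_irreducible hr0 hπ
    rw [map_mul, map_pow] at hr
    exact hπB (eq_zero_of_pow_eq_zero ((IsUnit.mul_right_eq_zero (u.isUnit.map _)).1 hr))
  haveI : Module.IsTorsionFree R B := Module.isTorsionFree_iff_algebraMap_injective.2 hinjB
  haveI : IsDomain (F ⊗[R] B) := hfield.isDomain
  let T := B ⊗[R] R'
  let g : T →ₐ[R] F ⊗[R] B :=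
    (Algebra.TensorProduct.comm R B F).toAlgHom.comp (Algebra.TensorProduct.map (AlgHom.id R B) l')
  have hg : Function.Injective g := by
    refine (Algebra.TensorProduct.comm R B F).injective.comp ?_
    have h1 := Module.Flat.lTensor_preserves_injective_linearMap (M := B) l'.toLinearMap hl'
    intro a b hab
    exact h1 hab
  haveI : IsDomain T := hg.isDomain g.toRingHom
  refine ⟨inferInstance, ?_⟩
  -- the uniformizer is prime
  let ρ : R' →+* T := Algebra.TensorProduct.includeRight.toRingHom
  have hdec : ∀ t : T, ∃ b : B, ∃ s : T, t = algebraMap B T b + ρ ϖ * s := by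
    intro t
    induction t using TensorProduct.induction_on with
    | zero => exact ⟨0, 0, by simp⟩
    | add a b ha hb =>
      obtain ⟨b₁, s₁, h₁⟩ := ha
      obtain ⟨b₂, s₂, h₂⟩ := hb
      exact ⟨b₁ + b₂, s₁ + s₂, by rw [h₁, h₂, map_add]; ring⟩
    | tmul b x =>
      obtain ⟨r, y, hy⟩ := hres x
      refine ⟨b * algebraMap R B r, b ⊗ₜ[R] y, ?_⟩
      rw [hy, TensorProduct.tmul_add]
      congr 1
      · show b ⊗ₜ[R] algebraMap R R' r = (b * algebraMap R B r) ⊗ₜ[R] (1 : R')
        rw [Algebra.algebraMap_eq_smul_one, TensorProduct.tmul_smul, TensorProduct.smul_tmul',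
          mul_comm, ← Algebra.smul_def]
      · show _ = ((1 : B) ⊗ₜ[R] ϖ) * (b ⊗ₜ[R] y)
        rw [Algebra.TensorProduct.tmul_mul_tmul, one_mul]
  obtain ⟨n, v, hnv⟩ := IsDiscreteValuationRing.eq_unit_mul_pow_irreducible
    (fun h => hπ.ne_zero (hinj (h.trans (map_zero _).symm)) : algebraMap R R' π ≠ 0) hϖ
  have hn : n ≠ 0 := by
    rintro rfl
    rw [pow_zero, mul_one] at hnv
    exact hπ.not_isUnit (IsUnit.of_map (algebraMap R R') π (hnv ▸ v.isUnit))
  have hπT : algebraMap B T (algebraMap R B π) = ρ v * ρ ϖ ^ n := by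
    rw [← map_pow, ← map_mul, ← hnv, ← IsScalarTower.algebraMap_apply R B T]
    exact (Algebra.TensorProduct.algebraMap_apply' π)
  -- reduction
  let k := IsLocalRing.ResidueField R
  let κ := IsLocalRing.ResidueField B
  haveI : IsLocalHom (algebraMap R B) := ⟨fun a ha => by
    by_contra hna
    have h1 : a ∈ IsLocalRing.maximalIdeal R := (IsLocalRing.mem_maximalIdeal a).2 hna
    have h2 : algebraMap R B a ∈ IsLocalRing.maximalIdeal B := hmax ▸ Ideal.mem_map_of_mem _ h1
    exact (IsLocalRing.mem_maximalIdeal _).1 h2 ha⟩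
  let ek : k ≃+* IsLocalRing.ResidueField R' := RingEquiv.ofBijective
    (IsLocalRing.ResidueField.map (algebraMap R R')) ⟨RingHom.injective _, fun c => by
      obtain ⟨x, rfl⟩ := IsLocalRing.residue_surjective c
      obtain ⟨r, y, rfl⟩ := hres x
      refine ⟨IsLocalRing.residue R r, ?_⟩
      rw [map_add, map_mul, show IsLocalRing.residue R' ϖ = 0 from
        (IsLocalRing.residue_eq_zero_iff _).2 ((IsLocalRing.mem_maximalIdeal ϖ).2 hϖ.not_isUnit),
        zero_mul, add_zero]
      rfl⟩
  let χ' : R' →ₐ[R] κ :=
    { toRingHom := ((IsLocalRing.ResidueField.map (algebraMap R B)).comp ek.symm.toRingHom).comp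
        (IsLocalRing.residue R')
      commutes' := fun r => by
        show IsLocalRing.ResidueField.map (algebraMap R B) (ek.symm (IsLocalRing.residue R' (algebraMap R R' r))) = _
        rw [show IsLocalRing.residue R' (algebraMap R R' r) = ek (IsLocalRing.residue R r) from rfl,
          RingEquiv.symm_apply_apply]
        rfl }
  let χ : T →ₐ[R] κ := Algebra.TensorProduct.lift (IsScalarTower.toAlgHom R B κ) χ' fun _ _ => .all _ _
  have hχϖ : χ (ρ ϖ) = 0 := by
    show χ ((1 : B) ⊗ₜ[R] ϖ) = 0
    rw [Algebra.TensorProduct.lift_tmul, map_one, one_mul]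
    show IsLocalRing.ResidueField.map (algebraMap R B) (ek.symm (IsLocalRing.residue R' ϖ)) = 0
    rw [(IsLocalRing.residue_eq_zero_iff _).2 ((IsLocalRing.mem_maximalIdeal ϖ).2 hϖ.not_isUnit),
      map_zero, map_zero]
  have hker : ∀ t : T, χ t = 0 ↔ ρ ϖ ∣ t := by
    intro t
    constructor
    · intro ht
      obtain ⟨b, s, rfl⟩ := hdec t
      rw [map_add, map_mul, hχϖ, zero_mul, add_zero] at ht
      have hb : IsLocalRing.residue B b = 0 := by
        have h2 : χ (b ⊗ₜ[R] (1 : R')) = IsLocalRing.residue B b := by
          rw [Algebra.TensorProduct.lift_tmul, map_one, mul_one]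
          rfl
        exact h2.symm.trans ht
      rw [IsLocalRing.residue_eq_zero_iff, hmax, hπ.maximalIdeal_eq, Ideal.map_span, Set.image_singleton,
        Ideal.mem_span_singleton] at hb
      obtain ⟨c, rfl⟩ := hb
      refine dvd_add ?_ (dvd_mul_right _ _)
      rw [map_mul, hπT]
      exact Dvd.dvd.mul_right (Dvd.dvd.mul_left (dvd_pow_self _ hn) _) _
    · rintro ⟨s, rfl⟩
      rw [map_mul, hχϖ, zero_mul]
  have hρ0 : ρ ϖ ≠ 0 := fun h => hϖ.ne_zero (hl' (by
    have h1 : g (ρ ϖ) = g 0 := congrArg g h
    rw [map_zero] at h1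
    have h2 : l' ϖ ⊗ₜ[R] (1 : B) = 0 := h1
    rw [map_zero]
    have h3 : algebraMap F (F ⊗[R] B) (l' ϖ) = 0 := h2
    exact (algebraMap F (F ⊗[R] B)).injective (h3.trans (map_zero _).symm)))
  have hprime : Prime (ρ ϖ) := by
    refine ⟨hρ0, fun hu => ?_, fun a b hab => ?_⟩
    · exact not_isUnit_zero (hχϖ ▸ hu.map χ)
    · rw [← hker, map_mul, mul_eq_zero] at hab
      exact hab.imp (hker a).1 (hker b).1
  -- every nonzero element divides a power of the uniformizer
  have hirr : Irreducible (algebraMap R B π) := by
    rw [IsDiscreteValuationRing.irreducible_iff_uniformizer, hmax, hπ.maximalIdeal_eq, Ideal.map_span,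
      Set.image_singleton]
  have halgT : ∀ t : T, IsAlgebraic B t := by
    intro t
    induction t using TensorProduct.induction_on with
    | zero => exact isAlgebraic_zero
    | add a b ha hb => exact ha.add hb
    | tmul b x =>
      rw [show b ⊗ₜ[R] x = algebraMap B T b * ρ x by
        show _ = (b ⊗ₜ[R] (1 : R')) * ((1 : B) ⊗ₜ[R] x)
        rw [Algebra.TensorProduct.tmul_mul_tmul, mul_one, one_mul]]
      refine (isAlgebraic_algebraMap b).mul ?_
      obtain ⟨P, hP0, hPx⟩ := halgR' x
      refine ⟨P.map (algebraMap R B), (Polynomial.map_ne_zero_iff hinjB).2 hP0, ?_⟩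
      rw [Polynomial.aeval_map_algebraMap]
      exact (Polynomial.aeval_algHom_apply (Algebra.TensorProduct.includeRight : R' →ₐ[R] T) x P).trans
        (by rw [hPx, map_zero])
  have key : ∀ (N : ℕ) (t s : T), t * s = ρ ϖ ^ N → ∃ m : ℕ, Associated (ρ ϖ ^ m) t := by
    intro N
    induction N with
    | zero =>
      intro t s h
      rw [pow_zero] at h
      exact ⟨0, by rw [pow_zero]; exact (associated_one_iff_isUnit.2 (IsUnit.of_mul_eq_one _ h)).symm⟩
    | succ N ih =>
      intro t s h
      rcases hprime.2.2 t s (h ▸ dvd_pow_self _ N.succ_ne_zero) with ⟨t', rfl⟩ | ⟨s', rfl⟩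
      · obtain ⟨m, hm⟩ := ih t' s (mul_left_cancel₀ hρ0 (by rw [← mul_assoc, h, pow_succ']))
        exact ⟨m + 1, by rw [pow_succ']; exact hm.mul_left _⟩
      · exact ih t s' (mul_left_cancel₀ hρ0 (by rw [mul_left_comm, h, pow_succ']))
  refine IsDiscreteValuationRing.ofHasUnitMulPowIrreducibleFactorization ⟨ρ ϖ, hprime.irreducible, fun {t} ht => ?_⟩
  obtain ⟨b, hb, s, hs'⟩ := (halgT t).exists_nonzero_dvd (mem_nonZeroDivisors_of_ne_zero ht)
  obtain ⟨m, u, rfl⟩ := IsDiscreteValuationRing.eq_unit_mul_pow_irreducible hb hirr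
  rw [map_mul, map_pow, hπT, mul_pow, ← pow_mul] at hs'
  have hu : IsUnit (algebraMap B T u * ρ v ^ m) := (u.isUnit.map _).mul ((v.isUnit.map ρ).pow m)
  obtain ⟨w, hw⟩ := hu
  exact key (n * m) t (s * ↑w⁻¹) (by
    rw [← mul_assoc, ← hs', ← mul_assoc, ← hw, mul_assoc, mul_comm (↑w : T), mul_assoc, w.inv_mul, mul_one])

end Groth.Agent.S17019
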