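import Groth.Statements.S17022
import Groth.Agent.CurveRamAC.Global
import Groth.Agent.S7810
import Groth.Agent.S6542
import Groth.Agent.ExtShX.PnSmooth
import Groth.Agent.CurveGenusMono.Basic
import Groth.Agent.CurveFinMap.Degree
import Groth.Agent.SmoothReg.Omega
import Groth.Agent.QCoh.DevissageP

set_option autoImplicit false
set_option backward.isDefEq.respectTransparency false
set_option backward.isDefEq.respectTransparency.types false
set_option linter.style.haveILetI false
universe u
open CategoryTheory CategoryTheory.Limits AlgebraicGeometry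
open Curves

namespace Groth.Agent.S17022

open Groth.Agent IsLocalRing in
attribute [local instance] Curv2.stalkAlgebra in
/-- A connected smooth proper scheme of relative dimension one over a field has dimension one. -/
theorem dim_one {k : Type u} [Field k] [IsAlgClosed k] (C : Scheme.{u}) [C.Over (Spec (CommRingCat.of k))]
    [IsProper (C ↘ Spec (CommRingCat.of k))] [SmoothOfRelativeDimension 1 (C ↘ Spec (CommRingCat.of k))]
    [IsIntegral C] : topologicalKrullDim C = 1 := by
  haveI : Smooth (C ↘ Spec (CommRingCat.of k)) := SmoothOfRelativeDimension.smooth 1 _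
  haveI := CurveCohLib.isNoetherian_of_proper (k := k) (X := C)
  haveI : JacobsonSpace C := LocallyOfFiniteType.jacobsonSpace (C ↘ Spec (CommRingCat.of k))
  obtain ⟨x, -, hx⟩ := nonempty_inter_closedPoints (Z := (Set.univ : Set C)) ⟨genericPoint C, trivial⟩
    isOpen_univ.isLocallyClosed
  obtain ⟨hres, hfree, hfin, hrank⟩ := CurveRamAC.stalk_facts (k := k) C hx
  haveI := hfree
  haveI := hfin
  have hreg := GrpSchLib.isRegularLocalRing_stalk_of_smooth (C ↘ Spec (CommRingCat.of k)) x
  haveI : Algebra.IsSeparable k (ResidueField (C.presheaf.stalk x)) := by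
    refine ⟨fun z => ?_⟩
    obtain ⟨c, rfl⟩ := hres z
    exact isSeparable_algebraMap c
  haveI : Algebra.EssFiniteType k (ResidueField (C.presheaf.stalk x)) :=
    haveI : Module.Finite k (ResidueField (C.presheaf.stalk x)) :=
      Module.Finite.of_surjective (Algebra.linearMap k _) fun z => hres z
    inferInstance
  haveI : Algebra.FormallyEtale k (ResidueField (C.presheaf.stalk x)) := Algebra.FormallyEtale.of_isSeparable k _
  have h := SmoothReg.finrank_cotangentSpace_eq (k := k) (P := C.presheaf.stalk x)
  rw [hrank] at h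
  rw [IsRegularLocalRing.iff_finrank_cotangentSpace, h] at hreg
  have hd := SmoothReg.ringKrullDim_stalk_closedPoint (C ↘ Spec (CommRingCat.of k)) hx
  rw [← hd]
  exact_mod_cast hreg.symm

/-- Let k be an algebraically closed field of characteristic zero, C a connected scheme which is proper
and smooth of relative dimension 1 over k, and f : C → P¹_k a surjective morphism over k which is
étale over the complement of two closed points p, q of P¹_k (p = q is allowed). Then C is isomorphic
to P¹_k over k, and f has exactly one point over p and exactly one point over q. (Existence of an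
isomorphism only; the published statement moreover identifies f, in suitable coordinates, with (a :
b) ↦ (aⁿ : bⁿ) for some n. The published statement leaves implicit that the ground field is
algebraically closed and that C is a connected smooth proper curve; its argument uses both, and over
a non-closed field the projective line over a finite extension is a connected cover with no
ramification.) -/
theorem result (k : Type u) [Field k]
    [IsAlgClosed k] [CharZero k] {C : Scheme.{u}} (s : C ⟶ Spec (CommRingCat.of k))
    [IsProper s] [SmoothOfRelativeDimension 1 s] [ConnectedSpace C]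
    (f : C ⟶ CohB1.ProjSpace 1 k) (hf : f ≫ CohB1.ProjSpace.toSpec 1 k = s) [Surjective f]
    (p q : ↥(CohB1.ProjSpace 1 k)) (hp : IsClosed ({p} : Set ↥(CohB1.ProjSpace 1 k))) (hq : IsClosed ({q} : Set ↥(CohB1.ProjSpace 1 k)))
    (W : (CohB1.ProjSpace 1 k).Opens) (hW : (W : Set ↥(CohB1.ProjSpace 1 k)) = {p, q}ᶜ) [Etale (f ∣_ W)] :
    (∃ e : C ≅ CohB1.ProjSpace 1 k, e.hom ≫ CohB1.ProjSpace.toSpec 1 k = s) ∧
      (∀ x y : C, f.base x = p → f.base y = p → x = y) ∧
      (∀ x y : C, f.base x = q → f.base y = q → x = y) := by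
  classical
  let P := CohB1.ProjSpace 1 k
  letI : P.Over (Spec (CommRingCat.of k)) := ⟨CohB1.ProjSpace.toSpec 1 k⟩
  letI : C.Over (Spec (CommRingCat.of k)) := ⟨s⟩
  haveI : IsProper (C ↘ Spec (CommRingCat.of k)) := ‹IsProper s›
  haveI : SmoothOfRelativeDimension 1 (C ↘ Spec (CommRingCat.of k)) := ‹SmoothOfRelativeDimension 1 s›
  haveI : Smooth (C ↘ Spec (CommRingCat.of k)) := SmoothOfRelativeDimension.smooth 1 _
  haveI : SmoothOfRelativeDimension 1 (P ↘ Spec (CommRingCat.of k)) := Groth.Agent.ExtShX.DetPn.smooth_toSpec 1 k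
  haveI : Smooth (P ↘ Spec (CommRingCat.of k)) := SmoothOfRelativeDimension.smooth 1 _
  haveI : IsProper (P ↘ Spec (CommRingCat.of k)) := Groth.Agent.PnCoh.Chow.isProper_toSpec 1 k
  haveI : IsIntegral P := Groth.Agent.H23.PnChart.isIntegral_projSpace 1 k
  haveI := Groth.Agent.CurveCohLib.isNoetherian_of_proper (k := k) (X := C)
  haveI := Groth.Agent.CurveCohLib.isIntegral_of_smooth_connected (C ↘ Spec (CommRingCat.of k))
  have hdC : topologicalKrullDim C = 1 := dim_one (k := k) C
  have hdP : topologicalKrullDim P = 1 := by simpa using Groth.Agent.S10829.result k 1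
  have hη : f (genericPoint C) = genericPoint P := by
    obtain ⟨x, hx⟩ := f.surjective (genericPoint P)
    exact (((genericPoint_spec P).specializes (Set.mem_univ _)).antisymm
      (hx ▸ ((genericPoint_spec C).specializes (Set.mem_univ x)).map f.continuous)).eq.symm
  haveI : IsFinite f := Groth.Agent.CurveFinMap.isFinite_of_generic (k := k) hdC hdP f hf hη
  haveI : Flat f := Groth.Agent.CurveRamAC.flat C hdC P hdP f hf hη
  letI := ((P.presheaf.stalkSpecializes (specializes_of_eq hη) ≫ f.stalkMap (genericPoint C)).hom).toAlgebra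
  haveI := Groth.Agent.CurveGenusMono.finiteDimensional_functionField f hη
  haveI : CharZero P.functionField :=
    charZero_of_injective_ringHom (Groth.Agent.CurveLuroth.ffC (CohB1.ProjSpace.toSpec 1 k)).hom.injective
  have hsep : Algebra.IsSeparable P.functionField C.functionField := inferInstance
  have hne : ∀ x : C, IsClosed ({x} : Set C) → (Groth.Agent.CurveRamAC.ram f x : k) ≠ 0 := fun x hx h => by
    haveI := Groth.Agent.CurveFF.isDVR k C hdC hx
    haveI := Groth.Agent.CurveFF.isDVR k P hdP (Groth.Agent.CurveRamAC.isClosed_image C P hdP f hη hx)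
    have h0 : Groth.Agent.CurveRamAC.ram f x = 0 := Nat.cast_eq_zero.1 h
    have := Groth.Agent.CurveRamAC.map_maximalIdeal_eq f (x := x)
    rw [h0, pow_zero, Ideal.one_eq_top] at this
    exact (IsLocalRing.maximalIdeal.isMaximal (C.presheaf.stalk x)).ne_top (top_le_iff.1 (this ▸
      (((IsLocalRing.local_hom_TFAE (f.stalkMap x).hom).out 0 2 rfl rfl).1 (inferInstanceAs (IsLocalHom (f.stalkMap x).hom)))))
  have hunr : ∀ x : C, IsClosed ({x} : Set C) → f x ∈ W → Groth.Agent.CurveRamAC.ram f x = 1 := fun x hx hxW => by
    haveI := Groth.Agent.CurveFF.isDVR k C hdC hx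
    haveI := Groth.Agent.CurveFF.isDVR k P hdP (Groth.Agent.CurveRamAC.isClosed_image C P hdP f hη hx)
    let V := f ⁻¹ᵁ W
    have hfu : ((V.ι ≫ f).stalkMap ⟨x, hxW⟩).hom.FormallyUnramified := by
      haveI : Etale (V.ι ≫ f) := by rw [← morphismRestrict_ι]; infer_instance
      exact FormallyUnramified.stalkMap _ _
    rw [Scheme.Hom.stalkMap_comp] at hfu
    have hfu' : (f.stalkMap x).hom.FormallyUnramified := by
      haveI : IsIso (V.ι.stalkMap ⟨x, hxW⟩) := inferInstance
      exact (RingHom.FormallyUnramified.respectsIso.cancel_right_isIso (f.stalkMap x) (V.ι.stalkMap ⟨x, hxW⟩)).1 hfu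
    haveI := Groth.Agent.Synt29.OmegaStalk.isIso_toStalk (Groth.Agent.OmegaUniv.isUniversal_dOmega f) x
    letI := (f.stalkMap x).hom.toAlgebra
    haveI : Algebra.FormallyUnramified (P.presheaf.stalk (f x)) (C.presheaf.stalk x) := hfu'
    haveI : Subsingleton (CommRingCat.KaehlerDifferential (f.stalkMap x)) :=
      Algebra.FormallyUnramified.subsingleton_kaehlerDifferential
    haveI : Subsingleton ((Omega.sheaf f).presheaf.stalk x) :=
      (asIso (Groth.Agent.Synt29.OmegaStalk.toStalk (OmegaSh.dOmega f) x)).toLinearEquiv.symm.toEquiv.subsingleton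
    have h := (Groth.Agent.CurveRamAC.finrank_stalk_omega f hf hx
      (Groth.Agent.CurveRamAC.isClosed_image C P hdP f hη hx) (hne x hx)).1
    rw [Module.length_eq_zero] at h
    have h' : Groth.Agent.CurveRamAC.ram f x - 1 = 0 := by exact_mod_cast h.symm
    have : Groth.Agent.CurveRamAC.ram f x ≠ 0 := fun h0 => hne x hx (by rw [h0, Nat.cast_zero])
    omega
  obtain ⟨hfp, hsp⟩ := Groth.Agent.CurveRamAC.sum_ram C hdC P hdP f hf hη hp
  obtain ⟨hfq, hsq⟩ := Groth.Agent.CurveRamAC.sum_ram C hdC P hdP f hf hη hq
  rw [finsum_mem_eq_finite_toFinset_sum _ hfp] at hsp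
  rw [finsum_mem_eq_finite_toFinset_sum _ hfq] at hsq
  have hcl : ∀ x : C, f x = p ∨ f x = q → IsClosed ({x} : Set C) := fun x hx => by
    by_contra hc
    rw [Groth.Agent.CurveCohLib.eq_genericPoint_of_not_isClosed hdC hc, hη] at hx
    rcases hx with rfl | rfl
    · exact Groth.Agent.CurveRamAC.not_isClosed_generic P hdP hp
    · exact Groth.Agent.CurveRamAC.not_isClosed_generic P hdP hq
  have hH := Groth.Agent.CurveRamAC.hurwitz C hdC P hdP f hf hη hsep hne (hfp.toFinset ∪ hfq.toFinset)
    (fun x hx => hcl x (by simpa using hx)) (fun x hx h1 => by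
      by_contra hnot
      refine h1 (hunr x hx ?_)
      show f x ∈ (W : Set P)
      rw [hW]
      simpa using hnot)
  rw [(Groth.Agent.S7810.projLine_facts k).2] at hH
  have hn : 0 < f.residueDegree (genericPoint C) := Groth.Agent.CurveGenusMono.residueDegree_pos f _
  have hpos : ∀ (y : P) (hy : (f ⁻¹' {y}).Finite), 0 < hy.toFinset.card := fun y hy => by
    obtain ⟨x, hx⟩ := f.surjective y
    exact Finset.card_pos.2 ⟨x, by simpa using hx⟩
  have hap := hpos p hfp
  have haq := hpos q hfq
  have hsum : ∀ (T : Finset C), ∑ x ∈ T, ((Groth.Agent.CurveRamAC.ram f x : ℤ) - 1) =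
      ((∑ x ∈ T, Groth.Agent.CurveRamAC.ram f x : ℕ) : ℤ) - T.card := fun T => by
    rw [Finset.sum_sub_distrib]
    simp
  obtain ⟨hg, hcp, hcq⟩ : Curv2.genus k C = 0 ∧ hfp.toFinset.card = 1 ∧ hfq.toFinset.card = 1 := by
    by_cases hpq : p = q
    · subst hpq
      rw [Finset.union_idempotent, hsum, hsp] at hH
      push_cast at hH
      omega
    · have hdisj : Disjoint hfp.toFinset hfq.toFinset := Finset.disjoint_left.2 fun x h1 h2 => by
        simp only [Set.Finite.mem_toFinset, Set.mem_preimage, Set.mem_singleton_iff] at h1 h2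
        exact hpq (h1.symm.trans h2)
      rw [Finset.sum_union hdisj, hsum, hsum, hsp, hsq] at hH
      push_cast at hH
      omega
  refine ⟨?_, fun x y hx hy => Finset.card_le_one.1 hcp.le x (by simpa using hx) y (by simpa using hy),
    fun x y hx hy => Finset.card_le_one.1 hcq.le x (by simpa using hx) y (by simpa using hy)⟩
  obtain ⟨x, hx⟩ := Finset.card_pos.1 hap
  have hxc : IsClosed ({x} : Set C) := hcl x (Or.inl (by simpa using hx))
  haveI : Subsingleton (Coh.HH C (Coh.structureModule C) 1) := by
    haveI := Groth.Agent.CurveCohLib.finite_HH (k := k) (Groth.Agent.QCoh.isCoh_structureModule' (X := C)) 1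
    exact Module.finrank_zero_iff.1 hg
  haveI := Groth.Agent.CurveFF.isDVR k C hdC hxc
  refine Groth.Agent.S6542.result k C hdC ‹_› {x} (fun y hy => Finset.mem_singleton.1 hy ▸ hxc)
    (fun y hy => by obtain rfl := Finset.mem_singleton.1 hy; infer_instance) ?_
  letI := Curv2.resAlgebra k C x
  rw [Finset.gcd_singleton, normalize_eq]
  have hb : Function.Bijective (Algebra.linearMap k (C.residueField x)) :=
    ⟨(Curv2.resMap k C x).injective, fun z => (Groth.Agent.CurveRamAC.stalk_facts (k := k) C hxc).1 z⟩
  rw [← (LinearEquiv.ofBijective _ hb).finrank_eq, Module.finrank_self]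

end Groth.Agent.S17022
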