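import Groth.Statements.S17023
-- import your own Groth.Agent.* helpers here
import Groth.Agent.HTopAwn.PtFun
import Mathlib.RingTheory.Smooth.AdicCompletion

set_option autoImplicit false
universe u
open FlatMor

namespace Groth.Agent.S17023

/-- Let B be a discrete valuation ring, A a B-algebra of finite type and p a prime ideal of A which lies
over the maximal ideal of B (a point of the special fibre), at which A is smooth over B (the
localization A_p is formally smooth over B), and such that B maps onto the residue field κ(p). Then
there are a discrete valuation ring B' and a ring map ψ : A → B' pulling the maximal ideal of B'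
back to p, such that the composite B → A → B' is injective, the maximal ideal of B generates the
maximal ideal of B', and B maps onto the residue field of B'; in other words Spec B' → Spec A → Spec
B is surjective and unramified with trivial residue field extension. (The published statement does
not say that the closed point of Spec B' goes to p; it is required here. The published setting takes
A essentially of finite type over a field of characteristic zero; here A is taken of finite type
over B, with no ground field.) -/
theorem result
    (B : Type u) [CommRing B] [IsDomain B] [IsDiscreteValuationRing B]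
    (A : Type u) [CommRing A] [Algebra B A] [Algebra.FiniteType B A]
    (p : Ideal A) [p.IsPrime] (hp : p.comap (algebraMap B A) = IsLocalRing.maximalIdeal B)
    [Algebra.IsSmoothAt B p]
    (hres : Function.Surjective ((algebraMap A p.ResidueField).comp (algebraMap B A))) :
    ∃ (B' : Type u) (_ : CommRing B') (_ : IsDomain B') (_ : IsDiscreteValuationRing B') (ψ : A →+* B'),
      Ideal.comap ψ (IsLocalRing.maximalIdeal B') = p ∧
      Function.Injective (ψ.comp (algebraMap B A)) ∧
      Ideal.map (ψ.comp (algebraMap B A)) (IsLocalRing.maximalIdeal B) = IsLocalRing.maximalIdeal B' ∧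
      Function.Surjective ((IsLocalRing.residue B').comp (ψ.comp (algebraMap B A))) := by
  classical
  let m := IsLocalRing.maximalIdeal B
  obtain ⟨hdom, hdvr, hinj⟩ := Groth.Agent.HTopAwn.isDVR_completion (V := B)
  let φ : B →ₐ[B] p.ResidueField := Algebra.ofId B p.ResidueField
  have hφ : Function.Surjective φ := fun x => by
    obtain ⟨b, hb⟩ := hres x
    exact ⟨b, (IsScalarTower.algebraMap_apply B A p.ResidueField b).trans hb⟩
  have hker : RingHom.ker φ = m := by
    ext b
    show algebraMap B p.ResidueField b = 0 ↔ _
    rw [IsScalarTower.algebraMap_apply B A p.ResidueField, Ideal.algebraMap_residueField_eq_zero]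
    exact SetLike.ext_iff.1 hp b
  let e : (B ⧸ m) ≃ₐ[B] p.ResidueField :=
    (Ideal.quotientEquivAlgOfEq B hker.symm).trans (Ideal.quotientKerAlgEquivOfSurjective hφ)
  let f : Localization.AtPrime p →ₐ[B] B ⧸ m :=
    e.symm.toAlgHom.comp (IsScalarTower.toAlgHom B (Localization.AtPrime p) p.ResidueField)
  haveI : Algebra.FormallySmooth B (Localization.AtPrime p) := ‹Algebra.IsSmoothAt B p›
  obtain ⟨g, hg⟩ := Algebra.FormallySmooth.exists_adicCompletionEvalOneₐ_comp_eq f
  let B' := AdicCompletion m B
  let ψ : A →+* B' := g.toRingHom.comp (algebraMap A (Localization.AtPrime p))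
  have hev : Function.Surjective (AdicCompletion.evalOneₐ m : B' →ₐ[B] B ⧸ m) := fun x => by
    obtain ⟨b, rfl⟩ := Ideal.Quotient.mk_surjective x
    exact ⟨algebraMap B B' b, AlgHom.commutes _ b⟩
  have hmax : RingHom.ker (AdicCompletion.evalOneₐ m : B' →ₐ[B] B ⧸ m) = IsLocalRing.maximalIdeal B' := by
    refine IsLocalRing.eq_maximalIdeal ?_
    letI := Ideal.Quotient.field m
    exact RingHom.ker_isMaximal_of_surjective (K := B ⧸ m) (AdicCompletion.evalOneₐ m : B' →ₐ[B] B ⧸ m) hev
  have hψ : ψ.comp (algebraMap B A) = algebraMap B B' := RingHom.ext fun b => by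
    show g (algebraMap A (Localization.AtPrime p) (algebraMap B A b)) = _
    rw [← IsScalarTower.algebraMap_apply, g.commutes]
  refine ⟨B', inferInstance, hdom, hdvr, ψ, ?_, ?_, ?_, ?_⟩
  · ext a
    have h1 : (AdicCompletion.evalOneₐ m) (g (algebraMap A (Localization.AtPrime p) a)) =
        f (algebraMap A (Localization.AtPrime p) a) := congr($hg (algebraMap A (Localization.AtPrime p) a))
    rw [← hmax]
    show (AdicCompletion.evalOneₐ m) (g (algebraMap A (Localization.AtPrime p) a)) = 0 ↔ a ∈ p
    rw [h1]
    show e.symm (algebraMap (Localization.AtPrime p) p.ResidueField (algebraMap A (Localization.AtPrime p) a)) = 0 ↔ _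
    rw [map_eq_zero_iff _ e.symm.injective, ← IsScalarTower.algebraMap_apply, Ideal.algebraMap_residueField_eq_zero]
  · rw [hψ]; exact hinj
  · rw [hψ]; exact AdicCompletion.maximalIdeal_eq_map.symm
  · intro x
    obtain ⟨x, rfl⟩ := Ideal.Quotient.mk_surjective x
    obtain ⟨b, hb⟩ := Ideal.Quotient.mk_surjective (AdicCompletion.evalOneₐ m x)
    refine ⟨b, ?_⟩
    show IsLocalRing.residue B' (ψ.comp (algebraMap B A) b) = IsLocalRing.residue B' x
    rw [hψ, ← sub_eq_zero, ← map_sub, IsLocalRing.residue_eq_zero_iff, ← hmax, RingHom.mem_ker, map_sub, AlgHom.commutes,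
      ← hb]
    exact sub_self _

end Groth.Agent.S17023
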