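import Groth.Statements.S1703
import Groth.Agent.FlatX.CartierFlatFP

set_option autoImplicit false
universe u
open CategoryTheory CategoryTheory.Limits AlgebraicGeometry TopologicalSpace
open SDiv

namespace Groth.Agent.S1703

/-- Let f : X ⟶ S be locally of finite presentation and 𝓘 the ideal sheaf of an effective Cartier
divisor D ⊂ X with D ⟶ S flat. Then there is an open subscheme U of X containing D such that U ⟶ S
is flat. -/
theorem result {X S : Scheme.{u}} (f : X ⟶ S) [LocallyOfFinitePresentation f] (𝓘 : X.IdealSheafData)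
    (hD : (BlowUp.IsEffCartierIdeal 𝓘 ∧ Flat (𝓘.subschemeι ≫ f))) : ∃ U : X.Opens, (𝓘.support : Set ↥X) ⊆ U ∧ Flat (U.ι ≫ f) := by
  let U : X.Opens := ⟨{x | (f.stalkMap x).hom.Flat}, Groth.Agent.FlatLocus.isOpen_flat_locus f⟩
  exact ⟨U, fun x hx => FlatX.flat_stalkMap_of_lfp f hD.1 hD.2 hx,
    Flat.of_stalkMap _ fun z => (FibFlat.flat_stalk_open_comp U.ι f z).2 z.2⟩

end Groth.Agent.S1703
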