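import Groth.Statements.S17052
import Groth.Agent.FTorsL.Colim

set_option autoImplicit false
open CategoryTheory CategoryTheory.Limits
universe u
open FTors

namespace Groth.Agent.S17052

/-- On a locally Noetherian formal scheme 𝔛 (an adic system of thickenings with locally Noetherian
levels), the class of quasi-coherent torsion O_𝔛-modules is closed under arbitrary small colimits
computed among all O_𝔛-modules. -/
theorem result (𝔛 : FSch.Sys.{u}) (h𝔛 : 𝔛.IsLocNoethFormal)
    (J : Type u) [SmallCategory J] :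
    (FTors.IsQCT 𝔛 h𝔛.1).IsClosedUnderColimitsOfShape J := by
  haveI : (FTors.IsQCT 𝔛 h𝔛.1).IsClosedUnderIsomorphisms := ⟨fun e hM =>
    ⟨FTorsL.isTorsF_of_epi h𝔛 e.hom hM.1, (SheafOfModules.isQuasicoherent (ModSite.ringSh (𝔛.Osh h𝔛.1))).prop_of_iso e hM.2⟩⟩
  exact ObjectProperty.IsClosedUnderColimitsOfShape.mk' (P := FTors.IsQCT 𝔛 h𝔛.1) (by
    rintro _ ⟨F, hF⟩
    exact FTorsL.isQCT_colimit h𝔛 (colimit.isColimit F) hF)

end Groth.Agent.S17052
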