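import Groth.Statements.S17058
import Groth.Agent.FTorsL.RHigher
-- import your own Groth.Agent.* helpers here

set_option autoImplicit false
set_option backward.isDefEq.respectTransparency false
set_option backward.isDefEq.respectTransparency.types false
open CategoryTheory CategoryTheory.Limits
universe u
attribute [local instance] HasDerivedCategory.standard
open FTors

namespace Groth.Agent.S17058

/-- Let f : 𝔛 ⟶ 𝔜 be a morphism of Noetherian formal schemes (adic systems of thickenings with locally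
Noetherian levels, quasi-compact underlying spaces), and assume the total right derived functor Rf_*
exists on unbounded derived categories of modules. Then Rf_* carries complexes with quasi-coherent
torsion cohomology sheaves to complexes with quasi-coherent torsion cohomology sheaves. (The
published statement also asserts that Rf_* is bounded on such complexes; this row does not.) -/
theorem result (𝔛 𝔜 : FSch.Sys.{u}) (h𝔛 : 𝔛.IsLocNoethFormal) (h𝔜 : 𝔜.IsLocNoethFormal)
    [CompactSpace (𝔛.X 0)] [CompactSpace (𝔜.X 0)] (f : 𝔛 ⟶ 𝔜)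
    [SiteCmp.HasRpushD (FSch.homMor f h𝔛.1 h𝔜.1)] (K : DerivedCategory (FSch.ModF 𝔛 h𝔛.1))
    (hK : FTors.IsDQCT 𝔛 h𝔛.1 K) :
    FTors.IsDQCT 𝔜 h𝔜.1 ((SiteCmp.RpushD (FSch.homMor f h𝔛.1 h𝔜.1)).obj K) := by
  haveI := Groth.Agent.FTorsL.isWeakSerre_qct h𝔛
  haveI := Groth.Agent.FTorsL.isWeakSerre_qct h𝔜
  exact Groth.Agent.FTorsL.cohIn_RpushD h𝔛 h𝔜 f (FTors.IsQCT 𝔛 h𝔛.1)
    (fun M hM => ((Groth.Agent.FTorsL.isQCT_iff h𝔛 M).1 hM).2) (FTors.IsQCT 𝔜 h𝔜.1)
    (fun M hM p => Groth.Agent.FTorsL.isQCT_RpushF h𝔛 h𝔜 f hM p) K hK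

end Groth.Agent.S17058
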