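import Groth.Statements.S17071
import Groth.Agent.FTorsL.KRgamma

set_option autoImplicit false
open CategoryTheory CategoryTheory.Limits AlgebraicGeometry
universe u
attribute [local instance] HasDerivedCategory.standard
open FTors
open Groth.Agent.FTorsL (kMor)

namespace Groth.Agent.S17071

/-- Let X be a locally Noetherian scheme, 𝓘 a quasi-coherent ideal of O_X, X̂ the completion of X along
𝓘, κ : X̂ ⟶ X the completion morphism of ringed spaces, and assume Rκ_*, RΓ'_X̂ and the derived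
𝓘-power-torsion functor RΓ_𝓘 exist on unbounded derived categories. Then for every E ∈ D(O_X̂) there
is a unique isomorphism RΓ_𝓘 (Rκ_* E) ≅ Rκ_* (RΓ'_X̂ E) whose composite with Rκ_* of the canonical
morphism RΓ'_X̂ E ⟶ E is the canonical morphism RΓ_𝓘 (Rκ_* E) ⟶ Rκ_* E. -/
theorem result (X : Scheme.{u}) [IsLocallyNoetherian X]
    (𝓘 : X.IdealSheafData) (hX : (FSch.completionAlong X 𝓘).IsFormal)
    [SiteCmp.HasRpushD (FSch.toSchemeMor (FSch.completionAlong X 𝓘) hX (FSch.completionToX X 𝓘) (FSch.completionToX_comm X 𝓘))] [FTors.HasRgammaT (FSch.completionAlong X 𝓘) hX] [FTors.HasRgammaZp X 𝓘]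
    (E : DerivedCategory (FSch.ModF (FSch.completionAlong X 𝓘) hX)) :
    ∃! e : (FTors.RgammaZp X 𝓘).obj ((SiteCmp.RpushD (FSch.toSchemeMor (FSch.completionAlong X 𝓘) hX (FSch.completionToX X 𝓘) (FSch.completionToX_comm X 𝓘))).obj E) ≅
        (SiteCmp.RpushD (FSch.toSchemeMor (FSch.completionAlong X 𝓘) hX (FSch.completionToX X 𝓘) (FSch.completionToX_comm X 𝓘))).obj ((FTors.RgammaT (FSch.completionAlong X 𝓘) hX).obj E),
      e.hom ≫ (SiteCmp.RpushD (FSch.toSchemeMor (FSch.completionAlong X 𝓘) hX (FSch.completionToX X 𝓘) (FSch.completionToX_comm X 𝓘))).map ((FTors.RgammaTε (FSch.completionAlong X 𝓘) hX).app E) =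
        (FTors.RgammaZpε X 𝓘).app ((SiteCmp.RpushD (FSch.toSchemeMor (FSch.completionAlong X 𝓘) hX (FSch.completionToX X 𝓘) (FSch.completionToX_comm X 𝓘))).obj E) := by
  have h : (FSch.completionAlong X 𝓘).IsLocNoethFormal :=
    Groth.Agent.FComplLib.isLocNoethFormal_completionAlong 𝓘
  haveI : PreservesFiniteLimits (kMor 𝓘 h).pull := Groth.Agent.FTorsL.preservesFiniteLimits_pull h
  haveI : SiteCmp.HasRpushD (kMor 𝓘 h) := ‹_›
  haveI : FTors.HasRgammaT (FSch.completionAlong X 𝓘) h.1 := ‹_›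
  obtain ⟨a, -, -⟩ := Groth.Agent.FTorsL.exists_adj h
  exact Groth.Agent.FTorsL.existsUnique_iso (FTors.IsDTorsZp X 𝓘) _ _
    (Groth.Agent.FTorsL.Gen.isDTorsF_RgammaT _ _)
    (Groth.Agent.FTorsL.isDTorsZp_RpushD h (Groth.Agent.FTorsL.isDTorsF_RgammaT h E))
    (fun Y hY => Groth.Agent.FTorsL.Gen.comp_ε_bijective _ (Groth.Agent.FTorsL.hasAcyc_powIdealFam X 𝓘) hY)
    (fun Y hY => Groth.Agent.FTorsL.comp_map_bijective a Y ((FTors.RgammaTε (FSch.completionAlong X 𝓘) hX).app E)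
      (Groth.Agent.FTorsL.comp_ε_bijective h (Groth.Agent.FTorsL.isDTorsF_pullD h hY)))

end Groth.Agent.S17071
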