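import Groth.Statements.S17073
import Groth.Agent.LC.HTensor
import Groth.Agent.LC.Connected
import Mathlib.Algebra.Category.ModuleCat.ChangeOfRings

set_option autoImplicit false
open CategoryTheory
open scoped TensorProduct
universe u
open LocCoh

namespace Groth.Agent.S17073

/-- Let R → S be a homomorphism of Noetherian rings, J an ideal of S containing elements u₁, …, u_d such
that S/(u₁, …, u_d) is a finite R-module and J lies in the radical of (u₁, …, u_d), and let F be a
finite R-module. Then the functor sending an S-module E to the set Hom_R(H^d_J(E), F) (d-th local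
cohomology supported in J, scalars restricted to R) is representable by an S-module. (The published
statement gives the representing module as the degree −d cohomology of RHom_R(RΓ_J S, F) and a
bifunctorial isomorphism; only representability is asserted here.) -/
theorem result
    (R S : Type u) [CommRing R] [CommRing S] [IsNoetherianRing R] [IsNoetherianRing S] [Algebra R S]
    (J : Ideal S) (d : ℕ) (u : Fin d → S) (hu : ∀ i, u i ∈ J)
    (hJ : J ≤ (Ideal.span (Set.range u)).radical) [Module.Finite R (S ⧸ Ideal.span (Set.range u))]
    (F : Type u) [AddCommGroup F] [Module R F] [Module.Finite R F] :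
    ((localCohomology J d ⋙ ModuleCat.restrictScalars (algebraMap R S)).op ⋙
      yoneda.obj (ModuleCat.of R F)).IsRepresentable := by
  classical
  have hrad : (Ideal.span (Set.range u)).radical = J.radical :=
    le_antisymm (Ideal.radical_mono (Ideal.span_le.2 (Set.range_subset_iff.2 hu)))
      (Ideal.radical_le_radical_iff.2 hJ)
  have hcd : LocCoh.CdLE S J d := by
    refine LC.cdLE_of_radical_eq hrad ?_
    have h := LC.cdLE_span_finset (Finset.univ.image u)
    rw [Finset.coe_image, Finset.coe_univ, Set.image_univ] at h
    exact fun M _ _ i hi => h M i (lt_of_le_of_lt (Finset.card_image_le.trans (by simp)) hi)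
  let G := localCohomology J d
  let T := G.obj (ModuleCat.of S S)
  have hb : ∀ E : ModuleCat.{u} S, Function.Bijective (LC.htensor J d E) := fun E =>
    LC.htensor_bijective J d (fun N _ => hcd N (d + 1) (Nat.lt_succ_self d)) E
  let t : ∀ E : ModuleCat.{u} S, T ⊗[S] E ≃ₗ[S] G.obj E := fun E => LinearEquiv.ofBijective _ (hb E)
  let adj := ModuleCat.restrictCoextendScalarsAdj.{u} (algebraMap R S)
  let C := (ModuleCat.coextendScalars (algebraMap R S)).obj (ModuleCat.of R F)
  refine ⟨ModuleCat.of S (T →ₗ[S] C), ⟨{ homEquiv := fun {E} => ?_, homEquiv_comp := ?_ }⟩⟩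
  · exact ModuleCat.homEquiv.trans <| (LinearMap.lflip (R₀ := S) (R := S) (S := S) (M := E) (N := T) (P := C)).toEquiv.trans <|
      (TensorProduct.lift.equiv (RingHom.id S) T E C).toEquiv.trans <|
      ((t E).arrowCongr (LinearEquiv.refl S C)).toEquiv.trans <|
      ModuleCat.homEquiv.symm.trans <| (adj.homEquiv (G.obj E) (ModuleCat.of R F)).symm
  · intro E E' f g
    apply (adj.homEquiv (G.obj E) (ModuleCat.of R F)).injective
    refine ((adj.homEquiv _ _).apply_symm_apply _).trans ?_
    refine Eq.trans ?_ (adj.homEquiv_naturality_left (G.map f) _).symm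
    refine Eq.trans ?_ (congrArg (G.map f ≫ ·) ((adj.homEquiv _ _).apply_symm_apply _)).symm
    refine ModuleCat.hom_ext (LinearMap.ext fun x => ?_)
    obtain ⟨y, rfl⟩ := (t E).surjective x
    have hn : (G.map f).hom ((t E) y) = (t E') (f.hom.lTensor _ y) := (LC.htensor_natural J d f y).symm
    show (TensorProduct.lift (f ≫ g).hom.flip) ((t E).symm ((t E) y)) =
      (TensorProduct.lift g.hom.flip) ((t E').symm ((G.map f).hom ((t E) y)))
    rw [hn, LinearEquiv.symm_apply_apply, LinearEquiv.symm_apply_apply]
    clear hn
    induction y with
    | zero => simp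
    | add a b ha hb => simp only [map_add, ha, hb]
    | tmul a b => rfl

end Groth.Agent.S17073
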