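import Groth.Statements.S17074
import Groth.Agent.H9FCoh.IndKan
import Groth.Agent.H9FCoh.IndExt
import Groth.Agent.H9FCoh.Coherator
set_option backward.isDefEq.respectTransparency false
set_option backward.isDefEq.respectTransparency.types false
set_option linter.style.haveILetI false

set_option autoImplicit false
open CategoryTheory CategoryTheory.Limits
universe v' u' u
open FSch

namespace Groth.Agent.S17074

/-- Let 𝔛 be a Noetherian formal scheme (an adic system of thickenings with locally Noetherian levels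
and quasi-compact underlying space); let A_c be the full subcategory of coherent O_𝔛-modules
(assumed, as holds, to contain 0 and to be closed under kernels, cokernels and finite products,
hence abelian) inside the full subcategory A of small filtered colimits of coherent modules. For an
abelian category A' with exact small filtered colimits and an exact functor G : A_c ⥤ A', the
pointwise left Kan extension of G along the inclusion A_c ⥤ A (assumed to exist; it is the
filtered-colimit-preserving extension of G, whose value at a module M is the colimit of G over the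
coherent submodules of M) is exact: it preserves finite limits and finite colimits. (The published
statement assumes 𝔛 only locally Noetherian. On the scheme glued from the spectra of the local rings
ℤ_(p), p ranging over all primes, along their common generic point, viewed as a formal scheme with
zero ideal of definition, the structure sheaf is the increasing union of the coherent ideals J_n
equal to the unit ideal at the first n closed points and to the maximal ideal at the others; for G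
the product over all closed points of the stalk functors, with values in abelian groups, the
extension of G does not carry the epimorphism from the direct sum of the J_n onto the structure
sheaf to an epimorphism. The last step of the published proof needs every coherent module to be a
Noetherian object, so 𝔛 is taken Noetherian here, which is the case in which the lemma is applied.) -/
theorem result (𝔛 : FSch.Sys.{u}) (h𝔛 : 𝔛.IsLocNoethFormal)
    [CompactSpace (𝔛.X 0)]
    [ObjectProperty.ContainsZero (fun 𝔊 : FSch.ModF 𝔛 h𝔛.1 => FSch.IsCohF 𝔛 h𝔛.1 𝔊)] [ObjectProperty.IsClosedUnderKernels (fun 𝔊 : FSch.ModF 𝔛 h𝔛.1 => FSch.IsCohF 𝔛 h𝔛.1 𝔊)]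
    [ObjectProperty.IsClosedUnderCokernels (fun 𝔊 : FSch.ModF 𝔛 h𝔛.1 => FSch.IsCohF 𝔛 h𝔛.1 𝔊)] [ObjectProperty.IsClosedUnderFiniteProducts (fun 𝔊 : FSch.ModF 𝔛 h𝔛.1 => FSch.IsCohF 𝔛 h𝔛.1 𝔊)]
    {A' : Type u'} [Category.{v'} A'] [Abelian A'] [HasFilteredColimitsOfSize.{u, u} A'] [AB5OfSize.{u, u} A']
    (G : ObjectProperty.FullSubcategory (fun 𝔊 : FSch.ModF 𝔛 h𝔛.1 => FSch.IsCohF 𝔛 h𝔛.1 𝔊) ⥤ A') [PreservesFiniteLimits G] [PreservesFiniteColimits G]
    [(ObjectProperty.ιOfLE (ObjectProperty.le_ind (fun 𝔊 : FSch.ModF 𝔛 h𝔛.1 => FSch.IsCohF 𝔛 h𝔛.1 𝔊) : (fun 𝔊 : FSch.ModF 𝔛 h𝔛.1 => FSch.IsCohF 𝔛 h𝔛.1 𝔊) ≤ ObjectProperty.ind.{u} (fun 𝔊 : FSch.ModF 𝔛 h𝔛.1 => FSch.IsCohF 𝔛 h𝔛.1 𝔊))).HasPointwiseLeftKanExtension G] :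
    PreservesFiniteLimits ((ObjectProperty.ιOfLE (ObjectProperty.le_ind (fun 𝔊 : FSch.ModF 𝔛 h𝔛.1 => FSch.IsCohF 𝔛 h𝔛.1 𝔊) : (fun 𝔊 : FSch.ModF 𝔛 h𝔛.1 => FSch.IsCohF 𝔛 h𝔛.1 𝔊) ≤ ObjectProperty.ind.{u} (fun 𝔊 : FSch.ModF 𝔛 h𝔛.1 => FSch.IsCohF 𝔛 h𝔛.1 𝔊))).pointwiseLeftKanExtension G) ∧
      PreservesFiniteColimits ((ObjectProperty.ιOfLE (ObjectProperty.le_ind (fun 𝔊 : FSch.ModF 𝔛 h𝔛.1 => FSch.IsCohF 𝔛 h𝔛.1 𝔊) : (fun 𝔊 : FSch.ModF 𝔛 h𝔛.1 => FSch.IsCohF 𝔛 h𝔛.1 𝔊) ≤ ObjectProperty.ind.{u} (fun 𝔊 : FSch.ModF 𝔛 h𝔛.1 => FSch.IsCohF 𝔛 h𝔛.1 𝔊))).pointwiseLeftKanExtension G) := by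
  haveI : IsGrothendieckAbelian.{u} (FSch.ModF 𝔛 h𝔛.1) :=
    S0484.result (Opens.grothendieckTopology (𝔛.X 0).toPresheafedSpace.carrier) (ModSite.ringSh (𝔛.Osh h𝔛.1))
  haveI : HasFiniteBiproducts (FSch.ModF 𝔛 h𝔛.1) := HasFiniteBiproducts.of_hasFiniteProducts
  let P : ObjectProperty (FSch.ModF 𝔛 h𝔛.1) := fun 𝔊 => FSch.IsCohF 𝔛 h𝔛.1 𝔊
  let Q : ObjectProperty (FSch.ModF 𝔛 h𝔛.1) := ObjectProperty.ind.{u} P
  haveI : ∀ (J : Type u) [SmallCategory J], Q.IsClosedUnderColimitsOfShape J := fun J _ =>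
    H9FCoh.isClosedUnderColimitsOfShape_ind (H9FCoh.good h𝔛) (H9FCoh.isQC_ind h𝔛) J
  haveI : P.IsClosedUnderIsomorphisms := ⟨fun {A B} e hA =>
    H9FCoh.isFP_of_mono (H9FCoh.good h𝔛) hA
      (H9FCoh.isQC_ind h𝔛 B (Q.prop_of_iso e (ObjectProperty.le_ind P A hA))) e.inv⟩
  haveI : Q.ContainsZero := by
    obtain ⟨Z, hz, hZ⟩ := ObjectProperty.ContainsZero.exists_zero (P := P)
    exact ⟨⟨Z, hz, ObjectProperty.le_ind P Z hZ⟩⟩
  haveI : Q.IsClosedUnderKernels := ⟨by
    rintro _ ⟨f, k, hk, hX, hY⟩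
    exact Q.prop_of_iso ((kernelIsKernel f).conePointUniqueUpToIso hk) (H9FCoh.ind_kernel h𝔛 f hX hY)⟩
  haveI : Q.IsClosedUnderCokernels := ⟨by
    rintro _ ⟨f, k, hk, hX, hY⟩
    exact Q.prop_of_iso ((cokernelIsCokernel f).coconePointUniqueUpToIso hk)
      (H9FCoh.prop_cokernel_of_colimits Q f hX hY)⟩
  haveI : Q.IsClosedUnderBinaryProducts := .mk' (by
    rintro _ ⟨F, hF⟩
    exact Q.prop_of_iso (biprod.isoProd _ _ ≪≫ HasLimit.isoOfNatIso (diagramIsoPair F).symm)
      (H9FCoh.prop_biprod_of_colimits Q (hF _) (hF _)))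
  haveI : Q.IsClosedUnderFiniteProducts := .mk'
  haveI : EssentiallySmall.{u} P.FullSubcategory :=
    haveI : ObjectProperty.EssentiallySmall.{u} P :=
      haveI := H9FCoh.essentiallySmall_isFT (O := 𝔛.Osh h𝔛.1)
      ObjectProperty.EssentiallySmall.of_le (Q := fun M : ModSite.Mod (𝔛.Osh h𝔛.1) => H9FCoh.IsFT M)
        fun M hM => H9FCoh.isFT_of_isFP hM
    inferInstance
  haveI : EssentiallySmall.{u} (Arrow P.FullSubcategory) :=
    EssentiallySmall.mk' (S := Arrow (SmallModel.{u} P.FullSubcategory))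
      (Functor.mapArrowEquivalence (equivSmallModel.{u} P.FullSubcategory))
  refine H9FCoh.IndKan.exact_ext (hPQ := ObjectProperty.le_ind P) (G := G)
    (fun {A B} i _ hA hB => H9FCoh.isFP_of_mono (H9FCoh.good h𝔛) hB (H9FCoh.isQC_ind h𝔛 A hA) i)
    (fun hT h₁ _ _ C hC t => H9FCoh.exists_lift_piece h𝔛 hT h₁ hC t) fun {X Y} f => ?_
  let e := equivSmallModel.{u} (H9FCoh.IndKan.Sq (ObjectProperty.le_ind.{u} P) f)
  haveI : IsFiltered (SmallModel.{u} (H9FCoh.IndKan.Sq (ObjectProperty.le_ind.{u} P) f)) :=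
    IsFiltered.of_equivalence e
  haveI := hasColimitsOfShape_of_equivalence (C := A') e.symm
  exact ⟨inferInstance, HasExactColimitsOfShape.of_domain_equivalence A' e.symm⟩

end Groth.Agent.S17074
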