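import Groth.Statements.S17076
import Groth.Agent.MorIsoLocus.NearFibre

set_option autoImplicit false
set_option linter.style.haveILetI false
set_option backward.isDefEq.respectTransparency false
set_option backward.isDefEq.respectTransparency.types false
universe u
open CategoryTheory CategoryTheory.Limits AlgebraicGeometry
open MorSch

namespace Groth.Agent.S17076

/-- Let S be a locally Noetherian scheme, X and Y schemes proper over S with X flat over S, and f : X →
Y an S-morphism. Then there is an open subset S₀ of S such that, for every locally Noetherian scheme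
S' and every morphism h : S' → S, the image of h lies in S₀ if and only if the base change X ×_S S'
→ Y ×_S S' of f is an isomorphism. (The published statement also supposes that some fibre of f is an
isomorphism; that hypothesis only serves to make S₀ nonempty and is not needed.) -/
theorem result
    {S : Scheme.{u}} [IsLocallyNoetherian S] (X Y : Over S) [IsProper X.hom] [IsProper Y.hom]
    [Flat X.hom] (f : X ⟶ Y) :
    ∃ S₀ : S.Opens, ∀ (S' : Scheme.{u}) [IsLocallyNoetherian S'] (h : S' ⟶ S),
      Set.range h ⊆ (S₀ : Set S) ↔ IsIso ((Over.pullback h).map f).left := by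
  haveI : LocallyOfFinitePresentation Y.hom := inferInstance
  haveI : IsProper (f.left ≫ Y.hom) := by rw [Over.w f]; infer_instance
  haveI : Flat (f.left ≫ Y.hom) := by rw [Over.w f]; infer_instance
  haveI : IsProper f.left := IsProper.of_comp f.left Y.hom
  obtain ⟨S₀, -, h₀⟩ := Groth.Agent.MorIsoLocus.exists_isoLocus (f := f.left) (h := Y.hom)
  refine ⟨S₀, fun S' _ h => ?_⟩
  rw [← h₀ h]
  have sq : IsPullback (pullback.fst X.hom h) ((Over.pullback h).map f).left f.left (pullback.fst Y.hom h) := by
    refine IsPullback.of_bot ?_ (by simp [Over.pullback]) (IsPullback.of_hasPullback Y.hom h)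
    have h2 : ((Over.pullback h).map f).left ≫ pullback.snd Y.hom h = pullback.snd X.hom h :=
      Over.w ((Over.pullback h).map f)
    rw [h2, Over.w f]
    exact IsPullback.of_hasPullback X.hom h
  exact ⟨fun hi => Groth.Agent.MorLib.Desc.of_two (MorphismProperty.isomorphisms Scheme)
      (IsPullback.of_hasPullback _ _) sq hi,
    fun hi => Groth.Agent.MorLib.Desc.of_two (MorphismProperty.isomorphisms Scheme)
      sq (IsPullback.of_hasPullback _ _) hi⟩

end Groth.Agent.S17076
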