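import Groth.Statements.S17080
-- import your own Groth.Agent.* helpers here

set_option autoImplicit false
set_option linter.style.haveILetI false
set_option backward.isDefEq.respectTransparency false
set_option backward.isDefEq.respectTransparency.types false
universe u
open CategoryTheory CategoryTheory.Limits AlgebraicGeometry
open MorSch

namespace Groth.Agent.S17080

/-- The square of a base change of a morphism over the base. -/
theorem isPullback_map {X S : Scheme.{u}} (gX : X ⟶ S) {T M : Over S} (φ : T ⟶ M) :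
    IsPullback ((Over.pullback gX).map φ).left (pullback.fst T.hom gX) (pullback.fst M.hom gX) φ.left := by
  refine IsPullback.of_right ?_ ?_ (IsPullback.of_hasPullback M.hom gX).flip
  · have h : ((Over.pullback gX).map φ).left ≫ pullback.snd M.hom gX = pullback.snd T.hom gX :=
      Over.w ((Over.pullback gX).map φ)
    rw [h, Over.w φ]
    exact (IsPullback.of_hasPullback T.hom gX).flip
  · simp [Over.pullback]

/-- The family classified by a morphism, through the universal one. -/
theorem homEquiv_left {X Y S : Scheme.{u}} {gX : X ⟶ S} {gY : Y ⟶ S} {M : Over S}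
    (e : (Flatn.morS gX gY).RepresentableBy M) {T : Over S} (g : T ⟶ M) :
    (show (Over.map gX).obj ((Over.pullback gX).obj T) ⟶ Over.mk gY from e.homEquiv g).left =
      ((Over.pullback gX).map g).left ≫
        (show (Over.map gX).obj ((Over.pullback gX).obj M) ⟶ Over.mk gY from e.homEquiv (𝟙 M)).left := by
  have h := e.homEquiv_comp g (𝟙 M)
  rw [Category.comp_id] at h
  rw [h]
  rfl

/-- Let gX : X → S be proper and flat, gY : Y → S separated and j : U → Y an open immersion, and suppose
the functor Mor_S(X, Y) — S-schemes T ↦ S-morphisms T ×_S X → Y — is represented by an S-scheme M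
via e. Then there are an open subset M₀ of M and a representation e₀ of Mor_S(X, U) by the open
subscheme M₀ (viewed over S through M) which is compatible with e: for every S-morphism φ : T → M₀,
the S-morphism T ×_S X → Y classified by φ followed by the inclusion M₀ → M is the S-morphism T ×_S
X → U classified by φ, followed by j. In particular the morphism Mor_S(X, U) → Mor_S(X, Y) induced
by j is an open immersion. (Published for X projective and flat and Y quasi-projective over a
locally Noetherian S, which is how M is known to exist there; representability is taken as a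
hypothesis here.) -/
theorem result
    {X Y U S : Scheme.{u}} (gX : X ⟶ S) [IsProper gX] [Flat gX] (gY : Y ⟶ S) [IsSeparated gY]
    (j : U ⟶ Y) [IsOpenImmersion j] (M : Over S) (e : (Flatn.morS gX gY).RepresentableBy M) :
    ∃ (M₀ : M.left.Opens)
      (e₀ : (Flatn.morS gX (j ≫ gY)).RepresentableBy (Over.mk (M₀.ι ≫ M.hom))),
      ∀ (T : Over S) (φ : T ⟶ Over.mk (M₀.ι ≫ M.hom)),
        (e.homEquiv (φ ≫ Over.homMk M₀.ι rfl) :
            (Over.map gX).obj ((Over.pullback gX).obj T) ⟶ Over.mk gY) =
          (e₀.homEquiv φ : (Over.map gX).obj ((Over.pullback gX).obj T) ⟶ Over.mk (j ≫ gY)) ≫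
            (Over.homMk j rfl : Over.mk (j ≫ gY) ⟶ Over.mk gY) := by
  let a : pullback M.hom gX ⟶ Y :=
    (show (Over.map gX).obj ((Over.pullback gX).obj M) ⟶ Over.mk gY from e.homEquiv (𝟙 M)).left
  let M₀ : M.left.Opens := ⟨(pullback.fst M.hom gX '' (a ⁻¹' (Set.range j)ᶜ))ᶜ,
    ((pullback.fst M.hom gX).isClosedMap _
      ((j.isOpenEmbedding.isOpen_range.isClosed_compl).preimage a.continuous)).isOpen_compl⟩
  let M' : Over S := Over.mk (M₀.ι ≫ M.hom)
  let ι' : M' ⟶ M := Over.homMk M₀.ι rfl
  let J : Over.mk (j ≫ gY) ⟶ Over.mk gY := Over.homMk j rfl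
  have hto : ∀ {T : Over S} (φ : T ⟶ M'), Set.range
      (show (Over.map gX).obj ((Over.pullback gX).obj T) ⟶ Over.mk gY from e.homEquiv (φ ≫ ι')).left ⊆
        Set.range j := by
    intro T φ
    rw [homEquiv_left]
    rintro _ ⟨w, rfl⟩
    by_contra hn
    have hmem : (φ.left (pullback.fst T.hom gX w) : M₀.toScheme).1 ∉
        pullback.fst M.hom gX '' (a ⁻¹' (Set.range j)ᶜ) := (φ.left (pullback.fst T.hom gX w) : M₀.toScheme).2
    refine hmem ⟨((Over.pullback gX).map (φ ≫ ι')).left w, hn, ?_⟩
    exact (congrArg (fun k => k w) (isPullback_map gX (φ ≫ ι')).w :)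
  have hfrom : ∀ {T : Over S} (g : T ⟶ M), Set.range
      (show (Over.map gX).obj ((Over.pullback gX).obj T) ⟶ Over.mk gY from e.homEquiv g).left ⊆
        Set.range j → Set.range g.left ⊆ Set.range M₀.ι := by
    intro T g hg
    rw [Scheme.Opens.range_ι]
    rintro _ ⟨t, rfl⟩ ⟨z, hz, hzt⟩
    obtain ⟨w, hw, -⟩ := Scheme.exists_preimage_of_isPullback (isPullback_map gX g) z t hzt
    refine hz ?_
    have := hg ⟨w, rfl⟩
    rw [homEquiv_left] at this
    exact (congrArg (fun q => a q ∈ Set.range j) hw).mp this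
  let fwd : ∀ {T : Over S}, (T ⟶ M') → ((Over.map gX).obj ((Over.pullback gX).obj T) ⟶ Over.mk (j ≫ gY)) :=
    fun {T} φ => Over.homMk (IsOpenImmersion.lift j _ (hto φ)) (by
      show IsOpenImmersion.lift j _ (hto φ) ≫ j ≫ gY = _
      rw [IsOpenImmersion.lift_fac_assoc]
      exact Over.w (show (Over.map gX).obj ((Over.pullback gX).obj T) ⟶ Over.mk gY from e.homEquiv (φ ≫ ι')))
  have hfwd : ∀ {T : Over S} (φ : T ⟶ M'), fwd φ ≫ J =
      (show (Over.map gX).obj ((Over.pullback gX).obj T) ⟶ Over.mk gY from e.homEquiv (φ ≫ ι')) :=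
    fun φ => Over.OverMorphism.ext (IsOpenImmersion.lift_fac _ _ _)
  have hinj : ∀ {T : Over S} {φ₁ φ₂ : T ⟶ M'}, φ₁ ≫ ι' = φ₂ ≫ ι' → φ₁ = φ₂ := fun {T φ₁ φ₂} h =>
    Over.OverMorphism.ext ((cancel_mono M₀.ι).1 (congrArg CommaMorphism.left h))
  have hJ : ∀ {T : Over S} (b₁ b₂ : T ⟶ Over.mk (j ≫ gY)), b₁ ≫ J = b₂ ≫ J → b₁ = b₂ := fun {T} b₁ b₂ h =>
    Over.OverMorphism.ext ((cancel_mono j).1 (congrArg CommaMorphism.left h))
  have hbij : ∀ T : Over S, Function.Bijective (fwd (T := T)) := by
    refine fun T => ⟨fun φ₁ φ₂ h => hinj (e.homEquiv.injective ?_), fun b => ?_⟩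
    · exact (hfwd φ₁).symm.trans ((congrArg (· ≫ J) h).trans (hfwd φ₂))
    · let g : T ⟶ M := e.homEquiv.symm (b ≫ J)
      have hg : Set.range g.left ⊆ Set.range M₀.ι := by
        refine hfrom g ?_
        rw [show (show (Over.map gX).obj ((Over.pullback gX).obj T) ⟶ Over.mk gY from e.homEquiv g) = b ≫ J
          from e.homEquiv.apply_symm_apply _]
        rintro _ ⟨w, rfl⟩
        exact ⟨b.left w, rfl⟩
      refine ⟨Over.homMk (IsOpenImmersion.lift M₀.ι g.left hg) (by
        show IsOpenImmersion.lift M₀.ι g.left hg ≫ M₀.ι ≫ M.hom = T.hom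
        rw [IsOpenImmersion.lift_fac_assoc, Over.w g]), hJ _ _ ?_⟩
      rw [hfwd]
      refine Eq.trans (congrArg e.homEquiv ?_) (e.homEquiv.apply_symm_apply _)
      exact Over.OverMorphism.ext (IsOpenImmersion.lift_fac _ _ _)
  refine ⟨M₀, { homEquiv := fun {T} => Equiv.ofBijective fwd (hbij T), homEquiv_comp := ?_ }, fun T φ => ?_⟩
  · intro T T' f φ
    refine hJ _ _ ?_
    refine (hfwd _).trans ?_
    rw [Category.assoc]
    refine (e.homEquiv_comp f (φ ≫ ι')).trans ?_
    refine Eq.trans ?_ (Category.assoc _ _ _).symm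
    exact congrArg (fun k => (Over.map gX).map ((Over.pullback gX).map f) ≫ k) (hfwd φ).symm
  · exact (hfwd φ).symm

end Groth.Agent.S17080
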