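import Groth.Statements.S17081
-- import your own Groth.Agent.* helpers here

set_option autoImplicit false
set_option linter.style.haveILetI false
set_option backward.isDefEq.respectTransparency false
set_option backward.isDefEq.respectTransparency.types false
universe u
open CategoryTheory CategoryTheory.Limits AlgebraicGeometry
open MorSch

namespace Groth.Agent.S17081

variable {X S S' : Scheme.{u}} (f : X ⟶ S) (h : S' ⟶ S)

/-- The two ways of forming the base change agree. -/
noncomputable abbrev cIso (T : Over S') : PicF.XT (pullback.snd f h) T ≅ PicF.XT f (Over.mk (T.hom ≫ h)) :=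
  pullbackLeftPullbackSndIso f h T.hom

theorem hilbPull_eq {X S : Scheme.{u}} (f : X ⟶ S) {T T' : Over S} (g : T' ⟶ T) (I : (PicF.XT f T).IdealSheafData) :
    FGA.hilbPull f g I = I.comap (PicF.XTmap f g) := by
  show (pullback.snd I.subschemeι (PicF.XTmap f g)).ker = (pullback.fst (PicF.XTmap f g) I.subschemeι).ker
  rw [← pullbackSymmetry_hom_comp_fst I.subschemeι (PicF.XTmap f g), Scheme.Hom.ker_comp_of_isIso]

/-- A family over a scheme over the new base is a family over it viewed over the old base. -/
theorem mem_old {T : Over S'} (Y : FGA.HilbSet (pullback.snd f h) T) :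
    IsProper ((Y.1.comap (cIso f h T).inv).subschemeι ≫ PicF.XTproj f (Over.mk (T.hom ≫ h))) ∧
      Flat ((Y.1.comap (cIso f h T).inv).subschemeι ≫ PicF.XTproj f (Over.mk (T.hom ≫ h))) := by
  haveI := Y.2.1
  haveI := Y.2.2
  have e : (Y.1.comap (cIso f h T).inv).subschemeι ≫ PicF.XTproj f (Over.mk (T.hom ≫ h)) =
      ((Y.1.comapIso (cIso f h T).inv).hom ≫ pullback.snd _ _) ≫
        Y.1.subschemeι ≫ PicF.XTproj (pullback.snd f h) T := by
    have hc : PicF.XTproj f (Over.mk (T.hom ≫ h)) =
        (cIso f h T).inv ≫ PicF.XTproj (pullback.snd f h) T :=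
      (pullbackLeftPullbackSndIso_inv_snd_snd f h T.hom).symm
    rw [← Y.1.comapIso_hom_fst (cIso f h T).inv, hc, Category.assoc, Category.assoc,
      pullback.condition_assoc]
  rw [e]
  exact ⟨inferInstance, inferInstance⟩

/-- Let S and S' be Noetherian schemes, h : S' → S and f : X → S morphisms, and (H, Z) a pair
representing the Hilbert functor of X over S on locally Noetherian S-schemes (H locally Noetherian
over S; Z ⊆ X ×_S H closed, proper and flat over H; every closed subscheme of X ×_S T proper and
flat over a locally Noetherian S-scheme T is the pullback of Z along a unique S-morphism T → H),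
with H locally of finite type over S. Write X' = X ×_S S' → S' and H' = H ×_S S' → S', and let Z' ⊆
X' ×_{S'} H' be the closed subscheme pulled back from Z along the morphism X' ×_{S'} H' → X ×_S H
induced by the projections X' → X and H' → H. Then (H', Z') represents the Hilbert functor of X'
over S'. (Published for X flat and projective over S, which is how (H, Z) is known to exist there;
representability is taken as a hypothesis here; the hypothesis that H is locally of finite type over
S is added here (it holds for the Hilbert scheme of a flat projective scheme) so that H ×_S S' is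
locally Noetherian.) -/
theorem result
    {X S S' : Scheme.{u}} [IsNoetherian S] [IsNoetherian S'] (f : X ⟶ S) (h : S' ⟶ S)
    (H : Over S) (Z : FGA.HilbSet f H) (hH : FGA.HilbRepresentedBy f H Z)
    [LocallyOfFiniteType H.hom]
    (Z' : FGA.HilbSet (pullback.snd f h) (Over.mk (pullback.snd H.hom h)))
    (hZ' : Z'.1 = Z.1.comap (pullback.map (pullback.snd f h) (pullback.snd H.hom h) f H.hom
      (pullback.fst f h) (pullback.fst H.hom h) h pullback.condition.symm pullback.condition.symm)) :
    FGA.HilbRepresentedBy (pullback.snd f h) (Over.mk (pullback.snd H.hom h)) Z' := by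
  refine ⟨LocallyOfFiniteType.isLocallyNoetherian (pullback.snd H.hom h), fun T _ Y => ?_⟩
  let H' : Over S' := Over.mk (pullback.snd H.hom h)
  let bar : (T ⟶ H') → (Over.mk (T.hom ≫ h) ⟶ H) := fun g =>
    Over.homMk (g.left ≫ pullback.fst H.hom h) (by
      show (g.left ≫ pullback.fst H.hom h) ≫ H.hom = T.hom ≫ h
      rw [Category.assoc, pullback.condition, ← Category.assoc]
      exact congrArg (· ≫ h) (Over.w g))
  have sq : ∀ g : T ⟶ H', PicF.XTmap (pullback.snd f h) g ≫
      pullback.map (pullback.snd f h) (pullback.snd H.hom h) f H.hom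
        (pullback.fst f h) (pullback.fst H.hom h) h pullback.condition.symm pullback.condition.symm =
      (cIso f h T).hom ≫ PicF.XTmap f (bar g) := by
    intro g
    refine pullback.hom_ext ?_ ?_
    · simp [PicF.XTmap, bar, H', cIso]
    · simp [PicF.XTmap, bar, H', cIso]
  have key : ∀ g : T ⟶ H', FGA.hilbPull (pullback.snd f h) g Z'.1 =
      (FGA.hilbPull f (bar g) Z.1).comap (cIso f h T).hom := by
    intro g
    rw [hilbPull_eq, hilbPull_eq, hZ']
    refine (Scheme.IdealSheafData.comap_comp _ _ _).symm.trans ?_
    rw [sq]
    exact Scheme.IdealSheafData.comap_comp _ _ _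
  haveI : IsLocallyNoetherian (Over.mk (T.hom ≫ h)).left := inferInstanceAs (IsLocallyNoetherian T.left)
  obtain ⟨g', hg', huniq⟩ := hH.2 (Over.mk (T.hom ≫ h)) ⟨_, mem_old f h Y⟩
  have w : g'.left ≫ H.hom = T.hom ≫ h := Over.w g'
  refine ⟨Over.homMk (pullback.lift g'.left T.hom w) (pullback.lift_snd _ _ _), ?_, fun g hg => ?_⟩
  · refine (key _).trans ?_
    rw [show bar (Over.homMk (pullback.lift g'.left T.hom w) (pullback.lift_snd _ _ _) : T ⟶ H') = g' from
      Over.OverMorphism.ext (pullback.lift_fst _ _ _), hg', ← Scheme.IdealSheafData.comap_comp,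
      Iso.hom_inv_id, Scheme.IdealSheafData.comap_id]
  · have hg2 := (key g).symm.trans hg
    have hbar : bar g = g' := huniq _ (by
      show FGA.hilbPull f (bar g) Z.1 = Y.1.comap (cIso f h T).inv
      rw [← hg2, ← Scheme.IdealSheafData.comap_comp, Iso.inv_hom_id, Scheme.IdealSheafData.comap_id])
    refine Over.OverMorphism.ext (pullback.hom_ext ?_ ?_)
    · exact (congrArg CommaMorphism.left hbar).trans (pullback.lift_fst _ _ _).symm
    · exact (Over.w g).trans (pullback.lift_snd _ _ _).symm

end Groth.Agent.S17081
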