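import Groth.Statements.S17082
-- import your own Groth.Agent.* helpers here

set_option autoImplicit false
set_option linter.style.haveILetI false
set_option backward.isDefEq.respectTransparency false
set_option backward.isDefEq.respectTransparency.types false
universe u
open CategoryTheory CategoryTheory.Limits AlgebraicGeometry
open MorSch

namespace Groth.Agent.S17082

variable {X U S : Scheme.{u}} (f : X ⟶ S) (j : U ⟶ X)

/-- The map of base changes induced by the inclusion. -/
noncomputable abbrev mT (T : Over S) : PicF.XT (j ≫ f) T ⟶ PicF.XT f T :=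
  pullback.map (j ≫ f) T.hom f T.hom j (𝟙 _) (𝟙 S) (Category.comp_id _) (by simp)

theorem mT_proj (T : Over S) : mT f j T ≫ PicF.XTproj f T = PicF.XTproj (j ≫ f) T := by
  simp [mT]

theorem XTmap_mT {T T' : Over S} (g : T' ⟶ T) :
    PicF.XTmap (j ≫ f) g ≫ mT f j T = mT f j T' ≫ PicF.XTmap f g := by
  refine pullback.hom_ext ?_ ?_ <;> simp [PicF.XTmap, mT]

theorem range_mT [IsOpenImmersion j] (T : Over S) :
    Set.range (mT f j T) = pullback.fst f T.hom ⁻¹' Set.range j := by
  rw [mT, Scheme.Pullback.range_map]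
  simp

theorem hilbPull_eq {T T' : Over S} (g : T' ⟶ T) (I : (PicF.XT f T).IdealSheafData) :
    FGA.hilbPull f g I = I.comap (PicF.XTmap f g) := by
  show (pullback.snd I.subschemeι (PicF.XTmap f g)).ker = (pullback.fst (PicF.XTmap f g) I.subschemeι).ker
  rw [← pullbackSymmetry_hom_comp_fst I.subschemeι (PicF.XTmap f g), Scheme.Hom.ker_comp_of_isIso]

/-- Families pull back to families. -/
theorem mem_pull {T T' : Over S} (g : T' ⟶ T) (W : FGA.HilbSet f T) :
    IsProper ((W.1.comap (PicF.XTmap f g)).subschemeι ≫ PicF.XTproj f T') ∧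
      Flat ((W.1.comap (PicF.XTmap f g)).subschemeι ≫ PicF.XTproj f T') := by
  have sq : IsPullback (PicF.XTmap f g) (PicF.XTproj f T') (PicF.XTproj f T) g.left := by
    refine IsPullback.of_right ?_ ?_ (IsPullback.of_hasPullback f T.hom)
    · have h : PicF.XTmap f g ≫ pullback.fst f T.hom = pullback.fst f T'.hom := by simp [PicF.XTmap]
      rw [h, Over.w g]
      exact IsPullback.of_hasPullback f T'.hom
    · simp [PicF.XTmap]
  have sq2 := (IsPullback.of_hasPullback (PicF.XTmap f g) W.1.subschemeι).flip.paste_vert sq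
  rw [← W.1.comapIso_hom_fst (PicF.XTmap f g), Category.assoc]
  haveI := W.2.1
  haveI := W.2.2
  haveI : IsProper (pullback.fst (PicF.XTmap f g) W.1.subschemeι ≫ PicF.XTproj f T') :=
    MorphismProperty.of_isPullback (P := @IsProper) sq2 inferInstance
  haveI : Flat (pullback.fst (PicF.XTmap f g) W.1.subschemeι ≫ PicF.XTproj f T') :=
    MorphismProperty.of_isPullback (P := @Flat) sq2 inferInstance
  exact ⟨inferInstance, inferInstance⟩

/-- A family inside the open subscheme restricts to a family with the same image. -/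
theorem restrict [IsOpenImmersion j] {T : Over S} (W : FGA.HilbSet f T)
    (hW : (W.1.support : Set (PicF.XT f T)) ⊆ Set.range (mT f j T)) :
    (IsProper ((W.1.comap (mT f j T)).subschemeι ≫ PicF.XTproj (j ≫ f) T) ∧
      Flat ((W.1.comap (mT f j T)).subschemeι ≫ PicF.XTproj (j ≫ f) T)) ∧
    ((W.1.comap (mT f j T)).subschemeι ≫ mT f j T).ker = W.1 := by
  haveI : IsIso (pullback.snd (mT f j T) W.1.subschemeι) := by
    refine isIso_of_isOpenImmersion_of_opensRange_eq_top _ (TopologicalSpace.Opens.ext ?_)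
    refine (Scheme.Pullback.range_snd _ _).trans (Set.eq_univ_of_forall fun x => hW ?_)
    rw [← Scheme.IdealSheafData.range_subschemeι]
    exact ⟨x, rfl⟩
  have e : (W.1.comap (mT f j T)).subschemeι ≫ mT f j T =
      ((W.1.comapIso (mT f j T)).hom ≫ pullback.snd _ _) ≫ W.1.subschemeι := by
    rw [← W.1.comapIso_hom_fst (mT f j T), Category.assoc, Category.assoc, pullback.condition]
  refine ⟨?_, by rw [e, Scheme.Hom.ker_comp_of_isIso, Scheme.IdealSheafData.ker_subschemeι]⟩
  rw [← mT_proj, ← Category.assoc, e, Category.assoc]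
  haveI := W.2.1
  haveI := W.2.2
  exact ⟨inferInstance, inferInstance⟩

/-- A family of the open subscheme comes from a family of the whole. -/
theorem extend [IsSeparated f] [IsOpenImmersion j] {T : Over S} (Y : FGA.HilbSet (j ≫ f) T) :
    ∃ W : FGA.HilbSet f T, (W.1.support : Set (PicF.XT f T)) ⊆ Set.range (mT f j T) ∧
      W.1.comap (mT f j T) = Y.1 := by
  let i := Y.1.subschemeι ≫ mT f j T
  have hi : i ≫ PicF.XTproj f T = Y.1.subschemeι ≫ PicF.XTproj (j ≫ f) T := by
    rw [Category.assoc, mT_proj]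
  haveI : IsProper (i ≫ PicF.XTproj f T) := hi ▸ Y.2.1
  haveI : Flat (i ≫ PicF.XTproj f T) := hi ▸ Y.2.2
  haveI : IsProper i := IsProper.of_comp i (PicF.XTproj f T)
  haveI : IsClosedImmersion i := IsClosedImmersion.of_isPreimmersion i i.isClosedMap.isClosed_range
  have e : i.toImage ≫ i.ker.subschemeι = i := i.toImage_imageι
  have hp : IsProper (i.ker.subschemeι ≫ PicF.XTproj f T) ∧ Flat (i.ker.subschemeι ≫ PicF.XTproj f T) := by
    have h : inv i.toImage ≫ i ≫ PicF.XTproj f T = i.ker.subschemeι ≫ PicF.XTproj f T := by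
      rw [IsIso.inv_comp_eq, ← Category.assoc, e]
    rw [← h]
    exact ⟨inferInstance, inferInstance⟩
  refine ⟨⟨i.ker, hp⟩, ?_, ?_⟩
  · show (i.ker.support : Set (PicF.XT f T)) ⊆ _
    rw [Scheme.Hom.support_ker, i.isClosedEmbedding.isClosed_range.closure_eq]
    rintro _ ⟨y, rfl⟩
    exact ⟨Y.1.subschemeι y, rfl⟩
  · show i.ker.comap (mT f j T) = Y.1
    rw [← Scheme.IdealSheafData.ker_fst_of_isClosedImmersion]
    have sq : IsPullback Y.1.subschemeι (𝟙 _) (mT f j T) i := by
      refine IsPullback.of_iso_pullback ⟨by simp [i]⟩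
        ⟨pullback.lift Y.1.subschemeι (𝟙 _) (by simp [i]), pullback.snd _ _, by simp, ?_⟩ (by simp) (by simp)
      refine pullback.hom_ext ?_ (by simp)
      rw [← cancel_mono (mT f j T)]
      simp [i, pullback.condition]
    rw [← sq.isoPullback_inv_fst, Scheme.Hom.ker_comp_of_isIso, Scheme.IdealSheafData.ker_subschemeι]

/-- Let f : X → S be a separated morphism, j : U → X an open immersion, and (H, Z) a pair representing
the Hilbert functor of X over S on locally Noetherian S-schemes (H locally Noetherian over S; Z ⊆ X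
×_S H closed, proper and flat over H; every closed subscheme of X ×_S T proper and flat over a
locally Noetherian S-scheme T is the pullback of Z along a unique S-morphism T → H). Then there are
an open subset H₀ of H and a closed subscheme Z₀ ⊆ U ×_S H₀, proper and flat over H₀, such that Z₀
is the pullback of Z along the morphism U ×_S H₀ → X ×_S H induced by j and the inclusion of H₀, and
(H₀, Z₀) represents the Hilbert functor of U over S. So the Hilbert scheme of U over S exists and is
an open subscheme of that of X. (Published for X projective and flat over a Noetherian S in the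
representable case; this row assumes only X separated over S and takes the Hilbert scheme of X as
given.) -/
theorem result
    {X U S : Scheme.{u}} (f : X ⟶ S) [IsSeparated f] (j : U ⟶ X) [IsOpenImmersion j]
    (H : Over S) (Z : FGA.HilbSet f H) (hH : FGA.HilbRepresentedBy f H Z) :
    ∃ (H₀ : H.left.Opens) (Z₀ : FGA.HilbSet (j ≫ f) (Over.mk (H₀.ι ≫ H.hom))),
      Z₀.1 = Z.1.comap (pullback.map (j ≫ f) (H₀.ι ≫ H.hom) f H.hom j H₀.ι (𝟙 S)
        (Category.comp_id _) (Category.comp_id _)) ∧
      FGA.HilbRepresentedBy (j ≫ f) (Over.mk (H₀.ι ≫ H.hom)) Z₀ := by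
  haveI := Z.2.1
  let bad : Set H.left := (Z.1.subschemeι ≫ PicF.XTproj f H) ''
    (Z.1.subschemeι ⁻¹' (Set.range (mT f j H))ᶜ)
  have hbad : IsClosed bad := (Z.1.subschemeι ≫ PicF.XTproj f H).isClosedMap _
    ((mT f j H).isOpenEmbedding.isOpen_range.isClosed_compl.preimage Z.1.subschemeι.continuous)
  let H₀ : H.left.Opens := ⟨badᶜ, hbad.isOpen_compl⟩
  have crit : ∀ {T : Over S} (g : T ⟶ H),
      ((Z.1.comap (PicF.XTmap f g)).support : Set (PicF.XT f T)) ⊆ Set.range (mT f j T) ↔
        Set.range g.left ⊆ Set.range H₀.ι := by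
    intro T g
    have hsnd : ∀ x, (PicF.XTproj f H) (PicF.XTmap f g x) = g.left (PicF.XTproj f T x) := fun x => by
      rw [← Scheme.Hom.comp_apply, ← Scheme.Hom.comp_apply,
        show PicF.XTmap f g ≫ PicF.XTproj f H = PicF.XTproj f T ≫ g.left by simp [PicF.XTmap]]
    have hfst : ∀ x, pullback.fst f H.hom (PicF.XTmap f g x) = pullback.fst f T.hom x := fun x => by
      rw [← Scheme.Hom.comp_apply,
        show PicF.XTmap f g ≫ pullback.fst f H.hom = pullback.fst f T.hom by simp [PicF.XTmap]]
    rw [Scheme.Opens.range_ι, Scheme.IdealSheafData.support_comap]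
    constructor
    · rintro h _ ⟨t, rfl⟩ ⟨z, hz, hzt⟩
      refine hz ?_
      have sq : IsPullback (PicF.XTmap f g) (PicF.XTproj f T) (PicF.XTproj f H) g.left := by
        refine IsPullback.of_right ?_ ?_ (IsPullback.of_hasPullback f H.hom)
        · rw [show PicF.XTmap f g ≫ pullback.fst f H.hom = pullback.fst f T.hom by simp [PicF.XTmap], Over.w g]
          exact IsPullback.of_hasPullback f T.hom
        · simp [PicF.XTmap]
      obtain ⟨x, hx, -⟩ := Scheme.exists_preimage_of_isPullback sq (Z.1.subschemeι z) t hzt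
      have hmem : PicF.XTmap f g x ∈ (Z.1.support : Set (PicF.XT f H)) := by
        rw [← Scheme.IdealSheafData.range_subschemeι]
        exact ⟨z, hx.symm⟩
      have h2 := h hmem
      rw [range_mT, Set.mem_preimage, ← hfst x] at h2
      rw [range_mT, Set.mem_preimage]
      exact (congrArg (fun q => pullback.fst f H.hom q ∈ Set.range j) hx).mp h2
    · intro h x hx
      have hx' : PicF.XTmap f g x ∈ (Z.1.support : Set (PicF.XT f H)) := hx
      rw [← Scheme.IdealSheafData.range_subschemeι] at hx'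
      obtain ⟨z, hz⟩ := hx'
      rw [range_mT, Set.mem_preimage, ← hfst x]
      by_contra hn
      refine (h ⟨PicF.XTproj f T x, rfl⟩ : g.left (PicF.XTproj f T x) ∈ badᶜ) ⟨z, fun h3 => hn ?_, ?_⟩
      · rw [range_mT, Set.mem_preimage] at h3
        exact (congrArg (fun q => pullback.fst f H.hom q ∈ Set.range j) hz).mp h3
      · exact (congrArg (PicF.XTproj f H) hz).trans (hsnd x)
  let H' : Over S := Over.mk (H₀.ι ≫ H.hom)
  let ι' : H' ⟶ H := Over.homMk H₀.ι rfl
  have hm : pullback.map (j ≫ f) (H₀.ι ≫ H.hom) f H.hom j H₀.ι (𝟙 S)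
      (Category.comp_id _) (Category.comp_id _) = mT f j H' ≫ PicF.XTmap f ι' := by
    refine pullback.hom_ext ?_ ?_ <;> simp [mT, PicF.XTmap, H', ι']
  have hr := restrict f j ⟨_, mem_pull f ι' Z⟩ ((crit ι').2 (subset_refl _))
  refine ⟨H₀, ⟨_, hr.1⟩, by rw [hm]; exact (Scheme.IdealSheafData.comap_comp _ _ _).symm, ?_, ?_⟩
  · haveI := hH.1
    exact isLocallyNoetherian_of_isOpenImmersion H₀.ι
  intro T _ Y
  obtain ⟨W, hW, hWY⟩ := extend f j Y
  obtain ⟨g, hg, huniq⟩ := hH.2 T W
  rw [hilbPull_eq] at hg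
  have hrange : Set.range g.left ⊆ Set.range H₀.ι := (crit g).1 (by rw [hg]; exact hW)
  have calc1 : ∀ g₀ : T ⟶ H', FGA.hilbPull (j ≫ f) g₀ ((Z.1.comap (PicF.XTmap f ι')).comap (mT f j H')) =
      (Z.1.comap (PicF.XTmap f (g₀ ≫ ι'))).comap (mT f j T) := by
    intro g₀
    rw [hilbPull_eq, ← Scheme.IdealSheafData.comap_comp, XTmap_mT, Scheme.IdealSheafData.comap_comp,
      ← Scheme.IdealSheafData.comap_comp Z.1 (PicF.XTmap f g₀) (PicF.XTmap f ι')]
    congr 2
    refine pullback.hom_ext ?_ ?_ <;> simp [PicF.XTmap]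
  refine ⟨Over.homMk (IsOpenImmersion.lift H₀.ι g.left hrange) (by
    show IsOpenImmersion.lift H₀.ι g.left hrange ≫ H₀.ι ≫ H.hom = T.hom
    rw [IsOpenImmersion.lift_fac_assoc, Over.w g]), ?_, ?_⟩
  · refine (calc1 _).trans ?_
    rw [show (Over.homMk (IsOpenImmersion.lift H₀.ι g.left hrange) _ : T ⟶ H') ≫ ι' = g from
      Over.OverMorphism.ext (IsOpenImmersion.lift_fac _ _ _), hg, hWY]
  · intro g₀ hg₀
    have hg₀' := (calc1 g₀).symm.trans hg₀
    have hs : ((Z.1.comap (PicF.XTmap f (g₀ ≫ ι'))).support : Set (PicF.XT f T)) ⊆ Set.range (mT f j T) := by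
      refine (crit _).2 ?_
      rintro _ ⟨t, rfl⟩
      exact ⟨g₀.left t, rfl⟩
    have h1 := (restrict f j ⟨_, mem_pull f (g₀ ≫ ι') Z⟩ hs).2
    have h2 := (restrict f j W hW).2
    have h3 : g₀ ≫ ι' = g := huniq _ (by
      show FGA.hilbPull f (g₀ ≫ ι') Z.1 = W.1
      rw [hilbPull_eq]
      refine h1.symm.trans (Eq.trans ?_ h2)
      exact congrArg (fun I : (PicF.XT (j ≫ f) T).IdealSheafData => (I.subschemeι ≫ mT f j T).ker) (hg₀'.trans hWY.symm))
    refine Over.OverMorphism.ext ((cancel_mono H₀.ι).1 ?_)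
    refine Eq.trans ?_ (IsOpenImmersion.lift_fac _ _ _).symm
    exact congrArg CommaMorphism.left h3

end Groth.Agent.S17082
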