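import Groth.Statements.S17086
import Groth.Agent.MeroX.EffCartier
import Groth.Agent.Lib.CurveBundle
import Groth.Agent.CurveEmbed.Conic
import Groth.Agent.CurveLuroth.Line

set_option autoImplicit false
universe u
open CategoryTheory CategoryTheory.Limits AlgebraicGeometry
open RatCurve

namespace Groth.Agent.S17086

/-- An ideal sheaf missing the generic point is Cartier when all local rings are principal. -/
theorem isEffCartier_of_pid {X : Scheme.{u}} [IsIntegral X] [IsLocallyNoetherian X]
    (hpid : ∀ x : X, IsPrincipalIdealRing (X.presheaf.stalk x)) (D : X.IdealSheafData)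
    (hgen : genericPoint X ∉ D.support) : BlowUp.IsEffCartierIdeal D := by
  refine MeroX.isEffCartier_of_stalk D fun x _ U hx => ?_
  haveI := hpid x
  obtain ⟨g, hg⟩ := (IsPrincipalIdealRing.principal
    ((D.ideal U).map (X.presheaf.germ U x hx).hom)).principal
  refine ⟨g, mem_nonZeroDivisors_of_ne_zero fun h0 => ?_, hg⟩
  subst h0
  have hU : genericPoint X ∈ (U : X.Opens) :=
    ((genericPoint_spec X).mem_open_set_iff U.1.isOpen).2 ⟨x, trivial, hx⟩
  refine hgen ((Scheme.IdealSheafData.mem_support_iff_of_mem (U := U) hU).2 ?_)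
  simp only [Scheme.mem_zeroLocus_iff, SetLike.mem_coe]
  intro a ha hb
  have h1 : X.presheaf.germ U x hx a = 0 := by
    have h2 : (X.presheaf.germ U x hx).hom a ∈ (D.ideal U).map (X.presheaf.germ U x hx).hom :=
      Ideal.mem_map_of_mem _ ha
    rw [hg] at h2
    simpa using h2
  have h3 : a = 0 := germ_injective_of_isIntegral X x hx (by rw [h1, map_zero])
  rw [h3, Scheme.basicOpen_zero] at hb
  exact hb

/-- Let k be an algebraically closed field, X a closed subscheme of P^n_k, Z ⊆ X a closed subscheme and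
σ : B → X a blow-up of X along Z (the inverse image ideal of Z is effective Cartier and σ is final
with this property). Then every k-morphism f : P^1_k → X whose image is not contained in Z lifts
uniquely along σ: there is exactly one morphism g : P^1_k → B with g ≫ σ = f. Equivalently, over the
open locus of morphisms meeting X ∖ Z, the morphism Mor(P^1_k, B) → Mor(P^1_k, X) induced by σ is a
bijection on k-points. -/
theorem result
    {k : Type u} [Field k] [IsAlgClosed k] {n : ℕ} (X : Scheme.{u})
    (c : X ⟶ CohB1.ProjSpace n k) [IsClosedImmersion c]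
    (Z : Scheme.{u}) (iZ : Z ⟶ X) [IsClosedImmersion iZ]
    (B : Scheme.{u}) (σ : B ⟶ X) (hσ : BlowUp.IsBlowUp σ iZ.ker)
    (f : CohB1.ProjSpace 1 k ⟶ X)
    (hf : f ≫ c ≫ CohB1.ProjSpace.toSpec n k = CohB1.ProjSpace.toSpec 1 k)
    (hfZ : ¬ Set.range f ⊆ Set.range iZ) :
    ∃! g : CohB1.ProjSpace 1 k ⟶ B, g ≫ σ = f := by
  haveI := H23.PnChart.isIntegral_projSpace 1 k
  haveI : IsProper (CohB1.ProjSpace.toSpec 1 k) := PnCoh.Chow.isProper_toSpec 1 k
  letI : (CohB1.ProjSpace 1 k).Over (Spec (CommRingCat.of k)) := ⟨CohB1.ProjSpace.toSpec 1 k⟩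
  haveI : IsProper ((CohB1.ProjSpace 1 k) ↘ Spec (CommRingCat.of k)) := PnCoh.Chow.isProper_toSpec 1 k
  haveI : Smooth ((CohB1.ProjSpace 1 k) ↘ Spec (CommRingCat.of k)) := CurveEmbed.smooth_toSpec 1 k
  haveI : IsLocallyNoetherian (CohB1.ProjSpace 1 k) :=
    LocallyOfFiniteType.isLocallyNoetherian ((CohB1.ProjSpace 1 k) ↘ Spec (CommRingCat.of k))
  have hdim : topologicalKrullDim ↥(CohB1.ProjSpace 1 k) ≤ 1 := le_of_eq (by simpa using S10829.result k 1)
  have hgen : genericPoint (CohB1.ProjSpace 1 k) ∉ (iZ.ker.comap f).support := by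
    intro hmem
    have h1 : f (genericPoint (CohB1.ProjSpace 1 k)) ∈ Set.range iZ := by
      rw [Scheme.IdealSheafData.support_comap] at hmem
      have h2 : f (genericPoint (CohB1.ProjSpace 1 k)) ∈ (iZ.ker.support : Set X) := hmem
      rwa [Scheme.Hom.support_ker, iZ.isClosedEmbedding.isClosed_range.closure_eq] at h2
    refine hfZ ?_
    rintro _ ⟨y, rfl⟩
    exact ((((genericPoint_spec (CohB1.ProjSpace 1 k)).specializes (Set.mem_univ y)).map f.continuous)).mem_closed
      iZ.isClosedEmbedding.isClosed_range h1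
  exact hσ.2 _ f (isEffCartier_of_pid (CurveBundle.isPrincipalIdealRing_stalk k hdim) _ hgen)

end Groth.Agent.S17086
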