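import Groth.Statements.S17087
import Groth.Agent.MorIsoLocus.NearFibre

set_option autoImplicit false
set_option linter.style.haveILetI false
set_option backward.isDefEq.respectTransparency false
set_option backward.isDefEq.respectTransparency.types false
universe u
open CategoryTheory CategoryTheory.Limits AlgebraicGeometry
open MorSch

namespace Groth.Agent.S17087

open Groth.Agent.PurIso

variable {X Y S : Scheme.{u}} (gX : X ⟶ S) (gY : Y ⟶ S)

/-- The projection forgetting the target. -/
noncomputable abbrev proj (T : Over S) : PicF.XT (pullback.fst gX gY ≫ gX) T ⟶ pullback T.hom gX :=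
  pullback.lift (pullback.snd _ _) (pullback.fst _ _ ≫ pullback.fst gX gY)
    (pullback.condition.symm.trans (Category.assoc _ _ _).symm)

/-- Base change of sources. -/
noncomputable abbrev srcMap {T H : Over S} (g : T ⟶ H) : pullback T.hom gX ⟶ pullback H.hom gX :=
  pullback.map T.hom gX H.hom gX g.left (𝟙 X) (𝟙 S) (by simp [Over.w g]) (by simp)

theorem isPullback_srcMap {T H : Over S} (g : T ⟶ H) :
    IsPullback (srcMap gX g) (pullback.fst T.hom gX) (pullback.fst H.hom gX) g.left := by
  refine IsPullback.of_right ?_ ?_ (IsPullback.of_hasPullback H.hom gX).flip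
  · have h : srcMap gX g ≫ pullback.snd H.hom gX = pullback.snd T.hom gX := by simp [srcMap]
    rw [h, Over.w g]
    exact (IsPullback.of_hasPullback T.hom gX).flip
  · simp [srcMap]

theorem isPullback_proj {T H : Over S} (g : T ⟶ H) :
    IsPullback (PicF.XTmap (pullback.fst gX gY ≫ gX) g) (proj gX gY T) (proj gX gY H) (srcMap gX g) := by
  refine IsPullback.of_bot ?_ ?_ (isPullback_srcMap gX g)
  · rw [show proj gX gY T ≫ pullback.fst T.hom gX = pullback.snd _ _ from pullback.lift_fst _ _ _,
      show proj gX gY H ≫ pullback.fst H.hom gX = pullback.snd _ _ from pullback.lift_fst _ _ _]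
    refine IsPullback.of_right ?_ ?_ (IsPullback.of_hasPullback (pullback.fst gX gY ≫ gX) H.hom)
    · have h : PicF.XTmap (pullback.fst gX gY ≫ gX) g ≫ pullback.fst _ H.hom = pullback.fst _ T.hom := by
        simp [PicF.XTmap]
      rw [h, Over.w g]
      exact IsPullback.of_hasPullback _ T.hom
    · simp [PicF.XTmap]
  · refine pullback.hom_ext ?_ ?_ <;> simp [PicF.XTmap, proj, srcMap]

theorem hilbPull_eq {X S : Scheme.{u}} (f : X ⟶ S) {T T' : Over S} (g : T' ⟶ T) (I : (PicF.XT f T).IdealSheafData) :
    FGA.hilbPull f g I = I.comap (PicF.XTmap f g) := by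
  show (pullback.snd I.subschemeι (PicF.XTmap f g)).ker = (pullback.fst (PicF.XTmap f g) I.subschemeι).ker
  rw [← pullbackSymmetry_hom_comp_fst I.subschemeι (PicF.XTmap f g), Scheme.Hom.ker_comp_of_isIso]

/-- A pulled back family is a graph exactly over the iso locus. -/
theorem isIso_comap_iff {T H : Over S} (g : T ⟶ H)
    (Z : (PicF.XT (pullback.fst gX gY ≫ gX) H).IdealSheafData) :
    IsIso ((FGA.hilbPull (pullback.fst gX gY ≫ gX) g Z).subschemeι ≫ proj gX gY T) ↔
      IsoOver (Z.subschemeι ≫ proj gX gY H) (pullback.fst H.hom gX) g.left := by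
  rw [hilbPull_eq, ← Z.comapIso_hom_fst (PicF.XTmap _ g), Category.assoc, isIso_comp_left_iff,
    isoOver_iff_of_isPullback (isPullback_srcMap gX g)]
  have sq := ((IsPullback.of_hasPullback (PicF.XTmap (pullback.fst gX gY ≫ gX) g) Z.subschemeι).flip).paste_vert
    (isPullback_proj gX gY g)
  exact ⟨fun hi => MorLib.Desc.of_two (MorphismProperty.isomorphisms Scheme) sq (IsPullback.of_hasPullback _ _) hi,
    fun hi => MorLib.Desc.of_two (MorphismProperty.isomorphisms Scheme) (IsPullback.of_hasPullback _ _) sq hi⟩

/-- The graph of a family of morphisms. -/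
noncomputable abbrev graph {T : Over S} (a : (Flatn.morS gX gY).obj (Opposite.op T)) :
    pullback T.hom gX ⟶ PicF.XT (pullback.fst gX gY ≫ gX) T :=
  pullback.lift (pullback.lift (pullback.snd T.hom gX) a.left (Over.w a).symm)
    (pullback.fst T.hom gX) ((pullback.lift_fst_assoc _ _ _ _).trans pullback.condition.symm)

theorem graph_proj {T : Over S} (a : (Flatn.morS gX gY).obj (Opposite.op T)) :
    graph gX gY a ≫ proj gX gY T = 𝟙 _ := by
  refine pullback.hom_ext ?_ ?_ <;> simp [graph, proj]

theorem isClosedImmersion_graph [IsSeparated gX] [IsSeparated gY] {T : Over S}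
    (a : (Flatn.morS gX gY).obj (Opposite.op T)) : IsClosedImmersion (graph gX gY a) := by
  haveI : IsSeparated (proj gX gY T ≫ pullback.fst T.hom gX) := by
    rw [show proj gX gY T ≫ pullback.fst T.hom gX = pullback.snd _ _ from pullback.lift_fst _ _ _]
    infer_instance
  haveI : IsSeparated (proj gX gY T) := IsSeparated.of_comp (proj gX gY T) (pullback.fst T.hom gX)
  haveI : IsClosedImmersion (graph gX gY a ≫ proj gX gY T) := by rw [graph_proj]; infer_instance
  exact IsClosedImmersion.of_comp _ (proj gX gY T)

theorem graph_ker_proj [IsSeparated gX] [IsSeparated gY] {T : Over S}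
    (a : (Flatn.morS gX gY).obj (Opposite.op T)) :
    IsIso ((graph gX gY a).ker.subschemeι ≫ proj gX gY T) := by
  haveI := isClosedImmersion_graph gX gY a
  have h : (graph gX gY a).toImage ≫ (graph gX gY a).ker.subschemeι ≫ proj gX gY T = 𝟙 _ := by
    rw [← Category.assoc, ← graph_proj gX gY a]
    exact congrArg (· ≫ proj gX gY T) (graph gX gY a).toImage_imageι
  haveI : IsIso ((graph gX gY a).toImage ≫ (graph gX gY a).ker.subschemeι ≫ proj gX gY T) := by
    rw [h]; infer_instance
  exact IsIso.of_isIso_comp_left (graph gX gY a).toImage _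

/-- Let S be a locally Noetherian scheme, gX : X → S proper and flat, gY : Y → S separated, and (H, Z) a
pair representing the Hilbert functor of X ×_S Y over S on locally Noetherian S-schemes (H locally
Noetherian; Z ⊆ (X ×_S Y) ×_S H closed, proper and flat over H; universal). For an S-morphism a : T
×_S X → Y write Γ_a : T ×_S X → (X ×_S Y) ×_S T for its graph, a closed immersion. Then there is an
open subset H₀ of H such that, for every locally Noetherian S-scheme T: every S-morphism a : T ×_S X
→ Y has exactly one S-morphism g : T → H with image in H₀ along which Z pulls back to the closed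
subscheme defined by Γ_a; and every S-morphism g : T → H with image in H₀ pulls Z back to the graph
of exactly one such a. Thus the functor Mor_S(X, Y) on locally Noetherian S-schemes is represented
by the open subscheme H₀ of the Hilbert scheme of X ×_S Y, the universal family being a graph.
(Published for X and Y projective over S, with X flat; the Hilbert scheme is taken as given here.
The published statement also asserts that each irreducible component of the representing scheme is
of finite type over S; that clause is not part of this row.) -/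
theorem result
    {X Y S : Scheme.{u}} [IsLocallyNoetherian S] (gX : X ⟶ S) [IsProper gX] [Flat gX]
    (gY : Y ⟶ S) [IsSeparated gY]
    (H : Over S) (Z : FGA.HilbSet (pullback.fst gX gY ≫ gX) H)
    (hH : FGA.HilbRepresentedBy (pullback.fst gX gY ≫ gX) H Z) :
    ∃ H₀ : H.left.Opens, ∀ (T : Over S) [IsLocallyNoetherian T.left],
      (∀ a : (Flatn.morS gX gY).obj (Opposite.op T),
        ∃! g : T ⟶ H, Set.range g.left ⊆ (H₀ : Set H.left) ∧
          FGA.hilbPull (pullback.fst gX gY ≫ gX) g Z.1 =
            (pullback.lift
              (pullback.lift (pullback.snd T.hom gX) a.left (Over.w a).symm)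
              (pullback.fst T.hom gX)
              ((pullback.lift_fst_assoc _ _ _ _).trans pullback.condition.symm)
              : pullback T.hom gX ⟶ PicF.XT (pullback.fst gX gY ≫ gX) T).ker) ∧
      (∀ g : T ⟶ H, Set.range g.left ⊆ (H₀ : Set H.left) →
        ∃! a : (Flatn.morS gX gY).obj (Opposite.op T),
          FGA.hilbPull (pullback.fst gX gY ≫ gX) g Z.1 =
            (pullback.lift
              (pullback.lift (pullback.snd T.hom gX) a.left (Over.w a).symm)
              (pullback.fst T.hom gX)
              ((pullback.lift_fst_assoc _ _ _ _).trans pullback.condition.symm)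
              : pullback T.hom gX ⟶ PicF.XT (pullback.fst gX gY ≫ gX) T).ker) := by
  haveI := hH.1
  haveI := Z.2.1
  haveI := Z.2.2
  let φ := Z.1.subschemeι ≫ proj gX gY H
  have hφ : φ ≫ pullback.fst H.hom gX = Z.1.subschemeι ≫ PicF.XTproj (pullback.fst gX gY ≫ gX) H := by
    rw [Category.assoc, show proj gX gY H ≫ pullback.fst H.hom gX = pullback.snd _ _ from pullback.lift_fst _ _ _]
  haveI : IsProper (φ ≫ pullback.fst H.hom gX) := hφ ▸ Z.2.1
  haveI : Flat (φ ≫ pullback.fst H.hom gX) := hφ ▸ Z.2.2
  haveI : LocallyOfFinitePresentation (pullback.fst H.hom gX) := inferInstance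
  haveI : LocallyOfFinitePresentation (φ ≫ pullback.fst H.hom gX) := inferInstance
  haveI : IsProper φ := IsProper.of_comp φ (pullback.fst H.hom gX)
  obtain ⟨H₀, -, h₀⟩ := Groth.Agent.MorIsoLocus.exists_isoLocus (f := φ) (h := pullback.fst H.hom gX)
  refine ⟨H₀, fun T _ => ⟨fun a => ?_, fun g hg => ?_⟩⟩
  · haveI := graph_ker_proj gX gY a
    have e : (graph gX gY a).ker.subschemeι ≫ PicF.XTproj (pullback.fst gX gY ≫ gX) T =
        ((graph gX gY a).ker.subschemeι ≫ proj gX gY T) ≫ pullback.fst T.hom gX := by
      rw [Category.assoc, show proj gX gY T ≫ pullback.fst T.hom gX = pullback.snd _ _ from pullback.lift_fst _ _ _]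
    have hmem : IsProper ((graph gX gY a).ker.subschemeι ≫ PicF.XTproj (pullback.fst gX gY ≫ gX) T) ∧
        Flat ((graph gX gY a).ker.subschemeι ≫ PicF.XTproj (pullback.fst gX gY ≫ gX) T) := by
      rw [e]; exact ⟨inferInstance, inferInstance⟩
    obtain ⟨g, hg, huniq⟩ := hH.2 T ⟨_, hmem⟩
    refine ⟨g, ⟨(h₀ g.left).1 ((isIso_comap_iff gX gY g Z.1).1 ?_), hg⟩, fun g' hg' => huniq g' hg'.2⟩
    exact (congrArg (fun I : (PicF.XT (pullback.fst gX gY ≫ gX) T).IdealSheafData =>
      IsIso (I.subschemeι ≫ proj gX gY T)) hg).mpr ‹_›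
  · haveI := (isIso_comap_iff gX gY g Z.1).2 ((h₀ g.left).2 hg)
    let W := FGA.hilbPull (pullback.fst gX gY ≫ gX) g Z.1
    let ψ := inv (W.subschemeι ≫ proj gX gY T)
    have h1 : ψ ≫ W.subschemeι ≫ proj gX gY T = 𝟙 _ := IsIso.inv_hom_id _
    let a : (Flatn.morS gX gY).obj (Opposite.op T) :=
      Over.homMk (ψ ≫ W.subschemeι ≫ pullback.fst _ _ ≫ pullback.snd gX gY) (by
        show (ψ ≫ W.subschemeι ≫ pullback.fst _ _ ≫ pullback.snd gX gY) ≫ gY = pullback.snd T.hom gX ≫ gX
        simp only [Category.assoc]
        rw [← pullback.condition]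
        have h2 := congrArg (· ≫ pullback.snd T.hom gX ≫ gX) h1
        simpa [proj] using h2)
    have ha : graph gX gY a = ψ ≫ W.subschemeι := by
      refine pullback.hom_ext ?_ ?_
      · refine pullback.hom_ext ?_ ?_
        · have h2 := congrArg (· ≫ pullback.snd T.hom gX) h1
          simpa [proj, graph] using h2.symm
        · simp [graph, a]
      · have h2 := congrArg (· ≫ pullback.fst T.hom gX) h1
        simpa [proj, graph] using h2.symm
    refine ⟨a, ?_, fun b hb => ?_⟩
    · show W = (graph gX gY a).ker
      rw [ha, Scheme.Hom.ker_comp_of_isIso, Scheme.IdealSheafData.ker_subschemeι]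
    · haveI := isClosedImmersion_graph gX gY b
      have hb' : (W.subschemeι).ker = (graph gX gY b).ker := (Scheme.IdealSheafData.ker_subschemeι W).trans hb
      let e := IsClosedImmersion.lift W.subschemeι (graph gX gY b) hb'.le
      have he : e ≫ W.subschemeι = graph gX gY b := IsClosedImmersion.lift_fac _ _ _
      have heq : e = ψ := by
        rw [← cancel_mono (W.subschemeι ≫ proj gX gY T), h1, ← Category.assoc, he, graph_proj]
      refine Over.OverMorphism.ext ?_
      show b.left = ψ ≫ W.subschemeι ≫ pullback.fst _ _ ≫ pullback.snd gX gY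
      rw [← heq, ← Category.assoc, he]
      simp [graph]

end Groth.Agent.S17087
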