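import Groth.Statements.S17091
import Groth.Agent.Deform.Luna.Radical

set_option autoImplicit false
universe u
open CategoryTheory MonoidalCategory CartesianMonoidalCategory MonObj GrpObj AlgebraicGeometry
open AGF

namespace Groth.Agent.S17091
attribute [local instance] CategoryTheory.Hom.monoid CategoryTheory.Hom.group
/-- Let k be an algebraically closed field, G an affine, smooth, connected k-group scheme, u : U ⟶ G its
unipotent radical (the largest normal closed subgroup scheme of G, smooth and quasi-compact over k,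
whose geometric fibre is connected and contains no non-trivial subtorus), B a Borel subgroup of G
and v : V ⟶ B the unipotent radical of B. Then U is contained in V: u factors through v. -/
theorem result (k : Type u) [Field k] [IsAlgClosed k]
    (G : Over (Spec (CommRingCat.of k))) [GrpObj G] [IsAffine G.left] [Smooth G.hom] [ConnectedSpace ↥G.left]
    (U : Over (Spec (CommRingCat.of k))) [GrpObj U] (u : U ⟶ G) (hU : Par.IsUnipotentRadical u)
    (B : Over (Spec (CommRingCat.of k))) [GrpObj B] (iB : B ⟶ G) (hB : Red.IsBorelOver k iB)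
    (V : Over (Spec (CommRingCat.of k))) [GrpObj V] (v : V ⟶ B) (hV : Par.IsUnipotentRadical v) :
    ∃ f : U ⟶ V, f ≫ v ≫ iB = u := by
  obtain ⟨him, hic, hUa, hUs, hUc, hUno⟩ := Deform.Luna.unipotentRadical_props hU
  haveI := him; haveI := hic; haveI := hUa; haveI := hUs; haveI := hUc
  obtain ⟨hbm, hbc, hBs, hBcn, hBsol, -⟩ := id hB
  haveI := hbm; haveI := hbc; haveI := hBs; haveI := hBcn
  haveI : IsAffine B.left := isAffine_of_isAffineHom iB.left
  haveI : IsReduced U.left := Agent.GrpSchLib.isReduced_of_smooth_field U.hom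
  haveI := Deform.Borel.isNilpotent_pts_of_noSubtorus U hUno
  haveI : Group.IsSolvable (Deform.Chev.Pt U) := inferInstance
  haveI : Mono u := (Over.forget _).mono_of_mono_map (inferInstanceAs (Mono u.left))
  haveI : Mono iB := (Over.forget _).mono_of_mono_map (inferInstanceAs (Mono iB.left))
  have hn : ∀ (g : Deform.Chev.Pt G) (x : Deform.Chev.Pt U), ∃ x' : Deform.Chev.Pt U, x' ≫ u = g * (x ≫ u) * g⁻¹ :=
    fun g x => (hU.2.2.1 _ g x).imp fun _ h => h.symm
  obtain ⟨f₀, hf₀⟩ := Deform.Chev.exists_lift_range iB u (Deform.Chev.mem_of_pts _ iB.left.isClosedEmbedding.isClosed_range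
    fun x => by
      obtain ⟨b, hb⟩ := Deform.Luna.normal_mem_borels hB u hn x 1
      rw [inv_one, _root_.one_mul, _root_.mul_one] at hb
      exact ⟨Deform.Chev.pimg b, by rw [← Deform.Chev.pimg_comp, hb]⟩)
  haveI : IsMonHom f₀ := Deform.isMonHom_of_comp f₀ iB (i := u) hf₀
  haveI : IsClosedImmersion (f₀.left ≫ iB.left) := by
    have e : f₀.left ≫ iB.left = u.left := congrArg CommaMorphism.left hf₀
    rw [e]; infer_instance
  haveI : IsClosedImmersion f₀.left := IsClosedImmersion.of_comp f₀.left iB.left
  obtain ⟨g, hg⟩ := Deform.Luna.le_unipotentRadical hV f₀ (fun X b n => by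
    obtain ⟨n', hn'⟩ := hU.2.2.1 X (b ≫ iB) n
    refine ⟨n', (cancel_mono iB).mp ?_⟩
    rw [Category.assoc, hf₀, ← hn', MonObj.mul_comp, MonObj.mul_comp, GrpObj.inv_comp, Category.assoc, hf₀]) hUno
  exact ⟨g, by rw [reassoc_of% hg, hf₀]⟩

end Groth.Agent.S17091
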