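import Groth.Statements.S17093
import Groth.Agent.Deform.Luna.RuImage

set_option autoImplicit false
universe u
open CategoryTheory MonoidalCategory CartesianMonoidalCategory MonObj GrpObj AlgebraicGeometry
open AGF

namespace Groth.Agent.S17093
attribute [local instance] CategoryTheory.Hom.monoid CategoryTheory.Hom.group
/-- Let k be an algebraically closed field, G and G' affine, smooth, connected k-group schemes, π : G ⟶
G' a surjective homomorphism, u : U ⟶ G the unipotent radical of G and u' : U' ⟶ G' that of G'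
(largest normal closed subgroup schemes, smooth and quasi-compact over k, with connected geometric
fibre containing no non-trivial subtorus). Then π carries U onto U': u ≫ π factors through u' by a
morphism U ⟶ U' which is surjective. -/
theorem result (k : Type u) [Field k] [IsAlgClosed k]
    (G G' : Over (Spec (CommRingCat.of k))) [GrpObj G] [GrpObj G'] [IsAffine G.left] [Smooth G.hom] [ConnectedSpace ↥G.left]
    [IsAffine G'.left] [Smooth G'.hom] [ConnectedSpace ↥G'.left]
    (π : G ⟶ G') [IsMonHom π] (hπ : Surjective π.left)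
    (U : Over (Spec (CommRingCat.of k))) [GrpObj U] (u : U ⟶ G) (hU : Par.IsUnipotentRadical u)
    (U' : Over (Spec (CommRingCat.of k))) [GrpObj U'] (u' : U' ⟶ G') (hU' : Par.IsUnipotentRadical u') :
    ∃ f : U ⟶ U', f ≫ u' = u ≫ π ∧ Surjective f.left := by
  classical
  obtain ⟨him, hic, hUa, hUs, hUc, hUno⟩ := Deform.Luna.unipotentRadical_props hU
  obtain ⟨him', hic', hUa', hUs', hUc', hUno'⟩ := Deform.Luna.unipotentRadical_props hU'
  haveI := him; haveI := hic; haveI := hUa; haveI := hUs; haveI := hUc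
  haveI := him'; haveI := hic'; haveI := hUa'; haveI := hUs'; haveI := hUc'
  haveI : IsAffineHom U'.hom := isAffineHom_of_isAffine _
  haveI : QuasiCompact U'.hom := inferInstance
  haveI : IsAffineHom U.hom := isAffineHom_of_isAffine _
  haveI : QuasiCompact U.hom := inferInstance
  haveI : IsAffineHom G'.hom := isAffineHom_of_isAffine _
  haveI : QuasiCompact G'.hom := inferInstance
  haveI : Mono u := (Over.forget _).mono_of_mono_map (inferInstanceAs (Mono u.left))
  haveI : Mono u' := (Over.forget _).mono_of_mono_map (inferInstanceAs (Mono u'.left))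
  obtain ⟨I, gI, p, i, hp, hi, hpi, hic₁, hpf, hps, hIl, hIq⟩ := Agent.GrpSchLib.ImageFactor.exists_image (u ≫ π)
  haveI := hp; haveI := hi; haveI := hic₁; haveI := hpf; haveI := hps; haveI := hIl; haveI := hIq
  haveI : IsReduced U.left := Agent.GrpSchLib.isReduced_of_smooth_field U.hom
  haveI : IsReduced I.left := Agent.FBaseLib.isReduced_of_flat_surjective p.left
  haveI : Smooth I.hom := Agent.GrpSchLib.smooth_of_isReduced_of_isAlgClosed I
  haveI : ConnectedSpace I.left := p.left.surjective.connectedSpace p.left.continuous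
  have hIn : AlgGrp.IsNormalHom i := Deform.Luna.isNormalHom_of_pts i fun g x => by
    obtain ⟨g₀, rfl⟩ := Deform.Borel.exists_pt_over π g
    obtain ⟨x₀, rfl⟩ := Deform.Borel.exists_pt_over p x
    obtain ⟨n, hn⟩ := hU.2.2.1 _ g₀ x₀
    refine ⟨n ≫ p, ?_⟩
    rw [Category.assoc, hpi, ← Category.assoc, ← hn, Category.assoc x₀, hpi, MonObj.mul_comp, MonObj.mul_comp,
      GrpObj.inv_comp, Category.assoc]
  obtain ⟨f₀, hf₀⟩ := Deform.Luna.le_unipotentRadical hU' i hIn (Deform.Luna.hasNoSubtorus_image hUno p)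
  have hf : (p ≫ f₀) ≫ u' = u ≫ π := by rw [Category.assoc, hf₀, hpi]
  haveI : IsMonHom (p ≫ f₀) := Deform.isMonHom_of_comp (p ≫ f₀) u' (i := u ≫ π) hf
  refine ⟨p ≫ f₀, hf, Deform.Borel.surjective_of_cosets (p ≫ f₀) {1} fun y => ?_⟩
  obtain ⟨W, gW, w, hwm, hwc, hWs, hWc, hWn, hW, hsur⟩ := Deform.Luna.exists_noSubtorus_over π u' hU'.2.2.1 hUno'
  haveI := hwm; haveI := hwc; haveI := hWs; haveI := hWc
  obtain ⟨x, hx⟩ := hsur y
  obtain ⟨g, hg⟩ := Deform.Luna.le_unipotentRadical hU w hWn hW
  refine ⟨1, Finset.mem_singleton_self _, x ≫ g, ?_⟩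
  rw [_root_.one_mul, ← cancel_mono u', Category.assoc (x ≫ g), hf, ← Category.assoc, Category.assoc x g u, hg, hx]

end Groth.Agent.S17093
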