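import Groth.Statements.S17096
import Groth.Agent.Deform.Luna.CentralIsogeny

set_option autoImplicit false
universe u
open CategoryTheory MonoidalCategory CartesianMonoidalCategory MonObj GrpObj AlgebraicGeometry
open AGF

namespace Groth.Agent.S17096
attribute [local instance] CategoryTheory.Hom.monoid CategoryTheory.Hom.group
open CategoryTheory.Limits
set_option linter.style.haveILetI false

/-- Let k be a field, H' and H reductive k-group schemes and f : H' ⟶ H a central isogeny: a surjective
homomorphism whose kernel K ⟶ H' has finitely many points, all central in H'. Let i : T ⟶ H be a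
maximal torus and i' : T' ⟶ H' its scheme-theoretic preimage (the square T' ⟶ H' ⟶ H, T' ⟶ T ⟶ H is
cartesian), with its induced subgroup structure. Then T' is a maximal torus of H'. -/
theorem result (k : Type u) [Field k]
    (H' H : Over (Spec (CommRingCat.of k))) [GrpObj H'] [GrpObj H] (hH' : Red.IsReductive H') (hH : Red.IsReductive H)
    (f : H' ⟶ H) [IsMonHom f] (hf : Surjective f.left)
    (K : Over (Spec (CommRingCat.of k))) [GrpObj K] (iK : K ⟶ H') (hK : AlgGrp.IsKernel iK f) (hKf : Finite ↥K.left)
    (hKc : ∀ (X : Over (Spec (CommRingCat.of k))) (x : X ⟶ K) (X' : Over (Spec (CommRingCat.of k))) (y : X' ⟶ X) (h : X' ⟶ H'),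
      (y ≫ x ≫ iK) * h = h * (y ≫ x ≫ iK))
    (T : Over (Spec (CommRingCat.of k))) [GrpObj T] (i : T ⟶ H) (hT : Red.IsMaximalTorus i)
    (T' : Over (Spec (CommRingCat.of k))) [GrpObj T'] (i' : T' ⟶ H') [IsMonHom i'] (p : T' ⟶ T) (hsq : IsPullback i' p f i) :
    Red.IsMaximalTorus i' := by
  have hk : Deform.Luna.CentralKer f := Deform.Luna.centralKer_of_kernel hK hKc
  haveI := hH'.1; haveI := hH'.2.1; haveI := hH.1; haveI := hH.2.1
  haveI : IsSeparated H'.hom := inferInstance
  haveI : IsSeparated H.hom := inferInstance
  haveI : QuasiCompact H'.hom := inferInstance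
  haveI : QuasiCompact H.hom := inferInstance
  haveI := hf
  have hgeom : ∀ s, Surjective ((Over.pullback (Red.geomPt s)).map f).left := fun s =>
    MorphismProperty.overPullbackMap (P := @Surjective) _ f hf
  haveI := hT.1; haveI := hT.2.1
  obtain ⟨T₁, iT₁, j, v, hj, hv, e, hvs, -⟩ :=
    (S8429.result _ H' H (Deform.Luna.hasMaxTorus_of_isReductive hH') f hgeom
      (fun X z hz X' x g => by
        have h := hKc X (hK.lift z (toUnit X) hz) X' x g
        simpa only [hK.lift_fst] using h)).1 T i hT
  haveI := hvs; haveI := hj.1; haveI := hj.2.1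
  haveI : Mono i' := MorphismProperty.of_isPullback (P := MorphismProperty.monomorphisms _) hsq.flip ‹Mono i›
  obtain ⟨s, hs, -⟩ := Deform.Luna.exists_lift_of_image hH' hk hj hT.2.2.1 i v e i' p hsq.w
  haveI : IsMonHom s := Deform.isMonHom_of_comp s j (i := i') hs
  let t : T₁ ⟶ T' := hsq.lift j v e.symm
  have ht : t ≫ i' = j := hsq.lift_fst _ _ _
  let a : T' ≅ T₁ := { hom := s, inv := t
                       hom_inv_id := by rw [← cancel_mono i', Category.assoc, ht, hs, Category.id_comp]
                       inv_hom_id := by rw [← cancel_mono j, Category.assoc, hs, ht, Category.id_comp] }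
  haveI : IsMonHom a.hom := inferInstanceAs (IsMonHom s)
  exact Deform.Luna.isMaximalTorus_of_iso (Grp.mkIso' a) i' hs hj

end Groth.Agent.S17096
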