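import Groth.Statements.S17097
import Groth.Agent.Deform.Luna.CentralIsogeny

set_option autoImplicit false
universe u
open CategoryTheory MonoidalCategory CartesianMonoidalCategory MonObj GrpObj AlgebraicGeometry
open AGF

namespace Groth.Agent.S17097
attribute [local instance] CategoryTheory.Hom.monoid CategoryTheory.Hom.group
open CategoryTheory.Limits
set_option linter.style.haveILetI false

/-- Let k be a field, H' and H reductive k-group schemes and f : H' ⟶ H a central isogeny: a surjective
homomorphism whose kernel K ⟶ H' has finitely many points, all central in H'. Then every maximal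
torus j : S' ⟶ H' is the scheme-theoretic preimage of a maximal torus of H: there are a maximal
torus i : T ⟶ H and a morphism S' ⟶ T making the square with j, f and i cartesian. -/
theorem result (k : Type u) [Field k]
    (H' H : Over (Spec (CommRingCat.of k))) [GrpObj H'] [GrpObj H] (hH' : Red.IsReductive H') (hH : Red.IsReductive H)
    (f : H' ⟶ H) [IsMonHom f] (hf : Surjective f.left)
    (K : Over (Spec (CommRingCat.of k))) [GrpObj K] (iK : K ⟶ H') (hK : AlgGrp.IsKernel iK f) (hKf : Finite ↥K.left)
    (hKc : ∀ (X : Over (Spec (CommRingCat.of k))) (x : X ⟶ K) (X' : Over (Spec (CommRingCat.of k))) (y : X' ⟶ X) (h : X' ⟶ H'),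
      (y ≫ x ≫ iK) * h = h * (y ≫ x ≫ iK))
    (S' : Over (Spec (CommRingCat.of k))) [GrpObj S'] (j : S' ⟶ H') (hS' : Red.IsMaximalTorus j) :
    ∃ (T : Over (Spec (CommRingCat.of k))) (_ : GrpObj T) (i : T ⟶ H) (p : S' ⟶ T),
      Red.IsMaximalTorus i ∧ IsPullback j p f i := by
  have hk : Deform.Luna.CentralKer f := Deform.Luna.centralKer_of_kernel hK hKc
  haveI := hH'.1; haveI := hH'.2.1; haveI := hH.1; haveI := hH.2.1
  haveI : IsSeparated H'.hom := inferInstance
  haveI : IsSeparated H.hom := inferInstance
  haveI : QuasiCompact H'.hom := inferInstance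
  haveI : QuasiCompact H.hom := inferInstance
  haveI := hf
  have hgeom : ∀ s, Surjective ((Over.pullback (Red.geomPt s)).map f).left := fun s =>
    MorphismProperty.overPullbackMap (P := @Surjective) _ f hf
  obtain ⟨T, iT, i, p, hi, hp, e, hps, -⟩ := S4147.result _ H' H (Deform.Luna.hasMaxTorus_of_isReductive hH') f
    hgeom S' j hS'
  haveI := hps; haveI := hS'.2.1; haveI := hi.1; haveI := hi.2.1
  refine ⟨T, iT, i, p, hi, ⟨⟨e.symm⟩, ⟨PullbackCone.IsLimit.mk e.symm
    (fun c => (Deform.Luna.exists_lift_of_image hH' hk hS' hi.2.2.1 i p e c.fst c.snd c.condition).choose)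
    (fun c => (Deform.Luna.exists_lift_of_image hH' hk hS' hi.2.2.1 i p e c.fst c.snd c.condition).choose_spec.1)
    (fun c => (Deform.Luna.exists_lift_of_image hH' hk hS' hi.2.2.1 i p e c.fst c.snd c.condition).choose_spec.2)
    (fun c m h₁ _ => ?_)⟩⟩⟩
  rw [← cancel_mono j, h₁]
  exact (Deform.Luna.exists_lift_of_image hH' hk hS' hi.2.2.1 i p e c.fst c.snd c.condition).choose_spec.1.symm

end Groth.Agent.S17097
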