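import Groth.Statements.S17099
import Groth.Agent.Deform.SmallGrp.CentreP

set_option autoImplicit false
universe u
open CategoryTheory MonoidalCategory CartesianMonoidalCategory MonObj GrpObj AlgebraicGeometry
open AGF

namespace Groth.Agent.S17099
attribute [local instance] CategoryTheory.Hom.monoid CategoryTheory.Hom.group
set_option linter.style.haveILetI false
set_option maxHeartbeats 800000
/-- Let p be a prime, k a field of characteristic p, G a reductive k-group scheme (affine, smooth,
connected reductive geometric fibre) and z : Z ⟶ G its scheme-theoretic centre. Then Z contains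
neither α_p nor Z/pZ as a subgroup scheme: no homomorphism of k-group schemes from α_p (the spectrum
of k[X]/(X^p) with X primitive) to Z is a monomorphism, and no homomorphism from the constant
k-group scheme of the cyclic group of order p to Z is a monomorphism. (Stated over every field of
characteristic p; applied over an algebraic closure of k to the base change of G, whose centre is
the base change of Z, this is the published assertion about the geometric centre.) -/
theorem result (p : ℕ) [Fact p.Prime]
    (k : Type u) [Field k] [CharP k p]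
    (G : Over (Spec (CommRingCat.of k))) [GrpObj G] (hG : Red.IsReductive G)
    (Z : Over (Spec (CommRingCat.of k))) [GrpObj Z] (z : Z ⟶ G) (hz : Red.IsCentre z) :
    (∀ (φ : (Spec (CommRingCat.of (AlphaP.A p k))).asOver (Spec (CommRingCat.of k)) ⟶ Z), IsMonHom φ → ¬ Mono φ.left) ∧
      (∀ (ψ : (Spec (CommRingCat.of (ConstGrp.F k (Multiplicative (ZMod p))))).asOver (Spec (CommRingCat.of k)) ⟶ Z),
        IsMonHom ψ → ¬ Mono ψ.left) := by
  refine ⟨fun φ hφ => ?_, fun ψ hψ => ?_⟩
  · haveI := hφ
    refine Deform.SmallGrp.not_mono_centre_of_primitive hG z hz (AlphaP.x p k) (AlphaP.comul_x p k) (fun b => ?_)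
      (fun h => ?_) φ
    · obtain ⟨f, rfl⟩ := AlphaP.mk_surjective p k b
      rw [← AlphaP.aeval_x]
      have h1 : Coalgebra.counit (R := k) (Polynomial.aeval (AlphaP.x p k) f) = f.coeff 0 := by
        show Bialgebra.counitAlgHom k (AlphaP.A p k) (Polynomial.aeval (AlphaP.x p k) f) = _
        rw [← Polynomial.aeval_algHom_apply, show Bialgebra.counitAlgHom k (AlphaP.A p k) (AlphaP.x p k) = 0 from
          AlphaP.counit_x p k, Polynomial.coeff_zero_eq_aeval_zero]
      rw [h1]
      refine Ideal.mem_span_singleton.mpr ⟨Polynomial.aeval (AlphaP.x p k) f.divX, ?_⟩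
      conv_lhs => arg 1; rw [← Polynomial.X_mul_divX_add f]
      rw [map_add, map_mul, Polynomial.aeval_X, Polynomial.aeval_C, add_sub_cancel_right]
    · have h2 := (AlphaP.basis p k).ne_zero ⟨1, (Fact.out : p.Prime).one_lt⟩
      rw [AlphaP.basis_apply, pow_one] at h2
      exact h2 h
  · haveI := hψ
    obtain ⟨x, hx, hx0, hgen⟩ := Deform.SmallGrp.exists_coord_zmod (k := k) p
    exact Deform.SmallGrp.not_mono_centre_of_primitive hG z hz x hx hgen hx0 ψ

end Groth.Agent.S17099
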