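import Groth.Statements.S1715
import Groth.Agent.RGammaI.ExtRange

set_option autoImplicit false
universe u
open CategoryTheory
attribute [local instance] HasDerivedCategory.standard
open LocCoh

namespace Groth.Agent.S1715

/-- For an affine scheme: let A be a Noetherian ring with a dualizing complex and M a finite A-module
satisfying Serre's condition (S_k). Then there are only finitely many primes p such that M_p has
depth exactly k while its support has dimension greater than k. (The source states this for coherent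
modules on a Noetherian scheme with a dualizing complex.) -/
theorem result (A : Type u) [CommRing A] [IsNoetherianRing A] (hA : ∃ ω : Dual.D A, Dual.IsDualizing A ω) (M : Type u) [AddCommGroup M] [Module A M] [Module.Finite A M] (k : ℕ) (hM : LocCoh.HasSk k A M) : Set.Finite {p : PrimeSpectrum A | LocCoh.depth (Localization.AtPrime p.asIdeal) (LocalizedModule p.asIdeal.primeCompl M) = k ∧ (k : WithBot ℕ∞) < Module.supportDim (Localization.AtPrime p.asIdeal) (LocalizedModule p.asIdeal.primeCompl M)} := by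
  obtain ⟨ω, hω⟩ := hA
  obtain ⟨n, hn, -, hmono, -⟩ := Groth.Agent.KFlatLib.exists_extDegree hω
  obtain ⟨a, b, hab⟩ := hω.finite_injective_dimension
  obtain ⟨a', b', -, _, _⟩ := Groth.Agent.KFlatLib.exists_bounds_of_isDualizing hω
  let E : ℤ → Ideal A := fun i => Module.annihilator A (Dual.inD A M ⟶ ω⟦i⟧)
  have hZ : ∀ (i : ℤ) (q : PrimeSpectrum A),
      q ∈ Module.support A (Dual.inD A M ⟶ ω⟦i⟧) ↔ E i ≤ q.asIdeal := fun i q => by
    haveI := Groth.Agent.KFlatLib.finite_hom_module ω a' hω.finite_cohomology M i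
    rw [Module.support_eq_zeroLocus]
    exact Iff.rfl
  have hrange : ∀ (q : PrimeSpectrum A) i, q ∈ Module.support A (Dual.inD A M ⟶ ω⟦i⟧) → i ∈ Finset.Icc a b :=
    fun q i hi => by
    by_contra hc
    haveI := hab M i (by rw [Finset.mem_Icc] at hc; omega)
    exact absurd (Module.mem_support_iff.1 hi) (not_nontrivial_iff_subsingleton.2
      (LocalizedModule.subsingleton_iff.2 fun φ => ⟨1, one_mem _, Subsingleton.elim _ _⟩))
  refine Set.Finite.subset (s := ⋃ i ∈ Finset.Icc a b, ⋃ j ∈ Finset.Icc a b,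
    {p : PrimeSpectrum A | p.asIdeal ∈ (E i ⊔ E j).minimalPrimes}) ?_ ?_
  · exact Set.Finite.biUnion (Finset.finite_toSet _) fun i _ => Set.Finite.biUnion (Finset.finite_toSet _)
      fun j _ => ((E i ⊔ E j).finite_minimalPrimes_of_isNoetherianRing A).preimage
        fun p _ q _ e => PrimeSpectrum.ext e
  rintro p ⟨hδ, hdim⟩
  have hp : p ∈ Module.support A M := by
    rw [Module.mem_support_iff]
    by_contra hc
    rw [not_nontrivial_iff_subsingleton] at hc
    rw [Module.supportDim_eq_bot_of_subsingleton] at hdim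
    exact not_lt_bot hdim
  obtain ⟨δ, d, hδ', hd, -⟩ := Groth.Agent.RGammaI.exists_depth_dim M p hp
  obtain ⟨-, hnt₁⟩ := Groth.Agent.RGammaI.localized_ext_of_depth hω hn M p k hδ hp
  obtain ⟨-, hnt₂⟩ := Groth.Agent.RGammaI.localized_ext_of_dim hω hn M p d hd
  rw [hd] at hdim
  have hkd : k < d := by exact_mod_cast hdim
  have h1 := Module.mem_support_iff.2 hnt₁
  have h2 := Module.mem_support_iff.2 hnt₂
  refine Set.mem_biUnion (hrange p _ h1) (Set.mem_biUnion (hrange p _ h2) ?_)
  refine ⟨⟨p.isPrime, sup_le ((hZ _ p).1 h1) ((hZ _ p).1 h2)⟩, fun Q hQ hQp => ?_⟩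
  let q : PrimeSpectrum A := ⟨Q, hQ.1⟩
  by_contra hne
  have hqp : q < p := lt_of_le_not_ge hQp hne
  have hqc := (hZ (n p - k) q).2 (le_sup_left.trans hQ.2)
  have hqj := (hZ (n p - d) q).2 (le_sup_right.trans hQ.2)
  have hq : q ∈ Module.support A M := Groth.Agent.KFlatLib.support_hom_subset M _ hqc
  obtain ⟨δq, dq, hδq, hdq, hleq⟩ := Groth.Agent.RGammaI.exists_depth_dim M q hq
  obtain ⟨hv₁, -⟩ := Groth.Agent.RGammaI.localized_ext_of_depth hω hn M q δq hδq hq
  obtain ⟨hv₂, -⟩ := Groth.Agent.RGammaI.localized_ext_of_dim hω hn M q dq hdq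
  have hlow : ∀ i, q ∈ Module.support A (Dual.inD A M ⟶ ω⟦i⟧) → n q - dq ≤ i ∧ i ≤ n q - δq := by
    intro i hi
    constructor <;> by_contra hc
    · exact absurd (Module.mem_support_iff.1 hi) (not_nontrivial_iff_subsingleton.2 (hv₂ i (by omega)))
    · exact absurd (Module.mem_support_iff.1 hi) (not_nontrivial_iff_subsingleton.2 (hv₁ i (by omega)))
  obtain ⟨hc1, hc2⟩ := hlow _ hqc
  obtain ⟨hj1, hj2⟩ := hlow _ hqj
  have hsk := @hM q.asIdeal q.isPrime
  rw [hdq, hδq] at hsk
  have hsk' : k ≤ δq ∨ dq ≤ δq := (min_le_iff.1 hsk).imp (fun h => by exact_mod_cast h) (fun h => by exact_mod_cast h)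
  have := hmono hqp
  omega

end Groth.Agent.S1715
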