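import Groth.Statements.S17181
-- import your own Groth.Agent.* helpers here
import Mathlib

set_option autoImplicit false
universe u
open CategoryTheory CategoryTheory.Limits AlgebraicGeometry
open FBase

namespace Groth.Agent.S17181

set_option backward.isDefEq.respectTransparency false in
set_option backward.isDefEq.respectTransparency.types false in
/-- Let k be a field, C an irreducible k-scheme which is geometrically irreducible over k, and f : X → C
a flat k-morphism locally of finite type with X irreducible. If the generic fibre of f is
geometrically irreducible over the residue field of the generic point of C, then X is geometrically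
irreducible over k. (The published setting is a regular proper surface mapping onto a smooth
projective geometrically irreducible curve with smooth projective geometrically irreducible generic
fibre; the printed argument uses only the hypotheses kept here.) -/
theorem result (k : Type u) [Field k]
    (X C : Scheme.{u}) [X.Over (Spec (CommRingCat.of k))] [C.Over (Spec (CommRingCat.of k))]
    (f : X ⟶ C) [f.IsOver (Spec (CommRingCat.of k))] [IrreducibleSpace X] [IrreducibleSpace C]
    [GeometricallyIrreducible (C ↘ Spec (CommRingCat.of k))] [Flat f] [LocallyOfFiniteType f]
    [GeometricallyIrreducible (f.fiberToSpecResidueField (genericPoint C))] :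
    GeometricallyIrreducible (X ↘ Spec (CommRingCat.of k)) := by
  refine ⟨geometrically_iff_of_isClosedUnderIsomorphisms.mpr fun K _ x => ?_⟩
  let sC := C ↘ Spec (CommRingCat.of k)
  let p : pullback sC x ⟶ C := pullback.fst sC x
  haveI : Surjective x := by
    haveI : Subsingleton (Spec (CommRingCat.of k)) := inferInstance
    exact ⟨fun y => ⟨default, Subsingleton.elim _ _⟩⟩
  haveI : IrreducibleSpace ↥(pullback sC x) := inferInstance
  haveI : Surjective p := inferInstance
  let η' := genericPoint ↥(pullback sC x)
  have hp : p η' = genericPoint C := by
    obtain ⟨a, ha⟩ := p.surjective (genericPoint C)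
    exact (((genericPoint_specializes a).map p.continuous).trans (specializes_of_eq ha)).antisymm
      (genericPoint_specializes _) |>.eq
  let g : pullback f p ⟶ pullback sC x := pullback.snd f p
  haveI : IrreducibleSpace ↥(g.fiber η') := by
    haveI : GeometricallyIrreducible (f.fiberToSpecResidueField (p η')) := by rw [hp]; infer_instance
    refine GeometricallyIrreducible.geometrically_irreducibleSpace (f := f.fiberToSpecResidueField (p η'))
      (Spec.map (p.residueFieldMap η'))
      (pullback.lift (g.fiberι η' ≫ pullback.fst f p) (g.fiberToSpecResidueField η' ≫
        Spec.map (p.residueFieldMap η')) ?_) (g.fiberToSpecResidueField η') ?_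
    · rw [Category.assoc, Category.assoc, Scheme.Hom.SpecMap_residueFieldMap_fromSpecResidueField,
        pullback.condition, ← Scheme.Hom.fiber_fac_assoc]
    · have h1 : IsPullback (g.fiberι η') (g.fiberToSpecResidueField η') g
          ((pullback sC x).fromSpecResidueField η') := IsPullback.of_hasPullback _ _
      have h2 := h1.paste_horiz (IsPullback.of_hasPullback f p)
      rw [← Scheme.Hom.SpecMap_residueFieldMap_fromSpecResidueField] at h2
      refine .of_right ?_ (pullback.lift_snd _ _ _) (IsPullback.of_hasPullback f (C.fromSpecResidueField (p η')))
      erw [pullback.lift_fst]
      exact h2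
  have hgen : Flat g := inferInstance
  have hW : IrreducibleSpace ↥(pullback f p) := by
    rw [irreducibleSpace_def]
    have h1 : IsIrreducible (g ⁻¹' {η'}) := by
      rw [← g.range_fiberι, ← Set.image_univ]
      exact (IrreducibleSpace.isIrreducible_univ _).image _ (g.fiberι η').continuous.continuousOn
    have h2 : closure (g ⁻¹' {η'}) = Set.univ := Set.eq_univ_of_forall fun z => by
      obtain ⟨z', hz', hzη⟩ := Flat.generalizingMap g (genericPoint_specializes (g z))
      exact hz'.mem_closed isClosed_closure (subset_closure hzη)
    rw [Set.top_eq_univ, ← h2]; exact h1.closure
  exact ((pullback.congrHom (comp_over f (Spec (CommRingCat.of k))).symm rfl) ≪≫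
    (pullbackRightPullbackFstIso sC x f).symm).inv.homeomorph.irreducibleSpace_iff.mp hW

end Groth.Agent.S17181
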