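import Groth.Statements.S17186
import Groth.Agent.CurvOpen.Main
set_option linter.style.haveILetI false
set_option backward.isDefEq.respectTransparency false
set_option backward.isDefEq.respectTransparency.types false
set_option maxHeartbeats 1000000

set_option autoImplicit false
universe u
open CurvSt

namespace Groth.Agent.S17186

open Groth.Agent Groth.Agent.CurvOpen in
open CategoryTheory AlgebraicGeometry in
/-- Let S be a scheme and consider the category over schemes over S whose objects over T are the
families of curves over T (an algebraic space X over S together with a proper, flat, finitely
presented morphism X → T all of whose fibres have dimension at most one; no marked sections) with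
cartesian squares as morphisms. Assume this category is an algebraic stack for the fppf topology
(the algebraicity of the stack of curves). Then the families whose structure morphism is
at-worst-nodal of relative dimension one (read etale locally on scheme charts: flat, locally of
finite presentation, every fibre with all irreducible components of dimension one and at-worst-nodal
singularities) form an open substack: that condition is closed under isomorphism, the full
subcategory on it is an fppf algebraic stack and its inclusion is representable by open immersions.
Moreover this substack has, over every algebraically closed field over S, an object all of whose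
geometric fibres realised as schemes are non-empty (nodal curves exist; the empty family, which
satisfies the nodal condition vacuously, does not count). The source works over the spectrum of the
integers; over a base scheme S the statement is its base change. -/
theorem result (S : Scheme.{u})
    (hC : AlgSt.IsAlgStack Scheme.fppfPrecoverage (CurvSt.Curves S 0)) :
    AlgSt.IsOpenSubstack (CurvSt.Curves S 0) (fun A => AlgSp.LocP CurvSt.nodalFam A.obj.f) Scheme.fppfPrecoverage ∧
      ∀ (Ω : Type u) [Field Ω] [IsAlgClosed Ω] (t : Spec (CommRingCat.of Ω) ⟶ S),
        Nonempty ((AlgSt.fullSub (CurvSt.Curves S 0) (fun A => AlgSp.LocP CurvSt.nodalFam A.obj.f ∧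
          CurvSt.GeomFib (fun _ _ _ X' _ _ => Nonempty ↥X') A.obj)).p.Fiber (Over.mk t)) := by
  refine ⟨isOpenSubstack_locP good_nodal (fun h => forall_nodR_iff h) hC, fun Ω _ _ t => ?_⟩
  refine nonempty_fiber Ω t ⟨locP_line Ω t fun h hh => ?_,
    geomFib_line Ω t (fun _ _ _ X' _ => Nonempty ↥X') fun K _ _ X' q _ _ hirr _ _ => hirr.toNonempty⟩
  haveI := hh
  haveI : Smooth h := SmoothOfRelativeDimension.smooth 1 h
  refine (NodalQ.isNodalFamily_iff_univ h).2 (Set.eq_univ_of_forall fun x => ⟨?_, Or.inl ?_⟩)
  · exact_mod_cast S2768.result 1 h x
  · exact ⟨⊤, trivial, inferInstance⟩

end Groth.Agent.S17186
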