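import Groth.Statements.S17258
import Groth.Agent.CanonDual.TailBridge
import Groth.Agent.CanonDual.NodeComps
import Groth.Agent.CanonDual.Balanced
import Groth.Agent.CanonDual.Field
import Groth.Agent.CanonDual.H1Crit
import Groth.Agent.CanonDual.CurveOne
import Groth.Agent.CurveReg.Nef

set_option autoImplicit false
set_option linter.style.haveILetI false
set_option backward.isDefEq.respectTransparency false
set_option backward.isDefEq.respectTransparency.types false
set_option maxHeartbeats 1000000
universe u
open Curves

namespace Groth.Agent.S17258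

open CategoryTheory AlgebraicGeometry in
/-- Let Ω be an algebraically closed field of characteristic zero and let C be a scheme proper over Ω
which is connected, of dimension one and has at-worst-nodal singularities. Then the first cohomology
of the structure sheaf of C vanishes if and only if C is a rational tree: every irreducible
component of C is the image of a closed immersion of the projective line over Ω, and the number of
nodes of C plus one equals the number of irreducible components. (The source phrases the second
condition as the absence of closed chains of components; for a connected nodal curve whose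
components are projective lines the two conditions agree, a connected graph being a tree exactly
when it has one more vertex than edges. The source takes Ω an algebraically closed extension of the
complex numbers.) -/
theorem result (Ω : Type u) [Field Ω] [IsAlgClosed Ω] [CharZero Ω]
    (C : Scheme.{u}) [C.Over (Spec (CommRingCat.of Ω))] [IsProper (C ↘ Spec (CommRingCat.of Ω))]
    [ConnectedSpace ↥C] (hdim : topologicalKrullDim ↥C = 1) (hnod : Curv2.AtWorstNodal Ω C) :
    Curv2.genus Ω C = 0 ↔
      ((∀ E ∈ irreducibleComponents (↥C : Type u), CurvSt.IsSmRatComp Ω C (C ↘ Spec (CommRingCat.of Ω)) E) ∧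
        {x : ↥C | Curv2.IsNode Ω C x}.encard + 1 = (irreducibleComponents (↥C : Type u)).encard) := by
  classical
  haveI := CurveCohLib.isNoetherian_of_proper (k := Ω) (X := C)
  haveI := CanonDual.isReduced_of_nodal Ω hdim.le hnod
  have h0 := SurfRR.finrank_h0_reduced Ω (X := C)
  have hXc := CanonDual.closedDimOne_of_connected Ω hdim
  have hequi : ∀ Z ∈ irreducibleComponents (C : Type u), topologicalKrullDim Z = 1 := fun Z hZ => by
    exact_mod_cast CanonDual.components_dim_one Ω hXc Z hZ
  obtain ⟨N, ι, hι, hιk⟩ := CanonDual.exists_embedding (k := Ω) (X := C) hdim.le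
  obtain ⟨ω, tr, -, hω⟩ := CanonDual.exists_isCoh_isRDualOver Ω N 1 C ι hιk hdim.le
  have hinv := CanonDual.isInvertible_dualizing_nodal hdim h0 hnod hω
  have hdω : Curv2.deg Ω C ω 1 = 2 * (Curv2.genus Ω C : ℤ) - 2 := by
    unfold Curv2.deg
    rw [CanonDual.euler_dualizing hdim (CanonDual.cm_of_h0 hdim h0) hω,
      CanonDual.euler_two hdim.le QCoh.isQCoh_structureModule, h0]
    unfold Curv2.genus
    push_cast
    ring
  haveI : Finite (irreducibleComponents (C : Type u)) :=
    (TopologicalSpace.NoetherianSpace.finite_irreducibleComponents).to_subtype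
  letI := Fintype.ofFinite (irreducibleComponents (C : Type u))
  let K : irreducibleComponents (C : Type u) → Set C := fun E => E.1 ∩ closure (E.1 : Set C)ᶜ
  have hK : ∀ E, K E = {p | p ∈ E.1 ∧ ∃ E' ∈ irreducibleComponents (C : Type u), E' ≠ E.1 ∧ p ∈ E'} :=
    fun E => (CanonDual.meetPts_eq Ω E.1 E.2).symm
  have hKfin : ∀ E, (K E).Finite := fun E => (CanonDual.tail_bridge_iff Ω hdim hnod E.1 E.2).2.2.1
  -- for a curve all of whose components are smooth rational
  have key : (∀ E ∈ irreducibleComponents (C : Type u),
      CurvSt.IsSmRatComp Ω C (C ↘ Spec (CommRingCat.of Ω)) E) →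
      {x : C | Curv2.IsNode Ω C x}.Finite ∧
      (Curv2.genus Ω C : ℤ) + Fintype.card (irreducibleComponents (C : Type u)) =
        {x : C | Curv2.IsNode Ω C x}.ncard + 1 := by
    intro hrat
    have hterm : ∀ E : irreducibleComponents (C : Type u),
        @Curv2.deg Ω _ (Scheme.IdealSheafData.vanishingIdeal ⟨E.1, isClosed_of_mem_irreducibleComponents E.1 E.2⟩).subscheme
          ⟨(Scheme.IdealSheafData.vanishingIdeal ⟨E.1, isClosed_of_mem_irreducibleComponents E.1 E.2⟩).subschemeι ≫ (C ↘ Spec (CommRingCat.of Ω))⟩
          ((Scheme.Modules.pullback (Scheme.IdealSheafData.vanishingIdeal ⟨E.1, isClosed_of_mem_irreducibleComponents E.1 E.2⟩).subschemeι).obj ω) 1 =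
          ((K E).ncard : ℤ) - 2 := by
      intro E
      obtain ⟨hconn, hE1⟩ := CanonDual.component_props hequi E.1 E.2
      have h1 := (CanonDual.tail_bridge_iff Ω hdim hnod E.1 E.2).2.2.2.1 (hrat E.1 E.2)
      have hKd : K E = E.1 ∩ closure (E.1 : Set C)ᶜ := rfl
      generalize hI : Scheme.IdealSheafData.vanishingIdeal
        (⟨E.1, isClosed_of_mem_irreducibleComponents E.1 E.2⟩ : TopologicalSpace.Closeds C) = I at hconn hE1 h1 ⊢
      haveI := hconn
      haveI : IsReduced I.subscheme := hI ▸ H23.RedSub.isReduced_vanishingIdeal _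
      have hsupp : (I.support : Set C) = E.1 := hI ▸ Scheme.IdealSheafData.coe_support_vanishingIdeal _
      obtain ⟨hd, -⟩ := CanonDual.subcurve_numbers Ω hdim hω hinv hinv I hE1
      rw [hd, CanonDual.finrank_inter_eq hdim hnod I hE1, hsupp, ← hKd]
      letI : I.subscheme.Over (Spec (CommRingCat.of Ω)) := ⟨I.subschemeι ≫ (C ↘ Spec (CommRingCat.of Ω))⟩
      have hg0 : @Curv2.genus Ω _ I.subscheme ⟨I.subschemeι ≫ (C ↘ Spec (CommRingCat.of Ω))⟩ = 0 := by
        unfold Curv2.genus
        exact Module.finrank_zero_of_subsingleton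
      rw [hg0]
      push_cast
      ring
    have hsum := CanonDual.deg_eq_sum_components Ω hdim.le hXc hinv
    rw [hdω, Finset.sum_congr rfl fun E _ => hterm E, Finset.sum_sub_distrib, Finset.sum_const,
      Finset.card_univ] at hsum
    -- nodes are the meeting points, each on two components
    have hreg : ∀ x : C, Curv2.IsNode Ω C x → ∀ E : irreducibleComponents (C : Type u), x ∈ E.1 → x ∈ K E := by
      intro x hx E hxE
      by_contra hxK
      obtain ⟨-, hns⟩ := CanonDual.node_components_le_two Ω hx
      obtain ⟨-, e, hei, heq, her⟩ := hrat E.1 E.2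
      haveI := hei
      have hxc : x ∉ closure (E.1 : Set C)ᶜ := fun h => hxK ⟨hxE, h⟩
      let U : C.Opens := ⟨(closure (E.1 : Set C)ᶜ)ᶜ, isClosed_closure.isOpen_compl⟩
      have hUE : (U : Set C) ⊆ Set.range e := fun y hy => by
        rw [her]
        by_contra h
        exact hy (subset_closure h)
      haveI : IsReduced (U : Scheme) := isReduced_of_isOpenImmersion U.ι
      haveI : Surjective (e ∣_ U) := ⟨fun y => by
        obtain ⟨z, hz⟩ := hUE y.2
        exact ⟨⟨z, show e z ∈ U from hz ▸ y.2⟩, Subtype.ext (by simpa using hz)⟩⟩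
      haveI : IsIso (e ∣_ U) := isIso_of_isClosedImmersion_of_surjective _
      haveI : Smooth (CohB1.ProjSpace.toSpec 1 Ω) := CurveEmbed.smooth_toSpec 1 Ω
      haveI : Smooth (U.ι ≫ (C ↘ Spec (CommRingCat.of Ω))) := by
        rw [← IsIso.inv_hom_id_assoc (e ∣_ U) U.ι, morphismRestrict_ι, Category.assoc, Category.assoc, heq]
        infer_instance
      exact hns (SmoothReg.isRegularLocalRing_stalk_of_mem_smoothLocus (C ↘ Spec (CommRingCat.of Ω))
        (CanonDual.mem_smoothLocus_of_nhd Ω (show x ∈ U from hxc) inferInstance))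
    have hnode : ∀ (E : irreducibleComponents (C : Type u)) (x : C), x ∈ K E → Curv2.IsNode Ω C x := by
      intro E x hx
      have hx' := hx
      rw [hK] at hx'
      obtain ⟨hxE, E', hE', hne, hxE'⟩ := hx'
      have hI : ((Scheme.IdealSheafData.vanishingIdeal
          (⟨E.1, isClosed_of_mem_irreducibleComponents E.1 E.2⟩ : TopologicalSpace.Closeds C)).support : Set C) = E.1 :=
        Scheme.IdealSheafData.coe_support_vanishingIdeal _
      have hxc : IsClosed ({x} : Set C) := CanonDual.isClosed_of_mem_inter (k := Ω) hXc _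
        (hI.symm ▸ hx.1) (hI.symm ▸ hx.2)
      refine (hnod x hxc).resolve_left fun ⟨U, hxU, hU⟩ => hne ?_
      exact CanonDual.unique_component_of_mem_smoothLocus Ω (CanonDual.mem_smoothLocus_of_nhd Ω hxU hU) hE' E.2 hxE' hxE
    have hset : {x : C | Curv2.IsNode Ω C x} = ⋃ E, K E := by
      ext x
      refine ⟨fun hx => ?_, fun hx => ?_⟩
      · exact Set.mem_iUnion.2 ⟨⟨irreducibleComponent x, irreducibleComponent_mem_irreducibleComponents x⟩,
          hreg x hx _ mem_irreducibleComponent⟩
      · obtain ⟨E, hxE⟩ := Set.mem_iUnion.1 hx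
        exact hnode E x hxE
    have hfin : {x : C | Curv2.IsNode Ω C x}.Finite := by rw [hset]; exact Set.finite_iUnion hKfin
    refine ⟨hfin, ?_⟩
    have hcount : ∑ E, (K E).ncard = 2 * {x : C | Curv2.IsNode Ω C x}.ncard := by
      have h1 : ∀ E, (K E).ncard = (hfin.toFinset.filter fun x => x ∈ K E).card := fun E => by
        rw [← Set.ncard_coe_finset]
        congr 1
        ext x
        simp only [Finset.coe_filter, Set.Finite.mem_toFinset, Set.mem_setOf_eq]
        exact ⟨fun h => ⟨hnode E x h, h⟩, fun h => h.2⟩
      simp only [h1, Finset.card_filter]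
      rw [Finset.sum_comm, Set.ncard_eq_toFinset_card _ hfin, mul_comm, ← smul_eq_mul, ← Finset.sum_const]
      refine Finset.sum_congr rfl fun x hx => ?_
      rw [← Finset.card_filter]
      have hx' : Curv2.IsNode Ω C x := hfin.mem_toFinset.1 hx
      obtain ⟨hle, -⟩ := CanonDual.node_components_le_two Ω hx'
      have h2 : ((Finset.univ.filter fun E : irreducibleComponents (C : Type u) => x ∈ K E).card : ℕ∞) ≤ 2 := by
        refine le_trans ?_ hle
        rw [← Set.encard_coe_eq_coe_finsetCard]
        refine Set.encard_le_encard_of_injOn (f := fun E => E.1) (fun E hE => ?_) Subtype.val_injective.injOn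
        exact ⟨E.2, ((Finset.mem_filter.1 hE).2).1⟩
      refine le_antisymm (by exact_mod_cast h2) (Finset.one_lt_card.2 ?_)
      let E : irreducibleComponents (C : Type u) :=
        ⟨irreducibleComponent x, irreducibleComponent_mem_irreducibleComponents x⟩
      have hE := hreg x hx' E mem_irreducibleComponent
      have hE' := hE
      rw [hK] at hE'
      obtain ⟨-, E', hE'c, hne, hxE'⟩ := hE'
      exact ⟨E, Finset.mem_filter.2 ⟨Finset.mem_univ _, hE⟩, ⟨E', hE'c⟩,
        Finset.mem_filter.2 ⟨Finset.mem_univ _, hreg x hx' ⟨E', hE'c⟩ hxE'⟩, fun h => hne (congrArg Subtype.val h).symm⟩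
    have hcount' : (∑ E, ((K E).ncard : ℤ)) = 2 * ({x : C | Curv2.IsNode Ω C x}.ncard : ℤ) := by
      exact_mod_cast hcount
    rw [hcount', nsmul_eq_mul] at hsum
    push_cast at hsum
    omega
  have hcard : (irreducibleComponents (C : Type u)).encard = (Fintype.card (irreducibleComponents (C : Type u)) : ℕ∞) := by
    rw [← Set.coe_fintypeCard]; try simp
  constructor
  · intro hg
    have hrat : ∀ E ∈ irreducibleComponents (C : Type u),
        CurvSt.IsSmRatComp Ω C (C ↘ Spec (CommRingCat.of Ω)) E := fun E hE => by
      refine (CanonDual.tail_bridge_iff Ω hdim hnod E hE).2.2.2.2 ?_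
      haveI := CurveCohLib.finite_HH (k := Ω) (QCoh.isCoh_structureModule' (X := C)) 1
      have hs : Subsingleton (Coh.HH C (Coh.structureModule C) 1) := Module.finrank_zero_iff.1 (show
        Module.finrank Ω (Coh.HH C (Coh.structureModule C) 1) = 0 from hg)
      exact CurveReg.subsingleton_h1_closed Ω hdim.le hs (Scheme.IdealSheafData.vanishingIdeal ⟨E, isClosed_of_mem_irreducibleComponents E hE⟩).subschemeι
    refine ⟨hrat, ?_⟩
    obtain ⟨hfin, hgen⟩ := key hrat
    rw [hg, Nat.cast_zero, zero_add] at hgen
    rw [← hfin.cast_ncard_eq, hcard]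
    exact_mod_cast hgen.symm
  · rintro ⟨hrat, hN⟩
    obtain ⟨hfin, hgen⟩ := key hrat
    rw [← hfin.cast_ncard_eq, hcard] at hN
    have hN' : {x : C | Curv2.IsNode Ω C x}.ncard + 1 = Fintype.card (irreducibleComponents (C : Type u)) := by
      exact_mod_cast hN
    omega

end Groth.Agent.S17258
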