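import Groth.Statements.S1726
import Groth.Agent.S2669
import Groth.Agent.LC.FiniteCrit
import Groth.Agent.DimFormula.Basic
import Groth.Agent.DimFormula.Scheme
import Groth.Agent.FlatLoc6.NormFlat

set_option autoImplicit false
universe u
open LocCoh

namespace Groth.Agent.S1726

/-- Let A → B be a finite homomorphism of Noetherian rings with A universally catenary, I an ideal of A
and M a finite B-module. Then s_{B, IB}(M) = s_{A, I}(M), where M is regarded as an A-module by
restriction of scalars. -/
theorem result (A B : Type u) [CommRing A] [CommRing B] [Algebra A B] [IsNoetherianRing A] [IsNoetherianRing B] [Module.Finite A B] (hA : CAlg.IsUniversallyCatenary A) (I : Ideal A) (M : Type u) [AddCommGroup M] [Module B M] [Module A M] [IsScalarTower A B M] [Module.Finite B M] : Dual2.cutoff B (I.map (algebraMap A B)) M = Dual2.cutoff A I M := by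
  classical
  refine le_antisymm ?_ ?_
  · refine le_iInf fun p => le_iInf fun q => le_iInf fun h => le_iInf fun hp => le_iInf fun hq => ?_
    haveI : Module.Finite A M := Module.Finite.trans B M
    rw [(Groth.Agent.S2669.result A B M p.asIdeal).2]
    set S := {P : PrimeSpectrum B | P.asIdeal.comap (algebraMap A B) = p.asIdeal ∧ P ∈ Module.support B M}
    rcases S.eq_empty_or_nonempty with hS | hS
    · simp [hS]
    let f : PrimeSpectrum B → ℕ∞ := fun P =>
      LocCoh.depth (Localization.AtPrime P.asIdeal) (LocalizedModule P.asIdeal.primeCompl M)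
    obtain ⟨P, hPS, hPeq⟩ := csInf_mem (hS.image f)
    have hmin : ∀ R ∈ S, f P ≤ f R := fun R hR => hPeq.le.trans (sInf_le ⟨R, hR, rfl⟩)
    refine le_trans ?_ (add_le_add (le_iInf₂ hmin) le_rfl)
    obtain ⟨hPp, -⟩ := hPS
    obtain ⟨Q', hPQ, hQp, hQc⟩ := Ideal.exists_ideal_over_prime_of_isIntegral q.asIdeal P.asIdeal
      (hPp.le.trans h)
    let Q : PrimeSpectrum B := ⟨Q', hQp⟩
    refine le_trans (iInf_le_of_le P (iInf_le_of_le Q (iInf_le_of_le hPQ (iInf_le_of_le
      (fun hI => hp (le_trans (Ideal.map_le_iff_le_comap.1 hI) hPp.le))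
      (iInf_le _ (Ideal.map_le_iff_le_comap.2 (hq.trans hQc.ge))))))) (add_le_add le_rfl ?_)
    have hc : ∀ x : Set.Ici P, p ≤ PrimeSpectrum.comap (algebraMap A B) x.1 := fun x =>
      le_trans (le_of_eq (PrimeSpectrum.ext hPp.symm : p = PrimeSpectrum.comap (algebraMap A B) P)) (Ideal.comap_mono x.2)
    have hmono : StrictMono fun x : Set.Ici P =>
        (⟨PrimeSpectrum.comap (algebraMap A B) x.1, hc x⟩ : Set.Ici p) :=
      fun x y hxy => Ideal.IsIntegral.comap_lt_comap (R := A) (hxy : x.1.asIdeal < y.1.asIdeal)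
    refine (Order.height_le_height_apply_of_strictMono _ hmono _).trans_eq ?_
    congr 1
    exact Subtype.ext (PrimeSpectrum.ext hQc)
  · refine le_iInf fun P => le_iInf fun Q => le_iInf fun h => le_iInf fun hP => le_iInf fun hQ => ?_
    let p := PrimeSpectrum.comap (algebraMap A B) P
    let q := PrimeSpectrum.comap (algebraMap A B) Q
    have hpq : p ≤ q := Ideal.comap_mono h
    refine le_trans (iInf_le_of_le p (iInf_le_of_le q (iInf_le_of_le hpq (iInf_le_of_le
      (fun hI => hP (Ideal.map_le_iff_le_comap.2 hI))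
      (iInf_le _ (Ideal.map_le_iff_le_comap.1 hQ)))))) (add_le_add ?_ ?_)
    · haveI : Module.Finite A M := Module.Finite.trans B M
      rw [(Groth.Agent.S2669.result A B M p.asIdeal).2]
      by_cases hs : P ∈ Module.support B M
      · exact iInf₂_le (f := fun (P : PrimeSpectrum B) _ =>
          LocCoh.depth (Localization.AtPrime P.asIdeal) (LocalizedModule P.asIdeal.primeCompl M)) P ⟨rfl, hs⟩
      · haveI : Subsingleton (LocalizedModule P.asIdeal.primeCompl M) :=
          Module.notMem_support_iff.1 hs
        rw [Groth.Agent.FlatLoc6.depth_top_of_subsingleton]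
        exact le_top
    · rw [Groth.Agent.LC.height_Ici_eq p q hpq, Groth.Agent.LC.height_Ici_eq P Q h]
      haveI : P.asIdeal.LiesOver p.asIdeal := ⟨rfl⟩
      haveI hQp : (Q.asIdeal.map (Ideal.Quotient.mk P.asIdeal)).IsPrime :=
        Ideal.map_isPrime_of_surjective Ideal.Quotient.mk_surjective (by rw [Ideal.mk_ker]; exact h)
      haveI hqp : (q.asIdeal.map (Ideal.Quotient.mk p.asIdeal)).IsPrime :=
        Ideal.map_isPrime_of_surjective Ideal.Quotient.mk_surjective (by rw [Ideal.mk_ker]; exact hpq)
      haveI : Module.Finite (A ⧸ p.asIdeal) (B ⧸ P.asIdeal) :=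
        Module.Finite.of_restrictScalars_finite A _ _
      haveI : FaithfulSMul (A ⧸ p.asIdeal) (B ⧸ P.asIdeal) := inferInstance
      have hfd : ∀ (R : Ideal (B ⧸ P.asIdeal)) [R.IsPrime],
          Groth.Agent.DimFormula.fd (A ⧸ p.asIdeal) R = 0 := by
        intro R _
        unfold Groth.Agent.DimFormula.fd
        set F := (R.under (A ⧸ p.asIdeal)).Fiber ((B ⧸ P.asIdeal) ⧸ R)
        haveI : IsArtinianRing F := IsArtinianRing.of_finite (R.under (A ⧸ p.asIdeal)).ResidueField F
        haveI : Ring.KrullDimLE 0 F :=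
          ((isArtinianRing_iff_isNoetherianRing_krullDimLE_zero (R := F)).1 inferInstance).2
        rcases subsingleton_or_nontrivial F with hF | hF
        · rw [ringKrullDim_eq_bot_of_subsingleton]; rfl
        · rw [ringKrullDimZero_iff_ringKrullDim_eq_zero.1 inferInstance]; rfl
      have hucat : CAlg.IsUniversallyCatenary (Localization.AtPrime
          ((Q.asIdeal.map (Ideal.Quotient.mk P.asIdeal)).under (A ⧸ p.asIdeal))) :=
        Groth.Agent.DimFormula.isUniversallyCatenary_localization
          (Groth.Agent.DimFormula.isUniversallyCatenary_of_surjective hA (Ideal.Quotient.mk p.asIdeal)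
            Ideal.Quotient.mk_surjective)
          ((Q.asIdeal.map (Ideal.Quotient.mk P.asIdeal)).under (A ⧸ p.asIdeal)).primeCompl _
      have e := (Groth.Agent.DimFormula.dimension_formula (A ⧸ p.asIdeal)
        (⟨Q.asIdeal.map (Ideal.Quotient.mk P.asIdeal), hQp⟩ : PrimeSpectrum (B ⧸ P.asIdeal))).2 hucat
      rw [hfd, hfd] at e
      simp only [Nat.cast_zero, add_zero] at e
      have e2 : PrimeSpectrum.comap (algebraMap (A ⧸ p.asIdeal) (B ⧸ P.asIdeal))
          ⟨Q.asIdeal.map (Ideal.Quotient.mk P.asIdeal), hQp⟩ = ⟨q.asIdeal.map (Ideal.Quotient.mk p.asIdeal), hqp⟩ := by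
        apply PrimeSpectrum.comap_injective_of_surjective (Ideal.Quotient.mk p.asIdeal)
          Ideal.Quotient.mk_surjective
        refine PrimeSpectrum.ext ?_
        show ((Q.asIdeal.map (Ideal.Quotient.mk P.asIdeal)).comap (algebraMap _ _)).comap _ =
          (q.asIdeal.map (Ideal.Quotient.mk p.asIdeal)).comap _
        rw [Ideal.comap_map_mk (show p.asIdeal ≤ q.asIdeal from hpq), Ideal.comap_comap]
        show _ = Q.asIdeal.comap (algebraMap A B)
        conv_rhs => rw [← Ideal.comap_map_mk (show P.asIdeal ≤ Q.asIdeal from h), Ideal.comap_comap]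
        rfl
      rw [e2] at e
      exact (PrimeSpectrum.height_eq_orderHeight ⟨_, hqp⟩).trans_le
        (e.ge.trans (PrimeSpectrum.height_eq_orderHeight ⟨_, hQp⟩).ge)

end Groth.Agent.S1726
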