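import Groth.Statements.S17262
import Groth.Agent.CanonDual.DualGraph
import Groth.Agent.CanonDual.H1Crit
import Groth.Agent.CanonDual.CurveOne
import Groth.Agent.CanonDual.SemistableCrit
import Groth.Agent.CanonDual.Nodal
import Groth.Agent.CurveReg.Nef
import Groth.Agent.SheafHomX.Main
import Groth.Agent.KZ.QuasiProj
-- import your own Groth.Agent.* helpers here

set_option autoImplicit false
set_option linter.style.haveILetI false
set_option backward.isDefEq.respectTransparency false
set_option backward.isDefEq.respectTransparency.types false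
set_option maxHeartbeats 1000000
universe u
open CategoryTheory CategoryTheory.Limits AlgebraicGeometry
attribute [local instance] HasDerivedCategory.standard
open Curves

namespace Groth.Agent.S17262

/-- Let Ω be an algebraically closed field of characteristic zero and C a scheme proper over Ω which is
connected, of dimension one, at-worst-nodal, with vanishing first cohomology of the structure sheaf,
and with at most three nodes. Let ω be the dualizing module of C over Ω (via the upper-shriek
functor, whose existence is assumed) and ω' an O_C-module with ω' ⊗ ω ≅ O_C. Then ω ⊗ ω has no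
nonzero global sections, the first cohomology of ω' vanishes, and the global sections of ω' form a
three-dimensional Ω-vector space. (The source states that for a family of such curves with at most
three nodes in each fibre the direct image of the inverse of the relative dualizing sheaf is locally
free of rank three and commutes with base change; this row is the statement on each geometric fibre
from which that follows. The published statement is over the complex numbers; it is stated here over
any algebraically closed field of characteristic zero.) -/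
theorem result (Ω : Type u) [Field Ω] [IsAlgClosed Ω] [CharZero Ω]
    (C : Scheme.{u}) [C.Over (Spec (CommRingCat.of Ω))] [IsProper (C ↘ Spec (CommRingCat.of Ω))] [ConnectedSpace ↥C]
    (hdim : topologicalKrullDim ↥C = 1) (hnod : Curv2.AtWorstNodal Ω C) (hg : Curv2.genus Ω C = 0)
    (h3 : {x : ↥C | Curv2.IsNode Ω C x}.encard ≤ 3)
    [DCoh.HasRpush (C ↘ Spec (CommRingCat.of Ω))] (h : DCoh.RpushPreservesQCoh (C ↘ Spec (CommRingCat.of Ω))) [DCoh.HasShriek (C ↘ Spec (CommRingCat.of Ω)) h]
    (OY : DCoh.DQCoh (Spec (CommRingCat.of Ω))) (hOY : Nonempty (OY.obj ≅ DCoh.inD (Spec (CommRingCat.of Ω)) (Coh.structureModule (Spec (CommRingCat.of Ω)))))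
    (ωd : C.Modules) (hωd : ClSub.IsInverseOf ωd (DCoh.dualizingMod (C ↘ Spec (CommRingCat.of Ω)) h OY 1)) :
    Subsingleton (Coh.HH C (CohB1.tensorPow (DCoh.dualizingMod (C ↘ Spec (CommRingCat.of Ω)) h OY 1) 2) 0) ∧
      Subsingleton (Coh.HH C ωd 1) ∧ Module.finrank Ω (Coh.HH C ωd 0) = 3 := by
  haveI := CurveCohLib.isNoetherian_of_proper (k := Ω) (X := C)
  haveI := CanonDual.isReduced_of_nodal Ω hdim.le hnod
  have h0 := SurfRR.finrank_h0_reduced Ω (X := C)
  have hXc := CanonDual.closedDimOne_of_connected Ω hdim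
  have hdual := CanonDual.exists_isRDualOver_dualizingMod h OY hOY (d := 1)
    (fun M hM q hq => CanonDual.subsingleton_HH_curve Ω hdim.le hM hq)
  generalize DCoh.dualizingMod (C ↘ Spec (CommRingCat.of Ω)) h OY 1 = ω at hωd hdual ⊢
  obtain ⟨tr, hω⟩ := hdual
  have hinvω := CanonDual.isInvertible_dualizing_nodal hdim h0 hnod hω
  obtain ⟨e⟩ := hωd
  have hdinv : PicF.IsInvertible ωd := by
    obtain ⟨D, hD, ⟨d⟩⟩ := H23.PicInv.exists_inverse hinvω
    obtain ⟨a⟩ := H23.PicMul.assoc ωd ω D
    obtain ⟨u⟩ := H23.PicMul.unit ωd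
    obtain ⟨u'⟩ := H23.PicMul.unit D
    obtain ⟨c'⟩ := H23.PicMul.comm (Coh.structureModule C) D
    exact H23.PicMul.isInvertible_of_iso
      (u'.symm ≪≫ c'.symm ≪≫ PicGrp.tensorModIso e.symm (Iso.refl D) ≪≫ a ≪≫
        PicGrp.tensorModIso (Iso.refl ωd) d ≪≫ u) hD
  have hg' : Module.finrank Ω (Coh.HH C (Coh.structureModule C) 1) = 0 := hg
  have hχ : Curv2.euler Ω C (Coh.structureModule C) = 1 := by
    rw [CanonDual.euler_two hdim.le QCoh.isQCoh_structureModule, h0, hg']
    rfl
  have hdsum : Curv2.deg Ω C ωd 1 + Curv2.deg Ω C ω 1 = 0 := by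
    rw [← CanonDual.deg_tensorMod hdim.le hdinv hinvω]
    unfold Curv2.deg
    rw [Euler.euler_congr Ω e]
    simp
  have hdω : Curv2.deg Ω C ω 1 = -2 := by
    unfold Curv2.deg
    rw [CanonDual.euler_dualizing hdim (CanonDual.cm_of_h0 hdim h0) hω, hχ]
    norm_num
  have h1 : Subsingleton (Coh.HH C ωd 1) := by
    refine CanonDual.subsingleton_H1_of_subcurves (k := Ω) hdim hXc hdinv fun J h₁ h₂ h₃ => ?_
    haveI := h₁
    haveI := h₂
    letI : J.subscheme.Over (Spec (CommRingCat.of Ω)) := ⟨J.subschemeι ≫ (C ↘ Spec (CommRingCat.of Ω))⟩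
    haveI : IsProper (J.subscheme ↘ Spec (CommRingCat.of Ω)) :=
      inferInstanceAs (IsProper (J.subschemeι ≫ (C ↘ Spec (CommRingCat.of Ω))))
    obtain ⟨hdJ, -⟩ := CanonDual.deg_dualizing_subcurve hdim hω hinvω J h₃
    obtain ⟨eJ⟩ := H23.PicMul.pull J.subschemeι ωd ω
    obtain ⟨eO⟩ := PicClLib.nonempty_pullback_structureModule J.subschemeι
    have hsum : Curv2.deg Ω J.subscheme ((Scheme.Modules.pullback J.subschemeι).obj ωd) 1 +
        Curv2.deg Ω J.subscheme ((Scheme.Modules.pullback J.subschemeι).obj ω) 1 = 0 := by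
      rw [← CanonDual.deg_tensorMod h₃.le (PicClLib.isInvertible_pullback _ hdinv) (PicClLib.isInvertible_pullback _ hinvω)]
      unfold Curv2.deg
      rw [← Euler.euler_congr Ω eJ, Euler.euler_congr Ω ((Scheme.Modules.pullback J.subschemeι).mapIso e ≪≫ eO)]
      simp
    rw [hdJ, CanonDual.finrank_inter_eq hdim hnod J h₃] at hsum
    have hJχ : (1 : ℤ) ≤ Curv2.euler Ω J.subscheme (Coh.structureModule J.subscheme) := by
      haveI := CurveCohLib.finite_HH (k := Ω) (QCoh.isCoh_structureModule' (X := C)) 1
      haveI : Subsingleton (Coh.HH C (Coh.structureModule C) 1) := Module.finrank_zero_iff.1 hg'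
      haveI := CurveReg.subsingleton_h1_closed Ω hdim.le (by assumption) J.subschemeι
      rw [CanonDual.euler_two h₃.le QCoh.isQCoh_structureModule, SurfRR.finrank_h0_reduced Ω,
        Module.finrank_zero_of_subsingleton]
      simp
    have hnodes : ((J.support : Set C) ∩ closure ((J.support : Set C)ᶜ)).ncard ≤ 3 := by
      have hfin : {x : ↥C | Curv2.IsNode Ω C x}.Finite := Set.finite_of_encard_le_coe h3
      have hle : {x : ↥C | Curv2.IsNode Ω C x}.ncard ≤ 3 := by
        have := h3
        rw [← hfin.cast_ncard_eq] at this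
        exact_mod_cast this
      refine le_trans (Set.ncard_le_ncard ?_ hfin) hle
      rintro x ⟨hxJ, hxc⟩
      have hJc := CanonDual.closedDimOne_of_connected Ω h₃
      obtain ⟨x', rfl⟩ : x ∈ Set.range J.subschemeι := by rwa [J.range_subschemeι]
      have hxcl := CanonDual.isClosed_of_mem_inter (k := Ω) hXc J hxJ hxc
      refine (hnod _ hxcl).resolve_left fun ⟨U, hxU, hU⟩ => ?_
      have hsm := CanonDual.mem_smoothLocus_of_nhd Ω hxU hU
      obtain ⟨g, hg1, hmax⟩ := VarDim.exists_maximal_generalization (J.subscheme ↘ Spec (CommRingCat.of Ω)) x'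
      have hd := (Proj16.closedDimOne_iff_deg (J.subscheme ↘ Spec (CommRingCat.of Ω))).1 hJc g
        (CanonDual.isMaximal_of_generic (VarDim.closure_mem_irreducibleComponents hmax))
      have hncl : ¬ IsClosed ({J.subschemeι g} : Set C) := fun hcl => by
        have hcl' : IsClosed ({g} : Set J.subscheme) := by
          have := hcl.preimage J.subschemeι.continuous
          rwa [show J.subschemeι ⁻¹' {J.subschemeι g} = ({g} : Set J.subscheme) from by
            ext y; exact J.subschemeι.isEmbedding.injective.eq_iff] at this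
        rw [(VarDim.closedPoint_iff_deg_eq_zero (J.subscheme ↘ Spec (CommRingCat.of Ω)) g).1 hcl'] at hd
        exact zero_ne_one hd
      obtain ⟨T, hT, hsub⟩ := exists_mem_irreducibleComponents_subset_of_isIrreducible _
        (isIrreducible_singleton (x := J.subschemeι g)).closure
      obtain ⟨η, hη⟩ := QuasiSober.sober hT.1 (isClosed_of_mem_irreducibleComponents T hT)
      have hηg : η = J.subschemeι g := by
        by_contra hne
        exact hncl (CurvePsi.isClosed_of_dim_le_one hdim.le (hη.specializes (hsub (subset_closure rfl))) (Ne.symm hne))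
      have hTJ : T ⊆ (J.support : Set C) := by
        rw [← hη.def, hηg]
        exact closure_minimal (Set.singleton_subset_iff.2 (J.range_subschemeι ▸ Set.mem_range_self g)) J.support.isClosed
      have hxT : J.subschemeι x' ∈ T := by
        rw [← hη.def, hηg]
        exact (hg1.map J.subschemeι.continuous).mem_closure
      have hsub' : closure ((J.support : Set C)ᶜ) ⊆ ⋃₀ {Z ∈ irreducibleComponents (C : Type u) | ¬ Z ⊆ (J.support : Set C)} := by
        refine closure_minimal (fun y hy => ⟨irreducibleComponent y,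
          ⟨irreducibleComponent_mem_irreducibleComponents y, fun hh => hy (hh mem_irreducibleComponent)⟩, mem_irreducibleComponent⟩) ?_
        rw [Set.sUnion_eq_biUnion]
        exact (TopologicalSpace.NoetherianSpace.finite_irreducibleComponents.subset fun Z hZ => hZ.1).isClosed_biUnion
          fun Z hZ => isClosed_of_mem_irreducibleComponents Z hZ.1
      obtain ⟨Z, ⟨hZ, hZJ⟩, hxZ⟩ := hsub' hxc
      exact hZJ (CanonDual.unique_component_of_mem_smoothLocus Ω hsm hZ hT hxZ hxT ▸ hTJ)
    omega
  have hfin : Module.finrank Ω (Coh.HH C ωd 0) = 3 := by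
    have := CanonDual.euler_two (k := Ω) hdim.le (QCoh.isQCoh_of_isFinLocFree (KZ.QuasiProj.flf_of_invertible hdinv))
    unfold Curv2.deg at hdsum hdω
    rw [this, Module.finrank_zero_of_subsingleton (M := Coh.HH C ωd 1)] at hdsum
    rw [hχ] at hdsum hdω
    push_cast at hdsum hdω
    omega
  refine ⟨?_, h1, hfin⟩
  have hzero : Subsingleton (ωd ⟶ ω) := (CanonDual.subsingleton_hom_iff hω
    (QCoh.isQCoh_of_isFinLocFree (KZ.QuasiProj.flf_of_invertible hdinv))).2 h1
  refine subsingleton_of_forall_eq 0 fun z => ?_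
  obtain ⟨s, rfl⟩ := SheafHomX.cls_surjective z
  haveI : (SheafHomX.ten ωd).IsEquivalence := AmpleVan.isEquivalence_tw hdinv
  obtain ⟨c⟩ := H23.PicMul.comm ω ωd
  obtain ⟨u⟩ := H23.PicMul.unit ω
  obtain ⟨a⟩ := H23.PicMul.assoc ω ω ωd
  let q : CohB1.tensorMod (CohB1.tensorPow ω 2) ωd ≅ ω :=
    PicGrp.tensorModIso (PicGrp.tensorModIso (SheafHomX.tenUnitIso ω) (Iso.refl ω)) (Iso.refl ωd) ≪≫ a ≪≫
      PicGrp.tensorModIso (Iso.refl ω) (c ≪≫ e) ≪≫ u
  let φ : ωd ⟶ ω := (SheafHomX.tenUnitIso ωd).inv ≫ (SheafHomX.ten ωd).map s ≫ q.hom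
  have hφ : φ = 0 := Subsingleton.elim _ _
  have hs : (SheafHomX.ten ωd).map s = 0 := by
    rw [← cancel_epi (SheafHomX.tenUnitIso ωd).inv, ← cancel_mono q.hom, comp_zero, zero_comp, Category.assoc]
    exact hφ
  have : s = 0 := (SheafHomX.ten ωd).map_injective (hs.trans (Functor.map_zero _ _ _).symm)
  rw [this]
  exact map_zero (Sheaf.H.equiv₀ (Coh.toAb (CohB1.tensorPow ω 2)) Limits.isTerminalTop).symm

end Groth.Agent.S17262
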