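import Groth.Statements.S17277
import Groth.Agent.Big.Proper
import Groth.Agent.Lib.CurvePoint

set_option autoImplicit false
universe u
open CategoryTheory CategoryTheory.Limits AlgebraicGeometry TopologicalSpace
open Variety

attribute [-instance] CategoryTheory.catToReflQuiver

namespace Groth.Agent.S17277

open Groth.Agent Groth.Agent.H23.PicMul

/-- Let X be a proper scheme over a field k of dimension d and L an invertible O_X-module that is big:
there is a real constant c > 0 with dim_k H^0(X, L^{⊗n}) > c·n^d for all sufficiently large n. Then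
for every closed subscheme Z ⊆ X of dimension < d, with quasi-coherent ideal sheaf I_Z, there is an
integer m > 0 with H^0(X, I_Z ⊗ L^{⊗m}) ≠ 0. -/
theorem result (k : Type u) [Field k] (X : Scheme.{u})
    [X.Over (Spec (CommRingCat.of k))] [IsProper (X ↘ (Spec (CommRingCat.of k)))]
    (d : ℕ) (hdim : topologicalKrullDim X = d) (L : X.Modules) (hL : PicF.IsInvertible L)
    (hbig : ∃ c : ℝ, 0 < c ∧ ∀ᶠ n : ℕ in Filter.atTop,
      c * (n : ℝ) ^ d < (Module.finrank k (Coh.HH X (CohB1.tensorPow L n) 0) : ℝ))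
    (Z : X.IdealSheafData) (hZ : topologicalKrullDim (Z.support : Set X) < d) :
    ∃ m : ℕ, 0 < m ∧
      Nontrivial (Coh.HH X (CohB1.tensorMod (ClSub.idealMod Z) (CohB1.tensorPow L m)) 0) := by
  obtain ⟨c, hc, hev⟩ := hbig
  haveI := CurveCohLib.isNoetherian_of_proper (k := k) (X := X)
  have hQ : Coh.IsCoh (ClSub.quotMod Z) := QCoh.isCoh_push_structure Z.subschemeι
  have hsupp : CohB1.support (ClSub.quotMod Z) ⊆ Z.support := by
    refine (QCoh.support_push_subset Z.subschemeι QCoh.isQCoh_structureModule).trans ?_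
    rw [Z.range_subschemeι]
  obtain ⟨n, ⟨hn1, hn2⟩, hn0⟩ := ((hev.and (Big.eventually_h0_lt k hL hQ (T := Z.support) hsupp hZ hc)).and
    (Filter.eventually_ge_atTop 1)).exists
  refine ⟨n, hn0, ?_⟩
  have hLn := InvX.isInvertible_tensorPow hL n
  have h := Big.h0_add_tw' k
    (S := ShortComplex.mk (ClSub.idealModι Z) (ClSub.toSubscheme Z) (kernel.condition _))
    (haveI := CurvePoint.epi_toSubscheme Z; haveI : Mono (ClSub.idealModι Z) := inferInstanceAs (Mono (kernel.ι _)); { exact := ShortComplex.exact_of_f_is_kernel _ (kernelIsKernel _), mono_f := inferInstance, epi_g := inferInstance }) hLn QCoh.isCoh_structureModule' hQ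
  have h3 : Big.h0 k (CohB1.tensorMod (Coh.structureModule X) (CohB1.tensorPow L n)) = Big.h0 k (CohB1.tensorPow L n) :=
    Big.h0_congr_cl k (by rw [cl_tensor, ← H23.PicMul.one_def, one_mul])
  simp only at h
  rw [h3] at h
  have h4 : (Big.h0 k (CohB1.tensorPow L n) : ℝ) ≤
      (Big.h0 k (CohB1.tensorMod (ClSub.idealMod Z) (CohB1.tensorPow L n)) : ℝ) +
      (Big.h0 k (CohB1.tensorMod (ClSub.quotMod Z) (CohB1.tensorPow L n)) : ℝ) := by exact_mod_cast h
  have hn1' : c * (n : ℝ) ^ d < (Big.h0 k (CohB1.tensorPow L n) : ℝ) := hn1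
  have hpos : (0 : ℝ) < (Big.h0 k (CohB1.tensorMod (ClSub.idealMod Z) (CohB1.tensorPow L n)) : ℝ) := by linarith
  exact Module.nontrivial_of_finrank_pos (R := k) (Nat.cast_pos.1 hpos)

end Groth.Agent.S17277
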