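import Groth.Statements.S17278
import Groth.Agent.Big.Volume

set_option autoImplicit false
universe u
open CategoryTheory CategoryTheory.Limits AlgebraicGeometry TopologicalSpace
open Variety

attribute [-instance] CategoryTheory.catToReflQuiver

namespace Groth.Agent.S17278

open Groth.Agent Groth.Agent.H23.PicMul

/-- Let X be a projective variety over a field k (an integral scheme, proper over k, carrying an ample
invertible module A₀) of dimension d, and L an invertible O_X-module. Then L is big, meaning that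
for some real c > 0 one has dim_k H^0(X, L^{⊗n}) > c·n^d for all sufficiently large n, if and only
if for every ample invertible O_X-module A, with a tensor inverse A' (A' ⊗ A ≅ O_X), there is an
integer m > 0 with H^0(X, A' ⊗ L^{⊗m}) ≠ 0. -/
theorem result (k : Type u) [Field k]
    (X : Scheme.{u}) [X.Over (Spec (CommRingCat.of k))] [IsProper (X ↘ (Spec (CommRingCat.of k)))] [IsIntegral X]
    (A₀ : X.Modules) (hA₀ : CohB1.IsAmple A₀)
    (d : ℕ) (hdim : topologicalKrullDim X = d) (L : X.Modules) (hL : PicF.IsInvertible L) :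
    (∃ c : ℝ, 0 < c ∧ ∀ᶠ n : ℕ in Filter.atTop,
        c * (n : ℝ) ^ d < (Module.finrank k (Coh.HH X (CohB1.tensorPow L n) 0) : ℝ)) ↔
      ∀ (A A' : X.Modules), CohB1.IsAmple A → ClSub.IsInverseOf A' A →
        ∃ m : ℕ, 0 < m ∧ Nontrivial (Coh.HH X (CohB1.tensorMod A' (CohB1.tensorPow L m)) 0) := by
  haveI := CurveCohLib.isNoetherian_of_proper (k := k) (X := X)
  constructor
  · rintro ⟨c, hc, hev⟩ A A' hA hA'
    obtain ⟨n₀, hn₀⟩ := Filter.eventually_atTop.1 hev
    obtain ⟨ν, B, φ, hν, hB, hφ⟩ := Big.exists_ample_mono k hdim hA₀ hL fun e he C => by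
      subst he
      obtain ⟨M, hM⟩ := exists_nat_gt ((C : ℝ) * 2 ^ e / c)
      refine ⟨max M (max n₀ 1), ?_⟩
      set m := max M (max n₀ 1) with hmdef
      have hm1 : 1 ≤ m := (le_max_right n₀ 1).trans (le_max_right M _)
      have h1 := hn₀ m ((le_max_left n₀ 1).trans (le_max_right M _))
      by_contra hle
      rw [not_lt] at hle
      have h2 : (Big.h0 k (CohB1.tensorPow L m) : ℝ) ≤ (C : ℝ) * 2 ^ e * (m : ℝ) ^ e := by
        have : Big.h0 k (CohB1.tensorPow L m) ≤ C * 2 ^ e * m ^ e := by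
          refine hle.trans ?_
          rw [mul_assoc, ← mul_pow]
          exact Nat.mul_le_mul_left C (Nat.pow_le_pow_left (by omega) e)
        exact_mod_cast this
      have h3 : c * (m : ℝ) * (m : ℝ) ^ e < (C : ℝ) * 2 ^ e * (m : ℝ) ^ e := by
        rw [mul_assoc, ← pow_succ']
        exact lt_of_lt_of_le h1 h2
      have h4 := lt_of_mul_lt_mul_right h3 (by positivity)
      rw [div_lt_iff₀ hc] at hM
      have h5 : (M : ℝ) ≤ m := by exact_mod_cast le_max_left M (max n₀ 1)
      nlinarith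
    haveI := hφ
    obtain ⟨D, hD, ⟨δ⟩⟩ := H23.PicInv.exists_inverse hA.1
    have hclA' : PicF.cl A' = PicF.cl D := by
      have e1 : PicF.cl A' * PicF.cl A = 1 := by rw [← cl_tensor, cl_eq_iff.2 hA', H23.PicMul.one_def]
      have e2 : PicF.cl A * PicF.cl D = 1 := by rw [← cl_tensor, cl_eq_iff.2 ⟨δ⟩, H23.PicMul.one_def]
      rw [← mul_one (PicF.cl A'), ← e2, ← mul_assoc, e1, one_mul]
    obtain ⟨a, ha, s, hs⟩ := Big.exists_section_twist k hdim.le hB hD
    refine ⟨ν * a, Nat.mul_pos hν ha, ?_⟩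
    apply Module.nontrivial_of_finrank_pos (R := k)
    have h1 : 0 < Big.h0 k (CohB1.tensorMod D (CohB1.tensorPow B a)) := by
      have hDB := InvX.isInvertible_tensorMod hD (InvX.isInvertible_tensorPow hB.1 a)
      haveI : Mono s := InvEnd.mono_of_ne_zero CurveDeg.isInvertible_structureModule hDB s hs
      refine lt_of_lt_of_le ?_ (Big.h0_le_of_mono k s (AmpleVan.isCoh_invertible hDB))
      haveI := CurveCohLib.finite_HH (k := k) (QCoh.isCoh_structureModule' (X := X)) 0
      haveI : Nontrivial (Coh.HH X (Coh.structureModule X) 0) :=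
        ⟨⟨(Sheaf.H.equiv₀ (Coh.toAb (Coh.structureModule X)) isTerminalTop).symm (1 : Γ(X, ⊤)), 0, fun h =>
          one_ne_zero (α := Γ(X, ⊤)) (((Sheaf.H.equiv₀ (Coh.toAb (Coh.structureModule X)) isTerminalTop).symm.injective
            (h.trans (map_zero _).symm)))⟩⟩
      exact Module.finrank_pos
    refine lt_of_lt_of_le h1 ((Big.h0_le_pow_twist k hB.1 hL hD φ a).trans (le_of_eq (Big.h0_congr_cl k ?_)))
    rw [cl_tensor, cl_tensor, hclA']
  · intro h
    obtain ⟨D, hD, ⟨δ⟩⟩ := H23.PicInv.exists_inverse hA₀.1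
    obtain ⟨c'⟩ := H23.PicMul.comm D A₀
    obtain ⟨m, hm, hnt⟩ := h A₀ D hA₀ ⟨c' ≪≫ δ⟩
    have hLm := InvX.isInvertible_tensorPow hL m
    have hDL := InvX.isInvertible_tensorMod hD hLm
    haveI := CurveCohLib.finite_HH (k := k) (AmpleVan.isCoh_invertible hDL) 0
    haveI := hnt
    obtain ⟨s, hs⟩ := Big.exists_hom_of_h0_pos k (M := CohB1.tensorMod D (CohB1.tensorPow L m)) Module.finrank_pos
    haveI : Mono s := InvEnd.mono_of_ne_zero CurveDeg.isInvertible_structureModule hDL s hs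
    haveI := Big.mono_tw hA₀.1 s
    obtain ⟨α⟩ : Nonempty (A₀ ≅ (AmpleVan.tw A₀).obj (Coh.structureModule X)) := cl_eq_iff.1 (by
      show _ = PicF.cl (CohB1.tensorMod _ _)
      rw [cl_tensor, Big.one_mul_cl])
    obtain ⟨β⟩ : Nonempty ((AmpleVan.tw A₀).obj (CohB1.tensorMod D (CohB1.tensorPow L m)) ≅ CohB1.tensorPow L m) :=
      cl_eq_iff.1 (by
        show PicF.cl (CohB1.tensorMod _ _) = _
        rw [cl_tensor, cl_tensor, mul_comm, ← mul_assoc, ← cl_tensor, cl_eq_iff.2 ⟨δ⟩, Big.one_mul_cl])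
    obtain ⟨c, hc, n₀, hn⟩ := Big.exists_lower_all k hdim hA₀ hL hm (α.hom ≫ (AmpleVan.tw A₀).map s ≫ β.hom)
    refine ⟨((c / 2 : ℚ) : ℝ), by exact_mod_cast half_pos hc, Filter.eventually_atTop.2 ⟨max n₀ 1, fun n hn' => ?_⟩⟩
    have hn1 : 1 ≤ n := (le_max_right n₀ 1).trans hn'
    have h2 := hn n ((le_max_left n₀ 1).trans hn')
    have h3 : c / 2 * (n : ℚ) ^ d < (Big.h0 k (CohB1.tensorPow L n) : ℚ) := by
      have : (0 : ℚ) < c * (n : ℚ) ^ d := mul_pos hc (pow_pos (by exact_mod_cast hn1) d)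
      linarith
    have h4 : ((c / 2 * (n : ℚ) ^ d : ℚ) : ℝ) < ((Big.h0 k (CohB1.tensorPow L n) : ℚ) : ℝ) := Rat.cast_lt.2 h3
    push_cast at h4 ⊢
    exact h4

end Groth.Agent.S17278
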