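import Groth.Statements.S17285
import Groth.Agent.Big.Proper

set_option autoImplicit false
universe u
open CategoryTheory CategoryTheory.Limits AlgebraicGeometry TopologicalSpace
open Variety

attribute [-instance] CategoryTheory.catToReflQuiver

namespace Groth.Agent.S17285

open Groth.Agent Groth.Agent.H23.PicMul

/-- Let X and Y be proper varieties over a field k (integral schemes, proper over k) of the same
dimension d, f : Y → X a birational k-morphism (generic point to generic point, with a single point
in that fibre and the same residue field there), and L an invertible O_X-module. Then L is big,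
meaning that some real c > 0 has dim_k H^0(X, L^{⊗n}) > c·n^d for all sufficiently large n, if and
only if f^*L is big on Y in the same sense. (The source states this for birational morphisms of
proper schemes over k; it is stated here for integral X and Y, the case in which the printed
argument's injectivity of O_X → f_*O_Y holds.) -/
theorem result (k : Type u) [Field k] (X Y : Scheme.{u})
    [X.Over (Spec (CommRingCat.of k))] [IsProper (X ↘ (Spec (CommRingCat.of k)))] [IsIntegral X]
    [Y.Over (Spec (CommRingCat.of k))] [IsProper (Y ↘ (Spec (CommRingCat.of k)))] [IsIntegral Y]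
    (f : Y ⟶ X) (hf : f ≫ (X ↘ (Spec (CommRingCat.of k))) = Y ↘ (Spec (CommRingCat.of k))) (hbir : RadPt.IsBirational f)
    (d : ℕ) (hdimX : topologicalKrullDim X = d) (hdimY : topologicalKrullDim Y = d)
    (L : X.Modules) (hL : PicF.IsInvertible L) :
    (∃ c : ℝ, 0 < c ∧ ∀ᶠ n : ℕ in Filter.atTop,
        c * (n : ℝ) ^ d < (Module.finrank k (Coh.HH X (CohB1.tensorPow L n) 0) : ℝ)) ↔
      (∃ c : ℝ, 0 < c ∧ ∀ᶠ n : ℕ in Filter.atTop,
        c * (n : ℝ) ^ d < (Module.finrank k (Coh.HH Y (CohB1.tensorPow ((Scheme.Modules.pullback f).obj L) n) 0) : ℝ)) := by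
  haveI := CurveCohLib.isNoetherian_of_proper (k := k) (X := X)
  have hgen : ∀ (W : Scheme.{u}) [IsIntegral W] (z : W), z ∈ genericPoints W ↔ z = genericPoint W := fun W _ z => by
    constructor
    · intro hz
      have h : closure ({z} : Set W) = Set.univ := by
        have h' : closure ({z} : Set W) ∈ irreducibleComponents W := hz
        rw [irreducibleComponents_eq_singleton] at h'
        exact h'
      exact ((genericPoint_spec W).eq (isGenericPoint_def.2 h)).symm
    · rintro rfl
      show closure ({genericPoint W} : Set W) ∈ irreducibleComponents W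
      rw [irreducibleComponents_eq_singleton, (genericPoint_spec W).def]
      rfl
  obtain ⟨hbij, hfibre⟩ := hbir
  have hη : f (genericPoint Y) = genericPoint X := (hgen X _).1 (hbij.mapsTo ((hgen Y _).2 rfl))
  obtain ⟨huniq, hres⟩ := hfibre _ ((hgen X _).2 rfl)
  have hfib : ∀ y, f y = genericPoint X → y = genericPoint Y := fun y hy => huniq y _ hy hη
  have hdeg : f.residueDegree (genericPoint Y) = 1 := by
    letI := (f.residueFieldMap (genericPoint Y)).hom.toAlgebra
    show Module.finrank (X.residueField (f (genericPoint Y))) (Y.residueField (genericPoint Y)) = 1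
    exact (LinearEquiv.ofBijective (Algebra.linearMap _ _) (hres _ hη)).finrank_eq.symm.trans (Module.finrank_self _)
  constructor
  · rintro ⟨c, hc, hev⟩
    refine ⟨c, hc, hev.mono fun n hn => lt_of_lt_of_le hn (Nat.cast_le.2 ?_)⟩
    have hLn := InvX.isInvertible_tensorPow hL n
    show Big.h0 k _ ≤ Big.h0 k _
    refine le_trans (le_of_eq (Big.h0_congr_cl k ?_)) ((Big.h0_le_pullback k f hf hη hLn).trans
      (le_of_eq (Big.h0_congr_cl k ?_)))
    · rw [cl_tensor, ← H23.PicMul.one_def, one_mul]
    · rw [cl_tensor, ← H23.PicMul.one_def, one_mul, cl_tensorPow]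
      show PicF.pullCl f (PicF.cl (CohB1.tensorPow L n)) = _
      rw [cl_tensorPow, pullCl_pow]
      rfl
  · rintro ⟨c, hc, hev⟩
    refine ⟨c / 2, half_pos hc, ?_⟩
    refine (hev.and (Big.eventually_pullback_le k f hf hη hfib hdeg hdimX hL (half_pos hc))).mono fun n hn => ?_
    obtain ⟨h1, h2⟩ := hn
    have h1' : c * (n : ℝ) ^ d < (Big.h0 k (CohB1.tensorPow ((Scheme.Modules.pullback f).obj L) n) : ℝ) := h1
    show c / 2 * (n : ℝ) ^ d < (Big.h0 k (CohB1.tensorPow L n) : ℝ)
    linarith

end Groth.Agent.S17285
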