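import Groth.Statements.S1732
import Groth.Agent.LC.Matlis
import Groth.Agent.LC.InjNoeth
import Groth.Agent.PSLib.Basic
import Mathlib.LinearAlgebra.Basis.VectorSpace
import Mathlib.LinearAlgebra.DFinsupp

set_option autoImplicit false
universe u
open LocCoh

namespace Groth.Agent.S1732

/-- Let k be a field of characteristic zero, d ≥ 1, A = k[[x_1, …, x_d]] with maximal ideal m, and E an
injective hull of the residue field of A. Let M be an m-power torsion A-module equipped with
additive maps D_1, …, D_d such that D_i(f z) = θ_i(f) z + f D_i(z), where θ_i is the k-derivation of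
A with θ_i(x_j) = δ_ij (the partial derivative in x_i). Then M is, up to isomorphism, a direct sum
of copies of E. -/
theorem result (k : Type u) [Field k] [CharZero k] (d : ℕ) (hd : 1 ≤ d) (E : Type u) [AddCommGroup E] [Module (MvPowerSeries (Fin d) k) E] (e : IsLocalRing.ResidueField (MvPowerSeries (Fin d) k) →ₗ[MvPowerSeries (Fin d) k] E) (he : InjHull.IsInjectiveHull e) (θ : Fin d → Derivation k (MvPowerSeries (Fin d) k) (MvPowerSeries (Fin d) k)) (hθ : ∀ i j : Fin d, θ i (MvPowerSeries.X j) = if i = j then 1 else 0) (M : Type u) [AddCommGroup M] [Module (MvPowerSeries (Fin d) k) M] (hM : LocCoh.IsPowerTorsion (IsLocalRing.maximalIdeal (MvPowerSeries (Fin d) k)) M) (D : Fin d → M →+ M) (hD : ∀ (i : Fin d) (f : MvPowerSeries (Fin d) k) (z : M), D i (f • z) = θ i f • z + f • D i z) : ∃ J : Type u, Nonempty (M ≃ₗ[MvPowerSeries (Fin d) k] (J →₀ E)) := by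
  classical
  let A := MvPowerSeries (Fin d) k
  let x : Fin d → A := MvPowerSeries.X
  let m := IsLocalRing.maximalIdeal A
  haveI : IsNoetherianRing A := inferInstance
  have hm : m = Ideal.span (Set.range x) := by
    ext f
    rw [IsLocalRing.mem_maximalIdeal, mem_nonunits_iff, MvPowerSeries.isUnit_iff_constantCoeff,
      isUnit_iff_ne_zero, not_not]
    exact PSLib.mem_vars_iff.symm
  have hxm : ∀ i, x i ∈ m := fun i => hm ▸ Ideal.subset_span ⟨i, rfl⟩
  -- `K n z` : `z` is killed by the monomials of degree `n`
  let K : ℕ → M → Prop := fun n => Nat.rec (motive := fun _ => M → Prop) (fun z => z = 0)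
    (fun _ ih z => ∀ i, ih (x i • z)) n
  have K0 : ∀ z, K 0 z ↔ z = 0 := fun z => Iff.rfl
  have KS : ∀ n z, K (n + 1) z ↔ ∀ i, K n (x i • z) := fun n z => Iff.rfl
  have Kadd : ∀ n z w, K n z → K n w → K n (z + w) := fun n => by
    induction n with
    | zero => intro z w hz hw; rw [K0] at *; rw [hz, hw, add_zero]
    | succ n ih => intro z w hz hw; rw [KS] at *; intro i; rw [smul_add]; exact ih _ _ (hz i) (hw i)
  have Ksmul : ∀ n (a : A) z, K n z → K n (a • z) := fun n => by
    induction n with
    | zero => intro a z hz; rw [K0] at *; rw [hz, smul_zero]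
    | succ n ih => intro a z hz; rw [KS] at *; intro i; rw [smul_comm]; exact ih _ _ (hz i)
  have Ktors : ∀ (n : ℕ) (z : M), (∀ a ∈ m ^ n, a • z = 0) → K n z := fun n => by
    induction n with
    | zero => intro z hz; rw [K0, ← one_smul A z]; exact hz 1 (by simp)
    | succ n ih =>
      intro z hz
      rw [KS]
      refine fun i => ih _ fun a ha => ?_
      rw [smul_smul]
      exact hz _ (pow_succ m n ▸ Ideal.mul_mem_mul ha (hxm i))
  -- the Euler operator and its action on the graded pieces
  let Eu : M → M := fun z => ∑ j, x j • D j z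
  have hDx : ∀ i j z, x i • D j z = D j (x i • z) - if j = i then z else 0 := fun i j z => by
    rw [hD, hθ]
    split_ifs <;> simp [x]
  have hEx : ∀ i z, x i • Eu z = Eu (x i • z) - x i • z := fun i z => by
    simp only [Eu, Finset.smul_sum]
    rw [Finset.sum_congr rfl fun j _ => by rw [smul_comm, hDx i j z, smul_sub]]
    simp [Finset.sum_sub_distrib, smul_ite]
  have hEu : ∀ n z, K (n + 1) z → K n (Eu z + ((d + n : ℕ) : A) • z) := fun n => by
    induction n with
    | zero =>
      intro z hz
      rw [KS] at hz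
      simp only [K0] at hz ⊢
      simp only [Eu]
      rw [Finset.sum_congr rfl fun j _ => (hDx j j z).trans (by rw [hz j, map_zero, if_pos rfl, zero_sub]),
        Finset.sum_const, Finset.card_univ, Fintype.card_fin, add_zero, Nat.cast_smul_eq_nsmul, smul_neg,
        neg_add_cancel]
    | succ n ih =>
      intro z hz
      rw [KS]
      intro i
      have h1 := ih (x i • z) (((KS (n + 1) z).1 hz) i)
      convert h1 using 1
      rw [smul_add, hEx, smul_comm (x i)]
      push_cast
      rw [add_smul, add_smul, add_smul, one_smul]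
      abel
  -- integration of a compatible family
  have hint : ∀ n (w : Fin d → M), (∀ i, K n (w i)) → (∀ i j, x j • w i = x i • w j) → ∃ z, ∀ i, x i • z = w i := fun n => by
    induction n with
    | zero => exact fun w hw _ => ⟨0, fun i => by rw [smul_zero]; exact ((K0 _).1 (hw i)).symm⟩
    | succ n ih =>
      intro w hw hc
      let z₁ : M := ∑ j, D j (w j)
      have h1 : ∀ i, x i • z₁ = Eu (w i) + ((d : A) - 1) • w i := fun i => by
        simp only [z₁, Eu, Finset.smul_sum]
        rw [Finset.sum_congr rfl fun j _ => (hDx i j (w j)).trans (by rw [← hc i j, hD, hθ, if_pos rfl, one_smul])]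
        simp [Finset.sum_sub_distrib, Finset.sum_add_distrib, sub_smul, Nat.cast_smul_eq_nsmul]
        abel
      obtain ⟨z₂, hz₂⟩ := ih (fun i => x i • z₁ + ((n + 1 : ℕ) : A) • w i) (fun i => by
          convert hEu n (w i) (hw i) using 1
          rw [h1]
          push_cast
          rw [sub_smul, add_smul, add_smul, one_smul]
          abel) (fun i j => by
          simp only [smul_add]
          rw [smul_comm (x j) (x i), smul_comm (x j), hc i j, smul_comm (x i) _ (w j)])
      obtain ⟨c, hc1⟩ : ∃ c : A, c * ((n + 1 : ℕ) : A) = 1 :=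
        ⟨MvPowerSeries.C (((n + 1 : ℕ) : k)⁻¹), by
          rw [← map_natCast (MvPowerSeries.C (σ := Fin d) (R := k)), ← map_mul,
            inv_mul_cancel₀ (Nat.cast_ne_zero.2 n.succ_ne_zero), map_one]⟩
      refine ⟨c • (z₂ - z₁), fun i => ?_⟩
      rw [smul_comm, smul_sub, hz₂, add_sub_cancel_left, smul_smul, hc1, one_smul]
  -- the socle and its basis
  let Soc : Submodule A M := Submodule.torsionBySet A M (m : Set A)
  letI : Module (IsLocalRing.ResidueField A) Soc :=
    Module.IsTorsionBySet.module (I := m) (Submodule.torsionBySet_isTorsionBySet (m : Set A))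
  have hsoc : ∀ z, z ∈ Soc ↔ ∀ a ∈ m, a • z = 0 := fun z =>
    ⟨fun h a ha => (Submodule.mem_torsionBySet_iff _ _).1 h ⟨a, ha⟩,
      fun h => (Submodule.mem_torsionBySet_iff _ _).2 fun a => h a a.2⟩
  have hsocX : ∀ z, (∀ i, x i • z = 0) → z ∈ Soc := fun z hz => (hsoc z).2 fun a ha => by
    rw [hm] at ha
    induction ha using Submodule.span_induction with
    | mem a ha => obtain ⟨i, rfl⟩ := ha; exact hz i
    | zero => exact zero_smul _ _
    | add a b _ _ h1 h2 => rw [add_smul, h1, h2, add_zero]
    | smul r a _ h1 => rw [smul_eq_mul, mul_smul, h1, smul_zero]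
  let b := Module.Basis.ofVectorSpace (IsLocalRing.ResidueField A) Soc
  let J := Module.Basis.ofVectorSpaceIndex (IsLocalRing.ResidueField A) Soc
  refine ⟨J, ?_⟩
  let g : Soc →ₗ[A] (J →₀ E) :=
    { toFun := fun z => (b.repr z).mapRange e (map_zero e)
      map_add' := fun z w => by ext j; simp
      map_smul' := fun a z => by
        have h1 : a • z = (IsLocalRing.residue A a) • z := rfl
        ext j
        rw [h1, map_smul]
        simp only [Finsupp.mapRange_apply, Finsupp.smul_apply, RingHom.id_apply]
        rw [show IsLocalRing.residue A a • b.repr z j = a • b.repr z j from rfl, map_smul] }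
  have hg : Function.Injective g := fun z w h => b.repr.injective (Finsupp.ext fun j => he.injective (Finsupp.ext_iff.1 h j))
  have hgr : ∀ y : J →₀ E, (∀ a ∈ m, a • y = 0) → y ∈ LinearMap.range g := fun y hy => by
    have h1 : ∀ j, y j ∈ LinearMap.range e := fun j => by
      rw [← LC.hull_socle he]
      exact (Submodule.mem_torsionBySet_iff _ _).2 fun a => Finsupp.ext_iff.1 (hy a a.2) j
    choose c hc using h1
    refine ⟨b.repr.symm (Finsupp.onFinset y.support c fun j hj => Finsupp.mem_support_iff.2 fun h0 => hj
      (he.injective (by rw [hc, h0, map_zero]))), Finsupp.ext fun j => ?_⟩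
    show e (b.repr (b.repr.symm _) j) = y j
    rw [LinearEquiv.apply_symm_apply, Finsupp.onFinset_apply, hc]
  -- extend to all of `M`
  haveI : Module.Injective A E := he.isInjective
  haveI := LC.injective_directSum (R := A) (fun _ : J => E) (fun _ => he.isInjective)
  let q : (J →₀ E) ≃ₗ[A] DirectSum J fun _ => E := finsuppLequivDFinsupp A
  obtain ⟨φ', hφ⟩ := LC.exists_extension Soc.subtype Soc.injective_subtype (q.toLinearMap ∘ₗ g)
  let φ : M →ₗ[A] (J →₀ E) := q.symm.toLinearMap ∘ₗ φ'
  have hφg : ∀ z : Soc, φ z = g z := fun z => q.symm_apply_eq.2 (LinearMap.congr_fun hφ z)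
  have hinj : Function.Injective φ := by
    rw [← LinearMap.ker_eq_bot, Submodule.eq_bot_iff]
    intro z hz
    obtain ⟨n, hn⟩ := hM z
    have hn' := Ktors n z hn
    clear hn
    induction n generalizing z with
    | zero => exact hn'
    | succ n ih =>
      rw [LinearMap.mem_ker] at hz
      have h0 : ∀ i, x i • z = 0 := fun i => ih (x i • z) (by rw [LinearMap.mem_ker, map_smul, hz, smul_zero]) ((KS n z).1 hn' i)
      have h2 : g ⟨z, hsocX z h0⟩ = 0 := (hφg _).symm.trans hz
      exact congrArg Subtype.val (hg (h2.trans (map_zero g).symm))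
  have hsurj : ∀ (n : ℕ) (y : J →₀ E), (∀ a ∈ m ^ n, a • y = 0) → ∃ z, φ z = y ∧ K n z := fun n => by
    induction n with
    | zero => exact fun y hy => ⟨0, by rw [map_zero, ← one_smul A y, hy 1 (by simp)], rfl⟩
    | succ n ih =>
      intro y hy
      choose w hw hwK using fun i => ih (x i • y) fun a ha => by
        rw [smul_smul]; exact hy _ (pow_succ m n ▸ Ideal.mul_mem_mul ha (hxm i))
      obtain ⟨z, hz⟩ := hint n w hwK fun i j => hinj (by rw [map_smul, map_smul, hw, hw, smul_comm])
      have h1 : ∀ a ∈ m, a • (y - φ z) = 0 := fun a ha => by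
        rw [hm] at ha
        induction ha using Submodule.span_induction with
        | mem a ha => obtain ⟨i, rfl⟩ := ha; rw [smul_sub, ← map_smul, hz, hw, sub_self]
        | zero => exact zero_smul _ _
        | add a b _ _ h1 h2 => rw [add_smul, h1, h2, add_zero]
        | smul r a _ h1 => rw [smul_eq_mul, mul_smul, h1, smul_zero]
      obtain ⟨s, hs⟩ := hgr _ h1
      have hzK : K (n + 1) (z + s.1) := (KS _ _).2 fun i => by
        rw [smul_add, hz, (hsoc s.1).1 s.2 _ (hxm i), add_zero]
        exact hwK i
      exact ⟨z + s.1, by rw [map_add, hφg, hs, add_sub_cancel], hzK⟩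
  refine ⟨LinearEquiv.ofBijective φ ⟨hinj, fun y => ?_⟩⟩
  have hE := LC.hull_isPowerTorsion he
  choose N hN using fun j => hE (y j)
  obtain ⟨z, hz, -⟩ := hsurj (y.support.sup N) y fun a ha => Finsupp.ext fun j => by
    rw [Finsupp.smul_apply, Finsupp.zero_apply]
    by_cases hj : j ∈ y.support
    · exact hN j a (Ideal.pow_le_pow_right (Finset.le_sup hj) ha)
    · rw [Finsupp.notMem_support_iff.1 hj, smul_zero]
  exact ⟨z, hz⟩

end Groth.Agent.S1732
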