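import Groth.Statements.S17321
import Mathlib
-- import your own Groth.Agent.* helpers here

set_option autoImplicit false
universe u v
open CAlg

namespace Groth.Agent.S17321

/-- Let k be an algebraically closed field and A a commutative k-algebra which is finite-dimensional as
a k-vector space (the coordinate ring of a finite k-scheme). Then the space Der(A) of k-derivations
A → A is zero if and only if A is reduced. -/
theorem result (k : Type u) [Field k] [IsAlgClosed k]
    (A : Type v) [CommRing A] [Algebra k A] [Module.Finite k A] :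
    Subsingleton (Derivation k A A) ↔ IsReduced A := by
  classical
  haveI : IsArtinianRing A := IsArtinianRing.of_finite k A
  have hc : ∀ (m : Ideal A) [m.IsMaximal] (a : A), ∃ c : k, a - algebraMap k A c ∈ m := by
    intro m _ a
    letI := Ideal.Quotient.field m
    haveI : Algebra.IsIntegral k (A ⧸ m) := Algebra.IsIntegral.of_finite k _
    obtain ⟨c, hc⟩ := (IsAlgClosed.algebraMap_bijective_of_isIntegral (k := k) (K := A ⧸ m)).2 (Ideal.Quotient.mk m a)
    exact ⟨c, Ideal.Quotient.eq.1 hc.symm⟩
  constructor
  · intro hD
    by_contra hred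
    have hN : nilradical A ≠ ⊥ := fun h => hred (nilradical_eq_bot_iff.1 h)
    haveI : Nontrivial (nilradical A) := Submodule.nontrivial_iff_ne_bot.2 hN
    obtain ⟨m, hm⟩ := associatedPrimes.nonempty A (nilradical A)
    obtain ⟨hmp, x, hx⟩ := (isAssociatedPrime_iff_exists_injective_linearMap m (nilradical A)).1 hm |>.imp id fun ⟨f, hf⟩ =>
      (⟨f 1, fun a => by
        rw [← map_smul, ← (map_zero f), hf.eq_iff, Algebra.smul_def, mul_one, Ideal.Quotient.algebraMap_eq,
          Ideal.Quotient.eq_zero_iff_mem]⟩ : ∃ x : nilradical A, ∀ a : A, a • x = 0 ↔ a ∈ m)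
    haveI : m.IsMaximal := IsArtinianRing.isMaximal_of_isPrime m
    have hxm : (x : A) ∈ m := nilradical_le_prime m x.2
    have hx0 : (x : A) ≠ 0 := fun h => hmp.ne_top ((Ideal.eq_top_iff_one m).2 ((hx 1).1 (by rw [one_smul]; exact Subtype.ext h)))
    have hmm : ¬ m ≤ m * m := by
      intro h
      obtain ⟨e, he, hme⟩ := (Ideal.isIdempotentElem_iff_of_fg m (IsNoetherian.noetherian m)).1
        (le_antisymm Ideal.mul_le_right h)
      have hxe : (x : A) ∈ Ideal.span {e} := hme.le hxm
      obtain ⟨b, hb⟩ := Ideal.mem_span_singleton'.1 hxe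
      have hem : e ∈ m := hme.ge (Ideal.subset_span rfl)
      have h0 : e * (x : A) = 0 := congrArg Subtype.val ((hx e).2 hem)
      exact hx0 (by rw [← hb] at h0 ⊢; rwa [mul_left_comm, he.eq] at h0)
    obtain ⟨y, hym, hy⟩ := SetLike.not_le_iff_exists.1 hmm
    let S : Submodule k A := (m * m).restrictScalars k ⊔ Submodule.span k {1}
    have hyS : y ∉ S := by
      intro h
      obtain ⟨z, hz, t, ht, rfl⟩ := Submodule.mem_sup.1 h
      obtain ⟨c, rfl⟩ := Submodule.mem_span_singleton.1 ht
      have hcm : algebraMap k A c ∈ m := by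
        have := m.sub_mem hym (Ideal.mul_le_right hz)
        simpa [Algebra.smul_def] using this
      by_cases h0 : c = 0
      · exact hy (by simpa [h0] using (show z ∈ m * m from hz))
      · exact hmp.ne_top (m.eq_top_of_isUnit_mem hcm ((Ne.isUnit h0).map _))
    obtain ⟨ψ, hψy, hψ⟩ := Submodule.exists_dual_map_eq_bot_of_notMem hyS inferInstance
    have hψS : ∀ z ∈ S, ψ z = 0 := fun z hz => by
      have := Submodule.mem_map_of_mem (f := ψ) hz
      rw [hψ] at this
      exact (Submodule.mem_bot k).1 this
    let D : Derivation k A A := Derivation.mk'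
      { toFun := fun a => ψ a • (x : A)
        map_add' := fun a b => by rw [map_add, add_smul]
        map_smul' := fun c a => by rw [map_smul, RingHom.id_apply, smul_assoc] } fun a b => by
      obtain ⟨c, hca⟩ := hc m a
      obtain ⟨d, hdb⟩ := hc m b
      have hu : ∀ u ∈ m, u * (x : A) = 0 := fun u hu => congrArg Subtype.val ((hx u).2 hu)
      have h1 : ψ (algebraMap k A 1) = 0 := hψS _ (Submodule.mem_sup_right (Submodule.subset_span (by simp)))
      have hmul : ψ (a * b) = c * ψ b + d * ψ a := by
        have h2 : ψ ((a - algebraMap k A c) * (b - algebraMap k A d)) = 0 :=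
          hψS _ (Submodule.mem_sup_left (Ideal.mul_mem_mul hca hdb))
        rw [show (a - algebraMap k A c) * (b - algebraMap k A d) = a * b - c • b - d • a + (c * d) • algebraMap k A 1 by
          rw [Algebra.smul_def, Algebra.smul_def, Algebra.smul_def, map_one, map_mul]; ring] at h2
        simp only [map_add, map_sub, map_smul, h1, smul_eq_mul, mul_zero, add_zero] at h2
        linear_combination h2
      have e : ∀ (w : A) (t : k), w - algebraMap k A t ∈ m → w * (x : A) = t • (x : A) := fun w t h => by
        rw [Algebra.smul_def, ← sub_eq_zero, ← sub_mul, hu _ h]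
      show ψ (a * b) • (x : A) = a • ψ b • (x : A) + b • ψ a • (x : A)
      rw [hmul, add_smul, mul_smul, mul_smul, smul_comm a, smul_comm b, smul_eq_mul, smul_eq_mul, e a c hca, e b d hdb,
        smul_comm c, smul_comm d]
    have : D y = 0 := by rw [Subsingleton.elim D 0]; rfl
    exact (smul_ne_zero hψy hx0) this
  · intro hred
    haveI : IsSemisimpleRing A := IsArtinianRing.isSemisimpleRing_of_isReduced A
    refine ⟨fun D D' => ?_⟩
    suffices h : ∀ D : Derivation k A A, D = 0 from (h D).trans (h D').symm
    intro D
    refine Derivation.ext fun a => ?_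
    have : D a ∈ nilradical A := by
      rw [nilradical_eq_sInf, Submodule.mem_sInf]
      intro (m : Ideal A) hmp
      haveI : Ideal.IsPrime m := hmp
      haveI : Ideal.IsMaximal m := IsArtinianRing.isMaximal_of_isPrime m
      obtain ⟨c, hca⟩ := hc m a
      obtain ⟨e, he, hme⟩ := IsSemisimpleRing.ideal_eq_span_idempotent (R := A) m
      have : D (a - algebraMap k A c) ∈ m := by
        obtain ⟨b, hb⟩ := Ideal.mem_span_singleton'.1 (hme.le hca)
        have hem : e ∈ m := hme.ge (Ideal.subset_span rfl)
        rw [← hb, ← he.eq, D.leibniz, D.leibniz]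
        simp only [smul_eq_mul]
        refine m.add_mem (m.mul_mem_left _ (m.add_mem (m.mul_mem_right _ hem) (m.mul_mem_right _ hem))) ?_
        exact m.mul_mem_right _ (m.mul_mem_left _ hem)
      simpa using this
    simpa [nilradical_eq_zero] using this

end Groth.Agent.S17321
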