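import Groth.Statements.S17348
import Groth.Agent.JetNef.Main
import Groth.Agent.SurfStab.K3Duality
import Groth.Agent.DescLib.Reduced
import Groth.Agent.Lib.TopDiff
-- import your own Groth.Agent.* helpers here

set_option autoImplicit false
set_option backward.isDefEq.respectTransparency false
set_option backward.isDefEq.respectTransparency.types false
universe u
open CategoryTheory CategoryTheory.Limits AlgebraicGeometry
open LocPos

namespace Groth.Agent.S17348

/-- Let k be an algebraically closed field of characteristic zero, X a smooth projective surface over k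
(irreducible, proper, smooth of dimension 2, with an ample invertible module), ω a second exterior
power of Ω_{X/k}, A an ample invertible O_X-module, x a closed point with ideal sheaf m_x, f : Y → X
a blow-up of X at x over k with exceptional ideal I_E, and ε > 0 a real number. Suppose there is s₀
such that for all s ≥ s₀ and every natural number r with r · ε > s + 2, the module A^{⊗r} ⊗ ω
separates s-jets at x (H^0(X, A^{⊗r} ⊗ ω) → H^0(X, (A^{⊗r} ⊗ ω) ⊗ O_X/m_x^(s+1)) is surjective).
Then the Seshadri constant of A at x is at least ε: the class f^*A − ε E is nef, deg(f^*A|_{C'}) + ε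
· deg(I_E|_{C'}) ≥ 0 for every integral one-dimensional closed subscheme C' ⊆ Y. -/
theorem result (k : Type u) [Field k] [IsAlgClosed k] [CharZero k]
    (X : Scheme.{u}) [X.Over (Spec (CommRingCat.of k))] [IsProper (X ↘ (Spec (CommRingCat.of k)))]
    [Smooth (X ↘ (Spec (CommRingCat.of k)))] [IrreducibleSpace X] (hdim : topologicalKrullDim X = 2)
    (H : X.Modules) (hH : CohB1.IsAmple H)
    (ω : X.Modules) (hω : ExtPow.IsExtPow 2 (Omega.sheaf (X ↘ (Spec (CommRingCat.of k)))) ω)
    (A : X.Modules) (hA : CohB1.IsAmple A)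
    (x : X) (hx : IsClosed ({x} : Set X))
    (Y : Scheme.{u}) [Y.Over (Spec (CommRingCat.of k))] (f : Y ⟶ X) (hf : f ≫ (X ↘ (Spec (CommRingCat.of k))) = Y ↘ (Spec (CommRingCat.of k)))
    (hbl : BlowUp.IsBlowUp f (W4c2seshadripos.pointIdeal x hx))
    (ε : ℝ) (hε : 0 < ε)
    (hjets : ∃ s₀ : ℕ, ∀ s : ℕ, s₀ ≤ s → ∀ r : ℕ, ((s : ℝ) + 2) < (r : ℝ) * ε →
      W4c2seshadripos.SeparatesJets (CohB1.tensorMod (CohB1.tensorPow A r) ω) x hx s) :
    (∀ (C : Scheme.{u}) (i : C ⟶ Y) [IsClosedImmersion i], IsIntegral C → topologicalKrullDim C = 1 →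
      (0 : ℝ) ≤ (Pic13.curveDeg k (i ≫ (Y ↘ (Spec (CommRingCat.of k))))
          ((Scheme.Modules.pullback i).obj ((Scheme.Modules.pullback f).obj A)) : ℝ) +
        ε * (Pic13.curveDeg k (i ≫ (Y ↘ (Spec (CommRingCat.of k))))
          ((Scheme.Modules.pullback i).obj
            (ClSub.idealMod (BlowUp.exceptional f (W4c2seshadripos.pointIdeal x hx)))) : ℝ)) := by
  haveI : IsReduced X := DescLib.isReduced_of_smooth_of_isReduced (X ↘ Spec (CommRingCat.of k))
  haveI : IsIntegral X := isIntegral_of_irreducibleSpace_of_isReduced X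
  haveI : IsNoetherian X := CurveCohLib.isNoetherian_of_proper (k := k)
  haveI := SurfStab.smoothOfRelativeDimension_two (k := k) hdim
  have hωi : PicF.IsInvertible ω :=
    TopDiff.isInvertible_of_isExtPow (TopDiff.isFinLocFreeOfRank_omega (X ↘ Spec (CommRingCat.of k)) 2) hω
  haveI : IsProper f := BlowUpLib.isProper_of_isBlowUp (C := W4c2seshadripos.pointIdeal x hx) (hb := hbl) fun U => by
    haveI := IsLocallyNoetherian.component_noetherian U
    exact IsNoetherian.noetherian _
  haveI : IsProper (Y ↘ Spec (CommRingCat.of k)) := by rw [← hf]; infer_instance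
  obtain ⟨s₀, hs₀⟩ := hjets
  intro C i hi hC hdimC
  haveI := hi
  haveI := hC
  have hAi : PicF.IsInvertible A := hA.1
  have h := JetNef.cdeg_add_mul_nonneg k f hf hx hbl.1 hA hωi hε hs₀ i hdimC
  rw [← Big.curveDeg_eq k i (hdimC.trans Nat.cast_one.symm).le (PicClLib.isInvertible_pullback f hAi),
    ← Big.curveDeg_eq k i (hdimC.trans Nat.cast_one.symm).le (Big.isInvertible_ideal hbl.1)] at h
  push_cast at h
  exact h

end Groth.Agent.S17348
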