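import Groth.Statements.S17351
import Groth.Agent.SurfExtn.Main

set_option autoImplicit false
universe u
open CategoryTheory CategoryTheory.Limits AlgebraicGeometry
open AdjLin

namespace Groth.Agent.S17351

/-- Let k be an algebraically closed field of characteristic zero and X a smooth projective surface over
k (irreducible, proper, smooth of dimension 2, with an ample invertible module); let M be an
invertible O_X-module, Z ⊆ X a closed subscheme whose underlying set is finite, with quasi-coherent
ideal I_Z regarded as an O_X-module, and let 0 → M → F → I_Z → 0 be a short exact sequence of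
O_X-modules (an extension of L ⊗ I_Z by O_X in the source, here tensored with M = L⁻¹). Then F is
not finite locally free if and only if there exist an ideal sheaf I' strictly containing I_Z (a
proper closed subscheme Z' of Z, the empty one allowed), a short exact sequence 0 → M → F' → I' → 0
and a morphism g : F → F' which is compatible with the two maps from M and, on the quotients, with
the inclusion I_Z → I' (the unique map commuting with the inclusions into O_X); in other words the
extension class of F is the pull-back of an extension of I' by M. -/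
theorem result (k : Type u) [Field k] [IsAlgClosed k] [CharZero k]
    (X : Scheme.{u}) [X.Over (Spec (CommRingCat.of k))] [IsProper (X ↘ (Spec (CommRingCat.of k)))]
    [Smooth (X ↘ (Spec (CommRingCat.of k)))] [IrreducibleSpace X] (hdim : topologicalKrullDim X = 2)
    (H : X.Modules) (hH : CohB1.IsAmple H)
    (M : X.Modules) (hM : PicF.IsInvertible M)
    (IZ : X.IdealSheafData) (hZ : (IZ.support : Set X).Finite)
    (F : X.Modules) (a : M ⟶ F) (b : F ⟶ ClSub.idealMod IZ) (w : a ≫ b = 0)
    (hex : (ShortComplex.mk a b w).ShortExact) :
    ¬ FlatMod.IsFinLocFree F ↔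
      ∃ (I' : X.IdealSheafData) (F' : X.Modules) (a' : M ⟶ F') (b' : F' ⟶ ClSub.idealMod I') (w' : a' ≫ b' = 0)
        (φ : ClSub.idealMod IZ ⟶ ClSub.idealMod I') (g : F ⟶ F'),
        IZ < I' ∧ (ShortComplex.mk a' b' w').ShortExact ∧ φ ≫ ClSub.idealModι I' = ClSub.idealModι IZ ∧
          a ≫ g = a' ∧ g ≫ b' = b ≫ φ := by
  haveI := Groth.Agent.CurveCohLib.isNoetherian_of_proper (k := k) (X := X)
  haveI : AlgebraicGeometry.IsReduced X :=
    Groth.Agent.GrpSchLib.isReduced_of_smooth_field (X ↘ Spec (CommRingCat.of k))
  haveI : IsIntegral X := isIntegral_of_irreducibleSpace_of_isReduced X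
  haveI : JacobsonSpace X := LocallyOfFiniteType.jacobsonSpace (X ↘ Spec (CommRingCat.of k))
  have hreg : ∀ x : X, IsRegularLocalRing (X.presheaf.stalk x) :=
    Groth.Agent.GrpSchLib.isRegularLocalRing_stalk_of_smooth (X ↘ Spec (CommRingCat.of k))
  have hU : ∀ x : X, x ∉ Groth.Agent.SurfExtn.compl IZ →
      (2 : ℕ∞) ≤ LocCoh.depth (X.presheaf.stalk x) (X.presheaf.stalk x) := fun x hx => by
    have hxZ : x ∈ (IZ.support : Set X) := not_not.1 hx
    have hcl : IsClosed ({x} : Set X) := by
      have h := closure_inter_closedPoints IZ.support.isClosed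
      have hc : IsClosed ((IZ.support : Set X) ∩ closedPoints X) := by
        rw [← Set.biUnion_of_singleton ((IZ.support : Set X) ∩ closedPoints X)]
        exact (hZ.inter_of_left _).isClosed_biUnion fun y hy => hy.2
      rw [hc.closure_eq] at h
      exact (h.ge hxZ).2
    haveI := hreg x
    have hd : ringKrullDim (X.presheaf.stalk x) = 2 :=
      (Groth.Agent.SmoothReg.ringKrullDim_stalk_closedPoint (X ↘ Spec (CommRingCat.of k)) hcl).trans hdim
    have := Groth.Agent.RamSam.depth_eq_dim (X.presheaf.stalk x)
    rw [hd] at this
    exact le_of_eq (WithBot.coe_injective this).symm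
  have hdis : Disjoint (Groth.Agent.SurfExtn.compl IZ : Set X) (IZ.support : Set X) := disjoint_compl_left
  have hM' := Groth.Agent.H23.PullPush.isFinLocFree_of_isInvertible hM
  exact ⟨Groth.Agent.SurfExtn.exists_larger hreg hdim.le hU IZ hdis hM' a b w hex,
    fun ⟨I', F', a', b', w', φ, g, hlt, hS', hφ, ha, hb⟩ =>
      Groth.Agent.SurfExtn.not_finLocFree hreg hdim.le hU IZ hdis hM' a b w hex hlt hS' hφ ha hb⟩

end Groth.Agent.S17351
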