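import Groth.Statements.S17375
import Groth.Agent.AsympCoh.Pullback
-- import your own Groth.Agent.* helpers here

set_option autoImplicit false
universe u
open CategoryTheory CategoryTheory.Limits AlgebraicGeometry Asymptotics
open Variety

namespace Groth.Agent.S17375

/-- Let X and Y be geometrically integral schemes proper over a field k, each admitting an ample
invertible module, with X of dimension d, and let f : Y → X be a k-morphism which is dominant and
generically finite of degree n ≥ 1: f maps the generic point of Y to the generic point of X and the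
induced extension of function fields has finite degree n. Then for every invertible module L on X
the difference dim_k H^0(Y, (f^*L)^m) − n · dim_k H^0(X, L^m) is O(m^(d−1)) as m → ∞ (so the volume
of f^*L is n times that of L). -/
theorem result (k : Type u) [Field k] (X Y : Scheme.{u})
    [X.Over (Spec (CommRingCat.of k))] [Y.Over (Spec (CommRingCat.of k))] [IsIntegral X] [IsIntegral Y]
    [GeometricallyIntegral (X ↘ Spec (CommRingCat.of k))] [GeometricallyIntegral (Y ↘ Spec (CommRingCat.of k))]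
    [IsProper (X ↘ Spec (CommRingCat.of k))] [IsProper (Y ↘ Spec (CommRingCat.of k))]
    (hXproj : ∃ A : X.Modules, CohB1.IsAmple A) (hYproj : ∃ B : Y.Modules, CohB1.IsAmple B)
    (d : ℕ) (hd : topologicalKrullDim X = d)
    (f : Y ⟶ X) (hf : f ≫ (X ↘ Spec (CommRingCat.of k)) = Y ↘ Spec (CommRingCat.of k))
    (hdom : f.base (genericPoint Y) = genericPoint X) (n : ℕ) (hn : f.residueDegree (genericPoint Y) = n) (hn0 : 0 < n)
    (L : X.Modules) (hL : PicF.IsInvertible L) :
    (fun m : ℕ => (Module.finrank k (Coh.HH Y (CohB1.tensorPow ((Scheme.Modules.pullback f).obj L) m) 0) : ℝ) -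
        n * Module.finrank k (Coh.HH X (CohB1.tensorPow L m) 0)) =O[Filter.atTop]
      (fun m : ℕ => (m : ℝ) ^ (d - 1)) := by
  obtain ⟨H, hH⟩ := hXproj
  obtain ⟨B, hB⟩ := hYproj
  obtain ⟨K, hK⟩ := Groth.Agent.AsympCoh.exists_close_pullback k f hf hH hB hL hd hdom hn hn0 0
  refine Asymptotics.IsBigO.of_bound ((K : ℝ) * 2 ^ d) ((Filter.eventually_ge_atTop 1).mono fun m hm => ?_)
  obtain ⟨a, b⟩ := hK m
  have hE : (Groth.Agent.AsympCoh.E d m : ℝ) ≤ 2 ^ d * (m : ℝ) ^ (d - 1) := by
    cases d with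
    | zero => simp [Groth.Agent.AsympCoh.E]
    | succ e =>
      have h1 : (1 : ℝ) ≤ (m : ℝ) := by exact_mod_cast hm
      simp only [Groth.Agent.AsympCoh.E, Nat.cast_pow, Nat.cast_add, Nat.cast_one, Nat.add_sub_cancel]
      calc ((m : ℝ) + 1) ^ e ≤ (2 * (m : ℝ)) ^ e := by gcongr; linarith
        _ = 2 ^ e * (m : ℝ) ^ e := mul_pow _ _ _
        _ ≤ 2 ^ (e + 1) * (m : ℝ) ^ e := by gcongr <;> simp
  rw [Real.norm_eq_abs, Real.norm_eq_abs, abs_of_nonneg (show (0 : ℝ) ≤ (m : ℝ) ^ (d - 1) by positivity),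
    mul_assoc, abs_sub_le_iff]
  have a' := (@Nat.cast_le ℝ _ _ _ _ _ _ _).2 a
  have b' := (@Nat.cast_le ℝ _ _ _ _ _ _ _).2 b
  push_cast [Groth.Agent.HilbPoly.hdimk] at a' b'
  have hKE : (K : ℝ) * Groth.Agent.AsympCoh.E d m ≤ (K : ℝ) * (2 ^ d * (m : ℝ) ^ (d - 1)) := by gcongr
  constructor <;> linarith

end Groth.Agent.S17375
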