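import Groth.Statements.S1738
import Groth.Agent.S1737
import Groth.Agent.S1727
import Groth.Agent.RGammaI.SuppHT
import Groth.Agent.Alg6.AssDepth
import Groth.Agent.LC.InjBasic

set_option linter.style.haveILetI false

set_option autoImplicit false
universe u
open CategoryTheory
attribute [local instance] HasDerivedCategory.standard
open LocCoh

namespace Groth.Agent.S1738

open Groth.Agent CategoryTheory CategoryTheory.Limits
attribute [local instance] HasDerivedCategory.standard

section
variable {A : Type u} [CommRing A] (T : Set (PrimeSpectrum A)) {M E : Type u} [AddCommGroup M] [Module A M]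
  [AddCommGroup E] [Module A E] (f : M →ₗ[A] E)

/-- Elements carried into the module by an ideal supported in `T`. -/
def sat : Submodule A E where
  carrier := {e | ∃ Q : Ideal A, PrimeSpectrum.zeroLocus (Q : Set A) ⊆ T ∧ ∀ a ∈ Q, a • e ∈ LinearMap.range f}
  zero_mem' := ⟨⊤, by simp, fun a _ => by rw [smul_zero]; exact Submodule.zero_mem _⟩
  add_mem' := by
    rintro x y ⟨Q, hQ, hx⟩ ⟨R, hR, hy⟩
    exact ⟨Q ⊓ R, by rw [PrimeSpectrum.zeroLocus_inf]; exact Set.union_subset hQ hR,
      fun a ha => by rw [smul_add]; exact Submodule.add_mem _ (hx a ha.1) (hy a ha.2)⟩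
  smul_mem' := by
    rintro r x ⟨Q, hQ, hx⟩
    exact ⟨Q, hQ, fun a ha => by rw [smul_comm]; exact Submodule.smul_mem _ _ (hx a ha)⟩

lemma range_le_sat : LinearMap.range f ≤ sat T f := fun _ hx =>
  ⟨⊤, by simp, fun a _ => Submodule.smul_mem _ a hx⟩

variable [IsNoetherianRing A]

lemma sat_of_prime {T : Set (PrimeSpectrum A)} (hT : StableUnderSpecialization T) {p : PrimeSpectrum A} (hp : p ∈ T)
    {e : E} (he : ∀ a ∈ p.asIdeal, a • e ∈ sat T f) : e ∈ sat T f := by
  classical
  obtain ⟨S, hS⟩ := (IsNoetherian.noetherian p.asIdeal)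
  choose Q hQ hQe using fun a : S => he a.1 (hS ▸ Submodule.subset_span a.2)
  refine ⟨(Finset.univ.inf Q) * p.asIdeal, ?_, fun c hc => ?_⟩
  · rw [PrimeSpectrum.zeroLocus_mul]
    refine Set.union_subset (fun q hq => ?_) (fun q hq => hT ((PrimeSpectrum.le_iff_specializes p q).1 hq) hp)
    have hle : Finset.univ.inf Q ≤ q.asIdeal := hq
    obtain ⟨a, -, ha⟩ := (Ideal.IsPrime.inf_le' (s := Finset.univ) (f := Q) q.2).1 hle
    exact hQ a ha
  · refine Submodule.smul_induction_on (p := fun c => c • e ∈ LinearMap.range f) hc (fun r hr a ha => ?_)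
      (fun x y hx hy => by rw [add_smul]; exact Submodule.add_mem _ hx hy)
    change (r * a) • e ∈ LinearMap.range f
    rw [← hS] at ha
    induction ha using Submodule.span_induction with
    | mem a ha =>
      rw [mul_smul]
      exact hQe ⟨a, ha⟩ r ((Finset.inf_le (f := Q) (Finset.mem_univ (⟨a, ha⟩ : S))) hr)
    | zero => rw [mul_zero, zero_smul]; exact Submodule.zero_mem _
    | add a b _ _ h1 h2 => rw [mul_add, add_smul]; exact Submodule.add_mem _ h1 h2
    | smul c a _ h1 => rw [smul_eq_mul, mul_left_comm, mul_smul]; exact Submodule.smul_mem _ c h1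

variable (hf : InjHull.IsEssentialInj f) (hass : ∀ p : PrimeSpectrum A, p ∈ T → p.asIdeal ∉ associatedPrimes A M)
include hf hass

lemma no_torsion {Q : Ideal A} (hQ : PrimeSpectrum.zeroLocus (Q : Set A) ⊆ T) {e : E} (he : ∀ a ∈ Q, a • e = 0) :
    e = 0 := by
  by_contra h
  obtain ⟨r, m, hm, hre⟩ := LC.isEssentialInj_exists hf h
  obtain ⟨P, hP, hle⟩ := Alg6.exists_ass_ge (R := A) hm
  refine hass ⟨P, IsAssociatedPrime.isPrime (AssociatedPrimes.mem_iff.mp hP)⟩ (hQ fun a ha => ?_) hP
  exact hle _ (hf.injective (by rw [map_smul, hre, smul_comm, he a ha, smul_zero, map_zero]))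

omit hass in
lemma regular_hull {x : A} (hx : IsSMulRegular M x) {e : E} (he : x • e = 0) : e = 0 := by
  by_contra h
  obtain ⟨r, m, hm, hre⟩ := LC.isEssentialInj_exists hf h
  exact hm (hx (by
    show x • m = x • 0
    exact hf.injective (by rw [map_smul, hre, smul_comm, he, smul_zero, smul_zero, map_zero])))

lemma two_le_depth_sat (hT : StableUnderSpecialization T) [Module.Injective A E] [Module.Finite A M]
    [Module.Finite A (sat T f)] {p : PrimeSpectrum A} (hp : p ∈ T) :
    (2 : ℕ∞) ≤ LocCoh.depth (Localization.AtPrime p.asIdeal) (LocalizedModule p.asIdeal.primeCompl (sat T f)) := by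
  obtain ⟨x, hxp, hx⟩ := (Alg6.exists_isSMulRegular_mem_iff (M := M) p.asIdeal).mpr fun P hP hle =>
    hass ⟨P, IsAssociatedPrime.isPrime (AssociatedPrimes.mem_iff.mp hP)⟩
      (hT ((PrimeSpectrum.le_iff_specializes p _).1 hle) hp) hP
  have hxE : Function.Injective (x • (LinearMap.id : E →ₗ[A] E)) :=
    (injective_iff_map_eq_zero _).2 fun e he => regular_hull f hf hx he
  have hxD : IsSMulRegular (sat T f) x := fun a b h => Subtype.ext (hxE (congrArg Subtype.val h))
  rw [Alg6.two_le_depth_atPrime_iff p.asIdeal hxp hxD]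
  intro hass'
  obtain ⟨hpp, zb, hz⟩ := Alg6.mem_ass_iff.mp hass'
  obtain ⟨z, rfl⟩ := Submodule.Quotient.mk_surjective _ zb
  obtain ⟨h, hh⟩ := LC.exists_extension _ hxE (LinearMap.id : E →ₗ[A] E)
  have he : x • h z.1 = z.1 := (map_smul h x z.1).symm.trans (LinearMap.congr_fun hh z.1)
  have hmem : h z.1 ∈ sat T f := sat_of_prime f hT hp fun a ha => by
    obtain ⟨w, hw⟩ := Alg6.mem_pointwise_smul_top_iff.mp
      (show (Submodule.Quotient.mk (a • z) : QuotSMulTop x (sat T f)) = 0 by
        rw [Submodule.Quotient.mk_smul]; exact (hz a).mp ha)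
    have : a • h z.1 = w.1 := hxE (by
      show x • (a • h z.1) = x • w.1
      rw [smul_comm, he]
      exact (congrArg Subtype.val hw).symm)
    rw [this]; exact w.2
  have h0 : (Submodule.Quotient.mk z : QuotSMulTop x (sat T f)) = 0 :=
    Alg6.mem_pointwise_smul_top_iff.mpr ⟨⟨h z.1, hmem⟩, Subtype.ext he⟩
  exact hpp.ne_top (Ideal.eq_top_of_isUnit_mem _ ((hz 1).mpr (by rw [h0, smul_zero])) isUnit_one)

lemma smul_sat_mem {J : Ideal A} (hk : RGammaI.SuppHDT.KillsH T J 1 (Dual.inD A M)) {r : A} (hr : r ∈ J)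
    {e : E} (he : e ∈ sat T f) : r • e ∈ LinearMap.range f := by
  obtain ⟨Q, hQ, hQe⟩ := he
  let R := LinearMap.range f
  let S : ShortComplex (ModuleCat.{u} A) :=
    ShortComplex.mk (ModuleCat.ofHom f) (ModuleCat.ofHom R.mkQ)
      (ModuleCat.hom_ext (LinearMap.ext fun x => (Submodule.Quotient.mk_eq_zero _).2 ⟨x, rfl⟩))
  have hS : S.ShortExact :=
    { exact := (ShortComplex.ShortExact.moduleCat_exact_iff_function_exact _).2 fun y =>
        ⟨fun hy => (Submodule.Quotient.mk_eq_zero _).1 hy, by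
          rintro ⟨x, rfl⟩; exact (Submodule.Quotient.mk_eq_zero _).2 ⟨x, rfl⟩⟩
      mono_f := (ModuleCat.mono_iff_injective _).2 hf.injective
      epi_g := (ModuleCat.epi_iff_surjective _).2 R.mkQ_surjective }
  let φ₀ : (A ⧸ Q) →ₗ[A] E ⧸ R := Submodule.liftQ Q (LinearMap.toSpanSingleton A _ (Submodule.Quotient.mk e))
    fun a ha => by
      rw [LinearMap.mem_ker, LinearMap.toSpanSingleton_apply, ← Submodule.Quotient.mk_smul]
      exact (Submodule.Quotient.mk_eq_zero _).2 (hQe a ha)
  let F := DerivedCategory.singleFunctor (ModuleCat.{u} A) 0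
  let φ : Dual.inD A (A ⧸ Q) ⟶ (Dual.inD A M)⟦(1 : ℤ)⟧ := F.map (ModuleCat.ofHom φ₀) ≫ hS.singleTriangle.mor₃
  have hz := hk 1 le_rfl r hr (RGammaI.SuppHDT.mk Q hQ φ)
  rw [← map_smul] at hz
  obtain ⟨Q', hQ', hle, h0⟩ := (RGammaI.SuppHDT.mk_eq_zero_iff hQ _).1 hz
  let g : ModuleCat.of A (A ⧸ Q') ⟶ ModuleCat.of A (E ⧸ R) :=
    ModuleCat.ofHom (r • (φ₀ ∘ₗ Submodule.mapQ Q' Q LinearMap.id hle))
  have hg : F.map g ≫ hS.singleTriangle.mor₃ = 0 := by
    have : g = r • (ModuleCat.ofHom (Submodule.mapQ Q' Q LinearMap.id hle) ≫ ModuleCat.ofHom φ₀) := rfl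
    rw [this, Functor.map_smul, Functor.map_comp, Linear.smul_comp, Category.assoc, ← Linear.comp_smul]
    exact h0
  obtain ⟨ψ, hψ⟩ := Pretriangulated.Triangle.coyoneda_exact₃ _ hS.singleTriangle_distinguished (F.map g) hg
  obtain ⟨ψ₀, rfl⟩ := F.map_surjective (X := ModuleCat.of A (A ⧸ Q')) (Y := ModuleCat.of A E) ψ
  have hg' : g = ψ₀ ≫ ModuleCat.ofHom R.mkQ := F.map_injective (hψ.trans (F.map_comp _ _).symm)
  have h1 : ψ₀.hom (Submodule.Quotient.mk 1) = 0 := no_torsion T f hf hass hQ' fun a ha => by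
    rw [← map_smul, ← Submodule.Quotient.mk_smul, smul_eq_mul, mul_one, (Submodule.Quotient.mk_eq_zero Q').2 ha,
      map_zero]
  have h2 := congrArg (fun k : ModuleCat.of A (A ⧸ Q') ⟶ ModuleCat.of A (E ⧸ R) => k.hom (Submodule.Quotient.mk 1)) hg'
  have h3 : r • φ₀ (Submodule.Quotient.mk 1) = R.mkQ (ψ₀.hom (Submodule.Quotient.mk 1)) := h2
  rw [h1, map_zero, Submodule.liftQ_apply, LinearMap.toSpanSingleton_apply, one_smul,
    ← Submodule.Quotient.mk_smul] at h3
  exact (Submodule.Quotient.mk_eq_zero _).1 h3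

lemma finite_sat [Module.Finite A M] {J : Ideal A} (hJ : PrimeSpectrum.zeroLocus (J : Set A) ⊆ T)
    (hk : RGammaI.SuppHDT.KillsH T J 1 (Dual.inD A M)) : Module.Finite A (sat T f) := by
  let Φ : sat T f →ₗ[A] (J →ₗ[A] LinearMap.range f) :=
    { toFun := fun e =>
        { toFun := fun r => ⟨r.1 • e.1, smul_sat_mem T f hf hass hk r.2 e.2⟩
          map_add' := fun a b => Subtype.ext (add_smul _ _ _)
          map_smul' := fun c a => Subtype.ext (mul_smul c a.1 e.1) }
      map_add' := fun a b => LinearMap.ext fun r => Subtype.ext (smul_add _ _ _)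
      map_smul' := fun c a => LinearMap.ext fun r => Subtype.ext (smul_comm _ _ _) }
  haveI : Module.Finite A (LinearMap.range f) := Module.Finite.range f
  refine Module.Finite.of_injective Φ ((injective_iff_map_eq_zero _).2 fun e he => ?_)
  exact Subtype.ext (no_torsion T f hf hass hJ fun a ha =>
    congrArg Subtype.val (LinearMap.congr_fun he ⟨a, ha⟩))

end

lemma map_comp_apply' {A : Type u} [CommRing A] (S : Submonoid A) {M N P : Type u} [AddCommGroup M] [Module A M]
    [AddCommGroup N] [Module A N] [AddCommGroup P] [Module A P] (f : M →ₗ[A] N) (g : N →ₗ[A] P)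
    (x : LocalizedModule S M) :
    LocalizedModule.map S (g ∘ₗ f) x = LocalizedModule.map S g (LocalizedModule.map S f x) := by
  induction x using LocalizedModule.induction_on with
  | h m s => simp [LocalizedModule.map_mk]

/-- Let A be a Noetherian ring with a dualizing complex, T' ⊆ Spec A stable under specialization, and M
a finite A-module such that depth(M_p) ≥ 1 whenever q covers p in Spec A with q in T' and p outside
T'. Then there are a finite A-module M'' and a map M → M'' which is bijective after localizing at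
every prime outside T' and such that M''_p has depth ≥ 2 for every p in T'. (The source: coherent
modules on a Noetherian scheme locally having a dualizing complex, with uniqueness and a pullback
clause.) -/
theorem result (A : Type u) [CommRing A] [IsNoetherianRing A] (hA : ∃ ω : Dual.D A, Dual.IsDualizing A ω) (T' : Set (PrimeSpectrum A)) (hT : StableUnderSpecialization T') (M : Type u) [AddCommGroup M] [Module A M] [Module.Finite A M] (hM : ∀ p q : PrimeSpectrum A, p ⋖ q → q ∈ T' → p ∉ T' → 1 ≤ LocCoh.depth (Localization.AtPrime p.asIdeal) (LocalizedModule p.asIdeal.primeCompl M)) : ∃ (M'' : Type u) (_ : AddCommGroup M'') (_ : Module A M'') (_ : Module.Finite A M'') (f : M →ₗ[A] M''), (∀ p : PrimeSpectrum A, p ∉ T' → Function.Bijective (LocalizedModule.map p.asIdeal.primeCompl f)) ∧ ∀ p : PrimeSpectrum A, p ∈ T' → 2 ≤ LocCoh.depth (Localization.AtPrime p.asIdeal) (LocalizedModule p.asIdeal.primeCompl M'') := by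
  classical
  obtain ⟨M', _, _, _, π, hπ, hbij, hdep⟩ := Groth.Agent.S1737.result A T' hT M
  have hass : ∀ p : PrimeSpectrum A, p ∈ T' → p.asIdeal ∉ associatedPrimes A M' := fun p hp =>
    (Groth.Agent.Alg6.one_le_depth_atPrime_iff (M := M') p.asIdeal).1 (hdep p hp)
  obtain ⟨E, _, _, f, hf⟩ := Groth.Agent.LC.exists_injectiveHull A M'
  haveI := hf.isInjective
  have hfin := (Groth.Agent.S1727.result A hA T' hT 1 M').2 fun p q hp hq hpq => by
    have hne : p < q := lt_of_le_of_ne hpq fun h => hp (h ▸ hq)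
    let a : Set.Icc p q := ⟨p, le_rfl, hpq⟩
    let b : Set.Icc p q := ⟨q, hpq, le_rfl⟩
    have hab : a < b := hne
    have h1 : (1 : WithBot ℕ∞) ≤ Order.krullDim (Set.Icc p q) := by
      have := Order.LTSeries.length_le_krullDim ((RelSeries.singleton _ a).snoc b (by simpa using hab))
      refine le_trans (le_of_eq ?_) this
      rfl
    by_cases hcov : p ⋖ q
    · have hd : (1 : ℕ∞) ≤ LocCoh.depth (Localization.AtPrime p.asIdeal) (LocalizedModule p.asIdeal.primeCompl M') := by
        let e := LinearEquiv.ofBijective _ (hbij p hp)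
        have h := hM p q hcov hq hp
        rw [Groth.Agent.Alg6.one_le_depth_iff] at h ⊢
        rwa [← LinearEquiv.AssociatedPrimes.eq e]
      calc ((1 : ℕ) : WithBot ℕ∞) < ((1 : ℕ∞) : WithBot ℕ∞) + (1 : WithBot ℕ∞) := by exact_mod_cast (by norm_num : (1 : ℕ) < 1 + 1)
        _ ≤ _ := add_le_add (WithBot.coe_le_coe.2 hd) h1
    · obtain ⟨r, hpr, hrq⟩ := exists_lt_lt_of_not_covBy hne hcov
      let c : Set.Icc p q := ⟨r, hpr.le, hrq.le⟩
      have hac : a < c := hpr
      have hcb : c < b := hrq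
      have h2 : (2 : WithBot ℕ∞) ≤ Order.krullDim (Set.Icc p q) := by
        have := Order.LTSeries.length_le_krullDim
          (((RelSeries.singleton _ a).snoc c (by simpa using hac)).snoc b (by simpa using hcb))
        refine le_trans (le_of_eq ?_) this
        rfl
      calc ((1 : ℕ) : WithBot ℕ∞) < (0 : WithBot ℕ∞) + (2 : WithBot ℕ∞) := by rw [zero_add]; exact_mod_cast (by norm_num : (1 : ℕ) < 2)
        _ ≤ _ := add_le_add (WithBot.coe_le_coe.2 bot_le) h2
  obtain ⟨J, hJ, hk⟩ := (Groth.Agent.RGammaI.SuppHDT.finite_HT_iff_killed M' T' 1).1 hfin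
  have hkill : Groth.Agent.RGammaI.SuppHDT.KillsH T' J 1 (Dual.inD A M') :=
    (Groth.Agent.RGammaI.SuppHDT.killsH_inD_iff M' J 1).2 hk
  haveI := finite_sat T' f hf.toIsEssentialInj hass hJ hkill
  let g : M' →ₗ[A] sat T' f := f.codRestrict _ fun m => range_le_sat T' f ⟨m, rfl⟩
  refine ⟨sat T' f, inferInstance, inferInstance, inferInstance, g ∘ₗ π, fun p hp => ?_, fun p hp =>
    two_le_depth_sat T' f hf.toIsEssentialInj hass hT hp⟩
  have hg : Function.Bijective (LocalizedModule.map p.asIdeal.primeCompl g) := by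
    refine ⟨LocalizedModule.map_injective _ _ fun a b h => hf.toIsEssentialInj.injective (congrArg Subtype.val h), fun x => ?_⟩
    induction x using LocalizedModule.induction_on with
    | h d s =>
      obtain ⟨Q, hQ, hQd⟩ := d.2
      obtain ⟨a, ha, hap⟩ := SetLike.not_le_iff_exists.1 (fun h : Q ≤ p.asIdeal => hp (hQ h))
      obtain ⟨m, hm⟩ := hQd a ha
      refine ⟨LocalizedModule.mk m (⟨a, hap⟩ * s), ?_⟩
      have hgm : g m = a • d := Subtype.ext hm
      rw [LocalizedModule.map_mk, hgm]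
      exact LocalizedModule.mk_cancel_common_left ⟨a, hap⟩ s d
  rw [show ⇑(LocalizedModule.map p.asIdeal.primeCompl (g ∘ₗ π)) =
    ⇑(LocalizedModule.map p.asIdeal.primeCompl g) ∘ ⇑(LocalizedModule.map p.asIdeal.primeCompl π) from
      funext (map_comp_apply' _ π g)]
  exact hg.comp (hbij p hp)

end Groth.Agent.S1738
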