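import Groth.Statements.S17411
import Groth.Agent.VarDim.Fibre
import Groth.Agent.VarDim.Top

set_option autoImplicit false
universe u
open CategoryTheory AlgebraicGeometry
open Prym5

namespace Groth.Agent.S17411

/-- Let k be an algebraically closed field of characteristic zero and X, Y, Z schemes of finite type
over k, with Y and Z irreducible of the same dimension, η : Y → Z a dominant k-morphism and ρ : X →
Y a k-morphism. Then the composite ρ ≫ η is dominant exactly when ρ is dominant. (The published
statement concerns the forgetful map from the moduli space of étale double covers of genus-five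
curves to the moduli space of genus-five curves, both irreducible of dimension 12, and a morphism
into the former; its argument uses only the hypotheses kept here.) -/
theorem result (k : Type u) [Field k] [IsAlgClosed k]
    [CharZero k] (X Y Z : Scheme.{u}) [X.Over (Spec (CommRingCat.of k))] [Y.Over (Spec (CommRingCat.of k))]
    [Z.Over (Spec (CommRingCat.of k))]
    [LocallyOfFiniteType (X ↘ Spec (CommRingCat.of k))] [QuasiCompact (X ↘ Spec (CommRingCat.of k))]
    [LocallyOfFiniteType (Y ↘ Spec (CommRingCat.of k))] [QuasiCompact (Y ↘ Spec (CommRingCat.of k))]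
    [LocallyOfFiniteType (Z ↘ Spec (CommRingCat.of k))] [QuasiCompact (Z ↘ Spec (CommRingCat.of k))]
    [IrreducibleSpace Y] [IrreducibleSpace Z] (hdim : topologicalKrullDim Y = topologicalKrullDim Z)
    (ρ : X ⟶ Y) [ρ.IsOver (Spec (CommRingCat.of k))] (η : Y ⟶ Z) [η.IsOver (Spec (CommRingCat.of k))]
    [IsDominant η] :
    IsDominant (ρ ≫ η) ↔ IsDominant ρ := by
  refine ⟨fun h => ?_, fun h => inferInstance⟩
  let qX := X ↘ Spec (CommRingCat.of k)
  let qY := Y ↘ Spec (CommRingCat.of k)
  let qZ := Z ↘ Spec (CommRingCat.of k)
  have : CompactSpace X := QuasiCompact.compactSpace_of_compactSpace qX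
  have hgen : genericPoint Z ∈ closure (Set.range (ρ ≫ η)) := by
    rw [(ρ ≫ η).denseRange.closure_range]
    trivial
  obtain ⟨x, hx⟩ := Groth.Agent.VarDim.mem_range_of_maximal qX (ρ ≫ η) hgen
    fun z hz => (hz.antisymm ((genericPoint_spec Z).specializes (Set.mem_univ z))).eq
  have hle : Groth.Agent.VarDim.deg qZ (η (ρ x)) ≤ Groth.Agent.VarDim.deg qY (ρ x) :=
    Groth.Agent.VarDim.deg_map_le η qZ (comp_over η _) (ρ x)
  have hηρ : η (ρ x) = genericPoint Z := by rw [← hx, Scheme.Hom.comp_apply]
  have hY := Groth.Agent.VarDim.topologicalKrullDim_eq_deg_genericPoint qY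
  have hZ := Groth.Agent.VarDim.topologicalKrullDim_eq_deg_genericPoint qZ
  rw [hdim, hZ] at hY
  have hdeg : Groth.Agent.VarDim.deg qZ (genericPoint Z) = Groth.Agent.VarDim.deg qY (genericPoint Y) := by
    exact_mod_cast hY
  have heq : genericPoint Y = ρ x := Groth.Agent.VarDim.eq_of_specializes_of_deg_le qY
    ((genericPoint_spec Y).specializes (Set.mem_univ _)) (hdeg ▸ hηρ ▸ hle)
  constructor
  rw [denseRange_iff_closure_range, Set.eq_univ_iff_forall]
  intro y
  refine closure_mono ?_ (((genericPoint_spec Y).specializes (Set.mem_univ y)).mem_closure)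
  rw [Set.singleton_subset_iff, heq]
  exact Set.mem_range_self x

end Groth.Agent.S17411
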