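import Groth.Statements.S1742
import Groth.Agent.LC.ExtLoc
import Groth.Agent.LC.Depth

set_option autoImplicit false
universe u
open LocCoh

namespace Groth.Agent.S1742

theorem exists_killing {A : Type u} [CommRing A] {E : Type u} [AddCommGroup E] [Module A E] [Module.Finite A E]
    {p : PrimeSpectrum A} (h : p ∉ Module.support A E) : ∃ f : A, f ∉ p.asIdeal ∧ f ∈ Module.annihilator A E := by
  rw [Module.support_eq_zeroLocus, PrimeSpectrum.mem_zeroLocus, Set.not_subset] at h
  obtain ⟨f, hf, hfp⟩ := h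
  exact ⟨f, hfp, hf⟩

open CategoryTheory in
theorem le_idealDepth_localized_iff (A : Type u) [CommRing A] [IsNoetherianRing A] (I : Ideal A)
    (M : Type u) [AddCommGroup M] [Module A M] [Module.Finite A M] (q : PrimeSpectrum A) (e : ℕ) :
    (e : ℕ∞) ≤ LocCoh.idealDepth (I.map (algebraMap A (Localization.AtPrime q.asIdeal)))
        (LocalizedModule q.asIdeal.primeCompl M) ↔
      ∀ i < e, q ∉ Module.support A (Abelian.Ext (ModuleCat.of A (A ⧸ I)) (ModuleCat.of A M) i) := by
  haveI : IsNoetherianRing (Localization.AtPrime q.asIdeal) :=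
    IsLocalization.isNoetherianRing q.asIdeal.primeCompl _ inferInstance
  haveI : Module.Finite (Localization.AtPrime q.asIdeal) (LocalizedModule q.asIdeal.primeCompl M) :=
    Module.Finite.of_isLocalizedModule q.asIdeal.primeCompl (LocalizedModule.mkLinearMap q.asIdeal.primeCompl M)
  rw [Groth.Agent.LC.le_idealDepth_iff_ext]
  refine forall₂_congr fun i _ => ?_
  rw [Module.notMem_support_iff]
  obtain ⟨e₁⟩ := Groth.Agent.LC.exists_extLoc q.asIdeal.primeCompl M i (A ⧸ I)
  obtain ⟨e₂⟩ := Groth.Agent.LC.exists_locQuot q.asIdeal.primeCompl I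
  let φ := e₂.toModuleIso
  let E : Abelian.Ext (ModuleCat.of (Localization.AtPrime q.asIdeal)
        (Localization.AtPrime q.asIdeal ⧸ I.map (algebraMap A (Localization.AtPrime q.asIdeal))))
        (ModuleCat.of (Localization.AtPrime q.asIdeal) (LocalizedModule q.asIdeal.primeCompl M)) i ≃
      Abelian.Ext (ModuleCat.of (Localization.AtPrime q.asIdeal) (LocalizedModule q.asIdeal.primeCompl (A ⧸ I)))
        (ModuleCat.of (Localization.AtPrime q.asIdeal) (LocalizedModule q.asIdeal.primeCompl M)) i :=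
    { toFun := fun x => (Abelian.Ext.mk₀ φ.hom).comp x (zero_add i)
      invFun := fun x => (Abelian.Ext.mk₀ φ.inv).comp x (zero_add i)
      left_inv := fun x => by
        show (Abelian.Ext.mk₀ φ.inv).comp ((Abelian.Ext.mk₀ φ.hom).comp x (zero_add i)) (zero_add i) = x
        rw [Abelian.Ext.mk₀_comp_mk₀_assoc, φ.inv_hom_id, Abelian.Ext.mk₀_id_comp]
      right_inv := fun x => by
        show (Abelian.Ext.mk₀ φ.hom).comp ((Abelian.Ext.mk₀ φ.inv).comp x (zero_add i)) (zero_add i) = x
        rw [Abelian.Ext.mk₀_comp_mk₀_assoc, φ.hom_inv_id, Abelian.Ext.mk₀_id_comp] }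
  exact E.subsingleton_congr.trans e₁.toEquiv.subsingleton_congr.symm

/-- Let A be a Noetherian ring, I an ideal, M a finite A-module and p a prime containing I such that the
IA_p-depth of M_p is a finite number e. Then there is an open subset U of Spec A meeting V(p) such
that the IA_q-depth of M_q is at least e for every q in U ∩ V(p). -/
theorem result (A : Type u) [CommRing A] [IsNoetherianRing A] (I : Ideal A) (M : Type u) [AddCommGroup M] [Module A M] [Module.Finite A M] (p : PrimeSpectrum A) (hp : I ≤ p.asIdeal) (e : ℕ) (he : LocCoh.idealDepth (I.map (algebraMap A (Localization.AtPrime p.asIdeal))) (LocalizedModule p.asIdeal.primeCompl M) = e) : ∃ U : Set (PrimeSpectrum A), IsOpen U ∧ (U ∩ PrimeSpectrum.zeroLocus (p.asIdeal : Set A)).Nonempty ∧ ∀ q : PrimeSpectrum A, q ∈ U → p ≤ q → (e : ℕ∞) ≤ LocCoh.idealDepth (I.map (algebraMap A (Localization.AtPrime q.asIdeal))) (LocalizedModule q.asIdeal.primeCompl M) := by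
  classical
  have _ := hp
  have h := (le_idealDepth_localized_iff A I M p e).1 he.ge
  have hex : ∀ i : Fin e, ∃ f : A, f ∉ p.asIdeal ∧ f ∈ Module.annihilator A
      (CategoryTheory.Abelian.Ext (ModuleCat.of A (A ⧸ I)) (ModuleCat.of A M) i) := fun i => by
    refine @exists_killing A _ _ _ _ ?_ p (h i i.2)
    exact inferInstanceAs (Module.Finite A (CategoryTheory.Abelian.Ext _ _ _))
  choose f hf hann using hex
  refine ⟨PrimeSpectrum.basicOpen (∏ i, f i), (PrimeSpectrum.basicOpen _).2, ⟨p, ?_, fun x hx => hx⟩,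
    fun q hq _ => (le_idealDepth_localized_iff A I M q e).2 fun i hi hsupp => ?_⟩
  · intro hmem
    obtain ⟨i, -, hi⟩ := p.2.prod_mem_iff.1 hmem
    exact hf i hi
  · refine hq (Ideal.mem_of_dvd _ (Finset.dvd_prod_of_mem f (Finset.mem_univ ⟨i, hi⟩)) (Module.mem_support_iff_exists_annihilator.1 hsupp |>.elim fun m hm => hm ?_))
    exact Submodule.mem_annihilator_span_singleton _ _ |>.2 (Module.mem_annihilator.1 (hann ⟨i, hi⟩) m)

end Groth.Agent.S1742
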