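import Groth.Statements.S17429
import Groth.Agent.OmegaFlat.ExtPow
import Groth.Agent.OmegaFlat.Kaehler
import Groth.Agent.PopescuLib.Field
import Groth.Agent.RegLoc6.RegEtale
import Groth.Agent.RegLoc6.Serre
import Groth.Agent.LC.CohCech
import Groth.Agent.LC.Depth
import Groth.Agent.S5150
import Mathlib.RingTheory.Etale.Field
import Mathlib.RingTheory.Kaehler.JacobiZariski

set_option autoImplicit false
universe u
open LocCoh

namespace Groth.Agent.S17429

/-- Let p be a prime, A a regular local ring of characteristic p, t_1, …, t_r an A-regular sequence such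
that A/(t_1, …, t_r) is again a regular local ring (a regular closed immersion Z ↪ X = Spec A of
codimension r with Z regular and non-empty), and I = (t_1, …, t_r). Then for every i and every j ≠ r
the local cohomology module H^j_I(Ω^i_A) vanishes, where Ω^i_A is the i-th exterior power over A of
the module of Kähler differentials of A over ℤ (the same module as over the prime field). (Module
form, for X local, of the vanishing of the local cohomology sheaves H^j_Z(X, Ω^i_X), j ≠ r; the same
vanishing holds more generally for the de Rham–Witt sheaves W_mΩ^i_X and their quotients by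
dV^{m-1}Ω^{i-1}_X on the étale site of a regular F_p-scheme, a form not stated here.) -/
theorem result (p : ℕ) [Fact p.Prime]
    (A : Type u) [CommRing A] [IsRegularLocalRing A] [CharP A p]
    (ts : List A) (hreg : RingTheory.Sequence.IsRegular A ts)
    (hZ : IsRegularLocalRing (A ⧸ Ideal.ofList ts))
    (i j : ℕ) (hj : j ≠ ts.length) :
    Subsingleton (LocCoh.H (Ideal.ofList ts) j
      ↥(ExteriorAlgebra.exteriorPower A i (KaehlerDifferential ℤ A))) := by
  classical
  haveI : IsNoetherianRing A := inferInstance
  let P := ULift.{u} (ZMod p)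
  haveI : Finite P := Finite.of_equiv _ Equiv.ulift.symm
  haveI : PerfectField P := PerfectField.ofFinite
  letI : Algebra P A := ((ZMod.castHom dvd_rfl A).comp (ULift.ringEquiv (R := ZMod p)).toRingHom).toAlgebra
  haveI := Groth.Agent.RegLoc6.isRegularRing_of_isRegularLocalRing A
  -- `A` is ind-smooth over the prime field
  have hgr : CAlg.IsGeometricallyRegular P A := by
    intro k' _ _ hfin
    haveI : Algebra.IsSeparable P k' := inferInstance
    haveI : Algebra.FormallyEtale P k' := Algebra.FormallyEtale.of_isSeparable P k'
    haveI : Algebra.FinitePresentation P k' := Algebra.FinitePresentation.of_finiteType.1 inferInstance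
    haveI : Algebra.Etale P k' := ⟨inferInstance, inferInstance⟩
    haveI : IsNoetherianRing (TensorProduct P A k') := Algebra.FiniteType.isNoetherianRing A _
    haveI : IsRegularRing (TensorProduct P A k') :=
      { isRegularLocalRing_localization := fun Q _ =>
          Groth.Agent.RegLoc6.regular_of_etale (A := A) Q (IsRegularRing.isRegularLocalRing_localization _) }
    exact IsRegularRing.of_ringEquiv (Algebra.TensorProduct.comm P A k').toRingEquiv
  have hflP : Module.Flat A (KaehlerDifferential P A) :=
    Groth.Agent.OmegaFlat.flat_kaehler (Groth.Agent.PopescuLib.indSmooth_field hgr)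
  -- the differentials over the integers
  have hsurjP : Function.Surjective (algebraMap ℤ P) := fun x => by
    obtain ⟨z, hz⟩ := ZMod.intCast_surjective x.down
    exact ⟨z, (eq_intCast _ z).trans
      ((map_intCast ((ULift.ringEquiv (R := ZMod p)).symm.toRingHom) z).symm.trans (congrArg ULift.up hz))⟩
  have hflat : Module.Flat A (KaehlerDifferential ℤ A) := by
    haveI : IsScalarTower ℤ P A := IsScalarTower.of_algebraMap_eq' (RingHom.ext_int _ _)
    haveI : Subsingleton (KaehlerDifferential ℤ P) := KaehlerDifferential.subsingleton_of_surjective ℤ P hsurjP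
    haveI : Subsingleton (TensorProduct P A (KaehlerDifferential ℤ P)) := subsingleton_of_forall_eq 0 fun z => by
      induction z using TensorProduct.induction_on with
      | zero => rfl
      | tmul a w => rw [Subsingleton.elim w 0, TensorProduct.tmul_zero]
      | add a b ha hb => rw [ha, hb, add_zero]
    refine Module.Flat.of_linearEquiv (LinearEquiv.ofBijective (KaehlerDifferential.map ℤ P A A) ⟨?_,
      KaehlerDifferential.map_surjective ℤ P A⟩)
    rw [← LinearMap.ker_eq_bot, (KaehlerDifferential.exact_mapBaseChange_map ℤ P A).linearMap_ker_eq,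
      Submodule.eq_bot_iff]
    rintro _ ⟨z, rfl⟩
    rw [Subsingleton.elim z 0, map_zero]
  haveI := Groth.Agent.OmegaFlat.flat_exteriorPower (R := A) (M := KaehlerDifferential ℤ A) i
  let N := ↥(ExteriorAlgebra.exteriorPower A i (KaehlerDifferential ℤ A))
  have hregN : RingTheory.Sequence.IsWeaklyRegular N ts :=
    ((TensorProduct.rid A N).isWeaklyRegular_congr ts).1 (hreg.toIsWeaklyRegular.isWeaklyRegular_lTensor)
  have hmem : ∀ r ∈ ts, r ∈ Ideal.ofList ts := fun r hr => Ideal.subset_span hr
  rcases lt_or_gt_of_ne hj with hlt | hgt
  · refine (Groth.Agent.LC.H_vanishing_iff_ext_quot (Ideal.ofList ts) ts.length (ModuleCat.of A N)).2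
      (fun m hm => Groth.Agent.S5150.result A (Ideal.ofList ts) N (A ⧸ Ideal.ofList ts) ts hregN hmem 1 ?_ m hm) j hlt
    rw [eq_bot_iff, pow_one]
    refine Submodule.smul_le.2 fun a ha q _ => ?_
    obtain ⟨q, rfl⟩ := Ideal.Quotient.mk_surjective q
    rw [Submodule.mem_bot, Algebra.smul_def, Ideal.Quotient.algebraMap_eq, ← map_mul, Ideal.Quotient.eq_zero_iff_mem]
    exact Ideal.mul_mem_right _ _ ha
  · have h1 := Groth.Agent.LC.subsingleton_of_card_lt ts.toFinset (ModuleCat.of A N) j
      (lt_of_le_of_lt ts.toFinset_card_le hgt)
    rwa [show Ideal.span (ts.toFinset : Set A) = Ideal.ofList ts by simp [Ideal.ofList]] at h1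

end Groth.Agent.S17429
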