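import Groth.Statements.S17447
import Groth.Agent.QFCount.FinitePart

set_option autoImplicit false
set_option linter.style.haveILetI false
set_option backward.isDefEq.respectTransparency false
set_option backward.isDefEq.respectTransparency.types false
universe u
open CategoryTheory CategoryTheory.Limits AlgebraicGeometry
open Hensel

namespace Groth.Agent.S17447

/-- Let R be a henselian local ring and X → Spec R a quasi-finite separated morphism (locally of finite
type, quasi-compact, with discrete fibres). Then X decomposes uniquely as the disjoint union of an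
open and closed subscheme finite over Spec R and an open and closed subscheme with empty special
fibre: there is exactly one open subset W of X which is closed, finite over Spec R (as an open
subscheme) and contains every point lying over the closed point of Spec R. (No Noetherian hypothesis
on R.) -/
theorem result (R : Type u) [CommRing R] [HenselianLocalRing R]
    {X : Scheme.{u}} (f : X ⟶ Spec (CommRingCat.of R))
    [LocallyQuasiFinite f] [LocallyOfFiniteType f] [QuasiCompact f] [IsSeparated f] :
    ∃! W : X.Opens, IsClosed (W : Set X) ∧ IsFinite (W.ι ≫ f) ∧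
      ∀ x : X, f.base x = IsLocalRing.closedPoint R → x ∈ W := by
  obtain ⟨W, h1, h2, h3⟩ := QFCount.exists_finite_part f
  refine ⟨W, ⟨h1, h2, h3⟩, ?_⟩
  rintro W' ⟨g1, g2, g3⟩
  suffices key : ∀ (V V' : X.Opens), IsClosed (V' : Set X) → IsFinite (V.ι ≫ f) →
      (∀ x : X, f.base x = IsLocalRing.closedPoint R → x ∈ V') → V ≤ V' from
    le_antisymm (key W' W h1 g2 h3) (key W W' g1 h2 g3)
  intro V V' hV' hV hcl x hx
  by_contra hx'
  haveI := hV
  obtain ⟨v, hvx, hv⟩ := (V.ι ≫ f).isClosedMap.specializingMap (a := (⟨x, hx⟩ : V))
    (IsLocalRing.specializes_closedPoint ((V.ι ≫ f) ⟨x, hx⟩))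
  exact hx' ((hvx.map V.ι.continuous).mem_open V'.isOpen (hcl (V.ι v) hv))

end Groth.Agent.S17447
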