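import Groth.Statements.S17448
import Groth.Agent.Hensel.StrictSchemes

set_option autoImplicit false
universe u
open CategoryTheory CategoryTheory.Limits AlgebraicGeometry
open Hensel

namespace Groth.Agent.S17448

/-- Sections over henselian rings: let R be a henselian local ring with residue field k and X → Spec R a
quasi-finite (quasi-compact with discrete fibres), separated and étale morphism. Then the natural
map from sections X(R) to points X(k) of the special fibre is bijective: for every morphism t : Spec
k → X over Spec k → Spec R there is exactly one section s : Spec R → X of X → Spec R whose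
restriction to Spec k is t. -/
theorem result (R : Type u) [CommRing R]
    [HenselianLocalRing R] {X : Scheme.{u}} (f : X ⟶ Spec (CommRingCat.of R))
    [LocallyQuasiFinite f] [QuasiCompact f] [IsSeparated f] [Etale f]
    (t : Spec (CommRingCat.of (IsLocalRing.ResidueField R)) ⟶ X)
    (ht : t ≫ f = Spec.map (CommRingCat.ofHom (IsLocalRing.residue R))) :
    ∃! s : Spec (CommRingCat.of R) ⟶ X,
      s ≫ f = 𝟙 (Spec (CommRingCat.of R)) ∧ Spec.map (CommRingCat.ofHom (IsLocalRing.residue R)) ≫ s = t := by
  have hclosed : t ≫ f = Spec.map (CommRingCat.ofHom (IsLocalRing.residue R)) := ht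
  obtain ⟨S, j, hj, ⟨y, hy⟩, -⟩ := Scheme.exists_affine_mem_range_and_range_subset
    (x := t (IsLocalRing.closedPoint _)) (U := (⊤ : X.Opens)) (by simp)
  haveI : Subsingleton (Spec (CommRingCat.of (IsLocalRing.ResidueField R))) :=
    inferInstanceAs (Subsingleton (PrimeSpectrum _))
  have hr : Set.range t ⊆ Set.range j := by
    rintro _ ⟨z, rfl⟩
    exact ⟨y, hy.trans (congrArg _ (Subsingleton.elim _ _))⟩
  haveI : IsOpenImmersion j := hj
  obtain ⟨φR, hφR⟩ := Spec.map_surjective (j ≫ f)
  algebraize [φR.hom]
  have : Algebra.Etale R S := by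
    have h : Etale (Spec.map φR) := by rw [hφR]; infer_instance
    exact (HasRingHomProperty.Spec_iff (P := @Etale)).mp h
  obtain ⟨τ, hτ⟩ := Spec.map_surjective (IsOpenImmersion.lift j t hr)
  have hfac : Spec.map τ ≫ j = t := by rw [hτ, IsOpenImmersion.lift_fac]
  have hτR : φR ≫ τ = CommRingCat.ofHom (IsLocalRing.residue R) := by
    apply Spec.map_injective
    rw [Spec.map_comp, hφR, ← Category.assoc, hfac, hclosed]
  let σ : S →ₐ[R] R ⧸ IsLocalRing.maximalIdeal R :=
    { τ.hom with commutes' := fun r => congrArg (fun h => CommRingCat.Hom.hom h r) hτR }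
  obtain ⟨ψ, hψ, -⟩ := Groth.Agent.Hensel.existsUnique_etale_lift_of_algebra (IsLocalRing.maximalIdeal R) σ
  refine ⟨Spec.map (CommRingCat.ofHom ψ.toRingHom) ≫ j, ⟨?_, ?_⟩, ?_⟩
  · rw [Category.assoc, ← hφR, ← Spec.map_comp, ← Spec.map_id]
    congr 1
    ext r
    exact ψ.commutes r
  · rw [← Category.assoc, ← Spec.map_comp]
    refine Eq.trans ?_ hfac
    congr 2
    ext r
    exact congrArg (fun h => h r) hψ
  · rintro s ⟨h1, h2⟩
    refine Groth.Agent.Hensel.section_eq_of_le_jacobson R (IsLocalRing.maximalIdeal R)
      (IsLocalRing.jacobson_eq_maximalIdeal (⊥ : Ideal R) bot_ne_top).ge X f _ _ h1 ?_ ?_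
    · rw [Category.assoc, ← hφR, ← Spec.map_comp, ← Spec.map_id]
      congr 1
      ext r
      exact ψ.commutes r
    · refine h2.trans ?_
      rw [← Category.assoc, ← Spec.map_comp]
      refine hfac.symm.trans ?_
      congr 2
      ext r
      exact (congrArg (fun h => h r) hψ).symm

end Groth.Agent.S17448
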