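import Groth.Statements.S17449
import Groth.Agent.GeomLoci.ConnFlat
import Groth.Agent.GeomLoci.NearPoint
-- import your own Groth.Agent.* helpers here

set_option autoImplicit false
set_option backward.isDefEq.respectTransparency false
set_option backward.isDefEq.respectTransparency.types false
universe u
open CategoryTheory CategoryTheory.Limits AlgebraicGeometry
open Stein

-- keep the elaboration of the statement identical to the frozen one
attribute [-instance] CategoryTheory.catToReflQuiver

namespace Groth.Agent.S17449

/-- Let S be a Noetherian scheme and f : X → S a proper, flat and surjective morphism. Suppose that for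
every generic point η of an irreducible component of S the fibre of f at η is geometrically
connected and smooth over the residue field κ(η). Then every fibre of f is geometrically connected. -/
theorem result {X S : Scheme.{u}}
    (f : X ⟶ S) [IsProper f] [Flat f] [Surjective f] [IsNoetherian S]
    (h : ∀ (Z : Set ↑S) (η : ↑S), Z ∈ irreducibleComponents ↑S → IsGenericPoint η Z →
      GeometricallyConnected (f.fiberToSpecResidueField η) ∧ Smooth (f.fiberToSpecResidueField η)) :
    GeometricallyConnected f := by
  haveI : LocallyOfFinitePresentation f := GeomRedFlat5.lfp_of_noetherian f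
  refine GeomLoci.geometricallyConnected_of_nGeom f fun s => ?_
  obtain ⟨Z, hZ, hsZ⟩ := exists_mem_irreducibleComponents_subset_of_isIrreducible {s} isIrreducible_singleton
  obtain ⟨η, hη⟩ := QuasiSober.sober hZ.1 (isClosed_of_mem_irreducibleComponents Z hZ)
  haveI := (h Z η hZ hη).1
  obtain ⟨W, hW, hW'⟩ := GeomLoci.nGeomConnComp_le_nhds_flat f s
  have hηW : η ∈ W := mem_of_mem_nhds ((hη.specializes (hsZ rfl)) hW)
  refine le_antisymm ((hW' η hηW).1.trans (GeomLoci.nGeomConnComp_eq_one f η).le) ?_
  haveI : Surjective (f.fiberToSpecResidueField s) := by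
    unfold Scheme.Hom.fiberToSpecResidueField; infer_instance
  haveI : Nonempty ↥(MoreMor.geomFiber f s) := by
    obtain ⟨z, -⟩ := (pullback.snd (f.fiberToSpecResidueField s)
      (Spec.map (CommRingCat.ofHom
        (algebraMap (S.residueField s) (SeparableClosure (S.residueField s)))))).surjective
      ⟨⊥, Ideal.isPrime_bot⟩
    exact ⟨z⟩
  obtain ⟨z⟩ := ‹Nonempty ↥(MoreMor.geomFiber f s)›
  haveI : Nonempty (_root_.ConnectedComponents ↥(MoreMor.geomFiber f s)) := ⟨(z : _)⟩
  exact Order.one_le_iff_pos.2 ((ENat.card_pos_iff_nonempty _).2 inferInstance)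

end Groth.Agent.S17449
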