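import Groth.Statements.S1745
import Groth.Agent.CAlgGlobalDim.Basic
import Groth.Agent.LC.ExtDim
import Groth.Agent.ExtFlatBC.Basic

set_option autoImplicit false
universe u
open scoped TensorProduct
open InjHull

namespace Groth.Agent.S1745

/-- Let A → B be a flat homomorphism of Noetherian rings such that for every prime q of B with
contraction p, the ideal p B_q equals the maximal ideal q B_q of B_q (for instance an étale map).
Then for every injective A-module I the B-module B ⊗_A I is injective. -/
theorem result (A B : Type u) [CommRing A] [CommRing B] [Algebra A B] [IsNoetherianRing A] [IsNoetherianRing B] [Module.Flat A B] (h : ∀ q : PrimeSpectrum B, Ideal.map (algebraMap B (Localization.AtPrime q.asIdeal)) ((q.asIdeal.comap (algebraMap A B)).map (algebraMap A B)) = IsLocalRing.maximalIdeal (Localization.AtPrime q.asIdeal)) (I : Type u) [AddCommGroup I] [Module A I] [Module.Injective A I] : Module.Injective B (B ⊗[A] I) := by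
  classical
  let Q := B ⊗[A] I
  let Z : ModuleCat.{u} B := ModuleCat.of B Q
  suffices key : ∀ (J : Ideal B), J.IsPrime → ∀ i : ℕ,
      Subsingleton (CategoryTheory.Abelian.Ext.{u} (ModuleCat.of B (B ⧸ J)) Z (i + 1)) by
    refine (Groth.Agent.CAlgGlobalDim.baer_of_ext_one Z fun J => ?_).injective
    exact Groth.Agent.LC.subsingleton_ext_of_filtration Z 1 (B ⧸ J) fun q _ => key q.asIdeal q.2 0
  intro J
  induction J using IsWellFounded.induction (α := Ideal B) (· > ·) with
  | _ q ih =>
    intro hq i
    let pB : Ideal B := (q.comap (algebraMap A B)).map (algebraMap A B)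
    have hle : pB ≤ q := Ideal.map_comap_le
    -- an element outside `q` pushing `q` into `pB`
    obtain ⟨s, hsq, hs⟩ : ∃ s ∉ q, ∀ x ∈ q, s * x ∈ pB := by
      have hx : ∀ x ∈ q, ∃ s ∉ q, s * x ∈ pB := by
        intro x hxq
        have h1 : algebraMap B (Localization.AtPrime q) x ∈ pB.map (algebraMap B (Localization.AtPrime q)) := by
          rw [show pB.map (algebraMap B (Localization.AtPrime q)) = IsLocalRing.maximalIdeal _ from h ⟨q, hq⟩]
          exact (IsLocalization.AtPrime.to_map_mem_maximal_iff _ q x).2 hxq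
        obtain ⟨m, hm, hmx⟩ := (IsLocalization.algebraMap_mem_map_algebraMap_iff q.primeCompl _ pB x).1 h1
        exact ⟨m, hm, hmx⟩
      choose! f hf1 hf2 using hx
      obtain ⟨T, hT⟩ := IsNoetherian.noetherian q
      have hTq : ∀ x ∈ T, x ∈ q := fun x hx => hT ▸ Submodule.subset_span hx
      refine ⟨∏ x ∈ T, f x, fun hmem => ?_, fun x hx => ?_⟩
      · obtain ⟨y, hy, hy'⟩ := (hq.prod_mem_iff).1 hmem
        exact hf1 y (hTq y hy) hy'
      · rw [← hT] at hx
        induction hx using Submodule.span_induction with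
        | mem y hy =>
          rw [← Finset.prod_erase_mul T f hy, mul_assoc]
          exact Ideal.mul_mem_left _ _ (hf2 y (hTq y hy))
        | zero => rw [mul_zero]; exact pB.zero_mem
        | add y z _ _ hy hz => rw [mul_add]; exact pB.add_mem hy hz
        | smul c y _ hy => rw [smul_eq_mul, mul_left_comm]; exact pB.mul_mem_left _ hy
    -- `Ext` of `B/pB` vanishes
    have hp : Subsingleton (CategoryTheory.Abelian.Ext.{u} (ModuleCat.of B (B ⧸ pB)) Z (i + 1)) := by
      let p := q.comap (algebraMap A B)
      haveI : CategoryTheory.Injective (ModuleCat.of A I) :=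
        Module.injective_object_of_injective_module A I
      haveI := CategoryTheory.Abelian.Ext.subsingleton_of_injective.{u} (ModuleCat.of A (A ⧸ p)) (ModuleCat.of A I) i
      obtain ⟨e⟩ := Groth.Agent.ExtFlatBC.nonempty_equiv (A := A) (B := B) (N := I) (i + 1) (A ⧸ p)
      haveI : Subsingleton (CategoryTheory.Abelian.Ext.{u} (ModuleCat.of B (B ⊗[A] (A ⧸ p))) Z (i + 1)) :=
        e.symm.toEquiv.subsingleton
      let φ : (B ⊗[A] (A ⧸ p)) →ₗ[B] B ⧸ pB :=
        (Submodule.liftQ p ((Submodule.mkQ pB).restrictScalars A ∘ₗ Algebra.linearMap A B)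
          (fun a ha => (Submodule.Quotient.mk_eq_zero pB).2 (Ideal.mem_map_of_mem _ ha))).liftBaseChange B
      let t₀ : B →ₗ[B] B ⊗[A] (A ⧸ p) :=
        LinearMap.toSpanSingleton B _ ((1 : B) ⊗ₜ[A] Submodule.Quotient.mk (1 : A))
      have ht : pB ≤ LinearMap.ker t₀ := Ideal.map_le_iff_le_comap.2 fun a ha => by
        show algebraMap A B a • ((1 : B) ⊗ₜ[A] (Submodule.Quotient.mk (1 : A) : A ⧸ p)) = 0
        rw [algebraMap_smul, ← TensorProduct.tmul_smul, ← Submodule.Quotient.mk_smul, smul_eq_mul, mul_one,
          (Submodule.Quotient.mk_eq_zero p).2 ha, TensorProduct.tmul_zero]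
      let e2 : (B ⊗[A] (A ⧸ p)) ≃ₗ[B] B ⧸ pB := LinearEquiv.ofLinear φ (Submodule.liftQ pB t₀ ht)
        (Submodule.linearMap_qext _ (LinearMap.ext_ring (by
          show φ ((1 : B) • ((1 : B) ⊗ₜ[A] Submodule.Quotient.mk (1 : A))) = Submodule.Quotient.mk 1
          rw [one_smul]
          refine (LinearMap.liftBaseChange_tmul _ _ _ _).trans ((one_smul B _).trans ?_)
          show Submodule.Quotient.mk (algebraMap A B 1) = _
          rw [map_one])))
        (by
          apply TensorProduct.AlgebraTensorModule.ext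
          intro b x
          obtain ⟨a, rfl⟩ := Submodule.Quotient.mk_surjective p x
          show Submodule.liftQ pB t₀ ht (φ (b ⊗ₜ[A] Submodule.Quotient.mk a)) = _
          rw [show φ (b ⊗ₜ[A] Submodule.Quotient.mk a) = _ from LinearMap.liftBaseChange_tmul _ _ _ _]
          show (b * algebraMap A B a) • ((1 : B) ⊗ₜ[A] (Submodule.Quotient.mk (1 : A) : A ⧸ p)) = _
          rw [TensorProduct.smul_tmul', smul_eq_mul, mul_one, mul_comm, ← Algebra.smul_def,
            TensorProduct.smul_tmul, ← Submodule.Quotient.mk_smul, smul_eq_mul, mul_one]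
          rfl)
      refine subsingleton_of_forall_eq 0 fun x => ?_
      rw [← CategoryTheory.Abelian.Ext.mk₀_id_comp x, ← e2.toModuleIso.inv_hom_id,
        ← CategoryTheory.Abelian.Ext.mk₀_comp_mk₀,
        CategoryTheory.Abelian.Ext.comp_assoc _ _ _ (zero_add 0) (zero_add (i + 1)) (by omega),
        show (CategoryTheory.Abelian.Ext.mk₀ e2.toModuleIso.hom).comp x (zero_add (i + 1)) = 0 from
          Subsingleton.elim _ _, CategoryTheory.Abelian.Ext.comp_zero]
    -- the kernel of `B/pB → B/q` is killed by `s`
    let g : (B ⧸ pB) →ₗ[B] B ⧸ q := Submodule.mapQ pB q LinearMap.id hle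
    have hg : Function.Surjective g := fun x => by
      obtain ⟨b, rfl⟩ := Submodule.Quotient.mk_surjective q x
      exact ⟨Submodule.Quotient.mk b, rfl⟩
    have hS := LinearMap.shortExact_shortComplexKer hg
    have hkill : ∀ k : LinearMap.ker g, s • k = 0 := by
      rintro ⟨k, hk⟩
      obtain ⟨b, rfl⟩ := Submodule.Quotient.mk_surjective pB k
      apply Subtype.ext
      have hbq : b ∈ q := (Submodule.Quotient.mk_eq_zero q).1 hk
      exact (Submodule.Quotient.mk_eq_zero pB).2 (hs b hbq)
    -- multiplication by `s` is injective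
    let μ : (B ⧸ q) →ₗ[B] B ⧸ q := s • LinearMap.id
    have hμ : Function.Injective μ := (injective_iff_map_eq_zero μ).2 fun x hx => by
      obtain ⟨b, rfl⟩ := Submodule.Quotient.mk_surjective q x
      have : s * b ∈ q := (Submodule.Quotient.mk_eq_zero q).1 hx
      exact (Submodule.Quotient.mk_eq_zero q).2 ((hq.mem_or_mem this).resolve_left hsq)
    let C := (B ⧸ q) ⧸ LinearMap.range μ
    have hC : Subsingleton (CategoryTheory.Abelian.Ext.{u} (ModuleCat.of B C) Z (i + 1)) := by
      refine Groth.Agent.LC.subsingleton_ext_of_filtration Z (i + 1) C fun r hr => ?_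
      rw [Module.support_eq_zeroLocus, PrimeSpectrum.mem_zeroLocus] at hr
      have hqr : q ≤ r.asIdeal := fun x hx => hr (Module.mem_annihilator.2 fun c => by
        obtain ⟨c, rfl⟩ := Submodule.Quotient.mk_surjective _ c
        obtain ⟨b, rfl⟩ := Submodule.Quotient.mk_surjective q c
        have : x • (Submodule.Quotient.mk b : B ⧸ q) = 0 :=
          (Submodule.Quotient.mk_eq_zero q).2 (q.mul_mem_right b hx)
        rw [← Submodule.Quotient.mk_smul, this, Submodule.Quotient.mk_zero])
      have hsr : s ∈ r.asIdeal := hr (Module.mem_annihilator.2 fun c => by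
        obtain ⟨c, rfl⟩ := Submodule.Quotient.mk_surjective _ c
        rw [← Submodule.Quotient.mk_smul]
        exact (Submodule.Quotient.mk_eq_zero _).2 ⟨c, rfl⟩)
      exact ih r.asIdeal (lt_of_le_of_ne hqr fun e => hsq (e ▸ hsr)) r.2 i
    let T : CategoryTheory.ShortComplex (ModuleCat.{u} B) :=
      CategoryTheory.ShortComplex.mk (ModuleCat.ofHom μ) (ModuleCat.ofHom (LinearMap.range μ).mkQ)
        (ModuleCat.hom_ext (LinearMap.range_mkQ_comp μ))
    have hT : T.ShortExact :=
      { exact := (CategoryTheory.ShortComplex.ShortExact.moduleCat_exact_iff_function_exact _).2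
          (LinearMap.exact_map_mkQ_range μ)
        mono_f := (ModuleCat.mono_iff_injective _).2 hμ
        epi_g := (ModuleCat.epi_iff_surjective _).2 (Submodule.mkQ_surjective _) }
    refine subsingleton_of_forall_eq 0 fun x => ?_
    -- `s • x` vanishes
    have hsx : s • x = 0 := by
      obtain ⟨y, rfl⟩ := CategoryTheory.Abelian.Ext.contravariant_sequence_exact₃ hS Z x
        (@Subsingleton.elim _ hp _ _) (n₀ := i) (Nat.add_comm 1 i)
      have hy : s • y = 0 := by
        have h0 : s • CategoryTheory.CategoryStruct.id (g.shortComplexKer.X₁) = 0 :=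
          ModuleCat.hom_ext (LinearMap.ext hkill)
        rw [← CategoryTheory.Abelian.Ext.mk₀_id_comp y, ← CategoryTheory.Abelian.Ext.smul_comp,
          ← CategoryTheory.Abelian.Ext.mk₀_smul, h0, CategoryTheory.Abelian.Ext.mk₀_zero,
          CategoryTheory.Abelian.Ext.zero_comp]
      rw [← CategoryTheory.Abelian.Ext.comp_smul, hy, CategoryTheory.Abelian.Ext.comp_zero]
    have hμx : (CategoryTheory.Abelian.Ext.mk₀ T.f).comp x (zero_add (i + 1)) = 0 := by
      rw [show T.f = s • CategoryTheory.CategoryStruct.id (ModuleCat.of B (B ⧸ q)) from rfl,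
        CategoryTheory.Abelian.Ext.mk₀_smul, CategoryTheory.Abelian.Ext.smul_comp,
        CategoryTheory.Abelian.Ext.mk₀_id_comp]
      exact hsx
    obtain ⟨w, rfl⟩ := CategoryTheory.Abelian.Ext.contravariant_sequence_exact₂ hT Z x hμx
    rw [@Subsingleton.elim _ hC w 0, CategoryTheory.Abelian.Ext.comp_zero]

end Groth.Agent.S1745
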