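import Groth.Statements.S17450
import Groth.Agent.NeronComp.IsogFib
import Groth.Agent.NeronComp.NoGaBc
import Groth.Agent.NeronComp.PtAdj
import Groth.Agent.EtFound.Descent
-- import your own Groth.Agent.* helpers here

set_option autoImplicit false
universe u
open CategoryTheory MonoidalCategory CartesianMonoidalCategory MonObj GrpObj AlgebraicGeometry CategoryTheory.Limits
open AlgGrp


namespace Groth.Agent.S17450

/-- Let k be a field with algebraic closure K and G a semi-abelian variety over k, that is, a smooth
connected commutative k-group scheme of finite type whose base change to K is an extension of an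
abelian variety by a torus (there are a closed subgroup scheme T of G_K which is a torus and a flat
surjective homomorphism from G_K onto a proper smooth connected K-group scheme with kernel T). Let H
be a closed subgroup scheme of G and ℓ a prime number such that the ℓ-torsion subgroup scheme H[ℓ]
is trivial: every point h of H with values in any k-scheme satisfying h^ℓ = 1 is the unit. Then H is
finite over k. -/
theorem result (k : Type u) [Field k]
    (G : Over (Spec (CommRingCat.of k))) [GrpObj G] [IsCommMonObj G] [Smooth G.hom] [QuasiCompact G.hom]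
    [ConnectedSpace ↥G.left]
    (hK : (∃ (T : Over (Spec (CommRingCat.of (AlgebraicClosure k)))) (_ : GrpObj T) (i : T ⟶ Red.bc (Spec.map (CommRingCat.ofHom (algebraMap k (AlgebraicClosure k)))) G) (A : Over (Spec (CommRingCat.of (AlgebraicClosure k)))) (_ : GrpObj A) (q : Red.bc (Spec.map (CommRingCat.ofHom (algebraMap k (AlgebraicClosure k)))) G ⟶ A),
        IsMonHom i ∧ IsClosedImmersion i.left ∧ Red.IsTorus T ∧ IsMonHom q ∧ Surjective q.left ∧ Flat q.left ∧
        AlgGrp.IsKernel i q ∧ IsProper A.hom ∧ Smooth A.hom ∧ ConnectedSpace ↥A.left))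
    (H : Over (Spec (CommRingCat.of k))) [GrpObj H] (j : H ⟶ G) [IsMonHom j] [IsClosedImmersion j.left]
    (ℓ : ℕ) (hℓ : ℓ.Prime)
    (htors : ∀ (Y : Over (Spec (CommRingCat.of k))) (h : Y ⟶ H), h ^ ℓ = 1 → h = 1) :
    IsFinite H.hom := by
  let π : Spec (CommRingCat.of (AlgebraicClosure k)) ⟶ Spec (CommRingCat.of k) :=
    Spec.map (CommRingCat.ofHom (algebraMap k (AlgebraicClosure k)))
  haveI : Mono j := (Over.forget _).mono_of_mono_map (inferInstanceAs (Mono j.left))
  haveI : IsCommMonObj H := Groth.Agent.Deform.Extension.isCommMonObj_of fun Y x y => by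
    rw [← cancel_mono j, MonObj.mul_comp, MonObj.mul_comp]
    exact Groth.Agent.Deform.Extension.mul_comm_of (x ≫ j) (y ≫ j)
  haveI : LocallyOfFiniteType H.hom := by rw [← Over.w j]; infer_instance
  haveI : QuasiCompact H.hom := by rw [← Over.w j]; infer_instance
  haveI : IsCommMonObj (Red.bc π H) := Groth.Agent.Deform.Extension.isCommMonObj_of fun T =>
    Groth.Agent.Deform.Extension.comm_bc π (fun T => Groth.Agent.Deform.Extension.mul_comm_of) T
  haveI : LocallyOfFiniteType (Red.bc π H).hom := inferInstanceAs (LocallyOfFiniteType (pullback.snd H.hom π))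
  haveI : QuasiCompact (Red.bc π H).hom := inferInstanceAs (QuasiCompact (pullback.snd H.hom π))
  haveI : IsFinite (Red.bc π H).hom := by
    refine Groth.Agent.NeronComp.IsogFib.isFinite_of_kernel_trivial (Red.bc π H) ?_ hℓ.two_le ?_
    · intro g hg hgc
      haveI := hg; haveI := hgc
      haveI : IsClosedImmersion ((Over.pullback π).map j).left :=
        MorphismProperty.overPullbackMap (P := @IsClosedImmersion) π j inferInstance
      exact Groth.Agent.NeronComp.NoGaBc.noGa_semiAb hK (g ≫ (Over.pullback π).map j) inferInstance
        (inferInstanceAs (IsClosedImmersion (g.left ≫ ((Over.pullback π).map j).left)))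
    · intro Y x hx
      apply (Groth.Agent.NeronComp.PtAdj.adjHom π Y H).symm.injective
      rw [map_one]
      exact htors _ _ (by rw [← map_pow, hx, map_one])
  haveI := Groth.Agent.EtFound.fpqc_isFinite.{u}
  have hπ : (@Surjective ⊓ @Flat ⊓ @QuasiCompact : MorphismProperty Scheme.{u}) π := by
    refine ⟨⟨⟨fun w => ⟨IsLocalRing.closedPoint (AlgebraicClosure k),
      Subsingleton.elim (α := PrimeSpectrum k) _ _⟩⟩, ?_⟩, inferInstance⟩
    rw [HasRingHomProperty.Spec_iff (P := @Flat)]
    exact RingHom.flat_algebraMap_iff.mpr inferInstance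
  exact MorphismProperty.of_isPullback_of_descendsAlong (P := @IsFinite)
    (IsPullback.of_hasPullback H.hom π).flip hπ ‹IsFinite (Red.bc π H).hom›

end Groth.Agent.S17450
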