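import Groth.Statements.S17453
import Groth.Agent.Deform.Chev.SemiAbSub
import Groth.Agent.Deform.Chev.SemiAbMax


set_option autoImplicit false
universe u
open CategoryTheory MonoidalCategory CartesianMonoidalCategory MonObj GrpObj AlgebraicGeometry CategoryTheory.Limits
open AlgGrp

namespace Groth.Agent.S17453
set_option linter.style.haveILetI false

open CategoryTheory CategoryTheory.Limits MonoidalCategory CartesianMonoidalCategory MonObj GrpObj AlgebraicGeometry

attribute [local instance] CategoryTheory.Hom.monoid CategoryTheory.Hom.group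

/-- Let k be a field with algebraic closure K and 1 → G' → G → G'' → 1 a short exact sequence of smooth
connected k-group schemes of finite type: G' → G is a homomorphism and a closed immersion, G → G''
is a flat surjective homomorphism, and G' is its kernel. Say that such a group is semi-abelian when
its base change to K, modulo a suitable torus, is an abelian variety (there are a closed subgroup
scheme of the base change which is a torus and a flat surjective homomorphism onto a proper smooth
connected K-group scheme with that kernel); commutativity is not assumed, it follows. Then G is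
semi-abelian exactly when both G' and G'' are semi-abelian. -/
theorem result (k : Type u) [Field k]
    (G' G G'' : Over (Spec (CommRingCat.of k))) [GrpObj G'] [GrpObj G] [GrpObj G'']
    [Smooth G'.hom] [QuasiCompact G'.hom] [ConnectedSpace ↥G'.left]
    [Smooth G.hom] [QuasiCompact G.hom] [ConnectedSpace ↥G.left]
    [Smooth G''.hom] [QuasiCompact G''.hom] [ConnectedSpace ↥G''.left]
    (j : G' ⟶ G) [IsMonHom j] [IsClosedImmersion j.left]
    (p : G ⟶ G'') [IsMonHom p] [Surjective p.left] [Flat p.left] (hex : AlgGrp.IsKernel j p) :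
    (∃ (T : Over (Spec (CommRingCat.of (AlgebraicClosure k)))) (_ : GrpObj T) (i : T ⟶ Red.bc (Spec.map (CommRingCat.ofHom (algebraMap k (AlgebraicClosure k)))) G) (A : Over (Spec (CommRingCat.of (AlgebraicClosure k)))) (_ : GrpObj A) (q : Red.bc (Spec.map (CommRingCat.ofHom (algebraMap k (AlgebraicClosure k)))) G ⟶ A),
        IsMonHom i ∧ IsClosedImmersion i.left ∧ Red.IsTorus T ∧ IsMonHom q ∧ Surjective q.left ∧ Flat q.left ∧
        AlgGrp.IsKernel i q ∧ IsProper A.hom ∧ Smooth A.hom ∧ ConnectedSpace ↥A.left) ↔
    ((∃ (T : Over (Spec (CommRingCat.of (AlgebraicClosure k)))) (_ : GrpObj T) (i : T ⟶ Red.bc (Spec.map (CommRingCat.ofHom (algebraMap k (AlgebraicClosure k)))) G') (A : Over (Spec (CommRingCat.of (AlgebraicClosure k)))) (_ : GrpObj A) (q : Red.bc (Spec.map (CommRingCat.ofHom (algebraMap k (AlgebraicClosure k)))) G' ⟶ A),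
        IsMonHom i ∧ IsClosedImmersion i.left ∧ Red.IsTorus T ∧ IsMonHom q ∧ Surjective q.left ∧ Flat q.left ∧
        AlgGrp.IsKernel i q ∧ IsProper A.hom ∧ Smooth A.hom ∧ ConnectedSpace ↥A.left) ∧
     (∃ (T : Over (Spec (CommRingCat.of (AlgebraicClosure k)))) (_ : GrpObj T) (i : T ⟶ Red.bc (Spec.map (CommRingCat.ofHom (algebraMap k (AlgebraicClosure k)))) G'') (A : Over (Spec (CommRingCat.of (AlgebraicClosure k)))) (_ : GrpObj A) (q : Red.bc (Spec.map (CommRingCat.ofHom (algebraMap k (AlgebraicClosure k)))) G'' ⟶ A),
        IsMonHom i ∧ IsClosedImmersion i.left ∧ Red.IsTorus T ∧ IsMonHom q ∧ Surjective q.left ∧ Flat q.left ∧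
        AlgGrp.IsKernel i q ∧ IsProper A.hom ∧ Smooth A.hom ∧ ConnectedSpace ↥A.left)) := by
  let π := Spec.map (CommRingCat.ofHom (algebraMap k (AlgebraicClosure k)))
  let F := Over.pullback π
  haveI : Smooth (Red.bc π G').hom := inferInstanceAs (Smooth (pullback.snd G'.hom π))
  haveI : Smooth (Red.bc π G).hom := inferInstanceAs (Smooth (pullback.snd G.hom π))
  haveI : Smooth (Red.bc π G'').hom := inferInstanceAs (Smooth (pullback.snd G''.hom π))
  haveI : QuasiCompact (Red.bc π G').hom := inferInstanceAs (QuasiCompact (pullback.snd G'.hom π))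
  haveI : QuasiCompact (Red.bc π G).hom := inferInstanceAs (QuasiCompact (pullback.snd G.hom π))
  haveI : QuasiCompact (Red.bc π G'').hom := inferInstanceAs (QuasiCompact (pullback.snd G''.hom π))
  haveI : ConnectedSpace (Red.bc π G').left :=
    Agent.GrpSchLib.AntiAffine.connectedSpace_bc G' (algebraMap k (AlgebraicClosure k))
  haveI : IsClosedImmersion (F.map j).left := MorphismProperty.overPullbackMap (P := @IsClosedImmersion) π j ‹_›
  haveI : Surjective (F.map p).left := MorphismProperty.overPullbackMap (P := @Surjective) π p ‹_›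
  haveI : Flat (F.map p).left := MorphismProperty.overPullbackMap (P := @Flat) π p ‹_›
  have hk' := Deform.Chev.SemiAbelian.isKernel_bc π j p hex
  constructor
  · intro hG
    obtain ⟨T, iT, t, A, iA, α, ht, htc, hT, hα, hαs, hαf, hkα, hA, hAs, hAc⟩ := id hG
    haveI := ht; haveI := hα; haveI := hαs; haveI := hαf; haveI := hA
    haveI : IsCommMonObj (Red.bc π G) := Deform.Chev.SemiAb.isCommMonObj t hT α hkα
    haveI := Deform.Chev.quasiCompact_of_grp (F.map p)
    haveI : IsCommMonObj (Red.bc π G'') := Deform.Chev.SemiAbExt.isCommMonObj_of_quotient (F.map p)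
    exact ⟨Deform.Chev.SemiAbExt.subgroup (F.map j) hG, Deform.Chev.SemiAbExt.quotient (F.map p) hG⟩
  · rintro ⟨h', h''⟩
    exact Deform.Chev.SemiAbExt.extension (F.map j) (F.map p) hk' h' h''

end Groth.Agent.S17453
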