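import Groth.Statements.S17459
import Groth.Agent.NeronComp.Isogeny
-- import your own Groth.Agent.* helpers here

set_option autoImplicit false
set_option backward.isDefEq.respectTransparency false
set_option backward.isDefEq.respectTransparency.types false
universe u
open CategoryTheory CategoryTheory.Limits AlgebraicGeometry MonObj
open SGA7


namespace Groth.Agent.S17459

/-- Let R be a discrete valuation ring with fraction field K, let N and N' be group schemes over Spec R
which are Néron models of their generic fibres A = N_K and B = N'_K, abelian varieties (proper and
geometrically integral) of the same dimension, and let u : N → N' be a homomorphism (the extension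
of u_K : A → B). If the homomorphism induced by u on the special fibres is locally quasi-finite — as
it is when it restricts to an isogeny between the identity components, the printed hypothesis, which
also forces dim A = dim B — then u_K is an isogeny: its underlying map is surjective and its kernel
is finite. -/
theorem result (R K : Type u) [CommRing R] [IsDomain R]
    [IsDiscreteValuationRing R] [Field K] [Algebra R K] [IsFractionRing R K]
    (N N' : Over (Spec (CommRingCat.of R))) [GrpObj N] [GrpObj N']
    (hN : SGA7.IsNeron R K N) (hN' : SGA7.IsNeron R K N')
    [IsProper ((SGA7.genFib R K).obj N).hom] [GeometricallyIntegral ((SGA7.genFib R K).obj N).hom]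
    [IsProper ((SGA7.genFib R K).obj N').hom] [GeometricallyIntegral ((SGA7.genFib R K).obj N').hom]
    (hdim : topologicalKrullDim ↥((SGA7.genFib R K).obj N).left = topologicalKrullDim ↥((SGA7.genFib R K).obj N').left)
    (u : N ⟶ N') [IsMonHom u]
    [LocallyQuasiFinite (SGA7.fibreHom (IsLocalRing.closedPoint R) u).left] :
    SGA7.IsIsogenyOver ((SGA7.genFib R K).map u) := by
  haveI := hN.1
  haveI := hN'.1
  haveI := hN.2.2.1
  haveI := hN'.2.1
  haveI : IsPreimmersion (Spec.map (CommRingCat.ofHom (algebraMap R K))) :=
    IsPreimmersion.of_isLocalization (nonZeroDivisors R)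
  let uK := (SGA7.genFib R K).map u
  haveI hf : IsFinite uK.left := Groth.Agent.NeronComp.isFinite_map u K
  haveI hA : GeometricallyIntegral ((SGA7.genFib R K).obj N).hom := ‹_›
  haveI hB : GeometricallyIntegral ((SGA7.genFib R K).obj N').hom := ‹_›
  haveI : IsIntegral ((SGA7.genFib R K).obj N).left :=
    hA.geometrically_isIntegral (K := K) (𝟙 _) (𝟙 _) ((SGA7.genFib R K).obj N).hom IsPullback.of_id_fst
  haveI : IsIntegral ((SGA7.genFib R K).obj N').left :=
    hB.geometrically_isIntegral (K := K) (𝟙 _) (𝟙 _) ((SGA7.genFib R K).obj N').hom IsPullback.of_id_fst
  refine ⟨Groth.Agent.NeronComp.surjective_of_finite_of_dim_eq uK hdim, fun M i hk => ?_⟩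
  have sq : IsPullback i.left (CategoryTheory.CartesianMonoidalCategory.toUnit M).left uK.left
      (η[(SGA7.genFib R K).obj N']).left := hk.map (Over.forget _)
  have h := MorphismProperty.of_isPullback (P := @IsFinite) sq hf
  exact h

end Groth.Agent.S17459
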