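import Groth.Statements.S17464
import Groth.Agent.S13371
import Groth.Agent.GrpSchLib.RankOneNonComm
import Groth.Agent.Deform.TorusAlg
import Groth.Agent.Deform.QuotGroup


set_option autoImplicit false
universe u
open CategoryTheory MonoidalCategory CartesianMonoidalCategory MonObj GrpObj AlgebraicGeometry CategoryTheory.Limits
open AlgGrp

namespace Groth.Agent.S17464
open Groth.Agent.GrpSchLib.AffineHopf WithConv

attribute [local instance] CategoryTheory.Hom.monoid CategoryTheory.Hom.group

set_option linter.style.haveILetI false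

/-- A homomorphism trivial on the kernel of a faithfully flat homomorphism descends. -/
theorem exists_descHom {S : Scheme.{u}} {N G Q C : Over S} [GrpObj G] [GrpObj Q] [GrpObj C] (j : N ⟶ G) (q : G ⟶ Q)
    [IsMonHom q] [Flat q.left] [Surjective q.left] [LocallyOfFinitePresentation q.left] (hker : AlgGrp.IsKernel j q)
    (φ : G ⟶ C) [IsMonHom φ] (hφ : j ≫ φ = 1) : ∃ (ψ : Q ⟶ C) (_ : IsMonHom ψ), q ≫ ψ = φ := by
  obtain ⟨ψ, hψ⟩ := Deform.QuotDescent.exists_descOver q φ fun X x y h => by
    have h1 : (x * y⁻¹) ≫ q = toUnit X ≫ η[Q] := by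
      rw [MonObj.mul_comp, GrpObj.inv_comp, h, mul_inv_cancel]
      rfl
    have h2 : (hker.lift (x * y⁻¹) (toUnit X) h1 ≫ j) ≫ φ = 1 := by
      rw [Category.assoc, hφ, MonObj.comp_one]
    rw [hker.lift_fst, MonObj.mul_comp, GrpObj.inv_comp] at h2
    exact mul_inv_eq_one.mp h2
  haveI := Deform.QuotDescent.epi_of_fppf q
  refine ⟨ψ, { one_hom := ?_, mul_hom := ?_ }, hψ⟩
  · rw [← IsMonHom.one_hom (f := q), Category.assoc, hψ, IsMonHom.one_hom]
  · obtain ⟨_, _, _⟩ := Deform.QuotGroup.fppf_tensor q q
    haveI := Deform.QuotDescent.epi_of_fppf (q ⊗ₘ q)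
    rw [← cancel_epi (q ⊗ₘ q), ← IsMonHom.mul_hom_assoc (f := q), hψ, IsMonHom.mul_hom,
      MonoidalCategory.tensorHom_comp_tensorHom_assoc, hψ]

/-- A homomorphism to a diagonalisable group is trivial when there are no characters. -/
theorem eq_one_of_forall_char (k : Type u) [Field k] (M : Type) [AddCommGroup M] {U : Over (Spec (CommRingCat.of k))}
    [GrpObj U] [IsAffine U.left] (hU : ∀ φ : U ⟶ Red.Gm (Spec (CommRingCat.of k)), IsMonHom φ → φ = 1)
    (g : U ⟶ Red.DS (Spec (CommRingCat.of k)) M) [IsMonHom g] : g = 1 := by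
  obtain ⟨B, _, _, ⟨eU⟩⟩ := exists_hopf U
  obtain ⟨eM⟩ := nonempty_DS_iso k M
  obtain ⟨e1⟩ := nonempty_DS_iso k ℤ
  haveI : IsIso eU.hom.hom.hom := ((Grp.forget _).mapIso eU).isIso_hom
  haveI : IsIso eM.inv.hom.hom := ((Grp.forget _).mapIso eM).isIso_inv
  haveI : IsIso e1.hom.hom.hom := ((Grp.forget _).mapIso e1).isIso_hom
  obtain ⟨gg, hgg⟩ := exists_bialgHom (eU.hom.hom.hom ≫ g ≫ eM.inv.hom.hom)
  rw [← cancel_mono eM.inv.hom.hom, ← cancel_epi eU.hom.hom.hom, hgg, MonObj.one_comp, MonObj.comp_one]
  have key : ∀ m : Multiplicative M, gg (MonoidAlgebra.single m 1) = 1 := fun m => by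
    let δ := MonoidAlgebra.mapDomainBialgHom k (zpowersHom (Multiplicative M) m)
    let ρ := gg.comp δ
    haveI : IsMonHom (spMap (ρ : MonoidAlgebra k (Multiplicative ℤ) →ₐ[k] B)) := isMonHom_spMap ρ
    have h := hU (eU.inv.hom.hom ≫ spMap (ρ : MonoidAlgebra k (Multiplicative ℤ) →ₐ[k] B) ≫ e1.hom.hom.hom) inferInstance
    haveI : IsIso eU.inv.hom.hom := ((Grp.forget _).mapIso eU).isIso_inv
    rw [← MonObj.comp_one eU.inv.hom.hom, cancel_epi, ← MonObj.one_comp e1.hom.hom.hom, cancel_mono,
      spMap_eq_mapMulEquiv, ← map_one Spec.mapMulEquiv, EmbeddingLike.apply_eq_iff_eq] at h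
    have h' := congr(($h).ofConv (MonoidAlgebra.single (Multiplicative.ofAdd 1) 1))
    simpa [ρ, δ, AlgHom.convOne_def] using h'
  rw [spMap_eq_mapMulEquiv, ← map_one Spec.mapMulEquiv]
  refine congrArg Spec.mapMulEquiv (congrArg toConv (MonoidAlgebra.algHom_ext (fun m => ?_) (by ext)))
  refine (key m).trans ?_
  simp

/-- Let k be an algebraically closed field, T a k-torus and U a smooth connected affine k-group scheme
of finite type with a composition series whose successive quotients are additive groups: closed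
subgroup schemes U_0 → U_1 → … → U_n = U (homomorphisms which are closed immersions, U_i ↦ U_{i+1}),
with U_0 the trivial group, U_n identified with U by an isomorphism of group schemes, and each U_i
the kernel of a flat surjective homomorphism from U_{i+1} onto the additive group. Then every
homomorphism from U to T is the trivial one. (The published statement is over an arbitrary field for
a torus and a smooth connected unipotent group, unipotent meaning that such a composition series
exists over an algebraic closure; this row states the case of an algebraically closed base field.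
The companion assertion, that homomorphisms from T to U are trivial, is an existing statement about
groups of multiplicative type.) -/
theorem result (k : Type u) [Field k] [IsAlgClosed k]
    (T U : Over (Spec (CommRingCat.of k))) [GrpObj T] [GrpObj U] (hT : Red.IsTorus T)
    [Smooth U.hom] [QuasiCompact U.hom] [ConnectedSpace ↥U.left] [IsAffine U.left]
    (n : ℕ) (Us : Fin (n + 1) → Over (Spec (CommRingCat.of k))) [∀ i, GrpObj (Us i)]
    (h0 : Red.IsTrivialGrp (Us 0))
    (e : Us (Fin.last n) ≅ U) [IsMonHom e.hom]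
    (incl : ∀ i : Fin n, Us i.castSucc ⟶ Us i.succ) [∀ i, IsMonHom (incl i)]
    [∀ i, IsClosedImmersion (incl i).left]
    (quot : ∀ i : Fin n, Us i.succ ⟶ Red.Ga (Spec (CommRingCat.of k))) [∀ i, IsMonHom (quot i)]
    [∀ i, Surjective (quot i).left] [∀ i, Flat (quot i).left]
    (hker : ∀ i : Fin n, AlgGrp.IsKernel (incl i) (quot i))
    (f : U ⟶ T) [IsMonHom f] :
    f = 1 := by
  have hUs : ∀ i : Fin (n + 1), LocallyOfFiniteType (Us i).hom := by
    refine Fin.reverseInduction ?_ fun i hi => ?_
    · haveI : IsIso e.hom.left := ((Over.forget _).mapIso e).isIso_hom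
      rw [← Over.w e.hom]
      infer_instance
    · rw [← Over.w (incl i)]
      infer_instance
  have hGm : ∀ (i : Fin (n + 1)) (φ : Us i ⟶ Red.Gm (Spec (CommRingCat.of k))), IsMonHom φ → φ = 1 := by
    refine Fin.induction ?_ fun i ih => ?_
    · intro φ hφ
      haveI := hφ
      haveI : IsIso (Us 0).hom := h0
      haveI : IsIso ((Over.forget _).map (toUnit (Us 0))) := by
        show IsIso (toUnit (Us 0)).left
        rw [show (toUnit (Us 0)).left = (Us 0).hom by simpa using Over.w (toUnit (Us 0))]
        infer_instance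
      haveI : IsIso (toUnit (Us 0)) := isIso_of_reflects_iso _ (Over.forget _)
      have h1 : η[Us 0] = inv (toUnit (Us 0)) := IsIso.eq_inv_of_inv_hom_id (toUnit_unique _ _)
      haveI : IsIso η[Us 0] := by rw [h1]; infer_instance
      rw [← cancel_epi η[Us 0], IsMonHom.one_hom, MonObj.comp_one, MonObj.one_eq_one]
    · intro φ hφ
      haveI := hφ
      haveI := hUs i.succ
      haveI := GrpSchLib.RankOne.smooth_ga (Spec (CommRingCat.of k))
      haveI : IsLocallyNoetherian (Red.Ga (Spec (CommRingCat.of k))).left :=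
        LocallyOfFiniteType.isLocallyNoetherian (Red.Ga (Spec (CommRingCat.of k))).hom
      haveI : LocallyOfFiniteType (quot i).left := by
        haveI : LocallyOfFiniteType ((quot i).left ≫ (Red.Ga (Spec (CommRingCat.of k))).hom) := by
          rw [Over.w]
          infer_instance
        exact locallyOfFiniteType_of_comp (quot i).left (Red.Ga (Spec (CommRingCat.of k))).hom
      haveI : LocallyOfFinitePresentation (quot i).left := inferInstance
      haveI hq : IsMonHom (quot i) := ‹∀ i, IsMonHom (quot i)› i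
      have hincl : incl i ≫ φ = 1 := ih (incl i ≫ φ) inferInstance
      obtain ⟨ψ, hψm, hψ⟩ := exists_descHom (incl i) (quot i) (hker i) φ hincl
      haveI := hψm
      rw [← hψ, S13371.result _ ψ, MonObj.comp_one]
  have hU : ∀ φ : U ⟶ Red.Gm (Spec (CommRingCat.of k)), IsMonHom φ → φ = 1 := fun φ hφ => by
    haveI := hφ
    haveI : Epi e.hom := inferInstance
    rw [← cancel_epi e.hom, hGm _ (e.hom ≫ φ) inferInstance, MonObj.comp_one]
  obtain ⟨r, ⟨eT⟩⟩ := Deform.exists_split T hT
  haveI : IsIso eT.hom.hom.hom := ((Grp.forget _).mapIso eT).isIso_hom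
  rw [← cancel_mono eT.hom.hom.hom, MonObj.one_comp]
  exact eq_one_of_forall_char k (Fin r → ℤ) hU (f ≫ eT.hom.hom.hom)

end Groth.Agent.S17464
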