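import Groth.Statements.S17473
import Groth.Agent.Deform.Blanchard.Main


set_option autoImplicit false
universe u
open CategoryTheory MonoidalCategory CartesianMonoidalCategory MonObj GrpObj AlgebraicGeometry CategoryTheory.Limits
open AlgGrp

namespace Groth.Agent.S17473
attribute [local instance] CategoryTheory.Hom.monoid CategoryTheory.Hom.group
set_option linter.style.haveILetI false
set_option maxHeartbeats 1000000
open Groth.Agent.Deform

/-- Let k be a field, G a k-group scheme locally of finite type, X and Y separated k-schemes, f : X → Y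
a proper k-morphism such that O_Y → f_*O_X is an isomorphism (on sections over every open subset of
Y), and a an action of G on X. The following are equivalent: (i) some action of G on Y makes f
equivariant; (ii) X ×_Y X is stable under G acting diagonally on X × X, i.e. for every k-scheme T,
every T-point g of G and all T-points x₁, x₂ of X with f x₁ = f x₂ one has f (g · x₁) = f (g · x₂);
(iii) the underlying map of the composite G × X → X → Y is constant on the topological fibres of G ×
X → G × Y. (The published text works over an algebraically closed field; any field is allowed here.) -/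
theorem result (k : Type u) [Field k]
    (G X Y : Over (Spec (CommRingCat.of k))) [GrpObj G] [LocallyOfFiniteType G.hom]
    [IsSeparated X.hom] [IsSeparated Y.hom]
    (f : X ⟶ Y) [IsProper f.left] (hf : ∀ U : Y.left.Opens, IsIso (f.left.app U))
    (a : AlgGrp.Action G X) :
    [∃ b : AlgGrp.Action G Y, (G ◁ f) ≫ b.act = a.act ≫ f,
      ∀ (T : Over (Spec (CommRingCat.of k))) (g : T ⟶ G) (x₁ x₂ : T ⟶ X),
        x₁ ≫ f = x₂ ≫ f → lift g x₁ ≫ a.act ≫ f = lift g x₂ ≫ a.act ≫ f,
      ∀ p q : ↥(G ⊗ X).left, (G ◁ f).left.base p = (G ◁ f).left.base q →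
        (a.act ≫ f).left.base p = (a.act ≫ f).left.base q].TFAE := by
  tfae_have 1 → 2 := by
    rintro ⟨b, hb⟩ T g x₁ x₂ hx
    have e : ∀ x : T ⟶ X, lift g x ≫ a.act ≫ f = lift g (x ≫ f) ≫ b.act := fun x => by
      rw [← hb, ← Category.assoc]
      congr 1
      apply CartesianMonoidalCategory.hom_ext <;> simp
    rw [e, e, hx]
  tfae_have 2 → 3 := by
    intro h p q hpq
    obtain ⟨r, hr1, hr2⟩ := Scheme.Pullback.exists_preimage_pullback p q hpq
    let W : Over (Spec (CommRingCat.of k)) :=
      Over.mk (pullback.fst (G ◁ f).left (G ◁ f).left ≫ (G ⊗ X).hom)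
    let q₁ : W ⟶ G ⊗ X := Over.homMk (pullback.fst (G ◁ f).left (G ◁ f).left) rfl
    let q₂ : W ⟶ G ⊗ X := Over.homMk (pullback.snd (G ◁ f).left (G ◁ f).left) (by
      show _ = pullback.fst _ _ ≫ (G ⊗ X).hom
      rw [← Over.w (G ◁ f), pullback.condition_assoc])
    have hq : q₁ ≫ (G ◁ f) = q₂ ≫ (G ◁ f) := Over.OverMorphism.ext pullback.condition
    have e1 : q₁ ≫ fst G X = q₂ ≫ fst G X := by
      have := congrArg (· ≫ fst G Y) hq
      simpa [Category.assoc] using this
    have e2 : (q₁ ≫ snd G X) ≫ f = (q₂ ≫ snd G X) ≫ f := by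
      have := congrArg (· ≫ snd G Y) hq
      simpa [Category.assoc] using this
    have key := h W (q₁ ≫ fst G X) _ _ e2
    have l1 : ∀ z : W ⟶ G ⊗ X, lift (z ≫ fst G X) (z ≫ snd G X) = z := fun z => by
      rw [← comp_lift, lift_fst_snd, Category.comp_id]
    rw [l1, e1, l1] at key
    rw [← hr1, ← hr2]
    exact congr($(key).left.base r)
  tfae_have 3 → 1 := fun h => (Blanchard.exists_action f hf a h).exists
  tfae_finish

end Groth.Agent.S17473
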