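import Groth.Statements.S1748
import Groth.Agent.H9Misc.DRingInjAmp
import Groth.Agent.LC.InjNoeth

set_option autoImplicit false
set_option backward.isDefEq.respectTransparency false
set_option backward.isDefEq.respectTransparency.types false
universe u
open CategoryTheory
open scoped TensorProduct Polynomial
attribute [local instance] HasDerivedCategory.standard
open InjHull

namespace Groth.Agent.S1748

open scoped Polynomial in
/-- An `A`-linear map commuting with `X` is `A[X]`-linear. -/
def liftX {A : Type*} [CommRing A] {M N : Type*} [AddCommMonoid M] [Module A M] [Module A[X] M]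
    [IsScalarTower A A[X] M] [AddCommMonoid N] [Module A N] [Module A[X] N] [IsScalarTower A A[X] N]
    (f : M →ₗ[A] N) (h : ∀ m, f ((Polynomial.X : A[X]) • m) = (Polynomial.X : A[X]) • f m) :
    M →ₗ[A[X]] N where
  toFun := f
  map_add' := f.map_add
  map_smul' p m := by
    simp only [RingHom.id_apply]
    induction p using Polynomial.induction_on with
    | C a => rw [← Polynomial.algebraMap_eq, algebraMap_smul, algebraMap_smul, map_smul]
    | add p q hp hq => rw [add_smul, add_smul, map_add, hp, hq]
    | monomial n a ih =>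
      rw [pow_succ', mul_left_comm, mul_smul, h, ih, ← mul_smul]

section
variable {A : Type u} [CommRing A] (Q : Type u) [AddCommGroup Q] [Module A Q]

/-- The shift of sequences. -/
def shiftMap : (ℕ → Q) →ₗ[A] (ℕ → Q) where
  toFun s n := s (n + 1)
  map_add' _ _ := rfl
  map_smul' _ _ := rfl

/-- Sequences, with `X` acting by the shift. -/
abbrev Seq := Module.AEval' (shiftMap (A := A) Q)

open scoped Polynomial in
theorem injective_seq [Module.Injective A Q] : Module.Injective A[X] (Seq (A := A) Q) := by
  refine ⟨fun M N _ _ _ _ f hf g => ?_⟩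
  letI := Module.compHom M (algebraMap A A[X])
  letI := Module.compHom N (algebraMap A A[X])
  haveI : IsScalarTower A A[X] M := .of_algebraMap_smul fun _ _ => rfl
  haveI : IsScalarTower A A[X] N := .of_algebraMap_smul fun _ _ => rfl
  let S := Module.AEval'.of (shiftMap (A := A) Q)
  let g₀ : M →ₗ[A] Q := LinearMap.proj 0 ∘ₗ S.symm.toLinearMap ∘ₗ g.restrictScalars A
  obtain ⟨h₀, hh₀⟩ := Module.Injective.out (f.restrictScalars A) hf g₀
  let h₁ : N →ₗ[A] (ℕ → Q) := LinearMap.pi fun n =>
    h₀ ∘ₗ ((Module.toModuleEnd A (S := A[X]) N) ((Polynomial.X : A[X]) ^ n))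
  refine ⟨liftX (S.toLinearMap ∘ₗ h₁) fun y => ?_, fun x => ?_⟩
  · show S (h₁ _) = (Polynomial.X : A[X]) • S (h₁ y)
    rw [Module.AEval'.X_smul_of]
    congr 1
    ext n
    show h₀ ((Polynomial.X : A[X]) ^ n • (Polynomial.X : A[X]) • y) = h₀ ((Polynomial.X : A[X]) ^ (n + 1) • y)
    rw [pow_succ, mul_smul]
  · show S (h₁ (f x)) = g x
    obtain ⟨s, hs⟩ := S.surjective (g x)
    rw [← hs]
    congr 1
    ext n
    show h₀ ((Polynomial.X : A[X]) ^ n • f x) = s n
    rw [← map_smul f]
    refine (hh₀ _).trans ?_
    show S.symm (g ((Polynomial.X : A[X]) ^ n • x)) 0 = s n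
    rw [map_smul g, ← hs]
    suffices H : ∀ (n : ℕ) (s : ℕ → Q), ∃ s' : ℕ → Q, (Polynomial.X : A[X]) ^ n • S s = S s' ∧ ∀ j, s' j = s (j + n) by
      obtain ⟨s', e, h⟩ := H n s
      rw [e, LinearEquiv.symm_apply_apply, h, zero_add]
    intro n
    induction n with
    | zero => exact fun s => ⟨s, by rw [pow_zero, one_smul], fun j => rfl⟩
    | succ n ih =>
      intro s
      obtain ⟨s', e, h⟩ := ih s
      refine ⟨shiftMap (A := A) Q s', by rw [pow_succ', mul_smul, e, Module.AEval'.X_smul_of], fun j => ?_⟩
      show s' (j + 1) = _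
      rw [h, add_right_comm, add_assoc]

end


/-- Let A be a Noetherian ring and E an injective A-module. Then A[x] ⊗_A E, as an object of D(A[x]) in
degree 0, has injective amplitude in [0, 1]: it is quasi-isomorphic to a complex of injective
A[x]-modules concentrated in degrees 0 and 1. In particular it has finite injective dimension. -/
theorem result (A : Type u) [CommRing A] [IsNoetherianRing A] (E : Type u) [AddCommGroup E] [Module A E] [Module.Injective A E] : DRing.HasInjAmplitudeIn A[X] 0 1 (Dual.inD A[X] (A[X] ⊗[A] E)) := by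
  let Q := A[X] ⊗[A] E
  haveI : Module.Injective A Q := by
    have h := Groth.Agent.LC.injective_directSum (R := A) (ι := ULift.{u} ℕ) (fun _ => E) fun _ => inferInstance
    classical
    let b : Module.Basis (ULift.{u} ℕ) A A[X] := (Polynomial.basisMonomials A).reindex Equiv.ulift.symm
    let e : Q ≃ₗ[A] DirectSum (ULift.{u} ℕ) (fun _ => E) :=
      (TensorProduct.congr b.repr (LinearEquiv.refl A E)).trans
        ((TensorProduct.finsuppScalarLeft A E (ULift.{u} ℕ)).trans (finsuppLEquivDirectSum A E (ULift.{u} ℕ)))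
    exact Module.Baer.injective ((Module.Baer.of_injective h).of_equiv e.symm)
  let C := Seq (A := A) Q
  haveI hC : Module.Injective A[X] C := injective_seq Q
  let S := Module.AEval'.of (shiftMap (A := A) Q)
  let ι : Q →ₗ[A[X]] C := liftX (S.toLinearMap ∘ₗ LinearMap.pi fun n =>
    (Module.toModuleEnd A (S := A[X]) Q) ((Polynomial.X : A[X]) ^ n)) fun q => by
      show S _ = (Polynomial.X : A[X]) • S _
      rw [Module.AEval'.X_smul_of]
      congr 1
      ext n
      show (Polynomial.X : A[X]) ^ n • (Polynomial.X : A[X]) • q = (Polynomial.X : A[X]) ^ (n + 1) • q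
      rw [pow_succ, mul_smul]
  let xQ : (ℕ → Q) →ₗ[A] (ℕ → Q) := LinearMap.pi fun n =>
    (Module.toModuleEnd A (S := A[X]) Q) (Polynomial.X : A[X]) ∘ₗ LinearMap.proj n
  let π : C →ₗ[A[X]] C := liftX (S.toLinearMap ∘ₗ (shiftMap (A := A) Q - xQ) ∘ₗ S.symm.toLinearMap) fun m => by
    obtain ⟨s, rfl⟩ := S.surjective m
    show S (_ - _) = (Polynomial.X : A[X]) • S (_ - _)
    rw [Module.AEval'.X_smul_of, Module.AEval'.X_smul_of]
    congr 1
  have hexact : Function.Exact ι π := by
    intro m
    obtain ⟨s, rfl⟩ := S.surjective m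
    constructor
    · intro h
      have h' : ∀ n, s (n + 1) = (Polynomial.X : A[X]) • s n := fun n => by
        have h1 : (shiftMap (A := A) Q - xQ) (S.symm (S s)) = 0 := S.injective (h.trans (map_zero S).symm)
        rw [LinearEquiv.symm_apply_apply] at h1
        exact sub_eq_zero.1 (congrFun h1 n)
      refine ⟨s 0, congrArg S (funext fun n => ?_)⟩
      show (Polynomial.X : A[X]) ^ n • s 0 = s n
      induction n with
      | zero => rw [pow_zero, one_smul]
      | succ n ih => rw [pow_succ', mul_smul, ih, h']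
    · rintro ⟨q, hq⟩
      rw [← hq]
      show S ((shiftMap (A := A) Q - xQ) (S.symm (S _))) = 0
      rw [LinearEquiv.symm_apply_apply]
      refine (congrArg S (funext fun n => ?_)).trans (map_zero S)
      show (Polynomial.X : A[X]) ^ (n + 1) • q - (Polynomial.X : A[X]) • (Polynomial.X : A[X]) ^ n • q = 0
      rw [pow_succ', mul_smul, sub_self]
  have hinj : Function.Injective ι := fun q q' h => by
    have h1 : S (fun n => (Polynomial.X : A[X]) ^ n • q) = S (fun n => (Polynomial.X : A[X]) ^ n • q') := h
    have := congrFun (S.injective h1) 0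
    simpa using this
  have hsurj : Function.Surjective π := fun m => by
    obtain ⟨t, rfl⟩ := S.surjective m
    let s : ℕ → Q := fun n => Nat.rec (0 : Q) (fun k v => t k + (Polynomial.X : A[X]) • v) n
    refine ⟨S s, ?_⟩
    show S ((shiftMap (A := A) Q - xQ) (S.symm (S s))) = S t
    rw [LinearEquiv.symm_apply_apply]
    congr 1
    funext n
    show (t n + (Polynomial.X : A[X]) • s n) - (Polynomial.X : A[X]) • s n = t n
    rw [add_sub_cancel_right]
  let T : ShortComplex (ModuleCat.{u} A[X]) :=
    ShortComplex.mk (ModuleCat.ofHom (X := Q) (Y := C) ι) (ModuleCat.ofHom (X := C) (Y := C) π) (ModuleCat.hom_ext hexact.linearMap_comp_eq_zero)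
  have hT : T.ShortExact :=
    { exact := (ShortComplex.ShortExact.moduleCat_exact_iff_function_exact _).mpr hexact
      mono_f := (ModuleCat.mono_iff_injective _).mpr hinj
      epi_g := (ModuleCat.epi_iff_surjective _).mpr hsurj }
  haveI : Injective (ModuleCat.of A[X] C) := (Module.injective_iff_injective_object A[X] C).1 hC
  refine ((Groth.Agent.H9Misc.DRingInjAmp.tfae (Dual.inD A[X] Q) 0 1).out 0 1 rfl rfl).2 ?_
  intro N _ _ i hi
  rcases hi with hi | hi
  · haveI : ((Dual.inD A[X] Q)⟦i⟧).IsGE (0 - i) :=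
      DerivedCategory.TStructure.t.isGE_shift (Dual.inD A[X] Q) 0 i (0 - i) (by omega)
    exact subsingleton_of_forall_eq 0 fun φ =>
      DerivedCategory.TStructure.t.zero φ 0 (0 - i) (by omega)
  · obtain ⟨n, rfl⟩ : ∃ n : ℕ, (n : ℤ) + 2 = i := ⟨(i - 2).toNat, by omega⟩
    have : Subsingleton (Abelian.Ext.{u} (ModuleCat.of A[X] N) (ModuleCat.of A[X] Q) (n + 2)) := by
      refine subsingleton_of_forall_eq 0 fun x => ?_
      obtain ⟨y, rfl⟩ := Abelian.Ext.covariant_sequence_exact₁ _ hT x
        (@Subsingleton.elim _ (Abelian.Ext.subsingleton_of_injective _ (ModuleCat.of A[X] C) (n + 1)) _ _)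
        (n₀ := n + 1) rfl
      rw [@Subsingleton.elim _ (Abelian.Ext.subsingleton_of_injective _ (ModuleCat.of A[X] C) n) y 0]
      exact Abelian.Ext.zero_comp _ _ _ _ _
    have e := (Abelian.Ext.homEquiv (X := ModuleCat.of A[X] N) (Y := ModuleCat.of A[X] Q) (n := n + 2)).symm.subsingleton
    exact e

end Groth.Agent.S1748
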