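import Groth.Statements.S17502
import Groth.Agent.AsympCoh.ZTwist
import Groth.Agent.AmpleDev.Basic
import Groth.Agent.HilbEv.Basic
-- import your own Groth.Agent.* helpers here

set_option autoImplicit false
universe u
open CategoryTheory CategoryTheory.Limits MonoidalCategory CartesianMonoidalCategory MonObj GrpObj AlgebraicGeometry
open Coherent

namespace Groth.Agent.S17502

/-- Let k be a field, Y a projective k-scheme of dimension d (a k-scheme with a closed immersion c into
projective N-space over k, compatible with the structure morphisms, whose underlying topological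
space has Krull dimension d), L_1, …, L_r invertible O_Y-modules, and F a family of O_Y-modules
indexed by a ∈ ℤ^r with F(0) ≅ O_Y and F(a + e_j) ≅ F(a) ⊗ L_j for all a and j, so that F(a) ≅
L_1^{⊗ a_1} ⊗ ⋯ ⊗ L_r^{⊗ a_r} for every a. Then there is a real constant C > 0, depending only on Y
and the L_j, such that dim_k H^i(Y, F(a)) ≤ C · (1 + |a|^d) for every i and every a, where |a| =
|a_1| + ⋯ + |a_r|. (The published statement prints the exponent as the number r of line bundles
instead of the dimension d of Y; that bound fails as soon as r < d — on the projective plane with r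
= 1 and L_1 = O(1) the dimension of H^0(O(a)) grows like a²/2 — while the printed induction on d + r
over hyperplane sections yields the exponent d, which is what is stated here.) -/
theorem result
    (k : Type u) [Field k] (Y : Scheme.{u}) [Y.Over (Spec (CommRingCat.of k))]
    (N : ℕ) (c : Y ⟶ CohB1.ProjSpace N k) [IsClosedImmersion c]
    (hc : c ≫ CohB1.ProjSpace.toSpec N k = Y ↘ Spec (CommRingCat.of k))
    (d : ℕ) (hd : topologicalKrullDim ↥Y = d)
    (r : ℕ) (Lb : Fin r → Y.Modules) (hLb : ∀ j, PicF.IsInvertible (Lb j))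
    (F : (Fin r → ℤ) → Y.Modules) (hF0 : Nonempty (F 0 ≅ Coh.structureModule Y))
    (hF : ∀ (a : Fin r → ℤ) (j : Fin r), Nonempty (F (a + Pi.single j 1) ≅ CohB1.tensorMod (F a) (Lb j))) :
    ∃ C : ℝ, 0 < C ∧ ∀ (i : ℕ) (a : Fin r → ℤ),
      (Module.finrank k (Coh.HH Y (F a) i) : ℝ) ≤ C * (1 + (∑ j, |(a j : ℝ)|) ^ d) := by
  classical
  letI := H23.PicMul.clMonoid Y
  letI : (CohB1.ProjSpace N k).Over (Spec (CommRingCat.of k)) := ⟨CohB1.ProjSpace.toSpec N k⟩
  haveI : IsProper (CohB1.ProjSpace N k ↘ Spec (CommRingCat.of k)) := PnCoh.Chow.isProper_toSpec N _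
  haveI : IsProper (Y ↘ Spec (CommRingCat.of k)) := hc ▸ (inferInstanceAs
    (IsProper (c ≫ (CohB1.ProjSpace N k ↘ Spec (CommRingCat.of k)))))
  haveI : IsNoetherian Y := CurveCohLib.isNoetherian_of_proper (k := k)
  haveI : Y.IsSeparated := AmpleVan.isSeparated_of_proper (X := Y) (A := k)
  have hH := AmpleDev.isAmple_pullback_finite k c (HilbEv.isAmple_O1 N k)
  choose M hM hLM using fun j => H23.PicInv.exists_inverse (hLb j)
  have hinv : ∀ j, ClSub.IsInverseOf (Lb j) (M j) := hLM
  let u : Fin r → (PicF.Cl Y)ˣ := fun j =>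
    ⟨PicF.cl (Lb j), PicF.cl (M j), H23.PicMul.cl_eq_iff.2 (hinv j),
      (mul_comm _ _).trans (H23.PicMul.cl_eq_iff.2 (hinv j))⟩
  have hcl : ∀ a : Fin r → ℤ, PicF.cl (F a) = ↑(∏ j, u j ^ a j) := by
    let G : (Fin r → ℤ) → PicF.Cl Y := fun a => PicF.cl (F a) * ↑(∏ j, u j ^ a j)⁻¹
    have h0 : G 0 = 1 := by
      simp only [G, Pi.zero_apply, zpow_zero, Finset.prod_const_one, inv_one, Units.val_one]
      exact (_root_.mul_one _).trans (H23.PicMul.cl_eq_iff.2 hF0)
    have hprod : ∀ (a : Fin r → ℤ) j, (∏ l, u l ^ (a + Pi.single j 1 : Fin r → ℤ) l) = (∏ l, u l ^ a l) * u j := by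
      intro a j
      simp only [Pi.add_apply, zpow_add]
      rw [Finset.prod_mul_distrib]
      congr 1
      rw [Finset.prod_eq_single j]
      · simp
      · intro l _ hl; simp [Pi.single_eq_of_ne hl]
      · simp
    have hper : ∀ (a : Fin r → ℤ) j, G (a + Pi.single j 1) = G a := by
      intro a j
      simp only [G]
      rw [H23.PicMul.cl_eq_iff.2 (hF a j), H23.PicMul.cl_tensor, hprod, _root_.mul_inv, Units.val_mul, _root_.mul_mul_mul_comm,
        show PicF.cl (Lb j) * ((u j)⁻¹ : (PicF.Cl Y)ˣ) = 1 from (u j).mul_inv, _root_.mul_one]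
    have hperz : ∀ (a : Fin r → ℤ) j (z : ℤ), G (a + Pi.single j z) = G a := by
      intro a j z
      induction z using Int.induction_on with
      | zero => simp
      | succ z ih => rw [Pi.single_add, ← add_assoc, hper, ih]
      | pred z ih =>
        rw [← hper (a + (Pi.single j (-(z : ℤ) - 1) : Fin r → ℤ)) j, add_assoc, ← Pi.single_add, sub_add_cancel, ih]
    have hfin : ∀ (s : Finset (Fin r)) (a : Fin r → ℤ), G (∑ j ∈ s, Pi.single j (a j)) = 1 := by
      intro s a
      induction s using Finset.induction_on with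
      | empty => rw [Finset.sum_empty, h0]
      | @insert j s hj ih => rw [Finset.sum_insert hj, add_comm, hperz, ih]
    intro a
    have h := hfin Finset.univ a
    rw [Finset.univ_sum_single] at h
    simp only [G] at h
    exact Units.mul_inv_eq_one.1 h
  have hz : ∀ a : Fin r → ℤ, ((AsympCoh.zword Lb M a).map PicF.cl).prod = ↑(∏ j, u j ^ a j) := by
    intro a
    rw [AsympCoh.zword, List.map_flatMap, List.flatMap_def, List.prod_flatten, List.map_map, Units.coe_prod,
      Fin.prod_univ_def]
    refine congrArg List.prod (List.map_congr_left fun j _ => ?_)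
    simp only [Function.comp_apply]
    rw [List.map_append, List.prod_append, List.map_replicate, List.map_replicate, List.prod_replicate,
      List.prod_replicate]
    cases a j with
    | ofNat m => simp [u]
    | negSucc m =>
      rw [zpow_negSucc, ← inv_pow]
      simp [u, Int.toNat_negSucc]
  have hS := AsympCoh.isInvertible_letters hLb hinv
  choose C hC using fun i => AsympCoh.growth k hH hS d _ (QCoh.isCoh_structureModule' (X := Y))
    (AsympCoh.dimLT_of_dim hd (Coh.structureModule Y)) i
  refine ⟨(∑ i ∈ Finset.range (d + 1), C i : ℕ) * 2 ^ d + 1, by positivity, fun i a => ?_⟩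
  have hl := AsympCoh.mem_letters Lb M a
  have e : Module.finrank k (Coh.HH Y (F a) i) =
      HilbPoly.hdimk k (AsympCoh.twl (AsympCoh.zword Lb M a) (Coh.structureModule Y)) i := by
    obtain ⟨e⟩ := H23.PicMul.cl_eq_iff.1
      (show PicF.cl (F a) = PicF.cl (AsympCoh.twl (AsympCoh.zword Lb M a) (Coh.structureModule Y)) by
        rw [AsympCoh.cl_twl, ← H23.PicMul.one_def, _root_.one_mul, hz, hcl])
    exact HilbPoly.finrank_HH_iso k e i
  rw [e]
  rcases Nat.lt_or_ge d i with hi | hi
  · rw [HilbPoly.hdimk_eq_zero_of_dimLT k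
      (AsympCoh.isCoh_twl (fun P hP => hS P (hl P hP)) QCoh.isCoh_structureModule')
      (AsympCoh.dimLT_twl (AsympCoh.dimLT_of_dim hd (Coh.structureModule Y)) _) (by omega : d + 1 ≤ i)]
    simp only [Nat.cast_zero]
    positivity
  · have h := (hC i _ hl).trans (Nat.mul_le_mul_right _
      (Finset.single_le_sum (f := C) (fun q _ => Nat.zero_le _) (Finset.mem_range.2 (by omega : i < d + 1))))
    set S := ∑ q ∈ Finset.range (d + 1), C q
    have h' : (HilbPoly.hdimk k (AsympCoh.twl (AsympCoh.zword Lb M a) (Coh.structureModule Y)) i : ℝ) ≤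
        (S : ℝ) * ((∑ j, |(a j : ℝ)|) + 1) ^ d := by
      rw [← AsympCoh.length_zword Lb M a]
      exact_mod_cast h
    set T := ∑ j, |(a j : ℝ)| with hT
    have hT0 : 0 ≤ T := Finset.sum_nonneg fun j _ => abs_nonneg _
    have hpow : (T + 1) ^ d ≤ 2 ^ d * (1 + T ^ d) := by
      rcases le_total T 1 with h1 | h1
      · exact (pow_le_pow_left₀ (by positivity) (by linarith : T + 1 ≤ 2) d).trans
          (le_mul_of_one_le_right (by positivity) (by linarith [pow_nonneg hT0 d]))
      · calc (T + 1) ^ d ≤ (2 * T) ^ d := pow_le_pow_left₀ (by positivity) (by linarith) d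
          _ = 2 ^ d * T ^ d := mul_pow _ _ _
          _ ≤ _ := mul_le_mul_of_nonneg_left (by linarith) (by positivity)
    refine h'.trans ((mul_le_mul_of_nonneg_left hpow (Nat.cast_nonneg S)).trans ?_)
    rw [← _root_.mul_assoc]
    exact mul_le_mul_of_nonneg_right (le_add_of_nonneg_right zero_le_one) (by positivity)

end Groth.Agent.S17502
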