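import Groth.Statements.S17508
import Groth.Agent.AVEuler.Conc
-- import your own Groth.Agent.* helpers here

set_option autoImplicit false
universe u
open CategoryTheory CategoryTheory.Limits MonoidalCategory CartesianMonoidalCategory MonObj GrpObj AlgebraicGeometry
open AbVar

set_option backward.isDefEq.respectTransparency false
attribute [-instance] CategoryTheory.catToReflQuiver
open scoped Groth.Agent.H23.PicMul

namespace Groth.Agent.S17508

/-- Let X be an abelian variety over a field k (a proper, geometrically integral k-group scheme) whose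
underlying space has Krull dimension g, let L be an invertible O_X-module with an inverse L' (an
O_X-module with L ⊗ L' ≅ O_X), and let i be a natural number such that H^j(X, L) = 0 for j ≠ i and
H^i(X, L) ≠ 0. Then i ≤ g, H^j(X, L') = 0 for j ≠ g − i and H^{g−i}(X, L') ≠ 0: the index of the
inverse bundle is g − i(L). (Non-degeneracy with index i is expressed by the equivalent condition
that the cohomology is concentrated in degree i and non-zero there.) -/
theorem result
    (k : Type u) [Field k] (X : Over (Spec (CommRingCat.of k))) [GrpObj X] [IsProper X.hom] [GeometricallyIntegral X.hom]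
    (g : ℕ) (hg : topologicalKrullDim ↥X.left = g)
    (L L' : X.left.Modules) (hL : PicF.IsInvertible L)
    (hL' : Nonempty (CohB1.tensorMod L L' ≅ Coh.structureModule X.left)) (i : ℕ)
    (hvan : ∀ j : ℕ, j ≠ i → Subsingleton (Coh.HH X.left L j)) (hne : Nontrivial (Coh.HH X.left L i)) :
    i ≤ g ∧ (∀ j : ℕ, j ≠ g - i → Subsingleton (Coh.HH X.left L' j)) ∧
      Nontrivial (Coh.HH X.left L' (g - i)) := by
  have hi : Groth.Agent.AVEuler.Conc X.left i L := ⟨hvan, not_subsingleton_iff_nontrivial.2 hne⟩
  obtain ⟨D, hD, ⟨eD⟩⟩ := Groth.Agent.H23.PicInv.exists_inverse hL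
  have e1 : PicF.cl L * PicF.cl L' = 1 :=
    (Groth.Agent.H23.PicMul.cl_tensor _ _).symm.trans ((PicGrp.cl_eq_cl_iff _ _).2 hL')
  have e2 : PicF.cl L * PicF.cl D = 1 :=
    (Groth.Agent.H23.PicMul.cl_tensor _ _).symm.trans ((PicGrp.cl_eq_cl_iff _ _).2 ⟨eD⟩)
  have e3 : Nonempty (D ≅ L') := (PicGrp.cl_eq_cl_iff _ _).1 (left_inv_eq_right_inv (by rw [mul_comm, e2]) e1)
  let Y := Groth.Agent.AVEuler.bar X
  let p := Groth.Agent.AVEuler.barP X
  have hgY : topologicalKrullDim Y.left = g := by
    rw [← hg]
    exact Groth.Agent.FibDim.topologicalKrullDim_baseChange (IsPullback.of_hasPullback X.hom _)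
  have hiY := (Groth.Agent.AVEuler.conc_bar_iff X hL i).2 hi
  have hLY := PicClLib.isInvertible_pullback p hL
  obtain ⟨i', hig, hv, hn, hv', hn'⟩ := Groth.Agent.AVEuler.exists_index Y hgY hLY
    (Groth.Agent.AVEuler.finite_Fix_of_conc hLY hiY) (PicClLib.isInvertible_pullback p hD)
    (by
      show Groth.Agent.H23.PicMul.pullHom p (PicF.cl L) * Groth.Agent.H23.PicMul.pullHom p (PicF.cl D) = 1
      rw [← map_mul, e2, map_one])
  obtain rfl := Groth.Agent.AVEuler.Conc.unique ⟨hv, hn⟩ hiY
  have h' := ((Groth.Agent.AVEuler.conc_bar_iff X hD _).1 ⟨hv', hn'⟩).congr e3.some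
  exact ⟨hig, h'.1, not_subsingleton_iff_nontrivial.1 h'.2⟩


end Groth.Agent.S17508
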