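import Groth.Statements.S17509
import Groth.Agent.AVEuler.Roots
-- import your own Groth.Agent.* helpers here

set_option autoImplicit false
universe u
open CategoryTheory CategoryTheory.Limits MonoidalCategory CartesianMonoidalCategory MonObj GrpObj AlgebraicGeometry
open AbVar

set_option backward.isDefEq.respectTransparency false
attribute [-instance] CategoryTheory.catToReflQuiver
open scoped Groth.Agent.H23.PicMul

namespace Groth.Agent.S17509

/-- Let X be an abelian variety over a field k (a proper, geometrically integral k-group scheme), let L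
be an invertible O_X-module, H an ample invertible O_X-module and M an O_X-module isomorphic to L ⊗
H; suppose H^j(X, L) = 0 for j ≠ i with H^i(X, L) ≠ 0 and H^j(X, M) = 0 for j ≠ i' with H^{i'}(X, M)
≠ 0 (L and L ⊗ H non-degenerate, of indices i and i'), and i ≠ i'. Let Φ be a polynomial with
rational coefficients such that Φ(n) = χ(X, L ⊗ H^{⊗ n}) for every natural number n. Then Φ has a
real root t with 0 ≤ t ≤ 1. (Non-degeneracy with index i is expressed by the equivalent condition
that the cohomology is concentrated in degree i and non-zero there.) -/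
theorem result
    (k : Type u) [Field k] (X : Over (Spec (CommRingCat.of k))) [GrpObj X] [IsProper X.hom] [GeometricallyIntegral X.hom]
    (L H M : X.left.Modules) (hL : PicF.IsInvertible L) (hH : CohB1.IsAmple H)
    (hM : Nonempty (M ≅ CohB1.tensorMod L H)) (i i' : ℕ)
    (hvan : ∀ j : ℕ, j ≠ i → Subsingleton (Coh.HH X.left L j)) (hne : Nontrivial (Coh.HH X.left L i))
    (hvan' : ∀ j : ℕ, j ≠ i' → Subsingleton (Coh.HH X.left M j)) (hne' : Nontrivial (Coh.HH X.left M i'))
    (hii' : i ≠ i')
    (Φ : Polynomial ℚ)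
    (hΦ : ∀ n : ℕ, Φ.eval (n : ℚ) =
      (@Curv2.euler k _ X.left ⟨X.hom⟩ (CohB1.tensorMod L (CohB1.tensorPow H n)) : ℚ)) :
    ∃ t : ℝ, 0 ≤ t ∧ t ≤ 1 ∧ (Φ.map (algebraMap ℚ ℝ)).eval t = 0 := by
  letI : X.left.Over (Spec (CommRingCat.of k)) := ⟨X.hom⟩
  haveI : IsProper (X.left ↘ Spec (CommRingCat.of k)) := inferInstanceAs (IsProper X.hom)
  let p := Groth.Agent.AVEuler.barP X
  obtain ⟨eM⟩ := hM
  have hMi : PicF.IsInvertible M := Groth.Agent.H23.PicMul.isInvertible_of_iso eM.symm
    (Groth.Agent.InvX.isInvertible_tensorMod hL hH.1)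
  have hi := (Groth.Agent.AVEuler.conc_bar_iff X hL i).2 ⟨hvan, not_subsingleton_iff_nontrivial.2 hne⟩
  have hi' := (Groth.Agent.AVEuler.conc_bar_iff X hMi i').2 ⟨hvan', not_subsingleton_iff_nontrivial.2 hne'⟩
  refine Groth.Agent.AVEuler.exists_root (PicClLib.isInvertible_pullback p hL) (PicClLib.isInvertible_pullback p hH.1)
    ?_ hi hi' hii' Φ fun n => ?_
  · show Groth.Agent.H23.PicMul.pullHom p (PicF.cl M) =
      Groth.Agent.H23.PicMul.pullHom p (PicF.cl L) * Groth.Agent.H23.PicMul.pullHom p (PicF.cl H)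
    rw [← map_mul, ← Groth.Agent.H23.PicMul.cl_tensor, Groth.Agent.H23.PicMul.cl_eq_iff.2 ⟨eM⟩]
  · rw [hΦ n]
    refine congrArg Int.cast ?_
    letI : (Groth.Agent.AVEuler.bar X).left.Over (Spec (CommRingCat.of (AlgebraicClosure k))) :=
      ⟨(Groth.Agent.AVEuler.bar X).hom⟩
    haveI : IsProper ((Groth.Agent.AVEuler.bar X).left ↘ Spec (CommRingCat.of (AlgebraicClosure k))) :=
      inferInstanceAs (IsProper (Groth.Agent.AVEuler.bar X).hom)
    refine (Groth.Agent.CohBasic.euler_bc k X.left (AlgebraicClosure k) (Groth.Agent.ProjUPX.isQCoh_of_isInvertible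
      (Groth.Agent.InvX.isInvertible_tensorMod hL (Groth.Agent.InvX.isInvertible_tensorPow hH.1 n)))).symm.trans ?_
    refine Groth.Agent.Euler.euler_congr (AlgebraicClosure k) (X := (Groth.Agent.AVEuler.bar X).left) ?_
    exact (Groth.Agent.H23.PicMul.cl_eq_iff.1 (by
      show Groth.Agent.H23.PicMul.pullHom p (PicF.cl (CohB1.tensorMod L (CohB1.tensorPow H n))) = _
      rw [Groth.Agent.H23.PicMul.cl_tensor, Groth.Agent.H23.PicMul.cl_tensorPow, map_mul, map_pow,
        Groth.Agent.H23.PicMul.cl_tensor, Groth.Agent.H23.PicMul.cl_tensorPow]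
      rfl)).some


end Groth.Agent.S17509
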