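import Groth.Statements.S17511
import Groth.Agent.AVEuler.FibreOpen
import Groth.Agent.AVEuler.Degenerate
-- import your own Groth.Agent.* helpers here

set_option autoImplicit false
universe u
open CategoryTheory CategoryTheory.Limits MonoidalCategory CartesianMonoidalCategory MonObj GrpObj AlgebraicGeometry
open AbVar

set_option backward.isDefEq.respectTransparency false
attribute [-instance] CategoryTheory.catToReflQuiver
open scoped Groth.Agent.H23.PicMul

namespace Groth.Agent.S17511

/-- In an algebraic family of line bundles the index cannot jump locally. Let X be an abelian variety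
over a field k (a proper, geometrically integral k-group scheme), let T be a locally Noetherian
k-scheme, M an invertible module on X ×_k T, and for each point t of T let M_t be the pull-back of M
to the fibre X ×_k Spec k(t). Suppose every M_t is non-degenerate, with index idx(t): H^j(X ×_k Spec
k(t), M_t) = 0 for j ≠ idx(t) and H^{idx(t)} ≠ 0. Then t ↦ idx(t) is a locally constant function on
T. (Non-degeneracy with index i is expressed by the equivalent condition that the cohomology is
concentrated in degree i and non-zero there.) -/
theorem result
    (k : Type u) [Field k] (X : Over (Spec (CommRingCat.of k))) [GrpObj X] [IsProper X.hom] [GeometricallyIntegral X.hom]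
    (T : Over (Spec (CommRingCat.of k))) [IsLocallyNoetherian T.left]
    (M : (X ⊗ T).left.Modules) (hM : PicF.IsInvertible M)
    (idx : ↥T.left → ℕ)
    (hidx : ∀ t : ↥T.left,
      (∀ j : ℕ, j ≠ idx t →
        Subsingleton (Coh.HH (pullback (snd X T).left (T.left.fromSpecResidueField t))
          ((Scheme.Modules.pullback (pullback.fst (snd X T).left (T.left.fromSpecResidueField t))).obj M) j)) ∧
      Nontrivial (Coh.HH (pullback (snd X T).left (T.left.fromSpecResidueField t))
          ((Scheme.Modules.pullback (pullback.fst (snd X T).left (T.left.fromSpecResidueField t))).obj M) (idx t))) :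
    IsLocallyConstant idx := by
  haveI : IsProper (snd X T).left := inferInstanceAs (IsProper (pullback.snd X.hom T.hom))
  haveI : Flat (snd X T).left := inferInstanceAs (Flat (pullback.snd X.hom T.hom))
  haveI : IsLocallyNoetherian (X ⊗ T).left := LocallyOfFiniteType.isLocallyNoetherian (snd X T).left
  have hMc : Coh.IsCoh M := Groth.Agent.AmpleVan.isCoh_invertible hM
  have hMf : FlatMod.IsFlatOver (snd X T).left M :=
    Groth.Agent.AVEuler.isFlatOver_of_finLocFree _ (Groth.Agent.ParaFX.FlatDesc.isFinLocFree_of_invertible hM)
  refine IsLocallyConstant.iff_exists_open _ |>.2 fun t => ?_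
  obtain ⟨W, htW, hW⟩ := Groth.Agent.AVEuler.exists_open_vanishing (snd X T).left hMc hMf t
  refine ⟨W, W.2, htW, fun z hz => ?_⟩
  by_contra hne
  exact not_subsingleton_iff_nontrivial.2 (hidx z).2 (hW z hz _ ((hidx t).1 _ hne))


end Groth.Agent.S17511
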