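import Groth.Statements.S17516
import Groth.Agent.FinDesc.Polarization
import Groth.Agent.AVDegPoly.DetVal
-- import your own Groth.Agent.* helpers here

set_option autoImplicit false
universe u
open CategoryTheory CategoryTheory.Limits MonoidalCategory CartesianMonoidalCategory MonObj GrpObj AlgebraicGeometry
open AbVar

set_option backward.isDefEq.respectTransparency false
set_option synthInstance.maxHeartbeats 400000
set_option maxHeartbeats 1000000
set_option linter.style.haveILetI false
attribute [-instance] CategoryTheory.catToReflQuiver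
open scoped CategoryTheory.Obj

namespace Groth.Agent.S17516

/-- Let X and Y be abelian varieties over a field k (proper, geometrically integral, commutative k-group
schemes) with given dual abelian varieties (X^t, φ_X) and (Y^t, φ_Y) for the fppf topology, let f :
X → Y be an isogeny — a homomorphism which is finite, flat and surjective — of constant degree d,
with transpose f^t : Y^t → X^t, and let λ : Y → Y^t be a polarization of Y (a homomorphism whose
base change to every algebraically closed field is the homomorphism φ_M attached to some ample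
invertible module M) which is finite and flat of constant degree e. Then f^*λ := f^t ∘ λ ∘ f : X →
X^t is a polarization of X, and it is finite and flat of constant degree d² · e = deg(f)² · deg(λ). -/
theorem result
    (k : Type u) [Field k] (X Xt Y Yt : Over (Spec (CommRingCat.of k)))
    [GrpObj X] [IsCommMonObj X] [IsProper X.hom] [GeometricallyIntegral X.hom] [GrpObj Xt] [IsCommMonObj Xt] [IsProper Xt.hom] [GeometricallyIntegral Xt.hom]
    [GrpObj Y] [IsCommMonObj Y] [IsProper Y.hom] [GeometricallyIntegral Y.hom] [GrpObj Yt] [IsCommMonObj Yt] [IsProper Yt.hom] [GeometricallyIntegral Yt.hom]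
    (φX : AgPol.DualMap X Xt) (hX : AbDual.IsDualAV Scheme.fppfPrecoverage X Xt φX)
    (φY : AgPol.DualMap Y Yt) (hY : AbDual.IsDualAV Scheme.fppfPrecoverage Y Yt φY)
    (f : X ⟶ Y) [IsMonHom f] [IsFinite f.left] [Flat f.left] [Surjective f.left]
    (d : ℕ) (hd : ∀ y : ↥Y.left, Scheme.Hom.finrank f.left y = d)
    (ft : Yt ⟶ Xt) (hft : AbDual.IsTranspose f φX φY ft)
    (lam : Y ⟶ Yt) (hlam : AgPol.IsPolarization Y Yt φY lam)
    [IsFinite lam.left] [Flat lam.left] (e : ℕ) (he : ∀ y : ↥Yt.left, Scheme.Hom.finrank lam.left y = e) :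
    AgPol.IsPolarization X Xt φX (f ≫ lam ≫ ft) ∧ IsFinite (f ≫ lam ≫ ft).left ∧ Flat (f ≫ lam ≫ ft).left ∧
      ∀ x : ↥Xt.left, Scheme.Hom.finrank (f ≫ lam ≫ ft).left x = d ^ 2 * e := by
  haveI : GeometricallyConnected X.hom := Groth.Agent.H23.CubeAb.geometricallyConnected_of_integral X.hom
  haveI : GeometricallyConnected Y.hom := Groth.Agent.H23.CubeAb.geometricallyConnected_of_integral Y.hom
  haveI : GeometricallyConnected Xt.hom := Groth.Agent.H23.CubeAb.geometricallyConnected_of_integral Xt.hom
  haveI : GeometricallyConnected Yt.hom := Groth.Agent.H23.CubeAb.geometricallyConnected_of_integral Yt.hom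
  haveI : Smooth X.hom := Groth.Agent.S7795.result X
  haveI : Smooth Y.hom := Groth.Agent.S7795.result Y
  haveI : Smooth Xt.hom := Groth.Agent.S7795.result Xt
  haveI : Smooth Yt.hom := Groth.Agent.S7795.result Yt
  haveI : IsLocallyNoetherian Y.left := LocallyOfFiniteType.isLocallyNoetherian Y.hom
  haveI : IsLocallyNoetherian Xt.left := LocallyOfFiniteType.isLocallyNoetherian Xt.hom
  haveI : LocallyOfFinitePresentation f.left := inferInstance
  obtain ⟨hft', hfts, hftm⟩ := Groth.Agent.FinDesc.transpose_isogeny hX hY f
    ⟨⟨inferInstance, inferInstance, inferInstance⟩, hd⟩ hft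
  haveI := hftm
  haveI := hlam.1
  haveI : IsFinite ft.left := hft'.1.1
  haveI : Flat ft.left := hft'.1.2.1
  haveI : IsMonHom (f ≫ lam ≫ ft) := inferInstance
  refine ⟨⟨inferInstance, fun Ω _ _ t => ?_⟩, ?_, ?_, ?_⟩
  · obtain ⟨L, hL, hLlam⟩ := hlam.2 Ω t
    letI : GrpObj (Red.bc t X) := Functor.grpObjObj
    letI : GrpObj (Red.bc t Y) := Functor.grpObjObj
    letI : GrpObj (Red.bc t Yt) := Functor.grpObjObj
    letI : GrpObj (Red.bc t Xt) := Functor.grpObjObj
    haveI : IsProper (Red.bc t Y).hom := inferInstanceAs (IsProper (pullback.snd Y.hom t))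
    haveI : GeometricallyIntegral (Red.bc t Y).hom := inferInstanceAs (GeometricallyIntegral (pullback.snd Y.hom t))
    haveI : IsMonHom ((Over.pullback t).map f) := inferInstance
    haveI : IsFinite ((Over.pullback t).map f).left := by
      have sq : IsPullback (pullback.fst X.hom t) ((Over.pullback t).map f).left f.left (pullback.fst Y.hom t) := by
        refine IsPullback.of_bot (v₂₁ := pullback.snd Y.hom t) (v₂₂ := Y.hom) (h₃₁ := t) ?_ ?_
          (IsPullback.of_hasPullback Y.hom t)
        · simpa [Over.pullback] using IsPullback.of_hasPullback X.hom t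
        · simp [Over.pullback]
      exact MorphismProperty.of_isPullback sq inferInstance
    refine ⟨(Scheme.Modules.pullback ((Over.pullback t).map f).left).obj L, ?_, ?_⟩
    · letI : (Red.bc t Y).left.Over (Spec (CommRingCat.of Ω)) := ⟨(Red.bc t Y).hom⟩
      haveI : IsProper ((Red.bc t Y).left ↘ Spec (CommRingCat.of Ω)) := inferInstanceAs (IsProper (Red.bc t Y).hom)
      exact Groth.Agent.AmpleDev.isAmple_pullback_finite Ω _ hL
    · rw [Functor.map_comp, Functor.map_comp]
      exact Groth.Agent.FinDesc.isLambda_pullback (Groth.Agent.FinDesc.isDualAV_bc hY) ((Over.pullback t).map f)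
        (Groth.Agent.FinDesc.isTranspose_bc t hft) hL.1 hLlam
  · rw [Over.comp_left, Over.comp_left]; infer_instance
  · rw [Over.comp_left, Over.comp_left]; infer_instance
  · intro x
    obtain ⟨g, hg⟩ := Groth.Agent.AVDegPoly.exists_dim (A := X)
    have hgY : topologicalKrullDim Y.left = g := by
      rw [← hg]
      exact le_antisymm (Groth.Agent.Nakai.dim_le_of_surjective f.left f.left.isClosedMap f.left.surjective)
        (Groth.Agent.AVPoinc.dim_le_of_isFinite f.left)
    have hgYt := Groth.Agent.FinDesc.dim_dual hY hgY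
    have hgXt := Groth.Agent.FinDesc.dim_dual hX hg
    haveI : IsMonHom (f ≫ lam) := inferInstance
    haveI : IsFinite (f ≫ lam).left := by rw [Over.comp_left]; infer_instance
    haveI : IsFinite (f ≫ lam ≫ ft).left := by rw [Over.comp_left, Over.comp_left]; infer_instance
    let b : Yt.left := η[Yt].left (IsLocalRing.closedPoint k)
    let b' : Y.left := η[Y].left (IsLocalRing.closedPoint k)
    have h1 := Groth.Agent.AVDegPoly.finrank_comp hg hgY hgYt f lam (f ≫ lam) rfl b' b
    have h2 := Groth.Agent.AVDegPoly.finrank_comp hg hgYt hgXt (f ≫ lam) ft (f ≫ lam ≫ ft)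
      (Category.assoc _ _ _) b x
    rw [h2, h1, hd, he, hft'.2 x]
    ring


end Groth.Agent.S17516
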