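import Groth.Statements.S1754
import Groth.Agent.LC.H1Fin

set_option autoImplicit false
universe u
open LocCoh

namespace Groth.Agent.S1754

/-- Let A be a Noetherian domain and I a nonzero ideal. Suppose that for every prime q containing I and
every associated prime P of the completion B of the local ring A_q, the quotient B/P has dimension
at least 2. Then the local cohomology module H^1_I(A) is a finite A-module. (This is the affine
form, with coherence of j_*O_U for U = Spec A ∖ V(I) expressed as finiteness of H^1_I(A).) -/
theorem result (A : Type u) [CommRing A] [IsDomain A] [IsNoetherianRing A] (I : Ideal A) (hI : I ≠ ⊥) (h : ∀ (q : PrimeSpectrum A), I ≤ q.asIdeal → ∀ P ∈ associatedPrimes (AdicCompletion (IsLocalRing.maximalIdeal (Localization.AtPrime q.asIdeal)) (Localization.AtPrime q.asIdeal)) (AdicCompletion (IsLocalRing.maximalIdeal (Localization.AtPrime q.asIdeal)) (Localization.AtPrime q.asIdeal)), (2 : WithBot ℕ∞) ≤ ringKrullDim (AdicCompletion (IsLocalRing.maximalIdeal (Localization.AtPrime q.asIdeal)) (Localization.AtPrime q.asIdeal) ⧸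 P)) : Module.Finite A (LocCoh.H I 1 A) := by
  refine LC.H1Fin.finite_H1 I A fun p hp _ q _ hIq P hP => ?_
  haveI := hp.isPrime
  have hp0 : p = ⊥ := by
    obtain ⟨hpp, x, hx⟩ := isAssociatedPrime_iff.1 ((AssociatedPrimes.mem_iff).1 hp)
    have hx0 : x ≠ 0 := fun h0 => hpp.ne_top (by
      rw [hx, h0, Ideal.eq_top_iff_one, Submodule.mem_colon_singleton, smul_zero]; exact zero_mem _)
    refine le_bot_iff.1 fun a ha => ?_
    rw [hx, Submodule.mem_colon_singleton, Submodule.mem_bot, smul_eq_mul] at ha
    exact (Submodule.mem_bot A).2 ((mul_eq_zero.1 ha).resolve_right hx0)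
  subst hp0
  let C := AdicCompletion (IsLocalRing.maximalIdeal (Localization.AtPrime q.asIdeal)) (Localization.AtPrime q.asIdeal)
  refine h q hIq P ?_
  rwa [LinearEquiv.AssociatedPrimes.eq ((Submodule.quotEquivOfEq _ ⊥ (Ideal.map_bot (f := algebraMap A C))).trans
    (Submodule.quotEquivOfEqBot (⊥ : Submodule C C) rfl))] at hP

end Groth.Agent.S1754
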