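import Groth.Statements.S1755
import Groth.Agent.LC.H1Fin

set_option autoImplicit false
universe u
open LocCoh

namespace Groth.Agent.S1755

/-- Kollár's criterion for finiteness of first local cohomology, sufficiency direction, in affine form.
Let A be a Noetherian ring, I an ideal and M a finite A-module. Suppose that for every associated
prime p of M not containing I, every prime q containing both p and I, and every associated prime P
of the completion C of the local ring A_q/pA_q at its maximal ideal, the quotient C/P has Krull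
dimension at least 2. Then H¹_I(M) is a finite A-module. (The criterion is an equivalence; only this
implication is asserted here.) -/
theorem result (A : Type u) [CommRing A] [IsNoetherianRing A] (I : Ideal A) (M : Type u) [AddCommGroup M] [Module A M] [Module.Finite A M] (h : ∀ p : Ideal A, p ∈ associatedPrimes A M → ¬ I ≤ p → ∀ (q : PrimeSpectrum A), p ≤ q.asIdeal → I ≤ q.asIdeal → ∀ P ∈ associatedPrimes (AdicCompletion ((IsLocalRing.maximalIdeal (Localization.AtPrime q.asIdeal)).map (Ideal.Quotient.mk (p.map (algebraMap A (Localization.AtPrime q.asIdeal))))) (Localization.AtPrime q.asIdeal ⧸ p.map (algebraMap A (Localization.AtPrime q.asIdeal)))) (AdicCompletion ((IsLocalRing.maximalIdeal (Localization.AtPrime q.asIdeal)).map (Ideal.Quotient.mk (p.map (algebraMap A (Localization.AtPrime q.asIdeal))))) (Localization.AtPrime q.asIdeal ⧸ p.map (algebraMap A (Localization.AtPrime q.asIdeal)))), (2 : WithBot ℕ∞) ≤ ringKrullDim (AdicCompletion ((IsLocalRing.maximalIdeal (Localization.AtPrime q.asIdeal)).map (Ideal.Quotient.mk (p.map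 (algebraMap A (Localization.AtPrime q.asIdeal))))) (Localization.AtPrime q.asIdeal ⧸ p.map (algebraMap A (Localization.AtPrime q.asIdeal))) ⧸ P)) : Module.Finite A (LocCoh.H I 1 M) := by
  refine LC.H1Fin.finite_H1 I M fun p hp hIp q hpq hIq P hP => ?_
  have hq := h p hp hIp q hpq hIq
  let pq : Ideal (Localization.AtPrime q.asIdeal) := p.map (algebraMap A (Localization.AtPrime q.asIdeal))
  have hpm : pq ≤ IsLocalRing.maximalIdeal (Localization.AtPrime q.asIdeal) :=
    (Ideal.map_mono hpq).trans (Localization.AtPrime.map_eq_maximalIdeal (I := q.asIdeal)).le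
  haveI : Nontrivial (Localization.AtPrime q.asIdeal ⧸ pq) := Ideal.Quotient.nontrivial_iff.2 fun ht =>
    (IsLocalRing.maximalIdeal.isMaximal _).ne_top (top_le_iff.1 (ht ▸ hpm))
  haveI : IsLocalRing (Localization.AtPrime q.asIdeal ⧸ pq) :=
    IsLocalRing.of_surjective' (Ideal.Quotient.mk pq) Ideal.Quotient.mk_surjective
  haveI := LC.Canon.isNoetherianRing_completion (R := Localization.AtPrime q.asIdeal)
  haveI := LC.Canon.isNoetherianRing_completion (R := Localization.AtPrime q.asIdeal ⧸ pq)
  rw [IsLocalRing.map_maximalIdeal_of_surjective (Ideal.Quotient.mk pq) Ideal.Quotient.mk_surjective] at hq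
  obtain ⟨τ, hτ, hker⟩ := CILib.exists_completion_surjection (Ideal.Quotient.mk pq) Ideal.Quotient.mk_surjective
  rw [Ideal.mk_ker, Ideal.map_map, ← IsScalarTower.algebraMap_eq] at hker
  obtain ⟨hPp, xb, hx⟩ := isAssociatedPrime_iff.1 ((AssociatedPrimes.mem_iff).1 hP)
  obtain ⟨x, rfl⟩ := Submodule.Quotient.mk_surjective _ xb
  have hmem : ∀ c, c ∈ P ↔ τ (c * x) = 0 := fun c => by
    rw [hx, Submodule.mem_colon_singleton, Submodule.mem_bot, ← Submodule.Quotient.mk_smul,
      Submodule.Quotient.mk_eq_zero, smul_eq_mul, ← RingHom.mem_ker, hker]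
  have hkP : RingHom.ker τ ≤ P := fun c hc => (hmem c).2 (by rw [map_mul, RingHom.mem_ker.1 hc, zero_mul])
  haveI := hPp
  have hP' : P.map τ ∈ associatedPrimes _ _ :=
    (AssociatedPrimes.mem_iff).2 (isAssociatedPrime_iff.2 ⟨Ideal.map_isPrime_of_surjective hτ hkP, τ x, by
      ext c
      obtain ⟨c, rfl⟩ := hτ c
      rw [Submodule.mem_colon_singleton, Submodule.mem_bot, smul_eq_mul, ← map_mul, ← hmem,
        ← Ideal.mem_comap, Ideal.comap_map_of_surjective τ hτ, ← RingHom.ker_eq_comap_bot, sup_eq_left.2 hkP]⟩)
  refine (hq _ hP').trans (le_of_eq (ringKrullDim_eq_of_ringEquiv ?_).symm)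
  exact (Ideal.quotEquivOfEq (show P = RingHom.ker ((Ideal.Quotient.mk (P.map τ)).comp τ) by
    rw [← RingHom.comap_ker, Ideal.mk_ker, Ideal.comap_map_of_surjective τ hτ, ← RingHom.ker_eq_comap_bot,
      sup_eq_left.2 hkP])).trans
    (RingHom.quotientKerEquivOfSurjective (Ideal.Quotient.mk_surjective.comp hτ))

end Groth.Agent.S1755
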