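import Groth.Statements.S1756
import Groth.Agent.LC.H1S1
import Groth.Agent.LC.H1Fin
import Groth.Agent.CILib.Basic

set_option autoImplicit false
universe u
open LocCoh

namespace Groth.Agent.S1756

/-- Let A be a universally catenary Noetherian ring and I an ideal such that for every prime q
containing I the formal fibres of A_q satisfy (S_1), and let M be a finite A-module. If for every
associated prime p of M not containing I and every prime q containing both p and I the longest chain
of primes from p to q has length at least 2, then the local cohomology module H^1_I(M) is a finite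
A-module. (Affine form: finiteness of H^1_I(M) stands in for coherence of the pushforward of the
restriction of M~ to Spec A ∖ V(I).) -/
theorem result (A : Type u) [CommRing A] [IsNoetherianRing A] (hA : CAlg.IsUniversallyCatenary A) (I : Ideal A) (hF : ∀ q : PrimeSpectrum A, I ≤ q.asIdeal → EGA4.HasSnFormalFibres 1 (Localization.AtPrime q.asIdeal)) (M : Type u) [AddCommGroup M] [Module A M] [Module.Finite A M] (h : ∀ (p q : PrimeSpectrum A) (hpq : p ≤ q), p.asIdeal ∈ associatedPrimes A M → ¬ I ≤ p.asIdeal → I ≤ q.asIdeal → (2 : ℕ∞) ≤ Order.height (⟨q, hpq⟩ : Set.Ici p)) : Module.Finite A (LocCoh.H I 1 M) := by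
  refine LC.H1Fin.finite_H1 I M fun p hp hIp q hpq hIq P hP => ?_
  let p' : PrimeSpectrum A := ⟨p, hp.isPrime⟩
  haveI hpm := LC.H1Rows.isPrime_map (p := p') hpq
  let pq : Ideal (Localization.AtPrime q.asIdeal) := p.map (algebraMap A (Localization.AtPrime q.asIdeal))
  haveI : pq.IsPrime := hpm
  haveI : Nontrivial (LC.H1Rows.quot p' q) := Ideal.Quotient.nontrivial_iff.2 (Ideal.IsPrime.ne_top hpm)
  haveI : IsLocalRing (LC.H1Rows.quot p' q) :=
    IsLocalRing.of_surjective' (Ideal.Quotient.mk _) Ideal.Quotient.mk_surjective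
  haveI := LC.Canon.isNoetherianRing_completion (R := Localization.AtPrime q.asIdeal)
  haveI := LC.Canon.isNoetherianRing_completion (R := LC.H1Rows.quot p' q)
  obtain ⟨τ, hτ, hker⟩ := CILib.exists_completion_surjection (R := Localization.AtPrime q.asIdeal)
    (A := LC.H1Rows.quot p' q) (Ideal.Quotient.mk pq) Ideal.Quotient.mk_surjective
  rw [Ideal.mk_ker] at hker
  let C := AdicCompletion (IsLocalRing.maximalIdeal (Localization.AtPrime q.asIdeal)) (Localization.AtPrime q.asIdeal)
  rw [show p.map (algebraMap A C) = pq.map (algebraMap (Localization.AtPrime q.asIdeal) C) by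
    rw [Ideal.map_map, ← IsScalarTower.algebraMap_eq]] at hP
  have hkP : RingHom.ker τ ≤ P := by
    rw [hker]
    intro a ha
    have hann := hP.annihilator_le
    rw [Submodule.annihilator_top, Ideal.annihilator_quotient] at hann
    exact hann ha
  haveI hPp : P.IsPrime := hP.isPrime
  have hcm : (P.map τ).comap τ = P := by
    rw [Ideal.comap_map_of_surjective τ hτ, ← RingHom.ker_eq_comap_bot, sup_eq_left.2 hkP]
  have hmin : P.map τ ∈ minimalPrimes (EGA4.Cpl (LC.H1Rows.quot p' q)) := by
    refine ⟨⟨Ideal.map_isPrime_of_surjective hτ hkP, bot_le⟩, fun R hR hle => ?_⟩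
    haveI := hR.1
    have e := LC.H1Rows.eq_of_le_ass_of_hasS1 (B := Localization.AtPrime q.asIdeal) (C := C) pq (hF q hIq pq) hP
      (R := R.comap τ) (hker ▸ Ideal.ker_le_comap τ) (hcm ▸ Ideal.comap_mono hle)
    rw [← e, Ideal.map_comap_of_surjective τ hτ]
  refine (LC.H1Rows.two_le_dim_of_minimal (LC.H1Rows.isFormallyEquidim_quot hA (p := p') hpq)
    (LC.H1Rows.two_le_dim_quot (p := p') hpq (h p' q hpq hp hIp hIq)) hmin).trans
    (le_of_eq (ringKrullDim_eq_of_ringEquiv ?_).symm)
  exact (Ideal.quotEquivOfEq (show P = RingHom.ker ((Ideal.Quotient.mk (P.map τ)).comp τ) by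
    rw [← RingHom.comap_ker, Ideal.mk_ker, hcm])).trans
    (RingHom.quotientKerEquivOfSurjective (Ideal.Quotient.mk_surjective.comp hτ))

end Groth.Agent.S1756
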