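import Groth.Statements.S17573
import Groth.Agent.H9PB.C1Gys


set_option autoImplicit false
universe u
open CategoryTheory AlgebraicGeometry
open Bivar

namespace Groth.Agent.S17573

set_option backward.isDefEq.respectTransparency false
set_option backward.isDefEq.respectTransparency.types false
open Groth.Agent Groth.Agent.H9PB

/-- Let L be an invertible O_X-module and c_1(L) ∈ A^1(X) its first Chern class. Then c_1(L) is in the
centre of the ring A^*(X) of operational classes: for every operational class d ∈ A^q(X), every test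
scheme g : Y → X locally of finite type (with induced dimension function) and every x ∈ CH_k(Y) one
has c_1(L) ∩ (d ∩ x) = d ∩ (c_1(L) ∩ x) in CH_{k−q−1}(Y). Here c_1(L) is given through the binder
Bivar.IsC1Class (on every test scheme it caps a cycle class to the class of c_1(g^*L) ∩ α computed
with any nowhere-zero rational sections), and the two sides, of weights k − q − 1 and k − 1 − q, are
compared through the transport Bivar.chCast. Here a pair (X, δ) with Cyc.IsSetup plays the role of a
scheme locally of finite type over the base (S, δ) (X locally Noetherian with universally catenary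
local rings, δ a dimension function), Cyc.DeltaCompat records that a dimension function is the
induced one, and bivariant classes are taken in the operational sense of the prelude: additive
operations on the Chow groups CH_k (k-cycles modulo rational equivalence) of all test schemes,
compatible with proper pushforward, flat pullback and the Gysin maps of zero schemes of sections of
invertible modules in representative form (Bivar.Cl for A^p(X → Y), Bivar.OpCl for A^p(X)). -/
theorem result (X : Scheme.{u}) (δX : X → ℤ) (hX : Cyc.IsSetup X δX) (L : X.Modules) (c : Bivar.OpCl 1 X δX) (hc : Bivar.IsC1Class L c) (q : ℤ) (d : Bivar.OpCl q X δX) (s : Bivar.OSq X δX) (k : ℤ) (x : ChowOps.CH s.Y s.δ k) : c.op s (k - q) (d.op s k x) = Bivar.chCast s.Y s.δ (sub_right_comm k 1 q) (d.op s (k - 1) (c.op s k x)) := by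
  have hY := H23.ChowDesc.isSetup_osq hX s
  haveI := hY.1
  haveI := s.lft
  have hM := PicClLib.isInvertible_pullback s.g hc.1
  obtain ⟨P, π, _, δP, i, _, Q, σ, hP, hδπ, hi, hδi, hQ, hσ, ⟨e⟩⟩ := exists_zeroSection hY hM
  let t : Bivar.OSq X δX :=
    ⟨P, π ≫ s.g, inferInstance, δP, Bivar.deltaCompat_comp π s.g δP s.δ δX hδπ s.compat⟩
  have hit : i ≫ t.g = s.g := by
    show i ≫ π ≫ s.g = s.g
    rw [← Category.assoc, hi, Category.id_comp]
  obtain ⟨w, hw⟩ := H23.RatSec.exists_sections hQ
  obtain ⟨α, hα, rfl⟩ := Bivar.exists_rep x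
  obtain ⟨β, hβ, eβ, eβ'⟩ := d.push t s i hit k α hα
  have hiα := Bivar.cycMap_mem_Zk i s.δ δP k hα
  obtain ⟨βP, hβP, eP, H⟩ := d.gysin t s i hit Q hQ σ hσ k (AlgebraicCycle.map i s.δ δP α) hiα
  let G := gysAdd hP hQ i σ hw
  have hγ : G (AlgebraicCycle.map i s.δ δP α) ∈ Cyc.Zk s.Y s.δ (k - 1) := gysAdd_mem' hP hQ i hδi hw hiα
  obtain ⟨ζ, hζ, hζe, fζ⟩ := H w hw (G (AlgebraicCycle.map i s.δ δP α)) (fun _ => rfl) hγ
  obtain rfl : ζ = G βP := DFunLike.coe_injective (funext hζe)
  rw [eβ, c1_eq_cl_gys_push hY hP hQ i hδi hw hc s.g s.lft s.compat e hβ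
      (gysAdd_mem' hP hQ i hδi hw (Bivar.cycMap_mem_Zk i s.δ δP (k - q) hβ)),
    c1_eq_cl_gys_push hY hP hQ i hδi hw hc s.g s.lft s.compat e hα hγ, fζ, Bivar.chCast_cl]
  exact cl_gys_congr hY hP hQ i hδi hw hσ rfl (eβ'.symm.trans eP) _ _

end Groth.Agent.S17573
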