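import Groth.Statements.S17574
import Groth.Agent.H9PB.C1Gys
import Groth.Agent.H23.GysinSq


set_option autoImplicit false
universe u
open CategoryTheory AlgebraicGeometry
open Bivar

namespace Groth.Agent.S17574

set_option backward.isDefEq.respectTransparency false
set_option backward.isDefEq.respectTransparency.types false
set_option maxHeartbeats 800000
open Groth.Agent Groth.Agent.H9PB

/-- Let f : X' → X be locally of finite type, L an invertible O_X-module, and c ∈ A^p(X' → X) a
bivariant class. Then c ∘ c_1(L) = c_1(f^*L) ∘ c in A^{p+1}(X' → X): for every cartesian square (g :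
Y → X, Y' = Y ×_X X', g' : Y' → X') with g locally of finite type and every x ∈ CH_k(Y), c ∩
(c_1(g^*L) ∩ x) = c_1((g')^*f^*L) ∩ (c ∩ x) in CH_{k−1−p}(Y'). Here the first Chern classes of L on
X and of f^*L on X' are given as operational classes cX ∈ A^1(X), cX' ∈ A^1(X') through the binder
Bivar.IsC1Class, evaluated on the test schemes Y → X and Y' → X' of the square (Y' → X' is locally
of finite type as a base change of g), and the two sides, of weights k − p − 1 and k − 1 − p, are
compared through the transport Bivar.chCast. Here a pair (X, δ) with Cyc.IsSetup plays the role of a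
scheme locally of finite type over the base (S, δ) (X locally Noetherian with universally catenary
local rings, δ a dimension function), Cyc.DeltaCompat records that a dimension function is the
induced one, and bivariant classes are taken in the operational sense of the prelude: additive
operations on the Chow groups CH_k (k-cycles modulo rational equivalence) of all test schemes,
compatible with proper pushforward, flat pullback and the Gysin maps of zero schemes of sections of
invertible modules in representative form (Bivar.Cl for A^p(X → Y), Bivar.OpCl for A^p(X)). -/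
theorem result (X X' : Scheme.{u}) (δX : X → ℤ) (δX' : X' → ℤ) (hX : Cyc.IsSetup X δX) (hX' : Cyc.IsSetup X' δX') (f : X' ⟶ X) [LocallyOfFiniteType f] (hδ : Cyc.DeltaCompat f δX' δX) (L : X.Modules) (cX : Bivar.OpCl 1 X δX) (hcX : Bivar.IsC1Class L cX) (cX' : Bivar.OpCl 1 X' δX') (hcX' : Bivar.IsC1Class ((Scheme.Modules.pullback f).obj L) cX') (p : ℤ) (c : Bivar.Cl p f δX' δX) (s : Bivar.Sq f δX' δX) (k : ℤ) (x : ChowOps.CH s.Y' s.δY' k) : c.op s (k - 1) (cX.op ⟨s.Y', s.g, s.lft, s.δY', s.compatY⟩ k x) = Bivar.chCast s.X' s.δX' (sub_right_comm k p 1) (cX'.op ⟨s.X', s.g', MorphismProperty.of_isPullback s.isPullback s.lft, s.δX', s.compatX⟩ (k - p) (c.op s k x)) := by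
  haveI := s.lft
  haveI := MorphismProperty.of_isPullback s.isPullback s.lft
  have hY := H23.SetupLFT.isSetup s.g hX s.compatY
  have hY' := H23.SetupLFT.isSetup s.g' hX' s.compatX
  haveI := hY.1
  haveI := hY'.1
  have hM := PicClLib.isInvertible_pullback s.g hcX.1
  obtain ⟨P, π, _, δP, i, _, Q, σ, hP, hδπ, hi, hδi, hQ, hσ, ⟨e⟩⟩ := exists_zeroSection hY hM
  have hsq : IsPullback (Limits.pullback.fst π s.f') (Limits.pullback.snd π s.f') π s.f' :=
    IsPullback.of_hasPullback π s.f'
  let fP := Limits.pullback.fst π s.f'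
  let π' := Limits.pullback.snd π s.f'
  haveI : IsProper π' := MorphismProperty.of_isPullback hsq inferInstance
  let δP' : ↥(Limits.pullback π s.f') → ℤ := fun z => s.δX' (π' z) + FibDim.rd π' z
  have hδπ' : Cyc.DeltaCompat π' δP' s.δX' := fun z => ⟨FibDim.rd π' z, (FibDim.rd_eq_rdeg π' z).symm, rfl⟩
  have hP' := H23.SetupLFT.isSetup π' hY' hδπ'
  haveI := hP'.1
  let t : Bivar.Sq f δX' δX :=
    ⟨P, _, π ≫ s.g, fP, π' ≫ s.g', hsq.paste_vert s.isPullback, inferInstance, δP, δP',
      Bivar.deltaCompat_comp π s.g δP s.δY' δX hδπ s.compatY,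
      Bivar.deltaCompat_comp π' s.g' δP' s.δX' δX' hδπ' s.compatX⟩
  let j : s.X' ⟶ Limits.pullback π s.f' :=
    Limits.pullback.lift (s.f' ≫ i) (𝟙 _) (by rw [Category.assoc, hi, Category.comp_id, Category.id_comp])
  have hjf : j ≫ fP = s.f' ≫ i := Limits.pullback.lift_fst _ _ _
  have hjπ : j ≫ π' = 𝟙 _ := Limits.pullback.lift_snd _ _ _
  haveI : IsClosedImmersion j := by
    haveI : IsClosedImmersion (j ≫ π') := by rw [hjπ]; infer_instance
    exact IsClosedImmersion.of_comp j π'
  have hδj : s.δX' = fun z => δP' (j z) := by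
    have h := CycLib.deltaCompat_closedImmersion_comp j π' hδπ'
    rw [hjπ] at h
    funext z
    rw [CycLib.deltaCompat_eq (𝟙 _) h z, CycLib.rd_eq_zero_of_finite (𝟙 _) z
      (RingHom.Finite.of_surjective _ (CycLib.residueFieldMap_bijective (𝟙 _) z).2)]
    simp
  have hpb : IsPullback j s.f' fP i := by
    refine (IsPullback.of_right ?_ hjf hsq.flip).flip.flip
    rw [hjπ, hi]
    exact IsPullback.of_horiz_isIso ⟨by simp⟩
  let N := (Scheme.Modules.pullback fP).obj Q
  have hN : PicF.IsInvertible N := PicClLib.isInvertible_pullback fP hQ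
  let τ : N.presheaf.obj (Opposite.op ⊤) := KFlatLib.pb fP (U := ⊤) σ
  have hτ : Cyc.IsZeroSchemeOf j N τ := H23.GysinSq.isZeroSchemeOf_pb hpb hQ hσ
  let e' : (Scheme.Modules.pullback j).obj N ≅
      (Scheme.Modules.pullback s.g').obj ((Scheme.Modules.pullback f).obj L) :=
    (Scheme.Modules.pullbackComp j fP).app Q ≪≫ (Scheme.Modules.pullbackCongr hjf).app Q ≪≫
      ((Scheme.Modules.pullbackComp s.f' i).app Q).symm ≪≫ (Scheme.Modules.pullback s.f').mapIso e ≪≫
      (Scheme.Modules.pullbackComp s.f' s.g).app L ≪≫ (Scheme.Modules.pullbackCongr s.isPullback.w).app L ≪≫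
      ((Scheme.Modules.pullbackComp s.g' f).app L).symm
  have hit : i ≫ t.g = s.g := by
    show i ≫ π ≫ s.g = s.g
    rw [← Category.assoc, hi, Category.id_comp]
  have hjt : j ≫ t.g' = s.g' := by
    show j ≫ π' ≫ s.g' = s.g'
    rw [← Category.assoc, hjπ, Category.id_comp]
  obtain ⟨w, hw⟩ := H23.RatSec.exists_sections hQ
  obtain ⟨w', hw'⟩ := H23.RatSec.exists_sections hN
  obtain ⟨α, hα, rfl⟩ := Bivar.exists_rep x
  obtain ⟨β, hβ, eβ, eβ'⟩ := c.push t s i j hit hjf hjt k α hα
  have hiα := Bivar.cycMap_mem_Zk i s.δY' δP k hα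
  obtain ⟨βP, hβP, eP, H⟩ := c.gysin t s i j hit hjf hjt Q hQ σ hσ τ hτ k (AlgebraicCycle.map i s.δY' δP α) hiα
  let G := gysAdd hP hQ i σ hw
  let G' := gysAdd hP' hN j τ hw'
  have hγ : G (AlgebraicCycle.map i s.δY' δP α) ∈ Cyc.Zk s.Y' s.δY' (k - 1) := gysAdd_mem' hP hQ i hδi hw hiα
  obtain ⟨ζ, hζ, hζe, fζ⟩ := H w hw (G (AlgebraicCycle.map i s.δY' δP α)) (fun _ => rfl) hγ w' hw'
  obtain rfl : ζ = G' βP := DFunLike.coe_injective (funext hζe)
  rw [eβ, c1_eq_cl_gys_push hY' hP' hN j hδj hw' hcX' s.g'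
      (MorphismProperty.of_isPullback s.isPullback s.lft) s.compatX e' hβ
      (gysAdd_mem' hP' hN j hδj hw' (Bivar.cycMap_mem_Zk j s.δX' δP' (k - p) hβ)),
    c1_eq_cl_gys_push hY hP hQ i hδi hw hcX s.g s.lft s.compatY e hα hγ, fζ, Bivar.chCast_cl]
  exact cl_gys_congr hY' hP' hN j hδj hw' hτ (by ring) (eP.symm.trans eβ') _ _

end Groth.Agent.S17574
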