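import Groth.Statements.S17586
import Groth.Agent.Big.IntNum

set_option autoImplicit false
open CategoryTheory CategoryTheory.Limits AlgebraicGeometry
open PosLin

attribute [-instance] CategoryTheory.catToReflQuiver

namespace Groth.Agent.S17586

open Groth.Agent Groth.Agent.H23.PicMul

/-- Let X be a projective variety over the complex numbers (an integral scheme, proper over ℂ, with an
ample invertible module) of dimension n, and L an invertible O_X-module (the module of a Cartier
divisor D). The following two characterisations of bigness of D are equivalent: (a) for every ample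
invertible O_X-module A there are m > 0 and a monomorphism A → L^⊗m (that is, mD is linearly
equivalent to A plus an effective divisor); (b) there are a constant C > 0 and m₁ such that dim_ℂ
H^0(X, L^⊗m) ≥ C·m^n for all m ≥ m₁. (In the text both are shown equivalent to D having Iitaka
dimension n; this row states their equivalence with each other.) -/
theorem result (X : Scheme.{0}) [X.Over (Spec (CommRingCat.of ℂ))] [IsIntegral X]
    [IsProper (X ↘ Spec (CommRingCat.of ℂ))] (H : X.Modules) (hH : CohB1.IsAmple H)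
    (n : ℕ) (hn : topologicalKrullDim X = n)
    (L : X.Modules) (hL : PicF.IsInvertible L) :
    (∀ A : X.Modules, CohB1.IsAmple A → ∃ (m : ℕ) (φ : A ⟶ CohB1.tensorPow L m), 0 < m ∧ Mono φ) ↔
      ∃ C : ℝ, 0 < C ∧ ∃ m₁ : ℕ, ∀ m : ℕ, m₁ ≤ m →
        C * (m : ℝ) ^ n ≤ (Module.finrank ℂ (Coh.HH X (CohB1.tensorPow L m) 0) : ℝ) := by
  haveI := CurveCohLib.isNoetherian_of_proper (k := ℂ) (X := X)
  constructor
  · intro h
    obtain ⟨m, φ, hm, hφ⟩ := h H hH
    haveI := hφ
    obtain ⟨c, hc, n₀, hlow⟩ := Big.exists_lower_all ℂ hn hH hL hm φ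
    refine ⟨(c : ℝ), by exact_mod_cast hc, n₀, fun i hi => ?_⟩
    have h4 : ((c * (i : ℚ) ^ n : ℚ) : ℝ) ≤ ((Big.h0 ℂ (CohB1.tensorPow L i) : ℚ) : ℝ) := Rat.cast_le.2 (hlow i hi)
    push_cast at h4
    exact h4
  · rintro ⟨C, hC, m₁, hgrow⟩ A hA
    obtain ⟨ν, B, φ, hν, hB, hφ⟩ := Big.exists_ample_mono ℂ hn hH hL fun e he K => by
      subst he
      obtain ⟨M, hM⟩ := exists_nat_gt ((K : ℝ) * 2 ^ e / C)
      refine ⟨max M (max m₁ 1), ?_⟩
      set i := max M (max m₁ 1) with hidef
      have hi1 : 1 ≤ i := (le_max_right m₁ 1).trans (le_max_right M _)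
      have h1 : C * (i : ℝ) ^ (e + 1) ≤ (Big.h0 ℂ (CohB1.tensorPow L i) : ℝ) :=
        hgrow i ((le_max_left m₁ 1).trans (le_max_right M _))
      by_contra hle
      rw [not_lt] at hle
      have h2 : (Big.h0 ℂ (CohB1.tensorPow L i) : ℝ) ≤ (K : ℝ) * 2 ^ e * (i : ℝ) ^ e := by
        have : Big.h0 ℂ (CohB1.tensorPow L i) ≤ K * 2 ^ e * i ^ e := by
          refine hle.trans ?_
          rw [mul_assoc, ← mul_pow]
          exact Nat.mul_le_mul_left K (Nat.pow_le_pow_left (by omega) e)
        exact_mod_cast this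
      have hi0 : (0 : ℝ) < i := Nat.cast_pos.2 hi1
      have h3 : C * (i : ℝ) * (i : ℝ) ^ e ≤ (K : ℝ) * 2 ^ e * (i : ℝ) ^ e := by
        rw [mul_assoc, ← pow_succ']
        exact h1.trans h2
      have h4 := le_of_mul_le_mul_right h3 (pow_pos hi0 e)
      rw [div_lt_iff₀ hC] at hM
      have h5 : (M : ℝ) ≤ i := by exact_mod_cast le_max_left M (max m₁ 1)
      nlinarith
    haveI := hφ
    obtain ⟨D, hD, ⟨δ⟩⟩ := H23.PicInv.exists_inverse hA.1
    have hAD : PicF.cl A * PicF.cl D = 1 := by rw [← cl_tensor, cl_eq_iff.2 ⟨δ⟩, H23.PicMul.one_def]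
    obtain ⟨a, ha, s, hs⟩ := Big.exists_section_twist ℂ hn.le hB hD
    have hDB := InvX.isInvertible_tensorMod hD (InvX.isInvertible_tensorPow hB.1 a)
    have hnt : 0 < Big.h0 ℂ (CohB1.tensorMod D (CohB1.tensorPow B a)) := by
      haveI : Mono s := InvEnd.mono_of_ne_zero CurveDeg.isInvertible_structureModule hDB s hs
      refine lt_of_lt_of_le ?_ (Big.h0_le_of_mono ℂ s (AmpleVan.isCoh_invertible hDB))
      haveI := CurveCohLib.finite_HH (k := ℂ) (QCoh.isCoh_structureModule' (X := X)) 0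
      haveI : Nontrivial (Coh.HH X (Coh.structureModule X) 0) :=
        ⟨⟨(Sheaf.H.equiv₀ (Coh.toAb (Coh.structureModule X)) isTerminalTop).symm (1 : Γ(X, ⊤)), 0, fun h =>
          one_ne_zero (α := Γ(X, ⊤)) (((Sheaf.H.equiv₀ (Coh.toAb (Coh.structureModule X)) isTerminalTop).symm.injective
            (h.trans (map_zero _).symm)))⟩⟩
      exact Module.finrank_pos
    have hpos := lt_of_lt_of_le hnt (Big.h0_le_pow_twist ℂ hB.1 hL hD φ a)
    have hDL := InvX.isInvertible_tensorMod hD (InvX.isInvertible_tensorPow hL (ν * a))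
    obtain ⟨u, hu⟩ := Big.exists_hom_of_h0_pos ℂ hpos
    haveI : Mono u := InvEnd.mono_of_ne_zero CurveDeg.isInvertible_structureModule hDL u hu
    haveI := Big.mono_tw hA.1 u
    obtain ⟨α⟩ : Nonempty (A ≅ (AmpleVan.tw A).obj (Coh.structureModule X)) := cl_eq_iff.1 (by
      show _ = PicF.cl (CohB1.tensorMod _ _)
      rw [cl_tensor, Big.one_mul_cl])
    obtain ⟨β⟩ : Nonempty ((AmpleVan.tw A).obj (CohB1.tensorMod D (CohB1.tensorPow L (ν * a))) ≅
        CohB1.tensorPow L (ν * a)) := cl_eq_iff.1 (by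
      show PicF.cl (CohB1.tensorMod _ _) = _
      rw [cl_tensor, cl_tensor, mul_comm, ← mul_assoc, hAD, one_mul])
    exact ⟨ν * a, α.hom ≫ (AmpleVan.tw A).map u ≫ β.hom, Nat.mul_pos hν ha, inferInstance⟩

end Groth.Agent.S17586
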