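import Groth.Statements.S17588
import Groth.Agent.Big.IntNum

set_option autoImplicit false
open CategoryTheory CategoryTheory.Limits AlgebraicGeometry
open PosLin

attribute [-instance] CategoryTheory.catToReflQuiver

namespace Groth.Agent.S17588

open Groth.Agent Groth.Agent.H23.PicMul

/-- Let X be a projective variety over the complex numbers (an integral scheme, proper over ℂ, with an
ample invertible module) of dimension n, L an invertible O_X-module which is numerically effective
(its restriction to every integral one-dimensional closed subscheme has non-negative degree), and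
L⁻¹ a tensor inverse of L. Then L is big, bigness being expressed through the equivalent growth
condition dim_ℂ H^0(X, L^⊗m) ≥ C·m^n for some constant C > 0 and all sufficiently large m, if and
only if the self-intersection number (L^n) = ∫ c_1(L)^n · [O_X] (the alternating sum of Euler
characteristics attached to n copies of L⁻¹) is positive. -/
theorem result (X : Scheme.{0}) [X.Over (Spec (CommRingCat.of ℂ))] [IsIntegral X]
    [IsProper (X ↘ Spec (CommRingCat.of ℂ))] (H : X.Modules) (hH : CohB1.IsAmple H)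
    (n : ℕ) (hn : topologicalKrullDim X = n)
    (L Linv : X.Modules) (hL : PicF.IsInvertible L) (hLinv : ClSub.IsInverseOf Linv L)
    (hnef : ∀ (Z : Scheme.{0}) (i : Z ⟶ X) [IsClosedImmersion i], IsIntegral Z → topologicalKrullDim Z = 1 →
      0 ≤ Pic13.curveDeg ℂ (i ≫ (X ↘ Spec (CommRingCat.of ℂ))) ((Scheme.Modules.pullback i).obj L)) :
    (∃ C : ℝ, 0 < C ∧ ∃ m₁ : ℕ, ∀ m : ℕ, m₁ ≤ m →
        C * (m : ℝ) ^ n ≤ (Module.finrank ℂ (Coh.HH X (CohB1.tensorPow L m) 0) : ℝ)) ↔
      0 < FGA.intNum ℂ X n (fun _ : Fin n => Linv) (Coh.structureModule X) := by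
  haveI := CurveCohLib.isNoetherian_of_proper (k := ℂ) (X := X)
  have hN : Nakai.Nef ℂ L := (Nakai.nef_iff_curveDeg ℂ hL).2 hnef
  have h1 : PicF.cl Linv * PicF.cl L = 1 := by rw [← cl_tensor, cl_eq_iff.2 hLinv, H23.PicMul.one_def]
  obtain ⟨D, hD, ⟨δ⟩⟩ := H23.PicInv.exists_inverse hL
  have h2 : PicF.cl L * PicF.cl D = 1 := by rw [← cl_tensor, cl_eq_iff.2 ⟨δ⟩, H23.PicMul.one_def]
  have h3 : PicF.cl D = PicF.cl Linv := by rw [← one_mul (PicF.cl D), ← h1, mul_assoc, h2, mul_one]
  have hLi : PicF.IsInvertible Linv := isInvertible_of_iso (cl_eq_iff.1 h3).some hD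
  obtain ⟨q, hq, hqn⟩ := Nakai.exists_poly ℂ hL (QCoh.isCoh_structureModule' (X := X))
    (C := (⊤ : TopologicalSpace.Closeds X)) (fun x _ => trivial) (Nakai.dim_univ_le hn)
  have hkey : (FGA.intNum ℂ X n (fun _ : Fin n => Linv) (Coh.structureModule X) : ℚ) = n.factorial * q.coeff n :=
    Big.intNum_eq_coeff ℂ hn.le hL hLi (by rw [mul_comm]; exact h1) (QCoh.isCoh_structureModule' (X := X))
      (C := (⊤ : TopologicalSpace.Closeds X)) (fun x _ => trivial) (Nakai.dim_univ_le hn) hq hqn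
  have hf : (0 : ℚ) < n.factorial := by exact_mod_cast n.factorial_pos
  constructor
  · rintro ⟨C, hC, m₁, hgrow⟩
    obtain ⟨ν, B, φ, hν, hB, hφ⟩ := Big.exists_ample_mono ℂ hn hH hL fun e he K => by
      subst he
      obtain ⟨M, hM⟩ := exists_nat_gt ((K : ℝ) * 2 ^ e / C)
      refine ⟨max M (max m₁ 1), ?_⟩
      set i := max M (max m₁ 1) with hidef
      have hi1 : 1 ≤ i := (le_max_right m₁ 1).trans (le_max_right M _)
      have h1 : C * (i : ℝ) ^ (e + 1) ≤ (Big.h0 ℂ (CohB1.tensorPow L i) : ℝ) :=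
        hgrow i ((le_max_left m₁ 1).trans (le_max_right M _))
      by_contra hle
      rw [not_lt] at hle
      have h2 : (Big.h0 ℂ (CohB1.tensorPow L i) : ℝ) ≤ (K : ℝ) * 2 ^ e * (i : ℝ) ^ e := by
        have : Big.h0 ℂ (CohB1.tensorPow L i) ≤ K * 2 ^ e * i ^ e := by
          refine hle.trans ?_
          rw [mul_assoc, ← mul_pow]
          exact Nat.mul_le_mul_left K (Nat.pow_le_pow_left (by omega) e)
        exact_mod_cast this
      have hi0 : (0 : ℝ) < i := Nat.cast_pos.2 hi1
      have h3 : C * (i : ℝ) * (i : ℝ) ^ e ≤ (K : ℝ) * 2 ^ e * (i : ℝ) ^ e := by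
        rw [mul_assoc, ← pow_succ']
        exact h1.trans h2
      have h4 := le_of_mul_le_mul_right h3 (pow_pos hi0 e)
      rw [div_lt_iff₀ hC] at hM
      have h5 : (M : ℝ) ≤ i := by exact_mod_cast le_max_left M (max m₁ 1)
      nlinarith
    haveI := hφ
    have := Big.coeff_pos_of_mono ℂ hn hL hN hB hν φ hq hqn
    have h4 : (0 : ℚ) < (FGA.intNum ℂ X n (fun _ : Fin n => Linv) (Coh.structureModule X) : ℚ) := by
      rw [hkey]; exact mul_pos hf this
    exact_mod_cast h4
  · intro h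
    have h4 : (0 : ℚ) < (FGA.intNum ℂ X n (fun _ : Fin n => Linv) (Coh.structureModule X) : ℚ) := by exact_mod_cast h
    rw [hkey] at h4
    obtain ⟨ν, B, φ, hν, hB, hφ⟩ := Big.exists_ample_mono_of_nef ℂ hn hL hN hH hq hqn (pos_of_mul_pos_right h4 hf.le)
    haveI := hφ
    obtain ⟨c, hc, n₀, hlow⟩ := Big.exists_lower_all ℂ hn hB hL hν φ
    refine ⟨(c : ℝ), by exact_mod_cast hc, n₀, fun i hi => ?_⟩
    have h5 : ((c * (i : ℚ) ^ n : ℚ) : ℝ) ≤ ((Big.h0 ℂ (CohB1.tensorPow L i) : ℚ) : ℝ) := Rat.cast_le.2 (hlow i hi)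
    push_cast at h5
    exact h5

end Groth.Agent.S17588
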