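import Groth.Statements.S17619
-- import your own Groth.Agent.* helpers here
import Groth.Agent.S1223
import Groth.Agent.AssFiber.Basic
import Groth.Agent.EssFPDescent.AssNoeth

set_option backward.isDefEq.respectTransparency.types false

set_option autoImplicit false
universe u
open FlatMor

namespace Groth.Agent.S17619

open TensorProduct

attribute [local instance] Algebra.TensorProduct.rightAlgebra

/-- Let A be a Noetherian ring and B a smooth A-algebra whose fibres are geometrically integral, and let
u : B → A be an A-algebra retraction with kernel I (the situation reached, after a faithfully flat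
base change, in the proof that flat and pure modules are projective). Let B̂ be the I-adic
completion of B, presented as a B-algebra, compatibly an A-algebra, that is I B̂-adically complete
and for which every truncation B/I^n → B̂/I^n B̂ is bijective. Then the canonical map B → B̂ is
universally injective over A: it remains injective after tensoring over A with any A-module (modules
in the universe of A). -/
theorem result (A : Type u) [CommRing A]
    [IsNoetherianRing A] (B : Type u) [CommRing B] [Algebra A B] [Algebra.Smooth A B]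
    (hfib : FlatCA.GeomIntegralFibres A B) (u : B →ₐ[A] A)
    (Bh : Type u) [CommRing Bh] [Algebra B Bh] [Algebra A Bh] [IsScalarTower A B Bh]
    [IsAdicComplete ((RingHom.ker u).map (algebraMap B Bh)) Bh]
    (hq : ∀ n : ℕ, Function.Bijective (Ideal.quotientMap ((RingHom.ker u ^ n).map (algebraMap B Bh))
      (algebraMap B Bh) Ideal.le_comap_map)) :
    FlatCA.UnivInj A (IsScalarTower.toAlgHom A B Bh).toLinearMap := by
  classical
  haveI : Algebra.FiniteType A B := inferInstance
  haveI : IsNoetherianRing B := Algebra.FiniteType.isNoetherianRing A B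
  let I := RingHom.ker u
  let c := (IsScalarTower.toAlgHom A B Bh).toLinearMap
  intro Q _ _
  rw [LinearMap.lTensor_inj_iff_rTensor_inj, injective_iff_map_eq_zero]
  intro z hz
  obtain ⟨Q₀, hQ₀, hzQ⟩ := TensorProduct.exists_finite_submodule_right_of_setFinite {z} (Set.finite_singleton z)
  obtain ⟨z₀, hz₀⟩ := hzQ (Set.mem_singleton z)
  obtain ⟨Q₁, hle, hfg, hzero⟩ := AssFiber.exists_fg_lTensor_inclusion_eq_zero (N := Bh) Q₀
    (Module.Finite.iff_fg.1 hQ₀) (c.rTensor Q₀ z₀) (by
      rw [← LinearMap.comp_apply, LinearMap.lTensor_comp_rTensor, ← LinearMap.rTensor_comp_lTensor,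
        LinearMap.comp_apply]
      exact (congrArg _ hz₀).trans hz)
  haveI : Module.Finite A Q₁ := Module.Finite.iff_fg.2 hfg
  let z₁ := (Submodule.inclusion hle).lTensor B z₀
  have hz₁ : c.rTensor Q₁ z₁ = 0 := by
    rw [← LinearMap.comp_apply, LinearMap.rTensor_comp_lTensor, ← LinearMap.lTensor_comp_rTensor,
      LinearMap.comp_apply]
    exact hzero
  suffices h1 : z₁ = 0 by
    rw [← hz₀, show Q₀.subtype = Q₁.subtype.comp (Submodule.inclusion hle) from rfl, LinearMap.lTensor_comp_apply]
    exact (congrArg _ h1).trans (map_zero _)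
  haveI : Module.Finite B (B ⊗[A] Q₁) := inferInstance
  -- `z₁` lies in every power of the kernel
  have hmem : z₁ ∈ (⨅ n : ℕ, I ^ n • ⊤ : Submodule B (B ⊗[A] Q₁)) := by
    refine (Submodule.mem_iInf _).2 fun n => ?_
    let e := RingEquiv.ofBijective _ (hq n)
    let ρ : Bh →ₐ[A] B ⧸ I ^ n :=
      { toRingHom := e.symm.toRingHom.comp (Ideal.Quotient.mk ((I ^ n).map (algebraMap B Bh)))
        commutes' := fun a => by
          show e.symm (Ideal.Quotient.mk _ (algebraMap A Bh a)) = Ideal.Quotient.mk (I ^ n) (algebraMap A B a)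
          rw [RingEquiv.symm_apply_eq, IsScalarTower.algebraMap_apply A B Bh]
          rfl }
    let π : B →ₗ[A] B ⧸ I ^ n := (Ideal.Quotient.mkₐ A (I ^ n)).toLinearMap
    have hρ : ρ.toLinearMap.comp c = π := LinearMap.ext fun b => by
      show e.symm (Ideal.Quotient.mk _ (algebraMap B Bh b)) = Ideal.Quotient.mk (I ^ n) b
      rw [RingEquiv.symm_apply_eq]
      rfl
    have h2 : π.rTensor Q₁ z₁ = 0 := by
      rw [← hρ, LinearMap.rTensor_comp_apply, hz₁, map_zero]
    have hex : Function.Exact ((I ^ n).restrictScalars A).subtype π := fun y => by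
      refine ⟨fun hy => ⟨⟨y, Ideal.Quotient.eq_zero_iff_mem.1 hy⟩, rfl⟩, ?_⟩
      rintro ⟨v, rfl⟩
      exact Ideal.Quotient.eq_zero_iff_mem.2 v.2
    obtain ⟨w, hw⟩ := (rTensor_exact Q₁ hex Ideal.Quotient.mk_surjective z₁).1 h2
    rw [← hw]
    clear hw h2
    induction w using TensorProduct.induction_on with
    | zero => rw [map_zero]; exact zero_mem _
    | add a b ha hb => rw [map_add]; exact add_mem ha hb
    | tmul t x =>
      rw [LinearMap.rTensor_tmul, Submodule.subtype_apply,
        show (t : B) ⊗ₜ[A] x = (t : B) • ((1 : B) ⊗ₜ[A] x) by rw [TensorProduct.smul_tmul', smul_eq_mul, mul_one]]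
      exact Submodule.smul_mem_smul t.2 trivial
  obtain ⟨⟨r, hr⟩, hrz⟩ := (I.mem_iInf_smul_pow_eq_bot_iff z₁).1 hmem
  by_contra hne
  have h1r : (1 - r) • z₁ = 0 := by
    refine (sub_smul (1 : B) r z₁).trans ?_
    rw [one_smul, sub_eq_zero]
    exact hrz.symm
  obtain ⟨q, hqmin⟩ := Ideal.nonempty_minimalPrimes (I := (Submodule.span B {z₁}).annihilator) fun htop => hne (by
    have h := (Submodule.mem_annihilator_span_singleton z₁ (1 : B)).1 (by rw [htop]; trivial)
    rwa [one_smul] at h)
  haveI : q.IsPrime := hqmin.1.1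
  let p := q.comap (algebraMap A B)
  haveI : p.IsPrime := Ideal.comap_isPrime _ _
  haveI : q.LiesOver p := ⟨rfl⟩
  obtain ⟨P, hP, hPq⟩ := EssFPDescent.exists_ass_fiber_noeth (R := A) (S := B) B Q₁ z₁ p q hqmin
  haveI : IsDomain (p.Fiber B) :=
    haveI := S1223.isDomain_tensor hfib p.ResidueField
    (Algebra.TensorProduct.comm A p.ResidueField B).toRingEquiv.toMulEquiv.isDomain _
  let eF : FlatCA.fiberMod p B B ≃ₗ[p.Fiber B] p.Fiber B :=
    TensorProduct.AlgebraTensorModule.rid B (p.Fiber B) (p.Fiber B)
  have hbot : ∀ x ∈ P, x = 0 := fun x hx => by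
    obtain ⟨m, hm0, hm⟩ := H4RG.exists_smul_eq_zero_of_mem_assoc hP hx
    have h3 : x • eF m = 0 := by rw [← map_smul]; exact (congrArg eF hm).trans (map_zero eF)
    exact (mul_eq_zero.1 h3).resolve_right fun h0 => hm0 (eF.injective (h0.trans (map_zero eF).symm))
  let χ : p.Fiber B →ₐ[A] p.ResidueField :=
    Algebra.TensorProduct.lift (AlgHom.id A p.ResidueField) ((Algebra.ofId A p.ResidueField).comp u) fun _ _ => .all _ _
  have hχ : ∀ b, χ (Algebra.TensorProduct.includeRight b) = algebraMap A p.ResidueField (u b) := fun b => by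
    show Algebra.TensorProduct.lift _ _ _ ((1 : p.ResidueField) ⊗ₜ[A] b) = _
    rw [Algebra.TensorProduct.lift_tmul, map_one, one_mul]
    rfl
  have hr0 : algebraMap A p.ResidueField (u r) = 0 := by rw [RingHom.mem_ker.1 hr, map_zero]
  have h1 : algebraMap A p.ResidueField (u (1 - r)) = 0 := by
    rw [← hχ, hbot _ (show Algebra.TensorProduct.includeRight (1 - r) ∈ P from
      hPq.ge (hqmin.1.2 ((Submodule.mem_annihilator_span_singleton _ _).2 h1r))), map_zero]
  rw [map_sub, map_sub, map_one, map_one, hr0, sub_zero] at h1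
  exact one_ne_zero h1

end Groth.Agent.S17619
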