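import Groth.Statements.S17626
import Groth.Agent.AsympCoh.Hom
import Groth.Agent.Big.Kodaira
import Groth.Agent.Big.Volume
-- import your own Groth.Agent.* helpers here

set_option autoImplicit false
universe u
open CategoryTheory CategoryTheory.Limits AlgebraicGeometry
open Variety

namespace Groth.Agent.S17626

/-- Let X be an integral scheme, proper over an algebraically closed field k of characteristic zero and
admitting an ample invertible module, of dimension n ≥ 1 (stated in the source over the complex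
numbers), and L an invertible O_X-module which is big, in the sense that its volume ĥ^0(X, L) =
limsup_m dim_k H^0(X, L^{⊗m}) · n!/m^n is positive. Then ĥ^n(X, L) = 0. (The published statement
allows n = 0, where it fails: X is then a point, every L is big and ĥ^0(X, L) = 1; the printed
argument uses that L and its inverse cannot both be big, which needs n ≥ 1.) -/
theorem result (k : Type u) [Field k] [IsAlgClosed k] [CharZero k] (X : Scheme.{u})
    [X.Over (Spec (CommRingCat.of k))] [AlgebraicGeometry.IsIntegral X]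
    [IsProper (X ↘ Spec (CommRingCat.of k))] (hproj : ∃ A : X.Modules, CohB1.IsAmple A)
    (n : ℕ) (hn : topologicalKrullDim X = n) (hn1 : 1 ≤ n)
    (L : X.Modules) (hL : PicF.IsInvertible L) (hbig : 0 < W4c5asymptcohfn.hhat k X n 0 L) :
    W4c5asymptcohfn.hhat k X n n L = 0 := by
  obtain ⟨A, hA⟩ := hproj
  haveI : IsNoetherian X := CurveCohLib.isNoetherian_of_proper (k := k)
  letI := H23.PicMul.clMonoid X
  obtain ⟨ν, B, φ, hν, hB, hφ⟩ := Big.exists_ample_mono k hn hA hL (by
    intro e he C
    by_contra hne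
    push Not at hne
    refine hbig.ne' (Filter.Tendsto.limsup_eq ?_)
    have h0 := (AsympCoh.tendsto_E n 1).const_mul ((C : ℝ) * n.factorial)
    rw [mul_zero] at h0
    refine squeeze_zero_norm (fun m => ?_) h0
    rw [Real.norm_eq_abs, abs_of_nonneg (by positivity), he, AsympCoh.E, one_mul, ← mul_div_assoc,
      mul_right_comm (C : ℝ)]
    refine div_le_div_of_nonneg_right (mul_le_mul_of_nonneg_right ?_ (by positivity)) (by positivity)
    exact_mod_cast hne m)
  obtain ⟨D, hD, ⟨δ⟩⟩ := H23.PicInv.exists_inverse hB.1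
  have hBD : PicF.cl B * PicF.cl D = 1 := H23.PicMul.cl_eq_iff.2 ⟨δ⟩
  haveI := hφ
  obtain ⟨s, hs⟩ := Big.exists_section_of_mono k hD hBD φ
  have hT := InvX.isInvertible_tensorMod (InvX.isInvertible_tensorPow hL ν) hD
  obtain ⟨x, hx⟩ := Nakai.genLocus_nonempty hT s hs
  have hgen : genericPoint X ∈ CohB1.genLocus _ s :=
    ((genericPoint_spec X).mem_open_set_iff (CohB1.genLocus _ s).2).2 ⟨x, trivial, hx⟩
  choose d₀ hd₀ using fun b : Fin ν =>
    AmpleVan.exists_vanishing (A := k) hB (AmpleVan.isCoh_invertible (InvX.isInvertible_tensorPow hL b))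
  refine Filter.Tendsto.limsup_eq (tendsto_const_nhds.congr' ?_)
  refine Filter.eventually_atTop.2 ⟨ν * (∑ b, d₀ b + 1), fun m hm => ?_⟩
  have hq : ∑ b, d₀ b + 1 ≤ m / ν := (Nat.le_div_iff_mul_le hν).2 (by rwa [mul_comm])
  obtain ⟨j, hj⟩ : ∃ j, m / ν = j + 1 := ⟨m / ν - 1, by omega⟩
  obtain ⟨C, hC, hCd, hineq⟩ := (AsympCoh.isPiece_structure k hn).coker k (InvX.isInvertible_tensorPow hT (j + 1))
    (InvX.powHom s (j + 1)) ((InvX.genLocus_powHom hT s j).symm ▸ hgen)
  set l : List X.Modules := List.replicate (j + 1) B ++ List.replicate (m % ν) L with hl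
  have hlinv : AsympCoh.AllInv l := fun P hP => by
    rcases List.mem_append.1 hP with h | h
    · exact List.eq_of_mem_replicate h ▸ hB.1
    · exact List.eq_of_mem_replicate h ▸ hL
  have h := (hineq l hlinv n).2
  rw [HilbPoly.hdimk_eq_zero_of_dimLT k (AsympCoh.isCoh_twl hlinv hC) (AsympCoh.dimLT_twl hCd l) le_rfl,
    add_zero] at h
  have hz : HilbPoly.hdimk k (AsympCoh.twl l (Coh.structureModule X)) n = 0 := by
    obtain ⟨e⟩ := H23.PicMul.cl_eq_iff.1 (show PicF.cl (AsympCoh.twl l (Coh.structureModule X)) =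
        PicF.cl (CohB1.tensorMod (CohB1.tensorPow L (m % ν)) (CohB1.tensorPow B (j + 1))) by
      rw [AsympCoh.cl_twl, ← H23.PicMul.one_def, one_mul, hl, List.map_append, List.prod_append, List.map_replicate,
        List.map_replicate, List.prod_replicate, List.prod_replicate, H23.PicMul.cl_tensor, H23.PicMul.cl_tensorPow,
        H23.PicMul.cl_tensorPow, mul_comm])
    obtain ⟨n', rfl⟩ : ∃ n', n = n' + 1 := ⟨n - 1, by omega⟩
    rw [HilbPoly.hdimk, HilbPoly.finrank_HH_iso k e]
    haveI := hd₀ ⟨m % ν, Nat.mod_lt _ hν⟩ (j + 1)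
      (le_trans (Finset.single_le_sum (fun b _ => Nat.zero_le (d₀ b)) (Finset.mem_univ _)) (by omega)) n'
    exact Module.finrank_zero_of_subsingleton
  rw [hz, Nat.le_zero] at h
  obtain ⟨e⟩ := H23.PicMul.cl_eq_iff.1 (show PicF.cl (AsympCoh.twl l (CohB1.tensorMod (Coh.structureModule X)
      (CohB1.tensorPow (CohB1.tensorMod (CohB1.tensorPow L ν) D) (j + 1)))) = PicF.cl (CohB1.tensorPow L m) by
    rw [AsympCoh.cl_twl, H23.PicMul.cl_tensor, ← H23.PicMul.one_def, one_mul, H23.PicMul.cl_tensorPow,
      H23.PicMul.cl_tensor, H23.PicMul.cl_tensorPow, hl, List.map_append, List.prod_append, List.map_replicate,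
      List.map_replicate, List.prod_replicate, List.prod_replicate, H23.PicMul.cl_tensorPow, mul_pow, ← pow_mul,
      ← mul_assoc, mul_assoc _ (PicF.cl D ^ (j + 1)), ← mul_pow, mul_comm (PicF.cl D), hBD, one_pow, mul_one,
      ← pow_add, ← hj, Nat.div_add_mod])
  rw [HilbPoly.hdimk, HilbPoly.finrank_HH_iso k e] at h
  simp [h]

end Groth.Agent.S17626
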