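import Groth.Statements.S17632
import Groth.Agent.AsympCoh.ZTwist
-- import your own Groth.Agent.* helpers here

set_option autoImplicit false
universe u
open CategoryTheory CategoryTheory.Limits AlgebraicGeometry
open Variety

namespace Groth.Agent.S17632

/-- Let X be an integral scheme, proper over an uncountable algebraically closed field k of
characteristic zero and admitting an ample invertible module, of dimension n (stated in the source
over the complex numbers), L an invertible O_X-module and A an ample invertible O_X-module with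
inverse A', i.e. A ⊗ A' ≅ O_X. Then for every i ≥ 0, (ĥ^i(X, L^{⊗p} ⊗ A') − ĥ^i(X, L^{⊗p})) / p^n
tends to 0 as p → ∞, where ĥ^i(X, M) = limsup_m dim_k H^i(X, M^{⊗m}) · n!/m^n. -/
theorem result (k : Type u) [Field k] [IsAlgClosed k] [CharZero k] [Uncountable k] (X : Scheme.{u})
    [X.Over (Spec (CommRingCat.of k))] [AlgebraicGeometry.IsIntegral X]
    [IsProper (X ↘ Spec (CommRingCat.of k))] (hproj : ∃ A : X.Modules, CohB1.IsAmple A)
    (n : ℕ) (hn : topologicalKrullDim X = n)
    (L : X.Modules) (hL : PicF.IsInvertible L) (A A' : X.Modules) (hA : CohB1.IsAmple A)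
    (hA' : ClSub.IsInverseOf A A') (i : ℕ) :
    Filter.Tendsto (fun p : ℕ =>
        (W4c5asymptcohfn.hhat k X n i (CohB1.tensorMod (CohB1.tensorPow L p) A') -
          W4c5asymptcohfn.hhat k X n i (CohB1.tensorPow L p)) / (p : ℝ) ^ n)
      Filter.atTop (nhds 0) := by
  classical
  letI := H23.PicMul.clMonoid X
  have hA'i := AsympCoh.isInvertible_of_isInverseOf hA.1 hA'
  have hS : ∀ P ∈ ({L, A'} : Finset X.Modules), PicF.IsInvertible P := by
    intro P hP
    simp only [Finset.mem_insert, Finset.mem_singleton] at hP
    rcases hP with rfl | rfl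
    · exact hL
    · exact hA'i
  obtain ⟨K, hK0, hK⟩ := AsympCoh.hhat_lipschitz k hA hn hS i
  have hb : ∀ p : ℕ, |W4c5asymptcohfn.hhat k X n i (CohB1.tensorMod (CohB1.tensorPow L p) A') -
      W4c5asymptcohfn.hhat k X n i (CohB1.tensorPow L p)| ≤ K * AsympCoh.EE n (1 + p) := by
    intro p
    have h := hK [A'] (List.replicate p L) (by simp) (fun Q hQ => by simp [List.eq_of_mem_replicate hQ]) _ _
      (InvX.isInvertible_tensorMod (InvX.isInvertible_tensorPow hL p) hA'i) (InvX.isInvertible_tensorPow hL p)
      (by rw [List.singleton_append, List.map_cons, List.prod_cons, List.map_replicate, List.prod_replicate,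
        H23.PicMul.cl_tensor, H23.PicMul.cl_tensorPow, mul_comm])
      (by rw [List.map_replicate, List.prod_replicate, H23.PicMul.cl_tensorPow])
    simpa using h
  cases n with
  | zero =>
    refine tendsto_const_nhds.congr fun p => ?_
    have h := hb p
    rw [AsympCoh.EE, Nat.cast_zero, mul_zero, abs_nonpos_iff] at h
    rw [h, zero_div]
  | succ d =>
    refine squeeze_zero_norm' ?_ (tendsto_const_div_atTop_nhds_zero_nat (K * 4 ^ d))
    filter_upwards [Filter.eventually_ge_atTop 1] with p hp
    have hp' : (1 : ℝ) ≤ p := by exact_mod_cast hp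
    have h := hb p
    rw [AsympCoh.EE] at h
    push_cast at h
    rw [Real.norm_eq_abs, abs_div, abs_of_pos (show (0 : ℝ) < (p : ℝ) ^ (d + 1) by positivity),
      div_le_div_iff₀ (by positivity) (by positivity)]
    calc _ ≤ K * (2 * (1 + (p : ℝ))) ^ d * p := mul_le_mul_of_nonneg_right h (by positivity)
      _ ≤ K * (4 * (p : ℝ)) ^ d * p := mul_le_mul_of_nonneg_right (mul_le_mul_of_nonneg_left (pow_le_pow_left₀ (by positivity) (by linarith) d) hK0) (by positivity)
      _ = K * 4 ^ d * (p : ℝ) ^ (d + 1) := by rw [mul_pow, pow_succ]; ring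

end Groth.Agent.S17632
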