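import Groth.Statements.S17633
import Groth.Agent.AsympCoh.ZTwist
-- import your own Groth.Agent.* helpers here

set_option autoImplicit false
universe u
open CategoryTheory CategoryTheory.Limits AlgebraicGeometry
open Variety

namespace Groth.Agent.S17633

/-- Let X be an integral scheme, proper over an uncountable algebraically closed field k of
characteristic zero and admitting an ample invertible module, of dimension n (the published
statement is over the complex numbers), and let L_1, …, L_r be invertible O_X-modules with inverses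
M_1, …, M_r. For a ∈ ℤ^r write L^a = ⊗_j L_j^{a_j} (negative powers taken through the M_j) and ‖a‖ =
max_j |a_j|. Then for every i (the published statement takes 0 ≤ i ≤ n; for i > n both sides vanish)
there is a constant C such that for all a, b ∈ ℤ^r, |ĥ^i(X, L^a) − ĥ^i(X, L^b)| ≤ C · Σ_{q=1}^{n}
max(‖a‖, ‖b‖)^{n−q} · ‖a − b‖^q, where ĥ^i(X, L) = limsup_m dim_k H^i(X, L^{⊗m}) · n!/m^n. (The
published statement gives this Lipschitz-type estimate for ĥ^i as a function on the rational
Néron–Severi space with any fixed norm, together with its homogeneity of degree n; restricted to the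
classes spanned by L_1, …, L_r with the maximum norm on coordinates it reads as here.) -/
theorem result (k : Type u) [Field k] [IsAlgClosed k] [CharZero k] [Uncountable k] (X : Scheme.{u})
    [X.Over (Spec (CommRingCat.of k))] [AlgebraicGeometry.IsIntegral X]
    [IsProper (X ↘ Spec (CommRingCat.of k))] (hproj : ∃ A : X.Modules, CohB1.IsAmple A)
    (n : ℕ) (hn : topologicalKrullDim X = n)
    (r : ℕ) (L M : Fin r → X.Modules) (hL : ∀ j, PicF.IsInvertible (L j))
    (hM : ∀ j, ClSub.IsInverseOf (L j) (M j)) (i : ℕ) :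
    ∃ C : ℝ, ∀ a b : Fin r → ℤ,
      |W4c5asymptcohfn.hhat k X n i (W4c5asymptcohfn.ztwist X L M a) -
          W4c5asymptcohfn.hhat k X n i (W4c5asymptcohfn.ztwist X L M b)| ≤
        C * (Finset.Icc 1 n).sum (fun q =>
          (max ‖(fun j => ((a j : ℤ) : ℝ))‖ ‖(fun j => ((b j : ℤ) : ℝ))‖) ^ (n - q) *
            ‖(fun j => ((a j - b j : ℤ) : ℝ))‖ ^ q) := by
  obtain ⟨A, hA⟩ := hproj
  obtain ⟨K, hK0, hK⟩ := AsympCoh.hhat_lipschitz k hA hn (AsympCoh.isInvertible_letters hL hM) i
  refine ⟨K * (r : ℝ) * (6 * (r : ℝ)) ^ (n - 1), fun a b => ?_⟩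
  have h := hK (AsympCoh.zword L M fun j => a j - b j) (AsympCoh.zword L M b) (AsympCoh.mem_letters L M _)
    (AsympCoh.mem_letters L M b) _ _ (AsympCoh.isInvertible_ztwist hL hM a) (AsympCoh.isInvertible_ztwist hL hM b)
    (AsympCoh.prod_zword_append hL hM a b) (AsympCoh.prod_zword L M b)
  refine h.trans ?_
  set Mx : ℝ := max ‖(fun j => ((a j : ℤ) : ℝ))‖ ‖(fun j => ((b j : ℤ) : ℝ))‖
  set δ : ℝ := ‖(fun j => ((a j - b j : ℤ) : ℝ))‖
  have hδ0 : 0 ≤ δ := norm_nonneg _
  have hMx0 : 0 ≤ Mx := le_max_of_le_left (norm_nonneg _)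
  have hδ : δ ≤ 2 * Mx := by
    have : (fun j => ((a j - b j : ℤ) : ℝ)) = (fun j => ((a j : ℤ) : ℝ)) - fun j => ((b j : ℤ) : ℝ) := by
      funext j; simp
    simp only [δ, this]
    exact (norm_sub_le _ _).trans (by
      linarith [le_max_left ‖(fun j => ((a j : ℤ) : ℝ))‖ ‖(fun j => ((b j : ℤ) : ℝ))‖,
        le_max_right ‖(fun j => ((a j : ℤ) : ℝ))‖ ‖(fun j => ((b j : ℤ) : ℝ))‖])
  have hD := AsympCoh.length_zword_le L M fun j => a j - b j
  have hB := AsympCoh.length_zword_le L M b
  generalize (AsympCoh.zword L M fun j => a j - b j).length = D at hD ⊢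
  generalize (AsympCoh.zword L M b).length = B at hB ⊢
  cases n with
  | zero =>
    simp [AsympCoh.EE]
  | succ d =>
    rw [AsympCoh.EE, Nat.add_sub_cancel]
    push_cast
    have hB' : (B : ℝ) ≤ (r : ℝ) * Mx := hB.trans (mul_le_mul_of_nonneg_left (le_max_right _ _) (by positivity))
    have hbase : 2 * ((D : ℝ) + B) ≤ 6 * (r : ℝ) * Mx := by
      have : (D : ℝ) ≤ (r : ℝ) * (2 * Mx) := hD.trans (mul_le_mul_of_nonneg_left hδ (by positivity))
      linarith
    calc K * (D : ℝ) * (2 * ((D : ℝ) + B)) ^ d ≤ K * ((r : ℝ) * δ) * (6 * (r : ℝ) * Mx) ^ d :=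
          mul_le_mul (mul_le_mul_of_nonneg_left hD hK0) (pow_le_pow_left₀ (by positivity) hbase d)
            (by positivity) (by positivity)
      _ = K * (r : ℝ) * (6 * (r : ℝ)) ^ d * (Mx ^ (d + 1 - 1) * δ ^ 1) := by
        rw [pow_one, Nat.add_sub_cancel, mul_pow (6 * (r : ℝ))]; ring
      _ ≤ _ := by
        refine mul_le_mul_of_nonneg_left ?_ (by positivity)
        exact Finset.single_le_sum (f := fun q => Mx ^ (d + 1 - q) * δ ^ q) (fun q _ => by positivity)
          (Finset.mem_Icc.2 ⟨le_rfl, by omega⟩)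

end Groth.Agent.S17633
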