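import Groth.Statements.S17637
import Groth.Agent.AsympCoh.NTSect
import Groth.Agent.VeryAmple.Main
import Groth.Agent.VeryAmpleX.PnTensor
import Groth.Agent.AmpleVan.Uniform
-- import your own Groth.Agent.* helpers here

set_option autoImplicit false
universe u
open CategoryTheory CategoryTheory.Limits AlgebraicGeometry
open Variety

namespace Groth.Agent.S17637

/-- Let X be an integral scheme, proper over an algebraically closed field k of characteristic zero and
admitting an ample invertible module (the published statement is over the complex numbers). Then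
there is a very ample invertible O_X-module A — A ≅ i^*O(1) for an immersion i : X → P^N_k over k —
such that A ⊗ N is again very ample for every invertible O_X-module N which is numerically
equivalent to zero. (The published statement also provides one flat family over a quasi-projective
base whose fibres include every divisor of every |A ⊗ N|; that clause is not stated here.) -/
theorem result (k : Type u) [Field k] [IsAlgClosed k] [CharZero k] (X : Scheme.{u})
    [X.Over (Spec (CommRingCat.of k))] [AlgebraicGeometry.IsIntegral X]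
    [IsProper (X ↘ Spec (CommRingCat.of k))] (hproj : ∃ A : X.Modules, CohB1.IsAmple A) :
    ∃ A : X.Modules, PicF.IsInvertible A ∧
      RelAmple.IsRelVeryAmplePn (X ↘ Spec (CommRingCat.of k)) A ∧
      ∀ N : X.Modules, PicF.IsInvertible N → Pic13.IsNumEquivZero k X N →
        RelAmple.IsRelVeryAmplePn (X ↘ Spec (CommRingCat.of k)) (CohB1.tensorMod A N) := by
  obtain ⟨H, hH⟩ := hproj
  haveI := CurveCohLib.isNoetherian_of_proper (k := k) (X := X)
  haveI : CompactSpace X := QuasiCompact.compactSpace_of_compactSpace (X ↘ Spec (CommRingCat.of k))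
  obtain ⟨A, hA, j₀, hgg⟩ := Groth.Agent.AsympCoh.exists_uniform_generated (k := k) hH
  obtain ⟨n₀, hva⟩ := Groth.Agent.VeryAmple.eventually_veryAmplePn (f := X ↘ Spec (CommRingCat.of k)) hA
    (CurveDeg.isInvertible_structureModule (X := X))
  set j := max n₀ j₀
  have hP := InvX.isInvertible_tensorMod (InvX.isInvertible_tensorPow hA.1 j) (CurveDeg.isInvertible_structureModule (X := X))
  have key : ∀ Q : X.Modules, Groth.Agent.NumTau.NT k Q → RelAmple.IsRelVeryAmplePn (X ↘ Spec (CommRingCat.of k))
      (CohB1.tensorMod (CohB1.tensorMod (CohB1.tensorPow A j) (Coh.structureModule X))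
        (CohB1.tensorMod (CohB1.tensorPow A j) Q)) := by
    intro Q hQ
    have hL' := InvX.isInvertible_tensorMod (InvX.isInvertible_tensorPow hA.1 j) hQ.1
    choose s hs using fun x : X => S1664.GenSec.exists_mem_genLocus hL' (hgg j (le_max_right _ _) Q hQ) x
    obtain ⟨t, ht⟩ := isCompact_univ.elim_finite_subcover (fun x : X => ((CohB1.genLocus _ (s x) : X.Opens) : Set X))
      (fun x => (CohB1.genLocus _ (s x)).2) fun x _ => Set.mem_iUnion.2 ⟨x, hs x⟩
    refine Groth.Agent.VeryAmpleX.isRelVeryAmplePn_tensor_generated (hva j (le_max_left _ _) _ rfl) hP hL'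
      (fun a => InvX.one (s (t.equivFin.symm a))) (Groth.Agent.VeryAmple.generatedBy_of_locus _ fun y => ?_)
    obtain ⟨x, hx, hy⟩ := Set.mem_iUnion₂.1 (ht (Set.mem_univ y))
    refine ⟨t.equivFin ⟨x, hx⟩, ?_⟩
    show y ∈ CohB1.genLocus _ (InvX.ofSect _)
    rw [Groth.Agent.AmpleX.genLocus_eq_locus, InvX.one_ofSect, ← Groth.Agent.AmpleX.genLocus_eq_locus]
    simpa using hy
  have h1 := key _ Groth.Agent.NumTau.nt_one
  refine ⟨CohB1.tensorMod (CohB1.tensorMod (CohB1.tensorPow A j) (Coh.structureModule X))
    (CohB1.tensorMod (CohB1.tensorPow A j) (Coh.structureModule X)), InvX.isInvertible_tensorMod hP hP, h1, fun N hN hnum => ?_⟩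
  obtain ⟨n, i, hi, hif, ⟨e⟩⟩ := key N (Groth.Agent.NumTau.nt_of_numEquivZero hN hnum)
  obtain ⟨c⟩ := H23.PicMul.cl_eq_iff.1 (show PicF.cl (CohB1.tensorMod (CohB1.tensorMod
      (CohB1.tensorMod (CohB1.tensorPow A j) (Coh.structureModule X))
      (CohB1.tensorMod (CohB1.tensorPow A j) (Coh.structureModule X))) N) =
    PicF.cl (CohB1.tensorMod (CohB1.tensorMod (CohB1.tensorPow A j) (Coh.structureModule X))
      (CohB1.tensorMod (CohB1.tensorPow A j) N)) by
    letI := H23.PicMul.clMonoid X
    simp only [H23.PicMul.cl_tensor, ← H23.PicMul.one_def, _root_.mul_one, _root_.mul_assoc])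
  exact ⟨n, i, hi, hif, ⟨c ≪≫ e⟩⟩

end Groth.Agent.S17637
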