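import Groth.Statements.S17642
import Groth.Agent.H6PnSm.Basic
import Mathlib.AlgebraicGeometry.Morphisms.Immersion
import Mathlib.AlgebraicGeometry.Morphisms.FiniteType


set_option autoImplicit false
set_option backward.isDefEq.respectTransparency false
set_option backward.isDefEq.respectTransparency.types false
universe u
open CategoryTheory AlgebraicGeometry
open DerSch

namespace Groth.Agent.S17642

@[reducible] private def algZ (R : Type u) [CommRing R] : Algebra (ULift.{u} ℤ) R where
  algebraMap := (Int.castRingHom R).comp (RingEquiv.toRingHom (ULift.ringEquiv.{0, u} (R := ℤ)))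
  smul a x := a • x
  commutes' _ _ := mul_comm _ _
  smul_def' a x := zsmul_eq_mul x a.down

private theorem extZ {R : Type u} [CommRing R] (f g : ULift.{u} ℤ →+* R) : f = g :=
  RingHom.ext fun ⟨c⟩ => RingHom.congr_fun
    (RingHom.ext_int (f.comp (RingEquiv.toRingHom (ULift.ringEquiv.{0, u} (R := ℤ)).symm))
      (g.comp (RingEquiv.toRingHom (ULift.ringEquiv.{0, u} (R := ℤ)).symm))) c

/-- Consider Noetherian schemes X and Y together with a morphism f : X ⟶ Y that is locally of finite
type. Given affine open subsets U ⊆ X and V ⊆ Y such that f(U) ⊆ V, the restriction of f to U can be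
written as a composite U ⟶ W ⟶ P ⟶ Y in which the first map U ⟶ W is an open immersion, the middle
map W ⟶ P is a closed immersion, and the last map P ⟶ Y is both smooth and proper. In the published
section every morphism is taken to be separated as a standing convention; since the printed proof
never uses this, no separatedness hypothesis appears here. -/
theorem result {X Y : Scheme.{u}}
    [IsNoetherian X] [IsNoetherian Y] (f : X ⟶ Y) [LocallyOfFiniteType f]
    (U : X.Opens) (hU : IsAffineOpen U) (V : Y.Opens) (hV : IsAffineOpen V) (hUV : U ≤ f ⁻¹ᵁ V) :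
    ∃ (W P : Scheme.{u}) (g : (U : Scheme.{u}) ⟶ W) (h : W ⟶ P) (k : P ⟶ Y),
      IsOpenImmersion g ∧ IsClosedImmersion h ∧ Smooth k ∧ IsProper k ∧ g ≫ h ≫ k = U.ι ≫ f := by
  open Groth.Agent.H6PnSm TensorProduct Limits CategoryTheory.Limits in
  let R := Γ(Y, V)
  let B := Γ(X, U)
  have hfin : (f.appLE V U hUV).hom.FiniteType := Scheme.Hom.finiteType_appLE f hV hU hUV
  letI : Algebra R B := (f.appLE V U hUV).hom.toAlgebra
  haveI : Algebra.FiniteType R B := hfin
  obtain ⟨n, π, hπ⟩ := Algebra.FiniteType.iff_quotient_mvPolynomial''.1 ‹Algebra.FiniteType R B›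
  let Z := ULift.{u} ℤ
  letI : Algebra Z R := algZ R
  letI : Algebra Z B := algZ B
  haveI : IsScalarTower Z R B := ⟨fun a b c => smul_assoc a.down b c⟩
  let Aw := HomogeneousLocalization.Away (CohB1.polyGrading n Z) (MvPolynomial.X (0 : Fin (n + 1)))
  letI : Algebra Z Aw := algZ Aw
  let v : Fin (n + 1) → B := Fin.cons 1 fun j => π (MvPolynomial.X j)
  let χ : Aw →+* B := evalAt (k := Z) 0 v rfl
  let χ' : Aw →ₐ[Z] B := { χ with commutes' := fun c => RingHom.congr_fun (extZ (χ.comp (algebraMap Z Aw)) (algebraMap Z B)) c }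
  let m : Aw ⊗[Z] R →ₐ[Z] B := Algebra.TensorProduct.lift χ' (IsScalarTower.toAlgHom Z R B)
    fun _ _ => Commute.all _ _
  have hm : Function.Surjective m := by
    intro b
    obtain ⟨p, rfl⟩ := hπ b
    have hC : ∀ r : R, ∃ a, m a = π (MvPolynomial.C r) := fun r =>
      ⟨1 ⊗ₜ r, by
        rw [← MvPolynomial.algebraMap_eq, AlgHom.commutes]
        simp [m]⟩
    induction p using MvPolynomial.induction_on with
    | C r => exact hC r
    | add p q hp hq =>
      obtain ⟨a, ha⟩ := hp
      obtain ⟨c, hc⟩ := hq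
      exact ⟨a + c, by rw [map_add, map_add, ha, hc]⟩
    | mul_X p j hp =>
      obtain ⟨a, ha⟩ := hp
      refine ⟨a * (coord n Z 0 j.succ ⊗ₜ (1 : R)), ?_⟩
      rw [map_mul, map_mul, ha]
      congr 1
      have : χ (coord n Z 0 j.succ) = π (MvPolynomial.X j) :=
        (evalAt_coord (k := Z) 0 v rfl j.succ).trans (by simp [v])
      simpa [m, χ'] using this
  haveI : IsClosedImmersion (Spec.map (CommRingCat.ofHom m.toRingHom)) :=
    IsClosedImmersion.spec_of_surjective _ hm
  let q : Spec (CommRingCat.of B) ⟶ pullback (Spec.map (CommRingCat.ofHom (algebraMap Z Aw)))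
      (Spec.map (CommRingCat.ofHom (algebraMap Z R))) :=
    Spec.map (CommRingCat.ofHom m.toRingHom) ≫ (pullbackSpecIso Z Aw R).inv
  have hcomm : Spec.map (CommRingCat.ofHom (algebraMap Z Aw)) ≫ 𝟙 _ =
      chart n Z 0 ≫ CohB1.ProjSpace.toSpec n Z := specULiftZIsTerminal.hom_ext _ _
  let M : pullback (Spec.map (CommRingCat.ofHom (algebraMap Z Aw)))
      (Spec.map (CommRingCat.ofHom (algebraMap Z R))) ⟶ CohB1.ProjSpaceOver n Y :=
    pullback.map _ _ (CohB1.ProjSpace.toSpec n Z) (specULiftZIsTerminal.from Y)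
      (chart n Z 0) hV.fromSpec (𝟙 _)
      hcomm
      (specULiftZIsTerminal.hom_ext _ _)
  haveI : IsOpenImmersion M := MorphismProperty.pullbackMap (P := @IsOpenImmersion) inferInstance inferInstance
    hcomm (specULiftZIsTerminal.hom_ext _ _)
  let i : (U : Scheme.{u}) ⟶ CohB1.ProjSpaceOver n Y := hU.isoSpec.hom ≫ q ≫ M
  haveI : IsImmersion i := by
    dsimp only [i, q]
    infer_instance
  haveI : TopologicalSpace.NoetherianSpace (U : Scheme.{u}) :=
    inferInstanceAs (TopologicalSpace.NoetherianSpace (U : Set X))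
  haveI : QuasiCompact i := (quasiCompact_iff _).2 fun s _ _ => TopologicalSpace.NoetherianSpace.isCompact _
  have hk : Smooth (CohB1.ProjSpaceOver.toBase n Y) ∧ IsProper (CohB1.ProjSpaceOver.toBase n Y) := by
    haveI := smooth_toSpec n Z
    haveI := Groth.Agent.PnCoh.Chow.isProper_toSpec n Z
    exact ⟨MorphismProperty.pullback_snd (P := @Smooth) _ _ inferInstance,
      MorphismProperty.pullback_snd (P := @IsProper) _ _ inferInstance⟩
  refine ⟨i.image, CohB1.ProjSpaceOver n Y, i.toImage, i.imageι, CohB1.ProjSpaceOver.toBase n Y,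
    inferInstance, inferInstance, hk.1, hk.2, ?_⟩
  rw [Scheme.Hom.toImage_imageι_assoc]
  have hs : m.toRingHom.comp (Algebra.TensorProduct.includeRight : R →ₐ[Z] Aw ⊗[Z] R).toRingHom =
      (f.appLE V U hUV).hom := by
    ext r
    simp [m]
    rfl
  calc i ≫ CohB1.ProjSpaceOver.toBase n Y
      = hU.isoSpec.hom ≫ q ≫ pullback.snd _ _ ≫ hV.fromSpec := by
        simp only [i, M, CohB1.ProjSpaceOver.toBase, Category.assoc]
        erw [pullback.lift_snd]
    _ = hU.isoSpec.hom ≫ Spec.map (f.appLE V U hUV) ≫ hV.fromSpec := by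
        simp only [q, Category.assoc, pullbackSpecIso_inv_snd_assoc, ← Spec.map_comp_assoc,
          ← CommRingCat.ofHom_comp]
        erw [hs]
        rfl
    _ = U.ι ≫ f := by rw [IsAffineOpen.SpecMap_appLE_fromSpec _ hV hU, IsAffineOpen.isoSpec_hom_fromSpec_assoc]

end Groth.Agent.S17642
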