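import Groth.Statements.S17647
import Groth.Agent.QCoh.Qcqs
import Groth.Agent.Exactness.QCohCategory
import Groth.Agent.FComplLib.KrullSupp
-- import your own Groth.Agent.* helpers here

set_option autoImplicit false
universe u
open CategoryTheory CategoryTheory.Limits AlgebraicGeometry
open QCohCat

namespace Groth.Agent.S17647

open CategoryTheory CategoryTheory.Limits AlgebraicGeometry in
theorem support_subset_iff (X : Scheme.{u}) (U : X.Opens) (M : X.Modules) :
    CohB1.support M ⊆ (↑U : Set X)ᶜ ↔ IsZero ((Scheme.Modules.restrictFunctor U.ι).obj M) := by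
  refine ⟨fun h => FComplLib.isZero_restrict_of_subsingleton_stalk M U fun x hx =>
    not_not.1 fun hn => h hn hx, fun h x hx hxU => hx ?_⟩
  let y : (U : Scheme.{u}) := ⟨x, hxU⟩
  have h1 : IsZero ((Scheme.Modules.restrictFunctor U.ι ⋙ Scheme.Modules.toPresheaf (U : Scheme.{u}) ⋙
      TopCat.Presheaf.stalkFunctor Ab.{u} y).obj M) :=
    Functor.map_isZero (Scheme.Modules.toPresheaf (U : Scheme.{u}) ⋙ TopCat.Presheaf.stalkFunctor Ab.{u} y) h
  exact AddCommGrpCat.subsingleton_of_isZero (h1.of_iso ((Scheme.Modules.restrictStalkNatIso U.ι y).app M).symm)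

open CategoryTheory CategoryTheory.Limits AlgebraicGeometry in
theorem aux (X : Scheme.{u}) (U : X.Opens) [QuasiCompact U.ι] :
    (ObjectProperty.lift (QCohCat.isQCoh (↑U : Scheme.{u}))
      (ObjectProperty.ι (QCohCat.isQCoh X) ⋙ Scheme.Modules.restrictFunctor U.ι)
      (fun M => @Scheme.Modules.isQuasicoherent_restrictFunctor (↑U : Scheme.{u}) X U.ι inferInstance M.obj M.property)).IsLocalization
      (fun (A B : QCohCat.QCoh X) (f : A ⟶ B) =>
        CohB1.support (kernel f.hom) ⊆ (↑U : Set X)ᶜ ∧ CohB1.support (cokernel f.hom) ⊆ (↑U : Set X)ᶜ) := by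
  set G : QCohCat.QCoh X ⥤ QCohCat.QCoh (↑U : Scheme.{u}) := ObjectProperty.lift (QCohCat.isQCoh (↑U : Scheme.{u}))
      (ObjectProperty.ι (QCohCat.isQCoh X) ⋙ Scheme.Modules.restrictFunctor U.ι)
      (fun M => @Scheme.Modules.isQuasicoherent_restrictFunctor (↑U : Scheme.{u}) X U.ι inferInstance M.obj M.property)
    with hG
  let F : QCohCat.QCoh (↑U : Scheme.{u}) ⥤ QCohCat.QCoh X := (QCohCat.isQCoh X).lift
    ((QCohCat.isQCoh _).ι ⋙ Scheme.Modules.pushforward U.ι) fun M => QCoh.isQCoh_pushforward U.ι M.2
  let adj : G ⊣ F := (Scheme.Modules.restrictAdjunction U.ι).restrictFullyFaithful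
    (ObjectProperty.fullyFaithfulι _) (ObjectProperty.fullyFaithfulι _)
    ((QCohCat.isQCoh _).liftCompιIso _ _).symm ((QCohCat.isQCoh X).liftCompιIso _ _).symm
  have hF : F.FullyFaithful := Functor.FullyFaithful.ofCompFaithful (G := (QCohCat.isQCoh X).ι)
      (((ObjectProperty.fullyFaithfulι (QCohCat.isQCoh (↑U : Scheme.{u}))).comp
        (Scheme.Modules.restrictAdjunction U.ι).fullyFaithfulROfIsIsoCounit).ofIso
        ((QCohCat.isQCoh X).liftCompιIso _ _).symm)
  haveI := hF.full
  haveI := hF.faithful
  have hW : (fun (A B : QCohCat.QCoh X) (f : A ⟶ B) =>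
      CohB1.support (kernel f.hom) ⊆ (↑U : Set X)ᶜ ∧ CohB1.support (cokernel f.hom) ⊆ (↑U : Set X)ᶜ) =
      ((MorphismProperty.isomorphisms (QCohCat.QCoh (↑U : Scheme.{u}))).inverseImage G : MorphismProperty _) := by
    funext A B f
    apply propext
    change _ ↔ IsIso (G.map f)
    rw [support_subset_iff, support_subset_iff,
      ← isIso_iff_of_reflects_iso (G.map f) (QCohCat.isQCoh (↑U : Scheme.{u})).ι]
    change _ ↔ IsIso ((Scheme.Modules.restrictFunctor U.ι).map f.hom)
    constructor
    · rintro ⟨hk, hc⟩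
      haveI : Mono ((Scheme.Modules.restrictFunctor U.ι).map f.hom) := Preadditive.mono_of_isZero_kernel _
        (hk.of_iso (PreservesKernel.iso _ f.hom).symm)
      haveI : Epi ((Scheme.Modules.restrictFunctor U.ι).map f.hom) := Preadditive.epi_of_isZero_cokernel _
        (hc.of_iso (PreservesCokernel.iso _ f.hom).symm)
      exact isIso_of_mono_of_epi _
    · intro h
      exact ⟨(isZero_kernel_of_mono _).of_iso (PreservesKernel.iso _ f.hom),
        (isZero_cokernel_of_epi _).of_iso (PreservesCokernel.iso _ f.hom)⟩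
  rw [hW]
  exact adj.isLocalization

/-- Let X be a scheme and U ⊆ X an open subset whose inclusion U ⟶ X is quasi-compact, Z = X ∖ U. Then
the restriction functor QCoh(X) ⥤ QCoh(U) between the categories of quasi-coherent modules is a
localization functor for the class of morphisms of quasi-coherent O_X-modules whose kernel and
cokernel (computed in O_X-modules) have support contained in Z: the category QCoh(U) is the quotient
of QCoh(X) by the localizing subcategory of quasi-coherent modules supported in Z, the direct image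
along U ⟶ X being the fully faithful right adjoint. No hypothesis is made on X beyond the
quasi-compactness of U ⟶ X. -/
theorem result (X : Scheme.{u})
    (U : X.Opens) [QuasiCompact U.ι] :
    (ObjectProperty.lift (QCohCat.isQCoh (↑U : Scheme.{u}))
        (ObjectProperty.ι (QCohCat.isQCoh X) ⋙ Scheme.Modules.restrictFunctor U.ι)
        (fun M => @Scheme.Modules.isQuasicoherent_restrictFunctor (↑U : Scheme.{u}) X U.ι
          inferInstance M.obj M.property)).IsLocalization
      (fun (A B : QCohCat.QCoh X) (f : A ⟶ B) =>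
        CohB1.support (kernel f.hom) ⊆ (↑U : Set X)ᶜ ∧
          CohB1.support (cokernel f.hom) ⊆ (↑U : Set X)ᶜ) := by
    exact Groth.Agent.S17647.aux X U

end Groth.Agent.S17647
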