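import Groth.Statements.S17649
import Groth.Agent.QCoh.Qcqs
import Groth.Agent.QCoh.Tilde
-- import your own Groth.Agent.* helpers here

set_option autoImplicit false
set_option linter.style.haveILetI false
set_option backward.isDefEq.respectTransparency false
set_option backward.isDefEq.respectTransparency.types false
universe u
open CategoryTheory CategoryTheory.Limits AlgebraicGeometry
open QCohCat

namespace Groth.Agent.S17649

theorem subsingleton_of_isZero_restrict {X : Scheme.{u}} {F : X.Modules} {W : X.Opens}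
    (h : IsZero ((Scheme.Modules.restrictFunctor W.ι).obj F)) {O : X.Opens} (hle : O ≤ W) :
    Subsingleton Γ(F, O) := by
  have h1 : Subsingleton Γ((Scheme.Modules.restrictFunctor W.ι).obj F, W.ι ⁻¹ᵁ O) :=
    ⟨fun a b => by
      have := congrArg (fun φ => Scheme.Modules.Hom.app φ (W.ι ⁻¹ᵁ O) (a - b)) ((IsZero.iff_id_eq_zero _).1 h)
      simpa [sub_eq_zero] using this⟩
  have he : W.ι ''ᵁ (W.ι ⁻¹ᵁ O) = O := by
    rw [Scheme.Hom.image_preimage_eq_opensRange_inf, Scheme.Opens.opensRange_ι, inf_eq_right.2 hle]
  exact he ▸ h1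

/-- Suppose the scheme X is quasi-compact and quasi-separated, and take two quasi-compact opens U, V ⊆
X. Given a quasi-compact open W, denote by S_W the class of quasi-coherent O_X-modules that restrict
to zero on W. Then S_{U ∩ V} is the smallest localizing subcategory of Qcoh(X) that contains both
S_U and S_V; concretely (this is the inclusion that is not formal): any quasi-coherent O_X-module F
satisfying F|_{U ∩ V} = 0 arises as an extension of a quasi-coherent module that is zero on V by a
quasi-coherent submodule that is zero on U — one can find a monomorphism A ⟶ F where A is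
quasi-coherent, A|_U = 0 and (F/A)|_V = 0. -/
theorem result {X : Scheme.{u}}
    [CompactSpace X] [QuasiSeparatedSpace X] (U V : X.Opens) [QuasiCompact U.ι] [QuasiCompact V.ι]
    (F : X.Modules) (hF : Coh.IsQCoh F) (h : IsZero ((Scheme.Modules.restrictFunctor (U ⊓ V).ι).obj F)) :
    ∃ (A : X.Modules) (i : A ⟶ F), Mono i ∧ Coh.IsQCoh A ∧
      IsZero ((Scheme.Modules.restrictFunctor U.ι).obj A) ∧
      IsZero ((Scheme.Modules.restrictFunctor V.ι).obj (cokernel i)) := by
  let R := Scheme.Modules.restrictFunctor U.ι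
  let RV := Scheme.Modules.restrictFunctor V.ι
  let G := (Scheme.Modules.pushforward U.ι).obj (R.obj F)
  let η : F ⟶ G := (Scheme.Modules.restrictAdjunction U.ι).unit.app F
  have hG : Coh.IsQCoh G :=
    Groth.Agent.QCoh.isQCoh_pushforward _ (Groth.Agent.QCoh.isQCoh_restrict U.ι hF)
  haveI : IsIso (R.map η) := by
    haveI : IsIso ((Scheme.Modules.restrictAdjunction U.ι).counit.app (R.obj F)) := inferInstance
    haveI : IsIso (R.map η ≫ (Scheme.Modules.restrictAdjunction U.ι).counit.app (R.obj F)) := by
      erw [(Scheme.Modules.restrictAdjunction U.ι).left_triangle_components F]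
      exact IsIso.id _
    exact IsIso.of_isIso_comp_right (R.map η) ((Scheme.Modules.restrictAdjunction U.ι).counit.app (R.obj F))
  refine ⟨Limits.kernel η, Limits.kernel.ι η, inferInstance, Groth.Agent.QCoh.isQCoh_kernel hF hG η, ?_, ?_⟩
  · have h1 : R.map (Limits.kernel.ι η) ≫ R.map η = 0 := by
      rw [← Functor.map_comp, Limits.kernel.condition, Functor.map_zero]
    have h2 : R.map (Limits.kernel.ι η) = 0 := by
      rw [← cancel_mono (R.map η), h1, Limits.zero_comp]
    exact Limits.IsZero.of_mono_eq_zero _ h2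
  · have hz : Limits.IsZero (RV.obj G) := by
      rw [Limits.IsZero.iff_id_eq_zero]
      refine Scheme.Modules.hom_ext _ _ fun W => ?_
      ext s
      have hle : U.ι ''ᵁ (U.ι ⁻¹ᵁ (V.ι ''ᵁ W)) ≤ U ⊓ V := by
        rintro x ⟨y, hy, rfl⟩
        obtain ⟨w, -, hw⟩ := hy
        exact ⟨y.2, hw ▸ w.2⟩
      haveI : Subsingleton Γ(F, U.ι ''ᵁ (U.ι ⁻¹ᵁ (V.ι ''ᵁ W))) :=
        Groth.Agent.S17649.subsingleton_of_isZero_restrict h hle
      exact Subsingleton.elim (α := Γ(F, U.ι ''ᵁ (U.ι ⁻¹ᵁ (V.ι ''ᵁ W)))) _ _
    exact hz.of_mono (RV.map (Abelian.factorThruCoimage η))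

end Groth.Agent.S17649
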