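import Groth.Statements.S1765
import Groth.Agent.RGammaI.SuppModule
-- import your own Groth.Agent.* helpers here

set_option autoImplicit false
universe u
open CategoryTheory
attribute [local instance] HasDerivedCategory.standard
open LocCoh

namespace Groth.Agent.S1765

/-- Let A be a Noetherian ring with a dualizing complex, I an ideal, M a finite A-module, p a prime not
containing I and s ≥ 0. Suppose that for all primes p' ⊆ p and all primes q ⊇ I with p' ⊆ q,
depth(M_{p'}) plus the Krull dimension of the interval of primes [p', q] exceeds s. Then there is f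
∉ p annihilating H^i_I(M) for all i ≤ s. -/
theorem result (A : Type u) [CommRing A] [IsNoetherianRing A] (hA : ∃ ω : Dual.D A, Dual.IsDualizing A ω) (I : Ideal A) (M : Type u) [AddCommGroup M] [Module A M] [Module.Finite A M] (p : PrimeSpectrum A) (hp : ¬ I ≤ p.asIdeal) (s : ℕ) (h : ∀ p' q : PrimeSpectrum A, p' ≤ p → I ≤ q.asIdeal → p' ≤ q → (s : WithBot ℕ∞) < ((LocCoh.depth (Localization.AtPrime p'.asIdeal) (LocalizedModule p'.asIdeal.primeCompl M) : ℕ∞) : WithBot ℕ∞) + Order.krullDim (Set.Icc p' q)) : ∃ f : A, f ∉ p.asIdeal ∧ ∀ i : ℕ, i ≤ s → ∀ x : LocCoh.H I i M, f • x = 0 := by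
  obtain ⟨ω, hω⟩ := hA
  let T : Set (PrimeSpectrum A) := PrimeSpectrum.zeroLocus (I : Set A)
  let T' : Set (PrimeSpectrum A) := {P | ¬ P ≤ p}
  have hT : StableUnderSpecialization T := fun x y hxy hx =>
    Set.Subset.trans hx ((PrimeSpectrum.le_iff_specializes x y).2 hxy)
  have hT' : StableUnderSpecialization T' := fun x y hxy hx hy =>
    hx (((PrimeSpectrum.le_iff_specializes x y).2 hxy).trans hy)
  obtain ⟨J, hJ, hk⟩ := (RGammaI.SuppModule.exists_kills_iff_depth M hω hT hT' s).2
    fun p' q hp' hq hle => h p' q (not_not.1 hp') hq hle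
  obtain ⟨J', hJ', hk'⟩ : ∃ J' : Ideal A, PrimeSpectrum.zeroLocus (J' : Set A) ⊆ T' ∧
      RGammaI.SuppDual.Kills T J' (s : ℤ) (Dual.inD A M) :=
    RGammaI.SuppHDT.exKills_of_killsH hT hJ _ 0 hk
  obtain ⟨f, hfJ, hfp⟩ := SetLike.not_le_iff_exists.1 (fun hle : J' ≤ p.asIdeal => hJ' (show p ∈ PrimeSpectrum.zeroLocus (J' : Set A) from hle) le_rfl)
  exact ⟨f, hfp, fun i hi x => RGammaI.SuppModule.H_smul_eq_zero_of_kills M I Set.Subset.rfl hk' i hi f hfJ x⟩


end Groth.Agent.S1765
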