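import Groth.Statements.S17653
import Groth.Agent.FibDim.StalkIneq
import Groth.Agent.DimFormula.Jacobson
-- import your own Groth.Agent.* helpers here

set_option autoImplicit false
universe u
open CategoryTheory CategoryTheory.Limits AlgebraicGeometry TopologicalSpace
open Variety

namespace Groth.Agent.S17653

/-- Suppose X and Y are locally Noetherian schemes of the same pure dimension d (every irreducible
component of X and every irreducible component of Y has topological Krull dimension d), and π : X →
Y is a proper morphism between them. If there is a point x of X which is isolated in its fibre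
π⁻¹(π(x)), i.e. some open neighbourhood of x meets that fibre only in x, then the image of π, with
the subspace topology, has the same dimension as Y. -/
theorem result
    (X Y : Scheme.{u}) [IsLocallyNoetherian X] [IsLocallyNoetherian Y] (π : X ⟶ Y) [IsProper π]
    (d : WithBot ℕ∞) (hX : ∀ Z ∈ irreducibleComponents ↥X, topologicalKrullDim ↥Z = d)
    (hY : ∀ Z ∈ irreducibleComponents ↥Y, topologicalKrullDim ↥Z = d)
    (x : ↥X) (hx : ∃ U : X.Opens, x ∈ U ∧ ∀ x' ∈ U, π x' = π x → x' = x) :
    topologicalKrullDim ↥(Set.range (fun z : ↥X => π z)) = topologicalKrullDim ↥Y := by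
  classical
  have hTc : IsClosed (Set.range (fun z : ↥X => π z)) := π.isClosedMap.isClosed_range
  let T : Set ↥Y := Set.range (fun z : ↥X => π z)
  refine le_antisymm (Topology.IsInducing.topologicalKrullDim_le hTc.isClosedEmbedding_subtypeVal.isInducing) ?_
  obtain ⟨η, hη, hmax, hZ⟩ := Groth.Agent.FibDim.exists_maximal x
  haveI : Nonempty ↥Y := ⟨π x⟩
  have hYd : topologicalKrullDim ↥Y ≤ d := by
    haveI : QuasiSober ↥Y := inferInstance
    rw [Groth.Agent.FibDim.topologicalKrullDim_eq_iSup_codim]
    refine iSup_le fun y => ?_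
    obtain ⟨ζ, hζ, hζmax, hcd⟩ := Groth.Agent.DimFormula.exists_maximal_cd_eq_codim y
    obtain ⟨l, hl0, hl1, hl⟩ := Groth.Agent.DimFormula.exists_cd_series hζ
    have hC := Groth.Agent.FDescent.closure_mem_irreducibleComponents (X := ↥Y) hζmax
    rw [← hY _ hC]
    haveI : QuasiSober ↥(closure ({ζ} : Set ↥Y)) :=
      isClosed_closure.isClosedEmbedding_subtypeVal.quasiSober
    rw [Groth.Agent.DimFormula.topologicalKrullDim_subset, ← hcd, ← hl]
    have hmem : ∀ i, l i ∈ closure ({ζ} : Set ↥Y) := fun i =>
      specializes_iff_mem_closure.1 (hl1.trans (LTSeries.monotone l (Fin.le_last i)))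
    refine le_trans ?_ (Order.LTSeries.length_le_krullDim
      (LTSeries.mk l.length (fun i => (⟨l i, hmem i⟩ : ↥(closure ({ζ} : Set ↥Y)))) fun i j hij => l.strictMono hij))
    exact le_rfl
  refine hYd.trans ?_
  rw [← hX _ hZ]
  haveI : QuasiSober ↥(closure ({η} : Set ↥X)) :=
    isClosed_closure.isClosedEmbedding_subtypeVal.quasiSober
  haveI : QuasiSober ↥(Set.range (fun z : ↥X => π z)) := hTc.isClosedEmbedding_subtypeVal.quasiSober
  rw [Groth.Agent.DimFormula.topologicalKrullDim_subset, Groth.Agent.DimFormula.topologicalKrullDim_subset]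
  have hrd : Groth.Agent.FibDim.rd π η = 0 := by
    obtain ⟨U, hxU, hU⟩ := hx
    obtain ⟨z, hzx, hfz, -, he⟩ := Groth.Agent.FibDim.exists_fibMax_generization π x
    have hzeq : z = x := hU z (hzx.mem_open U.isOpen hxU) hfz
    subst hzeq
    have hopen : IsOpen ({π.asFiber z} : Set ↥(π.fiber (π z))) := by
      have : ({π.asFiber z} : Set ↥(π.fiber (π z))) = (π.fiberι (π z)) ⁻¹' (U : Set ↥X) := by
        ext w
        constructor
        · rintro rfl
          show π.fiberι (π z) (π.asFiber z) ∈ (U : Set ↥X)
          rw [Scheme.Hom.fiberι_asFiber]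
          exact hxU
        · intro hw
          refine (π.fiberι (π z)).isEmbedding.injective ?_
          rw [Scheme.Hom.fiberι_asFiber]
          exact hU _ hw (Groth.Agent.FibDim.fiber_apply_fiberι π w)
      rw [this]
      exact U.isOpen.preimage (π.fiberι (π z)).continuous
    have hclosed : IsClosed ({π.asFiber z} : Set ↥(π.fiber (π z))) :=
      (Scheme.Hom.QuasiFiniteAt.isClopen_singleton_asFiber (f := π)
        (Scheme.Hom.quasiFiniteAt_iff_isOpen_singleton_asFiber.mpr hopen)).1
    have h0 : closure ({z} : Set ↥X) ∩ π ⁻¹' {π z} = {z} := by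
      ext w
      constructor
      · rintro ⟨hw1, hw2⟩
        obtain ⟨v, rfl⟩ : w ∈ Set.range (π.fiberι (π z)) := by
          rw [Scheme.Hom.range_fiberι]; exact hw2
        have hsp : π.asFiber z ⤳ v := by
          rw [← (π.fiberι (π z)).isEmbedding.isInducing.specializes_iff, Scheme.Hom.fiberι_asFiber]
          exact specializes_iff_mem_closure.2 hw1
        have hv : v = π.asFiber z := by
          have := specializes_iff_mem_closure.1 hsp
          rwa [hclosed.closure_eq] at this
        rw [hv, Scheme.Hom.fiberι_asFiber]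
        rfl
      · rintro rfl
        exact ⟨subset_closure rfl, rfl⟩
    have h1 := Groth.Agent.FibDim.dim_closure_inter_fibre π z
    rw [h0] at h1
    have h2 : topologicalKrullDim ↥({z} : Set ↥X) ≤ 0 := by
      haveI : Subsingleton ↥({z} : Set ↥X) := Set.subsingleton_singleton.coe_sort
      haveI : QuasiSober ↥({z} : Set ↥X) := inferInstance
      rw [Groth.Agent.DimFormula.topologicalKrullDim_subset]
      exact Order.krullDim_nonpos_of_subsingleton
    rw [h1] at h2
    have h3 : Groth.Agent.FibDim.rd π z = 0 := by
      have : Groth.Agent.FibDim.rd π z ≤ 0 := by exact_mod_cast h2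
      omega
    have h4 := Groth.Agent.FibDim.fibreDimAt_ge_rd π hη
    rw [he, h3] at h4
    have : Groth.Agent.FibDim.rd π η ≤ 0 := by exact_mod_cast h4
    omega
  haveI : IsLocallyNoetherian X := inferInstance
  refine iSup_le fun l => ?_
  have hη0 : η ⤳ (l.head : ↥X) := specializes_iff_mem_closure.2 l.head.2
  have h1 := Groth.Agent.DimFormula.le_cd hη0
    (l.map Subtype.val fun _ _ h => h) rfl (specializes_iff_mem_closure.2 l.last.2)
  have h2 := (Groth.Agent.DimFormula.cd_formula π hη0).1
  rw [hrd] at h2
  obtain ⟨m, hm0, hm1, hm⟩ := Groth.Agent.DimFormula.exists_cd_series (hη0.map π.continuous)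
  have hmem : ∀ i, m i ∈ Set.range (fun z : ↥X => π z) := fun i =>
    (hm1.trans (LTSeries.monotone m (Fin.le_last i))).mem_closed hTc ⟨η, rfl⟩
  refine le_trans ?_ (Order.LTSeries.length_le_krullDim
    (LTSeries.mk m.length (fun i => (⟨m i, hmem i⟩ : ↥(Set.range (fun z : ↥X => π z)))) fun i j hij => m.strictMono hij))
  have : l.length ≤ m.length := by
    have h1' : l.length ≤ Groth.Agent.DimFormula.cd η (l.head : ↥X) := h1
    omega
  show (l.length : WithBot ℕ∞) ≤ (m.length : WithBot ℕ∞)
  exact_mod_cast this

end Groth.Agent.S17653
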