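import Groth.Statements.S17657
import Groth.Agent.DefAmple.Core
import Groth.Agent.SurfRR.Connected

set_option autoImplicit false
universe u
open CategoryTheory CategoryTheory.Limits AlgebraicGeometry TopologicalSpace
attribute [local instance] HasDerivedCategory.standard
open Curves

namespace Groth.Agent.S17657

/-- Let k be an algebraically closed field and B a connected scheme, proper over k, of dimension one,
with at-worst-nodal singularities and H^1(B, O_B) = 0, and let ω_B be its dualizing module over k
(the cohomology sheaf in degree −1 of the upper-shriek pull-back of O_{Spec k}; the existence of the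
upper-shriek functor is assumed). Call a finite locally free O_B-module deformation ample when it is
generated by global sections and H^1(B, E ⊗ ω_B) = 0. If E is a deformation ample finite locally
free O_B-module then every tensor power E^{⊗ n} with n ≥ 1 is deformation ample. (The source states
this for a family of prestable genus-zero curves over an arbitrary base T, with relative global
generation and R^1 of the direct image in place of global generation and H^1; this is the case T =
Spec k of a field base, the general case needing relative duality not available here. The source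
also assumes the sheaves nonzero (positive rank), which the conclusion does not need.) -/
theorem result (k : Type u) [Field k] [IsAlgClosed k]
    (B : Scheme.{u}) [B.Over (Spec (CommRingCat.of k))] [IsProper (B ↘ Spec (CommRingCat.of k))]
    [ConnectedSpace ↥B] (hdim : topologicalKrullDim ↥B = 1) (hnod : Curv2.AtWorstNodal k B)
    (hg : Subsingleton (Coh.HH B (Coh.structureModule B) 1))
    [DCoh.HasRpush (B ↘ Spec (CommRingCat.of k))] (h : DCoh.RpushPreservesQCoh (B ↘ Spec (CommRingCat.of k))) [DCoh.HasShriek (B ↘ Spec (CommRingCat.of k)) h]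
    (OY : DCoh.DQCoh (Spec (CommRingCat.of k))) (hOY : Nonempty (OY.obj ≅ DCoh.inD (Spec (CommRingCat.of k)) (Coh.structureModule (Spec (CommRingCat.of k)))))
    (E : B.Modules) (hE : FlatMod.IsFinLocFree E) (h₁ : (Curv2.IsGloballyGenerated E ∧ Subsingleton (Coh.HH B (CohB1.tensorMod E (DCoh.dualizingMod (B ↘ Spec (CommRingCat.of k)) h OY 1)) 1))) (n : ℕ) (hn : 1 ≤ n) :
    (Curv2.IsGloballyGenerated (CohB1.tensorPow E n) ∧ Subsingleton (Coh.HH B (CohB1.tensorMod (CohB1.tensorPow E n) (DCoh.dualizingMod (B ↘ Spec (CommRingCat.of k)) h OY 1)) 1)) := by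
  haveI := Groth.Agent.CurveCohLib.isNoetherian_of_proper (k := k) (X := B)
  haveI := Groth.Agent.CanonDual.isReduced_of_nodal k hdim.le hnod
  obtain ⟨tr, hω⟩ := Groth.Agent.CanonDual.exists_isRDualOver_dualizingMod h OY hOY (d := 1)
    (fun M hM q hq => Groth.Agent.CanonDual.subsingleton_HH_curve k hdim.le hM hq)
  have hωi := Groth.Agent.CanonDual.isInvertible_dualizing_nodal hdim (Groth.Agent.SurfRR.finrank_h0_reduced k) hnod hω
  have hω1 := Groth.Agent.InvEnd.isFinLocFreeOfRank_one hωi
  have hωf : FlatMod.IsFinLocFree (DCoh.dualizingMod (B ↘ Spec (CommRingCat.of k)) h OY 1) :=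
    fun y => let ⟨W, hy, he⟩ := hω1 y; ⟨W, 1, hy, he⟩
  let F := DCoh.tensorBi.obj (DCoh.dualizingMod (B ↘ Spec (CommRingCat.of k)) h OY 1)
  have hcomm : ∀ M : B.Modules, Subsingleton (Coh.HH B (CohB1.tensorMod M (DCoh.dualizingMod (B ↘ Spec (CommRingCat.of k)) h OY 1)) 1) ↔
      Subsingleton (Coh.HH B (F.obj M) 1) := fun M =>
    (Groth.Agent.CurveCohLib.hhEquiv (k := k) (Groth.Agent.CurveTensor.commIso M (DCoh.dualizingMod (B ↘ Spec (CommRingCat.of k)) h OY 1) :
      CohB1.tensorMod M (DCoh.dualizingMod (B ↘ Spec (CommRingCat.of k)) h OY 1) ≅ F.obj M) 1).toEquiv.subsingleton_congr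
  obtain ⟨hgg, hH⟩ := h₁
  obtain ⟨n, rfl⟩ := Nat.exists_eq_add_of_le' hn
  refine ⟨Groth.Agent.DefAmple.isGloballyGenerated_tensorPow k hE hgg (n + 1), ?_⟩
  have key := Groth.Agent.CurveReg.subsingleton_h1_twist_gg k hdim.le (G := CohB1.tensorMod E (DCoh.dualizingMod (B ↘ Spec (CommRingCat.of k)) h OY 1))
    (E := CohB1.tensorPow E n)
    (Groth.Agent.KFlatLib.isQCoh_tensor (Groth.Agent.CurveDeg.isCoh_of_isFinLocFree hE).1 (Groth.Agent.ProjUPX.isQCoh_of_isInvertible hωi))
    (Groth.Agent.DefAmple.isCoh_tensorPow k hE n) (Groth.Agent.DefAmple.isGloballyGenerated_tensorPow k hE hgg n) hH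
  obtain ⟨a⟩ := Groth.Agent.H23.PicMul.assoc (CohB1.tensorPow E n) E (DCoh.dualizingMod (B ↘ Spec (CommRingCat.of k)) h OY 1)
  obtain ⟨c⟩ := Groth.Agent.H23.PicMul.comm (CohB1.tensorMod E (DCoh.dualizingMod (B ↘ Spec (CommRingCat.of k)) h OY 1)) (CohB1.tensorPow E n)
  exact Groth.Agent.QCoh.subsingleton_HH_of_iso (c ≪≫ a.symm) 1 key

end Groth.Agent.S17657
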