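import Groth.Statements.S17690
import Groth.Agent.S17703
import Groth.Agent.CompleteNagata.Unramified
import Groth.Agent.GeomField.Algebra
import Mathlib
-- import your own Groth.Agent.* helpers here

set_option autoImplicit false
universe u
open Neron

set_option backward.isDefEq.respectTransparency false
open scoped TensorProduct
attribute [-instance] IsDomain.of_isSimpleRing

namespace Groth.Agent.S17690

/-- Let R be an excellent discrete valuation ring (Noetherian, universally catenary, G-ring, J-2) with
fraction field K, and let L be a finite purely inseparable field extension of K. Then the integral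
closure S of R in L is a discrete valuation ring, and S is a finite R-module. -/
theorem result
    (R K L : Type u) [CommRing R] [IsDomain R] [IsDiscreteValuationRing R] (hR : EGA4.IsExcellent R)
    [Field K] [Algebra R K] [IsFractionRing R K] [Field L] [Algebra K L] [FiniteDimensional K L]
    [IsPurelyInseparable K L] [Algebra R L] [IsScalarTower R K L] :
    IsDiscreteValuationRing ↥(integralClosure R L) ∧ Module.Finite R ↥(integralClosure R L) := by
  classical
  haveI : IsNoetherianRing R := inferInstance
  let b := Module.finBasis K L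
  obtain ⟨y, hy0, hy⟩ := exists_integral_multiples R K (Finset.univ.image b)
  let B := Algebra.adjoin R (Set.range fun i => y • b i)
  haveI : Module.Finite R B := Module.Finite.iff_fg.2 (fg_adjoin_of_finite (Set.finite_range _) (by
    rintro _ ⟨i, rfl⟩
    exact hy _ (Finset.mem_image_of_mem _ (Finset.mem_univ i))))
  have hinjR : Function.Injective (algebraMap R L) := by
    rw [IsScalarTower.algebraMap_eq R K L]
    exact (algebraMap K L).injective.comp (IsFractionRing.injective R K)
  haveI : IsFractionRing B L := by
    refine IsFractionRing.of_field B L fun z => ?_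
    obtain ⟨r, hr⟩ := IsLocalization.exist_integer_multiples (nonZeroDivisors R) Finset.univ (fun i => b.repr z i)
    choose a ha using fun i => hr i (Finset.mem_univ i)
    have hmem : (∑ i, a i • (y • b i)) ∈ B := sum_mem fun i _ =>
      B.smul_mem (Algebra.subset_adjoin (Set.mem_range_self (f := fun i => y • b i) i)) (a i)
    refine ⟨⟨_, hmem⟩, algebraMap R B ((r : R) * y), ?_⟩
    have hne : algebraMap R L ((r : R) * y) ≠ 0 := fun h => by
      rcases mul_eq_zero.1 (hinjR (h.trans (map_zero _).symm)) with h | h
      · exact nonZeroDivisors.ne_zero r.2 h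
      · exact hy0 h
    have hsum : (∑ i, a i • (y • b i)) = algebraMap R L ((r : R) * y) * z := by
      conv_rhs => rw [← b.sum_repr z, Finset.mul_sum]
      refine Finset.sum_congr rfl fun i _ => ?_
      rw [Algebra.smul_def, Algebra.smul_def, Algebra.smul_def (b.repr z i) (b i),
        IsScalarTower.algebraMap_apply R K L (a i), ha i, Algebra.smul_def, map_mul, map_mul,
        ← IsScalarTower.algebraMap_apply R K L]
      ring
    show z = (∑ i, a i • (y • b i)) / algebraMap R L ((r : R) * y)
    rw [hsum, mul_div_cancel_left₀ _ hne]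
  have hgr := (Groth.Agent.S17703.result R).1 hR
  haveI := hgr
  let κ := (⊥ : Ideal R).ResidueField
  let ψ : κ →ₐ[R] L := Ideal.ResidueField.liftₐ ⊥ (Algebra.ofId R L) bot_le fun r hr => by
    show IsUnit (algebraMap R L r)
    exact isUnit_iff_ne_zero.2 fun h => hr (Ideal.mem_bot.2 (hinjR (h.trans (map_zero _).symm)))
  letI : Algebra κ L := ψ.toRingHom.toAlgebra
  haveI : IsScalarTower R κ L := IsScalarTower.of_algebraMap_eq fun r => (ψ.commutes r).symm
  haveI hredL : IsReduced (EGA4.Cpl R ⊗[R] L) := by
    haveI := Groth.Agent.GeomField.isReduced_tensor_field (k := κ) (A := EGA4.formalFibre R (⊥ : Ideal R)) L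
    let e1 : L ⊗[κ] (κ ⊗[R] EGA4.Cpl R) ≃+* L ⊗[R] EGA4.Cpl R :=
      (Algebra.TensorProduct.cancelBaseChange R κ L L (EGA4.Cpl R)).toRingEquiv
    let e2 : (κ ⊗[R] EGA4.Cpl R) ⊗[κ] L ≃+* L ⊗[κ] (κ ⊗[R] EGA4.Cpl R) :=
      (Algebra.TensorProduct.comm κ (κ ⊗[R] EGA4.Cpl R) L).toRingEquiv
    let e3 : L ⊗[R] EGA4.Cpl R ≃+* EGA4.Cpl R ⊗[R] L := (Algebra.TensorProduct.comm R L (EGA4.Cpl R)).toRingEquiv
    exact isReduced_of_injective ((e2.trans e1).trans e3).symm ((e2.trans e1).trans e3).symm.injective
  have hred : IsReduced (EGA4.Cpl R ⊗[R] B) := by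
    haveI := Groth.Agent.FlatLoc6.faithfullyFlat_cpl R
    exact isReduced_of_injective (Algebra.TensorProduct.map (AlgHom.id R (EGA4.Cpl R)) B.val)
      (Module.Flat.lTensor_preserves_injective_linearMap (M := EGA4.Cpl R) B.val.toLinearMap Subtype.val_injective)
  haveI hfin : Module.Finite R ↥(integralClosure R L) :=
    Groth.Agent.CompleteNagata.finite_integralClosure_of_reduced_tensor R B L (nonZeroDivisors B) le_rfl hred
  refine ⟨?_, hfin⟩
  haveI : IsNoetherianRing ↥(integralClosure R L) := IsNoetherianRing.of_finite R _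
  haveI : IsIntegrallyClosed ↥(integralClosure R L) := integralClosure.isIntegrallyClosedOfFiniteExtension K
  haveI : Ring.DimensionLEOne ↥(integralClosure R L) := Ring.DimensionLEOne.integralClosure R L
  haveI : IsDedekindDomain ↥(integralClosure R L) := {}
  let q := ringExpChar K
  have hinsep : ∀ x : ↥(integralClosure R L), ∃ (m : ℕ), 0 < m ∧ ∃ r : R, x ^ m = algebraMap R _ r := by
    intro x
    obtain ⟨n, c, hc⟩ := IsPurelyInseparable.pow_mem K q (x : L)
    have hint : IsIntegral R c := by
      rw [← isIntegral_algebraMap_iff (algebraMap K L).injective, hc]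
      exact x.2.pow _
    obtain ⟨r, rfl⟩ := IsIntegrallyClosed.isIntegral_iff.1 hint
    refine ⟨q ^ n, Nat.pow_pos (expChar_pos K q), r, Subtype.ext ?_⟩
    show (x : L) ^ q ^ n = algebraMap R L r
    rw [← hc, ← IsScalarTower.algebraMap_apply]
  haveI : IsLocalRing ↥(integralClosure R L) := by
    apply IsLocalRing.of_unique_max_ideal
    obtain ⟨M, hM⟩ := Ideal.exists_maximal ↥(integralClosure R L)
    refine ⟨M, hM, fun M' hM' => ?_⟩
    have key : ∀ N : Ideal ↥(integralClosure R L), N.IsMaximal → ∀ x, x ∈ N ↔
        ∀ (m : ℕ) (r : R), 0 < m → x ^ m = algebraMap R _ r → r ∈ IsLocalRing.maximalIdeal R := by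
      intro N hN x
      haveI := hN
      have hcom : N.comap (algebraMap R ↥(integralClosure R L)) = IsLocalRing.maximalIdeal R :=
        IsLocalRing.eq_maximalIdeal (Ideal.isMaximal_comap_of_isIntegral_of_isMaximal N)
      refine ⟨fun hx m r hm he => ?_, fun h => ?_⟩
      · rw [← hcom]
        show algebraMap R _ r ∈ N
        rw [← he]
        exact N.pow_mem_of_mem hx m hm
      · obtain ⟨m, hm, r, he⟩ := hinsep x
        refine hN.isPrime.mem_of_pow_mem m ?_
        rw [he]
        exact (hcom.symm ▸ h m r hm he : r ∈ N.comap (algebraMap R ↥(integralClosure R L)))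
    exact Ideal.ext fun x => (key M' hM' x).trans (key M hM x).symm
  haveI : IsPrincipalIdealRing ↥(integralClosure R L) :=
    IsPrincipalIdealRing.of_finite_maximals <| by
      refine (Set.finite_singleton (IsLocalRing.maximalIdeal _)).subset ?_
      intro I hI
      exact IsLocalRing.eq_maximalIdeal hI
  refine { not_a_field' := fun h => ?_ }
  obtain ⟨ϖ, hϖ⟩ := IsDiscreteValuationRing.exists_irreducible R
  have hloc : algebraMap R ↥(integralClosure R L) ϖ ∈ IsLocalRing.maximalIdeal _ := by
    have hc := IsLocalRing.eq_maximalIdeal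
      (Ideal.isMaximal_comap_of_isIntegral_of_isMaximal (R := R) (IsLocalRing.maximalIdeal ↥(integralClosure R L)))
    show ϖ ∈ (IsLocalRing.maximalIdeal ↥(integralClosure R L)).comap (algebraMap R _)
    rw [hc, hϖ.maximalIdeal_eq]
    exact Ideal.mem_span_singleton_self _
  rw [h, Ideal.mem_bot] at hloc
  exact hϖ.ne_zero (hinjR ((congrArg Subtype.val hloc).trans (map_zero _).symm))


end Groth.Agent.S17690
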