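import Groth.Statements.S17694
import Groth.Agent.S19289
import Groth.Agent.S7785
import Groth.Agent.Deform.SplitQuot
import Groth.Agent.Deform.TorusAlg
import Groth.Agent.Deform.Luna.SolvLocus
import Groth.Agent.GrpSchLib.IsogenyFibre

set_option autoImplicit false
universe u
open CategoryTheory CategoryTheory.Limits AlgebraicGeometry MonObj
open WeilRes

namespace Groth.Agent.S17694
attribute [local instance] CategoryTheory.Hom.monoid CategoryTheory.Hom.group
set_option linter.style.haveILetI false
set_option maxHeartbeats 1000000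
open Groth.Agent CategoryTheory CategoryTheory.Limits MonoidalCategory CartesianMonoidalCategory AlgebraicGeometry
open Groth.Agent.Deform.Luna.SolvLocus (ptsEquiv)

/-- Let κ be a field, B a finite κ-algebra and E an abelian scheme over B, that is a proper smooth
B-group scheme whose geometric fibres are connected. Let R be a κ-group scheme which, with the
homomorphism q : R ×_κ Spec B → E, is the Weil restriction of E along Spec B → Spec κ. Then the
maximal torus of R is trivial; precisely, as the proof establishes, for every algebraically closed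
field Ω over κ every homomorphism of Ω-group schemes from the multiplicative group over Ω to the
base change of R to Ω is trivial. -/
theorem result
    (κ B : Type u) [Field κ] [CommRing B] [Algebra κ B] [Module.Finite κ B]
    (E : Over (Spec (CommRingCat.of B))) [GrpObj E] [IsProper E.hom] [Smooth E.hom]
    (hEc : ∀ (Ω' : Type u) [Field Ω'] (t : Spec (CommRingCat.of Ω') ⟶ Spec (CommRingCat.of B)),
      ConnectedSpace ↥(pullback E.hom t))
    (R : Over (Spec (CommRingCat.of κ))) [GrpObj R]
    (q : Red.bc (Spec.map (CommRingCat.ofHom (algebraMap κ B))) R ⟶ E) [IsMonHom q]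
    (hR : WeilRes.IsWeilRes (Spec.map (CommRingCat.ofHom (algebraMap κ B))) E R q)
    (Ω : Type u) [Field Ω] [IsAlgClosed Ω] [Algebra κ Ω]
    (φ : Red.Gm (Spec (CommRingCat.of Ω)) ⟶ Red.bc (Spec.map (CommRingCat.ofHom (algebraMap κ Ω))) R)
    [IsMonHom φ] :
    φ = 1 := by
  let τ : Spec (CommRingCat.of Ω) ⟶ Spec (CommRingCat.of κ) := Spec.map (CommRingCat.ofHom (algebraMap κ Ω))
  let β : Spec (CommRingCat.of B) ⟶ Spec (CommRingCat.of κ) := Spec.map (CommRingCat.ofHom (algebraMap κ B))
  let p₁ := pullback.fst τ β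
  let p₂ := pullback.snd τ β
  let T : Over (pullback τ β) := Red.bc p₁ (Red.Gm (Spec (CommRingCat.of Ω)))
  let A : Over (pullback τ β) := Red.bc p₂ E
  haveI : Smooth A.hom := inferInstanceAs (Smooth (pullback.snd E.hom p₂))
  haveI : IsProper A.hom := inferInstanceAs (IsProper (pullback.snd E.hom p₂))
  haveI : GeometricallyReduced A.hom := GrpSchLib.IsogenyFibre.geometricallyReduced_of_smooth' A.hom
  haveI : GeometricallyConnected A.hom := ⟨geometrically_iff_of_isClosedUnderIsomorphisms.mpr fun K _ y => by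
    haveI := hEc K (y ≫ p₂)
    let e := pullbackLeftPullbackSndIso E.hom p₂ y
    exact e.inv.homeomorph.surjective.connectedSpace e.inv.homeomorph.continuous⟩
  haveI : IsCommMonObj A := Groth.Agent.S7785.result A
  have hTt : Red.IsTorus T := Deform.isTorus_bc p₁ (Deform.isTorus_of_split 1
    (Deform.SplitQuot.nonempty_DS_congr (LinearEquiv.funUnique (Fin 1) ℤ ℤ).toAddEquiv))
  haveI : IsCommMonObj T := by
    haveI := (inferInstance : IsCommMonObj (Red.Gm (Spec (CommRingCat.of Ω))))
    infer_instance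
  -- transporting points
  have hsw : ∀ (Y : Over (pullback τ β)), 𝟙 Y.left ≫ ((Y.hom ≫ p₁) ≫ τ) = (Y.hom ≫ p₂) ≫ β := fun Y => by
    rw [Category.id_comp, Category.assoc, Category.assoc, pullback.condition]
  let sw : ∀ (Y : Over (pullback τ β)),
      (Over.map β).obj ((Over.map p₂).obj Y) ⟶ (Over.map τ).obj ((Over.map p₁).obj Y) := fun Y =>
    Over.homMk (𝟙 Y.left) (hsw Y)
  let e₁ := fun (Y : Over (pullback τ β)) => ptsEquiv (G := Red.Gm (Spec (CommRingCat.of Ω))) p₁ Y
  let eE := fun (Y : Over (pullback τ β)) => ptsEquiv (G := E) p₂ Y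
  let eτ := fun (Z : Over (Spec (CommRingCat.of Ω))) => ptsEquiv (G := R) τ Z
  let eβ := fun (Z : Over (Spec (CommRingCat.of B))) => ptsEquiv (G := R) β Z
  let Φ : ∀ (Y : Over (pullback τ β)), (Y ⟶ T) → (Y ⟶ A) := fun Y t =>
    eE Y (eβ _ (sw Y ≫ (eτ _).symm ((e₁ Y).symm t ≫ φ)) ≫ q)
  have hΦm : ∀ Y (s t : Y ⟶ T), Φ Y (s * t) = Φ Y s * Φ Y t := fun Y s t => by
    simp only [Φ, map_mul, MonObj.mul_comp, MonObj.comp_mul]
  have hΦn : ∀ (Y Y' : Over (pullback τ β)) (u : Y' ⟶ Y) (t : Y ⟶ T), Φ Y' (u ≫ t) = u ≫ Φ Y t := fun Y Y' u t => by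
    show (Over.mapPullbackAdj p₂).homEquiv Y' E _ = u ≫ (Over.mapPullbackAdj p₂).homEquiv Y E _
    rw [← Adjunction.homEquiv_naturality_left]
    congr 1
    rw [← Category.assoc ((Over.map p₂).map u)]
    congr 1
    show (Over.mapPullbackAdj β).homEquiv _ R _ = (Over.map p₂).map u ≫ (Over.mapPullbackAdj β).homEquiv _ R _
    rw [← Adjunction.homEquiv_naturality_left]
    congr 1
  let f : T ⟶ A := Φ T (𝟙 T)
  have hf : ∀ Y (t : Y ⟶ T), t ≫ f = Φ Y t := fun Y t => by rw [← hΦn, Category.comp_id]
  haveI : IsMonHom f := WittEndoLib.isMonHom_of_mul f fun Y s t => by rw [hf, hf, hf, hΦm]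
  have hf1 : f = 1 := Groth.Agent.S19289.result T A hTt (fun s => by
    haveI : ConnectedSpace ↥(pullback E.hom ((pullback τ β).fromSpecResidueField s ≫ p₂)) := hEc _ _
    let e := pullbackLeftPullbackSndIso E.hom p₂ ((pullback τ β).fromSpecResidueField s)
    exact e.inv.homeomorph.surjective.connectedSpace e.inv.homeomorph.continuous) f
  -- the universal point
  let a : (Over.map τ).obj (Red.Gm (Spec (CommRingCat.of Ω))) ⟶ R := (eτ _).symm φ
  let C := (Over.map τ).obj (Red.Gm (Spec (CommRingCat.of Ω)))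
  let Y₀ : Over (pullback τ β) := Over.mk (pullback.lift (pullback.fst C.hom β ≫ (Red.Gm (Spec (CommRingCat.of Ω))).hom)
    (pullback.snd C.hom β) (by rw [Category.assoc]; exact pullback.condition))
  let w : (Over.map p₁).obj Y₀ ⟶ Red.Gm (Spec (CommRingCat.of Ω)) := Over.homMk (pullback.fst C.hom β)
    (by exact (pullback.lift_fst _ _ _).symm)
  let io : (Over.map p₂).obj Y₀ ⟶ (Over.pullback β).obj C := Over.homMk (𝟙 _)
    (by exact (Category.id_comp _).trans (pullback.lift_snd _ _ _).symm)
  have h0 := hf Y₀ (e₁ Y₀ w)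
  rw [hf1, MonObj.comp_one] at h0
  have h1 : eβ _ (sw Y₀ ≫ (eτ _).symm (w ≫ φ)) ≫ q = 1 := by
    refine (eE Y₀).injective ?_
    rw [map_one]
    simp only [Φ, MulEquiv.symm_apply_apply] at h0
    exact h0.symm
  have h2 : eβ _ (sw Y₀ ≫ (eτ _).symm (w ≫ φ)) = io ≫ (Over.pullback β).map a := by
    show (Over.mapPullbackAdj β).homEquiv _ R (sw Y₀ ≫ ((Over.mapPullbackAdj τ).homEquiv _ R).symm (w ≫ φ)) = _
    rw [Adjunction.homEquiv_naturality_left_symm, ← Category.assoc, Adjunction.homEquiv_naturality_right]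
    congr 1
    rw [Equiv.apply_eq_iff_eq_symm_apply]
    refine Over.OverMorphism.ext ?_
    simp [sw, io, w, C, Over.mapPullbackAdj]
  have h3 : (Over.pullback β).map a ≫ q = 1 := by
    haveI : IsIso io := by
      haveI : IsIso ((Over.forget _).map io) := inferInstanceAs (IsIso (𝟙 _))
      exact isIso_of_reflects_iso io (Over.forget _)
    rw [← cancel_epi io, ← Category.assoc, ← h2, h1, MonObj.comp_one]
  have ha : a = 1 := (hR C).1 (by
    show (Over.pullback β).map a ≫ q = (Over.pullback β).map 1 ≫ q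
    rw [h3, Functor.map_one, MonObj.one_comp])
  have := congrArg (eτ (Red.Gm (Spec (CommRingCat.of Ω)))) ha
  rw [MulEquiv.apply_symm_apply, map_one] at this
  exact this

end Groth.Agent.S17694
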