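import Groth.Statements.S1771
import Groth.Agent.LC.H1Rows
import Groth.Agent.S1755

set_option autoImplicit false
universe u
open LocCoh

namespace Groth.Agent.S1771

/-- Let A be a Noetherian ring which is Nagata and universally catenary, I an ideal of A and M a finite
A-module. Suppose that for every associated prime p of M not containing I and every prime q
containing both p and I, the longest chain of primes from p to q has length at least 2. Then the
local cohomology module H^1_I(M) is a finite A-module. The published statement asserts that the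
pushforward of a coherent sheaf from the open complement of V(I) is coherent; this is its affine
form, stated as finiteness of H^1_I(M). -/
theorem result (A : Type u) [CommRing A] [IsNoetherianRing A] (hN : CAlg.IsNagata A) (hU : CAlg.IsUniversallyCatenary A) (I : Ideal A) (M : Type u) [AddCommGroup M] [Module A M] [Module.Finite A M] (h : ∀ (p q : PrimeSpectrum A) (hpq : p ≤ q), p.asIdeal ∈ associatedPrimes A M → ¬ I ≤ p.asIdeal → I ≤ q.asIdeal → (2 : ℕ∞) ≤ Order.height (⟨q, hpq⟩ : Set.Ici p)) : Module.Finite A (LocCoh.H I 1 M) := by
  refine Groth.Agent.S1755.result A I M fun p hp hIp q hpq hIq P hP => ?_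
  let p' : PrimeSpectrum A := ⟨p, hp.isPrime⟩
  haveI := LC.H1Rows.isPrime_map (p := p') hpq
  haveI : Nontrivial (LC.H1Rows.quot p' q) := Ideal.Quotient.nontrivial_iff.2 (Ideal.IsPrime.ne_top ‹_›)
  haveI : IsLocalRing (LC.H1Rows.quot p' q) := IsLocalRing.of_surjective' (Ideal.Quotient.mk _) Ideal.Quotient.mk_surjective
  haveI := LC.Canon.isNoetherianRing_completion (R := LC.H1Rows.quot p' q)
  haveI := LC.H1Rows.isReduced_cpl_quot hN (p := p') hpq
  revert P
  rw [IsLocalRing.map_maximalIdeal_of_surjective (Ideal.Quotient.mk _) Ideal.Quotient.mk_surjective]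
  intro P hP
  exact LC.H1Rows.two_le_dim_of_minimal (LC.H1Rows.isFormallyEquidim_quot hU (p := p') hpq)
    (LC.H1Rows.two_le_dim_quot (p := p') hpq (h p' q hpq hp hIp hIq))
    (LC.H1Rows.mem_minimalPrimes_of_isReduced hP)

end Groth.Agent.S1771
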