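import Groth.Statements.S17728
import Groth.Agent.FlatBirLib.Basic
import Mathlib
-- import your own Groth.Agent.* helpers here

set_option autoImplicit false
universe u
open Neron

attribute [-instance] CategoryTheory.catToReflQuiver

namespace Groth.Agent.S17728

open CategoryTheory AlgebraicGeometry in
/-- Let S be a Noetherian scheme, U ⊆ S a dense open subscheme and f : X → S a morphism locally of
finite type which restricts to an isomorphism over U and for which the preimage of U is
schematically dense in X. For a point x of X the following are equivalent: f is étale on some open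
neighbourhood of x; f is flat at x, that is, the local ring of X at x is flat over the local ring of
S at f(x); some open neighbourhood V of f(x) carries a section σ of f over V passing through x. -/
theorem result
    {X S : Scheme.{u}} [IsNoetherian S] (f : X ⟶ S) [LocallyOfFiniteType f]
    (U : S.Opens) (hU : Dense (U : Set S))
    (hiso : IsIso (morphismRestrict f U)) (hdense : CInt.IsSchematicallyDense (f ⁻¹ᵁ U))
    (x : X) :
    List.TFAE [
      ∃ W : X.Opens, x ∈ W ∧ Etale (W.ι ≫ f),
      (f.stalkMap x).hom.Flat,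
      ∃ (V : S.Opens) (hV : f.base x ∈ V) (σ : (V : Scheme.{u}) ⟶ X),
        σ ≫ f = V.ι ∧ σ.base ⟨f.base x, hV⟩ = x] := by
  have h12 : (∃ W : X.Opens, x ∈ W ∧ Etale (W.ι ≫ f)) → (f.stalkMap x).hom.Flat := by
    rintro ⟨W, hxW, hW⟩
    haveI : Etale (W.ι ≫ f) := hW
    exact Groth.Agent.FlatBirLib.flat_of_etale_near f x W hxW
  have h23 : (f.stalkMap x).hom.Flat → ∃ (V : S.Opens) (hV : f.base x ∈ V) (σ : (V : Scheme.{u}) ⟶ X),
      σ ≫ f = V.ι ∧ σ.base ⟨f.base x, hV⟩ = x := fun h => by
    obtain ⟨W, hxW, hW⟩ := Groth.Agent.FlatBirLib.exists_isOpenImmersion_of_flat f U hiso hdense x h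
    exact Groth.Agent.FlatBirLib.exists_section_of_isOpenImmersion f x W hxW
  have h31 : (∃ (V : S.Opens) (hV : f.base x ∈ V) (σ : (V : Scheme.{u}) ⟶ X),
      σ ≫ f = V.ι ∧ σ.base ⟨f.base x, hV⟩ = x) → ∃ W : X.Opens, x ∈ W ∧ Etale (W.ι ≫ f) := by
    rintro ⟨V, hV, σ, hσ, hσx⟩
    obtain ⟨W, hxW, hW⟩ :=
      Groth.Agent.FlatBirLib.exists_isOpenImmersion_of_section f U hiso hdense x V hV σ hσ hσx
    exact ⟨W, hxW, inferInstance⟩
  tfae_have 1 → 2 := h12
  tfae_have 2 → 3 := h23
  tfae_have 3 → 1 := h31
  tfae_finish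


end Groth.Agent.S17728
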