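import Groth.Statements.S17734
import Groth.Agent.PicLim.Descend
import Groth.Agent.Pi1Ext.SpreadLim
import Groth.Agent.MorLib.BaseChangeLim
-- import your own Groth.Agent.* helpers here

set_option autoImplicit false
universe u
open PicF

set_option backward.isDefEq.respectTransparency false
set_option backward.isDefEq.respectTransparency.types false
set_option synthInstance.maxHeartbeats 400000
set_option maxHeartbeats 1000000
set_option linter.style.haveILetI false
attribute [-instance] CategoryTheory.catToReflQuiver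

namespace Groth.Agent.S17734

open CategoryTheory AlgebraicGeometry Limits in
/-- Let f : X → S be a proper morphism of finite presentation, s a point of S, and L an invertible
module on the base change X^s of X to the spectrum of the local ring of S at s. Then there are an
open neighbourhood V of s in S and an invertible module L' on the open subscheme f⁻¹(V) = X ×_S V
such that the pullback of L' along the canonical morphism X^s → f⁻¹(V) (the unique one compatible
with the projection X^s → X) is isomorphic to L. -/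
theorem result
    {X S : Scheme.{u}} (f : X ⟶ S) [IsProper f] [LocallyOfFinitePresentation f] (s : S)
    (L : (pullback f (S.fromSpecStalk s)).Modules) (hL : PicF.IsInvertible L) :
    ∃ (V : S.Opens) (_ : s ∈ V) (L' : (↑(f ⁻¹ᵁ V) : Scheme.{u}).Modules), PicF.IsInvertible L' ∧
      ∀ (ι : pullback f (S.fromSpecStalk s) ⟶ ↑(f ⁻¹ᵁ V)),
        ι ≫ (f ⁻¹ᵁ V).ι = pullback.fst f (S.fromSpecStalk s) →
        Nonempty ((Scheme.Modules.pullback ι).obj L' ≅ L) := by
  let D := Groth.Agent.Pi1Ext.SpreadLim.specs S s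
  let W₀ : Groth.Agent.Pi1Ext.SpreadLim.Nbhd S s := Classical.arbitrary _
  let t₀ := Groth.Agent.Pi1Ext.SpreadLim.toX S s W₀
  let c := Groth.Agent.Pi1Ext.SpreadLim.cone S s
  let xi : pullback f t₀ ⟶ D.obj W₀ := pullback.snd f t₀
  have hc₀ : c.π.app W₀ ≫ t₀ = S.fromSpecStalk s := Groth.Agent.Pi1Ext.SpreadLim.π_toX S s W₀
  let qX : pullback f (S.fromSpecStalk s) ⟶ pullback f t₀ :=
    pullback.lift (pullback.fst f (S.fromSpecStalk s)) (pullback.snd f (S.fromSpecStalk s) ≫ c.π.app W₀)
      (by rw [pullback.condition, Category.assoc, hc₀])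
  have hX : IsPullback qX (pullback.snd f (S.fromSpecStalk s)) xi (c.π.app W₀) := by
    refine IsPullback.of_right ?_ (pullback.lift_snd _ _ _) (IsPullback.of_hasPullback f t₀)
    rw [pullback.lift_fst, hc₀]
    exact IsPullback.of_hasPullback f (S.fromSpecStalk s)
  haveI : IsProper xi := inferInstanceAs (IsProper (pullback.snd f t₀))
  haveI : CompactSpace (D.obj W₀) := inferInstance
  haveI : QuasiSeparatedSpace (D.obj W₀) := inferInstance
  haveI : CompactSpace ↥(pullback f t₀) := QuasiCompact.compactSpace_of_compactSpace xi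
  haveI : QuasiSeparatedSpace ↥(pullback f t₀) := quasiSeparatedSpace_of_quasiSeparated xi
  haveI : ∀ {a b : Groth.Agent.Pi1Ext.SpreadLim.Nbhd S s} (h : a ⟶ b), IsAffineHom (D.map h) := fun h =>
    inferInstanceAs (IsAffineHom (Spec.map _))
  let DX := Groth.Agent.MorLib.BC.diag D xi
  let cX := Groth.Agent.MorLib.BC.cone D xi (c := c) hX
  haveI : ∀ {a b : Over W₀} (h : a ⟶ b), IsAffineHom (DX.map h) := fun h =>
    Groth.Agent.MorLib.BC.isAffineHom_map D xi h
  haveI : ∀ a, CompactSpace (DX.obj a) := fun a => Groth.Agent.MorLib.BC.compactSpace_obj D xi a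
  haveI : ∀ a, QuasiSeparatedSpace (DX.obj a) := fun a => Groth.Agent.MorLib.BC.quasiSeparatedSpace_obj D xi a
  obtain ⟨j, -, Lj, hLj, ⟨θ⟩⟩ := Groth.Agent.PicLim.exists_invertible_descend DX cX
    (Groth.Agent.MorLib.BC.isLimitCone D xi (c := c) hX (Groth.Agent.Pi1Ext.SpreadLim.isLimit S s))
    (CategoryTheory.Over.mk (𝟙 W₀)) L hL
  let W := j.left
  let V : S.Opens := W.1
  let t := Groth.Agent.Pi1Ext.SpreadLim.toX S s W
  have ht : D.map j.hom ≫ t₀ = t := Groth.Agent.Pi1Ext.SpreadLim.map_toX S s j.hom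
  let m : pullback xi (D.map j.hom) ⟶ X := pullback.fst xi (D.map j.hom) ≫ pullback.fst f t₀
  let e₁ := pullbackLeftPullbackSndIso f t₀ (D.map j.hom)
  have hm : m = e₁.hom ≫ pullback.fst f (D.map j.hom ≫ t₀) := (pullbackLeftPullbackSndIso_hom_fst _ _ _).symm
  haveI : IsOpenImmersion (D.map j.hom ≫ t₀) := by rw [ht]; infer_instance
  haveI : IsOpenImmersion m := by rw [hm]; infer_instance
  have hrange : Set.range m = Set.range (f ⁻¹ᵁ V).ι := by
    rw [hm, Scheme.Hom.comp_base, TopCat.coe_comp, Set.range_comp,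
      show Set.range e₁.hom = Set.univ from Set.range_eq_univ.2 e₁.hom.homeomorph.surjective, Set.image_univ, Scheme.Pullback.range_fst, ht,
      Scheme.Opens.range_ι, Groth.Agent.Pi1Ext.SpreadLim.range_toX]
    rfl
  let e := IsOpenImmersion.isoOfRangeEq m (f ⁻¹ᵁ V).ι hrange
  have he : e.hom ≫ (f ⁻¹ᵁ V).ι = m := IsOpenImmersion.isoOfRangeEq_hom_fac _ _ _
  refine ⟨V, W.2.2, (Scheme.Modules.pullback e.inv).obj Lj,
    Groth.Agent.PicClLib.isInvertible_pullback _ hLj, fun ι hι => ?_⟩
  have hι' : ι ≫ e.inv = cX.π.app j := by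
    rw [Iso.comp_inv_eq, ← cancel_mono (f ⁻¹ᵁ V).ι, hι, Category.assoc, he]
    show _ = _ ≫ pullback.fst xi (D.map j.hom) ≫ pullback.fst f t₀
    rw [← Category.assoc, show cX.π.app j ≫ pullback.fst xi (D.map j.hom) = qX from
      Groth.Agent.MorLib.BC.proj_fst D xi (c := c) hX j]
    exact (pullback.lift_fst _ _ _).symm
  exact ⟨(Scheme.Modules.pullbackComp ι e.inv).app Lj ≪≫ (Scheme.Modules.pullbackCongr hι').app Lj ≪≫ θ⟩


end Groth.Agent.S17734
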