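import Groth.Statements.S17737
import Groth.Agent.FlatLoc6.Cpl
import Mathlib.RingTheory.AdicCompletion.LocalRing
import Mathlib.RingTheory.MvPowerSeries.Basic
import Mathlib.RingTheory.MvPowerSeries.Inverse

set_option autoImplicit false
universe u
open DualGr

namespace Groth.Agent.S17737
open IsLocalRing (maximalIdeal ResidueField)
set_option linter.style.haveILetI false

open MvPowerSeries in
theorem coeff_single_one_mul {σ S : Type*} [CommRing S] [DecidableEq σ] (i : σ) (f g : MvPowerSeries σ S) :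
    coeff (Finsupp.single i 1) (f * g) =
      constantCoeff f * coeff (Finsupp.single i 1) g + coeff (Finsupp.single i 1) f * constantCoeff g := by
  rw [coeff_mul, Finsupp.antidiagonal_single, Finset.sum_map, Finset.Nat.sum_antidiagonal_eq_sum_range_succ_mk]
  simp [Finset.sum_range_succ, coeff_zero_eq_constantCoeff]

open MvPowerSeries in
theorem exists_decomp {S : Type*} [CommRing S] (P : MvPowerSeries (Fin 2) S) :
    ∃ A B : MvPowerSeries (Fin 2) S, P = C (constantCoeff P) + X 0 * A + X 1 * B := by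
  classical
  let Q : MvPowerSeries (Fin 2) S := fun n => if n 0 = 0 then coeff n P else 0
  have hQ : ∀ n, coeff n Q = if n 0 = 0 then coeff n P else 0 := fun n => rfl
  obtain ⟨A, hA⟩ : X 0 ∣ P - Q := X_dvd_iff.2 fun n hn => by rw [map_sub, hQ, if_pos hn, sub_self]
  obtain ⟨B, hB⟩ : X 1 ∣ Q - C (constantCoeff P) := X_dvd_iff.2 fun n hn => by
    rw [map_sub, hQ, coeff_C]
    by_cases h : n 0 = 0
    · have : n = 0 := Finsupp.ext fun i => by fin_cases i <;> assumption
      subst this
      simp [coeff_zero_eq_constantCoeff]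
    · rw [if_neg h, if_neg (fun e => h (by simp [e])), sub_zero]
  exact ⟨A, B, by rw [← hA, add_assoc, ← hB]; ring⟩

open MvPowerSeries in
/-- The node relation determines the ideal of its parameter. -/
theorem mem_of_iso {R Rh : Type*} [CommRing R] [IsLocalRing R] [CommRing Rh] [IsLocalRing Rh] (f : R →+* Rh)
    (hres : ∀ p : Rh, ∃ r : R, p - f r ∈ maximalIdeal Rh) (hm : (maximalIdeal R).map f = maximalIdeal Rh)
    {a b : R} (ha : a ∈ maximalIdeal R) (hb : b ∈ maximalIdeal R)
    (e : (MvPowerSeries (Fin 2) Rh ⧸ Ideal.span {(X 0 * X 1 - C (f a) : MvPowerSeries (Fin 2) Rh)}) ≃+*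
      (MvPowerSeries (Fin 2) Rh ⧸ Ideal.span {(X 0 * X 1 - C (f b) : MvPowerSeries (Fin 2) Rh)}))
    (he : ∀ r, e (Ideal.Quotient.mk _ (C (f r))) = Ideal.Quotient.mk _ (C (f r))) :
    f a ∈ Ideal.span ({f b} : Set Rh) := by
  classical
  let mka := Ideal.Quotient.mk (Ideal.span {(X 0 * X 1 - C (f a) : MvPowerSeries (Fin 2) Rh)})
  let mkb := Ideal.Quotient.mk (Ideal.span {(X 0 * X 1 - C (f b) : MvPowerSeries (Fin 2) Rh)})
  let κ := IsLocalRing.residue Rh
  let L (i : Fin 2) (P : MvPowerSeries (Fin 2) Rh) : Rh := coeff (Finsupp.single i 1) P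
  have hfa : κ (f a) = 0 := (IsLocalRing.residue_eq_zero_iff _).2 (hm ▸ Ideal.mem_map_of_mem f ha)
  have hfb : κ (f b) = 0 := (IsLocalRing.residue_eq_zero_iff _).2 (hm ▸ Ideal.mem_map_of_mem f hb)
  have hX : ∀ i j : Fin 2, L i (X j) = if i = j then 1 else 0 := fun i j => by
    simp only [L, coeff_X, Finsupp.single_left_inj (one_ne_zero : (1:ℕ) ≠ 0)]
  have hC : ∀ (i : Fin 2) (r : Rh), L i (C r) = 0 := fun i r => by
    simp [L, coeff_C, Finsupp.single_eq_zero]
  have hrel : ∀ (i : Fin 2) (w : MvPowerSeries (Fin 2) Rh) (t : Rh), L i ((X 0 * X 1 - C t) * w) = - (t * L i w) := fun i w t => by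
    simp only [L] at hC ⊢
    rw [coeff_single_one_mul]
    simp only [map_sub, map_mul, constantCoeff_X, constantCoeff_C, zero_mul, coeff_single_one_mul, mul_zero,
      add_zero, hC, sub_zero]
    ring
  obtain ⟨x, hx⟩ := Ideal.Quotient.mk_surjective (e (mka (X 0)))
  obtain ⟨y, hy⟩ := Ideal.Quotient.mk_surjective (e (mka (X 1)))
  -- the images of the variables are not units
  have hnu : ∀ (j : Fin 2) (P : MvPowerSeries (Fin 2) Rh), mkb P = e (mka (X j)) → κ (constantCoeff P) = 0 := by
    intro j P hP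
    rw [IsLocalRing.residue_eq_zero_iff, IsLocalRing.mem_maximalIdeal]
    intro hu
    have h1 : IsUnit (mkb P) := (MvPowerSeries.isUnit_iff_constantCoeff.2 hu).map mkb
    rw [hP] at h1
    replace h1 : IsUnit (mka (X j)) := by simpa using h1.map e.symm
    obtain ⟨g, hg⟩ := h1.exists_right_inv
    obtain ⟨G, rfl⟩ := Ideal.Quotient.mk_surjective g
    rw [← map_mul, ← map_one mka, Ideal.Quotient.eq, Ideal.mem_span_singleton] at hg
    obtain ⟨h, hh⟩ := hg
    have := congrArg (fun Q => κ (constantCoeff Q)) hh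
    simp [hfa] at this
  -- the linear terms of the images of the variables span
  have hN : ∀ m ∈ maximalIdeal Rh, ∃ n : MvPowerSeries (Fin 2) Rh, e (mka (C m)) = mkb n ∧ ∀ d, κ (coeff d n) = 0 := by
    intro m hm'
    rw [← hm] at hm'
    have h1 : e (mka (C m)) ∈ ((maximalIdeal R).map (C.comp f)).map mkb := by
      rw [Ideal.map_map]
      have h2 : e.toRingHom (mka (C m)) ∈ (((maximalIdeal R).map f).map (mka.comp C)).map e.toRingHom :=
        Ideal.mem_map_of_mem _ (Ideal.mem_map_of_mem (mka.comp C) hm')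
      rw [Ideal.map_map, Ideal.map_map] at h2
      convert h2 using 2
      · exact RingHom.ext fun r => (he r).symm
      · rfl
    obtain ⟨n, hn, hn'⟩ := (Ideal.mem_map_iff_of_surjective _ Ideal.Quotient.mk_surjective).1 h1
    refine ⟨n, hn'.symm, fun d => ?_⟩
    have hle : (maximalIdeal R).map (C.comp f) ≤ RingHom.ker (MvPowerSeries.map (σ := Fin 2) κ) := by
      rw [Ideal.map_le_iff_le_comap]
      intro r hr
      show MvPowerSeries.map κ (C (f r)) = 0
      rw [MvPowerSeries.map_C, (IsLocalRing.residue_eq_zero_iff _).2 (hm ▸ Ideal.mem_map_of_mem f hr), map_zero]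
    have := congrArg (coeff d) (hle hn : MvPowerSeries.map κ n = 0)
    simpa using this
  have hspan : ∀ j : Fin 2, ∃ α β : ResidueField Rh, ∀ i : Fin 2,
      α * κ (L i x) + β * κ (L i y) = if i = j then 1 else 0 := by
    intro j
    obtain ⟨q, hq⟩ := e.surjective (mkb (X j))
    obtain ⟨P, rfl⟩ := Ideal.Quotient.mk_surjective q
    obtain ⟨A, B, hP⟩ := exists_decomp P
    obtain ⟨r, hr⟩ := hres (constantCoeff P)
    obtain ⟨n, hn, hn0⟩ := hN _ hr
    obtain ⟨A', hA'⟩ := Ideal.Quotient.mk_surjective (e (mka A))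
    obtain ⟨B', hB'⟩ := Ideal.Quotient.mk_surjective (e (mka B))
    have h1 : mkb (X j) = mkb (C (f r) + n + x * A' + y * B') := by
      rw [← hq, hP, show (C (constantCoeff P) : MvPowerSeries (Fin 2) Rh) = C (f r) + C (constantCoeff P - f r) by
        rw [← map_add, add_sub_cancel]]
      simp only [map_add, map_mul, mkb, hx, hy, hA', hB']
      congr 3
      exact he r
    rw [Ideal.Quotient.eq, Ideal.mem_span_singleton] at h1
    obtain ⟨w, hw⟩ := h1
    refine ⟨κ (constantCoeff A'), κ (constantCoeff B'), fun i => ?_⟩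
    have h2 := congrArg (fun Q => κ (L i Q)) hw
    simp only [hrel, map_neg, map_mul, hfb, zero_mul, neg_zero] at h2
    simp only [L, map_sub, map_add, coeff_single_one_mul, map_mul] at h2
    have e1 : κ (L i (X j)) = if i = j then 1 else 0 := by rw [hX]; split <;> simp
    simp only [L] at e1 hC ⊢
    rw [e1, hC, map_zero, hn0, hnu 0 x hx, hnu 1 y hy] at h2
    linear_combination (-1 : ResidueField Rh) * h2
  obtain ⟨α₀, β₀, h₀⟩ := hspan 0
  obtain ⟨α₁, β₁, h₁⟩ := hspan 1
  have hdet : κ (L 0 x * L 1 y - L 1 x * L 0 y) ≠ 0 := by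
    intro h
    rw [map_sub, map_mul, map_mul] at h
    have q00 := h₀ 0
    have q01 := h₀ 1
    have q10 := h₁ 0
    have q11 := h₁ 1
    simp only [↓reduceIte, Fin.reduceEq] at q00 q01 q10 q11
    have : (1 : ResidueField Rh) = 0 := by
      linear_combination (α₀ * β₁ - α₁ * β₀) * h - (α₁ * κ (L 1 x) + β₁ * κ (L 1 y)) * q00 - q11 +
        (α₁ * κ (L 0 x) + β₁ * κ (L 0 y)) * q01
    exact one_ne_zero this
  obtain ⟨u, hu⟩ := IsUnit.exists_left_inv ((IsLocalRing.notMem_maximalIdeal.1 fun h =>
    hdet ((IsLocalRing.residue_eq_zero_iff _).2 h)) : IsUnit (L 0 x * L 1 y - L 1 x * L 0 y))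
  -- the relation
  obtain ⟨w, hw⟩ : (X 0 * X 1 - C (f b) : MvPowerSeries (Fin 2) Rh) ∣ x * y - C (f a) := by
    rw [← Ideal.mem_span_singleton, ← Ideal.Quotient.eq, map_mul, hx, hy, ← he a, ← map_mul, ← map_mul]
    congr 1
    rw [Ideal.Quotient.eq, Ideal.mem_span_singleton]
  have hlin : ∀ i : Fin 2, constantCoeff x * L i y + L i x * constantCoeff y ∈ Ideal.span ({f b} : Set Rh) := by
    intro i
    have h := congrArg (L i) hw
    rw [hrel] at h
    simp only [L, map_sub, coeff_single_one_mul] at h hC ⊢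
    rw [hC, sub_zero] at h
    rw [h]
    exact Ideal.mem_span_singleton.2 ⟨- L i w, by simp [L]⟩
  have hx0 : constantCoeff x ∈ Ideal.span ({f b} : Set Rh) := by
    rw [show constantCoeff x = u * L 0 x * (constantCoeff x * L 1 y + L 1 x * constantCoeff y) -
        u * L 1 x * (constantCoeff x * L 0 y + L 0 x * constantCoeff y) by
      linear_combination (- constantCoeff x) * hu]
    exact sub_mem (Ideal.mul_mem_left _ _ (hlin 1)) (Ideal.mul_mem_left _ _ (hlin 0))
  have h0 := congrArg constantCoeff hw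
  simp only [map_sub, map_mul, constantCoeff_X, constantCoeff_C, zero_mul, zero_sub] at h0
  rw [show f a = constantCoeff y * constantCoeff x + constantCoeff w * f b by linear_combination (-1 : Rh) * h0]
  exact add_mem (Ideal.mul_mem_left _ _ hx0) (Ideal.mul_mem_left _ _ (Ideal.mem_span_singleton_self _))
open IsLocalRing in
/-- Let R be a Noetherian local ring, A a local ring with a ring map φ : R → A, and a, b two elements of
the maximal ideal of R such that A is formally a node over R both of thickness (a) and of thickness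
(b): the completion of A is isomorphic, compatibly with R, to R̂[[x,y]]/(xy − a) and also to
R̂[[x,y]]/(xy − b). Then aR = bR. (This is the uniqueness assertion: the element in a node
presentation is not unique but the principal ideal it generates is; it is stated for presentations
with the element taken in R, whose ideal in R is then determined.) -/
theorem result
    (R A : Type u) [CommRing R] [IsLocalRing R] [IsNoetherianRing R] [CommRing A] [IsLocalRing A]
    (φ : R →+* A) (a b : R) (ha : a ∈ maximalIdeal R) (hb : b ∈ maximalIdeal R)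
    (h₁ : DualGr.IsThickNode φ a) (h₂ : DualGr.IsThickNode φ b) :
    Ideal.span {a} = Ideal.span {b} := by
  classical
  obtain ⟨e₁, he₁⟩ := h₁
  obtain ⟨e₂, he₂⟩ := h₂
  haveI := FlatLoc6.faithfullyFlat_cpl R
  let e : DualGr.nodeRing R a ≃+* DualGr.nodeRing R b := e₁.symm.trans e₂
  have he : ∀ r : R, e (Ideal.Quotient.mk _ (MvPowerSeries.C (algebraMap R (Curv2.cpl R) r))) =
      Ideal.Quotient.mk _ (MvPowerSeries.C (algebraMap R (Curv2.cpl R) r)) := fun r => by
    rw [← he₁ r, ← he₂ r]
    simp [e]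
  have hres : ∀ p : Curv2.cpl R, ∃ r : R, p - algebraMap R (Curv2.cpl R) r ∈ maximalIdeal (Curv2.cpl R) := by
    intro p
    obtain ⟨q, hq⟩ := (AdicCompletion.residueField_map_bijective_of_fg (maximalIdeal R).fg_of_isNoetherianRing).surjective
        (IsLocalRing.residue _ p)
    obtain ⟨r, rfl⟩ := IsLocalRing.residue_surjective q
    refine ⟨r, (IsLocalRing.residue_eq_zero_iff _).1 ?_⟩
    rw [IsLocalRing.ResidueField.map_residue] at hq
    rw [map_sub, hq, sub_self]
  have hm : (maximalIdeal R).map (algebraMap R (Curv2.cpl R)) = maximalIdeal (Curv2.cpl R) :=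
    (AdicCompletion.maximalIdeal_eq_map (R := R)).symm
  have h1 := mem_of_iso (algebraMap R (Curv2.cpl R)) hres hm ha hb e he
  have h2 := mem_of_iso (algebraMap R (Curv2.cpl R)) hres hm hb ha e.symm fun r => by
    rw [RingEquiv.symm_apply_eq, he]
  rw [← Set.image_singleton, ← Ideal.map_span] at h1 h2
  have hc : ∀ I : Ideal R, ∀ x : R, algebraMap R (Curv2.cpl R) x ∈ I.map (algebraMap R (Curv2.cpl R)) → x ∈ I :=
    fun I x hx => by rwa [← Ideal.mem_comap, Ideal.comap_map_eq_self_of_faithfullyFlat] at hx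
  refine le_antisymm ?_ ?_
  · rw [Ideal.span_le, Set.singleton_subset_iff]; exact hc _ _ h1
  · rw [Ideal.span_le, Set.singleton_subset_iff]; exact hc _ _ h2

end Groth.Agent.S17737
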