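import Groth.Statements.S17745
import Groth.Agent.CycLib.Envelope
-- import your own Groth.Agent.* helpers here

set_option autoImplicit false
universe u
open CategoryTheory AlgebraicGeometry
open QsChow

namespace Groth.Agent.S17745

/-- For a field extension K of k (separable algebraic) and a k-scheme X with weight function δ, call
norm subgroup of CH_j(X) the subgroup generated by the classes of the push-forwards to X of j-cycles
on the base changes X_F, over the intermediate fields F of K over k that are finite over k and
different from k (the quotient by it is the degree-j part of the conormed Chow group of X relative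
to K over k). Let F be an intermediate field of K over k, finite over k and different from k, and
let X be a smooth variety over F (a scheme with a smooth, separated and quasi-compact morphism g to
Spec F), regarded as a k-scheme by composing g with Spec F → Spec k. Then for every weight function
δ on X (a dimension function induced from weight 0 on Spec k) and every integer j the norm subgroup
of CH_j(X) relative to K over k is the whole Chow group: all conormed Chow groups of X vanish. (The
source's F is tacitly different from k; for F = k the assertion fails, e.g. with K = k.) -/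
theorem result
    (k : Type u) [Field k] (K : Type u) [Field K] [Algebra k K] [Algebra.IsSeparable k K]
    (F : IntermediateField k K) [FiniteDimensional k F] (hF : F ≠ ⊥)
    (X : Scheme.{u}) [X.Over (Spec (CommRingCat.of k))] (g : X ⟶ Spec (CommRingCat.of F))
    (hg : g ≫ Spec.map (CommRingCat.ofHom (algebraMap k F)) = X ↘ Spec (CommRingCat.of k))
    (hsm : Smooth g) [IsSeparated g] [QuasiCompact g]
    (δ : X → ℤ) (hδ : Cyc.IsSetup X δ)
    (hcompat : Cyc.DeltaCompat (X ↘ Spec (CommRingCat.of k)) δ (fun _ => 0)) (j : ℤ) :
    QsChow.normSubgroup k K X δ j = ⊤ := by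
  refine eq_top_iff.2 fun c _ => ?_
  obtain ⟨⟨c, hc⟩, rfl⟩ := QuotientAddGroup.mk'_surjective _ c
  let f := Curv2.bcFst k X F
  let σ : X ⟶ Curv2.bc k X F :=
    Limits.pullback.lift (𝟙 X) g (by rw [Category.id_comp]; exact hg.symm)
  have hσ : σ ≫ f = 𝟙 X := Limits.pullback.lift_fst _ _ _
  have hpt : ∀ x, f (σ x) = x := fun x => by
    rw [← Scheme.Hom.comp_apply, hσ]; rfl
  haveI : FiniteDimensional k (F : Type u) := inferInstance
  have hdeg : ∀ x, f.residueDegree (σ x) = 1 := fun x => by
    have h := CycLib.residueDegree_comp σ f x
    rw [CycLib.residueDegree_congr hσ x, Scheme.Hom.residueDegree_id] at h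
    exact (mul_eq_one.1 h.symm).1
  have hmap : AlgebraicCycle.map f (δ ∘ ⇑f.base) δ (CycLib.liftCycle f (fun x => σ x) c) = c := by
    ext x
    rw [CycLib.map_liftCycle f _ hpt]
    simp [AlgebraicCycle.mapCoeff, hdeg]
  refine AddSubgroup.subset_closure ⟨F, inferInstance, hF, CycLib.liftCycle f (fun x => σ x) c, ?_, ?_, ?_⟩
  · intro y hy
    classical
    rw [CycLib.liftCycle_apply]
    split_ifs
    · exact hc _ hy
    · rfl
  · rw [hmap]; exact hc
  · show (ChowOps.clHom X δ j) ⟨c, hc⟩ = _
    simp only [ChowOps.cl]
    congr 2
    exact hmap.symm

end Groth.Agent.S17745
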