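import Groth.Statements.S17746
import Groth.Agent.QsDescend.Scheme
import Groth.Agent.QsDescend.Normal
import Groth.Agent.S7603
import Groth.Agent.S17745
-- import your own Groth.Agent.* helpers here

set_option autoImplicit false
universe u
open CategoryTheory AlgebraicGeometry
open QsChow

namespace Groth.Agent.S17746

/-- For a field extension K of k (separable algebraic) and a k-scheme X with weight function δ, call
norm subgroup of CH_j(X) the subgroup generated by the classes of the push-forwards to X of j-cycles
on the base changes X_F, over the intermediate fields F of K over k that are finite over k and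
different from k (the quotient by it is the degree-j part of the conormed Chow group of X relative
to K over k). Let L be an intermediate field of K over k that is finite Galois over k, and let X be
a smooth variety over k (smooth, separated and quasi-compact structure morphism) that is connected
and whose base change X_L is not connected. Then for every weight function δ on X (a dimension
function induced from weight 0 on Spec k) and every integer j the norm subgroup of CH_j(X) relative
to K over k is the whole Chow group: all conormed Chow groups of X vanish. -/
theorem result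
    (k : Type u) [Field k] (K : Type u) [Field K] [Algebra k K] [Algebra.IsSeparable k K]
    (L : IntermediateField k K) [FiniteDimensional k L] [IsGalois k L]
    (X : Scheme.{u}) [X.Over (Spec (CommRingCat.of k))]
    (hsm : Smooth (X ↘ Spec (CommRingCat.of k))) [IsSeparated (X ↘ Spec (CommRingCat.of k))]
    [QuasiCompact (X ↘ Spec (CommRingCat.of k))]
    [ConnectedSpace X] (hdisc : ¬ ConnectedSpace ↥(Curv2.bc k X L))
    (δ : X → ℤ) (hδ : Cyc.IsSetup X δ)
    (hcompat : Cyc.DeltaCompat (X ↘ Spec (CommRingCat.of k)) δ (fun _ => 0)) (j : ℤ) :
    QsChow.normSubgroup k K X δ j = ⊤ := by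
  have hX : Pi1.IsNormalScheme X := by
    refine QsDescend.isNormalScheme_of_smooth ?_ (X ↘ Spec (CommRingCat.of k))
    intro x
    haveI : IsIntegral (Spec (CommRingCat.of k)) := inferInstance
    haveI : Subsingleton ↥(Spec (CommRingCat.of k)) := inferInstanceAs (Subsingleton (PrimeSpectrum k))
    have hf : IsField ((Spec (CommRingCat.of k)).presheaf.stalk x) := by
      rw [Subsingleton.elim x (genericPoint ↥(Spec (CommRingCat.of k)))]
      exact Field.toIsField (Spec (CommRingCat.of k)).functionField
    exact ⟨inferInstance, by letI := hf.toField; exact inferInstance⟩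
  haveI : IsLocallyNoetherian X := LocallyOfFiniteType.isLocallyNoetherian (X ↘ Spec (CommRingCat.of k))
  haveI : CompactSpace ↥X := QuasiCompact.compactSpace_of_compactSpace (X ↘ Spec (CommRingCat.of k))
  haveI : IsNoetherian X := {}
  haveI : ∀ x : X, IsDomain (X.presheaf.stalk x) := fun x => (hX x).1
  haveI : IrreducibleSpace X := S7603.irreducibleSpace_of_isDomain_stalk (fun x => (hX x).1)
  haveI : IsReduced X := isReduced_of_isReduced_stalk X
  haveI : IsIntegral X := isIntegral_of_irreducibleSpace_of_isReduced X
  obtain ⟨F, hF, g, hg⟩ := QsDescend.exists_factor hX L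
    (fun h : IrreducibleSpace ↥(Curv2.bc k X L) => haveI := h; hdisc inferInstance)
  let F' : IntermediateField k K := IntermediateField.lift F
  let e : F ≃ₐ[k] F' := IntermediateField.liftAlgEquiv F
  haveI : FiniteDimensional k F' := e.toLinearEquiv.finiteDimensional
  haveI : IsIso (CommRingCat.ofHom e.symm.toAlgHom.toRingHom) :=
    (ConcreteCategory.isIso_iff_bijective _).2 e.symm.bijective
  let g' : X ⟶ Spec (CommRingCat.of F') :=
    g ≫ Spec.map (CommRingCat.ofHom e.symm.toAlgHom.toRingHom)
  have hg' : g' ≫ Spec.map (CommRingCat.ofHom (algebraMap k F')) = X ↘ Spec (CommRingCat.of k) := by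
    rw [Category.assoc, ← Spec.map_comp, ← CommRingCat.ofHom_comp,
      show e.symm.toAlgHom.toRingHom.comp (algebraMap k F') = algebraMap k F from e.symm.toAlgHom.comp_algebraMap, hg]
  have hne : F' ≠ ⊥ := fun h => hF (IntermediateField.lift_injective L (h.trans (by rw [IntermediateField.lift_bot])))
  haveI : Smooth g' := by
    haveI : Algebra.IsSeparable k F' := inferInstance
    haveI : Algebra.FormallyEtale k F' := Algebra.FormallyEtale.of_isSeparable k F'
    haveI : Algebra.Etale k F' := { finitePresentation := Algebra.FinitePresentation.of_finiteType.1 inferInstance }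
    haveI : FormallyUnramified (Spec.map (CommRingCat.ofHom (algebraMap k F'))) := by
      rw [HasRingHomProperty.Spec_iff (P := @FormallyUnramified)]
      exact RingHom.formallyUnramified_algebraMap.2 (inferInstanceAs (Algebra.FormallyUnramified k F'))
    haveI : Etale (Spec.map (CommRingCat.ofHom (algebraMap k F'))) := by
      rw [HasRingHomProperty.Spec_iff (P := @Etale)]
      exact RingHom.etale_algebraMap.2 (inferInstanceAs (Algebra.Etale k F'))
    haveI : Smooth (g' ≫ Spec.map (CommRingCat.ofHom (algebraMap k F'))) := by rw [hg']; exact hsm
    let σ : X ⟶ Curv2.bc k X F' := Limits.pullback.lift (𝟙 X) g' (by rw [Category.id_comp]; exact hg'.symm)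
    haveI : Etale (σ ≫ Curv2.bcFst k X F') := by rw [Limits.pullback.lift_fst]; infer_instance
    haveI : Etale σ := Etale.of_comp σ (Curv2.bcFst k X F')
    haveI := hsm
    rw [show g' = σ ≫ Curv2.bcSnd k X F' from (Limits.pullback.lift_snd _ _ _).symm]
    infer_instance
  haveI : IsSeparated g' := by
    haveI : IsSeparated (g' ≫ Spec.map (CommRingCat.ofHom (algebraMap k F'))) := by rw [hg']; infer_instance
    exact IsSeparated.of_comp g' (Spec.map (CommRingCat.ofHom (algebraMap k F')))
  haveI : QuasiCompact g' := by
    haveI : QuasiCompact (g' ≫ Spec.map (CommRingCat.ofHom (algebraMap k F'))) := by rw [hg']; infer_instance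
    exact QuasiCompact.of_comp g' (Spec.map (CommRingCat.ofHom (algebraMap k F')))
  exact S17745.result k K F' hne X g' hg' inferInstance δ hδ hcompat j

end Groth.Agent.S17746
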