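import Groth.Statements.S17766
import Groth.Agent.LC.CanonUnmixed
import Groth.Agent.LC.CanonGor
import Groth.Agent.LC.ExtBridge

set_option autoImplicit false
universe u
open CategoryTheory Opposite
open LocCoh

namespace Groth.Agent.S17766

/-- Let B be a regular local ring, p a prime ideal of B of height r, and suppose that A = B ⧸ p is
Cohen–Macaulay. Then the B-module Ext^r_B(A, B) is isomorphic either to A itself or to a proper
ideal I of A which is unmixed of height one, i.e. every associated prime of A ⧸ I has height one in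
A (existence of a B-linear isomorphism in each case). -/
theorem result (B : Type u) [CommRing B] [IsRegularLocalRing B] (p : Ideal B) [p.IsPrime] [LocCoh.IsCohenMacaulayLocalRing (B ⧸ p)] (r : ℕ) (hr : p.height = r) : Nonempty (((Ext B (ModuleCat.{u} B) r).obj (op (ModuleCat.of B (B ⧸ p)))).obj (ModuleCat.of B B) ≃ₗ[B] (B ⧸ p)) ∨ ∃ I : Ideal (B ⧸ p), I ≠ ⊤ ∧ (∀ q ∈ associatedPrimes (B ⧸ p) ((B ⧸ p) ⧸ I), q.height = 1) ∧ Nonempty (((Ext B (ModuleCat.{u} B) r).obj (op (ModuleCat.of B (B ⧸ p)))).obj (ModuleCat.of B B) ≃ₗ[B] I) := by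
  haveI := Groth.Agent.LC.gorenstein_of_isRegularLocalRing (R := B)
  haveI : LocCoh.IsCohenMacaulayLocalRing B := Groth.Agent.LC.isCohenMacaulayLocalRing_of_gorenstein
  have hπ : Function.Surjective (algebraMap B (B ⧸ p)) := Ideal.Quotient.mk_surjective
  obtain ⟨N, hN, -, -⟩ := Groth.Agent.LC.gorenstein_basic (R := B)
  obtain ⟨n, -, hn⟩ := Groth.Agent.LC.Canon.exists_ringKrullDim_quot_eq_nat (R := B) hN.le (Ideal.IsPrime.ne_top (I := p) inferInstance)
  have hc : n + r = N := by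
    have h := Groth.Agent.LC.height_add_ringKrullDim_quotient p (Ideal.IsPrime.ne_top inferInstance)
    rw [hr, hn, hN] at h
    exact_mod_cast h
  obtain ⟨E, _, _, f, hf⟩ := Groth.Agent.LC.exists_injectiveHull (B ⧸ p) (IsLocalRing.ResidueField (B ⧸ p))
  obtain ⟨K, _, _, hK, ⟨ι⟩⟩ := Groth.Agent.LC.Canon.exists_extModule (R := B ⧸ p) hπ r
  obtain ⟨eK⟩ := Groth.Agent.LC.Canon.canon_of_ext hf hπ hN hc K ι
  obtain ⟨I, hI, ⟨e⟩⟩ := Groth.Agent.LC.Canon.exists_ideal_equiv hn hf eK hπ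
  obtain ⟨P⟩ := (HasProjectiveResolution.out (Z := ModuleCat.of B (B ⧸ p)))
  let b := Groth.Agent.LC.ExtBridge.bridge P (ModuleCat.of B B) r
  let toI := b ≪≫ₗ ι.symm ≪≫ₗ e.restrictScalars B
  by_cases hT : I = ⊤
  · exact Or.inl ⟨toI ≪≫ₗ ((LinearEquiv.ofEq I ⊤ hT) ≪≫ₗ Submodule.topEquiv).restrictScalars B⟩
  · exact Or.inr ⟨I, hT, fun q hq => Groth.Agent.LC.Canon.height_ass_quot_canon_ideal hn hf I hI
      ((LinearEquiv.congrLeft E (B ⧸ p) e).symm ≪≫ₗ eK) q hq, ⟨toI⟩⟩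

end Groth.Agent.S17766
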