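import Groth.Statements.S17773
-- import your own Groth.Agent.* helpers here
import Groth.Agent.H9Misc.TorBalance

set_option autoImplicit false
universe u
open CategoryTheory CategoryTheory.Limits
open CAlg

namespace Groth.Agent.S17773

open Groth.Agent.H9Misc.TorBalance Groth.Agent.KFlatLib Groth.Agent.H9Misc.DRingLTensor MonoidalCategory

set_option backward.defeqAttrib.useBackward true in
set_option backward.isDefEq.respectTransparency false in
/-- Tor from a flat resolution of the first variable. -/
theorem exists_iso {R : Type u} [CommRing R] {M N : ModuleCat.{u} R} (F : ChainComplex (ModuleCat.{u} R) ℕ)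
    (hF : ∀ i : ℕ, Module.Flat R (F.X i)) (φ : F ⟶ (ChainComplex.single₀ (ModuleCat.{u} R)).obj M) [QuasiIso φ]
    (i : ℕ) : Nonempty ((((tensorRight N).mapHomologicalComplex (ComplexShape.down ℕ)).obj F).homology i ≅
      ((Tor' (ModuleCat.{u} R) i).obj M).obj N) := by
  let P := ProjectiveResolution.of M
  let Q := ProjectiveResolution.of N
  let e := ComplexShape.embeddingDownNat
  let F' : DRing.Cx R := F.extend e
  let φ' : F' ⟶ sgl M := (e.extendFunctor _).map φ ≫ (HomologicalComplex.extendSingleIso _ _ _ _ (by simp [e])).hom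
  haveI : QuasiIso φ' := by dsimp [φ', e]; infer_instance
  have hKF : IsKF F' := by
    refine kFlat_of_termwiseFlat (b := 0) (fun n => ?_) fun n hn =>
      HomologicalComplex.isZero_extend_X F e n (fun k hk => by simp [e] at hk; lia)
    show Module.Flat R (F'.X n)
    by_cases hn : ∃ k, e.f k = n
    · obtain ⟨k, hk⟩ := hn
      have := hF k
      exact Module.Flat.of_linearEquiv (F.extendXIso e hk).toLinearEquiv
    · have := ModuleCat.subsingleton_of_isZero (HomologicalComplex.isZero_extend_X F e n (fun k hk => hn ⟨k, hk⟩))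
      infer_instance
  let a : ((T (A := R)).obj F').obj Q.cochainComplex ⟶ (tensC M).obj Q.cochainComplex :=
    ((T (A := R)).map φ').app Q.cochainComplex ≫ (sglLeftIso M).hom.app Q.cochainComplex
  let b : ((T (A := R)).obj F').obj Q.cochainComplex ⟶ (tensC N).obj F' :=
    ((T (A := R)).obj F').map Q.π' ≫ (sglRightIso N).hom.app F'
  haveI : QuasiIso a := by
    haveI := (isKF_cochainComplex Q).quasiIso_map φ'
    haveI : QuasiIso ((sglLeftIso M).hom.app Q.cochainComplex) :=
      inferInstanceAs (QuasiIso ((sglLeftIso M).app Q.cochainComplex).hom)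
    exact quasiIso_comp _ _
  haveI : QuasiIso b := by
    haveI := hKF.quasiIso_map' curriedTensorFlipIso Q.π'
    haveI : QuasiIso ((sglRightIso N).hom.app F') :=
      inferInstanceAs (QuasiIso ((sglRightIso N).app F').hom)
    exact quasiIso_comp _ _
  exact ⟨(HomologicalComplex.extendHomologyIso _ e (j := i) (j' := -i) (by simp [e])).symm ≪≫
    (HomologicalComplex.homologyFunctor _ _ (-i : ℤ)).mapIso (mapExtendIso (tensorRight N) F).symm ≪≫
    (isoOfQuasiIsoAt b (-i : ℤ)).symm ≪≫ isoOfQuasiIsoAt a (-i : ℤ) ≪≫ balanceIso P Q (-i : ℤ) ≪≫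
    (HomologicalComplex.homologyFunctor _ _ (-i : ℤ)).mapIso (mapExtendIso (tensorRight N) P.complex) ≪≫
    HomologicalComplex.extendHomologyIso _ e (by simp [e]) ≪≫
    (P.isoLeftDerivedObj ((tensoringRight (ModuleCat.{u} R)).obj N) i).symm⟩

/-- Let R be a commutative ring, M and N two R-modules, and F a flat resolution of M: a chain complex F
of flat R-modules concentrated in non-negative degrees together with a quasi-isomorphism from F to M
placed in degree 0. Then for every i ≥ 0 the i-th homology module of the complex F ⊗_R N is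
isomorphic to Tor_i^R(M, N), the i-th left derived functor of − ⊗_R N evaluated at M (existence of
an isomorphism of R-modules). -/
theorem result (R : Type u) [CommRing R] (M N : Type u) [AddCommGroup M] [Module R M] [AddCommGroup N] [Module R N] (F : ChainComplex (ModuleCat.{u} R) ℕ) (hF : ∀ i : ℕ, Module.Flat R (F.X i)) (φ : F ⟶ (ChainComplex.single₀ (ModuleCat.{u} R)).obj (ModuleCat.of R M)) [QuasiIso φ] (i : ℕ) : Nonempty ((((MonoidalCategory.tensorRight (ModuleCat.of R N)).mapHomologicalComplex (ComplexShape.down ℕ)).obj F).homology i ≅ ((Tor' (ModuleCat.{u} R) i).obj (ModuleCat.of R M)).obj (ModuleCat.of R N)) := by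
  exact exists_iso F hF φ i

end Groth.Agent.S17773
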