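import Groth.Statements.S17790
import Groth.Agent.LefConn.Basic
import Groth.Agent.H9Lef.PurePair
import Groth.Agent.Pi1X.FEtFull
set_option backward.isDefEq.respectTransparency false
set_option backward.isDefEq.respectTransparency.types false
set_option linter.style.haveILetI false

set_option autoImplicit false
universe u
open CategoryTheory CategoryTheory.Limits AlgebraicGeometry
open Pi1

namespace Groth.Agent.S17790

/-- Let A be a Noetherian local ring and I an ideal for which A is I-adically complete and A/I is local;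
write X = Spec A, Y = V(I) and U for the punctured spectrum. Suppose that A is pure (the pair formed
by X and its closed point is pure) and that the effective Lefschetz condition Leff(U, U ∩ Y) holds.
Then Y minus the closed point, i.e. U ∩ Y, is a connected (nonempty) subset of X. -/
theorem result (A : Type u) [CommRing A] [IsLocalRing A] [IsNoetherianRing A] (I : Ideal A) [IsAdicComplete I A] [IsLocalRing (A ⧸ I)] (hpure : SGA2.IsPurePair (Spec (CommRingCat.of A)) (FEt.puncturedSpec A)) (hleff : LefX.LeffCond (↑(FEt.puncturedSpec A) : Scheme.{u}) ((Spec.map (CommRingCat.ofHom (Ideal.Quotient.mk I))).ker.comap (FEt.puncturedSpec A).ι)) : IsConnected (((Spec.map (CommRingCat.ofHom (Ideal.Quotient.mk I))).ker.support : Set ↥(Spec (CommRingCat.of A))) ∩ (FEt.puncturedSpec A : Set ↥(Spec (CommRingCat.of A)))) := by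
  rw [Groth.Agent.H9Lef.isPurePair_punctured_iff] at hpure
  let X := Spec (CommRingCat.of A)
  let U : X.Opens := FEt.puncturedSpec A
  haveI := hpure
  have hloc : ∀ G : Set X, IsClopen G → G = ∅ ∨ G = Set.univ := fun G hG => by
    have key : ∀ G : Set X, IsClopen G → G.Nonempty → IsLocalRing.closedPoint A ∈ G := fun G hG ⟨x, hx⟩ =>
      ((PrimeSpectrum.le_iff_specializes x (IsLocalRing.closedPoint A)).1
        (IsLocalRing.le_maximalIdeal x.2.ne_top)).mem_closed hG.1 hx
    rcases G.eq_empty_or_nonempty with h | h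
    · exact Or.inl h
    · right
      by_contra hne
      exact key Gᶜ hG.compl (Set.nonempty_compl.2 hne) (key G hG h)
  have hne : Nonempty (U : Scheme.{u}) := by
    by_contra hne
    haveI : IsEmpty (U : Scheme.{u}) := not_nonempty_iff.1 hne
    let E : FEt.Cat X := MorphismProperty.Over.mk ⊤ ((⊥ : X.Opens).ι)
      (Groth.Agent.Pi1X.prop_ι_of_isClopen ⊥ (by simp))
    let I : FEt.Cat X := MorphismProperty.Over.mk ⊤ (𝟙 X) (MorphismProperty.id_mem _ _)
    let g : pullback (𝟙 X) U.ι ⟶ (U : Scheme.{u}) := pullback.snd _ _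
    haveI : IsEmpty ↥(pullback (𝟙 X) U.ι) := Function.isEmpty g.base
    let g' : pullback (⊥ : X.Opens).ι U.ι ⟶ (U : Scheme.{u}) := pullback.snd _ _
    haveI : IsEmpty ↥(pullback (⊥ : X.Opens).ι U.ι) := Function.isEmpty g'.base
    let t : pullback (𝟙 X) U.ι ⟶ pullback (⊥ : X.Opens).ι U.ι :=
      (isInitialOfIsEmpty (X := pullback (𝟙 X) U.ι)).to _
    let φ₀ : (FEt.restrict U.ι).obj I ⟶ (FEt.restrict U.ι).obj E :=
      MorphismProperty.Over.homMk t ((isInitialOfIsEmpty (X := pullback (𝟙 X) U.ι)).hom_ext _ _)
    let φ : I ⟶ E := (FEt.restrict U.ι).preimage φ₀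
    exact (φ.left.base (IsLocalRing.closedPoint A)).2
  have hpre : PreconnectedSpace (U : Scheme.{u}) := by
    rw [preconnectedSpace_iff_clopen]
    intro C hC
    let O : (U : Scheme.{u}).Opens := ⟨C, hC.2⟩
    let Z : FEt.Cat (U : Scheme.{u}) := MorphismProperty.Over.mk ⊤ O.ι
      (Groth.Agent.Pi1X.prop_ι_of_isClopen _ hC.1)
    let W := (FEt.restrict U.ι).objPreimage Z
    let e := (FEt.restrict U.ι).objObjPreimageIso Z
    let w : W.left ⟶ X := W.hom
    let a : pullback w U.ι ⟶ O := e.hom.left
    let b : (O : Scheme.{u}) ⟶ pullback w U.ι := e.inv.left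
    have ha : a ≫ O.ι = pullback.snd w U.ι := MorphismProperty.Over.w e.hom
    have hb : b ≫ pullback.snd w U.ι = O.ι := MorphismProperty.Over.w e.inv
    have hCG : C = U.ι.base ⁻¹' Set.range w.base := by
      rw [← Scheme.Pullback.range_snd]
      refine Set.Subset.antisymm (fun x hx => ⟨b.base ⟨x, hx⟩, ?_⟩) ?_
      · rw [← Scheme.Hom.comp_apply, hb]; rfl
      · rintro _ ⟨y, rfl⟩
        rw [← ha, Scheme.Hom.comp_apply]
        exact (a.base y).2
    rcases hloc _ (Groth.Agent.Pi1X.isClopen_range (f := w) W.prop) with h | h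
    · exact Or.inl (by rw [hCG, h, Set.preimage_empty])
    · exact Or.inr (by rw [hCG, h, Set.preimage_univ])
  let V := (U : Scheme.{u})
  let T : V.Opens := ⊤
  haveI : IsLocallyNoetherian V := inferInstance
  haveI : ConnectedSpace V := { toPreconnectedSpace := hpre, toNonempty := hne }
  have hT : ConnectedSpace T := by
    exact (isConnected_iff_connectedSpace (s := ((T : V.Opens) : Set V))).1 isConnected_univ
  have key := (Groth.Agent.LefConn.preconnected_iff V _ hleff.1 T (fun x _ => trivial)).2 hT
  rw [← isConnected_iff_connectedSpace] at key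
  have h2 := key.image U.ι.base U.ι.continuous.continuousOn
  convert h2 using 1
  rw [Scheme.IdealSheafData.support_comap]
  show _ = U.ι.base '' (U.ι.base ⁻¹' ((Spec.map (CommRingCat.ofHom (Ideal.Quotient.mk I))).ker.support : Set X))
  rw [Set.image_preimage_eq_inter_range, Scheme.Opens.range_ι]

end Groth.Agent.S17790
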