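import Groth.Statements.S17794
import Groth.Agent.AlgStLib.QuotShEff
import Groth.Agent.AlgSpPts.FppfTarget
import Groth.Agent.Deform.QuotBase
import Groth.Agent.GrpdLib.QuotSheaf
import Groth.Agent.AlgSpPts.Sep
import Groth.Agent.AlgSpPts.Descent
set_option linter.style.haveILetI false
set_option backward.isDefEq.respectTransparency false
set_option backward.isDefEq.respectTransparency.types false

set_option autoImplicit false
universe u
open CategoryTheory CategoryTheory.Limits MonoidalCategory CartesianMonoidalCategory MonObj GrpObj AlgebraicGeometry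
open GrpSch

namespace Groth.Agent.S17794

open CategoryTheory Limits MonoidalCategory CartesianMonoidalCategory MonObj AlgebraicGeometry Opposite

attribute [local instance] CategoryTheory.Hom.monoid CategoryTheory.Hom.group

theorem property_of_epi {S : Scheme.{u}} {R U Y : Over S} {s t : R ⟶ U} {q : U ⟶ Y}
    (hepi : Epi (QuotSh.repMap Scheme.fppfPrecoverage q)) (hsq : IsPullback s t q q) (P : MorphismProperty Scheme.{u})
    [P.IsStableUnderBaseChange] [P.IsLocalAtTarget Scheme.fppfPrecoverage] (hP : P s.left) : P q.left := by
  have sq := hsq.flip.map (Over.forget S)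
  have hls : Presheaf.IsLocallySurjective (QuotSh.J Scheme.fppfPrecoverage S)
      (Functor.whiskerRight (yoneda.map q) uliftFunctor.{u + 1, u}) :=
    (Presheaf.isLocallySurjective_presheafToSheaf_map_iff _ _).1
      ((Sheaf.isLocallySurjective_iff_epi (QuotSh.repMap Scheme.fppfPrecoverage q)).2 hepi)
  have hmem := Presheaf.imageSieve_mem (QuotSh.J Scheme.fppfPrecoverage S) (Functor.whiskerRight (yoneda.map q) uliftFunctor.{u + 1, u})
    (U := op Y) ⟨𝟙 Y⟩
  rw [GrothendieckTopology.mem_over_iff] at hmem
  have : (@Flat ⊓ @LocallyOfFinitePresentation : MorphismProperty Scheme.{u}).ContainsIdentities :=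
    ⟨fun X => ⟨inferInstanceAs (Flat (𝟙 X)), inferInstanceAs (LocallyOfFinitePresentation (𝟙 X))⟩⟩
  have : Scheme.fppfPrecoverage.HasIsos :=
    inferInstanceAs (Scheme.precoverage (@Flat ⊓ @LocallyOfFinitePresentation)).HasIsos
  have : Scheme.fppfPrecoverage.HasPullbacks := ⟨fun {X} R f hR => inferInstance⟩
  obtain ⟨Rp, hRp, hle⟩ := Precoverage.mem_toGrothendieck_iff_of_isStableUnderComposition.1 hmem
  refine MorphismProperty.IsLocalAtTarget.of_forall_pullbackSnd hRp fun {Z} g _ hg => ?_
  obtain ⟨⟨l⟩, hl⟩ := (Sieve.overEquiv_iff _ g).1 (hle _ _ hg)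
  have hl' : l.left ≫ q.left = g := by
    have := congrArg (fun x : ULift.{u + 1} _ => x.down.left) hl
    simpa using this
  obtain ⟨a, ha⟩ : ∃ a : Z ⟶ U.left, a ≫ q.left = g := ⟨l.left, hl'⟩
  subst ha
  have sq' : IsPullback (pullback.snd a s.left) (pullback.fst a s.left) s.left a :=
    (IsPullback.of_hasPullback _ _).flip
  have big : IsPullback (pullback.snd a s.left ≫ t.left) (pullback.fst a s.left) q.left (a ≫ q.left) := by
    exact sq'.paste_horiz sq
  rw [← MorphismProperty.cancel_left_of_respectsIso P big.isoPullback.hom, IsPullback.isoPullback_hom_snd]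
  exact MorphismProperty.pullback_fst _ _ hP




/-- Let S be a scheme and f : G → H a homomorphism of S-group schemes, both of finite presentation over
S (locally of finite presentation, quasi-compact and quasi-separated), and let i : N → G be the
kernel of f (the square formed by i, f, the unit section of H and N → S is cartesian). Then f is
faithfully flat (flat and surjective) if and only if the map of representable sheaves h_G → h_H
induced by f on the big fppf site of S is an epimorphism of sheaves of sets and N is flat over S. -/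
theorem result {S : Scheme.{u}} {G H N : Over S} [GrpObj G] [GrpObj H] (f : G ⟶ H) [IsMonHom f] [LocallyOfFinitePresentation G.hom] [QuasiCompact G.hom] [QuasiSeparated G.hom] [LocallyOfFinitePresentation H.hom] [QuasiCompact H.hom] [QuasiSeparated H.hom] (i : N ⟶ G) (hi : AlgGrp.IsKernel i f) : (Flat f.left ∧ Surjective f.left) ↔ (Epi (QuotSh.repMap Scheme.fppfPrecoverage f) ∧ Flat N.hom) := by
  haveI : LocallyOfFinitePresentation (f.left ≫ H.hom) := by rw [Over.w f]; infer_instance
  have hfw := hi.w
  constructor
  · rintro ⟨hf, hs⟩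
    haveI := hf
    haveI := hs
    refine ⟨?_, ?_⟩
    · haveI : LocallyOfFinitePresentation f.left := Groth.Agent.AlgSpPts.locallyOfFinitePresentation_of_comp f.left H.hom
      have hk : IsKernelPair f (Over.homMk (pullback.fst f.left f.left) rfl : Over.mk (pullback.fst f.left f.left ≫ G.hom) ⟶ G)
          (Over.homMk (pullback.snd f.left f.left) (by
            show pullback.snd f.left f.left ≫ G.hom = pullback.fst f.left f.left ≫ G.hom
            rw [← Over.w f, ← Category.assoc, ← Category.assoc, pullback.condition])) :=
        IsPullback.of_map (Over.forget S) (Over.OverMorphism.ext pullback.condition) (IsPullback.of_hasPullback f.left f.left)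
      haveI : (QuotSh.J Scheme.fppfPrecoverage S).Subcanonical := inferInstance
      obtain ⟨w, hiso⟩ := Groth.Agent.GrpdLib.isQuotient_of_isKernelPair Scheme.fppfPrecoverage _ _ f hk
        (Precoverage.generate_mem_toGrothendieck f.left.singleton_mem_fppfPrecoverage)
      rw [← Groth.Agent.AlgStLib.QuotShEff.repMap_eq_quotπ Scheme.fppfPrecoverage w]
      unfold QuotSh.quotπ
      exact epi_comp _ _
    · have h : Flat (toUnit N).left := MorphismProperty.of_isPullback (sq := (hi.map (Over.forget S))) hf
      exact h
  · rintro ⟨hepi, hN⟩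
    let e : G ⊗ N ≅ pullback f f := IsPullback.isoPullback (fst := fst G N * (snd G N ≫ i)) (snd := fst G N) (by
      have hNf : i ≫ f = 1 := hfw
      refine ⟨⟨by rw [MonObj.mul_comp, Category.assoc, hNf, MonObj.comp_one, _root_.mul_one]⟩,
        ⟨PullbackCone.IsLimit.mk _ (fun c => lift c.snd (hi.lift (c.snd⁻¹ * c.fst) (toUnit _) (by
          rw [MonObj.mul_comp, GrpObj.inv_comp, c.condition, inv_mul_cancel, Hom.one_def]))) ?_ ?_ ?_⟩⟩
      · intro c
        rw [MonObj.comp_mul, lift_fst, lift_snd_assoc, hi.lift_fst, mul_inv_cancel_left]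
      · intro c
        exact lift_fst _ _
      · intro c m h1 h2
        apply CartesianMonoidalCategory.hom_ext
        · rw [lift_fst]; exact h2
        · rw [lift_snd]
          refine hi.hom_ext ?_ (toUnit_unique _ _)
          rw [hi.lift_fst, ← h1, MonObj.comp_mul, h2, inv_mul_cancel_left, Category.assoc])
    have hsq : IsPullback (fst G N) (fst G N * (snd G N ≫ i)) f f :=
      ((IsPullback.of_hasPullback f f).of_iso e.symm (Iso.refl _) (Iso.refl _) (Iso.refl _)
        (by simp [e]) (by simp [e]) (by simp) (by simp)).flip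
    haveI := hN
    have hfl : Flat (fst G N).left := MorphismProperty.pullback_fst (P := @Flat) _ _ hN
    have hsu : Surjective (fst G N).left :=
      ⟨fun g => ⟨(lift (𝟙 G) (toUnit G ≫ hi.lift (1 : 𝟙_ _ ⟶ G) (toUnit _) (by
        rw [MonObj.one_comp, Hom.one_def]))).left g, by
        rw [← Scheme.Hom.comp_apply, ← Over.comp_left, lift_fst]; rfl⟩⟩
    haveI := Groth.Agent.AlgSpPts.isLocalAtTarget_fppf (@Flat : MorphismProperty Scheme.{u})
    haveI := Groth.Agent.AlgSpPts.isLocalAtTarget_fppf (@Surjective : MorphismProperty Scheme.{u})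
    exact ⟨property_of_epi hepi hsq @Flat hfl, property_of_epi hepi hsq @Surjective hsu⟩

end Groth.Agent.S17794
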