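import Groth.Statements.S17797
import Mathlib

set_option autoImplicit false
universe u
open CAlg

namespace Groth.Agent.S17797

/-- Suppose k is a field of characteristic zero and S is a local domain that is an essentially
finite-type k-algebra. Then there are an extension field K of k, a K-algebra A of finite type and a
maximal ideal m of A such that S is isomorphic over k to the localization A_m. -/
theorem result (k : Type u) [Field k] [CharZero k] (S : Type u) [CommRing S] [IsDomain S] [IsLocalRing S] [Algebra k S] [Algebra.EssFiniteType k S] : ∃ (K : Type u) (_ : Field K) (_ : Algebra k K) (A : Type u) (_ : CommRing A) (_ : Algebra K A) (_ : Algebra k A) (_ : IsScalarTower k K A) (_ : Algebra.FiniteType K A) (m : Ideal A) (_ : m.IsMaximal), Nonempty (S ≃ₐ[k] Localization.AtPrime m) := by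
  classical
  let κ := IsLocalRing.ResidueField S
  haveI : Algebra.EssFiniteType k κ := Algebra.EssFiniteType.of_surjective (IsScalarTower.toAlgHom k S κ)
    IsLocalRing.residue_surjective
  obtain ⟨s, hs, -⟩ := exists_isTranscendenceBasis_and_isSeparable_of_perfectField k κ
  let P := MvPolynomial s k
  choose t ht using fun i : s => IsLocalRing.residue_surjective (R := S) (i : κ)
  let φ : P →ₐ[k] S := MvPolynomial.aeval t
  have hφ : ∀ q : P, IsLocalRing.residue S (φ q) = MvPolynomial.aeval ((↑) : s → κ) q := by
    intro q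
    have := AlgHom.congr_fun (MvPolynomial.comp_aeval (f := t) (φ := IsScalarTower.toAlgHom k S κ)) q
    refine this.trans (congrArg (fun f => MvPolynomial.aeval f q) (funext fun i => ?_))
    exact ht i
  let K := FractionRing P
  have hunit : ∀ q : nonZeroDivisors P, IsUnit (φ q) := fun q => by
    by_contra h
    have h0 := (IsLocalRing.residue_eq_zero_iff _).mpr ((IsLocalRing.mem_maximalIdeal _).mpr h)
    rw [hφ] at h0
    exact nonZeroDivisors.ne_zero q.2 (hs.1 (h0.trans (map_zero _).symm))
  let j : K →ₐ[k] S := IsLocalization.liftAlgHom (M := nonZeroDivisors P) (f := φ) hunit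
  letI : Algebra K S := j.toRingHom.toAlgebra
  haveI : IsScalarTower k K S := IsScalarTower.of_algebraMap_eq fun x => (j.commutes x).symm
  have hK : ∀ q : P, algebraMap K κ (algebraMap P K q) = MvPolynomial.aeval ((↑) : s → κ) q := fun q => by
    rw [IsScalarTower.algebraMap_apply K S κ, ← hφ]
    exact congrArg (IsLocalRing.residue S) (IsLocalization.lift_eq _ q)
  haveI : Algebra.IsAlgebraic K κ := by
    refine ⟨fun z => ?_⟩
    haveI := hs.isAlgebraic
    obtain ⟨f, hf0, hf⟩ := Algebra.IsAlgebraic.isAlgebraic (R := Algebra.adjoin k (Set.range ((↑) : s → κ))) z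
    let e : P →+* Algebra.adjoin k (Set.range ((↑) : s → κ)) :=
      (MvPolynomial.aeval ((↑) : s → κ) : P →ₐ[k] κ).toRingHom.codRestrict _ fun q => by
        rw [Algebra.adjoin_range_eq_range_aeval]
        exact ⟨q, rfl⟩
    have he : Function.Surjective e := fun y => by
      obtain ⟨y, hy⟩ := y
      have hy' := hy
      rw [Algebra.adjoin_range_eq_range_aeval] at hy'
      obtain ⟨q, rfl⟩ := hy'
      exact ⟨q, rfl⟩
    obtain ⟨g, rfl⟩ := Polynomial.map_surjective e he f
    refine ⟨g.map (algebraMap P K), fun h => hf0 ?_, ?_⟩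
    · rw [(Polynomial.map_eq_zero_iff (IsFractionRing.injective P K)).mp h, Polynomial.map_zero]
    · rw [Polynomial.aeval_def, Polynomial.eval₂_map, ← hf, Polynomial.aeval_def, Polynomial.eval₂_map]
      congr 1
      exact RingHom.ext fun q => hK q
  let A : Subalgebra K S := Algebra.adjoin K (Algebra.EssFiniteType.finset k S : Set S)
  let m : Ideal A := (IsLocalRing.maximalIdeal S).comap A.val
  haveI : m.IsPrime := Ideal.IsPrime.comap _
  haveI : m.IsMaximal := by
    let ψ : A ⧸ m →ₐ[K] κ := Ideal.Quotient.liftₐ m ((IsScalarTower.toAlgHom K S κ).comp A.val)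
      (fun a ha => (IsLocalRing.residue_eq_zero_iff _).mpr ha)
    have hψ : Function.Injective ψ := by
      rw [injective_iff_map_eq_zero]
      intro a
      obtain ⟨a, rfl⟩ := Ideal.Quotient.mk_surjective a
      intro h
      exact Ideal.Quotient.eq_zero_iff_mem.mpr ((IsLocalRing.residue_eq_zero_iff _).mp h)
    haveI : Algebra.IsAlgebraic K (A ⧸ m) := Algebra.IsAlgebraic.of_injective ψ hψ
    exact Ideal.Quotient.maximal_of_isField m
      (isField_of_isIntegral_of_isField' (R := K) (S := A ⧸ m) (Field.toIsField K))
  haveI : Algebra.FiniteType K A := (Subalgebra.fg_iff_finiteType A).mp (Subalgebra.fg_adjoin_finset _)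
  have hle : Algebra.EssFiniteType.subalgebra k S ≤ A.restrictScalars k :=
    Algebra.adjoin_le fun x hx => Algebra.subset_adjoin hx
  haveI : IsLocalization m.primeCompl S := by
    refine ⟨fun y => ?_, fun z => ?_, fun {x y} h => ⟨1, ?_⟩⟩
    · exact not_not.mp (fun h => y.2 ((IsLocalRing.mem_maximalIdeal _).mpr h))
    · obtain ⟨⟨a, ⟨u, hu⟩⟩, e⟩ := IsLocalization.surj (Algebra.EssFiniteType.submonoid k S) z
      exact ⟨⟨⟨a.1, hle a.2⟩, ⟨⟨u.1, hle u.2⟩, fun h => (IsLocalRing.mem_maximalIdeal _).mp h hu⟩⟩, e⟩
    · rw [show x = y from Subtype.ext h]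
  exact ⟨K, inferInstance, inferInstance, A, inferInstance, inferInstance, inferInstance, inferInstance, inferInstance, m,
    inferInstance, ⟨((IsLocalization.algEquiv m.primeCompl S (Localization.AtPrime m))).restrictScalars k⟩⟩

end Groth.Agent.S17797
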