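import Groth.Statements.S17803
-- import your own Groth.Agent.* helpers here
import Groth.Agent.S2670
import Groth.Agent.S0600
import Groth.Agent.S5785
import Groth.Agent.CplFib6.Excellent
import Groth.Agent.FlatLoc6.GeomComp
import Groth.Agent.FlatLoc6.NormalFibre
import Groth.Agent.FlatLoc6.GeomProp
import Groth.Agent.FComplLib.AdicUnit

set_option autoImplicit false
set_option linter.style.haveILetI false
universe u
open EGA4

open scoped TensorProduct

namespace Groth.Agent.S17803

theorem complMap_surjective {R S : Type u} [CommRing R] [CommRing S] (g : R →+* S) (hg : Function.Surjective g)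
    (J : Ideal R) (I : Ideal S) (hJI : J.map g = I) : Function.Surjective (FSch.complMap J I g hJI.le) := by
  intro x
  choose r hr using fun n => Ideal.Quotient.mk_surjective (AdicCompletion.evalₐ I n x)
  have hcompat : ∀ n, r (n + 1) - r n ∈ I ^ n := fun n => by
    rw [← Ideal.Quotient.eq, hr n]
    have h1 := congrArg (Ideal.Quotient.factorPow I (Nat.le_succ n)) (hr (n + 1))
    rw [Ideal.Quotient.factorPow, Ideal.Quotient.factor_mk] at h1
    rw [h1]
    obtain ⟨y, rfl⟩ := AdicCompletion.mk_surjective I S x
    rw [AdicCompletion.evalₐ_mk, AdicCompletion.evalₐ_mk, Ideal.Quotient.factor_mk, Ideal.Quotient.eq]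
    have hy := y.2 (Nat.le_succ n)
    rw [SModEq.sub_mem] at hy
    simp only [smul_eq_mul, Ideal.mul_top] at hy
    rw [← neg_sub]
    exact (I ^ n).neg_mem hy
  have hstep : ∀ (n : ℕ) (y : {y : R // g y - r n ∈ I ^ n}),
      ∃ y' : {y : R // g y - r (n + 1) ∈ I ^ (n + 1)}, y'.1 - y.1 ∈ J ^ n := by
    rintro n ⟨y, hy⟩
    have h2 : r (n + 1) - g y ∈ (J ^ n).map g := by
      rw [Ideal.map_pow, hJI, show r (n + 1) - g y = (r (n + 1) - r n) - (g y - r n) by ring]
      exact sub_mem (hcompat n) hy
    obtain ⟨j, hj, hgj⟩ := (Ideal.mem_map_iff_of_surjective g hg).1 h2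
    exact ⟨⟨y + j, by rw [map_add, hgj, add_sub_cancel, sub_self]; exact zero_mem _⟩, by simpa using hj⟩
  choose F hF using hstep
  let ys : ∀ n, {y : R // g y - r n ∈ I ^ n} := fun n =>
    Nat.rec (motive := fun n => {y : R // g y - r n ∈ I ^ n}) ⟨0, by simp⟩ F n
  have hys : ∀ n, (ys (n + 1)).1 - (ys n).1 ∈ J ^ n := fun n => hF n (ys n)
  let c : AdicCompletion.AdicCauchySequence J R := AdicCompletion.AdicCauchySequence.mk J R (fun n => (ys n).1)
    (fun n => by
      rw [SModEq.sub_mem, smul_eq_mul, Ideal.mul_top, ← neg_sub]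
      exact neg_mem (hys n))
  refine ⟨AdicCompletion.mk J R c, AdicCompletion.ext_evalₐ fun n => ?_⟩
  rw [FComplLib.evalₐ_complMap, AdicCompletion.evalₐ_mk, ← hr n, Ideal.quotientMap_mk, Ideal.Quotient.eq]
  exact (ys n).2

/-- Let A be an excellent normal domain which is a quotient of a regular ring, I an ideal of A and f ∈
A. Then the I-adic completion of the localization A_f is a normal ring (its localization at every
prime ideal is an integrally closed domain), and it is a quotient of a regular ring. -/
theorem result (A : Type u) [CommRing A] [IsDomain A] [IsIntegrallyClosed A] (hexc : EGA4.IsExcellent A) (hreg : ∃ (R : Type u) (_ : CommRing R) (_ : IsRegularRing R) (φ : R →+* A), Function.Surjective φ) (I : Ideal A) (f : A) : EGA4.IsNormalRing (AdicCompletion (I.map (algebraMap A (Localization.Away f))) (Localization.Away f)) ∧ ∃ (R' : Type u) (_ : CommRing R') (_ : IsRegularRing R') (ψ : R' →+* AdicCompletion (I.map (algebraMap A (Localization.Away f))) (Localization.Away f)), Function.Surjective ψ := by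
  classical
  haveI : IsNoetherianRing A := hexc.1
  let Af := Localization.Away f
  let I' := I.map (algebraMap A Af)
  haveI : IsNoetherianRing Af := IsLocalization.isNoetherianRing (Submonoid.powers f) Af inferInstance
  refine ⟨?_, ?_⟩
  · have hA : EGA4.IsNormalRing A := fun p _ =>
      ⟨inferInstance, isIntegrallyClosed_of_isLocalization _ p.primeCompl p.primeCompl_le_nonZeroDivisors⟩
    have hAf : EGA4.IsNormalRing Af := FlatLoc6.isNormalRing_of_isLocalization (Submonoid.powers f) Af hA
    have hG := CplFib6.isGRing_localization hexc.2.2.1 (Submonoid.powers f)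
    have hreg := Groth.Agent.S0600.result Af (hG Af) I'
    haveI := FormalFib6.isNoetherianRing_adicCompletion Af I'
    have h2 := Groth.Agent.S2670.result Af (AdicCompletion I' Af)
      (FlatLoc6.isNormalHom_of_isRegularHom _ _ hreg) Af hAf
    exact FlatLoc6.isNormalRing_of_ringEquiv (Algebra.TensorProduct.rid Af Af (AdicCompletion I' Af)).toRingEquiv h2
  · obtain ⟨R, _, _, φ, hφ⟩ := hreg
    obtain ⟨g₀, rfl⟩ := hφ f
    let Rg := Localization.Away g₀
    let φ' : Rg →+* Localization.Away (φ g₀) := Localization.awayMap φ g₀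
    have hφ' : Function.Surjective φ' := by
      intro x
      obtain ⟨n, a, ha⟩ := IsLocalization.Away.surj (φ g₀) x
      obtain ⟨r, rfl⟩ := hφ a
      refine ⟨IsLocalization.mk' Rg r (⟨g₀ ^ n, n, rfl⟩ : Submonoid.powers g₀), ?_⟩
      rw [show φ' (IsLocalization.mk' Rg r (⟨g₀ ^ n, n, rfl⟩ : Submonoid.powers g₀)) =
        IsLocalization.map _ φ _ (IsLocalization.mk' Rg r _) from rfl, IsLocalization.map_mk']
      rw [IsLocalization.mk'_eq_iff_eq_mul]
      simpa [map_pow] using ha.symm
    haveI : IsRegularRing Rg := GeomReg.isRegularRing_of_isLocalization (Submonoid.powers g₀) Rg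
    let J := I'.comap φ'
    exact ⟨AdicCompletion J Rg, inferInstance, Groth.Agent.S5785.result Rg J,
      FSch.complMap J I' φ' (Ideal.map_comap_of_surjective φ' hφ' I').le,
      complMap_surjective φ' hφ' J I' (Ideal.map_comap_of_surjective φ' hφ' I')⟩

end Groth.Agent.S17803
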