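import Groth.Statements.S17807
import Groth.Agent.PicCurve.Pts.H1Twist
set_option linter.style.haveILetI false
set_option backward.isDefEq.respectTransparency false
set_option backward.isDefEq.respectTransparency.types false
set_option maxHeartbeats 1000000

set_option autoImplicit false
universe u
open CategoryTheory CategoryTheory.Limits AlgebraicGeometry
open JacVar
open MonoidalCategory CartesianMonoidalCategory
open scoped MonObj Groth.Agent.H23.PicMul

namespace Groth.Agent.S17807

/-- Let C be a smooth proper geometrically connected curve of genus g > 0 over a field k with a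
k-rational point, and let L be an invertible module on C with h¹(C, L) > 0. Under these hypotheses,
C contains some nonempty open U with the following property: whenever Q is a k-rational point of C
and M is an invertible module satisfying M ⊗ I_Q ≅ L (so M is L(Q)), one has h¹(C, M) = h¹(C, L) − 1
if Q belongs to U, and h¹(C, M) = h¹(C, L) if Q does not. (The published statement is phrased for
all closed points Q; for a closed point of degree d > 1 the drop can exceed one, so this row states
it for k-rational points Q.) -/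
theorem result (k : Type u) [Field k]
    (C : Scheme.{u}) [C.Over (Spec (CommRingCat.of k))]
    [IsProper (C ↘ Spec (CommRingCat.of k))] [Smooth (C ↘ Spec (CommRingCat.of k))] [GeometricallyConnected (C ↘ Spec (CommRingCat.of k))]
    (hdim : topologicalKrullDim ↥C = 1)
    (hg : 0 < Curv2.genus k C)
    (σ₀ : Spec (CommRingCat.of k) ⟶ C) (hσ₀ : σ₀ ≫ (C ↘ Spec (CommRingCat.of k)) = 𝟙 _)
    (L : C.Modules) (hL : PicF.IsInvertible L) (hL1 : 0 < Module.finrank k (Coh.HH C L 1)) :
    ∃ U : C.Opens, (U : Set ↥C).Nonempty ∧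
      ∀ (σ : Spec (CommRingCat.of k) ⟶ C) (hσ : σ ≫ (C ↘ Spec (CommRingCat.of k)) = 𝟙 _) (M : C.Modules) (hM : PicF.IsInvertible M)
        (hML : Nonempty (CohB1.tensorMod M (ClSub.idealMod σ.ker) ≅ L)),
        ((∀ p, σ.base p ∈ U) → Module.finrank k (Coh.HH C M 1) = Module.finrank k (Coh.HH C L 1) - 1) ∧
        ((∀ p, σ.base p ∉ U) → Module.finrank k (Coh.HH C M 1) = Module.finrank k (Coh.HH C L 1)) := by
  classical
  let f := C ↘ Spec (CommRingCat.of k)
  haveI : IsProper f := ‹_›
  haveI : Smooth f := ‹_›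
  haveI : ConnectedSpace C := PicCurve.Alb.connectedSpace_of_geomConn f
  haveI : GeometricallyIntegral f := Groth.Agent.S7791.result f σ₀ hσ₀
  haveI : IsIntegral C := GeometricallyIntegral.isIntegral_of_subsingleton f
  haveI : SmoothOfRelativeDimension 1 f := Groth.Agent.HilbCurve.smoothOfRelativeDimension_one f hdim
  let K := AlgebraicClosure k
  let r : Spec (CommRingCat.of K) ⟶ Spec (CommRingCat.of k) := Spec.map (CommRingCat.ofHom (algebraMap k K))
  let T : Over (Spec (CommRingCat.of k)) := Over.mk r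
  let Ck := PicF.XT f T
  letI : Ck.Over (Spec (CommRingCat.of K)) := ⟨PicF.XTproj f T⟩
  haveI : IsProper (Ck ↘ Spec (CommRingCat.of K)) := PicCurve.isProper_proj f T
  haveI : Smooth (Ck ↘ Spec (CommRingCat.of K)) := inferInstanceAs (Smooth (pullback.snd f r))
  haveI : IsIntegral Ck := PicCurve.isIntegral_XT f r
  have hdimK : topologicalKrullDim Ck = 1 := PicCurve.dim_XT f hdim r
  let g : Ck ⟶ C := pullback.fst f r
  have hpb : IsPullback g (Ck ↘ Spec (CommRingCat.of K)) f (Spec.map (CommRingCat.ofHom (algebraMap k K))) :=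
    IsPullback.of_hasPullback f r
  haveI : CompactSpace C := QuasiCompact.compactSpace_of_compactSpace f
  haveI : QuasiSeparatedSpace C := quasiSeparatedSpace_of_quasiSeparated f
  have hh : ∀ (M : C.Modules), PicF.IsInvertible M → Module.finrank K (Coh.HH Ck ((Scheme.Modules.pullback g).obj M) 1) =
      Module.finrank k (Coh.HH C M 1) := fun M hM => CurveBC.finrank_hh k K g hpb M (PicCurve.isQCoh_inv hM) 1
  let Lk := (Scheme.Modules.pullback g).obj L
  have hLk : PicF.IsInvertible Lk := PicClLib.isInvertible_pullback _ hL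
  -- a rational point and its lift
  have key : ∀ (σ : Spec (CommRingCat.of k) ⟶ C) (hσ : σ ≫ f = 𝟙 _) (M : C.Modules), PicF.IsInvertible M →
      Nonempty (CohB1.tensorMod M (ClSub.idealMod σ.ker) ≅ L) →
      ∃ (x : 𝟙_ (Over (Spec (CommRingCat.of K))) ⟶ Over.mk (Ck ↘ Spec (CommRingCat.of K))) (p : Ck)
        (hp : IsClosed ({p} : Set Ck)), x.left.ker = CurvePoint.ptIdeal p hp ∧ g p = σ.base (IsLocalRing.closedPoint k) ∧
        PicF.cl ((Scheme.Modules.pullback g).obj M) * PicF.cl (CurvePoint.ptMod p hp) = PicF.cl Lk := by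
    intro σ hσ M hM hML
    let b : T ⟶ Over.mk f := PicCurve.Alb.basePt f σ hσ T
    let s : Spec (CommRingCat.of K) ⟶ Ck := PicCurve.Alb.sc b
    have hs : s ≫ (Ck ↘ Spec (CommRingCat.of K)) = 𝟙 _ := HilbDLib.sec_proj f T b.left (Over.w b)
    haveI : IsClosedImmersion (s ≫ (Ck ↘ Spec (CommRingCat.of K))) := by rw [hs]; infer_instance
    haveI : IsClosedImmersion s := IsClosedImmersion.of_comp s (Ck ↘ Spec (CommRingCat.of K))
    have hp : IsClosed ({s (IsLocalRing.closedPoint K)} : Set Ck) :=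
      (pointEquivClosedPoint (Ck ↘ Spec (CommRingCat.of K)) ⟨s, hs⟩).2
    haveI : Subsingleton (Spec (CommRingCat.of K)) := inferInstanceAs (Subsingleton (PrimeSpectrum K))
    have hker : s.ker = CurvePoint.ptIdeal (s (IsLocalRing.closedPoint K)) hp :=
      CanonDual.ker_eq_vanishingIdeal s (Set.ext fun q => ⟨fun ⟨t, ht⟩ => by
        rw [← ht, Subsingleton.elim t (IsLocalRing.closedPoint K)]; rfl,
        fun hq => ⟨_, (Set.mem_singleton_iff.1 hq).symm⟩⟩)
    refine ⟨Over.homMk s hs, s (IsLocalRing.closedPoint K), hp, hker, ?_, ?_⟩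
    · rw [← Scheme.Hom.comp_apply, show s ≫ g = b.left from HilbDLib.sec_fst f T b.left (Over.w b)]
      show σ.base (r.base _) = σ.base _
      congr 1
      exact @Subsingleton.elim (Spec (CommRingCat.of k)) (inferInstanceAs (Subsingleton (PrimeSpectrum k))) _ _
    · obtain ⟨e⟩ := hML
      have h1 : PicF.cl M * PicCurve.Alb.δ σ = PicF.cl L :=
        (H23.PicMul.cl_tensor _ _).symm.trans (H23.PicMul.cl_eq_iff.2 ⟨e⟩)
      have h2 := PicCurve.Alb.tw_δ f hdim σ hσ T
      have h3 := congrArg (PicF.pullCl g) h1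
      rw [H23.PicMul.pullCl_mul, show PicF.pullCl g (PicCurve.Alb.δ σ) = _ from h2] at h3
      rw [show CurvePoint.ptMod (s (IsLocalRing.closedPoint K)) hp = ClSub.idealMod s.ker by rw [hker]]
      refine Eq.trans ?_ h3
      exact congrArg (fun I => PicF.pullCl g (PicF.cl M) * PicF.cl (ClSub.idealMod I))
        (HilbDLib.secGraph_eq f T b.left (Over.w b)).symm
  let B : Set Ck := {p | ∃ (hp : IsClosed ({p} : Set Ck)) (M : Ck.Modules), PicF.IsInvertible M ∧
      PicF.cl M * PicF.cl (CurvePoint.ptMod p hp) = PicF.cl Lk ∧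
      Module.finrank K (Coh.HH Ck M 1) = Module.finrank K (Coh.HH Ck Lk 1)}
  have hB : B.Finite := PicCurve.Pts.finite_bad K hdimK hLk (by rw [hh L hL]; exact hL1)
  let S : Set C := {q | IsClosed ({q} : Set C) ∧ ∃ (σ : Spec (CommRingCat.of k) ⟶ C) (_ : σ ≫ f = 𝟙 _) (M : C.Modules),
      PicF.IsInvertible M ∧ Nonempty (CohB1.tensorMod M (ClSub.idealMod σ.ker) ≅ L) ∧
      σ.base (IsLocalRing.closedPoint k) = q ∧ Module.finrank k (Coh.HH C M 1) = Module.finrank k (Coh.HH C L 1)}
  have hS : S.Finite := (hB.image g).subset fun q ⟨_, σ, hσ, M, hM, hML, hq, hbad⟩ => by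
    obtain ⟨x, p, hp, -, hgp, hcl⟩ := key σ hσ M hM hML
    exact ⟨p, ⟨hp, _, PicClLib.isInvertible_pullback _ hM, hcl, by rw [hh M hM, hh L hL, hbad]⟩, hgp.trans hq⟩
  have hSc : IsClosed S := by
    rw [← Set.biUnion_of_singleton S]
    exact hS.isClosed_biUnion fun q hq => hq.1
  have hpt : ∀ σ : Spec (CommRingCat.of k) ⟶ C, σ ≫ f = 𝟙 _ → IsClosed ({σ.base (IsLocalRing.closedPoint k)} : Set C) := by
    intro σ hσ
    haveI : IsClosedImmersion (σ ≫ f) := by rw [hσ]; infer_instance
    haveI : IsClosedImmersion σ := IsClosedImmersion.of_comp σ f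
    haveI : Subsingleton (Spec (CommRingCat.of k)) := inferInstanceAs (Subsingleton (PrimeSpectrum k))
    convert σ.isClosedEmbedding.isClosed_range
    ext q
    exact ⟨fun hq => ⟨_, (Set.mem_singleton_iff.1 hq).symm⟩, fun ⟨t, ht⟩ => by
      rw [← ht, Subsingleton.elim t (IsLocalRing.closedPoint k)]; rfl⟩
  refine ⟨⟨Sᶜ, hSc.isOpen_compl⟩, ?_, fun σ hσ M hM hML => ⟨fun hU => ?_, fun hU => ?_⟩⟩
  · obtain ⟨q, -, hq⟩ := (Groth.Agent.HilbCurve.closedPoints_infinite f hdim).exists_notMem_finite hS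
    exact ⟨q, hq⟩
  · obtain ⟨x, p, hp, hker, -, hcl⟩ := key σ hσ M hM hML
    have h := PicCurve.Pts.h1_twist_cases K hdimK (PicClLib.isInvertible_pullback g hM) hLk x p hp hker hcl
    rw [hh M hM, hh L hL] at h
    rcases h with h | h
    · exact absurd ⟨hpt σ hσ, σ, hσ, M, hM, hML, rfl, h⟩ (hU (IsLocalRing.closedPoint k))
    · omega
  · obtain ⟨-, σ', hσ', M', hM', hML', hq, hbad⟩ := not_not.1 (hU (IsLocalRing.closedPoint k))
    -- rational points with the same image have the same ideal
    have hker : σ'.ker = σ.ker := by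
      haveI : IsClosedImmersion (σ' ≫ f) := by rw [hσ']; infer_instance
      haveI : IsClosedImmersion σ' := IsClosedImmersion.of_comp σ' f
      haveI : IsClosedImmersion (σ ≫ f) := by rw [hσ]; infer_instance
      haveI : IsClosedImmersion σ := IsClosedImmersion.of_comp σ f
      haveI : Subsingleton (Spec (CommRingCat.of k)) := inferInstanceAs (Subsingleton (PrimeSpectrum k))
      have hr : ∀ τ : Spec (CommRingCat.of k) ⟶ C, τ.base (IsLocalRing.closedPoint k) = σ.base (IsLocalRing.closedPoint k) →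
          Set.range τ = ({σ.base (IsLocalRing.closedPoint k)} : Set C) := fun τ hτ => Set.ext fun q =>
        ⟨fun ⟨t, ht⟩ => by rw [← ht, Subsingleton.elim t (IsLocalRing.closedPoint k)]; exact hτ,
          fun hq' => ⟨_, hτ.trans (Set.mem_singleton_iff.1 hq').symm⟩⟩
      rw [CanonDual.ker_eq_vanishingIdeal σ' (S := ⟨_, hpt σ hσ⟩) (hr σ' hq),
        CanonDual.ker_eq_vanishingIdeal σ (S := ⟨_, hpt σ hσ⟩) (hr σ rfl)]
    rw [← hbad]
    obtain ⟨e'⟩ := hML'
    obtain ⟨e⟩ := hML
    have hI : PicF.IsInvertibleCl (PicF.cl (ClSub.idealMod σ.ker)) := PicCurve.Alb.isInvertibleCl_δ f σ hσ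
    have h1 : PicF.cl M = PicF.cl M' := PicCurve.eq_of_invCl_mul hI (by
      rw [← H23.PicMul.cl_tensor, H23.PicMul.cl_eq_iff.2 ⟨e⟩, ← H23.PicMul.cl_eq_iff.2 ⟨e'⟩, hker, H23.PicMul.cl_tensor])
    obtain ⟨u⟩ := H23.PicMul.cl_eq_iff.1 h1
    exact (CurveCohLib.hhEquiv (k := k) u 1).finrank_eq

end Groth.Agent.S17807
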