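import Groth.Statements.S17808
import Groth.Agent.PicCurve.Pts.Generic
set_option linter.style.haveILetI false
set_option backward.isDefEq.respectTransparency false
set_option backward.isDefEq.respectTransparency.types false
set_option maxHeartbeats 1000000

set_option autoImplicit false
universe u
open CategoryTheory CategoryTheory.Limits AlgebraicGeometry
open JacVar
open MonoidalCategory CartesianMonoidalCategory
open scoped MonObj

namespace Groth.Agent.S17808

/-- Let C be a smooth proper connected curve of genus g > 0 over an algebraically closed field k (with a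
chosen point), and let r ≤ g. Then there is a nonempty open subset U of the r-fold fibre power C ×_k
⋯ ×_k C such that for every k-point (P_1, …, P_r) of U (closed points, k being algebraically closed)
and every invertible module M on C with M ⊗ I_{P_1} ⊗ ⋯ ⊗ I_{P_r} ≅ O_C (so M is O(P_1 + ⋯ + P_r)),
h⁰(C, M) = 1. (The published statement, over the ground field of the section, says only that U is
open; this row also asserts that U is non-empty; k is taken algebraically closed so that the
k-points of U are its closed points.) -/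
theorem result (k : Type u) [Field k] [IsAlgClosed k]
    (C : Scheme.{u}) [C.Over (Spec (CommRingCat.of k))]
    [IsProper (C ↘ Spec (CommRingCat.of k))] [Smooth (C ↘ Spec (CommRingCat.of k))] [GeometricallyConnected (C ↘ Spec (CommRingCat.of k))]
    (hdim : topologicalKrullDim ↥C = 1)
    (hg : 0 < Curv2.genus k C)
    (σ₀ : Spec (CommRingCat.of k) ⟶ C) (hσ₀ : σ₀ ≫ (C ↘ Spec (CommRingCat.of k)) = 𝟙 _)
    (r : ℕ) (hr : r ≤ Curv2.genus k C) :
    ∃ U : (SymProd.fibPow (C ↘ Spec (CommRingCat.of k)) r).Opens, (U : Set ↥(SymProd.fibPow (C ↘ Spec (CommRingCat.of k)) r)).Nonempty ∧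
      ∀ (x : Spec (CommRingCat.of k) ⟶ SymProd.fibPow (C ↘ Spec (CommRingCat.of k)) r)
        (hx : x ≫ WidePullback.base (fun (_ : Fin r) => (C ↘ Spec (CommRingCat.of k))) = 𝟙 _)
        (hxU : ∀ p, x.base p ∈ U) (M : C.Modules) (hM : PicF.IsInvertible M)
        (hMD : Nonempty (CohB1.tensorMod M (FGA.tensorList (List.ofFn fun i : Fin r =>
          ClSub.idealMod (x ≫ WidePullback.π (fun (_ : Fin r) => (C ↘ Spec (CommRingCat.of k))) i).ker)) ≅ Coh.structureModule C)),
        Module.finrank k (Coh.HH C M 0) = 1 := by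
  let f := C ↘ Spec (CommRingCat.of k)
  haveI : IsProper f := ‹_›
  haveI : Smooth f := ‹_›
  haveI : ConnectedSpace C := PicCurve.Alb.connectedSpace_of_geomConn f
  haveI : GeometricallyIntegral f := Groth.Agent.S7791.result f σ₀ hσ₀
  haveI : IsIntegral C := GeometricallyIntegral.isIntegral_of_subsingleton f
  haveI : SmoothOfRelativeDimension 1 f := Groth.Agent.HilbCurve.smoothOfRelativeDimension_one f hdim
  obtain ⟨J₀, ξ, hp, hsm, hi, hξ, huniv⟩ := Groth.Agent.PicCurve.exists_jacobian_field f hdim σ₀ hσ₀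
  haveI := hp; haveI := hsm; haveI := hi
  letI := PicCurve.jacGrpObj f hdim σ₀ hσ₀ ξ hξ huniv
  haveI := PicCurve.jac_isCommMonObj f hdim σ₀ hσ₀ ξ hξ huniv
  let aj := PicCurve.Alb.aj f hdim σ₀ hσ₀ ξ hξ huniv
  let O := PicCurve.Alb.goodU f σ₀ hσ₀ ξ
  obtain ⟨c, hc⟩ := PicCurve.Pts.exists_good_tuple hdim σ₀ hσ₀ ξ hξ huniv
  let m := Curv2.genus k C - r
  have hrm : Curv2.genus k C = r + m := by omega
  let y : Fin m → (𝟙_ (Over (Spec (CommRingCat.of k))) ⟶ Over.mk f) := fun i => c (Fin.cast hrm.symm (Fin.natAdd r i))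
  let x₀ : Fin r → (𝟙_ (Over (Spec (CommRingCat.of k))) ⟶ Over.mk f) := fun i => c (Fin.cast hrm.symm (Fin.castAdd m i))
  let b := (List.ofFn fun i => y i ≫ aj).prod
  let φ := PicCurve.Pts.sumMap f aj r ≫ Jac.transl J₀ b
  let P := Over.mk (WidePullback.base fun (_ : Fin r) => f)
  have hφ : ∀ q : 𝟙_ (Over (Spec (CommRingCat.of k))) ⟶ P, φ.left.base (PicCurve.Pts.pt q) =
      PicCurve.Pts.pt ((q ≫ PicCurve.Pts.sumMap f aj r) * b) := fun q => by
    rw [PicCurve.Pts.pt_comp, ← Category.assoc]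
    exact PicCurve.Pts.pt_transl _ b
  refine ⟨φ.left ⁻¹ᵁ O, ?_, fun x hx hxU M hM hMD => ?_⟩
  · let q : 𝟙_ (Over (Spec (CommRingCat.of k))) ⟶ P :=
      Over.homMk (WidePullback.lift (𝟙 _) (fun i => (x₀ i).left) (fun i => Over.w (x₀ i))) (WidePullback.lift_base _ _ _ _)
    refine ⟨PicCurve.Pts.pt q, ?_⟩
    show φ.left.base (PicCurve.Pts.pt q) ∈ O
    rw [hφ, PicCurve.Pts.comp_sumMap]
    have e : ∀ i, q ≫ (Over.homMk (WidePullback.π (fun (_ : Fin r) => f) i) (WidePullback.π_arrow (fun (_ : Fin r) => f) i) :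
        P ⟶ Over.mk f) = x₀ i := fun i => Over.OverMorphism.ext (WidePullback.lift_π _ _ _ _ _)
    simp only [e]
    rw [PicCurve.Pts.prod_ofFn_split (show PicCurve.Alb.gen f = r + m from hrm)] at hc
    exact hc
  · let q : 𝟙_ (Over (Spec (CommRingCat.of k))) ⟶ P := Over.homMk x hx
    let xs : Fin r → (𝟙_ (Over (Spec (CommRingCat.of k))) ⟶ Over.mk f) := fun i =>
      q ≫ Over.homMk (WidePullback.π (fun (_ : Fin r) => f) i) (WidePullback.π_arrow (fun (_ : Fin r) => f) i)
    have h1 : φ.left.base (PicCurve.Pts.pt q) ∈ O := hxU _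
    rw [hφ, PicCurve.Pts.comp_sumMap] at h1
    refine PicCurve.Pts.h0_eq_one_of_completion hdim σ₀ hσ₀ ξ hξ huniv hrm.symm xs y h1 hM ?_
    obtain ⟨e⟩ := hMD
    have h2 := (H23.PicMul.cl_tensor _ _).symm.trans (H23.PicMul.cl_eq_iff.2 ⟨e⟩)
    rw [PicCurve.Pts.cl_tensorList_ofFn] at h2
    exact h2.trans H23.PicMul.one_def.symm

end Groth.Agent.S17808
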