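import Groth.Statements.S17811
import Groth.Agent.PicCurve.Torelli.Curve
import Groth.Agent.PicCurve.Pts.Theta


set_option autoImplicit false
set_option backward.isDefEq.respectTransparency false
set_option backward.isDefEq.respectTransparency.types false
set_option maxHeartbeats 1000000
set_option linter.style.haveILetI false
set_option linter.unusedSectionVars false
attribute [-instance] CategoryTheory.catToReflQuiver
universe u
open CategoryTheory CategoryTheory.Limits AlgebraicGeometry MonoidalCategory CartesianMonoidalCategory MonObj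
open JacVar
open Groth.Agent.PicCurve Groth.Agent.PicCurve.Torelli Groth.Agent.PicCurve.Pts

namespace Groth.Agent.S17811

open Groth.Agent.PicCurve in
theorem sys_comap {G H : Type*} [CommGroup G] [TopologicalSpace G] [CommGroup H] [TopologicalSpace H] (e : G ≃* H)
    (he : Continuous e) (he' : Continuous e.symm) {g : ℕ} {W : ℕ → Set H} {κ : H} (S : Torelli.Sys g W κ) :
    Torelli.Sys g (fun n => e ⁻¹' W n) (e.symm κ) where
  closed n := (S.closed n).preimage he
  irred n := by
    have : e ⁻¹' W n = e.symm '' W n := by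
      ext z
      exact ⟨fun h => ⟨_, h, e.symm_apply_apply z⟩, fun ⟨w, hw, h⟩ => by
        rw [Set.mem_preimage, ← h, e.apply_symm_apply]; exact hw⟩
    rw [this]
    exact (S.irred n).image _ he'.continuousOn
  one_mem n := by simpa using S.one_mem n
  mul_mem {m n u v} hu hv := by simpa using S.mul_mem hu hv
  trans {n r} hnr u h := S.trans hnr (e u) fun v hv => by
    simpa using h (e.symm v) (by simpa using hv)
  invol u hu := by simpa using S.invol (e u) hu
  residual {r} hr {u y x} hu hy hx h := by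
    simpa using S.residual hr (u := e u) (y := e y) (x := e x) hu hy hx (by simpa using h)
  infinite := by
    have : e.symm '' W 1 ⊆ e ⁻¹' W 1 := by
      rintro _ ⟨w, hw, rfl⟩
      simpa using hw
    exact (S.infinite.image e.symm.injective.injOn).mono this
  curve Z hZ hinf := by
    intro z hz
    have h := S.curve (e.symm ⁻¹' Z) (hZ.preimage he') ((hinf.image e.injective.injOn).mono (by
      rintro _ ⟨w, ⟨hw, hw'⟩, rfl⟩
      exact ⟨hw, by simpa using hw'⟩)) hz
    simpa using h

/-- Torelli's statement. Let k be an algebraically closed field, C and C' smooth proper connected curves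
of the same genus g ≥ 2 over k with k-points P and P', (J, ψ) and (J', ψ') their Jacobians
(commutative group schemes over k which are coarse moduli schemes, on all k-schemes, for degree-0
line bundles modulo twisting from the base, group law induced by tensor product), j : C ⟶ J and j' :
C' ⟶ J' the Abel maps with base points P and P', and N, N' invertible modules of degree g − 1 on C
and C'. Let Θ ⊂ J and Θ' ⊂ J' be the theta loci of N and N' (closures of the loci of classes ξ with
a nonzero global section of ξ ⊗ N, resp. of ξ ⊗ N'); they are translates of the images of the (g −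
1)-st symmetric powers. Suppose β : J ≅ J' is an isomorphism of group schemes over k mapping Θ onto
the translate of Θ' by some k-point; this says that β respects the canonical principal
polarizations. Then there are an isomorphism α : C ≅ C' over k, a k-point c of J' and a sign s ∈ {1,
−1} such that j' ∘ α = (β ∘ j)^s · c in the group of morphisms C ⟶ J'. (The published statement does
not restrict the genus; this row assumes g ≥ 2.) -/
theorem result (k : Type u) [Field k] [IsAlgClosed k]
    (C : Scheme.{u}) [C.Over (Spec (CommRingCat.of k))]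
    [IsProper (C ↘ Spec (CommRingCat.of k))] [Smooth (C ↘ Spec (CommRingCat.of k))] [GeometricallyConnected (C ↘ Spec (CommRingCat.of k))]
    (hdim : topologicalKrullDim ↥C = 1)
    (C' : Scheme.{u}) [C'.Over (Spec (CommRingCat.of k))]
    [IsProper (C' ↘ Spec (CommRingCat.of k))] [Smooth (C' ↘ Spec (CommRingCat.of k))] [GeometricallyConnected (C' ↘ Spec (CommRingCat.of k))]
    (hdim' : topologicalKrullDim ↥C' = 1)
    (g : ℕ) (hg : Curv2.genus k C = g) (hg' : Curv2.genus k C' = g) (hg2 : 2 ≤ g)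
    (σ : Spec (CommRingCat.of k) ⟶ C) (hσ : σ ≫ (C ↘ Spec (CommRingCat.of k)) = 𝟙 _) (σ' : Spec (CommRingCat.of k) ⟶ C') (hσ' : σ' ≫ (C' ↘ Spec (CommRingCat.of k)) = 𝟙 _)
    (J : Over (Spec (CommRingCat.of k))) [GrpObj J] [IsCommMonObj J]
    (ψ : (ModFun.PicDeg (C ↘ Spec (CommRingCat.of k)) 0).Hom ⊤ J) (hJ : Jac.IsJacobian (C ↘ Spec (CommRingCat.of k)) ⊤ J ψ)
    (J' : Over (Spec (CommRingCat.of k))) [GrpObj J'] [IsCommMonObj J']
    (ψ' : (ModFun.PicDeg (C' ↘ Spec (CommRingCat.of k)) 0).Hom ⊤ J') (hJ' : Jac.IsJacobian (C' ↘ Spec (CommRingCat.of k)) ⊤ J' ψ')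
    (j : Over.mk (C ↘ Spec (CommRingCat.of k)) ⟶ J) (hj : Jac.IsAbelJacobiAt (C ↘ Spec (CommRingCat.of k)) σ ψ j)
    (j' : Over.mk (C' ↘ Spec (CommRingCat.of k)) ⟶ J') (hj' : Jac.IsAbelJacobiAt (C' ↘ Spec (CommRingCat.of k)) σ' ψ' j')
    (N : C.Modules) (hN : PicF.IsInvertible N) (hNdeg : Curv2.deg k C N 1 = (g : ℤ) - 1)
    (N' : C'.Modules) (hN' : PicF.IsInvertible N') (hNdeg' : Curv2.deg k C' N' 1 = (g : ℤ) - 1)
    (β : J ≅ J') [IsMonHom β.hom] (c₀ : 𝟙_ (Over (Spec (CommRingCat.of k))) ⟶ J')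
    (hβ : β.hom.left.base '' Jac.thetaLocus (C ↘ Spec (CommRingCat.of k)) 0 ψ N =
      (Jac.transl J' c₀).left.base ⁻¹' Jac.thetaLocus (C' ↘ Spec (CommRingCat.of k)) 0 ψ' N') :
    ∃ (α : C ≅ C') (hα : α.hom ≫ (C' ↘ Spec (CommRingCat.of k)) = (C ↘ Spec (CommRingCat.of k))) (c : 𝟙_ (Over (Spec (CommRingCat.of k))) ⟶ J') (s : ℤ),
      (s = 1 ∨ s = -1) ∧
      Over.homMk α.hom hα ≫ j' = (j ≫ β.hom) ^ s * (toUnit (Over.mk (C ↘ Spec (CommRingCat.of k))) ≫ c) := by
  classical
  let P : Over (Spec (CommRingCat.of k)) := 𝟙_ _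
  let f := C ↘ Spec (CommRingCat.of k)
  let f' := C' ↘ Spec (CommRingCat.of k)
  haveI : IsMonHom β.inv := Groth.Agent.PicCurve.Alb.isMonHom_inv β
  obtain ⟨hpJ, -⟩ := Groth.Agent.PicCurve.Pts.coarse_facts C hdim σ hσ hJ hj
  obtain ⟨hpJ', -⟩ := Groth.Agent.PicCurve.Pts.coarse_facts C' hdim' σ' hσ' hJ' hj'
  haveI := hpJ; haveI := hpJ'
  obtain ⟨κ, S, -, -, hmono⟩ := exists_sys C hdim σ hσ hJ hj hg hg2
  obtain ⟨κ', S', Su', -, hmono'⟩ := exists_sys C' hdim' σ' hσ' hJ' hj' hg' hg2
  haveI := hmono; haveI := hmono'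
  obtain ⟨n0, hn0⟩ := thetaLocus_pts C hdim σ hσ hJ hj hN (by rw [hg]; exact hNdeg) (by omega)
  obtain ⟨n0', hn0'⟩ := thetaLocus_pts C' hdim' σ' hσ' hJ' hj' hN' (by rw [hg']; exact hNdeg') (by omega)
  rw [hg] at hn0
  rw [hg'] at hn0'
  -- transport of points along β
  let e : (P ⟶ J') ≃* (P ⟶ J) :=
    { toFun := fun z => z ≫ β.inv
      invFun := fun z => z ≫ β.hom
      left_inv := fun z => by simp
      right_inv := fun z => by simp
      map_mul' := fun a b => MonObj.mul_comp a b β.inv }
  have hec : Continuous e := continuous_induced_rng.2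
    (β.inv.left.continuous.comp (continuous_induced_dom (f := pt (Y := J'))))
  have hec' : Continuous e.symm := continuous_induced_rng.2
    (β.hom.left.continuous.comp (continuous_induced_dom (f := pt (Y := J))))
  have ht : ∀ z : P ⟶ J', e z ∈ WJ f j (g - 1) ↔ z * ((n0 ≫ β.hom)⁻¹ * c₀ * n0') ∈ WJ f' j' (g - 1) := by
    intro z
    let a := z * (n0 ≫ β.hom)⁻¹
    have h1 : pt a ∈ β.hom.left.base '' Jac.thetaLocus f 0 ψ N ↔ pt (a ≫ β.inv) ∈ Jac.thetaLocus f 0 ψ N := by
      constructor
      · rintro ⟨w, hw, hwa⟩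
        have : β.inv.left.base (pt a) = w := by
          rw [← hwa]
          exact congr($(β.hom_inv_id).left w)
        rw [← pt_comp, this]
        exact hw
      · intro h
        refine ⟨_, h, ?_⟩
        rw [pt_comp, Category.assoc, β.inv_hom_id, Category.comp_id]
    have h2 : pt (a ≫ β.inv) ∈ Jac.thetaLocus f 0 ψ N ↔ pt (a * c₀) ∈ Jac.thetaLocus f' 0 ψ' N' := by
      rw [← h1, hβ, Set.mem_preimage, pt_transl]
    rw [hn0, hn0'] at h2
    have e1 : (a ≫ β.inv) * n0 = e z := by
      show (a ≫ β.inv) * n0 = z ≫ β.inv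
      have : n0 = (n0 ≫ β.hom) ≫ β.inv := by simp
      conv_lhs => rw [this, ← MonObj.mul_comp, inv_mul_cancel_right]
    rw [← e1, h2]
    simp only [a, _root_.mul_assoc]
    rfl
  obtain ⟨c, hc⟩ := exists_eq_translate contPow hg2 S' Su' (sys_comap e hec hec' S) ht
  -- the two curves have the same image
  let P₁ := Over.mk f
  obtain ⟨d, s, hs, hset⟩ : ∃ (d : P ⟶ J') (s : ℤ), (s = 1 ∨ s = -1) ∧ ∀ q : P ⟶ J', q ∈ WJ f' j' 1 ↔
      ∃ x : P ⟶ P₁, q = (x ≫ j ≫ β.hom) ^ s * d := by
    have hW1 : ∀ z : P ⟶ J', e z ∈ WJ f j 1 ↔ ∃ x : P ⟶ P₁, z = x ≫ j ≫ β.hom := fun z => by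
      constructor
      · rintro ⟨x, hx⟩
        rw [List.ofFn_succ, List.ofFn_zero, List.prod_singleton] at hx
        refine ⟨x 0, ?_⟩
        rw [← Category.assoc, ← hx]
        exact (e.symm_apply_apply z).symm
      · rintro ⟨x, rfl⟩
        refine ⟨fun _ => x, ?_⟩
        rw [List.ofFn_succ, List.ofFn_zero, List.prod_singleton]
        show (x ≫ j ≫ β.hom) ≫ β.inv = _
        simp
    rcases hc with hc | hc
    · refine ⟨c, 1, Or.inl rfl, fun q => ?_⟩
      rw [hc]
      refine (hW1 _).trans (exists_congr fun x => ?_)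
      rw [zpow_one, mul_inv_eq_iff_eq_mul]
    · refine ⟨c⁻¹, -1, Or.inr rfl, fun q => ?_⟩
      rw [hc]
      refine (hW1 _).trans (exists_congr fun x => ?_)
      rw [zpow_neg_one, ← mul_inv, inv_eq_iff_eq_inv, ← eq_mul_inv_iff_mul_eq, mul_inv]
  let h : P₁ ⟶ J' := (j ≫ β.hom) ^ s * (toUnit P₁ ≫ d)
  have hcomp : ∀ x : P ⟶ P₁, x ≫ h = (x ≫ j ≫ β.hom) ^ s * d := fun x => by
    show x ≫ ((j ≫ β.hom) ^ s * (toUnit P₁ ≫ d)) = _
    rw [MonObj.comp_mul, GrpObj.comp_zpow, ← Category.assoc x (toUnit P₁), toUnit_unique (x ≫ toUnit P₁) (𝟙 _),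
      Category.id_comp]
  haveI : Mono h := ⟨fun {T} x y hxy => by
    have hxy' : x ≫ ((j ≫ β.hom) ^ s * (toUnit P₁ ≫ d)) = y ≫ ((j ≫ β.hom) ^ s * (toUnit P₁ ≫ d)) := hxy
    rw [MonObj.comp_mul, MonObj.comp_mul, GrpObj.comp_zpow, GrpObj.comp_zpow, ← Category.assoc x (toUnit P₁),
      ← Category.assoc y (toUnit P₁), toUnit_unique (x ≫ toUnit P₁) (y ≫ toUnit P₁), mul_left_inj] at hxy'
    rcases hs with rfl | rfl
    · rw [zpow_one, zpow_one] at hxy'
      exact (cancel_mono (j ≫ β.hom)).1 hxy'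
    · rw [zpow_neg_one, zpow_neg_one, inv_inj] at hxy'
      exact (cancel_mono (j ≫ β.hom)).1 hxy'⟩
  haveI : ConnectedSpace C := Groth.Agent.PicCurve.Alb.connectedSpace_of_geomConn f
  haveI : ConnectedSpace C' := Groth.Agent.PicCurve.Alb.connectedSpace_of_geomConn f'
  haveI : GeometricallyIntegral f := Groth.Agent.S7791.result f σ hσ
  haveI : GeometricallyIntegral f' := Groth.Agent.S7791.result f' σ' hσ'
  haveI : IsIntegral C := GeometricallyIntegral.isIntegral_of_subsingleton f
  haveI : IsIntegral C' := GeometricallyIntegral.isIntegral_of_subsingleton f'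
  have hci : ∀ {A : Over (Spec (CommRingCat.of k))} [IsProper A.hom] (φ : A ⟶ J') [Mono φ],
      IsClosedImmersion φ.left := fun {A} _ φ _ => by
    haveI : Mono φ.left := ⟨fun {Z} a b hab => by
      let T : Over (Spec (CommRingCat.of k)) := Over.mk (a ≫ A.hom)
      let a' : T ⟶ A := Over.homMk a rfl
      let b' : T ⟶ A := Over.homMk b (by
        show b ≫ A.hom = a ≫ A.hom
        rw [← Over.w φ, reassoc_of% hab])
      exact congr($((cancel_mono φ).1 (show a' ≫ φ = b' ≫ φ from Over.OverMorphism.ext hab)).left)⟩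
    haveI : IsProper (φ.left ≫ J'.hom) := by rw [Over.w φ]; infer_instance
    haveI : IsProper φ.left := IsProper.of_comp φ.left J'.hom
    exact (IsClosedImmersion.iff_isProper_and_mono φ.left).2 ⟨inferInstance, inferInstance⟩
  haveI : IsProper P₁.hom := inferInstanceAs (IsProper f)
  haveI : IsProper (Over.mk f').hom := inferInstanceAs (IsProper f')
  haveI : IsClosedImmersion h.left := hci h
  haveI : IsClosedImmersion j'.left := hci j'
  haveI : LocallyOfFiniteType P₁.hom := inferInstanceAs (LocallyOfFiniteType f)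
  haveI : LocallyOfFiniteType (Over.mk f').hom := inferInstanceAs (LocallyOfFiniteType f')
  have hrange : Set.range h.left = Set.range j'.left := by
    have key : ∀ {A : Over (Spec (CommRingCat.of k))} [LocallyOfFiniteType A.hom] (φ : A ⟶ J')
        [IsClosedImmersion φ.left] (a : P ⟶ J'),
        pt a ∈ Set.range φ.left ↔ ∃ x : P ⟶ A, a = x ≫ φ := fun {A} _ φ _ a => by
      constructor
      · rintro ⟨w, hw⟩
        have hcl : IsClosed ({pt a} : Set J'.left) := (pointEquivClosedPoint J'.hom ⟨a.left, Over.w a⟩).2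
        have hwc : IsClosed ({w} : Set A.left) := by
          have : ({w} : Set A.left) = φ.left ⁻¹' {pt a} := by
            ext v
            simp only [Set.mem_singleton_iff, Set.mem_preimage, ← hw]
            exact ⟨fun hv => hv ▸ rfl, fun hv => φ.left.isClosedEmbedding.injective hv⟩
          rw [this]
          exact hcl.preimage φ.left.continuous
        obtain ⟨x, rfl⟩ := exists_pt (Y := A) hwc
        exact ⟨x, (pt_injective ((pt_comp x φ).symm.trans hw)).symm⟩
      · rintro ⟨x, rfl⟩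
        exact ⟨pt x, pt_comp x φ⟩
    have hiff : ∀ a : P ⟶ J', pt a ∈ Set.range h.left ↔ pt a ∈ Set.range j'.left := fun a => by
      rw [key h, key j']
      constructor
      · rintro ⟨x, hx⟩
        obtain ⟨y, hy⟩ := (hset a).2 ⟨x, by rw [hx, hcomp]⟩
        exact ⟨y 0, by rw [hy, List.ofFn_succ, List.ofFn_zero, List.prod_singleton]⟩
      · rintro ⟨y, hy⟩
        obtain ⟨x, hx⟩ := (hset a).1 ⟨fun _ => y, by rw [List.ofFn_succ, List.ofFn_zero, List.prod_singleton]; exact hy⟩
        exact ⟨x, by rw [hcomp]; exact hx⟩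
    exact Set.Subset.antisymm
      (subset_of_pts h.left.isClosedEmbedding.isClosed_range j'.left.isClosedEmbedding.isClosed_range fun a => (hiff a).1)
      (subset_of_pts j'.left.isClosedEmbedding.isClosed_range h.left.isClosedEmbedding.isClosed_range fun a => (hiff a).2)
  haveI : IsReduced P₁.left := inferInstanceAs (IsReduced C)
  haveI : IsReduced (Over.mk f').left := inferInstanceAs (IsReduced C')
  let S₀ : TopologicalSpace.Closeds J'.left := ⟨Set.range j'.left, j'.left.isClosedEmbedding.isClosed_range⟩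
  have hker : h.left.ker = j'.left.ker := by
    rw [Groth.Agent.CanonDual.ker_eq_vanishingIdeal h.left (S := S₀) hrange,
      Groth.Agent.CanonDual.ker_eq_vanishingIdeal j'.left (S := S₀) rfl]
  let α₀ : P₁.left ⟶ (Over.mk f').left := IsClosedImmersion.lift j'.left h.left hker.ge
  haveI : IsIso α₀ :=
    IsClosedImmersion.isIso_of_ker_eq h.left j'.left α₀ (IsClosedImmersion.lift_fac _ _ _) hker
  let α : C ≅ C' := asIso α₀
  have hα : α.hom ≫ f' = f := by
    have h1 : α₀ ≫ j'.left = h.left := IsClosedImmersion.lift_fac _ _ _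
    show α₀ ≫ (Over.mk f').hom = P₁.hom
    rw [← Over.w j', ← Category.assoc, h1, Over.w h]
  exact ⟨α, hα, d, s, hs, Over.OverMorphism.ext (IsClosedImmersion.lift_fac _ _ _)⟩

end Groth.Agent.S17811
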