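import Groth.Statements.S17812
import Groth.Agent.PicCurve.Pts.Main
set_option linter.style.haveILetI false
set_option backward.isDefEq.respectTransparency false
set_option backward.isDefEq.respectTransparency.types false

set_option autoImplicit false
universe u
open CategoryTheory CategoryTheory.Limits AlgebraicGeometry MonoidalCategory CartesianMonoidalCategory MonObj
open JacVar

namespace Groth.Agent.S17812

/-- Let k be an algebraically closed field, C a smooth proper connected curve of genus g ≥ 2 over k with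
a k-point P, (J, ψ) its Jacobian (a commutative group scheme over k, coarse moduli scheme on all
k-schemes for degree-0 line bundles modulo twisting from the base, group law induced by tensor
product) and j : C ⟶ J the Abel map with base point P. Write W^r ⊂ J for the image of the r-fold
product C ×_k ⋯ ×_k C under (x_1, …, x_r) ↦ j(x_1) ⋯ j(x_r) (the image of the r-th symmetric power;
W^0 is the origin), and W^r_a for its translate by a k-point a of J. Then for 0 ≤ r ≤ g − 1 and
k-points a, b of J one has W^r_a ⊆ W^{g−1}_b if and only if a lies in W^{g−1−r}_b (inclusions of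
sets of points of J). -/
theorem result (k : Type u) [Field k] [IsAlgClosed k]
    (C : Scheme.{u}) [C.Over (Spec (CommRingCat.of k))]
    [IsProper (C ↘ Spec (CommRingCat.of k))] [Smooth (C ↘ Spec (CommRingCat.of k))] [GeometricallyConnected (C ↘ Spec (CommRingCat.of k))]
    (hdim : topologicalKrullDim ↥C = 1)
    (g : ℕ) (hg : Curv2.genus k C = g) (hg2 : 2 ≤ g)
    (σ : Spec (CommRingCat.of k) ⟶ C) (hσ : σ ≫ (C ↘ Spec (CommRingCat.of k)) = 𝟙 _)
    (J : Over (Spec (CommRingCat.of k))) [GrpObj J] [IsCommMonObj J]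
    (ψ : (ModFun.PicDeg (C ↘ Spec (CommRingCat.of k)) 0).Hom ⊤ J) (hJ : Jac.IsJacobian (C ↘ Spec (CommRingCat.of k)) ⊤ J ψ)
    (j : Over.mk (C ↘ Spec (CommRingCat.of k)) ⟶ J) (hj : Jac.IsAbelJacobiAt (C ↘ Spec (CommRingCat.of k)) σ ψ j)
    (r : ℕ) (hr : r ≤ g - 1) (a b : 𝟙_ (Over (Spec (CommRingCat.of k))) ⟶ J) :
    ((Jac.transl J a).left.base '' Set.range ((List.ofFn fun i : Fin r =>
        (Over.homMk (WidePullback.π (fun (_ : Fin r) => (C ↘ Spec (CommRingCat.of k))) i)
          (WidePullback.π_arrow (fun (_ : Fin r) => (C ↘ Spec (CommRingCat.of k))) i) : Over.mk (WidePullback.base fun (_ : Fin r) => (C ↘ Spec (CommRingCat.of k))) ⟶ Over.mk (C ↘ Spec (CommRingCat.of k))) ≫ j).prod).left.base) ⊆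
      ((Jac.transl J b).left.base '' Set.range ((List.ofFn fun i : Fin (g - 1) =>
        (Over.homMk (WidePullback.π (fun (_ : Fin (g - 1)) => (C ↘ Spec (CommRingCat.of k))) i)
          (WidePullback.π_arrow (fun (_ : Fin (g - 1)) => (C ↘ Spec (CommRingCat.of k))) i) : Over.mk (WidePullback.base fun (_ : Fin (g - 1)) => (C ↘ Spec (CommRingCat.of k))) ⟶ Over.mk (C ↘ Spec (CommRingCat.of k))) ≫ j).prod).left.base) ↔
    ∀ p, a.left.base p ∈ ((Jac.transl J b).left.base '' Set.range ((List.ofFn fun i : Fin (g - 1 - r) =>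
        (Over.homMk (WidePullback.π (fun (_ : Fin (g - 1 - r)) => (C ↘ Spec (CommRingCat.of k))) i)
          (WidePullback.π_arrow (fun (_ : Fin (g - 1 - r)) => (C ↘ Spec (CommRingCat.of k))) i) : Over.mk (WidePullback.base fun (_ : Fin (g - 1 - r)) => (C ↘ Spec (CommRingCat.of k))) ⟶ Over.mk (C ↘ Spec (CommRingCat.of k))) ≫ j).prod).left.base) := by
  let f := C ↘ Spec (CommRingCat.of k)
  haveI : IsProper f := ‹_›
  obtain ⟨hp, -⟩ := PicCurve.Pts.coarse_facts C hdim σ hσ hJ hj
  haveI := hp
  have hkey := PicCurve.Pts.translate_subset_iff C hdim σ hσ hJ hj (n := g - 1 - r) (r := r) (by omega) (a * b⁻¹)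
  rw [show g - 1 - r + r = g - 1 by omega] at hkey
  rw [PicCurve.Pts.forall_mem_iff, PicCurve.Pts.pt_mem_image_transl]
  refine Iff.trans ?_ ((hkey.trans (PicCurve.Pts.mem_range_sumMap f j (g - 1 - r) _).symm))
  constructor
  · intro h x hx
    have h1 : PicCurve.Pts.pt (x * a) ∈ (Jac.transl J a).left.base '' Set.range (PicCurve.Pts.sumMap f j r).left.base := by
      rw [PicCurve.Pts.pt_mem_image_transl, mul_inv_cancel_right]
      exact (PicCurve.Pts.mem_range_sumMap f j r x).2 hx
    have h2 := h h1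
    rw [PicCurve.Pts.pt_mem_image_transl] at h2
    rw [_root_.mul_right_comm, _root_.mul_comm a x]
    exact (PicCurve.Pts.mem_range_sumMap f j (g - 1) _).1 h2
  · intro h
    refine PicCurve.Pts.subset_of_pts (PicCurve.Pts.isClosed_image_transl a (PicCurve.Pts.isClosed_range_sumMap f j r))
      (PicCurve.Pts.isClosed_image_transl b (PicCurve.Pts.isClosed_range_sumMap f j (g - 1))) fun c hc => ?_
    rw [PicCurve.Pts.pt_mem_image_transl] at hc ⊢
    have h1 := (PicCurve.Pts.mem_range_sumMap f j r _).1 hc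
    have h2 := h _ h1
    rw [show a * b⁻¹ * (c * a⁻¹) = c * b⁻¹ by
      rw [_root_.mul_comm (a * b⁻¹), _root_.mul_assoc c, ← _root_.mul_assoc a⁻¹, inv_mul_cancel, _root_.one_mul]] at h2
    exact (PicCurve.Pts.mem_range_sumMap f j (g - 1) _).2 h2

end Groth.Agent.S17812
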