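import Groth.Statements.S17813
import Groth.Agent.PicCurve.Pts.Main
set_option linter.style.haveILetI false
set_option backward.isDefEq.respectTransparency false
set_option backward.isDefEq.respectTransparency.types false

set_option autoImplicit false
universe u
open CategoryTheory CategoryTheory.Limits AlgebraicGeometry MonoidalCategory CartesianMonoidalCategory MonObj
open JacVar

namespace Groth.Agent.S17813

/-- Let k be an algebraically closed field, C a smooth proper connected curve of genus g ≥ 2 over k with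
a k-point P, (J, ψ) its Jacobian (a commutative group scheme over k, coarse moduli scheme on all
k-schemes for degree-0 line bundles modulo twisting from the base, group law induced by tensor
product) and j : C ⟶ J the Abel map with base point P. Write W^r ⊂ J for the image of the r-fold
product C ×_k ⋯ ×_k C under (x_1, …, x_r) ↦ j(x_1) ⋯ j(x_r) (the image of the r-th symmetric power;
W^0 is the origin), and W^r_a for its translate by a k-point a of J. Then for 0 ≤ r ≤ g − 1 the set
W^{g−1−r} is the intersection of the translates W^{g−1}_{a⁻¹} over all k-points a of J lying in W^r.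
(The companion equality for the images under x ↦ κ·x⁻¹, κ the image of a canonical divisor, is not
stated.) -/
theorem result (k : Type u) [Field k] [IsAlgClosed k]
    (C : Scheme.{u}) [C.Over (Spec (CommRingCat.of k))]
    [IsProper (C ↘ Spec (CommRingCat.of k))] [Smooth (C ↘ Spec (CommRingCat.of k))] [GeometricallyConnected (C ↘ Spec (CommRingCat.of k))]
    (hdim : topologicalKrullDim ↥C = 1)
    (g : ℕ) (hg : Curv2.genus k C = g) (hg2 : 2 ≤ g)
    (σ : Spec (CommRingCat.of k) ⟶ C) (hσ : σ ≫ (C ↘ Spec (CommRingCat.of k)) = 𝟙 _)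
    (J : Over (Spec (CommRingCat.of k))) [GrpObj J] [IsCommMonObj J]
    (ψ : (ModFun.PicDeg (C ↘ Spec (CommRingCat.of k)) 0).Hom ⊤ J) (hJ : Jac.IsJacobian (C ↘ Spec (CommRingCat.of k)) ⊤ J ψ)
    (j : Over.mk (C ↘ Spec (CommRingCat.of k)) ⟶ J) (hj : Jac.IsAbelJacobiAt (C ↘ Spec (CommRingCat.of k)) σ ψ j)
    (r : ℕ) (hr : r ≤ g - 1) :
    Set.range ((List.ofFn fun i : Fin (g - 1 - r) =>
        (Over.homMk (WidePullback.π (fun (_ : Fin (g - 1 - r)) => (C ↘ Spec (CommRingCat.of k))) i)
          (WidePullback.π_arrow (fun (_ : Fin (g - 1 - r)) => (C ↘ Spec (CommRingCat.of k))) i) : Over.mk (WidePullback.base fun (_ : Fin (g - 1 - r)) => (C ↘ Spec (CommRingCat.of k))) ⟶ Over.mk (C ↘ Spec (CommRingCat.of k))) ≫ j).prod).left.base =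
      ⋂ (a : 𝟙_ (Over (Spec (CommRingCat.of k))) ⟶ J) (_ : ∀ p, a.left.base p ∈ Set.range ((List.ofFn fun i : Fin r =>
        (Over.homMk (WidePullback.π (fun (_ : Fin r) => (C ↘ Spec (CommRingCat.of k))) i)
          (WidePullback.π_arrow (fun (_ : Fin r) => (C ↘ Spec (CommRingCat.of k))) i) : Over.mk (WidePullback.base fun (_ : Fin r) => (C ↘ Spec (CommRingCat.of k))) ⟶ Over.mk (C ↘ Spec (CommRingCat.of k))) ≫ j).prod).left.base),
        ((Jac.transl J a⁻¹).left.base '' Set.range ((List.ofFn fun i : Fin (g - 1) =>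
        (Over.homMk (WidePullback.π (fun (_ : Fin (g - 1)) => (C ↘ Spec (CommRingCat.of k))) i)
          (WidePullback.π_arrow (fun (_ : Fin (g - 1)) => (C ↘ Spec (CommRingCat.of k))) i) : Over.mk (WidePullback.base fun (_ : Fin (g - 1)) => (C ↘ Spec (CommRingCat.of k))) ⟶ Over.mk (C ↘ Spec (CommRingCat.of k))) ≫ j).prod).left.base) := by
  let f := C ↘ Spec (CommRingCat.of k)
  haveI : IsProper f := ‹_›
  obtain ⟨hp, -⟩ := PicCurve.Pts.coarse_facts C hdim σ hσ hJ hj
  haveI := hp
  have hkey := fun c => PicCurve.Pts.translate_subset_iff C hdim σ hσ hJ hj (n := g - 1 - r) (r := r) (by omega) c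
  simp only [show g - 1 - r + r = g - 1 by omega] at hkey
  refine Set.Subset.antisymm (Set.subset_iInter₂ fun a ha => ?_) ?_
  · rw [PicCurve.Pts.forall_mem_iff] at ha
    refine PicCurve.Pts.subset_of_pts (PicCurve.Pts.isClosed_range_sumMap f j _)
      (PicCurve.Pts.isClosed_image_transl a⁻¹ (PicCurve.Pts.isClosed_range_sumMap f j _)) fun c hc => ?_
    rw [PicCurve.Pts.pt_mem_image_transl, inv_inv]
    exact (PicCurve.Pts.mem_range_sumMap f j _ _).2
      ((hkey c).2 ((PicCurve.Pts.mem_range_sumMap f j _ c).1 hc) a ((PicCurve.Pts.mem_range_sumMap f j _ a).1 ha))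
  · refine PicCurve.Pts.subset_of_pts (isClosed_iInter fun a => isClosed_iInter fun _ =>
      PicCurve.Pts.isClosed_image_transl a⁻¹ (PicCurve.Pts.isClosed_range_sumMap f j _))
      (PicCurve.Pts.isClosed_range_sumMap f j _) fun c hc => ?_
    refine (PicCurve.Pts.mem_range_sumMap f j _ c).2 ((hkey c).1 fun x hx => ?_)
    have h1 := Set.mem_iInter₂.1 hc x ((PicCurve.Pts.forall_mem_iff x _).2 ((PicCurve.Pts.mem_range_sumMap f j _ x).2 hx))
    rw [PicCurve.Pts.pt_mem_image_transl, inv_inv] at h1
    exact (PicCurve.Pts.mem_range_sumMap f j _ _).1 h1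

end Groth.Agent.S17813
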