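import Groth.Statements.S19877
import Groth.Agent.PicCurve.Alb.NoTrans
set_option linter.style.haveILetI false
set_option backward.isDefEq.respectTransparency false
set_option backward.isDefEq.respectTransparency.types false

set_option autoImplicit false
universe u
open CategoryTheory CategoryTheory.Limits AlgebraicGeometry MonoidalCategory CartesianMonoidalCategory MonObj
open JacVar

namespace Groth.Agent.S19877

/-- Let k be an algebraically closed field, C and C' smooth proper connected curves of the same genus g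
≥ 2 over k with k-points P and P', (J, ψ) and (J', ψ') their Jacobians (commutative group schemes
over k, coarse moduli schemes on all k-schemes for degree-0 line bundles modulo twisting from the
base, group law induced by tensor product), j and j' the Abel maps with base points P and P', and β
: J ≅ J' an isomorphism of group schemes over k. Fix a sign s ∈ {1, −1}. If isomorphisms α₁, α₂ : C
≅ C' over k and k-points c₁, c₂ of J' satisfy j' ∘ α_i = (β ∘ j)^s · c_i for i = 1, 2 (group of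
morphisms C ⟶ J'), then α₁ = α₂ and c₁ = c₂. This holds whether or not C is hyperelliptic; for C not
hyperelliptic the sign is determined as well, which is a separate statement. (The published
statement takes β an isomorphism of the canonically polarized Jacobians; this row allows any
isomorphism of group schemes β.) -/
theorem result (k : Type u) [Field k] [IsAlgClosed k]
    (C : Scheme.{u}) [C.Over (Spec (CommRingCat.of k))]
    [IsProper (C ↘ Spec (CommRingCat.of k))] [Smooth (C ↘ Spec (CommRingCat.of k))] [GeometricallyConnected (C ↘ Spec (CommRingCat.of k))]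
    (hdim : topologicalKrullDim ↥C = 1)
    (C' : Scheme.{u}) [C'.Over (Spec (CommRingCat.of k))]
    [IsProper (C' ↘ Spec (CommRingCat.of k))] [Smooth (C' ↘ Spec (CommRingCat.of k))] [GeometricallyConnected (C' ↘ Spec (CommRingCat.of k))]
    (hdim' : topologicalKrullDim ↥C' = 1)
    (g : ℕ) (hg : Curv2.genus k C = g) (hg' : Curv2.genus k C' = g) (hg2 : 2 ≤ g)
    (σ : Spec (CommRingCat.of k) ⟶ C) (hσ : σ ≫ (C ↘ Spec (CommRingCat.of k)) = 𝟙 _) (σ' : Spec (CommRingCat.of k) ⟶ C') (hσ' : σ' ≫ (C' ↘ Spec (CommRingCat.of k)) = 𝟙 _)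
    (J : Over (Spec (CommRingCat.of k))) [GrpObj J] [IsCommMonObj J]
    (ψ : (ModFun.PicDeg (C ↘ Spec (CommRingCat.of k)) 0).Hom ⊤ J) (hJ : Jac.IsJacobian (C ↘ Spec (CommRingCat.of k)) ⊤ J ψ)
    (J' : Over (Spec (CommRingCat.of k))) [GrpObj J'] [IsCommMonObj J']
    (ψ' : (ModFun.PicDeg (C' ↘ Spec (CommRingCat.of k)) 0).Hom ⊤ J') (hJ' : Jac.IsJacobian (C' ↘ Spec (CommRingCat.of k)) ⊤ J' ψ')
    (j : Over.mk (C ↘ Spec (CommRingCat.of k)) ⟶ J) (hj : Jac.IsAbelJacobiAt (C ↘ Spec (CommRingCat.of k)) σ ψ j)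
    (j' : Over.mk (C' ↘ Spec (CommRingCat.of k)) ⟶ J') (hj' : Jac.IsAbelJacobiAt (C' ↘ Spec (CommRingCat.of k)) σ' ψ' j')
    (β : J ≅ J') [IsMonHom β.hom]
    (α₁ α₂ : C ≅ C') (hα₁ : α₁.hom ≫ (C' ↘ Spec (CommRingCat.of k)) = (C ↘ Spec (CommRingCat.of k))) (hα₂ : α₂.hom ≫ (C' ↘ Spec (CommRingCat.of k)) = (C ↘ Spec (CommRingCat.of k)))
    (c₁ c₂ : 𝟙_ (Over (Spec (CommRingCat.of k))) ⟶ J') (s : ℤ) (hs : s = 1 ∨ s = -1)
    (h₁ : Over.homMk α₁.hom hα₁ ≫ j' = (j ≫ β.hom) ^ s * (toUnit (Over.mk (C ↘ Spec (CommRingCat.of k))) ≫ c₁))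
    (h₂ : Over.homMk α₂.hom hα₂ ≫ j' = (j ≫ β.hom) ^ s * (toUnit (Over.mk (C ↘ Spec (CommRingCat.of k))) ≫ c₂)) :
    α₁ = α₂ ∧ c₁ = c₂ := by
  let f' := C' ↘ Spec (CommRingCat.of k)
  haveI : IsProper f' := ‹_›
  haveI : Smooth f' := ‹_›
  haveI : ConnectedSpace C' := Groth.Agent.PicCurve.Alb.connectedSpace_of_geomConn f'
  haveI : GeometricallyIntegral f' := Groth.Agent.S7791.result f' σ' hσ'
  haveI : IsIntegral C' := GeometricallyIntegral.isIntegral_of_subsingleton f'
  haveI : SmoothOfRelativeDimension 1 f' := Groth.Agent.HilbCurve.smoothOfRelativeDimension_one f' hdim'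
  obtain ⟨J₀, ξ, hp, hsm, hi, hξ, huniv⟩ := Groth.Agent.PicCurve.exists_jacobian_field f' hdim' σ' hσ'
  haveI := hp; haveI := hsm; haveI := hi
  haveI : IrreducibleSpace J₀.left := GeometricallyIrreducible.irreducibleSpace_of_subsingleton J₀.hom
  letI := PicCurve.jacGrpObj f' hdim' σ' hσ' ξ hξ huniv
  obtain ⟨e, he, -, hej⟩ := PicCurve.Alb.exists_iso_jac f' hdim' σ' hσ' ξ hξ huniv hJ' hj'
  haveI := he
  let T : Over (Spec (CommRingCat.of k)) := Over.mk (C ↘ Spec (CommRingCat.of k))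
  let T' : Over (Spec (CommRingCat.of k)) := Over.mk f'
  let a₁ : T ⟶ T' := Over.homMk α₁.hom hα₁
  let a₂ : T ⟶ T' := Over.homMk α₂.hom hα₂
  let b₂ : T' ⟶ T := Over.homMk α₂.inv (by
    show α₂.inv ≫ (C ↘ Spec (CommRingCat.of k)) = f'
    rw [← hα₂, Iso.inv_hom_id_assoc])
  have hb₂ : b₂ ≫ a₂ = 𝟙 T' := Over.OverMorphism.ext α₂.inv_hom_id
  have hab₂ : a₂ ≫ b₂ = 𝟙 T := Over.OverMorphism.ext α₂.hom_inv_id
  have key : (b₂ ≫ a₁) ≫ j' = j' * (toUnit T' ≫ (c₁ / c₂)) := by
    have e2 : b₂ ≫ ((j ≫ β.hom) ^ s) = j' * (toUnit T' ≫ c₂)⁻¹ := by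
      have := congrArg (b₂ ≫ ·) h₂
      rw [← Category.assoc, hb₂, Category.id_comp, MonObj.comp_mul, ← Category.assoc b₂ (toUnit T) c₂,
        toUnit_unique (b₂ ≫ toUnit T) (toUnit T')] at this
      rw [eq_mul_inv_iff_mul_eq]
      exact this.symm
    have e1 := congrArg (b₂ ≫ ·) h₁
    rw [← Category.assoc, MonObj.comp_mul, ← Category.assoc b₂ (toUnit T) c₁,
      toUnit_unique (b₂ ≫ toUnit T) (toUnit T'), e2] at e1
    rw [e1, GrpObj.comp_div, div_eq_inv_mul, _root_.mul_assoc]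
  have hβ : b₂ ≫ a₁ = 𝟙 T' := by
    refine PicCurve.Alb.eq_id_of_translate f' hdim' σ' hσ' ξ hξ huniv (show 2 ≤ Curv2.genus k C' by omega) _
      ((c₁ / c₂) ≫ e.inv) ?_
    rw [← cancel_mono e.hom, MonObj.mul_comp]
    simp only [Category.assoc, e.inv_hom_id, Category.comp_id]
    rw [hej, ← key, Category.assoc]
  have ha : a₁ = a₂ := by
    rw [← Category.id_comp a₁, ← hab₂, Category.assoc, hβ, Category.comp_id]
  refine ⟨Iso.ext (congr($(ha).left)), ?_⟩
  have h := h₁.symm.trans ((congrArg (· ≫ j') ha).trans h₂)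
  have h' := congrArg ((Over.homMk σ hσ : 𝟙_ (Over (Spec (CommRingCat.of k))) ⟶ T) ≫ ·) (mul_left_cancel h)
  exact (H23.AlbFormal.pt_toUnit _ c₁).symm.trans (h'.trans (H23.AlbFormal.pt_toUnit _ c₂))

end Groth.Agent.S19877
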