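import Groth.Statements.S17815
import Groth.Agent.PicCurve.Alb.Gonal
import Groth.Agent.S19877
set_option linter.style.haveILetI false
set_option backward.isDefEq.respectTransparency false
set_option backward.isDefEq.respectTransparency.types false
set_option maxHeartbeats 1000000

set_option autoImplicit false
universe u
open CategoryTheory CategoryTheory.Limits AlgebraicGeometry MonoidalCategory CartesianMonoidalCategory MonObj
open JacVar

namespace Groth.Agent.S17815

/-- The non-hyperelliptic case. Let k be an algebraically closed field, C and C' smooth proper connected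
curves of genus g ≥ 2 over k with k-points P and P', (J, ψ) and (J', ψ') their Jacobians
(commutative group schemes over k, coarse moduli schemes on all k-schemes for degree-0 line bundles
modulo twisting from the base, group law induced by tensor product), j and j' the Abel maps with
base points P and P', and β : J ≅ J' an isomorphism of group schemes over k. Suppose C is not
hyperelliptic: no invertible module of degree 2 on C has a two-dimensional space of global sections.
Then the isomorphism, the sign and the translation in Torelli's conclusion are uniquely determined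
by β, P and P': if isomorphisms α₁, α₂ : C ≅ C' over k, k-points c₁, c₂ of J' and signs s₁, s₂ ∈ {1,
−1} satisfy j' ∘ α_i = (β ∘ j)^{s_i} · c_i for i = 1, 2, then α₁ = α₂, s₁ = s₂ and c₁ = c₂. (The
published statement takes β an isomorphism of the canonically polarized Jacobians; this row allows
any isomorphism of group schemes β.) -/
theorem result (k : Type u) [Field k] [IsAlgClosed k]
    (C : Scheme.{u}) [C.Over (Spec (CommRingCat.of k))]
    [IsProper (C ↘ Spec (CommRingCat.of k))] [Smooth (C ↘ Spec (CommRingCat.of k))] [GeometricallyConnected (C ↘ Spec (CommRingCat.of k))]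
    (hdim : topologicalKrullDim ↥C = 1)
    (C' : Scheme.{u}) [C'.Over (Spec (CommRingCat.of k))]
    [IsProper (C' ↘ Spec (CommRingCat.of k))] [Smooth (C' ↘ Spec (CommRingCat.of k))] [GeometricallyConnected (C' ↘ Spec (CommRingCat.of k))]
    (hdim' : topologicalKrullDim ↥C' = 1)
    (g : ℕ) (hg : Curv2.genus k C = g) (hg' : Curv2.genus k C' = g) (hg2 : 2 ≤ g)
    (σ : Spec (CommRingCat.of k) ⟶ C) (hσ : σ ≫ (C ↘ Spec (CommRingCat.of k)) = 𝟙 _) (σ' : Spec (CommRingCat.of k) ⟶ C') (hσ' : σ' ≫ (C' ↘ Spec (CommRingCat.of k)) = 𝟙 _)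
    (J : Over (Spec (CommRingCat.of k))) [GrpObj J] [IsCommMonObj J]
    (ψ : (ModFun.PicDeg (C ↘ Spec (CommRingCat.of k)) 0).Hom ⊤ J) (hJ : Jac.IsJacobian (C ↘ Spec (CommRingCat.of k)) ⊤ J ψ)
    (J' : Over (Spec (CommRingCat.of k))) [GrpObj J'] [IsCommMonObj J']
    (ψ' : (ModFun.PicDeg (C' ↘ Spec (CommRingCat.of k)) 0).Hom ⊤ J') (hJ' : Jac.IsJacobian (C' ↘ Spec (CommRingCat.of k)) ⊤ J' ψ')
    (j : Over.mk (C ↘ Spec (CommRingCat.of k)) ⟶ J) (hj : Jac.IsAbelJacobiAt (C ↘ Spec (CommRingCat.of k)) σ ψ j)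
    (j' : Over.mk (C' ↘ Spec (CommRingCat.of k)) ⟶ J') (hj' : Jac.IsAbelJacobiAt (C' ↘ Spec (CommRingCat.of k)) σ' ψ' j')
    (β : J ≅ J') [IsMonHom β.hom]
    (hnh : ¬ ∃ L : C.Modules, PicF.IsInvertible L ∧ Curv2.deg k C L 1 = 2 ∧ Module.finrank k (Coh.HH C L 0) = 2)
    (α₁ α₂ : C ≅ C') (hα₁ : α₁.hom ≫ (C' ↘ Spec (CommRingCat.of k)) = (C ↘ Spec (CommRingCat.of k))) (hα₂ : α₂.hom ≫ (C' ↘ Spec (CommRingCat.of k)) = (C ↘ Spec (CommRingCat.of k)))
    (c₁ c₂ : 𝟙_ (Over (Spec (CommRingCat.of k))) ⟶ J') (s₁ s₂ : ℤ) (hs₁ : s₁ = 1 ∨ s₁ = -1) (hs₂ : s₂ = 1 ∨ s₂ = -1)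
    (h₁ : Over.homMk α₁.hom hα₁ ≫ j' = (j ≫ β.hom) ^ s₁ * (toUnit (Over.mk (C ↘ Spec (CommRingCat.of k))) ≫ c₁))
    (h₂ : Over.homMk α₂.hom hα₂ ≫ j' = (j ≫ β.hom) ^ s₂ * (toUnit (Over.mk (C ↘ Spec (CommRingCat.of k))) ≫ c₂)) :
    α₁ = α₂ ∧ s₁ = s₂ ∧ c₁ = c₂ := by
  let f := C ↘ Spec (CommRingCat.of k)
  let f' := C' ↘ Spec (CommRingCat.of k)
  haveI : IsProper f' := ‹_›
  haveI : Smooth f' := ‹_›
  haveI : IsProper f := ‹_›
  haveI : Smooth f := ‹_›
  haveI : ConnectedSpace C' := Groth.Agent.PicCurve.Alb.connectedSpace_of_geomConn f'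
  haveI : GeometricallyIntegral f' := Groth.Agent.S7791.result f' σ' hσ'
  haveI : IsIntegral C' := GeometricallyIntegral.isIntegral_of_subsingleton f'
  haveI : SmoothOfRelativeDimension 1 f' := Groth.Agent.HilbCurve.smoothOfRelativeDimension_one f' hdim'
  haveI : ConnectedSpace C := Groth.Agent.PicCurve.Alb.connectedSpace_of_geomConn f
  haveI : GeometricallyIntegral f := Groth.Agent.S7791.result f σ hσ
  haveI : IsIntegral C := GeometricallyIntegral.isIntegral_of_subsingleton f
  have hs : s₁ = s₂ := by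
    by_contra hne
    let T : Over (Spec (CommRingCat.of k)) := Over.mk f
    let T' : Over (Spec (CommRingCat.of k)) := Over.mk f'
    -- an endomorphism of C' with constant sum with the identity
    have main : ∀ (a a' : C ≅ C') (ha : a.hom ≫ f' = f) (ha' : a'.hom ≫ f' = f)
        (d d' : 𝟙_ (Over (Spec (CommRingCat.of k))) ⟶ J'),
        (Over.homMk a.hom ha : T ⟶ T') ≫ j' = (j ≫ β.hom) * (toUnit T ≫ d) →
        (Over.homMk a'.hom ha' : T ⟶ T') ≫ j' = (j ≫ β.hom)⁻¹ * (toUnit T ≫ d') → False := by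
      intro a a' ha ha' d d' h h'
      obtain ⟨J₀, ξ, hp, hsm, hi, hξ, huniv⟩ := Groth.Agent.PicCurve.exists_jacobian_field f' hdim' σ' hσ'
      haveI := hp; haveI := hsm; haveI := hi
      haveI : IrreducibleSpace J₀.left := GeometricallyIrreducible.irreducibleSpace_of_subsingleton J₀.hom
      letI := PicCurve.jacGrpObj f' hdim' σ' hσ' ξ hξ huniv
      obtain ⟨e, he, he', hej⟩ := PicCurve.Alb.exists_iso_jac f' hdim' σ' hσ' ξ hξ huniv hJ' hj'
      haveI := he
      haveI := he'
      let b : T' ⟶ T := Over.homMk a'.inv (by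
        show a'.inv ≫ f = f'
        rw [← ha', Iso.inv_hom_id_assoc])
      have hb : b ≫ (Over.homMk a'.hom ha' : T ⟶ T') = 𝟙 T' := Over.OverMorphism.ext a'.inv_hom_id
      let gam : T' ⟶ T' := b ≫ (Over.homMk a.hom ha : T ⟶ T')
      have hsum : (gam ≫ j') * j' = toUnit T' ≫ (d * d') := by
        have h1 := congrArg (b ≫ ·) h
        have h2 := congrArg (b ≫ ·) h'
        rw [← Category.assoc, MonObj.comp_mul, ← Category.assoc b (toUnit T) d,
          toUnit_unique (b ≫ toUnit T) (toUnit T')] at h1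
        rw [← Category.assoc, hb, Category.id_comp, MonObj.comp_mul, GrpObj.comp_inv, ← Category.assoc b (toUnit T) d',
          toUnit_unique (b ≫ toUnit T) (toUnit T')] at h2
        rw [MonObj.comp_mul]
        show gam ≫ j' * j' = _
        rw [h1, h2, _root_.mul_mul_mul_comm, mul_inv_cancel, _root_.one_mul]
      obtain ⟨L, hL, hdeg, h0⟩ := PicCurve.Alb.exists_pencil_two f' hdim' σ' hσ' ξ hξ huniv gam
        ((d * d') ≫ e.inv) (by
          rw [← cancel_mono e.hom, MonObj.mul_comp]
          simp only [Category.assoc, e.inv_hom_id, Category.comp_id, hej]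
          exact hsum)
      -- transfer to C
      let P : Over (Spec (CommRingCat.of k)) := Over.mk (𝟙 _)
      letI : (PicF.XT f' P).Over (Spec (CommRingCat.of k)) := ⟨PicF.XTproj f' P⟩
      haveI : IsProper (PicF.XTproj f' P) := inferInstanceAs (IsProper (pullback.snd f' P.hom))
      let g : C ⟶ PicF.XT f' P := pullback.lift a.hom f (by simp [P, ha])
      have hg1 : g ≫ pullback.fst f' P.hom = a.hom := pullback.lift_fst _ _ _
      have hg2 : g ≫ PicF.XTproj f' P = f := pullback.lift_snd _ _ _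
      haveI : IsIso P.hom := inferInstanceAs (IsIso (𝟙 _))
      haveI : IsIso g := by
        haveI : IsIso (g ≫ pullback.fst f' P.hom) := by rw [hg1]; infer_instance
        exact IsIso.of_isIso_comp_right g (pullback.fst f' P.hom)
      have hpb : IsPullback g f (PicF.XTproj f' P) (Spec.map (CommRingCat.ofHom (algebraMap k k))) := by
        haveI : IsIso (Spec.map (CommRingCat.ofHom (algebraMap k k))) := by
          rw [show CommRingCat.ofHom (algebraMap k k) = 𝟙 (CommRingCat.of k) from rfl]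
          infer_instance
        refine IsPullback.of_horiz_isIso ⟨?_⟩
        rw [show CommRingCat.ofHom (algebraMap k k) = 𝟙 (CommRingCat.of k) from rfl, Spec.map_id, Category.comp_id]
        exact hg2
      haveI : IsProper (PicF.XT f' P ↘ Spec (CommRingCat.of k)) := ‹IsProper (PicF.XTproj f' P)›
      haveI : CompactSpace ↥P.left := inferInstanceAs (CompactSpace (PrimeSpectrum k))
      haveI : QuasiSeparatedSpace ↥P.left := inferInstanceAs (QuasiSeparatedSpace (PrimeSpectrum k))
      haveI : CompactSpace ↥(PicF.XT f' P) :=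
        QuasiCompact.compactSpace_of_compactSpace (PicF.XTproj f' P)
      haveI : QuasiSeparatedSpace ↥(PicF.XT f' P) :=
        quasiSeparatedSpace_of_quasiSeparated (PicF.XTproj f' P)
      let M := (Scheme.Modules.pullback g).obj L
      have hM : PicF.IsInvertible M := PicClLib.isInvertible_pullback g hL
      have hh : ∀ i, Module.finrank k (Coh.HH C M i) = Module.finrank k (Coh.HH (PicF.XT f' P) L i) := fun i =>
        CurveBC.finrank_hh k k g hpb L (PicCurve.isQCoh_inv hL) i
      have hdM : Curv2.deg k C M 1 = 2 := by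
        rw [← hdeg]
        unfold Curv2.deg Curv2.euler
        simp only [hh, CurveBC.finrank_hh_unit k k g hpb]
        rfl
      refine hnh ⟨M, hM, hdM, ?_⟩
      have h2 : 1 < Module.finrank k (Coh.HH C M 0) := by rw [hh]; exact h0
      refine le_antisymm ?_ h2
      by_contra h3
      rcases CurveCohLib.Clifford.dichotomy k hdim hM (m := 2) (by omega) with h4 | h4 <;> omega
    rcases hs₁ with rfl | rfl <;> rcases hs₂ with rfl | rfl
    · exact hne rfl
    · rw [zpow_one] at h₁; rw [zpow_neg_one] at h₂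
      exact main α₁ α₂ hα₁ hα₂ c₁ c₂ h₁ h₂
    · rw [zpow_one] at h₂; rw [zpow_neg_one] at h₁
      exact main α₂ α₁ hα₂ hα₁ c₂ c₁ h₂ h₁
    · exact hne rfl
  subst hs
  obtain ⟨hα, hc⟩ := Groth.Agent.S19877.result k C hdim C' hdim' g hg hg' hg2 σ hσ σ' hσ' J ψ hJ J' ψ' hJ'
    j hj j' hj' β α₁ α₂ hα₁ hα₂ c₁ c₂ s₁ hs₁ h₁ h₂
  exact ⟨hα, rfl, hc⟩

end Groth.Agent.S17815
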