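import Groth.Statements.S17816
import Groth.Agent.PicCurve.Alb.Corresp
set_option linter.style.haveILetI false
set_option backward.isDefEq.respectTransparency false
set_option backward.isDefEq.respectTransparency.types false

set_option autoImplicit false
universe u
open CategoryTheory CategoryTheory.Limits AlgebraicGeometry MonoidalCategory CartesianMonoidalCategory MonObj
open JacVar Groth.Agent.H23.PicMul

namespace Groth.Agent.S17816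

/-- Let k be a field and C₁, C₂ smooth proper geometrically connected curves of positive genus over k
with k-points P₁ and P₂; let (J₁, ψ₁) and (J₂, ψ₂) be their Jacobians (commutative group schemes
over k, coarse moduli schemes on all k-schemes for degree-0 line bundles modulo twisting from the
base, group law induced by tensor product), j₁ : C₁ ⟶ J₁ the Abel map with base point P₁, and M a
universal degree-0 family on C₂ × J₂ which is trivial along P₂ × J₂ and whose classifying morphism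
under ψ₂ is the identity of J₂ (the sheaf M^{P₂}). For a homomorphism χ : J₁ ⟶ J₂ let Φ(χ) be the
class of the pullback of M along 1 × (χ ∘ j₁) : C₂ × C₁ ⟶ C₂ × J₂. Then χ ↦ Φ(χ) is a bijection from
the homomorphisms of group schemes J₁ ⟶ J₂ onto the isomorphism classes of divisorial
correspondences between (C₂, P₂) and (C₁, P₁), i.e. classes of invertible modules on C₂ ×_k C₁
trivial on P₂ × C₁ and on C₂ × P₁: each Φ(χ) is such a class, Φ is injective on homomorphisms, and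
every such class is Φ(χ) for a homomorphism χ. -/
theorem result (k : Type u) [Field k]
    (C₁ : Scheme.{u}) [C₁.Over (Spec (CommRingCat.of k))]
    [IsProper (C₁ ↘ Spec (CommRingCat.of k))] [Smooth (C₁ ↘ Spec (CommRingCat.of k))] [GeometricallyConnected (C₁ ↘ Spec (CommRingCat.of k))]
    (hdim₁ : topologicalKrullDim ↥C₁ = 1)
    (C₂ : Scheme.{u}) [C₂.Over (Spec (CommRingCat.of k))]
    [IsProper (C₂ ↘ Spec (CommRingCat.of k))] [Smooth (C₂ ↘ Spec (CommRingCat.of k))] [GeometricallyConnected (C₂ ↘ Spec (CommRingCat.of k))]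
    (hdim₂ : topologicalKrullDim ↥C₂ = 1)
    (hg₁ : 0 < Curv2.genus k C₁) (hg₂ : 0 < Curv2.genus k C₂)
    (σ₁ : Spec (CommRingCat.of k) ⟶ C₁) (hσ₁ : σ₁ ≫ (C₁ ↘ Spec (CommRingCat.of k)) = 𝟙 _) (σ₂ : Spec (CommRingCat.of k) ⟶ C₂) (hσ₂ : σ₂ ≫ (C₂ ↘ Spec (CommRingCat.of k)) = 𝟙 _)
    (J₁ : Over (Spec (CommRingCat.of k))) [GrpObj J₁] [IsCommMonObj J₁]
    (ψ₁ : (ModFun.PicDeg (C₁ ↘ Spec (CommRingCat.of k)) 0).Hom ⊤ J₁) (hJ₁ : Jac.IsJacobian (C₁ ↘ Spec (CommRingCat.of k)) ⊤ J₁ ψ₁)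
    (J₂ : Over (Spec (CommRingCat.of k))) [GrpObj J₂] [IsCommMonObj J₂]
    (ψ₂ : (ModFun.PicDeg (C₂ ↘ Spec (CommRingCat.of k)) 0).Hom ⊤ J₂) (hJ₂ : Jac.IsJacobian (C₂ ↘ Spec (CommRingCat.of k)) ⊤ J₂ ψ₂)
    (j₁ : Over.mk (C₁ ↘ Spec (CommRingCat.of k)) ⟶ J₁) (hj₁ : Jac.IsAbelJacobiAt (C₁ ↘ Spec (CommRingCat.of k)) σ₁ ψ₁ j₁)
    (Pu : (PicF.XT (C₂ ↘ Spec (CommRingCat.of k)) J₂).Modules) (hPu : ModFun.IsUnivFamily ⊤ (ModFun.PicDeg (C₂ ↘ Spec (CommRingCat.of k)) 0) J₂ Pu)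
    (hPn : Jac.IsNormAlong (C₂ ↘ Spec (CommRingCat.of k)) σ₂ hσ₂ J₂ Pu)
    (hT₂ : (⊤ : ObjectProperty (Over (Spec (CommRingCat.of k)))) J₂) (hPuψ : ψ₂.app J₂ Pu hT₂ hPu.1 = 𝟙 J₂) :
    (∀ χ : J₁ ⟶ J₂, IsMonHom χ →
      (PicF.IsInvertibleCl (PicF.pullCl (PicF.XTmap (C₂ ↘ Spec (CommRingCat.of k)) (j₁ ≫ χ)) (PicF.cl Pu)) ∧
        PicF.IsTrivialCl (PicF.pullCl (PicF.secT (C₂ ↘ Spec (CommRingCat.of k)) σ₂ hσ₂ (Over.mk (C₁ ↘ Spec (CommRingCat.of k)))) (PicF.pullCl (PicF.XTmap (C₂ ↘ Spec (CommRingCat.of k)) (j₁ ≫ χ)) (PicF.cl Pu))) ∧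
        PicF.IsTrivialCl (PicF.pullCl (PicF.XTmap (C₂ ↘ Spec (CommRingCat.of k)) (Over.homMk σ₁ hσ₁ : 𝟙_ (Over (Spec (CommRingCat.of k))) ⟶ Over.mk (C₁ ↘ Spec (CommRingCat.of k)))) (PicF.pullCl (PicF.XTmap (C₂ ↘ Spec (CommRingCat.of k)) (j₁ ≫ χ)) (PicF.cl Pu))))) ∧
    (∀ χ₁ χ₂ : J₁ ⟶ J₂, IsMonHom χ₁ → IsMonHom χ₂ →
      PicF.pullCl (PicF.XTmap (C₂ ↘ Spec (CommRingCat.of k)) (j₁ ≫ χ₁)) (PicF.cl Pu) = PicF.pullCl (PicF.XTmap (C₂ ↘ Spec (CommRingCat.of k)) (j₁ ≫ χ₂)) (PicF.cl Pu) → χ₁ = χ₂) ∧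
    (∀ c : PicF.Cl (PicF.XT (C₂ ↘ Spec (CommRingCat.of k)) (Over.mk (C₁ ↘ Spec (CommRingCat.of k)))),
      (PicF.IsInvertibleCl (c) ∧
        PicF.IsTrivialCl (PicF.pullCl (PicF.secT (C₂ ↘ Spec (CommRingCat.of k)) σ₂ hσ₂ (Over.mk (C₁ ↘ Spec (CommRingCat.of k)))) (c)) ∧
        PicF.IsTrivialCl (PicF.pullCl (PicF.XTmap (C₂ ↘ Spec (CommRingCat.of k)) (Over.homMk σ₁ hσ₁ : 𝟙_ (Over (Spec (CommRingCat.of k))) ⟶ Over.mk (C₁ ↘ Spec (CommRingCat.of k)))) (c))) →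
      ∃ χ : J₁ ⟶ J₂, IsMonHom χ ∧ PicF.pullCl (PicF.XTmap (C₂ ↘ Spec (CommRingCat.of k)) (j₁ ≫ χ)) (PicF.cl Pu) = c) := by
  let f₁ := C₁ ↘ Spec (CommRingCat.of k)
  let f₂ := C₂ ↘ Spec (CommRingCat.of k)
  haveI : IsProper f₁ := ‹_›
  haveI : Smooth f₁ := ‹_›
  haveI : ConnectedSpace C₁ := Groth.Agent.PicCurve.Alb.connectedSpace_of_geomConn f₁
  haveI : GeometricallyIntegral f₁ := Groth.Agent.S7791.result f₁ σ₁ hσ₁
  haveI : IsIntegral C₁ := GeometricallyIntegral.isIntegral_of_subsingleton f₁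
  haveI : SmoothOfRelativeDimension 1 f₁ := Groth.Agent.HilbCurve.smoothOfRelativeDimension_one f₁ hdim₁
  haveI : IsProper f₂ := ‹_›
  haveI : Smooth f₂ := ‹_›
  haveI : ConnectedSpace C₂ := Groth.Agent.PicCurve.Alb.connectedSpace_of_geomConn f₂
  haveI : GeometricallyIntegral f₂ := Groth.Agent.S7791.result f₂ σ₂ hσ₂
  haveI : IsIntegral C₂ := GeometricallyIntegral.isIntegral_of_subsingleton f₂
  haveI : SmoothOfRelativeDimension 1 f₂ := Groth.Agent.HilbCurve.smoothOfRelativeDimension_one f₂ hdim₂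
  haveI : IsProper J₂.hom := PicCurve.Alb.isProper_of_univ f₂ hdim₂ σ₂ hσ₂ hPu
  obtain ⟨J₀, ξ, hp, hs, hi, hξ, huniv⟩ := Groth.Agent.PicCurve.exists_jacobian_field f₁ hdim₁ σ₁ hσ₁
  haveI := hp; haveI := hs; haveI := hi
  haveI : IrreducibleSpace J₀.left := GeometricallyIrreducible.irreducibleSpace_of_subsingleton J₀.hom
  let T₁ : Over (Spec (CommRingCat.of k)) := Over.mk f₁
  let x₁ : 𝟙_ (Over (Spec (CommRingCat.of k))) ⟶ T₁ := Over.homMk σ₁ hσ₁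
  have hη := PicCurve.Alb.pull_univ_one f₂ hdim₂ hPu hJ₂ hT₂ hPuψ
  have hone : ∀ {Y : Scheme.{u}} {a : PicF.Cl Y}, PicF.IsTrivialCl a ↔ a = 1 := fun {Y a} => by
    rw [PicF.IsTrivialCl, H23.PicMul.one_def]
  have hx₁ : x₁ ≫ j₁ = η[J₁] := PicCurve.Alb.bpt_coarse f₁ hdim₁ σ₁ hσ₁ ξ hξ huniv hJ₁ hj₁
  have hx : ∀ χ : J₁ ⟶ J₂, IsMonHom χ → x₁ ≫ j₁ ≫ χ = η[J₂] := fun χ hχ => by
    rw [← Category.assoc, hx₁]
    exact hχ.one_hom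
  refine ⟨fun χ hχ => ⟨FppfPic.isInvertibleCl_pull _ (PicCurve.Alb.invertible_univFamily f₂ hdim₂ hPu), ?_, ?_⟩,
    fun χ₁ χ₂ hχ₁ hχ₂ h => ?_, fun c ⟨hc, hcσ, hc₀⟩ => ?_⟩
  · exact hone.2 (PicCurve.Alb.secT_pull_univ f₂ σ₂ hσ₂ hPn (j₁ ≫ χ))
  · refine hone.2 ?_
    rw [FppfPic.pullCl_XTmap_comp, hx χ hχ]
    exact hη
  · have e := PicCurve.Alb.eq_of_pull_univ f₂ hdim₂ hPu h
    exact (PicCurve.Alb.existsUnique_hom_coarse f₁ hdim₁ σ₁ hσ₁ ξ hξ huniv hg₁ hJ₁ hj₁ (j₁ ≫ χ₂)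
      (hx χ₂ hχ₂)).unique ⟨hχ₁, e⟩ ⟨hχ₂, rfl⟩
  · haveI : IsLocallyNoetherian T₁.left := LocallyOfFiniteType.isLocallyNoetherian f₁
    haveI : PreconnectedSpace T₁.left := inferInstanceAs (PreconnectedSpace C₁)
    obtain ⟨g, hg, hgc⟩ := PicCurve.Alb.exists_classify_corresp f₂ hdim₂ σ₂ hσ₂ hPu hJ₂ hT₂ hPuψ hPn (T := T₁) x₁ c hc
      (hone.1 hcσ) (hone.1 hc₀)
    obtain ⟨χ, ⟨hm, hχ⟩, -⟩ := PicCurve.Alb.existsUnique_hom_coarse f₁ hdim₁ σ₁ hσ₁ ξ hξ huniv hg₁ hJ₁ hj₁ g hg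
    exact ⟨χ, hm, by rw [hχ]; exact hgc⟩

end Groth.Agent.S17816
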