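import Groth.Statements.S17818
import Groth.Agent.PicCurve.Alb.Corresp
set_option linter.style.haveILetI false
set_option backward.isDefEq.respectTransparency false
set_option backward.isDefEq.respectTransparency.types false

set_option autoImplicit false
universe u
open CategoryTheory CategoryTheory.Limits AlgebraicGeometry MonoidalCategory CartesianMonoidalCategory MonObj
open JacVar Groth.Agent.H23.PicMul

namespace Groth.Agent.S17818

/-- Let C be a smooth proper geometrically connected curve of genus g > 0 over a field k with a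
k-rational point P, (J, ψ) its Jacobian (a commutative group scheme over k, coarse moduli scheme on
all k-schemes for degree-0 line bundles modulo twisting from the base, group law induced by tensor
product), M the universal family on C × J normalised along P × J whose classifying morphism under ψ
is the identity (the sheaf M^P), j : C ⟶ J the Abel map with base point P, and L^P the module on C ×
C with L^P ⊗ I_Δ ≅ pr₁^* I_P ⊗ pr₂^* I_P, i.e. O(Δ − C × P − P × C). If N is an invertible module on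
C × J, trivial along P × J and along C × 0 (a divisorial correspondence between (C, P) and J), whose
pullback along 1 × j is isomorphic to L^P, then N is isomorphic to M. -/
theorem result (k : Type u) [Field k]
    (C : Scheme.{u}) [C.Over (Spec (CommRingCat.of k))]
    [IsProper (C ↘ Spec (CommRingCat.of k))] [Smooth (C ↘ Spec (CommRingCat.of k))] [GeometricallyConnected (C ↘ Spec (CommRingCat.of k))]
    (hdim : topologicalKrullDim ↥C = 1)
    (hg : 0 < Curv2.genus k C)
    (σ : Spec (CommRingCat.of k) ⟶ C) (hσ : σ ≫ (C ↘ Spec (CommRingCat.of k)) = 𝟙 _)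
    (J : Over (Spec (CommRingCat.of k))) [GrpObj J] [IsCommMonObj J]
    (ψ : (ModFun.PicDeg (C ↘ Spec (CommRingCat.of k)) 0).Hom ⊤ J) (hJ : Jac.IsJacobian (C ↘ Spec (CommRingCat.of k)) ⊤ J ψ)
    (Pu : (PicF.XT (C ↘ Spec (CommRingCat.of k)) J).Modules) (hPu : ModFun.IsUnivFamily ⊤ (ModFun.PicDeg (C ↘ Spec (CommRingCat.of k)) 0) J Pu)
    (hPn : Jac.IsNormAlong (C ↘ Spec (CommRingCat.of k)) σ hσ J Pu)
    (hT : (⊤ : ObjectProperty (Over (Spec (CommRingCat.of k)))) J) (hPuψ : ψ.app J Pu hT hPu.1 = 𝟙 J)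
    (j : Over.mk (C ↘ Spec (CommRingCat.of k)) ⟶ J) (hj : Jac.IsAbelJacobiAt (C ↘ Spec (CommRingCat.of k)) σ ψ j)
    (LP : (PicF.XT (C ↘ Spec (CommRingCat.of k)) (Over.mk (C ↘ Spec (CommRingCat.of k)))).Modules) (hLPi : PicF.IsInvertible LP)
    (hLP : Nonempty (CohB1.tensorMod LP (ClSub.idealMod (pullback.diagonal (C ↘ Spec (CommRingCat.of k))).ker) ≅
      CohB1.tensorMod ((Scheme.Modules.pullback (pullback.fst (C ↘ Spec (CommRingCat.of k)) (C ↘ Spec (CommRingCat.of k)))).obj (ClSub.idealMod σ.ker))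
        ((Scheme.Modules.pullback (pullback.snd (C ↘ Spec (CommRingCat.of k)) (C ↘ Spec (CommRingCat.of k)))).obj (ClSub.idealMod σ.ker))))
    (N : (PicF.XT (C ↘ Spec (CommRingCat.of k)) J).Modules) (hN : PicF.IsInvertible N)
    (hNP : Jac.IsNormAlong (C ↘ Spec (CommRingCat.of k)) σ hσ J N)
    (hN0 : PicF.IsTrivialCl (PicF.pullCl (PicF.XTmap (C ↘ Spec (CommRingCat.of k)) (η[J])) (PicF.cl N)))
    (hNj : Nonempty ((Scheme.Modules.pullback (PicF.XTmap (C ↘ Spec (CommRingCat.of k)) j)).obj N ≅ LP)) :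
    Nonempty (N ≅ Pu) := by
  let f := C ↘ Spec (CommRingCat.of k)
  haveI : IsProper f := ‹_›
  haveI : Smooth f := ‹_›
  haveI : ConnectedSpace C := Groth.Agent.PicCurve.Alb.connectedSpace_of_geomConn f
  haveI : GeometricallyIntegral f := Groth.Agent.S7791.result f σ hσ
  haveI : IsIntegral C := GeometricallyIntegral.isIntegral_of_subsingleton f
  haveI : SmoothOfRelativeDimension 1 f := Groth.Agent.HilbCurve.smoothOfRelativeDimension_one f hdim
  obtain ⟨J₀, ξ, hp, hs, hi, hξ, huniv⟩ := Groth.Agent.PicCurve.exists_jacobian_field f hdim σ hσ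
  haveI := hp; haveI := hs; haveI := hi
  haveI : IrreducibleSpace J₀.left := GeometricallyIrreducible.irreducibleSpace_of_subsingleton J₀.hom
  letI := PicCurve.jacGrpObj f hdim σ hσ ξ hξ huniv
  obtain ⟨e, -, -, -⟩ := PicCurve.Alb.exists_iso_jac f hdim σ hσ ξ hξ huniv hJ hj
  haveI : IsIso e.inv.left := (Over.forget _).map_isIso e.inv
  haveI : IsProper J.hom := by rw [← Over.w e.inv]; infer_instance
  haveI : Smooth J.hom := by rw [← Over.w e.inv]; infer_instance
  haveI : IrreducibleSpace J.left :=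
    ((Scheme.homeoOfIso ((Over.forget _).mapIso e)).irreducibleSpace_iff).1 ‹IrreducibleSpace J₀.left›
  haveI : GeometricallyIntegral J.hom := S7791.result J.hom η[J].left (Over.w η[J])
  haveI : IsLocallyNoetherian J.left := LocallyOfFiniteType.isLocallyNoetherian J.hom
  have hone : ∀ {Y : Scheme.{u}} {a : PicF.Cl Y}, PicF.IsTrivialCl a ↔ a = 1 := fun {Y a} => by
    rw [PicF.IsTrivialCl, H23.PicMul.one_def]
  obtain ⟨g, hgη, hgc⟩ := PicCurve.Alb.exists_classify_corresp f hdim σ hσ hPu hJ hT hPuψ hPn (T := J)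
    (η[J]) (PicF.cl N) ⟨N, rfl, hN⟩ (hone.1 hNP) (hone.1 hN0)
  haveI : IsMonHom g := H23.AlbFormal.isMonHom_of_one g hgη
  let T₁ : Over (Spec (CommRingCat.of k)) := Over.mk f
  have hjg : j ≫ g = j := by
    obtain ⟨hTP, L, hL, ⟨hLi, ⟨hLiso⟩⟩, hjL⟩ := hj
    obtain ⟨hLPiso⟩ := hLP
    obtain ⟨hNjiso⟩ := hNj
    let δ := PicF.cl (ClSub.idealMod σ.ker)
    let D : PicF.Cl (PicF.XT f T₁) := PicF.cl (ClSub.idealMod (pullback.diagonal f).ker)
    have e1 : PicF.cl L * D = PicF.pullCl (pullback.fst f f) δ := (cl_tensor _ _).symm.trans (cl_eq_iff.2 ⟨hLiso⟩)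
    have e2 : PicF.cl LP * D = (PicF.pullCl (pullback.fst f f) δ : PicF.Cl (PicF.XT f T₁)) * PicF.pullCl (PicF.XTproj f T₁) δ :=
      ((cl_tensor _ _).symm.trans (cl_eq_iff.2 ⟨hLPiso⟩)).trans (cl_tensor _ _)
    have hδ : PicF.IsInvertibleCl δ := PicCurve.Alb.isInvertibleCl_δ f σ hσ
    have hD : IsUnit D := isUnit_of_mul_isUnit_right (e1 ▸ isUnit_of_isInvertibleCl (FppfPic.isInvertibleCl_pull _ hδ))
    have e3 : PicF.cl LP = PicF.cl L * PicF.pullCl (PicF.XTproj f T₁) δ := hD.mul_right_cancel (by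
      rw [e2, mul_right_comm, e1])
    have e4 : PicF.pullCl (PicF.XTmap f (j ≫ g)) (PicF.cl Pu) = PicF.cl LP := by
      rw [← FppfPic.pullCl_XTmap_comp, hgc]
      exact cl_eq_iff.2 ⟨hNjiso⟩
    have hx : (ModFun.PicDeg f 0).ok T₁ ((ModFun.PicDeg f 0).pull (j ≫ g) Pu) :=
      PicCurve.ok_pull f hdim (j ≫ g) hPu.1
    refine Eq.trans ?_ hjL
    rw [← ψ.resp _ L trivial hx hL (PicCurve.r_symm f ((PicCurve.r_iff f 0 T₁ L _).2 ⟨δ, hδ, e4.trans e3⟩)),
      ψ.natural (j ≫ g) Pu hT trivial hPu.1 hx, hPuψ, Category.comp_id]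
  have hj1 : (Over.homMk σ hσ : 𝟙_ (Over (Spec (CommRingCat.of k))) ⟶ T₁) ≫ j = η[J] :=
    PicCurve.Alb.bpt_coarse f hdim σ hσ ξ hξ huniv hJ hj
  have hg1 : g = 𝟙 J := (PicCurve.Alb.existsUnique_hom_coarse f hdim σ hσ ξ hξ huniv hg hJ hj j hj1).unique
    ⟨inferInstance, hjg⟩ ⟨inferInstance, Category.comp_id j⟩
  rw [hg1, show PicF.XTmap f (𝟙 J) = 𝟙 _ from pullback.hom_ext (by simp [PicF.XTmap]) (by simp [PicF.XTmap]),
    PicClLib.pullCl_id] at hgc
  exact cl_eq_iff.1 hgc.symm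

end Groth.Agent.S17818
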