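import Groth.Statements.S17819
import Groth.Agent.PicCurve.Pts.Canonical
set_option linter.style.haveILetI false
set_option backward.isDefEq.respectTransparency false
set_option backward.isDefEq.respectTransparency.types false

set_option autoImplicit false
universe u
open CategoryTheory CategoryTheory.Limits AlgebraicGeometry MonoidalCategory CartesianMonoidalCategory MonObj
open JacVar

namespace Groth.Agent.S17819

/-- Let k be an algebraically closed field, C a smooth proper connected curve of genus g ≥ 2 over k with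
a k-point P, (J, ψ) its Jacobian (a commutative group scheme over k, coarse moduli scheme on all
k-schemes for degree-0 line bundles modulo twisting from the base, group law induced by tensor
product) and j : C ⟶ J the Abel map with base point P. Write W^r ⊂ J for the image of the r-fold
product C ×_k ⋯ ×_k C under (x_1, …, x_r) ↦ j(x_1) ⋯ j(x_r) (the image of the r-th symmetric power;
W^0 is the origin), and W^r_a for its translate by a k-point a of J. Let κ be the k-point of J given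
by ψ on the degree-0 module Ω_{C/k} ⊗ I_P^{⊗(2g−2)} (the image of a canonical divisor), and for Z ⊂
J let Z^* be the image of Z under x ↦ κ·x⁻¹. Then for every k-point a of J one has (W^{g−1}_a)^* =
W^{g−1}_{a⁻¹} as subsets of J. -/
theorem result (k : Type u) [Field k] [IsAlgClosed k]
    (C : Scheme.{u}) [C.Over (Spec (CommRingCat.of k))]
    [IsProper (C ↘ Spec (CommRingCat.of k))] [Smooth (C ↘ Spec (CommRingCat.of k))] [GeometricallyConnected (C ↘ Spec (CommRingCat.of k))]
    (hdim : topologicalKrullDim ↥C = 1)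
    (g : ℕ) (hg : Curv2.genus k C = g) (hg2 : 2 ≤ g)
    (σ : Spec (CommRingCat.of k) ⟶ C) (hσ : σ ≫ (C ↘ Spec (CommRingCat.of k)) = 𝟙 _)
    (J : Over (Spec (CommRingCat.of k))) [GrpObj J] [IsCommMonObj J]
    (ψ : (ModFun.PicDeg (C ↘ Spec (CommRingCat.of k)) 0).Hom ⊤ J) (hJ : Jac.IsJacobian (C ↘ Spec (CommRingCat.of k)) ⊤ J ψ)
    (j : Over.mk (C ↘ Spec (CommRingCat.of k)) ⟶ J) (hj : Jac.IsAbelJacobiAt (C ↘ Spec (CommRingCat.of k)) σ ψ j)
    (Kf : (PicF.XT (C ↘ Spec (CommRingCat.of k)) (𝟙_ (Over (Spec (CommRingCat.of k))))).Modules)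
    (hKf : Nonempty (Kf ≅ (Scheme.Modules.pullback (pullback.fst (C ↘ Spec (CommRingCat.of k)) (𝟙_ (Over (Spec (CommRingCat.of k)))).hom)).obj
      (CohB1.tensorMod (Omega.sheaf (C ↘ Spec (CommRingCat.of k))) (CohB1.tensorPow (ClSub.idealMod σ.ker) (2 * g - 2)))))
    (hT₁ : (⊤ : ObjectProperty (Over (Spec (CommRingCat.of k)))) (𝟙_ (Over (Spec (CommRingCat.of k))))) (hKok : (ModFun.PicDeg (C ↘ Spec (CommRingCat.of k)) 0).ok (𝟙_ (Over (Spec (CommRingCat.of k)))) Kf)
    (κ : (𝟙_ (Over (Spec (CommRingCat.of k)))) ⟶ J) (hκ : ψ.app (𝟙_ (Over (Spec (CommRingCat.of k)))) Kf hT₁ hKok = κ)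
    (a : (𝟙_ (Over (Spec (CommRingCat.of k)))) ⟶ J) :
    (Jac.transl J κ).left.base '' (((𝟙 J)⁻¹).left.base '' ((Jac.transl J a).left.base '' Set.range ((List.ofFn fun i : Fin (g - 1) =>
        (Over.homMk (WidePullback.π (fun (_ : Fin (g - 1)) => (C ↘ Spec (CommRingCat.of k))) i)
          (WidePullback.π_arrow (fun (_ : Fin (g - 1)) => (C ↘ Spec (CommRingCat.of k))) i) : Over.mk (WidePullback.base fun (_ : Fin (g - 1)) => (C ↘ Spec (CommRingCat.of k))) ⟶ Over.mk (C ↘ Spec (CommRingCat.of k))) ≫ j).prod).left.base)) =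
      ((Jac.transl J a⁻¹).left.base '' Set.range ((List.ofFn fun i : Fin (g - 1) =>
        (Over.homMk (WidePullback.π (fun (_ : Fin (g - 1)) => (C ↘ Spec (CommRingCat.of k))) i)
          (WidePullback.π_arrow (fun (_ : Fin (g - 1)) => (C ↘ Spec (CommRingCat.of k))) i) : Over.mk (WidePullback.base fun (_ : Fin (g - 1)) => (C ↘ Spec (CommRingCat.of k))) ⟶ Over.mk (C ↘ Spec (CommRingCat.of k))) ≫ j).prod).left.base) := by
  let f := C ↘ Spec (CommRingCat.of k)
  haveI : IsProper f := ‹_›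
  obtain ⟨hp, -⟩ := PicCurve.Pts.coarse_facts C hdim σ hσ hJ hj
  haveI := hp
  have hinv : ∀ x : 𝟙_ (Over (Spec (CommRingCat.of k))) ⟶ J,
      x ∈ PicCurve.Pts.WJ f j (g - 1) → κ * x⁻¹ ∈ PicCurve.Pts.WJ f j (g - 1) := fun x hx =>
    PicCurve.Pts.canonical_involution C hdim σ hσ hJ hj hg hg2 Kf hKf hKok hκ hx
  let iv : J ⟶ J := (𝟙 J)⁻¹
  have hivc : ∀ x : 𝟙_ (Over (Spec (CommRingCat.of k))) ⟶ J, x ≫ iv = x⁻¹ := fun x => by
    rw [GrpObj.comp_inv, Category.comp_id]
  have hiviv : iv ≫ iv = 𝟙 J := by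
    show iv ≫ (𝟙 J)⁻¹ = _
    rw [GrpObj.comp_inv, Category.comp_id, inv_inv]
  have hiv : ∀ Z : Set J.left, iv.left.base '' Z = iv.left.base ⁻¹' Z := fun Z => by
    have h1 : ∀ y, iv.left.base (iv.left.base y) = y := fun y => congr($(hiviv).left y)
    ext y
    exact ⟨fun ⟨z, hz, hy⟩ => by rw [Set.mem_preimage, ← hy, h1]; exact hz, fun hy => ⟨_, hy, h1 y⟩⟩
  have hcl := PicCurve.Pts.isClosed_range_sumMap f j (g - 1)
  have hL : IsClosed ((Jac.transl J κ).left.base '' (iv.left.base '' ((Jac.transl J a).left.base ''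
      Set.range (PicCurve.Pts.sumMap f j (g - 1)).left.base))) := by
    refine PicCurve.Pts.isClosed_image_transl κ ?_
    rw [hiv]
    exact (PicCurve.Pts.isClosed_image_transl a hcl).preimage iv.left.continuous
  have hR := PicCurve.Pts.isClosed_image_transl a⁻¹ hcl
  have hlhs : ∀ c, PicCurve.Pts.pt c ∈ (Jac.transl J κ).left.base '' (iv.left.base '' ((Jac.transl J a).left.base ''
      Set.range (PicCurve.Pts.sumMap f j (g - 1)).left.base)) ↔ κ * (c * a)⁻¹ ∈ PicCurve.Pts.WJ f j (g - 1) := by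
    intro c
    rw [PicCurve.Pts.pt_mem_image_transl, hiv, Set.mem_preimage, PicCurve.Pts.pt_comp, hivc,
      PicCurve.Pts.pt_mem_image_transl, PicCurve.Pts.mem_range_sumMap]
    rw [show (c * κ⁻¹)⁻¹ * a⁻¹ = κ * (c * a)⁻¹ by
      rw [mul_inv, inv_inv, _root_.mul_comm c⁻¹, _root_.mul_assoc, ← mul_inv]]
    rfl
  have hrhs : ∀ c, PicCurve.Pts.pt c ∈ (Jac.transl J a⁻¹).left.base ''
      Set.range (PicCurve.Pts.sumMap f j (g - 1)).left.base ↔ c * a ∈ PicCurve.Pts.WJ f j (g - 1) := by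
    intro c
    rw [PicCurve.Pts.pt_mem_image_transl, PicCurve.Pts.mem_range_sumMap, inv_inv]
    rfl
  refine Set.Subset.antisymm (PicCurve.Pts.subset_of_pts hL hR fun c hc => (hrhs c).2 ?_)
    (PicCurve.Pts.subset_of_pts hR hL fun c hc => (hlhs c).2 (hinv _ ((hrhs c).1 hc)))
  have h := hinv _ ((hlhs c).1 hc)
  rwa [mul_inv, inv_inv, ← _root_.mul_assoc, mul_inv_cancel, _root_.one_mul] at h

end Groth.Agent.S17819
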