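import Groth.Statements.S17822
import Groth.Agent.PicCurve.Pts.Residual
import Groth.Agent.PicCurve.Pts.Canonical
set_option linter.style.haveILetI false
set_option backward.isDefEq.respectTransparency false
set_option backward.isDefEq.respectTransparency.types false
set_option maxHeartbeats 1000000

set_option autoImplicit false
universe u
open CategoryTheory CategoryTheory.Limits AlgebraicGeometry MonoidalCategory CartesianMonoidalCategory MonObj
open JacVar

namespace Groth.Agent.S17822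

/-- Let k be an algebraically closed field, C a smooth proper connected curve of genus g ≥ 2 over k with
a k-point P, (J, ψ) its Jacobian (a commutative group scheme over k, coarse moduli scheme on all
k-schemes for degree-0 line bundles modulo twisting from the base, group law induced by tensor
product) and j : C ⟶ J the Abel map with base point P. Write W^r ⊂ J for the image of the r-fold
product C ×_k ⋯ ×_k C under (x_1, …, x_r) ↦ j(x_1) ⋯ j(x_r) (the image of the r-th symmetric power;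
W^0 is the origin), and W^r_a for its translate by a k-point a of J. Let κ be the k-point of J given
by ψ on Ω_{C/k} ⊗ I_P^{⊗(2g−2)} and Z^* the image of Z ⊂ J under x ↦ κ·x⁻¹. Let 0 ≤ r ≤ g − 2 and
let a, b, x, y be k-points of J with x in W^1, y in W^{g−1−r} and a·x = b·y. If W^{r+1}_a is not
contained in W^{g−1}_b, then W^{r+1}_a ∩ W^{g−1}_b = W^r_{a·x} ∪ (W^{r+1}_a ∩ (W^{g−2}_{y·a⁻¹})^*)
as subsets of J. -/
theorem result (k : Type u) [Field k] [IsAlgClosed k]
    (C : Scheme.{u}) [C.Over (Spec (CommRingCat.of k))]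
    [IsProper (C ↘ Spec (CommRingCat.of k))] [Smooth (C ↘ Spec (CommRingCat.of k))] [GeometricallyConnected (C ↘ Spec (CommRingCat.of k))]
    (hdim : topologicalKrullDim ↥C = 1)
    (g : ℕ) (hg : Curv2.genus k C = g) (hg2 : 2 ≤ g)
    (σ : Spec (CommRingCat.of k) ⟶ C) (hσ : σ ≫ (C ↘ Spec (CommRingCat.of k)) = 𝟙 _)
    (J : Over (Spec (CommRingCat.of k))) [GrpObj J] [IsCommMonObj J]
    (ψ : (ModFun.PicDeg (C ↘ Spec (CommRingCat.of k)) 0).Hom ⊤ J) (hJ : Jac.IsJacobian (C ↘ Spec (CommRingCat.of k)) ⊤ J ψ)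
    (j : Over.mk (C ↘ Spec (CommRingCat.of k)) ⟶ J) (hj : Jac.IsAbelJacobiAt (C ↘ Spec (CommRingCat.of k)) σ ψ j)
    (Kf : (PicF.XT (C ↘ Spec (CommRingCat.of k)) (𝟙_ (Over (Spec (CommRingCat.of k))))).Modules)
    (hKf : Nonempty (Kf ≅ (Scheme.Modules.pullback (pullback.fst (C ↘ Spec (CommRingCat.of k)) (𝟙_ (Over (Spec (CommRingCat.of k)))).hom)).obj
      (CohB1.tensorMod (Omega.sheaf (C ↘ Spec (CommRingCat.of k))) (CohB1.tensorPow (ClSub.idealMod σ.ker) (2 * g - 2)))))
    (hT₁ : (⊤ : ObjectProperty (Over (Spec (CommRingCat.of k)))) (𝟙_ (Over (Spec (CommRingCat.of k))))) (hKok : (ModFun.PicDeg (C ↘ Spec (CommRingCat.of k)) 0).ok (𝟙_ (Over (Spec (CommRingCat.of k)))) Kf)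
    (κ : (𝟙_ (Over (Spec (CommRingCat.of k)))) ⟶ J) (hκ : ψ.app (𝟙_ (Over (Spec (CommRingCat.of k)))) Kf hT₁ hKok = κ)
    (r : ℕ) (hr : r ≤ g - 2) (a b x y : (𝟙_ (Over (Spec (CommRingCat.of k)))) ⟶ J)
    (hx : ∀ p, x.left.base p ∈ Set.range ((List.ofFn fun i : Fin 1 =>
        (Over.homMk (WidePullback.π (fun (_ : Fin 1) => (C ↘ Spec (CommRingCat.of k))) i)
          (WidePullback.π_arrow (fun (_ : Fin 1) => (C ↘ Spec (CommRingCat.of k))) i) : Over.mk (WidePullback.base fun (_ : Fin 1) => (C ↘ Spec (CommRingCat.of k))) ⟶ Over.mk (C ↘ Spec (CommRingCat.of k))) ≫ j).prod).left.base)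
    (hy : ∀ p, y.left.base p ∈ Set.range ((List.ofFn fun i : Fin (g - 1 - r) =>
        (Over.homMk (WidePullback.π (fun (_ : Fin (g - 1 - r)) => (C ↘ Spec (CommRingCat.of k))) i)
          (WidePullback.π_arrow (fun (_ : Fin (g - 1 - r)) => (C ↘ Spec (CommRingCat.of k))) i) : Over.mk (WidePullback.base fun (_ : Fin (g - 1 - r)) => (C ↘ Spec (CommRingCat.of k))) ⟶ Over.mk (C ↘ Spec (CommRingCat.of k))) ≫ j).prod).left.base)
    (hab : a * x = b * y)
    (hnot : ¬ (((Jac.transl J a).left.base '' Set.range ((List.ofFn fun i : Fin (r + 1) =>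
        (Over.homMk (WidePullback.π (fun (_ : Fin (r + 1)) => (C ↘ Spec (CommRingCat.of k))) i)
          (WidePullback.π_arrow (fun (_ : Fin (r + 1)) => (C ↘ Spec (CommRingCat.of k))) i) : Over.mk (WidePullback.base fun (_ : Fin (r + 1)) => (C ↘ Spec (CommRingCat.of k))) ⟶ Over.mk (C ↘ Spec (CommRingCat.of k))) ≫ j).prod).left.base) ⊆ ((Jac.transl J b).left.base '' Set.range ((List.ofFn fun i : Fin (g - 1) =>
        (Over.homMk (WidePullback.π (fun (_ : Fin (g - 1)) => (C ↘ Spec (CommRingCat.of k))) i)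
          (WidePullback.π_arrow (fun (_ : Fin (g - 1)) => (C ↘ Spec (CommRingCat.of k))) i) : Over.mk (WidePullback.base fun (_ : Fin (g - 1)) => (C ↘ Spec (CommRingCat.of k))) ⟶ Over.mk (C ↘ Spec (CommRingCat.of k))) ≫ j).prod).left.base))) :
    ((Jac.transl J a).left.base '' Set.range ((List.ofFn fun i : Fin (r + 1) =>
        (Over.homMk (WidePullback.π (fun (_ : Fin (r + 1)) => (C ↘ Spec (CommRingCat.of k))) i)
          (WidePullback.π_arrow (fun (_ : Fin (r + 1)) => (C ↘ Spec (CommRingCat.of k))) i) : Over.mk (WidePullback.base fun (_ : Fin (r + 1)) => (C ↘ Spec (CommRingCat.of k))) ⟶ Over.mk (C ↘ Spec (CommRingCat.of k))) ≫ j).prod).left.base) ∩ ((Jac.transl J b).left.base '' Set.range ((List.ofFn fun i : Fin (g - 1) =>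
        (Over.homMk (WidePullback.π (fun (_ : Fin (g - 1)) => (C ↘ Spec (CommRingCat.of k))) i)
          (WidePullback.π_arrow (fun (_ : Fin (g - 1)) => (C ↘ Spec (CommRingCat.of k))) i) : Over.mk (WidePullback.base fun (_ : Fin (g - 1)) => (C ↘ Spec (CommRingCat.of k))) ⟶ Over.mk (C ↘ Spec (CommRingCat.of k))) ≫ j).prod).left.base) =
      ((Jac.transl J (a * x)).left.base '' Set.range ((List.ofFn fun i : Fin r =>
        (Over.homMk (WidePullback.π (fun (_ : Fin r) => (C ↘ Spec (CommRingCat.of k))) i)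
          (WidePullback.π_arrow (fun (_ : Fin r) => (C ↘ Spec (CommRingCat.of k))) i) : Over.mk (WidePullback.base fun (_ : Fin r) => (C ↘ Spec (CommRingCat.of k))) ⟶ Over.mk (C ↘ Spec (CommRingCat.of k))) ≫ j).prod).left.base) ∪
      (((Jac.transl J a).left.base '' Set.range ((List.ofFn fun i : Fin (r + 1) =>
        (Over.homMk (WidePullback.π (fun (_ : Fin (r + 1)) => (C ↘ Spec (CommRingCat.of k))) i)
          (WidePullback.π_arrow (fun (_ : Fin (r + 1)) => (C ↘ Spec (CommRingCat.of k))) i) : Over.mk (WidePullback.base fun (_ : Fin (r + 1)) => (C ↘ Spec (CommRingCat.of k))) ⟶ Over.mk (C ↘ Spec (CommRingCat.of k))) ≫ j).prod).left.base) ∩ ((Jac.transl J κ).left.base '' (((𝟙 J)⁻¹).left.base '' ((Jac.transl J (y * a⁻¹)).left.base '' Set.range ((List.ofFn fun i : Fin (g - 2) =>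
        (Over.homMk (WidePullback.π (fun (_ : Fin (g - 2)) => (C ↘ Spec (CommRingCat.of k))) i)
          (WidePullback.π_arrow (fun (_ : Fin (g - 2)) => (C ↘ Spec (CommRingCat.of k))) i) : Over.mk (WidePullback.base fun (_ : Fin (g - 2)) => (C ↘ Spec (CommRingCat.of k))) ⟶ Over.mk (C ↘ Spec (CommRingCat.of k))) ≫ j).prod).left.base)))) := by
  let f := C ↘ Spec (CommRingCat.of k)
  haveI : IsProper f := ‹_›
  obtain ⟨hp, -⟩ := PicCurve.Pts.coarse_facts C hdim σ hσ hJ hj
  haveI := hp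
  rw [PicCurve.Pts.forall_mem_iff] at hx hy
  obtain ⟨x', hx'⟩ := (PicCurve.Pts.mem_range_sumMap f j 1 x).1 hx
  replace hy : y ∈ PicCurve.Pts.WJ f j (g - 1 - r) := (PicCurve.Pts.mem_range_sumMap f j _ y).1 hy
  let x₀ := x' 0
  have hx₀ : x = x₀ ≫ j := by
    rw [hx', List.ofFn_succ, List.ofFn_zero, List.prod_singleton]
  have hinv : ∀ z : 𝟙_ (Over (Spec (CommRingCat.of k))) ⟶ J,
      z ∈ PicCurve.Pts.WJ f j (g - 1) → κ * z⁻¹ ∈ PicCurve.Pts.WJ f j (g - 1) := fun z hz =>
    PicCurve.Pts.canonical_involution C hdim σ hσ hJ hj hg hg2 Kf hKf hKok hκ hz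
  have hab' : a * b⁻¹ = y * x⁻¹ := by
    rw [eq_mul_inv_iff_mul_eq, mul_right_comm, hab, mul_right_comm, mul_inv_cancel, _root_.one_mul]
  -- the excluded case
  have hxW : x ∈ PicCurve.Pts.WJ f j 1 := ⟨x', hx'⟩
  have hout : ¬ y * x⁻¹ ∈ PicCurve.Pts.WJ f j (g - 2 - r) := fun h => hnot
    (PicCurve.Pts.subset_of_pts (PicCurve.Pts.isClosed_image_transl a (PicCurve.Pts.isClosed_range_sumMap f j _))
      (PicCurve.Pts.isClosed_image_transl b (PicCurve.Pts.isClosed_range_sumMap f j _)) fun c hc => by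
        rw [PicCurve.Pts.pt_mem_image_transl] at hc ⊢
        have h1 := PicCurve.Pts.mul_mem_WJ ((PicCurve.Pts.mem_range_sumMap f j _ _).1 hc) h
        rw [← hab', ← _root_.mul_assoc, inv_mul_cancel_right, show r + 1 + (g - 2 - r) = g - 1 by omega] at h1
        exact (PicCurve.Pts.mem_range_sumMap f j _ _).2 h1)
  let ι' : J ⟶ J := (𝟙 J)⁻¹
  have hιc : ∀ z : 𝟙_ (Over (Spec (CommRingCat.of k))) ⟶ J, z ≫ ι' = z⁻¹ := fun z => by
    rw [GrpObj.comp_inv, Category.comp_id]
  have hιι : ι' ≫ ι' = 𝟙 J := by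
    show ι' ≫ (𝟙 J)⁻¹ = _
    rw [GrpObj.comp_inv, Category.comp_id, inv_inv]
  have hι : ∀ Z : Set J.left, ι'.left.base '' Z = ι'.left.base ⁻¹' Z := fun Z => by
    have h1 : ∀ z, ι'.left.base (ι'.left.base z) = z := fun z => congr($(hιι).left z)
    ext z
    exact ⟨fun ⟨w, hw, hz⟩ => by rw [Set.mem_preimage, ← hz, h1]; exact hw, fun hz => ⟨_, hz, h1 z⟩⟩
  have c1 := PicCurve.Pts.isClosed_image_transl a (PicCurve.Pts.isClosed_range_sumMap f j (r + 1))
  have c2 := PicCurve.Pts.isClosed_image_transl b (PicCurve.Pts.isClosed_range_sumMap f j (g - 1))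
  have c3 := PicCurve.Pts.isClosed_image_transl (a * x) (PicCurve.Pts.isClosed_range_sumMap f j r)
  have c4 : IsClosed ((Jac.transl J κ).left.base '' (ι'.left.base '' ((Jac.transl J (y * a⁻¹)).left.base ''
      Set.range (PicCurve.Pts.sumMap f j (g - 2)).left.base))) := by
    refine PicCurve.Pts.isClosed_image_transl κ ?_
    rw [hι]
    exact (PicCurve.Pts.isClosed_image_transl _ (PicCurve.Pts.isClosed_range_sumMap f j _)).preimage ι'.left.continuous
  have m4 : ∀ c, PicCurve.Pts.pt c ∈ (Jac.transl J κ).left.base '' (ι'.left.base '' ((Jac.transl J (y * a⁻¹)).left.base ''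
      Set.range (PicCurve.Pts.sumMap f j (g - 2)).left.base)) ↔ κ * (c * a⁻¹ * y)⁻¹ ∈ PicCurve.Pts.WJ f j (g - 2) := by
    intro c
    rw [PicCurve.Pts.pt_mem_image_transl, hι, Set.mem_preimage, PicCurve.Pts.pt_comp, hιc,
      PicCurve.Pts.pt_mem_image_transl, PicCurve.Pts.mem_range_sumMap,
      show (c * κ⁻¹)⁻¹ * (y * a⁻¹)⁻¹ = κ * (c * a⁻¹ * y)⁻¹ by
        rw [← mul_inv, mul_right_comm c, _root_.mul_comm y a⁻¹, ← _root_.mul_assoc, mul_inv, inv_inv, _root_.mul_comm]]
    rfl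
  have hc : ∀ c, PicCurve.Pts.pt c ∈ (Jac.transl J b).left.base '' Set.range (PicCurve.Pts.sumMap f j (g - 1)).left.base ↔
      c * a⁻¹ * y * x⁻¹ ∈ PicCurve.Pts.WJ f j (g - 1) := by
    intro c
    rw [PicCurve.Pts.pt_mem_image_transl, PicCurve.Pts.mem_range_sumMap, _root_.mul_assoc (c * a⁻¹), ← hab',
      _root_.mul_assoc c, ← _root_.mul_assoc a⁻¹, inv_mul_cancel, _root_.one_mul]
    rfl
  refine Set.Subset.antisymm ?_ ?_
  · refine PicCurve.Pts.subset_of_pts (c1.inter c2) (c3.union (c1.inter c4)) ?_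
    rintro c ⟨h1, h2⟩
    have h1' := h1
    rw [PicCurve.Pts.pt_mem_image_transl, PicCurve.Pts.mem_range_sumMap] at h1'
    rw [hc, hx₀] at h2
    rcases PicCurve.Pts.point_or_residual C hdim σ hσ hJ hj hg hg2 Kf hKf hKok hκ hr h1' hy x₀ h2 with h | h | h
    · refine Or.inl ?_
      rw [PicCurve.Pts.pt_mem_image_transl, mul_inv, ← _root_.mul_assoc, hx₀]
      exact (PicCurve.Pts.mem_range_sumMap f j _ _).2 h
    · exact absurd (hx₀ ▸ h) hout
    · exact Or.inr ⟨h1, (m4 c).2 h⟩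
  · refine PicCurve.Pts.subset_of_pts (c3.union (c1.inter c4)) (c1.inter c2) ?_
    rintro c (h | ⟨h1, h4⟩)
    · rw [PicCurve.Pts.pt_mem_image_transl, PicCurve.Pts.mem_range_sumMap, mul_inv, ← _root_.mul_assoc] at h
      refine ⟨?_, (hc c).2 ?_⟩
      · rw [PicCurve.Pts.pt_mem_image_transl]
        have h5 := PicCurve.Pts.mul_mem_WJ h hxW
        rw [inv_mul_cancel_right] at h5
        exact (PicCurve.Pts.mem_range_sumMap f j _ _).2 h5
      · have h5 := PicCurve.Pts.mul_mem_WJ h hy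
        rw [show r + (g - 1 - r) = g - 1 by omega, mul_right_comm] at h5
        exact h5
    · refine ⟨h1, (hc c).2 ?_⟩
      have h5 := PicCurve.Pts.mul_mem_WJ ((m4 c).1 h4) hxW
      rw [show g - 2 + 1 = g - 1 by omega] at h5
      have h6 := hinv _ h5
      rwa [mul_inv, mul_inv, inv_inv, ← _root_.mul_assoc, ← _root_.mul_assoc, mul_inv_cancel, _root_.one_mul] at h6

end Groth.Agent.S17822
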