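import Groth.Statements.S17823
import Groth.Agent.PicCurve.ThetaPull.Canon
set_option linter.style.haveILetI false
set_option backward.isDefEq.respectTransparency false
set_option backward.isDefEq.respectTransparency.types false
set_option maxHeartbeats 1000000

set_option autoImplicit false
universe u
open CategoryTheory CategoryTheory.Limits AlgebraicGeometry MonoidalCategory CartesianMonoidalCategory MonObj
open JacVar

namespace Groth.Agent.S17823
open scoped Groth.Agent.H23.PicMul

/-- Let k be an algebraically closed field, C a smooth proper connected curve of genus g ≥ 2 over k with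
a k-point P, (J, ψ) its Jacobian (a commutative group scheme over k, coarse moduli scheme on all
k-schemes for degree-0 line bundles modulo twisting from the base, group law induced by tensor
product) and j : C ⟶ J the Abel map with base point P. Write W^r ⊂ J for the image of the r-fold
product C ×_k ⋯ ×_k C under (x_1, …, x_r) ↦ j(x_1) ⋯ j(x_r) (the image of the r-th symmetric power;
W^0 is the origin), and W^r_a for its translate by a k-point a of J. Let κ be the k-point of J given
by ψ on Ω_{C/k} ⊗ I_P^{⊗(2g−2)}. If a is a k-point of J such that W^1 = j(C) is not contained in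
W^{g−1}_a, then there are k-points P_1, …, P_g of C, unique up to reordering, with j(P_1) ⋯ j(P_g) =
a·κ (the unique effective divisor D(a) of degree g whose class maps to a·κ), and W^1 · W^{g−1}_a
regarded as a divisor on C equals D(a): the pullback along j of the ideal of the reduced closed
subscheme W^{g−1}_a is the product of the ideals of the points P_i. -/
theorem result (k : Type u) [Field k] [IsAlgClosed k]
    (C : Scheme.{u}) [C.Over (Spec (CommRingCat.of k))]
    [IsProper (C ↘ Spec (CommRingCat.of k))] [Smooth (C ↘ Spec (CommRingCat.of k))] [GeometricallyConnected (C ↘ Spec (CommRingCat.of k))]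
    (hdim : topologicalKrullDim ↥C = 1)
    (g : ℕ) (hg : Curv2.genus k C = g) (hg2 : 2 ≤ g)
    (σ : Spec (CommRingCat.of k) ⟶ C) (hσ : σ ≫ (C ↘ Spec (CommRingCat.of k)) = 𝟙 _)
    (J : Over (Spec (CommRingCat.of k))) [GrpObj J] [IsCommMonObj J]
    (ψ : (ModFun.PicDeg (C ↘ Spec (CommRingCat.of k)) 0).Hom ⊤ J) (hJ : Jac.IsJacobian (C ↘ Spec (CommRingCat.of k)) ⊤ J ψ)
    (j : Over.mk (C ↘ Spec (CommRingCat.of k)) ⟶ J) (hj : Jac.IsAbelJacobiAt (C ↘ Spec (CommRingCat.of k)) σ ψ j)
    (Kf : (PicF.XT (C ↘ Spec (CommRingCat.of k)) (𝟙_ (Over (Spec (CommRingCat.of k))))).Modules)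
    (hKf : Nonempty (Kf ≅ (Scheme.Modules.pullback (pullback.fst (C ↘ Spec (CommRingCat.of k)) (𝟙_ (Over (Spec (CommRingCat.of k)))).hom)).obj
      (CohB1.tensorMod (Omega.sheaf (C ↘ Spec (CommRingCat.of k))) (CohB1.tensorPow (ClSub.idealMod σ.ker) (2 * g - 2)))))
    (hT₁ : (⊤ : ObjectProperty (Over (Spec (CommRingCat.of k)))) (𝟙_ (Over (Spec (CommRingCat.of k))))) (hKok : (ModFun.PicDeg (C ↘ Spec (CommRingCat.of k)) 0).ok (𝟙_ (Over (Spec (CommRingCat.of k)))) Kf)
    (κ : (𝟙_ (Over (Spec (CommRingCat.of k)))) ⟶ J) (hκ : ψ.app (𝟙_ (Over (Spec (CommRingCat.of k)))) Kf hT₁ hKok = κ)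
    (a : (𝟙_ (Over (Spec (CommRingCat.of k)))) ⟶ J) (ha : ¬ (Set.range ((List.ofFn fun i : Fin 1 =>
        (Over.homMk (WidePullback.π (fun (_ : Fin 1) => (C ↘ Spec (CommRingCat.of k))) i)
          (WidePullback.π_arrow (fun (_ : Fin 1) => (C ↘ Spec (CommRingCat.of k))) i) : Over.mk (WidePullback.base fun (_ : Fin 1) => (C ↘ Spec (CommRingCat.of k))) ⟶ Over.mk (C ↘ Spec (CommRingCat.of k))) ≫ j).prod).left.base ⊆ ((Jac.transl J a).left.base '' Set.range ((List.ofFn fun i : Fin (g - 1) =>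
        (Over.homMk (WidePullback.π (fun (_ : Fin (g - 1)) => (C ↘ Spec (CommRingCat.of k))) i)
          (WidePullback.π_arrow (fun (_ : Fin (g - 1)) => (C ↘ Spec (CommRingCat.of k))) i) : Over.mk (WidePullback.base fun (_ : Fin (g - 1)) => (C ↘ Spec (CommRingCat.of k))) ⟶ Over.mk (C ↘ Spec (CommRingCat.of k))) ≫ j).prod).left.base))) :
    ∃ (D : Fin g → (Spec (CommRingCat.of k) ⟶ C)) (hD : ∀ i, D i ≫ (C ↘ Spec (CommRingCat.of k)) = 𝟙 _),
      (List.ofFn fun i : Fin g => (Over.homMk (D i) (hD i) : (𝟙_ (Over (Spec (CommRingCat.of k)))) ⟶ Over.mk (C ↘ Spec (CommRingCat.of k))) ≫ j).prod = a * κ ∧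
      (∀ (D' : Fin g → (Spec (CommRingCat.of k) ⟶ C)) (hD' : ∀ i, D' i ≫ (C ↘ Spec (CommRingCat.of k)) = 𝟙 _),
        (List.ofFn fun i : Fin g => (Over.homMk (D' i) (hD' i) : (𝟙_ (Over (Spec (CommRingCat.of k)))) ⟶ Over.mk (C ↘ Spec (CommRingCat.of k))) ≫ j).prod = a * κ → ∃ e : Equiv.Perm (Fin g), ∀ i, D' i = D (e i)) ∧
      (Scheme.IdealSheafData.vanishingIdeal ⟨closure ((Jac.transl J a).left.base '' Set.range ((List.ofFn fun i : Fin (g - 1) =>
        (Over.homMk (WidePullback.π (fun (_ : Fin (g - 1)) => (C ↘ Spec (CommRingCat.of k))) i)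
          (WidePullback.π_arrow (fun (_ : Fin (g - 1)) => (C ↘ Spec (CommRingCat.of k))) i) : Over.mk (WidePullback.base fun (_ : Fin (g - 1)) => (C ↘ Spec (CommRingCat.of k))) ⟶ Over.mk (C ↘ Spec (CommRingCat.of k))) ≫ j).prod).left.base), isClosed_closure⟩).comap j.left =
        ∏ i : Fin g, (D i).ker := by
  let f := C ↘ Spec (CommRingCat.of k)
  let P : Over (Spec (CommRingCat.of k)) := 𝟙_ _
  haveI : ConnectedSpace C := PicCurve.Alb.connectedSpace_of_geomConn f
  haveI : GeometricallyIntegral f := Groth.Agent.S7791.result f σ hσ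
  haveI : IsIntegral C := GeometricallyIntegral.isIntegral_of_subsingleton f
  haveI : SmoothOfRelativeDimension 1 f := Groth.Agent.HilbCurve.smoothOfRelativeDimension_one f hdim
  obtain ⟨hp, -⟩ := PicCurve.Pts.coarse_facts C hdim σ hσ hJ hj
  haveI := hp
  let W := PicCurve.Pts.WJ f j
  have hinv : ∀ u ∈ W (g - 1), κ * u⁻¹ ∈ W (g - 1) := fun u hu =>
    PicCurve.Pts.canonical_involution C hdim σ hσ hJ hj hg hg2 Kf hKf hKok hκ hu
  obtain ⟨x₀, hx₀⟩ : ∃ x₀ : P ⟶ Over.mk f, (x₀ ≫ j) * a⁻¹ ∉ W (g - 1) := by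
    by_contra hc
    push Not at hc
    refine ha (PicCurve.Pts.subset_of_pts (PicCurve.Pts.isClosed_range_sumMap f j 1)
      (PicCurve.Pts.isClosed_image_transl a (PicCurve.Pts.isClosed_range_sumMap f j _)) fun c hcm => ?_)
    obtain ⟨v, rfl⟩ := (PicCurve.Pts.mem_range_sumMap f j 1 c).1 hcm
    rw [List.ofFn_succ, List.ofFn_zero, List.prod_singleton, PicCurve.Pts.pt_mem_image_transl,
      PicCurve.Pts.mem_range_sumMap]
    exact hc (v 0)
  obtain ⟨xs, M, hb, hM, hM1, hcl⟩ := PicCurve.ThetaPull.exists_one_section C hdim σ hσ hJ hj hg (by omega) (a * κ) x₀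
    fun h => hx₀ (by
      have h' := hinv _ h
      rwa [mul_inv, mul_inv, inv_inv, _root_.mul_comm a⁻¹, ← _root_.mul_assoc, ← _root_.mul_assoc, mul_inv_cancel,
        _root_.one_mul, _root_.mul_comm] at h')
  have hcomap : ∀ v : Fin g → (P ⟶ Over.mk f), a * κ = (List.ofFn fun i => v i ≫ j).prod →
      (Scheme.IdealSheafData.vanishingIdeal ⟨closure ((Jac.transl J a).left.base ''
        Set.range (PicCurve.Pts.sumMap f j (g - 1)).left.base), isClosed_closure⟩).comap j.left =
      ∏ i, (v i).left.ker := by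
    intro v hv
    have hset : (Jac.transl J a).left.base '' Set.range (PicCurve.Pts.sumMap f j (g - 1)).left.base =
        PicCurve.ThetaPull.thetaMinus C (j := j) (g - 1) (a * κ) := by
      have c1 := PicCurve.Pts.isClosed_image_transl a (PicCurve.Pts.isClosed_range_sumMap f j (g - 1))
      have c2 := PicCurve.ThetaPull.isClosed_thetaMinus C (j := j) (g - 1) (a * κ)
      have key : ∀ c : P ⟶ J, c * a⁻¹ ∈ W (g - 1) ↔ a * κ * c⁻¹ ∈ W (g - 1) := by
        intro c
        have e1 : κ * (c * a⁻¹)⁻¹ = a * κ * c⁻¹ := by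
          rw [mul_inv, inv_inv, ← _root_.mul_assoc, mul_right_comm, _root_.mul_comm κ a]
        have e2 : κ * (a * κ * c⁻¹)⁻¹ = c * a⁻¹ := by
          rw [mul_inv, mul_inv, inv_inv, _root_.mul_comm a⁻¹, ← _root_.mul_assoc, ← _root_.mul_assoc, mul_inv_cancel,
            _root_.one_mul, _root_.mul_comm]
        exact ⟨fun h => e1 ▸ hinv _ h, fun h => e2 ▸ hinv _ h⟩
      refine Set.Subset.antisymm (PicCurve.Pts.subset_of_pts c1 c2 fun c hc => ?_)
        (PicCurve.Pts.subset_of_pts c2 c1 fun c hc => ?_)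
      · rw [PicCurve.Pts.pt_mem_image_transl, PicCurve.Pts.mem_range_sumMap] at hc
        exact (PicCurve.ThetaPull.pt_mem_thetaMinus C _ _ _).2 ((key c).1 hc)
      · rw [PicCurve.Pts.pt_mem_image_transl, PicCurve.Pts.mem_range_sumMap]
        exact (key c).2 ((PicCurve.ThetaPull.pt_mem_thetaMinus C _ _ _).1 hc)
    simp only [hset]
    exact PicCurve.ThetaPull.comap_thetaMinus C hdim σ hσ hJ hj hg (by omega) v (a * κ) hv hM (hcl v hv) hM1
  refine ⟨fun i => (xs i).left, fun i => Over.w (xs i), hb.symm, fun D' hD' h' => ?_, hcomap xs hb⟩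
  obtain ⟨e, he⟩ := PicCurve.ThetaPull.exists_perm f (fun i => Over.homMk (D' i) (hD' i)) xs
    ((hcomap _ h'.symm).symm.trans (hcomap xs hb))
  exact ⟨e, fun i => congr($(he i).left)⟩

end Groth.Agent.S17823
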