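import Groth.Statements.S17824
import Groth.Agent.PicCurve.Pts.Generic
set_option linter.style.haveILetI false
set_option backward.isDefEq.respectTransparency false
set_option backward.isDefEq.respectTransparency.types false
set_option maxHeartbeats 1000000

set_option autoImplicit false
universe u
open CategoryTheory CategoryTheory.Limits AlgebraicGeometry
open JacVar
open MonoidalCategory CartesianMonoidalCategory
open scoped MonObj Groth.Agent.H23.PicMul

namespace Groth.Agent.S17824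

/-- Parts (a) and (b) over an algebraically closed field. Let C be a smooth proper connected curve of
genus g > 0 over an algebraically closed field k with a k-point P, and consider the 2g-fold fibre
power C ×_k ⋯ ×_k C, a k-rational point of which is a pair (D, D') of g-tuples of k-points (the
first g and the last g coordinates). (a) There is a nonempty open subset U of it such that for every
k-rational point (P_1, …, P_{2g}) of U and every invertible module M with M ⊗ I_{P_1} ⊗ ⋯ ⊗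
I_{P_{2g}} ≅ I_P^{⊗g}, i.e. M ≅ O(D + D' − gP), one has h⁰(C, M) = 1. (b) There is a nonempty open
subset V such that for every k-rational point of V and every invertible M with M ⊗ I_{P_{g+1}} ⊗ ⋯ ⊗
I_{P_{2g}} ⊗ I_P^{⊗g} ≅ I_{P_1} ⊗ ⋯ ⊗ I_{P_g}, i.e. M ≅ O(D' − D + gP), one has h⁰(C, M) = 1. (The
published lemma is phrased on C^(g) × C^(g), over the ground field, and for points with values in
every field containing it; this row takes k algebraically closed and k-points of the 2g-fold fibre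
power.) -/
theorem result (k : Type u) [Field k] [IsAlgClosed k]
    (C : Scheme.{u}) [C.Over (Spec (CommRingCat.of k))]
    [IsProper (C ↘ Spec (CommRingCat.of k))] [Smooth (C ↘ Spec (CommRingCat.of k))] [GeometricallyConnected (C ↘ Spec (CommRingCat.of k))]
    (hdim : topologicalKrullDim ↥C = 1)
    (g : ℕ) (hg : Curv2.genus k C = g) (hg1 : 1 ≤ g)
    (σ : Spec (CommRingCat.of k) ⟶ C) (hσ : σ ≫ (C ↘ Spec (CommRingCat.of k)) = 𝟙 _) :
    (∃ U : (SymProd.fibPow (C ↘ Spec (CommRingCat.of k)) (2 * g)).Opens, (U : Set ↥(SymProd.fibPow (C ↘ Spec (CommRingCat.of k)) (2 * g))).Nonempty ∧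
      ∀ (x : Spec (CommRingCat.of k) ⟶ SymProd.fibPow (C ↘ Spec (CommRingCat.of k)) (2 * g))
        (hx : x ≫ WidePullback.base (fun (_ : Fin (2 * g)) => (C ↘ Spec (CommRingCat.of k))) = 𝟙 _)
        (hxU : ∀ p, x.base p ∈ U) (M : C.Modules) (hM : PicF.IsInvertible M)
        (hMD : Nonempty (CohB1.tensorMod M (FGA.tensorList (List.ofFn fun i : Fin (2 * g) => ClSub.idealMod (x ≫ WidePullback.π (fun (_ : Fin (2 * g)) => (C ↘ Spec (CommRingCat.of k))) i).ker)) ≅
          CohB1.tensorPow (ClSub.idealMod σ.ker) g)),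
        Module.finrank k (Coh.HH C M 0) = 1) ∧
    (∃ V : (SymProd.fibPow (C ↘ Spec (CommRingCat.of k)) (2 * g)).Opens, (V : Set ↥(SymProd.fibPow (C ↘ Spec (CommRingCat.of k)) (2 * g))).Nonempty ∧
      ∀ (x : Spec (CommRingCat.of k) ⟶ SymProd.fibPow (C ↘ Spec (CommRingCat.of k)) (2 * g))
        (hx : x ≫ WidePullback.base (fun (_ : Fin (2 * g)) => (C ↘ Spec (CommRingCat.of k))) = 𝟙 _)
        (hxV : ∀ p, x.base p ∈ V) (M : C.Modules) (hM : PicF.IsInvertible M)
        (hMD : Nonempty (CohB1.tensorMod M (CohB1.tensorMod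
            (FGA.tensorList (List.ofFn fun i : Fin g => ClSub.idealMod (x ≫ WidePullback.π (fun (_ : Fin (2 * g)) => (C ↘ Spec (CommRingCat.of k))) (Fin.cast (two_mul g).symm (Fin.natAdd g i))).ker))
            (CohB1.tensorPow (ClSub.idealMod σ.ker) g)) ≅
          FGA.tensorList (List.ofFn fun i : Fin g => ClSub.idealMod (x ≫ WidePullback.π (fun (_ : Fin (2 * g)) => (C ↘ Spec (CommRingCat.of k))) (Fin.cast (two_mul g).symm (Fin.castAdd g i))).ker))),
        Module.finrank k (Coh.HH C M 0) = 1) := by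
  let f := C ↘ Spec (CommRingCat.of k)
  haveI : IsProper f := ‹_›
  haveI : Smooth f := ‹_›
  haveI : ConnectedSpace C := PicCurve.Alb.connectedSpace_of_geomConn f
  haveI : GeometricallyIntegral f := Groth.Agent.S7791.result f σ hσ
  haveI : IsIntegral C := GeometricallyIntegral.isIntegral_of_subsingleton f
  haveI : SmoothOfRelativeDimension 1 f := Groth.Agent.HilbCurve.smoothOfRelativeDimension_one f hdim
  obtain ⟨J₀, ξ, hp, hsm, hi, hξ, huniv⟩ := Groth.Agent.PicCurve.exists_jacobian_field f hdim σ hσ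
  haveI := hp; haveI := hsm; haveI := hi
  letI := PicCurve.jacGrpObj f hdim σ hσ ξ hξ huniv
  haveI := PicCurve.jac_isCommMonObj f hdim σ hσ ξ hξ huniv
  let aj := PicCurve.Alb.aj f hdim σ hσ ξ hξ huniv
  let O := PicCurve.Alb.goodU f σ hσ ξ
  obtain ⟨c, hc⟩ := PicCurve.Pts.exists_good_tuple hdim σ hσ ξ hξ huniv
  have hgen : PicCurve.Alb.gen f = g := hg
  have hsum : (2 * g) = g + g := two_mul g
  let P := Over.mk (WidePullback.base fun (_ : Fin (2 * g)) => f)
  let π : Fin (2 * g) → (P ⟶ Over.mk f) := fun i =>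
    Over.homMk (WidePullback.π (fun (_ : Fin (2 * g)) => f) i) (WidePullback.π_arrow (fun (_ : Fin (2 * g)) => f) i)
  let l : Fin g → Fin (2 * g) := fun i => Fin.cast hsum.symm (Fin.castAdd g i)
  let r : Fin g → Fin (2 * g) := fun i => Fin.cast hsum.symm (Fin.natAdd g i)
  let b₀ : 𝟙_ (Over (Spec (CommRingCat.of k))) ⟶ Over.mk f := Over.homMk σ hσ
  have hb₀ : b₀ ≫ aj = 1 := (PicCurve.Alb.basePt_aj f hdim σ hσ ξ hξ huniv).trans (MonObj.one_eq_one _)
  let c' : Fin g → (𝟙_ (Over (Spec (CommRingCat.of k))) ⟶ Over.mk f) := fun i => c (Fin.cast hgen.symm i)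
  have hc' : PicCurve.Pts.pt (List.ofFn fun i => c' i ≫ aj).prod ∈ O := by
    rw [List.ofFn_congr hgen] at hc
    exact hc
  have hone : (List.ofFn fun _ : Fin g => b₀ ≫ aj).prod = 1 := List.prod_eq_one fun z hz => by
    obtain ⟨i, rfl⟩ := List.mem_ofFn.1 hz
    exact hb₀
  have mkPt : ∀ u v : Fin g → (𝟙_ (Over (Spec (CommRingCat.of k))) ⟶ Over.mk f),
      ∃ q : 𝟙_ (Over (Spec (CommRingCat.of k))) ⟶ P, (∀ i, q ≫ π (l i) = u i) ∧ ∀ i, q ≫ π (r i) = v i := by
    intro u v
    let w : Fin (2 * g) → (𝟙_ (Over (Spec (CommRingCat.of k))) ⟶ Over.mk f) := fun i => Fin.append u v (Fin.cast hsum i)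
    refine ⟨Over.homMk (WidePullback.lift (𝟙 _) (fun i => (w i).left) (fun i => Over.w (w i))) (WidePullback.lift_base _ _ _ _),
      fun i => ?_, fun i => ?_⟩
    · refine Over.OverMorphism.ext ((WidePullback.lift_π _ _ _ _ _).trans ?_)
      simp only [w, l, Fin.cast_cast, Fin.cast_eq_self, Fin.append_left]
    · refine Over.OverMorphism.ext ((WidePullback.lift_π _ _ _ _ _).trans ?_)
      simp only [w, r, Fin.cast_cast, Fin.cast_eq_self, Fin.append_right]
  let Sl : P ⟶ J₀ := (List.ofFn fun i => π (l i) ≫ aj).prod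
  let Sr : P ⟶ J₀ := (List.ofFn fun i => π (r i) ≫ aj).prod
  have hS : ∀ (q : 𝟙_ (Over (Spec (CommRingCat.of k))) ⟶ P),
      q ≫ Sl = (List.ofFn fun i => (q ≫ π (l i)) ≫ aj).prod ∧ q ≫ Sr = (List.ofFn fun i => (q ≫ π (r i)) ≫ aj).prod := fun q => by
    simp only [Sl, Sr, PicCurve.Pts.comp_prod_ofFn, Category.assoc, and_self]
  have hpow : PicF.cl (CohB1.tensorPow (ClSub.idealMod σ.ker) g) = PicCurve.Alb.δ σ ^ g := H23.PicMul.cl_tensorPow _ _
  constructor
  · refine ⟨(Sl * Sr).left ⁻¹ᵁ O, ?_, fun x hx hxU M hM hMD => ?_⟩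
    · obtain ⟨q, h1, h2⟩ := mkPt c' fun _ => b₀
      refine ⟨PicCurve.Pts.pt q, ?_⟩
      show (Sl * Sr).left.base (PicCurve.Pts.pt q) ∈ O
      rw [PicCurve.Pts.pt_comp, MonObj.comp_mul, (hS q).1, (hS q).2]
      simp only [h1, h2, hone, _root_.mul_one]
      exact hc'
    · let q : 𝟙_ (Over (Spec (CommRingCat.of k))) ⟶ P := Over.homMk x hx
      have h1 : (Sl * Sr).left.base (PicCurve.Pts.pt q) ∈ O := hxU _
      rw [PicCurve.Pts.pt_comp] at h1
      let u := (List.ofFn fun i => PicCurve.Pts.ptCl f (q ≫ π (l i))).prod *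
        (List.ofFn fun i => PicCurve.Pts.ptCl f (q ≫ π (r i))).prod
      refine PicCurve.Pts.h0_eq_one_of_equation hdim σ hσ ξ hξ huniv _ h1 hM u
        (H23.PicMul.isInvertibleCl_mul (PicCurve.Pts.isInvertibleCl_prod_pt f g _) (PicCurve.Pts.isInvertibleCl_prod_pt f g _)) ?_
      obtain ⟨e⟩ := hMD
      have h2 := (H23.PicMul.cl_tensor _ _).symm.trans (H23.PicMul.cl_eq_iff.2 ⟨e⟩)
      rw [PicCurve.Pts.cl_tensorList_ofFn, hpow, PicCurve.Pts.prod_ofFn_split hsum] at h2
      change PicF.cl M * u = _ at h2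
      have hR : PicCurve.Pts.A f σ hσ ξ (q ≫ (Sl * Sr)) * u = PicCurve.Alb.δ σ ^ g * PicCurve.Alb.δ σ ^ g := by
        rw [MonObj.comp_mul, PicCurve.Pts.A_mul f hdim σ hσ ξ hξ huniv, (hS q).1, (hS q).2]
        refine (mul_mul_mul_comm _ _ _ _).trans ?_
        exact congrArg₂ (· * ·) (PicCurve.Pts.A_prod hdim σ hσ ξ hξ huniv g fun i => q ≫ π (l i))
          (PicCurve.Pts.A_prod hdim σ hσ ξ hξ huniv g fun i => q ≫ π (r i))
      refine Eq.trans ?_ hR.symm
      rw [hgen, mul_right_comm, h2]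
  · refine ⟨(Sr * Sl⁻¹).left ⁻¹ᵁ O, ?_, fun x hx hxV M hM hMD => ?_⟩
    · obtain ⟨q, h1, h2⟩ := mkPt (fun _ => b₀) c'
      refine ⟨PicCurve.Pts.pt q, ?_⟩
      show (Sr * Sl⁻¹).left.base (PicCurve.Pts.pt q) ∈ O
      rw [PicCurve.Pts.pt_comp, MonObj.comp_mul, GrpObj.comp_inv, (hS q).1, (hS q).2]
      simp only [h1, h2, hone, inv_one, _root_.mul_one]
      exact hc'
    · let q : 𝟙_ (Over (Spec (CommRingCat.of k))) ⟶ P := Over.homMk x hx
      have h1 : (Sr * Sl⁻¹).left.base (PicCurve.Pts.pt q) ∈ O := hxV _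
      rw [PicCurve.Pts.pt_comp] at h1
      let U := fun i => PicCurve.Pts.ptCl f (q ≫ π (r i))
      let V := fun i => PicCurve.Pts.ptCl f (q ≫ π (l i))
      refine PicCurve.Pts.h0_eq_one_of_equation hdim σ hσ ξ hξ huniv _ h1 hM (List.ofFn U).prod
        (PicCurve.Pts.isInvertibleCl_prod_pt f g _) ?_
      obtain ⟨e⟩ := hMD
      have h2 := ((H23.PicMul.cl_tensor _ _).trans (congrArg (_ * ·) (H23.PicMul.cl_tensor _ _))).symm.trans
        (H23.PicMul.cl_eq_iff.2 ⟨e⟩)
      rw [PicCurve.Pts.cl_tensorList_ofFn, PicCurve.Pts.cl_tensorList_ofFn, hpow] at h2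
      change PicF.cl M * ((List.ofFn U).prod * _) = (List.ofFn V).prod at h2
      rw [hgen, _root_.mul_assoc, _root_.mul_comm (PicCurve.Alb.δ σ ^ g), h2]
      -- both sides agree after multiplying with the class of the inverted sum
      rw [MonObj.comp_mul, GrpObj.comp_inv]
      have hl := PicCurve.Pts.A_prod hdim σ hσ ξ hξ huniv g fun i => q ≫ π (l i)
      have hr := PicCurve.Pts.A_prod hdim σ hσ ξ hξ huniv g fun i => q ≫ π (r i)
      rw [← (hS q).1] at hl
      rw [← (hS q).2, ← hl] at hr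
      refine PicCurve.eq_of_invCl_mul (PicCurve.Pts.isInvertibleCl_A f σ hσ ξ (q ≫ Sl)) ?_
      rw [_root_.mul_comm (List.ofFn V).prod, ← hr, mul_right_comm, ← PicCurve.Pts.A_mul f hdim σ hσ ξ hξ huniv,
        inv_mul_cancel_right]

end Groth.Agent.S17824
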