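import Groth.Statements.S17826
import Groth.Agent.PicCurve.ThetaPull.LambdaTheta
import Groth.Agent.FinDesc.Polarization

set_option autoImplicit false
set_option backward.isDefEq.respectTransparency false
set_option backward.isDefEq.respectTransparency.types false
set_option maxHeartbeats 1000000
set_option synthInstance.maxHeartbeats 400000
set_option linter.style.haveILetI false
set_option linter.unusedSectionVars false
attribute [-instance] CategoryTheory.catToReflQuiver
universe u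
open CategoryTheory CategoryTheory.Limits AlgebraicGeometry MonoidalCategory CartesianMonoidalCategory MonObj
open JacVar
open scoped Groth.Agent.H23.PicMul CategoryTheory.Obj
open Groth.Agent.AVPair (pl pl_pl)
open Groth.Agent.H23.CubeAb (F)

namespace Groth.Agent.S17826

/-- Let C be a smooth proper geometrically connected curve of genus g > 0 over a field k with a
k-rational point P, (J, ψ) its Jacobian (a commutative group scheme over k, coarse moduli scheme on
all k-schemes for degree-0 line bundles modulo twisting from the base, group law induced by tensor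
product) with universal family M on C × J normalised along P × J and classified by the identity of
J, and j : C ⟶ J the Abel map with base point P. Let N be an invertible module of degree g − 1 on C
and Θ_J the theta line bundle on J (an invertible module inverse to the ideal of the closure of the
locus of classes ξ with a nonzero section of ξ ⊗ N — a translate of W^{g−1}, which has the same
associated homomorphism). Let (Jt, φ) be an fppf dual of J with normalised Poincaré module 𝒫 on J ×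
Jt, lam : J ⟶ Jt the homomorphism attached to Θ_J through φ, and fd : Jt ⟶ J a homomorphism such
that (1 × fd)^* M and (j × 1)^* 𝒫 have the same class on C × Jt. Then lam followed by fd is the
inversion of J and fd followed by lam is the inversion of Jt: −fd is inverse to lam, so lam is an
isomorphism. -/
theorem result (k : Type u) [Field k]
    (C : Scheme.{u}) [C.Over (Spec (CommRingCat.of k))]
    [IsProper (C ↘ Spec (CommRingCat.of k))] [Smooth (C ↘ Spec (CommRingCat.of k))] [GeometricallyConnected (C ↘ Spec (CommRingCat.of k))]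
    (hdim : topologicalKrullDim ↥C = 1)
    (g : ℕ) (hg : Curv2.genus k C = g) (hg1 : 1 ≤ g)
    (σ : Spec (CommRingCat.of k) ⟶ C) (hσ : σ ≫ (C ↘ Spec (CommRingCat.of k)) = 𝟙 _)
    (J : Over (Spec (CommRingCat.of k))) [GrpObj J] [IsCommMonObj J]
    (ψ : (ModFun.PicDeg (C ↘ Spec (CommRingCat.of k)) 0).Hom ⊤ J) (hJ : Jac.IsJacobian (C ↘ Spec (CommRingCat.of k)) ⊤ J ψ)
    (Pu : (PicF.XT (C ↘ Spec (CommRingCat.of k)) J).Modules) (hPu : ModFun.IsUnivFamily ⊤ (ModFun.PicDeg (C ↘ Spec (CommRingCat.of k)) 0) J Pu)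
    (hPn : Jac.IsNormAlong (C ↘ Spec (CommRingCat.of k)) σ hσ J Pu)
    (hT : (⊤ : ObjectProperty (Over (Spec (CommRingCat.of k)))) J) (hPuψ : ψ.app J Pu hT hPu.1 = 𝟙 J)
    (j : Over.mk (C ↘ Spec (CommRingCat.of k)) ⟶ J) (hj : Jac.IsAbelJacobiAt (C ↘ Spec (CommRingCat.of k)) σ ψ j)
    (N : C.Modules) (hN : PicF.IsInvertible N) (hNdeg : Curv2.deg k C N 1 = (g : ℤ) - 1)
    (ΘJ : J.left.Modules) (hΘJ : Jac.IsThetaLB (C ↘ Spec (CommRingCat.of k)) 0 ψ N ΘJ)
    (Jt : Over (Spec (CommRingCat.of k))) [GrpObj Jt] [IsCommMonObj Jt]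
    (φ : AgPol.DualMap J Jt) (hJt : AbDual.IsDualAV Scheme.fppfPrecoverage J Jt φ)
    (P : (PicF.XT J.hom Jt).Modules) (hP : PicF.IsInvertible P) (hPP : AbDual.IsPoincareCl J Jt φ (PicF.cl P))
    (lam : J ⟶ Jt) (hlam : AgPol.IsLambda J Jt φ ΘJ lam)
    (fd : Jt ⟶ J) [IsMonHom fd]
    (hfd : PicF.cl ((Scheme.Modules.pullback (PicF.XTmap (C ↘ Spec (CommRingCat.of k)) fd)).obj Pu) =
      PicF.cl ((Scheme.Modules.pullback (AbDual.bcMap j Jt)).obj P)) :
    lam ≫ fd = (𝟙 J)⁻¹ ∧ fd ≫ lam = (𝟙 Jt)⁻¹ := by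
  let f := C ↘ Spec (CommRingCat.of k)
  obtain ⟨hp, hsm, hgi, hmono⟩ := PicCurve.ThetaPull.coarse_mono C hdim σ hσ hJ hj
  haveI := hp; haveI := hsm; haveI := hgi
  haveI : GeometricallyConnected J.hom := ⟨fun K _ x y fst snd h => by
      haveI : IrreducibleSpace y := GeometricallyIrreducible.geometrically_irreducibleSpace (f := J.hom) _ _ _ h
      infer_instance⟩
  obtain ⟨key, hinj⟩ := PicCurve.ThetaPull.theta_identity C hdim σ hσ hJ hj hg hg1 Pu hPu hPn hPuψ hN hNdeg hΘJ
  let C' : Over (Spec (CommRingCat.of k)) := Over.mk f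
  let u : PicF.Cl (C' ⊗ J).left := PicF.cl Pu
  let θ : PicF.Cl J.left := PicF.cl ΘJ
  obtain ⟨M, hM, hML, hMlam⟩ := hlam
  let n : PicF.Cl (J ⊗ J).left := PicF.cl M
  have hz : AbDual.IsPicZeroCl J.hom J n := FinDesc.pz_lambdaSheaf hΘJ.1 hM hML
  have hθ : PicF.IsInvertibleCl θ := ⟨ΘJ, rfl, hΘJ.1⟩
  have hFu : ∀ {T : Over (Spec (CommRingCat.of k))} (w : T ⟶ J), IsUnit (F θ w) :=
    fun w => H23.CubeAb.isUnit_F hθ w
  have e0 : n * F θ (fst J J) * F θ (snd J J) = F θ μ[J] := (PicGrp.cl_eq_cl_iff _ _).2 hML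
  have hn_rig : pl (lift (toUnit J ≫ η[J]) (𝟙 J)) n = 1 := by
    have h := congrArg (pl (lift (toUnit J ≫ η[J]) (𝟙 J))) e0
    simp only [map_mul, H23.CubeAb.pull_F, lift_fst, lift_snd] at h
    rw [show lift (toUnit J ≫ η[J]) (𝟙 J) ≫ μ[J] = 𝟙 J by
        rw [show lift (toUnit J ≫ η[J]) (𝟙 J) ≫ μ[J] = (toUnit J ≫ η[J]) * 𝟙 J from (Hom.mul_def _ _).symm,
          show toUnit J ≫ η[J] = (1 : J ⟶ J) from (Hom.one_def).symm, _root_.one_mul],
      H23.CubeAb.F_const hθ, _root_.mul_one] at h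
    exact (hFu (𝟙 J)).mul_eq_right.1 h
  have hjn : pl (j ▷ J) n * u = 1 := by
    have h := congrArg (pl (j ▷ J)) e0
    simp only [map_mul, H23.CubeAb.pull_F, whiskerRight_fst, whiskerRight_snd] at h
    rw [show (j ▷ J) ≫ μ[J] = (fst C' J ≫ j) * snd C' J by
      rw [show (fst C' J ≫ j) * snd C' J = lift (fst C' J ≫ j) (snd C' J) ≫ μ[J] from Hom.mul_def _ _,
        show lift (fst C' J ≫ j) (snd C' J) = j ▷ J from
          CartesianMonoidalCategory.hom_ext _ _ (by simp [C', f]) (by simp [C', f])]] at h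
    refine ((hFu (fst C' J ≫ j)).mul (hFu (snd C' J))).mul_eq_right.1 ?_
    calc pl (j ▷ J) n * u * (F θ (fst C' J ≫ j) * F θ (snd C' J))
        = pl (j ▷ J) n * F θ (fst C' J ≫ j) * F θ (snd C' J) * u := by ac_rfl
      _ = F θ ((fst C' J ≫ j) * snd C' J) * u := by rw [h]
      _ = F θ (fst C' J ≫ j) * F θ (snd C' J) := key
  let cP : PicF.Cl (J ⊗ Jt).left := PicF.cl P
  obtain ⟨hPz, hPφ, hPrig⟩ := hPP
  have hPrig' : pl (lift (toUnit Jt ≫ η[J]) (𝟙 Jt)) cP = 1 := by
    have h : PicF.pullCl (PicF.secT J.hom η[J].left (Over.w η[J]) Jt) (PicF.cl P) = 1 := hPrig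
    rw [PicZeroPrim.secT_eq] at h
    exact h
  have hfd' : pl (C' ◁ fd) u = pl (j ▷ Jt) cP := by
    have h : PicF.pullCl (PicF.XTmap f fd) (PicF.cl Pu) = PicF.pullCl (AbDual.bcMap j Jt) (PicF.cl P) := hfd
    rw [show PicF.XTmap f fd = (C' ◁ fd).left from PicZeroPrim.xtMap_eq (X := C') fd, PicZeroPrim.bcMap_eq] at h
    exact h
  constructor
  · -- the homomorphism of theta followed by the dual Abel map
    have hn : pl (J ◁ lam) cP = n := by
      have hz' : AbDual.IsPicZeroCl J.hom J (pl (J ◁ lam) cP) := by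
        have h := AbDualBase.pz_xtMap lam hPz
        rw [PicZeroPrim.xtMap_eq] at h
        exact h
      refine PicZeroPrim.eq_of_phi hJt hz' hz ?_ ?_
      · have h := hJt.relPic.natural Jt J lam (PicF.cl P) hPz
        rw [PicZeroPrim.xtMap_eq, hPφ, Category.comp_id] at h
        exact h.trans hMlam.symm
      · rw [PicZeroPrim.secT_eq]
        show pl (lift (toUnit J ≫ η[J]) (𝟙 J)) (pl (J ◁ lam) cP) = pl (lift (toUnit J ≫ η[J]) (𝟙 J)) n
        rw [hn_rig, pl_pl, show lift (toUnit J ≫ η[J]) (𝟙 J) ≫ (J ◁ lam) = lam ≫ lift (toUnit Jt ≫ η[J]) (𝟙 Jt) from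
          CartesianMonoidalCategory.hom_ext _ _ (by simp) (by simp), ← pl_pl, hPrig', map_one]
    have h1 : pl (C' ◁ (lam ≫ fd)) u * pl (C' ◁ 𝟙 J) u = 1 := by
      rw [MonoidalCategory.whiskerLeft_comp, ← pl_pl, hfd', pl_pl, MonoidalCategory.whisker_exchange, ← pl_pl, hn,
        MonoidalCategory.whiskerLeft_id]
      rw [show pl (𝟙 (C' ⊗ J)) u = u from PicClLib.pullCl_id u]
      exact hjn
    exact eq_inv_of_mul_eq_one_left (hinj J (lam ≫ fd) (𝟙 J) h1)
  · -- the dual Abel map followed by the homomorphism of theta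
    let m : PicF.Cl (J ⊗ Jt).left := pl (J ◁ fd) n
    have hmz : AbDual.IsPicZeroCl J.hom Jt m := by
      have h := AbDualBase.pz_xtMap fd hz
      rw [PicZeroPrim.xtMap_eq] at h
      exact h
    have hmrig : pl (lift (toUnit Jt ≫ η[J]) (𝟙 Jt)) m = 1 := by
      show pl _ (pl (J ◁ fd) n) = 1
      rw [pl_pl, show lift (toUnit Jt ≫ η[J]) (𝟙 Jt) ≫ (J ◁ fd) = fd ≫ lift (toUnit J ≫ η[J]) (𝟙 J) from
          CartesianMonoidalCategory.hom_ext _ _ (by simp) (by simp), ← pl_pl, hn_rig, map_one]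
    have hc : m * cP = 1 := by
      refine hmono Jt (m * cP) (H23.PicMul.isInvertibleCl_mul (AbDualBase.pz_invertible hmz) ⟨P, rfl, hP⟩)
        (fun R x y t => ?_) ?_
      · have h1 := PicCurve.ThetaPull.add_of_pz hJt hmz (by rw [PicZeroPrim.secT_eq]; exact hmrig) R x y t
        have h2 := PicCurve.ThetaPull.add_of_pz hJt hPz (by rw [PicZeroPrim.secT_eq]; exact hPrig') R x y t
        rw [map_mul, map_mul, map_mul, h1, h2]
        exact mul_mul_mul_comm _ _ _ _
      · show pl (j ▷ Jt) (pl (J ◁ fd) n * cP) = 1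
        rw [map_mul, pl_pl, ← MonoidalCategory.whisker_exchange, ← pl_pl, ← hfd', ← map_mul, hjn, map_one]
    have h2 : φ Jt m * φ Jt cP = 1 := by
      rw [← AbDualBase.phi_mul hJt hmz hPz, hc]
      exact AbDualBase.phi_one hJt Jt
    have hm : φ Jt m = fd ≫ lam := by
      have h := hJt.relPic.natural J Jt fd (PicF.cl M) hz
      rw [PicZeroPrim.xtMap_eq, hMlam] at h
      exact h
    rw [hm, show φ Jt cP = 𝟙 Jt from hPφ] at h2
    exact eq_inv_of_mul_eq_one_left h2

end Groth.Agent.S17826
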