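import Groth.Statements.S17827
import Groth.Agent.PicCurve.ThetaPull.Coarse
set_option linter.style.haveILetI false
set_option backward.isDefEq.respectTransparency false
set_option backward.isDefEq.respectTransparency.types false
set_option maxHeartbeats 1000000
set_option synthInstance.maxHeartbeats 400000
attribute [-instance] CategoryTheory.catToReflQuiver

set_option autoImplicit false
universe u
open CategoryTheory CategoryTheory.Limits AlgebraicGeometry MonoidalCategory CartesianMonoidalCategory MonObj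
open JacVar

namespace Groth.Agent.S17827
open scoped Groth.Agent.H23.PicMul

/-- Let k be an algebraically closed field, C a smooth proper connected curve of genus g ≥ 1 over k with
a k-point P, (J, ψ) its Jacobian (a commutative group scheme over k, coarse moduli scheme on all
k-schemes for degree-0 line bundles modulo twisting from the base, group law induced by tensor
product) with universal family M on C × J normalised along P × J and classified by the identity of
J, and j : C ⟶ J the Abel map with base point P. Let Θ = W^{g−1} ⊂ J be the image of the (g −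
1)-fold product of C under (x_i) ↦ Π j(x_i), Θ⁻ its image under inversion, L(Θ⁻) an invertible
module on J inverse to the ideal of the reduced closed subscheme Θ⁻, and Λ an invertible module on J
× J with Λ ⊗ pr₁^* L(Θ⁻) ⊗ pr₂^* L(Θ⁻) ≅ m^* L(Θ⁻), m the group law (the sheaf m^*L(Θ⁻) ⊗
pr₁^*L(Θ⁻)⁻¹ ⊗ pr₂^*L(Θ⁻)⁻¹). Then the pullback of Λ along j × (−1) : C × J ⟶ J × J is isomorphic to
M. -/
theorem result (k : Type u) [Field k] [IsAlgClosed k]
    (C : Scheme.{u}) [C.Over (Spec (CommRingCat.of k))]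
    [IsProper (C ↘ Spec (CommRingCat.of k))] [Smooth (C ↘ Spec (CommRingCat.of k))] [GeometricallyConnected (C ↘ Spec (CommRingCat.of k))]
    (hdim : topologicalKrullDim ↥C = 1)
    (g : ℕ) (hg : Curv2.genus k C = g) (hg1 : 1 ≤ g)
    (σ : Spec (CommRingCat.of k) ⟶ C) (hσ : σ ≫ (C ↘ Spec (CommRingCat.of k)) = 𝟙 _)
    (J : Over (Spec (CommRingCat.of k))) [GrpObj J] [IsCommMonObj J]
    (ψ : (ModFun.PicDeg (C ↘ Spec (CommRingCat.of k)) 0).Hom ⊤ J) (hJ : Jac.IsJacobian (C ↘ Spec (CommRingCat.of k)) ⊤ J ψ)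
    (j : Over.mk (C ↘ Spec (CommRingCat.of k)) ⟶ J) (hj : Jac.IsAbelJacobiAt (C ↘ Spec (CommRingCat.of k)) σ ψ j)
    (Pu : (PicF.XT (C ↘ Spec (CommRingCat.of k)) J).Modules) (hPu : ModFun.IsUnivFamily ⊤ (ModFun.PicDeg (C ↘ Spec (CommRingCat.of k)) 0) J Pu)
    (hPn : Jac.IsNormAlong (C ↘ Spec (CommRingCat.of k)) σ hσ J Pu)
    (hT : (⊤ : ObjectProperty (Over (Spec (CommRingCat.of k)))) J) (hPuψ : ψ.app J Pu hT hPu.1 = 𝟙 J)
    (LΘm : J.left.Modules) (hLΘm : PicF.IsInvertible LΘm)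
    (hLΘmI : ClSub.IsInverseOf LΘm (ClSub.idealMod (Scheme.IdealSheafData.vanishingIdeal
      ⟨closure (((𝟙 J)⁻¹).left.base '' Set.range ((List.ofFn fun i : Fin (g - 1) =>
        (Over.homMk (WidePullback.π (fun (_ : Fin (g - 1)) => (C ↘ Spec (CommRingCat.of k))) i)
          (WidePullback.π_arrow (fun (_ : Fin (g - 1)) => (C ↘ Spec (CommRingCat.of k))) i) : Over.mk (WidePullback.base fun (_ : Fin (g - 1)) => (C ↘ Spec (CommRingCat.of k))) ⟶ Over.mk (C ↘ Spec (CommRingCat.of k))) ≫ j).prod).left.base), isClosed_closure⟩)))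
    (Λ : (PicF.XT J.hom J).Modules) (hΛ : PicF.IsInvertible Λ)
    (hΛL : AgPol.IsLambdaSheaf (μ[J].left : PicF.XT J.hom J ⟶ J.left) (fst J J).left (snd J J).left LΘm Λ) :
    Nonempty ((Scheme.Modules.pullback (PicF.XTmap (C ↘ Spec (CommRingCat.of k)) ((𝟙 J)⁻¹) ≫ AbDual.bcMap j J)).obj Λ ≅ Pu) := by
  let f := C ↘ Spec (CommRingCat.of k)
  haveI : ConnectedSpace C := PicCurve.Alb.connectedSpace_of_geomConn f
  haveI : GeometricallyIntegral f := Groth.Agent.S7791.result f σ hσ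
  haveI : IsIntegral C := GeometricallyIntegral.isIntegral_of_subsingleton f
  haveI : SmoothOfRelativeDimension 1 f := Groth.Agent.HilbCurve.smoothOfRelativeDimension_one f hdim
  obtain ⟨hp, -⟩ := PicCurve.Pts.coarse_facts C hdim σ hσ hJ hj
  haveI := hp
  have htr1 : Jac.transl J (1 : 𝟙_ (Over (Spec (CommRingCat.of k))) ⟶ J) = 𝟙 J := by
    rw [Jac.transl, MonObj.comp_one, _root_.mul_one]
  let C' : Over (Spec (CommRingCat.of k)) := Over.mk f
  let σP : 𝟙_ (Over (Spec (CommRingCat.of k))) ⟶ C' := Over.homMk σ hσ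
  have hset : PicCurve.ThetaPull.thetaMinus C (j := j) (g - 1) 1 =
      ((𝟙 J)⁻¹).left.base '' Set.range (PicCurve.Pts.sumMap f j (g - 1)).left.base := by
    show (Jac.transl J 1).left.base '' _ = _
    rw [htr1]
    exact Set.image_id _
  obtain ⟨h1, h2⟩ := PicCurve.ThetaPull.coarse_family C hdim σ hσ hJ hj hg hg1 1 hLΘm (by simp only [hset]; exact hLΘmI)
  have h3 := h2 Pu hPu hPn hPuψ
  have hσj : σP ≫ j = 1 := by
    obtain ⟨J₀, ξ, hp₀, hsm, hi, hξ, huniv⟩ := Groth.Agent.PicCurve.exists_jacobian_field f hdim σ hσ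
    haveI := hp₀; haveI := hsm; haveI := hi
    haveI : IrreducibleSpace J₀.left := GeometricallyIrreducible.irreducibleSpace_of_subsingleton J₀.hom
    letI := PicCurve.jacGrpObj f hdim σ hσ ξ hξ huniv
    obtain ⟨e, he, he', hej, -⟩ := PicCurve.Alb.exists_iso_jac_class f hdim σ hσ ξ hξ huniv hJ hj
    haveI := he
    rw [← hej, ← Category.assoc, PicCurve.Alb.basePt_aj, IsMonHom.one_hom, MonObj.one_eq_one]
  let l := PicF.cl LΘm
  have h4 := h1 fun _ => σP
  rw [show (List.ofFn fun _ : Fin g => σP ≫ j).prod = 1 by simp [hσj], inv_one, _root_.one_mul, htr1, Category.comp_id,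
    show (List.ofFn fun _ : Fin g => PicCurve.Pts.ptCl f σP).prod = PicCurve.Alb.δ σ ^ g by simp [PicCurve.Alb.δ, σP]; rfl]
    at h4
  rw [htr1] at h3
  simp only [Category.comp_id] at h3
  have h5 : PicF.pullCl (pullback.fst f J.hom) (PicF.pullCl j.left l) * PicCurve.tw f (PicCurve.Alb.δ σ) J ^ g = 1 := by
    rw [show PicCurve.tw f (PicCurve.Alb.δ σ) J ^ g = PicF.pullCl (pullback.fst f J.hom) (PicCurve.Alb.δ σ ^ g) from
      (PicCurve.Alb.pullCl_pow _ _ g).symm, ← H23.PicMul.pullCl_mul, h4, H23.PicMul.pullCl_one]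
  let φ : PicF.XT f J ⟶ PicF.XT J.hom J := PicF.XTmap f ((𝟙 J)⁻¹) ≫ AbDual.bcMap j J
  have hφ : φ = (lift (fst C' J ≫ j) (snd C' J)⁻¹).left := by
    refine pullback.hom_ext ?_ ?_
    · refine Eq.trans ?_ congr($(lift_fst (fst C' J ≫ j) (snd C' J)⁻¹).left).symm
      simp only [φ, AbDual.bcMap, PicF.XTmap, pullback.map, Category.assoc, pullback.lift_fst, pullback.lift_fst_assoc,
        Category.id_comp]
      erw [pullback.lift_fst_assoc]
      rw [Category.comp_id]
      rfl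
    · refine Eq.trans ?_ congr($(lift_snd (fst C' J ≫ j) (snd C' J)⁻¹).left).symm
      rw [show (snd C' J)⁻¹ = snd C' J ≫ (𝟙 J)⁻¹ by rw [GrpObj.comp_inv, Category.comp_id]]
      simp only [φ, AbDual.bcMap, PicF.XTmap, pullback.map, Category.assoc, pullback.lift_snd, Category.comp_id]
      erw [pullback.lift_snd]
      rfl
  have hΛ1 := H23.PicMul.cl_eq_iff.2 hΛL
  rw [H23.PicMul.cl_tensor, H23.PicMul.cl_tensor] at hΛ1
  have h6 := congrArg (PicF.pullCl φ) hΛ1
  rw [H23.PicMul.pullCl_mul, H23.PicMul.pullCl_mul] at h6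
  change PicF.pullCl φ (PicF.cl Λ) * PicF.pullCl φ (PicF.pullCl (fst J J).left l) * PicF.pullCl φ (PicF.pullCl (snd J J).left l) =
    PicF.pullCl φ (PicF.pullCl (μ[J].left) l) at h6
  have e1 : PicF.pullCl φ (PicF.pullCl (fst J J).left l) = PicF.pullCl (pullback.fst f J.hom) (PicF.pullCl j.left l) := by
    rw [PicClLib.pullCl_comp, PicClLib.pullCl_comp, hφ]
    exact congrArg (fun m => PicF.pullCl m l) congr($(lift_fst (fst C' J ≫ j) (snd C' J)⁻¹).left)
  have e2 : PicF.pullCl φ (PicF.pullCl (snd J J).left l) = PicF.pullCl (PicF.XTproj f J) (PicF.pullCl ((𝟙 J)⁻¹).left l) := by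
    rw [PicClLib.pullCl_comp, PicClLib.pullCl_comp, hφ]
    refine congrArg (fun m => PicF.pullCl m l) ?_
    have : lift (fst C' J ≫ j) (snd C' J)⁻¹ ≫ snd J J = snd C' J ≫ (𝟙 J)⁻¹ := by
      rw [lift_snd, GrpObj.comp_inv, Category.comp_id]
    exact congr($(this).left)
  have e3 : PicF.pullCl φ (PicF.pullCl (μ[J].left) l) = PicF.pullCl (PicCurve.ThetaPull.thetaDiff C (j := j) 1) l := by
    refine (PicClLib.pullCl_comp φ (μ[J].left) l).trans ?_
    rw [hφ]
    refine congrArg (fun m => PicF.pullCl m l) ?_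
    have : lift (fst C' J ≫ j) (snd C' J)⁻¹ ≫ μ[J] = ((fst C' J ≫ j) * (snd C' J)⁻¹) ≫ Jac.transl J 1 := by
      rw [htr1, Category.comp_id, Hom.mul_def]
    exact congr($(this).left)
  rw [e1, e2, e3] at h6
  have hinv : PicF.IsInvertibleCl (PicF.pullCl (PicF.XTproj f J) (PicF.pullCl ((𝟙 J)⁻¹).left l)) :=
    FppfPic.isInvertibleCl_pull _ (FppfPic.isInvertibleCl_pull _ ⟨LΘm, rfl, hLΘm⟩)
  refine H23.PicMul.cl_eq_iff.1 (PicCurve.eq_of_invCl_mul hinv ?_)
  change PicF.pullCl φ (PicF.cl Λ) * _ = PicF.cl Pu * _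
  refine Eq.trans ?_ h3.symm
  rw [← h6, mul_right_comm (PicF.pullCl φ (PicF.cl Λ)) (PicF.pullCl (pullback.fst f J.hom) _), _root_.mul_assoc _
    (PicF.pullCl (pullback.fst f J.hom) _), h5, _root_.mul_one]

end Groth.Agent.S17827
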