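import Groth.Statements.S17828
import Groth.Agent.S17811
import Groth.Agent.PicCurve.Alb.FineIsJac
import Groth.Agent.PicCurve.Torelli.Extension
import Groth.Agent.PicCurve.Torelli.Descend
import Groth.Agent.PicCurve.Torelli.ThetaSet


set_option autoImplicit false
set_option backward.isDefEq.respectTransparency false
set_option backward.isDefEq.respectTransparency.types false
set_option maxHeartbeats 2000000
set_option synthInstance.maxHeartbeats 400000
set_option linter.style.haveILetI false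
set_option linter.unusedSectionVars false
attribute [-instance] CategoryTheory.catToReflQuiver
universe u
open CategoryTheory CategoryTheory.Limits AlgebraicGeometry MonoidalCategory CartesianMonoidalCategory MonObj
open JacVar
open Groth.Agent.PicCurve Groth.Agent.PicCurve.Torelli Groth.Agent.RepDescent

namespace Groth.Agent.S17828

/-- The case of curves with rational points. Let k be a perfect field, C and C' smooth proper
geometrically connected curves of the same genus g ≥ 2 over k with k-rational points P and P', (J,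
ψ) and (J', ψ') their Jacobians (commutative group schemes over k, coarse moduli schemes on all
k-schemes for degree-0 line bundles modulo twisting from the base, group law induced by tensor
product), N and N' invertible modules of degree g − 1 on C and C', and Θ ⊂ J, Θ' ⊂ J' the theta loci
of N and N' (closures of the loci of classes ξ with a nonzero global section of ξ ⊗ N, resp. ξ ⊗
N'). If β : J ≅ J' is an isomorphism of group schemes over k mapping Θ onto the translate of Θ' by a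
k-rational point of J' — for curves with rational points this is an isomorphism of the canonically
polarized Jacobians over k — then C and C' are isomorphic over k. (The published corollary does not
assume rational points on C and C'; it is stated here for curves having them, through which the
theta divisors are defined over k.) -/
theorem result (k : Type u) [Field k] [PerfectField k]
    (C : Scheme.{u}) [C.Over (Spec (CommRingCat.of k))]
    [IsProper (C ↘ Spec (CommRingCat.of k))] [Smooth (C ↘ Spec (CommRingCat.of k))] [GeometricallyConnected (C ↘ Spec (CommRingCat.of k))]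
    (hdim : topologicalKrullDim ↥C = 1)
    (C' : Scheme.{u}) [C'.Over (Spec (CommRingCat.of k))]
    [IsProper (C' ↘ Spec (CommRingCat.of k))] [Smooth (C' ↘ Spec (CommRingCat.of k))] [GeometricallyConnected (C' ↘ Spec (CommRingCat.of k))]
    (hdim' : topologicalKrullDim ↥C' = 1)
    (g : ℕ) (hg : Curv2.genus k C = g) (hg' : Curv2.genus k C' = g) (hg2 : 2 ≤ g)
    (σ : Spec (CommRingCat.of k) ⟶ C) (hσ : σ ≫ (C ↘ Spec (CommRingCat.of k)) = 𝟙 _) (σ' : Spec (CommRingCat.of k) ⟶ C') (hσ' : σ' ≫ (C' ↘ Spec (CommRingCat.of k)) = 𝟙 _)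
    (J : Over (Spec (CommRingCat.of k))) [GrpObj J] [IsCommMonObj J]
    (ψ : (ModFun.PicDeg (C ↘ Spec (CommRingCat.of k)) 0).Hom ⊤ J) (hJ : Jac.IsJacobian (C ↘ Spec (CommRingCat.of k)) ⊤ J ψ)
    (J' : Over (Spec (CommRingCat.of k))) [GrpObj J'] [IsCommMonObj J']
    (ψ' : (ModFun.PicDeg (C' ↘ Spec (CommRingCat.of k)) 0).Hom ⊤ J') (hJ' : Jac.IsJacobian (C' ↘ Spec (CommRingCat.of k)) ⊤ J' ψ')
    (N : C.Modules) (hN : PicF.IsInvertible N) (hNdeg : Curv2.deg k C N 1 = (g : ℤ) - 1)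
    (N' : C'.Modules) (hN' : PicF.IsInvertible N') (hNdeg' : Curv2.deg k C' N' 1 = (g : ℤ) - 1)
    (β : J ≅ J') [IsMonHom β.hom] (c₀ : 𝟙_ (Over (Spec (CommRingCat.of k))) ⟶ J')
    (hβ : β.hom.left.base '' Jac.thetaLocus (C ↘ Spec (CommRingCat.of k)) 0 ψ N =
      (Jac.transl J' c₀).left.base ⁻¹' Jac.thetaLocus (C' ↘ Spec (CommRingCat.of k)) 0 ψ' N') :
    ∃ α : C ≅ C', α.hom ≫ (C' ↘ Spec (CommRingCat.of k)) = (C ↘ Spec (CommRingCat.of k)) := by
  classical
  let f := C ↘ Spec (CommRingCat.of k)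
  let f' := C' ↘ Spec (CommRingCat.of k)
  haveI : IsProper f := ‹_›
  haveI : IsProper f' := ‹_›
  haveI : Smooth f := ‹_›
  haveI : Smooth f' := ‹_›
  haveI : ConnectedSpace C := Alb.connectedSpace_of_geomConn f
  haveI : ConnectedSpace C' := Alb.connectedSpace_of_geomConn f'
  haveI : GeometricallyIntegral f := Groth.Agent.S7791.result f σ hσ
  haveI : GeometricallyIntegral f' := Groth.Agent.S7791.result f' σ' hσ'
  haveI : IsIntegral C := GeometricallyIntegral.isIntegral_of_subsingleton f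
  haveI : IsIntegral C' := GeometricallyIntegral.isIntegral_of_subsingleton f'
  haveI : SmoothOfRelativeDimension 1 f := Groth.Agent.HilbCurve.smoothOfRelativeDimension_one f hdim
  haveI : SmoothOfRelativeDimension 1 f' := Groth.Agent.HilbCurve.smoothOfRelativeDimension_one f' hdim'
  obtain ⟨J₀, ξ, hp, hsm, hi, hξ, huniv⟩ := Groth.Agent.PicCurve.exists_jacobian_field f hdim σ hσ
  obtain ⟨J₀', ξ', hp', hsm', hi', hξ', huniv'⟩ := Groth.Agent.PicCurve.exists_jacobian_field f' hdim' σ' hσ'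
  haveI := hp; haveI := hsm; haveI := hi; haveI := hp'; haveI := hsm'; haveI := hi'
  haveI : IrreducibleSpace J₀.left := GeometricallyIrreducible.irreducibleSpace_of_subsingleton J₀.hom
  haveI : IrreducibleSpace J₀'.left := GeometricallyIrreducible.irreducibleSpace_of_subsingleton J₀'.hom
  letI := jacGrpObj f hdim σ hσ ξ hξ huniv
  letI := jacGrpObj f' hdim' σ' hσ' ξ' hξ' huniv'
  -- the Abel maps
  obtain ⟨-, -, ⟨-, L, hL, hfam, -⟩⟩ := Alb.exists_isJacobian f hdim σ hσ ξ hξ huniv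
  obtain ⟨-, -, ⟨-, L', hL', hfam', -⟩⟩ := Alb.exists_isJacobian f' hdim' σ' hσ' ξ' hξ' huniv'
  let j : Over.mk f ⟶ J := ψ.app (Over.mk f) L trivial hL
  let j' : Over.mk f' ⟶ J' := ψ'.app (Over.mk f') L' trivial hL'
  have hj : Jac.IsAbelJacobiAt f σ ψ j := ⟨trivial, L, hL, hfam, rfl⟩
  have hj' : Jac.IsAbelJacobiAt f' σ' ψ' j' := ⟨trivial, L', hL', hfam', rfl⟩
  obtain ⟨e, he, he', hej, -⟩ := Alb.exists_iso_jac_class f hdim σ hσ ξ hξ huniv hJ hj
  obtain ⟨e₁, he₁, he₁', hej₁, -⟩ := Alb.exists_iso_jac_class f' hdim' σ' hσ' ξ' hξ' huniv' hJ' hj'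
  haveI := he; haveI := he'; haveI := he₁; haveI := he₁'
  haveI : IsMonHom β.inv := Alb.isMonHom_inv β
  haveI : IsProper J.hom := by rw [← Over.w e.inv]; infer_instance
  haveI : IsProper J'.hom := by rw [← Over.w e₁.inv]; infer_instance
  have hgen : 0 < Alb.gen f := show 0 < Curv2.genus k C by omega
  have hgen' : 0 < Alb.gen f' := show 0 < Curv2.genus k C' by omega
  haveI : Mono (Alb.aj f hdim σ hσ ξ hξ huniv) := Alb.mono_aj f hdim σ hσ ξ hξ huniv hgen
  haveI : Mono (Alb.aj f' hdim' σ' hσ' ξ' hξ' huniv') := Alb.mono_aj f' hdim' σ' hσ' ξ' hξ' huniv' hgen'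
  haveI : Mono j := hej ▸ mono_comp (Alb.aj f hdim σ hσ ξ hξ huniv) e.hom
  haveI : Mono j' := hej₁ ▸ mono_comp (Alb.aj f' hdim' σ' hσ' ξ' hξ' huniv') e₁.hom
  obtain ⟨n0, hn0⟩ := Ext.thetaLocus_eq C hdim σ hσ hJ hj hN (by rw [hg]; exact hNdeg) (by omega)
  obtain ⟨n0', hn0'⟩ := Ext.thetaLocus_eq C' hdim' σ' hσ' hJ' hj' hN' (by rw [hg']; exact hNdeg') (by omega)
  rw [hg] at hn0
  rw [hg'] at hn0'
  -- the algebraic closure
  let K := AlgebraicClosure k
  let ρ : Spec (CommRingCat.of K) ⟶ Spec (CommRingCat.of k) := Spec.map (CommRingCat.ofHom (algebraMap k K))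
  haveI := smoothOfRelativeDimension_isStableUnderBaseChange 1
  haveI : SmoothOfRelativeDimension 1 (fL f ρ) :=
    MorphismProperty.pullback_snd (P := @SmoothOfRelativeDimension 1) _ _ inferInstance
  haveI : SmoothOfRelativeDimension 1 (fL f' ρ) :=
    MorphismProperty.pullback_snd (P := @SmoothOfRelativeDimension 1) _ _ inferInstance
  haveI : IsIntegral (pullback f ρ) := GeometricallyIntegral.isIntegral_of_subsingleton (pullback.snd f ρ)
  haveI : IsIntegral (pullback f' ρ) := GeometricallyIntegral.isIntegral_of_subsingleton (pullback.snd f' ρ)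
  have hdimK : topologicalKrullDim ↥(pullback f ρ) = 1 :=
    (FibDim.topologicalKrullDim_baseChange (IsPullback.of_hasPullback f ρ)).trans hdim
  have hdimK' : topologicalKrullDim ↥(pullback f' ρ) = 1 :=
    (FibDim.topologicalKrullDim_baseChange (IsPullback.of_hasPullback f' ρ)).trans hdim'
  letI : (pullback f ρ).Over (Spec (CommRingCat.of K)) := ⟨fL f ρ⟩
  letI : (pullback f' ρ).Over (Spec (CommRingCat.of K)) := ⟨fL f' ρ⟩
  haveI : IsProper (pullback f ρ ↘ Spec (CommRingCat.of K)) := inferInstanceAs (IsProper (pullback.snd f ρ))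
  haveI : IsProper (pullback f' ρ ↘ Spec (CommRingCat.of K)) := inferInstanceAs (IsProper (pullback.snd f' ρ))
  haveI : Smooth (pullback f ρ ↘ Spec (CommRingCat.of K)) := inferInstanceAs (Smooth (pullback.snd f ρ))
  haveI : Smooth (pullback f' ρ ↘ Spec (CommRingCat.of K)) := inferInstanceAs (Smooth (pullback.snd f' ρ))
  haveI : GeometricallyConnected (pullback f ρ ↘ Spec (CommRingCat.of K)) :=
    inferInstanceAs (GeometricallyConnected (pullback.snd f ρ))
  haveI : GeometricallyConnected (pullback f' ρ ↘ Spec (CommRingCat.of K)) :=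
    inferInstanceAs (GeometricallyConnected (pullback.snd f' ρ))
  haveI : CompactSpace C := QuasiCompact.compactSpace_of_compactSpace f
  haveI : CompactSpace C' := QuasiCompact.compactSpace_of_compactSpace f'
  haveI : QuasiSeparatedSpace C := quasiSeparatedSpace_of_quasiSeparated f
  haveI : QuasiSeparatedSpace C' := quasiSeparatedSpace_of_quasiSeparated f'
  have hgK : Curv2.genus K (pullback f ρ) = g :=
    (CurveBC.genus_eq k K (pullback.fst f ρ) (IsPullback.of_hasPullback f ρ)).trans hg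
  have hgK' : Curv2.genus K (pullback f' ρ) = g :=
    (CurveBC.genus_eq k K (pullback.fst f' ρ) (IsPullback.of_hasPullback f' ρ)).trans hg'
  let JK := Ext.up ρ J₀
  let JK' := Ext.up ρ J₀'
  haveI : IsProper JK.hom := inferInstanceAs (IsProper (pullback.snd J₀.hom ρ))
  haveI : IsProper JK'.hom := inferInstanceAs (IsProper (pullback.snd J₀'.hom ρ))
  letI := jacGrpObj (fL f ρ) hdimK (σL f ρ σ hσ) (hσL f ρ σ hσ) (Ext.ξL f ρ J₀ σ hσ ξ) (Ext.deg0_ξL f ρ J₀ σ hσ ξ hξ)
    (Ext.universal f ρ J₀ σ hσ ξ huniv)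
  letI := jacGrpObj (fL f' ρ) hdimK' (σL f' ρ σ' hσ') (hσL f' ρ σ' hσ') (Ext.ξL f' ρ J₀' σ' hσ' ξ')
    (Ext.deg0_ξL f' ρ J₀' σ' hσ' ξ' hξ') (Ext.universal f' ρ J₀' σ' hσ' ξ' huniv')
  haveI : IsCommMonObj JK := jac_isCommMonObj (fL f ρ) hdimK (σL f ρ σ hσ) (hσL f ρ σ hσ) (Ext.ξL f ρ J₀ σ hσ ξ)
    (Ext.deg0_ξL f ρ J₀ σ hσ ξ hξ) (Ext.universal f ρ J₀ σ hσ ξ huniv)
  haveI : IsCommMonObj JK' := jac_isCommMonObj (fL f' ρ) hdimK' (σL f' ρ σ' hσ') (hσL f' ρ σ' hσ')
    (Ext.ξL f' ρ J₀' σ' hσ' ξ') (Ext.deg0_ξL f' ρ J₀' σ' hσ' ξ' hξ') (Ext.universal f' ρ J₀' σ' hσ' ξ' huniv')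
  obtain ⟨ψK, hJK, hjK⟩ := Alb.exists_isJacobian (fL f ρ) hdimK (σL f ρ σ hσ) (hσL f ρ σ hσ) (Ext.ξL f ρ J₀ σ hσ ξ)
    (Ext.deg0_ξL f ρ J₀ σ hσ ξ hξ) (Ext.universal f ρ J₀ σ hσ ξ huniv)
  obtain ⟨ψK', hJK', hjK'⟩ := Alb.exists_isJacobian (fL f' ρ) hdimK' (σL f' ρ σ' hσ') (hσL f' ρ σ' hσ')
    (Ext.ξL f' ρ J₀' σ' hσ' ξ') (Ext.deg0_ξL f' ρ J₀' σ' hσ' ξ' hξ') (Ext.universal f' ρ J₀' σ' hσ' ξ' huniv')
  let jK := Alb.aj (fL f ρ) hdimK (σL f ρ σ hσ) (hσL f ρ σ hσ) (Ext.ξL f ρ J₀ σ hσ ξ) (Ext.deg0_ξL f ρ J₀ σ hσ ξ hξ)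
    (Ext.universal f ρ J₀ σ hσ ξ huniv)
  let jK' := Alb.aj (fL f' ρ) hdimK' (σL f' ρ σ' hσ') (hσL f' ρ σ' hσ') (Ext.ξL f' ρ J₀' σ' hσ' ξ')
    (Ext.deg0_ξL f' ρ J₀' σ' hσ' ξ' hξ') (Ext.universal f' ρ J₀' σ' hσ' ξ' huniv')
  obtain ⟨κ, SK, -, -, -⟩ := exists_sys (pullback f ρ) hdimK (σL f ρ σ hσ) (hσL f ρ σ hσ) hJK hjK hgK hg2
  obtain ⟨κ', SK', SuK', -, -⟩ := exists_sys (pullback f' ρ) hdimK' (σL f' ρ σ' hσ') (hσL f' ρ σ' hσ') hJK' hjK' hgK' hg2
  -- geometric points
  let P : Over (Spec (CommRingCat.of K)) := 𝟙_ _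
  let T : Over (Spec (CommRingCat.of k)) := below ρ P
  let pT : T.left := show Spec (CommRingCat.of K) from IsLocalRing.closedPoint K
  let io : (P ⟶ JK) →* (T ⟶ J) := MonoidHom.mk' (fun u => Ext.low ρ J₀ u ≫ e.hom) (fun a b => by
    show Ext.low ρ J₀ (a * b) ≫ e.hom = _
    rw [Ext.low_mul f ρ J₀ hdim hdimK σ hσ ξ hξ huniv, MonObj.mul_comp])
  let io' : (P ⟶ JK') →* (T ⟶ J') := MonoidHom.mk' (fun u => Ext.low ρ J₀' u ≫ e₁.hom) (fun a b => by
    show Ext.low ρ J₀' (a * b) ≫ e₁.hom = _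
    rw [Ext.low_mul f' ρ J₀' hdim' hdimK' σ' hσ' ξ' hξ' huniv', MonObj.mul_comp])
  have hio : Function.Injective io := fun a b h => Ext.low_injective ρ J₀ ((cancel_mono e.hom).1 h)
  have hio' : Function.Injective io' := fun a b h => Ext.low_injective ρ J₀' ((cancel_mono e₁.hom).1 h)
  have hios : ∀ z : T ⟶ J', ∃ u, io' u = z := fun z => by
    obtain ⟨u, hu⟩ := Ext.low_surjective ρ J₀' (z ≫ e₁.inv)
    exact ⟨u, by show Ext.low ρ J₀' u ≫ e₁.hom = z; rw [hu, Category.assoc, e₁.inv_hom_id, Category.comp_id]⟩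
  have hW : ∀ (n : ℕ) (u : P ⟶ JK), u ∈ Pts.WJ (fL f ρ) jK n ↔
      ∃ x : Fin n → (T ⟶ Over.mk f), io u = (List.ofFn fun i => x i ≫ j).prod := by
    have hx : ∀ x : P ⟶ Over.mk (fL f ρ), io (x ≫ jK) = Ext.lowX f ρ x ≫ j := fun x => by
      show Ext.low ρ J₀ (x ≫ jK) ≫ e.hom = _
      rw [Ext.low_aj f ρ J₀ hdim hdimK σ hσ ξ hξ huniv, Category.assoc]
      exact congrArg (Ext.lowX f ρ x ≫ ·) hej
    have hp : ∀ (n : ℕ) (x : Fin n → (P ⟶ Over.mk (fL f ρ))), io (List.ofFn fun i => x i ≫ jK).prod =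
        (List.ofFn fun i => Ext.lowX f ρ (x i) ≫ j).prod := fun n x => by
      rw [map_list_prod, List.map_ofFn]
      congr 2
      funext i
      exact hx (x i)
    intro n u
    constructor
    · rintro ⟨x, rfl⟩
      exact ⟨_, hp n x⟩
    · rintro ⟨x, hx'⟩
      choose x' hx'' using fun i => Ext.lowX_surjective f ρ (x i)
      refine ⟨x', hio ?_⟩
      rw [hx', hp n x']
      simp only [hx'']
  have hW' : ∀ (n : ℕ) (u : P ⟶ JK'), u ∈ Pts.WJ (fL f' ρ) jK' n ↔
      ∃ x : Fin n → (T ⟶ Over.mk f'), io' u = (List.ofFn fun i => x i ≫ j').prod := by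
    have hx : ∀ x : P ⟶ Over.mk (fL f' ρ), io' (x ≫ jK') = Ext.lowX f' ρ x ≫ j' := fun x => by
      show Ext.low ρ J₀' (x ≫ jK') ≫ e₁.hom = _
      rw [Ext.low_aj f' ρ J₀' hdim' hdimK' σ' hσ' ξ' hξ' huniv', Category.assoc]
      exact congrArg (Ext.lowX f' ρ x ≫ ·) hej₁
    have hp : ∀ (n : ℕ) (x : Fin n → (P ⟶ Over.mk (fL f' ρ))), io' (List.ofFn fun i => x i ≫ jK').prod =
        (List.ofFn fun i => Ext.lowX f' ρ (x i) ≫ j').prod := fun n x => by
      rw [map_list_prod, List.map_ofFn]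
      congr 2
      funext i
      exact hx (x i)
    intro n u
    constructor
    · rintro ⟨x, rfl⟩
      exact ⟨_, hp n x⟩
    · rintro ⟨x, hx'⟩
      choose x' hx'' using fun i => Ext.lowX_surjective f' ρ (x i)
      refine ⟨x', hio' ?_⟩
      rw [hx', hp n x']
      simp only [hx'']
  -- the transport along β
  let gm : JK' ⟶ JK := Over.homMk (pullback.map J₀'.hom ρ J₀.hom ρ (e₁.hom ≫ β.inv ≫ e.inv).left (𝟙 _) (𝟙 _)
    (by rw [Category.comp_id, Over.w]) (by simp)) (by simp [JK, JK'])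
  let δ : JK ⟶ JK' := Over.homMk (pullback.map J₀.hom ρ J₀'.hom ρ (e.hom ≫ β.hom ≫ e₁.inv).left (𝟙 _) (𝟙 _)
    (by rw [Category.comp_id, Over.w]) (by simp)) (by simp [JK, JK'])
  have hgm : ∀ u : P ⟶ JK', Ext.low ρ J₀ (u ≫ gm) = Ext.low ρ J₀' u ≫ e₁.hom ≫ β.inv ≫ e.inv := fun u =>
    Over.OverMorphism.ext (by simp [gm, Ext.low, pullback.map])
  have hδ : ∀ u : P ⟶ JK, Ext.low ρ J₀' (u ≫ δ) = Ext.low ρ J₀ u ≫ e.hom ≫ β.hom ≫ e₁.inv := fun u =>
    Over.OverMorphism.ext (by simp [δ, Ext.low, pullback.map])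
  have hiogm : ∀ u : P ⟶ JK', io (u ≫ gm) = io' u ≫ β.inv := fun u => by
    show Ext.low ρ J₀ (u ≫ gm) ≫ e.hom = (Ext.low ρ J₀' u ≫ e₁.hom) ≫ β.inv
    rw [hgm]
    simp only [Category.assoc, Iso.inv_hom_id, Category.comp_id]
  have hioδ : ∀ u : P ⟶ JK, io' (u ≫ δ) = io u ≫ β.hom := fun u => by
    show Ext.low ρ J₀' (u ≫ δ) ≫ e₁.hom = (Ext.low ρ J₀ u ≫ e.hom) ≫ β.hom
    rw [hδ]
    simp only [Category.assoc, Iso.inv_hom_id, Category.comp_id]
  let eG : (P ⟶ JK') ≃* (P ⟶ JK) :=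
    { toFun := fun u => u ≫ gm
      invFun := fun u => u ≫ δ
      left_inv := fun u => hio' (by show io' ((u ≫ gm) ≫ δ) = io' u; rw [hioδ, hiogm]; simp)
      right_inv := fun u => hio (by show io ((u ≫ δ) ≫ gm) = io u; rw [hiogm, hioδ]; simp)
      map_mul' := fun a b => hio (by rw [map_mul, hiogm, hiogm, hiogm, map_mul, MonObj.mul_comp]) }
  have hec : Continuous eG := continuous_induced_rng.2
    (gm.left.continuous.comp (continuous_induced_dom (f := Pts.pt (Y := JK'))))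
  have hec' : Continuous eG.symm := continuous_induced_rng.2
    (δ.left.continuous.comp (continuous_induced_dom (f := Pts.pt (Y := JK))))
  -- points in the images of the sum maps
  have hlift : ∀ {C₁ : Scheme.{u}} (f₁ : C₁ ⟶ Spec (CommRingCat.of k)) [IsProper f₁]
      {A : Over (Spec (CommRingCat.of k))} [GrpObj A] [IsCommMonObj A] [LocallyOfFiniteType A.hom]
      (i : Over.mk f₁ ⟶ A) (n : ℕ) (z : T ⟶ A),
      z.left.base pT ∈ Set.range (List.ofFn fun l : Fin n => (Over.homMk (WidePullback.π (fun (_ : Fin n) => f₁) l)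
        (WidePullback.π_arrow (fun (_ : Fin n) => f₁) l) :
          Over.mk (WidePullback.base fun (_ : Fin n) => f₁) ⟶ Over.mk f₁) ≫ i).prod.left.base ↔
        ∃ x : Fin n → (T ⟶ Over.mk f₁), z = (List.ofFn fun l => x l ≫ i).prod := by
    intro C₁ f₁ _ A _ _ _ i n z
    let sm := (List.ofFn fun l : Fin n => (Over.homMk (WidePullback.π (fun (_ : Fin n) => f₁) l)
      (WidePullback.π_arrow (fun (_ : Fin n) => f₁) l) :
        Over.mk (WidePullback.base fun (_ : Fin n) => f₁) ⟶ Over.mk f₁) ≫ i).prod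
    constructor
    · intro hz
      haveI : IsProper (WidePullback.base fun (_ : Fin n) => f₁) := Pts.isProper_base f₁ n
      haveI : LocallyOfFiniteType (sm.left ≫ A.hom) := by
        rw [Over.w sm]; exact inferInstanceAs (LocallyOfFiniteType (WidePullback.base fun (_ : Fin n) => f₁))
      haveI : LocallyOfFiniteType sm.left := locallyOfFiniteType_of_comp sm.left A.hom
      obtain ⟨q₀, hq₀⟩ := Ext.exists_lift_point sm.left z.left hz
      let q : T ⟶ Over.mk (WidePullback.base fun (_ : Fin n) => f₁) := Over.homMk q₀ (by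
        show q₀ ≫ (WidePullback.base fun (_ : Fin n) => f₁) = T.hom
        rw [← Over.w z, ← hq₀, Category.assoc, Over.w sm]
        rfl)
      refine ⟨fun l => q ≫ Over.homMk (WidePullback.π (fun (_ : Fin n) => f₁) l)
        (WidePullback.π_arrow (fun (_ : Fin n) => f₁) l), ?_⟩
      rw [show z = q ≫ sm from Over.OverMorphism.ext hq₀.symm, Pts.comp_prod]
      simp only [Category.assoc]
    · rintro ⟨x, rfl⟩
      let q : T ⟶ Over.mk (WidePullback.base fun (_ : Fin n) => f₁) :=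
        Over.homMk (WidePullback.lift T.hom (fun l => (x l).left) (fun l => Over.w (x l))) (WidePullback.lift_base _ _ _ _)
      have hq : q ≫ sm = (List.ofFn fun l => x l ≫ i).prod := by
        rw [Pts.comp_prod]
        congr 2
        funext l
        rw [← Category.assoc]
        exact congrArg (· ≫ i) (Over.OverMorphism.ext (WidePullback.lift_π _ _ _ _ _))
      exact ⟨q.left.base pT, congr($(hq).left pT)⟩
  haveI : LocallyOfFiniteType J.hom := inferInstance
  haveI : LocallyOfFiniteType J'.hom := inferInstance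
  obtain ⟨t, htio⟩ := hios (toUnit T ≫ ((n0 ≫ β.hom)⁻¹ * c₀ * n0'))
  have ht : ∀ u : P ⟶ JK', eG u ∈ Pts.WJ (fL f ρ) jK (g - 1) ↔ u * t ∈ Pts.WJ (fL f' ρ) jK' (g - 1) := by
    intro u
    show u ≫ gm ∈ _ ↔ _
    rw [hW, hW', hiogm, map_mul, htio, ← hlift f j, ← hlift f' j']
    let a : T ⟶ J' := io' u * (toUnit T ≫ (n0 ≫ β.hom))⁻¹
    have h1 : (a ≫ β.inv).left.base pT ∈ Jac.thetaLocus f 0 ψ N ↔
        (a ≫ Jac.transl J' c₀).left.base pT ∈ Jac.thetaLocus f' 0 ψ' N' := by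
      refine Iff.trans ⟨fun h => ?_, fun h => ?_⟩ (Iff.of_eq (congrArg (a.left.base pT ∈ ·) hβ))
      · exact ⟨_, h, congr($(show (a ≫ β.inv) ≫ β.hom = a by simp).left pT)⟩
      · obtain ⟨w, hw, hwa⟩ := h
        have : (a ≫ β.inv).left.base pT = w := by
          show β.inv.left.base (a.left.base pT) = w
          rw [← hwa]
          exact congr($(β.hom_inv_id).left w)
        rw [this]
        exact hw
    rw [hn0, hn0'] at h1
    have e1 : (a ≫ β.inv) ≫ Jac.transl J n0 = io' u ≫ β.inv := by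
      rw [Ext.comp_transl', show toUnit T ≫ n0 = (toUnit T ≫ n0 ≫ β.hom) ≫ β.inv by simp, ← MonObj.mul_comp,
        inv_mul_cancel_right]
    have e2 : (a ≫ Jac.transl J' c₀) ≫ Jac.transl J' n0' = io' u * (toUnit T ≫ ((n0 ≫ β.hom)⁻¹ * c₀ * n0')) := by
      rw [Ext.comp_transl', Ext.comp_transl', MonObj.comp_mul, MonObj.comp_mul, GrpObj.comp_inv]
      simp only [a, _root_.mul_assoc]
    rw [← e1, ← e2]
    exact h1
  obtain ⟨c, hc⟩ := exists_eq_translate contPow hg2 SK' SuK' (Groth.Agent.S17811.sys_comap eG hec hec' SK) ht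
  -- the curves have the same geometric points
  obtain ⟨d, s, hs, hset⟩ : ∃ (d : T ⟶ J') (s : ℤ), (s = 1 ∨ s = -1) ∧ ∀ q : T ⟶ J',
      (∃ y : T ⟶ Over.mk f', q = y ≫ j') ↔ ∃ x : T ⟶ Over.mk f, q = (x ≫ j ≫ β.hom) ^ s * d := by
    have h1 : ∀ u : P ⟶ JK', eG u ∈ Pts.WJ (fL f ρ) jK 1 ↔ ∃ x : T ⟶ Over.mk f, io' u = x ≫ j ≫ β.hom := fun u => by
      show u ≫ gm ∈ _ ↔ _
      rw [hW, hiogm]
      constructor
      · rintro ⟨x, hx⟩
        rw [List.ofFn_succ, List.ofFn_zero, List.prod_singleton] at hx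
        exact ⟨x 0, by rw [← Category.assoc, ← hx]; simp⟩
      · rintro ⟨x, hx⟩
        exact ⟨fun _ => x, by rw [List.ofFn_succ, List.ofFn_zero, List.prod_singleton, hx]; simp⟩
    have h2 : ∀ u : P ⟶ JK', u ∈ Pts.WJ (fL f' ρ) jK' 1 ↔ ∃ y : T ⟶ Over.mk f', io' u = y ≫ j' := fun u => by
      rw [hW']
      constructor
      · rintro ⟨x, hx⟩
        rw [List.ofFn_succ, List.ofFn_zero, List.prod_singleton] at hx
        exact ⟨x 0, hx⟩
      · rintro ⟨y, hy⟩
        exact ⟨fun _ => y, by rw [List.ofFn_succ, List.ofFn_zero, List.prod_singleton, hy]⟩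
    rcases hc with hc | hc
    · refine ⟨io' c, 1, Or.inl rfl, fun q => ?_⟩
      obtain ⟨u, rfl⟩ := hios q
      refine ((h2 u).symm.trans (hc u)).trans ((h1 _).trans (exists_congr fun x => ?_))
      rw [zpow_one, map_mul, map_inv, mul_inv_eq_iff_eq_mul]
    · refine ⟨(io' c)⁻¹, -1, Or.inr rfl, fun q => ?_⟩
      obtain ⟨u, rfl⟩ := hios q
      refine ((h2 u).symm.trans (hc u)).trans ((h1 _).trans (exists_congr fun x => ?_))
      rw [zpow_neg_one, map_inv, map_mul, ← mul_inv, inv_eq_iff_eq_inv, ← eq_mul_inv_iff_mul_eq, mul_inv]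
  -- the translation is rational
  have hfix : ∀ φ : K ≃ₐ[k] K, Spec.map (CommRingCat.ofHom (φ : K →+* K)) ≫ d.left = d.left := by
    intro φ
    have hρ : ∀ φ : K ≃ₐ[k] K, Spec.map (CommRingCat.ofHom (φ : K →+* K)) ≫ ρ = ρ := fun φ => by
      rw [← Spec.map_comp]
      congr 1
      exact CommRingCat.hom_ext (RingHom.ext fun y => φ.commutes y)
    let Φ : (K ≃ₐ[k] K) → (T ⟶ T) := fun φ => Over.homMk (Spec.map (CommRingCat.ofHom (φ : K →+* K))) (by
      show Spec.map _ ≫ 𝟙 _ ≫ ρ = 𝟙 _ ≫ ρ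
      rw [Category.id_comp, hρ])
    have hΦ : Φ φ ≫ Φ φ.symm = 𝟙 T := Over.OverMorphism.ext (by
      show Spec.map _ ≫ Spec.map _ = 𝟙 (Spec (CommRingCat.of K))
      rw [← Spec.map_comp, ← Spec.map_id]
      congr 1
      exact CommRingCat.hom_ext (RingHom.ext fun y => φ.apply_symm_apply y))
    obtain ⟨w, hw⟩ := hios ((Φ φ ≫ d) * d⁻¹)
    have hw0 : w ∈ Pts.WJ (fL f' ρ) jK' 0 := by
      refine SK'.trans (n := 0) (r := 1) (by omega) w fun v hv => ?_
      obtain ⟨y, hy⟩ := (hW' 1 v).1 hv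
      rw [List.ofFn_succ, List.ofFn_zero, List.prod_singleton] at hy
      obtain ⟨x, hx⟩ := (hset _).1 ⟨y 0, hy⟩
      obtain ⟨y', hy'⟩ := (hset ((Φ φ.symm ≫ x ≫ j ≫ β.hom) ^ s * d)).2 ⟨Φ φ.symm ≫ x, by simp only [Category.assoc]⟩
      refine (hW' _ _).2 ⟨fun _ => Φ φ ≫ y', ?_⟩
      show _ = (List.ofFn fun _ : Fin 1 => (Φ φ ≫ y') ≫ j').prod
      rw [List.ofFn_succ, List.ofFn_zero, List.prod_singleton, map_mul, hw, hx, Category.assoc, ← hy',
        MonObj.comp_mul, GrpObj.comp_zpow, ← Category.assoc (Φ φ), hΦ, Category.id_comp, ← _root_.mul_assoc,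
        mul_right_comm, inv_mul_cancel_right, _root_.mul_comm]
    obtain ⟨_, hw1⟩ := (hW' 0 w).1 hw0
    rw [List.ofFn_zero, List.prod_nil, hw, mul_inv_eq_one] at hw1
    exact congrArg CommaMorphism.left hw1
  haveI : IsGalois k K := inferInstance
  obtain ⟨s₀, hs₀, hs₀d⟩ := Ext.exists_rational J'.hom d.left ((Over.w d).trans (Category.id_comp _)) hfix
  let d₀ : 𝟙_ (Over (Spec (CommRingCat.of k))) ⟶ J' := Over.homMk s₀ hs₀
  have hd₀ : toUnit T ≫ d₀ = d := Over.OverMorphism.ext (by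
    show (𝟙 _ ≫ ρ) ≫ s₀ = d.left
    rw [Category.id_comp]
    exact hs₀d)
  let P₁ := Over.mk f
  let h : P₁ ⟶ J' := (j ≫ β.hom) ^ s * (toUnit P₁ ≫ d₀)
  have hcomp : ∀ x : T ⟶ P₁, x ≫ h = (x ≫ j ≫ β.hom) ^ s * d := fun x => by
    show x ≫ ((j ≫ β.hom) ^ s * (toUnit P₁ ≫ d₀)) = _
    rw [MonObj.comp_mul, GrpObj.comp_zpow, ← Category.assoc x (toUnit P₁),
      toUnit_unique (x ≫ toUnit P₁) (toUnit T), hd₀]
  haveI : Mono h := ⟨fun {U} x y hxy => by
    have hxy' : x ≫ ((j ≫ β.hom) ^ s * (toUnit P₁ ≫ d₀)) = y ≫ ((j ≫ β.hom) ^ s * (toUnit P₁ ≫ d₀)) := hxy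
    rw [MonObj.comp_mul, MonObj.comp_mul, GrpObj.comp_zpow, GrpObj.comp_zpow, ← Category.assoc x (toUnit P₁),
      ← Category.assoc y (toUnit P₁), toUnit_unique (x ≫ toUnit P₁) (y ≫ toUnit P₁), mul_left_inj] at hxy'
    rcases hs with rfl | rfl
    · rw [zpow_one, zpow_one] at hxy'
      exact (cancel_mono (j ≫ β.hom)).1 hxy'
    · rw [zpow_neg_one, zpow_neg_one, inv_inj] at hxy'
      exact (cancel_mono (j ≫ β.hom)).1 hxy'⟩
  have hci : ∀ {A : Over (Spec (CommRingCat.of k))} [IsProper A.hom] (φ : A ⟶ J') [Mono φ],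
      IsClosedImmersion φ.left := fun {A} _ φ _ => by
    haveI : Mono φ.left := ⟨fun {Z} a b hab => by
      let T' : Over (Spec (CommRingCat.of k)) := Over.mk (a ≫ A.hom)
      let a' : T' ⟶ A := Over.homMk a rfl
      let b' : T' ⟶ A := Over.homMk b (by
        show b ≫ A.hom = a ≫ A.hom
        rw [← Over.w φ, reassoc_of% hab])
      exact congr($((cancel_mono φ).1 (show a' ≫ φ = b' ≫ φ from Over.OverMorphism.ext hab)).left)⟩
    haveI : IsProper (φ.left ≫ J'.hom) := by rw [Over.w φ]; infer_instance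
    haveI : IsProper φ.left := IsProper.of_comp φ.left J'.hom
    exact (IsClosedImmersion.iff_isProper_and_mono φ.left).2 ⟨inferInstance, inferInstance⟩
  haveI : IsProper P₁.hom := inferInstanceAs (IsProper f)
  haveI : IsProper (Over.mk f').hom := inferInstanceAs (IsProper f')
  haveI : IsClosedImmersion h.left := hci h
  haveI : IsClosedImmersion j'.left := hci j'
  haveI : JacobsonSpace J'.left := LocallyOfFiniteType.jacobsonSpace J'.hom
  have hsub : ∀ {A B : Over (Spec (CommRingCat.of k))} [LocallyOfFiniteType A.hom] (φ : A ⟶ J') (ψ₁ : B ⟶ J')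
      [IsClosedImmersion φ.left] [IsClosedImmersion ψ₁.left],
      (∀ x : T ⟶ A, ∃ y : T ⟶ B, y ≫ ψ₁ = x ≫ φ) → Set.range φ.left ⊆ Set.range ψ₁.left := by
    intro A B _ φ ψ₁ _ _ hAB
    rw [← closure_inter_closedPoints φ.left.isClosedEmbedding.isClosed_range]
    refine closure_minimal ?_ ψ₁.left.isClosedEmbedding.isClosed_range
    rintro m ⟨⟨w, rfl⟩, hm⟩
    have hwc : IsClosed ({w} : Set A.left) := by
      have : ({w} : Set A.left) = φ.left ⁻¹' {φ.left w} := by
        ext v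
        simp only [Set.mem_singleton_iff, Set.mem_preimage]
        exact ⟨fun hv => hv ▸ rfl, fun hv => φ.left.isClosedEmbedding.injective hv⟩
      rw [this]
      exact (show IsClosed ({φ.left w} : Set J'.left) from hm).preimage φ.left.continuous
    obtain ⟨q, hq, hqw⟩ := Ext.exists_point_over (K := K) ρ A.hom hwc
    let x : T ⟶ A := Over.homMk q (hq.trans (Category.id_comp _).symm)
    obtain ⟨y, hy⟩ := hAB x
    exact ⟨y.left.base pT, by rw [← hqw]; exact congr($(hy).left pT)⟩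
  haveI : LocallyOfFiniteType P₁.hom := inferInstanceAs (LocallyOfFiniteType f)
  haveI : LocallyOfFiniteType (Over.mk f').hom := inferInstanceAs (LocallyOfFiniteType f')
  have hrange : Set.range h.left = Set.range j'.left := Set.Subset.antisymm
    (hsub h j' fun x => let ⟨y, hy⟩ := (hset (x ≫ h)).2 ⟨x, hcomp x⟩; ⟨y, hy.symm⟩)
    (hsub j' h fun y => let ⟨x, hx⟩ := (hset (y ≫ j')).1 ⟨y, rfl⟩; ⟨x, (hcomp x).trans hx.symm⟩)
  haveI : IsReduced P₁.left := inferInstanceAs (IsReduced C)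
  haveI : IsReduced (Over.mk f').left := inferInstanceAs (IsReduced C')
  let S₀ : TopologicalSpace.Closeds J'.left := ⟨Set.range j'.left, j'.left.isClosedEmbedding.isClosed_range⟩
  have hker : h.left.ker = j'.left.ker := by
    rw [Groth.Agent.CanonDual.ker_eq_vanishingIdeal h.left (S := S₀) hrange,
      Groth.Agent.CanonDual.ker_eq_vanishingIdeal j'.left (S := S₀) rfl]
  let α₀ : P₁.left ⟶ (Over.mk f').left := IsClosedImmersion.lift j'.left h.left hker.ge
  haveI : IsIso α₀ :=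
    IsClosedImmersion.isIso_of_ker_eq h.left j'.left α₀ (IsClosedImmersion.lift_fac _ _ _) hker
  refine ⟨asIso α₀, ?_⟩
  have h1 : α₀ ≫ j'.left = h.left := IsClosedImmersion.lift_fac _ _ _
  show α₀ ≫ (Over.mk f').hom = P₁.hom
  rw [← Over.w j', ← Category.assoc, h1, Over.w h]

end Groth.Agent.S17828
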