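import Groth.Statements.S17843
import Mathlib.RingTheory.FinitePresentation
import Mathlib.RingTheory.Localization.Away.Basic
import Mathlib.RingTheory.Polynomial.Basic
import Mathlib.Algebra.Polynomial.Inductions
import Mathlib.Algebra.Polynomial.Div

set_option autoImplicit false
universe u v
open CAlg

namespace Groth.Agent.S17843

open Polynomial

theorem sub_sub {S : Type*} [CommRing S] (a b : S) (p : Polynomial S) :
    aeval (C a * X) (aeval (C b * X) p) = aeval (C (a * b) * X) p := by
  rw [← aeval_algHom_apply]
  simp [C_mul]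
  ring_nf

theorem exists_lift {R L : Type*} [CommRing R] [CommRing L] [Algebra R L] (r : R) [IsLocalization.Away r L]
    (p : Polynomial L) : ∃ (m : ℕ) (P : Polynomial R), P.map (algebraMap R L) = C (algebraMap R L (r ^ m)) * p := by
  induction p using Polynomial.induction_on' with
  | add p q hp hq =>
    obtain ⟨m, P, hP⟩ := hp
    obtain ⟨n, Q, hQ⟩ := hq
    refine ⟨m + n, C (r ^ n) * P + C (r ^ m) * Q, ?_⟩
    simp only [Polynomial.map_add, Polynomial.map_mul, map_C, hP, hQ, pow_add, map_mul, C_mul]
    ring
  | monomial k a =>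
    obtain ⟨⟨b, _, m, rfl⟩, hb⟩ := IsLocalization.surj (Submonoid.powers r) a
    refine ⟨m, monomial k b, ?_⟩
    rw [map_monomial, C_mul_monomial, ← hb, mul_comm]

/-- In the case of an affine scheme of finite presentation, let B be a finitely presented R-algebra, r ∈
R, and x : B → R[1/r][T] an R-algebra homomorphism whose value at T = 0, a homomorphism B → R[1/r],
is induced by a homomorphism x̃₀ : B → R. Then for every large enough n, the homomorphism x(rⁿT) : B
→ R[1/r][T] is induced by a homomorphism x̃ : B → R[T] whose value at T = 0 is x̃₀. The published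
statement is for algebraic spaces locally of finite presentation over R; this row takes an affine
scheme of finite presentation. -/
theorem result
    (R : Type u) (B : Type v) [CommRing R] [CommRing B] [Algebra R B]
    [Algebra.FinitePresentation R B] (r : R)
    (x : B →ₐ[R] Polynomial (Localization.Away r))
    (x₀ : B →ₐ[R] R)
    (hx₀ : (algebraMap R (Localization.Away r)).comp x₀.toRingHom =
      (Polynomial.evalRingHom 0).comp x.toRingHom) :
    ∃ N : ℕ, ∀ n : ℕ, N ≤ n →
      ∃ y : B →ₐ[R] Polynomial R,
        (Polynomial.evalRingHom 0).comp y.toRingHom = x₀.toRingHom ∧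
        (Polynomial.mapRingHom (algebraMap R (Localization.Away r))).comp y.toRingHom =
          (Polynomial.aeval (Polynomial.C (algebraMap R (Localization.Away r) (r ^ n)) * Polynomial.X) :
              Polynomial (Localization.Away r) →ₐ[Localization.Away r] Polynomial (Localization.Away r)).toRingHom.comp
            x.toRingHom := by
  classical
  obtain ⟨d, π, hπ, hker⟩ := Algebra.FinitePresentation.out (R := R) (A := B)
  have hc : ∀ i : Fin d, (x (π (MvPolynomial.X i))).coeff 0 = algebraMap R (Localization.Away r) (x₀ (π (MvPolynomial.X i))) := fun i => by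
    rw [coeff_zero_eq_eval_zero]; exact (congr($hx₀ (π (MvPolynomial.X i)))).symm
  choose m P hP using fun i : Fin d => exists_lift r (x (π (MvPolynomial.X i))).divX
  let N₀ := Finset.univ.sup m
  let q : Fin d → Polynomial R := fun i =>
    C (x₀ (π (MvPolynomial.X i))) + C (r ^ (N₀ - m i)) * X * aeval (C (r ^ N₀) * X) (P i)
  let Y : MvPolynomial (Fin d) R →ₐ[R] Polynomial R := MvPolynomial.aeval q
  have hm : ∀ (t : R) (p : Polynomial R),
      (aeval (C t * X) p).map (algebraMap R (Localization.Away r)) = aeval (C (algebraMap R (Localization.Away r) t) * X) (p.map (algebraMap R (Localization.Away r))) := by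
    intro t p
    induction p using Polynomial.induction_on' with
    | add p q hp hq => simp [hp, hq]
    | monomial k a => simp [aeval_monomial]
  have hY : ∀ f, (Y f).map (algebraMap R (Localization.Away r)) = aeval (C (algebraMap R (Localization.Away r) (r ^ N₀)) * X) (x (π f)) := by
    suffices h : (mapRingHom (algebraMap R (Localization.Away r))).comp Y.toRingHom =
        ((aeval (C (algebraMap R (Localization.Away r) (r ^ N₀)) * X) : Polynomial (Localization.Away r) →ₐ[(Localization.Away r)] Polynomial (Localization.Away r)).toRingHom.comp x.toRingHom).comp π.toRingHom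
      from fun f => congr($h f)
    refine MvPolynomial.ringHom_ext (fun a => ?_) fun i => ?_
    · simp [Y, IsScalarTower.algebraMap_apply R (Localization.Away r) (Polynomial (Localization.Away r))]
    · show (Y (MvPolynomial.X i)).map (algebraMap R (Localization.Away r)) = aeval _ (x (π (MvPolynomial.X i)))
      conv_rhs => rw [← X_mul_divX_add (x (π (MvPolynomial.X i)))]
      simp only [Y, MvPolynomial.aeval_X, q, Polynomial.map_add, Polynomial.map_mul, map_C, map_X, hm, hP, hc,
        map_add, map_mul, aeval_C, aeval_X, Polynomial.algebraMap_eq]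
      obtain ⟨c, hcc⟩ : ∃ c, N₀ = c + m i :=
        ⟨N₀ - m i, (Nat.sub_add_cancel (Finset.le_sup (f := m) (Finset.mem_univ i))).symm⟩
      rw [hcc, Nat.add_sub_cancel]
      simp only [pow_add, map_mul, map_pow, C_mul]
      ring
  have hY0 : ∀ f, (Y f).eval 0 = x₀ (π f) := by
    suffices h : (evalRingHom 0).comp Y.toRingHom = x₀.toRingHom.comp π.toRingHom from fun f => congr($h f)
    refine MvPolynomial.ringHom_ext (fun a => ?_) fun i => ?_ <;> simp [Y, q]
  obtain ⟨gs, hgs⟩ := hker
  have hg : ∀ f ∈ gs, ∃ e : ℕ, ∀ k, e ≤ k → aeval (C (r ^ k) * X) (Y f) = 0 := by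
    intro f hf
    have hπf : π f = 0 := by
      have : f ∈ RingHom.ker π.toRingHom := hgs ▸ Submodule.subset_span hf
      exact this
    obtain ⟨g, hg⟩ : X ∣ Y f := by rw [X_dvd_iff, coeff_zero_eq_eval_zero, hY0, hπf, map_zero]
    have h1 : g.map (algebraMap R (Localization.Away r)) = 0 := by
      have h2 := hY f
      rw [hπf, map_zero, map_zero, hg, Polynomial.map_mul, map_X] at h2
      ext j
      have h3 := congrArg (fun p => Polynomial.coeff p (j + 1)) h2
      simpa [coeff_X_mul] using h3
    obtain ⟨e, he⟩ : ∃ e : ℕ, C (r ^ e) * g = 0 := by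
      have : ∀ j ∈ g.support, ∃ e : ℕ, r ^ e * g.coeff j = 0 := fun j _ => by
        obtain ⟨⟨_, e, rfl⟩, he⟩ := (IsLocalization.map_eq_zero_iff (Submonoid.powers r) (Localization.Away r) (g.coeff j)).1
          (by rw [← coeff_map, h1, coeff_zero])
        exact ⟨e, he⟩
      choose e he using this
      refine ⟨g.support.attach.sup (fun j => e j.1 j.2), Polynomial.ext fun j => ?_⟩
      rw [coeff_C_mul, coeff_zero]
      by_cases hj : j ∈ g.support
      · rw [← Nat.sub_add_cancel (Finset.le_sup (f := fun j => e j.1 j.2) (Finset.mem_attach _ ⟨j, hj⟩)), pow_add,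
          mul_assoc, he j hj, mul_zero]
      · simp [notMem_support_iff.1 hj]
    refine ⟨e, fun k hk => ?_⟩
    have h4 : aeval (C (r ^ k) * X) (C (r ^ e) * g) = 0 := by rw [he, map_zero]
    rw [map_mul, aeval_C, Polynomial.algebraMap_eq] at h4
    rw [hg, map_mul, aeval_X]
    have h5 : C (r ^ k) = C (r ^ (k - e)) * C (r ^ e) := by rw [← C_mul, ← pow_add, Nat.sub_add_cancel hk]
    nth_rw 1 [h5]
    calc C (r ^ (k - e)) * C (r ^ e) * X * aeval (C (r ^ k) * X) g
        = C (r ^ (k - e)) * X * (C (r ^ e) * aeval (C (r ^ k) * X) g) := by ring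
      _ = 0 := by rw [h4, mul_zero]
  choose e he using hg
  refine ⟨N₀ + gs.attach.sup (fun f => e f.1 f.2), fun n hn => ?_⟩
  let k := n - N₀
  let Φ : MvPolynomial (Fin d) R →ₐ[R] Polynomial R := (aeval (C (r ^ k) * X) : Polynomial R →ₐ[R] Polynomial R).comp Y
  have hΦ : RingHom.ker π.toRingHom ≤ RingHom.ker Φ.toRingHom := by
    rw [← hgs]
    refine Ideal.span_le.2 fun f hf => ?_
    exact he f hf k (le_trans (Finset.le_sup (f := fun f => e f.1 f.2) (Finset.mem_attach gs ⟨f, hf⟩)) (Nat.le_sub_of_add_le' hn))
  let y : B →ₐ[R] Polynomial R := AlgHom.liftOfSurjective π hπ Φ hΦ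
  have hy : ∀ f, y (π f) = aeval (C (r ^ k) * X) (Y f) := fun f => AlgHom.liftOfSurjective_apply _ _ _ _ _
  refine ⟨y, RingHom.ext fun b => ?_, RingHom.ext fun b => ?_⟩ <;> obtain ⟨f, rfl⟩ := hπ b
  · show (y (π f)).eval 0 = x₀ (π f)
    rw [hy, ← hY0]
    induction (Y f) using Polynomial.induction_on' with
    | add p q hp hq => rw [map_add, eval_add, eval_add, hp, hq]
    | monomial j a => simp [aeval_monomial, mul_pow]; cases j <;> simp
  · show (y (π f)).map (algebraMap R (Localization.Away r)) = aeval (C (algebraMap R (Localization.Away r) (r ^ n)) * X) (x (π f))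
    rw [hy, hm, hY, sub_sub, ← map_mul, ← pow_add, show k + N₀ = n by omega]

end Groth.Agent.S17843
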