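import Groth.Statements.S17877
import Groth.Agent.H9KaehlerGen.Descent
import Groth.Agent.EGA41Lib.IntDim

set_option linter.style.haveILetI false
set_option backward.isDefEq.respectTransparency false
set_option backward.isDefEq.respectTransparency.types false


set_option autoImplicit false
universe u
open GRRSing

namespace Groth.Agent.S17877

/-- Let K be a field with algebraic closure K̄ and Z = Spec A an affine scheme of finite type over K of
dimension d whose geometric fibre Spec (K̄ ⊗_K A) is integral with at most hypersurface
singularities (at every prime the embedding dimension of the local ring, the dimension of 𝔪/𝔪² over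
the residue field, is at most the height of the prime plus one). Then for every prime p of A the
(Ω_{A/K})_p is generated over A_p by at most d + 1 elements. (The published statement is for any Z
of finite type over K; the assertion is local on Z and the hypotheses pass to affine opens.) -/
theorem result
    {K : Type u} [Field K] {A : Type u} [CommRing A] [Algebra K A] [Algebra.FiniteType K A]
    [IsDomain (TensorProduct K (AlgebraicClosure K) A)]
    (hhyp : ∀ (q : Ideal (TensorProduct K (AlgebraicClosure K) A)) [q.IsPrime],
      (Module.finrank (IsLocalRing.ResidueField (Localization.AtPrime q))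
          (IsLocalRing.CotangentSpace (Localization.AtPrime q)) : ℕ∞) ≤ q.height + 1)
    (d : ℕ) (hd : ringKrullDim A = d) (p : Ideal A) [p.IsPrime] :
    ∃ s : Finset (LocalizedModule p.primeCompl (KaehlerDifferential K A)),
      s.card ≤ d + 1 ∧ Submodule.span (Localization.AtPrime p) (s : Set (LocalizedModule p.primeCompl (KaehlerDifferential K A))) = ⊤ := by
  let B := TensorProduct K (AlgebraicClosure K) A
  letI : Algebra A B := Algebra.TensorProduct.rightAlgebra
  haveI : Algebra.IsIntegral A B := ⟨fun z => by
    induction z using TensorProduct.induction_on with
    | zero => exact isIntegral_zero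
    | add x y hx hy => exact hx.add hy
    | tmul x a =>
      have h1 : IsIntegral K (TensorProduct.tmul K x (1 : A) : B) :=
        (Algebra.IsIntegral.isIntegral (R := K) x).map
          (Algebra.TensorProduct.includeLeft : AlgebraicClosure K →ₐ[K] B)
      have h2 : (TensorProduct.tmul K x a : B) = algebraMap A B a * TensorProduct.tmul K x 1 := by
        show _ = TensorProduct.tmul K (1 : AlgebraicClosure K) a * TensorProduct.tmul K x 1
        rw [Algebra.TensorProduct.tmul_mul_tmul, one_mul, mul_one]
      rw [h2]
      exact isIntegral_algebraMap.mul h1.tower_top⟩
  have hinj : Function.Injective (algebraMap A B) :=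
    Algebra.TensorProduct.includeRight_injective (algebraMap K (AlgebraicClosure K)).injective
  haveI : FaithfulSMul A B := (faithfulSMul_iff_algebraMap_injective A B).2 hinj
  have hdB : ringKrullDim B = d := (Groth.Agent.EGA41Lib.ringKrullDim_eq_of_integral (A := A) (B := B) hinj).trans hd
  obtain ⟨⟨q, hq'⟩, hq⟩ := Algebra.IsIntegral.comap_surjective A B (⟨p, ‹p.IsPrime›⟩ : PrimeSpectrum A)
  haveI := hq'
  haveI : q.LiesOver p := ⟨(congrArg PrimeSpectrum.asIdeal hq).symm⟩
  have hb := Groth.Agent.H9KaehlerGen.finrank_residue_baseChange_le (k := AlgebraicClosure K) d hdB q (hhyp q)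
  let Ω := KaehlerDifferential K A
  letI : Algebra p.ResidueField q.ResidueField :=
    (Ideal.ResidueField.map p q (algebraMap A B) (q.over_def p)).toAlgebra
  haveI : IsScalarTower A p.ResidueField q.ResidueField := IsScalarTower.of_algebraMap_eq fun x => by
    rw [RingHom.algebraMap_toAlgebra, Ideal.ResidueField.map_algebraMap, ← IsScalarTower.algebraMap_apply]
  have e : Module.finrank q.ResidueField (TensorProduct B q.ResidueField (KaehlerDifferential (AlgebraicClosure K) B)) =
      Module.finrank p.ResidueField (TensorProduct A p.ResidueField Ω) := by
    rw [← LinearEquiv.finrank_eq (TensorProduct.AlgebraTensorModule.congr (LinearEquiv.refl q.ResidueField q.ResidueField)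
      (KaehlerDifferential.tensorKaehlerEquiv K (AlgebraicClosure K) A B)),
      LinearEquiv.finrank_eq (TensorProduct.AlgebraTensorModule.cancelBaseChange A B q.ResidueField q.ResidueField Ω),
      ← LinearEquiv.finrank_eq (TensorProduct.AlgebraTensorModule.cancelBaseChange A p.ResidueField q.ResidueField q.ResidueField Ω),
      Module.finrank_baseChange]
  exact Groth.Agent.H9KaehlerGen.exists_generators Ω p (d + 1) (e ▸ hb)
end Groth.Agent.S17877
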