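import Groth.Statements.S17885
import Groth.Agent.TTApprox.Affine
-- import your own Groth.Agent.* helpers here

set_option autoImplicit false
universe u
open CategoryTheory AlgebraicGeometry
open Lim

attribute [-instance] CategoryTheory.catToReflQuiver

namespace Groth.Agent.S17885

open CategoryTheory.Limits

/-- Let f : Y → X be a morphism of schemes with X and Y quasi-compact and quasi-separated. Then f is
affine if and only if the X-scheme Y is a limit, in the category of schemes over X, of a filtered
inverse system of X-schemes that are affine and of finite presentation over X. -/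
theorem result {X Y : Scheme.{u}} (f : Y ⟶ X)
    [CompactSpace X] [QuasiSeparatedSpace X] [CompactSpace Y] [QuasiSeparatedSpace Y] :
    IsAffineHom f ↔
      ∃ (I : Type u) (_ : SmallCategory I) (_ : IsFiltered I) (D : Iᵒᵖ ⥤ Over X)
        (c : Limits.Cone D) (_ : Limits.IsLimit c),
        (∀ i, IsAffineHom (D.obj i).hom ∧ LocallyOfFinitePresentation (D.obj i).hom) ∧
        Nonempty (c.pt ≅ Over.mk f) := by
  refine ⟨fun hf => ?_, ?_⟩
  · obtain ⟨I, _, _, _, D, c, hc, hD, he⟩ := TTApprox.exists_affine_fp_limit f
    exact ⟨I, inferInstance, inferInstance, D, c, hc, hD, he⟩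
  · rintro ⟨I, _, _, D, c, hc, hD, ⟨e⟩⟩
    haveI : IsCofiltered Iᵒᵖ := inferInstance
    haveI : CategoryTheory.IsConnected Iᵒᵖ := IsCofiltered.isConnected _
    haveI : ∀ {i j : Iᵒᵖ} (h : i ⟶ j), IsAffineHom ((D ⋙ Over.forget X).map h) := fun {i j} h => by
      haveI := (hD i).1
      haveI := (hD j).1
      haveI : IsAffineHom ((D.map h).left ≫ (D.obj j).hom) := by rw [Over.w]; infer_instance
      exact IsAffineHom.of_comp (D.map h).left (D.obj j).hom
    obtain ⟨i⟩ : Nonempty Iᵒᵖ := IsCofiltered.nonempty
    haveI := (hD i).1
    haveI : IsAffineHom (c.π.app i).left :=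
      isAffineHom_π_app _ ((Over.forget X).mapCone c) (isLimitOfPreserves (Over.forget X) hc) i
    have h : f = e.inv.left ≫ (c.π.app i).left ≫ (D.obj i).hom := by
      rw [Over.w (c.π.app i)]
      exact (Over.w e.inv).symm
    rw [h]
    infer_instance

end Groth.Agent.S17885
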