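import Groth.Statements.S17886
import Groth.Statements.S17886
import Groth.Agent.AmpleX.QAHom
import Groth.Agent.PicGlue.AmpleDimOne
import Groth.Agent.MorLib.Birat

set_option backward.isDefEq.respectTransparency false
set_option backward.isDefEq.respectTransparency.types false

set_option autoImplicit false
universe u
open CategoryTheory AlgebraicGeometry
open FlatMor

namespace Groth.Agent.S17886

/-- Let S be a Noetherian scheme and f : X → S separated and of finite type. Then X is covered by
finitely many affine opens U_1, …, U_n each of which is dense in X and quasi-projective over S (of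
finite type with a relatively ample invertible module). -/
theorem result {S X : Scheme.{u}} (f : X ⟶ S)
    [IsNoetherian S] [IsSeparated f] [QuasiCompact f] [LocallyOfFiniteType f] :
    ∃ (n : ℕ) (U : Fin n → X.Opens), (⨆ i, U i) = ⊤ ∧
      ∀ i, IsAffineOpen (U i) ∧ Dense ((U i : Set X)) ∧ RelProj.IsQuasiProjective ((U i).ι ≫ f) := by
  haveI : IsLocallyNoetherian X := LocallyOfFiniteType.isLocallyNoetherian f
  haveI : CompactSpace X := QuasiCompact.compactSpace_of_compactSpace f
  haveI : IsNoetherian X := { }
  choose V hV hxV hgen using fun x : X => PicGlue.exists_affine_dense x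
  obtain ⟨T, hT⟩ := isCompact_univ.elim_finite_subcover (fun x => (V x : Set X)) (fun x => (V x).2)
    (fun x _ => Set.mem_iUnion.2 ⟨x, hxV x⟩)
  let e := (Fintype.equivFin T).symm
  refine ⟨_, fun i => V (e i).1, top_le_iff.1 fun y _ => ?_, fun i =>
    ⟨hV _, MorLib.Birat.dense_of_genericPoints (hgen _), ?_⟩⟩
  · obtain ⟨x, hx, hyx⟩ := Set.mem_iUnion₂.1 (hT (Set.mem_univ y))
    exact TopologicalSpace.Opens.mem_iSup.2 ⟨e.symm ⟨x, hx⟩, by simpa using hyx⟩
  · let U := V (e i).1
    haveI : IsAffine U.toScheme := hV _
    haveI : QuasiCompact (U.ι ≫ f) := inferInstance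
    refine ⟨inferInstance, inferInstance, Coh.structureModule _, (AmpleX.isQuasiAffine_iff_isRelAmple _).1 ?_⟩
    refine AmpleX.isQuasiAffine_of_comp (U.ι ≫ f) (specULiftZIsTerminal.from S) ⟨inferInstance, fun W hW => ?_⟩
    haveI : IsAffineHom ((U.ι ≫ f) ≫ specULiftZIsTerminal.from S) := isAffineHom_of_isAffine _
    haveI : IsAffine (((U.ι ≫ f) ≫ specULiftZIsTerminal.from S) ⁻¹ᵁ W).toScheme := hW.preimage _
    infer_instance

end Groth.Agent.S17886
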