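import Groth.Statements.S17891
-- import your own Groth.Agent.* helpers here
import Groth.Agent.AmpleX.Comp
import Groth.Agent.AmpleX.BaseChange
import Groth.Agent.AmpleX.QAHom
import Groth.Agent.AVRosati.DivPos
import Groth.Agent.InvX.GenLocusPull
import Groth.Agent.InvX.Tensor
import Groth.Agent.H23.PullPush
import Groth.Agent.ExistEasy.ChowNR.Basic

set_option autoImplicit false
universe u
open CategoryTheory AlgebraicGeometry
open FlatMor

namespace Groth.Agent.S17891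

set_option backward.isDefEq.respectTransparency false
set_option backward.isDefEq.respectTransparency.types false

noncomputable def unitIso {A B : Scheme.{u}} (g : B ⟶ A) :
    (Scheme.Modules.pullback g).obj (Coh.structureModule A) ≅ Coh.structureModule B :=
  haveI : (TopologicalSpace.Opens.map g.base).Final := Groth.Agent.H23.PullPush.opensMap_final g
  haveI : IsIso (SheafOfModules.pullbackObjUnitToUnit g.toRingCatSheafHom) := inferInstance
  asIso (SheafOfModules.pullbackObjUnitToUnit g.toRingCatSheafHom)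

theorem isIso_iff_genLocus {Y Z : Scheme.{u}} (v : Y ⟶ Z) (L : Z.Modules) (hL : PicF.IsInvertible L)
    (ε : Coh.structureModule Z ⟶ L) :
    IsIso ((Scheme.Modules.pullback v).map ε) ↔ v ⁻¹ᵁ CohB1.genLocus L ε = ⊤ := by
  rw [← Groth.Agent.InvX.genLocus_pullback v hL ε (unitIso v).symm]
  refine ⟨fun h => Groth.Agent.AVRosati.genLocus_eq_top_of_isIso _, fun h => ?_⟩
  have h1 := Groth.Agent.AVRosati.isIso_of_genLocus_eq_top _ h
  exact IsIso.of_isIso_comp_left (unitIso v).symm.hom ((Scheme.Modules.pullback v).map ε)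

/-- Pulling a section back. -/
noncomputable def pullHom {Y Z : Scheme.{u}} (v : Y ⟶ Z) {L : Z.Modules}
    (ε : Coh.structureModule Z ⟶ L) : Coh.structureModule Y ⟶ (Scheme.Modules.pullback v).obj L :=
  (unitIso v).symm.hom ≫ (Scheme.Modules.pullback v).map ε

theorem genLocus_pullHom {Y Z : Scheme.{u}} (v : Y ⟶ Z) {L : Z.Modules} (hL : PicF.IsInvertible L)
    (ε : Coh.structureModule Z ⟶ L) :
    CohB1.genLocus _ (pullHom v ε) = v ⁻¹ᵁ CohB1.genLocus L ε :=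
  Groth.Agent.InvX.genLocus_pullback v hL ε _


/-- Here f : Y → X is an affine morphism with X and Y quasi-compact and quasi-separated; a
Y-modification of X is a factorization f = fᵢ ≫ gᵢ with fᵢ : Y → Xᵢ schematically dominant and gᵢ :
Xᵢ → X proper, and it is a Y-blow-up of X when Xᵢ carries a gᵢ-ample module L with a section ε : O →
L whose pullback along fᵢ is an isomorphism (a Y-trivialization). Given two Y-blow-ups (X₁, f₁, g₁),
(X₂, f₂, g₂) of X there is a Y-blow-up (X₃, f₃, g₃) of X together with morphisms dᵢ : X₃ → Xᵢ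
satisfying f₃ ≫ dᵢ = fᵢ and dᵢ ≫ gᵢ = g₃. -/
theorem result {X Y : Scheme.{u}} (f : Y ⟶ X)
    [CompactSpace X] [QuasiSeparatedSpace X] [CompactSpace Y] [QuasiSeparatedSpace Y] [IsAffineHom f]
    {X₁ X₂ : Scheme.{u}} (f₁ : Y ⟶ X₁) (g₁ : X₁ ⟶ X) (f₂ : Y ⟶ X₂) (g₂ : X₂ ⟶ X)
    (h₁ : IsSchemeTheoreticallyDominant f₁ ∧ IsProper g₁ ∧ f₁ ≫ g₁ = f ∧
        ∃ (L : X₁.Modules) (ε : Coh.structureModule X₁ ⟶ L),
          RelAmple.IsRelAmple g₁ L ∧ IsIso ((Scheme.Modules.pullback f₁).map ε))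
    (h₂ : IsSchemeTheoreticallyDominant f₂ ∧ IsProper g₂ ∧ f₂ ≫ g₂ = f ∧
        ∃ (L : X₂.Modules) (ε : Coh.structureModule X₂ ⟶ L),
          RelAmple.IsRelAmple g₂ L ∧ IsIso ((Scheme.Modules.pullback f₂).map ε)) :
    ∃ (X₃ : Scheme.{u}) (f₃ : Y ⟶ X₃) (g₃ : X₃ ⟶ X) (d₁ : X₃ ⟶ X₁) (d₂ : X₃ ⟶ X₂),
      (IsSchemeTheoreticallyDominant f₃ ∧ IsProper g₃ ∧ f₃ ≫ g₃ = f ∧
        ∃ (L : X₃.Modules) (ε : Coh.structureModule X₃ ⟶ L),
          RelAmple.IsRelAmple g₃ L ∧ IsIso ((Scheme.Modules.pullback f₃).map ε)) ∧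
      f₃ ≫ d₁ = f₁ ∧ d₁ ≫ g₁ = g₃ ∧ f₃ ≫ d₂ = f₂ ∧ d₂ ≫ g₂ = g₃ := by
  obtain ⟨hd₁, hp₁, he₁, L₁, ε₁, hL₁, hε₁⟩ := h₁
  obtain ⟨hd₂, hp₂, he₂, L₂, ε₂, hL₂, hε₂⟩ := h₂
  have := hp₁
  have := hp₂
  let a₁ : Limits.pullback g₂ g₁ ⟶ X₁ := Limits.pullback.snd g₂ g₁
  let a₂ : Limits.pullback g₂ g₁ ⟶ X₂ := Limits.pullback.fst g₂ g₁
  let φ : Y ⟶ Limits.pullback g₂ g₁ := Limits.pullback.lift f₂ f₁ (he₂.trans he₁.symm)
  have hφ₁ : φ ≫ a₁ = f₁ := Limits.pullback.lift_snd _ _ _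
  have hφ₂ : φ ≫ a₂ = f₂ := Limits.pullback.lift_fst _ _ _
  have : IsProper a₁ := inferInstanceAs (IsProper (Limits.pullback.snd g₂ g₁))
  have : IsProper (a₁ ≫ g₁) := inferInstance
  have hφf : φ ≫ a₁ ≫ g₁ = f := by rw [← Category.assoc, hφ₁, he₁]
  have : QuasiCompact (φ ≫ a₁ ≫ g₁) := hφf ▸ inferInstance
  have : QuasiCompact φ := QuasiCompact.of_comp φ (a₁ ≫ g₁)
  let ι := φ.imageι
  let f₃ := φ.toImage
  have hf₃ : f₃ ≫ ι = φ := φ.toImage_imageι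
  obtain ⟨n₀, hn₀, hn⟩ := Groth.Agent.AmpleX.eventually_isRelAmple_comp a₁ g₁
    (Groth.Agent.AmpleX.isRelAmple_baseChange g₂ g₁ hL₂) hL₁
  obtain ⟨k, rfl⟩ := Nat.exists_eq_add_of_le' hn₀
  have hi₁ := Groth.Agent.AmpleX.isInvertible_of_isRelAmple hL₁
  have hi₂ := Groth.Agent.AmpleX.isInvertible_of_isRelAmple hL₂
  have hi₁n := Groth.Agent.InvX.isInvertible_tensorPow hi₁ (k + 1)
  have hiA := Groth.Agent.PicClLib.isInvertible_pullback a₂ hi₂
  have hiB := Groth.Agent.PicClLib.isInvertible_pullback a₁ hi₁n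
  have hiP := Groth.Agent.InvX.isInvertible_tensorMod hiA hiB
  let ε₀ := Groth.Agent.InvX.mulHom (pullHom a₂ ε₂)
    (pullHom a₁ (Groth.Agent.InvX.powHom ε₁ (k + 1)))
  have hqa : Mor2.IsQuasiAffine ι :=
    Groth.Agent.AmpleX.isQuasiAffine_of_isEmbedding ι ι.isClosedEmbedding.isEmbedding
  refine ⟨φ.image, f₃, ι ≫ a₁ ≫ g₁, ι ≫ a₁, ι ≫ a₂,
    ⟨Groth.Agent.ExistEasy.ChowNR.isSTDom_toImage φ, inferInstance,
      by rw [← Category.assoc, hf₃, hφf], _, pullHom ι ε₀,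
      Groth.Agent.AmpleX.isRelAmple_pullback_quasiAffine (a₁ ≫ g₁) ι hqa (hn (k + 1) le_rfl), ?_⟩,
    by rw [← Category.assoc, hf₃, hφ₁], Category.assoc _ _ _, by rw [← Category.assoc, hf₃, hφ₂], ?_⟩
  · rw [isIso_iff_genLocus f₃ _ (Groth.Agent.PicClLib.isInvertible_pullback ι hiP),
      genLocus_pullHom ι hiP, ← Scheme.Hom.comp_preimage, hf₃,
      Groth.Agent.InvX.genLocus_mulHom hiA hiB, genLocus_pullHom a₂ hi₂, genLocus_pullHom a₁ hi₁n,
      Groth.Agent.InvX.genLocus_powHom hi₁ ε₁ k, Scheme.Hom.preimage_inf,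
      ← Scheme.Hom.comp_preimage, ← Scheme.Hom.comp_preimage, hφ₁, hφ₂,
      (isIso_iff_genLocus f₂ L₂ hi₂ ε₂).1 hε₂, (isIso_iff_genLocus f₁ L₁ hi₁ ε₁).1 hε₁, inf_idem]
  · rw [Category.assoc]
    exact congrArg (ι ≫ ·) Limits.pullback.condition

end Groth.Agent.S17891
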