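import Groth.Statements.S17892
-- import your own Groth.Agent.* helpers here
import Groth.Agent.AmpleX.Comp
import Groth.Agent.AVRosati.DivPos
import Groth.Agent.InvX.GenLocusPull
import Groth.Agent.InvX.Tensor
import Mathlib.Algebra.Category.ModuleCat.Sheaf.PullbackFree
import Groth.Agent.H23.PullPush

set_option autoImplicit false
universe u
open CategoryTheory AlgebraicGeometry
open FlatMor

namespace Groth.Agent.S17892

set_option backward.isDefEq.respectTransparency false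
set_option backward.isDefEq.respectTransparency.types false

noncomputable def unitIso {A B : Scheme.{u}} (g : B ⟶ A) :
    (Scheme.Modules.pullback g).obj (Coh.structureModule A) ≅ Coh.structureModule B :=
  haveI : (TopologicalSpace.Opens.map g.base).Final := Groth.Agent.H23.PullPush.opensMap_final g
  haveI : IsIso (SheafOfModules.pullbackObjUnitToUnit g.toRingCatSheafHom) := inferInstance
  asIso (SheafOfModules.pullbackObjUnitToUnit g.toRingCatSheafHom)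

/-- Here f : Y → X is an affine morphism with X and Y quasi-compact and quasi-separated; a
Y-modification of X is a factorization f = fᵢ ≫ gᵢ with fᵢ : Y → Xᵢ schematically dominant and gᵢ :
Xᵢ → X proper, and it is a Y-blow-up of X when Xᵢ carries a gᵢ-ample module L with a section ε : O →
L whose pullback along fᵢ is an isomorphism (a Y-trivialization). If (Xᵢ, fᵢ, gᵢ) is a Y-blow-up of
X and (Xⱼ, fⱼ, gᵢⱼ) is a Y-blow-up of Xᵢ (with respect to fᵢ : Y → Xᵢ), then (Xⱼ, fⱼ, gᵢⱼ ≫ gᵢ) is a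
Y-blow-up of X. -/
theorem result {X Y : Scheme.{u}} (f : Y ⟶ X)
    [CompactSpace X] [QuasiSeparatedSpace X] [CompactSpace Y] [QuasiSeparatedSpace Y] [IsAffineHom f]
    {Xᵢ Xⱼ : Scheme.{u}} (fᵢ : Y ⟶ Xᵢ) (gᵢ : Xᵢ ⟶ X) (fⱼ : Y ⟶ Xⱼ) (gᵢⱼ : Xⱼ ⟶ Xᵢ)
    (hᵢ : IsSchemeTheoreticallyDominant fᵢ ∧ IsProper gᵢ ∧ fᵢ ≫ gᵢ = f ∧
        ∃ (L : Xᵢ.Modules) (ε : Coh.structureModule Xᵢ ⟶ L),
          RelAmple.IsRelAmple gᵢ L ∧ IsIso ((Scheme.Modules.pullback fᵢ).map ε))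
    (hⱼ : IsSchemeTheoreticallyDominant fⱼ ∧ IsProper gᵢⱼ ∧ fⱼ ≫ gᵢⱼ = fᵢ ∧
        ∃ (L : Xⱼ.Modules) (ε : Coh.structureModule Xⱼ ⟶ L),
          RelAmple.IsRelAmple gᵢⱼ L ∧ IsIso ((Scheme.Modules.pullback fⱼ).map ε)) :
    IsSchemeTheoreticallyDominant fⱼ ∧ IsProper (gᵢⱼ ≫ gᵢ) ∧ fⱼ ≫ (gᵢⱼ ≫ gᵢ) = f ∧
        ∃ (L : Xⱼ.Modules) (ε : Coh.structureModule Xⱼ ⟶ L),
          RelAmple.IsRelAmple (gᵢⱼ ≫ gᵢ) L ∧ IsIso ((Scheme.Modules.pullback fⱼ).map ε) := by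
  obtain ⟨hdi, hpi, hei, Li, εi, hLi, hεi⟩ := hᵢ
  obtain ⟨hdj, hpj, hej, Lj, εj, hLj, hεj⟩ := hⱼ
  have := hpi
  have := hpj
  refine ⟨hdj, inferInstance, by rw [← Category.assoc, hej, hei], ?_⟩
  have := hLi.1
  obtain ⟨n₀, hn₀, hn⟩ := Groth.Agent.AmpleX.eventually_isRelAmple_comp gᵢⱼ gᵢ hLj hLi
  obtain ⟨k, rfl⟩ := Nat.exists_eq_add_of_le' hn₀
  have hiLi := Groth.Agent.AmpleX.isInvertible_of_isRelAmple hLi
  have hiLj := Groth.Agent.AmpleX.isInvertible_of_isRelAmple hLj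
  have hiP := Groth.Agent.InvX.isInvertible_tensorPow hiLi (k + 1)
  have hiQ := Groth.Agent.PicClLib.isInvertible_pullback gᵢⱼ hiP
  let e₁ : (Scheme.Modules.pullback gᵢⱼ).obj (Coh.structureModule Xᵢ) ≅ Coh.structureModule Xⱼ :=
    unitIso gᵢⱼ
  let t := e₁.inv ≫ (Scheme.Modules.pullback gᵢⱼ).map (Groth.Agent.InvX.powHom εi (k + 1))
  refine ⟨_, Groth.Agent.InvX.mulHom εj t, hn (k + 1) le_rfl, ?_⟩
  have htop : ∀ {Z : Scheme.{u}} (v : Y ⟶ Z) (L : Z.Modules) (_ : PicF.IsInvertible L)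
      (ε : Coh.structureModule Z ⟶ L),
      IsIso ((Scheme.Modules.pullback v).map ε) ↔ v ⁻¹ᵁ CohB1.genLocus L ε = ⊤ := by
    intro Z v L hL ε
    let e : (Scheme.Modules.pullback v).obj (Coh.structureModule Z) ≅ Coh.structureModule Y :=
      unitIso v
    rw [← Groth.Agent.InvX.genLocus_pullback v hL ε e.symm]
    refine ⟨fun h => Groth.Agent.AVRosati.genLocus_eq_top_of_isIso _, fun h => ?_⟩
    have h1 := Groth.Agent.AVRosati.isIso_of_genLocus_eq_top _ h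
    exact IsIso.of_isIso_comp_left e.symm.hom ((Scheme.Modules.pullback v).map ε)
  rw [htop fⱼ _ (Groth.Agent.InvX.isInvertible_tensorMod hiLj hiQ)]
  have ht : CohB1.genLocus _ t = gᵢⱼ ⁻¹ᵁ CohB1.genLocus Li εi :=
    (Groth.Agent.InvX.genLocus_pullback gᵢⱼ hiP _ e₁.symm).trans
      (congrArg (fun O => gᵢⱼ ⁻¹ᵁ O) (Groth.Agent.InvX.genLocus_powHom hiLi εi k))
  rw [Groth.Agent.InvX.genLocus_mulHom hiLj hiQ, ht, Scheme.Hom.preimage_inf,
    (htop fⱼ Lj hiLj εj).1 hεj, ← Scheme.Hom.comp_preimage, hej, (htop fᵢ Li hiLi εi).1 hεi, inf_idem]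

end Groth.Agent.S17892
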