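import Groth.Statements.S17897
import Mathlib
-- import your own Groth.Agent.* helpers here

set_option autoImplicit false
universe u
open CategoryTheory AlgebraicGeometry
open ValCrit

namespace Groth.Agent.S17897

set_option backward.isDefEq.respectTransparency.types false
set_option linter.style.haveILetI false

theorem hom_ext {X : Scheme.{u}} {A B : CommRingCat.{u}} [IsLocalRing A] [IsLocalRing B] (ρ : A ⟶ B)
    [IsLocalHom ρ.hom] (hρ : Function.Injective ρ.hom) {h₁ h₂ : Spec A ⟶ X}
    (h : Spec.map ρ ≫ h₁ = Spec.map ρ ≫ h₂) : h₁ = h₂ := by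
  have hpt : h₁ (IsLocalRing.closedPoint A) = h₂ (IsLocalRing.closedPoint A) := by
    rw [← Spec_closedPoint (f := ρ), ← Scheme.Hom.comp_apply, h, Scheme.Hom.comp_apply]
  have key : ∀ (k : Spec A ⟶ X) (x : X) (hx : k (IsLocalRing.closedPoint A) = x),
      ∃ t : X.presheaf.stalk x ⟶ A, Spec.map t ≫ X.fromSpecStalk x = k := by
    rintro k _ rfl
    exact ⟨_, Scheme.Spec_stalkClosedPointTo_fromSpecStalk k⟩
  obtain ⟨t₁, h1⟩ := key h₁ _ rfl
  obtain ⟨t₂, h2⟩ := key h₂ _ hpt.symm
  rw [← h1, ← h2, ← Category.assoc, ← Category.assoc, ← Spec.map_comp, ← Spec.map_comp, cancel_mono] at h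
  have ht : t₁ = t₂ := CommRingCat.hom_ext (RingHom.ext fun a => hρ (ConcreteCategory.congr_hom (Spec.map_injective h) a))
  rw [← h1, ← h2, ht]

/-- Let f : Y → X be a morphism of schemes (not assumed separated), R a valuation ring with fraction
field K, and i : Spec K → Y, φ : Spec R → X with i ≫ f = (Spec K → Spec R) ≫ φ. Let y be the point
of Y hit by i and g : κ(y) → K the induced embedding, R' = g⁻¹(R) the induced valuation ring of κ(y)
and ρ : R' → R the restriction of g. Then φ factors uniquely through Spec R → Spec R': there is a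
unique φ' : Spec R' → X with (Spec ρ) ≫ φ' = φ whose restriction to the generic point Spec κ(y) is
the canonical morphism Spec κ(y) → Y followed by f. (Here y and g are given as data with Spec g
followed by Spec κ(y) → Y equal to i, and ρ as data by its defining equation.) -/
theorem result {X Y : Scheme.{u}} (f : Y ⟶ X)
    (K : Type u) [Field K] (R : ValuationSubring K)
    (i : Spec (CommRingCat.of K) ⟶ Y) (φ : Spec (CommRingCat.of ↥R) ⟶ X)
    (w : Spec.map (CommRingCat.ofHom R.subtype) ≫ φ = i ≫ f)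
    (y : Y) (g : Y.residueField y ⟶ CommRingCat.of K) (hg : Spec.map g ≫ Y.fromSpecResidueField y = i)
    (ρ : ↥(R.comap g.hom) →+* ↥R)
    (hρ : ∀ x : ↥(R.comap g.hom), ((ρ x : ↥R) : K) = g.hom (x : ↑(Y.residueField y))) :
    ∃! φ' : Spec (CommRingCat.of ↥(R.comap g.hom)) ⟶ X,
      Spec.map (CommRingCat.ofHom ρ) ≫ φ' = φ ∧
      Spec.map (CommRingCat.ofHom (R.comap g.hom).subtype) ≫ φ' = Y.fromSpecResidueField y ≫ f := by
  haveI : IsLocalHom ρ := ⟨fun a ha => by
    obtain ⟨b, hb⟩ := ha.exists_right_inv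
    have hb' : g.hom (a : Y.residueField y) * (b : K) = 1 := by
      rw [← hρ, ← MulMemClass.coe_mul, hb]; rfl
    have hmem : (a : Y.residueField y)⁻¹ ∈ R.comap g.hom := by
      show g.hom (a : Y.residueField y)⁻¹ ∈ R
      rw [map_inv₀, inv_eq_of_mul_eq_one_right hb']
      exact b.2
    have ha0 : (a : Y.residueField y) ≠ 0 := fun h => by
      rw [h, map_zero, zero_mul] at hb'
      exact zero_ne_one hb'
    exact IsUnit.of_mul_eq_one ⟨_, hmem⟩ (Subtype.ext (mul_inv_cancel₀ ha0))⟩
  have hinj : Function.Injective ρ := fun a b h => Subtype.ext (g.hom.injective (by rw [← hρ, ← hρ, h]))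
  let A := CommRingCat.of ↥(R.comap g.hom)
  haveI : IsLocalRing A := inferInstanceAs (IsLocalRing ↥(R.comap g.hom))
  haveI : IsLocalHom (CommRingCat.ofHom ρ).hom := ‹IsLocalHom ρ›
  let x₀ := φ (IsLocalRing.closedPoint (CommRingCat.of ↥R))
  have hsp : f y ⤳ x₀ := by
    have e : f y = φ (Spec.map (CommRingCat.ofHom R.subtype) (IsLocalRing.closedPoint (CommRingCat.of K))) := by
      rw [← Scheme.Hom.comp_apply, w, ← hg, Scheme.Hom.comp_apply, Scheme.Hom.comp_apply]
      exact congrArg f (Scheme.fromSpecResidueField_apply _ _).symm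
    rw [e]
    exact (IsLocalRing.specializes_closedPoint _).map φ.continuous
  let t := Scheme.stalkClosedPointTo φ
  obtain ⟨q, hq⟩ : ∃ q : X.presheaf.stalk x₀ ⟶ Y.residueField y,
      Spec.map q ≫ X.fromSpecStalk x₀ = Y.fromSpecResidueField y ≫ f := by
    refine ⟨X.presheaf.stalkSpecializes hsp ≫ f.stalkMap y ≫ Y.residue y, ?_⟩
    simp only [Spec.map_comp, Category.assoc, Scheme.SpecMap_stalkSpecializes_fromSpecStalk,
      Scheme.SpecMap_stalkMap_fromSpecStalk]
    rfl
  have hqt : q ≫ g = t ≫ CommRingCat.ofHom R.subtype := by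
    apply Spec.map_injective
    rw [← cancel_mono (X.fromSpecStalk x₀), Spec.map_comp, Spec.map_comp, Category.assoc, Category.assoc, hq,
      Scheme.Spec_stalkClosedPointTo_fromSpecStalk, w, ← Category.assoc, hg]
  have hmem : ∀ a, q.hom a ∈ R.comap g.hom := fun a => by
    show g.hom (q.hom a) ∈ R
    rw [show g.hom (q.hom a) = ((t.hom a : ↥R) : K) from ConcreteCategory.congr_hom hqt a]
    exact (t.hom a).2
  let t' : X.presheaf.stalk x₀ ⟶ A := CommRingCat.ofHom (q.hom.codRestrict (R.comap g.hom) hmem)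
  have ht' : t' ≫ CommRingCat.ofHom ρ = t := CommRingCat.hom_ext (RingHom.ext fun a => Subtype.ext ((hρ _).trans
    (ConcreteCategory.congr_hom hqt a)))
  refine ⟨Spec.map t' ≫ X.fromSpecStalk x₀, ⟨?_, ?_⟩, fun h hh => hom_ext (CommRingCat.ofHom ρ) hinj ?_⟩
  · rw [← Category.assoc, ← Spec.map_comp, ht', Scheme.Spec_stalkClosedPointTo_fromSpecStalk]
  · rw [← Category.assoc, ← Spec.map_comp, ← hq]
    rfl
  · rw [hh.1, ← Category.assoc, ← Spec.map_comp, ht', Scheme.Spec_stalkClosedPointTo_fromSpecStalk]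

end Groth.Agent.S17897
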