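import Groth.Statements.S17898
-- import your own Groth.Agent.* helpers here
import Mathlib

set_option autoImplicit false
universe u
open CategoryTheory AlgebraicGeometry
open ValCrit

set_option backward.isDefEq.respectTransparency false
set_option backward.isDefEq.respectTransparency.types false

namespace Groth.Agent.S17898

theorem exists_fac {X : Scheme.{u}} {R : Type u} [CommRing R] [IsLocalRing R]
    (h : Spec (CommRingCat.of R) ⟶ X) {W : X.Opens} (hW : IsAffineOpen W)
    (hc : h (IsLocalRing.closedPoint R) ∈ W) :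
    ∃ a : Γ(X, W) ⟶ CommRingCat.of R, Spec.map a ≫ hW.fromSpec = h := by
  have hr : Set.range h ⊆ Set.range hW.fromSpec := by
    rintro _ ⟨p, rfl⟩
    rw [IsAffineOpen.range_fromSpec]
    exact ((IsLocalRing.specializes_closedPoint p).map h.continuous).mem_open W.2 hc
  exact ⟨Spec.preimage (IsOpenImmersion.lift hW.fromSpec h hr), by
    rw [Spec.map_preimage]; exact IsOpenImmersion.lift_fac _ _ _⟩

theorem hom_ext_closedPoint {X : Scheme.{u}} {R S : Type u} [CommRing R] [IsLocalRing R] [CommRing S]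
    (ι : R →+* S) (hι : Function.Injective ι) (h h' : Spec (CommRingCat.of R) ⟶ X)
    (he : Spec.map (CommRingCat.ofHom ι) ≫ h = Spec.map (CommRingCat.ofHom ι) ≫ h')
    (hc : h (IsLocalRing.closedPoint R) = h' (IsLocalRing.closedPoint R)) : h = h' := by
  obtain ⟨_, ⟨W, hW, rfl⟩, hcW, -⟩ :=
    X.isBasis_affineOpens.exists_subset_of_mem_open (Set.mem_univ (h (IsLocalRing.closedPoint R))) isOpen_univ
  obtain ⟨a, ha⟩ := exists_fac h hW hcW
  obtain ⟨b, hb⟩ := exists_fac h' hW (hc ▸ hcW)
  rw [← ha, ← hb] at he ⊢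
  rw [← Category.assoc, ← Category.assoc, cancel_mono, ← Spec.map_comp, ← Spec.map_comp] at he
  have he' := Spec.map_injective he
  have hab : a = b := CommRingCat.hom_ext (RingHom.ext fun x => hι (congr($(he') x)))
  rw [hab]

/-- Let f : Y → X be a morphism of schemes (not assumed separated), K a field with valuation rings R ⊆
R' (inclusion ι), i : Spec K → Y and φ : Spec R → X a commutative square over f, and g : Spec R' → Y
a lift of Spec R' → Spec R → X restricting to i on Spec K. Let K̃ be the residue field of R', R̃ ⊆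
K̃ the image of R (a valuation ring of K̃) with the surjection σ : R → R̃. Then every h̃ : Spec R̃ →
Y whose restriction to Spec K̃ is Spec K̃ → Spec R' → Y (via g) and which lies over Spec R̃ → Spec R
→ X is induced by a unique h : Spec R → Y compatible with the whole diagram: h restricts to i on
Spec K, lies over φ, restricts to g along Spec R' → Spec R and to h̃ along Spec R̃ → Spec R. (ι, R̃,
σ are given as data pinned by their defining equations.) -/
theorem result {X Y : Scheme.{u}} (f : Y ⟶ X)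
    (K : Type u) [Field K] (R R' : ValuationSubring K) (hRR' : R ≤ R')
    (ι : ↥R →+* ↥R') (hι : ∀ x : ↥R, ((ι x : ↥R') : K) = (x : K))
    (i : Spec (CommRingCat.of K) ⟶ Y) (φ : Spec (CommRingCat.of ↥R) ⟶ X)
    (w : Spec.map (CommRingCat.ofHom R.subtype) ≫ φ = i ≫ f)
    (g : Spec (CommRingCat.of ↥R') ⟶ Y) (hg₁ : Spec.map (CommRingCat.ofHom R'.subtype) ≫ g = i)
    (hg₂ : g ≫ f = Spec.map (CommRingCat.ofHom ι) ≫ φ)
    (Rt : ValuationSubring (IsLocalRing.ResidueField ↥R')) (σ : ↥R →+* ↥Rt) (hσs : Function.Surjective σ)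
    (hσ : ∀ x : ↥R, ((σ x : ↥Rt) : IsLocalRing.ResidueField ↥R') = IsLocalRing.residue ↥R' (ι x))
    (ht : Spec (CommRingCat.of ↥Rt) ⟶ Y)
    (hht₁ : Spec.map (CommRingCat.ofHom Rt.subtype) ≫ ht =
      Spec.map (CommRingCat.ofHom (IsLocalRing.residue ↥R')) ≫ g)
    (hht₂ : ht ≫ f = Spec.map (CommRingCat.ofHom σ) ≫ φ) :
    ∃! h : Spec (CommRingCat.of ↥R) ⟶ Y, Spec.map (CommRingCat.ofHom R.subtype) ≫ h = i ∧ h ≫ f = φ ∧
      Spec.map (CommRingCat.ofHom ι) ≫ h = g ∧ Spec.map (CommRingCat.ofHom σ) ≫ h = ht := by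
  have hιinj : Function.Injective ι := fun x y hxy => Subtype.ext (by rw [← hι x, ← hι y, hxy])
  -- `R` is the fibre product
  have hfib : ∀ x : ↥R', IsLocalRing.residue ↥R' x ∈ Rt → (x : K) ∈ R := by
    intro x hx
    obtain ⟨r, hr⟩ := hσs ⟨_, hx⟩
    have hr' : IsLocalRing.residue ↥R' (ι r) = IsLocalRing.residue ↥R' x := by
      rw [← hσ r, hr]
    have hm : x - ι r ∈ IsLocalRing.maximalIdeal ↥R' := by
      rw [← IsLocalRing.residue_eq_zero_iff, map_sub, hr', sub_self]
    have hd : ((x - ι r : ↥R') : K) ∈ R := by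
      rcases R.mem_or_inv_mem ((x - ι r : ↥R') : K) with h | h
      · exact h
      · by_cases h0 : ((x - ι r : ↥R') : K) = 0
        · rw [h0]; exact R.zero_mem
        · exact absurd ((isUnit_iff_exists_inv).2 ⟨⟨_, hRR' h⟩, Subtype.ext (mul_inv_cancel₀ h0)⟩) hm
    have hxe : (x : K) = ((x - ι r : ↥R') : K) + (r : K) := by
      rw [← hι r]; push_cast; ring
    rw [hxe]
    exact R.add_mem _ _ hd r.2
  haveI : IsLocalHom σ := hσs.isLocalHom _
  have hcl : Spec.map (CommRingCat.ofHom σ) (IsLocalRing.closedPoint ↥Rt) = IsLocalRing.closedPoint ↥R :=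
    IsLocalRing.comap_closedPoint σ
  obtain ⟨_, ⟨V, hV, rfl⟩, hcV, -⟩ :=
    Y.isBasis_affineOpens.exists_subset_of_mem_open (Set.mem_univ (ht (IsLocalRing.closedPoint ↥Rt))) isOpen_univ
  obtain ⟨b, hb⟩ := exists_fac ht hV hcV
  have hgc : g (IsLocalRing.closedPoint ↥R') ∈ V := by
    let q : Spec (CommRingCat.of (IsLocalRing.ResidueField ↥R')) := IsLocalRing.closedPoint _
    have e : ht (Spec.map (CommRingCat.ofHom Rt.subtype) q) =
        g (Spec.map (CommRingCat.ofHom (IsLocalRing.residue ↥R')) q) := congr($(hht₁) q)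
    have e' : Spec.map (CommRingCat.ofHom (IsLocalRing.residue ↥R')) q = IsLocalRing.closedPoint ↥R' :=
      IsLocalRing.comap_closedPoint (IsLocalRing.residue ↥R')
    rw [← e', ← e]
    exact ((IsLocalRing.specializes_closedPoint (Spec.map (CommRingCat.ofHom Rt.subtype) q)).map ht.continuous).mem_open V.2 hcV
  obtain ⟨a, ha⟩ := exists_fac g hV hgc
  have hab : ∀ z : Γ(Y, V), IsLocalRing.residue ↥R' (a z) = (b z : ↥Rt).1 := by
    have h := hht₁
    rw [← ha, ← hb, ← Category.assoc, ← Category.assoc, cancel_mono, ← Spec.map_comp, ← Spec.map_comp] at h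
    exact fun z => (congr($(Spec.map_injective h) z)).symm
  let c : Γ(Y, V) →+* ↥R := (R'.subtype.comp a.hom).codRestrict R.toSubring fun z =>
    hfib (a z) (by rw [hab]; exact (b z : ↥Rt).2)
  let h₀ : Spec (CommRingCat.of ↥R) ⟶ Y := Spec.map (CommRingCat.ofHom c) ≫ hV.fromSpec
  have hca : ∀ z, ι (c z) = a z := fun z => Subtype.ext (hι (c z))
  have hιh : Spec.map (CommRingCat.ofHom ι) ≫ h₀ = g := by
    rw [← ha, ← Category.assoc, ← Spec.map_comp]
    exact congrArg (fun t => Spec.map t ≫ hV.fromSpec) (CommRingCat.hom_ext (RingHom.ext hca))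
  have hσh : Spec.map (CommRingCat.ofHom σ) ≫ h₀ = ht := by
    rw [← hb, ← Category.assoc, ← Spec.map_comp]
    refine congrArg (fun t => Spec.map t ≫ hV.fromSpec) (CommRingCat.hom_ext (RingHom.ext fun z => Subtype.ext ?_))
    show (σ (c z) : IsLocalRing.ResidueField ↥R') = _
    rw [hσ, hca, hab]
  have hsub : CommRingCat.ofHom R.subtype = CommRingCat.ofHom ι ≫ CommRingCat.ofHom R'.subtype :=
    CommRingCat.hom_ext (RingHom.ext fun x => (hι x).symm)
  refine ⟨h₀, ⟨?_, ?_, hιh, hσh⟩, fun h' ⟨_, _, h3, h4⟩ => ?_⟩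
  · rw [hsub, Spec.map_comp, Category.assoc, hιh, hg₁]
  · refine hom_ext_closedPoint ι hιinj _ _ (by rw [reassoc_of% hιh, hg₂]) ?_
    rw [← hcl]
    exact congr($((Category.assoc _ _ _).symm.trans ((congrArg (· ≫ f) hσh).trans hht₂)) _)
  · refine hom_ext_closedPoint ι hιinj _ _ (h3.trans hιh.symm) ?_
    rw [← hcl]
    exact congr($(h4.trans hσh.symm) _)

end Groth.Agent.S17898
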