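import Groth.Statements.S17899
import Groth.Agent.H4RG.SemiVal
import Groth.Agent.S0406
-- import your own Groth.Agent.* helpers here

set_option autoImplicit false
universe u
open TensorProduct
open CAlg

namespace Groth.Agent.S17899

/-- Let A be a local ring with residue field K, R a valuation ring of K and O ⊆ A the preimage of R
under A → K (so O is a semi-valuation ring with semi-fraction ring A, S = Spec O is glued from U =
Spec A and T = Spec R). Let C be an O-algebra of finite type which is U-admissible (C → A ⊗_O C
injective) and such that A ⊗_O C is flat and of finite presentation over A. Then C is flat and of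
finite presentation over O. (The published assertion is more general: the base may be any
quasi-compact quasi-separated U-admissible scheme over Spec O, and the scheme over it any
quasi-compact quasi-separated admissible scheme. This row is the case of an affine scheme over Spec
O itself, the case in which the published proof carries out its argument.) -/
theorem result
    (A : Type u) [CommRing A] [IsLocalRing A] (R : ValuationSubring (IsLocalRing.ResidueField A))
    (O : Subring A) (hO : O = R.toSubring.comap (IsLocalRing.residue A))
    (C : Type u) [CommRing C] [Algebra ↥O C] [Algebra.FiniteType ↥O C]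
    (hadm : Function.Injective (Algebra.TensorProduct.includeRight : C →ₐ[↥O] A ⊗[↥O] C))
    (hflat : Module.Flat A (A ⊗[↥O] C)) (hfp : Algebra.FinitePresentation A (A ⊗[↥O] C)) :
    Module.Flat ↥O C ∧ Algebra.FinitePresentation ↥O C := by
  classical
  let m := IsLocalRing.maximalIdeal A
  let f : O →+* R.toSubring := (((IsLocalRing.residue A).comp O.subtype)).codRestrict R.toSubring fun x => by
    have := x.2
    simp only [hO, Subring.mem_comap] at this
    exact this
  have hmemO : ∀ a : A, IsLocalRing.residue A a ∈ R.toSubring → a ∈ O := fun a ha => by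
    simp only [hO, Subring.mem_comap]
    exact ha
  letI : Algebra O R.toSubring := f.toAlgebra
  haveI : ValuationRing R.toSubring := inferInstanceAs (ValuationRing R)
  have hsurj : Function.Surjective (algebraMap O R.toSubring) := by
    rintro ⟨r, hr⟩
    obtain ⟨a, rfl⟩ := IsLocalRing.residue_surjective r
    exact ⟨⟨a, hmemO a hr⟩, rfl⟩
  have hker : ∀ o : O, o ∈ RingHom.ker (algebraMap O R.toSubring) ↔ (o : A) ∈ m := fun o => by
    rw [RingHom.mem_ker, ← IsLocalRing.residue_eq_zero_iff, Subtype.ext_iff]
    rfl
  have hinj : Function.Injective (algebraMap O A) := Subtype.val_injective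
  haveI : (RingHom.ker (algebraMap O R.toSubring)).IsPrime := RingHom.ker_isPrime _
  let S := (RingHom.ker (algebraMap O R.toSubring)).primeCompl
  haveI : IsLocalization S A := by
    rw [isLocalization_iff]
    refine ⟨fun s => IsLocalRing.notMem_maximalIdeal.1 fun h => s.2 ((hker _).2 h), fun a => ?_,
      fun {x y} h => ⟨1, by rw [hinj h]⟩⟩
    by_cases ha : IsLocalRing.residue A a ∈ R.toSubring
    · exact ⟨⟨⟨a, hmemO a ha⟩, 1⟩, mul_one a⟩
    have hne : IsLocalRing.residue A a ≠ 0 := fun h => ha (h ▸ zero_mem _)
    obtain ⟨v, rfl⟩ : IsUnit a := (IsLocalRing.residue_ne_zero_iff_isUnit a).1 hne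
    have hv : IsLocalRing.residue A (↑v⁻¹ : A) ∈ R.toSubring := by
      rw [map_units_inv]
      exact (R.mem_or_inv_mem _).resolve_left ha
    refine ⟨⟨1, ⟨⟨(↑v⁻¹ : A), hmemO _ hv⟩, fun h => ?_⟩⟩, v.mul_inv⟩
    exact IsLocalRing.notMem_maximalIdeal.2 v⁻¹.isUnit ((hker _).1 h)
  have hm : ∀ a ∈ m, ∃ p ∈ RingHom.ker (algebraMap O R.toSubring), algebraMap O A p = a := fun a ha => by
    have haO : a ∈ O := hmemO a (by rw [(IsLocalRing.residue_eq_zero_iff a).2 ha]; exact zero_mem _)
    exact ⟨⟨a, haO⟩, (hker _).2 ha, rfl⟩
  have hm' : ∀ p ∈ RingHom.ker (algebraMap O R.toSubring), algebraMap O A p ∈ m := fun p hp => (hker p).1 hp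
  haveI := hflat
  haveI := hfp
  haveI := Groth.Agent.H4RG.SemiVal.flat_quotient hsurj hinj S (fun _ => Iff.rfl) m hm hm' hadm
  haveI : Algebra.FinitePresentation R.toSubring (R.toSubring ⊗[↥O] C) := Groth.Agent.S0406.result
  exact ⟨Groth.Agent.H4RG.SemiVal.flat hsurj hinj S (fun _ => Iff.rfl) m hm hm' hadm,
    Groth.Agent.H4RG.SemiVal.finitePresentation hsurj hinj S m hm hm' hadm⟩

end Groth.Agent.S17899
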