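import Groth.Statements.S17902
import Mathlib
-- import your own Groth.Agent.* helpers here

set_option autoImplicit false
universe u
open CAlg

namespace Groth.Agent.S17902

set_option linter.style.haveILetI false

variable {A M : Type u} [CommRing A] [AddCommGroup M] [Module A M] {n : ℕ}

noncomputable abbrev img (q : PrimeSpectrum A) (s : Fin n → M) (j : Fin n) : LocalizedModule q.asIdeal.primeCompl M :=
  LocalizedModule.mkLinearMap q.asIdeal.primeCompl M (s j)

theorem rank_at [Module.Finite A M] [Module.Projective A M] (p : PrimeSpectrum A) (g : A) (hg : g ∉ p.asIdeal)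
    (b : Module.Basis (Fin n) (Localization.Away g) (LocalizedModule (Submonoid.powers g) M)) :
    Module.rankAtStalk (R := A) M p = n := by
  obtain ⟨p', hp'⟩ : p ∈ Set.range (PrimeSpectrum.comap (algebraMap A (Localization.Away g))) := by
    rw [PrimeSpectrum.localization_away_comap_range (Localization.Away g) g]
    exact hg
  haveI : Nontrivial (Localization.Away g) := ⟨0, 1, fun h => p'.isPrime.ne_top ((Ideal.eq_top_iff_one _).2 (h ▸ p'.asIdeal.zero_mem))⟩
  haveI := Module.Free.of_basis b
  haveI : Module.Finite (Localization.Away g) (LocalizedModule (Submonoid.powers g) M) := Module.Finite.of_basis b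
  have h1 := Module.rankAtStalk_isBaseChange (R := A) (S := Localization.Away g)
    (f := LocalizedModule.mkLinearMap (Submonoid.powers g) M)
    (IsLocalizedModule.isBaseChange (Submonoid.powers g) (Localization.Away g) (LocalizedModule.mkLinearMap _ M)) p'
  rw [hp', Module.rankAtStalk_eq_finrank_of_free, Module.finrank_eq_card_basis b, Fintype.card_fin] at h1
  exact h1.symm

theorem good_at [Module.Finite A M] [Module.Projective A M] (q : PrimeSpectrum A) (s : Fin n → M)
    (hr : Module.rankAtStalk (R := A) M q = n) (hQ : q ∉ Module.support A (M ⧸ Submodule.span A (Set.range s))) :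
    LinearIndependent (Localization.AtPrime q.asIdeal) (img q s) ∧
      Submodule.span (Localization.AtPrime q.asIdeal) (Set.range (img q s)) = ⊤ := by
  have hspan : Submodule.span (Localization.AtPrime q.asIdeal) (Set.range (img q s)) = ⊤ := by
    rw [eq_top_iff]
    intro z _
    induction z using LocalizedModule.induction_on with
    | _ m u =>
      rw [Module.notMem_support_iff'] at hQ
      obtain ⟨r, hr, hr0⟩ := hQ (Submodule.Quotient.mk m)
      have hm : r • m ∈ Submodule.span A (Set.range s) := by
        rw [← Submodule.Quotient.mk_smul] at hr0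
        exact (Submodule.Quotient.mk_eq_zero _).1 hr0
      have h1 : LocalizedModule.mkLinearMap q.asIdeal.primeCompl M (r • m) ∈
          Submodule.span (Localization.AtPrime q.asIdeal) (Set.range (img q s)) := by
        refine Submodule.span_le_restrictScalars A _ _ ?_
        rw [show Set.range (img q s) = LocalizedModule.mkLinearMap q.asIdeal.primeCompl M '' Set.range s from
          Set.range_comp _ s, ← Submodule.map_span]
        exact Submodule.mem_map_of_mem hm
      have h2 : LocalizedModule.mk m u = (Localization.mk 1 (⟨r, hr⟩ * u) : Localization.AtPrime q.asIdeal) •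
          LocalizedModule.mkLinearMap q.asIdeal.primeCompl M (r • m) := by
        rw [LocalizedModule.mkLinearMap_apply, LocalizedModule.mk_smul_mk, one_smul, mul_one, LocalizedModule.mk_eq]
        exact ⟨1, by simp only [one_smul, Submonoid.smul_def, Submonoid.coe_mul, mul_smul, smul_comm r]⟩
      rw [h2]
      exact Submodule.smul_mem _ _ h1
  refine ⟨?_, hspan⟩
  let R := Localization.AtPrime q.asIdeal
  haveI : Module.Free R (LocalizedModule q.asIdeal.primeCompl M) := Module.free_of_flat_of_isLocalRing
  let e := (Module.Free.chooseBasis R (LocalizedModule q.asIdeal.primeCompl M)).reindex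
    (Fintype.equivFinOfCardEq ((Module.finrank_eq_card_chooseBasisIndex R _).symm.trans hr))
  let φ : (Fin n → R) →ₗ[R] LocalizedModule q.asIdeal.primeCompl M := Fintype.linearCombination R (img q s)
  have hφ : Function.Surjective φ := by
    rw [← LinearMap.range_eq_top, Fintype.range_linearCombination, hspan]
  have hinj : Function.Injective φ := by
    have := OrzechProperty.injective_of_surjective_endomorphism (e.equivFun.toLinearMap ∘ₗ φ) (e.equivFun.surjective.comp hφ)
    intro a b hab
    exact this (show e.equivFun (φ a) = e.equivFun (φ b) by rw [hab])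
  exact Fintype.linearIndependent_iff.2 fun c hc i => congrFun (hinj (hc.trans (map_zero φ).symm)) i

/-- Let A be a commutative ring, M a finitely generated projective A-module, n a natural number and P a
finite set of prime ideals of A such that for every p in P there is g outside p with M_g free of
rank n over A_g. Then there exist n elements of M and an open subset U of Spec A containing P such
that for every prime q in U the images of these elements in M_q form a basis of M_q over A_q. (The
published conclusion is that the associated sheaf is free of rank n on some open neighbourhood of P;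
the form given here, with n global elements of M, is what its proof produces.) -/
theorem result (A : Type u) [CommRing A] (M : Type u) [AddCommGroup M] [Module A M]
    [Module.Finite A M] [Module.Projective A M] (n : ℕ) (P : Finset (PrimeSpectrum A))
    (hP : ∀ p ∈ P, ∃ g : A, g ∉ p.asIdeal ∧
      Nonempty (Module.Basis (Fin n) (Localization.Away g) (LocalizedModule (Submonoid.powers g) M))) :
    ∃ (s : Fin n → M) (U : Set (PrimeSpectrum A)), IsOpen U ∧ (∀ p ∈ P, p ∈ U) ∧
      ∀ q ∈ U,
        LinearIndependent (Localization.AtPrime q.asIdeal)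
            (fun j => LocalizedModule.mkLinearMap q.asIdeal.primeCompl M (s j)) ∧
          Submodule.span (Localization.AtPrime q.asIdeal)
            (Set.range fun j => LocalizedModule.mkLinearMap q.asIdeal.primeCompl M (s j)) = ⊤ := by
  classical
  have hrank : ∀ p ∈ P, Module.rankAtStalk (R := A) M p = n := fun p hp => by
    obtain ⟨g, hg, ⟨b⟩⟩ := hP p hp
    exact rank_at p g hg b
  let T := P.filter fun p => Maximal (· ∈ P) p
  have hc : ∀ p ∈ T, ∃ c : A, c ∉ p.asIdeal ∧ ∀ q ∈ T, q ≠ p → c ∈ q.asIdeal := by
    intro p hp
    have h : ∀ q ∈ T, q ≠ p → ∃ c ∈ q.asIdeal, c ∉ p.asIdeal := fun q hq hne =>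
      SetLike.not_le_iff_exists.1 fun hle => hne
        (((Finset.mem_filter.1 hq).2).eq_of_le (Finset.mem_filter.1 hp).1 hle)
    choose c hc1 hc2 using h
    refine ⟨∏ q ∈ (T.erase p).attach, c q.1 (Finset.mem_of_mem_erase q.2) (Finset.ne_of_mem_erase q.2), ?_, fun q hq hne => ?_⟩
    · exact fun hmem => by
        obtain ⟨q, -, hq⟩ := (p.isPrime.prod_mem_iff).1 hmem
        exact hc2 _ _ _ hq
    · exact Ideal.prod_mem _ (Finset.mem_attach _ ⟨q, Finset.mem_erase.2 ⟨hne, hq⟩⟩) (hc1 q hq hne)
  choose c hc1 hc2 using hc
  have ht : ∀ p ∈ P, ∃ t : Fin n → M, Submodule.span (Localization.AtPrime p.asIdeal) (Set.range (img p t)) = ⊤ := by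
    intro p hp
    haveI : Module.Free (Localization.AtPrime p.asIdeal) (LocalizedModule p.asIdeal.primeCompl M) :=
      Module.free_of_flat_of_isLocalRing
    let e := (Module.Free.chooseBasis (Localization.AtPrime p.asIdeal) (LocalizedModule p.asIdeal.primeCompl M)).reindex
      (Fintype.equivFinOfCardEq ((Module.finrank_eq_card_chooseBasisIndex _ _).symm.trans (hrank p hp)))
    have : ∀ j, ∃ (m : M) (u : p.asIdeal.primeCompl), e j = LocalizedModule.mk m u := fun j => by
      induction e j using LocalizedModule.induction_on with | _ m u => exact ⟨m, u, rfl⟩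
    choose m u hmu using this
    refine ⟨m, eq_top_iff.2 (e.span_eq ▸ Submodule.span_le.2 ?_)⟩
    rintro _ ⟨j, rfl⟩
    have h2 : e j = (Localization.mk 1 (u j) : Localization.AtPrime p.asIdeal) • img p m j := by
      rw [hmu, img, LocalizedModule.mkLinearMap_apply, LocalizedModule.mk_smul_mk, one_smul, mul_one]
    rw [SetLike.mem_coe, h2]
    exact Submodule.smul_mem _ _ (Submodule.subset_span ⟨j, rfl⟩)
  choose t ht using ht
  let s : Fin n → M := fun j => ∑ q ∈ T.attach, c q.1 q.2 • t q.1 (Finset.mem_filter.1 q.2).1 j
  refine ⟨s, (Module.support A (M ⧸ Submodule.span A (Set.range s)))ᶜ ∩ {q | Module.rankAtStalk (R := A) M q = n},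
    (Module.isClosed_support).isOpen_compl.inter ?_, ?_, fun q hq => good_at q s hq.2 hq.1⟩
  · haveI := Module.finitePresentation_of_projective A M
    exact (Module.isLocallyConstant_rankAtStalk).isOpen_fiber n
  · intro p₀ hp₀
    refine ⟨?_, hrank p₀ hp₀⟩
    obtain ⟨p, hle, hmax⟩ := P.finite_toSet.exists_le_maximal hp₀
    have hpT : p ∈ T := Finset.mem_filter.2 ⟨hmax.1, hmax⟩
    intro hsupp
    refine Set.mem_setOf.1 (Module.mem_support_mono hle hsupp) |> fun h => ?_
    revert h
    rw [imp_false, not_nontrivial_iff_subsingleton]
    set R := Localization.AtPrime p.asIdeal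
    set L := LocalizedModule p.asIdeal.primeCompl M
    have hsp : Submodule.span R (Set.range (img p s)) = ⊤ := by
      rw [eq_top_iff]
      refine Submodule.le_of_le_smul_of_le_jacobson_bot Module.Finite.fg_top
        (IsLocalRing.maximalIdeal_le_jacobson _) ?_
      refine (ht p hmax.1).ge.trans (Submodule.span_le.2 ?_)
      rintro _ ⟨j, rfl⟩
      have hu : IsUnit (algebraMap A R (c p hpT)) :=
        IsLocalization.map_units R (⟨_, hc1 p hpT⟩ : p.asIdeal.primeCompl)
      rw [SetLike.mem_coe, ← Submodule.smul_mem_iff_of_isUnit _ hu, algebraMap_smul]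
      rw [show c p hpT • img p (t p hmax.1) j = img p s j -
          ∑ q ∈ T.attach.erase ⟨p, hpT⟩, algebraMap A R (c q.1 q.2) • img p (t q.1 (Finset.mem_filter.1 q.2).1) j by
        simp only [img, algebraMap_smul, ← map_smul, ← map_sum, ← map_sub, s]
        rw [← Finset.add_sum_erase _ _ (Finset.mem_attach T ⟨p, hpT⟩), add_sub_cancel_right]]
      refine Submodule.sub_mem _ (Submodule.mem_sup_left (Submodule.subset_span ⟨j, rfl⟩)) (Submodule.sum_mem _ fun q hq => ?_)
      refine Submodule.mem_sup_right (Submodule.smul_mem_smul ?_ Submodule.mem_top)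
      rw [IsLocalRing.mem_maximalIdeal, mem_nonunits_iff, IsLocalization.AtPrime.isUnit_to_map_iff R p.asIdeal]
      exact fun h => h (hc2 q.1 q.2 p hpT fun e => (Finset.ne_of_mem_erase hq) (Subtype.ext e.symm))
    refine subsingleton_of_forall_eq 0 fun z => ?_
    obtain ⟨w, rfl⟩ := LocalizedModule.map_surjective p.asIdeal.primeCompl (Submodule.mkQ (Submodule.span A (Set.range s)))
      (Submodule.mkQ_surjective _) z
    have hw : w ∈ Submodule.span R (Set.range (img p s)) := hsp ▸ Submodule.mem_top
    induction hw using Submodule.span_induction with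
    | mem w hw =>
      obtain ⟨j, rfl⟩ := hw
      rw [img, LocalizedModule.mkLinearMap_apply, LocalizedModule.map_mk,
        show Submodule.mkQ (Submodule.span A (Set.range s)) (s j) = 0 from
          (Submodule.Quotient.mk_eq_zero _).2 (Submodule.subset_span ⟨j, rfl⟩), LocalizedModule.zero_mk]
    | zero => exact map_zero _
    | add a b _ _ ha hb => rw [map_add, ha, hb, add_zero]
    | smul r a _ ha => rw [map_smul, ha, smul_zero]

end Groth.Agent.S17902
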