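import Groth.Statements.S17904
import Groth.Agent.PinchPO.ToRS
import Mathlib
-- import your own Groth.Agent.* helpers here

set_option autoImplicit false
universe u
open CategoryTheory AlgebraicGeometry
open Pinch

set_option backward.isDefEq.respectTransparency false
attribute [-instance] CategoryTheory.catToReflQuiver

namespace Groth.Agent.S17904

/-- Let S be a scheme and Z → X, Z → Z', X → X', Z' → X' a commutative square of S-schemes in which Z →
X and Z' → X' are closed immersions and Z → Z' and X → X' are affine, which is a pushout square in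
the category of ringed spaces, with X, Z and Z' flat over S. Then for every morphism T → S the
square of base changes Z_T → X_T, Z_T → Z'_T, X_T → X'_T, Z'_T → X'_T is a pushout square in the
category of ringed spaces. -/
theorem result {S X Z Z' X' : Scheme.{u}}
    (fX : X ⟶ S) (fZ' : Z' ⟶ S) (fX' : X' ⟶ S) (ι : Z ⟶ X) (q : Z ⟶ Z') (π : X ⟶ X') (ι' : Z' ⟶ X')
    [IsClosedImmersion ι] [IsClosedImmersion ι'] [IsAffineHom q] [IsAffineHom π]
    (hq : q ≫ fZ' = ι ≫ fX) (hπ : π ≫ fX' = fX) (hι' : ι' ≫ fX' = fZ')
    (hpo : IsPushout ((Scheme.forgetToLocallyRingedSpace ⋙ LocallyRingedSpace.forgetToSheafedSpace).map ι) ((Scheme.forgetToLocallyRingedSpace ⋙ LocallyRingedSpace.forgetToSheafedSpace).map q)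
      ((Scheme.forgetToLocallyRingedSpace ⋙ LocallyRingedSpace.forgetToSheafedSpace).map π) ((Scheme.forgetToLocallyRingedSpace ⋙ LocallyRingedSpace.forgetToSheafedSpace).map ι'))
    [Flat fX] [Flat (ι ≫ fX)] [Flat fZ']
    {T : Scheme.{u}} (g : T ⟶ S) :
    IsPushout
      ((Scheme.forgetToLocallyRingedSpace ⋙ LocallyRingedSpace.forgetToSheafedSpace).map
        ((Over.pullback g).map (Over.homMk ι rfl : Over.mk (ι ≫ fX) ⟶ Over.mk fX)).left)
      ((Scheme.forgetToLocallyRingedSpace ⋙ LocallyRingedSpace.forgetToSheafedSpace).map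
        ((Over.pullback g).map (Over.homMk q hq : Over.mk (ι ≫ fX) ⟶ Over.mk fZ')).left)
      ((Scheme.forgetToLocallyRingedSpace ⋙ LocallyRingedSpace.forgetToSheafedSpace).map
        ((Over.pullback g).map (Over.homMk π hπ : Over.mk fX ⟶ Over.mk fX')).left)
      ((Scheme.forgetToLocallyRingedSpace ⋙ LocallyRingedSpace.forgetToSheafedSpace).map
        ((Over.pullback g).map (Over.homMk ι' hι' : Over.mk fZ' ⟶ Over.mk fX')).left) := by
  have h := Groth.Agent.PinchPO.isPushout_of_ringedSpace hpo
  have hY : ∀ y : Z', ∃ c : RingPO.Chart ι q, y ∈ c.V := RingPO.chart_of_affineHom h.w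
  let iT := ((Over.pullback g).map (Over.homMk ι rfl : Over.mk (ι ≫ fX) ⟶ Over.mk fX)).left
  let jT := ((Over.pullback g).map (Over.homMk q hq : Over.mk (ι ≫ fX) ⟶ Over.mk fZ')).left
  let aT := ((Over.pullback g).map (Over.homMk π hπ : Over.mk fX ⟶ Over.mk fX')).left
  let bT := ((Over.pullback g).map (Over.homMk ι' hι' : Over.mk fZ' ⟶ Over.mk fX')).left
  have sA : IsPullback (Limits.pullback.fst fX g) aT π (Limits.pullback.fst fX' g) :=
    RingPO.isPullback_map_square hπ g (Limits.pullback.lift_fst _ _ _) (Limits.pullback.lift_snd _ _ _)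
  have sB : IsPullback (Limits.pullback.fst fZ' g) bT ι' (Limits.pullback.fst fX' g) :=
    RingPO.isPullback_map_square hι' g (Limits.pullback.lift_fst _ _ _) (Limits.pullback.lift_snd _ _ _)
  have sI : IsPullback (Limits.pullback.fst (ι ≫ fX) g) iT ι (Limits.pullback.fst fX g) :=
    RingPO.isPullback_map_square rfl g (Limits.pullback.lift_fst _ _ _) (Limits.pullback.lift_snd _ _ _)
  haveI : IsAffineHom aT := MorphismProperty.of_isPullback (P := @IsAffineHom) sA inferInstance
  haveI : IsClosedImmersion bT := MorphismProperty.of_isPullback (P := @IsClosedImmersion) sB inferInstance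
  haveI : IsClosedImmersion iT := MorphismProperty.of_isPullback (P := @IsClosedImmersion) sI inferInstance
  have hfl : Flat ((ι ≫ π) ≫ fX') := by rw [Category.assoc, hπ]; infer_instance
  have hw2 : iT ≫ aT = jT ≫ bT := by
    rw [← Over.comp_left, ← Over.comp_left, ← Functor.map_comp, ← Functor.map_comp]
    congr 2
    ext
    exact h.w
  exact Groth.Agent.PinchPO.isPushout_ringedSpace (RingPO.isPushout_baseChange h hY fX' g (Or.inl hfl)
    (IsPullback.of_hasPullback fX' g) sA sB sI (Limits.pullback.lift_fst _ _ _) hw2)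


end Groth.Agent.S17904
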