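import Groth.Statements.S17905
import Groth.Agent.PinchPO.ToRS
import Groth.Agent.H23.GeomConnGamma
import Mathlib
-- import your own Groth.Agent.* helpers here

set_option autoImplicit false
universe u
open CategoryTheory AlgebraicGeometry
open Pinch

set_option backward.isDefEq.respectTransparency false
attribute [-instance] CategoryTheory.catToReflQuiver

namespace Groth.Agent.S17905

/-- Let S be a scheme and Z → X, Z → Z', X → X', Z' → X' a commutative square of S-schemes which is a
pushout square in the category of ringed spaces, with Z → X and Z' → X' closed immersions, X → X'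
affine, Z → Z' finite, flat and surjective, and X, Z, Z' flat over S. Suppose that for every T → S
the map O_T → (f_T)_* O_{X_T} induced by the base change f_T : X_T → T of X → S is an isomorphism.
Then for every T → S the map O_T → (f'_T)_* O_{X'_T} induced by the base change of X' → S is an
isomorphism. (The published lemma is stated for the pinching of a finite surjective Z → Z' whose
fibres lie in affine opens of X, with X → S admitting a section; this row assumes X → X' only affine
and drops the affine-fibre and section conditions, which the printed proof does not use.) -/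
theorem result {S X Z Z' X' : Scheme.{u}}
    (fX : X ⟶ S) (fZ' : Z' ⟶ S) (fX' : X' ⟶ S) (ι : Z ⟶ X) (q : Z ⟶ Z') (π : X ⟶ X') (ι' : Z' ⟶ X')
    [IsClosedImmersion ι] [IsClosedImmersion ι'] [IsFinite q] [Flat q] [Surjective q] [IsAffineHom π]
    (hq : q ≫ fZ' = ι ≫ fX) (hπ : π ≫ fX' = fX) (hι' : ι' ≫ fX' = fZ')
    (hpo : IsPushout ((Scheme.forgetToLocallyRingedSpace ⋙ LocallyRingedSpace.forgetToSheafedSpace).map ι) ((Scheme.forgetToLocallyRingedSpace ⋙ LocallyRingedSpace.forgetToSheafedSpace).map q)
      ((Scheme.forgetToLocallyRingedSpace ⋙ LocallyRingedSpace.forgetToSheafedSpace).map π) ((Scheme.forgetToLocallyRingedSpace ⋙ LocallyRingedSpace.forgetToSheafedSpace).map ι'))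
    [Flat fX] [Flat (ι ≫ fX)] [Flat fZ']
    (hX : ∀ (T : Scheme.{u}) (g : T ⟶ S) (U : T.Opens), IsIso ((Limits.pullback.snd fX g).app U))
    (T : Scheme.{u}) (g : T ⟶ S) (U : T.Opens) :
    IsIso ((Limits.pullback.snd fX' g).app U) := by
  have h := Groth.Agent.PinchPO.isPushout_of_ringedSpace hpo
  have hY : ∀ y : Z', ∃ c : RingPO.Chart ι q, y ∈ c.V := RingPO.chart_of_affineHom h.w
  let iT := ((Over.pullback g).map (Over.homMk ι rfl : Over.mk (ι ≫ fX) ⟶ Over.mk fX)).left
  let jT := ((Over.pullback g).map (Over.homMk q hq : Over.mk (ι ≫ fX) ⟶ Over.mk fZ')).left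
  let aT := ((Over.pullback g).map (Over.homMk π hπ : Over.mk fX ⟶ Over.mk fX')).left
  let bT := ((Over.pullback g).map (Over.homMk ι' hι' : Over.mk fZ' ⟶ Over.mk fX')).left
  have sA : IsPullback (Limits.pullback.fst fX g) aT π (Limits.pullback.fst fX' g) :=
    RingPO.isPullback_map_square hπ g (Limits.pullback.lift_fst _ _ _) (Limits.pullback.lift_snd _ _ _)
  have sB : IsPullback (Limits.pullback.fst fZ' g) bT ι' (Limits.pullback.fst fX' g) :=
    RingPO.isPullback_map_square hι' g (Limits.pullback.lift_fst _ _ _) (Limits.pullback.lift_snd _ _ _)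
  have sI : IsPullback (Limits.pullback.fst (ι ≫ fX) g) iT ι (Limits.pullback.fst fX g) :=
    RingPO.isPullback_map_square rfl g (Limits.pullback.lift_fst _ _ _) (Limits.pullback.lift_snd _ _ _)
  have sQ : IsPullback (Limits.pullback.fst (ι ≫ fX) g) jT q (Limits.pullback.fst fZ' g) :=
    RingPO.isPullback_map_square hq g (Limits.pullback.lift_fst _ _ _) (Limits.pullback.lift_snd _ _ _)
  haveI : IsAffineHom aT := MorphismProperty.of_isPullback (P := @IsAffineHom) sA inferInstance
  haveI : IsClosedImmersion bT := MorphismProperty.of_isPullback (P := @IsClosedImmersion) sB inferInstance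
  haveI : IsClosedImmersion iT := MorphismProperty.of_isPullback (P := @IsClosedImmersion) sI inferInstance
  haveI : IsAffineHom jT := MorphismProperty.of_isPullback (P := @IsAffineHom) sQ inferInstance
  haveI : Flat jT := MorphismProperty.of_isPullback (P := @Flat) sQ inferInstance
  haveI : Surjective jT := MorphismProperty.of_isPullback (P := @Surjective) sQ inferInstance
  have hfl : Flat ((ι ≫ π) ≫ fX') := by rw [Category.assoc, hπ]; infer_instance
  have hw2 : iT ≫ aT = jT ≫ bT := by
    rw [← Over.comp_left, ← Over.comp_left, ← Functor.map_comp, ← Functor.map_comp]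
    congr 2
    ext
    exact h.w
  have hPO : IsPushout iT jT aT bT := RingPO.isPushout_baseChange h hY fX' g (Or.inl hfl)
    (IsPullback.of_hasPullback fX' g) sA sB sI (Limits.pullback.lift_fst _ _ _) hw2
  have e : aT ≫ Limits.pullback.snd fX' g = Limits.pullback.snd fX g := Limits.pullback.lift_snd _ _ _
  haveI hX' : IsIso ((aT ≫ Limits.pullback.snd fX' g).app U) := by rw [e]; exact hX T g U
  have hb := ConcreteCategory.bijective_of_isIso ((aT ≫ Limits.pullback.snd fX' g).app U)
  rw [Scheme.Hom.comp_app] at hb
  rw [ConcreteCategory.isIso_iff_bijective]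
  refine ⟨fun t t' htt => hb.1 (congrArg (aT.app _) htt), fun s => ?_⟩
  obtain ⟨t, ht⟩ := hb.2 (aT.app _ s)
  have ha : aT.app _ ((Limits.pullback.snd fX' g).app U t) = aT.app _ s := ht
  refine ⟨t, PinchPO.sections_ext hPO _ _ ha ?_⟩
  apply H23.GeomConnGamma.app_injective jT
  show (jT ≫ bT).app _ ((Limits.pullback.snd fX' g).app U t) = (jT ≫ bT).app _ s
  rw [Scheme.Hom.congr_app hw2.symm]
  simp only [Scheme.Hom.comp_app, CommRingCat.comp_apply]
  rw [ha]


end Groth.Agent.S17905
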