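import Groth.Statements.S17917
import Groth.Agent.Deform.RefChK.Powers


set_option autoImplicit false
set_option maxHeartbeats 2000000
set_option backward.isDefEq.respectTransparency false
set_option backward.isDefEq.respectTransparency.types false
universe u
open CategoryTheory CategoryTheory.Limits AlgebraicGeometry
open RefCh
open Groth.Agent Groth.Agent.Deform

namespace Groth.Agent.S17917

/-- Let k be an algebraically closed field, X an integral normal scheme of dimension s + 2 admitting a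
closed immersion into some P^N_k over k, and L_1, …, L_s invertible O_X-modules with inverses M_1,
…, M_s. Let ℒ_1 be a coherent reflexive O_X-module of rank one (ℒ_1 = O_X(D_1) for a Weil divisor
D_1, with dual ℒ_1^∨ = O_X(-D_1)) and ℒ_2 an invertible O_X-module (a Cartier divisor D_2) with
inverse 𝓜_2. With q(ℱ) the limit of 2 χ(c_1(L_1) ⋯ c_1(L_s) · [ℱ^[m]]) / m^2 (reflexive powers,
FGA.intNum in the M_i), assumed to exist for ℒ_1, ℒ_2 and the reflexive hull ℒ_1 ⊗̂ ℒ_2 of ℒ_1 ⊗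
ℒ_2, one has (q(ℒ_1 ⊗̂ ℒ_2) - q(ℒ_1) - q(ℒ_2)) / 2 = χ(c_1(ℒ_2) c_1(L_1) ⋯ c_1(L_s) · ([O_X] -
[ℒ_1^∨])), the right side written as the difference of the alternating sums FGA.intNum in (𝓜_2, M_1,
…, M_s) of O_X and of ℒ_1^∨; that is, D_1 · D_2 · L_1 ⋯ L_s equals the usual intersection number of
the Cartier divisor D_2 and the L_i with the cycle of D_1. (The published text normalises D^2 · L_1
⋯ L_s as twice the limit of χ(c_1(L_1) ⋯ c_1(L_s) · ([O_X] - [O_X(-mD)])) / m^2, the negative of the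
number used here, and with that sign the identity fails for two lines on the projective plane, where
it would read -1 = 1.) -/
theorem result (k : Type u) [Field k] [IsAlgClosed k] (X : Scheme.{u}) [X.Over (Spec (CommRingCat.of k))]
    [AlgebraicGeometry.IsIntegral X] (hnorm : Pi1.IsNormalScheme X) (s : ℕ) (hdim : topologicalKrullDim X = (s + 2 : ℕ))
    (hproj : ∃ (N : ℕ) (ι : X ⟶ CohB1.ProjSpace N k), IsClosedImmersion ι ∧ ι ≫ CohB1.ProjSpace.toSpec N k = X ↘ Spec (CommRingCat.of k))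
    (L M : Fin s → X.Modules) (hL : ∀ i, PicF.IsInvertible (L i))
    (hLM : ∀ i, Nonempty (CohB1.tensorMod (L i) (M i) ≅ Coh.structureModule X))
    (ℒ₁ ℒ₂ 𝓜₂ : X.Modules) (h₁ : RefHull.IsRef1 ℒ₁) (h₂ : PicF.IsInvertible ℒ₂)
    (h₂' : Nonempty (CohB1.tensorMod ℒ₂ 𝓜₂ ≅ Coh.structureModule X))
    (q₁ q₂ q₁₂ : ℝ)
    (hq₁ : Filter.Tendsto (fun m : ℕ => (2 : ℝ) * (FGA.intNum k X (s + 2) M (RefPow.refPow ℒ₁ m) : ℝ) / ((m : ℝ) ^ 2)) Filter.atTop (nhds q₁))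
    (hq₂ : Filter.Tendsto (fun m : ℕ => (2 : ℝ) * (FGA.intNum k X (s + 2) M (RefPow.refPow ℒ₂ m) : ℝ) / ((m : ℝ) ^ 2)) Filter.atTop (nhds q₂))
    (hq₁₂ : Filter.Tendsto (fun m : ℕ => (2 : ℝ) * (FGA.intNum k X (s + 2) M (RefPow.refPow (RefPow.refTensor ℒ₁ ℒ₂) m) : ℝ) / ((m : ℝ) ^ 2)) Filter.atTop (nhds q₁₂)) :
    (q₁₂ - q₁ - q₂) / 2 =
      ((FGA.intNum k X (s + 2) (Fin.cons 𝓜₂ M) (Coh.structureModule X) -
        FGA.intNum k X (s + 2) (Fin.cons 𝓜₂ M) (RefHull.dual ℒ₁) : ℤ) : ℝ) := by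
  haveI := RefChK.isProper_of_proj k hproj
  obtain ⟨δ, hδ, hδη⟩ := RefChK.exists_delta k (X := X) hdim
  haveI := hδ.1
  have hd := hδ.2.2
  have h0 := RefChK.nonneg hd (N := s + 2) hdim.le hδη.ge
  obtain ⟨χ, hχ⟩ := RefChK.exists_chiHom k (δ := δ) (n := ((s + 2 : ℕ) : ℤ)) (d := s + 2) hdim.le
  have hM : ∀ i, PicF.IsInvertible (M i) := fun i => RefChK.isInvertible_of_inverse (hL i) (hLM i)
  have hB := RefChK.isInvertible_of_inverse h₂ h₂'
  let q : Fin s → RefChK.invCl X := fun i => RefChK.mk (M i) (hM i)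
  let a := RefChK.mk ℒ₂ h₂
  let b := RefChK.mk 𝓜₂ hB
  have hab : MonoidAlgebra.of ℤ (RefChK.invCl X) a * MonoidAlgebra.of ℤ (RefChK.invCl X) b = 1 := by
    rw [← map_mul, show a * b = 1 from Subtype.ext (H23.PicMul.cl_eq_iff.2 h₂'), map_one]
  let P := ∏ i, RefChK.D (q i)
  let e : ℕ → X.Modules → ℤ := fun j F =>
    χ (RefChK.act δ _ (RefChK.D b ^ j * P) (H9ChowK.cls δ _ F))
  have hℒ₂ := Div21Lib.isRef1_of_invertible h₂
  have hc : ∀ {F : X.Modules}, RefHull.IsRef1 F → Cyc.CohLe δ ((s + 2 : ℕ) : ℤ) F := fun hF =>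
    RefChK.cohLe_top hd hδη hF.1
  have i0 : ∀ {F : X.Modules}, RefHull.IsRef1 F → FGA.intNum k X (s + 2) M F = e 0 F := fun hF => by
    rw [RefChK.intNum_eq k hχ M hM (hc hF)]
    simp only [e, pow_zero, _root_.one_mul, P, q]
  have i1 : ∀ {F : X.Modules}, RefHull.IsRef1 F → FGA.intNum k X (s + 2) (Fin.cons 𝓜₂ M) F = e 1 F := fun hF => by
    rw [RefChK.intNum_eq k hχ (Fin.cons 𝓜₂ M) (Fin.cases hB hM) (hc hF), Fin.prod_univ_succ]
    simp only [e, pow_one, P, q, b, Fin.cons_zero, Fin.cons_succ]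
  have aff1 : ∀ {F : X.Modules}, RefHull.IsRef1 F → ∀ m : ℕ,
      e 1 (RefPow.refPow F m) = e 1 (Coh.structureModule X) + (m : ℤ) * (e 1 F - e 1 (Coh.structureModule X)) := fun {F} hF m => by
    have h := congrArg χ (RefChK.act_refPow hnorm hd hδη h0 (Fin.cons b q) (by omega) (by omega) hF m)
    simp only [Fin.prod_univ_succ, Fin.cons_zero, Fin.cons_succ, map_add, map_zsmul, map_sub, smul_eq_mul] at h
    simpa only [e, pow_one] using h
  have con2 : ∀ {F : X.Modules}, RefHull.IsRef1 F → e 2 F = e 2 (Coh.structureModule X) := fun {F} hF => by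
    have h := RefChK.act_prod_mem hd (Finset.univ : Finset (Fin (s + 2))) (Fin.cons b (Fin.cons b q))
      (m := ((s + 2 : ℕ) : ℤ) - 1) (by omega) (RefChK.unit_sub_mem hd hδη hF)
    rw [RefChK.G_eq_bot h0 (by simp), AddSubgroup.mem_bot, map_sub, sub_eq_zero] at h
    simp only [Fin.prod_univ_succ, Fin.cons_zero, Fin.cons_succ] at h
    rw [← _root_.mul_assoc, ← pow_two] at h
    exact congrArg χ h.symm
  have kill : ∀ (R : MonoidAlgebra ℤ (RefChK.invCl X)) {F : X.Modules}, RefHull.IsRef1 F →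
      χ (RefChK.act δ _ (RefChK.D b ^ 3 * P * R) (H9ChowK.cls δ ((s + 2 : ℕ) : ℤ) F)) = 0 := fun R F hF => by
    have h := RefChK.act_prod_mem hd (Finset.univ : Finset (Fin (s + 3))) (Fin.cons b (Fin.cons b (Fin.cons b q)))
      (le_refl _) (RefChK.cls_mem (hc hF))
    rw [RefChK.G_eq_bot h0 (by simp), AddSubgroup.mem_bot] at h
    simp only [Fin.prod_univ_succ, Fin.cons_zero, Fin.cons_succ] at h
    rw [mul_comm, map_mul, show RefChK.D b ^ 3 * P = RefChK.D b * (RefChK.D b * (RefChK.D b * P)) by ring]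
    show χ (RefChK.act δ _ R (RefChK.act δ _ _ _)) = 0
    rw [h, map_zero, map_zero]
  have tw : ∀ {F S : X.Modules}, RefHull.IsRef1 F → ∀ m : ℕ,
      H9ChowK.cls δ _ S = RefChK.act δ ((s + 2 : ℕ) : ℤ) (MonoidAlgebra.of ℤ (RefChK.invCl X) a ^ m) (H9ChowK.cls δ _ F) →
      e 0 S = e 0 F + (m : ℤ) * e 1 F + (((m + 1).choose 2 : ℕ) : ℤ) * e 2 F := fun {F S} hF m hS => by
    obtain ⟨R, hR⟩ := RefChK.pow_expand hab m
    have e3 := kill R hF
    have he : RefChK.D b ^ 0 * P * MonoidAlgebra.of ℤ (RefChK.invCl X) a ^ m = RefChK.D b ^ 0 * P + m • (RefChK.D b ^ 1 * P)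
        + ((m + 1).choose 2) • (RefChK.D b ^ 2 * P) + RefChK.D b ^ 3 * P * R := by
      rw [hR, nsmul_eq_mul, nsmul_eq_mul]
      simp only [RefChK.D]
      ring
    show χ (RefChK.act δ _ (RefChK.D b ^ 0 * P) (H9ChowK.cls δ _ S)) = _
    rw [hS]
    show χ ((RefChK.act δ ((s + 2 : ℕ) : ℤ) (RefChK.D b ^ 0 * P) * RefChK.act δ ((s + 2 : ℕ) : ℤ) (MonoidAlgebra.of ℤ (RefChK.invCl X) a ^ m))
      (H9ChowK.cls δ _ F)) = _
    rw [← map_mul, he, map_add, map_add, map_add, map_nsmul, map_nsmul]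
    show χ (_ + m • _ + ((m + 1).choose 2) • _ + _) = _
    rw [map_add, map_add, map_add, map_nsmul, map_nsmul, e3, add_zero, nsmul_eq_mul, nsmul_eq_mul]
  obtain ⟨s₁, hs₁⟩ := Ref1X.exists_ne_zero h₁.2.2
  obtain ⟨s₂, hs₂⟩ := Ref1X.exists_ne_zero hℒ₂.2.2
  have h₁₂ := Ref1X.isRef1_refTensor h₁ hℒ₂
  obtain ⟨w, hw, hword⟩ := Ref1X.exists_ord_refTensor hnorm h₁ hℒ₂ hs₁ hs₂
  have hO : RefX.unitStalk (genericPoint X) 1 ≠ 0 := fun hz =>
    one_ne_zero (α := X.functionField) ((RefX.unitStalk (genericPoint X)).injective (hz.trans (map_zero _).symm))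
  have diff : ∀ m : ℕ, e 0 (RefPow.refPow (RefPow.refTensor ℒ₁ ℒ₂) m) - e 0 (RefPow.refPow ℒ₁ m) - e 0 (RefPow.refPow ℒ₂ m) =
      (m : ℤ) ^ 2 * (e 1 ℒ₁ - e 1 (Coh.structureModule X)) - e 0 (Coh.structureModule X) := fun m => by
    obtain ⟨p₁, hp₁, op₁⟩ := RefChK.exists_ord_refPow hnorm h₁ hs₁ m
    obtain ⟨p₂, hp₂, op₂⟩ := RefChK.exists_ord_refPow hnorm hℒ₂ hs₂ m
    obtain ⟨p₁₂, hp₁₂, op₁₂⟩ := RefChK.exists_ord_refPow hnorm h₁₂ hw m
    obtain ⟨S, v, hS, hv, hvord, hScls⟩ := RefChK.exists_iterate hnorm hd hδη h0 (Ref1X.isRef1_refPow h₁ m) h₂ hp₁ hs₂ m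
    obtain ⟨T, u, hT, hu, huord, hTcls⟩ := RefChK.exists_iterate hnorm hd hδη h0 (Ref1X.isRef1_unit (X := X)) h₂ hO hs₂ m
    obtain ⟨j₁⟩ := Ref1X.iso_of_ord hnorm (Ref1X.isRef1_refPow h₁₂ m) hS hp₁₂ hv fun x hx => by
      rw [op₁₂ x hx, hword x hx, hvord x hx, op₁ x hx]; ring
    obtain ⟨j₂⟩ := Ref1X.iso_of_ord hnorm (Ref1X.isRef1_refPow hℒ₂ m) hT hp₂ hu fun x hx => by
      rw [op₂ x hx, huord x hx, Ref1X.ordF_unit hx, zero_add]
    have e₁ := tw (Ref1X.isRef1_refPow h₁ m) m ((H9ChowK.cls_iso j₁ (hc (Ref1X.isRef1_refPow h₁₂ m))).trans hScls)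
    have e₂ := tw (Ref1X.isRef1_unit (X := X)) m ((H9ChowK.cls_iso j₂ (hc (Ref1X.isRef1_refPow hℒ₂ m))).trans hTcls)
    rw [e₁, e₂, aff1 h₁ m, con2 (Ref1X.isRef1_refPow h₁ m)]
    ring
  have hdual : e 1 (Coh.structureModule X) - e 1 (RefHull.dual ℒ₁) = e 1 ℒ₁ - e 1 (Coh.structureModule X) := by
    have hD := Ref1X.isRef1_dual h₁
    obtain ⟨t, ht, htord⟩ := Ref1X.exists_ord_dual hnorm h₁ hs₁
    obtain ⟨z, hz, hzord⟩ := Ref1X.exists_ord_refTensor hnorm hD h₁ ht hs₁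
    obtain ⟨j⟩ := Ref1X.iso_of_ord hnorm (Ref1X.isRef1_refTensor hD h₁) Ref1X.isRef1_unit hz hO fun x hx => by
      rw [hzord x hx, htord x hx, Ref1X.ordF_unit hx]; ring
    have h := RefChK.act_prod_mem hd (Finset.univ : Finset (Fin (s + 1))) (Fin.cons b q)
      (m := ((s + 2 : ℕ) : ℤ) - 2) (by omega) (RefChK.add_sub_add_mem hnorm hd hδη hD h₁ rfl)
    rw [RefChK.G_eq_bot h0 (by simp), AddSubgroup.mem_bot, map_sub, sub_eq_zero, map_add, map_add,
      H9ChowK.cls_iso (δ := δ) (n := ((s + 2 : ℕ) : ℤ)) j (hc (Ref1X.isRef1_refTensor hD h₁))] at h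
    simp only [Fin.prod_univ_succ, Fin.cons_zero, Fin.cons_succ] at h
    have h' := congrArg χ h
    rw [map_add, map_add] at h'
    simp only [e, pow_one, P]
    linear_combination h'
  rw [i1 Ref1X.isRef1_unit, i1 (Ref1X.isRef1_dual h₁), hdual]
  set c : ℤ := e 1 ℒ₁ - e 1 (Coh.structureModule X) with hcdef
  have hlim := (hq₁₂.sub hq₁).sub hq₂
  have hsq : Filter.Tendsto (fun m : ℕ => 2 * (c : ℝ) - 2 * ((e 0 (Coh.structureModule X) : ℤ) : ℝ) * ((m : ℝ)⁻¹ * (m : ℝ)⁻¹))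
      Filter.atTop (nhds (2 * (c : ℝ))) := by
    have h := tendsto_inv_atTop_nhds_zero_nat (𝕜 := ℝ)
    simpa using (tendsto_const_nhds (x := 2 * (c : ℝ))).sub ((h.mul h).const_mul (2 * ((e 0 (Coh.structureModule X) : ℤ) : ℝ)))
  have heq := tendsto_nhds_unique hlim (hsq.congr' (by
    filter_upwards [Filter.eventually_ge_atTop 1] with m hm
    have hm0 : (m : ℝ) ≠ 0 := by positivity
    have hr := congrArg (fun z : ℤ => (z : ℝ)) (diff m)
    simp only [hcdef] at hr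
    push_cast at hr
    rw [i0 (Ref1X.isRef1_refPow h₁₂ m), i0 (Ref1X.isRef1_refPow h₁ m), i0 (Ref1X.isRef1_refPow hℒ₂ m), hcdef]
    field_simp
    push_cast
    linear_combination (-1 : ℝ) * hr))
  rw [heq]
  ring

end Groth.Agent.S17917
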