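import Groth.Statements.S17918
import Groth.Agent.Deform.RefChK.Euler


set_option autoImplicit false
universe u
open CategoryTheory CategoryTheory.Limits AlgebraicGeometry
open RefCh
open Groth.Agent Groth.Agent.Deform

namespace Groth.Agent.S17918

/-- Let k be an algebraically closed field, X an integral normal scheme of dimension s + 3 admitting a
closed immersion into some P^N_k over k, L_1, …, L_s, A and B invertible O_X-modules with inverses
M_1, …, M_s, A' and B' (so that A' ⊗ B' is an inverse of A ⊗ B), and ℒ a coherent reflexive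
O_X-module of rank one (ℒ = O_X(D)). Suppose 2 χ(c_1(A) c_1(L_1) ⋯ c_1(L_s) · [ℒ^[m]]) / m^2 → a, 2
χ(c_1(B) c_1(L_1) ⋯ c_1(L_s) · [ℒ^[m]]) / m^2 → b and 2 χ(c_1(A ⊗ B) c_1(L_1) ⋯ c_1(L_s) · [ℒ^[m]])
/ m^2 → c as m → ∞, the Euler characteristics being the alternating sums FGA.intNum in (A', M_1, …,
M_s), (B', M_1, …, M_s) and (A' ⊗ B', M_1, …, M_s) of the reflexive powers ℒ^[m]. Then c = a + b:
the self-intersection number D^2 · L_0 · L_1 ⋯ L_s is additive in the invertible module L_0. -/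
theorem result (k : Type u) [Field k] [IsAlgClosed k] (X : Scheme.{u}) [X.Over (Spec (CommRingCat.of k))]
    [AlgebraicGeometry.IsIntegral X] (hnorm : Pi1.IsNormalScheme X) (s : ℕ) (hdim : topologicalKrullDim X = (s + 3 : ℕ))
    (hproj : ∃ (N : ℕ) (ι : X ⟶ CohB1.ProjSpace N k), IsClosedImmersion ι ∧ ι ≫ CohB1.ProjSpace.toSpec N k = X ↘ Spec (CommRingCat.of k))
    (L M : Fin s → X.Modules) (hL : ∀ i, PicF.IsInvertible (L i))
    (hLM : ∀ i, Nonempty (CohB1.tensorMod (L i) (M i) ≅ Coh.structureModule X))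
    (A A' B B' : X.Modules) (hA : PicF.IsInvertible A) (hB : PicF.IsInvertible B)
    (hAA' : Nonempty (CohB1.tensorMod A A' ≅ Coh.structureModule X))
    (hBB' : Nonempty (CohB1.tensorMod B B' ≅ Coh.structureModule X))
    (ℒ : X.Modules) (hℒ : RefHull.IsRef1 ℒ) (a b c : ℝ)
    (ha : Filter.Tendsto (fun m : ℕ => (2 : ℝ) * (FGA.intNum k X (s + 3) (Fin.cons A' M) (RefPow.refPow ℒ m) : ℝ) / ((m : ℝ) ^ 2)) Filter.atTop (nhds a))
    (hb : Filter.Tendsto (fun m : ℕ => (2 : ℝ) * (FGA.intNum k X (s + 3) (Fin.cons B' M) (RefPow.refPow ℒ m) : ℝ) / ((m : ℝ) ^ 2)) Filter.atTop (nhds b))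
    (hc : Filter.Tendsto (fun m : ℕ => (2 : ℝ) * (FGA.intNum k X (s + 3) (Fin.cons (CohB1.tensorMod A' B') M) (RefPow.refPow ℒ m) : ℝ) / ((m : ℝ) ^ 2)) Filter.atTop (nhds c)) :
    c = a + b := by
  haveI := RefChK.isProper_of_proj k hproj
  obtain ⟨δ, hδ, hδη⟩ := RefChK.exists_delta k (X := X) hdim
  haveI := hδ.1
  have hd := hδ.2.2
  have h0 := RefChK.nonneg hd (N := s + 3) hdim.le hδη.ge
  obtain ⟨χ, hχ⟩ := RefChK.exists_chiHom k (δ := δ) (n := ((s + 3 : ℕ) : ℤ)) (d := s + 3) hdim.le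
  have hM : ∀ i, PicF.IsInvertible (M i) := fun i => RefChK.isInvertible_of_inverse (hL i) (hLM i)
  have hA' := RefChK.isInvertible_of_inverse hA hAA'
  have hB' := RefChK.isInvertible_of_inverse hB hBB'
  have hAB := H23.PicMul.isInvertible_tensor hA' hB'
  let q : Fin (s + 2) → RefChK.invCl X :=
    Fin.cons (RefChK.mk A' hA') (Fin.cons (RefChK.mk B' hB') fun i => RefChK.mk (M i) (hM i))
  let e : X.Modules → ℤ := fun F => χ (RefChK.act δ _ (∏ i, RefChK.D (q i)) (H9ChowK.cls δ _ F))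
  have hF : ∀ m, Cyc.CohLe δ ((s + 3 : ℕ) : ℤ) (RefPow.refPow ℒ m) := fun m =>
    RefChK.cohLe_top hd hδη (Ref1X.isRef1_refPow hℒ m).1
  have key : ∀ m : ℕ, FGA.intNum k X (s + 3) (Fin.cons (CohB1.tensorMod A' B') M) (RefPow.refPow ℒ m) =
      FGA.intNum k X (s + 3) (Fin.cons A' M) (RefPow.refPow ℒ m) + FGA.intNum k X (s + 3) (Fin.cons B' M) (RefPow.refPow ℒ m)
        - (e (Coh.structureModule X) + (m : ℤ) * (e ℒ - e (Coh.structureModule X))) := fun m => by
    have h1 := congrArg χ (RefChK.act_refPow hnorm hd hδη h0 q (by omega) (by omega) hℒ m)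
    rw [map_add, map_zsmul, map_sub, smul_eq_mul] at h1
    show _ = _ - (χ _ + _ * (χ _ - χ _))
    rw [← h1, RefChK.intNum_eq k hχ _ (Fin.cases hAB hM) (hF m), RefChK.intNum_eq k hχ _ (Fin.cases hA' hM) (hF m),
      RefChK.intNum_eq k hχ _ (Fin.cases hB' hM) (hF m), ← map_add, ← map_sub]
    refine congrArg χ ?_
    simp only [q, Fin.prod_univ_succ, Fin.cons_zero, Fin.cons_succ]
    rw [RefChK.mk_tensor hA' hB' hAB]
    have he : ∀ a b : RefChK.invCl X, RefChK.D (a * b) = RefChK.D a + RefChK.D b - RefChK.D a * RefChK.D b := fun a b => by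
      simp only [RefChK.D, map_mul]
      ring
    rw [he, _root_.sub_mul, _root_.add_mul, _root_.mul_assoc, map_sub, map_add]
    rfl
  refine tendsto_nhds_unique hc ?_
  have hz : Filter.Tendsto (fun m : ℕ => (2 : ℝ) * (((e (Coh.structureModule X) : ℤ) : ℝ) +
      (m : ℝ) * (((e ℒ - e (Coh.structureModule X) : ℤ)) : ℝ)) / ((m : ℝ) ^ 2)) Filter.atTop (nhds 0) := by
    have h1 : Filter.Tendsto (fun m : ℕ => (2 * ((e (Coh.structureModule X) : ℤ) : ℝ)) * (((m : ℝ))⁻¹ * ((m : ℝ))⁻¹) +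
        (2 * (((e ℒ - e (Coh.structureModule X) : ℤ)) : ℝ)) * ((m : ℝ))⁻¹) Filter.atTop (nhds 0) := by
      have h := tendsto_inv_atTop_nhds_zero_nat (𝕜 := ℝ)
      simpa using ((h.mul h).const_mul (2 * ((e (Coh.structureModule X) : ℤ) : ℝ))).add
        (h.const_mul (2 * (((e ℒ - e (Coh.structureModule X) : ℤ)) : ℝ)))
    refine h1.congr fun m => ?_
    rcases eq_or_ne (m : ℝ) 0 with hm | hm
    · rw [hm]; simp
    · field_simp
  have h2 := (ha.add hb).sub hz
  rw [sub_zero] at h2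
  refine h2.congr fun m => ?_
  rw [key m]
  push_cast
  ring

end Groth.Agent.S17918
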