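import Groth.Statements.S17919
import Groth.Agent.Deform.RefChK.DetFrob


set_option autoImplicit false
universe u
open CategoryTheory CategoryTheory.Limits AlgebraicGeometry
open RefCh
open Groth.Agent Groth.Agent.Deform

namespace Groth.Agent.S17919

/-- Let k be an algebraically closed field of characteristic p > 0, X an integral normal scheme of
dimension s + 3 admitting a closed immersion into some P^N_k over k, L_1, …, L_s, A and B invertible
O_X-modules with inverses M_1, …, M_s, A' and B', E a coherent reflexive O_X-module, and (G_m) its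
reflexive Frobenius pull-backs F_X^[m] E (G_0 = E, G_{m+1} ≅ (F_X^* G_m)^**). Suppose χ(c_1(A)
c_1(L_1) ⋯ c_1(L_s) · [G_m]) / p^{2m} → a, χ(c_1(B) c_1(L_1) ⋯ c_1(L_s) · [G_m]) / p^{2m} → b and
χ(c_1(A ⊗ B) c_1(L_1) ⋯ c_1(L_s) · [G_m]) / p^{2m} → c as m → ∞ (alternating sums FGA.intNum in (A',
M_1, …, M_s), (B', M_1, …, M_s) and (A' ⊗ B', M_1, …, M_s)). Then c = a + b: the number ∫_X ch_2(E)
L_0 L_1 ⋯ L_s, defined as such a limit, is additive in the invertible module L_0. -/
theorem result (k : Type u) [Field k] [IsAlgClosed k] (X : Scheme.{u}) [X.Over (Spec (CommRingCat.of k))]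
    [AlgebraicGeometry.IsIntegral X] (hnorm : Pi1.IsNormalScheme X) (s : ℕ) (hdim : topologicalKrullDim X = (s + 3 : ℕ))
    (hproj : ∃ (N : ℕ) (ι : X ⟶ CohB1.ProjSpace N k), IsClosedImmersion ι ∧ ι ≫ CohB1.ProjSpace.toSpec N k = X ↘ Spec (CommRingCat.of k))
    (p : ℕ) [Fact p.Prime] [CharP k p] [FrobSch.IsCharP X p]
    (L M : Fin s → X.Modules) (hL : ∀ i, PicF.IsInvertible (L i))
    (hLM : ∀ i, Nonempty (CohB1.tensorMod (L i) (M i) ≅ Coh.structureModule X))
    (A A' B B' : X.Modules) (hA : PicF.IsInvertible A) (hB : PicF.IsInvertible B)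
    (hAA' : Nonempty (CohB1.tensorMod A A' ≅ Coh.structureModule X))
    (hBB' : Nonempty (CohB1.tensorMod B B' ≅ Coh.structureModule X))
    (E : X.Modules) (hE : Coh.IsCoh E) (hEr : RefHull.IsReflexive E)
    (G : ℕ → X.Modules) (hG0 : G 0 = E)
    (hG : ∀ m, Nonempty (G (m + 1) ≅ RefHull.ddual ((Scheme.Modules.pullback (FrobSch.frob X p)).obj (G m)))) (a b c : ℝ)
    (ha : Filter.Tendsto (fun m : ℕ => (FGA.intNum k X (s + 3) (Fin.cons A' M) (G m) : ℝ) / ((p : ℝ) ^ (2 * m))) Filter.atTop (nhds a))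
    (hb : Filter.Tendsto (fun m : ℕ => (FGA.intNum k X (s + 3) (Fin.cons B' M) (G m) : ℝ) / ((p : ℝ) ^ (2 * m))) Filter.atTop (nhds b))
    (hc : Filter.Tendsto (fun m : ℕ => (FGA.intNum k X (s + 3) (Fin.cons (CohB1.tensorMod A' B') M) (G m) : ℝ) / ((p : ℝ) ^ (2 * m))) Filter.atTop (nhds c)) :
    c = a + b := by
  haveI := RefChK.isProper_of_proj k hproj
  obtain ⟨δ, hδ, hδη⟩ := RefChK.exists_delta k (X := X) hdim
  haveI := hδ.1
  have hd := hδ.2.2
  have h0 := RefChK.nonneg hd (N := s + 3) hdim.le hδη.ge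
  obtain ⟨χ, hχ⟩ := RefChK.exists_chiHom k (δ := δ) (n := ((s + 3 : ℕ) : ℤ)) (d := s + 3) hdim.le
  have hM : ∀ i, PicF.IsInvertible (M i) := fun i => RefChK.isInvertible_of_inverse (hL i) (hLM i)
  have hA' := RefChK.isInvertible_of_inverse hA hAA'
  have hB' := RefChK.isInvertible_of_inverse hB hBB'
  have hAB := H23.PicMul.isInvertible_tensor hA' hB'
  let q : Fin (s + 2) → RefChK.invCl X :=
    Fin.cons (RefChK.mk A' hA') (Fin.cons (RefChK.mk B' hB') fun i => RefChK.mk (M i) (hM i))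
  let e : X.Modules → ℤ := fun F => χ (RefChK.act δ _ (∏ i, RefChK.D (q i)) (H9ChowK.cls δ _ F))
  let r := Module.finrank (X.presheaf.stalk (genericPoint X)) (E.presheaf.stalk (genericPoint X))
  have low : ∀ m, RefChK.LowBundle (G m) r := fun m => by
    induction m with
    | zero => rw [hG0]; exact RefChK.LowBundle.of_reflexive hnorm hE hEr rfl
    | succ m ih => exact ((ih.frob p).ddual).of_iso (hG m).some.symm
  have hFc : ∀ m, Cyc.CohLe δ ((s + 3 : ℕ) : ℤ) (G m) := fun m => RefChK.cohLe_top hd hδη (low m).coh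
  have hE' : ∀ m : ℕ, e (G m) = (r : ℤ) * e (Coh.structureModule X) + (p : ℤ) ^ m * (e E - (r : ℤ) * e (Coh.structureModule X)) := fun m => by
    induction m with
    | zero => rw [pow_zero, _root_.one_mul, hG0]; ring
    | succ m ih =>
      have h := congrArg χ (RefChK.act_frob p hnorm hd hδη h0 q (by omega) (by omega) (low m) (hG m).some)
      simp only [map_sub, map_zsmul, smul_eq_mul] at h
      show χ _ = _
      rw [sub_eq_iff_eq_add.1 h]
      show (p : ℤ) * (e (G m) - (r : ℤ) * e (Coh.structureModule X)) + (r : ℤ) * e (Coh.structureModule X) = _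
      rw [ih]
      ring
  have key : ∀ m : ℕ, FGA.intNum k X (s + 3) (Fin.cons (CohB1.tensorMod A' B') M) (G m) =
      FGA.intNum k X (s + 3) (Fin.cons A' M) (G m) + FGA.intNum k X (s + 3) (Fin.cons B' M) (G m) - e (G m) := fun m => by
    show _ = _ - χ _
    rw [RefChK.intNum_eq k hχ _ (Fin.cases hAB hM) (hFc m), RefChK.intNum_eq k hχ _ (Fin.cases hA' hM) (hFc m),
      RefChK.intNum_eq k hχ _ (Fin.cases hB' hM) (hFc m), ← map_add, ← map_sub]
    refine congrArg χ ?_
    simp only [q, Fin.prod_univ_succ, Fin.cons_zero, Fin.cons_succ]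
    rw [RefChK.mk_tensor hA' hB' hAB]
    have he : ∀ a b : RefChK.invCl X, RefChK.D (a * b) = RefChK.D a + RefChK.D b - RefChK.D a * RefChK.D b := fun a b => by
      simp only [RefChK.D, map_mul]
      ring
    rw [he, _root_.sub_mul, _root_.add_mul, _root_.mul_assoc, map_sub, map_add]
    rfl
  refine tendsto_nhds_unique hc ?_
  set C₀ : ℝ := (r : ℝ) * ((e (Coh.structureModule X) : ℤ) : ℝ) with hC₀
  set C₁ : ℝ := ((e E : ℤ) : ℝ) - C₀ with hC₁
  have hp1 : (1 : ℝ) < (p : ℝ) := by exact_mod_cast (Fact.out : p.Prime).one_lt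
  have hinv : Filter.Tendsto (fun m : ℕ => ((p : ℝ) ^ m)⁻¹) Filter.atTop (nhds 0) :=
    tendsto_inv_atTop_zero.comp (tendsto_pow_atTop_atTop_of_one_lt hp1)
  have hz : Filter.Tendsto (fun m : ℕ => ((e (G m) : ℤ) : ℝ) / ((p : ℝ) ^ (2 * m))) Filter.atTop (nhds 0) := by
    have h := ((hinv.mul hinv).const_mul C₀).add (hinv.const_mul C₁)
    simp only [MulZeroClass.mul_zero, _root_.add_zero] at h
    refine h.congr fun m => ?_
    have hpm : (p : ℝ) ^ m ≠ 0 := pow_ne_zero _ (by positivity)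
    rw [hE' m, two_mul, pow_add, hC₁, hC₀]
    push_cast
    field_simp
  have h2 := (ha.add hb).sub hz
  rw [sub_zero] at h2
  refine h2.congr fun m => ?_
  rw [key m]
  push_cast
  ring

end Groth.Agent.S17919
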