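import Groth.Statements.S17929
import Groth.Agent.Deform.RefChK.Symbol


set_option autoImplicit false
universe u
open CategoryTheory CategoryTheory.Limits AlgebraicGeometry
open RefCh
open Groth.Agent Groth.Agent.Deform

namespace Groth.Agent.S17929

/-- Let k be an algebraically closed field, X an integral normal scheme of dimension n = s + 2 admitting
a closed immersion into some P^N_k over k, δ a dimension function on X (Cyc.IsSetup) with δ(generic
point) = n, L_1, …, L_s, A and B invertible O_X-modules with inverses M_1, …, M_s, A' and B' (so A'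
⊗ B' is an inverse of A ⊗ B), and ℒ a coherent reflexive O_X-module of rank one (ℒ = O_X(-D)). For a
family (N_0, …, N_s) of modules put S_N(ℒ) = Σ_{I ⊆ {0, …, s}} (-1)^{|I|} ([N_I ⊗ O_X] - [N_I ⊗ ℒ])
in K(X) = K_0(Coh(X)) (classes KZero.clSub of coherent modules), N_I = ⊗_{i∈I} N_i, so that S_{(A',
M_1, …, M_s)}(O_X(-D)) = c_1(A) c_1(L_1) ⋯ c_1(L_s) · [O_D]. Then S_{(A' ⊗ B', M)}(ℒ) = S_{(A',
M)}(ℒ) + S_{(B', M)}(ℒ): the K(X)-valued symbol c_1(L_0) c_1(L_1) ⋯ c_1(L_s) · [O_D] is additive,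
hence ℤ-linear, in the invertible module L_0. -/
theorem result (k : Type u) [Field k] [IsAlgClosed k] (X : Scheme.{u}) [X.Over (Spec (CommRingCat.of k))]
    [AlgebraicGeometry.IsIntegral X] (hnorm : Pi1.IsNormalScheme X) (s : ℕ) (hdim : topologicalKrullDim X = (s + 2 : ℕ))
    (hproj : ∃ (N : ℕ) (ι : X ⟶ CohB1.ProjSpace N k), IsClosedImmersion ι ∧ ι ≫ CohB1.ProjSpace.toSpec N k = X ↘ Spec (CommRingCat.of k))
    (δ : X → ℤ) (hδ : Cyc.IsSetup X δ) (hδη : δ (genericPoint X) = (s + 2 : ℕ))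
    (L M : Fin s → X.Modules) (hL : ∀ i, PicF.IsInvertible (L i))
    (hLM : ∀ i, Nonempty (CohB1.tensorMod (L i) (M i) ≅ Coh.structureModule X))
    (A A' B B' : X.Modules) (hA : PicF.IsInvertible A) (hB : PicF.IsInvertible B)
    (hAA' : Nonempty (CohB1.tensorMod A A' ≅ Coh.structureModule X))
    (hBB' : Nonempty (CohB1.tensorMod B B' ≅ Coh.structureModule X))
    (ℒ : X.Modules) (hℒ : RefHull.IsRef1 ℒ) :
    (∑ I : Finset (Fin (s + 1)), ((-1 : ℤ) ^ I.card) •
        (KZero.clSub (Cyc.CohLe δ (s + 2 : ℕ)) (CohB1.tensorMod (FGA.tensorList ((I.sort (· ≤ ·)).map (Fin.cons (CohB1.tensorMod A' B') M))) (Coh.structureModule X)) -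
          KZero.clSub (Cyc.CohLe δ (s + 2 : ℕ)) (CohB1.tensorMod (FGA.tensorList ((I.sort (· ≤ ·)).map (Fin.cons (CohB1.tensorMod A' B') M))) ℒ))) =
      (∑ I : Finset (Fin (s + 1)), ((-1 : ℤ) ^ I.card) •
        (KZero.clSub (Cyc.CohLe δ (s + 2 : ℕ)) (CohB1.tensorMod (FGA.tensorList ((I.sort (· ≤ ·)).map (Fin.cons A' M))) (Coh.structureModule X)) -
          KZero.clSub (Cyc.CohLe δ (s + 2 : ℕ)) (CohB1.tensorMod (FGA.tensorList ((I.sort (· ≤ ·)).map (Fin.cons A' M))) ℒ))) +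
      (∑ I : Finset (Fin (s + 1)), ((-1 : ℤ) ^ I.card) •
        (KZero.clSub (Cyc.CohLe δ (s + 2 : ℕ)) (CohB1.tensorMod (FGA.tensorList ((I.sort (· ≤ ·)).map (Fin.cons B' M))) (Coh.structureModule X)) -
          KZero.clSub (Cyc.CohLe δ (s + 2 : ℕ)) (CohB1.tensorMod (FGA.tensorList ((I.sort (· ≤ ·)).map (Fin.cons B' M))) ℒ))) := by
  haveI := hδ.1
  have hd := hδ.2.2
  have hM : ∀ i, PicF.IsInvertible (M i) := fun i => RefChK.isInvertible_of_inverse (hL i) (hLM i)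
  have hA' := RefChK.isInvertible_of_inverse hA hAA'
  have hB' := RefChK.isInvertible_of_inverse hB hBB'
  have hAB := H23.PicMul.isInvertible_tensor hA' hB'
  have hO := RefChK.cohLe_top hd hδη (RefX.isCoh_unit (X := X))
  have hℒ' := RefChK.cohLe_top hd hδη hℒ.1
  have h0 := RefChK.nonneg hd (N := s + 2) hdim.le hδη.ge
  have key := RefChK.act_prod_mem hd (Finset.univ : Finset (Fin (s + 2)))
    (Fin.cons (RefChK.mk A' hA') (Fin.cons (RefChK.mk B' hB') fun i => RefChK.mk (M i) (hM i)))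
    (m := ((s + 2 : ℕ) : ℤ) - 1) (by omega) (RefChK.unit_sub_mem hd hδη hℒ)
  rw [RefChK.G_eq_bot h0 (by simp), AddSubgroup.mem_bot] at key
  rw [Fin.prod_univ_succ, Fin.prod_univ_succ] at key
  simp only [Fin.cons_zero, Fin.cons_succ] at key
  rw [RefChK.symbol_eq (Fin.cons (CohB1.tensorMod A' B') M) (Fin.cases hAB hM) hO hℒ',
    RefChK.symbol_eq (Fin.cons A' M) (Fin.cases hA' hM) hO hℒ',
    RefChK.symbol_eq (Fin.cons B' M) (Fin.cases hB' hM) hO hℒ',
    Fin.prod_univ_succ, Fin.prod_univ_succ, Fin.prod_univ_succ]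
  simp only [Fin.cons_zero, Fin.cons_succ]
  rw [RefChK.mk_tensor hA' hB' hAB]
  refine sub_eq_zero.1 (Eq.trans ?_ (neg_eq_zero.2 key))
  have e : ∀ a b : RefChK.invCl X, RefChK.D (a * b) = RefChK.D a + RefChK.D b - RefChK.D a * RefChK.D b := fun a b => by
    simp only [RefChK.D, map_mul]
    ring
  generalize H9ChowK.cls δ ((s + 2 : ℕ) : ℤ) (Coh.structureModule X) - H9ChowK.cls δ ((s + 2 : ℕ) : ℤ) ℒ = z at key ⊢
  rw [e, _root_.sub_mul, _root_.add_mul, _root_.mul_assoc, map_sub, map_add]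
  have ap : ∀ (f g h : AddMonoid.End (KZero.K0sub (Cyc.CohLe δ ((s + 2 : ℕ) : ℤ)))) (y : KZero.K0sub (Cyc.CohLe δ ((s + 2 : ℕ) : ℤ))),
      (f + g - h) y = f y + g y - h y := fun f g h y => rfl
  rw [ap]
  abel

end Groth.Agent.S17929
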