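import Groth.Statements.S1795
import Groth.Agent.KFlatLib.Ring.RelDualizing
import Groth.Agent.KFlatLib.Ring.ShriekVia
import Groth.Agent.KFlatLib.Ring.BaseChangeShriekVia
import Groth.Agent.KFlatLib.Ring.Dualizing
import Groth.Agent.KFlatLib.Ring.ShriekPerfect
-- import your own Groth.Agent.* helpers here

set_option autoImplicit false
universe u
open CategoryTheory
open scoped TensorProduct
attribute [local instance] HasDerivedCategory.standard
open Dual2

namespace Groth.Agent.S1795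

open Groth.Agent.KFlatLib in
lemma rigid {R A : Type u} [CommRing R] [CommRing A] [IsNoetherianRing R] [Algebra R A] [Module.Flat R A]
    (n : ℕ) (ψ : MvPolynomial (Fin n) R →+* A) (hψ : Function.Surjective ψ)
    (hR : ψ.comp MvPolynomial.C = algebraMap R A)
    {Rψ : Dual.D (MvPolynomial (Fin n) R) ⥤ Dual.D A} (a : DRing.restrictD ψ ⊣ Rψ)
    (incL : A →+* TensorProduct R A A) (hincL : incL = Algebra.TensorProduct.includeLeftRingHom)
    [DTen.HasLBase incL]
    (Rμ : Dual.D (TensorProduct R A A) ⥤ Dual.D A)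
    (aμ : DRing.restrictD (Algebra.TensorProduct.lmul' R (S := A)).toRingHom ⊣ Rμ) :
    Nonempty (Rμ.obj ((DTen.LBase incL).obj ((Rψ.obj (DTen.unit (MvPolynomial (Fin n) R)))⟦(n : ℤ)⟧)) ≅
      DTen.unit A) := by
  let P := MvPolynomial (Fin n) R
  let P' := MvPolynomial (Fin n) A
  let σe := (Algebra.TensorProduct.comm R A A).toRingEquiv
  let σ : TensorProduct R A A →+* TensorProduct R A A := σe.toRingHom
  let μ : TensorProduct R A A →+* A := (Algebra.TensorProduct.lmul' R (S := A)).toRingHom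
  let ψ' : P' →+* TensorProduct R A A := presBC A ψ
  let θ : P' →+* A := μ.comp (σ.comp ψ')
  let ι : R →+* P := MvPolynomial.C
  let ι' : A →+* P' := MvPolynomial.C
  haveI := hasLBase ι
  haveI := hasLBase ι'
  haveI := hasLBase σ
  haveI := hasLBase (algebraMap R A)
  haveI := hasLBase (incRight R A A)
  have hσ : σ.comp (incRight R A A) = incL := RingHom.ext fun x => by
    subst hincL
    show Algebra.TensorProduct.comm R A A ((1 : A) ⊗ₜ[R] x) = x ⊗ₜ[R] (1 : A)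
    simp
  have hθC : θ.comp MvPolynomial.C = algebraMap A A := RingHom.ext fun x => by
    show μ (σ (ψ' (MvPolynomial.C x))) = x
    rw [show ψ' (MvPolynomial.C x) = algebraMap A (TensorProduct R A A) x from RingHom.congr_fun (presBC_C (R' := A) ψ) x]
    show Algebra.TensorProduct.lmul' R (S := A) (Algebra.TensorProduct.comm R A A (x ⊗ₜ[R] (1 : A))) = x
    rw [Algebra.TensorProduct.comm_tmul, Algebra.TensorProduct.lmul'_apply_tmul, one_mul]
  have hθ : Function.Surjective θ := fun x => ⟨MvPolynomial.C x, RingHom.congr_fun hθC x⟩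
  obtain ⟨R', ⟨a'⟩⟩ := exists_shriek ψ'
  obtain ⟨Rσ, ⟨aσ⟩⟩ := exists_shriek σ
  obtain ⟨Rσψ, ⟨aσψ⟩⟩ := exists_shriek (σ.comp ψ')
  obtain ⟨Rθ, ⟨aθ⟩⟩ := exists_shriek θ
  obtain ⟨iσ⟩ := nonempty_iso_of_inverse σ σe.symm.toRingHom (RingHom.ext fun x => σe.symm_apply_apply x)
    (RingHom.ext fun x => σe.apply_symm_apply x) aσ
  obtain ⟨c₁⟩ := nonempty_shriek_comp (χ := σ.comp ψ') rfl a' aσ aσψ
  obtain ⟨c₂⟩ := nonempty_shriek_comp (χ := θ) rfl aσψ aμ aθ
  obtain ⟨t⟩ := nonempty_shriek_baseChange_of_flat_left ψ hψ hR ι rfl a ψ' (surjective_presBC (R' := A) ψ hψ hR)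
    (presBC_C ψ) ι' rfl a' (DTen.unit R)
  obtain ⟨u₁⟩ := nonempty_LBase_unit ι
  obtain ⟨u₂⟩ := nonempty_LBase_unit (algebraMap R A)
  obtain ⟨l⟩ := nonempty_LBase_comp (incRight R A A) σ incL hσ
  obtain ⟨s₁⟩ := nonempty_LBase_shift σ (n : ℤ)
  obtain ⟨s₂⟩ := nonempty_shriek_shift aμ (n : ℤ)
  let aid : DRing.restrictD (algebraMap A A) ⊣ 𝟭 (Dual.D A) :=
    Adjunction.id.ofNatIsoLeft (restrictDIdIso A).symm
  obtain ⟨f⟩ := nonempty_shriek_finite n θ hθ ι' rfl hθC aθ aid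
  exact ⟨Rμ.mapIso ((l.app _).symm ≪≫ (DTen.LBase σ).mapIso
      ((DTen.LBase (incRight R A A)).mapIso ((shiftFunctor _ (n : ℤ)).mapIso (Rψ.mapIso u₁.symm)) ≪≫ t ≪≫
        (shiftFunctor _ (n : ℤ)).mapIso (R'.mapIso ((DTen.LBase ι').mapIso u₂))) ≪≫
      s₁.app _ ≪≫ (shiftFunctor _ (n : ℤ)).mapIso ((iσ.app _).symm ≪≫ c₁.app _)) ≪≫
    s₂.app _ ≪≫ (shiftFunctor _ (n : ℤ)).mapIso (c₂.app _) ≪≫ f.app (DTen.unit A)⟩

/-- Let R → A be a ring map between Noetherian rings which is flat and of finite type, with φ^! formed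
from a presentation ψ : R[x_1, …, x_n] → A as RHom_P(A, (−) ⊗^L_R P)[n] (derived base change under
its existence hypothesis, RHom_P(A, −) a right adjoint of restriction). Then ω_{A/R} = φ^!(R) is a
relative dualizing complex: it is R-perfect and RHom_{A ⊗_R A}(A, ω_{A/R} ⊗^L_A (A ⊗_R A)) ≅ A (with
the same conventions for these functors). -/
theorem result (R A : Type u) [CommRing R] [CommRing A] [IsNoetherianRing R] [IsNoetherianRing A] [Algebra R A] [Module.Flat R A] [Algebra.FinitePresentation R A] (n : ℕ) (ψ : MvPolynomial (Fin n) R →ₐ[R] A) (hψ : Function.Surjective ψ) [DRing.HasLBaseChange (algebraMap R (MvPolynomial (Fin n) R))] (Rψ : Dual.D (MvPolynomial (Fin n) R) ⥤ Dual.D A) (adj : DRing.restrictD ψ.toRingHom ⊣ Rψ) [DRing.HasLBaseChange (Algebra.TensorProduct.includeLeftRingHom : A →+* TensorProduct R A A)] (Rμ : Dual.D (TensorProduct R A A) ⥤ Dual.D A) (adjμ : DRing.restrictD (Algebra.TensorProduct.lmul' R (S := A)).toRingHom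 ⊣ Rμ) : Dual2.IsRelDualizing R A Rμ (Dual2.shriekVia n Rψ (Dual.inD R R)) := by
  let P := MvPolynomial (Fin n) R
  haveI := Groth.Agent.KFlatLib.hasLBase (algebraMap R P)
  haveI := Groth.Agent.KFlatLib.hasLBase (Algebra.TensorProduct.includeLeftRingHom : A →+* TensorProduct R A A)
  obtain ⟨e₁⟩ := Groth.Agent.KFlatLib.nonempty_LBaseChange_iso (algebraMap R P)
  obtain ⟨e₂⟩ := Groth.Agent.KFlatLib.nonempty_LBaseChange_iso
    (Algebra.TensorProduct.includeLeftRingHom : A →+* TensorProduct R A A)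
  obtain ⟨u⟩ := Groth.Agent.KFlatLib.nonempty_LBase_unit (algebraMap R P)
  let e : (Rψ.obj (DTen.unit P))⟦(n : ℤ)⟧ ≅ Dual2.shriekVia n Rψ (Dual.inD R R) :=
    ((shiftFunctor _ (n : ℤ)).mapIso (Rψ.mapIso (e₁.app _ ≪≫ (DTen.LBase (algebraMap R P)).mapIso
      ((DerivedCategory.singleFunctorIsoCompQ (ModuleCat R) 0).app (ModuleCat.of R R)) ≪≫ u))).symm
  have hR : ψ.toRingHom.comp MvPolynomial.C = algebraMap R A := RingHom.ext fun r => ψ.commutes r
  obtain ⟨⟨p, q, hpq⟩, hfin⟩ := Groth.Agent.KFlatLib.bounded_finite_shriek_unit ψ.toRingHom hψ hR adj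
  obtain ⟨a, b, E, hE₁, hE₂, ⟨eE⟩⟩ := Groth.Agent.KFlatLib.hasFiniteTorDimCx_shriek_unit ψ.toRingHom hψ hR adj
  haveI : (Dual2.shriekVia n Rψ (Dual.inD R R)).IsLE q := (DerivedCategory.isLE_iff _ _).2 fun i hi => by
    haveI := Groth.Agent.KFlatLib.subsingleton_hd_of_iso e i (hpq i (Or.inr hi))
    exact @ModuleCat.isZero_of_subsingleton _ _ _ this
  haveI := Groth.Agent.KFlatLib.hasLTen A
  haveI : DTen.HasRHom A := Groth.Agent.KFlatLib.hasRHom
  obtain ⟨r⟩ := rigid n ψ.toRingHom hψ hR adj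
    (Algebra.TensorProduct.includeLeftRingHom : A →+* TensorProduct R A A) rfl Rμ adjμ
  exact ⟨⟨Groth.Agent.KFlatLib.pc'_of_finite_hd _ q fun i => Groth.Agent.KFlatLib.finite_hd_of_iso e i (hfin i),
    a, b, E, hE₁, hE₂, ⟨eE ≪≫ (DRing.restrictD _).mapIso e⟩⟩,
    ⟨Rμ.mapIso (e₂.app _ ≪≫ (DTen.LBase _).mapIso e.symm) ≪≫ r ≪≫
      ((DerivedCategory.singleFunctorIsoCompQ (ModuleCat A) 0).app (ModuleCat.of A A)).symm⟩⟩


end Groth.Agent.S1795
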