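import Groth.Statements.S17963
import Groth.Agent.Graft.GenLift
-- import your own Groth.Agent.* helpers here

set_option autoImplicit false
set_option linter.style.haveILetI false
open CategoryTheory CategoryTheory.Limits AlgebraicGeometry
universe u
open Hensel

attribute [-instance] CategoryTheory.catToReflQuiver

namespace Groth.Agent.S17963

/-- Let (A, I) be a henselian pair and f : X ⟶ Spec A a proper morphism of finite presentation, and let
X₀ = X ×_{Spec A} Spec (A/I). Then X is nonempty and connected if and only if X₀ is nonempty and
connected. -/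
theorem result
    (A : Type u) [CommRing A] (I : Ideal A) [HenselianRing A I] {X : Scheme.{u}}
    (f : X ⟶ Spec (CommRingCat.of A)) [IsProper f] [LocallyOfFinitePresentation f] :
    ConnectedSpace ↥X ↔ ConnectedSpace ↥(pullback f (Spec.map (CommRingCat.ofHom (Ideal.Quotient.mk I)))) := by
  let i := pullback.fst f (Spec.map (CommRingCat.ofHom (Ideal.Quotient.mk I)))
  haveI : IsClosedImmersion (Spec.map (CommRingCat.ofHom (Ideal.Quotient.mk I))) :=
    IsClosedImmersion.spec_of_surjective _ Ideal.Quotient.mk_surjective
  have hL : HensCouple7.Lifts (Set.range i) := by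
    rw [HensCouple7.range_fst_mk I f]; exact Graft.lifts_proper_pair I f
  have h := (HensCouple7.lifts_range_iff i.isEmbedding).2 hL
  have hzero : ∀ U : Set X, IsClopen U → i ⁻¹' U = ∅ → U = ∅ := fun U hU he =>
    ExistsUnique.unique (h ∅ isClopen_empty) ⟨hU, he⟩ ⟨isClopen_empty, Set.preimage_empty⟩
  constructor
  · intro hX
    haveI : Nonempty ↥(pullback f (Spec.map (CommRingCat.ofHom (Ideal.Quotient.mk I)))) := by
      by_contra hn
      haveI := not_nonempty_iff.1 hn
      obtain ⟨x⟩ := (inferInstance : Nonempty X)
      exact Set.eq_empty_iff_forall_notMem.1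
        (hzero Set.univ isClopen_univ (Set.eq_empty_of_forall_notMem fun z => isEmptyElim z)) x trivial
    haveI : PreconnectedSpace ↥(pullback f (Spec.map (CommRingCat.ofHom (Ideal.Quotient.mk I)))) :=
      preconnectedSpace_iff_clopen.2 fun V hV => by
        obtain ⟨U, ⟨hU, hUV⟩, -⟩ := h V hV
        rcases isClopen_iff.1 hU with rfl | rfl
        · exact .inl (hUV.symm.trans Set.preimage_empty)
        · exact .inr (hUV.symm.trans Set.preimage_univ)
    exact { toNonempty := inferInstance }
  · intro hZ
    obtain ⟨z⟩ := (inferInstance : Nonempty ↥(pullback f (Spec.map (CommRingCat.ofHom (Ideal.Quotient.mk I)))))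
    haveI : PreconnectedSpace X := preconnectedSpace_iff_clopen.2 fun U hU => by
      rcases isClopen_iff.1 (hU.preimage i.continuous) with he | he
      · exact .inl (hzero U hU he)
      · refine .inr (Set.compl_empty_iff.1 (hzero Uᶜ hU.compl ?_))
        rw [Set.preimage_compl, he, Set.compl_univ]
    exact { toNonempty := ⟨i z⟩ }

end Groth.Agent.S17963
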