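import Groth.Statements.S1802
import Groth.Agent.S0356
import Groth.Agent.QCoh.Serre
import Groth.Agent.QCoh.OpenSub
import Groth.Agent.QCoh.Tilde
import Groth.Agent.QCoh.Qcqs
import Groth.Agent.LC.CohDT

set_option autoImplicit false
universe u
open AlgebraicGeometry
open LocCoh

namespace Groth.Agent.S1802

/-- For a Noetherian ring. Let I be an ideal of a Noetherian ring A with cd(A, I) = 1, i.e. H^i_I(M) = 0
for all modules M and all i ≥ 2 but H^1_I(M) ≠ 0 for some M. Then the open subscheme Spec A minus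
V(I) is nonempty and affine. -/
theorem result (A : Type u) [CommRing A] [IsNoetherianRing A] (I : Ideal A) (h1 : LocCoh.CdLE A I 1) (h0 : ¬ LocCoh.CdLE A I 0) : Nonempty (↑(LocCoh.puncturedOpen A I) : Scheme.{u}) ∧ IsAffine (↑(LocCoh.puncturedOpen A I) : Scheme.{u}) := by
  haveI : TopologicalSpace.NoetherianSpace (Spec (CommRingCat.of A)) := inferInstanceAs (TopologicalSpace.NoetherianSpace (PrimeSpectrum A))
  let U := LocCoh.puncturedOpen A I
  haveI : TopologicalSpace.NoetherianSpace U.toScheme :=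
    U.ι.isOpenEmbedding.toIsInducing.noetherianSpace
  refine ⟨?_, Groth.Agent.QCoh.isAffine_of_HH_one (fun F _ _ hF => ?_)⟩
  · by_contra hne
    refine h0 fun M _ _ i hi => ?_
    have hI : I ≤ (⊥ : Ideal A).radical := fun a ha => by
      rw [Ideal.radical_eq_sInf, Ideal.mem_sInf]
      rintro p ⟨-, hp⟩
      by_contra hap
      exact hne ⟨(⟨(⟨p, hp⟩ : PrimeSpectrum A), fun h => hap (h ha)⟩ : U)⟩
    obtain ⟨n, hn⟩ := Ideal.exists_pow_le_of_le_radical_of_fg hI (IsNoetherian.noetherian I)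
    obtain ⟨k, rfl⟩ : ∃ k, i = k + 1 := ⟨i - 1, by omega⟩
    exact Groth.Agent.LC.subsingleton_of_torsion I k (ModuleCat.of A M) fun m => ⟨n, fun a ha => by
      rw [(Submodule.mem_bot A).1 (hn ha), zero_smul]⟩
  · have hP : Coh.IsQCoh ((Scheme.Modules.pushforward U.ι).obj F) :=
      Groth.Agent.QCoh.isQCoh_pushforward U.ι hF
    obtain ⟨N, ⟨eN⟩⟩ := Groth.Agent.QCoh.isQCoh_spec_iff.1 hP
    obtain ⟨e⟩ := Groth.Agent.S0356.result A I N 1 le_rfl
    haveI : Subsingleton (LocCoh.H I (1 + 1) N) := h1 N 2 (by omega)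
    haveI := e.toEquiv.subsingleton
    exact Groth.Agent.QCoh.subsingleton_HH_of_iso
      ((Scheme.Modules.restrictFunctor U.ι).mapIso eN ≪≫
        (Scheme.Modules.restrictFunctorAdjCounitIso U.ι).app F) 1 (by assumption)

end Groth.Agent.S1802
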