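import Groth.Statements.S1797
import Groth.Agent.LC.HlvtMain
import Groth.Agent.FlatUnibr.Normal
import Groth.Agent.S0600
import Groth.Agent.S2644
import Groth.Agent.S1802
import Groth.Agent.QCoh.Serre

set_option autoImplicit false
universe u
open LocCoh

namespace Groth.Agent.S1797

/-- Let A be an excellent normal Noetherian local ring (an integrally closed domain) and I an ideal with
dim V(I) ≥ 1, i.e. dim A/I ≥ 1. Then cd(A, I) < dim A: for every A-module M, H^i_I(M) = 0 whenever i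
≥ dim A. Moreover, if dim A = 2 then the open subscheme Spec A ∖ V(I) is affine. -/
theorem result (A : Type u) [CommRing A] [IsDomain A] [IsLocalRing A] [IsNoetherianRing A] [IsIntegrallyClosed A] (hA : EGA4.IsExcellent A) (I : Ideal A) (hI : (1 : WithBot ℕ∞) ≤ ringKrullDim (A ⧸ I)) : (∀ (M : Type u) [AddCommGroup M] [Module A M] (i : ℕ), ringKrullDim A ≤ (i : WithBot ℕ∞) → Subsingleton (LocCoh.H I i M)) ∧ (ringKrullDim A = 2 → AlgebraicGeometry.IsAffine (↑(LocCoh.puncturedOpen A I) : AlgebraicGeometry.Scheme.{u})) := by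
  haveI : IsNoetherianRing (EGA4.Cpl A) := Groth.Agent.FlatLoc6.isNoetherianRing_cpl A
  haveI := Groth.Agent.FlatLoc6.isLocalRing_cpl A
  haveI := Groth.Agent.FlatLoc6.faithfullyFlat_cpl A
  have hff : EGA4.HasGeomNormalFormalFibres A :=
    (Groth.Agent.FlatLoc6.isNormalHom_of_isRegularHom A (EGA4.Cpl A)
      (Groth.Agent.S0600.result A hA.2.2.1 (IsLocalRing.maximalIdeal A))).2
  have hn : EGA4.IsNormalRing A := fun q _ =>
    ⟨IsLocalization.isDomain_localization q.primeCompl_le_nonZeroDivisors,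
      isIntegrallyClosed_of_isLocalization _ q.primeCompl q.primeCompl_le_nonZeroDivisors⟩
  haveI : IsDomain (EGA4.Cpl A) :=
    Groth.Agent.FormCat.isDomain_of_isNormalRing_local _ ((Groth.Agent.S2644.result _ hff).1 hn)
  obtain ⟨d, hd⟩ : ∃ d : ℕ, ringKrullDim A = d := by
    obtain ⟨d, hd⟩ := ENat.ne_top_iff_exists.1
      (Ideal.height_ne_top (IsLocalRing.maximalIdeal.isMaximal A).ne_top)
    exact ⟨d, by rw [← IsLocalRing.maximalIdeal_height_eq_ringKrullDim, ← hd]; rfl⟩
  have hA0 : Subsingleton ((localCohomology I d).obj (ModuleCat.of A A)) := by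
    refine Groth.Agent.LC.subsingleton_H_hlvt I hd fun p hp _ => ?_
    have hp0 : p = ⊥ := le_bot_iff.1 (hp.2 ⟨Ideal.isPrime_bot, le_rfl⟩ bot_le)
    have hI' : I ≠ ⊤ := fun h => by
      haveI : Subsingleton (A ⧸ I) := Ideal.Quotient.subsingleton_iff.2 h
      rw [ringKrullDim_eq_bot_of_subsingleton] at hI
      simp at hI
    haveI : Nontrivial (A ⧸ I) := Ideal.Quotient.nontrivial_iff.2 hI'
    haveI : IsLocalRing (A ⧸ I) := .of_surjective' _ Ideal.Quotient.mk_surjective
    refine hI.trans (le_of_eq ?_)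
    rw [← Groth.Agent.FormCat.ringKrullDim_cpl_quotient A I]
    exact ringKrullDim_eq_of_ringEquiv (Ideal.quotEquivOfEq (by rw [hp0, sup_bot_eq]))
  have hcd : ∀ (M : Type u) [AddCommGroup M] [Module A M] (i : ℕ), ringKrullDim A ≤ (i : WithBot ℕ∞) →
      Subsingleton (LocCoh.H I i M) := fun M _ _ i hi =>
    Groth.Agent.LC.subsingleton_H_top_of_ring I hd.le hA0 M i (by rw [hd] at hi; exact_mod_cast hi)
  refine ⟨hcd, fun h2 => ?_⟩
  haveI : TopologicalSpace.NoetherianSpace (AlgebraicGeometry.Spec (CommRingCat.of A)) :=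
    inferInstanceAs (TopologicalSpace.NoetherianSpace (PrimeSpectrum A))
  haveI : TopologicalSpace.NoetherianSpace (LocCoh.puncturedOpen A I).toScheme :=
    (LocCoh.puncturedOpen A I).ι.isOpenEmbedding.toIsInducing.noetherianSpace
  refine Groth.Agent.QCoh.isAffine_of_HH_one (fun F _ _ hF => ?_)
  have hP : Coh.IsQCoh ((AlgebraicGeometry.Scheme.Modules.pushforward (LocCoh.puncturedOpen A I).ι).obj F) :=
    Groth.Agent.QCoh.isQCoh_pushforward _ hF
  obtain ⟨N, ⟨eN⟩⟩ := Groth.Agent.QCoh.isQCoh_spec_iff.1 hP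
  obtain ⟨e⟩ := Groth.Agent.S0356.result A I N 1 le_rfl
  haveI : Subsingleton (LocCoh.H I (1 + 1) N) := hcd N 2 (by rw [h2]; rfl)
  haveI := e.toEquiv.subsingleton
  exact Groth.Agent.QCoh.subsingleton_HH_of_iso
    ((AlgebraicGeometry.Scheme.Modules.restrictFunctor (LocCoh.puncturedOpen A I).ι).mapIso eN ≪≫
      (AlgebraicGeometry.Scheme.Modules.restrictFunctorAdjCounitIso (LocCoh.puncturedOpen A I).ι).app F) 1
    (by assumption)

end Groth.Agent.S1797
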