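import Groth.Statements.S1798
import Groth.Agent.LC.PuncturedKill
-- import your own Groth.Agent.* helpers here

set_option autoImplicit false
universe u
open CategoryTheory AlgebraicGeometry
open LocCoh

namespace Groth.Agent.S1798

theorem mem_glob {A : Type u} [CommRing A] (U : (Spec (CommRingCat.of A)).Opens) (a : A) (y : (U : Scheme.{u})) :
    y ∈ (U : Scheme.{u}).basicOpen (SheafHomX.glob (U : Scheme.{u}) a) ↔
      a ∉ (show PrimeSpectrum A from U.ι y).asIdeal := by
  have h : U.ι ⁻¹ᵁ (Spec (CommRingCat.of A)).basicOpen ((Scheme.ΓSpecIso (CommRingCat.of A)).inv a) =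
      (U : Scheme.{u}).basicOpen (Coh.toGlobal U.ι a) := Scheme.preimage_basicOpen U.ι _
  have h2 : SheafHomX.glob (U : Scheme.{u}) a = Coh.toGlobal U.ι a := by
    show ((U : Scheme.{u}).presheaf.map (homOfLE (le_top : (⊤ : (U : Scheme.{u}).Opens) ≤ ⊤)).op).hom _ = _
    rw [show homOfLE (le_top : (⊤ : (U : Scheme.{u}).Opens) ≤ ⊤) = 𝟙 _ from Subsingleton.elim _ _, op_id,
      CategoryTheory.Functor.map_id]
    rfl
  rw [h2, ← h, basicOpen_eq_of_affine]
  rfl

/-- Let A be a ring, J ⊆ I finitely generated ideals, U the open complement of V(I) in Spec A and p ≥ 0.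
If some power of J kills H^p(U, O_U), then for each finite locally free O_U-module F some power of J
kills H^p(U, F). -/
theorem result (A : Type u) [CommRing A] (J I : Ideal A) (hJI : J ≤ I) (hJ : J.FG) (hI : I.FG) (p n : ℕ) (hO : ∀ a ∈ J ^ n, ∀ x : Coh.HH (↑(LocCoh.puncturedOpen A I)) (Coh.structureModule (↑(LocCoh.puncturedOpen A I))) p, a • x = 0) (F : (↑(LocCoh.puncturedOpen A I) : Scheme.{u}).Modules) (hF : FlatMod.IsFinLocFree F) : ∃ m : ℕ, ∀ a ∈ J ^ m, ∀ x : Coh.HH (↑(LocCoh.puncturedOpen A I)) F p, a • x = 0 := by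
  let U := LocCoh.puncturedOpen A I
  obtain ⟨fs, hfs⟩ := hI
  have hc : IsCompact (U : Set (Spec (CommRingCat.of A))) := by
    have h : (U : Set (Spec (CommRingCat.of A))) = ⋃ f ∈ fs, (PrimeSpectrum.basicOpen f : Set (PrimeSpectrum A)) := by
      show (PrimeSpectrum.zeroLocus (I : Set A))ᶜ = _
      rw [← hfs, PrimeSpectrum.zeroLocus_span]
      ext (x : PrimeSpectrum A)
      simp [PrimeSpectrum.mem_zeroLocus, Set.not_subset]
    rw [h]
    exact fs.isCompact_biUnion fun f _ => PrimeSpectrum.isCompact_basicOpen f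
  haveI : CompactSpace (U : Scheme.{u}) := isCompact_iff_compactSpace.1 hc
  haveI : QuasiCompact U.ι := inferInstance
  haveI : (U : Scheme.{u}).IsQuasiAffine := Scheme.IsQuasiAffine.of_isImmersion U.ι
  refine LCPunct.exists_pow_smul_HH I J ⟨fs, hfs⟩ hJI p n (fun x W hxW => ?_) (fun q hq => ?_) hO F hF
  · obtain ⟨_, ⟨f, rfl⟩, hxf, hle⟩ :=
      PrimeSpectrum.isTopologicalBasis_basic_opens.exists_subset_of_mem_open
        (show (U.ι x : PrimeSpectrum A) ∈ (U.ι ''ᵁ W : (Spec (CommRingCat.of A)).Opens) from ⟨x, hxW, rfl⟩)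
        (U.ι ''ᵁ W).2
    refine ⟨f, (mem_glob U f x).2 hxf, fun y hy => ?_⟩
    obtain ⟨w, hw, e⟩ := hle ((mem_glob U f y).1 hy)
    exact U.ι.isOpenEmbedding.injective e ▸ hw
  · refine ⟨⟨q, hq⟩, fun f hf hm => ?_⟩
    exact (mem_glob U f _).1 hm hf


end Groth.Agent.S1798
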