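import Groth.Statements.S17985
import Groth.Agent.WeilNumLib.Central
import Groth.Agent.WeilNumLib.Gor
import Groth.Agent.EGA41Lib.IntDim
import Mathlib.RingTheory.KrullDimension.PID

set_option autoImplicit false
universe u
open MvPolynomial
open WeilNum

namespace Groth.Agent.S17985

/-- Let p be a prime, e ≥ 1 and q = p^e. Let (π_i) be a nonempty finite family of pairwise nonconjugate
Weil q-numbers: π_i is an element of a field K_i of characteristic zero, integral over ℤ with
minimal polynomial P_i, every complex root of P_i has absolute value √q, and P_i ≠ P_j for i ≠ j.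
Suppose the total degree Σ_i deg P_i is even, equal to 2D. Let R_w be the minimal central order, the
image of ℤ[F, V] → ∏_i K_i, F ↦ (π_i), V ↦ (q/π_i). Then R_w is free of rank 2D as a ℤ-module, has
Krull dimension 1, and is a Gorenstein ring (Noetherian, with all localizations at primes of finite
injective dimension over themselves). -/
theorem result (p e : ℕ) [Fact p.Prime] (he : 0 < e)
    (ι : Type) [Fintype ι] (K : ι → Type u) [∀ i, Field (K i)] [∀ i, CharZero (K i)] (π : ∀ i, K i)
    (hint : ∀ i, IsIntegral ℤ (π i))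
    (hweil : ∀ i, ∀ z ∈ (minpoly ℤ (π i)).aroots ℂ, ‖z‖ = Real.sqrt ((p : ℝ) ^ e))
    (hinj : ∀ i j, minpoly ℤ (π i) = minpoly ℤ (π j) → i = j)
    [Nonempty ι] (D : ℕ) (hD : ∑ i, (minpoly ℤ (π i)).natDegree = 2 * D) :
    Module.Free ℤ (MvPolynomial.aeval ![fun i => π i, fun i => ((p : K i) ^ e) / π i] :
        MvPolynomial (Fin 2) ℤ →ₐ[ℤ] ((i : ι) → K i)).range ∧
      Module.finrank ℤ (MvPolynomial.aeval ![fun i => π i, fun i => ((p : K i) ^ e) / π i] :
        MvPolynomial (Fin 2) ℤ →ₐ[ℤ] ((i : ι) → K i)).range = 2 * D ∧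
      ringKrullDim (MvPolynomial.aeval ![fun i => π i, fun i => ((p : K i) ^ e) / π i] :
        MvPolynomial (Fin 2) ℤ →ₐ[ℤ] ((i : ι) → K i)).range = 1 ∧
      LocCoh.IsGorensteinRing (MvPolynomial.aeval ![fun i => π i, fun i => ((p : K i) ^ e) / π i] :
        MvPolynomial (Fin 2) ℤ →ₐ[ℤ] ((i : ι) → K i)).range := by
  have hf := Groth.Agent.WeilNumLib.family_mk (π := π) (D := D) p e hint hweil hinj hD
  rw [← Groth.Agent.WeilNumLib.ev_natPow π p e]
  set R := (Groth.Agent.WeilNumLib.ev π ((p : ℤ) ^ e)).range with hR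
  obtain ⟨h1, h2, h3⟩ := hf.free_range
  refine ⟨h1, h2, ?_, ?_⟩
  · haveI : Module.Finite ℤ R := h3
    haveI : Algebra.IsIntegral ℤ R := Algebra.IsIntegral.of_finite ℤ R
    haveI : CharZero ((i : ι) → K i) := charZero_of_injective_algebraMap (R := ℤ) fun a b h => by
      simpa using congrFun h (Classical.arbitrary ι)
    have hinj : Function.Injective (algebraMap ℤ R) := fun a b h =>
      (algebraMap ℤ ((i : ι) → K i)).injective_int (congrArg Subtype.val h)
    rw [Groth.Agent.EGA41Lib.ringKrullDim_eq_of_integral hinj]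
    exact IsPrincipalIdealRing.ringKrullDim_eq_one ℤ Int.not_isField
  · obtain ⟨h, hh⟩ := hf.exists_h
    refine Groth.Agent.WeilNumLib.gorensteinRing_quot_pair
      (Groth.Agent.WeilNumLib.ev π ((p : ℤ) ^ e)).rangeRestrict.toRingHom
      (AlgHom.rangeRestrict_surjective _) (Groth.Agent.WeilNumLib.prime_fvq hf.q0)
      (Groth.Agent.WeilNumLib.not_dvd_h hf.monic_prod.ne_zero hh) ?_
    rw [← hf.ker_ev hh]
    ext x
    simp [RingHom.mem_ker, Subtype.ext_iff]

end Groth.Agent.S17985
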