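import Groth.Statements.S17989
import Groth.Agent.LC.GorGlobal

set_option autoImplicit false
universe u
open CategoryTheory
open CAlg

namespace Groth.Agent.S17989

/-- Let S be a Gorenstein ring (a Noetherian ring all of whose localizations at prime ideals have finite
injective dimension as modules over themselves) of Krull dimension 1, and let M be a finitely
generated reflexive S-module (the canonical map M → M** is bijective). Then Ext¹_S(M, S) = 0. -/
theorem result (S : Type u) [CommRing S]
    [LocCoh.IsGorensteinRing S] (hdim : ringKrullDim S = 1)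
    (M : Type u) [AddCommGroup M] [Module S M] [Module.Finite S M] [Module.IsReflexive S M] :
    Subsingleton (Abelian.Ext (ModuleCat.of S M) (ModuleCat.of S S) 1) := by
  have hinj : HasInjectiveDimensionLE (ModuleCat.of S S) 1 := by
    refine Groth.Agent.CAlgGlobalDim.hasInjectiveDimensionLE_of_ext_cyclic 1 _ fun J => ?_
    refine Module.subsingleton_of_localization_maximal
      (fun (m : Ideal S) _ => LocalizedModule m.primeCompl
        (Abelian.Ext (ModuleCat.of S (S ⧸ J)) (ModuleCat.of S S) (1 + 1)))
      (fun (m : Ideal S) _ => LocalizedModule.mkLinearMap m.primeCompl _) fun m hm => ?_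
    haveI : m.IsPrime := hm.isPrime
    haveI : IsNoetherianRing (Localization.AtPrime m) :=
      IsLocalization.isNoetherianRing m.primeCompl _ inferInstance
    haveI := LocCoh.IsGorensteinRing.isGorensteinLocalRing_localization m
    obtain ⟨d, hd, -, hv⟩ := Groth.Agent.LC.gorenstein_basic (R := Localization.AtPrime m)
    rw [IsLocalization.AtPrime.ringKrullDim_eq_height m (Localization.AtPrime m)] at hd
    have hdD : d ≤ 1 := by
      have h1 := ((ringKrullDim_le_iff_height_le 1).1 hdim.le) hm.isPrime
      rw [hd] at h1
      exact_mod_cast h1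
    obtain ⟨e⟩ := Groth.Agent.LC.exists_extLoc_ring m.primeCompl (S ⧸ J) (1 + 1)
    haveI := hv (LocalizedModule m.primeCompl (S ⧸ J)) (1 + 1) (by omega)
    exact e.toEquiv.subsingleton
  haveI : Module.Finite S (Module.Dual S M) := inferInstance
  obtain ⟨r, π, hπ⟩ := Module.Finite.exists_fin' S (Module.Dual S M)
  let f : M →ₗ[S] Module.Dual S (Fin r → S) := π.dualMap ∘ₗ Module.Dual.eval S M
  have hf : Function.Injective f :=
    (LinearMap.dualMap_injective_of_surjective hπ).comp (Module.bijective_dual_eval S M).1
  let T : ShortComplex (ModuleCat.{u} S) := ShortComplex.mk (X₁ := ModuleCat.of S M)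
    (X₂ := ModuleCat.of S (Module.Dual S (Fin r → S)))
    (X₃ := ModuleCat.of S (Module.Dual S (Fin r → S) ⧸ LinearMap.range f)) (ModuleCat.ofHom f)
    (ModuleCat.ofHom (LinearMap.range f).mkQ)
    (ModuleCat.hom_ext (LinearMap.ext fun z => (Submodule.Quotient.mk_eq_zero _).2 ⟨z, rfl⟩))
  have hT : T.ShortExact :=
    { exact := (ShortComplex.ShortExact.moduleCat_exact_iff_function_exact _).2
        (LinearMap.exact_map_mkQ_range f)
      mono_f := (ModuleCat.mono_iff_injective _).2 hf
      epi_g := (ModuleCat.epi_iff_surjective _).2 (Submodule.mkQ_surjective _) }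
  haveI : Projective T.X₂ := (IsProjective.iff_projective _).1 (inferInstance : Module.Projective S (Module.Dual S (Fin r → S)))
  refine subsingleton_of_forall_eq 0 fun x => ?_
  obtain ⟨y, rfl⟩ := Abelian.Ext.contravariant_sequence_exact₁ hT (ModuleCat.of S S) x (n₁ := 2) rfl
    ((hT.extClass.comp x rfl).eq_zero_of_hasInjectiveDimensionLT 2 le_rfl)
  rw [Abelian.Ext.eq_zero_of_projective y, Abelian.Ext.comp_zero]

end Groth.Agent.S17989
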