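import Groth.Statements.S17990
import Mathlib.LinearAlgebra.Dual.Lemmas
import Mathlib.RingTheory.Ideal.AssociatedPrime.Finiteness
import Mathlib.RingTheory.Ideal.AssociatedPrime.Localization
import Mathlib.RingTheory.KrullDimension.NonZeroDivisors
import Mathlib.Algebra.Module.FinitePresentation

set_option autoImplicit false
universe u
open CAlg

namespace Groth.Agent.S17990

open Module

section

variable {S : Type u} [CommRing S] [IsNoetherianRing S] {M : Type u} [AddCommGroup M] [Module S M]

theorem trace_eq_top (hdim : ringKrullDim S ≤ 1) [IsReflexive S M]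
    (h : Function.Bijective (algebraMap S (Module.End S M))) :
    ∀ P : Ideal S, P.IsPrime → ∃ (φ : Dual S M) (m : M), φ m ∉ P := by
  intro P hP
  by_contra hne
  push Not at hne
  let τ : Ideal S := Ideal.span (Set.range fun p : Dual S M × M => p.1 p.2)
  have hτP : τ ≤ P := Ideal.span_le.2 (by rintro _ ⟨⟨φ, m⟩, rfl⟩; exact hne φ m)
  have hfaith : ∀ s : S, (∀ (φ : Dual S M) (m : M), s * φ m = 0) → s = 0 := fun s hs => by
    refine h.1 (LinearMap.ext fun m => ?_)
    rw [map_zero, Module.algebraMap_end_apply, LinearMap.zero_apply]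
    exact (Module.bijective_dual_eval S M).1 (LinearMap.ext fun φ => by simpa using hs φ m)
  obtain ⟨c, hcτ, hc⟩ : ∃ c ∈ τ, c ∈ nonZeroDivisors S := by
    by_contra hno
    push Not at hno
    have hsub : (τ : Set S) ⊆ ⋃ p ∈ associatedPrimes S S, (p : Set S) := fun x hx => by
      rw [biUnion_associatedPrimes_eq_compl_regular]
      intro hreg
      exact hno x hx (mem_nonZeroDivisors_iff_right.2 fun z hz =>
        hreg.right_eq_zero_of_smul (by rwa [smul_eq_mul, mul_comm]))
    obtain ⟨p, hp, hle⟩ := (Ideal.subset_union_prime_finite (associatedPrimes.finite S S) ⊥ ⊥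
      (fun p hp _ _ => hp.1)).1 hsub
    obtain ⟨hpp, x, hx⟩ := isAssociatedPrime_iff.1 hp
    have hx0 : x ≠ 0 := by
      rintro rfl
      apply hpp.ne_top
      rw [hx, eq_top_iff]
      intro r _
      simp
    refine hx0 (hfaith x fun φ m => ?_)
    have hmem : φ m ∈ p := hle (Ideal.subset_span ⟨(φ, m), rfl⟩)
    rw [hx] at hmem
    rw [mul_comm]
    simpa using hmem
  have hass : P ∈ associatedPrimes S (S ⧸ Ideal.span {c}) := by
    have hle : Ideal.span {c} ≤ P := (Ideal.span_singleton_le_iff_mem P).2 (hτP hcτ)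
    obtain ⟨Q, hQ, hQP⟩ := Ideal.exists_minimalPrimes_le hle
    haveI : Q.IsPrime := hQ.1.1
    have hQeq : Q = P := by
      by_contra hQne
      obtain ⟨q, hq, hqQ⟩ := Ideal.exists_minimalPrimes_le (bot_le : (⊥ : Ideal S) ≤ Q)
      haveI := Ideal.minimalPrimes_isPrime hq
      have hqlt : q < Q := lt_of_le_of_ne hqQ (by
        rintro rfl
        exact Set.disjoint_left.1 (Ideal.disjoint_nonZeroDivisors_of_mem_minimalPrimes hq)
          (hQ.1.2 (Ideal.mem_span_singleton_self c)) hc)
      have hlt : (Q : Ideal S) < P := lt_of_le_of_ne hQP hQne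
      let f : Fin 3 → PrimeSpectrum S := ![⟨q, inferInstance⟩, ⟨Q, inferInstance⟩, ⟨P, hP⟩]
      have hf : StrictMono f := Fin.strictMono_iff_lt_succ.2 fun i => by
        fin_cases i
        · exact hqlt
        · exact hlt
      have := (Order.LTSeries.length_le_krullDim (LTSeries.mk 2 f hf)).trans hdim
      norm_num at this
    rw [← hQeq]
    refine Module.associatedPrimes.minimalPrimes_annihilator_subset_associatedPrimes S _ ?_
    rw [Ideal.annihilator_quotient]
    exact hQ
  obtain ⟨-, ybar, hy⟩ := isAssociatedPrime_iff.1 hass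
  obtain ⟨y, rfl⟩ := Submodule.Quotient.mk_surjective _ ybar
  have hy' : ∀ x : P, ∃ z, c * z = (x : S) * y := fun x => by
    have hmem := x.2
    simp only [hy, Submodule.mem_colon_singleton, Submodule.mem_bot, ← Submodule.Quotient.mk_smul,
      Submodule.Quotient.mk_eq_zero, smul_eq_mul] at hmem
    obtain ⟨z, hz⟩ := Ideal.mem_span_singleton'.1 hmem
    exact ⟨z, by rw [mul_comm, hz]⟩
  choose θ hθ using hy'
  have hcc : ∀ a b : S, c * a = c * b → a = b := fun a b hab =>
    sub_eq_zero.1 ((mem_nonZeroDivisors_iff_right.1 hc) _ (by rw [sub_mul, mul_comm a, hab, mul_comm b, sub_self]))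
  let Θ₀ : P →ₗ[S] S :=
    { toFun := θ
      map_add' := fun u v => hcc _ _ (by rw [hθ, mul_add, hθ, hθ, Submodule.coe_add, add_mul])
      map_smul' := fun r u => hcc _ _ (by
        rw [hθ, RingHom.id_apply, smul_eq_mul, mul_left_comm, hθ, Submodule.coe_smul, smul_eq_mul,
          mul_assoc]) }
  let Θ : Dual S M →ₗ[S] Dual S M :=
    { toFun := fun φ => Θ₀ ∘ₗ φ.codRestrict P (hne φ)
      map_add' := fun φ ψ => LinearMap.ext fun m => by
        show Θ₀ _ = Θ₀ _ + Θ₀ _
        rw [← map_add]; rfl
      map_smul' := fun r φ => LinearMap.ext fun m => by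
        show Θ₀ _ = r • Θ₀ _
        rw [← map_smul]; rfl }
  obtain ⟨r, hr⟩ := h.2 ((Module.evalEquiv S M).symm.toLinearMap ∘ₗ Θ.dualMap ∘ₗ
    (Module.evalEquiv S M).toLinearMap)
  have hscal : ∀ (φ : Dual S M) (m : M), θ ⟨φ m, hne φ m⟩ = r * φ m := fun φ m => by
    have := congrArg (fun e : Module.End S M => φ (e m)) hr
    simp only [Module.algebraMap_end_apply, map_smul, LinearMap.comp_apply, LinearEquiv.coe_coe,
      apply_evalEquiv_symm_apply] at this
    rw [← smul_eq_mul, this]
    rfl
  have hτ : ∀ (x : S) (hx : x ∈ τ), θ ⟨x, hτP hx⟩ = r * x := by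
    intro x hx
    induction hx using Submodule.span_induction with
    | mem x hx => obtain ⟨⟨φ, m⟩, rfl⟩ := hx; exact hscal φ m
    | zero => exact (map_zero Θ₀).trans (mul_zero r).symm
    | add u v hu hv hu' hv' =>
      rw [mul_add, ← hu', ← hv']
      exact map_add Θ₀ ⟨u, hτP hu⟩ ⟨v, hτP hv⟩
    | smul a u hu hu' =>
      calc θ ⟨a • u, hτP (τ.smul_mem a hu)⟩ = a * θ ⟨u, hτP hu⟩ := map_smul Θ₀ a ⟨u, hτP hu⟩
        _ = r * (a • u) := by rw [hu', smul_eq_mul]; ring
  have hyc : c * y = c * (r * c) := by
    rw [← hτ c hcτ, hθ]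
  have : y ∈ Ideal.span {c} := Ideal.mem_span_singleton'.2 ⟨r, (hcc _ _ hyc).symm⟩
  apply hP.ne_top
  rw [hy, (Submodule.Quotient.mk_eq_zero _).2 this, eq_top_iff]
  intro a _
  simp

theorem locally_free (hdim : ringKrullDim S ≤ 1) [IsReflexive S M]
    (h : Function.Bijective (algebraMap S (Module.End S M))) (P : Ideal S) [P.IsPrime] :
    Nonempty (LocalizedModule P.primeCompl M ≃ₗ[Localization.AtPrime P] Localization.AtPrime P) := by
  obtain ⟨φ, m₀, hu⟩ := trace_eq_top hdim h P inferInstance
  obtain ⟨r, hr⟩ := h.2 ((LinearMap.toSpanSingleton S M m₀) ∘ₗ φ)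
  have hr' : ∀ x, r • x = φ x • m₀ := fun x => DFunLike.congr_fun hr x
  have hru : r * φ m₀ = φ m₀ * φ m₀ := by
    have := congrArg φ (hr' m₀); simpa using this
  have key : ∀ x, (φ m₀ * φ m₀) • x = (φ m₀ * φ x) • m₀ := fun x => by
    rw [← hru, mul_comm r, mul_smul, hr', ← mul_smul]
  let L := Localization.AtPrime P
  let f : LocalizedModule P.primeCompl M →ₗ[L] L :=
    IsLocalizedModule.mapExtendScalars P.primeCompl (LocalizedModule.mkLinearMap P.primeCompl M)
      (Algebra.linearMap S L) L φ
  have hf : ∀ (x : M) (s : P.primeCompl), f (LocalizedModule.mk x s) = IsLocalization.mk' L (φ x) s :=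
    fun x s => by
      show IsLocalizedModule.map P.primeCompl _ _ φ (LocalizedModule.mk x s) = _
      rw [IsLocalizedModule.mk_eq_mk', IsLocalizedModule.map_mk']
      exact (IsLocalizedModule.mk'_eq_iff.2 (by
        simp only [Algebra.linearMap_apply, Submonoid.smul_def, Algebra.smul_def]
        rw [IsLocalization.mk'_spec']))
  refine ⟨LinearEquiv.ofBijective f ⟨(injective_iff_map_eq_zero f).2 ?_, ?_⟩⟩
  · intro z hz
    induction z using LocalizedModule.induction_on with
    | h x s =>
      rw [hf, IsLocalization.mk'_eq_zero_iff] at hz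
      obtain ⟨t, ht⟩ := hz
      rw [← LocalizedModule.zero_mk s, LocalizedModule.mk_eq]
      refine ⟨⟨(t : S) * (φ m₀ * φ m₀), P.primeCompl.mul_mem t.2 (P.primeCompl.mul_mem hu hu)⟩, ?_⟩
      rw [smul_zero, smul_zero, Submonoid.smul_def, smul_comm, mul_smul, key, ← mul_smul,
        mul_left_comm, ← mul_assoc, mul_assoc, ht, mul_zero, zero_smul, smul_zero]
  · intro z
    obtain ⟨a, s, rfl⟩ := IsLocalization.exists_mk'_eq P.primeCompl z
    refine ⟨LocalizedModule.mk (a • m₀) (s * ⟨φ m₀, hu⟩), ?_⟩
    rw [hf, map_smul, smul_eq_mul, IsLocalization.mk'_eq_iff_eq]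
    exact congrArg _ (by rw [Submonoid.coe_mul]; ring)

theorem bijective_end [Module.Finite S M]
    (h : ∀ (P : Ideal S) (_ : P.IsPrime),
      Nonempty (LocalizedModule P.primeCompl M ≃ₗ[Localization.AtPrime P] Localization.AtPrime P)) :
    Function.Bijective (algebraMap S (Module.End S M)) := by
  refine ⟨(injective_iff_map_eq_zero _).2 fun s hs => ?_, fun f => ?_⟩
  · refine Module.eq_zero_of_localization_maximal (fun P [P.IsMaximal] => Localization.AtPrime P)
      (fun P [P.IsMaximal] => Algebra.linearMap S _) s fun P hP => ?_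
    obtain ⟨e⟩ := h P inferInstance
    obtain ⟨z, hz⟩ := e.surjective 1
    induction z using LocalizedModule.induction_on with
    | h x t =>
      have h0 : algebraMap S (Localization.AtPrime P) s • LocalizedModule.mk x t = 0 := by
        have hsx := DFunLike.congr_fun hs x
        rw [Module.algebraMap_end_apply, LinearMap.zero_apply] at hsx
        rw [algebraMap_smul, LocalizedModule.smul'_mk, hsx, LocalizedModule.zero_mk]
      have := congrArg e h0
      rw [map_smul, hz, map_zero, smul_eq_mul, mul_one] at this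
      exact this
  · let I : Ideal S :=
      { carrier := {t | ∃ a : S, t • f = a • (1 : Module.End S M)}
        zero_mem' := ⟨0, by simp⟩
        add_mem' := fun {u v} ⟨a, ha⟩ ⟨b, hb⟩ => ⟨a + b, by rw [add_smul, add_smul, ha, hb]⟩
        smul_mem' := fun c u ⟨a, ha⟩ => ⟨c * a, by rw [smul_eq_mul, mul_smul, ha, mul_smul]⟩ }
    have hI : I = ⊤ := by
      by_contra hI
      obtain ⟨P, hP, hIP⟩ := Ideal.exists_le_maximal I hI
      obtain ⟨e⟩ := h P inferInstance
      let L := Localization.AtPrime P
      let fP := IsLocalizedModule.mapExtendScalars P.primeCompl (LocalizedModule.mkLinearMap P.primeCompl M)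
        (LocalizedModule.mkLinearMap P.primeCompl M) L f
      obtain ⟨a, s, ha⟩ := IsLocalization.exists_mk'_eq P.primeCompl (e (fP (e.symm 1)))
      have hscalar : ∀ z, fP z = IsLocalization.mk' L a s • z := fun z => e.injective (by
        rw [map_smul, ha]
        conv_lhs => rw [show z = e z • e.symm 1 by
          apply e.injective; rw [map_smul, e.apply_symm_apply, smul_eq_mul, mul_one]]
        rw [map_smul, map_smul, smul_eq_mul, smul_eq_mul, mul_comm])
      obtain ⟨t, ht⟩ := Module.Finite.fg_top (R := S) (M := M)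
      have hx : ∀ x : M, ∃ u : P.primeCompl, (u : S) • ((s : S) • f x) = (u : S) • (a • x) := fun x => by
        have h1 := hscalar (LocalizedModule.mkLinearMap P.primeCompl M x)
        rw [show fP (LocalizedModule.mkLinearMap P.primeCompl M x) =
          LocalizedModule.mkLinearMap P.primeCompl M (f x) from IsLocalizedModule.map_apply _ _ _ _ _] at h1
        have h2 := congrArg (algebraMap S L (s : S) • ·) h1
        simp only [← mul_smul, IsLocalization.mk'_spec', algebraMap_smul, ← map_smul] at h2
        obtain ⟨u, hu⟩ := (IsLocalizedModule.eq_iff_exists P.primeCompl _).1 h2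
        exact ⟨u, by simpa only [Submonoid.smul_def, map_smul] using hu⟩
      choose u hu using hx
      let U : P.primeCompl := ∏ x ∈ t, u x
      have hfin : ((U : S) * s) • f = ((U : S) * a) • (1 : Module.End S M) := by
        refine LinearMap.ext_on (ht : Submodule.span S (t : Set M) = ⊤) fun x hx => ?_
        obtain ⟨k, hk⟩ := Finset.dvd_prod_of_mem u hx
        show ((U : S) * s) • f x = ((U : S) * a) • x
        rw [show (U : S) = k * (u x : S) by rw [show U = u x * k from hk, Submonoid.coe_mul, mul_comm]]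
        simp only [mul_smul]
        rw [hu x]
      exact (P.primeCompl.mul_mem U.2 s.2) (hIP ⟨_, hfin⟩)
    obtain ⟨a, ha⟩ : (1 : S) ∈ I := hI ▸ trivial
    exact ⟨a, by rw [Algebra.algebraMap_eq_smul_one, ← ha, one_smul]⟩

end

/-- Let S be a reduced Gorenstein ring (Noetherian, all localizations at primes of finite injective
dimension over themselves) whose Krull dimension is ≤ 1; let M be a finitely generated S-module
which is reflexive (M → M** bijective). Then M is locally free of rank 1, i.e. the localization M_P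
is isomorphic to S_P as an S_P-module for every prime ideal P of S, if and only if the natural ring
map S → End_S(M), sending s to multiplication by s, is bijective. -/
theorem result (S : Type u) [CommRing S]
    [IsReduced S] [LocCoh.IsGorensteinRing S] (hdim : ringKrullDim S ≤ 1)
    (M : Type u) [AddCommGroup M] [Module S M] [Module.Finite S M] [Module.IsReflexive S M] :
    (∀ (P : Ideal S) (_ : P.IsPrime),
        Nonempty (LocalizedModule P.primeCompl M ≃ₗ[Localization.AtPrime P] Localization.AtPrime P)) ↔
      Function.Bijective (algebraMap S (Module.End S M)) := by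
  exact ⟨bijective_end, fun h P hP => locally_free hdim h P⟩

end Groth.Agent.S17990
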