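import Groth.Statements.S17992
import Groth.Agent.CSEquiv.Realize
import Groth.Agent.CSEquiv.Concrete
-- import your own Groth.Agent.* helpers here

set_option autoImplicit false
set_option linter.style.haveILetI false
set_option backward.isDefEq.respectTransparency false
set_option backward.isDefEq.respectTransparency.types false
universe u
open CategoryTheory MonoidalCategory CartesianMonoidalCategory MonObj GrpObj AlgebraicGeometry MvPolynomial
open AbVar

namespace Groth.Agent.S17992

/-- The functor M_w = Hom(−, A_w) reaches every reflexive R_w-module, in the following setting: let p be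
a prime and k a field with p elements. Let (π_j) be a finite family of pairwise nonconjugate nonreal
Weil p-numbers (π_j in a field K_j of characteristic zero, integral over ℤ with minimal polynomial
P_j, all complex roots of P_j of absolute value √p and none real, P_i ≠ P_j for i ≠ j), P_w = ∏_j
P_j, and R_w ⊆ ∏_j K_j the minimal central order, the image of ℤ[F, V] → ∏_j K_j, F ↦ (π_j), V ↦
(p/π_j). An abelian variety over k means a proper, geometrically integral commutative group scheme
over k, taken with its p-Frobenius endomorphism π (the identity on points and the p-th power map on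
sections; a homomorphism); it lies in AV_w when P_w(π) = 0 in its endomorphism ring. Let A_w be an
abelian variety over k together with a ring isomorphism ρ : R_w ≅ End(A_w) sending the class of F to
the Frobenius of A_w (so A_w lies in AV_w and its endomorphism ring is the minimal central order);
Hom(X, A_w) is a module over End(A_w) ≅ R_w by postcomposition. Then for every End(A_w)-module M
which is finitely generated and free as a ℤ-module (equivalently, a finitely generated reflexive
R_w-module, since R_w is Gorenstein) there is an abelian variety B in AV_w (with its p-Frobenius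
π_B, P_w(π_B) = 0) and an End(A_w)-linear isomorphism M ≅ Hom(B, A_w). -/
theorem result (p : ℕ) [Fact p.Prime] (k : Type u) [Field k] [Finite k] (hk : Nat.card k = p)
    (J : Type) [Fintype J] (K : J → Type) [∀ j, Field (K j)] [∀ j, CharZero (K j)] (ϖ : ∀ j, K j)
    (hint : ∀ j, IsIntegral ℤ (ϖ j))
    (hweil : ∀ j, ∀ z ∈ (minpoly ℤ (ϖ j)).aroots ℂ, ‖z‖ = Real.sqrt p)
    (hnr : ∀ j, ∀ z ∈ (minpoly ℤ (ϖ j)).aroots ℂ, z.im ≠ 0)
    (hinj : ∀ i j, minpoly ℤ (ϖ i) = minpoly ℤ (ϖ j) → i = j)
    (Aw : Over (Spec (CommRingCat.of k))) [GrpObj Aw] [IsCommMonObj Aw] [IsProper Aw.hom] [GeometricallyIntegral Aw.hom]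
    (πw : Aw ⟶ Aw) [IsMonHom πw] (hπwb : πw.left.base = 𝟙 _) (hπwle : ∀ U : Aw.left.Opens, U ≤ πw.left ⁻¹ᵁ U)
    (hπwapp : ∀ (U : Aw.left.Opens) (s : Γ(Aw.left, U)), (πw.left.appLE U U (hπwle U)).hom s = s ^ p)
    (ρw : (MvPolynomial.aeval ![fun j => ϖ j, fun j => (p : K j) / ϖ j] : MvPolynomial (Fin 2) ℤ →ₐ[ℤ] ((j : J) → K j)).range ≃+* EndAV.End Aw)
    (hρw : ρw ⟨(MvPolynomial.aeval ![fun j => ϖ j, fun j => (p : K j) / ϖ j] : MvPolynomial (Fin 2) ℤ →ₐ[ℤ] ((j : J) → K j)) (X 0), AlgHom.mem_range_self _ _⟩ = EndAV.End.of πw)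
    (M : Type u) [AddCommGroup M] [Module (EndAV.End Aw) M] [Module.Finite ℤ M] [Module.Free ℤ M] :
    ∃ (B : Over (Spec (CommRingCat.of k))) (_ : GrpObj B) (_ : IsCommMonObj B) (πB : B ⟶ B) (_ : IsMonHom πB)
      (hπBle : ∀ U : B.left.Opens, U ≤ πB.left ⁻¹ᵁ U),
      IsProper B.hom ∧ GeometricallyIntegral B.hom ∧ πB.left.base = 𝟙 _ ∧
      (∀ (U : B.left.Opens) (s : Γ(B.left, U)), (πB.left.appLE U U (hπBle U)).hom s = s ^ p) ∧
      Polynomial.aeval (EndAV.End.of πB) (∏ j, minpoly ℤ (ϖ j)) = 0 ∧
      Nonempty (M ≃ₗ[EndAV.End Aw] EndAV.Hom B Aw) := by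
  have hπw := CSEquiv.frobE_eq_of hk πw hπwb hπwle hπwapp
  have h := CSEquiv.data_of hint hweil hnr hinj ρw (hρw.trans hπw.symm) hk
  obtain ⟨B, i1, i2, i3, i4, hB, hiso⟩ := h.exists_realization M
  have hpm := CSEquiv.isPowMap_frobE (k := k) B
  exact ⟨B, i1, i2, EndAV.End.toHom (CSEquiv.frobE B), inferInstance, hpm.le, i3, i4,
    CSEquiv.base_eq_id hpm, fun U s => by rw [← hk]; exact hpm.app U (hpm.le U) s, hB, hiso⟩

end Groth.Agent.S17992
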