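import Groth.Statements.S17999
import Groth.Agent.WeilNumLib.Central
import Groth.Agent.WeilNumLib.PicLift
import Mathlib.RingTheory.Ideal.GoingUp
import Mathlib.GroupTheory.FiniteAbelian.Basic
import Mathlib.RingTheory.Polynomial.Basic

set_option autoImplicit false
universe u
open MvPolynomial
open WeilNum

namespace Groth.Agent.S17999

/-- The case of finite sets of Weil numbers; let p be a prime, e ≥ 1 and q = p^e; let (π_j)_{j ∈ J} be a
finite family of pairwise nonconjugate Weil q-numbers (π_j in a field K_j of characteristic zero,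
integral over ℤ with minimal polynomial P_j, all complex roots of P_j of absolute value √q, P_i ≠
P_j for i ≠ j), and let e : J' → J be an injective map selecting a subfamily. Let I_w, resp. I_v, be
the kernel of ℤ[F, V] → ∏_{j ∈ J} K_j, resp. → ∏_{j' ∈ J'} K_{e(j')}, sending F ↦ (π_j) and V ↦
(q/π_j); then I_w ⊆ I_v and ℤ[F,V]/I_w → ℤ[F,V]/I_v is the natural surjection R_w → R_v of minimal
central orders. Then the induced homomorphism of Picard groups Pic(R_w) → Pic(R_v) is surjective.
The published statement concerns the Picard groups of the pro-rings attached to arbitrary subsets V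
⊆ W of Weil q-number classes; only the case of finite sets is stated here. -/
theorem result (p e : ℕ) [Fact p.Prime] (he : 0 < e)
    (J J' : Type) [Fintype J] [Fintype J'] (emb : J' → J) (hemb : Function.Injective emb)
    (K : J → Type u) [∀ j, Field (K j)] [∀ j, CharZero (K j)] (ϖ : ∀ j, K j)
    (hint : ∀ j, IsIntegral ℤ (ϖ j))
    (hweil : ∀ j, ∀ z ∈ (minpoly ℤ (ϖ j)).aroots ℂ, ‖z‖ = Real.sqrt ((p : ℝ) ^ e))
    (hinj : ∀ i j, minpoly ℤ (ϖ i) = minpoly ℤ (ϖ j) → i = j)
    (hle : RingHom.ker (MvPolynomial.aeval ![fun j => ϖ j, fun j => ((p : K j) ^ e) / ϖ j] :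
          MvPolynomial (Fin 2) ℤ →ₐ[ℤ] ((j : J) → K j)) ≤
        RingHom.ker (MvPolynomial.aeval ![fun j' => ϖ (emb j'), fun j' => ((p : K (emb j')) ^ e) / ϖ (emb j')] :
          MvPolynomial (Fin 2) ℤ →ₐ[ℤ] ((j' : J') → K (emb j')))) :
    Function.Surjective (CommRing.Pic.mapRingHom (Ideal.Quotient.factor hle)) := by
  classical
  set θw : MvPolynomial (Fin 2) ℤ →ₐ[ℤ] ((j : J) → K j) :=
    MvPolynomial.aeval ![fun j => ϖ j, fun j => ((p : K j) ^ e) / ϖ j]
  set θv : MvPolynomial (Fin 2) ℤ →ₐ[ℤ] ((j' : J') → K (emb j')) :=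
    MvPolynomial.aeval ![fun j' => ϖ (emb j'), fun j' => ((p : K (emb j')) ^ e) / ϖ (emb j')]
  have hw := fun j => Groth.Agent.WeilNumLib.isWeilPoly_minpoly (hint j) (hweil j)
  have hq : (p : ℤ) ^ e ≠ 0 := pow_ne_zero _ (by exact_mod_cast (Fact.out : p.Prime).ne_zero)
  let S := MvPolynomial (Fin 2) ℤ ⧸ RingHom.ker θv
  let ι' : S →ₐ[ℤ] ((j' : J') → K (emb j')) :=
    (RingHom.kerLift θv.toRingHom).toIntAlgHom
  have hι : Function.Injective ι' := RingHom.kerLift_injective θv.toRingHom
  haveI : IsReduced S := isReduced_of_injective ι' hι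
  haveI : IsNoetherianRing S := inferInstance
  let P := fun j => minpoly ℤ (ϖ j)
  have hroot : ∀ j, Polynomial.aeval (ϖ j) (∏ i, P i) = 0 ∧
      Polynomial.aeval (((p : K j) ^ e) / ϖ j) (∏ i, P i) = 0 := fun j => by
    have h1 : Polynomial.aeval (ϖ j) (P j) = 0 := minpoly.aeval ℤ (ϖ j)
    refine ⟨by rw [map_prod]; exact Finset.prod_eq_zero (Finset.mem_univ j) h1, ?_⟩
    rw [map_prod]
    refine Finset.prod_eq_zero (Finset.mem_univ j) ?_
    rw [show ((p : K j) ^ e) = (((p : ℤ) ^ e : ℤ) : K j) by push_cast; rfl]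
    exact Groth.Agent.WeilNumLib.aeval_div_eq_zero (hw j) hq h1
  have hmon : (∏ i, P i).Monic := Polynomial.monic_prod_of_monic _ _ fun i _ => minpoly.monic (hint i)
  have hgen : ∀ n : Fin 2, IsIntegral ℤ (Ideal.Quotient.mk (RingHom.ker θv) (X n) : S) := fun n => by
    refine ⟨∏ i, P i, hmon, hι ?_⟩
    rw [map_zero, ← Polynomial.aeval_def, ← Polynomial.aeval_algHom_apply]
    funext j'
    rw [show Polynomial.aeval (ι' (Ideal.Quotient.mk (RingHom.ker θv) (X n))) (∏ i, P i) j' =
      Polynomial.aeval (θv (X n) j') (∏ i, P i) from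
      (Polynomial.aeval_algHom_apply (Pi.evalAlgHom ℤ (fun j' => K (emb j')) j') _ _).symm]
    fin_cases n
    · simpa [θv] using (hroot (emb j')).1
    · simpa [θv] using (hroot (emb j')).2
  haveI : Algebra.IsIntegral ℤ S := by
    refine ⟨fun s => ?_⟩
    obtain ⟨g, rfl⟩ := Ideal.Quotient.mk_surjective s
    induction g using MvPolynomial.induction_on with
    | C c => exact isIntegral_algebraMap (R := ℤ) (A := S) (x := c)
    | add a b ha hb => rw [map_add]; exact ha.add hb
    | mul_X a n ha => rw [map_mul]; exact ha.mul (hgen n)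
  haveI : Module.Finite ℤ S := Algebra.IsIntegral.finite
  let G : MvPolynomial (Fin 2) ℤ :=
    Polynomial.aeval (X 0) (∏ i ∈ Finset.univ.filter (fun i => i ∉ Set.range emb), P i)
  refine Groth.Agent.WeilNumLib.pic_surjective _ (Ideal.Quotient.factor_surjective hle)
    (Ideal.span {Ideal.Quotient.mk (RingHom.ker θw) G}) ?_ ?_
  · rw [eq_bot_iff, Ideal.mul_le]
    intro a ha z hz
    obtain ⟨c, rfl⟩ := Ideal.mem_span_singleton'.1 ha
    obtain ⟨z, rfl⟩ := Ideal.Quotient.mk_surjective z
    rw [RingHom.mem_ker, Ideal.Quotient.factor_mk, Ideal.Quotient.eq_zero_iff_mem] at hz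
    rw [Submodule.mem_bot, mul_assoc, ← map_mul, Ideal.Quotient.eq_zero_iff_mem.2, mul_zero]
    rw [RingHom.mem_ker, map_mul]
    funext j
    by_cases hj : j ∈ Set.range emb
    · obtain ⟨j', rfl⟩ := hj
      have h0 : θw z (emb j') = 0 := by
        have h2 : θw z (emb j') = θv z j' := by
          have : (Pi.evalAlgHom ℤ K (emb j')).comp θw =
              (Pi.evalAlgHom ℤ (fun j' => K (emb j')) j').comp θv := by
            refine MvPolynomial.algHom_ext fun n => ?_
            fin_cases n <;> simp [θw, θv]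
          exact AlgHom.congr_fun this z
        rw [h2]; exact congrFun hz j'
      rw [Pi.mul_apply, h0, mul_zero]; rfl
    · have h0 : θw G j = 0 := by
        rw [show θw G j = Polynomial.aeval (θw (X 0) j)
          (∏ i ∈ Finset.univ.filter (fun i => i ∉ Set.range emb), P i) from
          ((Polynomial.aeval_algHom_apply ((Pi.evalAlgHom ℤ K j).comp θw) _ _)).symm, map_prod]
        refine Finset.prod_eq_zero (Finset.mem_filter.2 ⟨Finset.mem_univ j, hj⟩) ?_
        simp [θw, P]
      rw [Pi.mul_apply, h0, zero_mul]; rfl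
  · rw [Ideal.map_span, Set.image_singleton, Ideal.Quotient.factor_mk]
    set x : S := Ideal.Quotient.mk (RingHom.ker θv) G with hx
    have hreg : ∀ {y : S}, y * x = 0 → y = 0 := fun {y} hy => hι (by
      rw [map_zero]
      funext j'
      have h1 := congrFun (congrArg ι' hy) j'
      rw [map_mul, map_zero, Pi.mul_apply, Pi.zero_apply] at h1
      refine (mul_eq_zero.1 h1).resolve_right fun h2 => ?_
      have h3 : Polynomial.aeval (ϖ (emb j')) (∏ i ∈ Finset.univ.filter (fun i => i ∉ Set.range emb), P i) = 0 := by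
        rw [← h2]
        show _ = ((Pi.evalAlgHom ℤ (fun j' => K (emb j')) j').comp θv) G
        rw [← Polynomial.aeval_algHom_apply]
        simp [θv]
      rw [map_prod, Finset.prod_eq_zero_iff] at h3
      obtain ⟨i, hi, h4⟩ := h3
      refine (Finset.mem_filter.1 hi).2 ⟨j', hinj _ _ ?_⟩
      exact Polynomial.eq_of_monic_of_associated (minpoly.monic (hint _)) (minpoly.monic (hint _))
        ((minpoly.irreducible (hint _)).associated_of_dvd (minpoly.irreducible (hint _))
          (minpoly.isIntegrallyClosed_dvd (hint _) h4)))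
    have hxi : IsIntegral ℤ x := Algebra.IsIntegral.isIntegral x
    obtain ⟨i, hi0, himem⟩ := Ideal.exists_coeff_ne_zero_mem_comap_of_non_zero_divisor_root_mem
      (f := algebraMap ℤ S) hreg (Ideal.mem_span_singleton_self x) (minpoly.ne_zero hxi) (minpoly.aeval ℤ x)
    haveI : Finite (S ⧸ Ideal.span {x}) := by
      haveI : Module.Finite ℤ (S ⧸ Ideal.span {x}) :=
        Module.Finite.of_surjective ((Ideal.span {x}).restrictScalars ℤ).mkQ (Submodule.mkQ_surjective _)
      refine Module.finite_of_fg_torsion _ fun y => ?_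
      obtain ⟨y, rfl⟩ := Ideal.Quotient.mk_surjective y
      refine ⟨⟨(minpoly ℤ x).coeff i, mem_nonZeroDivisors_of_ne_zero hi0⟩, ?_⟩
      show Ideal.Quotient.mk (Ideal.span {x}) ((minpoly ℤ x).coeff i • y) = 0
      rw [Ideal.Quotient.eq_zero_iff_mem, zsmul_eq_mul]
      exact Ideal.mul_mem_right _ _ (by simpa using himem)
    exact Finite.of_injective MaximalSpectrum.asIdeal fun a b h => MaximalSpectrum.ext h

end Groth.Agent.S17999
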