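import Groth.Statements.S18001
import Groth.Agent.CSEquiv.SubVar
import Groth.Agent.CSEquiv.Concrete
-- import your own Groth.Agent.* helpers here

set_option autoImplicit false
set_option linter.style.haveILetI false
set_option backward.isDefEq.respectTransparency false
set_option backward.isDefEq.respectTransparency.types false
universe u
open CategoryTheory MonoidalCategory CartesianMonoidalCategory MonObj GrpObj AlgebraicGeometry MvPolynomial
open AbVar

namespace Groth.Agent.S18001

/-- Let p be a prime and k a field with p elements. Let (π_j) be a finite family of pairwise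
nonconjugate nonreal Weil p-numbers (π_j in a field K_j of characteristic zero, integral over ℤ with
minimal polynomial P_j, all complex roots of P_j of absolute value √p and none real, P_i ≠ P_j for i
≠ j), P_w = ∏_j P_j, and R_w ⊆ ∏_j K_j the minimal central order, the image of ℤ[F, V] → ∏_j K_j, F
↦ (π_j), V ↦ (p/π_j). An abelian variety over k means a proper, geometrically integral commutative
group scheme over k, taken with its p-Frobenius endomorphism π (the identity on points and the p-th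
power map on sections; a homomorphism); it lies in AV_w when P_w(π) = 0 in its endomorphism ring.
Let A_w be an abelian variety over k together with a ring isomorphism ρ : R_w ≅ End(A_w) sending the
class of F to the Frobenius of A_w (so A_w lies in AV_w and its endomorphism ring is the minimal
central order); Hom(X, A_w) is a module over End(A_w) ≅ R_w by postcomposition. Let e : J' → J be
injective, selecting a subfamily of the π_j whose classes form v ⊆ w, with P_v = ∏_{j'} P_{e(j')}
and R_v the image of ℤ[F, V] → ∏_{j'} K_{e(j')}. Let j : C → A_w be the abelian subvariety of A_w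
generated by the images of all homomorphisms B → A_w with B in AV_v, that is: C is an abelian
variety over k with p-Frobenius π_C, j is a homomorphism whose underlying morphism is a closed
immersion, every homomorphism f : B → A_w with B in AV_v factors through j, and for every other
homomorphism j′ : C′ → A_w which is a closed immersion and through which all such f factor, j
factors through j′. Then C lies in AV_v, i.e. P_v(π_C) = 0 in End(C), and there is a ring
isomorphism R_v ≅ End(C) sending F to π_C; in particular the endomorphism ring of C is the minimal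
central order R_v; the published formulation of this part, freeness of rank one of the Tate and
Dieudonné modules of C, is equivalent to it and is not used here. -/
theorem result (p : ℕ) [Fact p.Prime] (k : Type u) [Field k] [Finite k] (hk : Nat.card k = p)
    (J : Type) [Fintype J] (K : J → Type) [∀ j, Field (K j)] [∀ j, CharZero (K j)] (ϖ : ∀ j, K j)
    (hint : ∀ j, IsIntegral ℤ (ϖ j))
    (hweil : ∀ j, ∀ z ∈ (minpoly ℤ (ϖ j)).aroots ℂ, ‖z‖ = Real.sqrt p)
    (hnr : ∀ j, ∀ z ∈ (minpoly ℤ (ϖ j)).aroots ℂ, z.im ≠ 0)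
    (hinj : ∀ i j, minpoly ℤ (ϖ i) = minpoly ℤ (ϖ j) → i = j)
    (Aw : Over (Spec (CommRingCat.of k))) [GrpObj Aw] [IsCommMonObj Aw] [IsProper Aw.hom] [GeometricallyIntegral Aw.hom]
    (πw : Aw ⟶ Aw) [IsMonHom πw] (hπwb : πw.left.base = 𝟙 _) (hπwle : ∀ U : Aw.left.Opens, U ≤ πw.left ⁻¹ᵁ U)
    (hπwapp : ∀ (U : Aw.left.Opens) (s : Γ(Aw.left, U)), (πw.left.appLE U U (hπwle U)).hom s = s ^ p)
    (ρw : (MvPolynomial.aeval ![fun j => ϖ j, fun j => (p : K j) / ϖ j] : MvPolynomial (Fin 2) ℤ →ₐ[ℤ] ((j : J) → K j)).range ≃+* EndAV.End Aw)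
    (hρw : ρw ⟨(MvPolynomial.aeval ![fun j => ϖ j, fun j => (p : K j) / ϖ j] : MvPolynomial (Fin 2) ℤ →ₐ[ℤ] ((j : J) → K j)) (X 0), AlgHom.mem_range_self _ _⟩ = EndAV.End.of πw)
    (J' : Type) [Fintype J'] (emb : J' → J) (hemb : Function.Injective emb)
    (C : Over (Spec (CommRingCat.of k))) [GrpObj C] [IsCommMonObj C] [IsProper C.hom] [GeometricallyIntegral C.hom]
    (πC : C ⟶ C) [IsMonHom πC] (hπCb : πC.left.base = 𝟙 _) (hπCle : ∀ U : C.left.Opens, U ≤ πC.left ⁻¹ᵁ U)
    (hπCapp : ∀ (U : C.left.Opens) (s : Γ(C.left, U)), (πC.left.appLE U U (hπCle U)).hom s = s ^ p)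
    (j : EndAV.Hom C Aw) [IsClosedImmersion j.toHom.left]
    (hfac : ∀ (B : Over (Spec (CommRingCat.of k))) [GrpObj B] [IsCommMonObj B] [IsProper B.hom] [GeometricallyIntegral B.hom]
      (πB : B ⟶ B) [IsMonHom πB] (hπBb : πB.left.base = 𝟙 _) (hπBle : ∀ U : B.left.Opens, U ≤ πB.left ⁻¹ᵁ U)
      (hπBapp : ∀ (U : B.left.Opens) (s : Γ(B.left, U)), (πB.left.appLE U U (hπBle U)).hom s = s ^ p)
      (hPB : Polynomial.aeval (EndAV.End.of πB) (∏ j', minpoly ℤ (ϖ (emb j'))) = 0)
      (f : EndAV.Hom B Aw), ∃ f₀ : EndAV.Hom B C, f₀ ≫ j = f)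
    (hmin : ∀ (C' : Over (Spec (CommRingCat.of k))) [GrpObj C'] [IsCommMonObj C'] [IsProper C'.hom] [GeometricallyIntegral C'.hom]
      (j' : EndAV.Hom C' Aw) [IsClosedImmersion j'.toHom.left],
      (∀ (B : Over (Spec (CommRingCat.of k))) [GrpObj B] [IsCommMonObj B] [IsProper B.hom] [GeometricallyIntegral B.hom]
        (πB : B ⟶ B) [IsMonHom πB] (hπBb : πB.left.base = 𝟙 _) (hπBle : ∀ U : B.left.Opens, U ≤ πB.left ⁻¹ᵁ U)
        (hπBapp : ∀ (U : B.left.Opens) (s : Γ(B.left, U)), (πB.left.appLE U U (hπBle U)).hom s = s ^ p)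
        (hPB : Polynomial.aeval (EndAV.End.of πB) (∏ j', minpoly ℤ (ϖ (emb j'))) = 0)
        (f : EndAV.Hom B Aw), ∃ f₀ : EndAV.Hom B C', f₀ ≫ j' = f) →
      ∃ i : EndAV.Hom C C', i ≫ j' = j) :
    Polynomial.aeval (EndAV.End.of πC) (∏ j', minpoly ℤ (ϖ (emb j'))) = 0 ∧
      ∃ ρv : (MvPolynomial.aeval ![fun j' => ϖ (emb j'), fun j' => (p : K (emb j')) / ϖ (emb j')] : MvPolynomial (Fin 2) ℤ →ₐ[ℤ] ((j' : J') → K (emb j'))).range ≃+* EndAV.End C,
        ρv ⟨(MvPolynomial.aeval ![fun j' => ϖ (emb j'), fun j' => (p : K (emb j')) / ϖ (emb j')] : MvPolynomial (Fin 2) ℤ →ₐ[ℤ] ((j' : J') → K (emb j'))) (X 0), AlgHom.mem_range_self _ _⟩ = EndAV.End.of πC := by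
  set_option synthInstance.maxHeartbeats 400000 in
  classical
  have hπw := CSEquiv.frobE_eq_of hk πw hπwb hπwle hπwapp
  have hπC := CSEquiv.frobE_eq_of hk πC hπCb hπCle hπCapp
  have hρw' := hρw.trans hπw.symm
  have h := CSEquiv.data_of hint hweil hnr hinj ρw hρw' hk
  let s : Finset J := Finset.univ.map ⟨emb, hemb⟩
  let Pv : Polynomial ℤ := ∏ j', minpoly ℤ (ϖ (emb j'))
  let Po : Polynomial ℤ := ∏ i ∈ sᶜ, minpoly ℤ (ϖ i)
  have hPv : Pv = ∏ i ∈ s, minpoly ℤ (ϖ i) := (Finset.prod_map Finset.univ ⟨emb, hemb⟩ fun i => minpoly ℤ (ϖ i)).symm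
  have hP : (∏ i, minpoly ℤ (ϖ i)) = Pv * Po := by rw [hPv, Finset.prod_mul_prod_compl]
  obtain ⟨a, b, c, hc, hab⟩ := CSEquiv.exists_bezout (CSEquiv.isCoprime_prod (fun i => minpoly ℤ (ϖ i))
    (fun i => minpoly.monic (hint i)) (fun i => minpoly.irreducible (hint i)) hinj (s := s) (t := sᶜ) disjoint_compl_right)
  rw [← hPv] at hab
  have hpmB := fun (B : Over (Spec (CommRingCat.of k))) [GrpObj B] [IsCommMonObj B] => CSEquiv.isPowMap_frobE (k := k) B
  obtain ⟨hC, hCv, hsurj, hker⟩ := h.sub_facts hP hc hab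
    (Polynomial.monic_prod_of_monic _ _ fun i _ => minpoly.monic (hint i)).ne_zero j
    (fun B _ _ _ _ hB f => hfac B (EndAV.End.toHom (CSEquiv.frobE B)) (CSEquiv.base_eq_id (hpmB B)) (hpmB B).le
      (fun U s => by rw [← hk]; exact (hpmB B).app U ((hpmB B).le U) s) hB f)
    (fun C' _ _ _ _ j' _ hC' => hmin C' j' fun B _ _ _ _ πB _ hb hle happ hPB f =>
      hC' B (CSEquiv.mem_of hk πB hb hle happ hPB) f)
  rw [← hπC]
  refine ⟨hCv, ?_⟩
  let ew := (MvPolynomial.aeval ![fun j => ϖ j, fun j => (p : K j) / ϖ j] : MvPolynomial (Fin 2) ℤ →ₐ[ℤ] ((j : J) → K j))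
  let ev := (MvPolynomial.aeval ![fun j' => ϖ (emb j'), fun j' => (p : K (emb j')) / ϖ (emb j')] : MvPolynomial (Fin 2) ℤ →ₐ[ℤ] ((j' : J') → K (emb j')))
  let res : ((j : J) → K j) →ₐ[ℤ] ((j' : J') → K (emb j')) :=
    AlgHom.pi fun j' => Pi.evalAlgHom ℤ K (emb j')
  have hres : res.comp ew = ev := MvPolynomial.algHom_ext fun i => by
    fin_cases i <;> simp [res, ew, ev] <;> rfl
  let φ : ew.range →+* ev.range :=
    (((res.comp ew.range.val).codRestrict ev.range fun x => by
      obtain ⟨_, g, rfl⟩ := x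
      exact ⟨g, (DFunLike.congr_fun hres g).symm⟩) : ew.range →ₐ[ℤ] ev.range).toRingHom
  have hφ : Function.Surjective φ := by
    rintro ⟨_, g, rfl⟩
    exact ⟨⟨ew g, g, rfl⟩, Subtype.ext (DFunLike.congr_fun hres g)⟩
  let ψ : ew.range →+* EndAV.End C := (h.act hC).comp ρw.toRingHom
  have hψ : Function.Surjective ψ := hsurj.comp ρw.surjective
  have hkk : RingHom.ker φ = RingHom.ker ψ := by
    ext x
    rw [RingHom.mem_ker, RingHom.mem_ker]
    obtain ⟨N, Q, h1, h2⟩ := (h.exists_act hC).choose_spec.2 (ρw x)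
    have h2' : CSEquiv.frobE C ^ N * ψ x = Polynomial.aeval (CSEquiv.frobE C) Q := h2
    have h3 : ∀ j', ϖ (emb j') ^ N * (φ x).1 j' = Polynomial.aeval (ϖ (emb j')) Q := fun j' => by
      rw [← hρw', ← map_pow, ← map_mul] at h1
      have h1' := congrArg ρw.symm h1
      rw [RingEquiv.symm_apply_apply] at h1'
      rw [show ρw.symm (Polynomial.aeval (ρw ⟨ew (MvPolynomial.X 0), AlgHom.mem_range_self _ _⟩) Q) =
        Polynomial.aeval (⟨ew (MvPolynomial.X 0), AlgHom.mem_range_self _ _⟩ : ew.range) Q by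
          apply ρw.injective
          rw [RingEquiv.apply_symm_apply]
          exact (CSEquiv.map_aeval_int ρw.toRingHom _ _).symm] at h1'
      have h4 := congrArg ((Pi.evalAlgHom ℤ K (emb j')).comp ew.range.val) h1'
      rw [map_mul, map_pow, ← Polynomial.aeval_algHom_apply] at h4
      have e0 : ((Pi.evalAlgHom ℤ K (emb j')).comp ew.range.val)
          ⟨ew (MvPolynomial.X 0), AlgHom.mem_range_self _ _⟩ = ϖ (emb j') := by simp [ew]
      rw [e0] at h4
      exact h4
    constructor
    · intro hx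
      refine CSEquiv.frob_pow_cancel N (AVFin.frob_commute (CSEquiv.isPowMap_frobE C) (ψ x)) ?_
      have hQ : Pv ∣ Q := by
        obtain ⟨D, hf⟩ := CSEquiv.exists_family p (fun j' => ϖ (emb j')) (fun j' => hint _) (fun j' => hweil _)
          (fun j' => hnr _) (fun i i' e => hemb (hinj _ _ e))
        exact hf.prod_dvd fun j' => by rw [← h3 j', hx]; simp
      obtain ⟨R, rfl⟩ := hQ
      rw [h2', map_mul, show Polynomial.aeval (CSEquiv.frobE C) Pv = 0 from hCv, zero_mul]
    · intro hx
      have hQ : Pv ∣ Q := hker Q (by rw [← h2', hx, mul_zero])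
      refine Subtype.ext (funext fun j' => ?_)
      have hz : Polynomial.aeval (ϖ (emb j')) Q = 0 := by
        obtain ⟨R, rfl⟩ := hQ
        rw [map_mul, map_prod, Finset.prod_eq_zero (Finset.mem_univ j') (minpoly.aeval ℤ _), zero_mul]
      have hne : ϖ (emb j') ≠ 0 := by
        obtain ⟨D, hf⟩ := CSEquiv.exists_family p ϖ hint hweil hnr hinj
        exact hf.ne_zero _
      exact (mul_eq_zero.1 ((h3 j').trans hz)).resolve_left (pow_ne_zero _ hne)
  let ρv : ev.range ≃+* EndAV.End C := (RingHom.quotientKerEquivOfSurjective hφ).symm.trans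
    ((Ideal.quotEquivOfEq hkk).trans (RingHom.quotientKerEquivOfSurjective hψ))
  have hρv : ∀ x, ρv (φ x) = ψ x := fun x => by
    have e : (RingHom.quotientKerEquivOfSurjective hφ).symm (φ x) = Ideal.Quotient.mk _ x := by
      rw [RingEquiv.symm_apply_eq]
      rfl
    show (RingHom.quotientKerEquivOfSurjective hψ) (Ideal.quotEquivOfEq hkk ((RingHom.quotientKerEquivOfSurjective hφ).symm (φ x))) = ψ x
    rw [e]
    rfl
  refine ⟨ρv, ?_⟩
  rw [show (⟨ev (MvPolynomial.X 0), AlgHom.mem_range_self _ _⟩ : ev.range) =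
    φ ⟨ew (MvPolynomial.X 0), AlgHom.mem_range_self _ _⟩ from Subtype.ext (DFunLike.congr_fun hres _).symm, hρv]
  exact (congrArg (h.act hC) hρw').trans (h.act_frobE hC)

end Groth.Agent.S18001
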