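import Groth.Statements.S18003
import Groth.Agent.WeilNumLib.Central
import Mathlib.LinearAlgebra.FreeModule.Basic

set_option autoImplicit false
universe u
open MvPolynomial
open WeilNum

namespace Groth.Agent.S18003

/-- Let p be a prime, e ≥ 1 and q = p^e; let (π_i) be a finite family of pairwise nonconjugate Weil
q-numbers (π_i in a field K_i of characteristic zero, integral over ℤ with minimal polynomial P_i,
all complex roots of P_i of absolute value √q, P_i ≠ P_j for i ≠ j) of even total degree Σ_i deg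
P_i, P_w = ∏_i P_i, and R_w ⊆ ∏_i K_i the minimal central order, the image of ℤ[F, V] → ∏_i K_i, F ↦
(π_i), V ↦ (q/π_i). Let T be a finitely generated free ℤ-module and F_T an endomorphism of T. Then
there exists an R_w-module structure on the additive group T in which the class of F acts as F_T if
and only if P_w(F_T) = 0 (equivalently: F_T is semisimple after tensoring with ℚ, with eigenvalues
among the conjugates of the π_i) and there is an endomorphism V_T of T with F_T ∘ V_T = q. When it
exists the structure is determined by F_T (the class of V acts as V_T = q·F_T⁻¹), and reflexive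
R_w-modules are exactly the ℤ-free finitely generated ones, so this identifies the objects of
Refl(R_w) with such pairs (T, F_T); the uniqueness remark is not part of the formal statement. -/
theorem result (p e : ℕ) [Fact p.Prime] (he : 0 < e)
    (ι : Type) [Fintype ι] (K : ι → Type u) [∀ i, Field (K i)] [∀ i, CharZero (K i)] (π : ∀ i, K i)
    (hint : ∀ i, IsIntegral ℤ (π i))
    (hweil : ∀ i, ∀ z ∈ (minpoly ℤ (π i)).aroots ℂ, ‖z‖ = Real.sqrt ((p : ℝ) ^ e))
    (hinj : ∀ i j, minpoly ℤ (π i) = minpoly ℤ (π j) → i = j)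
    (D : ℕ) (hD : ∑ i, (minpoly ℤ (π i)).natDegree = 2 * D)
    (T : Type) [AddCommGroup T] [Module.Finite ℤ T] [Module.Free ℤ T] (FT : T →ₗ[ℤ] T) :
    (∃ _ : Module (MvPolynomial.aeval ![fun i => π i, fun i => ((p : K i) ^ e) / π i] :
        MvPolynomial (Fin 2) ℤ →ₐ[ℤ] ((i : ι) → K i)).range T,
        ∀ t : T, (⟨(MvPolynomial.aeval ![fun i => π i, fun i => ((p : K i) ^ e) / π i] :
        MvPolynomial (Fin 2) ℤ →ₐ[ℤ] ((i : ι) → K i)) (X 0), AlgHom.mem_range_self _ _⟩ : (MvPolynomial.aeval ![fun i => π i, fun i => ((p : K i) ^ e) / π i] :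
        MvPolynomial (Fin 2) ℤ →ₐ[ℤ] ((i : ι) → K i)).range) • t = FT t) ↔
      (Polynomial.aeval FT (∏ i, minpoly ℤ (π i)) = 0 ∧
        ∃ VT : T →ₗ[ℤ] T, FT ∘ₗ VT = ((p : ℤ) ^ e) • LinearMap.id) := by
  have hf := Groth.Agent.WeilNumLib.family_mk (π := π) (D := D) p e hint hweil hinj hD
  rw [← Groth.Agent.WeilNumLib.ev_natPow π p e]
  set q : ℤ := (p : ℤ) ^ e with hqdef
  set θ := Groth.Agent.WeilNumLib.ev π q with hθ
  constructor
  · rintro ⟨hmod, hF⟩
    letI := hmod
    let ψ : θ.range →+* Module.End ℤ T :=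
      { toFun := fun r => (DistribSMul.toAddMonoidHom T r).toIntLinearMap
        map_one' := LinearMap.ext fun t => one_smul _ t
        map_mul' := fun a b => LinearMap.ext fun t => mul_smul a b t
        map_zero' := LinearMap.ext fun t => zero_smul _ t
        map_add' := fun a b => LinearMap.ext fun t => add_smul a b t }
    let Φ : MvPolynomial (Fin 2) ℤ →ₐ[ℤ] Module.End ℤ T := ψ.toIntAlgHom.comp θ.rangeRestrict
    have hΦ0 : Φ (X 0) = FT := LinearMap.ext fun t => hF t
    have hker : ∀ z, θ z = 0 → Φ z = 0 := fun z hz => by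
      show ψ (θ.rangeRestrict z) = 0
      rw [show θ.rangeRestrict z = 0 from Subtype.ext hz, map_zero]
    refine ⟨?_, Φ (X 1), ?_⟩
    · rw [← hΦ0, Polynomial.aeval_algHom_apply]
      refine hker _ ?_
      rw [← Polynomial.aeval_algHom_apply]
      funext i
      rw [show Polynomial.aeval (θ (X 0)) (∏ j, minpoly ℤ (π j)) i =
        Polynomial.aeval (θ (X 0) i) (∏ j, minpoly ℤ (π j)) from
        (Polynomial.aeval_algHom_apply (Pi.evalAlgHom ℤ K i) _ _).symm, map_prod]
      refine Finset.prod_eq_zero (Finset.mem_univ i) ?_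
      simp [hθ, Groth.Agent.WeilNumLib.ev]
    · rw [← hΦ0]
      show Φ (X 0) * Φ (X 1) = _
      rw [← map_mul, ← sub_eq_zero]
      have h := hker _ (Groth.Agent.WeilNumLib.ev_fvq hf)
      rw [Groth.Agent.WeilNumLib.fvq, map_sub, ← MvPolynomial.algebraMap_eq, AlgHom.commutes,
        Algebra.algebraMap_eq_smul_one] at h
      simpa [Module.End.one_eq_id] using h
  · rintro ⟨hP, VT, hFV⟩
    have hq0 : q ≠ 0 := hf.q0
    obtain ⟨ε, hε1, hε⟩ := hf.exists_sign
    have hinjF : Function.Injective FT := by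
      rw [injective_iff_map_eq_zero]
      intro t ht
      obtain ⟨Q, hQ⟩ : ∃ Q, ∏ i, minpoly ℤ (π i) = Q * Polynomial.X + Polynomial.C (ε * q ^ D) :=
        ⟨Polynomial.divX _, by rw [← hε]; exact (Polynomial.divX_mul_X_add _).symm⟩
      have h0 := LinearMap.congr_fun hP t
      rw [hQ, map_add, map_mul, Polynomial.aeval_X, Polynomial.aeval_C, LinearMap.add_apply,
        Module.End.mul_apply, ht, map_zero, zero_add, LinearMap.zero_apply, Module.algebraMap_end_apply] at h0
      exact (smul_eq_zero.1 h0).resolve_left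
        (mul_ne_zero (by rcases hε1 with rfl | rfl <;> simp) (pow_ne_zero _ hq0))
    have hFV' : FT * VT = q • (1 : Module.End ℤ T) := hFV
    have hVF : VT * FT = q • (1 : Module.End ℤ T) := LinearMap.ext fun t => hinjF (by
      have := LinearMap.congr_fun hFV' (FT t)
      simpa [Module.End.mul_apply] using this)
    letI : CommRing (Algebra.adjoin ℤ ({FT, VT} : Set (Module.End ℤ T))) :=
      Algebra.adjoinCommRingOfComm ℤ (by
        rintro a (rfl | rfl) b (rfl | rfl)
        · rfl
        · exact hFV'.trans hVF.symm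
        · exact hVF.trans hFV'.symm
        · rfl)
    let A := Algebra.adjoin ℤ ({FT, VT} : Set (Module.End ℤ T))
    let f0 : A := ⟨FT, Algebra.subset_adjoin (by simp)⟩
    let v0 : A := ⟨VT, Algebra.subset_adjoin (by simp)⟩
    let Φ : MvPolynomial (Fin 2) ℤ →ₐ[ℤ] A := aeval ![f0, v0]
    have hΦa : Φ (Groth.Agent.WeilNumLib.fvq q) = 0 := by
      refine Subtype.ext ?_
      simp [Φ, f0, v0, Groth.Agent.WeilNumLib.fvq, hFV']
    obtain ⟨h, hh⟩ := hf.exists_h
    have hΦh : Φ h = 0 := by
      obtain ⟨c, hc⟩ := Ideal.mem_span_singleton.1 hh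
      have h1 := congrArg Φ hc
      rw [map_sub, map_mul, map_pow, map_mul, hΦa, zero_mul, ← Polynomial.aeval_algHom_apply,
        sub_eq_zero] at h1
      have h2 : (Polynomial.aeval (Φ (X 0)) (∏ i, minpoly ℤ (π i)) : Module.End ℤ T) = 0 := by
        rw [show (Polynomial.aeval (Φ (X 0)) (∏ i, minpoly ℤ (π i)) : Module.End ℤ T) =
          Polynomial.aeval (A.val (Φ (X 0))) (∏ i, minpoly ℤ (π i)) from
          (Polynomial.aeval_algHom_apply A.val _ _).symm]
        simpa [Φ, f0] using hP
      have h3 : FT ^ D * (Φ h : Module.End ℤ T) = 0 := by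
        rw [← h2, ← congrArg Subtype.val h1]
        simp [Φ, f0]
      refine Subtype.ext (LinearMap.ext fun t => ?_)
      refine (by rw [Module.End.coe_pow]; exact hinjF.iterate D : Function.Injective ⇑(FT ^ D)) ?_
      simpa [Module.End.mul_apply] using LinearMap.congr_fun h3 t
    have hker : RingHom.ker θ.rangeRestrict.toRingHom ≤ RingHom.ker Φ.toRingHom := fun z hz => by
      have hz' : z ∈ RingHom.ker θ := congrArg Subtype.val hz
      rw [hθ, hf.ker_ev hh] at hz'
      obtain ⟨a, b, rfl⟩ := Ideal.mem_span_pair.1 hz'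
      simp [RingHom.mem_ker, hΦa, hΦh]
    let ψ := θ.rangeRestrict.toRingHom.liftOfSurjective θ.rangeRestrict_surjective ⟨Φ.toRingHom, hker⟩
    refine ⟨Module.compHom T (A.val.toRingHom.comp ψ), fun t => ?_⟩
    show (ψ _).1 t = FT t
    rw [show (⟨θ (X 0), AlgHom.mem_range_self _ _⟩ : θ.range) = θ.rangeRestrict.toRingHom (X 0) from rfl,
      RingHom.liftOfSurjective_comp_apply]
    simp [Φ, f0]

end Groth.Agent.S18003
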