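import Groth.Statements.S18019
import Mathlib
-- import your own Groth.Agent.* helpers here

set_option autoImplicit false
universe u
open ClassStk

namespace Groth.Agent.S18019

open Polynomial in
/-- Let R be an integral domain of characteristic 2 and let a be a nonzero element of R, so that x ↦ x +
a defines an R-algebra involution of the polynomial ring R[x] (an action of the group of order two).
A polynomial f is invariant, f(x + a) = f(x), if and only if f belongs to the R-subalgebra generated
by u = x (x + a); in other words the ring of invariants is the polynomial ring R[u]. -/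
theorem result (R : Type u) [CommRing R] [IsDomain R]
    [CharP R 2] (a : R) (ha : a ≠ 0) (f : Polynomial R) :
    f.comp (X + C a) = f ↔ f ∈ Algebra.adjoin R ({X * (X + C a)} : Set (Polynomial R)) := by
  have ha2 : a + a = 0 := CharTwo.add_self_eq_zero a
  have hshift : ∀ g : Polynomial R, (g.comp (X + C a)).comp (X + C a) = g := fun g => by
    rw [comp_assoc, add_comp, X_comp, C_comp, add_assoc, ← C_add, ha2, C_0, add_zero, comp_X]
  set u : Polynomial R := X * (X + C a) with hu
  have hu' : u.comp (X + C a) = u := by
    rw [hu, mul_comp, add_comp, X_comp, C_comp, add_assoc, ← C_add, ha2, C_0, add_zero, mul_comm]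
  constructor
  · intro hf
    induction hd : f.natDegree using Nat.strong_induction_on generalizing f with
    | _ d ih =>
      by_cases hd0 : d = 0
      · subst hd0
        rw [eq_C_of_natDegree_eq_zero hd]
        exact Subalgebra.algebraMap_mem _ _
      have h1 : X ∣ f - C (f.eval 0) := by rw [X_dvd_iff, coeff_sub, coeff_C_zero, coeff_zero_eq_eval_zero, sub_self]
      obtain ⟨q, hq⟩ := h1
      have hfa : f.eval a = f.eval 0 := by
        conv_rhs => rw [← hf, eval_comp, eval_add, eval_X, eval_C, zero_add]
      have hqa : q.eval a = 0 := by
        have := congrArg (eval a) hq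
        rw [eval_sub, eval_C, hfa, sub_self, eval_mul, eval_X] at this
        exact (mul_eq_zero.mp this.symm).resolve_left ha
      obtain ⟨r, hr⟩ := dvd_iff_isRoot.mpr (show q.IsRoot a from hqa)
      have hneg : X - C a = X + C a := by
        rw [← sub_eq_zero, sub_sub, ← add_assoc, add_comm (C a) X, add_assoc, ← C_add, ha2, C_0, add_zero, sub_self]
      have hfr : f = C (f.eval 0) + u * r := by
        rw [hu, mul_assoc, ← hneg, ← hr, ← hq, add_sub_cancel]
      have hu0 : u.natDegree = 2 := by
        rw [hu, natDegree_mul X_ne_zero (X_add_C_ne_zero a), natDegree_X, natDegree_X_add_C]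
      have hune : u ≠ 0 := fun h => by simp [h] at hu0
      have hr' : r.comp (X + C a) = r := by
        refine mul_left_cancel₀ hune ?_
        have := hf
        rw [hfr, add_comp, C_comp, mul_comp, hu'] at this
        exact add_left_cancel this
      have hrne : r ≠ 0 := fun h => hd0 (by rw [← hd, hfr, h, mul_zero, add_zero, natDegree_C])
      have hdeg : r.natDegree < d := by
        rw [← hd, hfr, natDegree_C_add, natDegree_mul hune hrne, hu0]
        omega
      rw [hfr]
      exact Subalgebra.add_mem _ (Subalgebra.algebraMap_mem _ _)
        (Subalgebra.mul_mem _ (Algebra.subset_adjoin rfl) (ih _ hdeg r hr' rfl))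
  · intro hf
    induction hf using Algebra.adjoin_induction with
    | mem x hx =>
      obtain rfl : x = u := hx
      exact hu'
    | algebraMap r => exact C_comp
    | add x y _ _ hx hy => rw [add_comp, hx, hy]
    | mul x y _ _ hx hy => rw [mul_comp, hx, hy]


end Groth.Agent.S18019
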