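import Groth.Statements.S18026
-- import your own Groth.Agent.* helpers here
import Groth.Agent.QFCount.FinitePart
import Groth.Agent.AlgSpLib.EtLocalInst

set_option autoImplicit false
universe u
open Hensel

namespace Groth.Agent.S18026

open AlgebraicGeometry CategoryTheory in
/-- Let `A` be a henselian discrete valuation ring and `f : T ⟶ Spec A` an étale surjective morphism of
schemes. Then some open subscheme `U` of `T` is finite over `Spec A` and still maps onto it; in
particular `U → Spec A` is a finite étale cover sitting inside `T` as an open subscheme (étaleness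
of the restriction is automatic, and surjectivity records that `U` meets the closed fibre). (The
published statement asks for an open component of `T` finite étale over `Spec A`; when `T` is not
separated — two copies of `Spec A` glued along the generic point — no open and closed subset of `T`
is finite over `Spec A`, while the published proof constructs an open subscheme, the spectrum of the
local ring of `T` at a point of the closed fibre; so this row asks only for an open subscheme.) -/
theorem result
    (A : Type u) [CommRing A] [IsDomain A] [IsDiscreteValuationRing A] [HenselianLocalRing A]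
    (T : Scheme.{u}) (f : T ⟶ Spec (CommRingCat.of A)) [Etale f] [Surjective f] :
    ∃ U : T.Opens, IsFinite (U.ι ≫ f) ∧ Surjective (U.ι ≫ f) := by
  obtain ⟨x, hx⟩ := f.surjective (IsLocalRing.closedPoint A)
  obtain ⟨_, ⟨(V : T.Opens), hV : IsAffineOpen V, rfl⟩, hxV, -⟩ :=
    T.isBasis_affineOpens.exists_subset_of_mem_open (Set.mem_univ x) isOpen_univ
  haveI : IsAffine (V : Scheme) := hV
  obtain ⟨W, -, hfin, hcl⟩ := Groth.Agent.QFCount.exists_finite_part (V.ι ≫ f)
  refine ⟨V.ι ''ᵁ W, ?_⟩
  have key : (V.ι ''ᵁ W).ι ≫ f = (V.ι.isoImage W).inv ≫ W.ι ≫ V.ι ≫ f := by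
    rw [Iso.eq_inv_comp, ← Category.assoc, ← Category.assoc, Scheme.Hom.isoImage_hom_ι]
  haveI := hfin
  haveI hs : Surjective (W.ι ≫ V.ι ≫ f) := by
    refine ⟨fun p => ?_⟩
    have hopen : IsOpen (Set.range (W.ι ≫ V.ι ≫ f)) := (W.ι ≫ V.ι ≫ f).isOpenMap.isOpen_range
    have hmem : IsLocalRing.closedPoint A ∈ Set.range (W.ι ≫ V.ι ≫ f) := by
      refine ⟨⟨⟨x, hxV⟩, hcl ⟨x, hxV⟩ hx⟩, ?_⟩
      simpa using hx
    exact (IsLocalRing.specializes_closedPoint p).mem_open hopen hmem
  rw [key]
  exact ⟨inferInstance, inferInstance⟩

end Groth.Agent.S18026
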