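import Groth.Statements.S18029
import Groth.Agent.Deform.SmallGrp.SpreadGen

set_option autoImplicit false
universe u
open CategoryTheory MonoidalCategory CartesianMonoidalCategory MonObj GrpObj AlgebraicGeometry CategoryTheory.Limits
open AlgGrp

namespace Groth.Agent.S18029
set_option maxHeartbeats 1000000
set_option linter.style.haveILetI false
/-- Closed subgroups of the generic fibre spread out. Let `X` be an integral scheme with generic point
`η : Spec K(X) ⟶ X`, `G` an affine `X`-group scheme locally of finite presentation and `H_η` a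
closed subgroup scheme of the generic fibre `G_η = G ×_X Spec K(X)`. Then there are a non-empty open
`U ⊆ X` (through which `η` factors) and a closed subgroup scheme `H_U` of `G ×_X U` whose generic
fibre is `H_η`: a cartesian square presents `H_η` as `H_U ×_U Spec K(X)`, compatibly with the
embeddings into `G`. -/
theorem result
    (X : Scheme.{u}) [IsIntegral X] (G : Over X) [GrpObj G]
    [IsAffineHom G.hom] [LocallyOfFinitePresentation G.hom]
    (Hη : Over (Spec X.functionField)) [GrpObj Hη]
    (i : Hη ⟶ Red.bc (X.fromSpecStalk (genericPoint X)) G) [IsMonHom i] [IsClosedImmersion i.left] :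
    ∃ (U : X.Opens) (ηU : Spec X.functionField ⟶ (U : Scheme.{u})) (HU : Over (U : Scheme.{u}))
      (_ : GrpObj HU) (j : HU ⟶ Red.bc U.ι G) (φ : Hη.left ⟶ HU.left),
      ηU ≫ U.ι = X.fromSpecStalk (genericPoint X) ∧ IsMonHom j ∧ IsClosedImmersion j.left ∧
      IsPullback φ Hη.hom HU.hom ηU ∧
      φ ≫ j.left ≫ pullback.fst G.hom U.ι = i.left ≫ pullback.fst G.hom (X.fromSpecStalk (genericPoint X)) := by
  obtain ⟨U₀, hU₀, hgen⟩ : ∃ U₀ : X.Opens, IsAffineOpen U₀ ∧ genericPoint X ∈ U₀ := by
    obtain ⟨_, ⟨U, hU, rfl⟩, hxU, -⟩ := X.isBasis_affineOpens.exists_subset_of_mem_open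
      (Set.mem_univ (genericPoint X)) isOpen_univ
    exact ⟨U, hU, hxU⟩
  haveI : Nonempty U₀ := ⟨⟨_, hgen⟩⟩
  haveI : IsFractionRing Γ(X, U₀) X.functionField := functionField_isFractionRing_of_isAffineOpen X U₀ hU₀
  haveI : IsDomain Γ(X, U₀) := inferInstance
  let R := Γ(X, U₀)
  have e := Deform.SmallGrp.Spread.eta_fromSpec hU₀ hgen
  exact Deform.SmallGrp.Spread.spread_open hU₀.fromSpec X.functionField (X.fromSpecStalk (genericPoint X)) e G Hη i

end Groth.Agent.S18029
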