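import Groth.Statements.S18072
import Groth.Agent.Deform.IsogProps.Basic

set_option autoImplicit false
universe u
open CategoryTheory MonoidalCategory CartesianMonoidalCategory MonObj GrpObj AlgebraicGeometry CategoryTheory.Limits
open AlgGrp

namespace Groth.Agent.S18072
attribute [local instance] CategoryTheory.Hom.monoid CategoryTheory.Hom.group

/-- Let F be a field and f : G → H an isogeny between affine smooth connected F-groups (a surjective
homomorphism with finite kernel, i.e. surjective and finite). Then each of the properties unipotent,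
solvable, nilpotent and commutative holds for G exactly when it holds for H; here unipotence is
expressed as: the base change to an algebraic closure contains no non-trivial subtorus, solvable and
nilpotent through the derived and upper central series of the groups of points. -/
theorem result (F : Type u) [Field F]
    (G H : Over (Spec (CommRingCat.of F))) [GrpObj G] [Smooth G.hom] [QuasiCompact G.hom] [IsAffine G.left] [ConnectedSpace ↥G.left]
    [GrpObj H] [Smooth H.hom] [QuasiCompact H.hom] [IsAffine H.left] [ConnectedSpace ↥H.left]
    (f : G ⟶ H) [IsMonHom f] [Surjective f.left] [IsFinite f.left] :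
    (Red.HasNoSubtorus (AlgebraicClosure F) (Red.bc (Spec.map (CommRingCat.ofHom (algebraMap F (AlgebraicClosure F)))) G) ↔ Red.HasNoSubtorus (AlgebraicClosure F) (Red.bc (Spec.map (CommRingCat.ofHom (algebraMap F (AlgebraicClosure F)))) H)) ∧
    (Red.IsSolvableGrp G ↔ Red.IsSolvableGrp H) ∧ (AGF.IsNilpotentGrp G ↔ AGF.IsNilpotentGrp H) ∧
    (IsCommMonObj G ↔ IsCommMonObj H) := by
  haveI : IsAffineHom G.hom := isAffineHom_of_isAffine _
  haveI : IsAffineHom H.hom := isAffineHom_of_isAffine _
  let K := AlgebraicClosure F
  let σ := Deform.FrobDesc.yK F K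
  haveI : Smooth (Red.bc σ G).hom := inferInstanceAs (Smooth (Limits.pullback.snd G.hom σ))
  haveI : Smooth (Red.bc σ H).hom := inferInstanceAs (Smooth (Limits.pullback.snd H.hom σ))
  haveI : QuasiCompact (Red.bc σ G).hom := inferInstanceAs (QuasiCompact (Limits.pullback.snd G.hom σ))
  haveI : IsAffine (Red.bc σ G).left := inferInstanceAs (IsAffine (Limits.pullback G.hom σ))
  haveI : IsAffine (Red.bc σ H).left := inferInstanceAs (IsAffine (Limits.pullback H.hom σ))
  haveI : ConnectedSpace (Red.bc σ G).left := GrpSchLib.AntiAffine.connectedSpace_bc G (algebraMap F K)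
  haveI : ConnectedSpace (Red.bc σ H).left := GrpSchLib.AntiAffine.connectedSpace_bc H (algebraMap F K)
  haveI : Surjective ((Over.pullback σ).map f).left :=
    MorphismProperty.of_isPullback (P := @Surjective) (GrpSchLib.HomSplitLocal.isPullback_map f σ) inferInstance
  haveI : IsFinite ((Over.pullback σ).map f).left :=
    MorphismProperty.of_isPullback (P := @IsFinite) (GrpSchLib.HomSplitLocal.isPullback_map f σ) inferInstance
  haveI := GrpSchLib.AntiAffine.isSeparated_grp G
  haveI := GrpSchLib.AntiAffine.isSeparated_grp H
  refine ⟨Deform.IsogProps.noSubtorus_iff ((Over.pullback σ).map f), ?_, ?_, ?_⟩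
  · rw [Deform.IsogProps.isSolvableGrp_iff (K := K), Deform.IsogProps.isSolvableGrp_iff (K := K)]
    exact Deform.IsogProps.solvable_iff ((Over.pullback σ).map f)
  · rw [Deform.IsogProps.isNilpotentGrp_iff (K := K), Deform.IsogProps.isNilpotentGrp_iff (K := K)]
    exact Deform.IsogProps.nilpotent_iff ((Over.pullback σ).map f)
  · rw [Deform.IsogProps.isCommMonObj_iff (K := K), Deform.IsogProps.isCommMonObj_iff (K := K)]
    exact Deform.IsogProps.comm_iff ((Over.pullback σ).map f)

end Groth.Agent.S18072
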