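import Groth.Statements.S18074
import Groth.Agent.Deform.AntiAffineParts
import Groth.Agent.GrpSchLib.MonoSubgroup
import Mathlib.CategoryTheory.Limits.Constructions.Over.Connected

set_option autoImplicit false
universe u
open CategoryTheory MonoidalCategory CartesianMonoidalCategory MonObj GrpObj AlgebraicGeometry CategoryTheory.Limits
open AlgGrp

namespace Groth.Agent.S18074
set_option linter.style.haveILetI false

open CategoryTheory CategoryTheory.Limits MonoidalCategory CartesianMonoidalCategory MonObj GrpObj AlgebraicGeometry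

attribute [local instance] CategoryTheory.Hom.monoid CategoryTheory.Hom.group


/-- Let k be a field and G a non-trivial k-group scheme of finite type. Then G is non-affine with every
closed subgroup scheme H ≠ G affine if and only if G is anti-affine and every anti-affine closed
subgroup scheme H ≠ G of G is trivial. -/
theorem result (k : Type u) [Field k]
    (G : Over (Spec (CommRingCat.of k))) [GrpObj G] [LocallyOfFiniteType G.hom] [QuasiCompact G.hom] (hG : ¬ Red.IsTrivialGrp G) :
    (¬ IsAffine G.left ∧ ∀ (H : Over (Spec (CommRingCat.of k))) [GrpObj H] (h : H ⟶ G) [IsMonHom h] [IsClosedImmersion h.left], ¬ IsIso h → IsAffine H.left) ↔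
    (Function.Bijective ((Scheme.ΓSpecIso (CommRingCat.of k)).inv ≫ G.hom.appTop).hom ∧ ∀ (H : Over (Spec (CommRingCat.of k))) [GrpObj H] (h : H ⟶ G) [IsMonHom h] [IsClosedImmersion h.left], ¬ IsIso h → Function.Bijective ((Scheme.ΓSpecIso (CommRingCat.of k)).inv ≫ H.hom.appTop).hom → Red.IsTrivialGrp H) := by
  haveI := GrpSchLib.AntiAffine.isSeparated_grp G
  have key : ∀ (X : Over (Spec (CommRingCat.of k))) [GrpObj X] [LocallyOfFiniteType X.hom] [QuasiCompact X.hom],
      ∃ (K : Over (Spec (CommRingCat.of k))) (_ : GrpObj K) (κ : K ⟶ X), IsMonHom κ ∧ IsClosedImmersion κ.left ∧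
        Function.Bijective K.hom.appTop ∧ (IsIso K.hom → IsAffine X.left) := by
    intro X _ _ _
    obtain ⟨K, iK, κ, hκ, hκc, -, -, hK, I, iI, p, hp, hI, hIl, -, -, hk⟩ := Deform.AntiAffineParts.exists_ant X
    letI := iK; letI := iI
    haveI := hκ; haveI := hp; haveI := hI; haveI := hIl
    refine ⟨K, iK, κ, hκ, hκc, hK, fun hiso => ?_⟩
    haveI := hiso
    haveI := Deform.AntiAffineParts.mono_of_trivial p κ hk
    haveI : IsSeparated I.hom := GrpSchLib.AntiAffine.isSeparated_grp I
    haveI : QuasiCompact p.left := by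
      haveI : QuasiCompact (p.left ≫ I.hom) := by rw [Over.w p]; infer_instance
      exact QuasiCompact.of_comp p.left I.hom
    haveI := S3036.result k X I p
    exact isAffine_of_isAffineHom p.left
  constructor
  · rintro ⟨hna, hH⟩
    obtain ⟨K, iK, κ, hκ, hκc, hK, htriv⟩ := key G
    letI := iK
    haveI := hκ; haveI := hκc
    have hiso : IsIso κ := by
      by_contra hne
      haveI := hH K κ hne
      exact hna (htriv (Deform.AntiAffineParts.isIso_hom_of_isAffine hK))
    refine ⟨?_, fun H _ h _ _ hne hHb => ?_⟩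
    · refine (GrpSchLib.AntiAffine.bijective_appTop_iff G.hom).mpr ?_
      haveI := hiso
      haveI : IsIso κ.left := ((Over.forget _).mapIso (asIso κ)).isIso_hom
      haveI : IsIso κ.left.appTop := Iso.isIso_hom (asIso (Scheme.Γ.map (Quiver.Hom.op κ.left)))
      rw [← Over.w κ, Scheme.Hom.comp_appTop] at hK
      exact (Function.Bijective.of_comp_iff' (ConcreteCategory.bijective_of_isIso κ.left.appTop) _).mp hK
    · haveI := hH H h hne
      exact Deform.AntiAffineParts.isIso_hom_of_isAffine
        ((GrpSchLib.AntiAffine.bijective_appTop_iff H.hom).mp hHb)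
  · rintro ⟨hGb, hH⟩
    have hGb' := (GrpSchLib.AntiAffine.bijective_appTop_iff G.hom).mp hGb
    refine ⟨fun haff => hG (Deform.AntiAffineParts.isIso_hom_of_isAffine hGb'), fun H _ h _ _ hne => ?_⟩
    haveI : LocallyOfFiniteType H.hom := by rw [← Over.w h]; infer_instance
    haveI : QuasiCompact H.hom := by rw [← Over.w h]; infer_instance
    obtain ⟨K, iK, κ, hκ, hκc, hK, htriv⟩ := key H
    letI := iK
    haveI := hκ; haveI := hκc
    haveI : IsClosedImmersion (κ ≫ h).left := by rw [Over.comp_left]; infer_instance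
    refine htriv (hH K (κ ≫ h) ?_ ((GrpSchLib.AntiAffine.bijective_appTop_iff K.hom).mpr hK))
    intro hi
    apply hne
    haveI : IsSplitEpi h := ⟨⟨⟨inv (κ ≫ h) ≫ κ, by rw [Category.assoc, IsIso.inv_hom_id]⟩⟩⟩
    haveI : Mono h := (Over.forget _).mono_of_mono_map (inferInstanceAs (Mono h.left))
    exact isIso_of_mono_of_isSplitEpi h

end Groth.Agent.S18074
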