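import Groth.Statements.S18076
import Groth.Agent.Deform.Chev.FiniteField


set_option autoImplicit false
universe u
open CategoryTheory MonoidalCategory CartesianMonoidalCategory MonObj GrpObj AlgebraicGeometry CategoryTheory.Limits
open AlgGrp

namespace Groth.Agent.S18076
set_option linter.style.haveILetI false
set_option backward.isDefEq.respectTransparency false

open CategoryTheory CategoryTheory.Limits MonoidalCategory CartesianMonoidalCategory MonObj GrpObj AlgebraicGeometry

attribute [local instance] CategoryTheory.Hom.monoid CategoryTheory.Hom.group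

/-- Let k be a finite field and G a connected k-group scheme of finite type, i : N → G a connected
affine closed normal subgroup scheme which is the kernel of a flat surjective homomorphism q onto an
abelian variety A (for instance N = G_aff; any such N is allowed) and b : B → G the largest abelian
subvariety G_ab of G (a smooth connected proper closed subgroup scheme through which every other one
factors). Then G = N G_ab, i.e. multiplication N × B → G is surjective, and N ∩ G_ab is finite; for
N = G_aff this reads G = G_aff G_ab with G_aff ∩ G_ab finite. -/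
theorem result (k : Type u) [Field k] [Finite k]
    (G : Over (Spec (CommRingCat.of k))) [GrpObj G] [LocallyOfFiniteType G.hom] [QuasiCompact G.hom] [ConnectedSpace ↥G.left]
    (N A : Over (Spec (CommRingCat.of k))) [GrpObj N] [GrpObj A] (i : N ⟶ G) [IsMonHom i] [IsClosedImmersion i.left]
    [IsAffine N.left] [ConnectedSpace ↥N.left] (hN : AlgGrp.IsNormalHom i)
    (q : G ⟶ A) [IsMonHom q] [Surjective q.left] [Flat q.left] [IsProper A.hom] [Smooth A.hom] [ConnectedSpace ↥A.left]
    (hq : AlgGrp.IsKernel i q)
    (B : Over (Spec (CommRingCat.of k))) [GrpObj B] (b : B ⟶ G) [IsMonHom b] [IsClosedImmersion b.left] [Smooth B.hom] [ConnectedSpace ↥B.left] [IsProper B.hom]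
    (hBmax : ∀ (B' : Over (Spec (CommRingCat.of k))) [GrpObj B'] (b' : B' ⟶ G) [IsMonHom b'] [IsClosedImmersion b'.left], Smooth B'.hom → ConnectedSpace ↥B'.left → IsProper B'.hom →
      ∃ g : B' ⟶ B, g ≫ b = b') :
    Surjective ((i ⊗ₘ b) ≫ μ[G]).left ∧
    ∀ (P : Over (Spec (CommRingCat.of k))) (p₁ : P ⟶ N) (p₂ : P ⟶ B), IsPullback p₁ p₂ i b → IsFinite P.hom := by
  obtain ⟨K, iK, κ, hκ, hκc, hKl, hKq, hKb, I, iI, p, hp, hI, hIl, hpf, hps, hkp⟩ :=
    Deform.AntiAffineParts.exists_ant G
  letI := iK
  letI := iI
  haveI := hκ; haveI := hκc; haveI := hKl; haveI := hKq; haveI := hp; haveI := hI; haveI := hIl; haveI := hpf; haveI := hps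
  haveI : Smooth K.hom := Agent.GrpSchLib.AntiAffineSmooth.smooth hKb
  haveI := Agent.GrpSchLib.AntiAffine.connectedSpace_of_bijective hKb
  haveI := Deform.Chev.FiniteField.isProper_of_antiAffine K hKb
  obtain ⟨g, hg⟩ := hBmax K κ ‹_› ‹_› ‹_›
  haveI : Surjective (κ ≫ q).left := Deform.AntiAffineParts.surjective_proper hKb κ p hkp q
  haveI : Surjective (b ≫ q).left := by
    haveI : Surjective (g.left ≫ (b ≫ q).left) := by
      rw [← Over.comp_left, ← Category.assoc, hg]; infer_instance
    exact Surjective.of_comp g.left _
  refine ⟨Deform.AntiAffineParts.surjective_mul i q hq b, fun P p₁ p₂ hP => ?_⟩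
  have hP' : IsPullback p₁.left p₂.left i.left b.left := hP.map (Over.forget _)
  haveI : IsClosedImmersion p₁.left := MorphismProperty.of_isPullback (P := @IsClosedImmersion) hP'.flip ‹_›
  haveI : IsClosedImmersion p₂.left := MorphismProperty.of_isPullback (P := @IsClosedImmersion) hP' ‹_›
  haveI : IsAffine P.left := isAffine_of_isAffineHom p₁.left
  haveI : IsProper P.hom := by rw [← Over.w p₂]; infer_instance
  rw [IsFinite.iff_isProper_and_isAffineHom]
  exact ⟨inferInstance, isAffineHom_of_isAffine _⟩

end Groth.Agent.S18076
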