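import Groth.Statements.S18079
import Groth.Agent.Deform.IsogSub.Basic


set_option autoImplicit false
universe u
open CategoryTheory MonoidalCategory CartesianMonoidalCategory MonObj GrpObj AlgebraicGeometry CategoryTheory.Limits
open AlgGrp

namespace Groth.Agent.S18079

/-- Let k be a field with algebraic closure k̄ and f : G → H an isogeny of algebraic k-groups (a
surjective homomorphism of k-group schemes of finite type with finite kernel, i.e. surjective and
finite). Then for every d, G_{k̄} contains a smooth connected unipotent subgroup of dimension at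
least d (unipotent: no non-trivial subtorus) if and only if H_{k̄} does; that is, d_u(G) = d_u(H). -/
theorem result (k : Type u) [Field k]
    (G H : Over (Spec (CommRingCat.of k))) [GrpObj G] [LocallyOfFiniteType G.hom] [QuasiCompact G.hom]
    [GrpObj H] [LocallyOfFiniteType H.hom] [QuasiCompact H.hom]
    (f : G ⟶ H) [IsMonHom f] [Surjective f.left] [IsFinite f.left] (d : ℕ) :
    (∃ (U : Over (Spec (CommRingCat.of (AlgebraicClosure k)))) (_ : GrpObj U) (i : U ⟶ Red.bc (Spec.map (CommRingCat.ofHom (algebraMap k (AlgebraicClosure k)))) G), IsMonHom i ∧ IsClosedImmersion i.left ∧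
        Smooth U.hom ∧ IsAffine U.left ∧ ConnectedSpace ↥U.left ∧ Red.HasNoSubtorus (AlgebraicClosure k) U ∧
        (d : WithBot ℕ∞) ≤ topologicalKrullDim ↥U.left) ↔
    (∃ (U : Over (Spec (CommRingCat.of (AlgebraicClosure k)))) (_ : GrpObj U) (i : U ⟶ Red.bc (Spec.map (CommRingCat.ofHom (algebraMap k (AlgebraicClosure k)))) H), IsMonHom i ∧ IsClosedImmersion i.left ∧
        Smooth U.hom ∧ IsAffine U.left ∧ ConnectedSpace ↥U.left ∧ Red.HasNoSubtorus (AlgebraicClosure k) U ∧
        (d : WithBot ℕ∞) ≤ topologicalKrullDim ↥U.left) := by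
  let K := AlgebraicClosure k
  let σ := Deform.FrobDesc.yK k K
  let φ := (Over.pullback σ).map f
  haveI : LocallyOfFiniteType (Red.bc σ G).hom := inferInstanceAs (LocallyOfFiniteType (Limits.pullback.snd G.hom σ))
  haveI : LocallyOfFiniteType (Red.bc σ H).hom := inferInstanceAs (LocallyOfFiniteType (Limits.pullback.snd H.hom σ))
  haveI : QuasiCompact (Red.bc σ G).hom := inferInstanceAs (QuasiCompact (Limits.pullback.snd G.hom σ))
  haveI : QuasiCompact (Red.bc σ H).hom := inferInstanceAs (QuasiCompact (Limits.pullback.snd H.hom σ))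
  haveI : Surjective φ.left :=
    MorphismProperty.of_isPullback (P := @Surjective) (GrpSchLib.HomSplitLocal.isPullback_map f σ) inferInstance
  haveI : IsFinite φ.left :=
    MorphismProperty.of_isPullback (P := @IsFinite) (GrpSchLib.HomSplitLocal.isPullback_map f σ) inferInstance
  constructor
  · rintro ⟨U, gU, i, hi, hic, hs, ha, hc, hP, hd⟩
    haveI := hi; haveI := hic; haveI := hs; haveI := ha; haveI := hc
    haveI : QuasiCompact U.hom := by rw [← Over.w i]; infer_instance
    obtain ⟨V, gV, j, p, hj, hjc, hVs, hVq, hVc, hp, hpf, hps⟩ := Deform.IsogSub.exists_image φ i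
    haveI := hVs; haveI := hVq; haveI := hVc; haveI := hp; haveI := hpf; haveI := hps
    haveI := GrpSchLib.AntiAffine.isSeparated_grp V
    haveI : V.left.IsSeparated := ⟨by rw [← terminal.comp_from V.hom]; infer_instance⟩
    haveI : IsAffine V.left := ChevGen.isAffine_of_finite_surjective p.left
    have hV := (Deform.IsogProps.noSubtorus_iff p).mp hP
    exact ⟨V, gV, j, hj, hjc, hVs, inferInstance, hVc, hV, (Deform.IsogSub.dim_eq p.left) ▸ hd⟩
  · rintro ⟨U, gU, i, hi, hic, hs, ha, hc, hP, hd⟩
    haveI := hi; haveI := hic; haveI := hs; haveI := ha; haveI := hc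
    haveI : QuasiCompact U.hom := by rw [← Over.w i]; infer_instance
    obtain ⟨V, gV, j, p, hj, hjc, hVs, hVq, hVc, hp, hpf, hps⟩ := Deform.IsogSub.exists_lift φ i
    haveI := hVs; haveI := hVq; haveI := hVc; haveI := hp; haveI := hpf; haveI := hps
    haveI : IsAffine V.left := isAffine_of_isAffineHom p.left
    have hV := (Deform.IsogProps.noSubtorus_iff p).mpr hP
    exact ⟨V, gV, j, hj, hjc, hVs, inferInstance, hVc, hV, (Deform.IsogSub.dim_eq p.left).symm ▸ hd⟩

end Groth.Agent.S18079
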