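import Groth.Statements.S18082
import Groth.Agent.Deform.Luna.SolvLocus
import Groth.Agent.GrpSchLib.GenericFibreExt

set_option autoImplicit false
universe u
open CategoryTheory MonoidalCategory CartesianMonoidalCategory MonObj GrpObj AlgebraicGeometry CategoryTheory.Limits
open AlgGrp

namespace Groth.Agent.S18082
attribute [local instance] CategoryTheory.Hom.monoid CategoryTheory.Hom.group
set_option linter.style.haveILetI false

theorem flat_tensor {S : Scheme.{u}} (X Y : Over S) [Flat X.hom] [Flat Y.hom] : Flat (X ⊗ Y).hom := by
  rw [Over.tensorObj_hom]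
  infer_instance

theorem flat_dObj {S : Scheme.{u}} {G : Over S} [GrpObj G] [Flat G.hom] :
    ∀ n, Flat (Deform.Luna.SolvWords.dObj G n).hom
  | 0 => ‹_›
  | n + 1 => by
    haveI := flat_dObj (G := G) n
    exact flat_tensor _ _

theorem flat_cObj {S : Scheme.{u}} {G : Over S} [GrpObj G] [Flat G.hom] :
    ∀ n, Flat (Deform.Luna.SolvWords.cObj G n).hom
  | 0 => ‹_›
  | n + 1 => by
    haveI := flat_cObj (G := G) n
    exact flat_tensor _ _

/-- A is a discrete valuation ring, with K denoting its field of fractions and k its residue field, and
G is an A-group scheme that is flat, separated and of finite presentation. If the generic fibre G_K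
is nilpotent then the special fibre G_k is nilpotent; if G_K is solvable then G_k is solvable. (The
published statement does not require G separated over A; gluing copies of Spec A indexed by a finite
non-nilpotent, resp. non-solvable, group along their common generic point gives a flat group scheme
of finite presentation with trivial generic fibre and that constant group as special fibre, so G is
taken separated here, the case covered by the density argument of the published proof.) -/
theorem result (A : Type u) [CommRing A] [IsDomain A] [IsDiscreteValuationRing A]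
    (K : Type u) [Field K] [Algebra A K] [IsFractionRing A K]
    (G : Over (Spec (CommRingCat.of A))) [GrpObj G] [Flat G.hom] [LocallyOfFinitePresentation G.hom] [QuasiCompact G.hom]
    [IsSeparated G.hom] :
    (AGF.IsNilpotentGrp (Red.bc (Spec.map (CommRingCat.ofHom (algebraMap A K))) G) → AGF.IsNilpotentGrp (Red.bc (Spec.map (CommRingCat.ofHom (algebraMap A (IsLocalRing.ResidueField A)))) G)) ∧
    (Red.IsSolvableGrp (Red.bc (Spec.map (CommRingCat.ofHom (algebraMap A K))) G) → Red.IsSolvableGrp (Red.bc (Spec.map (CommRingCat.ofHom (algebraMap A (IsLocalRing.ResidueField A)))) G)) := by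
  have hinj : Function.Injective (algebraMap A K) := IsFractionRing.injective A K
  constructor
  · rintro ⟨n, hn⟩
    refine ⟨n, fun X => Subgroup.lowerCentralSeries_eq_bot_iff_upperCentralSeries_eq_top.mp ?_⟩
    haveI := flat_cObj (G := G) n
    rw [← Deform.Luna.SolvLocus.lowerCentralSeries_congr (Deform.Luna.SolvLocus.ptsEquiv _ X),
      Deform.Luna.SolvWords.lowerCentralSeries_eq_bot_iff]
    intro x
    have hw : Deform.Luna.SolvWords.cWord G n = 1 := by
      let j := Spec.map (CommRingCat.ofHom (algebraMap A K))
      have h := (Deform.Luna.SolvWords.lowerCentralSeries_eq_bot_iff _ n).mp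
        ((Deform.Luna.SolvLocus.lowerCentralSeries_congr (Deform.Luna.SolvLocus.ptsEquiv (G := G) j
          (Red.bc j (Deform.Luna.SolvWords.cObj G n))) n).mpr
          (Subgroup.lowerCentralSeries_eq_bot_iff_upperCentralSeries_eq_top.mpr (hn _)))
        ((Over.mapPullbackAdj j).counit.app _)
      refine GrpSchLib.hom_ext_of_generic hinj _ _ ?_
      have h' := congrArg Over.Hom.left (h.trans (MonObj.comp_one ((Over.mapPullbackAdj j).counit.app _)).symm)
      simp only [Over.comp_left, Over.mapPullbackAdj_counit_app] at h'
      exact h'
    rw [hw, MonObj.comp_one]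
  · rintro ⟨n, hn⟩
    refine ⟨n, fun X => ?_⟩
    haveI := flat_dObj (G := G) n
    rw [← Deform.Luna.SolvLocus.derivedSeries_congr (Deform.Luna.SolvLocus.ptsEquiv _ X),
      Deform.Luna.SolvWords.derivedSeries_eq_bot_iff]
    intro x
    have hw : Deform.Luna.SolvWords.dWord G n = 1 := by
      let j := Spec.map (CommRingCat.ofHom (algebraMap A K))
      have h := (Deform.Luna.SolvWords.derivedSeries_eq_bot_iff _ n).mp
        ((Deform.Luna.SolvLocus.derivedSeries_congr (Deform.Luna.SolvLocus.ptsEquiv (G := G) j
          (Red.bc j (Deform.Luna.SolvWords.dObj G n))) n).mpr (hn _))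
        ((Over.mapPullbackAdj j).counit.app _)
      refine GrpSchLib.hom_ext_of_generic hinj _ _ ?_
      have h' := congrArg Over.Hom.left (h.trans (MonObj.comp_one ((Over.mapPullbackAdj j).counit.app _)).symm)
      simp only [Over.comp_left, Over.mapPullbackAdj_counit_app] at h'
      exact h'
    rw [hw, MonObj.comp_one]

end Groth.Agent.S18082
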