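import Groth.Statements.S1809
import Groth.Agent.S0372
import Groth.Agent.LC.LiaisonLocal
import Groth.Agent.KFlatLib.Scheme.PCQCoh
import Groth.Agent.KFlatLib.Scheme.TildePull
import Groth.Agent.KFlatLib.Ring.DualizingLocalExt
-- import your own Groth.Agent.* helpers here

set_option autoImplicit false
universe u
open CategoryTheory CategoryTheory.Limits AlgebraicGeometry
attribute [local instance] HasDerivedCategory.standard
open Dual

namespace Groth.Agent.S1809

open AlgebraicGeometry CategoryTheory.Limits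

lemma alg_aux {A : Type u} [CommRing A] [IsNoetherianRing A] {ω : Dual.D A} (hω : Dual.IsDualizing A ω)
    (q : PrimeSpectrum A) :
    LocCoh.IsCohenMacaulayLocalRing (Localization.AtPrime q.asIdeal) ↔
      ∃! i : ℤ, Nontrivial (LocalizedModule q.asIdeal.primeCompl (Dual.HD A ω i)) := by
  have e : ∀ i : ℤ, q ∈ Module.support A (Dual.inD A A ⟶ ω⟦i⟧) ↔
      Nontrivial (LocalizedModule q.asIdeal.primeCompl (Dual.HD A ω i)) := fun i => by
    obtain ⟨l⟩ := Groth.Agent.KFlatLib.exists_homRingLEquiv ω i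
    rw [l.support_eq, Module.mem_support_iff]
  have hsub : ¬ Subsingleton (LocalizedModule q.asIdeal.primeCompl A) :=
    not_subsingleton (Localization.AtPrime q.asIdeal)
  have hq : q ∈ Module.support A A := Module.mem_support_iff.2 (not_subsingleton_iff_nontrivial.1 hsub)
  have key := Groth.Agent.RGammaI.isCohenMacaulayModule_iff hω A q
  simp only [e] at key
  obtain ⟨n, hn, -⟩ := Groth.Agent.KFlatLib.exists_extDegree hω
  obtain ⟨δ, d, hδ, -, -⟩ := Groth.Agent.RGammaI.exists_depth_dim A q hq
  obtain ⟨-, hnt⟩ := Groth.Agent.RGammaI.localized_ext_of_depth hω hn A q δ hδ hq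
  have hex := (e _).1 (Module.mem_support_iff.2 hnt)
  constructor
  · intro h
    exact ⟨_, hex, fun j hj => key.1 (Or.inr h.supportDim_eq_depth) j _ hj hex⟩
  · rintro ⟨i, -, hu⟩
    exact { supportDim_eq_depth := (key.2 fun j k hj hk => (hu j hj).trans (hu k hk).symm).resolve_left hsub }

noncomputable def stalkTilde {R : CommRingCat.{u}} (H : ModuleCat.{u} R) (p : PrimeSpectrum.Top R) :
    LocalizedModule p.asIdeal.primeCompl H ≃+ ((tilde H).presheaf.stalk p) :=
  (IsLocalizedModule.iso p.asIdeal.primeCompl (tilde.toStalk H p).hom).toAddEquiv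

lemma point_aux (X : Scheme.{u}) [IsLocallyNoetherian X]
    [∀ (U : Scheme.{u}) (j : U ⟶ X) [IsOpenImmersion j], PreservesFiniteLimits (Scheme.Modules.restrictFunctor j)]
    [∀ (R : CommRingCat.{u}), PreservesFiniteLimits (tilde.functor R)]
    (A : Type u) [CommRing A] [IsNoetherianRing A] (j : Spec (CommRingCat.of A) ⟶ X) [IsOpenImmersion j]
    (ω : DCoh.D X) {ωA : Dual.D A}
    (e : (DCoh.restrictD j).obj ω ≅ (DCoh.tildeD (CommRingCat.of A)).obj ωA)
    (p : PrimeSpectrum A) :
    (LocCoh.IsCohenMacaulayLocalRing (X.presheaf.stalk (j.base p)) ↔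
      LocCoh.IsCohenMacaulayLocalRing (Localization.AtPrime p.asIdeal)) ∧
    ∀ i : ℤ, (Nontrivial ((DCoh.HD ω i).presheaf.stalk (j.base p)) ↔
      Nontrivial (LocalizedModule p.asIdeal.primeCompl (Dual.HD A ωA i))) := by
  constructor
  · letI : Algebra A ((Spec (CommRingCat.of A)).presheaf.stalk p) := StructureSheaf.stalkAlgebra A p
    haveI : IsLocalization.AtPrime ((Spec (CommRingCat.of A)).presheaf.stalk p) p.asIdeal :=
      inferInstanceAs (IsLocalization.AtPrime ((Spec.structureSheaf A).presheaf.stalk p) p.asIdeal)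
    let e₁ : X.presheaf.stalk (j.base p) ≃+* (Spec (CommRingCat.of A)).presheaf.stalk p :=
      (asIso (j.stalkMap p)).commRingCatIsoToRingEquiv
    let e₂ : (Spec (CommRingCat.of A)).presheaf.stalk p ≃+* Localization.AtPrime p.asIdeal :=
      (IsLocalization.algEquiv p.asIdeal.primeCompl _ _).toRingEquiv
    let e₃ := e₁.trans e₂
    haveI : IsNoetherianRing (X.presheaf.stalk (j.base p)) := isNoetherianRing_of_ringEquiv _ e₃.symm
    exact ⟨fun h => Groth.Agent.LC.Liaison.isCMLocal_of_ringEquiv e₃,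
      fun h => Groth.Agent.LC.Liaison.isCMLocal_of_ringEquiv e₃.symm⟩
  · intro i
    haveI : (tilde.functor (CommRingCat.of A)).IsLeftAdjoint := (tilde.adjunction).isLeftAdjoint
    haveI : PreservesFiniteColimits (tilde.functor (CommRingCat.of A)) := inferInstance
    haveI : (tilde.functor (CommRingCat.of A)).Additive := Groth.Agent.KFlatLib.tilde_additive _
    let H : ModuleCat.{u} (CommRingCat.of A) := (DerivedCategory.homologyFunctor (ModuleCat.{u} A) i).obj ωA
    let e₁ : (Scheme.Modules.restrictFunctor j).obj (DCoh.HD ω i) ≅ (tilde.functor (CommRingCat.of A)).obj H :=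
      (Groth.Agent.KFlatLib.restrictHDIso j ω i).symm ≪≫
        (DerivedCategory.homologyFunctor _ i).mapIso e ≪≫ (Groth.Agent.KFlatLib.mapDCHomologyIso (tilde.functor (CommRingCat.of A)) i).app ωA
    let e₂ := ((Scheme.Modules.restrictStalkNatIso j p).app (DCoh.HD ω i)).addCommGroupIsoToAddEquiv
    let e₃ := ((DerSch.stalkFunctor (Spec (CommRingCat.of A)) p).mapIso e₁).toLinearEquiv.toAddEquiv
    let e₄ := stalkTilde (R := CommRingCat.of A) H p
    exact ((e₂.symm.trans e₃).trans e₄.symm).toEquiv.nontrivial_congr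

/-- Let X be a locally Noetherian scheme and ω a dualizing complex on X (affine-locally the derived
tilde of a dualizing complex of the ring; exactness of restriction of module sheaves to opens and of
M ↦ M~ is assumed through instance binders). Then for every point x the local ring O_{X,x} is
Cohen–Macaulay if and only if exactly one cohomology sheaf of ω has nonzero stalk at x; and the set
of points whose local ring is Cohen–Macaulay is open. -/
theorem result (X : Scheme.{u}) [IsLocallyNoetherian X] [∀ (U : Scheme.{u}) (j : U ⟶ X) [IsOpenImmersion j], PreservesFiniteLimits (Scheme.Modules.restrictFunctor j)] [∀ (R : CommRingCat.{u}), PreservesFiniteLimits (tilde.functor R)] (ω : DCoh.D X) (hω : Dual2.IsDualizingSch X ω) : (∀ x : X, LocCoh.IsCohenMacaulayLocalRing (X.presheaf.stalk x) ↔ ∃! i : ℤ, Nontrivial ((DCoh.HD ω i).presheaf.stalk x)) ∧ IsOpen {x : X | LocCoh.IsCohenMacaulayLocalRing (X.presheaf.stalk x)} := by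
  have hloc : ∀ x : X, ∃ (A : Type u) (_ : CommRing A) (_ : IsNoetherianRing A) (j : Spec (CommRingCat.of A) ⟶ X)
      (_ : IsOpenImmersion j), x ∈ Set.range j.base := fun x => by
    obtain ⟨_, ⟨U, hU, rfl⟩, hx, -⟩ := X.isBasis_affineOpens.exists_subset_of_mem_open (Set.mem_univ x) isOpen_univ
    exact ⟨Γ(X, U), inferInstance, IsLocallyNoetherian.component_noetherian ⟨U, hU⟩, IsAffineOpen.fromSpec hU,
      inferInstance, by rw [IsAffineOpen.range_fromSpec hU]; exact hx⟩
  refine ⟨fun x => ?_, ?_⟩
  · obtain ⟨A, _, _, j, _, p, rfl⟩ := hloc x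
    obtain ⟨ωA, hωA, ⟨e⟩⟩ := hω A j
    obtain ⟨h1, h2⟩ := point_aux X A j ω e p
    rw [h1, alg_aux hωA p]
    exact existsUnique_congr fun i => (h2 i).symm
  · refine isOpen_iff_forall_mem_open.2 fun x hx => ?_
    obtain ⟨A, _, _, j, _, p, rfl⟩ := hloc x
    obtain ⟨ωA, hωA, ⟨e⟩⟩ := hω A j
    refine ⟨j.base '' {q | LocCoh.IsCohenMacaulayLocalRing (Localization.AtPrime q.asIdeal)}, ?_,
      j.isOpenEmbedding.isOpenMap _ (Groth.Agent.S0372.result A ωA hωA).1,
      p, ((point_aux X A j ω e p).1).1 hx, rfl⟩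
    rintro _ ⟨q, hq, rfl⟩
    exact ((point_aux X A j ω e q).1).2 hq


end Groth.Agent.S1809
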