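import Groth.Statements.S18103
import Groth.Agent.Deform.GenSub.DimDerived


set_option autoImplicit false
universe u
open CategoryTheory MonoidalCategory CartesianMonoidalCategory MonObj GrpObj AlgebraicGeometry CategoryTheory.Limits
open AlgGrp

namespace Groth.Agent.S18103
attribute [local instance] CategoryTheory.Hom.monoid CategoryTheory.Hom.group
set_option linter.style.haveILetI false
open scoped commutatorElement
/-- Let S be a scheme and G a smooth S-group scheme of finite presentation; for s ∈ S let d_0(s) be the
dimension of the derived group of the identity component of the geometric fibre of G at s, i.e. the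
least dimension of a closed subgroup scheme N of the identity component C (the connected open and
closed subgroup scheme) which is normal in C and contains all commutators of points of C. Then d_0
does not increase under specialization: for every natural number n, if s specializes to s' (that is,
s' lies in the closure of s) and d_0(s) ≤ n, then d_0(s') ≤ n. (The published statement asserts that
d_0 is lower semicontinuous on S, i.e. that the set of points s with d_0(s) ≤ n is closed; the
published argument reduces to the spectrum of an integral local ring and establishes that this set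
is stable under specialization, which is what is stated here. Closedness would in addition need the
set to be locally constructible, which the argument does not address.) -/
theorem result (S : Scheme.{u}) (G : Over S) [GrpObj G]
    [Smooth G.hom] [QuasiCompact G.hom] [QuasiSeparated G.hom] (n : ℕ) :
    StableUnderSpecialization {s : ↥S | ∃ (C : Over (Spec (CommRingCat.of (AlgebraicClosure (S.residueField s))))) (_ : GrpObj C) (c : C ⟶ Red.geomFibre s G)
      (N : Over (Spec (CommRingCat.of (AlgebraicClosure (S.residueField s))))) (_ : GrpObj N) (i : N ⟶ C),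
      IsMonHom c ∧ IsOpenImmersion c.left ∧ IsClosedImmersion c.left ∧ ConnectedSpace ↥C.left ∧
      IsMonHom i ∧ IsClosedImmersion i.left ∧ AlgGrp.IsNormalHom i ∧
      (∀ (T : Over (Spec (CommRingCat.of (AlgebraicClosure (S.residueField s))))) (g h : T ⟶ C), ∃ m : T ⟶ N, g * h * g⁻¹ * h⁻¹ = m ≫ i) ∧
      topologicalKrullDim ↥N.left ≤ (n : WithBot ℕ∞)} := by
  rintro s s' hs ⟨C, iC, c, N, iN, i, hc₀, hco, hcc, hconn, hi, hic, -, hcomm, hd⟩
  haveI := hc₀; haveI := hco; haveI := hcc; haveI := hconn; haveI := hi; haveI := hic
  open Deform.GenSub in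
  let V : G.left.Opens := ⟨SGA3x.neutralSet G, DimSemi.isOpen_neutralSet⟩
  let U : Over S := Over.mk (V.ι ≫ G.hom)
  let j : U ⟶ G := Over.homMk V.ι rfl
  haveI : Smooth U.hom := inferInstanceAs (Smooth (V.ι ≫ G.hom))
  haveI : Smooth (U ⊗ U).hom := Deform.Luna.SolvLocus.smooth_tensor U U
  haveI : ∀ t : S, IsOpenImmersion ((Over.pullback (Red.geomPt t)).map j).left := fun t =>
    MorphismProperty.baseChange_map (P := @IsOpenImmersion) (Red.geomPt t) j (inferInstanceAs (IsOpenImmersion V.ι))
  have hrange : ∀ t : S, Set.range ((Over.pullback (Red.geomPt t)).map j).left = SGA3x.neutralSet (Red.geomFibre t G) :=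
    fun t => by
      rw [Spread.range_map, Groth.Agent.S5322.result]
      exact congrArg _ V.range_ι
  obtain ⟨u, hu⟩ := Deform.GenSub.DimSemi.exists_lift_open c ((Over.pullback (Red.geomPt s)).map j)
    (by rw [hrange, DimSemi.range_eq_neutralSet c])
  obtain ⟨m, hm⟩ := DimSemi.map_cm_self (Red.geomPt s) j c i u hu hcomm
  haveI : LocallyOfFiniteType (i ≫ c).left := by rw [Over.comp_left]; infer_instance
  have h1 := DimSemi.not_big (Spread.cm j j) n (Red.geomPt s) (i ≫ c) m hm hd s fun p => by
    rw [Red.geomPt, Scheme.Hom.comp_apply, Scheme.fromSpecResidueField_apply]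
  haveI : Smooth (Red.geomFibre s' G).hom := MorphismProperty.pullback_snd G.hom (Red.geomPt s') inferInstance
  obtain ⟨C', iC', c', hc', hco', hcc', hconn', hr'⟩ := DimSemi.exists_open_identity (Red.geomFibre s' G)
  haveI := hc'; haveI := hco'; haveI := hcc'; haveI := hconn'
  haveI : Smooth C'.hom := by rw [← Over.w c']; infer_instance
  obtain ⟨N', iN', i', hi', hic', hn', hcomm', hcov⟩ := DimSemi.exists_derived_field C' (Or.inr inferInstance)
  haveI := hic'
  haveI : LocallyOfFiniteType (i' ≫ c').left := by rw [Over.comp_left]; infer_instance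
  haveI : LocallyQuasiFinite (i' ≫ c').left := by rw [Over.comp_left]; infer_instance
  obtain ⟨v, hv⟩ := Deform.GenSub.DimSemi.exists_lift_open ((Over.pullback (Red.geomPt s')).map j) c'
    (by rw [hrange, hr'])
  refine ⟨C', iC', c', N', iN', i', hc', hco', hcc', hconn', hi', hic', hn', hcomm',
    DimSemi.dim_le_of_not_big (Spread.cm j j) n (Red.geomPt s') (i' ≫ c')
      (Spread.cm (𝟙 C') (𝟙 C') ≫ c') (lift (fst C' C' ≫ v) (snd C' C' ≫ v) ≫
        Functor.LaxMonoidal.μ (Over.pullback (Red.geomPt s')) U U) ?_ s'
      (fun p => by rw [Red.geomPt, Scheme.Hom.comp_apply, Scheme.fromSpecResidueField_apply]) (fun z => ?_)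
      fun h => h1 (DimSemi.big_of_specializes _ n hs h)⟩
  · rw [Category.assoc, Spread.μ_map_cm, Spread.comp_cm, lift_fst, lift_snd, commutatorElement_def]
    simp only [Category.assoc, hv, Spread.cm, MonObj.mul_comp, GrpObj.inv_comp, Category.comp_id]
  · obtain ⟨l, x, hx⟩ := hcov z
    refine ⟨l, x, ?_⟩
    rw [← wMor_comp c' (Spread.cm (𝟙 C') (𝟙 C')) l, Over.comp_left, Over.comp_left, Scheme.Hom.comp_apply,
      Scheme.Hom.comp_apply, hx]

end Groth.Agent.S18103
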