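import Groth.Statements.S1812
import Groth.Agent.RGammaI.Colim
-- import your own Groth.Agent.* helpers here

set_option autoImplicit false
universe u
open CategoryTheory
attribute [local instance] HasDerivedCategory.standard
open LocCoh

namespace Groth.Agent.S1812

/-- Let A be a ring, I a finitely generated ideal and K an object of D(A); assume the total right
derived functor RΓ_I of the I-power torsion functor exists. Then for every q the A-module
H^q(RΓ_I(K)) is isomorphic to the direct limit over n of the A-modules of maps A/I^n → K[q] in D(A). -/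
theorem result (A : Type u) [CommRing A] (I : Ideal A) (hI : I.FG) [DRing.HasRgammaI I] (K : Dual.D A) (q : ℤ) : Nonempty (Dual.HD A ((DRing.RgammaI I).obj K) q ≃ₗ[A] Dual2.HDI A I K q) := by
  obtain ⟨J, hJ, ⟨e⟩⟩ := Groth.Agent.RGammaI.exists_rep K
  haveI := hJ
  haveI : (J⟦q⟧).IsKInjective := inferInstance
  obtain ⟨e₁⟩ := Groth.Agent.RGammaI.nonempty_colimit_equiv I (J⟦q⟧) (K := K⟦q⟧)
    ((DerivedCategory.Q.commShiftIso q).app J ≪≫ (shiftFunctor (Dual.D A) q).mapIso e)
  let e₂ : ((Groth.Agent.RGammaI.Γc I).obj (J⟦q⟧)).homology 0 ≅ ((Groth.Agent.RGammaI.Γc I).obj J).homology q :=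
    HomologicalComplex.homologyMapIso (((Groth.Agent.RGammaI.Γc I).commShiftIso q).app J) 0 ≪≫
      ((HomologicalComplex.homologyFunctor (ModuleCat.{u} A) (ComplexShape.up ℤ) 0).shiftIso q 0 q (add_zero q)).app _
  let e₃ : Dual.HD A ((DRing.RgammaI I).obj K) q ≃ₗ[A] ((Groth.Agent.RGammaI.Γc I).obj J).homology q :=
    (((DerivedCategory.homologyFunctor (ModuleCat.{u} A) q).mapIso
      (Groth.Agent.RGammaI.isoOfKInjective I J ≪≫ (DRing.RgammaI I).mapIso e)).symm ≪≫
        (DerivedCategory.homologyFunctorFactors (ModuleCat.{u} A) q).app _).toLinearEquiv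
  exact ⟨(e₃.trans e₂.toLinearEquiv.symm).trans e₁.symm⟩


end Groth.Agent.S1812
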