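import Groth.Statements.S18128
import Groth.Agent.S2064
import Groth.Agent.FlatLoc6.NormFlat
import Groth.Agent.Alg6.AssDepth
import Groth.Agent.LC.ExtDim

set_option autoImplicit false
set_option linter.style.haveILetI false
set_option backward.isDefEq.respectTransparency false
universe u
open CAlg

namespace Groth.Agent.S18128

open CategoryTheory

section Cx

variable {R : Type u} [CommRing R] (e : ℕ) (n : ℕ → ℕ) (A : (i : ℕ) → Matrix (Fin (n i)) (Fin (n (i + 1))) R)

/-- The index type of the truncated complex. -/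
abbrev Idx (j : ℕ) : Type := {_x : Fin (n j) // j ≤ e}

/-- The matrices of the truncated complex. -/
abbrev mat (i : ℕ) : Matrix (Idx e n i) (Idx e n (i + 1)) R := (A i).submatrix Subtype.val Subtype.val

theorem mat_mul (hA : ∀ i, i + 2 ≤ e → A i * A (i + 1) = 0) (i : ℕ) : mat e n A i * mat e n A (i + 1) = 0 := by
  by_cases h : i + 2 ≤ e
  · have hbij : Function.Bijective (Subtype.val : Idx e n (i + 1) → Fin (n (i + 1))) :=
      ⟨Subtype.val_injective, fun x => ⟨⟨x, by omega⟩, rfl⟩⟩
    rw [← Matrix.submatrix_mul (A i) (A (i + 1)) _ _ _ hbij, hA i h]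
    rfl
  · ext a b
    exact absurd b.2 (by omega)

/-- The truncated complex. -/
noncomputable def cx (hA : ∀ i, i + 2 ≤ e → A i * A (i + 1) = 0) : ChainComplex (ModuleCat.{u} R) ℕ :=
  ChainComplex.of (fun j => ModuleCat.of R (Idx e n j → R)) (fun i => ModuleCat.ofHom (mat e n A i).mulVecLin) (fun i => by
    rw [← ModuleCat.ofHom_comp, ← Matrix.mulVecLin_mul, mat_mul e n A hA i, Matrix.mulVecLin_zero]
    rfl)

/-- Identification of the indices below the length. -/
def idxEquiv {j : ℕ} (hj : j ≤ e) : Idx e n j ≃ Fin (n j) :=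
  ⟨Subtype.val, fun x => ⟨x, hj⟩, fun _ => rfl, fun _ => rfl⟩

theorem mat_mulVec {i : ℕ} (hi : i + 1 ≤ e) (w : Idx e n (i + 1) → R) (a : Idx e n i) :
    (mat e n A i).mulVec w a = (A i).mulVec (w ∘ (idxEquiv e n hi).symm) a.1 := by
  simp only [Matrix.mulVec, dotProduct, Matrix.submatrix_apply, Function.comp]
  exact Fintype.sum_equiv (idxEquiv e n hi) _ _ fun x => rfl

end Cx

/-- Local step of Buchsbaum–Eisenbud: let R be a Noetherian local ring with maximal ideal m, and 0 →
R^(n_e) → ⋯ → R^(n_1) → R^(n_0) a complex of finite free modules, the map R^(n_(i+1)) → R^(n_i)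
being given by the matrix A i, with 1 ≤ e and e at most the depth of R (there is an R-regular
sequence of length e inside m). If for every prime ideal p ≠ m the complex of matrices over R_p
obtained by localization is exact at R_p^(n_e), …, R_p^(n_1), then the complex is exact at R^(n_e),
…, R^(n_1). -/
theorem result
    {R : Type u} [CommRing R] [IsLocalRing R] [IsNoetherianRing R]
    (e : ℕ) (he : 1 ≤ e) (n : ℕ → ℕ) (A : (i : ℕ) → Matrix (Fin (n i)) (Fin (n (i + 1))) R)
    (hA : ∀ i, i + 2 ≤ e → A i * A (i + 1) = 0)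
    (rs : List R) (hlen : rs.length = e) (hmem : ∀ x ∈ rs, x ∈ IsLocalRing.maximalIdeal R)
    (hreg : RingTheory.Sequence.IsRegular R rs)
    (hloc : ∀ (p : Ideal R) [p.IsPrime], p ≠ IsLocalRing.maximalIdeal R →
      LinearMap.ker ((A (e - 1)).map (algebraMap R (Localization.AtPrime p))).mulVecLin = ⊥ ∧
        ∀ i, i + 2 ≤ e →
          LinearMap.ker ((A i).map (algebraMap R (Localization.AtPrime p))).mulVecLin =
            LinearMap.range ((A (i + 1)).map (algebraMap R (Localization.AtPrime p))).mulVecLin) :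
    LinearMap.ker (A (e - 1)).mulVecLin = ⊥ ∧
      ∀ i, i + 2 ≤ e → LinearMap.ker (A i).mulVecLin = LinearMap.range (A (i + 1)).mulVecLin := by
  classical
  let C := cx e n A hA
  have hd : ∀ i, (C.d (i + 1) i).hom = (mat e n A i).mulVecLin := fun i => by
    simp only [C, cx, ChainComplex.of_d]
    rfl
  have hfin : ∀ j, Module.Finite R (C.X j) := fun j => inferInstanceAs (Module.Finite R (Idx e n j → R))
  have hzero : ∀ j, e < j → Limits.IsZero (C.X j) := fun j hj => by
    haveI : IsEmpty (Idx e n j) := ⟨fun x => absurd x.2 (by omega)⟩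
    exact ModuleCat.isZero_of_subsingleton (ModuleCat.of R (Idx e n j → R))
  have hR : (e : ℕ∞) ≤ LocCoh.depth R R :=
    hlen ▸ Alg6.length_le_idealDepth hreg.toIsWeaklyRegular hmem
  have hdepth : ∀ j, j ≤ e → (j : ℕ∞) ≤ LocCoh.depth R (C.X j) := fun j hj => by
    show (j : ℕ∞) ≤ LocCoh.depth R (Idx e n j → R)
    rw [Hensel.depth_congr (LinearEquiv.funCongrLeft R R (idxEquiv e n hj)).symm]
    rcases Nat.eq_zero_or_pos (n j) with h0 | h0
    · haveI : IsEmpty (Fin (n j)) := by rw [h0]; infer_instance
      rw [FlatLoc6.depth_top_of_subsingleton]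
      exact le_top
    · obtain ⟨k, hk⟩ := Nat.exists_eq_add_one.2 h0
      rw [hk, FlatLoc6.depth_pi R k]
      exact (Nat.cast_le.2 hj).trans hR
  -- homology is supported at the closed point
  have hkill : ∀ i (z : C.homology (i + 1)) (p : Ideal R) [p.IsPrime], p ≠ IsLocalRing.maximalIdeal R →
      ∃ s : R, s ∉ p ∧ s • z = 0 := by
    intro i z p _ hp
    haveI : Epi (C.homologyπ (i + 1)) := inferInstance
    obtain ⟨c, rfl⟩ := (ModuleCat.epi_iff_surjective (C.homologyπ (i + 1))).1 inferInstance z
    let x : Idx e n (i + 1) → R := (C.iCycles (i + 1)).hom c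
    have hx : (mat e n A i).mulVec x = 0 := by
      have h := congrArg (fun φ => φ.hom c) (C.iCycles_d (i + 1) i)
      rw [ModuleCat.hom_comp, LinearMap.comp_apply, hd] at h
      exact h
    suffices ∃ s : R, s ∉ p ∧ ∃ w, (mat e n A (i + 1)).mulVec w = s • x by
      obtain ⟨s, hs, w, hw⟩ := this
      refine ⟨s, hs, ?_⟩
      have hc : (C.toCycles (i + 1 + 1) (i + 1)).hom w = s • c := by
        refine (ModuleCat.mono_iff_injective (C.iCycles (i + 1))).1 inferInstance ?_
        rw [map_smul]
        have h := congrArg (fun φ => φ.hom w) (C.toCycles_i (i + 1 + 1) (i + 1))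
        rw [ModuleCat.hom_comp, LinearMap.comp_apply, hd] at h
        exact h.trans hw
      rw [← map_smul, ← hc]
      exact congrArg (fun φ => φ.hom w) (C.toCycles_comp_homologyπ (i + 1 + 1) (i + 1))
    by_cases hie : i + 1 ≤ e
    swap
    · refine ⟨1, (Ideal.ne_top_iff_one p).1 (Ideal.IsPrime.ne_top inferInstance), 0, ?_⟩
      haveI : IsEmpty (Idx e n (i + 1)) := ⟨fun y => absurd y.2 hie⟩
      exact Subsingleton.elim _ _
    obtain ⟨hker, hex⟩ := hloc p hp
    let S := Localization.AtPrime p
    let x' : Fin (n (i + 1)) → R := x ∘ (idxEquiv e n hie).symm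
    have hxk : (algebraMap R S ∘ x') ∈ LinearMap.ker ((A i).map (algebraMap R S)).mulVecLin := by
      rw [LinearMap.mem_ker, Matrix.mulVecLin_apply]
      funext a
      rw [← RingHom.map_mulVec, ← mat_mulVec e n A hie x ⟨a, by omega⟩, hx]
      simp
    rcases eq_or_lt_of_le hie with htop | hlt
    · subst htop
      rw [Nat.add_sub_cancel] at hker
      rw [hker, Submodule.mem_bot] at hxk
      have hann : ∀ a, ∃ s : p.primeCompl, (s : R) * x' a = 0 := fun a =>
        (IsLocalization.map_eq_zero_iff p.primeCompl S (x' a)).1 (congrFun hxk a)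
      choose s hs using hann
      refine ⟨(∏ a, s a : p.primeCompl), (∏ a, s a : p.primeCompl).2, 0, ?_⟩
      rw [Matrix.mulVec_zero]
      funext a
      rw [Pi.smul_apply, Pi.zero_apply, smul_eq_mul]
      obtain ⟨t, ht⟩ := Finset.dvd_prod_of_mem (fun b => (s b : p.primeCompl)) (Finset.mem_univ (a.1))
      rw [ht]
      push_cast
      have h := hs a.1
      have hxa : x' a.1 = x a := rfl
      rw [hxa] at h
      rw [mul_comm (s a.1 : R), mul_assoc, h, mul_zero]
    · rw [hex i hlt] at hxk
      obtain ⟨w, hw⟩ := hxk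
      obtain ⟨b, hb⟩ := IsLocalization.exist_integer_multiples_of_finite p.primeCompl w
      choose w' hw' using hb
      have heq : ∀ a, algebraMap R S (((A (i + 1)).mulVec w') a) = algebraMap R S ((b : R) * x' a) := fun a => by
        rw [RingHom.map_mulVec, map_mul, show (algebraMap R S ∘ w') = (b : R) • w from funext hw', Matrix.mulVec_smul,
          Pi.smul_apply, Algebra.smul_def]
        exact congrArg _ (congrFun hw a)
      have hann : ∀ a, ∃ s : p.primeCompl, (s : R) * (((A (i + 1)).mulVec w') a) = (s : R) * ((b : R) * x' a) :=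
        fun a => (IsLocalization.eq_iff_exists p.primeCompl S).1 (heq a)
      choose s hs using hann
      let P : p.primeCompl := ∏ a, s a
      refine ⟨((P * b : p.primeCompl) : R), (P * b).2, ((P : R) • w') ∘ idxEquiv e n hlt, ?_⟩
      funext a
      rw [mat_mulVec e n A hlt, Pi.smul_apply, smul_eq_mul,
        show (((P : R) • w') ∘ idxEquiv e n hlt) ∘ (idxEquiv e n hlt).symm = (P : R) • w' from rfl,
        Matrix.mulVec_smul, Pi.smul_apply, smul_eq_mul]
      obtain ⟨t, ht⟩ := Finset.dvd_prod_of_mem (fun c => (s c : p.primeCompl)) (Finset.mem_univ (a.1))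
      have hxa : x' a.1 = x a := rfl
      have h := hs a.1
      rw [hxa] at h
      rw [Submonoid.coe_mul, show (P : R) = (s a.1 : R) * (t : R) from congrArg Subtype.val ht, mul_right_comm, h]
      ring
  -- acyclicity
  have hexact : ∀ i, C.ExactAt (i + 1) := by
    suffices H : ∀ k i, e - i ≤ k → C.ExactAt (i + 1) from fun i => H _ i le_rfl
    intro k
    induction k with
    | zero =>
      intro i hi
      exact ShortComplex.exact_of_isZero_X₂ _ (hzero (i + 1) (by omega))
    | succ k ih =>
      intro i hi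
      by_contra hnot
      have hab : ∀ j, i + 1 < j → C.ExactAt j := fun j hj => by
        obtain ⟨j', rfl⟩ : ∃ j', j = j' + 1 := ⟨j - 1, by omega⟩
        exact ih j' (by omega)
      have hd1 := S2064.result C e hzero hfin hdepth (i + 1) (by omega) hnot hab
      haveI := hfin (i + 1)
      haveI : Module.Finite R (C.cycles (i + 1)) := Module.Finite.of_injective (C.iCycles (i + 1)).hom
        ((ModuleCat.mono_iff_injective _).mp inferInstance)
      haveI : Module.Finite R (C.homology (i + 1)) := Module.Finite.of_surjective (C.homologyπ (i + 1)).hom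
        ((ModuleCat.epi_iff_surjective _).mp inferInstance)
      haveI : Nontrivial (C.homology (i + 1)) := not_subsingleton_iff_nontrivial.1 fun hs =>
        hnot ((C.exactAt_iff_isZero_homology _).2 (ModuleCat.isZero_of_subsingleton _))
      obtain ⟨P, hP⟩ := associatedPrimes.nonempty R (C.homology (i + 1))
      haveI := hP.isPrime
      obtain ⟨-, z, hz⟩ := Alg6.mem_ass_iff.1 hP
      have hPm : P = IsLocalRing.maximalIdeal R := by
        by_contra hne
        obtain ⟨s, hs, hsz⟩ := hkill i z P hne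
        exact hs ((hz s).2 hsz)
      have hle := LC.depth_le_coheight_of_ass (C.homology (i + 1)) (p := ⟨P, inferInstance⟩) hP
      have hco : Order.coheight (⟨P, inferInstance⟩ : PrimeSpectrum R) = 0 := Order.coheight_eq_zero.2 fun Q hQ =>
        (PrimeSpectrum.ext ((hPm ▸ IsLocalRing.maximalIdeal.isMaximal R : P.IsMaximal).eq_of_le Q.2.ne_top hQ)).ge
      rw [hco] at hle
      exact absurd (hd1.trans hle) (by simp)
  have hfwd : ∀ i, ∀ hi : i + 1 ≤ e, ∀ v : Fin (n (i + 1)) → R, (A i).mulVec v = 0 →
      ∃ w : Idx e n (i + 1 + 1) → R, (mat e n A (i + 1)).mulVec w = v ∘ idxEquiv e n (j := i + 1) hi := by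
    intro i hi v hv
    have h := hexact i
    rw [HomologicalComplex.exactAt_iff' C (i + 1 + 1) (i + 1) i (by simp) (by simp),
      ShortComplex.moduleCat_exact_iff] at h
    obtain ⟨w, hw⟩ := h (v ∘ idxEquiv e n (j := i + 1) hi) (by
      show (C.d (i + 1) i).hom _ = 0
      rw [hd]
      funext a
      exact (mat_mulVec e n A hi _ a).trans (congrFun hv a.1))
    change (C.d (i + 1 + 1) (i + 1)).hom w = _ at hw
    rw [hd] at hw
    exact ⟨w, hw⟩
  refine ⟨?_, fun i hi => ?_⟩
  · obtain ⟨i, rfl⟩ : ∃ i, e = i + 1 := ⟨e - 1, by omega⟩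
    rw [Nat.add_sub_cancel, eq_bot_iff]
    intro v hv
    obtain ⟨w, hw⟩ := hfwd i le_rfl v hv
    haveI : IsEmpty (Idx (i + 1) n (i + 1 + 1)) := ⟨fun y => absurd y.2 (by omega)⟩
    rw [Subsingleton.elim w 0, Matrix.mulVec_zero] at hw
    exact funext fun a => (congrFun hw ⟨a, le_rfl⟩).symm
  · refine le_antisymm (fun v hv => ?_) ?_
    · obtain ⟨w, hw⟩ := hfwd i (by omega) v hv
      refine ⟨w ∘ (idxEquiv e n (j := i + 1 + 1) hi).symm, funext fun a => ?_⟩
      rw [Matrix.mulVecLin_apply, ← mat_mulVec e n A hi w ⟨a, by omega⟩, hw]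
      rfl
    · rintro _ ⟨w, rfl⟩
      rw [LinearMap.mem_ker, ← LinearMap.comp_apply, ← Matrix.mulVecLin_mul, hA i hi, Matrix.mulVecLin_zero]
      rfl

end Groth.Agent.S18128
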