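import Groth.Statements.S18130
import Groth.Agent.S18131
import Groth.Agent.SurfStab.GenPart
import Groth.Agent.SurfStab.LMSimple
import Groth.Agent.H23.PicInv
import Groth.Agent.AmpleX.Rel

set_option autoImplicit false
set_option linter.style.haveILetI false
set_option backward.isDefEq.respectTransparency false
set_option backward.isDefEq.respectTransparency.types false
universe u
open CategoryTheory CategoryTheory.Limits AlgebraicGeometry
open Surf

namespace Groth.Agent.S18130

open Groth.Agent

/-- Let X be a K3 surface over an algebraically closed field k of characteristic zero — an integral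
scheme, smooth and proper over k, of dimension two, carrying an ample invertible module, whose
structure sheaf is a second exterior power of its sheaf of differentials (trivial canonical sheaf)
and with H^1(X, O_X) = 0. Let i : C → X be a closed immersion over k with C integral, smooth over k
and of dimension one, whose ideal sheaf I_C is invertible and such that the Picard group of X is
infinite cyclic, generated by the class of I_C (equivalently of O_X(C)). Then for every invertible
O_C-module A the Brill–Noether number is non-negative: h^0(C, A) · h^1(C, A) ≤ g(C), where g(C) =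
dim_k H^1(C, O_C). -/
theorem result (k : Type u) [Field k] [IsAlgClosed k] [CharZero k]
    (X : Scheme.{u}) [X.Over (Spec (CommRingCat.of k))] [IsIntegral X]
    [Smooth (X ↘ Spec (CommRingCat.of k))] (hdim : topologicalKrullDim X = 2)
    [IsProper (X ↘ Spec (CommRingCat.of k))]
    (H : X.Modules) (hHa : CohB1.IsAmple H)
    (hK : Canon.IsTopDiff (X ↘ Spec (CommRingCat.of k)) 2 (Coh.structureModule X))
    (hq : Module.finrank k (Coh.HH X (Coh.structureModule X) 1) = 0)
    [PicGrp.Law X]
    (C : Scheme.{u}) [C.Over (Spec (CommRingCat.of k))] [IsIntegral C]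
    [Smooth (C ↘ Spec (CommRingCat.of k))] (hC : topologicalKrullDim C = 1)
    (i : C ⟶ X) [IsClosedImmersion i] (hi : i ≫ (X ↘ Spec (CommRingCat.of k)) = C ↘ Spec (CommRingCat.of k))
    (hI : PicF.IsInvertible (ClSub.idealMod i.ker))
    (hgen : ∀ c : PicLoc.PicSet X, ∃ n : ℤ, c = PicGrp.cls (ClSub.idealMod i.ker) hI ^ n)
    (hfree : ∀ n : ℤ, PicGrp.cls (ClSub.idealMod i.ker) hI ^ n = 1 → n = 0)
    (A : C.Modules) (hA : PicF.IsInvertible A) :
    Module.finrank k (Coh.HH C A 0) * Module.finrank k (Coh.HH C A 1) ≤ Curv2.genus k C := by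
  haveI : IsProper (C ↘ Spec (CommRingCat.of k)) := hi ▸ inferInstance
  haveI : IsNoetherian X := CurveCohLib.isNoetherian_of_proper (k := k)
  haveI : IsNoetherian C := CurveCohLib.isNoetherian_of_proper (k := k)
  rcases Nat.eq_zero_or_pos (Module.finrank k (Coh.HH C A 0)) with h | hpos
  · simp [h]
  obtain ⟨A', lam, hA', hepi, hlam, h0', h1'⟩ :=
    SurfStab.exists_lm_map (k := k) hC i hi hA hpos.ne'
  haveI := hepi
  refine le_trans (Nat.mul_le_mul h0'.ge h1') ?_
  let F := kernel lam
  obtain ⟨N, ι, hι, hι'⟩ := AmpleEmbed.exists_closedImmersion (X ↘ Spec (CommRingCat.of k)) hHa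
  haveI := hι
  obtain ⟨hF, -⟩ := SurfStab.euler_hom_lm hdim ι hι' hK hC i hi hq hA' _ lam
  have hχ := S18131.result k X hdim H hHa hK hq C hC i hi A' hA' _ lam hlam
  obtain ⟨φ⟩ := ExtShX.nonempty_hom_iso_homSh_of_locFree hF (kernel lam)
  rw [← Euler.euler_congr k φ, SurfStab.euler_eq_three hdim] at hχ
  obtain ⟨L, hLinv, hL⟩ := SurfStab.exists_ample_inverse (k := k) hdim i hI hgen hHa
  obtain ⟨hFc, hinj, hst⟩ := SurfStab.lm_stable (k := k) hdim hC i hI hgen hLinv hL hA' _ lam hlam.1
  haveI : EnoughInjectives X.Modules := inferInstanceAs (EnoughInjectives (SheafOfModules _))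
  haveI : HasExt.{u} X.Modules := inferInstance
  obtain ⟨g⟩ := PnDual.nonempty_ext_linearEquiv_HH (A := k) hF (kernel lam) 0
  have h0 : Module.finrank k (Coh.HH X ((SheafHomX.hom (kernel lam)).obj (kernel lam)) 0) ≤ 1 :=
    finrank_le_one (g (Abelian.Ext.mk₀ (𝟙 (kernel lam)))) fun w => by
      obtain ⟨x, rfl⟩ := g.surjective w
      obtain ⟨ψ, rfl⟩ : ∃ ψ, Abelian.Ext.mk₀ ψ = x :=
        ⟨Abelian.Ext.addEquiv₀ x, Abelian.Ext.addEquiv₀.symm_apply_apply x⟩
      obtain ⟨c, rfl⟩ := StabHom.exists_scalar hL
        (SurfStab.isPure_of_injective (k := k) hdim hinj) hst ψ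
      exact ⟨c, by rw [← map_smul, Abelian.Ext.mk₀_smul]⟩
  have h2 := SurfStab.finrank_end_symm hdim ι hι' hK hF 0 (Nat.zero_le _)
  rw [Nat.sub_zero] at h2
  rw [h2] at hχ
  have hle : ((Module.finrank k (Coh.HH C A' 0) : ℤ) * Module.finrank k (Coh.HH C A' 1)) ≤ Curv2.genus k C := by
    omega
  exact_mod_cast hle

end Groth.Agent.S18130
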