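import Groth.Statements.S18135
import Groth.Agent.SurfStab.K3Basics

set_option autoImplicit false
set_option linter.style.haveILetI false
set_option backward.isDefEq.respectTransparency false
set_option backward.isDefEq.respectTransparency.types false
universe u
open CategoryTheory CategoryTheory.Limits AlgebraicGeometry
open Surf

namespace Groth.Agent.S18135

open Groth.Agent
open scoped Groth.Agent.H23.PicMul

/-- Torsion-freeness of Pic: let X be a K3 surface over an algebraically closed field k of
characteristic zero — an integral scheme, smooth and proper over k, of dimension two, carrying an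
ample invertible module, whose structure sheaf is a second exterior power of its sheaf of
differentials (trivial canonical sheaf) and with H^1(X, O_X) = 0. If L is an invertible O_X-module
some positive tensor power of which is isomorphic to O_X, then L ≅ O_X; that is, the Picard group of
X has no torsion (the published statement adds that it is free of finite rank, by finite generation
of the Néron–Severi group). -/
theorem result (k : Type u) [Field k] [IsAlgClosed k] [CharZero k]
    (X : Scheme.{u}) [X.Over (Spec (CommRingCat.of k))] [IsIntegral X]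
    [Smooth (X ↘ Spec (CommRingCat.of k))] (hdim : topologicalKrullDim X = 2)
    [IsProper (X ↘ Spec (CommRingCat.of k))]
    (H : X.Modules) (hHa : CohB1.IsAmple H)
    (hK : Canon.IsTopDiff (X ↘ Spec (CommRingCat.of k)) 2 (Coh.structureModule X))
    (hq : Module.finrank k (Coh.HH X (Coh.structureModule X) 1) = 0)
    (L : X.Modules) (hL : PicF.IsInvertible L) (n : ℕ) (hn : 1 ≤ n)
    (htors : Nonempty (CohB1.tensorPow L n ≅ Coh.structureModule X)) :
    Nonempty (L ≅ Coh.structureModule X) := by
  obtain ⟨N, ι, hι, hι'⟩ := AmpleEmbed.exists_closedImmersion (X ↘ Spec (CommRingCat.of k)) hHa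
  haveI := hι
  haveI : IsNoetherian X := CurveCohLib.isNoetherian_of_proper (k := k)
  obtain ⟨e⟩ := htors
  have hpair : Big.pair k L H = 0 := by
    have h1 := Big.pair_pow k hdim.le hL hHa.1 n
    rw [Big.pair_congr k (H23.PicMul.cl_eq_iff.2 ⟨e⟩), Big.pair_one k hdim.le hHa.1] at h1
    exact (mul_eq_zero.1 h1.symm).resolve_left (by exact_mod_cast Nat.one_le_iff_ne_zero.1 hn)
  refine SurfStab.iso_unit_of_numeric hdim ι hι' hK hq hHa hL hpair ?_
  obtain ⟨P, hP, -, -⟩ := HilbPoly.exists_hilb (k := k) (L := L) (F := Coh.structureModule X) hL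
    RefX.isCoh_unit (d := 2) ((topologicalKrullDim_subspace_le X _).trans hdim.le)
  have hev : ∀ m : ℕ, P.eval (m : ℚ) = (Curv2.euler k X (CohB1.tensorPow L m) : ℚ) := fun m => by
    rw [← hP m]
    exact congrArg Int.cast (CurveCohLib.euler_congr (k := k) (CurveTensor.structureTensorIso _))
  have hper : ∀ j : ℕ, P.eval ((n * j : ℕ) : ℚ) = (Curv2.euler k X (Coh.structureModule X) : ℚ) := fun j => by
    rw [hev]
    refine congrArg Int.cast (CurveCohLib.euler_congr (k := k) (H23.PicMul.cl_eq_iff.1 ?_).some)
    rw [H23.PicMul.cl_tensorPow, pow_mul, ← H23.PicMul.cl_tensorPow L n, H23.PicMul.cl_eq_iff.2 ⟨e⟩,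
      ← H23.PicMul.one_def, one_pow]
  have hconst : P = Polynomial.C (Curv2.euler k X (Coh.structureModule X) : ℚ) := by
    refine Polynomial.eq_of_infinite_eval_eq _ _ (Set.Infinite.mono ?_
      (Set.infinite_range_of_injective (f := fun j : ℕ => ((n * j : ℕ) : ℚ)) fun a b h =>
        Nat.eq_of_mul_eq_mul_left hn (Nat.cast_injective h)))
    rintro _ ⟨j, rfl⟩
    show P.eval _ = Polynomial.eval _ (Polynomial.C _)
    rw [Polynomial.eval_C, hper]
  have h1 := hev 1
  rw [hconst, Polynomial.eval_C] at h1
  have h2 : Curv2.euler k X (CohB1.tensorPow L 1) = Curv2.euler k X L :=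
    CurveCohLib.euler_congr (k := k) (H23.PicMul.cl_eq_iff.1 (by rw [H23.PicMul.cl_tensorPow, pow_one])).some
  rw [h2] at h1
  exact_mod_cast h1.symm

end Groth.Agent.S18135
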