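import Groth.Statements.S18150
import Groth.Agent.PerfPic.SemiFrames
import Groth.Agent.PnVan.Pull
import Groth.Agent.PnVan.CM
import Groth.Agent.SmoothReg.Scheme
import Groth.Agent.CotTLib.CI
set_option backward.isDefEq.respectTransparency false
set_option backward.isDefEq.respectTransparency.types false
set_option linter.style.haveILetI false
set_option maxHeartbeats 1000000
open CategoryTheory CategoryTheory.Limits AlgebraicGeometry Opposite Groth.Agent
open Groth.Agent.H23.PicMul

set_option autoImplicit false
universe u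
open CategoryTheory AlgebraicGeometry Opposite TopologicalSpace
open FrobSch

namespace Groth.Agent.S18150

/-- Let p be a prime, k a perfect field of characteristic p, and X an irreducible smooth proper k-scheme
of dimension n. Let φ be the p-th power map on the sheaf of additive groups underlying O_X and
suppose X is Frobenius split: φ admits a retraction s, an additive endomorphism of O_X with s ∘ φ
the identity and s(a^p·b) = a·s(b) on every open. Then Kodaira vanishing holds on X: for every ample
invertible module L with tensor inverse L⁻¹ and every i < n, the cohomology group H^i(X, L⁻¹)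
vanishes. (The source allows X Gorenstein projective; X is taken smooth, proper with an ample
invertible module, and irreducible so that n is the dimension of every component.) -/
theorem result (p : ℕ) [Fact p.Prime]
    (k : Type u) [Field k] [CharP k p] [PerfectRing k p]
    (X : Scheme.{u}) [X.Over (Spec (CommRingCat.of k))] [IsProper (X ↘ Spec (CommRingCat.of k))]
    [Smooth (X ↘ Spec (CommRingCat.of k))] [IrreducibleSpace X] (n : ℕ) (hn : topologicalKrullDim X = n)
    (φ : Coh.toAb (Coh.structureModule X) ⟶ Coh.toAb (Coh.structureModule X))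
    (hφ : ∀ (U : X.Opens) (t : Γ(X, U)), φ.hom.app (op U) t = t ^ p)
    (s : Coh.toAb (Coh.structureModule X) ⟶ Coh.toAb (Coh.structureModule X))
    (hs : φ ≫ s = 𝟙 _)
    (hlin : ∀ (U : X.Opens) (a b : Γ(X, U)),
      s.hom.app (op U) (a ^ p * b) = a * @id Γ(X, U) (s.hom.app (op U) b))
    (L Linv : X.Modules) (hL : CohB1.IsAmple L) (hLinv : ClSub.IsInverseOf Linv L)
    (i : ℕ) (hi : i < n) :
    Subsingleton (Coh.HH X Linv i) := by
  let f := X ↘ Spec (CommRingCat.of k)
  haveI : FrobSch.IsCharP X p := FrobSch.IsCharP.of_hom f p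
  haveI : IsNoetherian X := CurveCohLib.isNoetherian_of_proper (k := k)
  obtain ⟨N, r, hr, -, hb⟩ := AmpleEmbed.exists_closedImmersion_pow f hL
  obtain ⟨b, hb0, hb⟩ := hb inferInstance
  let r' : X ⟶ PnVan.P k N := r
  haveI : IsClosedImmersion r' := hr
  have hM : ClSub.IsInverseOf L Linv := by
    refine cl_eq_iff.1 ?_
    rw [cl_tensor, mul_comm, ← cl_tensor]
    exact cl_eq_iff.2 hLinv
  have hI : PicF.IsInvertible Linv := AmpleNeg.isInvertible_inverse hL.1 hM
  have hd : ∀ x : X, IsClosed ({x} : Set X) →
      (n : ℕ∞) ≤ LocCoh.depth (X.presheaf.stalk x) ((Coh.structureModule X).presheaf.stalk x) := fun x hx => by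
    haveI : IsRegularLocalRing (X.presheaf.stalk x) :=
      SmoothReg.isRegularLocalRing_stalk_of_mem_smoothLocus f (by rw [f.smoothLocus_eq_top]; trivial)
    rw [PnVan.depth_structure]
    have h1 := (CotTLib.isCM_of_isRegularLocalRing (X.presheaf.stalk x))
    have h2 : ringKrullDim (X.presheaf.stalk x) = n := (SmoothReg.ringKrullDim_stalk_closedPoint f hx).trans hn
    have h3 := h1
    unfold LocCoh.IsCohenMacaulayModule at h3
    rw [Module.supportDim_self_eq_ringKrullDim, h2] at h3
    exact le_of_eq (WithBot.coe_inj.1 h3)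
  obtain ⟨m₀, hm₀⟩ := PnVan.eventually_subsingleton_of_depth r' hL.1 hM hb0 hb QCoh.isCoh_structureModule' hd i hi
  have hvan : ∀ m, m₀ ≤ m → Subsingleton (Coh.HH X (CohB1.tensorPow Linv m) i) := fun m hm =>
    let ⟨e⟩ := PnVan.tensor_one_iso (CohB1.tensorPow Linv m)
    QCoh.subsingleton_HH_of_iso e i (hm₀ m hm)
  have hstep : ∀ M : X.Modules, PicF.IsInvertible M → Subsingleton (Coh.HH X (CohB1.tensorPow M p) i) →
      Subsingleton (Coh.HH X M i) := fun M hMi h => ⟨fun a c => by
    have h1 : ∀ y, Sheaf.H.map (PerfPic.splitData p hMi s hlin).hom i (Sheaf.H.map (PerfPic.powData p hMi).hom i y) = y :=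
      fun y => by
        rw [← Sheaf.H.map_comp_apply, PerfPic.pow_split p hMi φ s hφ hs hlin, Sheaf.H.map_id_apply]
    rw [← h1 a, ← h1 c]
    exact congrArg _ (h.elim _ _)⟩
  have hall : ∀ e m : ℕ, m₀ ≤ p ^ e * m → Subsingleton (Coh.HH X (CohB1.tensorPow Linv m) i) := by
    intro e
    induction e with
    | zero => exact fun m hm => hvan m (by simpa using hm)
    | succ e ih =>
      intro m hm
      refine hstep _ (InvX.isInvertible_tensorPow hI m) ?_
      obtain ⟨q⟩ := cl_eq_iff.1 (show PicF.cl (CohB1.tensorPow Linv (m * p)) =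
          PicF.cl (CohB1.tensorPow (CohB1.tensorPow Linv m) p) by
        rw [cl_tensorPow, cl_tensorPow, cl_tensorPow, pow_mul])
      exact QCoh.subsingleton_HH_of_iso q i (ih (m * p) (by rw [← mul_assoc]; rwa [pow_succ, mul_right_comm] at hm))
  obtain ⟨q⟩ := cl_eq_iff.1 (show PicF.cl (CohB1.tensorPow Linv 1) = PicF.cl Linv by rw [cl_tensorPow, pow_one])
  exact QCoh.subsingleton_HH_of_iso q i
    (hall m₀ 1 (by rw [mul_one]; exact (Nat.lt_pow_self (Fact.out : p.Prime).one_lt).le))

end Groth.Agent.S18150
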