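import Groth.Statements.S18151
import Groth.Agent.PerfPic.SemiFrames
import Groth.Agent.CurveCohLib.Proper
import Groth.Agent.Lib.CurveDeg
set_option backward.isDefEq.respectTransparency false
set_option backward.isDefEq.respectTransparency.types false
set_option linter.style.haveILetI false
open CategoryTheory AlgebraicGeometry Opposite Groth.Agent

set_option autoImplicit false
universe u
open CategoryTheory AlgebraicGeometry Opposite TopologicalSpace
open FrobSch

namespace Groth.Agent.S18151

/-- Let p be a prime, k a perfect field of characteristic p, and X a proper k-scheme. Let φ be the p-th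
power map on the sheaf of additive groups underlying O_X and suppose X is Frobenius split: φ admits
a retraction s, an additive endomorphism of O_X with s ∘ φ the identity and s(a^p·b) = a·s(b) on
every open. Then for every invertible module L and every i the dimension of H^i(X, L) over k is at
most that of H^i(X, L^{⊗p}). (The source shows, for any k-scheme X, that the Frobenius pull-back
H^i(X, L) → H^i(X, L^{⊗p}) is injective, with a left inverse coming from the splitting; that map is
not named here, so the statement records its consequence on dimensions, for X proper so that both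
are finite.) -/
theorem result (p : ℕ) [Fact p.Prime]
    (k : Type u) [Field k] [CharP k p] [PerfectRing k p]
    (X : Scheme.{u}) [X.Over (Spec (CommRingCat.of k))] [IsProper (X ↘ Spec (CommRingCat.of k))]
    (φ : Coh.toAb (Coh.structureModule X) ⟶ Coh.toAb (Coh.structureModule X))
    (hφ : ∀ (U : X.Opens) (t : Γ(X, U)), φ.hom.app (op U) t = t ^ p)
    (s : Coh.toAb (Coh.structureModule X) ⟶ Coh.toAb (Coh.structureModule X))
    (hs : φ ≫ s = 𝟙 _)
    (hlin : ∀ (U : X.Opens) (a b : Γ(X, U)),
      s.hom.app (op U) (a ^ p * b) = a * @id Γ(X, U) (s.hom.app (op U) b))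
    (L : X.Modules) (hL : PicF.IsInvertible L) (i : ℕ) :
    Module.finrank k (Coh.HH X L i) ≤ Module.finrank k (Coh.HH X (CohB1.tensorPow L p) i) := by
  haveI : FrobSch.IsCharP X p := FrobSch.IsCharP.of_hom (X ↘ Spec (CommRingCat.of k)) p
  haveI : IsNoetherian X := CurveCohLib.isNoetherian_of_proper (k := k)
  have hLp := InvX.isInvertible_tensorPow hL p
  haveI := CurveCohLib.finite_HH (k := k) (CurveDeg.isCoh_of_isInvertible hL) i
  haveI := CurveCohLib.finite_HH (k := k) (CurveDeg.isCoh_of_isInvertible hLp) i
  let D := PerfPic.powData p hL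
  let T := PerfPic.splitData p hL s hlin
  let f : Coh.HH X L i →+ Coh.HH X (CohB1.tensorPow L p) i := Sheaf.H.map D.hom i
  have finj : Function.Injective f := fun a b h => by
    have h1 := congrArg (Sheaf.H.map T.hom i) h
    change Sheaf.H.map T.hom i (Sheaf.H.map D.hom i a) = Sheaf.H.map T.hom i (Sheaf.H.map D.hom i b) at h1
    rwa [← Sheaf.H.map_comp_apply, ← Sheaf.H.map_comp_apply, PerfPic.pow_split p hL φ s hφ hs hlin,
      Sheaf.H.map_id_apply, Sheaf.H.map_id_apply] at h1
  have fsmul : ∀ (c : k) (x : Coh.HH X L i), f (c • x) = c ^ p • f x := fun c x => by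
    show Sheaf.H.map D.hom i (Sheaf.H.map (Coh.smulAb L (Coh.toGlobal (X ↘ Spec (CommRingCat.of k)) c)) i x) =
      Sheaf.H.map (Coh.smulAb _ (Coh.toGlobal (X ↘ Spec (CommRingCat.of k)) (c ^ p))) i (Sheaf.H.map D.hom i x)
    rw [← Sheaf.H.map_comp_apply, ← Sheaf.H.map_comp_apply, PerfPic.pow_semilinear p hL, map_pow]
  let b := Module.finBasis k (Coh.HH X L i)
  have hli : LinearIndependent k (fun j => f (b j)) := by
    rw [Fintype.linearIndependent_iff]
    intro g hg j
    choose d hd using fun j => (PerfectRing.bijective_frobenius (R := k) (p := p)).2 (g j)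
    have h0 : f (∑ j, d j • b j) = f 0 := by
      rw [map_zero, map_sum, ← hg]
      refine Finset.sum_congr rfl fun j _ => ?_
      rw [fsmul, ← hd j]
    have h1 := Fintype.linearIndependent_iff.1 b.linearIndependent d (finj h0) j
    rw [← hd j, h1]
    exact zero_pow (Fact.out : p.Prime).ne_zero
  simpa using hli.fintype_card_le_finrank

end Groth.Agent.S18151
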