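import Groth.Statements.S18158
import Groth.Agent.S0118
import Groth.Agent.EtFound.TopInv
import Groth.Agent.FrobW2.EtaleFLift

set_option backward.isDefEq.respectTransparency false
set_option backward.isDefEq.respectTransparency.types false


set_option autoImplicit false
universe u
open CategoryTheory CategoryTheory.Limits AlgebraicGeometry
open Lift

namespace Groth.Agent.S18158

/-- Let k be an algebraically closed field of characteristic p and q : Y → X an étale morphism to a
smooth k-scheme X. Suppose X has a W_2-lifting of its Frobenius: a scheme X~ flat over Spec W_2(k),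
a morphism i : X → X~ making X the base change of X~ along Spec k → Spec W_2(k) (the residue map),
and an endomorphism F~ of X~ with i ∘ F_X = F~ ∘ i, F_X the absolute Frobenius. Then Y has one as
well: there are a scheme Y~ flat over Spec W_2(k), a morphism j : Y → Y~ making Y the base change of
Y~ along the same map, and an endomorphism G~ of Y~ with j ∘ F_Y = G~ ∘ j. (The source speaks of an
étale cover Y → X of smooth varieties; its argument uses only that Y is étale over X and that X
lifts, so X is taken smooth over k and Y étale over X, with no integrality, separatedness or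
quasi-compactness assumed.) -/
theorem result
    (p : ℕ) [Fact p.Prime] (k : Type u) [Field k] [IsAlgClosed k] [CharP k p]
    (X Y : Scheme.{u}) (f : X ⟶ Spec (CommRingCat.of k)) [Smooth f]
    (q : Y ⟶ X) [AlgebraicGeometry.Etale q]
    [FrobSch.IsCharP X p] [FrobSch.IsCharP Y p]
    (Xl : Scheme.{u}) (g : Xl ⟶ Spec (CommRingCat.of (FrobAlg.W2 p k))) [Flat g]
    (i : X ⟶ Xl) (hsq : IsPullback i f g (Spec.map (CommRingCat.ofHom (FrobAlg.res p k))))
    (Fl : Xl ⟶ Xl) (hF : i ≫ Fl = FrobSch.frob X p ≫ i) :
    ∃ (Yl : Scheme.{u}) (gY : Yl ⟶ Spec (CommRingCat.of (FrobAlg.W2 p k))) (j : Y ⟶ Yl) (Gl : Yl ⟶ Yl),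
      Flat gY ∧ IsPullback j (q ≫ f) gY (Spec.map (CommRingCat.ofHom (FrobAlg.res p k))) ∧
        j ≫ Gl = FrobSch.frob Y p ≫ j := by
  haveI : PerfectRing k p := inferInstance
  let i0 := Spec.map (CommRingCat.ofHom (FrobAlg.res p k))
  haveI h0 : IsClosedImmersion i0 := IsClosedImmersion.spec_of_surjective _ Groth.Agent.FrobW2.res_surjective
  haveI h0s : Surjective i0 := ⟨fun P => by
    have hP : RingHom.ker (FrobAlg.res p k) ≤ P.asIdeal := by
      obtain ⟨n, hn⟩ := Groth.Agent.FrobW2.res_isNilpotent_ker (p := p) (CharP.cast_eq_zero k p)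
      intro z hz
      have h1 : z ^ n = 0 := by
        have h2 := Ideal.pow_mem_pow hz n
        rw [hn] at h2
        exact (Submodule.mem_bot _).1 h2
      exact P.2.mem_of_pow_mem n (h1 ▸ zero_mem _)
    have : P ∈ Set.range (PrimeSpectrum.comap (FrobAlg.res p k)) := by
      rw [range_comap_of_surjective _ _ Groth.Agent.FrobW2.res_surjective]
      exact hP
    exact this⟩
  haveI : IsClosedImmersion i := MorphismProperty.of_isPullback hsq.flip h0
  haveI : Surjective i := MorphismProperty.of_isPullback hsq.flip h0s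
  haveI := Groth.Agent.S0118.result i
  let U : X.Etale := MorphismProperty.Over.mk ⊤ q inferInstance
  let V : Xl.Etale := (EtCoh.bc i).objPreimage U
  let e := (EtCoh.bc i).objObjPreimageIso U
  haveI : AlgebraicGeometry.Etale V.hom := V.prop
  let e' : pullback V.hom i ≅ Y := (MorphismProperty.Over.forget _ _ _ ⋙ CategoryTheory.Over.forget _).mapIso e
  have he : e'.hom ≫ q = pullback.snd V.hom i := MorphismProperty.Over.w e.hom
  let j : Y ⟶ V.left := e'.inv ≫ pullback.fst V.hom i
  have hj : IsPullback j q V.hom i :=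
    IsPullback.of_iso (IsPullback.of_hasPullback V.hom i) e' (Iso.refl _) (Iso.refl _) (Iso.refl _)
      (by simp [j]) (by simp [he]) (by simp) (by simp)
  haveI : IsClosedImmersion j := MorphismProperty.of_isPullback hj.flip ‹IsClosedImmersion i›
  haveI : Surjective j := MorphismProperty.of_isPullback hj.flip ‹Surjective i›
  haveI : IsIntegralHom j := inferInstance
  haveI : UniversallyInjective j := inferInstance
  let π := pullback.snd V.hom (V.hom ≫ Fl)
  let s₀ : Y ⟶ pullback V.hom (V.hom ≫ Fl) := pullback.lift (FrobSch.frob Y p ≫ j) j (by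
    rw [Category.assoc, hj.w, FrobSch.frob_comp_assoc, ← hF, ← reassoc_of% hj.w])
  haveI : AlgebraicGeometry.Etale π := inferInstance
  haveI : AlgebraicGeometry.Etale (Over.mk π).hom := inferInstanceAs (AlgebraicGeometry.Etale π)
  obtain ⟨φ, hφ⟩ := Groth.Agent.EtFound.surjective_pullback_map j (Over.mk π) (Over.mk (𝟙 V.left))
    (Over.homMk (pullback.lift (pullback.snd (𝟙 V.left) j ≫ s₀) (pullback.snd (𝟙 V.left) j)
      (by simp [s₀, π])) (by simp))
  have hφ' : φ.left ≫ π = 𝟙 V.left := Over.w φ
  have h1 := congrArg (fun m => m.left ≫ pullback.fst π j ≫ pullback.fst V.hom (V.hom ≫ Fl)) hφ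
  refine ⟨V.left, V.hom ≫ g, j, φ.left ≫ pullback.fst V.hom (V.hom ≫ Fl), inferInstance, hj.paste_vert hsq, ?_⟩
  let t : Y ⟶ pullback (𝟙 V.left) j := pullback.lift j (𝟙 Y) (by simp)
  have h2 := congrArg (t ≫ ·) h1
  simp [s₀, t, Over.pullback_map_left] at h2
  exact h2.trans (Category.id_comp _)
end Groth.Agent.S18158
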