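import Groth.Statements.S18160
import Groth.Agent.FrobB1.Basic
import Groth.Agent.AlgSpDec.OneFlat
import Groth.Agent.GrpSchLib.SmoothReduced
import Groth.Agent.QCoh.VanIdeal

set_option autoImplicit false
universe u
open CategoryTheory CategoryTheory.Limits AlgebraicGeometry
open FrobSch

namespace Groth.Agent.S18160

open TopologicalSpace in
theorem mono_unit (Z : Scheme.{u}) (p : ℕ) [Fact p.Prime] [FrobSch.IsCharP Z p] [IsReduced Z] :
    Mono (ClSub.unitToPush (FrobSch.frob Z p)) := by
  refine Groth.Agent.QCoh.mono_of_app_injective _ fun W => ?_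
  intro a b hab
  haveI : CharP Γ(Z, W) p ∨ Subsingleton Γ(Z, W) := by
    rcases subsingleton_or_nontrivial Γ(Z, W) with h | h
    · exact Or.inr h
    · exact Or.inl ((CharP.charP_iff_prime_eq_zero Fact.out).2 (FrobSch.natCast_eq_zero_app Z p W))
  rcases this with h | h
  · exact frobenius_inj (show Type u from Γ(Z, W)) p (show (show Γ(Z, W) from a) ^ p = (show Γ(Z, W) from b) ^ p from hab)
  · exact @Subsingleton.elim _ h a b


/-- Let k be an algebraically closed field of odd characteristic p, X a smooth, proper, integral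
k-scheme and f : Y → X a finite étale morphism of degree 2, that is with f_*O_Y locally free of rank
2 (a Galois cover with group of order 2; 2 divides p − 1). For a scheme Z of characteristic p write
B¹_Z for the cokernel, in O_Z-modules, of the unit O_Z → F_{Z*}O_Z of the absolute Frobenius F_Z. If
H^i(Y, B¹_Y) vanishes for every i, then H^i(X, B¹_X) vanishes for every i. (The source's cases (2)
and (3), cyclic covers of degree 3 and 4 with 3, resp. 4, dividing p − 1, are not stated here.) -/
theorem result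
    (p : ℕ) [Fact p.Prime] (hp : p ≠ 2) (k : Type u) [Field k] [IsAlgClosed k] [CharP k p]
    (X Y : Scheme.{u}) (g : X ⟶ Spec (CommRingCat.of k)) [IsProper g] [Smooth g] [AlgebraicGeometry.IsIntegral X]
    (f : Y ⟶ X) [IsFinite f] [AlgebraicGeometry.Etale f]
    (h2 : FlatMod.IsFinLocFreeOfRank 2 ((Scheme.Modules.pushforward f).obj (Coh.structureModule Y)))
    [FrobSch.IsCharP X p] [FrobSch.IsCharP Y p]
    (hY : ∀ i : ℕ, Subsingleton (Coh.HH Y (cokernel (ClSub.unitToPush (FrobSch.frob Y p))) i)) :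
    ∀ i : ℕ, Subsingleton (Coh.HH X (cokernel (ClSub.unitToPush (FrobSch.frob X p))) i) := by
  haveI : IsReduced Y := Groth.Agent.AlgSpDec.isReduced_of_etaleMor f
  haveI := mono_unit X p
  haveI := mono_unit Y p
  haveI : IsAffineHom (FrobSch.frob Y p) := ⟨fun U hU => hU⟩
  let uX := ClSub.unitToPush (FrobSch.frob X p)
  let uY := ClSub.unitToPush (FrobSch.frob Y p)
  obtain ⟨r, hadd, hres, hr1, hrp⟩ := Groth.Agent.FrobB1.exists_retraction f p hp h2
  have hM0 : Coh.IsQCoh (Coh.structureModule Y) := Groth.Agent.QCoh.isQCoh_structureModule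
  have hM1 : Coh.IsQCoh ((Scheme.Modules.pushforward (FrobSch.frob Y p)).obj (Coh.structureModule Y)) :=
    Groth.Agent.QCoh.isQCoh_pushforward _ hM0
  have hb : Groth.Agent.QCoh.Ab.PreimageBasis f.base (Groth.Agent.QCoh.stdCovers Y) := fun U y hy => by
    obtain ⟨_, ⟨W, hW, rfl⟩, hyW, hWU⟩ := X.isBasis_affineOpens.exists_subset_of_mem_open hy U.2
    exact ⟨W, hWU, hyW, hW.preimage f⟩
  let P0 := (Scheme.Modules.pushforward f).obj (Coh.structureModule Y)
  let P1 := (Scheme.Modules.pushforward f).obj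
    ((Scheme.Modules.pushforward (FrobSch.frob Y p)).obj (Coh.structureModule Y))
  let G := (Scheme.Modules.pushforward (FrobSch.frob X p)).obj (Coh.structureModule X)
  let g : P0 ⟶ P1 := (Scheme.Modules.pushforward f).map uY
  -- the maps of abelian sheaves
  let i0 : Coh.toAb (Coh.structureModule X) ⟶ Coh.toAb P0 :=
    ⟨{ app := fun U => AddCommGrpCat.ofHom (AddMonoidHom.mk' (fun a : Γ(X, U.unop) => f.app U.unop a)
          (fun a b => map_add (f.app U.unop).hom a b))
       naturality := fun U V i => by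
        ext s
        exact congr($(f.naturality i) s) }⟩
  let i1 : Coh.toAb G ⟶ Coh.toAb P1 :=
    ⟨{ app := fun U => AddCommGrpCat.ofHom (AddMonoidHom.mk' (fun a : Γ(X, U.unop) => f.app U.unop a)
          (fun a b => map_add (f.app U.unop).hom a b))
       naturality := fun U V i => by
        ext s
        exact congr($(f.naturality i) s) }⟩
  let r0 : Coh.toAb P0 ⟶ Coh.toAb (Coh.structureModule X) :=
    ⟨{ app := fun U => AddCommGrpCat.ofHom (AddMonoidHom.mk' (fun a : Γ(Y, f ⁻¹ᵁ U.unop) => r U.unop a)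
          (hadd U.unop))
       naturality := fun U V i => by
        ext s
        exact hres U.unop V.unop i.unop.le s }⟩
  let r1 : Coh.toAb P1 ⟶ Coh.toAb G :=
    ⟨{ app := fun U => AddCommGrpCat.ofHom (AddMonoidHom.mk' (fun a : Γ(Y, f ⁻¹ᵁ U.unop) => r U.unop a)
          (hadd U.unop))
       naturality := fun U V i => by
        ext s
        exact hres U.unop V.unop i.unop.le s }⟩
  have eq_i : (Groth.Agent.QCoh.toAbFunctor X).map uX ≫ i1 = i0 ≫ (Groth.Agent.QCoh.toAbFunctor X).map g := by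
    ext U s
    exact map_pow (f.app U.unop).hom (show Γ(X, U.unop) from s) p
  have eq_r : (Groth.Agent.QCoh.toAbFunctor X).map g ≫ r1 = r0 ≫ (Groth.Agent.QCoh.toAbFunctor X).map uX := by
    ext U s
    exact hrp U.unop s
  have eq_0 : i0 ≫ r0 = 𝟙 _ := by
    ext U s
    exact hr1 U.unop s
  have eq_1 : i1 ≫ r1 = 𝟙 _ := by
    ext U s
    exact hr1 U.unop s
  refine (Groth.Agent.FrobB1.bijective_iff_subsingleton uX).1 fun i => ?_
  have hY' := (Groth.Agent.FrobB1.bijective_iff_subsingleton uY).2 hY i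
  obtain ⟨e, he⟩ := Groth.Agent.QCoh.Ab.H_push_natural f.base (Groth.Agent.QCoh.stdCovers Y) hb i
  let a0 := Groth.Agent.QCoh.stdCovers_acyclic hM0
  let a1 := Groth.Agent.QCoh.stdCovers_acyclic hM1
  have hg : Function.Bijective (Sheaf.H.map ((Groth.Agent.QCoh.toAbFunctor X).map g) i) := by
    have h := he _ _ a0 a1 ((Groth.Agent.QCoh.toAbFunctor Y).map uY)
    refine ⟨fun x y hxy => ?_, fun z => ?_⟩
    · obtain ⟨x, rfl⟩ := (e _ a0).surjective x
      obtain ⟨y, rfl⟩ := (e _ a0).surjective y
      exact congrArg _ (hY'.1 ((e _ a1).injective ((h x).trans (hxy.trans (h y).symm))))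
    · obtain ⟨w, rfl⟩ := (e _ a1).surjective z
      obtain ⟨v, rfl⟩ := hY'.2 w
      exact ⟨e _ a0 v, (h v).symm⟩
  refine Groth.Agent.FrobB1.bijective_of_retract _ (Sheaf.H.map ((Groth.Agent.QCoh.toAbFunctor X).map g) i)
    (Sheaf.H.map i0 i) (Sheaf.H.map i1 i) (Sheaf.H.map r0 i) (Sheaf.H.map r1 i) ?_ ?_ ?_ ?_ hg
  · exact fun x => (Sheaf.H.map_comp_apply _ _ _).symm.trans
      ((congrArg (fun φ => Sheaf.H.map φ i x) eq_i).trans (Sheaf.H.map_comp_apply _ _ _))
  · exact fun x => (Sheaf.H.map_comp_apply _ _ _).symm.trans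
      ((congrArg (fun φ => Sheaf.H.map φ i x) eq_r).trans (Sheaf.H.map_comp_apply _ _ _))
  · exact fun x => (Sheaf.H.map_comp_apply _ _ _).symm.trans
      ((congrArg (fun φ => Sheaf.H.map φ i x) eq_0).trans (Sheaf.H.map_id_apply _))
  · exact fun x => (Sheaf.H.map_comp_apply _ _ _).symm.trans
      ((congrArg (fun φ => Sheaf.H.map φ i x) eq_1).trans (Sheaf.H.map_id_apply _))

end Groth.Agent.S18160
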