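import Groth.Statements.S18161
import Mathlib.RingTheory.Henselian
import Mathlib.FieldTheory.IsAlgClosed.Basic
import Mathlib.RingTheory.Valuation.Integral
import Groth.Agent.Hensel.StrictSchemes
import Mathlib.RingTheory.Etale.Field
import Mathlib.AlgebraicGeometry.ZariskisMainTheorem
import Mathlib.AlgebraicGeometry.ValuativeCriterion

set_option autoImplicit false
set_option backward.isDefEq.respectTransparency false
set_option backward.isDefEq.respectTransparency.types false
universe u
open BSB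

namespace Groth.Agent.S18161

open CategoryTheory CategoryTheory.Limits AlgebraicGeometry TensorProduct IsLocalRing

section
open Polynomial
variable {Ω : Type u} [Field Ω] [IsAlgClosed Ω] (A : ValuationSubring Ω)

theorem exists_root_valuationSubring (f : A[X]) (hf : f.Monic) (hd : 0 < f.natDegree) :
    ∃ r : A, f.IsRoot r := by
  obtain ⟨r, hr⟩ := IsAlgClosed.exists_aeval_eq_zero Ω f fun h =>
      hd.ne' (Polynomial.natDegree_eq_of_degree_eq_some h)
  obtain ⟨a, rfl⟩ := IsIntegrallyClosed.isIntegral_iff.1 (⟨f, hf, hr⟩ : IsIntegral A r)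
  refine ⟨a, FaithfulSMul.algebraMap_injective A Ω ?_⟩
  rw [map_zero, ← aeval_algebraMap_apply_eq_algebraMap_eval]
  exact hr

theorem exists_root_near (a₀ : A) : ∀ (n : ℕ) (f : A[X]), f.natDegree = n → f.Monic →
    f.eval a₀ ∈ maximalIdeal A → ∃ a, f.IsRoot a ∧ a - a₀ ∈ maximalIdeal A := by
  intro n
  induction n with
  | zero =>
    intro f hn hf h
    rw [hf.natDegree_eq_zero.1 hn, eval_one] at h
    exact absurd h (Ideal.ne_top_iff_one _ |>.1 (maximalIdeal.isMaximal A).ne_top)
  | succ n ih =>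
    intro f hn hf h
    obtain ⟨r, hr⟩ := exists_root_valuationSubring A f hf (by omega)
    have hd := mul_divByMonic_eq_iff_isRoot.2 hr
    rw [← hd, eval_mul, eval_sub, eval_X, eval_C] at h
    rcases (maximalIdeal.isMaximal A).isPrime.mem_or_mem h with h | h
    · exact ⟨r, hr, by rw [← neg_sub]; exact Submodule.neg_mem _ h⟩
    · obtain ⟨a, ha, ha'⟩ := ih _ (by
        rw [natDegree_divByMonic f (monic_X_sub_C r), natDegree_X_sub_C]; omega)
        ((monic_X_sub_C r).of_mul_monic_left (hd.symm ▸ hf)) h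
      exact ⟨a, by rw [IsRoot, ← hd, eval_mul, ha.eq_zero, mul_zero], ha'⟩

/-- valuation rings of algebraically closed fields are henselian -/
theorem henselianLocalRing_valuationSubring : HenselianLocalRing A where
  is_henselian f hf a₀ h _ := exists_root_near A a₀ _ f rfl hf h

/-- their residue fields are algebraically closed -/
theorem isAlgClosed_residueField : IsAlgClosed (ResidueField A) := by
  refine IsAlgClosed.of_exists_root _ fun p hp hirr => ?_
  obtain ⟨F, hF, hFd, hFm⟩ := lifts_and_natDegree_eq_and_monic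
    ((mem_lifts p).2 (map_surjective _ residue_surjective p)) hp
  obtain ⟨r, hr⟩ := exists_root_valuationSubring A F hFm (by rw [hFd]; exact hirr.natDegree_pos)
  refine ⟨residue A r, ?_⟩
  rw [← hF, eval_map_apply, hr.eq_zero, map_zero]

end

theorem etale_locallyQuasiFinite {T S : Scheme.{u}} (f : T ⟶ S) [Etale f] : LocallyQuasiFinite f := by
  refine ⟨fun {U} hU {V} hV e => ?_⟩
  have h := HasRingHomProperty.appLE (P := @Etale) f inferInstance ⟨U, hU⟩ ⟨V, hV⟩ e
  algebraize [(f.appLE U V e).hom]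
  haveI : Algebra.Etale Γ(S, U) Γ(T, V) := h
  exact (inferInstance : Algebra.QuasiFinite Γ(S, U) Γ(T, V))

theorem card_fiber_point {T S : Scheme.{u}} (f : T ⟶ S) [Etale f] [QuasiCompact f] (d : ℕ)
    (hd : ∀ s : S, Module.finrank (S.residueField s) Γ(f.fiber s, ⊤) = d)
    (K : Type u) [Field K] [IsAlgClosed K] (x : Spec (CommRingCat.of K) ⟶ S) :
    Finite ↥(pullback f x) ∧ Nat.card ↥(pullback f x) = d := by
  obtain ⟨⟨s, φ⟩, rfl⟩ := (Scheme.SpecToEquivOfField K S).symm.surjective x
  let k := S.residueField s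
  let F := f.fiber s
  let p := f.fiberToSpecResidueField s
  haveI : Etale p := MorphismProperty.pullback_snd _ _ inferInstance
  haveI : QuasiCompact p := MorphismProperty.pullback_snd _ _ inferInstance
  haveI : LocallyQuasiFinite p := etale_locallyQuasiFinite p
  haveI : IsFinite p := IsFinite.of_locallyQuasiFinite p
  haveI : IsAffine F := isAffine_of_isAffineHom p
  let B := Γ(F, ⊤)
  have hp : F.isoSpec.inv ≫ p = Spec.map (CommRingCat.ofHom (algebraMap k B)) := by
    rw [← cancel_mono (Spec k).isoSpec.hom, Category.assoc, ← Scheme.isoSpec_hom_naturality, Iso.inv_hom_id_assoc,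
      Scheme.isoSpec_Spec_hom, ← Spec.map_comp]
    congr 1
    ext a
    change _ = p.appTop.hom (((Scheme.ΓSpecIso k).hom ≫ (Scheme.ΓSpecIso k).inv).hom a)
    rw [Iso.hom_inv_id]; rfl
  haveI : Etale (Spec.map (CommRingCat.ofHom (algebraMap k B))) := by rw [← hp]; infer_instance
  haveI : Algebra.Etale k B :=
    RingHom.etale_algebraMap.mp ((HasRingHomProperty.Spec_iff (P := @Etale)).mp inferInstance)
  letI : Algebra k K := φ.hom.toAlgebra
  let e : pullback f (Spec.map φ ≫ S.fromSpecResidueField s) ≅ Spec (CommRingCat.of (K ⊗[k] B)) :=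
    (pullbackLeftPullbackSndIso f (S.fromSpecResidueField s) (Spec.map φ)).symm ≪≫
      asIso (pullback.map p (Spec.map φ) (Spec.map (CommRingCat.ofHom (algebraMap k B))) (Spec.map φ)
        F.isoSpec.hom (𝟙 _) (𝟙 _) (by rw [Category.comp_id, ← hp, Iso.hom_inv_id_assoc])
        (by simp)) ≪≫
      pullbackSymmetry _ _ ≪≫ pullbackSpecIso k K B
  let eq := Algebra.FormallyEtale.equivPiOfIsSepClosed K (K ⊗[k] B)
  haveI : Module.Finite K (K ⊗[k] B) := Algebra.FormallyUnramified.finite_of_free K (K ⊗[k] B)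
  haveI : IsArtinianRing (K ⊗[k] B) := IsArtinianRing.of_finite K _
  haveI : Fintype (PrimeSpectrum (K ⊗[k] B)) := Fintype.ofFinite _
  have hc : Nat.card (PrimeSpectrum (K ⊗[k] B)) = d := by
    rw [Nat.card_eq_fintype_card, ← Module.finrank_fintype_fun_eq_card (R := K),
      ← eq.toLinearEquiv.finrank_eq, Module.finrank_baseChange]
    exact hd s
  have E : ↥(pullback f (Spec.map φ ≫ S.fromSpecResidueField s)) ≃ PrimeSpectrum (K ⊗[k] B) :=
    (Scheme.homeoOfIso e).toEquiv
  exact ⟨.of_equiv _ E.symm, (Nat.card_congr E).trans hc⟩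

theorem closed_eq_of_generic_eq {A : Type u} [CommRing A] [IsDomain A] [HenselianLocalRing A] [IsSepClosed (ResidueField A)]
    {K : Type u} [Field K] [Algebra A K] [IsFractionRing A K]
    {T : Scheme.{u}} (g : T ⟶ Spec (CommRingCat.of A)) [Etale g] (hg : IsClosedMap g)
    (d : ℕ) (hG : Finite (g ⁻¹' {(⊥ : PrimeSpectrum A)}) ∧ Nat.card (g ⁻¹' {(⊥ : PrimeSpectrum A)}) = d)
    (hF : Finite (g ⁻¹' {closedPoint A}) ∧ Nat.card (g ⁻¹' {closedPoint A}) = d)
    (s₁ s₂ : Spec (CommRingCat.of A) ⟶ T) (h₁ : s₁ ≫ g = 𝟙 _) (h₂ : s₂ ≫ g = 𝟙 _)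
    (h : s₁ (⊥ : PrimeSpectrum A) = s₂ (⊥ : PrimeSpectrum A)) : s₁ (closedPoint A) = s₂ (closedPoint A) := by
  let η : Spec (CommRingCat.of A) := (⊥ : PrimeSpectrum A)
  let c : Spec (CommRingCat.of A) := closedPoint A
  have hsec : ∀ (s : Spec (CommRingCat.of A) ⟶ T), s ≫ g = 𝟙 _ → ∀ q, g (s q) = q := fun s hs q => by
    rw [← Scheme.Hom.comp_apply, hs]; rfl
  choose σ hσg hσc using fun v : g ⁻¹' {c} =>
    (Hensel.strictlyHenselian_iff_exists_section A).1 ⟨inferInstance, inferInstance⟩ T g inferInstance v.1 v.2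
  -- a generisation of `v` in the generic fibre is the value of the section through `v`
  have key : ∀ (v : g ⁻¹' {c}) (y : T), g y = η → y ⤳ v.1 → y = σ v η := fun v y hy hyv => by
    haveI : Etale (σ v ≫ g) := by rw [hσg v]; infer_instance
    haveI : Etale (σ v) := Etale.of_comp (σ v) g
    obtain ⟨q, hq⟩ := hyv.mem_open (σ v).isOpenMap.isOpen_range ⟨c, hσc v⟩
    have : q = η := by rw [← hsec _ (hσg v) q, ← hy, ← hq]
    rw [← hq, this]
  let Φ : g ⁻¹' {c} → g ⁻¹' {η} := fun v => ⟨σ v η, hsec _ (hσg v) η⟩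
  have hsurj : Function.Surjective Φ := fun y => by
    have hy : η ⤳ c := IsLocalRing.specializes_closedPoint _
    have hcl : c ∈ g '' closure {y.1} := by
      exact hy.mem_closed (hg _ isClosed_closure) ⟨y.1, subset_closure rfl, y.2⟩
    obtain ⟨v, hv, hvc⟩ := hcl
    exact ⟨⟨v, hvc⟩, Subtype.ext (key ⟨v, hvc⟩ y.1 y.2 (specializes_iff_mem_closure.mpr hv)).symm⟩
  haveI := hG.1
  haveI := hF.1
  have hinj : Function.Injective Φ :=
    ((Nat.bijective_iff_surjective_and_card Φ).mpr ⟨hsurj, hF.2.trans hG.2.symm⟩).1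
  have hval : ∀ (s : Spec (CommRingCat.of A) ⟶ T) (hs : s ≫ g = 𝟙 _),
      Φ ⟨s c, hsec s hs c⟩ = ⟨s η, hsec s hs η⟩ := fun s hs =>
    Subtype.ext (key ⟨s c, hsec s hs c⟩ (s η) (hsec s hs η)
      ((IsLocalRing.specializes_closedPoint η).map s.continuous)).symm
  exact congrArg Subtype.val (hinj ((hval s₁ h₁).trans ((Subtype.ext h : (⟨s₁ η, _⟩ : g ⁻¹' {η}) = ⟨s₂ η, hsec s₂ h₂ η⟩).trans (hval s₂ h₂).symm)))

theorem card_preimage_of_point {T S : Scheme.{u}} (g : T ⟶ S) {L : Type u} [Field L]
    (ψ : Spec (CommRingCat.of L) ⟶ S) [IsPreimmersion ψ] {P : Scheme.{u}} (e : P ≅ pullback g ψ) :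
    Nonempty (↥P ≃ g ⁻¹' {ψ (closedPoint L)}) := by
  haveI : Subsingleton ↥(Spec (CommRingCat.of L)) := inferInstanceAs (Subsingleton (PrimeSpectrum L))
  let π := e.hom ≫ pullback.fst g ψ
  haveI : IsPreimmersion (pullback.fst g ψ) := MorphismProperty.pullback_fst _ _ inferInstance
  have hr : Set.range π = g ⁻¹' {ψ (closedPoint L)} := by
    have : Set.range π = Set.range (pullback.fst g ψ) := by
      simp only [π, Scheme.Hom.comp_base, TopCat.coe_comp, Set.range_comp, Set.range_eq_univ.mpr e.hom.surjective, Set.image_univ]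
    rw [this, Scheme.Pullback.range_fst]
    congr 1
    ext q
    exact ⟨fun ⟨a, ha⟩ => ha ▸ congrArg ψ (Subsingleton.elim _ _), fun hq => ⟨closedPoint L, hq.symm⟩⟩
  exact ⟨(Equiv.ofInjective π π.isEmbedding.injective).trans (Equiv.setCongr hr)⟩

open AlgebraicGeometry CategoryTheory in
/-- Let f : T ⟶ S be an étale, quasi-compact, quasi-separated and universally closed morphism of
schemes, and suppose that for some natural number d the global functions of every scheme-theoretic
fibre of f form a d-dimensional vector space over the residue field of the corresponding point of S.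
Then f is finite. (Separatedness of f is not assumed.) -/
theorem result {T S : Scheme.{u}} (f : T ⟶ S)
    [Etale f] [QuasiCompact f] [QuasiSeparated f] [UniversallyClosed f] (d : ℕ)
    (hd : ∀ s : S, Module.finrank (S.residueField s) Γ(f.fiber s, ⊤) = d) :
    IsFinite f := by
  haveI : IsSeparated f := by
    refine IsSeparated.of_valuativeCriterion f fun sq => ⟨fun l₁ l₂ => ?_⟩
    let Ω := AlgebraicClosure sq.K
    let j : sq.R →+* Ω := (algebraMap sq.K Ω).comp (algebraMap sq.R sq.K)
    obtain ⟨A, hA, hA'⟩ := IsLocalRing.exists_factor_valuationRing j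
    let χ : sq.R →+* A := j.codRestrict A.toSubring hA
    haveI : HenselianLocalRing A := henselianLocalRing_valuationSubring A
    haveI : IsAlgClosed (ResidueField A) := isAlgClosed_residueField A
    haveI : IsSepClosed (ResidueField A) := inferInstance
    let b : Spec (CommRingCat.of A) ⟶ Spec (CommRingCat.of sq.R) := Spec.map (CommRingCat.ofHom χ)
    let x := b ≫ sq.i₂
    let g := pullback.snd f x
    let sec : sq.commSq.LiftStruct → (Spec (CommRingCat.of A) ⟶ pullback f x) := fun l =>
      pullback.lift (b ≫ l.l) (𝟙 _) (by rw [Category.assoc, l.fac_right, Category.id_comp])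
    let η := Spec.map (CommRingCat.ofHom (algebraMap A Ω))
    let cp := Spec.map (CommRingCat.ofHom (IsLocalRing.residue A))
    haveI : IsPreimmersion η := IsPreimmersion.of_isLocalization (nonZeroDivisors A)
    haveI : IsClosedImmersion cp := IsClosedImmersion.spec_of_surjective _ IsLocalRing.residue_surjective
    have hη : η (closedPoint Ω) = (⊥ : PrimeSpectrum A) := PrimeSpectrum.ext (by
      show Ideal.comap (algebraMap A Ω) (closedPoint Ω).asIdeal = ⊥
      rw [← Ideal.comap_bot_of_injective _ (FaithfulSMul.algebraMap_injective A Ω)]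
      congr 1
      exact (IsSimpleOrder.eq_bot_or_eq_top _).resolve_right (closedPoint Ω).2.ne_top)
    have hcp : cp (closedPoint (ResidueField A)) = closedPoint A :=
      IsLocalRing.comap_closedPoint (IsLocalRing.residue A)
    have cnt : ∀ {L : Type u} [Field L] [IsAlgClosed L] (ψ : Spec (CommRingCat.of L) ⟶ Spec (CommRingCat.of A))
        [IsPreimmersion ψ], Finite (g ⁻¹' {ψ (closedPoint L)}) ∧ Nat.card (g ⁻¹' {ψ (closedPoint L)}) = d := by
      intro L _ _ ψ _
      obtain ⟨h1, h2⟩ := card_fiber_point f d hd L (ψ ≫ x)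
      obtain ⟨E⟩ := card_preimage_of_point g ψ (pullbackLeftPullbackSndIso f x ψ).symm
      exact ⟨.of_equiv _ E, (Nat.card_congr E).symm.trans h2⟩
    have hgen : sec l₁ (⊥ : PrimeSpectrum A) = sec l₂ (⊥ : PrimeSpectrum A) := by
      rw [← hη, ← Scheme.Hom.comp_apply, ← Scheme.Hom.comp_apply]
      suffices η ≫ sec l₁ = η ≫ sec l₂ by rw [this]
      apply pullback.hom_ext
      · have e : η ≫ b = Spec.map (CommRingCat.ofHom (algebraMap sq.K Ω)) ≫
            Spec.map (CommRingCat.ofHom (algebraMap sq.R sq.K)) := by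
          rw [← Spec.map_comp, ← Spec.map_comp]; rfl
        simp only [sec, Category.assoc, pullback.lift_fst, reassoc_of% e, l₁.fac_left, l₂.fac_left]
      · simp only [sec, Category.assoc, pullback.lift_snd]
    have hg : IsClosedMap g := by
      haveI : UniversallyClosed g := MorphismProperty.pullback_snd _ _ inferInstance
      exact g.isClosedMap
    haveI : Etale g := MorphismProperty.pullback_snd _ _ inferInstance
    have hc := closed_eq_of_generic_eq (K := Ω) g hg d (hη ▸ cnt η) (hcp ▸ cnt cp) (sec l₁) (sec l₂)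
      (pullback.lift_snd _ _ _) (pullback.lift_snd _ _ _) hgen
    have hb : b (closedPoint A) = closedPoint sq.R := IsLocalRing.comap_closedPoint χ
    have hc' : l₁.l (closedPoint sq.R) = l₂.l (closedPoint sq.R) := by
      have h' := congrArg (pullback.fst f x) hc
      simp only [sec, ← Scheme.Hom.comp_apply, pullback.lift_fst] at h'
      simpa only [Scheme.Hom.comp_apply, hb] using h'
    obtain ⟨_, ⟨(U : T.Opens), hU, rfl⟩, hxU, -⟩ := T.isBasis_affineOpens.exists_subset_of_mem_open
      (Set.mem_univ (l₁.l (closedPoint sq.R))) isOpen_univ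
    haveI : IsAffine U.toScheme := hU
    have hr : ∀ l : sq.commSq.LiftStruct, l.l (closedPoint sq.R) ∈ U → Set.range l.l ⊆ Set.range U.ι := fun l hl => by
      rw [Scheme.Opens.range_ι]
      rintro _ ⟨q, rfl⟩
      exact ((IsLocalRing.specializes_closedPoint q).map l.l.continuous).mem_open U.2 hl
    let m : (l : sq.commSq.LiftStruct) → l.l (closedPoint sq.R) ∈ U → (Spec (CommRingCat.of sq.R) ⟶ U.toScheme) :=
      fun l hl => IsOpenImmersion.lift U.ι l.l (hr l hl)
    have hm : m l₁ hxU = m l₂ (hc' ▸ hxU) := by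
      obtain ⟨φ₁, h₁⟩ := Spec.map_surjective (m l₁ hxU ≫ U.toScheme.isoSpec.hom)
      obtain ⟨φ₂, h₂⟩ := Spec.map_surjective (m l₂ (hc' ▸ hxU) ≫ U.toScheme.isoSpec.hom)
      have hk : φ₁ ≫ CommRingCat.ofHom (algebraMap sq.R sq.K) = φ₂ ≫ CommRingCat.ofHom (algebraMap sq.R sq.K) := by
        refine Spec.map_injective ?_
        rw [Spec.map_comp, Spec.map_comp, h₁, h₂, ← Category.assoc, ← Category.assoc]
        congr 1
        rw [← cancel_mono U.ι, Category.assoc, Category.assoc, IsOpenImmersion.lift_fac, IsOpenImmersion.lift_fac,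
          l₁.fac_left, l₂.fac_left]
      have : φ₁ = φ₂ := by
        ext a
        exact IsFractionRing.injective sq.R sq.K (congrArg (fun ψ => ψ.hom a) hk)
      rw [← cancel_mono U.toScheme.isoSpec.hom, ← h₁, ← h₂, this]
    apply CommSq.LiftStruct.ext
    rw [← IsOpenImmersion.lift_fac U.ι l₁.l (hr l₁ hxU), ← IsOpenImmersion.lift_fac U.ι l₂.l (hr l₂ (hc' ▸ hxU))]
    exact congrArg (· ≫ U.ι) hm
  haveI : IsProper f := ⟨⟩
  haveI := etale_locallyQuasiFinite f
  exact IsFinite.of_isProper_of_locallyQuasiFinite f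

end Groth.Agent.S18161
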