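import Groth.Statements.S1817
import Groth.Agent.RGammaI.Main
-- import your own Groth.Agent.* helpers here

set_option autoImplicit false
universe u
open CategoryTheory
attribute [local instance] HasDerivedCategory.standard
open LocCoh

namespace Groth.Agent.S1817

/-- First statement, for a Noetherian ring (where the functor with supports in V(I) is RΓ_I). Let A be a
Noetherian ring and I an ideal, and assume RΓ_I exists as a total right derived functor. Then every
RΓ_I(K) has I-power torsion cohomology modules, and the resulting functor from D(A) to the full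
subcategory of such objects is right adjoint to the inclusion. -/
theorem result (A : Type u) [CommRing A] [IsNoetherianRing A] (I : Ideal A) [DRing.HasRgammaI I] : ∃ h : ∀ K : Dual.D A, (fun L : Dual.D A => ∀ i : ℤ, LocCoh.IsPowerTorsion I (Dual.HD A L i)) ((DRing.RgammaI I).obj K), Nonempty (ObjectProperty.ι (fun L : Dual.D A => ∀ i : ℤ, LocCoh.IsPowerTorsion I (Dual.HD A L i)) ⊣ ObjectProperty.lift (fun L : Dual.D A => ∀ i : ℤ, LocCoh.IsPowerTorsion I (Dual.HD A L i)) (DRing.RgammaI I) h) := by
  refine ⟨fun K i => RGammaI.isPowerTorsion_HD I K i, ⟨?_⟩⟩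
  let P : ObjectProperty (Dual.D A) := fun L => ∀ i : ℤ, LocCoh.IsPowerTorsion I (Dual.HD A L i)
  have h : ∀ K, P ((DRing.RgammaI I).obj K) := fun K i => RGammaI.isPowerTorsion_HD I K i
  let E : ∀ (L : P.FullSubcategory) (K : Dual.D A), (P.ι.obj L ⟶ K) ≃ (L ⟶ (P.lift (DRing.RgammaI I) h).obj K) :=
    fun L K => (Equiv.ofBijective _ (RGammaI.bijective_comp_ε I L.property K)).symm.trans
      ((P.fullyFaithfulι.homEquiv (X := L) (Y := (P.lift (DRing.RgammaI I) h).obj K)).symm)
  refine Adjunction.mkOfHomEquiv { homEquiv := E, homEquiv_naturality_left_symm := ?_, homEquiv_naturality_right := ?_ }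
  · intro L' L K f g
    exact Category.assoc (P.ι.map f) (P.ι.map g) ((DRing.RgammaIε I).app K)
  · intro L K K' f g
    apply (E L K').symm.injective
    rw [Equiv.symm_apply_apply]
    obtain ⟨u, rfl⟩ := (E L K).symm.surjective f
    rw [Equiv.apply_symm_apply]
    show (P.ι.map u ≫ (DRing.RgammaIε I).app K) ≫ g =
      P.ι.map (u ≫ (P.lift (DRing.RgammaI I) h).map g) ≫ (DRing.RgammaIε I).app K'
    rw [Functor.map_comp, Category.assoc, Category.assoc]
    exact congrArg (P.ι.map u ≫ ·) ((DRing.RgammaIε I).naturality g).symm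


end Groth.Agent.S1817
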