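import Groth.Statements.S18194
import Groth.Agent.LocImmLib.Factor

set_option backward.isDefEq.respectTransparency false
set_option backward.isDefEq.respectTransparency.types false


set_option autoImplicit false
universe u
open LocImm

namespace Groth.Agent.S18194

open CategoryTheory AlgebraicGeometry in
/-- Let `X, Y₁, Y₂` be Noetherian schemes, `f_i : X ⟶ Y_i` separated localizing immersions (localizing
and injective on points) and `g : Y₁ ⟶ Y₂` a separated morphism essentially of finite type with `f₁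
≫ g = f₂`. Then there is an open `U ⊆ Y₁` containing the image of `f₁` such that the restriction `U
⟶ Y₂` of `g` is a localizing immersion. -/
theorem result {X Y₁ Y₂ : Scheme.{u}} [IsNoetherian X] [IsNoetherian Y₁] [IsNoetherian Y₂]
    (f₁ : X ⟶ Y₁) (f₂ : X ⟶ Y₂) (g : Y₁ ⟶ Y₂) (hf₁ : LocImm.IsLocImmersion f₁) (hf₂ : LocImm.IsLocImmersion f₂)
    [IsSeparated f₁] [IsSeparated f₂] [IsSeparated g] [EssFT.EssFiniteType g] (h : f₁ ≫ g = f₂) :
    ∃ U : Y₁.Opens, Set.range (fun x => f₁ x) ⊆ (U : Set Y₁) ∧ LocImm.IsLocImmersion (U.ι ≫ g) := by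
  obtain ⟨Y', j, p, hY', hj, hs, hl, hq, rfl⟩ := Groth.Agent.LocImmLib.exists_factor g
  obtain ⟨W, k, g₁, g₂, hk, hg₁, hg₂, hw, hk₁, hk₂, hW⟩ := Groth.Agent.LocImmLib.exists_common_open (f₁ ≫ j) f₂ p (𝟙 Y₂)
    (Groth.Agent.LocImmLib.isLocImmersion_comp hf₁ hj) hf₂ (by rw [Category.assoc, h, Category.comp_id])
  rw [Category.comp_id] at hw
  let U : Y₁.Opens := j ⁻¹ᵁ g₁.opensRange
  haveI := Groth.Agent.LocImmLib.isNoetherian_opens U
  refine ⟨U, ?_, ?_⟩
  · rintro _ ⟨x, rfl⟩
    exact ⟨k x, by rw [← Scheme.Hom.comp_apply, hk₁, Scheme.Hom.comp_apply]⟩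
  · have hr : Set.range (U.ι ≫ j) ⊆ Set.range g₁ := by
      rintro _ ⟨z, rfl⟩
      rw [Scheme.Hom.comp_apply]
      exact z.2
    let l := IsOpenImmersion.lift g₁ (U.ι ≫ j) hr
    have hl' : LocImm.IsLocImmersion l := Groth.Agent.LocImmLib.isLocImmersion_of_comp_isOpenImmersion l g₁ (by
      rw [IsOpenImmersion.lift_fac]
      exact Groth.Agent.LocImmLib.isLocImmersion_comp (Groth.Agent.LocImmLib.isLocImmersion_of_isOpenImmersion _) hj)
    have e : U.ι ≫ j ≫ p = l ≫ g₂ := by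
      rw [← hw, ← Category.assoc l, IsOpenImmersion.lift_fac, Category.assoc]
    rw [e]
    exact Groth.Agent.LocImmLib.isLocImmersion_comp hl' (Groth.Agent.LocImmLib.isLocImmersion_of_isOpenImmersion _)
end Groth.Agent.S18194
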