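import Groth.Statements.S18206
import Groth.Agent.LocImmLib.Basic
import Groth.Agent.ModPairLib.Basic

set_option backward.isDefEq.respectTransparency false
set_option backward.isDefEq.respectTransparency.types false


set_option autoImplicit false
universe u
open LocImm

namespace Groth.Agent.S18206

open CategoryTheory AlgebraicGeometry in
/-- Let `f : X ⟶ Y` be a localizing immersion (localizing and injective on points) of Noetherian
schemes. Then every quasi-coherent ideal sheaf `I` on `X` is the inverse image ideal `J·O_X` of some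
quasi-coherent ideal sheaf `J` on `Y` (all such ideals are coherent, the schemes being Noetherian). -/
theorem result {X Y : Scheme.{u}} [IsNoetherian X] [IsNoetherian Y]
    (f : X ⟶ Y) (hf : LocImm.IsLocImmersion f) (I : X.IdealSheafData) : ∃ J : Y.IdealSheafData, J.comap f = I := by
  refine ⟨I.map f, le_antisymm (Scheme.IdealSheafData.comap_map_le I f) ?_⟩
  refine Scheme.IdealSheafData.le_of_iSup_eq_top (U := fun W : {W : X.affineOpens // ∃ V : Y.affineOpens,
    W.1 = f ⁻¹ᵁ V.1 ∧ LocImm.IsLocHom (f.app V.1).hom} => W.1) ?_ ?_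
  · rw [eq_top_iff]
    intro x _
    obtain ⟨V, hx, -, hV, hVp, hφ⟩ := Groth.Agent.LocImmLib.exists_affine hf x ⊤ trivial
    exact TopologicalSpace.Opens.mem_iSup.2 ⟨⟨⟨_, hVp⟩, ⟨V, hV⟩, rfl, hφ⟩, hx⟩
  · rintro ⟨⟨W, hW⟩, ⟨V, hV⟩, hWV, hφ⟩
    obtain rfl : W = f ⁻¹ᵁ V := hWV
    rw [ModPairLib.ideal_comap (I.map f) f ⟨V, hV⟩ ⟨_, hW⟩ le_rfl,
      Scheme.IdealSheafData.ideal_map I f ⟨V, hV⟩ hW, ← Scheme.Hom.app_eq_appLE]
    letI := (f.app V).hom.toAlgebra
    obtain ⟨S, hS⟩ := hφ
    exact (IsLocalization.map_comap S Γ(X, f ⁻¹ᵁ V) _).ge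
end Groth.Agent.S18206
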