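import Groth.Statements.S18195
import Groth.Agent.LocImmLib.Factor
import Groth.Agent.LocImmLib.Noeth
import Groth.Agent.S18206

set_option backward.isDefEq.respectTransparency false
set_option backward.isDefEq.respectTransparency.types false


set_option autoImplicit false
universe u
open LocImm

namespace Groth.Agent.S18195

open CategoryTheory AlgebraicGeometry in
/-- Let `f : X ⟶ Y` and `g : Y ⟶ Z` be morphisms of Noetherian schemes with `g` separated and `f ≫ g` a
localizing immersion (localizing and injective on points). If `f` has schematically dense image,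
i.e. each ring map `Γ(Y, U) → Γ(X, f⁻¹U)` is injective, then `f` is a localizing immersion. -/
theorem result {X Y Z : Scheme.{u}} [IsNoetherian X] [IsNoetherian Y] [IsNoetherian Z]
    (f : X ⟶ Y) (g : Y ⟶ Z) (hfg : LocImm.IsLocImmersion (f ≫ g)) [IsSeparated g]
    (hd : ∀ U : Y.Opens, Function.Injective (f.app U).hom) : LocImm.IsLocImmersion f := by
  open Limits in
  haveI := Groth.Agent.LocImmLib.isPreimmersion hfg
  let p1 := pullback.fst (f ≫ g) g
  let p2 := pullback.snd (f ≫ g) g
  haveI : CompactSpace ↥(pullback (f ≫ g) g) := QuasiCompact.compactSpace_of_compactSpace p2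
  have hl := Groth.Agent.LocImmLib.isLocalizing_pullback hfg g
  haveI : IsLocallyNoetherian (pullback (f ≫ g) g) := Groth.Agent.LocImmLib.isLocallyNoetherian_of_isLocalizing hl
  haveI : AlgebraicGeometry.IsNoetherian (pullback (f ≫ g) g) := { }
  have hp2 : LocImm.IsLocImmersion p2 := Groth.Agent.LocImmLib.isLocImmersion_of_mono hl
  let γ : X ⟶ pullback (f ≫ g) g := pullback.lift (𝟙 X) f (Category.id_comp _)
  have e1 : γ ≫ p1 = 𝟙 X := pullback.lift_fst _ _ _
  have e2 : γ ≫ p2 = f := pullback.lift_snd _ _ _
  haveI : IsClosedImmersion γ := by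
    haveI : IsClosedImmersion (γ ≫ p1) := by rw [e1]; infer_instance
    exact IsClosedImmersion.of_comp γ p1
  have hker : γ.ker = ⊥ := by
    obtain ⟨J, hJ⟩ := Groth.Agent.S18206.result p2 hp2 γ.ker
    have hJ0 : J ≤ f.ker := by
      rw [← e2, Scheme.Hom.ker_comp, Scheme.IdealSheafData.le_map_iff_comap_le, hJ]
    have hf0 : f.ker = ⊥ := by
      refine Scheme.IdealSheafData.ext (funext fun U => ?_)
      rw [Scheme.Hom.ker_apply, Scheme.IdealSheafData.ideal_bot]
      exact (RingHom.injective_iff_ker_eq_bot _).1 (hd U.1)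
    rw [← hJ, le_bot_iff.1 (hJ0.trans hf0.le), Scheme.IdealSheafData.comap_bot]
  haveI : IsIso γ := IsClosedImmersion.isIso_iff_ker_eq_bot.2 hker
  rw [← e2]
  exact Groth.Agent.LocImmLib.isLocImmersion_comp (Groth.Agent.LocImmLib.isLocImmersion_of_isOpenImmersion γ) hp2
end Groth.Agent.S18195
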