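import Groth.Statements.S18199
import Groth.Agent.LocImmLib.Factor
import Groth.Agent.LocImmLib.Topo

set_option backward.isDefEq.respectTransparency false
set_option backward.isDefEq.respectTransparency.types false


set_option autoImplicit false
universe u
open LocImm

namespace Groth.Agent.S18199

open CategoryTheory AlgebraicGeometry in
/-- A separated, universally closed morphism of Noetherian schemes that is essentially of finite type is
proper; thus no new class of proper-like morphisms arises among essentially finite-type ones. -/
theorem result {X S : Scheme.{u}} [IsNoetherian X] [IsNoetherian S] (f : X ⟶ S) [IsSeparated f] [EssFT.EssFiniteType f] [UniversallyClosed f] : IsProper f := by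
  obtain ⟨Y, k, p, hY, hk, hs, hl, hq, rfl⟩ := Groth.Agent.LocImmLib.exists_factor f
  haveI : UniversallyClosed k := UniversallyClosed.of_comp_of_isSeparated k p
  haveI : IsOpenImmersion k := Groth.Agent.LocImmLib.isOpenImmersion_of_isOpen_range hk
    (Groth.Agent.LocImmLib.isOpen_of_isClosed_stableUnderGeneralization k.isClosedMap.isClosed_range
      (Groth.Agent.S18203.result k hk).2.1)
  exact { }
end Groth.Agent.S18199
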