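import Groth.Statements.S18200
import Groth.Agent.LocImmLib.Factor
import Groth.Agent.LocImmLib.ZMT

set_option backward.isDefEq.respectTransparency false
set_option backward.isDefEq.respectTransparency.types false


set_option autoImplicit false
universe u
open LocImm

namespace Groth.Agent.S18200

open CategoryTheory AlgebraicGeometry in
/-- Let `f : X ⟶ Y` be a separated morphism of Noetherian schemes that is essentially quasi-finite:
essentially of finite type with every fibre the spectrum of a finite algebra over the residue field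
(equivalently, `f` locally quasi-finite in the fibrewise sense, which carries no finite-type
condition). Then `f` factors as a localizing immersion `i : X ⟶ Z` (localizing and injective on
points, `Z` Noetherian) followed by a finite morphism `h : Z ⟶ Y`. -/
theorem result {X Y : Scheme.{u}} [IsNoetherian X] [IsNoetherian Y] (f : X ⟶ Y) [IsSeparated f] [EssFT.EssFiniteType f] [LocallyQuasiFinite f] :
    ∃ (Z : Scheme.{u}) (i : X ⟶ Z) (h : Z ⟶ Y), IsNoetherian Z ∧ LocImm.IsLocImmersion i ∧ IsFinite h ∧ i ≫ h = f := by
  obtain ⟨Y', k, p, hY', hk, hs, hl, hq, rfl⟩ := Groth.Agent.LocImmLib.exists_factor f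
  have hmem : ∀ x, k x ∈ p.quasiFiniteLocus := by
    intro x
    have h := (k ≫ p).quasiFiniteAt x
    haveI := (Groth.Agent.S18203.result k hk).2.2 x
    rw [Scheme.Hom.QuasiFiniteAt, Scheme.Hom.stalkMap_comp, CommRingCat.hom_comp,
      RingHom.QuasiFinite.respectsIso.cancel_right_isIso] at h
    exact h
  let U := p.quasiFiniteLocus
  haveI := Groth.Agent.LocImmLib.isNoetherian_opens U
  obtain ⟨T, j, π, hj, -, hπ, hjπ⟩ := Groth.Agent.LocImmLib.exists_openImmersion_finite (U.ι ≫ p)
  haveI : CompactSpace ↥T := QuasiCompact.compactSpace_of_compactSpace π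
  haveI : IsLocallyNoetherian T := LocallyOfFiniteType.isLocallyNoetherian π
  haveI : AlgebraicGeometry.IsNoetherian T := { }
  let k' := IsOpenImmersion.lift U.ι k (by rintro _ ⟨x, rfl⟩; rw [Scheme.Opens.range_ι]; exact hmem x)
  have hk' : LocImm.IsLocImmersion k' :=
    Groth.Agent.LocImmLib.isLocImmersion_of_comp_isOpenImmersion k' U.ι (by
      simpa only [k', IsOpenImmersion.lift_fac] using hk)
  refine ⟨T, k' ≫ j, π, inferInstance,
    Groth.Agent.LocImmLib.isLocImmersion_comp hk' (Groth.Agent.LocImmLib.isLocImmersion_of_isOpenImmersion j), hπ, ?_⟩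
  rw [Category.assoc, hjπ, ← Category.assoc, IsOpenImmersion.lift_fac]
end Groth.Agent.S18200
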