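import Groth.Statements.S18213
import Groth.Agent.LocImmLib.Germs
import Groth.Agent.LocImmLib.Sep
import Groth.Agent.FlatLocus.Basic

set_option backward.isDefEq.respectTransparency false
set_option backward.isDefEq.respectTransparency.types false


set_option autoImplicit false
universe u
open LocImm

namespace Groth.Agent.S18213

open CategoryTheory AlgebraicGeometry in
/-- Let `f : X ⟶ Y` be a separated morphism of Noetherian schemes, essentially of finite type. Then the
set of points `x` for which the composite `Spec O_{X,x} ⟶ X ⟶ Y` is flat is open, and if `f` is flat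
it factors as a localizing immersion `i : X ⟶ Z` (localizing and injective on points, `Z`
Noetherian) followed by a separated flat morphism of finite type `h : Z ⟶ Y`. -/
theorem result {X Y : Scheme.{u}} [IsNoetherian X] [IsNoetherian Y] (f : X ⟶ Y) [IsSeparated f] [EssFT.EssFiniteType f] :
    IsOpen {x : X | Flat (X.fromSpecStalk x ≫ f)} ∧
      (Flat f → ∃ (Z : Scheme.{u}) (i : X ⟶ Z) (h : Z ⟶ Y), IsNoetherian Z ∧ LocImm.IsLocImmersion i ∧ IsSeparated h ∧ LocallyOfFiniteType h ∧ QuasiCompact h ∧ Flat h ∧ i ≫ h = f) := by
  have key : ∀ {X Y : Scheme.{u}} (f : X ⟶ Y) (x : X),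
      Flat (X.fromSpecStalk x ≫ f) ↔ (f.stalkMap x).hom.Flat := by
    intro X Y f x
    rw [← Scheme.SpecMap_stalkMap_fromSpecStalk, ← HasRingHomProperty.Spec_iff (P := @Flat)]
    refine ⟨fun h => ?_, fun h => ?_⟩
    · exact MorphismProperty.of_postcomp (W' := MorphismProperty.monomorphisms Scheme.{u}) @Flat _
        (Y.fromSpecStalk (f x)) (MorphismProperty.monomorphisms.infer_property _) h
    · haveI := h
      haveI := Groth.Agent.LocImmLib.locallyEssFiniteType_of_isLocalizing (Groth.Agent.LocImmLib.isLocImmersion_fromSpecStalk (f x)).1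
      haveI : Flat (Y.fromSpecStalk (f x)) := by
        rw [Flat.iff_flat_stalkMap]
        intro z
        haveI := Groth.Agent.LocImmLib.isIso_stalkMap (Groth.Agent.LocImmLib.isLocImmersion_fromSpecStalk (f x)).1 z
        exact RingHom.Flat.of_bijective (ConcreteCategory.bijective_of_isIso ((Y.fromSpecStalk (f x)).stalkMap z))
      infer_instance
  obtain ⟨-, h2, h3⟩ := Groth.Agent.LocImmLib.germs @Flat
    (fun i f _ _ hi hf => by haveI := Groth.Agent.LocImmLib.flat hi; haveI := hf; infer_instance)
    (fun f _ _ h => (Flat.iff_flat_stalkMap f).2 fun x => (key f x).1 (h x))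
    (fun f _ _ => by simp only [key]; exact FlatLocus.isOpen_flat_locus f) f
  exact ⟨h2, h3⟩
end Groth.Agent.S18213
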