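import Groth.Statements.S18227
import Groth.Agent.GreenSyz.Green
import Groth.Agent.GrLib8.HilbertFn
import Groth.Agent.GrLib8.MinCover
-- import your own Groth.Agent.* helpers here

set_option autoImplicit false
universe u
open GrSyz

namespace Groth.Agent.S18227

section
open Groth.Agent.GrLib8

variable {k : Type u} [Field k] {r : ℕ}

private theorem proj_X_mul (v : Fin (r + 1)) (f : MvPolynomial (Fin (r + 1)) k) (g : ℤ) :
    ((DirectSum.decompose (GrSyz.stdGr k (Fin (r + 1))) (MvPolynomial.X v * f) (1 + g) : GrSyz.stdGr k (Fin (r + 1)) (1 + g)) : MvPolynomial (Fin (r + 1)) k) =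
      (MvPolynomial.X v : MvPolynomial (Fin (r + 1)) k) * ((DirectSum.decompose (GrSyz.stdGr k (Fin (r + 1))) f g : GrSyz.stdGr k (Fin (r + 1)) g) : MvPolynomial (Fin (r + 1)) k) :=
  DirectSum.coe_decompose_mul_add_of_left_mem (GrSyz.stdGr k (Fin (r + 1))) (MvPolynomial.isWeightedHomogeneous_X k (fun _ : Fin (r + 1) => (1 : ℤ)) v)

open GreenSyz in
/-- Projection of chains to one degree commutes with the differential. -/
private theorem proj_d (g : ℤ) (c : Finset (Fin (r + 1)) → MvPolynomial (Fin (r + 1)) k) :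
    d (MvPolynomial.X : Fin (r + 1) → MvPolynomial (Fin (r + 1)) k)
        (fun S => ((DirectSum.decompose (GrSyz.stdGr k (Fin (r + 1))) (c S) g : GrSyz.stdGr k (Fin (r + 1)) g) : MvPolynomial (Fin (r + 1)) k)) =
      fun S => ((DirectSum.decompose (GrSyz.stdGr k (Fin (r + 1))) (d (MvPolynomial.X : Fin (r + 1) → MvPolynomial (Fin (r + 1)) k) c S) (1 + g) : GrSyz.stdGr k (Fin (r + 1)) (1 + g)) : MvPolynomial (Fin (r + 1)) k) := by
  classical
  funext S
  let P : MvPolynomial (Fin (r + 1)) k →+ MvPolynomial (Fin (r + 1)) k :=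
    { toFun := fun f => ((DirectSum.decompose (GrSyz.stdGr k (Fin (r + 1))) f (1 + g) : GrSyz.stdGr k (Fin (r + 1)) (1 + g)) : MvPolynomial (Fin (r + 1)) k)
      map_zero' := by simp
      map_add' := fun a b => by simp }
  show d (MvPolynomial.X : Fin (r + 1) → MvPolynomial (Fin (r + 1)) k) _ S = P (d MvPolynomial.X c S)
  rw [d_apply, d_apply, map_sum]
  refine Finset.sum_congr rfl fun v _ => ?_
  rw [map_zsmul]
  congr 1
  rw [smul_eq_mul, smul_eq_mul]
  exact (proj_X_mul (k := k) v (c (insert v S)) g).symm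

open GreenSyz in
/-- Homogeneous exactness for chains in a graded free module. -/
private theorem exact_free {n : ℕ} (a : Fin n → ℤ) (g : ℤ) (q : ℕ)
    (c : Finset (Fin (r + 1)) → (Fin n → MvPolynomial (Fin (r + 1)) k)) (hc : Card q c)
    (hg : ∀ S, c S ∈ freePiece k r a g)
    (h : (1 ≤ q ∧ d (MvPolynomial.X : Fin (r + 1) → MvPolynomial (Fin (r + 1)) k) c = 0) ∨
      (q = 0 ∧ ∀ b, c ∅ b ∈ (GrSyz.irrel (GrSyz.stdGr k (Fin (r + 1)))).toIdeal)) :
    ∃ b, Card (q + 1) b ∧ (∀ S, b S ∈ freePiece k r a (g - 1)) ∧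
      d (MvPolynomial.X : Fin (r + 1) → MvPolynomial (Fin (r + 1)) k) b = c := by
  classical
  let S' := MvPolynomial (Fin (r + 1)) k
  have hb : ∀ i : Fin n, ∃ b : Finset (Fin (r + 1)) → S', Card (q + 1) b ∧
      d (MvPolynomial.X : Fin (r + 1) → S') b = fun S => c S i := by
    intro i
    have hci : Card q (fun S => c S i) := fun S hS => by simp [hc S hS]
    rcases h with ⟨hq, hd⟩ | ⟨rfl, hm⟩
    · obtain ⟨q, rfl⟩ := Nat.exists_eq_succ_of_ne_zero (n := q) (by omega)
      obtain ⟨b, h1, -, h2⟩ := exact_poly Finset.univ q (fun S => c S i) hci (fun S hS => absurd (Finset.subset_univ S) hS) (by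
        have h' := d_map (MvPolynomial.X : Fin (r + 1) → S') (LinearMap.proj (R := S') (φ := fun _ : Fin n => S') i) c
        rw [hd] at h'
        exact h')
      exact ⟨b, h1, h2⟩
    · have hmem : c ∅ i ∈ Ideal.span ((MvPolynomial.X : Fin (r + 1) → S') '' ((Finset.univ : Finset (Fin (r + 1))) : Set (Fin (r + 1)))) := by
        refine (Ideal.span_le.2 ?_) (hm i)
        rintro f ⟨e, he, hf⟩
        rw [SetLike.mem_coe, MvPolynomial.mem_ideal_span_X_image]
        intro dd hdd
        by_contra hne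
        push Not at hne
        have hw := (GrSyz.mem_stdGr_iff k (Fin (r + 1)) e f).1 hf (MvPolynomial.mem_support_iff.1 hdd)
        rw [show dd = 0 from Finsupp.ext fun l => hne l (Finset.mem_coe.2 (Finset.mem_univ l)), map_zero] at hw
        omega
      obtain ⟨b, h1, -, h2⟩ := exists_of_mem_span hmem
      refine ⟨b, h1, funext fun S => ?_⟩
      by_cases hS : S.card = 0
      · rw [Finset.card_eq_zero.1 hS, h2]
      · rw [(h1.d_card _) S hS]
        exact (hci S hS).symm
  choose b hbc hbd using hb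
  refine ⟨fun S i => ((DirectSum.decompose (GrSyz.stdGr k (Fin (r + 1))) (b i S) (g - 1 - a i) : GrSyz.stdGr k (Fin (r + 1)) (g - 1 - a i)) : S'),
    fun S hS => funext fun i => by simp [hbc i S hS], fun S i _ => SetLike.coe_mem _, ?_⟩
  funext S i
  have h1 := congrFun (d_map (MvPolynomial.X : Fin (r + 1) → S') (LinearMap.proj (R := S') (φ := fun _ : Fin n => S') i)
    (fun S i => ((DirectSum.decompose (GrSyz.stdGr k (Fin (r + 1))) (b i S) (g - 1 - a i) : GrSyz.stdGr k (Fin (r + 1)) (g - 1 - a i)) : S'))) S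
  refine h1.symm.trans ?_
  show d (MvPolynomial.X : Fin (r + 1) → S') (fun S => _) S = c S i
  simp only [LinearMap.proj_apply]
  rw [proj_d, hbd i, show 1 + (g - 1 - a i) = g - a i by ring]
  exact DirectSum.decompose_of_mem_same _ (hg S i trivial)

end

/-- Let k be an algebraically closed field, S = k[x_0, …, x_r] with its standard grading, 𝔪 = (x_0, …,
x_r) so that k = S/𝔪, and R a finitely generated ℤ-graded S-module. Put T^0(R) = R, T^1(R) =
Ker[R(−1) ⊗_k S_1 → R] (the kernel of (m_v) ↦ Σ_v x_v m_v on R(−1)^{r+1}) and T^i(R) =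
T^{i−1}(T^1(R)); concretely T^i(R) is the module of R-valued functions m on words c of length i in
the indices 0, …, r such that Σ_v x_v m(c with the letter in slot s replaced by v) = 0 for every
slot s and every word c, an element being homogeneous of degree j when all its values lie in
R_{j−i}; let d_i(R) be the least d such that T^i(R) is generated over S by elements of degree ≤ d.
Let p ≥ 0 and j an integer with j > p − i + d_i(R) for all 0 ≤ i ≤ p, that is: for every i ≤ p,
T^i(R) is generated over S by its homogeneous elements of degree ≤ j − p + i − 1. Then Tor_p^S(R,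
k)_j = 0: every graded free resolution of R by finite-rank free modules with homogeneous bases which
is minimal (all matrix entries in 𝔪) has no basis vector of degree j in its p-th term. -/
theorem result (k : Type u) [Field k] [IsAlgClosed k] (r : ℕ)
    (R : Type u) [AddCommGroup R] [Module k R] [Module (MvPolynomial (Fin (r + 1)) k) R]
    [IsScalarTower k (MvPolynomial (Fin (r + 1)) k) R] [Module.Finite (MvPolynomial (Fin (r + 1)) k) R]
    (ℛ : ℤ → Submodule k R) [DirectSum.Decomposition ℛ] [SetLike.GradedSMul (GrSyz.stdGr k (Fin (r + 1))) ℛ]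
    (p : ℕ) (j : ℤ)
    (hgen : ∀ i : ℕ, i ≤ p → ∀ m : (Fin i → Fin (r + 1)) → R, (∀ (s : Fin i) (c : Fin i → Fin (r + 1)), ∑ v : Fin (r + 1), (MvPolynomial.X v : MvPolynomial (Fin (r + 1)) k) • m (Function.update c s v) = 0) →
      m ∈ Submodule.span (MvPolynomial (Fin (r + 1)) k) {m' : (Fin i → Fin (r + 1)) → R |
        (∀ (s : Fin i) (c : Fin i → Fin (r + 1)), ∑ v : Fin (r + 1), (MvPolynomial.X v : MvPolynomial (Fin (r + 1)) k) • m' (Function.update c s v) = 0) ∧ ∃ e : ℤ, e ≤ j - (p : ℤ) + (i : ℤ) - 1 ∧ ∀ c : Fin i → Fin (r + 1), m' c ∈ ℛ (e - (i : ℤ))})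
    (F : GrSyz.FreeRes (GrSyz.stdGr k (Fin (r + 1))) ℛ)
    (hF : F.IsMinimal (GrSyz.irrel (GrSyz.stdGr k (Fin (r + 1)))).toIdeal) :
    F.betti p j = 0 := by
  classical
  let S := MvPolynomial (Fin (r + 1)) k
  let 𝒜 := GrSyz.stdGr k (Fin (r + 1))
  have hnn := GrLib8.stdGr_nonneg k (Fin (r + 1))
  let X' : Fin (r + 1) → S := MvPolynomial.X
  have hX : ∀ v, X' v ∈ 𝒜 1 := fun v => MvPolynomial.isWeightedHomogeneous_X k (fun _ : Fin (r + 1) => (1 : ℤ)) v
  have hmul : ∀ v e, ∀ a ∈ ℛ e, X' v • a ∈ ℛ (e + 1) := fun v e a ha => by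
    rw [add_comm]; exact SetLike.GradedSMul.smul_mem (hX v) ha
  -- the generation hypothesis
  have hG : GreenSyz.GenBelow X' ℛ p (j - p) := by
    intro i hi m hm hme
    let T : Submodule S ((Fin i → Fin (r + 1)) → R) :=
      { carrier := {w | GreenSyz.IsT X' i w}
        add_mem' := fun {a b} ha hb s c => by simp only [Pi.add_apply, smul_add, Finset.sum_add_distrib, ha s c, hb s c, add_zero]
        zero_mem' := fun s c => by simp
        smul_mem' := fun a w hw s c => by
          simp only [Pi.smul_apply]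
          rw [Finset.sum_congr rfl fun v _ => smul_comm (X' v) a _, ← Finset.smul_sum, hw s c, smul_zero] }
    let P : ((Fin i → Fin (r + 1)) → R) →+ ((Fin i → Fin (r + 1)) → R) :=
      { toFun := fun w c => (DirectSum.decompose ℛ (w c) (j - p) : R)
        map_zero' := by funext c; simp
        map_add' := fun a b => by funext c; simp }
    let Good : ((Fin i → Fin (r + 1)) → R) → Prop := fun m => ∃ w : Fin (r + 1) → (Fin i → Fin (r + 1)) → R,
      (∀ v, w v ∈ T) ∧ (∀ v c, w v c ∈ ℛ (j - p - 1)) ∧ ∀ c, m c = ∑ v, X' v • w v c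
    have hG0 : Good 0 := ⟨0, fun v => T.zero_mem, fun v c => zero_mem _, fun c => by simp⟩
    have hGadd : ∀ a b, Good a → Good b → Good (a + b) := by
      rintro a b ⟨w, h1, h2, h3⟩ ⟨w', h1', h2', h3'⟩
      exact ⟨w + w', fun v => T.add_mem (h1 v) (h1' v), fun v c => add_mem (h2 v c) (h2' v c), fun c => by
        simp [h3 c, h3' c, smul_add, Finset.sum_add_distrib]⟩
    suffices h : ∀ a : S, Good (P (a • m)) by
      obtain ⟨w, h1, h2, h3⟩ := h 1
      refine ⟨w, h1, h2, fun c => ?_⟩
      rw [← h3 c, one_smul]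
      exact (DirectSum.decompose_of_mem_same ℛ (hme c)).symm
    refine Submodule.span_induction (p := fun w _ => ∀ a : S, Good (P (a • w))) ?_ (fun a => by rw [smul_zero, map_zero]; exact hG0)
      (fun u w _ _ hu hw a => by rw [smul_add, map_add]; exact hGadd _ _ (hu a) (hw a))
      (fun b u _ hu a => by rw [← mul_smul]; exact hu _) (hgen i hi m hm)
    rintro m' ⟨hm', e, he, hme'⟩ a
    obtain ⟨t, ht⟩ := Int.eq_ofNat_of_zero_le (show 0 ≤ j - p - (e - i) - 1 by omega)
    let f : S := (DirectSum.decompose 𝒜 a ((t : ℤ) + 1) : 𝒜 ((t : ℤ) + 1))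
    have hP : ∀ c, P (a • m') c = f • m' c := fun c =>
      (show (DirectSum.decompose ℛ (a • m' c) (j - p) : R) = f • m' c by
        have h1 := GrLib8.map_decompose_deg (ℳ := 𝒜) (𝒩 := ℛ) (d := e - i) (LinearMap.toSpanSingleton S R (m' c))
          (fun l y hy => by rw [LinearMap.toSpanSingleton_apply]; exact SetLike.GradedSMul.smul_mem hy (hme' c)) a ((t : ℤ) + 1)
        rw [LinearMap.toSpanSingleton_apply, LinearMap.toSpanSingleton_apply, show (t : ℤ) + 1 + (e - i) = j - p by omega] at h1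
        exact h1.symm)
    -- decompose f along the variables
    have hdec : ∀ g : S, g ∈ 𝒜 ((t : ℤ) + 1) → ∃ q : Fin (r + 1) → S, (∀ v, q v ∈ 𝒜 (t : ℤ)) ∧ g = ∑ v, X' v * q v := by
      intro g hg
      rw [← MvPolynomial.support_sum_monomial_coeff g]
      refine Finset.sum_induction _ (fun g => ∃ q : Fin (r + 1) → S, (∀ v, q v ∈ 𝒜 (t : ℤ)) ∧ g = ∑ v, X' v * q v) ?_ ?_ ?_
      · rintro _ _ ⟨q, h1, rfl⟩ ⟨q', h1', rfl⟩
        exact ⟨q + q', fun v => add_mem (h1 v) (h1' v), by simp [mul_add, Finset.sum_add_distrib]⟩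
      · exact ⟨0, fun v => zero_mem _, by simp⟩
      intro d hd
      have hw := (GrSyz.mem_stdGr_iff k (Fin (r + 1)) _ g).1 hg (MvPolynomial.mem_support_iff.1 hd)
      have hd0 : d ≠ 0 := by rintro rfl; rw [map_zero] at hw; omega
      obtain ⟨l, hl⟩ := Finsupp.ne_iff.1 hd0
      have hle : Finsupp.single l 1 ≤ d := Finsupp.single_le_iff.2 (Nat.one_le_iff_ne_zero.2 hl)
      refine ⟨Pi.single l (MvPolynomial.monomial (d - Finsupp.single l 1) (MvPolynomial.coeff d g)), fun v => ?_, ?_⟩
      · rcases eq_or_ne v l with rfl | hne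
        · rw [Pi.single_eq_same]
          refine MvPolynomial.isWeightedHomogeneous_monomial _ _ _ ?_
          have := congrArg (Finsupp.weight (fun _ : Fin (r + 1) => (1 : ℤ))) (add_tsub_cancel_of_le hle)
          rw [map_add, Finsupp.weight_single, one_smul, hw] at this
          omega
        · rw [Pi.single_eq_of_ne hne]; exact zero_mem _
      · rw [Finset.sum_eq_single l (fun v _ hne => by rw [Pi.single_eq_of_ne hne, mul_zero]) (fun h => absurd (Finset.mem_univ l) h),
          Pi.single_eq_same]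
        show _ = MvPolynomial.X l * _
        rw [MvPolynomial.X, MvPolynomial.monomial_mul, one_mul, add_tsub_cancel_of_le hle]
    obtain ⟨q, hq, hfq⟩ := hdec f (SetLike.coe_mem _)
    refine ⟨fun v => q v • m', fun v => T.smul_mem _ hm', fun v c => ?_, fun c => ?_⟩
    · rw [show j - p - 1 = (t : ℤ) + (e - i) by omega]
      exact SetLike.GradedSMul.smul_mem (hq v) (hme' c)
    · rw [hP c, hfq, Finset.sum_smul]
      exact Finset.sum_congr rfl fun v _ => mul_smul _ _ _
  -- suppose a basis vector of degree j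
  rw [GrSyz.FreeRes.betti, Finset.card_eq_zero, Finset.filter_eq_empty_iff]
  intro b₀ _ hb₀
  have hdmem : ∀ (i : ℕ) (g : ℤ) (w : Fin (F.rk (i + 1)) → S),
      w ∈ GrLib8.freePiece k r (F.deg (i + 1)) g → F.dLin i w ∈ GrLib8.freePiece k r (F.deg i) g := by
    intro i g w hw a _
    show F.dLin i w a ∈ 𝒜 (g - F.deg i a)
    simp only [GrSyz.FreeRes.dLin, Matrix.mulVecLin_apply, Matrix.mulVec, dotProduct]
    refine Submodule.sum_mem _ fun b _ => ?_
    rw [show g - F.deg i a = (F.deg (i + 1) b - F.deg i a) + (g - F.deg (i + 1) b) by ring]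
    exact SetLike.mul_mem_graded (F.d_mem i a b) (hw b trivial)
  have hdd : ∀ i w, F.dLin i (F.dLin (i + 1) w) = 0 := fun i w =>
    LinearMap.mem_ker.1 ((F.exact_succ i).ge ⟨w, rfl⟩)
  have hminim : ∀ i (w : Fin (F.rk (i + 1)) → S) a, F.dLin i w a ∈ (GrSyz.irrel 𝒜).toIdeal := fun i w a => by
    simp only [GrSyz.FreeRes.dLin, Matrix.mulVecLin_apply, Matrix.mulVec, dotProduct]
    exact Ideal.sum_mem _ fun q _ => Ideal.mul_mem_right _ _ (hF i a q)
  -- descending staircase
  have key : ∀ l i : ℕ, i + l = p → ∃ σ : Finset (Fin (r + 1)) → (Fin (F.rk i) → S), GreenSyz.Card l σ ∧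
      (∀ T, σ T ∈ GrLib8.freePiece k r (F.deg i) (j - l)) ∧
      (∃ η : Finset (Fin (r + 1)) → (Fin (F.rk (i + 1)) → S), GreenSyz.d X' σ = fun T => F.dLin i (η T)) ∧
      ¬ ∃ (ρ : Finset (Fin (r + 1)) → (Fin (F.rk i) → S)) (ω : Finset (Fin (r + 1)) → (Fin (F.rk (i + 1)) → S)),
        σ = GreenSyz.d X' ρ + fun T => F.dLin i (ω T) := by
    intro l
    induction l with
    | zero =>
      intro i hi
      obtain rfl : i = p := by omega
      let σ : Finset (Fin (r + 1)) → (Fin (F.rk i) → S) := fun T => if T = ∅ then Pi.single b₀ 1 else 0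
      have hσ : GreenSyz.Card 0 σ := fun T hT => if_neg fun h => hT (by simp [h])
      refine ⟨σ, hσ, fun T => ?_, ⟨0, by rw [hσ.d_zero X']; funext T; simp⟩, ?_⟩
      · simp only [σ]
        split_ifs
        · intro a _
          rcases eq_or_ne a b₀ with rfl | hne
          · show Pi.single (M := fun _ => S) a (1 : S) a ∈ 𝒜 (j - ((0 : ℕ) : ℤ) - F.deg i a)
            rw [Pi.single_eq_same, hb₀, Nat.cast_zero, sub_zero, sub_self]
            exact SetLike.one_mem_graded 𝒜
          · rw [Pi.single_eq_of_ne hne]; exact zero_mem _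
        · exact zero_mem _
      · rintro ⟨ρ, ω, h⟩
        have h1 := congrFun (congrFun h ∅) b₀
        simp only [σ, if_pos, Pi.single_eq_same, Pi.add_apply] at h1
        have h1m : (1 : S) ∈ (GrSyz.irrel 𝒜).toIdeal := by
          rw [h1]
          refine add_mem ?_ (hminim i (ω ∅) b₀)
          rw [GreenSyz.d_apply, Finset.sum_apply]
          exact Submodule.sum_mem _ fun v _ => zsmul_mem (Ideal.mul_mem_right _ _ (GrLib8.mem_irrel_of_pos _ one_pos (hX v))) _
        exact one_ne_zero (GrLib8.eq_zero_of_mem_irrel_of_deg 𝒜 hnn le_rfl (SetLike.one_mem_graded _) h1m)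
    | succ l ih =>
      intro i hi
      obtain ⟨σ, hc, hp', ⟨η, hη⟩, hbad⟩ := ih (i + 1) (by omega)
      let c : Finset (Fin (r + 1)) → (Fin (F.rk i) → S) := fun T => F.dLin i (σ T)
      have hcd : GreenSyz.d X' c = 0 := by
        show GreenSyz.d X' (fun T => F.dLin i (σ T)) = 0
        rw [GreenSyz.d_map, hη]
        funext T
        exact hdd i (η T)
      obtain ⟨σ', h1, h2, h3⟩ := exact_free (F.deg i) (j - l) l c (hc.map (F.dLin i)) (fun T => hdmem i _ _ (hp' T)) (by
        rcases Nat.eq_zero_or_pos l with rfl | hl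
        · exact Or.inr ⟨rfl, fun a => hminim i _ a⟩
        · exact Or.inl ⟨hl, hcd⟩)
      refine ⟨σ', h1, fun T => by rw [Nat.cast_succ, ← sub_sub]; exact h2 T, ⟨σ, h3⟩, ?_⟩
      rintro ⟨ρ, ω, h⟩
      apply hbad
      have h4 : c = fun T => F.dLin i (GreenSyz.d X' ω T) := by
        rw [← h3, h, map_add, GreenSyz.d_d, zero_add, GreenSyz.d_map]
      have h5 : ∀ T, ∃ u, F.dLin (i + 1) u = σ T - GreenSyz.d X' ω T := fun T => by
        have : σ T - GreenSyz.d X' ω T ∈ LinearMap.ker (F.dLin i) := by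
          rw [LinearMap.mem_ker, map_sub]; exact sub_eq_zero.2 (congrFun h4 T)
        rw [GrSyz.FreeRes.dLin, F.exact_succ i] at this
        exact this
      choose u hu using h5
      exact ⟨ω, u, funext fun T => by rw [Pi.add_apply, hu T, add_sub_cancel]⟩
  obtain ⟨σ, hc, hpc, ⟨η, hη⟩, hbad⟩ := key p 0 (Nat.zero_add p)
  apply hbad
  let z : Finset (Fin (r + 1)) → R := fun T => F.augLin (σ T)
  have haug : ∀ (g : ℤ) (w : Fin (F.rk 0) → S), w ∈ GrLib8.freePiece k r (F.deg 0) g → F.augLin w ∈ ℛ g := by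
    intro g w hw
    rw [GrSyz.FreeRes.augLin, Fintype.linearCombination_apply]
    refine Submodule.sum_mem _ fun b _ => ?_
    have := SetLike.GradedSMul.smul_mem (hw b trivial) (F.aug_mem b)
    rwa [vadd_eq_add, sub_add_cancel] at this
  obtain ⟨y, -, -, hy⟩ := GreenSyz.exists_boundary X' p ℛ hmul (j - p) hG z (hc.map F.augLin) (fun T => haug _ _ (hpc T)) (by
    show GreenSyz.d X' (fun T => F.augLin (σ T)) = 0
    rw [GreenSyz.d_map, hη]
    funext T
    exact LinearMap.mem_ker.1 (F.exact_zero.ge ⟨η T, rfl⟩))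
  choose ρ hρ using fun T => F.aug_surjective (y T)
  have h5 : ∀ T, ∃ u, F.dLin 0 u = σ T - GreenSyz.d X' ρ T := fun T => by
    have : σ T - GreenSyz.d X' ρ T ∈ LinearMap.ker F.augLin := by
      have e1 : (fun T => F.augLin (ρ T)) = y := funext hρ
      have e2 := congrFun (GreenSyz.d_map X' F.augLin ρ) T
      rw [e1, hy] at e2
      rw [LinearMap.mem_ker, map_sub]
      exact sub_eq_zero.2 e2
    rw [GrSyz.FreeRes.augLin, F.exact_zero] at this
    exact this
  choose u hu using h5
  exact ⟨ρ, u, funext fun T => by rw [Pi.add_apply, hu T, add_sub_cancel]⟩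


end Groth.Agent.S18227
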