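import Groth.Statements.S18237
import Groth.Agent.MagnetLib.Atlas.Lift
import Groth.Agent.H28.MagnetPure

set_option autoImplicit false
universe u
open CategoryTheory MonoidalCategory CartesianMonoidalCategory AlgebraicGeometry Opposite
open Magnet

namespace Groth.Agent.S18237

/-- Let S be a quasi-compact scheme, M a finitely generated abelian group, X a scheme which is
quasi-compact, separated and locally of finite presentation over S with an action of the
diagonalizable group scheme D(M)_S, and N a submonoid of M with subgroup of invertible elements Z =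
N*. Assume X admits an S-affine N*-FPR atlas: an equivariant, étale and surjective g : U → X with U
affine over S such that, for the actions restricted along D(M/Z)_S → D(M)_S, the square of
fixed-point subfunctors U^{D(M/Z)} → X^{D(M/Z)} over U → X is cartesian. Then there is a finitely
generated submonoid N_c of N with the same invertible elements as N such that the canonical map of
attractors X^{N_c} → X^N is an isomorphism of functors. (Stated for schemes, the published statement
being for algebraic spaces. The published statement assumes only M finitely generated and X → S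
quasi-compact and separated; it fails without X locally of finite presentation over S or without S
quasi-compact, so this row assumes both, and it assumes an S-affine N*-FPR atlas, which the
published argument obtains from a general existence result.) -/
theorem result (S : Scheme.{u}) [CompactSpace S] (M : Type)
    [AddCommGroup M] [AddGroup.FG M] {X : Over S} [QuasiCompact X.hom] [IsSeparated X.hom]
    [LocallyOfFinitePresentation X.hom] (a : Magnet.MonAct (Magnet.AMonS S M) X) (N : AddSubmonoid M)
    (Z : AddSubgroup M) (hZ : ∀ m : M, m ∈ Z ↔ (m ∈ N ∧ -m ∈ N)) (U : Over S) [IsAffineHom U.hom]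
    (aU : Magnet.MonAct (Magnet.AMonS S M) U) (g : U ⟶ X) (hg : Magnet.MonAct.IsEquivariant aU a g)
    [Etale g.left] [Surjective g.left]
    (hgZ : Magnet.MonAct.IsEquivariant (aU.restrict (Magnet.AMonS.map S (QuotientAddGroup.mk' Z))) (a.restrict (Magnet.AMonS.map S (QuotientAddGroup.mk' Z))) g)
    (hfpr : IsPullback (Magnet.MonAct.fixedPsh.map g hgZ)
      (Magnet.MonAct.fixedPshι (aU.restrict (Magnet.AMonS.map S (QuotientAddGroup.mk' Z))))
      (Magnet.MonAct.fixedPshι (a.restrict (Magnet.AMonS.map S (QuotientAddGroup.mk' Z)))) (yoneda.map g)) :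
    ∃ (Nc : AddSubmonoid M) (h : Nc ≤ N), Nc.FG ∧ (∀ m : M, (m ∈ Nc ∧ -m ∈ Nc) ↔ (m ∈ N ∧ -m ∈ N)) ∧
      IsIso (Magnet.attrMap a h) := by
  classical
  haveI : LocallyOfFiniteType U.hom := by rw [← Over.w g]; infer_instance
  obtain ⟨E, hE⟩ := Groth.Agent.H28.MagnetAff.exists_degrees_global aU
  haveI : Module.Finite ℤ M := Module.Finite.iff_addGroup_fg.mpr ‹_›
  let Nc : AddSubmonoid M := AddSubmonoid.closure (E.filter (· ∈ N) : Set M) ⊔ Z.toAddSubmonoid
  have hle : Nc ≤ N := sup_le (AddSubmonoid.closure_le.mpr fun m hm => (Finset.mem_filter.mp hm).2)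
    (fun m hm => ((hZ m).mp hm).1)
  have hiff : ∀ m ∈ E, m ∈ Nc ↔ m ∈ N := fun m hm => ⟨fun h => hle h, fun h =>
    AddSubmonoid.mem_sup_left (AddSubmonoid.subset_closure (Finset.mem_filter.mpr ⟨hm, h⟩))⟩
  have hZfg : Z.toAddSubmonoid.FG := (AddSubgroup.fg_iff_addSubmonoid_fg Z).mp
    ((Submodule.fg_iff_addSubgroup_fg _).mp (IsNoetherian.noetherian (AddSubgroup.toIntSubmodule Z)))
  have hQ : Magnet.IsFace N Z.toAddSubmonoid := by
    have hu : (Groth.Agent.H28.StableFace.units N).toAddSubmonoid = Z.toAddSubmonoid :=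
      AddSubmonoid.ext fun m => (hZ m).symm
    exact hu ▸ Groth.Agent.MagnetLib.Atlas.isFace_units N
  refine ⟨Nc, hle, AddSubmonoid.FG.sup ⟨_, rfl⟩ hZfg, fun m => ⟨fun h => ⟨hle h.1, hle h.2⟩, fun h =>
    ⟨AddSubmonoid.mem_sup_right ((hZ m).mpr h), AddSubmonoid.mem_sup_right (Z.neg_mem ((hZ m).mpr h))⟩⟩, ?_⟩
  have hval : ∀ (T : Over S) φ, (Magnet.attrToX a N).app (op T) ((Magnet.attrMap a hle).app (op T) φ) =
      (Magnet.attrToX a Nc).app (op T) φ := fun T φ =>
    Groth.Agent.MagnetLib.Atlas.attrToX_attrMap a hle φ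
  haveI : ∀ T, IsIso ((Magnet.attrMap a hle).app T) := fun T => by
    refine (ConcreteCategory.isIso_iff_bijective _).mpr ⟨fun φ φ' h => ?_, fun ψ => ?_⟩
    · refine Groth.Agent.MagnetLib.attrToX_injective a Nc T.unop ?_
      have h2 := congrArg ((Magnet.attrToX a N).app (op T.unop)) h
      exact (hval _ φ).symm.trans (h2.trans (hval _ φ'))
    · obtain ⟨φ, hφ⟩ := Groth.Agent.MagnetLib.Atlas.inAttr_of_atlas a aU g hg N Nc Z hQ hgZ hfpr
        (fun T' u hu => hE N Nc (fun m hm => (hiff m hm).symm) T' u hu)
        (⟨ψ, rfl⟩ : Groth.Agent.H28.MagnetAff.InAttr N a ((Magnet.attrToX a N).app (op T.unop) ψ))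
      exact ⟨φ, Groth.Agent.MagnetLib.attrToX_injective a N T.unop ((hval _ φ).trans hφ)⟩
  exact NatIso.isIso_of_isIso_app _

end Groth.Agent.S18237
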