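import Groth.Statements.S18243
import Groth.Agent.MagnetLib.Avg.Face
-- import your own Groth.Agent.* helpers here

set_option autoImplicit false
universe u
open CategoryTheory MonoidalCategory CartesianMonoidalCategory AlgebraicGeometry Opposite
open Magnet

namespace Groth.Agent.S18243

/-- Let T be an affine scheme and T̄ → T a first-order thickening, M a finitely generated abelian group,
N a submonoid of M and F a face of N. Consider the span A(F)_T ← A(F)_T ×_T T̄ → A(N)_T ×_T T̄
formed by the first projection and by the face closed immersion A(F) → A(N) times T̄, everything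
with its action of the diagonalizable group scheme D(M)_T (acting trivially on T̄). Then there are a
T-scheme P, affine, with morphisms ν₁ : A(F)_T → P and ν₂ : A(N)_T ×_T T̄ → P forming a push-out
square in T-schemes, and an action of D(M)_T on P for which ν₁ and ν₂ are equivariant, such that P
is also a push-out for equivariant morphisms: for every T-scheme X with an action of D(M)_T and
equivariant f₁ : A(F)_T → X, f₂ : A(N)_T ×_T T̄ → X agreeing on A(F)_T ×_T T̄, the induced morphism
P → X is equivariant. (Stated for schemes over T; the published statement is in algebraic spaces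
over T.) -/
theorem result (T : Scheme.{u}) [IsAffine T] (M : Type) [AddCommGroup M]
    [AddGroup.FG M] {N F : AddSubmonoid M} (hF : Magnet.IsFace N F) (Tb : Over T)
    (hTb : MoreMor.IsFirstOrderThickening Tb.hom) :
    ∃ (P : Over T) (ν₁ : Magnet.AMonS T F ⟶ P) (ν₂ : Magnet.AMonS T N ⊗ Tb ⟶ P)
      (hP : IsPushout (CartesianMonoidalCategory.fst (Magnet.AMonS T F) Tb) (Magnet.AMonS.faceMap T hF ▷ Tb) ν₁ ν₂)
      (aP : Magnet.MonAct (Magnet.AMonS T M) P),
      IsAffine P.left ∧ Magnet.MonAct.IsEquivariant (Magnet.subAct T M F) aP ν₁ ∧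
      Magnet.MonAct.IsEquivariant ((Magnet.subAct T M N).prod (Magnet.MonAct.trivial (Magnet.AMonS T M) Tb)) aP ν₂ ∧
      ∀ (X : Over T) (aX : Magnet.MonAct (Magnet.AMonS T M) X) (f₁ : Magnet.AMonS T F ⟶ X)
        (f₂ : Magnet.AMonS T N ⊗ Tb ⟶ X)
        (w : CartesianMonoidalCategory.fst (Magnet.AMonS T F) Tb ≫ f₁ = (Magnet.AMonS.faceMap T hF ▷ Tb) ≫ f₂),
        Magnet.MonAct.IsEquivariant (Magnet.subAct T M F) aX f₁ →
        Magnet.MonAct.IsEquivariant ((Magnet.subAct T M N).prod (Magnet.MonAct.trivial (Magnet.AMonS T M) Tb)) aX f₂ →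
        Magnet.MonAct.IsEquivariant aP aX (hP.desc f₁ f₂ w) := by
  haveI := hTb.1.1
  haveI : IsAffine Tb.left := isAffine_of_isAffineHom Tb.hom
  haveI : IsAffine (𝟙_ (Over T)).left := inferInstanceAs (IsAffine T)
  haveI := (Groth.Agent.H28.MagnetAff.theta_iso ↥F Tb).1
  haveI := (Groth.Agent.H28.MagnetAff.theta_iso ↥N Tb).1
  haveI : IsAffine (Magnet.AMonS T ↥F).left := by
    haveI : IsAffine ((Over.forget T).obj (Magnet.AMonS T ↥F ⊗ 𝟙_ (Over T))) :=
      (Groth.Agent.H28.MagnetAff.theta_iso ↥F (𝟙_ (Over T))).1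
    exact IsAffine.of_isIso ((Over.forget T).mapIso (ρ_ (Magnet.AMonS T ↥F)).symm).hom
  have ht : Function.Surjective (toUnit Tb).left.appTop.hom := by
    have e : (toUnit Tb).left = Tb.hom := (Category.comp_id _).symm.trans (Over.w (toUnit Tb))
    rw [e]
    exact Tb.hom.app_surjective ⊤ (isAffineOpen_top T)
  have hp : Function.Surjective (CartesianMonoidalCategory.fst (Magnet.AMonS T ↥F) Tb).left.appTop.hom := by
    have e : CartesianMonoidalCategory.fst (Magnet.AMonS T ↥F) Tb =
        (Magnet.AMonS T ↥F ◁ toUnit Tb) ≫ (ρ_ (Magnet.AMonS T ↥F)).hom := by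
      rw [rightUnitor_hom, whiskerLeft_fst]
    rw [e, Over.comp_left, Scheme.Hom.comp_appTop, CommRingCat.hom_comp]
    haveI : IsIso (ρ_ (Magnet.AMonS T ↥F)).hom.left :=
      inferInstanceAs (IsIso ((Over.forget T).map (ρ_ (Magnet.AMonS T ↥F)).hom))
    haveI : IsIso (ρ_ (Magnet.AMonS T ↥F)).hom.left.appTop :=
      inferInstanceAs (IsIso ((ρ_ (Magnet.AMonS T ↥F)).hom.left.app ⊤))
    exact (Groth.Agent.MagnetLib.Avg.whiskerLeft_surjective _ _ _ ht).comp
      (ConcreteCategory.bijective_of_isIso (ρ_ (Magnet.AMonS T ↥F)).hom.left.appTop).2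
  obtain ⟨P, hPa, ν₁, ν₂, hfp, hpo⟩ := Groth.Agent.MagnetLib.Avg.exists_glue
    (CartesianMonoidalCategory.fst (Magnet.AMonS T ↥F) Tb) (Magnet.AMonS.faceMap T hF ▷ Tb) hp
  obtain ⟨aP, h1, h2, h3⟩ := Groth.Agent.MagnetLib.Avg.exists_glue_act (M := M) hfp
    ((Magnet.subAct T M F).prod (Magnet.MonAct.trivial (Magnet.AMonS T M) Tb)) (Magnet.subAct T M F)
    ((Magnet.subAct T M N).prod (Magnet.MonAct.trivial (Magnet.AMonS T M) Tb))
    (by
      rw [Magnet.MonAct.isEquivariant_iff]
      intro V g w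
      rw [← lift_comp_fst_snd w, Magnet.MonAct.lift_prod_act_assoc, lift_fst, lift_fst])
    (Groth.Agent.MagnetLib.Avg.isEquivariant_whiskerRight Tb _ (Magnet.isEquivariant_faceMapS T hF))
  refine ⟨P, ν₁, ν₂, hpo, aP, hPa, h1, h2, fun X aX f₁ f₂ w hf1 hf2 => h3 aX _ ?_ ?_⟩
  · rw [hpo.inl_desc]; exact hf1
  · rw [hpo.inr_desc]; exact hf2

end Groth.Agent.S18243
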