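import Groth.Statements.S18257
import Groth.Agent.UnitsLib.Artin

set_option autoImplicit false
universe u
open UnitsSh

namespace Groth.Agent.S18257

open CategoryTheory CategoryTheory.Limits AlgebraicGeometry in
/-- In the case of the multiplicative group, for schemes and with Zariski cohomology of the sheaf of
units. Let A be a local ring with maximal ideal m, t a nonzero element of m with m·t = 0, and X' a
scheme flat over Spec A; let i : X ⟶ X' be the closed subscheme cut out by t (base change to A/(t))
and X₀ the closed fibre (base change to the residue field). If H^{q+1}(X₀, O_{X₀}) = 0, then the map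
H^q(X', O_{X'}^×) → H^q(X', i_* O_X^×) induced by the units map of i is surjective. (The published
statement covers any smooth commutative group scheme in place of the multiplicative group, with the
Lie algebra of its closed fibre in place of O_{X₀}, uses étale cohomology, and takes A Artinian;
this row allows any local ring A with t as stated.) -/
theorem result
    (A : Type u) [CommRing A] [IsLocalRing A]
    (t : A) (ht0 : t ≠ 0) (ht : t ∈ IsLocalRing.maximalIdeal A)
    (hmt : ∀ x ∈ IsLocalRing.maximalIdeal A, x * t = 0)
    (X' : Scheme.{u}) [X'.Over (Spec (CommRingCat.of A))] [Flat (X' ↘ Spec (CommRingCat.of A))]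
    (q : ℕ)
    (hvan : Subsingleton (Coh.HH
      (pullback (X' ↘ Spec (CommRingCat.of A)) (Spec.map (CommRingCat.ofHom (IsLocalRing.residue A))))
      (Coh.structureModule _) (q + 1))) :
    Function.Surjective (Sheaf.H.map (UnitsSh.comap
      (pullback.fst (X' ↘ Spec (CommRingCat.of A))
        (Spec.map (CommRingCat.ofHom (Ideal.Quotient.mk (Ideal.span ({t} : Set A))))))) q) := by
  open Groth.Agent.UnitsLib in
  exact by
    have hres : Function.Surjective (CommRingCat.ofHom (IsLocalRing.residue A)).hom := IsLocalRing.residue_surjective
    have hnil : ∀ x ∈ Ideal.span ({t} : Set A), IsNilpotent x := fun x hx => by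
      obtain ⟨w, rfl⟩ := Ideal.mem_span_singleton'.1 hx
      exact ⟨2, by rw [mul_pow, pow_two t, hmt t ht, mul_zero]⟩
    have hsq : Ideal.span ({t} : Set A) * Ideal.span {t} ≤ ⊥ := by
      rw [Ideal.span_singleton_mul_span_singleton, hmt t ht, Ideal.span_singleton_le_iff_mem]
      exact Submodule.zero_mem _
    have hcol : ∀ x, x * t ∈ (⊥ : Ideal A) ↔ IsLocalRing.residue A x = 0 := fun x => by
      rw [IsLocalRing.residue_eq_zero_iff, Ideal.mem_bot]
      refine ⟨fun h => ?_, hmt x⟩
      by_contra hc
      exact ht0 ((IsLocalRing.notMem_maximalIdeal.1 hc).mul_right_eq_zero.1 h)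
    have hstep := step_of_ideals (X' ↘ Spec (CommRingCat.of A)) (CommRingCat.ofHom (IsLocalRing.residue A)) hres
      (Ideal.span {t}) ⊥ t (bot_sup_eq _).symm hnil hsq hcol
    have := isClosedImmersion_fst (X' ↘ Spec (CommRingCat.of A)) (CommRingCat.ofHom (IsLocalRing.residue A)) hres
    have hK := subsingleton_H_ku hstep (q + 1)
      (H_subsingleton_of_isZero (isZero_ku _ (base_bot_injective _)) _) hvan
    exact H_surjective_of_subsingleton (units_shortExact_of_nil _ (CommRingCat.ofHom (Ideal.Quotient.mk (Ideal.span {t})))
      Ideal.Quotient.mk_surjective (fun x hx => hnil x (Ideal.Quotient.eq_zero_iff_mem.1 hx))) q hK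

end Groth.Agent.S18257
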