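import Groth.Statements.S18259
import Groth.Agent.UnitsLib.Artin

set_option autoImplicit false
universe u
open UnitsSh

namespace Groth.Agent.S18259

open CategoryTheory CategoryTheory.Limits AlgebraicGeometry in
/-- In the case of the multiplicative group, for schemes and with Zariski cohomology of the sheaf of
units, in the form 'the functor A ↦ H^q(X ⊗ A, O^×) on local Artinian algebras is formally smooth'.
Let A be an Artinian local ring with maximal ideal m, J ⊆ m an ideal, X' a scheme flat over Spec A,
i : X ⟶ X' the closed subscheme defined by J (base change to A/J) and X₀ the closed fibre (base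
change to A/m). If H^{q+1}(X₀, O_{X₀}) = 0, then the map H^q(X', O_{X'}^×) → H^q(X', i_* O_X^×)
induced by the units map of i is surjective. (The published statement asserts formal smoothness for
any smooth commutative group scheme in place of the multiplicative group, with the Lie algebra of
its closed fibre in place of O_{X₀}, and uses étale cohomology.) -/
theorem result
    (A : Type u) [CommRing A] [IsArtinianRing A] [IsLocalRing A]
    (J : Ideal A) (hJ : J ≤ IsLocalRing.maximalIdeal A)
    (X' : Scheme.{u}) [X'.Over (Spec (CommRingCat.of A))] [Flat (X' ↘ Spec (CommRingCat.of A))]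
    (q : ℕ)
    (hvan : Subsingleton (Coh.HH (pullback (X' ↘ Spec (CommRingCat.of A)) (Spec.map (CommRingCat.ofHom (IsLocalRing.residue A)))) (Coh.structureModule _) (q + 1))) :
    Function.Surjective (Sheaf.H.map (UnitsSh.comap
      (pullback.fst (X' ↘ Spec (CommRingCat.of A)) (Spec.map (CommRingCat.ofHom (Ideal.Quotient.mk J))))) q) := by
  open Groth.Agent.UnitsLib in
  exact by
    have hnil : ∀ x, Ideal.Quotient.mk J x = 0 → IsNilpotent x := fun x hx => by
      obtain ⟨k, hk⟩ := IsArtinianRing.isNilpotent_jacobson_bot (R := A)
      refine ⟨k, Ideal.mem_bot.1 ?_⟩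
      rw [← Ideal.zero_eq_bot, ← hk]
      exact Ideal.pow_mem_pow (IsLocalRing.maximalIdeal_le_jacobson _ (hJ (Ideal.Quotient.eq_zero_iff_mem.1 hx))) k
    exact H_surjective_of_subsingleton (units_shortExact_of_nil _ (CommRingCat.ofHom (Ideal.Quotient.mk J))
      Ideal.Quotient.mk_surjective hnil) q (subsingleton_H_ku_of_artin _ (q + 1) hvan J hJ)

end Groth.Agent.S18259
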