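import Groth.Statements.S18265
import Mathlib

-- import your own Groth.Agent.* helpers here

set_option autoImplicit false
universe u
open InvQ

namespace Groth.Agent.S18265

/-- Let k be an algebraically closed field and n, m natural numbers, and let R be the ring of polynomial
functions of m vectors of k^(n+1) invariant under the special linear group SL(n+1, k) acting on all
the vectors at once and under the rescalings of the individual vectors by units with product 1
(equivalently: invariant and homogeneous of one and the same degree in each vector) — the graded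
ring of invariant sections whose Proj is the quotient variety of ordered m-point sets in projective
n-space. Then R is integrally closed in its field of fractions; hence that quotient variety is
normal. (Only the normality assertion of the source's statement is given here; its dimension,
rationality and singular-locus assertions are not.) -/
theorem result (k : Type u) [Field k] [IsAlgClosed k] (n m : ℕ) :
    IsIntegrallyClosed (W4c5pointsetsdelpezzo.invRing k n m) := by
  refine (isIntegrallyClosed_iff (FractionRing (W4c5pointsetsdelpezzo.invRing k n m))).mpr fun {x} hx => ?_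
  obtain ⟨f, g, hg, rfl⟩ := IsFractionRing.div_surjective (W4c5pointsetsdelpezzo.invRing k n m) x
  have hg0 : (g : W4c5pointsetsdelpezzo.TupleRing k n m) ≠ 0 := fun h =>
    nonZeroDivisors.ne_zero hg (Subtype.ext h)
  let B := W4c5pointsetsdelpezzo.TupleRing k n m
  let φ : FractionRing (W4c5pointsetsdelpezzo.invRing k n m) →+* FractionRing B :=
    IsFractionRing.lift (g := (algebraMap B (FractionRing B)).comp (W4c5pointsetsdelpezzo.invRing k n m).val.toRingHom)
      ((IsFractionRing.injective B (FractionRing B)).comp Subtype.val_injective)
  have hφ : ∀ a : W4c5pointsetsdelpezzo.invRing k n m, φ (algebraMap _ _ a) = algebraMap B (FractionRing B) a :=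
    fun a => IsFractionRing.lift_algebraMap _ a
  have hint : IsIntegral B (φ (algebraMap _ _ f / algebraMap _ _ g)) := by
    obtain ⟨p, hp, he⟩ := hx
    refine ⟨p.map (W4c5pointsetsdelpezzo.invRing k n m).val.toRingHom, hp.map _, ?_⟩
    rw [Polynomial.eval₂_map, show (algebraMap B (FractionRing B)).comp
      (W4c5pointsetsdelpezzo.invRing k n m).val.toRingHom = φ.comp (algebraMap _ _) from
      RingHom.ext fun a => (hφ a).symm, ← Polynomial.hom_eval₂, he, map_zero]
  obtain ⟨b, hb⟩ := IsIntegrallyClosed.isIntegral_iff.mp hint
  have hbf : b * (g : B) = f := by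
    refine IsFractionRing.injective B (FractionRing B) ?_
    rw [map_mul, hb, map_div₀, hφ, hφ, div_mul_cancel₀]
    exact fun h => hg0 (IsFractionRing.injective B (FractionRing B) (h.trans (map_zero _).symm))
  have hfix : ∀ σ : B →ₐ[k] B, σ (g : B) = g → σ (f : B) = f → σ b = b := fun σ h1 h2 => by
    refine mul_right_cancel₀ hg0 ?_
    rw [hbf, ← h2, ← hbf, map_mul, h1]
  have hbA : b ∈ W4c5pointsetsdelpezzo.invRing k n m := by
    have hg' := g.2
    have hf' := f.2
    simp only [W4c5pointsetsdelpezzo.invRing, Algebra.mem_inf, Algebra.mem_iInf, AlgHom.mem_equalizer,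
      AlgHom.coe_id, id_eq] at hg' hf' ⊢
    exact ⟨fun σ => hfix _ (hg'.1 σ) (hf'.1 σ), fun s => hfix _ (hg'.2 s) (hf'.2 s)⟩
  refine ⟨⟨b, hbA⟩, ?_⟩
  rw [eq_div_iff (fun h => nonZeroDivisors.ne_zero hg (IsFractionRing.injective _ _ (h.trans (map_zero _).symm))),
    ← map_mul]
  exact congrArg _ (Subtype.ext hbf)


end Groth.Agent.S18265
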