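import Groth.Statements.S18267
import Groth.Agent.S13792
import Groth.Agent.SmoothReg.Scheme
import Groth.Agent.CurveCohLib.Skyscraper
import Groth.Agent.TwistFlat.Base
import Mathlib.RingTheory.DiscreteValuationRing.TFAE
import Mathlib.RingTheory.Flat.TorsionFree
import Mathlib.AlgebraicGeometry.Morphisms.Flat
import Mathlib.AlgebraicGeometry.Morphisms.QuasiFinite
import Mathlib.AlgebraicGeometry.ZariskisMainTheorem

set_option linter.style.haveILetI false
set_option backward.isDefEq.respectTransparency false
set_option backward.isDefEq.respectTransparency.types false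


set_option autoImplicit false
open CategoryTheory CategoryTheory.Limits AlgebraicGeometry
open ZCorr

attribute [-instance] CategoryTheory.catToReflQuiver

namespace Groth.Agent.S18267

/-- Over the complex numbers, suppose C is a quasi-projective curve that is smooth and irreducible and X
is a projective variety that is smooth and irreducible; take Z to be an integral closed subscheme of
C × X of dimension one whose projection to C is surjective (a non-vertical irreducible component of
a correspondence from C to X). Then the projection Z → C is finite and flat. -/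
theorem result
    (C X : Scheme.{0}) [C.Over (Spec (CommRingCat.of ℂ))] [X.Over (Spec (CommRingCat.of ℂ))]
    [AlgebraicGeometry.IsIntegral C] [Smooth (C ↘ Spec (CommRingCat.of ℂ))] (hC : RelProj.IsHQuasiProjective (C ↘ Spec (CommRingCat.of ℂ)))
    (hdimC : topologicalKrullDim C = 1)
    [AlgebraicGeometry.IsIntegral X] [Smooth (X ↘ Spec (CommRingCat.of ℂ))] (hX : RelProj.IsHProjective (X ↘ Spec (CommRingCat.of ℂ)))
    {Z : Scheme.{0}} (i : Z ⟶ pullback (C ↘ Spec (CommRingCat.of ℂ)) (X ↘ Spec (CommRingCat.of ℂ))) [IsClosedImmersion i]
    [AlgebraicGeometry.IsIntegral Z] (hdimZ : topologicalKrullDim Z = 1)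
    (hsurj : Function.Surjective ⇑(i ≫ pullback.fst (C ↘ Spec (CommRingCat.of ℂ)) (X ↘ Spec (CommRingCat.of ℂ)))) :
    IsFinite (i ≫ pullback.fst (C ↘ Spec (CommRingCat.of ℂ)) (X ↘ Spec (CommRingCat.of ℂ))) ∧
      Flat (i ≫ pullback.fst (C ↘ Spec (CommRingCat.of ℂ)) (X ↘ Spec (CommRingCat.of ℂ))) := by
  let h := i ≫ pullback.fst (C ↘ Spec (CommRingCat.of ℂ)) (X ↘ Spec (CommRingCat.of ℂ))
  haveI : IsProper (X ↘ Spec (CommRingCat.of ℂ)) := by
    obtain ⟨n, j, hj, e⟩ := hX
    haveI := hj
    haveI : IsProper (CohB1.ProjSpaceOver.toBase n (Spec (CommRingCat.of ℂ))) := Groth.Agent.TwistFlat.isProper_toBase n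
    rw [← e]; infer_instance
  haveI : IsProper (pullback.fst (C ↘ Spec (CommRingCat.of ℂ)) (X ↘ Spec (CommRingCat.of ℂ))) := MorphismProperty.pullback_fst _ _ ‹_›
  haveI : IsProper h := MorphismProperty.comp_mem _ _ _ (inferInstanceAs (IsProper i)) this
  haveI : CompactSpace C := by
    obtain ⟨n, j, hj, hjq, e⟩ := hC
    haveI := hjq
    haveI : IsProper (CohB1.ProjSpaceOver.toBase n (Spec (CommRingCat.of ℂ))) := Groth.Agent.TwistFlat.isProper_toBase n
    haveI : QuasiCompact (C ↘ Spec (CommRingCat.of ℂ)) := by rw [← e]; infer_instance
    exact QuasiCompact.compactSpace_of_compactSpace (C ↘ Spec (CommRingCat.of ℂ))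
  haveI : IsLocallyNoetherian C := LocallyOfFiniteType.isLocallyNoetherian (C ↘ Spec (CommRingCat.of ℂ))
  haveI : IsLocallyNoetherian Z := LocallyOfFiniteType.isLocallyNoetherian h
  haveI : CompactSpace Z := QuasiCompact.compactSpace_of_compactSpace h
  haveI : IsNoetherian Z := {}
  have hgen : h (genericPoint Z) = genericPoint C := by
    refine ((genericPoint_spec C).eq ?_).symm
    show closure {h (genericPoint Z)} = ⊤
    have := h.isClosedMap.closure_image_eq_of_continuous h.continuous ({genericPoint Z} : Set Z)
    rw [Set.image_singleton, (genericPoint_spec Z).def, Set.image_univ, (show Function.Surjective h from hsurj).range_eq] at this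
    exact this
  have hηC : ¬ IsClosed ({genericPoint C} : Set C) := by
    intro hcl
    have := (genericPoint_spec C).def
    rw [hcl.closure_eq] at this
    haveI : Subsingleton C := ⟨fun a b => by
      have ha : a ∈ ({genericPoint C} : Set C) := this.symm ▸ trivial
      have hb : b ∈ ({genericPoint C} : Set C) := this.symm ▸ trivial
      exact (Set.mem_singleton_iff.1 ha).trans (Set.mem_singleton_iff.1 hb).symm⟩
    have := (topologicalKrullDim_zero_of_discreteTopology C)
    rw [hdimC] at this
    exact absurd this (by decide)
  have hfib : ∀ c : C, (h ⁻¹' {c}).Finite := by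
    intro c
    by_cases hc : c = genericPoint C
    · subst hc
      refine (Set.finite_singleton (genericPoint Z)).subset fun z hz => ?_
      by_contra hne
      refine hηC ?_
      have hzc : IsClosed ({z} : Set Z) := by
        by_contra hn
        exact hne (Groth.Agent.CurveCohLib.eq_genericPoint_of_not_isClosed hdimZ hn)
      have := h.isClosedMap _ hzc
      rwa [Set.image_singleton, show h z = genericPoint C from hz] at this
    · have hcc : IsClosed ({c} : Set C) := by
        by_contra hn
        exact hc (Groth.Agent.CurveCohLib.eq_genericPoint_of_not_isClosed hdimC hn)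
      refine Groth.Agent.S13792.finite_of_closedPoints (hcc.preimage h.continuous) fun z hz => ?_
      by_contra hn
      exact hc (((Groth.Agent.CurveCohLib.eq_genericPoint_of_not_isClosed hdimZ hn) ▸ hz : h (genericPoint Z) = c).symm.trans hgen)
  haveI : LocallyQuasiFinite h := LocallyQuasiFinite.of_finite_preimage_singleton h hfib
  refine ⟨IsFinite.of_isProper_of_locallyQuasiFinite h, Flat.of_stalkMap h fun z => ?_⟩
  have hinj : Function.Injective (h.stalkMap z).hom := by
    have hsp : genericPoint Z ⤳ z := genericPoint_specializes z
    have hcomp := Scheme.Hom.stalkSpecializes_stalkMap h (genericPoint Z) z hsp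
    letI := ((C.presheaf.stalkCongr (.of_eq hgen)).commRingCatIsoToRingEquiv)
    haveI : IsDomain (C.presheaf.stalk (h z)) := inferInstance
    let e := (C.presheaf.stalkCongr (.of_eq hgen)).commRingCatIsoToRingEquiv
    have hfield : IsField (C.presheaf.stalk (h (genericPoint Z))) :=
      e.toMulEquiv.isField (Field.toIsField C.functionField)
    have h1 : Function.Injective (C.presheaf.stalkSpecializes (hsp.map h.continuous)).hom := by
      have h2 : Function.Injective (algebraMap (C.presheaf.stalk (h z)) C.functionField) :=
        IsFractionRing.injective (C.presheaf.stalk (h z)) C.functionField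
      intro a b hab
      apply h2
      have hc := TopCat.Presheaf.stalkSpecializes_comp C.presheaf
        (show genericPoint C ⤳ h (genericPoint Z) from genericPoint_specializes _) (hsp.map h.continuous)
      show (C.presheaf.stalkSpecializes (genericPoint_specializes (h z))).hom a =
        (C.presheaf.stalkSpecializes (genericPoint_specializes (h z))).hom b
      rw [← hc]
      exact congrArg (C.presheaf.stalkSpecializes _).hom hab
    letI := hfield.toField
    have h3 : Function.Injective (h.stalkMap (genericPoint Z)).hom := RingHom.injective _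
    intro a b hab
    refine h1 (h3 ?_)
    have ha := congrArg (fun (f : C.presheaf.stalk (h z) ⟶ Z.presheaf.stalk (genericPoint Z)) => f.hom a) hcomp
    have hb := congrArg (fun (f : C.presheaf.stalk (h z) ⟶ Z.presheaf.stalk (genericPoint Z)) => f.hom b) hcomp
    exact ha.trans ((congrArg (Z.presheaf.stalkSpecializes hsp).hom hab).trans hb.symm)
  letI := (h.stalkMap z).hom.toAlgebra
  show Module.Flat (C.presheaf.stalk (h z)) (Z.presheaf.stalk z)
  haveI : IsPrincipalIdealRing (C.presheaf.stalk (h z)) := by
    by_cases hc : h z = genericPoint C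
    · letI : Field (C.presheaf.stalk (h z)) :=
        (((C.presheaf.stalkCongr (.of_eq hc)).commRingCatIsoToRingEquiv).toMulEquiv.isField
          (Field.toIsField C.functionField)).toField
      infer_instance
    · have hcc : IsClosed ({h z} : Set C) := by
        by_contra hn
        exact hc (Groth.Agent.CurveCohLib.eq_genericPoint_of_not_isClosed hdimC hn)
      have hreg : IsRegularLocalRing (C.presheaf.stalk (h z)) :=
        Groth.Agent.SmoothReg.isRegularLocalRing_stalk_of_mem_smoothLocus (C ↘ Spec (CommRingCat.of ℂ)) (by
          rw [(Scheme.Hom.smoothLocus_eq_top_iff (f := (C ↘ Spec (CommRingCat.of ℂ)))).2 inferInstance]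
          trivial)
      have hd : ringKrullDim (C.presheaf.stalk (h z)) = 1 :=
        (Groth.Agent.SmoothReg.ringKrullDim_stalk_closedPoint (C ↘ Spec (CommRingCat.of ℂ)) hcc).trans hdimC
      haveI : IsDiscreteValuationRing (C.presheaf.stalk (h z)) := by
        refine IsLocalRing.finrank_CotangentSpace_eq_one_iff.mp ?_
        rw [IsRegularLocalRing.iff_finrank_cotangentSpace, hd] at hreg
        exact_mod_cast hreg
      infer_instance
  refine Module.Flat.flat_iff_torsion_eq_bot_of_isBezout.2 ?_
  rw [eq_bot_iff]
  rintro a ⟨⟨v, hv⟩, hva⟩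
  have hva' : (h.stalkMap z).hom v * a = 0 := hva
  refine (mul_eq_zero.1 hva').resolve_left fun h0 => nonZeroDivisors.ne_zero hv (hinj ?_)
  rw [h0, map_zero]
end Groth.Agent.S18267
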