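import Groth.Statements.S18268
import Groth.Agent.H9AlgEq.FibreMult
import Groth.Agent.TwistFlat.Base
import Groth.Agent.VarDim.Fibre
import Groth.Agent.VarDim.Top
import Mathlib.AlgebraicGeometry.AlgClosed.Basic

set_option linter.style.haveILetI false
set_option backward.isDefEq.respectTransparency false
set_option backward.isDefEq.respectTransparency.types false


set_option autoImplicit false
open CategoryTheory CategoryTheory.Limits AlgebraicGeometry
open ZCorr

namespace Groth.Agent.S18268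

/-- Over the complex numbers let W be a smooth irreducible quasi-projective variety of dimension n, X a
smooth irreducible projective variety and Γ an n-cycle on X × W, viewed as a correspondence from W
to X, with no vertical component (every point of the support of Γ maps to the generic point of W).
If there is a nonempty open U ⊂ W over whose points the closures of the support points of Γ have
finite fibres, and such that for every complex point u of U the fibre cycle Γ_u on X vanishes, then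
Γ = 0. Here Γ_u is the sum, over the support points ξ of Γ with coefficient Γ(ξ), of the fundamental
cycles of the scheme-theoretic fibres over u of the closures of ξ, read on X (the cycle-level fibre
of the family at u; it agrees with the refined intersection of Γ with X × {u} where the components
are flat over u and has the same support wherever they are finite over u). -/
theorem result
    (W X : Scheme.{0}) [W.Over (Spec (CommRingCat.of ℂ))] [X.Over (Spec (CommRingCat.of ℂ))]
    [AlgebraicGeometry.IsIntegral W] [Smooth (W ↘ Spec (CommRingCat.of ℂ))] (hW : RelProj.IsHQuasiProjective (W ↘ Spec (CommRingCat.of ℂ)))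
    (n : ℕ) (hdimW : topologicalKrullDim W = n)
    [AlgebraicGeometry.IsIntegral X] [Smooth (X ↘ Spec (CommRingCat.of ℂ))] (hX : RelProj.IsHProjective (X ↘ Spec (CommRingCat.of ℂ)))
    (δ : ↥(pullback (X ↘ Spec (CommRingCat.of ℂ)) (W ↘ Spec (CommRingCat.of ℂ))) → ℤ)
    (hδ : Cyc.DeltaCompat (pullback.fst (X ↘ Spec (CommRingCat.of ℂ)) (W ↘ Spec (CommRingCat.of ℂ)) ≫ (X ↘ Spec (CommRingCat.of ℂ))) δ (fun _ => 0))
    (Γ : AlgebraicCycle (pullback (X ↘ Spec (CommRingCat.of ℂ)) (W ↘ Spec (CommRingCat.of ℂ))) ℤ)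
    (hΓ : Γ ∈ Cyc.Zk (pullback (X ↘ Spec (CommRingCat.of ℂ)) (W ↘ Spec (CommRingCat.of ℂ))) δ n)
    (hvert : ∀ ξ, Γ ξ ≠ 0 → pullback.snd (X ↘ Spec (CommRingCat.of ℂ)) (W ↘ Spec (CommRingCat.of ℂ)) ξ = genericPoint W)
    (U : W.Opens) (hU : (U : Set W).Nonempty)
    (hfin : ∀ ξ, Γ ξ ≠ 0 → ∀ w ∈ U,
      (closure {ξ} ∩ pullback.snd (X ↘ Spec (CommRingCat.of ℂ)) (W ↘ Spec (CommRingCat.of ℂ)) ⁻¹' {w}).Finite)
    (hzero : ∀ (u : Spec (CommRingCat.of ℂ) ⟶ W) (hu : u ≫ (W ↘ Spec (CommRingCat.of ℂ)) = 𝟙 _),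
      u (IsLocalRing.closedPoint ℂ) ∈ U →
        ∀ x : X, AlgEqCyc.fibreFun (X ↘ Spec (CommRingCat.of ℂ)) (W ↘ Spec (CommRingCat.of ℂ)) Γ u hu x = 0) :
    Γ = 0 := by
  classical
  let p : X ⟶ Spec (CommRingCat.of ℂ) := X ↘ Spec (CommRingCat.of ℂ)
  let q : W ⟶ Spec (CommRingCat.of ℂ) := W ↘ Spec (CommRingCat.of ℂ)
  haveI : IsProper p := by
    obtain ⟨m, i, hi, hc⟩ := hX
    haveI : IsProper (CohB1.ProjSpaceOver.toBase m (Spec (CommRingCat.of ℂ))) :=
      Groth.Agent.TwistFlat.isProper_toBase m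
    haveI := hi
    show IsProper (X ↘ Spec (CommRingCat.of ℂ))
    rw [← hc]; infer_instance
  haveI : QuasiCompact q := by
    obtain ⟨m, i, hi, hi', hc⟩ := hW
    haveI : IsProper (CohB1.ProjSpaceOver.toBase m (Spec (CommRingCat.of ℂ))) :=
      Groth.Agent.TwistFlat.isProper_toBase m
    haveI := hi'
    show QuasiCompact (W ↘ Spec (CommRingCat.of ℂ))
    rw [← hc]; infer_instance
  haveI : Smooth q := inferInstanceAs (Smooth (W ↘ Spec (CommRingCat.of ℂ)))
  haveI : LocallyOfFiniteType q := inferInstance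
  let P := pullback p q
  let pr : P ⟶ W := pullback.snd p q
  haveI : LocallyOfFiniteType pr := MorphismProperty.pullback_snd (P := @LocallyOfFiniteType) p q inferInstance
  haveI : QuasiCompact pr := MorphismProperty.pullback_snd (P := @QuasiCompact) p q inferInstance
  let f : P ⟶ Spec (CommRingCat.of ℂ) := pr ≫ q
  have hf : pullback.fst p q ≫ p = f := pullback.condition
  haveI : IsLocallyNoetherian P := LocallyOfFiniteType.isLocallyNoetherian f
  haveI : CompactSpace P := QuasiCompact.compactSpace_of_compactSpace f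
  haveI : JacobsonSpace P := LocallyOfFiniteType.jacobsonSpace f
  have hdeg : ∀ z : P, δ z = (Groth.Agent.VarDim.deg f z : ℤ) := fun z => by
    obtain ⟨m, hm, hz⟩ := hδ z
    have h : Groth.Agent.VarDim.tdeg (pullback.fst p q ≫ p) z = m :=
      (Groth.Agent.VarDim.tdeg_eq_rdeg _ z).trans hm
    rw [← Groth.Agent.VarDim.deg_congr hf z, Groth.Agent.VarDim.deg, h, Cardinal.toNat_natCast]
    simpa using hz
  by_contra hne
  obtain ⟨ξ, hξ⟩ : ∃ ξ, Γ ξ ≠ 0 := by
    by_contra hcon
    push Not at hcon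
    exact hne (Function.locallyFinsuppWithin.ext hcon)
  have hsf : Γ.support.Finite := by
    have := Γ.locallyFiniteSupport.finite_inter_support_of_isCompact (isCompact_univ (X := ↥P))
    rwa [Set.univ_inter] at this
  have hmax : ∀ z, Γ z ≠ 0 → z ⤳ ξ → z = ξ := fun z hz hzξ =>
    Groth.Agent.VarDim.eq_of_specializes_of_deg_le f hzξ (by
      have h1 : δ z = n := by_contra fun h => hz (hΓ z h)
      have h2 : δ ξ = n := by_contra fun h => hξ (hΓ ξ h)
      have : (Groth.Agent.VarDim.deg f z : ℤ) = Groth.Agent.VarDim.deg f ξ := by rw [← hdeg, ← hdeg, h1, h2]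
      exact_mod_cast this.le)
  let B : Set P := ⋃ z ∈ Γ.support \ {ξ}, closure {z}
  have hB : IsClosed B := (hsf.subset Set.sdiff_subset).isClosed_biUnion fun z _ => isClosed_closure
  have hξB : ξ ∉ B := fun h => by
    obtain ⟨z, hz, hzc⟩ := Set.mem_iUnion₂.1 h
    exact hz.2 (hmax z hz.1 (specializes_iff_mem_closure.2 hzc))
  have hξU : pr ξ ∈ U := by
    rw [show pr ξ = genericPoint W from hvert ξ hξ]
    exact ((genericPoint_spec W).mem_open_set_iff U.2).2 ⟨hU.choose, trivial, hU.choose_spec⟩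
  obtain ⟨v, ⟨hvξ, hvB, hvU⟩, hvc⟩ := nonempty_inter_closedPoints
    (Z := closure {ξ} ∩ (Bᶜ ∩ (pr ⁻¹ᵁ U : P.Opens))) ⟨ξ, subset_closure rfl, hξB, hξU⟩
    (isClosed_closure.isLocallyClosed.inter (hB.isOpen_compl.inter (pr ⁻¹ᵁ U).2).isLocallyClosed)
  have hvc : IsClosed ({v} : Set P) := hvc
  let P₀ := pointOfClosedPoint f v hvc
  let u : Spec (CommRingCat.of ℂ) ⟶ W := P₀ ≫ pr
  have hP₀ : P₀ ≫ f = 𝟙 _ := pointOfClosedPoint_comp _ _ _
  have hu : u ≫ q = 𝟙 _ := (Category.assoc _ _ _).trans hP₀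
  have hu0 : u (IsLocalRing.closedPoint ℂ) = pr v := by
    rw [Scheme.Hom.comp_apply, pointOfClosedPoint_apply]
  have hv : AlgEqCyc.slice p q u hu (pullback.fst p q v) = v := by
    have e : (P₀ ≫ pullback.fst p q) ≫ AlgEqCyc.slice p q u hu = P₀ := by
      apply pullback.hom_ext
      · rw [AlgEqCyc.slice, Category.assoc, pullback.lift_fst, Category.comp_id]
      · rw [AlgEqCyc.slice, Category.assoc, pullback.lift_snd, Category.assoc, ← Category.assoc _ p u, hf,
          ← Category.assoc, hP₀, Category.id_comp]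
    have h := congrArg (fun m => m (IsLocalRing.closedPoint ℂ)) e
    simp only [Scheme.Hom.comp_apply] at h
    rwa [pointOfClosedPoint_apply] at h
  have hwc : IsClosed ({pr v} : Set W) := by
    have h1 := Groth.Agent.VarDim.deg_map_le pr q (p := f) rfl v
    rw [(Groth.Agent.VarDim.closedPoint_iff_deg_eq_zero f v).1 hvc] at h1
    exact (Groth.Agent.VarDim.closedPoint_iff_deg_eq_zero q (pr v)).2 (Nat.le_zero.1 h1)
  have hmult : ∀ h : ξ ⤳ v, AlgEqCyc.fibreMult pr v ξ h ≠ 0 := fun h => by
    refine Groth.Agent.H9AlgEq.fibreMult_ne_zero pr v ξ h fun z hz1 hz2 hz3 => ?_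
    let F : Set P := closure {ξ} ∩ pr ⁻¹' {pr v}
    have hF : IsClosed F := isClosed_closure.inter (hwc.preimage pr.continuous)
    haveI : Finite F := (hfin ξ hξ (pr v) hvU).to_subtype
    haveI : JacobsonSpace F := JacobsonSpace.of_isClosedEmbedding hF.isClosedEmbedding_subtypeVal
    have hzF : z ∈ F := ⟨hz1.mem_closure, hz3⟩
    have hzc : IsClosed ({z} : Set P) := by
      have := hF.isClosedEmbedding_subtypeVal.isClosedMap _ (isClosed_discrete ({⟨z, hzF⟩} : Set F))
      rwa [Set.image_singleton] at this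
    exact (hz2.mem_closed hzc rfl).symm
  have hsp : ξ ⤳ AlgEqCyc.slice p q u hu (pullback.fst p q v) := by
    rw [hv]; exact specializes_iff_mem_closure.2 hvξ
  have h0 := hzero u hu (by rw [hu0]; exact hvU) (pullback.fst p q v)
  unfold AlgEqCyc.fibreFun at h0
  letI : Unique {w : ↥P // Γ w ≠ 0 ∧ w ⤳ AlgEqCyc.slice p q u hu (pullback.fst p q v)} :=
    { default := ⟨ξ, hξ, hsp⟩
      uniq := fun w => Subtype.ext (by_contra fun hwne => hvB (Set.mem_iUnion₂.2 ⟨w.1, ⟨w.2.1, hwne⟩,
        Eq.mp (congrArg (· ∈ closure ({w.1} : Set ↥P)) hv) w.2.2.mem_closure⟩)) }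
  rw [finsum_unique] at h0
  rcases mul_eq_zero.1 h0 with h | h
  · exact hξ h
  · revert h
    suffices key : ∀ (y : P) (hy : y = v) (h : ξ ⤳ y), (AlgEqCyc.fibreMult pr y ξ h : ℤ) ≠ 0 from key _ hv hsp
    rintro y rfl h
    exact_mod_cast hmult h
end Groth.Agent.S18268
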