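import Groth.Statements.S18342
import Groth.Agent.Lib.CurveHomEuler

set_option autoImplicit false
set_option linter.style.haveILetI false
universe u
open CategoryTheory CategoryTheory.Limits AlgebraicGeometry
open VBCurve

namespace Groth.Agent.S18342

open Groth.Agent.CurveBundle Groth.Agent.CurveSlope Groth.Agent.CurveStable

/-- Let k be an algebraically closed field of characteristic zero and X a smooth proper geometrically
connected curve over k (topological dimension one) of genus g ≥ 2. Let E be a finite locally free
O_X-module of rank r ≥ 1 and degree 0, and F a finite locally free O_X-module of rank n ≥ 1 and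
degree n(g − 1), degrees being χ − rank · χ(O_X). If every morphism E → F is zero, then E is
slope-semistable: deg G · r ≤ 0 for every finite locally free submodule G of E of positive rank. The
published statement concerns quasi-parabolic bundles of rank r with trivial determinant and flags at
a finite set of points, and says that for n ≥ ⌈r²/4⌉ the closed substack of bundles that are not
semistable for a given system of weights is the base locus of the parabolic theta functions of order
n, these being attached to semistable F; this row is one inclusion of it (a bundle at which the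
theta function of some F does not vanish is semistable) for a single bundle with no parabolic
points, for every n ≥ 1 and every F of the stated rank and degree, with degree 0 in place of trivial
determinant, and with the vanishing of Hom(E, F) in place of the vanishing of both Hom(E, F) and
Ext^1(E, F). -/
theorem result (k : Type u) [Field k] [IsAlgClosed k] [CharZero k]
    (X : Scheme.{u}) [X.Over (Spec (CommRingCat.of k))]
    [IsProper (X ↘ Spec (CommRingCat.of k))] [Smooth (X ↘ Spec (CommRingCat.of k))]
    [GeometricallyConnected (X ↘ Spec (CommRingCat.of k))] (hdim : topologicalKrullDim ↥X = 1)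
    (g : ℕ) (hg : Curv2.genus k X = g) (hg2 : 2 ≤ g)
    (E : X.Modules) (r : ℕ) (hr : 0 < r) (hE : FlatMod.IsFinLocFreeOfRank r E)
    (hEdeg : Curv2.deg k X E r = 0)
    (F : X.Modules) (n : ℕ) (hn : 0 < n) (hF : FlatMod.IsFinLocFreeOfRank n F)
    (hFdeg : Curv2.deg k X F n = (n : ℤ) * ((g : ℤ) - 1))
    (hhom : ∀ φ : E ⟶ F, φ = 0) :
    ModFun.IsSlopeSemistable k X E r := by
  haveI := isIntegral_of_geometricallyConnected k (X := X)
  haveI := Groth.Agent.CurveCohLib.isNoetherian_of_proper (k := k) (X := X)
  have hEf := isFinLocFree_of_rank hE
  have hEc := coh_of_free k hEf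
  intro G r' i hi hr' hG
  haveI := hi
  rw [hEdeg, zero_mul]
  refine mul_nonpos_of_nonpos_of_nonneg ?_ (Int.natCast_nonneg _)
  rw [deg_eq_dg k hG]
  by_contra hlt
  obtain ⟨Q, p, hp, hQ, hrk, hdg⟩ := exists_quot_bundle k hdim.le hEf (isFinLocFree_of_rank hG) i
  haveI := hp
  rw [← deg_eq_dg k hE, hEdeg] at hdg
  rcases Nat.eq_zero_or_pos (rk Q) with h0 | h0
  · rcases em (IsIso i) with hiso | hiso
    · haveI := hiso
      rw [dg_congr k (asIso i), ← deg_eq_dg k hE, hEdeg] at hlt
      exact hlt le_rfl
    · have := dg_lt_of_rk_eq k hdim.le i (coh_of_free k (isFinLocFree_of_rank hG)) hEc (by omega) hiso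
      rw [← deg_eq_dg k hE, hEdeg] at this
      omega
  have hpos : 0 < (rk Q : ℤ) * dg k F - (rk F : ℤ) * dg k Q +
      (rk Q : ℤ) * (rk F : ℤ) * Curv2.euler k X (Coh.structureModule X) := by
    rw [rk_eq hF, ← deg_eq_dg k hF, hFdeg, Groth.Agent.CurveRR.euler_structureModule k hdim.le, hg]
    have := mul_neg_of_pos_of_neg (show (0 : ℤ) < n by exact_mod_cast hn) (show dg k Q < 0 by omega)
    linarith
  obtain ⟨f, hf⟩ := Groth.Agent.CurveHom.exists_hom_ne_zero k hdim hQ (isFinLocFree_of_rank hF) hpos
  exact hf (by rw [← cancel_epi p, comp_zero]; exact hhom _)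

end Groth.Agent.S18342
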