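import Groth.Statements.S18360
import Groth.Agent.FinSplit.Section
import Groth.Agent.QCoh.Devissage
import Groth.Agent.H23.RedSub

set_option backward.isDefEq.respectTransparency false
set_option backward.isDefEq.respectTransparency.types false
set_option linter.style.haveILetI false
-- import your own Groth.Agent.* helpers here

set_option autoImplicit false
universe u
open CategoryTheory CategoryTheory.Limits AlgebraicGeometry
open Alter

set_option backward.isDefEq.respectTransparency false
set_option backward.isDefEq.respectTransparency.types false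
set_option linter.style.haveILetI false
set_option maxHeartbeats 1000000

namespace Groth.Agent.S18360

/-- Let Y be a Noetherian scheme, i : F ⟶ Y a closed immersion and s : F' ⟶ F a finite surjective
morphism. Then there are a scheme Y' and a finite surjective morphism g : Y' ⟶ Y such that every
irreducible component of F ×_Y Y', with its reduced closed-subscheme structure, is the source of an
F-morphism to F': for every reduced scheme G and every closed immersion ι : G ⟶ F ×_Y Y' whose image
is an irreducible component, there is φ : G ⟶ F' with φ ≫ s = ι ≫ pr₁. -/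
theorem result {Y F F' : Scheme.{u}} [IsNoetherian Y]
    (i : F ⟶ Y) [IsClosedImmersion i] (s : F' ⟶ F) [IsFinite s] [Surjective s] :
    ∃ (Y' : Scheme.{u}) (g : Y' ⟶ Y), IsFinite g ∧ Surjective g ∧
      ∀ (G : Scheme.{u}) (ι : G ⟶ pullback i g) [IsClosedImmersion ι] [AlgebraicGeometry.IsReduced G],
        Set.range ι.base ∈ irreducibleComponents ↥(pullback i g) →
          ∃ φ : G ⟶ F', φ ≫ s = ι ≫ pullback.fst i g := by
  classical
  let h : F' ⟶ Y := s ≫ i
  have hex : ∀ y : Y, ∃ U : Y.Opens, IsAffineOpen U ∧ y ∈ U := fun y => by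
    obtain ⟨U, hU, hy, -⟩ := exists_isAffineOpen_mem_and_subset (x := y) (U := (⊤ : Y.Opens)) trivial
    exact ⟨U, hU, hy⟩
  choose U0 hU0 hy0 using hex
  obtain ⟨t, ht⟩ := (isCompact_univ (X := Y)).elim_finite_subcover (fun y => (U0 y : Set Y)) (fun y => (U0 y).2)
    (fun y _ => Set.mem_iUnion.2 ⟨y, hy0 y⟩)
  let U : Fin t.card → Y.Opens := fun a => U0 (t.equivFin.symm a).1
  have hU : ∀ a, IsAffineOpen (U a) := fun a => hU0 _
  have hcov : ∀ y, ∃ a, y ∈ U a := fun y => by
    obtain ⟨z, hz, hyz⟩ := Set.mem_iUnion₂.1 (ht (Set.mem_univ y))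
    exact ⟨t.equivFin ⟨z, hz⟩, by simp only [U, Equiv.symm_apply_apply]; exact hyz⟩
  have hgen : ∀ a, ∃ S : Finset Γ(F', h ⁻¹ᵁ U a), letI := (h.app (U a)).hom.toAlgebra
      Submodule.span Γ(Y, U a) (S : Set Γ(F', h ⁻¹ᵁ U a)) = ⊤ := fun a => by
    letI := (h.app (U a)).hom.toAlgebra
    haveI : Module.Finite Γ(Y, U a) Γ(F', h ⁻¹ᵁ U a) := h.finite_app (U a) (hU a)
    exact Module.Finite.fg_top
  choose S hS using hgen
  have hpoly : ∀ a, ∀ q : Γ(F', h ⁻¹ᵁ U a), ∃ p : Polynomial Γ(Y, U a), p.Monic ∧ p.eval₂ (h.app (U a)).hom q = 0 :=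
    fun a q => (h.finite_app (U a) (hU a)).to_isIntegral q
  choose p hpm hpe using hpoly
  obtain ⟨Y', g, hg, hgs, hsplit⟩ :=
    Groth.Agent.FinSplit.exists_finite_splitting U hU fun a => (S a).image (p a)
  haveI := hg
  refine ⟨Y', g, hg, hgs, fun G ι _ _ hG => ?_⟩
  haveI : IrreducibleSpace G :=
    ((ι.isClosedEmbedding.isEmbedding.toHomeomorph).irreducibleSpace_iff).2 (Subtype.irreducibleSpace hG.1)
  haveI : IsIntegral G := isIntegral_of_irreducibleSpace_of_isReduced G
  let γ : G ⟶ Y' := ι ≫ pullback.snd i g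
  let a₀ : G ⟶ F := ι ≫ pullback.fst i g
  obtain ⟨f', hf'⟩ := s.surjective (a₀ (genericPoint G))
  obtain ⟨z, hz, -⟩ := Scheme.Pullback.exists_preimage_pullback (f := a₀) (g := s) (genericPoint G) f' hf'.symm
  let J := Scheme.IdealSheafData.vanishingIdeal (TopologicalSpace.Closeds.closure {z} : TopologicalSpace.Closeds ↑(pullback a₀ s))
  haveI : IsIntegral J.subscheme := Groth.Agent.QCoh.isIntegral_closure_point z
  let w : J.subscheme ⟶ G := J.subschemeι ≫ pullback.fst a₀ s
  haveI : IsFinite w := inferInstance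
  haveI : Surjective w := ⟨fun x => by
    have hz' : z ∈ Set.range J.subschemeι := by
      rw [Groth.Agent.H23.RedSub.range_vanishingIdeal]; exact subset_closure rfl
    obtain ⟨z₀, hz₀⟩ := hz'
    have hη : genericPoint G ∈ Set.range w := ⟨z₀, by rw [Scheme.Hom.comp_apply, hz₀, hz]⟩
    have := w.isClosedMap.isClosed_range.closure_subset_iff.2 (Set.singleton_subset_iff.2 hη)
    rw [genericPoint_closure] at this
    exact this (Set.mem_univ x)⟩
  let w₂ : J.subscheme ⟶ F' := J.subschemeι ≫ pullback.snd a₀ s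
  have hw : w ≫ a₀ = w₂ ≫ s := by
    simp only [w, w₂, Category.assoc, pullback.condition]
  have hcomm : w ≫ γ ≫ g = w₂ ≫ h := by
    show w ≫ γ ≫ g = w₂ ≫ s ≫ i
    rw [← Category.assoc w₂, ← hw]
    simp only [γ, a₀, Category.assoc, pullback.condition]
  haveI : IsIso w := Groth.Agent.FinSplit.isIso_of_splits h g U hU hcov S hS p
    (fun a q hq => ⟨hpm a q, hpe a q, hsplit a (p a q) (Finset.mem_image_of_mem _ hq) (hpm a q)⟩)
    γ w w₂ hcomm fun a b h1 h2 => by
      rw [← cancel_mono J.subschemeι]
      apply pullback.hom_ext <;> simpa only [Category.assoc] using (by assumption)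
  exact ⟨inv w ≫ w₂, by rw [Category.assoc, ← hw, IsIso.inv_hom_id_assoc]⟩

end Groth.Agent.S18360
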