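import Groth.Statements.S18361
import Groth.Agent.EtModLib.FLCFlatDescent
import Groth.Agent.EtFound.StrataFamily
import Groth.Agent.SpecLib.Constr
import Groth.Agent.GrpSchLib.HomFlat
import Groth.Agent.H23.RedSub
-- import your own Groth.Agent.* helpers here

set_option autoImplicit false
universe u v
open CategoryTheory CategoryTheory.Limits AlgebraicGeometry
open EtPBC

attribute [-instance] CategoryTheory.catToReflQuiver

namespace Groth.Agent.S18361

open Topology TopologicalSpace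

/-- a nonempty open piece of an irreducible closed set along which the family is finite locally constant -/
theorem exists_piece {X' X : Scheme.{u}} [IsNoetherian X] [IsNoetherian X'] (q : X' ⟶ X) [Surjective q]
    [LocallyOfFiniteType q] {ι : Type v} (F : ι → EtCoh.Ab X) {n : ℕ} (T : Fin n → Scheme.{u})
    (g : ∀ i, T i ⟶ X') [∀ i, IsImmersion (g i)] (hcov : (⋃ i, Set.range (g i).base) = Set.univ)
    (hF : ∀ k i, EtCoh.IsFiniteLocallyConstant ((EtCoh.pull (g i)).obj ((EtCoh.pull q).obj (F k))))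
    {Y : Set X} (hY : IsClosed Y) (hYi : IsIrreducible Y) :
    ∃ (R : Scheme.{u}) (h : R ⟶ X) (W : Set X), IsImmersion h ∧ IsOpen W ∧ (W ∩ Y).Nonempty ∧
      Set.range h.base = W ∩ Y ∧ ∀ k, EtCoh.IsFiniteLocallyConstant ((EtCoh.pull h).obj (F k)) := by
  let I := Scheme.IdealSheafData.vanishingIdeal (⟨Y, hY⟩ : Closeds X)
  let r : I.subscheme ⟶ X := I.subschemeι
  have hr : Set.range r.base = Y := H23.RedSub.range_vanishingIdeal (⟨Y, hY⟩ : Closeds X)
  haveI : IsReduced I.subscheme := H23.RedSub.isReduced_vanishingIdeal _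
  haveI : IsLocallyNoetherian I.subscheme := LocallyOfFiniteType.isLocallyNoetherian r
  haveI : CompactSpace I.subscheme := QuasiCompact.compactSpace_of_compactSpace r
  haveI : IsNoetherian I.subscheme := {}
  have hgen : IsGenericPoint hYi.genericPoint Y := by
    simpa [hY.closure_eq] using hYi.isGenericPoint_genericPoint_closure
  obtain ⟨η, hη⟩ : hYi.genericPoint ∈ Set.range r.base := hr.ge hgen.mem
  have hηall : ∀ y, η ⤳ y := fun y => r.isClosedEmbedding.isInducing.specializes_iff.1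
    ((specializes_of_eq hη).trans (hgen.specializes (hr.le ⟨y, rfl⟩)))
  obtain ⟨x', hx'⟩ := q.surjective hYi.genericPoint
  obtain ⟨y', hy1, hy2⟩ := Scheme.Pullback.exists_preimage_pullback (f := q) (g := r) x' η (hx'.trans hη.symm)
  obtain ⟨i, t, ht⟩ := Set.mem_iUnion.1 (hcov.ge (Set.mem_univ x'))
  obtain ⟨s, -, hs⟩ := Scheme.Pullback.exists_preimage_pullback (f := g i) (g := pullback.fst q r) t y'
    (ht.trans hy1.symm)
  let f₀ := pullback.snd (g i) (pullback.fst q r) ≫ pullback.snd q r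
  obtain ⟨A, hA, hsA, -⟩ := exists_isAffineOpen_mem_and_subset
    (U := (⊤ : (pullback (g i) (pullback.fst q r)).Opens)) (x := s) trivial
  let f := A.ι ≫ f₀
  haveI : LocallyOfFiniteType f := inferInstance
  haveI : CompactSpace A.toScheme := isCompact_iff_compactSpace.1 hA.isCompact
  haveI : QuasiCompact (f ≫ I.subscheme.toSpecΓ) :=
    (HasAffineProperty.iff_of_isAffine (P := @QuasiCompact)).mpr inferInstance
  haveI : QuasiCompact f := QuasiCompact.of_comp f I.subscheme.toSpecΓ
  haveI : Nonempty I.subscheme := ⟨η⟩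
  obtain ⟨U, ⟨u₀, hu₀⟩, hU⟩ := GrpSchLib.exists_opens_flat f
  have hηU : η ∈ U := (hηall u₀).mem_open U.2 hu₀
  haveI : (RingHom.toMorphismProperty RingHom.Flat).RespectsIso :=
    RingHom.toMorphismProperty_respectsIso_iff.1 RingHom.Flat.respectsIso
  haveI : Flat (f ∣_ U) := Flat.of_stalkMap _ fun x =>
    ((RingHom.toMorphismProperty RingHom.Flat).arrow_mk_iso_iff (morphismRestrictStalkMap f U x)).2 (hU x.1 x.2)
  haveI : UniversallyOpen (f ∣_ U) := inferInstance
  let O : U.toScheme.Opens := ⟨Set.range (f ∣_ U).base, (f ∣_ U).isOpenMap.isOpen_range⟩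
  let p := (f ∣_ U) ∣_ O
  haveI : Flat p := inferInstance
  haveI : Surjective p := ⟨fun y => by
    obtain ⟨a, ha⟩ := y.2
    exact ⟨⟨a, Set.mem_range_self a⟩, Subtype.ext ((morphismRestrict_base_coe _ _ _).trans ha)⟩⟩
  have hfs : f.base ⟨s, hsA⟩ = η := (congrArg (fun z => (pullback.snd q r).base z) hs).trans hy2
  have hO : ∃ o : O.toScheme, U.ι.base (O.ι.base o) = η :=
    ⟨⟨⟨η, hηU⟩, ⟨⟨s, hsA⟩, (hfs.symm ▸ hηU : f.base ⟨s, hsA⟩ ∈ U)⟩,
      Subtype.ext ((morphismRestrict_base_coe _ _ _).trans hfs)⟩, rfl⟩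
  let h := O.ι ≫ U.ι ≫ r
  let O' : Set I.subscheme := U.ι.base '' (O : Set U.toScheme)
  have hO' : IsOpen O' := U.ι.isOpenEmbedding.isOpenMap _ O.2
  obtain ⟨W, hW, hWO⟩ := r.isClosedEmbedding.isInducing.isOpen_iff.1 hO'
  have hrange : Set.range h.base = W ∩ Y := by
    rw [← hr, ← Set.image_preimage_eq_inter_range, hWO]
    show Set.range (O.ι ≫ U.ι ≫ r).base = _
    rw [Scheme.Hom.comp_base, TopCat.coe_comp, Set.range_comp, Scheme.Opens.range_ι, Scheme.Hom.comp_base,
      TopCat.coe_comp, Set.image_comp]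
  refine ⟨O.toScheme, h, W, inferInstance, hW, ?_, hrange, fun k => ?_⟩
  · obtain ⟨o, ho⟩ := hO
    exact ⟨h.base o, hrange.le ⟨o, rfl⟩⟩
  haveI : IsLocallyNoetherian O.toScheme := LocallyOfFiniteType.isLocallyNoetherian h
  refine EtFound.isFiniteLocallyConstant_of_flat_pull p ?_
  let m := ((f ∣_ U) ⁻¹ᵁ O).ι ≫ (f ⁻¹ᵁ U).ι ≫ A.ι ≫ pullback.fst (g i) (pullback.fst q r)
  have hm : p ≫ h = m ≫ g i ≫ q := by
    simp only [p, h, m, f, f₀, morphismRestrict_ι_assoc, Category.assoc, ← pullback.condition]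
    rw [pullback.condition_assoc]
  refine EtFound.isFiniteLocallyConstant_of_iso ((EtFound.pullCompAb p h).app (F k)) ?_
  rw [hm]
  refine EtFound.isFiniteLocallyConstant_of_iso ((EtFound.pullCompAb m (g i ≫ q)).app (F k)).symm ?_
  exact EtFound.isFiniteLocallyConstant_pull m
    (EtFound.isFiniteLocallyConstant_of_iso ((EtFound.pullCompAb (g i) q).app (F k)).symm (hF k i))

/-- a finite covering by immersions along which the family is finite locally constant -/
theorem exists_cover {X' X : Scheme.{u}} [IsNoetherian X] [IsNoetherian X'] (q : X' ⟶ X) [Surjective q]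
    [LocallyOfFiniteType q] {ι : Type v} (F : ι → EtCoh.Ab X) {n : ℕ} (T : Fin n → Scheme.{u})
    (g : ∀ i, T i ⟶ X') [∀ i, IsImmersion (g i)] (hcov : (⋃ i, Set.range (g i).base) = Set.univ)
    (hF : ∀ k i, EtCoh.IsFiniteLocallyConstant ((EtCoh.pull (g i)).obj ((EtCoh.pull q).obj (F k)))) :
    ∃ (m : ℕ) (T₀ : Fin m → Scheme.{u}) (g₀ : ∀ j, T₀ j ⟶ X),
      (∀ j, IsImmersion (g₀ j)) ∧ (⋃ j, Set.range (g₀ j).base) = Set.univ ∧
        ∀ j k, EtCoh.IsFiniteLocallyConstant ((EtCoh.pull (g₀ j)).obj (F k)) := by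
  suffices key : ∃ (J : Type) (_ : Finite J) (S : J → Scheme.{u}) (h : ∀ j, S j ⟶ X), (∀ j, IsImmersion (h j)) ∧
      (Set.univ : Set X) ⊆ (⋃ j, Set.range (h j).base) ∧
        ∀ j k, EtCoh.IsFiniteLocallyConstant ((EtCoh.pull (h j)).obj (F k)) by
    obtain ⟨J, _, S, h, hh, hc, hP⟩ := key
    haveI := Fintype.ofFinite J
    let e := (Fintype.equivFin J).symm
    refine ⟨_, fun a => S (e a), fun a => h (e a), fun a => hh _, Set.eq_univ_of_univ_subset ?_, fun a => hP _⟩
    exact hc.trans (Set.iUnion_subset fun j => e.apply_symm_apply j ▸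
      Set.subset_iUnion (fun a => Set.range (h (e a)).base) (e.symm j))
  refine SpecLib.irred_induction (P := fun Y : Set X => ∃ (J : Type) (_ : Finite J) (S : J → Scheme.{u})
    (h : ∀ j, S j ⟶ X), (∀ j, IsImmersion (h j)) ∧ Y ⊆ (⋃ j, Set.range (h j).base) ∧
      ∀ j k, EtCoh.IsFiniteLocallyConstant ((EtCoh.pull (h j)).obj (F k))) ?_ ?_ ?_ isClosed_univ
  · exact ⟨Empty, inferInstance, fun j => j.elim, fun j => j.elim, fun j => j.elim, Set.empty_subset _,
      fun j => j.elim⟩
  · rintro A B - - ⟨J, _, S, h, hh, hc, hP⟩ ⟨J', _, S', h', hh', hc', hP'⟩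
    refine ⟨J ⊕ J', inferInstance, Sum.elim S S', Sum.rec h h', Sum.rec hh hh', ?_, Sum.rec hP hP'⟩
    exact Set.union_subset (hc.trans (Set.iUnion_subset fun j => Set.subset_iUnion_of_subset (.inl j) subset_rfl))
      (hc'.trans (Set.iUnion_subset fun j => Set.subset_iUnion_of_subset (.inr j) subset_rfl))
  · intro Y hY hYi ih
    obtain ⟨R, r, W, hr, hW, ⟨w, hw, hwY⟩, hrW, hRP⟩ := exists_piece q F T g hcov hF hY hYi
    obtain ⟨J, _, S, h, hh, hc, hP⟩ := ih (Y ∩ Wᶜ) (hY.inter hW.isClosed_compl)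
      (Set.inter_subset_left.ssubset_of_ne fun e => (e.ge hwY).2 hw)
    refine ⟨Option J, inferInstance, fun o => o.elim R S, Option.rec r h, Option.rec hr hh, ?_, Option.rec hRP hP⟩
    intro y hy
    by_cases hyW : y ∈ W
    · exact Set.mem_iUnion.2 ⟨none, hrW.ge ⟨hyW, hy⟩⟩
    · obtain ⟨j, hj⟩ := Set.mem_iUnion.1 (hc ⟨hy, hyW⟩)
      exact Set.mem_iUnion.2 ⟨some j, hj⟩

/-- Let q : X' ⟶ X be a surjective morphism locally of finite type between Noetherian schemes (hence of
finite type) and let (F k) be any family of abelian sheaves on the small étale site of X. Suppose X'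
carries one finite stratification adapted to the whole pulled-back family: finitely many immersions
g i : T i ⟶ X' with pairwise disjoint images covering X', such that each q⁻¹(F k) pulled back along
each g i is finite locally constant. Then X carries a finite stratification by immersions with
pairwise disjoint images covering X along each of which every F k becomes finite locally constant.
The published statement is an equivalence; this row states only the implication from X' to X. -/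
theorem result {X' X : Scheme.{u}}
    [IsNoetherian X] [IsNoetherian X'] (q : X' ⟶ X) [Surjective q] [LocallyOfFiniteType q]
    {ι : Type v} (F : ι → EtCoh.Ab X) {n : ℕ} (T : Fin n → Scheme.{u}) (g : ∀ i, T i ⟶ X')
    [∀ i, IsImmersion (g i)]
    (hdisj : Pairwise fun i j => Disjoint (Set.range (g i).base) (Set.range (g j).base))
    (hcov : (⋃ i, Set.range (g i).base) = Set.univ)
    (hF : ∀ k i, EtCoh.IsFiniteLocallyConstant ((EtCoh.pull (g i)).obj ((EtCoh.pull q).obj (F k)))) :
    ∃ (m : ℕ) (T₀ : Fin m → Scheme.{u}) (g₀ : ∀ j, T₀ j ⟶ X),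
      (∀ j, IsImmersion (g₀ j)) ∧
      Pairwise (fun j j' => Disjoint (Set.range (g₀ j).base) (Set.range (g₀ j').base)) ∧
      (⋃ j, Set.range (g₀ j).base) = Set.univ ∧
      ∀ k j, EtCoh.IsFiniteLocallyConstant ((EtCoh.pull (g₀ j)).obj (F k)) := by
  obtain ⟨m, T₀, g₀, hg₀, hu, hP⟩ : ∃ (m : ℕ) (T₀ : Fin m → Scheme.{u}) (g₀ : ∀ j, T₀ j ⟶ X),
      (∀ j, IsImmersion (g₀ j)) ∧ (⋃ j, Set.range (g₀ j).base) = Set.univ ∧
        ∀ j k, EtCoh.IsFiniteLocallyConstant ((EtCoh.pull (g₀ j)).obj (F k)) :=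
    exists_cover q F T g hcov hF
  obtain ⟨n', S, h, hh, hd, hcS, hS⟩ := EtFound.exists_disjoint_pieces T₀ g₀ hg₀ hu
    (fun {S} h => ∀ k, EtCoh.IsFiniteLocallyConstant ((EtCoh.pull h).obj (F k))) hP
    (fun f h hh k => EtFound.isFiniteLocallyConstant_of_iso ((EtFound.pullCompAb f h).app (F k)).symm
      (EtFound.isFiniteLocallyConstant_pull f (hh k)))
  exact ⟨n', S, h, hh, hd, hcS, fun k j => hS j k⟩

end Groth.Agent.S18361
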