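import Groth.Statements.S18364
import Mathlib.Algebra.Module.LocalizedModule.Basic
import Mathlib.RingTheory.Ideal.MinimalPrime.Localization

set_option autoImplicit false
universe u
open CAlg

namespace Groth.Agent.S18364

section
variable {A : Type*} [CommRing A] {M : Type*} [AddCommGroup M] [Module A M]

theorem mem_ker_mk {Q : Submodule A M} {p : Ideal A} [p.IsPrime] {x : M} :
    Q.mkQ x ∈ LinearMap.ker (LocalizedModule.mkLinearMap p.primeCompl (M ⧸ Q)) ↔
      ∃ s : A, s ∉ p ∧ s • x ∈ Q := by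
  rw [LinearMap.mem_ker, IsLocalizedModule.eq_zero_iff p.primeCompl]
  constructor
  · rintro ⟨⟨s, hs⟩, h⟩
    exact ⟨s, hs, (Submodule.Quotient.mk_eq_zero Q).1 (by simpa using h)⟩
  · rintro ⟨s, hs, h⟩
    exact ⟨⟨s, hs⟩, by simpa [Submonoid.smul_def, ← Submodule.Quotient.mk_smul] using h⟩

theorem mem_span_smul {a : A} {N : Submodule A M} {x : M} :
    x ∈ Ideal.span {a} • N ↔ ∃ n ∈ N, a • n = x := by
  rw [Submodule.ideal_span_singleton_smul]
  exact Submodule.mem_smul_pointwise_iff_exists x a N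

theorem mem_comap_K {ι : Type*} {P : ι → Ideal A} [∀ i, (P i).IsPrime] {Q : Submodule A M} {T : Set ι} {x : M} :
    x ∈ (⨅ i ∈ T, LinearMap.ker (LocalizedModule.mkLinearMap (P i).primeCompl (M ⧸ Q))).comap Q.mkQ ↔
      ∀ i ∈ T, ∃ s : A, s ∉ P i ∧ s • x ∈ Q := by
  simp only [Submodule.mem_comap, Submodule.mem_iInf, mem_ker_mk]

theorem exists_mul_mem {I p q : Ideal A} (hp : p ∈ I.minimalPrimes) (hq : q ∈ I.minimalPrimes) (hne : p ≠ q) :
    ∃ c ∉ q, ∃ t ∉ p, t * c ∈ I := by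
  obtain ⟨⟨hqP, hIq⟩, hqmin⟩ := hq
  obtain ⟨⟨hpP, hIp⟩, hpmin⟩ := hp
  obtain ⟨a, hap, haq⟩ : ∃ a ∈ p, a ∉ q :=
    Set.not_subset.1 fun h => hne (le_antisymm h (hqmin ⟨hpP, hIp⟩ h))
  by_contra! h
  have hd : Disjoint (I : Set A) ((p.primeCompl ⊔ Submonoid.powers a : Submonoid A) : Set A) := by
    rw [Set.disjoint_left]
    intro z hz hz'
    obtain ⟨t, ht, _, ⟨k, rfl⟩, rfl⟩ := Submonoid.mem_sup.1 hz'
    exact h (a ^ k) (fun hh => haq (hqP.mem_of_pow_mem k hh)) t ht hz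
  obtain ⟨r, hr, hIr, hdis⟩ := Ideal.exists_le_prime_disjoint I _ hd
  have hrp : r ≤ p := fun z hz => by
    by_contra hzp
    exact Set.disjoint_left.1 hdis hz (Submonoid.mem_sup_left hzp)
  exact Set.disjoint_left.1 hdis (hpmin ⟨hr, hIr⟩ hrp hap) (Submonoid.mem_sup_right (Submonoid.mem_powers a))

end

/-- Let A be a Noetherian ring, π an element of A, and (𝔓_i)_{i ∈ ι} an injective finite family listing
exactly the minimal prime ideals over (π). Let M be a finitely generated A-module and M̄ = M/πM. For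
a subset T of ι let K(T) ⊆ M̄ be the submodule of elements whose image in the localisation of M̄ at
𝔓_i is zero for every i ∈ T, and N(T) ⊆ M its preimage in M. Assume K(ι) = 0, i.e. no nonzero
element of M̄ vanishes at all the minimal primes (every associated prime of M̄ is one of the 𝔓_i).
Then for every subset Y of ι with complement Z one has N(Y) ∩ N(Z) = πM, and the same construction
applied to the module N(Y) instead of M — the preimage in N(Y) of the elements of N(Y)/πN(Y)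
vanishing at every 𝔓_i with i ∈ Z — is, as a submodule of M, equal to N(Y) ∩ N(Z). (Geometric
meaning: A is the local ring of a flat family of curves over a discrete valuation ring with
uniformizer π at a point of the reduced special fibre, M the stalk of a torsion-free rank-one sheaf
I, Y a set of components of the special fibre through the point, and N(Y) the stalk of the kernel
I^Y of I → I(s)_Y; the statement is (I^Y)^Z = I^Y ∩ I^Z = πI. Reducedness of A/πA, flatness and rank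
one are not used.) -/
theorem result
    (A : Type u) [CommRing A] [IsNoetherianRing A] (π : A)
    (ι : Type) [Finite ι] (𝔓 : ι → Ideal A) [∀ i, (𝔓 i).IsPrime]
    (h𝔓 : ∀ i, 𝔓 i ∈ (Ideal.span {π}).minimalPrimes) (h𝔓inj : Function.Injective 𝔓)
    (h𝔓surj : ∀ 𝔔 ∈ (Ideal.span {π}).minimalPrimes, ∃ i, 𝔓 i = 𝔔)
    (M : Type u) [AddCommGroup M] [Module A M] [Module.Finite A M]
    (K : Set ι → Submodule A (M ⧸ Ideal.span {π} • (⊤ : Submodule A M)))
    (hK : ∀ T : Set ι, K T = ⨅ i ∈ T, LinearMap.ker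
      (LocalizedModule.mkLinearMap (𝔓 i).primeCompl (M ⧸ Ideal.span {π} • (⊤ : Submodule A M))))
    (htf : K Set.univ = ⊥)
    (N : Set ι → Submodule A M)
    (hN : ∀ T : Set ι, N T = (K T).comap (Submodule.mkQ (Ideal.span {π} • (⊤ : Submodule A M))))
    (Y : Set ι) :
    N Y ⊓ N Yᶜ = Ideal.span {π} • (⊤ : Submodule A M) ∧
    Submodule.map (N Y).subtype
      ((⨅ i ∈ Yᶜ, LinearMap.ker (LocalizedModule.mkLinearMap (𝔓 i).primeCompl
          (↥(N Y) ⧸ Ideal.span {π} • (⊤ : Submodule A ↥(N Y))))).comap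
        (Submodule.mkQ (Ideal.span {π} • (⊤ : Submodule A ↥(N Y)))))
      = N Y ⊓ N Yᶜ := by
  classical
  haveI := Fintype.ofFinite ι
  have hmem : ∀ T x, x ∈ N T ↔ ∀ i ∈ T, ∃ s : A, s ∉ 𝔓 i ∧ s • x ∈ Ideal.span {π} • (⊤ : Submodule A M) :=
    fun T x => by rw [hN, hK]; exact mem_comap_K
  have hinf : N Y ⊓ N Yᶜ = Ideal.span {π} • (⊤ : Submodule A M) := by
    rw [hN, hN, ← Submodule.comap_inf, hK, hK, ← iInf_union, Set.union_compl_self, ← hK, htf,
      Submodule.comap_bot, Submodule.ker_mkQ]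
  refine ⟨hinf, le_antisymm ?_ ?_⟩
  · rintro _ ⟨x, hx, rfl⟩
    refine ⟨x.2, (hmem _ _).2 fun i hi => ?_⟩
    obtain ⟨s, hs, h⟩ := mem_comap_K.1 hx i hi
    exact ⟨s, hs, Submodule.smul_mono le_rfl le_top ((Submodule.mem_smul_top_iff _ _ _).1 h)⟩
  · rintro x ⟨hxY, hxC⟩
    refine ⟨⟨x, hxY⟩, mem_comap_K.2 fun i hi => ?_, rfl⟩
    obtain ⟨s, hs, h⟩ := (hmem _ _).1 hxC i hi
    obtain ⟨m, -, hm⟩ := mem_span_smul.1 h
    have hc : ∀ j : ι, ∃ c, c ∉ 𝔓 i ∧ (j ∈ Y → ∃ t ∉ 𝔓 j, t * c ∈ Ideal.span {π}) := fun j => by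
      by_cases hj : j ∈ Y
      · obtain ⟨c, hc, h⟩ := exists_mul_mem (h𝔓 j) (h𝔓 i) (fun e => hi (h𝔓inj e ▸ hj))
        exact ⟨c, hc, fun _ => h⟩
      · exact ⟨1, (𝔓 i).ne_top_iff_one.1 (Ideal.IsPrime.ne_top inferInstance), fun h => absurd h hj⟩
    choose c hc1 hc2 using hc
    have hcm : (∏ j, c j) • m ∈ N Y := (hmem _ _).2 fun j hj => by
      obtain ⟨t, ht, htc⟩ := hc2 j hj
      refine ⟨t, ht, ?_⟩
      rw [← mul_smul, ← Finset.mul_prod_erase Finset.univ c (Finset.mem_univ j), ← mul_assoc, mul_smul]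
      exact Submodule.smul_mem_smul htc trivial
    refine ⟨(∏ j, c j) * s, ?_, ?_⟩
    · exact (𝔓 i).primeCompl.mul_mem (prod_mem fun j _ => hc1 j) hs
    · rw [Submodule.mem_smul_top_iff]
      exact mem_span_smul.2 ⟨_, hcm, by rw [smul_comm, hm, ← mul_smul]; rfl⟩

end Groth.Agent.S18364
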