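import Groth.Statements.S18365
import Groth.Agent.S18364

set_option autoImplicit false
universe u
open CAlg

namespace Groth.Agent.S18365

/-- Let A be a Noetherian ring, π an element of A, (𝔓_i)_{i ∈ ι} an injective finite family listing
exactly the minimal prime ideals over (π), and M a finitely generated A-module on which π acts
injectively; put M̄ = M/πM. For T ⊆ ι let K(T) ⊆ M̄ be the submodule of elements whose image in the
localisation of M̄ at 𝔓_i vanishes for every i ∈ T, and N(T) ⊆ M its preimage; assume K(ι) = 0.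
Suppose that M̄ decomposes at Y, i.e. K(Y) + K(Yᶜ) = M̄, and that for a subset Z the module
N(Y)/πN(Y) decomposes at Z, i.e. its submodule of elements vanishing at every 𝔓_i (i ∈ Z) and its
submodule of elements vanishing at every 𝔓_i (i ∉ Z) together span it. Then M̄ decomposes at Z: K(Z)
+ K(Zᶜ) = M̄. (Geometric meaning: for a flat family of curves over a discrete valuation ring with
uniformizer π, I a torsion-free rank-one sheaf flat over the base, Y a subcurve of the special fibre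
X(s) at which I(s) decomposes and I^Y = ker(I → I(s)_Y): if I^Y(s) decomposes at a subcurve Z then
so does I(s); decomposition of a sheaf at Z is the surjectivity of I(s) → I(s)_Z ⊕ I(s)_{Z^c},
checked on stalks. Reducedness of the special fibre and rank one are not used.) -/
theorem result
    (A : Type u) [CommRing A] [IsNoetherianRing A] (π : A)
    (ι : Type) [Finite ι] (𝔓 : ι → Ideal A) [∀ i, (𝔓 i).IsPrime]
    (h𝔓 : ∀ i, 𝔓 i ∈ (Ideal.span {π}).minimalPrimes) (h𝔓inj : Function.Injective 𝔓)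
    (h𝔓surj : ∀ 𝔔 ∈ (Ideal.span {π}).minimalPrimes, ∃ i, 𝔓 i = 𝔔)
    (M : Type u) [AddCommGroup M] [Module A M] [Module.Finite A M]
    (hπ : ∀ m : M, π • m = 0 → m = 0)
    (K : Set ι → Submodule A (M ⧸ Ideal.span {π} • (⊤ : Submodule A M)))
    (hK : ∀ T : Set ι, K T = ⨅ i ∈ T, LinearMap.ker
      (LocalizedModule.mkLinearMap (𝔓 i).primeCompl (M ⧸ Ideal.span {π} • (⊤ : Submodule A M))))
    (htf : K Set.univ = ⊥)
    (N : Set ι → Submodule A M)
    (hN : ∀ T : Set ι, N T = (K T).comap (Submodule.mkQ (Ideal.span {π} • (⊤ : Submodule A M))))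
    (Y Z : Set ι) (hY : K Y ⊔ K Yᶜ = ⊤)
    (K' : Set ι → Submodule A (↥(N Y) ⧸ Ideal.span {π} • (⊤ : Submodule A ↥(N Y))))
    (hK' : ∀ T : Set ι, K' T = ⨅ i ∈ T, LinearMap.ker
      (LocalizedModule.mkLinearMap (𝔓 i).primeCompl (↥(N Y) ⧸ Ideal.span {π} • (⊤ : Submodule A ↥(N Y)))))
    (hZ : K' Z ⊔ K' Zᶜ = ⊤) :
    K Z ⊔ K Zᶜ = ⊤ := by
  have hmem : ∀ T x, x ∈ N T ↔ ∀ i ∈ T, ∃ s : A, s ∉ 𝔓 i ∧ s • x ∈ Ideal.span {π} • (⊤ : Submodule A M) :=
    fun T x => by rw [hN, hK]; exact S18364.mem_comap_K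
  let V : ι → Submodule A M := fun i => (LinearMap.ker
    (LocalizedModule.mkLinearMap (𝔓 i).primeCompl (M ⧸ Ideal.span {π} • (⊤ : Submodule A M)))).comap (Submodule.mkQ _)
  have hV : ∀ T x, x ∈ N T ↔ ∀ i ∈ T, x ∈ V i := fun T x => by
    rw [hN, hK]; simp only [V, Submodule.mem_comap, Submodule.mem_iInf]
  have hle : ∀ T, Ideal.span {π} • (⊤ : Submodule A M) ≤ N T := fun T x hx => by
    rw [hN, Submodule.mem_comap, Submodule.mkQ_apply, (Submodule.Quotient.mk_eq_zero _).2 hx]; exact zero_mem _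
  have hinf : ∀ T, N T ⊓ N Tᶜ = Ideal.span {π} • (⊤ : Submodule A M) := fun T => by
    rw [hN, hN, ← Submodule.comap_inf, hK, hK, ← iInf_union, Set.union_compl_self, ← hK, htf,
      Submodule.comap_bot, Submodule.ker_mkQ]
  have hdecY : ∀ m : M, ∃ a ∈ N Y, ∃ b ∈ N Yᶜ, m = a + b := fun m => by
    obtain ⟨k1, h1, k2, h2, h⟩ := Submodule.mem_sup.1 (hY ▸ Submodule.mem_top : Submodule.mkQ _ m ∈ K Y ⊔ K Yᶜ)
    obtain ⟨a, rfl⟩ := Submodule.mkQ_surjective _ k1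
    obtain ⟨b, rfl⟩ := Submodule.mkQ_surjective _ k2
    have hd : m - (a + b) ∈ Ideal.span {π} • (⊤ : Submodule A M) :=
      (Submodule.Quotient.eq _).1 (by simpa using h.symm)
    refine ⟨a + (m - (a + b)), ?_, b, by rw [hN]; exact h2, by abel⟩
    exact add_mem (by rw [hN]; exact h1) (hle Y hd)
  have hdecZ : ∀ x ∈ N Y, ∃ c1 ∈ N Y, ∃ c2 ∈ N Y, ∃ n ∈ N Y, x = c1 + c2 + π • n ∧
      (∀ i ∈ Z, ∃ s : A, s ∉ 𝔓 i ∧ s • c1 ∈ Ideal.span {π} • N Y) ∧
      (∀ i ∈ Zᶜ, ∃ s : A, s ∉ 𝔓 i ∧ s • c2 ∈ Ideal.span {π} • N Y) := fun x hx => by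
    obtain ⟨k1, h1, k2, h2, h⟩ := Submodule.mem_sup.1
      (hZ ▸ Submodule.mem_top : Submodule.mkQ _ (⟨x, hx⟩ : N Y) ∈ K' Z ⊔ K' Zᶜ)
    obtain ⟨a, rfl⟩ := Submodule.mkQ_surjective _ k1
    obtain ⟨b, rfl⟩ := Submodule.mkQ_surjective _ k2
    have hd : (⟨x, hx⟩ : N Y) - (a + b) ∈ Ideal.span {π} • (⊤ : Submodule A (N Y)) :=
      (Submodule.Quotient.eq _).1 (by simpa using h.symm)
    obtain ⟨n, hn, hnx⟩ := S18364.mem_span_smul.1 ((Submodule.mem_smul_top_iff _ _ _).1 hd)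
    refine ⟨a, a.2, b, b.2, n, hn, by rw [hnx]; push_cast; abel, fun i hi => ?_, fun i hi => ?_⟩
    · rw [hK'] at h1
      obtain ⟨s, hs, h⟩ := S18364.mem_comap_K.1 (Submodule.mem_comap.2 h1) i hi
      exact ⟨s, hs, (Submodule.mem_smul_top_iff _ _ _).1 h⟩
    · rw [hK'] at h2
      obtain ⟨s, hs, h⟩ := S18364.mem_comap_K.1 (Submodule.mem_comap.2 h2) i hi
      exact ⟨s, hs, (Submodule.mem_smul_top_iff _ _ _).1 h⟩
  have hweak : ∀ {T : Set ι} {c : M}, (∀ i ∈ T, ∃ s : A, s ∉ 𝔓 i ∧ s • c ∈ Ideal.span {π} • N Y) → c ∈ N T :=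
    fun h => (hmem _ _).2 fun i hi => let ⟨s, hs, h'⟩ := h i hi; ⟨s, hs, Submodule.smul_mono le_rfl le_top h'⟩
  have hYdec : N Y ≤ N Z ⊔ N Zᶜ := fun x hx => by
    obtain ⟨c1, -, c2, -, n, -, rfl, h1, h2⟩ := hdecZ x hx
    exact add_mem (add_mem (Submodule.mem_sup_left (hweak h1)) (Submodule.mem_sup_right (hweak h2)))
      (Submodule.mem_sup_left (hle Z (S18364.mem_span_smul.2 ⟨n, trivial, rfl⟩)))
  have hdiv : ∀ {T : Set ι} {c m : M}, π • m = c → (∀ i ∈ T, ∃ s : A, s ∉ 𝔓 i ∧ s • c ∈ Ideal.span {π} • N Y) →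
      ∀ i ∈ T, i ∈ Y → m ∈ V i := by
    intro T c m hm h i hi hiY
    obtain ⟨s, hs, h'⟩ := h i hi
    obtain ⟨n1, hn1, hn1'⟩ := S18364.mem_span_smul.1 h'
    have hsm : s • m = n1 := sub_eq_zero.1 (hπ _ (by rw [smul_sub, smul_comm, hm, hn1', sub_self]))
    obtain ⟨t, ht, htn⟩ := (hmem Y n1).1 hn1 i hiY
    refine S18364.mem_ker_mk.2 ⟨t * s, (𝔓 i).primeCompl.mul_mem ht hs, ?_⟩
    rw [mul_smul, hsm]; exact htn
  have hmain : ∀ m : M, m ∈ N Z ⊔ N Zᶜ := by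
    have hpart : ∀ (T : Set ι) (m1 : M), (∀ i ∈ T, i ∈ Y → m1 ∈ V i) → ∃ a ∈ N Y, ∃ b ∈ N T, m1 = a + b := by
      intro T m1 h
      obtain ⟨a, ha, b, hb, rfl⟩ := hdecY m1
      refine ⟨a, ha, b, (hV T b).2 fun i hi => ?_, rfl⟩
      by_cases hiY : i ∈ Y
      · simpa using sub_mem (h i hi hiY) ((hV Y a).1 ha i hiY)
      · exact (hV _ b).1 hb i hiY
    intro m
    have hπm : π • m ∈ N Y := hle Y (S18364.mem_span_smul.2 ⟨m, trivial, rfl⟩)
    obtain ⟨c1, -, c2, -, n, hn, hsum, h1, h2⟩ := hdecZ _ hπm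
    have hc1 : c1 ∈ Ideal.span {π} • (⊤ : Submodule A M) := by
      refine (hinf Z).le ⟨hweak h1, ?_⟩
      have : c1 = π • (m - n) - c2 := by rw [smul_sub, hsum]; abel
      rw [this]
      exact sub_mem (hle _ (S18364.mem_span_smul.2 ⟨_, trivial, rfl⟩)) (hweak h2)
    obtain ⟨m1, -, hm1⟩ := S18364.mem_span_smul.1 hc1
    have hm2 : π • (m - n - m1) = c2 := by rw [smul_sub, smul_sub, hm1, hsum]; abel
    obtain ⟨a1, ha1, b1, hb1, e1⟩ := hpart Z m1 (hdiv hm1 h1)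
    obtain ⟨a2, ha2, b2, hb2, e2⟩ := hpart Zᶜ (m - n - m1) (hdiv hm2 h2)
    have : m = (a1 + b1) + (a2 + b2) + n := by rw [← e1, ← e2]; abel
    rw [this]
    exact add_mem (add_mem (add_mem (hYdec ha1) (Submodule.mem_sup_left hb1))
      (add_mem (hYdec ha2) (Submodule.mem_sup_right hb2))) (hYdec hn)
  rw [eq_top_iff]
  rintro q -
  obtain ⟨m, rfl⟩ := Submodule.mkQ_surjective _ q
  obtain ⟨u, hu, v, hv, rfl⟩ := Submodule.mem_sup.1 (hmain m)
  rw [hN, Submodule.mem_comap] at hu hv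
  rw [map_add]
  exact Submodule.add_mem_sup hu hv

end Groth.Agent.S18365
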