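import Groth.Statements.S18371
import Groth.Agent.FinDesc.Isogeny
import Groth.Agent.AVDegPoly.DetVal
-- import your own Groth.Agent.* helpers here

set_option autoImplicit false
universe u
open CategoryTheory CategoryTheory.Limits MonoidalCategory CartesianMonoidalCategory MonObj GrpObj AlgebraicGeometry
open AbVar

set_option backward.isDefEq.respectTransparency false
set_option synthInstance.maxHeartbeats 400000
set_option maxHeartbeats 1000000
set_option linter.style.haveILetI false
attribute [-instance] CategoryTheory.catToReflQuiver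
open scoped Groth.Agent.H23.PicMul

namespace Groth.Agent.S18371

/-- Let k be a field, A and B abelian varieties over k (proper smooth k-group schemes with geometrically
connected fibres) of the same dimension g > 0, and (B^t, φ) a given dual abelian variety of B for
the fppf topology, B^t itself an abelian variety, with a Poincaré invertible module P on B ×_k B^t.
Let Q be an invertible module on B ×_k A, regarded as a family of invertible modules on B
parametrised by A, which is trivial along the unit section of B and trivial on the fibre over the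
unit of A, and whose class is algebraically trivial on every geometric fibre over A (this last
condition follows from the others and is recorded as a hypothesis). Let f_Q = φ_A(Q) : A → B^t be
the classifying homomorphism. Then the Euler characteristic χ(B ×_k A, Q) has absolute value 1 if
and only if f_Q is an isomorphism. (The published statement also asserts the same equivalence for
the homomorphism B → A^t attached to the transposed family; that is this statement applied to the
pulled-back module on A ×_k B with the roles of A and B exchanged. The dimension of B^t is not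
assumed equal to g; it is forced by the duality hypothesis.) -/
theorem result (k : Type u) [Field k]
    (A B Bt : Over (Spec (CommRingCat.of k)))
    [GrpObj A] [IsProper A.hom] [Smooth A.hom] [GeometricallyConnected A.hom]
    [GrpObj B] [IsProper B.hom] [Smooth B.hom] [GeometricallyConnected B.hom]
    [GrpObj Bt] [IsProper Bt.hom] [Smooth Bt.hom] [GeometricallyConnected Bt.hom]
    (φ : ∀ T : Over (Spec (CommRingCat.of k)), PicF.Cl (PicF.XT B.hom T) → (T ⟶ Bt))
    (hφ : AbDual.IsDualAV Scheme.fppfPrecoverage B Bt φ)
    (P : (PicF.XT B.hom Bt).Modules) (hP : PicF.IsInvertible P) (hPξ : AbDual.IsPoincareCl B Bt φ (PicF.cl P))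
    (g : ℕ) (hg : 0 < g) (hA : topologicalKrullDim ↥A.left = g) (hB : topologicalKrullDim ↥B.left = g)
    (Q : (PicF.XT B.hom A).Modules) (hQ : PicF.IsInvertible Q)
    (hQ0 : AbDual.IsPicZeroCl B.hom A (PicF.cl Q))
    (hQB : PicF.IsTrivialCl (PicF.pullCl (PicF.secT B.hom η[B].left (Over.w η[B]) A) (PicF.cl Q)))
    (hQA : PicF.IsTrivialCl (PicF.pullCl (PicF.XTmap B.hom η[A]) (PicF.cl Q))) :
    (@Curv2.euler k _ (PicF.XT B.hom A) ⟨PicF.XTproj B.hom A ≫ A.hom⟩ Q).natAbs = 1 ↔ IsIso (φ A (PicF.cl Q)) := by
  haveI : GeometricallyIntegral A.hom := Groth.Agent.AVDual.geometricallyIntegral_of_smooth A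
  haveI : GeometricallyIntegral B.hom := Groth.Agent.AVDual.geometricallyIntegral_of_smooth B
  haveI : GeometricallyIntegral Bt.hom := Groth.Agent.AVDual.geometricallyIntegral_of_smooth Bt
  haveI : IsCommMonObj B := isCommMonObj_of_isProper_of_geometricallyIntegral B
  let f := φ A (PicF.cl Q)
  have h1 : η[A] ≫ f = η[Bt] := by
    rw [← hφ.relPic.natural _ _ η[A] _ hQ0,
      show PicF.pullCl (PicF.XTmap B.hom η[A]) (PicF.cl Q) = (1 : PicF.Cl (PicF.XT B.hom (𝟙_ _))) from hQA,
      Groth.Agent.AbDualBase.phi_one hφ, Hom.one_def, toUnit_unique (toUnit (𝟙_ _)) (𝟙 _), Category.id_comp]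
  haveI : IsMonHom f := Groth.Agent.H23.AlbFormal.isMonHom_of_one f h1
  haveI : IsProper (B ⊗ A).hom := inferInstanceAs (IsProper (pullback.fst B.hom A.hom ≫ B.hom))
  haveI : IsProper (B ⊗ Bt).hom := inferInstanceAs (IsProper (pullback.fst B.hom Bt.hom ≫ B.hom))
  haveI : GeometricallyIntegral (B ⊗ A).hom := Groth.Agent.H23.MaxAbelian.geometricallyIntegral_tensor B A
  have hcl : Groth.Agent.H23.CubeAb.F (PicF.cl P) (B ◁ f) = PicF.cl Q := by
    have h := Groth.Agent.FinDesc.pull_poincare hφ hPξ hQ0 hQB
    rwa [Groth.Agent.PicZeroPrim.xtMap_eq] at h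
  have hchi : @Curv2.euler k _ (PicF.XT B.hom A) ⟨PicF.XTproj B.hom A ≫ A.hom⟩ Q =
      Groth.Agent.AVEuler.chi (B ⊗ A) (PicF.cl Q) := by
    refine congrArg (fun o : (PicF.XT B.hom A).Over (Spec (CommRingCat.of k)) =>
      @Curv2.euler k _ (PicF.XT B.hom A) o Q) ?_
    show (⟨pullback.snd B.hom A.hom ≫ A.hom⟩ : (pullback B.hom A.hom).Over (Spec (CommRingCat.of k))) =
      ⟨pullback.fst B.hom A.hom ≫ B.hom⟩
    rw [pullback.condition]
  rw [hchi]
  have hP1 : Groth.Agent.AVEuler.chi (B ⊗ Bt) (PicF.cl P) = (-1) ^ g :=
    Groth.Agent.FinDesc.chi_poincare hφ hP hPξ hB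
  have hcomp : ∀ (d : ℕ), FinCov.IsCover f.left d →
      Groth.Agent.AVEuler.chi (B ⊗ A) (PicF.cl Q) = (d : ℤ) * (-1) ^ g := by
    intro d hd
    rw [← hcl, Groth.Agent.FinDesc.chi_pull (B ◁ f) (Groth.Agent.FinDesc.isCover_whiskerLeft B f hd)
      ⟨P, rfl, hP⟩, hP1]
  constructor
  · intro h
    have hne : Groth.Agent.AVEuler.chi (B ⊗ A) (Groth.Agent.H23.CubeAb.F (PicF.cl P) (B ◁ f)) ≠ 0 := by
      rw [hcl]
      intro h0
      rw [h0] at h
      exact zero_ne_one h
    haveI := Groth.Agent.FinDesc.isFinite_of_whiskerLeft (A := B) f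
      (Groth.Agent.FinDesc.isFinite_of_chi_ne_zero (B ◁ f) ⟨P, rfl, hP⟩ hne)
    haveI : IsIntegral A.left := GeometricallyIntegral.isIntegral_of_subsingleton A.hom
    haveI : IsIntegral Bt.left := GeometricallyIntegral.isIntegral_of_subsingleton Bt.hom
    haveI : IsLocallyNoetherian Bt.left := LocallyOfFiniteType.isLocallyNoetherian Bt.hom
    obtain ⟨hs, hfl, -⟩ := Groth.Agent.AVDegPoly.finite_props f hA (Groth.Agent.FinDesc.dim_dual hφ hB)
    haveI := hfl
    haveI : LocallyOfFinitePresentation f.left := inferInstance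
    have hcov : FinCov.IsCover f.left (f.left.finrank (genericPoint Bt.left)) :=
      ⟨⟨inferInstance, inferInstance, inferInstance⟩, fun y =>
        (Scheme.Hom.isLocallyConstant_finrank f.left).apply_eq_of_preconnectedSpace y _⟩
    rw [hcomp _ hcov, Int.natAbs_mul, Int.natAbs_natCast, Int.natAbs_pow] at h
    simp only [Int.natAbs_neg, Int.natAbs_one, one_pow] at h
    rw [_root_.mul_one] at h
    haveI : IsIso f.left := (Scheme.Hom.isIso_iff_finrank_eq f.left).2 (funext fun y => by rw [hcov.2 y, h]; rfl)
    haveI : IsIso ((Over.forget _).map f) := ‹IsIso f.left›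
    exact CategoryTheory.isIso_of_reflects_iso f (Over.forget _)
  · intro hi
    haveI : IsIso f := hi
    haveI : IsIso f.left := (Over.forget _).map_isIso f
    have hcov : FinCov.IsCover f.left 1 := ⟨⟨inferInstance, inferInstance, inferInstance⟩, fun y =>
      congrFun ((Scheme.Hom.isIso_iff_finrank_eq f.left).1 inferInstance) y⟩
    rw [hcomp 1 hcov]
    simp


end Groth.Agent.S18371
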