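import Groth.Statements.S18380
import Groth.Agent.SurfExtn.Main
import Groth.Agent.ASB.Hom
import Groth.Agent.PPSheaf.GrCoh
import Groth.Agent.QCoh.DevissageTheta
import Groth.Agent.PnCoh.Chow.Proper
-- import your own Groth.Agent.* helpers here

set_option autoImplicit false
set_option backward.isDefEq.respectTransparency false
set_option backward.isDefEq.respectTransparency.types false
set_option maxHeartbeats 1000000
set_option synthInstance.maxHeartbeats 400000
set_option linter.style.haveILetI false
set_option linter.unusedVariables false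
universe u
open Divisors

namespace Groth.Agent.S18380

open CategoryTheory AlgebraicGeometry in
/-- Let k be an algebraically closed field of characteristic 0 and M a scheme, smooth and projective
over k. Let D₁ and D₂ be effective Cartier divisors on M, given by invertible ideal sheaves with
I_{D₂} ⊆ I_{D₁} (so D₁ is a closed subscheme of D₂). If I_{D₁} and I_{D₂} are isomorphic as
O_M-modules, that is D₁ and D₂ are linearly equivalent, then D₁ = D₂. The published statement is an
equivalence, for effective divisors on a smooth proper Deligne–Mumford stack with equal divisor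
classes; its proof reduces to a smooth projective scheme, the case stated here, and the other
direction is immediate. -/
theorem result (k : Type u) [Field k] [IsAlgClosed k] [CharZero k]
    (M : Scheme.{u}) (f : M ⟶ Spec (CommRingCat.of k)) [Smooth f]
    (hproj : Neron.IsProjectiveOver k (Over.mk f))
    (D₁ D₂ : M.IdealSheafData) (h₁ : BlowUp.IsEffCartierIdeal D₁) (h₂ : BlowUp.IsEffCartierIdeal D₂)
    (hle : D₂ ≤ D₁) (hiso : Nonempty (ClSub.idealMod D₁ ≅ ClSub.idealMod D₂)) :
    D₁ = D₂ := by
  obtain ⟨e⟩ := hiso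
  letI : M.Over (Spec (CommRingCat.of k)) := ⟨f⟩
  obtain ⟨N, ι, hι, hιf⟩ := hproj
  haveI : IsProper (M ↘ Spec (CommRingCat.of k)) := by
    haveI := hι
    haveI : IsProper (CohB1.ProjSpace.toSpec N (ULift.{u} ℤ)) := Groth.Agent.PnCoh.Chow.isProper_toSpec N _
    haveI : IsProper (CohB1.ProjSpaceOver.toBase N (Spec (CommRingCat.of k))) :=
      MorphismProperty.pullback_snd (P := @IsProper) _ _ inferInstance
    show IsProper f
    rw [show f = ι ≫ CohB1.ProjSpaceOver.toBase N (Spec (CommRingCat.of k)) from hιf.symm]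
    infer_instance
  haveI : IsLocallyNoetherian M := LocallyOfFiniteType.isLocallyNoetherian (M ↘ Spec (CommRingCat.of k))
  have h0 : ClSub.idealModι D₂ ≫ ClSub.toSubscheme D₁ = 0 :=
    Groth.Agent.QCoh.hom_eq_zero_of_affine _ fun W hW x => by
      show D₁.subschemeι.app W (OmegaSh.idealSect D₂ W x) = 0
      rw [← RingHom.mem_ker, D₁.ker_subschemeι_app ⟨W, hW⟩]
      exact hle ⟨W, hW⟩ (Groth.Agent.OmegaLib.idealSect_mem D₂ ⟨W, hW⟩ x)
  let j : ClSub.idealMod D₂ ⟶ ClSub.idealMod D₁ := Limits.kernel.lift _ (ClSub.idealModι D₂) h0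
  have hj : j ≫ ClSub.idealModι D₁ = ClSub.idealModι D₂ := Limits.kernel.lift_ι _ _ _
  haveI : Mono (ClSub.idealModι D₂) := inferInstanceAs (Mono (Limits.kernel.ι _))
  haveI : Mono j := mono_of_mono_fac hj
  let θ : ClSub.idealMod D₁ ⟶ ClSub.idealMod D₁ := e.hom ≫ j
  haveI : Mono θ := mono_comp _ _
  have hc := Groth.Agent.PPSheaf.GrCoh.isCoh_idealMod D₁ (fun U => by
    haveI := IsLocallyNoetherian.component_noetherian (X := M) U
    exact IsNoetherian.noetherian _)
  haveI := Groth.Agent.ASB.finite_hom (k := k) M hc hc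
  let L : (ClSub.idealMod D₁ ⟶ ClSub.idealMod D₁) →ₗ[k] (ClSub.idealMod D₁ ⟶ ClSub.idealMod D₁) :=
    CategoryTheory.Linear.rightComp k _ θ
  have hinj : Function.Injective L := fun a b hab => (cancel_mono θ).1 hab
  obtain ⟨x, hx⟩ := LinearMap.injective_iff_surjective.1 hinj (𝟙 _)
  haveI : IsSplitEpi j := ⟨⟨⟨x ≫ e.hom, by rw [Category.assoc]; exact hx⟩⟩⟩
  haveI : IsIso j := isIso_of_mono_of_isSplitEpi j
  refine le_antisymm (Groth.Agent.SurfExtn.ideal_le_of_fac (inv j) ?_) hle
  rw [IsIso.inv_comp_eq, hj]

end Groth.Agent.S18380
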