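import Groth.Statements.S18399
-- import your own Groth.Agent.* helpers here
import Mathlib

set_option autoImplicit false
universe u
open CAlg

namespace Groth.Agent.S18399

/-- Let k be a field and A a regular local k-algebra with residue field k (the structure map from k onto
the residue field of A is surjective), let σ be a k-algebra endomorphism of A of finite order n with
n invertible in k, and let I_σ be the ideal of A generated by the elements f - σ f. Then I_σ is
generated by finitely many elements of the maximal ideal whose classes in the cotangent space m/m^2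
are linearly independent over the residue field. (Such elements are part of a regular system of
parameters of A, hence part of a regular sequence, which is the printed conclusion; the generators
with independent classes are what the argument produces.) -/
theorem result {k : Type u} [Field k] {A : Type u} [CommRing A] [Algebra k A] [IsRegularLocalRing A] (hres : Function.Surjective ⇑(algebraMap k (IsLocalRing.ResidueField A))) (σ : A →ₐ[k] A) (n : ℕ) (hσ : ∀ a : A, (⇑σ)^[n] a = a) (hn : (n : k) ≠ 0) : ∃ (m : ℕ) (f : Fin m → ↥(IsLocalRing.maximalIdeal A)), Ideal.span (Set.range fun i : Fin m => (f i : A)) = Ideal.span (Set.range fun a : A => a - σ a) ∧ LinearIndependent (IsLocalRing.ResidueField A) (fun i : Fin m => (IsLocalRing.maximalIdeal A).toCotangent (f i)) := by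
  classical
  set M := IsLocalRing.maximalIdeal A with hM
  have hn0 : n ≠ 0 := fun h => hn (by simp [h])
  have hbij : Function.Bijective σ := by
    obtain ⟨j, rfl⟩ := Nat.exists_eq_succ_of_ne_zero hn0
    refine ⟨fun a b h => ?_, fun a => ⟨σ^[j] a, ?_⟩⟩
    · rw [← hσ a, ← hσ b, Function.iterate_succ_apply, Function.iterate_succ_apply, h]
    · rw [← Function.iterate_succ_apply' σ j a, hσ]
  let e : A ≃ₐ[k] A := AlgEquiv.ofBijective σ hbij
  have hMσ : ∀ a ∈ M, σ a ∈ M := by
    intro a ha
    rw [hM, IsLocalRing.mem_maximalIdeal, mem_nonunits_iff] at ha ⊢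
    intro h
    exact ha (by simpa [e] using h.map e.symm)
  have hM2σ : ∀ a ∈ M * M, σ a ∈ M * M := by
    intro a ha
    induction ha using Submodule.mul_induction_on' with
    | mem_mul_mem x hx y hy => rw [map_mul]; exact Ideal.mul_mem_mul (hMσ x hx) (hMσ y hy)
    | add x _ y _ hx hy => rw [map_add]; exact add_mem hx hy
  have hdec : ∀ a : A, ∃ c : k, a - algebraMap k A c ∈ M := by
    intro a
    obtain ⟨c, hc⟩ := hres (IsLocalRing.residue A a)
    refine ⟨c, ?_⟩
    rw [hM, ← IsLocalRing.residue_eq_zero_iff, map_sub, sub_eq_zero, ← hc]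
    rfl
  have hmemM : ∀ a : A, a - σ a ∈ M := by
    intro a
    obtain ⟨c, hc⟩ := hdec a
    have h := M.sub_mem hc (hMσ _ hc)
    rw [map_sub, AlgHom.commutes] at h
    simpa using h
  set I := Ideal.span (Set.range fun a : A => a - σ a) with hI
  have hIM : I ≤ M := Ideal.span_le.2 (by rintro _ ⟨a, rfl⟩; exact hmemM a)
  have hsq : ∀ x ∈ M * M, x - σ x ∈ M * I := by
    intro x hx
    induction hx using Submodule.mul_induction_on' with
    | mem_mul_mem x hx y hy =>
      rw [map_mul, show x * y - σ x * σ y = y * (x - σ x) + σ x * (y - σ y) by ring]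
      exact add_mem (Ideal.mul_mem_mul hy (Ideal.subset_span ⟨x, rfl⟩))
        (Ideal.mul_mem_mul (hMσ x hx) (Ideal.subset_span ⟨y, rfl⟩))
    | add x _ y _ hx hy =>
      rw [map_add, show x + y - (σ x + σ y) = (x - σ x) + (y - σ y) by ring]
      exact add_mem hx hy
  have key : ∀ a ∈ M, a - σ a ∈ M * M → a - σ a ∈ M * I := by
    intro a ha h
    have hiter : ∀ i, a - σ^[i] a ∈ M * M := by
      intro i
      induction i with
      | zero => simp
      | succ i ih =>
        have hi : σ^[i + 1] a = σ (σ^[i] a) := Function.iterate_succ_apply' σ i a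
        have h2 := hM2σ _ ih
        rw [map_sub, ← hi] at h2
        rw [show a - σ^[i + 1] a = (a - σ a) + (σ a - σ^[i + 1] a) by ring]
        exact add_mem h h2
    let s : A := algebraMap k A (n : k)⁻¹ * ∑ i ∈ Finset.range n, σ^[i] a
    have hs : σ s = s := by
      show σ (algebraMap k A (n : k)⁻¹ * _) = algebraMap k A (n : k)⁻¹ * _
      rw [map_mul, AlgHom.commutes, map_sum]
      congr 1
      have h1 : ∀ i, σ (σ^[i] a) = σ^[i + 1] a := fun i => (Function.iterate_succ_apply' σ i a).symm
      simp only [h1]
      have h2 := Finset.sum_range_succ' (fun i => σ^[i] a) n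
      rw [Finset.sum_range_succ (fun i => σ^[i] a) n, hσ] at h2
      exact (add_right_cancel h2).symm
    have has : a - s ∈ M * M := by
      have hn' : algebraMap k A (n : k)⁻¹ * (n : A) = 1 := by
        rw [← map_natCast (algebraMap k A), ← map_mul, inv_mul_cancel₀ hn, map_one]
      have : a - s = algebraMap k A (n : k)⁻¹ * ∑ i ∈ Finset.range n, (a - σ^[i] a) := by
        rw [Finset.sum_sub_distrib, Finset.sum_const, Finset.card_range, nsmul_eq_mul, mul_sub,
          ← mul_assoc, hn', one_mul]
      rw [this]
      exact Ideal.mul_mem_left _ _ (sum_mem fun i _ => hiter i)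
    have h1 := hsq _ has
    rwa [map_sub, hs, sub_sub_sub_cancel_right] at h1
  let S : Set (IsLocalRing.CotangentSpace A) :=
    Set.range fun a : M => M.toCotangent ⟨(a : A) - σ a, hmemM a⟩
  obtain ⟨b, hbS, hbspan, hbli⟩ := exists_linearIndependent (IsLocalRing.ResidueField A) S
  have hbfin : Finite b := hbli.finite
  have : Fintype b := Fintype.ofFinite b
  let eb := Fintype.equivFin b
  have hg : ∀ i : Fin (Fintype.card b),
      ∃ a : M, M.toCotangent ⟨(a : A) - σ a, hmemM a⟩ = (eb.symm i : IsLocalRing.CotangentSpace A) :=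
    fun i => hbS (eb.symm i).2
  choose g hg using hg
  refine ⟨Fintype.card b, fun i => ⟨(g i : A) - σ (g i), hmemM _⟩, ?_, ?_⟩
  · set J := Ideal.span (Set.range fun i => (g i : A) - σ (g i)) with hJ
    refine le_antisymm (Ideal.span_le.2 ?_) ?_
    · rintro _ ⟨i, rfl⟩
      exact Ideal.subset_span ⟨(g i : A), rfl⟩
    refine Submodule.le_of_le_smul_of_le_jacobson_bot (IsNoetherian.noetherian I)
      (IsLocalRing.maximalIdeal_le_jacobson _) ?_
    rw [smul_eq_mul, hI, Ideal.span_le]
    rintro _ ⟨a₁, rfl⟩
    obtain ⟨c, hc⟩ := hdec a₁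
    set a := a₁ - algebraMap k A c with ha
    have haa : a₁ - σ a₁ = a - σ a := by rw [ha, map_sub, AlgHom.commutes]; ring
    show a₁ - σ a₁ ∈ J ⊔ M * I
    rw [haa]
    have hv : M.toCotangent ⟨a - σ a, hmemM a⟩ ∈
        Submodule.span (IsLocalRing.ResidueField A) (Set.range fun i => (eb.symm i : IsLocalRing.CotangentSpace A)) := by
      rw [show (Set.range fun i => (eb.symm i : IsLocalRing.CotangentSpace A)) = b by
        ext v; exact ⟨fun ⟨i, hi⟩ => hi ▸ (eb.symm i).2, fun hv => ⟨eb ⟨v, hv⟩, by simp⟩⟩, hbspan]
      exact Submodule.subset_span ⟨⟨a, hc⟩, rfl⟩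
    obtain ⟨l, hl⟩ := (Submodule.mem_span_range_iff_exists_fun _).1 hv
    choose l' hl' using fun i => hres (l i)
    set x := a - ∑ i, algebraMap k A (l' i) * (g i : A) with hx
    have hxM : x ∈ M := M.sub_mem hc (sum_mem fun i _ => M.mul_mem_left _ (g i).2)
    have hxeq : x - σ x = (a - σ a) - ∑ i, algebraMap k A (l' i) * ((g i : A) - σ (g i)) := by
      simp only [hx, map_sub, map_sum, map_mul, AlgHom.commutes, mul_sub, Finset.sum_sub_distrib]
      ring
    have hx2 : x - σ x ∈ M * M := by
      have h0 : M.toCotangent (⟨a - σ a, hmemM a⟩ -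
          ∑ i, algebraMap k A (l' i) • (⟨(g i : A) - σ (g i), hmemM _⟩ : M)) = 0 := by
        rw [map_sub, map_sum, sub_eq_zero, ← hl]
        refine Finset.sum_congr rfl fun i _ => ?_
        rw [map_smul, hg, ← hl' i, IsScalarTower.algebraMap_apply k A (IsLocalRing.ResidueField A),
          algebraMap_smul]
      rw [Ideal.toCotangent_eq_zero] at h0
      rw [← pow_two, hxeq]
      simpa [Algebra.smul_def] using h0
    rw [eq_add_of_sub_eq hxeq.symm]
    exact add_mem (Ideal.mem_sup_right (key x hxM hx2))
      (Ideal.mem_sup_left (sum_mem fun i _ => J.mul_mem_left _ (Ideal.subset_span ⟨i, rfl⟩)))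
  · have : (fun i => (IsLocalRing.maximalIdeal A).toCotangent ⟨(g i : A) - σ (g i), hmemM _⟩) =
        (fun v : b => (v : IsLocalRing.CotangentSpace A)) ∘ eb.symm := funext hg
    rw [this]
    exact hbli.comp _ eb.symm.injective

end Groth.Agent.S18399
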