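import Groth.Statements.S18400
import Groth.Agent.H9PB.Corank

set_option autoImplicit false
set_option linter.style.haveILetI false
set_option backward.isDefEq.respectTransparency false
set_option backward.isDefEq.respectTransparency.types false
set_option maxHeartbeats 1600000
attribute [-instance] CategoryTheory.catToReflQuiver
universe u
open CategoryTheory AlgebraicGeometry
open Cyc

namespace Groth.Agent.S18400

open Groth.Agent Groth.Agent.H9PB

/-- Let X be a scheme and F ⊂ E an inclusion of vector bundles over X whose quotient E/F is the trivial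
line bundle; then the proper pushforward i_* : CH_k(F) → CH_k(E) along the inclusion of total spaces
is the zero map. In terms of modules: let 0 → O_X → ℰ → ℱ → 0 be a short exact sequence of
O_X-modules with ℰ, ℱ quasi-coherent and finite locally free, E = Spec(Sym ℰ) and F = Spec(Sym ℱ)
the associated vector bundles (given through the relative-spectrum layer: quasi-coherent algebras
A_E, A_F with maps from ℰ, ℱ having the universal property of the symmetric algebra,
RelSpec.IsSymAlg), and i : F → E the morphism of relative spectra induced by the algebra map A_E →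
A_F extending ℰ → ℱ (a closed immersion; its quasi-compactness is carried as an instance hypothesis
so that the pushforward of cycles is defined). Then for every k-cycle α on F, i_*α is rationally
equivalent to zero as a k-cycle on E. Here a pair (X, δ) with Cyc.IsSetup plays the role of a scheme
locally of finite type over a base with a dimension function (the source has X of finite type over a
field; the statement is given for any such pair), Cyc.DeltaCompat records that the dimension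
functions on E and F are the induced ones, and i_* is Mathlib's pushforward of cycles. -/
theorem result (X : Scheme.{u}) (δ : X → ℤ) (hX : Cyc.IsSetup X δ) (S : ShortComplex X.Modules) (hS : S.ShortExact) (e : S.X₁ ≅ Coh.structureModule X) (hqE : Coh.IsQCoh S.X₂) (hE : FlatMod.IsFinLocFree S.X₂) (hqF : Coh.IsQCoh S.X₃) (hF : FlatMod.IsFinLocFree S.X₃) (AE : RelSpec.QCAlg X) (jE : S.X₂ ⟶ AE.toModule) (hAE : RelSpec.IsSymAlg S.X₂ AE jE) (AF : RelSpec.QCAlg X) (jF : S.X₃ ⟶ AF.toModule) (hAF : RelSpec.IsSymAlg S.X₃ AF jF) (φ : AE ⟶ AF) (hφ : jE ≫ RelSpec.QCAlg.Hom.toModuleMap φ = S.g ≫ jF) [QuasiCompact (RelSpec.QCAlg.specMap φ)] (δE : ↥AE.spec → ℤ) (hEs : Cyc.IsSetup AE.spec δE) (hδE : Cyc.DeltaCompat AE.π δE δ) (δF : ↥AF.spec → ℤ) (hFs : Cyc.IsSetup AF.spec δF) (hδF : Cyc.DeltaCompat AF.π δF δ) (k : ℤ) (α : AlgebraicCycle AF.spec ℤ) (hα : α ∈ Cyc.Zk AF.spec δF k) : Cyc.RatEquivZero δE k (AlgebraicCycle.map (RelSpec.QCAlg.specMap φ) δF δE α) :=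 by
  classical
  haveI := hX.1
  haveI := hEs.1
  haveI := hFs.1
  haveI : Epi S.g := hS.epi_g
  haveI : IsClosedImmersion (RelSpec.QCAlg.specMap φ) := SymSh.isClosedImmersion_specMap hqE hqF S.g hAE hAF φ hφ
  let i := RelSpec.QCAlg.specMap φ
  obtain ⟨hZ, hreg⟩ := Corank.isZeroScheme hS e hqE hqF hF hAE hAF φ hφ
  have hdata := Corank.exists_data hS e hqE hqF hF hAE hAF φ hφ
  let Yn : ℕ → X.Opens := fun n => ⟨{x | ExtPowSh.rk S.X₃ x = n}, by
    refine isOpen_iff_forall_mem_open.2 fun y hy => ?_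
    obtain ⟨U, -, hyU, hrk, -⟩ := hdata y
    exact ⟨U, fun x hx => (hrk x hx).trans hy, U.2, hyU⟩⟩
  have hchE : ∀ n, Corank.HasCharts (AE.π ∣_ Yn n) (ULift.{u} (Fin (n + 1))) := by
    intro n y
    obtain ⟨U, hU, hyU, hrk, -, -, -, eA, -, hA, -⟩ := hdata ((Yn n).ι y)
    have hn : ExtPowSh.rk S.X₃ ((Yn n).ι y) = n := y.2
    rw [hn] at hrk
    obtain ⟨e₁, he₁⟩ := Corank.exists_chart_of_iso AE hU eA hA
    refine ⟨(Yn n).ι ⁻¹ᵁ U, hyU, ?_⟩
    have h := Corank.exists_chart_restrict AE.π (W := Yn n) (fun x hx => hrk x hx) e₁ he₁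
    rwa [hn] at h
  have hLFT : LocallyOfFiniteType AE.π :=
    IsZariskiLocalAtTarget.of_iSup_eq_top Yn
      (top_le_iff.1 fun y _ => TopologicalSpace.Opens.mem_iSup.2 ⟨_, rfl⟩) fun n => (hchE n).locallyOfFiniteType
  have hπ : i ≫ AE.π = AF.π := RelSpec.QCAlg.specMap_π φ
  have hchF : ∀ n, Corank.HasCharts ((i ∣_ (AE.π ⁻¹ᵁ Yn n)) ≫ (AE.π ∣_ Yn n)) (ULift.{u} (Fin n)) := by
    intro n
    rw [← morphismRestrict_comp]
    suffices key : ∀ g : AF.spec ⟶ X, g = AF.π → Corank.HasCharts (g ∣_ Yn n) (ULift.{u} (Fin n)) from key _ hπ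
    rintro g rfl y
    obtain ⟨U, hU, hyU, hrk, -, -, -, -, eB, -, hB⟩ := hdata ((Yn n).ι y)
    have hn : ExtPowSh.rk S.X₃ ((Yn n).ι y) = n := y.2
    rw [hn] at hrk
    obtain ⟨e₁, he₁⟩ := Corank.exists_chart_of_iso AF hU eB hB
    refine ⟨(Yn n).ι ⁻¹ᵁ U, hyU, ?_⟩
    have h := Corank.exists_chart_restrict AF.π (W := Yn n) (fun x hx => hrk x hx) e₁ he₁
    rwa [hn] at h
  have hδi : ∀ d, δF d = δE (i d) := fun d => by
    haveI : LocallyOfFiniteType AF.π := hπ ▸ inferInstance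
    have h1 := CycLib.deltaCompat_closedImmersion_comp i AE.π hδE
    rw [hπ] at h1
    rw [CycLib.deltaCompat_eq AF.π hδF, CycLib.deltaCompat_eq AF.π h1]
  obtain rfl : δF = fun d => δE (i d) := funext hδi
  refine Corank.ratEquivZero_of_disjoint (fun n => AE.π ⁻¹ᵁ Yn n) (fun x => ⟨_, rfl⟩)
    (fun x n m (h1 : _ = n) (h2 : _ = m) => h1.symm.trans h2) fun n => ?_
  let V := AE.π ⁻¹ᵁ Yn n
  haveI : IsClosedImmersion V.ι := by
    refine IsClosedImmersion.of_isPreimmersion V.ι ?_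
    rw [Scheme.Opens.range_ι, ← isOpen_compl_iff]
    refine isOpen_iff_forall_mem_open.2 fun z hz => ⟨AE.π ⁻¹ᵁ Yn (ExtPowSh.rk S.X₃ (AE.π z)),
      fun x (hx : ExtPowSh.rk S.X₃ (AE.π x) = _) (hx' : ExtPowSh.rk S.X₃ (AE.π x) = n) =>
        hz (show ExtPowSh.rk S.X₃ (AE.π z) = n from hx.symm.trans hx'), (AE.π ⁻¹ᵁ _).2, rfl⟩
  let iV := i ∣_ V
  let δV := fun v : (V : Scheme.{u}) => δE (V.ι v)
  have hδι : Cyc.DeltaCompat V.ι δV δE := H23.GysinLib.deltaCompat_closedImmersion V.ι δE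
  have hVs : Cyc.IsSetup (V : Scheme.{u}) δV := H23.SetupLFT.isSetup V.ι hEs hδι
  let δY := fun y : (Yn n : Scheme.{u}) => δ ((Yn n).ι y)
  have hδY : Cyc.DeltaCompat (Yn n).ι δY δ := fun y =>
    ⟨FibDim.rd (Yn n).ι y, (FibDim.rd_eq_rdeg _ y).symm, by
      rw [rd_openImmersion]; exact (add_zero _).symm⟩
  have hYs : Cyc.IsSetup (Yn n : Scheme.{u}) δY := H23.SetupLFT.isSetup (Yn n).ι hX hδY
  haveI := (hchE n).locallyOfFiniteType
  have hδp : Cyc.DeltaCompat (AE.π ∣_ Yn n) δV δY := fun v => by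
    refine ⟨FibDim.rd (AE.π ∣_ Yn n) v, (FibDim.rd_eq_rdeg _ v).symm, ?_⟩
    have h1 : FibDim.rd ((AE.π ∣_ Yn n) ≫ (Yn n).ι) v = FibDim.rd (V.ι ≫ AE.π) v := by
      simp only [morphismRestrict_ι]
      rfl
    rw [CycLib.rd_comp, CycLib.rd_comp, rd_openImmersion (Yn n).ι, rd_openImmersion V.ι] at h1
    show δE (V.ι v) = δ ((Yn n).ι ((AE.π ∣_ Yn n) v)) + _
    have h2 : AE.π (V.ι v) = (Yn n).ι ((AE.π ∣_ Yn n) v) := by
      rw [← Scheme.Hom.comp_apply, ← Scheme.Hom.comp_apply, morphismRestrict_ι]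
    rw [CycLib.deltaCompat_eq AE.π hδE, h2]
    omega
  have hsq := isPullback_morphismRestrict i V
  let L := Coh.structureModule AE.spec
  have hL : PicF.IsInvertible L := InvX.isInvertible_structureModule
  have hZV := H23.GysinSq.isZeroSchemeOf_pb hsq hL hZ
  have hregV : ∀ x : (V : Scheme.{u}), Function.Injective (fun a : (V : Scheme.{u}).presheaf.stalk x => a •
      ((Scheme.Modules.pullback V.ι).obj L).presheaf.germ ⊤ x trivial (KFlatLib.pb V.ι (U := ⊤) (Corank.sigma e (jE := jE)))) := by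
    intro x
    obtain ⟨t, ht, -⟩ := H23.RatSec.exists_gen hL (V.ι x)
    obtain ⟨f, hf⟩ := Submodule.mem_span_singleton.1
      (ht.1.ge (Submodule.mem_top : L.presheaf.germ ⊤ (V.ι x) trivial (Corank.sigma e (jE := jE)) ∈ ⊤))
    refine (injective_iff_map_eq_zero (AddMonoidHom.mk' (fun a : (V : Scheme.{u}).presheaf.stalk x => a •
      ((Scheme.Modules.pullback V.ι).obj L).presheaf.germ ⊤ x trivial (KFlatLib.pb V.ι (U := ⊤) (Corank.sigma e (jE := jE))))
      fun a b => add_smul a b _)).2 fun a ha => ?_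
    obtain ⟨b, rfl⟩ := (ConcreteCategory.bijective_of_isIso (V.ι.stalkMap x)).2 a
    replace ha : (V.ι.stalkMap x) b • ((Scheme.Modules.pullback V.ι).obj L).presheaf.germ ⊤ x trivial
      (KFlatLib.pb V.ι (U := ⊤) (Corank.sigma e (jE := jE))) = 0 := ha
    rw [show ((Scheme.Modules.pullback V.ι).obj L).presheaf.germ ⊤ x trivial (KFlatLib.pb V.ι (U := ⊤) (Corank.sigma e (jE := jE))) =
      H23.C1Pull.pm V.ι L x (L.presheaf.germ ⊤ (V.ι x) trivial (Corank.sigma e (jE := jE))) from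
        (H23.C1Pull.pm_germ V.ι (L := L) x ⊤ trivial _).symm, ← hf, H23.C1Pull.pm_smul, ← mul_smul, ← map_mul] at ha
    have h0 : (V.ι.stalkMap x) (b * f) = 0 := (H23.C1Pull.isGen_pm (p := V.ι) ht).2 _ ha
    have h1 : b * f = 0 := (map_eq_zero_iff _ (ConcreteCategory.bijective_of_isIso (V.ι.stalkMap x)).1).1 h0
    have h2 : b = 0 := hreg (V.ι x) (by
      show b • L.presheaf.germ ⊤ (V.ι x) trivial _ = (0 : AE.spec.presheaf.stalk (V.ι x)) • _
      rw [← hf, ← mul_smul, h1, zero_smul, zero_smul])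
    rw [h2, map_zero]
  let αV := CycLib.restrictCycle (i ⁻¹ᵁ V).ι (i ⁻¹ᵁ V).ι.isOpenEmbedding.injective α
  have hcommι : ∀ w, V.ι (iV w) = i ((i ⁻¹ᵁ V).ι w) := fun w => by
    rw [← Scheme.Hom.comp_apply, ← Scheme.Hom.comp_apply, morphismRestrict_ι]
  have hαV : αV ∈ Cyc.Zk _ (fun d => δV (iV d)) k := fun w hw => hα _ (by
    show δE (i ((i ⁻¹ᵁ V).ι w)) ≠ k
    rw [← hcommι]; exact hw)
  have hmem := Corank.push_mem_ratSub hYs hVs (AE.π ∣_ Yn n) hδp iV (PicClLib.isInvertible_pullback V.ι hL)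
    (CurveBC.unitIso V.ι) hZV hregV n (hchE n) (hchF n) hαV
  refine ⟨pushAdd V.ι δV δE (pushAdd iV (fun d => δV (iV d)) δV αV), pushAdd_ratSub V.ι hVs hEs hδι hmem, ?_⟩
  rintro x hx
  obtain ⟨v, rfl⟩ : x ∈ Set.range V.ι := by rw [Scheme.Opens.range_ι]; exact hx
  refine (CycLib.map_preimmersion_apply V.ι δE _ v).trans ?_
  by_cases hv : v ∈ Set.range iV
  · obtain ⟨w, rfl⟩ := hv
    refine (CycLib.map_preimmersion_apply iV δV αV w).trans ?_
    rw [hcommι]
    exact (CycLib.map_preimmersion_apply i δE α _).symm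
  · refine (CycLib.map_apply_not_range iV _ δV αV hv).trans (CycLib.map_apply_not_range i _ δE α ?_).symm
    rintro ⟨d, hd⟩
    obtain ⟨w, rfl⟩ : d ∈ Set.range (i ⁻¹ᵁ V).ι := by
      rw [Scheme.Opens.range_ι]
      show i d ∈ V
      rw [hd]
      exact hx
    exact hv ⟨w, V.ι.isOpenEmbedding.injective ((hcommι w).trans hd)⟩

end Groth.Agent.S18400
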