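import Groth.Statements.S18416
import Mathlib

set_option autoImplicit false
universe u v w
open CAlg

namespace Groth.Agent.S18416

open Algebra KaehlerDifferential TensorProduct

theorem formallyEtale_quotient (C : Type v) (P : Type w) [CommRing C] [CommRing P] [Algebra C P]
    [Algebra.FormallySmooth C P] {κ : Type w} (a : κ → P) (b : Module.Basis κ P (Ω[P⁄C]))
    (hb : ∀ i, b i = D C P (a i)) :
    Algebra.FormallyEtale C (P ⧸ Ideal.span (Set.range a)) := by
  let J₀ := Ideal.span (Set.range a)
  let Q := P ⧸ J₀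
  let K := RingHom.ker (algebraMap P Q)
  have hK : K = J₀ := Ideal.mk_ker
  have haK : ∀ i, a i ∈ K := fun i => hK.symm ▸ Ideal.subset_span ⟨i, rfl⟩
  haveI : Algebra.FormallySmooth C Q := by
    rw [Algebra.FormallySmooth.iff_split_injection (P := P) Ideal.Quotient.mk_surjective]
    let L : Ω[P⁄C] →ₗ[P] K.Cotangent := b.constr P fun i => K.toCotangent ⟨a i, haK i⟩
    have hLker : J₀ ≤ LinearMap.ker (LinearMap.toSpanSingleton P (Ω[P⁄C] →ₗ[P] K.Cotangent) L) := by
      intro y hy
      refine LinearMap.mem_ker.mpr (LinearMap.ext fun z => ?_)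
      simp only [LinearMap.toSpanSingleton_apply, LinearMap.smul_apply, LinearMap.zero_apply]
      obtain ⟨w, hw⟩ := K.toCotangent_surjective (L z)
      rw [← hw, ← map_smul, Ideal.toCotangent_eq_zero, pow_two]
      exact Ideal.mul_mem_mul (hK.symm ▸ hy) w.2
    let l : Q ⊗[P] Ω[P⁄C] →ₗ[P] K.Cotangent :=
      TensorProduct.lift (Submodule.liftQ J₀ (LinearMap.toSpanSingleton P (Ω[P⁄C] →ₗ[P] K.Cotangent) L) hLker)
    refine ⟨l, LinearMap.ext fun z => ?_⟩
    obtain ⟨⟨y, hy⟩, rfl⟩ := K.toCotangent_surjective z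
    have hy' : y ∈ Submodule.span P (Set.range a) := hK.le hy
    induction hy' using Submodule.span_induction with
    | mem x hx =>
      obtain ⟨i, rfl⟩ := hx
      rw [LinearMap.comp_apply, KaehlerDifferential.kerCotangentToTensor_toCotangent]
      show ((1 : P) • L) (D C P (a i)) = _
      rw [one_smul, ← hb i, Module.Basis.constr_basis]
      rfl
    | zero =>
      rw [show (⟨0, hy⟩ : K) = 0 from rfl, map_zero, map_zero, map_zero]
    | add x x' hx hx' ihx ihx' =>
      have h1 : x ∈ K := hK.symm ▸ hx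
      have h2 : x' ∈ K := hK.symm ▸ hx'
      rw [show (⟨x + x', hy⟩ : K) = ⟨x, h1⟩ + ⟨x', h2⟩ from rfl, map_add, map_add, map_add, ihx h1, ihx' h2]
    | smul c x hx ihx =>
      have h1 : x ∈ K := hK.symm ▸ hx
      rw [show (⟨c • x, hy⟩ : K) = c • ⟨x, h1⟩ from rfl, map_smul, map_smul, map_smul, ihx h1]
  haveI : Algebra.FormallyUnramified C Q := by
    refine ⟨subsingleton_of_forall_eq 0 fun z => ?_⟩
    obtain ⟨t, rfl⟩ := KaehlerDifferential.mapBaseChange_surjective C P Q Ideal.Quotient.mk_surjective z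
    induction t using TensorProduct.induction_on with
    | zero => simp
    | tmul q ω =>
      have hω : (KaehlerDifferential.mapBaseChange C P Q) ((1 : Q) ⊗ₜ[P] ω) = 0 := by
        rw [← b.linearCombination_repr ω, Finsupp.linearCombination_apply, Finsupp.sum, tmul_sum, map_sum]
        refine Finset.sum_eq_zero fun i _ => ?_
        rw [tmul_smul, LinearMap.map_smul_of_tower, hb, KaehlerDifferential.mapBaseChange_tmul, KaehlerDifferential.map_D,
          show algebraMap P Q (a i) = 0 from RingHom.mem_ker.mp (haK i), map_zero, smul_zero, smul_zero]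
      rw [show q ⊗ₜ[P] ω = q • ((1 : Q) ⊗ₜ[P] ω) by rw [smul_tmul', smul_eq_mul, mul_one], map_smul, hω, smul_zero]
    | add u v hu hv => rw [map_add, hu, hv, add_zero]
  exact Algebra.FormallyEtale.iff_formallyUnramified_and_formallySmooth.mpr ⟨inferInstance, inferInstance⟩

/-- Let R → C and C → B be smooth ring homomorphisms, J an ideal of B and K the preimage of J in C, and
suppose that C surjects onto A = B/J (so that C/K = B/J = A). Then for every prime x of A there
exist f ∈ B whose image in A does not lie in x and an ideal J₀ of B_f contained in J B_f such that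
the composite C → B_f → B_f/J₀ is étale. -/
theorem result (R : Type u) (C : Type v) (B : Type w)
    [CommRing R] [CommRing C] [CommRing B] [Algebra R C] [Algebra C B] [Algebra R B] [IsScalarTower R C B]
    [Algebra.Smooth R C] [Algebra.Smooth C B] (J : Ideal B)
    (hsurj : Function.Surjective ((Ideal.Quotient.mk J).comp (algebraMap C B)))
    (x : PrimeSpectrum (B ⧸ J)) :
    ∃ f : B, Ideal.Quotient.mk J f ∉ x.asIdeal ∧
      ∃ J₀ : Ideal (Localization.Away f), J₀ ≤ J.map (algebraMap B (Localization.Away f)) ∧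
        ((Ideal.Quotient.mk J₀).comp ((algebraMap B (Localization.Away f)).comp (algebraMap C B))).Etale := by
  classical
  let P : Ideal B := x.asIdeal.comap (Ideal.Quotient.mk J)
  haveI : P.IsPrime := inferInstance
  let Bp := Localization.AtPrime P
  let l₂ : Ω[B⁄C] →ₗ[B] Ω[Bp⁄C] := KaehlerDifferential.map C C B Bp
  -- differentials of elements of `J` span
  let v : J → Ω[Bp⁄C] := fun j => KaehlerDifferential.D C Bp (algebraMap B Bp j)
  have hv : Submodule.span Bp (Set.range v) = ⊤ := by
    refine top_le_iff.mp (le_trans (span_range_map_derivation_of_isLocalization C B Bp P.primeCompl).ge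
      (Submodule.span_mono ?_))
    rintro _ ⟨b, rfl⟩
    obtain ⟨c, hc⟩ := hsurj (Ideal.Quotient.mk J b)
    refine ⟨⟨b - algebraMap C B c, Ideal.Quotient.eq.mp hc.symm⟩, ?_⟩
    simp only [v, map_sub, ← IsScalarTower.algebraMap_apply C B Bp, Derivation.map_algebraMap, sub_zero, Function.comp_apply, KaehlerDifferential.map_D]
  haveI : Module.FinitePresentation Bp Ω[Bp⁄C] := Module.finitePresentation_of_projective Bp _
  obtain ⟨κ, a, b, hb⟩ := Module.exists_basis_of_span_of_flat v hv
  haveI : Finite κ := Module.Finite.finite_basis b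
  let e : (κ →₀ B) →ₗ[B] Ω[B⁄C] :=
    Finsupp.linearCombination B fun i : κ ↦ KaehlerDifferential.D C B (a i)
  let l₁ : (κ →₀ B) →ₗ[B] (κ →₀ Bp) :=
    Finsupp.mapRange.linearMap (Algebra.linearMap B Bp)
  let eₚ : (κ →₀ Bp) →ₗ[Bp] Ω[Bp⁄C] :=
    IsLocalizedModule.mapExtendScalars P.primeCompl l₁ l₂ Bp e
  have : eₚ = b.repr.symm := by
    ext i
    trans IsLocalizedModule.map P.primeCompl l₁ l₂ e <| l₁ <| Finsupp.single i 1
    · simp [eₚ, -IsLocalizedModule.map_apply, l₁]
    · simp [l₂, e, hb, v]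
  have heₚ : Function.Bijective eₚ := this ▸ b.repr.symm.bijective
  obtain ⟨g, hg, h⟩ := Module.FinitePresentation.exists_notMem_bijective e P l₁ l₂ heₚ
  let Bg := Localization.Away g
  let l₁ₜ : (κ →₀ B) →ₗ[B] (κ →₀ Bg) := Finsupp.mapRange.linearMap (Algebra.linearMap B _)
  let l₂ₜ : Ω[B⁄C] →ₗ[B] Ω[Bg⁄C] := KaehlerDifferential.map C C B Bg
  rw [← IsLocalizedModule.map_bijective_iff_localizedModuleMap_bijective l₁ₜ l₂ₜ] at h
  let eₜ' : (κ →₀ Bg) →ₗ[Bg] Ω[Bg⁄C] :=
    IsLocalizedModule.mapExtendScalars (Submonoid.powers g) l₁ₜ l₂ₜ Bg e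
  let bg : Module.Basis κ Bg Ω[Bg⁄C] := .ofRepr (LinearEquiv.ofBijective eₜ' h).symm
  let a' : κ → Bg := fun i => algebraMap B Bg (a i)
  have hbg : ∀ i, bg i = KaehlerDifferential.D C Bg (a' i) := fun i => by
    simp +zetaDelta [IsLocalizedModule.map_linearCombination]
  haveI : Algebra.FinitePresentation B Bg := IsLocalization.Away.finitePresentation g
  haveI : Algebra.FinitePresentation C Bg := Algebra.FinitePresentation.trans C B Bg
  haveI : Algebra.FormallySmooth B Bg := Algebra.FormallySmooth.of_isLocalization (Submonoid.powers g)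
  haveI : Algebra.FormallySmooth C Bg := Algebra.FormallySmooth.comp C B Bg
  let J₀ : Ideal Bg := Ideal.span (Set.range a')
  refine ⟨g, hg, J₀, Ideal.span_le.mpr ?_, ?_⟩
  · rintro _ ⟨i, rfl⟩
    exact Ideal.mem_map_of_mem _ (a i).2
  · haveI : Algebra.FinitePresentation C (Bg ⧸ J₀) :=
      Algebra.FinitePresentation.quotient (Submodule.fg_span (Set.finite_range a'))
    haveI := formallyEtale_quotient C Bg a' bg hbg
    haveI : Algebra.Etale C (Bg ⧸ J₀) := ⟨inferInstance, inferInstance⟩
    exact RingHom.etale_algebraMap.mpr inferInstance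

end Groth.Agent.S18416
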