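import Groth.Statements.S18417
-- import your own Groth.Agent.* helpers here
import Groth.Agent.LinType.Basic

set_option linter.style.haveILetI false

set_option autoImplicit false
universe u v
open CAlg

namespace Groth.Agent.S18417

open MvPolynomial in
/-- The identification of a thickening with a truncated polynomial ring. -/
theorem exists_equiv {R : Type u} {A : Type v} [CommRing R] [CommRing A] [Algebra R A] {d : ℕ} (x : Fin d → A)
    (hreg : RingTheory.Sequence.IsWeaklyRegular A (List.ofFn x))
    [Algebra.FormallySmooth R (A ⧸ Ideal.span (Set.range x))] (N : ℕ) (hN : 1 ≤ N) :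
    ∃ Φ : (MvPolynomial (Fin d) (A ⧸ Ideal.span (Set.range x)) ⧸
        Ideal.span (Set.range (X : Fin d → MvPolynomial (Fin d) (A ⧸ Ideal.span (Set.range x)))) ^ N) →ₐ[R]
          A ⧸ Ideal.span (Set.range x) ^ N,
      Function.Bijective Φ ∧ (∀ i, Φ (Ideal.Quotient.mk _ (X i)) = Ideal.Quotient.mk _ (x i)) ∧
      ∀ a : A, Φ (Ideal.Quotient.mk _ (C (Ideal.Quotient.mk _ a))) - Ideal.Quotient.mk _ a ∈
        (Ideal.span (Set.range x)).map (Ideal.Quotient.mk _) := by
  classical
  set J := Ideal.span (Set.range x) with hJdef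
  let AN := A ⧸ J ^ N
  let q : AN →ₐ[R] A ⧸ J := Ideal.Quotient.factorₐ R (Ideal.pow_le_self (by omega))
  have hq : Function.Surjective q := Ideal.Quotient.factor_surjective (Ideal.pow_le_self (by omega))
  have hkq : RingHom.ker (q : AN →+* A ⧸ J) ≤ J.map (Ideal.Quotient.mk _) := by
    intro z hz
    obtain ⟨b, rfl⟩ := Ideal.Quotient.mk_surjective z
    exact Ideal.mem_map_of_mem _ (Ideal.Quotient.eq_zero_iff_mem.1 hz)
  have hnil : IsNilpotent (RingHom.ker (q : AN →+* A ⧸ J)) := by
    refine ⟨N, le_bot_iff.1 ((Ideal.pow_right_mono hkq _).trans ?_)⟩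
    rw [← Ideal.map_pow, Ideal.map_quotient_self]
  let s : (A ⧸ J) →ₐ[R] AN := Algebra.FormallySmooth.liftOfSurjective (AlgHom.id R _) q hq hnil
  have hs : ∀ c, q (s c) = c := fun c => Algebra.FormallySmooth.liftOfSurjective_apply _ _ _ _ c
  have hsC : ∀ a, s (Ideal.Quotient.mk J a) - Ideal.Quotient.mk _ a ∈ J.map (Ideal.Quotient.mk (J ^ N)) := fun a => by
    refine hkq ?_
    rw [RingHom.mem_ker]
    show q (s _ - _) = 0
    rw [map_sub, hs]
    exact sub_self _
  let P := MvPolynomial (Fin d) (A ⧸ J)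
  let Φ₀ : P →ₐ[R] AN := aevalTower s fun i => Ideal.Quotient.mk _ (x i)
  have hΦX : ∀ i, Φ₀ (X i) = Ideal.Quotient.mk _ (x i) := fun i => aevalTower_X _ _ i
  have hΦC : ∀ c, Φ₀ (C c) = s c := fun c => aevalTower_C _ _ c
  let V : Ideal P := Ideal.span (Set.range (X : Fin d → P))
  have hV : V.map Φ₀ ≤ J.map (Ideal.Quotient.mk (J ^ N)) := by
    rw [Ideal.map_span, Ideal.span_le]
    rintro _ ⟨_, ⟨i, rfl⟩, rfl⟩
    rw [hΦX]
    exact Ideal.mem_map_of_mem _ (Ideal.subset_span ⟨i, rfl⟩)
  have hVk : ∀ k, (V ^ k).map Φ₀ ≤ (J ^ k).map (Ideal.Quotient.mk (J ^ N)) := fun k => by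
    rw [Ideal.map_pow, Ideal.map_pow]
    exact Ideal.pow_right_mono hV k
  let Φ : (P ⧸ V ^ N) →ₐ[R] AN := Ideal.Quotient.liftₐ _ Φ₀ fun p hp => by
    have h := hVk N (Ideal.mem_map_of_mem _ hp)
    rwa [Ideal.map_quotient_self] at h
  -- homogeneous approximations
  have happ : ∀ (k : ℕ) (Q : MvPolynomial (Fin d) A), Q.IsHomogeneous k →
      Φ₀ (MvPolynomial.map (Ideal.Quotient.mk J) Q) - Ideal.Quotient.mk _ (eval x Q) ∈
        (J ^ (k + 1)).map (Ideal.Quotient.mk (J ^ N)) := by
    intro k Q hQ
    rw [Q.as_sum, map_sum, map_sum, map_sum, map_sum, ← Finset.sum_sub_distrib]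
    refine Ideal.sum_mem _ fun e he => ?_
    have hdeg : e.degree = k := by
      have := hQ (mem_support_iff.1 he)
      rw [← this, Finsupp.degree_eq_weight_one]
      rfl
    rw [map_monomial, monomial_eq, map_mul, hΦC, eval_monomial, map_mul, map_finsuppProd, map_finsuppProd]
    simp only [map_pow, hΦX]
    rw [← sub_mul, pow_succ', Ideal.map_mul]
    refine Ideal.mul_mem_mul (hsC _) ?_
    rw [← hdeg, Finsupp.degree_apply, Ideal.map_pow, Finsupp.prod]
    have : ∀ t : Finset (Fin d), ∏ i ∈ t, Ideal.Quotient.mk (J ^ N) (x i) ^ e i ∈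
        (J.map (Ideal.Quotient.mk (J ^ N))) ^ (∑ i ∈ t, e i) := by
      intro t
      induction t using Finset.induction_on with
      | empty => simp
      | insert i t hi ih =>
        rw [Finset.prod_insert hi, Finset.sum_insert hi, pow_add]
        exact Ideal.mul_mem_mul (Ideal.pow_mem_pow (Ideal.mem_map_of_mem _
          (Ideal.subset_span ⟨i, rfl⟩ : x i ∈ Ideal.span (Set.range x))) _) ih
    exact this _
  -- elements of a power of the ideal are values of forms
  have hform : ∀ (k : ℕ), ∀ a ∈ J ^ k, ∃ Q : MvPolynomial (Fin d) A, Q.IsHomogeneous k ∧ eval x Q = a := by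
    intro k
    induction k with
    | zero => exact fun a _ => ⟨C a, isHomogeneous_C _ _, eval_C _⟩
    | succ k ih =>
      intro a ha
      rw [pow_succ] at ha
      refine Submodule.mul_induction_on ha (fun b hb c hc => ?_) ?_
      · obtain ⟨Q, hQ, rfl⟩ := ih b hb
        obtain ⟨l, rfl⟩ := Ideal.mem_span_range_iff_exists_fun.1 hc
        refine ⟨Q * ∑ i, C (l i) * X i, hQ.mul (IsHomogeneous.sum _ _ _ fun i _ =>
          (isHomogeneous_X A i).C_mul _), by simp⟩
      · rintro b c ⟨Q, hQ, rfl⟩ ⟨Q', hQ', rfl⟩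
        exact ⟨Q + Q', hQ.add hQ', map_add _ _ _⟩
  have hsur : ∀ k ≤ N, ∀ a ∈ J ^ (N - k), Ideal.Quotient.mk (J ^ N) a ∈ Φ₀.range := by
    intro k
    induction k with
    | zero =>
      intro _ a ha
      rw [Nat.sub_zero] at ha
      rw [Ideal.Quotient.eq_zero_iff_mem.2 ha]
      exact zero_mem _
    | succ k ih =>
      intro hk a ha
      obtain ⟨Q, hQ, rfl⟩ := hform _ a ha
      have h := happ _ Q hQ
      rw [show N - (k + 1) + 1 = N - k by omega] at h
      obtain ⟨b, hb, e⟩ := (Ideal.mem_map_iff_of_surjective _ Ideal.Quotient.mk_surjective).1 h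
      rw [show Ideal.Quotient.mk (J ^ N) (eval x Q) =
        Φ₀ (MvPolynomial.map (Ideal.Quotient.mk J) Q) - Ideal.Quotient.mk (J ^ N) b by rw [e, sub_sub_cancel]]
      exact sub_mem ⟨_, rfl⟩ (ih (by omega) b hb)
  refine ⟨Φ, ⟨?_, ?_⟩, fun i => hΦX i, fun a => ?_⟩
  · rw [injective_iff_map_eq_zero]
    intro z hz
    obtain ⟨f, rfl⟩ := Ideal.Quotient.mk_surjective z
    have hf : Φ₀ f = 0 := hz
    have key : ∀ k ≤ N, f ∈ V ^ k := by
      intro k
      induction k with
      | zero => simp
      | succ k ih =>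
        intro hk
        have hfk := ih (by omega)
        have hVv : V = idealOfVars (Fin d) (A ⧸ J) := rfl
        rw [hVv, mem_pow_idealOfVars_iff] at hfk ⊢
        intro e he
        refine (hfk e he).lt_of_ne fun hek => ?_
        obtain ⟨Q₀, hQ₀⟩ := MvPolynomial.map_surjective _ Ideal.Quotient.mk_surjective (homogeneousComponent k f)
        let Q := homogeneousComponent k Q₀
        have hQm : MvPolynomial.map (Ideal.Quotient.mk J) Q = homogeneousComponent k f := by
          refine MvPolynomial.ext _ _ fun m => ?_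
          rw [coeff_map]
          simp only [Q, coeff_homogeneousComponent]
          split_ifs with hm
          · rw [← coeff_map, hQ₀, coeff_homogeneousComponent, if_pos hm]
          · rw [map_zero]
        have h1 : f - homogeneousComponent k f ∈ V ^ (k + 1) := by
          rw [hVv, mem_pow_idealOfVars_iff]
          intro m hm
          rw [mem_support_iff, coeff_sub, coeff_homogeneousComponent] at hm
          by_cases hmk : m.degree = k
          · rw [if_pos hmk, sub_self] at hm; exact absurd rfl hm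
          · rw [if_neg hmk, sub_zero] at hm
            exact (hfk m (mem_support_iff.2 hm)).lt_of_ne (Ne.symm hmk)
        have h2 := hVk (k + 1) (Ideal.mem_map_of_mem _ h1)
        rw [map_sub, hf, zero_sub, neg_mem_iff, ← hQm] at h2
        have h3 := sub_mem h2 (happ k Q (homogeneousComponent_isHomogeneous k Q₀))
        rw [sub_sub_cancel, Ideal.mem_map_iff_of_surjective _ Ideal.Quotient.mk_surjective] at h3
        obtain ⟨b, hb, e'⟩ := h3
        have h4 : eval x Q ∈ J ^ (k + 1) := by
          have := sub_mem hb (Ideal.pow_le_pow_right hk (Ideal.Quotient.eq.1 e'))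
          rwa [sub_sub_cancel] at this
        have h5 := Groth.Agent.LinType.quasiRegular x hreg (homogeneousComponent_isHomogeneous k Q₀) h4 e
        apply mem_support_iff.1 he
        have h6 : (homogeneousComponent k f).coeff e = 0 := by
          rw [← hQm, coeff_map, Ideal.Quotient.eq_zero_iff_mem]
          exact h5
        rwa [coeff_homogeneousComponent, if_pos hek.symm] at h6
    exact Ideal.Quotient.eq_zero_iff_mem.2 (key N le_rfl)
  · intro z
    obtain ⟨a, rfl⟩ := Ideal.Quotient.mk_surjective z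
    obtain ⟨p, hp⟩ := hsur N le_rfl a (by simp)
    exact ⟨Ideal.Quotient.mk _ p, hp⟩
  · show Φ₀ (C _) - _ ∈ _
    rw [hΦC]
    exact hsC a

/-- Let R → A be a ring homomorphism and x_1, …, x_d a weakly regular sequence in A generating an ideal
J such that B = A/J is formally smooth over R. Then for every N ≥ 1 there is an isomorphism of
R-algebras e : A/J^N ≅ B[T_1, …, T_d]/(T_1, …, T_d)^N which sends the class of x_i to the class of
T_i and which is compatible with the projections to B: for every a ∈ A, e(a mod J^N) is congruent to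
the constant a mod J modulo the ideal generated by the variables. (The source also assumes R → A
smooth, which its argument does not use, and a regular sequence; weak regularity is what the
argument uses.) -/
theorem result
    (R : Type u) (A : Type v) [CommRing R] [CommRing A] [Algebra R A] (d : ℕ) (x : Fin d → A)
    (hreg : RingTheory.Sequence.IsWeaklyRegular A (List.ofFn x))
    [Algebra.FormallySmooth R (A ⧸ Ideal.span (Set.range x))] (N : ℕ) (hN : 1 ≤ N) :
    ∃ e : (A ⧸ Ideal.span (Set.range x) ^ N) ≃ₐ[R]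
        (MvPolynomial (Fin d) (A ⧸ Ideal.span (Set.range x)) ⧸
          Ideal.span (Set.range (MvPolynomial.X : Fin d → MvPolynomial (Fin d) (A ⧸ Ideal.span (Set.range x)))) ^ N),
      (∀ i : Fin d, e (Ideal.Quotient.mk _ (x i)) = Ideal.Quotient.mk _ (MvPolynomial.X i)) ∧
      ∀ a : A, e (Ideal.Quotient.mk _ a) - Ideal.Quotient.mk _ (MvPolynomial.C (Ideal.Quotient.mk _ a)) ∈
        (Ideal.span (Set.range (MvPolynomial.X : Fin d → MvPolynomial (Fin d) (A ⧸ Ideal.span (Set.range x))))).map
          (Ideal.Quotient.mk _) := by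
  obtain ⟨Φ, hΦ, hX, hC⟩ := exists_equiv (R := R) x hreg N hN
  refine ⟨(AlgEquiv.ofBijective Φ hΦ).symm, fun i => ?_, fun a => ?_⟩
  · apply hΦ.1
    rw [hX]
    exact (AlgEquiv.ofBijective Φ hΦ).apply_symm_apply _
  · obtain ⟨b, hb, e⟩ := (Ideal.mem_map_iff_of_surjective _ Ideal.Quotient.mk_surjective).1 (hC a)
    obtain ⟨l, rfl⟩ := Ideal.mem_span_range_iff_exists_fun.1 hb
    set t := (AlgEquiv.ofBijective Φ hΦ).symm (Ideal.Quotient.mk _ a) with ht
    have h1 : t - Ideal.Quotient.mk _ (MvPolynomial.C (Ideal.Quotient.mk _ a)) =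
        -∑ i, (AlgEquiv.ofBijective Φ hΦ).symm (Ideal.Quotient.mk _ (l i)) * Ideal.Quotient.mk _ (MvPolynomial.X i) := by
      apply hΦ.1
      have hsy : ∀ z, Φ ((AlgEquiv.ofBijective Φ hΦ).symm z) = z := fun z =>
        (AlgEquiv.ofBijective Φ hΦ).apply_symm_apply z
      rw [map_sub, map_neg, map_sum]
      simp only [map_mul, hX, ht, hsy]
      rw [← neg_sub, ← e, map_sum]
      simp only [map_mul]
    rw [h1]
    exact neg_mem (Ideal.sum_mem _ fun i _ => Ideal.mul_mem_left _ _
      (Ideal.mem_map_of_mem _ (Ideal.subset_span ⟨i, rfl⟩)))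

end Groth.Agent.S18417
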