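import Groth.Statements.S18424
import Groth.Agent.H9Pur.Birational
import Groth.Agent.S4440
import Groth.Agent.S0005

set_option linter.style.haveILetI false
set_option backward.isDefEq.respectTransparency false
set_option backward.isDefEq.respectTransparency.types false
-- import your own Groth.Agent.* helpers here

set_option autoImplicit false
universe u
open Pi1

namespace Groth.Agent.S18424

open AlgebraicGeometry CategoryTheory CategoryTheory.Limits in
/-- Let k be a field, X and Y integral schemes separated and of finite type over k with X normal and Y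
nonsingular (every local ring of Y regular), and f : X → Y a proper k-morphism which is birational,
i.e. an isomorphism over some nonempty open subset V of Y. Then pulling back finite etale covers
along f is an equivalence between the categories of finite etale covers of Y and of X; in particular
f induces an isomorphism of etale fundamental groups. -/
theorem result (k : Type u) [Field k]
    {X Y : Scheme.{u}} (f : X ⟶ Y) (g : Y ⟶ Spec (CommRingCat.of k))
    [IsSeparated g] [LocallyOfFiniteType g] [QuasiCompact g]
    [IsSeparated (f ≫ g)] [LocallyOfFiniteType (f ≫ g)] [QuasiCompact (f ≫ g)]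
    [IsIntegral X] [IsIntegral Y] (hX : Pi1.IsNormalScheme X)
    (hY : ∀ y : Y, IsRegularLocalRing (Y.presheaf.stalk y)) [IsProper f]
    (V : Y.Opens) (hV : (V : Set Y).Nonempty) (hf : IsIso (f ∣_ V)) :
    (FEt.restrict f).IsEquivalence := by
  haveI : IsLocallyNoetherian Y := LocallyOfFiniteType.isLocallyNoetherian g
  haveI : CompactSpace Y := QuasiCompact.compactSpace_of_compactSpace g
  haveI : AlgebraicGeometry.IsNoetherian Y := { }
  haveI : Nonempty (V : Scheme.{u}) := hV.to_subtype
  let v : (V : Scheme.{u}) ⟶ X := inv (f ∣_ V) ≫ (f ⁻¹ᵁ V).ι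
  have hv : v ≫ f = V.ι := by
    rw [Category.assoc, ← morphismRestrict_ι, IsIso.inv_hom_id_assoc]
  have hVd : Dense (V : Set Y) := V.2.dense hV
  obtain ⟨U, hVU, s, hs, hsv, hU⟩ := S4440.result f (𝟙 Y) (fun y _ => hY y) V hVd v
    (by rw [hv, Category.comp_id])
  rw [Category.comp_id] at hs
  let j := Y.homOfLE hVU
  haveI : (FEt.restrict U.ι).IsEquivalence := S0005.result Y hY U fun y hy => by
    refine H9Pur.two_le_of_one_lt ?_
    exact not_le.mp fun h => hy (hU y h)
  haveI : IsIntegral (U : Scheme.{u}) := by
    haveI : Nonempty (U : Scheme.{u}) := (hV.mono hVU).to_subtype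
    exact isIntegral_of_isOpenImmersion U.ι
  have hUn : Pi1.IsNormalScheme (U : Scheme.{u}) := H9Pur.isNormalScheme_of_regular fun u => by
    haveI := hY (U.ι u)
    exact IsRegularLocalRing.of_ringEquiv (asIso (U.ι.stalkMap u)).commRingCatIsoToRingEquiv
  obtain ⟨-, hj⟩ := Pi1X.restrict_fullyFaithful_of_normal hUn j (H9Pur.genericPoint_mem_range j)
  haveI := hj
  have hvo : IsOpenImmersion v := inferInstance
  obtain ⟨hv1, hv2⟩ := Pi1X.restrict_fullyFaithful_of_normal hX v (H9Pur.genericPoint_mem_range v)
  haveI := hv1
  haveI := hv2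
  haveI : IsOpenImmersion j := inferInstance
  let e : FEt.restrict s ⋙ FEt.restrict j ≅ FEt.restrict v :=
    (MorphismProperty.Over.pullbackComp j s v hsv.symm).symm
  haveI : (FEt.restrict s).Faithful := Functor.Faithful.of_comp_iso e
  haveI : (FEt.restrict s).Full := Functor.Full.of_comp_faithful_iso e
  let e' : FEt.restrict f ⋙ FEt.restrict s ≅ FEt.restrict U.ι :=
    (MorphismProperty.Over.pullbackComp s f U.ι hs.symm).symm
  haveI : (FEt.restrict f ⋙ FEt.restrict s).IsEquivalence := Functor.isEquivalence_of_iso e'.symm
  haveI : (FEt.restrict s).EssSurj := ⟨fun A => ⟨(FEt.restrict f).obj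
    ((FEt.restrict f ⋙ FEt.restrict s).objPreimage A),
    ⟨(FEt.restrict f ⋙ FEt.restrict s).objObjPreimageIso A⟩⟩⟩
  haveI : (FEt.restrict s).IsEquivalence := { }
  exact Functor.isEquivalence_of_comp_right (FEt.restrict f) (FEt.restrict s)

end Groth.Agent.S18424
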