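import Groth.Statements.S18440
import Groth.Agent.SurfRR.Effective

set_option autoImplicit false
set_option linter.style.haveILetI false
set_option backward.isDefEq.respectTransparency false
set_option backward.isDefEq.respectTransparency.types false
universe u
open CategoryTheory CategoryTheory.Limits AlgebraicGeometry TopologicalSpace
open Surf

namespace Groth.Agent.S18440

open Groth.Agent
open Groth.Agent.H23.PicMul

/-- Let k be an algebraically closed field and X a smooth projective surface over k (an integral scheme,
proper and smooth over k of dimension 2) with H¹(X, O_X) = 0, and W a canonical module of X (a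
second exterior power of Ω_{X/k}). Let C ⊆ X be an integral closed one-dimensional subscheme, smooth
over k, of arithmetic genus one, written χ(O_C) = 0 with the Euler characteristic of O_C computed on
X through the closed immersion (k being algebraically closed and C integral, H⁰(C, O_C) = k, so this
says dim_k H¹(C, O_C) = 1), whose module O_X(C) — a tensor inverse N of the ideal I_C — is ample.
Then W ≅ I_C, that is ω_X ≅ O_X(−C) (existence of an isomorphism of invertible modules). (The
published statement is that a smooth del Pezzo surface of degree d embedded in projective d-space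
has canonical module O_X(−1); its argument takes C a general hyperplane section and uses about the
embedding only that C is a smooth curve of genus one and that H¹(X, O_X) vanishes, facts it draws
from results quoted without proof; those two properties are the hypotheses here.) -/
theorem result (k : Type u) [Field k] [IsAlgClosed k] (X : Scheme.{u})
    [X.Over (Spec (CommRingCat.of k))] [IsIntegral X] [IsProper (X ↘ (Spec (CommRingCat.of k)))] [Smooth (X ↘ (Spec (CommRingCat.of k)))]
    (hdim : topologicalKrullDim X = 2)
    (W : X.Modules) (hW : ExtPow.IsExtPow 2 (Omega.sheaf (X ↘ (Spec (CommRingCat.of k)))) W)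
    (hq : Subsingleton (Coh.HH X (Coh.structureModule X) 1))
    (C : X.IdealSheafData) (hC : IsIntegral C.subscheme) (hC1 : topologicalKrullDim (C.support : Set X) = 1)
    (hCs : Smooth (C.subschemeι ≫ (X ↘ (Spec (CommRingCat.of k)))))
    (hg : Curv2.euler k X (ClSub.quotMod C) = 0)
    (N : X.Modules) (hN : ClSub.IsInverseOf N (ClSub.idealMod C)) (hNample : CohB1.IsAmple N) :
    Nonempty (W ≅ ClSub.idealMod C) := by
  haveI := hC
  haveI := hq
  haveI : IsNoetherian X := CurveCohLib.isNoetherian_of_proper (k := k)
  haveI := SurfStab.smoothOfRelativeDimension_two (k := k) hdim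
  have hWi : PicF.IsInvertible W := TopDiff.isInvertible_of_isExtPow
    (TopDiff.isFinLocFreeOfRank_omega (X ↘ Spec (CommRingCat.of k)) 2) hW
  have hI := Big.NegDef.invertible_of_curve k hdim hC hC1
  have hIeff := (S8914.result C).1 hI
  have hNi : PicF.IsInvertible N := hNample.1
  have hcl : PicF.cl (ClSub.idealMod C) * PicF.cl N = 1 := by
    rw [mul_comm]
    exact Big.cl_mul_eq_one hN
  let M := CohB1.tensorMod W N
  have hM : PicF.IsInvertible M := InvX.isInvertible_tensorMod hWi hNi
  have hdual : Module.finrank k (Coh.HH X M 0) = Module.finrank k (Coh.HH X (ClSub.idealMod C) 2) :=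
    SurfRR.finrank_dual k hdim hW hI hcl 2 le_rfl
  have hadd := Euler.euler_add k (ExtShX.shortExact_toSubscheme C) (AmpleVan.isCoh_invertible hI)
    (RefX.isCoh_unit (X := X)) (ParShLib.isCoh_quotMod C)
  change Curv2.euler k X (Coh.structureModule X) =
    Curv2.euler k X (ClSub.idealMod C) + Curv2.euler k X (ClSub.quotMod C) at hadd
  have hneg := SurfRR.intNum_ideal_ample_neg k hdim hIeff (by
    rw [← C.range_subschemeι]
    exact ⟨_, genericPoint C.subscheme, rfl⟩) hNample
  have h0I : Module.finrank k (Coh.HH X (ClSub.idealMod C) 0) = 0 := by
    by_contra h0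
    rcases SurfRR.intNum_pos_of_section k hdim hI (Module.nontrivial_of_finrank_pos (R := k) (Nat.pos_of_ne_zero h0))
      hNample with h | h
    · have hz : Big.pair k (ClSub.idealMod C) N = 0 := by
        rw [Big.pair_congr k (L' := Coh.structureModule X) (h.trans H23.PicMul.one_def),
          Big.pair_one k hdim.le hNi]
      rw [← Big.intNum_eq_pair k hdim.le hI hNi] at hz
      have h' : FGA.intNum k X 2 ![ClSub.idealMod C, N] (Coh.structureModule X) = 0 := by exact_mod_cast hz
      omega
    · omega
  have hsec : Nontrivial (Coh.HH X M 0) := by
    refine Module.nontrivial_of_finrank_pos (R := k) ?_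
    rw [hdual]
    have h1 := SurfStab.euler_eq_three (k := k) hdim (Coh.structureModule X)
    have h2 := SurfStab.euler_eq_three (k := k) hdim (ClSub.idealMod C)
    rw [CurveReg.finrank_h0_integral, Module.finrank_zero_of_subsingleton (R := k) (M := Coh.HH X (Coh.structureModule X) 1)] at h1
    omega
  rcases SurfRR.intNum_pos_of_section k hdim hM hsec hNample with h | h
  · refine cl_eq_iff.1 ?_
    rw [cl_tensor] at h
    calc PicF.cl W = PicF.cl W * (PicF.cl (ClSub.idealMod C) * PicF.cl N) := by rw [hcl, mul_one]
      _ = PicF.cl (ClSub.idealMod C) * (PicF.cl W * PicF.cl N) := mul_left_comm _ _ _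
      _ = PicF.cl (ClSub.idealMod C) := by rw [h, mul_one]
  · exfalso
    have hadj := SurfRR.adjunction_curve k hdim hW hI
    have e1 := SurfRR.intNum_inverse k hdim hI hNi hcl hWi
    have e2 := SurfRR.intNum_inverse k hdim hI hNi hcl hI
    have e3 := SurfRR.intNum_inverse k hdim hI hNi hcl hNi
    have hsum : FGA.intNum k X 2 ![M, N] (Coh.structureModule X) =
        FGA.intNum k X 2 ![W, N] (Coh.structureModule X) + FGA.intNum k X 2 ![N, N] (Coh.structureModule X) := by
      have h' := Big.pair_add k hdim.le hWi hNi hNi
      rw [← Big.intNum_eq_pair k hdim.le hM hNi, ← Big.intNum_eq_pair k hdim.le hWi hNi,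
        ← Big.intNum_eq_pair k hdim.le hNi hNi] at h'
      exact_mod_cast h'
    rw [Big.NegDef.dot_symm k hdim hWi hI] at e1
    rw [Big.NegDef.dot_symm k hdim hNi hI] at e3
    omega

end Groth.Agent.S18440
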