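import Groth.Statements.S18451
import Groth.Agent.Big.NegDef

set_option autoImplicit false
universe u
open CategoryTheory CategoryTheory.Limits AlgebraicGeometry TopologicalSpace
open Surf

attribute [-instance] CategoryTheory.catToReflQuiver

namespace Groth.Agent.S18451

open Groth.Agent Groth.Agent.H23.PicMul

/-- Let k be an algebraically closed field of characteristic zero and X a smooth projective surface over
k (integral, proper and smooth over k, of dimension 2, carrying an ample invertible module). Let
C_1, …, C_r be pairwise distinct integral curves on X (integral closed one-dimensional subschemes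
with ideal sheaves I_1, …, I_r) and write G_{ij} = (I_i·I_j) = χ(O_X) − χ(I_i) − χ(I_j) + χ(I_i ⊗
I_j) for their intersection matrix. Suppose the classes of the C_i span a negative definite
sublattice modulo numerical equivalence: for every integer vector a such that Σ_i a_i [C_i] is
numerically nontrivial, meaning that Σ_i a_i (I_i·M) ≠ 0 for some invertible O_X-module M, one has
Σ_{i,j} a_i a_j G_{ij} < 0. Then the classes are linearly independent, i.e. G itself is negative
definite: Σ_{i,j} a_i a_j G_{ij} < 0 for every nonzero integer vector a. -/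
theorem result (k : Type u) [Field k] [IsAlgClosed k] [CharZero k]
    (X : Scheme.{u}) [X.Over (Spec (CommRingCat.of k))] [IsProper (X ↘ (Spec (CommRingCat.of k)))]
    [Smooth (X ↘ (Spec (CommRingCat.of k)))] [IsIntegral X] (hdim : topologicalKrullDim X = 2)
    (hproj : ∃ H : X.Modules, CohB1.IsAmple H)
    (r : ℕ) (C : Fin r → X.IdealSheafData) (hC : Function.Injective C)
    (hCi : ∀ i, IsIntegral (C i).subscheme) (hCd : ∀ i, topologicalKrullDim ((C i).support : Set X) = 1)
    (hneg : ∀ a : Fin r → ℤ,
      (∃ M : X.Modules, PicF.IsInvertible M ∧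
        ∑ i, a i * FGA.intNum k X 2 ![(ClSub.idealMod (C i)), M] (Coh.structureModule X) ≠ 0) →
      ∑ i, ∑ j, a i * a j * FGA.intNum k X 2 ![(ClSub.idealMod (C i)), (ClSub.idealMod (C j))] (Coh.structureModule X) < 0) :
    ∀ a : Fin r → ℤ, a ≠ 0 →
      ∑ i, ∑ j, a i * a j * FGA.intNum k X 2 ![(ClSub.idealMod (C i)), (ClSub.idealMod (C j))] (Coh.structureModule X) < 0 := by
  classical
  obtain ⟨H, hH⟩ := hproj
  have hI := fun i => Big.NegDef.invertible_of_curve k hdim (hCi i) (hCd i)
  set g : Fin r → Fin r → ℤ := fun i j =>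
    FGA.intNum k X 2 ![(ClSub.idealMod (C i)), (ClSub.idealMod (C j))] (Coh.structureModule X)
  intro a ha
  by_contra hnn
  have hnull : ∀ b : Fin r → ℤ, ¬ (∑ i, ∑ j, b i * b j * g i j < 0) → ∀ M : X.Modules, PicF.IsInvertible M →
      ∑ i, b i * FGA.intNum k X 2 ![(ClSub.idealMod (C i)), M] (Coh.structureModule X) = 0 := fun b hb M hM => by
    by_contra hne
    exact hb (hneg b ⟨M, hM, hne⟩)
  set u : Fin r → ℤ := fun i => max (a i) 0 with hu
  set w : Fin r → ℤ := fun i => max (-a i) 0 with hw
  have hauw : ∀ i, a i = u i - w i := fun i => by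
    simp only [hu, hw]; rcases le_total (a i) 0 with h | h <;> simp [h]
  have hnull' := hnull a hnn
  have hj : ∀ j, ∑ i, u i * g i j = ∑ i, w i * g i j := fun j => by
    have h1 := hnull' _ (hI j)
    simp only [hauw, sub_mul, Finset.sum_sub_distrib, sub_eq_zero] at h1
    exact h1
  have hcross : 0 ≤ ∑ j, u j * ∑ i, w i * g i j := by
    refine Finset.sum_nonneg fun j _ => ?_
    rw [Finset.mul_sum]
    refine Finset.sum_nonneg fun i _ => ?_
    rcases eq_or_ne i j with rfl | hij
    · have : u i * w i = 0 := by
        simp only [hu, hw]; rcases le_total (a i) 0 with h | h <;> simp [h]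
      rw [← mul_assoc, this, zero_mul]
    · exact mul_nonneg (le_max_right _ _) (mul_nonneg (le_max_right _ _)
        (Big.NegDef.dot_nonneg_of_ne k hdim (hI i) (hCi i) (hCd i) (hI j) (hCi j) (hCd j) fun h => hij (hC h)))
  have huu : ¬ (∑ i, ∑ j, u i * u j * g i j < 0) := by
    rw [not_lt, Finset.sum_comm]
    refine hcross.trans_eq (Finset.sum_congr rfl fun j _ => ?_)
    rw [← hj, Finset.mul_sum]
    exact Finset.sum_congr rfl fun i _ => by ring
  have hH0 : ∀ b : Fin r → ℤ, (∀ i, 0 ≤ b i) →
      ∑ i, b i * FGA.intNum k X 2 ![(ClSub.idealMod (C i)), H] (Coh.structureModule X) = 0 → ∀ i, b i = 0 :=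
    fun b hb hb0 i => by
    have hneg' := fun i => Big.NegDef.dot_ample_neg k hdim (hI i) (hCi i) (hCd i) hH
    exact (mul_eq_zero.1 ((Finset.sum_eq_zero_iff_of_nonpos fun j _ =>
      mul_nonpos_of_nonneg_of_nonpos (hb j) (hneg' j).le).1 hb0 i (Finset.mem_univ i))).resolve_right (hneg' i).ne
  have hu0 := hH0 u (fun i => le_max_right _ _) (hnull u huu H hH.1)
  have h1 := hnull' H hH.1
  simp only [hauw, hu0, zero_sub, neg_mul, Finset.sum_neg_distrib, neg_eq_zero] at h1
  have hw0 := hH0 w (fun i => le_max_right _ _) h1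
  exact ha (funext fun i => by rw [hauw i, hu0 i, hw0 i, sub_zero]; rfl)

end Groth.Agent.S18451
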