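import Groth.Statements.S18458
import Groth.Agent.SurfRR.Artin
import Groth.Agent.Big.NegDef
import Mathlib.LinearAlgebra.Matrix.Adjugate
import Mathlib.LinearAlgebra.Matrix.ToLinearEquiv

set_option autoImplicit false
set_option linter.style.haveILetI false
set_option backward.isDefEq.respectTransparency false
set_option backward.isDefEq.respectTransparency.types false
set_option maxHeartbeats 1000000
universe u
open CategoryTheory CategoryTheory.Limits AlgebraicGeometry TopologicalSpace
open Surf

namespace Groth.Agent.S18458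

open Groth.Agent
open Groth.Agent.H23.PicMul

/-- An integral solution for a negative definite matrix. -/
theorem exists_solution {r : ℕ} (g : Fin r → Fin r → ℤ)
    (hneg : ∀ a : Fin r → ℤ, a ≠ 0 → ∑ i, ∑ j, a i * a j * g i j < 0) (h : Fin r → ℤ) :
    ∃ (d : ℕ) (n : Fin r → ℤ), 0 < d ∧ ∀ j, ∑ i, n i * g i j = d * h j := by
  let G : Matrix (Fin r) (Fin r) ℤ := Matrix.of g
  have hdet : G.det ≠ 0 := fun h0 => by
    obtain ⟨a, ha, hav⟩ := Matrix.exists_vecMul_eq_zero_iff.2 h0
    refine absurd (hneg a ha) (not_lt.2 (le_of_eq ?_))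
    rw [Finset.sum_comm]
    refine (Finset.sum_eq_zero fun j _ => ?_).symm
    have h1 : ∑ i, a i * g i j = 0 := congrFun hav j
    calc ∑ i, a i * a j * g i j = a j * ∑ i, a i * g i j := by
          rw [Finset.mul_sum]; exact Finset.sum_congr rfl fun i _ => by ring
      _ = 0 := by rw [h1, mul_zero]
  refine ⟨G.det.natAbs, fun i => G.det.sign * Matrix.vecMul h G.adjugate i, Int.natAbs_pos.2 hdet, fun j => ?_⟩
  have h1 : ∑ i, Matrix.vecMul h G.adjugate i * g i j = Matrix.vecMul (Matrix.vecMul h G.adjugate) G j := rfl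
  rw [Matrix.vecMul_vecMul, Matrix.adjugate_mul, Matrix.vecMul_smul, Matrix.vecMul_one] at h1
  calc ∑ i, G.det.sign * Matrix.vecMul h G.adjugate i * g i j
      = G.det.sign * ∑ i, Matrix.vecMul h G.adjugate i * g i j := by
        rw [Finset.mul_sum]; exact Finset.sum_congr rfl fun i _ => mul_assoc _ _ _
    _ = G.det.sign * (G.det * h j) := by rw [h1]; rfl
    _ = (G.det.natAbs : ℤ) * h j := by rw [← mul_assoc, Int.sign_mul_self_eq_abs, Int.abs_eq_natAbs]


/-- Let k be an algebraically closed field of characteristic zero and X a smooth projective surface over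
k (integral, proper and smooth over k, of dimension 2, carrying an ample invertible module). Let
C_1, …, C_r be pairwise distinct integral curves on X with ideal sheaves I_i whose intersection
matrix is negative definite: Σ_{i,j} a_i a_j (I_i·I_j) < 0 for every nonzero integer vector a, where
(A·B) = χ(O_X) − χ(A) − χ(B) + χ(A ⊗ B). Then there is an invertible O_X-module L (the sheaf of a
divisor H) which is nef and big and is orthogonal to exactly the curves C_i: writing (L·C) = χ(O_C ⊗
L) − χ(O_C) for the degree of L on an integral curve C, one has (L·C) ≥ 0 for every integral curve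
C, (L·L) > 0, and (L·C) = 0 if and only if C is one of the C_i. -/
theorem result (k : Type u) [Field k] [IsAlgClosed k] [CharZero k]
    (X : Scheme.{u}) [X.Over (Spec (CommRingCat.of k))] [IsProper (X ↘ (Spec (CommRingCat.of k)))]
    [Smooth (X ↘ (Spec (CommRingCat.of k)))] [IsIntegral X] (hdim : topologicalKrullDim X = 2)
    (hproj : ∃ H : X.Modules, CohB1.IsAmple H)
    (r : ℕ) (C : Fin r → X.IdealSheafData) (hC : Function.Injective C)
    (hCi : ∀ i, IsIntegral (C i).subscheme) (hCd : ∀ i, topologicalKrullDim ((C i).support : Set X) = 1)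
    (hneg : ∀ a : Fin r → ℤ, a ≠ 0 →
      ∑ i, ∑ j, a i * a j * FGA.intNum k X 2 ![(ClSub.idealMod (C i)), (ClSub.idealMod (C j))] (Coh.structureModule X) < 0) :
    ∃ L : X.Modules, PicF.IsInvertible L ∧
      (∀ D : X.IdealSheafData, IsIntegral D.subscheme → topologicalKrullDim (D.support : Set X) = 1 →
        0 ≤ Curv2.euler k X (CohB1.tensorMod (ClSub.quotMod D) L) - Curv2.euler k X (ClSub.quotMod D)) ∧
      0 < FGA.intNum k X 2 ![L, L] (Coh.structureModule X) ∧
      (∀ D : X.IdealSheafData, IsIntegral D.subscheme → topologicalKrullDim (D.support : Set X) = 1 →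
        (Curv2.euler k X (CohB1.tensorMod (ClSub.quotMod D) L) - Curv2.euler k X (ClSub.quotMod D) = 0 ↔
          ∃ i, D = C i)) := by
  classical
  obtain ⟨H, hH⟩ := hproj
  haveI : IsNoetherian X := CurveCohLib.isNoetherian_of_proper (k := k)
  have hcur := fun i => SurfRR.Chain.isCurve_of_integral k hdim (hCi i) (hCd i)
  have hI := fun i => Big.isInvertible_ideal (hcur i).1
  let g : Fin r → Fin r → ℤ := fun i j =>
    FGA.intNum k X 2 ![(ClSub.idealMod (C i)), (ClSub.idealMod (C j))] (Coh.structureModule X)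
  let h : Fin r → ℤ := fun i => FGA.intNum k X 2 ![(ClSub.idealMod (C i)), H] (Coh.structureModule X)
  obtain ⟨d, n, hd, hn⟩ := exists_solution g hneg h
  have hn0 : ∀ i, 0 ≤ n i := Big.NegDef.nonneg_of_mul_nonpos g
    (fun i j hij => SurfRR.Chain.inter_nonneg_of_ne k hdim hcur hC hij) hneg n fun j => by
      rw [hn j]
      exact mul_nonpos_of_nonneg_of_nonpos (Int.natCast_nonneg _)
        (Big.NegDef.dot_ample_neg k hdim (hI j) (hCi j) (hCd j) hH).le
  obtain ⟨hB, hBdot⟩ := SurfRR.Chain.intNum_prod k hdim hcur (fun i => (n i).toNat) Finset.univ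
  let B : X.IdealSheafData := ∏ i, C i ^ (n i).toNat
  have hBi : PicF.IsInvertible (ClSub.idealMod B) := Big.isInvertible_ideal hB
  obtain ⟨V, hV, ⟨e⟩⟩ := H23.PicInv.exists_inverse hBi
  have hBV := Big.cl_mul_eq_one ⟨e⟩
  let P := CohB1.tensorPow H d
  have hP : PicF.IsInvertible P := InvX.isInvertible_tensorPow hH.1 d
  let L := CohB1.tensorMod P V
  have hL : PicF.IsInvertible L := InvX.isInvertible_tensorMod hP hV
  have key : ∀ M : X.Modules, PicF.IsInvertible M →
      FGA.intNum k X 2 ![M, L] (Coh.structureModule X) = (d : ℤ) * FGA.intNum k X 2 ![M, H] (Coh.structureModule X) -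
        ∑ i, n i * FGA.intNum k X 2 ![(ClSub.idealMod (C i)), M] (Coh.structureModule X) := by
    intro M hM
    have h1 := Big.pair_add k hdim.le hP hV hM
    rw [Big.pair_pow k hdim.le hH.1 hM, ← Big.intNum_eq_pair k hdim.le hL hM, ← Big.intNum_eq_pair k hdim.le hH.1 hM,
      ← Big.intNum_eq_pair k hdim.le hV hM] at h1
    have h2 : FGA.intNum k X 2 ![L, M] (Coh.structureModule X) = (d : ℤ) * FGA.intNum k X 2 ![H, M] (Coh.structureModule X) +
        FGA.intNum k X 2 ![V, M] (Coh.structureModule X) := by exact_mod_cast h1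
    have h3 := SurfRR.intNum_inverse k hdim hBi hV hBV hM
    have h4 : FGA.intNum k X 2 ![(ClSub.idealMod B), M] (Coh.structureModule X) =
        ∑ i, n i * FGA.intNum k X 2 ![(ClSub.idealMod (C i)), M] (Coh.structureModule X) := by
      rw [hBdot M hM]
      exact Finset.sum_congr rfl fun i _ => by rw [Int.toNat_of_nonneg (hn0 i)]
    rw [Big.NegDef.dot_symm k hdim hM hV, Big.NegDef.dot_symm k hdim hM hBi] at h3
    rw [Big.NegDef.dot_symm k hdim hM hL, Big.NegDef.dot_symm k hdim hM hH.1, h2, h3, h4]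
    ring
  have hLC : ∀ j, FGA.intNum k X 2 ![(ClSub.idealMod (C j)), L] (Coh.structureModule X) = 0 := fun j => by
    rw [key _ (hI j), hn j, sub_self]
  have hdeg : ∀ D : X.IdealSheafData, IsIntegral D.subscheme → topologicalKrullDim (D.support : Set X) = 1 →
      0 ≤ Curv2.euler k X (CohB1.tensorMod (ClSub.quotMod D) L) - Curv2.euler k X (ClSub.quotMod D) ∧
      (Curv2.euler k X (CohB1.tensorMod (ClSub.quotMod D) L) - Curv2.euler k X (ClSub.quotMod D) = 0 ↔ ∃ i, D = C i) := by
    intro D hDi hDd
    have hD := SurfRR.Chain.isCurve_of_integral k hdim hDi hDd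
    have hDinv := Big.isInvertible_ideal hD.1
    have he := Big.NegDef.dot_eq_euler k hdim hDinv hL
    by_cases hex : ∃ i, D = C i
    · obtain ⟨i, rfl⟩ := hex
      rw [hLC i] at he
      exact ⟨by omega, fun _ => ⟨i, rfl⟩, fun _ => by omega⟩
    · have hlt : FGA.intNum k X 2 ![(ClSub.idealMod D), L] (Coh.structureModule X) < 0 := by
        rw [key _ hDinv]
        have h1 : (d : ℤ) * FGA.intNum k X 2 ![(ClSub.idealMod D), H] (Coh.structureModule X) < 0 :=
          mul_neg_of_pos_of_neg (by exact_mod_cast hd) (Big.NegDef.dot_ample_neg k hdim hDinv hDi hDd hH)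
        have h2 : 0 ≤ ∑ i, n i * FGA.intNum k X 2 ![(ClSub.idealMod (C i)), (ClSub.idealMod D)] (Coh.structureModule X) :=
          Finset.sum_nonneg fun i _ => mul_nonneg (hn0 i) (SurfRR.Chain.curve_inter_nonneg k hdim (hcur i) hD.1
            fun hle => hex ⟨i, SurfRR.Chain.eq_of_curve_le k hdim hD (hcur i) hle⟩)
        omega
      exact ⟨by omega, fun h0 => absurd h0 (by omega), fun h0 => absurd h0 hex⟩
  refine ⟨L, hL, fun D h1 h2 => (hdeg D h1 h2).1, ?_, fun D h1 h2 => (hdeg D h1 h2).2⟩
  have hsum : ∑ i, n i * FGA.intNum k X 2 ![(ClSub.idealMod (C i)), L] (Coh.structureModule X) = 0 :=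
    Finset.sum_eq_zero fun i _ => by rw [hLC i, mul_zero]
  rw [key L hL, hsum, sub_zero, Big.NegDef.dot_symm k hdim hL hH.1]
  refine mul_pos (by exact_mod_cast hd) ?_
  rw [key H hH.1]
  have h1 : (0 : ℤ) < (d : ℤ) * FGA.intNum k X 2 ![H, H] (Coh.structureModule X) := by
    refine mul_pos (by exact_mod_cast hd) ?_
    have := Big.pair_self_pos k hdim hH
    rw [← Big.intNum_eq_pair k hdim.le hH.1 hH.1] at this
    exact_mod_cast this
  have h2 : ∑ i, n i * FGA.intNum k X 2 ![(ClSub.idealMod (C i)), H] (Coh.structureModule X) ≤ 0 :=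
    Finset.sum_nonpos fun i _ => mul_nonpos_of_nonneg_of_nonpos (hn0 i)
      (Big.NegDef.dot_ample_neg k hdim (hI i) (hCi i) (hCd i) hH).le
  omega

end Groth.Agent.S18458
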