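import Groth.Statements.S18463
import Groth.Agent.Big.NegDef

set_option autoImplicit false
universe u
open CategoryTheory CategoryTheory.Limits AlgebraicGeometry TopologicalSpace
open Surf

attribute [-instance] CategoryTheory.catToReflQuiver

namespace Groth.Agent.S18463

open Groth.Agent Groth.Agent.H23.PicMul

/-- Let k be an algebraically closed field of characteristic zero and X a smooth projective surface over
k (integral, proper and smooth over k, of dimension 2, carrying an ample invertible module). Let
C_1, …, C_r be pairwise distinct integral curves on X with ideal sheaves I_i and negative definite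
intersection matrix (Σ_{i,j} a_i a_j (I_i·I_j) < 0 for every nonzero integer vector a, where (A·B) =
χ(O_X) − χ(A) − χ(B) + χ(A ⊗ B)), let F be an effective Cartier divisor on X, with ideal I_F, none
of whose components is a C_i, and let s_1, …, s_r be integers such that F is numerically equivalent
to Σ_i s_i C_i: (I_F·M) = Σ_i s_i (I_i·M) for every invertible O_X-module M (equivalently (F·D) = Σ
s_i (C_i·D) for every divisor D). Then F = 0, i.e. I_F = O_X, and every s_i is 0. The published
statement writes the hypothesis as [F] + Σ s_i[C_i] = 0 with real s_i; this row writes F ≡ Σ s_i C_i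
with integer s_i, which is the same after changing the signs of the s_i. -/
theorem result (k : Type u) [Field k] [IsAlgClosed k] [CharZero k]
    (X : Scheme.{u}) [X.Over (Spec (CommRingCat.of k))] [IsProper (X ↘ (Spec (CommRingCat.of k)))]
    [Smooth (X ↘ (Spec (CommRingCat.of k)))] [IsIntegral X] (hdim : topologicalKrullDim X = 2)
    (hproj : ∃ H : X.Modules, CohB1.IsAmple H)
    (r : ℕ) (C : Fin r → X.IdealSheafData) (hC : Function.Injective C)
    (hCi : ∀ i, IsIntegral (C i).subscheme) (hCd : ∀ i, topologicalKrullDim ((C i).support : Set X) = 1)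
    (hneg : ∀ a : Fin r → ℤ, a ≠ 0 →
      ∑ i, ∑ j, a i * a j * FGA.intNum k X 2 ![(ClSub.idealMod (C i)), (ClSub.idealMod (C j))] (Coh.structureModule X) < 0)
    (F : X.IdealSheafData) (hF : FGA.IsEffCartier F) (hFC : ∀ i, ¬ ((C i).support : Set X) ⊆ (F.support : Set X))
    (s : Fin r → ℤ)
    (hnum : ∀ M : X.Modules, PicF.IsInvertible M →
      FGA.intNum k X 2 ![(ClSub.idealMod F), M] (Coh.structureModule X) =
        ∑ i, s i * FGA.intNum k X 2 ![(ClSub.idealMod (C i)), M] (Coh.structureModule X)) :
    F = ⊤ ∧ ∀ i, s i = 0 := by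
  obtain ⟨H, hH⟩ := hproj
  haveI := CurveCohLib.isNoetherian_of_proper (k := k) (X := X)
  have hI := fun i => Big.NegDef.invertible_of_curve k hdim (hCi i) (hCd i)
  have hFE : BlowUp.IsEffCartierIdeal F := fun y => let ⟨U, h, a, ha, hI⟩ := hF y; ⟨U, h, a, ha, hI⟩
  have hFi := Big.isInvertible_ideal hFE
  set g : Fin r → Fin r → ℤ := fun i j =>
    FGA.intNum k X 2 ![(ClSub.idealMod (C i)), (ClSub.idealMod (C j))] (Coh.structureModule X)
  have hs : ∀ i, 0 ≤ (-s) i := Big.NegDef.nonneg_of_mul_nonpos g
    (fun i j hij => Big.NegDef.dot_nonneg_of_ne k hdim (hI i) (hCi i) (hCd i) (hI j) (hCi j) (hCd j) fun h => hij (hC h))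
    hneg (-s) fun j => by
      have h := Big.NegDef.dot_nonneg_of_not_subset k hdim (hI j) (hCi j) (hCd j) hFE (hFC j)
      rw [Big.NegDef.dot_symm k hdim (hI j) hFi, hnum _ (hI j)] at h
      simp only [Pi.neg_apply, neg_mul, Finset.sum_neg_distrib, g]
      linarith
  have hterm : ∀ i, 0 ≤ s i * FGA.intNum k X 2 ![(ClSub.idealMod (C i)), H] (Coh.structureModule X) := fun i => by
    have := hs i
    simp only [Pi.neg_apply] at this
    exact mul_nonneg_of_nonpos_of_nonpos (by omega) (Big.NegDef.dot_ample_neg k hdim (hI i) (hCi i) (hCd i) hH).le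
  have hFe : (F.support : Set X) = ∅ := by
    by_contra hne
    obtain ⟨η, hη, hηd⟩ := Big.exists_curve_point k hdim hFE (Set.nonempty_iff_ne_empty.2 hne)
    obtain ⟨H', hH', hHH'⟩ := H23.PicInv.exists_inverse hH.1
    have hpos : 0 < Big.pair k (ClSub.idealMod F) H' := by
      rw [Big.pair_ideal k hFE hH']
      exact Big.alt_pos_of_components k (Big.pos k 1) (L := ![H]) (fun i => by fin_cases i; exact hH)
        (fun i => by fin_cases i; exact hH') (fun i => by fin_cases i; exact (by
          show PicF.cl H * PicF.cl H' = 1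
          rw [← cl_tensor, cl_eq_iff.2 hHH', one_def]))
        (ParShLib.isCoh_quotMod F) ((H23.TopDim.dim_le_dim_of_subset (Big.support_quotMod_subset _)).trans
          (Big.dim_support_le k hFE (e := 1) hdim.le)) hη hηd
    have h0 : 0 ≤ FGA.intNum k X 2 ![(ClSub.idealMod F), H] (Coh.structureModule X) := by
      rw [hnum H hH.1]; exact Finset.sum_nonneg fun i _ => hterm i
    have h0' : (0 : ℚ) ≤ Big.pair k (ClSub.idealMod F) H := by
      rw [← Big.NegDef.cast_dot k hdim hFi hH.1]; exact_mod_cast h0
    have e : Big.pair k H' (ClSub.idealMod F) = -Big.pair k H (ClSub.idealMod F) :=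
      Big.pair_inverse k hdim.le hH.1 hH' (by rw [← cl_tensor, cl_eq_iff.2 hHH', one_def]) hFi
    rw [Big.pair_symm, e, Big.pair_symm] at hpos
    linarith
  have hFtop : F = ⊤ := by
    rw [← Scheme.IdealSheafData.support_eq_bot_iff]
    exact Closeds.ext hFe
  refine ⟨hFtop, fun i => ?_⟩
  have h0 : FGA.intNum k X 2 ![(ClSub.idealMod F), H] (Coh.structureModule X) = 0 := by
    have h1 : Big.pair k (ClSub.idealMod F) H = 0 := by
      rw [Big.pair_ideal k hFE hH.1]
      refine Big.alt_eq_zero k (M := ![H]) (fun i => by fin_cases i; exact hH.1) (ParShLib.isCoh_quotMod F) (lt_of_le_of_lt (H23.TopDim.dim_le_dim_of_subset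
        ((Big.support_quotMod_subset F).trans hFe.subset)) ?_)
      haveI : IsEmpty (IrreducibleCloseds ↥(∅ : Set X)) := ⟨fun a => a.isIrreducible.nonempty.elim fun x _ => x.2⟩
      rw [topologicalKrullDim, Order.krullDim_eq_bot]
      exact WithBot.bot_lt_coe _
    have h2 : (FGA.intNum k X 2 ![(ClSub.idealMod F), H] (Coh.structureModule X) : ℚ) = 0 :=
      (Big.NegDef.cast_dot k hdim hFi hH.1).trans h1
    exact_mod_cast h2
  rw [hnum H hH.1] at h0
  exact (mul_eq_zero.1 ((Finset.sum_eq_zero_iff_of_nonneg fun j _ => hterm j).1 h0 i (Finset.mem_univ i))).resolve_right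
    (Big.NegDef.dot_ample_neg k hdim (hI i) (hCi i) (hCd i) hH).ne

end Groth.Agent.S18463
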