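import Groth.Statements.S18485
import Groth.Agent.FlatQF.Scheme
-- import your own Groth.Agent.* helpers here

set_option autoImplicit false
universe u
open CategoryTheory CategoryTheory.Limits AlgebraicGeometry MonObj
open Neron

set_option backward.isDefEq.respectTransparency false
attribute [-instance] CategoryTheory.catToReflQuiver

namespace Groth.Agent.S18485

/-- Let R be a Dedekind domain with fraction field K and H a Spec R-scheme which is flat and locally of
finite type over Spec R. If the generic fibre H_K is locally quasi-finite over K, then H is locally
quasi-finite over Spec R. (The published statement is about the schematic closure, in an S-group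
algebraic space of finite type over a connected Dedekind scheme S, of a finite subgroup of the
generic fibre, which it asserts to be a quasi-finite S-group; this row is the statement about flat
schemes locally of finite type over an affine Dedekind base on which that rests. Locally
quasi-finite is meant here without a finite type clause, which is assumed separately.) -/
theorem result (R : Type u) [CommRing R]
    [IsDedekindDomain R] (H : Over (Spec (CommRingCat.of R))) [Flat H.hom] [LocallyOfFiniteType H.hom]
    [LocallyQuasiFinite ((Neron.genericFibre R).obj H).hom] : LocallyQuasiFinite H.hom := by
  rw [IsZariskiLocalAtSource.iff_of_openCover (P := @LocallyQuasiFinite) H.left.affineCover]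
  intro i
  let g := H.left.affineCover.f i ≫ H.hom
  change LocallyQuasiFinite g
  haveI h1 : LocallyQuasiFinite (pullback.snd g (Neron.genPt R)) := by
    have e : pullback.snd g (Neron.genPt R) =
        (pullbackRightPullbackFstIso H.hom (Neron.genPt R) (H.left.affineCover.f i)).inv ≫
          pullback.snd (H.left.affineCover.f i) (pullback.fst H.hom (Neron.genPt R)) ≫
          pullback.snd H.hom (Neron.genPt R) := by
      rw [Iso.eq_inv_comp, pullbackRightPullbackFstIso_hom_snd]
    rw [e]
    haveI : LocallyQuasiFinite (pullback.snd H.hom (Neron.genPt R)) :=
      (inferInstance : LocallyQuasiFinite ((Neron.genericFibre R).obj H).hom)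
    infer_instance
  haveI hg : Flat g := inferInstance
  obtain ⟨φ, hφ⟩ : ∃ φ, Spec.map φ = g := ⟨Spec.preimage g, Spec.map_preimage g⟩
  rw [← hφ] at h1 hg ⊢
  exact Groth.Agent.FlatQF.locallyQuasiFinite_spec R _ φ


end Groth.Agent.S18485
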