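import Groth.Statements.S18494
import Groth.Agent.NeronIsog.Etale
-- import your own Groth.Agent.* helpers here

set_option autoImplicit false
universe u
open CategoryTheory CategoryTheory.Limits AlgebraicGeometry MonObj
open Neron

namespace Groth.Agent.S18494

/-- Let R be a Dedekind domain with fraction field K, let A and B be group schemes over Spec R which are
Néron models of their generic fibres, both abelian varieties over K (proper and geometrically
integral), let φ : A → B be a homomorphism whose generic fibre φ_K is an isogeny (surjective with
finite kernel), and let i : N → A be a kernel of φ. If the degree of φ_K, that is the order of the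
finite K-group scheme N_K (its rank over Spec K), is a unit in R, then N is a Néron model of its
generic fibre N_K (smooth, separated, of finite type, with the Néron mapping property for smooth
Spec R-schemes) and N → Spec R is étale. -/
theorem result (R : Type u) [CommRing R]
    [IsDedekindDomain R] (A B : Over (Spec (CommRingCat.of R))) [GrpObj A] [GrpObj B]
    (hA : Neron.IsNeronModelOf R A ((Neron.genericFibre R).obj A) (Iso.refl _))
    (hB : Neron.IsNeronModelOf R B ((Neron.genericFibre R).obj B) (Iso.refl _))
    [IsProper ((Neron.genericFibre R).obj A).hom] [GeometricallyIntegral ((Neron.genericFibre R).obj A).hom]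
    [IsProper ((Neron.genericFibre R).obj B).hom] [GeometricallyIntegral ((Neron.genericFibre R).obj B).hom]
    (φ : A ⟶ B) [IsMonHom φ] (hφ : SGA7.IsIsogenyOver ((Neron.genericFibre R).map φ))
    (N : Over (Spec (CommRingCat.of R))) (i : N ⟶ A) (hN : AlgGrp.IsKernel i φ)
    (hdeg : ∀ x : ↥(Spec (CommRingCat.of (FractionRing R))),
      IsUnit ((((Neron.genericFibre R).obj N).hom.finrank x : ℕ) : R)) :
    Neron.IsNeronModelOf R N ((Neron.genericFibre R).obj N) (Iso.refl _) ∧ Etale N.hom := by
  let F := Neron.genericFibre R
  have hk : AlgGrp.IsKernel (F.map i) (F.map φ) := by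
    refine IsPullback.of_iso (hN.map F) (Iso.refl _) (Iso.refl _) (Functor.Monoidal.εIso F).symm (Iso.refl _) ?_ ?_ ?_ ?_
    · simp [F]
    · exact CartesianMonoidalCategory.toUnit_unique _ _
    · simp [F]
    · simp only [Iso.refl_hom, Category.comp_id, Iso.symm_hom]
      show F.map η[B] = (Functor.Monoidal.εIso F).inv ≫ Functor.LaxMonoidal.ε F ≫ F.map η[B]
      rw [← Functor.Monoidal.εIso_hom, Iso.inv_hom_id_assoc]
  haveI := hB.1
  haveI : Smooth (F.obj B).hom := inferInstanceAs (Smooth (pullback.snd B.hom _))
  let x : ↥(Spec (CommRingCat.of (FractionRing R))) := IsLocalRing.closedPoint (FractionRing R)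
  haveI := Groth.Agent.NeronIsog.etale_kernel A B hA hB φ hφ _ (hdeg x)
    (Groth.Agent.NeronIsog.exists_quasiInverse_deg (F.map φ) hφ _ (F.map i) hk x)
  exact Groth.Agent.NeronIsog.isNeronModel_kernel A B hA hB φ N i hN


end Groth.Agent.S18494
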