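import Groth.Statements.S18499
import Groth.Agent.NeronIsog.Semistable
-- import your own Groth.Agent.* helpers here

set_option autoImplicit false
universe u
open CategoryTheory CategoryTheory.Limits AlgebraicGeometry MonObj
open Neron

namespace Groth.Agent.S18499

/-- Let R be a discrete valuation ring with fraction field K and residue field of characteristic p (p =
0 allowed), let A and B be group schemes over Spec R which are Néron models of their generic fibres,
both abelian varieties over K (proper and geometrically integral), let φ : A → B be a homomorphism
whose generic fibre φ_K is an isogeny (surjective with finite kernel), and let i : N → A be a kernel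
of φ, so that N_K is a finite K-group scheme whose order (rank over Spec K) is the degree of φ_K.
If, whenever p divides that degree, A_K has semistable reduction over R (it extends to a smooth
separated group scheme of finite type over Spec R whose geometric fibres contain no closed subgroup
isomorphic to the additive group), then φ is flat. (The converse fails in general. The published
lemma is over a connected Dedekind scheme, with the reduction condition at every nongeneric point
whose residue characteristic divides the degree; the case of a discrete valuation ring is stated.) -/
theorem result (R : Type u) [CommRing R]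
    [IsDomain R] [IsDiscreteValuationRing R] (A B : Over (Spec (CommRingCat.of R))) [GrpObj A] [GrpObj B]
    (hA : Neron.IsNeronModelOf R A ((Neron.genericFibre R).obj A) (Iso.refl _))
    (hB : Neron.IsNeronModelOf R B ((Neron.genericFibre R).obj B) (Iso.refl _))
    [IsProper ((Neron.genericFibre R).obj A).hom] [GeometricallyIntegral ((Neron.genericFibre R).obj A).hom]
    [IsProper ((Neron.genericFibre R).obj B).hom] [GeometricallyIntegral ((Neron.genericFibre R).obj B).hom]
    (φ : A ⟶ B) [IsMonHom φ] (hφ : SGA7.IsIsogenyOver ((Neron.genericFibre R).map φ))
    (N : Over (Spec (CommRingCat.of R))) (i : N ⟶ A) (hN : AlgGrp.IsKernel i φ)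
    (h : ∀ x : ↥(Spec (CommRingCat.of (FractionRing R))),
      ringChar (IsLocalRing.ResidueField R) ∣ ((Neron.genericFibre R).obj N).hom.finrank x →
        SGA7.HasSemistableReduction R (FractionRing R) ((Neron.genericFibre R).obj A)) :
    Flat φ.left := by
  let F := Neron.genericFibre R
  have hk : AlgGrp.IsKernel (F.map i) (F.map φ) := by
    refine IsPullback.of_iso (hN.map F) (Iso.refl _) (Iso.refl _) (Functor.Monoidal.εIso F).symm (Iso.refl _) ?_ ?_ ?_ ?_
    · simp [F]
    · exact CartesianMonoidalCategory.toUnit_unique _ _
    · simp [F]
    · simp only [Iso.refl_hom, Category.comp_id, Iso.symm_hom]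
      show F.map η[B] = (Functor.Monoidal.εIso F).inv ≫ Functor.LaxMonoidal.ε F ≫ F.map η[B]
      rw [← Functor.Monoidal.εIso_hom, Iso.inv_hom_id_assoc]
  haveI := hB.1
  haveI : Smooth (F.obj B).hom := inferInstanceAs (Smooth (pullback.snd B.hom _))
  let x : ↥(Spec (CommRingCat.of (FractionRing R))) := IsLocalRing.closedPoint (FractionRing R)
  by_cases hp : ringChar (IsLocalRing.ResidueField R) ∣ (F.obj N).hom.finrank x
  · exact Groth.Agent.NeronIsog.flat_of_semistable R A B hA hB φ hφ (h x hp)
  · have hu : IsUnit (((F.obj N).hom.finrank x : ℕ) : R) := by
      by_contra hu
      refine hp ((ringChar.spec (IsLocalRing.ResidueField R) _).1 ?_)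
      rw [← map_natCast (IsLocalRing.residue R), IsLocalRing.residue_eq_zero_iff]
      exact hu
    haveI := Groth.Agent.NeronIsog.etale_kernel A B hA hB φ hφ _ hu
      (Groth.Agent.NeronIsog.exists_quasiInverse_deg (F.map φ) hφ _ (F.map i) hk x)
    infer_instance


end Groth.Agent.S18499
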