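import Groth.Statements.S18506
import Groth.Agent.EqIntLib.ZarQuot

set_option backward.isDefEq.respectTransparency false
set_option backward.isDefEq.respectTransparency.types false
set_option linter.style.haveILetI false
-- import your own Groth.Agent.* helpers here

set_option autoImplicit false
universe u
open CategoryTheory MonoidalCategory CartesianMonoidalCategory MonObj GrpObj AlgebraicGeometry Topology
open EqInt

namespace Groth.Agent.S18506

/-- Over a field k, let an affine group scheme G of finite type act on X and on U (quasi-separated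
schemes of finite type over k), and let π : U → B be a principal bundle quotient (π is G-invariant,
flat and surjective and (σ, p₂) : G × U → U ×_B U is an isomorphism) which is locally trivial in the
Zariski topology: every point of B has an open neighbourhood over which π has a section. Then the
diagonal action of G on X × U has a principal bundle quotient X × U → Q in the category of schemes.
(The published hypothesis is that G is special, i.e. every principal G-bundle is Zariski-locally
trivial; only the local triviality of U → B is used, and it is what is assumed here.) -/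
theorem result (k : Type u) [Field k]
    (G X U B : Over (Spec (CommRingCat.of k))) [GrpObj G] [IsAffine G.left] [LocallyOfFiniteType G.hom]
    [LocallyOfFiniteType X.hom] [QuasiCompact X.hom] [QuasiSeparated X.hom]
    [LocallyOfFiniteType U.hom] [QuasiCompact U.hom] [QuasiSeparated U.hom]
    [LocallyOfFiniteType B.hom] [QuasiCompact B.hom] [QuasiSeparated B.hom]
    (a : AlgGrp.Action G X) (b : AlgGrp.Action G U) (π : U ⟶ B) (hinv : GIT.IsInvariant b π)
    [Flat π.left] [Surjective π.left] (hcart : IsIso (GIT.PsiY b π hinv))
    (hzar : ∀ y : ↥B.left, ∃ (W : B.left.Opens) (s : (↑W : Scheme.{u}) ⟶ U.left), y ∈ W ∧ s ≫ π.left = W.ι) :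
    ∃ (Q : Over (Spec (CommRingCat.of k))) (ρ : X ⊗ U ⟶ Q) (hρ : GIT.IsInvariant (a.prod b) ρ),
      Flat ρ.left ∧ Surjective ρ.left ∧ IsIso (GIT.PsiY (a.prod b) ρ hρ) := by
  haveI : IsAffineHom G.hom := isAffineHom_of_isAffine G.hom
  haveI : Surjective G.hom := ⟨fun x => ⟨(MonObj.one (X := G)).left x,
      (Scheme.Hom.comp_apply _ _ x).symm.trans (congrArg (fun f : Spec (CommRingCat.of k) ⟶ _ => f x) (Over.w (MonObj.one (X := G))))⟩⟩
  haveI : LocallyOfFinitePresentation G.hom := inferInstance
  haveI : Flat G.hom := inferInstance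
  haveI := hcart
  have hpb₀ : IsPullback b.act.left (snd G U).left π.left π.left :=
    IsPullback.of_iso_pullback ⟨hinv.left⟩ (asIso (GIT.PsiY b π hinv)) (Limits.pullback.lift_fst _ _ _) (Limits.pullback.lift_snd _ _ _)
  have hpb : IsPullback b.act (snd G U) π π :=
    IsPullback.of_map (Over.forget _) (f := b.act) (g := snd G U) (h := π) (i := π) hinv hpb₀
  obtain ⟨Q, q, hq, hf, hs, -⟩ := Groth.Agent.EqIntLib.exists_quot_of_zar b a π hpb (fun y => hzar y)
  let β : X ⊗ U ≅ U ⊗ X := β_ X U
  have hβ : (a.prod b).act ≫ β.hom = (G ◁ β.hom) ≫ (b.prod a).act := by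
    apply CartesianMonoidalCategory.hom_ext <;> simp [AlgGrp.Action.prod, β] <;>
      rw [← whiskerLeft_comp_assoc] <;> simp
  have hsq : IsPullback (a.prod b).act (snd G (X ⊗ U)) (β.hom ≫ q) (β.hom ≫ q) := by
    refine hq.of_iso (whiskerLeftIso G β).symm β.symm β.symm (Iso.refl Q) ?_ ?_ ?_ ?_
    · rw [← cancel_mono β.hom]
      simp only [Category.assoc, hβ, Iso.symm_hom, whiskerLeftIso_inv, Iso.inv_hom_id, Category.comp_id,
        whiskerLeft_inv_hom_assoc]
    · rw [← cancel_mono β.hom]
      simp
    · simp
    · simp
  haveI : IsIso β.hom.left := inferInstanceAs (IsIso ((Over.forget _).map β.hom))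
  refine ⟨Q, β.hom ≫ q, hsq.w, inferInstanceAs (Flat (β.hom.left ≫ q.left)),
    inferInstanceAs (Surjective (β.hom.left ≫ q.left)), ?_⟩
  have hsq' := hsq.map (Over.forget _)
  have he : GIT.PsiY (a.prod b) (β.hom ≫ q) hsq.w = hsq'.isoPullback.hom :=
    Limits.pullback.hom_ext ((Limits.pullback.lift_fst _ _ _).trans hsq'.isoPullback_hom_fst.symm)
      ((Limits.pullback.lift_snd _ _ _).trans hsq'.isoPullback_hom_snd.symm)
  exact he ▸ inferInstance

end Groth.Agent.S18506
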