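import Groth.Statements.S18515
import Mathlib.AlgebraicGeometry.ValuativeCriterion

set_option linter.style.haveILetI false
set_option backward.isDefEq.respectTransparency false
set_option backward.isDefEq.respectTransparency.types false


set_option autoImplicit false
open CategoryTheory CategoryTheory.Limits MonoidalCategory CartesianMonoidalCategory MonObj GrpObj AlgebraicGeometry
universe u
open NonAbH1

namespace Groth.Agent.S18515

/-- A class represented by a torsor over a complete variety is unramified at every discrete valuation
ring of the function field. The published lemma assumes G finite, k algebraically closed of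
characteristic zero and K finitely generated over k; this row allows any field k, any field K and
any affine k-group scheme of finite type: let k be a field, X a proper k-scheme, G an affine k-group
scheme of finite type and P a torsor over X, locally trivial for the etale topology, under the base
change of G. For every field K with a k-morphism e : Spec K ⟶ X (for instance the generic point of
an integral X) and every discrete valuation ring R with fraction field K containing k compatibly,
there is a torsor Q over Spec R under the base change of G whose restriction to Spec K is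
equivariantly isomorphic to the pullback of P along e, both regarded as actions of the base change
of G to Spec K through the canonical identifications of iterated base changes. -/
theorem result
    (k K R : Type u) [Field k] [Field K] [Algebra k K]
    [CommRing R] [IsDomain R] [IsDiscreteValuationRing R] [Algebra k R] [Algebra R K] [IsFractionRing R K]
    (hc : Spec.map (CommRingCat.ofHom (algebraMap R K)) ≫ Spec.map (CommRingCat.ofHom (algebraMap k R)) =
      Spec.map (CommRingCat.ofHom (algebraMap k K)))
    (X : Scheme.{u}) (x : X ⟶ Spec (CommRingCat.of k)) [IsProper x]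
    (G : Over (Spec (CommRingCat.of k))) [GrpObj G] [IsAffine G.left] [LocallyOfFiniteType G.hom]
    (P : NonAbH1.TorsorSch (Red.bc x G) Scheme.etalePrecoverage)
    (e : Spec (CommRingCat.of K) ⟶ X) (he : e ≫ x = Spec.map (CommRingCat.ofHom (algebraMap k K))) :
    ∃ Q : NonAbH1.TorsorSch (Red.bc (Spec.map (CommRingCat.ofHom (algebraMap k R))) G) Scheme.etalePrecoverage,
      Nonempty (NonAbH1.EquivIso
        ((Q.act.bc (Spec.map (CommRingCat.ofHom (algebraMap R K)))).restrict
          (ActBC.bcCompIso (Spec.map (CommRingCat.ofHom (algebraMap R K)))
            (Spec.map (CommRingCat.ofHom (algebraMap k R))) G hc).inv)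
        ((P.act.bc e).restrict (ActBC.bcCompIso e x G he).inv)) := by
  have hE : ValuativeCriterion.Existence x :=
    ((UniversallyClosed.eq_valuativeCriterion ▸ (inferInstance : UniversallyClosed x) :
      (ValuativeCriterion.Existence ⊓ @QuasiCompact) x)).1
  let gen : Spec (CommRingCat.of K) ⟶ Spec (CommRingCat.of R) := Spec.map (CommRingCat.ofHom (algebraMap R K))
  let d : Spec (CommRingCat.of R) ⟶ Spec (CommRingCat.of k) := Spec.map (CommRingCat.ofHom (algebraMap k R))
  obtain ⟨⟨⟨e', hl, hr⟩⟩⟩ := hE ⟨R, K, e, d, ⟨he.trans hc.symm⟩⟩
  have hr' : e' ≫ x = d := hr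
  have hl' : gen ≫ e' = e := hl
  let φ := ActBC.bcCompIso e' x G hr'
  have hpt : NonAbH1.IsTorsorFor Scheme.etalePrecoverage ((P.act.bc e').restrict φ.inv) := by
    obtain ⟨h1, h2⟩ := (P.bc e').isTorsor
    refine ⟨?_, h2⟩
    have : IsIso (lift (P.act.bc e').act (snd _ _)) := h1
    have : φ.inv ▷ Red.bc e' P.X ≫ lift (P.act.bc e').act (snd _ _) =
        lift ((P.act.bc e').restrict φ.inv).act (snd _ _) := by
      rw [comp_lift, whiskerRight_snd]
      rfl
    show IsIso _
    rw [← this]
    infer_instance
  refine ⟨⟨Red.bc e' P.X, (P.act.bc e').restrict φ.inv, hpt⟩, ⟨⟨ActBC.bcCompIso gen e' P.X hl', ?_⟩⟩⟩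
  have hcomm := (ActBC.equivIsoBcComp gen e' hl' P.act).comm
  have hid : (ActBC.bcCompIso gen d G hc).inv ≫ (Over.pullback gen).map φ.inv ≫
      (ActBC.bcCompIso gen e' (Red.bc x G) hl').hom = (ActBC.bcCompIso e x G he).inv := by
    rw [Iso.inv_comp_eq, Iso.eq_comp_inv]
    refine (cancel_epi ((Over.pullback gen).map φ.hom)).1 ?_
    rw [← Category.assoc, ← Category.assoc, ← Functor.map_comp, Iso.hom_inv_id, CategoryTheory.Functor.map_id,
      Category.id_comp]
    ext
    apply pullback.hom_ext
    · simp [φ, Over.comp_left, ActBC.bcCompIso_hom_left_fst, ActBC.bcCompIso_hom_left_fst_assoc]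
      erw [reassoc_of% (ActBC.bcCompIso_hom_left_fst gen e' (Red.bc x G) hl')]
      rfl
    · exact (Over.w _).trans (Over.w _).symm
  rw [AlgGrp.Action.bc_restrict]
  simp only [AlgGrp.Action.restrict_act, Category.assoc] at hcomm ⊢
  refine ((congrArg ((ActBC.bcCompIso gen d G hc).inv ▷ _ ≫ (Over.pullback gen).map φ.inv ▷ _ ≫ ·) hcomm)).trans ?_
  rw [← whisker_exchange_assoc, ← whisker_exchange_assoc, ← comp_whiskerRight_assoc, ← comp_whiskerRight_assoc, Category.assoc, hid]
  rfl
end Groth.Agent.S18515
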