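import Groth.Statements.S18531
import Groth.Agent.ParShLib.SatMono

set_option linter.style.haveILetI false
set_option backward.isDefEq.respectTransparency false
set_option backward.isDefEq.respectTransparency.types false
set_option autoImplicit false
universe u
open CategoryTheory CategoryTheory.Limits AlgebraicGeometry Polynomial
open ParSh

namespace Groth.Agent.S18531

/-- Semistability for the reduced parabolic Hilbert polynomial together with semistable flag quotients
gives semistability for the first modified polynomial. Let X be a scheme proper over a field k with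
an ample invertible sheaf L, I the ideal of an effective Cartier divisor D on X, d ≥ 1, and E a
nonzero coherent O_X-module, pure of dimension d, with Supp E ∩ Supp D of topological Krull
dimension less than d, carrying a finite weighted filtration 𝓔 along I by coherent pieces E = E₀ ⊇ ⋯
⊇ E_{l+1} = I·E, weights 0 ≤ w₀ < ⋯ < w_l < 1, w_{l+1} := 1. Let P be the Hilbert polynomial of E,
P_j that of E_j, H_j that of E/E_j with α_{d−1}(H_j) ≠ 0 for 1 ≤ j ≤ l+1, and Par_E = P_{l+1} + Σ_j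
w_j (P_j − P_{j+1}); α_i(H) = i!·coefficient of degree i. Assume: (i) for every nonzero coherent
sub-module W → E whose cokernel is pure of dimension d or zero, with its induced filtration and
Hilbert polynomials Q of W and Q_j of the pieces, Par_W(m)·α_d(P) ≤ Par_E(m)·α_d(Q) for all large
natural m; (ii) for 1 ≤ j ≤ l+1 the quotient E/E_j is semistable of dimension d − 1 with respect to
L (coherent, nonzero, pure, and for each nonzero proper coherent sub-module the cross-multiplied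
comparison of Hilbert polynomials holds for large m). Then for every nonzero coherent sub-module ι :
W → E, with induced filtration W_j = W ∩ E_j and Hilbert polynomials Q of W, Q_j of W_j and K_j of
W/W_j, one has par-P₁(W ⊂ E)(m)·α_d(P) ≤ Par_E(m)·α_d(Q) for all large natural m, where par-P₁(W ⊂
E) = Q − Σ_{j=1}^{l+1} (w_j − w_{j−1})·(α_{d−1}(K_j)/α_{d−1}(H_j))·H_j. Semistability in (i) is
tested on saturated sub-modules with the induced filtration, the class to which the general test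
reduces. -/
theorem result (k : Type u) [Field k] (X : Scheme.{u})
    [X.Over (Spec (CommRingCat.of k))] [IsProper (X ↘ Spec (CommRingCat.of k))]
    (L : X.Modules) (hL : CohB1.IsAmple L) (I : X.IdealSheafData) (hD : FGA.IsEffCartier I)
    (E : X.Modules) (hE : Coh.IsCoh E) (𝓔 : ParSh.Str E) (h𝓔 : 𝓔.Along I)
    (hcoh : ∀ j, Coh.IsCoh ((𝓔.pieceX j : Subobject E) : X.Modules)) (d : ℕ) (hd : 1 ≤ d)
    (hsupp : topologicalKrullDim ↥(CohB1.support E ∩ (I.support : Set X)) < (d : WithBot ℕ∞))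
    (h0 : ¬ IsZero E) (hpure : ShStab.IsPure X E d)
    (P : ℚ[X]) (hP : ShStab.IsHilbPoly k X L E P) (PX : Fin (𝓔.l + 2) → ℚ[X])
    (hPX : ∀ j, ShStab.IsHilbPoly k X L ((𝓔.pieceX j : Subobject E) : X.Modules) (PX j))
    (H : Fin (𝓔.l + 2) → ℚ[X]) (hH : ∀ j, ShStab.IsHilbPoly k X L (cokernel (𝓔.pieceX j).arrow) (H j))
    (hHa : ∀ j : Fin (𝓔.l + 1), StabCat.alpha (d - 1) (H j.succ) ≠ 0)
    (hss : (∀ (W : X.Modules) (ι : W ⟶ E), Mono ι → Coh.IsCoh W → ¬ IsZero W → ShStab.IsPure X (cokernel ι) d →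
        ∀ (Q : ℚ[X]) (QX : Fin (𝓔.l + 2) → ℚ[X]), ShStab.IsHilbPoly k X L W Q →
          (∀ j, ShStab.IsHilbPoly k X L (((𝓔.induced ι).pieceX j : Subobject W) : X.Modules) (QX j)) →
          ∃ M : ℕ, ∀ m : ℕ, M ≤ m →
            (W4swparbununimod.parPoly (𝓔.induced ι) QX).eval (m : ℝ) * (StabCat.alpha d P : ℝ) ≤
              (W4swparbununimod.parPoly 𝓔 PX).eval (m : ℝ) * (StabCat.alpha d Q : ℝ)))
    (hq : ∀ j : Fin (𝓔.l + 1), ShStab.IsSemistable k X L (cokernel (𝓔.pieceX j.succ).arrow) (d - 1))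
    {W : X.Modules} (ι : W ⟶ E) [Mono ι] (hW : Coh.IsCoh W)
    (Q : ℚ[X]) (hQ : ShStab.IsHilbPoly k X L W Q) (QH : Fin (𝓔.l + 2) → ℚ[X])
    (hQH : ∀ j, ShStab.IsHilbPoly k X L (cokernel ((𝓔.induced ι).pieceX j).arrow) (QH j)) (hW0 : ¬ IsZero W) :
    ∃ M : ℕ, ∀ m : ℕ, M ≤ m →
      (W4swparbununimod.parPolyOne 𝓔 d Q QH H).eval (m : ℝ) * (StabCat.alpha d P : ℝ) ≤
        (W4swparbununimod.parPoly 𝓔 PX).eval (m : ℝ) * (StabCat.alpha d Q : ℝ) := by
  haveI := Groth.Agent.CurveCohLib.isNoetherian_of_proper (k := k) (X := X)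
  obtain ⟨QX, hQX, hev⟩ := Groth.Agent.ParShLib.parPolyOne_le k hL hE
    (Groth.Agent.ParShLib.agreeOff_of_along I 𝓔 h𝓔) hcoh hsupp hH hHa (fun j => (hq j).2.2.2) ι hW hQ hQH
  have hdE := Groth.Agent.HilbPoly.dim_le_of_isPure hpure hE
  obtain ⟨W', ι', l, hι', hl, hW', hpure', hprop⟩ :=
    Groth.Agent.HilbPoly.exists_saturation hL hE hdE ι hW hQ
  haveI := hι'
  haveI : Mono l := by
    haveI : Mono (l ≫ ι') := by rw [hl]; infer_instance
    exact mono_of_mono l ι'
  obtain ⟨Q', hQ', -, -⟩ :=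
    Groth.Agent.HilbPoly.exists_hilb (k := k) hL.1 hW' (Groth.Agent.HilbPoly.dim_mono hW' hE ι' hdE)
  obtain ⟨hα', -, -⟩ := hprop Q' hQ'
  have hW0' : ¬ IsZero W' := fun hz => hW0 ((IsZero.iff_id_eq_zero W).2 (by
    rw [← cancel_mono ι, ← hl, hz.eq_of_tgt l 0]; simp))
  have hc' : ∀ j, Coh.IsCoh (((𝓔.induced ι').pieceX j : Subobject W') : X.Modules) := fun j =>
    Groth.Agent.ParShLib.isCoh_induced hE hW' 𝓔 ι' hcoh j
  choose QX' hQX' _ _ using fun j => Groth.Agent.HilbPoly.exists_hilb (k := k) hL.1 (hc' j)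
    (Groth.Agent.HilbPoly.dim_mono (hc' j) hE (((𝓔.induced ι').pieceX j).arrow ≫ ι') hdE)
  obtain ⟨M, hM⟩ := hss W' ι' inferInstance hW' hW0' hpure' Q' QX' hQ' hQX'
  obtain ⟨M', hM'⟩ := Filter.eventually_atTop.1 (hev.and
    (Groth.Agent.ParShLib.parPoly_le_of_le k hL hE hcoh hdE l ι' ι hl hW hW' hQ hQ' hQX hQX'))
  have hα : (0 : ℝ) ≤ (StabCat.alpha d P : ℝ) := Rat.cast_nonneg.2
    (Groth.Agent.ParShLib.alpha_nonneg k hL hE hpure h0 hP)
  refine ⟨max M M', fun m hm => ?_⟩
  have h1 := hM m (le_of_max_le_left hm)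
  obtain ⟨h2, h3⟩ := hM' m (le_of_max_le_right hm)
  rw [← hα']
  exact (mul_le_mul_of_nonneg_right (h2.trans h3) hα).trans h1

end Groth.Agent.S18531
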