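import Groth.Statements.S18538
import Mathlib
-- import your own Groth.Agent.* helpers here

set_option autoImplicit false
universe u
open EtAlg

open scoped TensorProduct

namespace Groth.Agent.S18538

/-- Let A ⊆ B be an injective finite extension of integrally closed domains, with fraction fields K ⊆ L
and L separable over K. Then A → B → B ⊗_A B is exact, the second map being b ↦ b ⊗ 1 - 1 ⊗ b: every
element of B whose two images in B ⊗_A B agree comes from A. -/
theorem result
    (A B K L : Type u) [CommRing A] [CommRing B] [IsDomain A] [IsDomain B]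
    [IsIntegrallyClosed A] [IsIntegrallyClosed B] [Algebra A B] [FaithfulSMul A B] [Module.Finite A B]
    [Field K] [Field L] [Algebra A K] [IsFractionRing A K] [Algebra B L] [IsFractionRing B L]
    [Algebra K L] [Algebra A L] [IsScalarTower A K L] [IsScalarTower A B L]
    [Algebra.IsSeparable K L] :
    Algebra.IsEffective A B := by
  intro b
  refine ⟨fun hb => ?_, fun hb => Algebra.TensorProduct.includeLeftSubRight_zero_of_mem_range hb⟩
  rw [Algebra.TensorProduct.includeLeftSubRight_apply, sub_eq_zero] at hb
  let φ : B ⊗[A] B →ₐ[A] L ⊗[K] L := Algebra.TensorProduct.lift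
    (((Algebra.TensorProduct.includeLeft : L →ₐ[K] L ⊗[K] L).restrictScalars A).comp (IsScalarTower.toAlgHom A B L))
    (((Algebra.TensorProduct.includeRight : L →ₐ[K] L ⊗[K] L).restrictScalars A).comp (IsScalarTower.toAlgHom A B L))
    fun _ _ => Commute.all _ _
  have h1 : algebraMap B L b ⊗ₜ[K] (1 : L) = 1 ⊗ₜ algebraMap B L b := by
    simpa [φ] using congrArg φ hb
  have h2 : algebraMap B L b ∈ Set.range (algebraMap K L) :=
    ((Algebra.IsEffective.of_faithfullyFlat K L) _).1 (by
      rw [Algebra.TensorProduct.includeLeftSubRight_apply, h1, sub_self])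
  obtain ⟨k, hk⟩ := h2
  replace hk : algebraMap K L k = algebraMap B L b := hk
  have hint : IsIntegral A k := (isIntegral_algebraMap_iff (algebraMap K L).injective).1
    (hk ▸ (Algebra.IsIntegral.isIntegral (R := A) b).algebraMap)
  obtain ⟨a, rfl⟩ := IsIntegrallyClosed.isIntegral_iff.1 hint
  exact ⟨a, IsFractionRing.injective B L (by
    show algebraMap B L (algebraMap A B a) = _
    rw [← IsScalarTower.algebraMap_apply, IsScalarTower.algebraMap_apply A K L, hk])⟩

end Groth.Agent.S18538
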