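import Groth.Statements.S18540
import Groth.Agent.S19982
import Groth.Agent.Lib.AVDual

set_option autoImplicit false
universe u
open CategoryTheory MonoidalCategory CartesianMonoidalCategory MonObj GrpObj AlgebraicGeometry
open AbVar

namespace Groth.Agent.S18540

/-- Let k be a field with algebraic closure Ω, ℓ a prime number invertible in k, A an abelian variety
over k (a commutative group scheme over k which is smooth and proper with geometrically connected
fibres) and f an endomorphism of A over k. Suppose the ℓ-adic Tate module of Ω-valued points of A is
free of finite rank over the ℓ-adic integers, and let P be a polynomial with integer coefficients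
mapping to the characteristic polynomial of the endomorphism T_ℓ(f) of that Tate module (the
characteristic polynomial of f). Then P(f) = 0 in the endomorphism ring of A: f satisfies its own
characteristic polynomial. -/
theorem result (k Ω : Type u) [Field k] [Field Ω] [Algebra k Ω]
    [IsAlgClosure k Ω] (A : Over (Spec (CommRingCat.of k)))
    [GrpObj A] [IsCommMonObj A] [Smooth A.hom] [IsProper A.hom] [GeometricallyConnected A.hom]
    (l : ℕ) [Fact l.Prime] (hl : (l : k) ≠ 0)
    [Module.Free ℤ_[l] (AbDual.TateMod A l (SGA7.pt Ω))] [Module.Finite ℤ_[l] (AbDual.TateMod A l (SGA7.pt Ω))]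
    (f : EndAV.End A) (P : Polynomial ℤ)
    (hP : (EndAV.End.tateRep l (SGA7.pt Ω) f).charpoly = P.map (Int.castRingHom ℤ_[l])) :
    Polynomial.aeval f P = 0 := by
  haveI : GeometricallyIntegral A.hom := Groth.Agent.AVDual.geometricallyIntegral_of_smooth A
  have hinj := Groth.Agent.S19982.result k Ω l hl A A
  refine hinj (Eq.trans ?_ (map_zero _).symm)
  show EndAV.End.tateRep l (SGA7.pt (K := k) Ω) (Polynomial.aeval f P) = 0
  have h := LinearMap.aeval_self_charpoly (EndAV.End.tateRep l (SGA7.pt (K := k) Ω) f)
  rw [hP, Polynomial.aeval_def, Polynomial.eval₂_map] at h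
  rw [Polynomial.aeval_def, Polynomial.hom_eval₂]
  refine Eq.trans ?_ h
  congr 1
  exact RingHom.ext_int _ _

end Groth.Agent.S18540
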