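import Groth.Statements.S18541
import Groth.Agent.FinDesc.Polarization
import Groth.Agent.AVRosati.Frob
import Groth.Agent.Lib.AbDualBase
-- import your own Groth.Agent.* helpers here

set_option autoImplicit false
universe u
open CategoryTheory MonoidalCategory CartesianMonoidalCategory MonObj GrpObj AlgebraicGeometry
open AbVar

set_option backward.isDefEq.respectTransparency false
set_option backward.isDefEq.respectTransparency.types false
set_option synthInstance.maxHeartbeats 400000
set_option maxHeartbeats 1000000
set_option linter.style.haveILetI false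
attribute [-instance] CategoryTheory.catToReflQuiver

namespace Groth.Agent.S18541

/-- Let k be a finite field with q elements and A an abelian variety over k (a commutative group scheme
over k which is smooth and proper with geometrically connected fibres), given with a dual (A^t, φ)
for the fppf topology. Let π : A → A be the q-power Frobenius endomorphism of A (the identity on the
underlying space and the q-th power map on sections; a homomorphism) and π^t : A^t → A^t a transpose
of π. Let L be an invertible module on A and λ_L : A → A^t the homomorphism Λ(L) attached to L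
through φ. Then π followed by λ_L followed by π^t is q·λ_L, the q-th power of λ_L in the group of
morphisms A → A^t. (The published statement fixes L ample and reads π^‡ ∘ π = [q] for the Rosati
involution ‡ of L; its proof rewrites this as the displayed identity, which uses only that L is
invertible.) -/
theorem result (k : Type u) [Field k] [Finite k]
    (A At : Over (Spec (CommRingCat.of k)))
    [GrpObj A] [IsCommMonObj A] [Smooth A.hom] [IsProper A.hom] [GeometricallyConnected A.hom]
    [GrpObj At] [IsCommMonObj At]
    (φ : AgPol.DualMap A At) (hdual : AbDual.IsDualAV Scheme.fppfPrecoverage A At φ)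
    (π : A ⟶ A) [IsMonHom π] (hπb : π.left.base = 𝟙 _) (hπle : ∀ U : A.left.Opens, U ≤ π.left ⁻¹ᵁ U)
    (hπapp : ∀ (U : A.left.Opens) (s : Γ(A.left, U)), (π.left.appLE U U (hπle U)).hom s = s ^ Nat.card k)
    (πt : At ⟶ At) [IsMonHom πt] (hπt : AbDual.IsTranspose π φ φ πt)
    (L : A.left.Modules) (hL : PicF.IsInvertible L) (lam : A ⟶ At) (hlam : AgPol.IsLambda A At φ L lam) :
    π ≫ lam ≫ πt = lam ^ Nat.card k := by
  open Groth.Agent.H23 Groth.Agent.H23.TrivBasic Groth.Agent.H23.CubeAb Groth.Agent.AbDualBase in
  open scoped Groth.Agent.H23.PicMul in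
  exact (by
  haveI := geometricallyIntegral_hom A
  obtain ⟨N, hN, hNL, rfl⟩ := hlam
  have hq := FinDesc.isLambda_pullback hdual π hπt hL ⟨N, hN, hNL, rfl⟩
  obtain ⟨N', hN', hNL', hφ'⟩ := hq
  rw [← hφ']
  let cN : PicF.Cl (A ⊗ A).left := PicF.cl N
  let cL : PicF.Cl A.left := PicF.cl L
  have e : cN * F cL (fst A A) * F cL (snd A A) = F cL μ[A] := (PicGrp.cl_eq_cl_iff _ _).2 hNL
  have e' : (PicF.cl N' : PicF.Cl (A ⊗ A).left) * F (PicF.cl ((Scheme.Modules.pullback π.left).obj L)) (fst A A) *
      F (PicF.cl ((Scheme.Modules.pullback π.left).obj L)) (snd A A) =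
      F (PicF.cl ((Scheme.Modules.pullback π.left).obj L)) μ[A] := (PicGrp.cl_eq_cl_iff _ _).2 hNL'
  rw [AVRosati.cl_pullback_frob π.left hπb hπle _ hπapp hL] at e'
  have hF : ∀ (n : ℕ) (u : A ⊗ A ⟶ A), F (cL ^ n) u = F cL u ^ n := fun n u => map_pow _ _ _
  have en : ∀ n : ℕ, cN ^ n * F (cL ^ n) (fst A A) * F (cL ^ n) (snd A A) = F (cL ^ n) μ[A] := fun n => by
    rw [hF, hF, hF, ← mul_pow, ← mul_pow, e]
  have hN'eq : (PicF.cl N' : PicF.Cl (A ⊗ A).left) = cN ^ Nat.card k := by
    have hu : ∀ u : A ⊗ A ⟶ A, IsUnit (F (cL ^ Nat.card k) u) := fun u => by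
      rw [hF]
      exact ((PicMul.isUnit_of_isInvertibleCl (c := cL) ⟨L, rfl, hL⟩).map _).pow _
    exact (hu _).mul_right_cancel ((hu _).mul_right_cancel (e'.trans (en _).symm))
  have hpz : ∀ n : ℕ, AbDual.IsPicZeroCl A.hom A (cN ^ n) := fun n => by
    have h := FinDesc.pz_lambdaSheaf (Y := A) (L := CohB1.tensorPow L n) (N := CohB1.tensorPow N n)
      (PicMul.isInvertible_tensorPow hL n) (PicMul.isInvertible_tensorPow hN n) ((PicGrp.cl_eq_cl_iff _ _).1 ?_)
    · rw [PicMul.cl_tensorPow] at h
      exact h
    · refine ((PicMul.cl_tensor _ _).trans (congrArg (· * _) (PicMul.cl_tensor _ _))).trans ?_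
      have h := en n
      rw [show cL ^ n = PicF.cl (CohB1.tensorPow L n) from (PicMul.cl_tensorPow L n).symm] at h
      exact (congrArg (fun z : PicF.Cl (A ⊗ A).left => z * F (PicF.cl (CohB1.tensorPow L n)) (fst A A) *
        F (PicF.cl (CohB1.tensorPow L n)) (snd A A)) (PicMul.cl_tensorPow N n)).trans h
  have hphi : ∀ n : ℕ, φ A (cN ^ n) = φ A cN ^ n := fun n => by
    induction n with
    | zero =>
      rw [pow_zero, pow_zero]
      exact phi_one hdual A
    | succ n ih =>
      rw [pow_succ, pow_succ, ← ih]
      exact phi_mul hdual (hpz n) (by simpa using hpz 1)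
  rw [show PicF.cl N' = cN ^ Nat.card k from hN'eq]
  exact hphi _)


end Groth.Agent.S18541
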