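import Groth.Statements.S18585
-- import your own Groth.Agent.* helpers here

import Groth.Agent.CanonDual.TraceDeg
import Groth.Agent.SmoothReg.Scheme
import Groth.Agent.CurveCohLib.SubBundle

set_option backward.isDefEq.respectTransparency false
set_option backward.isDefEq.respectTransparency.types false
set_option autoImplicit false
universe u
open BranchVar

namespace Groth.Agent.S18585

open CategoryTheory CategoryTheory.Limits AlgebraicGeometry in
/-- Let k be a characteristic-zero algebraically closed field, C a smooth proper integral curve over k,
and g : Y ⟶ C a finite flat morphism with g_*O_Y locally free of rank d whose generic fibre (the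
fibre over the generic point of C) is reduced. Then the degree of the rank-d locally free module
g_*O_Y on C, computed as χ(C, g_*O_Y) − d·χ(C, O_C), is at most 0. (The published inequality is
stated for the degree of the determinant line bundle, deg det(g_*O_Y)^{-1} ≥ 0; the degree of a
locally free module on such a curve equals the degree of its determinant.) -/
theorem result (k : Type u) [Field k] [IsAlgClosed k] [CharZero k]
    (C : Scheme.{u}) [C.Over (Spec (CommRingCat.of k))] [IsIntegral C]
    (hC : Curve.IsSmoothProperCurve k C (C ↘ Spec (CommRingCat.of k)))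
    (Y : Scheme.{u}) (g : Y ⟶ C) [IsFinite g] [Flat g] (d : ℕ)
    (hd : FlatMod.IsFinLocFreeOfRank d ((Coh.push g).obj (Coh.structureModule Y)))
    (hred : AlgebraicGeometry.IsReduced (g.fiber (genericPoint C))) :
    Curv2.deg k C ((Coh.push g).obj (Coh.structureModule Y)) d ≤ 0 := by
  haveI : IsProper (C ↘ Spec (CommRingCat.of k)) := hC.1
  haveI : Smooth (C ↘ Spec (CommRingCat.of k)) := hC.2.1
  have hdim : topologicalKrullDim C = 1 := hC.2.2.2
  have hpid : ∀ y : C, IsPrincipalIdealRing (C.presheaf.stalk y) := fun y => by
    haveI := Groth.Agent.CurveCohLib.isNoetherian_of_proper (k := k) (X := C)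
    haveI : IsRegularLocalRing (C.presheaf.stalk y) :=
      Groth.Agent.SmoothReg.isRegularLocalRing_stalk_of_mem_smoothLocus (C ↘ Spec (CommRingCat.of k))
        (by rw [Scheme.Hom.smoothLocus_eq_top]; trivial)
    refine Groth.Agent.DimFormula.isPrincipalIdealRing_of_regular_dim_le_one ?_
    exact (Groth.Agent.CurveCohLib.ringKrullDim_stalk_le_topologicalKrullDim y).trans hdim.le
  exact Groth.Agent.CanonDual.deg_push_nonpos (f := g) k hdim hpid hd hred

end Groth.Agent.S18585
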