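import Groth.Statements.S18596
import Groth.Agent.EtRamLib.UnrBaseChange
-- import your own Groth.Agent.* helpers here

set_option autoImplicit false
universe u
open EtRam

attribute [-instance] CategoryTheory.catToReflQuiver

namespace Groth.Agent.S18596

open AlgebraicGeometry CategoryTheory CategoryTheory.Limits TensorProduct in
/-- Let k be a perfect field, X a k-scheme proper over k and f : Y ⟶ X finite étale. Curve-tameness of f
asks that the pullback of f to any regular k-curve mapping to X be tamely ramified at every place of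
the curve's function field at infinity; proper targets make every finite étale cover curve-tame.
Stated here unfolded at a single place, in the form the argument yields: for every point y of Y with
image x, and every discrete valuation ring A of the residue field κ(x) through which Spec κ(x) ⟶
Spec k factors, the finite separable extension κ(y) of κ(x) is tamely ramified with respect to A. -/
theorem result
    (k : Type u) [Field k] [PerfectField k] {X Y : Scheme.{u}} (s : X ⟶ Spec (CommRingCat.of k))
    [IsProper s] (f : Y ⟶ X) [IsFinite f] [Etale f] (y : Y)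
    (A : ValuationSubring (X.residueField (f.base y))) [IsDiscreteValuationRing A]
    (a : Spec (CommRingCat.of A) ⟶ Spec (CommRingCat.of k))
    (ha : Spec.map (CommRingCat.ofHom A.subtype) ≫ a = X.fromSpecResidueField (f.base y) ≫ s) :
    EtRam.IsTamelyRamified A ((f.residueFieldMap y).hom.comp A.subtype) := by
  haveI : ValuationRing A := inferInstance
  let K := X.residueField (f.base y)
  have hex : ValuativeCriterion.Existence s := by
    have h : UniversallyClosed s := inferInstance
    rw [UniversallyClosed.eq_valuativeCriterion] at h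
    exact h.1
  have hl : (CommSq.mk (f := X.fromSpecResidueField (f.base y)) (g := Spec.map (CommRingCat.ofHom (algebraMap A K))) (h := s) (i := a) ha.symm).HasLift :=
    hex ⟨A, K, X.fromSpecResidueField (f.base y), a, ⟨ha.symm⟩⟩
  obtain ⟨⟨l, hl₁', -⟩⟩ := hl.exists_lift
  have hl₁ : Spec.map (CommRingCat.ofHom A.subtype) ≫ l = X.fromSpecResidueField (f.base y) := hl₁'
  let P := pullback f l
  let q : P ⟶ Spec (CommRingCat.of A) := pullback.snd f l
  haveI : IsFinite q := by unfold q P; infer_instance
  haveI : Etale q := by unfold q P; infer_instance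
  haveI : IsAffine P := isAffine_of_isAffineHom q
  let γ : A →+* Γ(P, ⊤) := ((Scheme.ΓSpecIso (CommRingCat.of A)).inv ≫ q.appTop).hom
  let gyC : CommRingCat.of A ⟶ Y.residueField y := CommRingCat.ofHom A.subtype ≫ f.residueFieldMap y
  let gy : A →+* Y.residueField y := gyC.hom
  have hy : Y.fromSpecResidueField y ≫ f = Spec.map (gyC) ≫ l := by
    refine (Scheme.Hom.SpecMap_residueFieldMap_fromSpecResidueField f y).symm.trans ?_
    refine (congrArg (Spec.map (f.residueFieldMap y) ≫ ·) hl₁.symm).trans ?_
    refine (Category.assoc _ _ _).symm.trans (congrArg (· ≫ l) ?_)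
    exact (Spec.map_comp _ _).symm
  let m : Spec (Y.residueField y) ⟶ P := pullback.lift (Y.fromSpecResidueField y) (Spec.map (gyC)) hy
  haveI : Mono (Y.fromSpecResidueField y) := inferInstance
  haveI : Mono m := by
    haveI : Mono (m ≫ pullback.fst f l) := by rw [show m ≫ pullback.fst f l = _ from pullback.lift_fst _ _ _]; infer_instance
    exact mono_of_mono m (pullback.fst f l)
  let φ : Γ(P, ⊤) ⟶ Y.residueField y := m.appTop ≫ (Scheme.ΓSpecIso _).hom
  have hφγ : ∀ r, φ.hom (γ r) = gy r := fun r => by
    have e : (Scheme.ΓSpecIso (CommRingCat.of A)).inv ≫ q.appTop ≫ φ = gyC := by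
      rw [← Category.assoc q.appTop, ← Scheme.Hom.comp_appTop, show m ≫ q = _ from pullback.lift_snd _ _ _, Scheme.ΓSpecIso_naturality, Iso.inv_hom_id_assoc]
    exact RingHom.congr_fun (congrArg CommRingCat.Hom.hom e) r
  have hepi : Epi φ := by
    refine ⟨fun u v huv => Spec.map_injective ((cancel_mono (m ≫ P.isoSpec.hom)).1 ?_)⟩
    have hm : m ≫ P.isoSpec.hom = Spec.map φ := by
      rw [← Scheme.isoSpec_hom_naturality, Scheme.isoSpec_Spec_hom, ← Spec.map_comp]
    rw [hm, ← Spec.map_comp, ← Spec.map_comp, huv]
  letI : Algebra A Γ(P, ⊤) := γ.toAlgebra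
  have hfin : RingHom.Finite γ := by
    refine RingHom.Finite.comp (Scheme.Hom.finite_appTop q) ?_
    exact RingHom.Finite.of_surjective _ (ConcreteCategory.bijective_of_isIso (Scheme.ΓSpecIso (CommRingCat.of A)).inv).2
  have het : γ.Etale := RingHom.Etale.respectsIso.2 _ (Scheme.ΓSpecIso (CommRingCat.of A)).symm.commRingCatIsoToRingEquiv
    ((HasRingHomProperty.iff_of_isAffine (P := @Etale)).1 (inferInstance : Etale q))
  haveI : Algebra.Etale A Γ(P, ⊤) := RingHom.etale_algebraMap.1 het
  haveI : Module.Finite A Γ(P, ⊤) := RingHom.finite_algebraMap.1 hfin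
  refine Groth.Agent.EtRamLib.tame_of_unramified (fun π hπ h0 => hπ.ne_zero (Subtype.ext ((f.residueFieldMap y).hom.injective (h0.trans (map_zero _).symm)))) fun W hW => ?_
  letI : Algebra A W := (RingHom.codRestrict _ W hW.1).toAlgebra
  intro _
  have hPW : ∀ e, φ.hom e ∈ W := fun e => by
    obtain ⟨p, hp, hpe⟩ := Algebra.IsIntegral.isIntegral (R := A) e
    have h1 : IsIntegral W (φ.hom e) := ⟨p.map (algebraMap A W), hp.map _, by
      rw [Polynomial.eval₂_map]
      have h2 := congrArg φ.hom hpe
      rw [map_zero, Polynomial.hom_eval₂] at h2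
      rw [show (algebraMap W (Y.residueField y)).comp (algebraMap A W) = φ.hom.comp (algebraMap A Γ(P, ⊤)) from RingHom.ext fun r => (hφγ r).symm]
      exact h2⟩
    obtain ⟨w, hw⟩ := IsIntegrallyClosed.isIntegral_iff.1 h1
    rw [← hw]; exact w.2
  let θ : Γ(P, ⊤) →ₐ[A] W :=
    { φ.hom.codRestrict W hPW with commutes' := fun r => Subtype.ext (hφγ r) }
  refine Groth.Agent.EtRamLib.formallyUnramified_of_birational W hW θ (fun π hπ h0 => hπ.ne_zero (Subtype.ext ((f.residueFieldMap y).hom.injective (h0.trans (map_zero _).symm)))) fun z => ?_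
  let S := Subfield.closure (Set.range fun t => (θ t : Y.residueField y))
  by_contra hz
  let ψ : CommRingCat.of S ⟶ Y.residueField y := CommRingCat.ofHom S.subtype
  let φS : Γ(P, ⊤) ⟶ CommRingCat.of S := CommRingCat.ofHom (φ.hom.codRestrict S fun e => Subfield.subset_closure ⟨e, rfl⟩)
  haveI : Epi ψ := by
    haveI : Epi (φS ≫ ψ) := hepi
    exact epi_of_epi φS ψ
  haveI hE : Algebra.IsEpi S (Y.residueField y) := CommRingCat.epi_iff_epi.mp (inferInstanceAs (Epi ψ))
  have hli : LinearIndependent S ![(1 : Y.residueField y), z] := by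
    rw [LinearIndependent.pair_iff' one_ne_zero]
    intro c hc
    exact hz (hc ▸ (by simpa [Subfield.smul_def] using c.2))
  classical
  obtain ⟨μ, hμ1, hμz⟩ : ∃ μ : Y.residueField y →ₗ[S] S, μ 1 = 0 ∧ μ z = 1 := by
    let b := Module.Basis.extend hli.linearIndepOn_id
    have h1 : (1 : Y.residueField y) ∈ hli.linearIndepOn_id.extend (Set.subset_univ _) := hli.linearIndepOn_id.subset_extend _ ⟨0, rfl⟩
    have h2 : z ∈ hli.linearIndepOn_id.extend (Set.subset_univ _) := hli.linearIndepOn_id.subset_extend _ ⟨1, rfl⟩
    have hne : (⟨1, h1⟩ : hli.linearIndepOn_id.extend (Set.subset_univ _)) ≠ ⟨z, h2⟩ := fun e => hz (by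
      have e' : (1 : Y.residueField y) = z := congrArg Subtype.val e
      rw [← e']
      exact S.one_mem)
    refine ⟨b.coord ⟨z, h2⟩, ?_, ?_⟩
    · have := b.repr_self ⟨1, h1⟩
      rw [Module.Basis.extend_apply_self] at this
      rw [Module.Basis.coord_apply, this, Finsupp.single_apply, if_neg hne]
    · have := b.repr_self ⟨z, h2⟩
      rw [Module.Basis.extend_apply_self] at this
      rw [Module.Basis.coord_apply, this, Finsupp.single_eq_same]
  have e : TensorProduct.lid S (Y.residueField y) (TensorProduct.map μ LinearMap.id ((1 : Y.residueField y) ⊗ₜ[S] z)) =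
      TensorProduct.lid S (Y.residueField y) (TensorProduct.map μ LinearMap.id (z ⊗ₜ[S] (1 : Y.residueField y))) := by
    rw [(Algebra.isEpi_iff_forall_one_tmul_eq S (Y.residueField y)).1 hE z]
  rw [TensorProduct.map_tmul, TensorProduct.map_tmul, TensorProduct.lid_tmul, TensorProduct.lid_tmul, hμ1, hμz,
    zero_smul, one_smul] at e
  exact zero_ne_one e

end Groth.Agent.S18596
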