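import Groth.Statements.S18597
import Groth.Agent.EtRamLib.GaloisTame
-- import your own Groth.Agent.* helpers here

set_option autoImplicit false
universe u
open EtRam

attribute [-instance] CategoryTheory.catToReflQuiver

namespace Groth.Agent.S18597

open AlgebraicGeometry CategoryTheory in
/-- Let k be a perfect field and X a k-scheme. A finite étale cover of X by a torsor under a finite
group of order prime to the characteristic of k is curve-tame, i.e. tamely ramified at every place
at infinity of every regular k-curve mapping to X. Stated here unfolded at a single place and for a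
connected Galois cover Z ⟶ X (the X-automorphisms of Z act transitively on geometric fibres) whose
automorphism group has order invertible in k: for every point z of Z with image x and every discrete
valuation ring A of the residue field κ(x) through which Spec κ(x) ⟶ Spec k factors (so A contains k
and has the residue characteristic of k), the finite separable extension κ(z) of κ(x) is tamely
ramified with respect to A. Without the factorisation through Spec A the claim fails already for X =
Spec ℚ, Z = Spec ℚ(√2) and A = ℤ localised at 2. (The published statement is for torsors under a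
finite abelian group of order prime to the characteristic; a connected component of such a torsor is
a Galois cover of this kind.) -/
theorem result
    (k : Type u) [Field k] [PerfectField k] {X : Scheme.{u}} (s : X ⟶ Spec (CommRingCat.of k))
    (Z : FEt.Cat X) (hZ : PiSp.IsGaloisCover Z) (hn : (Nat.card (Aut Z) : k) ≠ 0) (z : Z.left)
    (A : ValuationSubring (X.residueField (Z.hom.base z))) [IsDiscreteValuationRing A]
    (a : Spec (CommRingCat.of A) ⟶ Spec (CommRingCat.of k))
    (ha : Spec.map (CommRingCat.ofHom A.subtype) ≫ a = X.fromSpecResidueField (Z.hom.base z) ≫ s) :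
    EtRam.IsTamelyRamified A ((Z.hom.residueFieldMap z).hom.comp A.subtype) := by
  have hfin' : (Z.hom.residueFieldMap z).hom.Finite := by
    let f : Z.left ⟶ X := Z.hom
    haveI : IsFinite f := Z.prop.1
    haveI : Etale f := Z.prop.2
    algebraize [(f.stalkMap z).hom]
    have : IsLocalHom (algebraMap (X.presheaf.stalk (f.base z)) (Z.left.presheaf.stalk z)) := inferInstanceAs <| IsLocalHom (f.stalkMap z).hom
    have : Algebra.EssFiniteType (X.presheaf.stalk (f.base z)) (Z.left.presheaf.stalk z) := by
      rw [← RingHom.essFiniteType_algebraMap, RingHom.algebraMap_toAlgebra]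
      exact LocallyOfFiniteType.stalkMap f z
    have : Algebra.FormallyUnramified (X.presheaf.stalk (f.base z)) (Z.left.presheaf.stalk z) := by
      rw [← RingHom.formallyUnramified_algebraMap, RingHom.algebraMap_toAlgebra]
      exact FormallyUnramified.stalkMap f z
    have h2 : Module.Finite (IsLocalRing.ResidueField (X.presheaf.stalk (f.base z))) (IsLocalRing.ResidueField (Z.left.presheaf.stalk z)) := inferInstance
    have e : (f.residueFieldMap z).hom = algebraMap (IsLocalRing.ResidueField (X.presheaf.stalk (f.base z))) (IsLocalRing.ResidueField (Z.left.presheaf.stalk z)) := by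
      refine RingHom.ext fun w => ?_
      obtain ⟨w, rfl⟩ := IsLocalRing.residue_surjective w
      rfl
    have h3 : (f.residueFieldMap z).hom.Finite := by
      rw [e]
      have h2' : (algebraMap (IsLocalRing.ResidueField (X.presheaf.stalk (f.base z))) (IsLocalRing.ResidueField (Z.left.presheaf.stalk z))).Finite := RingHom.finite_algebraMap.2 h2
      exact h2'
    exact h3
  letI algF : Algebra (X.residueField (Z.hom.base z)) (Z.left.residueField z) := (Z.hom.residueFieldMap z).hom.toAlgebra
  let f : Z.left ⟶ X := Z.hom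
  haveI : IsFinite f := Z.prop.1
  haveI : Etale f := Z.prop.2
  let F := Z.left.residueField z
  let K := X.residueField (Z.hom.base z)
  haveI hsep : Algebra.IsSeparable K F :=
    (inferInstance : letI : Algebra (X.residueField (f.base z)) (Z.left.residueField z) := (f.residueFieldMap z).hom.toAlgebra; Algebra.IsSeparable (X.residueField (f.base z)) (Z.left.residueField z))
  haveI hfin : Module.Finite K F := RingHom.finite_algebraMap.1 (hfin' : (algebraMap K F).Finite)
  let Ω := AlgebraicClosure F
  let ι : Spec F ⟶ Z.left := Z.left.fromSpecResidueField z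
  let R : Aut Z → (F →+* F) → Prop := fun g τ => ι ≫ g.hom.left = Spec.map (CommRingCat.ofHom τ) ≫ ι
  have hKι : ∀ {L : Type u} [Field L] (σ : F →+* L), (Spec.map (CommRingCat.ofHom σ) ≫ ι) ≫ Z.hom = Spec.map (CommRingCat.ofHom (σ.comp (algebraMap K F))) ≫ X.fromSpecResidueField (Z.hom.base z) := fun {L} _ σ => by
    rw [Category.assoc, show ι ≫ Z.hom = _ from (Scheme.Hom.SpecMap_residueFieldMap_fromSpecResidueField f z).symm, ← Category.assoc, ← Spec.map_comp]
    rfl
  have lift : ∀ σ : F →ₐ[K] Ω, ∃ (g : Aut Z) (τ : F →+* F), R g τ ∧ σ.toRingHom = (algebraMap F Ω).comp τ := fun σ => by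
    let ξ : Spec (CommRingCat.of Ω) ⟶ X := (Spec.map (CommRingCat.ofHom (algebraMap F Ω)) ≫ ι) ≫ Z.hom
    have hσ : (Spec.map (CommRingCat.ofHom σ.toRingHom) ≫ ι) ≫ Z.hom = ξ := by
      show _ = (Spec.map (CommRingCat.ofHom (algebraMap F Ω)) ≫ ι) ≫ Z.hom
      rw [hKι, hKι, show σ.toRingHom.comp (algebraMap K F) = (algebraMap F Ω).comp (algebraMap K F) from RingHom.ext fun w => (σ.commutes w).trans (IsScalarTower.algebraMap_apply K F Ω w)]
    obtain ⟨g, hg⟩ := hZ.2 Ω ξ ⟨_, rfl⟩ ⟨_, hσ⟩
    have hg' : (Spec.map (CommRingCat.ofHom (algebraMap F Ω)) ≫ ι) ≫ g.hom.left = Spec.map (CommRingCat.ofHom σ.toRingHom) ≫ ι := congrArg Subtype.val hg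
    have hz : g.hom.left.base z = z := by
      have h1 : (g.hom.left).base (ι.base ((Spec.map (CommRingCat.ofHom (algebraMap F Ω))).base (IsLocalRing.closedPoint Ω))) = ι.base ((Spec.map (CommRingCat.ofHom σ.toRingHom)).base (IsLocalRing.closedPoint Ω)) :=
        congrArg (fun (m : Spec (CommRingCat.of Ω) ⟶ Z.left) => m.base (IsLocalRing.closedPoint Ω)) hg'
      erw [Scheme.fromSpecResidueField_apply, Scheme.fromSpecResidueField_apply] at h1
      exact h1
    let τ : F ⟶ F := (Z.left.residueFieldCongr hz).inv ≫ g.hom.left.residueFieldMap z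
    have hR : ι ≫ g.hom.left = Spec.map τ ≫ ι := by
      rw [Spec.map_comp, Category.assoc, ← Scheme.Hom.SpecMap_residueFieldMap_fromSpecResidueField g.hom.left z]
      congr 1
      simp [ι]
    refine ⟨g, τ.hom, hR, ?_⟩
    rw [Category.assoc, hR, ← Category.assoc, ← Spec.map_comp, cancel_mono] at hg'
    exact (congrArg CommRingCat.Hom.hom (Spec.map_injective hg')).symm
  have huniq : ∀ τ τ' : F →+* F, ∀ g, R g τ → R g τ' → τ = τ' := fun τ τ' g h h' =>
    congrArg CommRingCat.Hom.hom (Spec.map_injective ((cancel_mono ι).1 (h.symm.trans h')))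
  have hsurj : Function.Surjective (fun σ : F ≃ₐ[K] F => (IsScalarTower.toAlgHom K F Ω).comp σ.toAlgHom) := fun σ => by
    obtain ⟨g, τ, hR, hτ⟩ := lift σ
    let τ' : F →ₐ[K] F := { τ with commutes' := fun w => (algebraMap F Ω).injective ((RingHom.congr_fun hτ (algebraMap K F w)).symm.trans ((σ.commutes w).trans (IsScalarTower.algebraMap_apply K F Ω w))) }
    exact ⟨AlgEquiv.ofBijective τ' (Algebra.IsAlgebraic.algHom_bijective τ'), AlgHom.ext fun w => (RingHom.congr_fun hτ w).symm⟩
  have hinj : Function.Injective (fun σ : F ≃ₐ[K] F => (IsScalarTower.toAlgHom K F Ω).comp σ.toAlgHom) := fun σ σ' h =>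
    AlgEquiv.ext fun w => (algebraMap F Ω).injective (AlgHom.congr_fun h w)
  haveI : IsGalois K F := IsGalois.of_card_aut_eq_finrank K F (by
    rw [Nat.card_congr (Equiv.ofBijective _ ⟨hinj, hsurj⟩), Nat.card_eq_fintype_card, AlgHom.card K F Ω])
  refine Groth.Agent.EtRamLib.tame_of_galois A K (M := F) (fun h0 => hn ?_)
  let ρ : k →+* IsLocalRing.ResidueField A := (IsLocalRing.residue A).comp (Spec.preimage a).hom
  obtain ⟨p, hp⟩ := CharP.exists (IsLocalRing.ResidueField A)
  haveI : CharP k p := (ρ.charP_iff_charP p).2 hp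
  rw [CharP.cast_eq_zero_iff (IsLocalRing.ResidueField A) p] at h0
  rw [CharP.cast_eq_zero_iff k p]
  rcases CharP.char_is_prime_or_zero (IsLocalRing.ResidueField A) p with hpp | hpp
  swap
  · subst hpp
    exact absurd (zero_dvd_iff.1 h0) (Nat.card_pos (α := F ≃ₐ[K] F)).ne'
  haveI : Fact p.Prime := ⟨hpp⟩
  obtain ⟨σ, hσ⟩ := exists_prime_orderOf_dvd_card' p h0
  obtain ⟨g, τ, hR, hτ⟩ := lift ((IsScalarTower.toAlgHom K F Ω).comp σ.toAlgHom)
  have hτσ : τ = σ.toAlgHom.toRingHom := RingHom.ext fun w => (algebraMap F Ω).injective (RingHom.congr_fun hτ w).symm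
  subst hτσ
  have hpow : ∀ m : ℕ, R (g ^ m) (σ ^ m).toAlgHom.toRingHom := fun m => by
    induction m with
    | zero =>
      show ι ≫ (𝟙 Z : Z ⟶ Z).left = Spec.map (𝟙 F) ≫ ι
      rw [Spec.map_id, Category.id_comp]
      exact Category.comp_id ι
    | succ m ih =>
      show ι ≫ (g ^ (m + 1)).hom.left = _
      rw [pow_succ g m, pow_succ' σ m]
      show ι ≫ g.hom.left ≫ (g ^ m).hom.left = _
      rw [← Category.assoc, show ι ≫ g.hom.left = _ from hR, Category.assoc, show ι ≫ (g ^ m).hom.left = _ from ih, ← Category.assoc, ← Spec.map_comp]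
      rfl
  rw [← hσ]
  refine orderOf_dvd_of_pow_eq_one (AlgEquiv.ext fun w => ?_)
  have h1 := hpow (Nat.card (Aut Z))
  rw [pow_card_eq_one'] at h1
  have h2 := hpow 0
  rw [pow_zero, pow_zero] at h2
  exact RingHom.congr_fun (huniq _ _ 1 h1 h2) w

end Groth.Agent.S18597
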