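import Groth.Statements.S18619
import Groth.Agent.BlowCoh.CokerSimple
-- import your own Groth.Agent.* helpers here

set_option autoImplicit false
set_option backward.isDefEq.respectTransparency false
set_option backward.isDefEq.respectTransparency.types false
universe u
open VBPn

namespace Groth.Agent.S18619

open CategoryTheory CategoryTheory.Limits AlgebraicGeometry TopologicalSpace in
/-- Let k be an algebraically closed field of characteristic zero, n ≥ 2, Z = {p_1, …, p_s} distinct
closed points of P^n_k and π : X → P^n_k a blow-up of P^n_k in the ideal of the reduced set Z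
(universal property); write O_X(−e₀) = π^*O(−1), O_X(−2e₀) = π^*O(−2). Let f, f′ : P → Q be
monomorphisms of O_X-modules with P ≅ O_X(−2e₀)^a and Q ≅ O_X(−e₀)^b whose cokernels E and E′ are
finite locally free of rank b − a. Then E ≅ E′ (existence of an isomorphism) if and only if f and f′
lie in one orbit of Aut(Q) × Aut(P), that is f ≫ β = γ ≫ f′ for some automorphisms β of Q and γ of
P. (The published statement takes f and f′ in the open set of matrices of linear forms that are
surjective on global sections after dualising; the argument does not use that condition and it is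
not assumed here.) -/
theorem result (k : Type u) [Field k] [IsAlgClosed k] [CharZero k]
    (n : ℕ) (hn : 2 ≤ n) (s : ℕ) (P : Fin s → ↥(CohB1.ProjSpace n k)) (hP : Function.Injective P)
    (hPc : ∀ i, IsClosed ({P i} : Set ↥(CohB1.ProjSpace n k))) (hZ : IsClosed (Set.range P))
    (X : Scheme.{u}) (π : X ⟶ CohB1.ProjSpace n k)
    (hπ : BlowUp.IsBlowUp π (Scheme.IdealSheafData.vanishingIdeal ⟨Set.range P, hZ⟩))
    (a b : ℕ) (P₁ Q₁ : X.Modules)
    (hP₁ : Nonempty (P₁ ≅ ∐ fun _ : Fin a => (Scheme.Modules.pullback π).obj (Twist.twistProjSpace n k (-2))))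
    (hQ₁ : Nonempty (Q₁ ≅ ∐ fun _ : Fin b => (Scheme.Modules.pullback π).obj (Twist.twistProjSpace n k (-1))))
    (f f' : P₁ ⟶ Q₁) [Mono f] [Mono f'] (hE : FlatMod.IsFinLocFreeOfRank (b - a) (cokernel f))
    (hE' : FlatMod.IsFinLocFreeOfRank (b - a) (cokernel f')) :
    Nonempty (cokernel f ≅ cokernel f') ↔
      ∃ (β : Q₁ ≅ Q₁) (γ : P₁ ≅ P₁), f ≫ β.hom = γ.hom ≫ f' := by
  letI : X.Over (Spec (CommRingCat.of k)) := ⟨π ≫ CohB1.ProjSpace.toSpec n k⟩
  have hZc : ∀ z ∈ (⟨Set.range P, hZ⟩ : Closeds ↥(CohB1.ProjSpace n k)), IsClosed ({z} : Set ↥(CohB1.ProjSpace n k)) := by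
    rintro _ ⟨x, rfl⟩
    exact hPc x
  haveI := Groth.Agent.BlowCoh.isEquivalence_twOne (n := n) π
  haveI : (Groth.Agent.BlowCoh.twOne π).Additive := Functor.additive_of_preserves_binary_products _
  obtain ⟨e1⟩ := Groth.Agent.BlowCoh.nonempty_twOne_iso (n := n) π
  have h0 := Groth.Agent.BlowCoh.subsingleton_twOne_two π ⟨Set.range P, hZ⟩ hπ rfl hn (Set.finite_range P) hZc 0 (by omega)
  have h1 := Groth.Agent.BlowCoh.subsingleton_twOne_two π ⟨Set.range P, hZ⟩ hπ rfl hn (Set.finite_range P) hZc 1 (by omega)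
  obtain ⟨eP⟩ := hP₁
  obtain ⟨eQ⟩ := hQ₁
  constructor
  · rintro ⟨e⟩
    obtain ⟨β, γ, h, -⟩ := Groth.Agent.BlowCoh.exists_isos_of_coker_iso k (Groth.Agent.BlowCoh.twOne π) e1 eP eQ h0 h1 f f' e
    exact ⟨β, γ, h⟩
  · rintro ⟨β, γ, h⟩
    exact ⟨cokernel.mapIso f f' γ β h⟩

end Groth.Agent.S18619
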