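import Groth.Statements.S18624
import Groth.Agent.BlowCoh.AntiKernelMain
-- import your own Groth.Agent.* helpers here

set_option autoImplicit false
set_option backward.isDefEq.respectTransparency false
set_option backward.isDefEq.respectTransparency.types false
universe u
open VBPn

namespace Groth.Agent.S18624

open scoped Groth.Agent.H23.PicMul

open CategoryTheory CategoryTheory.Limits AlgebraicGeometry TopologicalSpace in
/-- The bundles are arithmetically Cohen–Macaulay: let k be an algebraically closed field of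
characteristic zero, n ≥ 3, Z a set of s ≤ 1 closed points of P^n_k and π : X → P^n_k a blow-up of
P^n_k in the ideal of the reduced set Z (universal property; for s = 0 this is P^n_k itself). Write
O_X(e₀) = π^*O(1), let I_E be the exceptional ideal (inverse image ideal of Z), and let H be the
anticanonical module, H ≅ π^*O(n+1) ⊗ I_E^{⊗(n−1)}, with a tensor inverse H′. Let g : Q → P be an
epimorphism of O_X-modules with Q ≅ O_X(e₀)^b and P ≅ O_X(2e₀)^a (a matrix of linear forms) whose
induced map on global sections H^0(X, Q) → H^0(X, P) is surjective, and let G = ker g. Then G has no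
intermediate cohomology with respect to H: for 1 ≤ i ≤ n − 1 and every t ≥ 0, H^i(X, G ⊗ H^{⊗t}) = 0
and H^i(X, G ⊗ H′^{⊗t}) = 0. (The published statement asserts this for the dual bundle E = G^∨ and
for a, b of a particular shape; since X is smooth and proper with canonical module H′ and G is
locally free, Serre duality exchanges the two families of vanishings, and the argument uses nothing
about a, b beyond the displayed presentation and the surjectivity on global sections.) -/
theorem result (k : Type u) [Field k] [IsAlgClosed k] [CharZero k]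
    (n : ℕ) (hn : 3 ≤ n) (s : ℕ) (P : Fin s → ↥(CohB1.ProjSpace n k)) (hP : Function.Injective P)
    (hPc : ∀ i, IsClosed ({P i} : Set ↥(CohB1.ProjSpace n k))) (hZ : IsClosed (Set.range P))
    (X : Scheme.{u}) (π : X ⟶ CohB1.ProjSpace n k)
    (hπ : BlowUp.IsBlowUp π (Scheme.IdealSheafData.vanishingIdeal ⟨Set.range P, hZ⟩)) (hs : s ≤ 1)
    (a b : ℕ) (Q₂ P₂ : X.Modules)
    (hQ₂ : Nonempty (Q₂ ≅ ∐ fun _ : Fin b => (Scheme.Modules.pullback π).obj (Twist.twistProjSpace n k 1)))
    (hP₂ : Nonempty (P₂ ≅ ∐ fun _ : Fin a => (Scheme.Modules.pullback π).obj (Twist.twistProjSpace n k 2)))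
    (g : Q₂ ⟶ P₂) [Epi g]
    (hg0 : Function.Surjective (Sheaf.H.map ((SheafOfModules.toSheaf X.ringCatSheaf).map g) 0))
    (Hm Hi : X.Modules)
    (hHm : Nonempty (Hm ≅ CohB1.tensorMod ((Scheme.Modules.pullback π).obj (Twist.twistProjSpace n k ((n : ℤ) + 1)))
      (CohB1.tensorPow (ClSub.idealMod (BlowUp.exceptional π (Scheme.IdealSheafData.vanishingIdeal ⟨Set.range P, hZ⟩))) (n - 1))))
    (hHi : ClSub.IsInverseOf Hi Hm) (i t : ℕ) (hi : 1 ≤ i) (hin : i + 1 ≤ n) :
    Subsingleton (Coh.HH X (CohB1.tensorMod (kernel g) (CohB1.tensorPow Hm t)) i) ∧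
      Subsingleton (Coh.HH X (CohB1.tensorMod (kernel g) (CohB1.tensorPow Hi t)) i) := by
  letI : X.Over (Spec (CommRingCat.of k)) := ⟨π ≫ CohB1.ProjSpace.toSpec n k⟩
  have hsub : (Set.range P).Subsingleton := by
    rintro _ ⟨x, rfl⟩ _ ⟨y, rfl⟩
    exact congrArg P (Fin.ext (by omega))
  have hZc : ∀ z ∈ (⟨Set.range P, hZ⟩ : Closeds ↥(CohB1.ProjSpace n k)), IsClosed ({z} : Set ↥(CohB1.ProjSpace n k)) := by
    rintro _ ⟨x, rfl⟩
    exact hPc x
  have hS : (ShortComplex.mk (kernel.ι g) g (kernel.condition g)).ShortExact :=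
    ShortComplex.ShortExact.mk' (ShortComplex.exact_of_f_is_kernel _ (kernelIsKernel g)) inferInstance inferInstance
  have hB : Groth.Agent.BlowCoh.IsSumTw π Q₂ 1 := ⟨b, hQ₂⟩
  have hC : Groth.Agent.BlowCoh.IsSumTw π P₂ 2 := ⟨a, hP₂⟩
  have hA := Groth.Agent.BlowCoh.h1_of_surjective ⟨Set.range P, hZ⟩ hπ rfl hn (Set.finite_range P) hZc hsub hS hB hC hg0
  obtain ⟨L, hLi, hL⟩ := Groth.Agent.BlowCoh.exists_excInverse π ⟨Set.range P, hZ⟩ hπ
  refine ⟨Groth.Agent.BlowCoh.subsingleton_of_cl (k := k) ?_ i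
      (Groth.Agent.BlowCoh.kernel_anti_pow ⟨Set.range P, hZ⟩ hπ rfl hn (Set.finite_range P) hZc hsub hS hB hC hA t i hi hin),
    Groth.Agent.BlowCoh.subsingleton_of_cl (k := k) ?_ i
      (Groth.Agent.BlowCoh.kernel_anti_inverse_pow ⟨Set.range P, hZ⟩ hπ rfl hn (Set.finite_range P) hZc hsub hS hB hC hA
        hLi hL t i hi hin)⟩
  · rw [Groth.Agent.H23.PicMul.cl_tensor, Groth.Agent.BlowCoh.cl_tbi,
      Groth.Agent.BlowCoh.cl_pow_anti π ⟨Set.range P, hZ⟩ hHm t, mul_comm]
  · rw [Groth.Agent.H23.PicMul.cl_tensor, Groth.Agent.BlowCoh.cl_tbi,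
      Groth.Agent.BlowCoh.cl_pow_anti_inverse π ⟨Set.range P, hZ⟩ hL hHm hHi t, mul_comm]

end Groth.Agent.S18624
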