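import Groth.Statements.S18628
import Groth.Agent.BlowCoh.AntiTwist
-- import your own Groth.Agent.* helpers here

set_option autoImplicit false
set_option backward.isDefEq.respectTransparency false
set_option backward.isDefEq.respectTransparency.types false
universe u
open VBPn

namespace Groth.Agent.S18628

open scoped Groth.Agent.H23.PicMul

open CategoryTheory CategoryTheory.Limits AlgebraicGeometry TopologicalSpace in
/-- Let k be an algebraically closed field of characteristic zero, n ≥ 3, Z a set of s ≤ 1 closed points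
of P^n_k and π : X → P^n_k a blow-up of P^n_k in the ideal of the reduced set Z (universal
property), with O_X(e₀) = π^*O(1), exceptional ideal I_E (inverse image ideal of Z) and
anticanonical module H ≅ π^*O(n+1) ⊗ I_E^{⊗(n−1)}. Let f : P → Q be a monomorphism of O_X-modules
with P ≅ O_X(−2e₀)^a and Q ≅ O_X(−e₀)^b, and E = coker f. Then H^i(X, E ⊗ H^{⊗t}) = 0 for every 1 ≤
i ≤ n − 1 and every t ≥ 0. (This is the part of the published statement 'E is arithmetically
Cohen–Macaulay' that concerns non-negative twists; it needs no genericity of f.) -/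
theorem result (k : Type u) [Field k] [IsAlgClosed k] [CharZero k]
    (n : ℕ) (hn : 3 ≤ n) (s : ℕ) (P : Fin s → ↥(CohB1.ProjSpace n k)) (hP : Function.Injective P)
    (hPc : ∀ i, IsClosed ({P i} : Set ↥(CohB1.ProjSpace n k))) (hZ : IsClosed (Set.range P))
    (X : Scheme.{u}) (π : X ⟶ CohB1.ProjSpace n k)
    (hπ : BlowUp.IsBlowUp π (Scheme.IdealSheafData.vanishingIdeal ⟨Set.range P, hZ⟩)) (hs : s ≤ 1)
    (a b : ℕ) (P₁ Q₁ : X.Modules)
    (hP₁ : Nonempty (P₁ ≅ ∐ fun _ : Fin a => (Scheme.Modules.pullback π).obj (Twist.twistProjSpace n k (-2))))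
    (hQ₁ : Nonempty (Q₁ ≅ ∐ fun _ : Fin b => (Scheme.Modules.pullback π).obj (Twist.twistProjSpace n k (-1))))
    (f : P₁ ⟶ Q₁) [Mono f] (Hm : X.Modules)
    (hHm : Nonempty (Hm ≅ CohB1.tensorMod ((Scheme.Modules.pullback π).obj (Twist.twistProjSpace n k ((n : ℤ) + 1)))
      (CohB1.tensorPow (ClSub.idealMod (BlowUp.exceptional π (Scheme.IdealSheafData.vanishingIdeal ⟨Set.range P, hZ⟩))) (n - 1))))
    (i t : ℕ) (hi : 1 ≤ i) (hin : i + 1 ≤ n) :
    Subsingleton (Coh.HH X (CohB1.tensorMod (cokernel f) (CohB1.tensorPow Hm t)) i) := by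
  letI : X.Over (Spec (CommRingCat.of k)) := ⟨π ≫ CohB1.ProjSpace.toSpec n k⟩
  have hsub : (Set.range P).Subsingleton := by
    rintro _ ⟨x, rfl⟩ _ ⟨y, rfl⟩
    exact congrArg P (Fin.ext (by omega))
  have hZc : ∀ z ∈ (⟨Set.range P, hZ⟩ : Closeds ↥(CohB1.ProjSpace n k)), IsClosed ({z} : Set ↥(CohB1.ProjSpace n k)) := by
    rintro _ ⟨x, rfl⟩
    exact hPc x
  have hd : ((n - 1 : ℕ) : ℤ) * t ≤ ((n : ℤ) + 1) * t :=
    mul_le_mul_of_nonneg_right (by omega) (Int.natCast_nonneg t)
  have hnn : (0 : ℤ) ≤ ((n : ℤ) + 1) * t := mul_nonneg (by omega) (Int.natCast_nonneg t)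
  have hM : FlatMod.IsFinLocFree (CohB1.tensorPow Hm t) :=
    Groth.Agent.H23.PullPush.isFinLocFree_of_isInvertible (Groth.Agent.H23.PicMul.isInvertible_tensorPow
      (Groth.Agent.H23.PicMul.isInvertible_of_iso hHm.some.symm
        (Groth.Agent.BlowCoh.isInvertible_twA π _ hπ _ _)) t)
  have key : ∀ e : ℤ, PicF.cl (Groth.Agent.BlowCoh.twA π ⟨Set.range P, hZ⟩ (((n : ℤ) + 1) * t + e) ((n - 1) * t)) =
      PicF.cl ((Scheme.Modules.pullback π).obj (Twist.twistProjSpace n k e)) * PicF.cl (CohB1.tensorPow Hm t) := by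
    intro e
    rw [Groth.Agent.BlowCoh.cl_pow_anti π ⟨Set.range P, hZ⟩ hHm t, Groth.Agent.BlowCoh.cl_twA,
      Groth.Agent.BlowCoh.cl_twA, Groth.Agent.BlowCoh.cl_pullTw, Groth.Agent.BlowCoh.clT_add,
      mul_comm (Groth.Agent.BlowCoh.clT π (((n : ℤ) + 1) * t)), mul_assoc]
  refine Groth.Agent.BlowCoh.subsingleton_tensor_cokernel k f hM i ?_ ?_
  · refine Groth.Agent.BlowCoh.subsingleton_tensor_sigma k hQ₁ (key (-1)) i ?_
    exact Groth.Agent.BlowCoh.subsingleton_twA π _ hπ rfl (by omega) (Set.finite_range P) hZc hsub _ _ i hi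
      (fun _ => Or.inr (by push_cast; omega))
      (Groth.Agent.BlowCoh.subsingleton_Tw _ i (fun h => by omega) (fun h => by omega))
  · refine Groth.Agent.BlowCoh.subsingleton_tensor_sigma k hP₁ (key (-2)) (i + 1) ?_
    exact Groth.Agent.BlowCoh.subsingleton_twA π _ hπ rfl (by omega) (Set.finite_range P) hZc hsub _ _ (i + 1) (by omega)
      (fun h => absurd h (by omega))
      (Groth.Agent.BlowCoh.subsingleton_Tw _ (i + 1) (fun h => by omega) (fun h => by omega))

end Groth.Agent.S18628
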