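import Groth.Statements.S1865
import Groth.Agent.VarGeom.OpenMap

set_option autoImplicit false
universe u v
open CategoryTheory MonoidalCategory CartesianMonoidalCategory MonObj GrpObj AlgebraicGeometry
open GrpSch

namespace Groth.Agent.S1865
open CategoryTheory.Limits
set_option linter.style.haveILetI false

attribute [local instance] CategoryTheory.Hom.monoid CategoryTheory.Hom.group

theorem isOpenMap_mul {K : Type u} [Field K] (G : Over (Spec (CommRingCat.of K))) [GrpObj G] :
    IsOpenMap μ[G].left.base := by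
  let σ : G ⊗ G ⟶ G ⊗ G := lift (fst G G) μ[G]
  let τ : G ⊗ G ⟶ G ⊗ G := lift (fst G G) ((fst G G)⁻¹ * snd G G)
  have hμ : μ[G] = fst G G * snd G G := by simp [Hom.mul_def]
  have hστ : σ ≫ τ = 𝟙 _ := by
    apply CartesianMonoidalCategory.hom_ext
    · simp [σ, τ]
    · simp [σ, τ, hμ, MonObj.comp_mul, GrpObj.comp_inv]
  have hτσ : τ ≫ σ = 𝟙 _ := by
    apply CartesianMonoidalCategory.hom_ext
    · simp [σ, τ]
    · simp [σ, τ, hμ, MonObj.comp_mul, GrpObj.comp_inv]
  haveI : IsIso σ := ⟨τ, hστ, hτσ⟩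
  haveI : IsIso σ.left := inferInstanceAs (IsIso ((Over.forget _).map σ))
  haveI : UniversallyOpen G.hom := Groth.Agent.VarGeom.universallyOpen_of_field _
  haveI : UniversallyOpen (snd G G).left := inferInstanceAs (UniversallyOpen (pullback.snd G.hom G.hom))
  rw [show μ[G] = σ ≫ snd G G from (lift_snd _ _).symm]
  exact (snd G G).left.isOpenMap.comp σ.left.homeomorph.isOpenMap

theorem isCompact_rect {K : Type u} [Field K] (G : Over (Spec (CommRingCat.of K))) [GrpObj G]
    (A B : G.left.Opens) (hA : IsCompact (A : Set G.left)) (hB : IsCompact (B : Set G.left)) :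
    IsCompact ((fst G G).left.base ⁻¹' (A : Set G.left) ∩ (snd G G).left.base ⁻¹' (B : Set G.left)) := by
  haveI : CompactSpace A.toScheme := isCompact_iff_compactSpace.mp hA
  haveI : CompactSpace B.toScheme := isCompact_iff_compactSpace.mp hB
  haveI : QuasiCompact (B.ι ≫ G.hom) :=
    HasAffineProperty.iff_of_isAffine.mpr (inferInstance : CompactSpace B.toScheme)
  haveI : CompactSpace ↥(pullback (A.ι ≫ G.hom) (B.ι ≫ G.hom)) :=
    QuasiCompact.compactSpace_of_compactSpace (pullback.fst (A.ι ≫ G.hom) (B.ι ≫ G.hom))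
  have h := isCompact_range (pullback.map (A.ι ≫ G.hom) (B.ι ≫ G.hom) G.hom G.hom A.ι B.ι (𝟙 _)
    (Category.comp_id _) (Category.comp_id _)).continuous
  rw [Scheme.Pullback.range_map] at h
  simp only [Scheme.Opens.range_ι] at h
  exact h


/-- A group scheme over a field contains an open and closed subset containing the identity point which
is a countable union of affine opens. (The source does not mention the identity point; its
construction contains it, and without it the empty set would do.) -/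
theorem result (K : Type u) [Field K] (G : Over (Spec (CommRingCat.of K))) [GrpObj G] : ∃ U : G.left.Opens, IsClosed (U : Set G.left) ∧ η[G].left (IsLocalRing.closedPoint K) ∈ U ∧ ∃ V : ℕ → G.left.Opens, (∀ n, IsAffineOpen (V n)) ∧ (U : Set G.left) = ⋃ n, (V n : Set G.left) := by
  classical
  let e : G.left := η[G].left (IsLocalRing.closedPoint K)
  obtain ⟨_, ⟨U, hU, rfl⟩, heU, -⟩ :=
    G.left.isBasis_affineOpens.exists_subset_of_mem_open (Set.mem_univ e) isOpen_univ
  let iG : G ⟶ G := ι[G]
  have hii : iG ≫ iG = 𝟙 G := by simp [iG]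
  let W : G.left.Opens := U ⊔ iG.left ⁻¹ᵁ U
  have hiW : ∀ x ∈ W, iG.left.base x ∈ W := by
    rintro x (hx | hx)
    · right
      change iG.left.base (iG.left.base x) ∈ U
      rw [← Scheme.Hom.comp_apply, ← Over.comp_left, hii]
      exact hx
    · left; exact hx
  haveI : IsIso iG := ⟨iG, hii, hii⟩
  haveI : IsIso iG.left := inferInstanceAs (IsIso ((Over.forget _).map iG))
  have hWc : IsCompact (W : Set G.left) :=
    hU.isCompact.union (iG.left.homeomorph.isCompact_preimage.mpr hU.isCompact)
  let step : Set G.left → Set G.left := fun A =>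
    μ[G].left.base '' ((fst G G).left.base ⁻¹' A ∩ (snd G G).left.base ⁻¹' (W : Set G.left))
  let Q : ℕ → Set G.left := fun n => step^[n] (W : Set G.left)
  have hQ : ∀ n, IsOpen (Q n) ∧ IsCompact (Q n) := by
    intro n
    induction n with
    | zero => exact ⟨W.2, hWc⟩
    | succ n ih =>
      have hs : Q (n + 1) = step (Q n) := Function.iterate_succ_apply' _ _ _
      rw [hs]
      refine ⟨isOpenMap_mul G _ ((ih.1.preimage (fst G G).left.continuous).inter
        (W.2.preimage (snd G G).left.continuous)), IsCompact.image ?_ μ[G].left.continuous⟩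
      exact isCompact_rect G ⟨Q n, ih.1⟩ W ih.2 hWc
  let H : G.left.Opens := ⟨⋃ n, Q n, isOpen_iUnion fun n => (hQ n).1⟩
  have hclosed : IsClosed (H : Set G.left) := by
    refine isClosed_of_closure_subset fun z hz => ?_
    let Y : Over (Spec (CommRingCat.of K)) := Over.mk (G.left.fromSpecResidueField z ≫ G.hom)
    let gy : Y ⟶ G := Over.homMk (G.left.fromSpecResidueField z) rfl
    let a : Y ⊗ G ⟶ G := snd Y G
    let b : Y ⊗ G ⟶ G := (fst Y G ≫ gy) * snd Y G
    let σ : Y ⊗ G ⟶ Y ⊗ G := lift (fst Y G) b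
    let τ : Y ⊗ G ⟶ Y ⊗ G := lift (fst Y G) ((fst Y G ≫ gy)⁻¹ * snd Y G)
    have hστ : σ ≫ τ = 𝟙 _ := by
      apply CartesianMonoidalCategory.hom_ext
      · simp [σ, τ]
      · simp [σ, τ, b, MonObj.comp_mul, GrpObj.comp_inv]
    have hτσ : τ ≫ σ = 𝟙 _ := by
      apply CartesianMonoidalCategory.hom_ext
      · simp [σ, τ]
      · simp [σ, τ, b, MonObj.comp_mul, GrpObj.comp_inv]
    haveI : IsIso σ := ⟨τ, hστ, hτσ⟩
    haveI : IsIso σ.left := inferInstanceAs (IsIso ((Over.forget _).map σ))
    have ha : IsOpenMap a.left.base := by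
      haveI : UniversallyOpen Y.hom := Groth.Agent.VarGeom.universallyOpen_of_field _
      haveI : UniversallyOpen a.left := inferInstanceAs (UniversallyOpen (pullback.snd Y.hom G.hom))
      exact a.left.isOpenMap
    have hb : IsOpenMap b.left.base := by
      have e' : σ ≫ a = b := lift_snd _ _
      rw [← e']
      exact ha.comp σ.left.homeomorph.isOpenMap
    let s : Y ⟶ Y ⊗ G := lift (𝟙 Y) (toUnit Y ≫ η[G])
    have hsb : s ≫ b = gy := by
      simp only [s, b, MonObj.comp_mul, lift_fst_assoc, lift_snd, Category.id_comp]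
      exact _root_.mul_one gy
    have hzO : z ∈ b.left.base '' (a.left.base ⁻¹' (W : Set G.left)) := by
      refine ⟨s.left.base (IsLocalRing.closedPoint (G.left.residueField z)), ?_, ?_⟩
      · change a.left.base (s.left.base _) ∈ (W : Set G.left)
        rw [← Scheme.Hom.comp_apply, ← Over.comp_left, show s ≫ a = toUnit Y ≫ η[G] from lift_snd _ _,
          Over.comp_left, Scheme.Hom.comp_apply]
        haveI : Subsingleton (𝟙_ (Over (Spec (CommRingCat.of K)))).left :=
          inferInstanceAs (Subsingleton (PrimeSpectrum K))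
        left
        convert heU using 2
      · rw [← Scheme.Hom.comp_apply, ← Over.comp_left, hsb]
        exact Scheme.fromSpecResidueField_apply _ _
    obtain ⟨_, ⟨p, hp, rfl⟩, hpH⟩ :=
      mem_closure_iff.mp hz _ (hb _ (W.2.preimage a.left.continuous)) hzO
    obtain ⟨n, hn⟩ := Set.mem_iUnion.mp hpH
    refine Set.mem_iUnion.mpr ⟨n + 1, ?_⟩
    rw [show Q (n + 1) = step (Q n) from Function.iterate_succ_apply' _ _ _]
    let q : Y ⊗ G ⟶ G ⊗ G := lift b (a ≫ iG)
    refine ⟨q.left.base p, ⟨?_, ?_⟩, ?_⟩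
    · change (fst G G).left.base (q.left.base p) ∈ Q n
      rw [← Scheme.Hom.comp_apply, ← Over.comp_left, lift_fst]
      exact hn
    · change (snd G G).left.base (q.left.base p) ∈ (W : Set G.left)
      rw [← Scheme.Hom.comp_apply, ← Over.comp_left, lift_snd, Over.comp_left, Scheme.Hom.comp_apply]
      exact hiW _ hp
    · have e' : q ≫ μ[G] = fst Y G ≫ gy := by
        rw [← Hom.mul_def, ← Hom.inv_def]
        exact mul_inv_cancel_right _ _
      rw [← Scheme.Hom.comp_apply, ← Over.comp_left, e', Over.comp_left, Scheme.Hom.comp_apply]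
      exact Scheme.fromSpecResidueField_apply _ _
  have heH : e ∈ H := Set.mem_iUnion.mpr ⟨0, Or.inl heU⟩
  have hfin : ∀ n, ∃ s : Set G.left.affineOpens, s.Finite ∧ (Q n) = ⋃ i ∈ s, (i.1 : Set G.left) := by
    intro n
    obtain ⟨s, hs, he⟩ := (isCompact_iff_finite_and_eq_biUnion_affineOpens
      (U := ⟨Q n, (hQ n).1⟩)).mp (hQ n).2
    exact ⟨s, hs, by simpa using congrArg (fun O : G.left.Opens => (O : Set G.left)) he⟩
  choose s hs hQs using hfin
  let A : Set G.left.affineOpens := insert ⟨⊥, isAffineOpen_bot _⟩ (⋃ n, s n)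
  have hA : A.Countable := (Set.countable_iUnion fun n => (hs n).countable).insert _
  obtain ⟨f, hf⟩ := hA.exists_eq_range (Set.insert_nonempty _ _)
  refine ⟨H, hclosed, heH, fun n => (f n).1, fun n => (f n).2, ?_⟩
  ext x
  simp only [Set.mem_iUnion]
  constructor
  · intro hx
    obtain ⟨n, hn⟩ := Set.mem_iUnion.mp hx
    rw [hQs n] at hn
    obtain ⟨i, hi, hxi⟩ := Set.mem_iUnion₂.mp hn
    obtain ⟨m, rfl⟩ : i ∈ Set.range f := hf ▸ Set.mem_insert_of_mem _ (Set.mem_iUnion.mpr ⟨n, hi⟩)
    exact ⟨m, hxi⟩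
  · rintro ⟨m, hm⟩
    have : f m ∈ A := hf ▸ Set.mem_range_self m
    rcases this with h | h
    · rw [h] at hm; exact absurd hm (by simp)
    · obtain ⟨n, hn⟩ := Set.mem_iUnion.mp h
      refine Set.mem_iUnion.mpr ⟨n, ?_⟩
      rw [hQs n]
      exact Set.mem_iUnion₂.mpr ⟨f m, hn, hm⟩

end Groth.Agent.S1865
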