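import Groth.Statements.S1874
import Groth.Agent.H9Samuel.Positive
import Groth.Agent.H9Mult.Geom

set_option linter.style.haveILetI false
set_option backward.isDefEq.respectTransparency false
-- import your own Groth.Agent.* helpers here

set_option autoImplicit false
universe u
open CategoryTheory AlgebraicGeometry
attribute [local instance] HasDerivedCategory.standard
open IntMult

namespace Groth.Agent.S1874

/-- Suppose the ideal of V in O_{X,ξ} is generated by a regular sequence g₁, …, g_c. Then c! ·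
length(O_{W,ξ}/(g₁, …, g_c)^t O_{W,ξ}) / t^c tends to e(X, V·W, Z) as t → ∞ (so e is c! times the
leading coefficient of that Hilbert polynomial), and e(X, V·W, Z) > 0. Here X is a nonsingular
variety over an algebraically closed field K (smooth, separated, of finite type, integral), V and W
are closed subvarieties given by quasi-coherent ideal sheaves with integral subschemes, of
dimensions r and s with dim X = n, intersecting properly, and ξ is the generic point of an
irreducible component Z of V ∩ W; e(X, V·W, Z) is the alternating sum of lengths of Tor over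
O_{X,ξ}. -/
theorem result (K : Type u) [Field K] [IsAlgClosed K] (X : Scheme.{u}) (f : X ⟶ Spec (CommRingCat.of K)) [Smooth f] [IsSeparated f] [QuasiCompact f] [IsIntegral X] (IV IW : X.IdealSheafData) [IsIntegral IV.subscheme] [IsIntegral IW.subscheme] (n r s : ℕ) (hn : topologicalKrullDim X = n) (hr : topologicalKrullDim IV.support = r) (hs : topologicalKrullDim IW.support = s) (hprop : IntMult.ProperInt (IV.support : Set X) (IW.support : Set X) n r s) (ξ : X) (hξV : ξ ∈ IV.support) (hξW : ξ ∈ IW.support) (hmax : ∀ ξ' : X, ξ' ∈ IV.support → ξ' ∈ IW.support → ξ' ⤳ ξ → ξ' = ξ) (c : ℕ) (g : Fin c → ↑(X.presheaf.stalk ξ)) (hg : IntMult.stalkIdeal IV ξ = Ideal.span (Set.range g)) (hreg : RingTheory.Sequence.IsRegular (↑(X.presheaf.stalk ξ)) (List.ofFn g)) : Filter.Tendsto (fun t : ℕ => (c.factorial : ℝ) * ((Module.length (X.presheaf.stalk ξ) (↑(X.presheaf.stalk ξ) ⧸ (IntMult.stalkIdeal IW ξ ⊔ IntMult.stalkIdeal IV ξ ^ t))).toNat : ℝ) / (t : ℝ) ^ c) Filter.atTop (nhds (IntMult.mult IV IW ξ : ℝ)) ∧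 0 < IntMult.mult IV IW ξ := by
  obtain ⟨hR, D, a, b, hD, ha, hb, hle⟩ := Groth.Agent.H9Mult.local_data f IV IW n r s hn hr hs hprop ξ hξV hξW
  haveI : IsLocallyNoetherian X := LocallyOfFiniteType.isLocallyNoetherian f
  obtain ⟨e, he⟩ := Groth.Agent.H9Mult.exists_pow_le IV IW ξ hmax
  have hca : (a : WithBot ℕ∞) + c = D := by
    rw [← ha, ← hD, hg, ← ringKrullDim_add_length_eq_ringKrullDim_of_isRegular (List.ofFn g) hreg, List.length_ofFn]
    congr 1
    exact ringKrullDim_eq_of_ringEquiv (Ideal.quotEquivOfEq (congrArg Ideal.span (Set.ext fun x => by simp [List.mem_ofFn])))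
  have hcb : c ≤ b := by
    have : a + c = D := by exact_mod_cast hca
    omega
  haveI : Nontrivial (↑(X.presheaf.stalk ξ) ⧸ IntMult.stalkIdeal IW ξ) := by
    by_contra hn'
    rw [not_nontrivial_iff_subsingleton] at hn'
    rw [ringKrullDim_eq_bot_of_subsingleton] at hb
    exact WithBot.bot_ne_natCast b hb
  have hlem : Ideal.span (Set.range g) ≤ IsLocalRing.maximalIdeal (X.presheaf.stalk ξ) := by
    refine IsLocalRing.le_maximalIdeal fun htop => ?_
    rw [hg, htop] at ha
    haveI : Subsingleton (↑(X.presheaf.stalk ξ) ⧸ (⊤ : Ideal (X.presheaf.stalk ξ))) := Ideal.Quotient.subsingleton_iff.2 rfl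
    rw [ringKrullDim_eq_bot_of_subsingleton] at ha
    exact WithBot.bot_ne_natCast a ha
  have hmax' : Groth.Agent.HSLib.MaxSupp (Ideal.span (Set.range g)) (↑(X.presheaf.stalk ξ) ⧸ IntMult.stalkIdeal IW ξ) := by
    intro p hp hpg
    have h1 : IntMult.stalkIdeal IW ξ ≤ p.asIdeal := by
      have := Module.annihilator_le_of_mem_support hp
      rwa [Ideal.annihilator_quotient] at this
    have h2 : IsLocalRing.maximalIdeal (X.presheaf.stalk ξ) ^ e ≤ p.asIdeal := he.trans (sup_le (hg.trans_le hpg) h1)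
    rw [← (IsLocalRing.maximalIdeal.isMaximal (X.presheaf.stalk ξ)).eq_of_le p.2.ne_top (p.2.le_of_pow_le h2)]
    exact IsLocalRing.maximalIdeal.isMaximal (X.presheaf.stalk ξ)
  have hmult : IntMult.mult IV IW ξ = IntMult.chi (X.presheaf.stalk ξ) (↑(X.presheaf.stalk ξ) ⧸ Ideal.span (Set.range g)) (↑(X.presheaf.stalk ξ) ⧸ IntMult.stalkIdeal IW ξ) := by
    rw [IntMult.mult, Groth.Agent.H9Samuel.chi_comm, hg]
  rw [hmult, hg]
  refine ⟨?_, Groth.Agent.H9Samuel.chi_pos g _ hreg.toIsWeaklyRegular hlem hmax' ?_⟩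
  · rw [Groth.Agent.H9Samuel.chi_eq_euler g _ hreg.toIsWeaklyRegular]
    refine (Groth.Agent.H9Samuel.tendsto_euler_of_maxSupp g (↑(X.presheaf.stalk ξ) ⧸ IntMult.stalkIdeal IW ξ) hmax').congr fun t => ?_
    rw [Groth.Agent.H9Samuel.length_quot_quot]
  · rw [Module.supportDim_quotient_eq_ringKrullDim, hb]
    exact_mod_cast hcb

end Groth.Agent.S1874
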