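import Groth.Statements.S18762
import Groth.Agent.SchTorsor.Props
import Groth.Agent.IsogLib.ChowDescent

set_option linter.style.haveILetI false
set_option backward.isDefEq.respectTransparency false
set_option backward.isDefEq.respectTransparency.types false


set_option autoImplicit false
universe u
open CategoryTheory CategoryTheory.Limits MonoidalCategory CartesianMonoidalCategory MonObj GrpObj AlgebraicGeometry
open NonAbH1

attribute [-instance] CategoryTheory.catToReflQuiver

namespace Groth.Agent.S18762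

/-- Let X be a connected scheme over a field k with a rational point x, let G, G₁, G₂ be finite group
schemes over k with homomorphisms φ₁ : G₁ → G and φ₂ : G₂ → G, and let T, T₁, T₂ be torsors over X
(fppf-locally trivial) under the base changes to X of G, G₁, G₂ respectively, each pointed by a
k-point lying over x. Let f₁ : T₁ → T and f₂ : T₂ → T be morphisms of pointed torsors: X-morphisms
which intertwine the actions along φ₁, φ₂ and send the marked points of T₁, T₂ to that of T. Then
the fibre product T₁ ×_T T₂ maps surjectively onto X. (The published statement assumes X also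
quasi-compact and reduced and concludes that T₁ ×_T T₂ is a torsor over X; this row assumes only X
connected and concludes that T₁ ×_T T₂ maps onto X.) -/
theorem result
    (k : Type u) [Field k] (X : Scheme.{u}) [X.Over (Spec (CommRingCat.of k))] [ConnectedSpace X]
    (x : Spec (CommRingCat.of k) ⟶ X) (hx : x ≫ (X ↘ Spec (CommRingCat.of k)) = 𝟙 _)
    (G G₁ G₂ : Over (Spec (CommRingCat.of k))) [GrpObj G] [GrpObj G₁] [GrpObj G₂]
    [IsFinite G.hom] [IsFinite G₁.hom] [IsFinite G₂.hom]
    (φ₁ : G₁ ⟶ G) (φ₂ : G₂ ⟶ G) [IsMonHom φ₁] [IsMonHom φ₂]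
    (T T₁ T₂ : Over X)
    (a : AlgGrp.Action (Red.bc (X ↘ Spec (CommRingCat.of k)) G) T)
    (a₁ : AlgGrp.Action (Red.bc (X ↘ Spec (CommRingCat.of k)) G₁) T₁)
    (a₂ : AlgGrp.Action (Red.bc (X ↘ Spec (CommRingCat.of k)) G₂) T₂)
    (hT : NonAbH1.IsTorsorFor Scheme.fppfPrecoverage a)
    (hT₁ : NonAbH1.IsTorsorFor Scheme.fppfPrecoverage a₁)
    (hT₂ : NonAbH1.IsTorsorFor Scheme.fppfPrecoverage a₂)
    (t : Spec (CommRingCat.of k) ⟶ T.left) (t₁ : Spec (CommRingCat.of k) ⟶ T₁.left)
    (t₂ : Spec (CommRingCat.of k) ⟶ T₂.left)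
    (ht : t ≫ T.hom = x) (ht₁ : t₁ ≫ T₁.hom = x) (ht₂ : t₂ ≫ T₂.hom = x)
    (f₁ : T₁ ⟶ T) (f₂ : T₂ ⟶ T)
    (hf₁ : AlgGrp.Action.IsEquivariant a₁ (a.restrict ((Over.pullback (X ↘ Spec (CommRingCat.of k))).map φ₁)) f₁)
    (hf₂ : AlgGrp.Action.IsEquivariant a₂ (a.restrict ((Over.pullback (X ↘ Spec (CommRingCat.of k))).map φ₂)) f₂)
    (hft₁ : t₁ ≫ f₁.left = t) (hft₂ : t₂ ≫ f₂.left = t) :
    Surjective (pullback f₁ f₂).hom := by
  have hfpqc : ∀ {G' : Over (Spec (CommRingCat.of k))} [GrpObj G'] {T' : Over X}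
      {a' : AlgGrp.Action (Red.bc (X ↘ Spec (CommRingCat.of k)) G') T'},
      NonAbH1.IsTorsorFor Scheme.fppfPrecoverage a' → NonAbH1.IsTorsorFor Scheme.fpqcPrecoverage a' :=
    fun {G'} _ {T'} {a'} h => ⟨h.1, h.2.choose, Scheme.fppfPrecoverage_le_fpqcPrecoverage _ h.2.choose_spec.1,
      h.2.choose_spec.2⟩
  haveI := EtFound.fpqc_isFinite.{u}
  have hprops : ∀ {G' : Over (Spec (CommRingCat.of k))} [GrpObj G'] [IsFinite G'.hom] {T' : Over X}
      {a' : AlgGrp.Action (Red.bc (X ↘ Spec (CommRingCat.of k)) G') T'},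
      NonAbH1.IsTorsorFor Scheme.fppfPrecoverage a' →
        IsFinite T'.hom ∧ Flat T'.hom ∧ LocallyOfFinitePresentation T'.hom := fun {G'} _ _ {T'} {a'} h => by
    have h1 : IsFinite (Red.bc (X ↘ Spec (CommRingCat.of k)) G').hom := MorphismProperty.pullback_snd G'.hom _ inferInstance
    have h2 : Flat (Red.bc (X ↘ Spec (CommRingCat.of k)) G').hom := MorphismProperty.pullback_snd G'.hom _ inferInstance
    have h3 : LocallyOfFinitePresentation (Red.bc (X ↘ Spec (CommRingCat.of k)) G').hom :=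
      MorphismProperty.pullback_snd G'.hom _ inferInstance
    exact ⟨SchTorsor.torsor_property @IsFinite (hfpqc h) h1, SchTorsor.torsor_property @Flat (hfpqc h) h2,
      SchTorsor.torsor_property @LocallyOfFinitePresentation (hfpqc h) h3⟩
  obtain ⟨hF₁, hL₁, hP₁⟩ := hprops hT₁
  obtain ⟨hF₂, hL₂, hP₂⟩ := hprops hT₂
  let P : Over X := T₁ ⊗ T₂
  have hPdef : P.hom = pullback.fst T₁.hom T₂.hom ≫ T₁.hom := rfl
  obtain ⟨g, hg⟩ := SchTorsor.exists_div hT.1 (CartesianMonoidalCategory.snd T₁ T₂ ≫ f₂)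
    (CartesianMonoidalCategory.fst T₁ T₂ ≫ f₁)
  haveI : DiscreteTopology ↥G.left := by
    haveI : IsAffine G.left := isAffine_of_isAffineHom G.hom
    obtain ⟨ψ, hψ⟩ := Spec.map_surjective (G.left.isoSpec.inv ≫ G.hom)
    have h1 : IsFinite (Spec.map ψ) := by rw [hψ]; infer_instance
    letI : Algebra k Γ(G.left, ⊤) := ψ.hom.toAlgebra
    haveI : Module.Finite k Γ(G.left, ⊤) := (IsFinite.SpecMap_iff ψ).1 h1
    haveI : IsArtinianRing Γ(G.left, ⊤) := IsArtinianRing.of_finite k _
    exact DiscreteTopology.of_continuous_injective G.left.isoSpec.hom.continuous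
      G.left.isoSpec.hom.homeomorph.injective
  let pr : (Red.bc (X ↘ Spec (CommRingCat.of k)) G).left ⟶ G.left := pullback.fst G.hom (X ↘ Spec (CommRingCat.of k))
  let ψ : P.left ⟶ G.left := g.left ≫ pr
  let e : ↥G.left := η[G].left (IsLocalRing.closedPoint k)
  let C : Set ↥P.left := ψ ⁻¹' {e}
  have hC : IsClopen C := ⟨(isClosed_discrete _).preimage ψ.continuous, (isOpen_discrete _).preimage ψ.continuous⟩
  have hfin : IsFinite P.hom := by rw [hPdef]; infer_instance
  have hflat : Flat P.hom := by rw [hPdef]; infer_instance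
  have hlfp : LocallyOfFinitePresentation P.hom := by rw [hPdef]; infer_instance
  have himg : IsClopen (P.hom '' C) := ⟨P.hom.isClosedMap _ hC.1, P.hom.isOpenMap _ hC.2⟩
  have hne : (P.hom '' C).Nonempty := by
    refine Set.Nonempty.image _ ?_
    let tt : Over.mk x ⟶ P := CartesianMonoidalCategory.lift (Over.homMk t₁ ht₁) (Over.homMk t₂ ht₂)
    let pt : ↥(Spec (CommRingCat.of k)) := IsLocalRing.closedPoint k
    refine ⟨tt.left pt, ?_⟩
    have h1 : (tt ≫ g) = 1 := by
      refine SchTorsor.act_free hT.1 (y := Over.homMk t ht) ?_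
      rw [SchTorsor.one_act_pt]
      have h := tt ≫= hg
      rw [← Category.assoc, comp_lift, lift_snd_assoc, lift_fst_assoc] at h
      have e₁ : (Over.homMk t₁ ht₁ : Over.mk x ⟶ T₁) ≫ f₁ = Over.homMk t ht := Over.OverMorphism.ext hft₁
      have e₂ : (Over.homMk t₂ ht₂ : Over.mk x ⟶ T₂) ≫ f₂ = Over.homMk t ht := Over.OverMorphism.ext hft₂
      rwa [e₁, e₂] at h
    show ψ (tt.left pt) = e
    have h2 : tt.left ≫ ψ = η[G].left := by
      show tt.left ≫ g.left ≫ pr = _
      rw [← Category.assoc, ← Over.comp_left, h1, Hom.one_def, Over.comp_left, Category.assoc,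
        IsogLib.one_bc_left_fst, Over.toUnit_left, ← Category.assoc]
      exact (congrArg (· ≫ η[G].left) hx).trans (Category.id_comp _)
    exact congrArg (fun m => m pt) h2
  refine ⟨fun z => ?_⟩
  obtain ⟨p, hp, rfl⟩ : z ∈ P.hom '' C := by rw [himg.eq_univ hne]; trivial
  let K := P.left.residueField p
  let a₀ : Over.mk (P.left.fromSpecResidueField p ≫ P.hom) ⟶ P := Over.homMk (P.left.fromSpecResidueField p) rfl
  let pt : ↥(Spec K) := IsLocalRing.closedPoint K
  let h : Spec K ⟶ G.left := a₀.left ≫ ψ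
  have hh : h pt = e := by
    show ψ (P.left.fromSpecResidueField p pt) = e
    rw [Scheme.fromSpecResidueField_apply]
    exact hp
  have hgh : h = (h ≫ G.hom) ≫ η[G].left := by
    haveI : IsClosedImmersion η[G].left := by
      haveI : IsClosedImmersion (η[G].left ≫ G.hom) := by rw [Over.w η[G]]; exact inferInstanceAs (IsClosedImmersion (𝟙 _))
      exact IsClosedImmersion.of_comp η[G].left G.hom
    haveI : IsClosedImmersion (pullback.fst h η[G].left) := inferInstance
    haveI : Surjective (pullback.fst h η[G].left) := ⟨fun q => by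
      obtain ⟨r, hr, -⟩ := Scheme.Pullback.exists_preimage_pullback (f := h) (g := η[G].left) q
        (IsLocalRing.closedPoint k) (by rw [Subsingleton.elim q pt, hh])
      exact ⟨r, hr⟩⟩
    haveI : IsIso (pullback.fst h η[G].left) := isIso_of_isClosedImmersion_of_surjective _
    have h3 : h = (inv (pullback.fst h η[G].left) ≫ pullback.snd h η[G].left) ≫ η[G].left := by
      rw [Category.assoc, ← pullback.condition, IsIso.inv_hom_id_assoc]
    have h4 : η[G].left ≫ G.hom = 𝟙 _ := Over.w η[G]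
    conv_rhs => rw [h3, Category.assoc _ η[G].left G.hom, h4, Category.comp_id]
    exact h3
  have hone : a₀ ≫ g = 1 := by
    refine Over.OverMorphism.ext (pullback.hom_ext ?_ ?_)
    · rw [Hom.one_def, Over.comp_left, Over.comp_left, Category.assoc, Category.assoc, IsogLib.one_bc_left_fst,
        Over.toUnit_left, ← Category.assoc (Over.mk (P.left.fromSpecResidueField p ≫ P.hom)).hom]
      refine hgh.trans ?_
      congr 1
      show (a₀.left ≫ g.left ≫ pr) ≫ G.hom = (P.left.fromSpecResidueField p ≫ P.hom) ≫ (X ↘ Spec (CommRingCat.of k))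
      have hw : g.left ≫ pullback.snd G.hom (X ↘ Spec (CommRingCat.of k)) = P.hom := Over.w g
      simp only [pr, Category.assoc, pullback.condition, ← hw]
      rfl
    · exact (Over.w (a₀ ≫ g)).trans (Over.w (1 : Over.mk (P.left.fromSpecResidueField p ≫ P.hom) ⟶ _)).symm
  have heq : (a₀ ≫ CartesianMonoidalCategory.fst T₁ T₂) ≫ f₁ = (a₀ ≫ CartesianMonoidalCategory.snd T₁ T₂) ≫ f₂ := by
    have h := a₀ ≫= hg
    rw [← Category.assoc, comp_lift, hone, SchTorsor.one_act_pt] at h
    simpa only [Category.assoc] using h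
  let l := pullback.lift (a₀ ≫ CartesianMonoidalCategory.fst T₁ T₂) (a₀ ≫ CartesianMonoidalCategory.snd T₁ T₂) heq
  refine ⟨l.left pt, ?_⟩
  show (l.left ≫ (pullback f₁ f₂).hom) pt = _
  rw [Over.w l]
  show P.hom (P.left.fromSpecResidueField p pt) = P.hom p
  rw [Scheme.fromSpecResidueField_apply]
end Groth.Agent.S18762
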