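import Groth.Statements.S18764
import Groth.Agent.H9RedFlat.Scheme
import Groth.Agent.SchTorsor.Props
import Groth.Agent.S18762
import Groth.Agent.AlgSpPts.Sep
import Mathlib.AlgebraicGeometry.AlgClosed.Basic

set_option linter.style.haveILetI false
set_option backward.isDefEq.respectTransparency false
set_option backward.isDefEq.respectTransparency.types false


set_option autoImplicit false
universe u
open CategoryTheory CategoryTheory.Limits MonoidalCategory CartesianMonoidalCategory MonObj GrpObj AlgebraicGeometry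
open NonAbH1

attribute [-instance] CategoryTheory.catToReflQuiver

namespace Groth.Agent.S18764

/-- Let k be a field and X a quasi-compact k-scheme, connected and reduced, having a k-point x; let G,
G₁, G₂ be finite group schemes over k with homomorphisms φ₁ : G₁ → G and φ₂ : G₂ → G, and let T, T₁,
T₂ be torsors over X (fppf-locally trivial) under the base changes to X of G, G₁, G₂ respectively,
each pointed by a k-point lying over x. Let f₁ : T₁ → T and f₂ : T₂ → T be morphisms of pointed
torsors: X-morphisms which intertwine the actions along φ₁, φ₂ and send the marked points of T₁, T₂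
to that of T. Let P be the fibre product group scheme G₁ ×_G G₂ with its projections π₁, π₂. Then
the fibre product T₁ ×_T T₂ carries an action of the base change of P for which both projections to
T₁ and T₂ are equivariant (along π₁, π₂) and which makes it a torsor over X (fppf-locally trivial).
(The published statement says that such an X has a fundamental group scheme; this row states the
closure of finite pointed torsors under fibre products to which it is reduced.) -/
theorem result
    (k : Type u) [Field k] (X : Scheme.{u}) [X.Over (Spec (CommRingCat.of k))] [ConnectedSpace X]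
    [CompactSpace X] [AlgebraicGeometry.IsReduced X]
    (x : Spec (CommRingCat.of k) ⟶ X) (hx : x ≫ (X ↘ Spec (CommRingCat.of k)) = 𝟙 _)
    (G G₁ G₂ : Over (Spec (CommRingCat.of k))) [GrpObj G] [GrpObj G₁] [GrpObj G₂]
    [IsFinite G.hom] [IsFinite G₁.hom] [IsFinite G₂.hom]
    (φ₁ : G₁ ⟶ G) (φ₂ : G₂ ⟶ G) [IsMonHom φ₁] [IsMonHom φ₂]
    (T T₁ T₂ : Over X)
    (a : AlgGrp.Action (Red.bc (X ↘ Spec (CommRingCat.of k)) G) T)
    (a₁ : AlgGrp.Action (Red.bc (X ↘ Spec (CommRingCat.of k)) G₁) T₁)
    (a₂ : AlgGrp.Action (Red.bc (X ↘ Spec (CommRingCat.of k)) G₂) T₂)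
    (hT : NonAbH1.IsTorsorFor Scheme.fppfPrecoverage a)
    (hT₁ : NonAbH1.IsTorsorFor Scheme.fppfPrecoverage a₁)
    (hT₂ : NonAbH1.IsTorsorFor Scheme.fppfPrecoverage a₂)
    (t : Spec (CommRingCat.of k) ⟶ T.left) (t₁ : Spec (CommRingCat.of k) ⟶ T₁.left)
    (t₂ : Spec (CommRingCat.of k) ⟶ T₂.left)
    (ht : t ≫ T.hom = x) (ht₁ : t₁ ≫ T₁.hom = x) (ht₂ : t₂ ≫ T₂.hom = x)
    (f₁ : T₁ ⟶ T) (f₂ : T₂ ⟶ T)
    (hf₁ : AlgGrp.Action.IsEquivariant a₁ (a.restrict ((Over.pullback (X ↘ Spec (CommRingCat.of k))).map φ₁)) f₁)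
    (hf₂ : AlgGrp.Action.IsEquivariant a₂ (a.restrict ((Over.pullback (X ↘ Spec (CommRingCat.of k))).map φ₂)) f₂)
    (hft₁ : t₁ ≫ f₁.left = t) (hft₂ : t₂ ≫ f₂.left = t)
    (P : Over (Spec (CommRingCat.of k))) [GrpObj P] (π₁ : P ⟶ G₁) (π₂ : P ⟶ G₂) [IsMonHom π₁] [IsMonHom π₂]
    (hP : IsPullback π₁ π₂ φ₁ φ₂) :
    ∃ c : AlgGrp.Action (Red.bc (X ↘ Spec (CommRingCat.of k)) P) (pullback f₁ f₂),
      AlgGrp.Action.IsEquivariant c (a₁.restrict ((Over.pullback (X ↘ Spec (CommRingCat.of k))).map π₁)) (pullback.fst f₁ f₂) ∧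
      AlgGrp.Action.IsEquivariant c (a₂.restrict ((Over.pullback (X ↘ Spec (CommRingCat.of k))).map π₂)) (pullback.snd f₁ f₂) ∧
      NonAbH1.IsTorsorFor Scheme.fppfPrecoverage c := by
  classical
  let σ := X ↘ Spec (CommRingCat.of k)
  let F := Over.pullback σ
  have hbc : IsPullback (F.map π₁) (F.map π₂) (F.map φ₁) (F.map φ₂) := hP.map F
  have hQ : IsPullback (pullback.fst f₁ f₂) (pullback.snd f₁ f₂) f₁ f₂ := IsPullback.of_hasPullback f₁ f₂
  -- the action
  have hpt₁ : ∀ {U : Over X} (g : U ⟶ F.obj G₁) (y : U ⟶ T₁),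
      (lift g y ≫ a₁.act) ≫ f₁ = lift (g ≫ F.map φ₁) (y ≫ f₁) ≫ a.act := fun g y => by
    rw [Category.assoc, hf₁, lift_whiskerLeft_assoc, AlgGrp.Action.lift_restrict_act]
  have hpt₂ : ∀ {U : Over X} (g : U ⟶ F.obj G₂) (y : U ⟶ T₂),
      (lift g y ≫ a₂.act) ≫ f₂ = lift (g ≫ F.map φ₂) (y ≫ f₂) ≫ a.act := fun g y => by
    rw [Category.assoc, hf₂, lift_whiskerLeft_assoc, AlgGrp.Action.lift_restrict_act]
  have hcond : (lift (CartesianMonoidalCategory.fst (F.obj P) (pullback f₁ f₂) ≫ F.map π₁)
      (CartesianMonoidalCategory.snd (F.obj P) (pullback f₁ f₂) ≫ pullback.fst f₁ f₂) ≫ a₁.act) ≫ f₁ =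
      (lift (CartesianMonoidalCategory.fst (F.obj P) (pullback f₁ f₂) ≫ F.map π₂)
      (CartesianMonoidalCategory.snd (F.obj P) (pullback f₁ f₂) ≫ pullback.snd f₁ f₂) ≫ a₂.act) ≫ f₂ := by
    rw [hpt₁, hpt₂]
    simp only [Category.assoc, hbc.w, pullback.condition]
  let act := pullback.lift _ _ hcond
  have hact₁ : ∀ {U : Over X} (g : U ⟶ F.obj P) (q : U ⟶ pullback f₁ f₂),
      (lift g q ≫ act) ≫ pullback.fst f₁ f₂ = lift (g ≫ F.map π₁) (q ≫ pullback.fst f₁ f₂) ≫ a₁.act := fun g q => by
    simp only [act, Category.assoc, pullback.lift_fst, comp_lift_assoc, lift_fst_assoc, lift_snd_assoc]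
  have hact₂ : ∀ {U : Over X} (g : U ⟶ F.obj P) (q : U ⟶ pullback f₁ f₂),
      (lift g q ≫ act) ≫ pullback.snd f₁ f₂ = lift (g ≫ F.map π₂) (q ≫ pullback.snd f₁ f₂) ≫ a₂.act := fun g q => by
    simp only [act, Category.assoc, pullback.lift_snd, comp_lift_assoc, lift_fst_assoc, lift_snd_assoc]
  let c : AlgGrp.Action (Red.bc σ P) (pullback f₁ f₂) :=
    { act := act
      one_act := by
        have e : ∀ {U : Over X} (q : U ⟶ pullback f₁ f₂), lift (1 : U ⟶ F.obj P) q ≫ act = q := fun q => by
          refine pullback.hom_ext ?_ ?_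
          · rw [hact₁, MonObj.one_comp, AlgGrp.Action.lift_one_act]
          · rw [hact₂, MonObj.one_comp, AlgGrp.Action.lift_one_act]
        refine AlgGrp.Action.hom_ext_lift₂ fun U o q => ?_
        rw [lift_whiskerRight_assoc, leftUnitor_hom, lift_snd, toUnit_unique o (toUnit U), ← Hom.one_def]
        exact e q
      mul_act := by
        refine AlgGrp.Action.hom_ext_lift₃ fun U g g' q => ?_
        rw [lift_whiskerRight_assoc, ← Hom.mul_def, lift_lift_associator_hom_assoc, lift_whiskerLeft_assoc]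
        refine pullback.hom_ext ?_ ?_
        · rw [hact₁, hact₁, hact₁, MonObj.mul_comp, AlgGrp.Action.lift_mul_act]
        · rw [hact₂, hact₂, hact₂, MonObj.mul_comp, AlgGrp.Action.lift_mul_act] }
  have he₁ : AlgGrp.Action.IsEquivariant c (a₁.restrict (F.map π₁)) (pullback.fst f₁ f₂) := by
    refine AlgGrp.Action.hom_ext_lift₂ fun U g q => ?_
    rw [lift_whiskerLeft_assoc, AlgGrp.Action.lift_restrict_act, ← Category.assoc]
    exact hact₁ g q
  have he₂ : AlgGrp.Action.IsEquivariant c (a₂.restrict (F.map π₂)) (pullback.snd f₁ f₂) := by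
    refine AlgGrp.Action.hom_ext_lift₂ fun U g q => ?_
    rw [lift_whiskerLeft_assoc, AlgGrp.Action.lift_restrict_act, ← Category.assoc]
    exact hact₂ g q
  -- pseudo-torsor
  have hps : NonAbH1.IsPseudoTorsorSch c := by
    let Q := pullback f₁ f₂
    let u := CartesianMonoidalCategory.fst Q Q
    let v := CartesianMonoidalCategory.snd Q Q
    obtain ⟨g₁, hg₁⟩ := SchTorsor.exists_div hT₁.1 (u ≫ pullback.fst f₁ f₂) (v ≫ pullback.fst f₁ f₂)
    obtain ⟨g₂, hg₂⟩ := SchTorsor.exists_div hT₂.1 (u ≫ pullback.snd f₁ f₂) (v ≫ pullback.snd f₁ f₂)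
    have hg : g₁ ≫ F.map φ₁ = g₂ ≫ F.map φ₂ := by
      refine SchTorsor.act_free hT.1 (y := (v ≫ pullback.fst f₁ f₂) ≫ f₁) ?_
      rw [← hpt₁, hg₁]
      simp only [Category.assoc, pullback.condition]
      rw [← Category.assoc v, ← hpt₂, hg₂, Category.assoc]
    let g := hbc.lift g₁ g₂ hg
    have hgu : lift g v ≫ act = u := by
      refine pullback.hom_ext ?_ ?_
      · rw [hact₁, hbc.lift_fst, hg₁]
      · rw [hact₂, hbc.lift_snd, hg₂]
    refine ⟨lift g v, ?_, ?_⟩
    · refine CartesianMonoidalCategory.hom_ext _ _ ?_ ?_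
      · rw [Category.assoc, lift_fst, Category.id_comp]
        let s := lift c.act (CartesianMonoidalCategory.snd (Red.bc σ P) Q)
        have h := s ≫= hgu
        rw [← Category.assoc, comp_lift, show s ≫ v = CartesianMonoidalCategory.snd _ _ from lift_snd _ _,
          show s ≫ u = c.act from lift_fst _ _] at h
        have h' : lift (CartesianMonoidalCategory.fst (Red.bc σ P) Q) (CartesianMonoidalCategory.snd _ _) ≫ act = c.act := by
          rw [lift_fst_snd, Category.id_comp]
        refine hbc.hom_ext ?_ ?_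
        · refine SchTorsor.act_free hT₁.1 (y := CartesianMonoidalCategory.snd _ _ ≫ pullback.fst f₁ f₂) ?_
          rw [← hact₁, ← hact₁, h, h']
        · refine SchTorsor.act_free hT₂.1 (y := CartesianMonoidalCategory.snd _ _ ≫ pullback.snd f₁ f₂) ?_
          rw [← hact₂, ← hact₂, h, h']
      · rw [Category.assoc, lift_snd, Category.id_comp]
        exact lift_snd _ _
    · refine CartesianMonoidalCategory.hom_ext _ _ ?_ ?_
      · rw [Category.assoc, lift_fst, Category.id_comp]
        exact hgu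
      · rw [Category.assoc, lift_snd, Category.id_comp]
        exact lift_snd _ _
  -- finite, locally of finite presentation
  haveI := EtFound.fpqc_isFinite.{u}
  have hprops : ∀ {G' : Over (Spec (CommRingCat.of k))} [GrpObj G'] [IsFinite G'.hom] {T' : Over X}
      {a' : AlgGrp.Action (Red.bc σ G') T'}, NonAbH1.IsTorsorFor Scheme.fppfPrecoverage a' →
        IsFinite T'.hom ∧ LocallyOfFinitePresentation T'.hom := fun {G'} _ _ {T'} {a'} h => by
    have h' : NonAbH1.IsTorsorFor Scheme.fpqcPrecoverage a' :=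
      ⟨h.1, h.2.choose, Scheme.fppfPrecoverage_le_fpqcPrecoverage _ h.2.choose_spec.1, h.2.choose_spec.2⟩
    exact ⟨SchTorsor.torsor_property @IsFinite h' (MorphismProperty.pullback_snd G'.hom _ inferInstance),
      SchTorsor.torsor_property @LocallyOfFinitePresentation h' (MorphismProperty.pullback_snd G'.hom _ inferInstance)⟩
  obtain ⟨hF, hL⟩ := hprops hT
  obtain ⟨hF₁, hL₁⟩ := hprops hT₁
  obtain ⟨hF₂, hL₂⟩ := hprops hT₂
  have hleft : IsPullback (pullback.fst f₁ f₂).left (pullback.snd f₁ f₂).left f₁.left f₂.left := hQ.map (Over.forget X)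
  haveI : IsFinite (f₂.left ≫ T.hom) := by rw [Over.w f₂]; exact hF₂
  haveI : IsFinite f₂.left := IsFinite.of_comp f₂.left T.hom
  haveI : LocallyOfFinitePresentation f₂.left := by
    haveI : LocallyOfFinitePresentation (f₂.left ≫ T.hom) := by rw [Over.w f₂]; exact hL₂
    exact AlgSpPts.locallyOfFinitePresentation_of_comp f₂.left T.hom
  haveI : IsFinite (pullback.fst f₁ f₂).left := MorphismProperty.of_isPullback hleft.flip inferInstance
  haveI : LocallyOfFinitePresentation (pullback.fst f₁ f₂).left := MorphismProperty.of_isPullback hleft.flip inferInstance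
  haveI : IsFinite (pullback f₁ f₂).hom := by rw [← Over.w (pullback.fst f₁ f₂)]; infer_instance
  haveI : LocallyOfFinitePresentation (pullback f₁ f₂).hom := by rw [← Over.w (pullback.fst f₁ f₂)]; infer_instance
  haveI hsurj : Surjective (pullback f₁ f₂).hom :=
    Groth.Agent.S18762.result k X x hx G G₁ G₂ φ₁ φ₂ T T₁ T₂ a a₁ a₂ hT hT₁ hT₂ t t₁ t₂ ht ht₁ ht₂ f₁ f₂ hf₁ hf₂ hft₁ hft₂
  -- the group is finite
  haveI : IsFinite P.hom := by
    have hl : IsPullback π₁.left π₂.left φ₁.left φ₂.left := hP.map (Over.forget _)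
    haveI : IsFinite (φ₂.left ≫ G.hom) := by rw [Over.w φ₂]; infer_instance
    haveI : IsFinite φ₂.left := IsFinite.of_comp φ₂.left G.hom
    haveI : IsFinite π₁.left := MorphismProperty.of_isPullback hl.flip inferInstance
    rw [← Over.w π₁]
    infer_instance
  haveI : Flat P.hom := inferInstance
  haveI : Flat (pullback f₁ f₂).hom := by
    refine H9RedFlat.flat_of_finrank_eq _ (P.hom.finrank (IsLocalRing.closedPoint k)) fun K _ _ g => ?_
    let p := pullback.snd (pullback f₁ f₂).hom g
    haveI : IsFinite p := inferInstance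
    haveI : CompactSpace ↥(pullback (pullback f₁ f₂).hom g) := QuasiCompact.compactSpace_of_compactSpace p
    obtain ⟨z₀, -⟩ := p.surjective (IsLocalRing.closedPoint K)
    obtain ⟨z, -, hz⟩ := (isClosed_univ (X := ↥(pullback (pullback f₁ f₂).hom g))).exists_closed_singleton ⟨z₀, trivial⟩
    let s : Over.mk g ⟶ pullback f₁ f₂ := Over.homMk (pointOfClosedPoint p z hz ≫ pullback.fst _ _) (by
      rw [Category.assoc, pullback.condition, ← Category.assoc, pointOfClosedPoint_comp]
      exact Category.id_comp _)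
    haveI := SchTorsor.isIso_of_section hps s
    let e := lift ((Red.bc σ P ◁ s) ≫ c.act) (CartesianMonoidalCategory.snd (Red.bc σ P) (Over.mk g))
    haveI : IsIso e.left := (Over.forget X).map_isIso e
    let e' : pullback (Red.bc σ P).hom g ⟶ pullback (pullback f₁ f₂).hom g := e.left
    haveI : IsIso e' := ‹IsIso e.left›
    have he : e' ≫ pullback.snd _ _ = pullback.snd (Red.bc σ P).hom g :=
      congrArg CommaMorphism.left (lift_snd ((Red.bc σ P ◁ s) ≫ c.act) (CartesianMonoidalCategory.snd (Red.bc σ P) (Over.mk g)))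
    haveI : Flat (pullback.snd (pullback f₁ f₂).hom g) := inferInstance
    rw [← Scheme.Hom.finrank_comp_left_of_isIso e' (pullback.snd (pullback f₁ f₂).hom g), he]
    have big := (IsPullback.of_hasPullback (Red.bc σ P).hom g).paste_horiz (IsPullback.of_hasPullback P.hom σ)
    rw [Scheme.Hom.finrank_of_isPullback _ _ _ _ big]
    congr 1
    exact Subsingleton.elim _ _
  refine ⟨c, he₁, he₂, hps, Presieve.singleton (pullback f₁ f₂).hom,
    Scheme.Hom.singleton_mem_fppfPrecoverage _, ?_⟩
  rintro _ _ ⟨⟩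
  exact ⟨𝟙 _, Category.id_comp _⟩
end Groth.Agent.S18764
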