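import Groth.Statements.S18784
import Groth.Agent.CanonDual.Bar
import Groth.Agent.CanonDual.Deg
import Groth.Agent.GGFF.PicInj
import Groth.Agent.Lib.SyzygyGen
-- import your own Groth.Agent.* helpers here

set_option autoImplicit false
universe u
open CategoryTheory CategoryTheory.Limits AlgebraicGeometry
attribute [local instance] HasDerivedCategory.standard
open Curves

namespace Groth.Agent.S18784

/-- Let k be a perfect field and X a proper scheme over k of dimension one which is geometrically
connected and geometrically reduced over k, Gorenstein with trivial dualizing sheaf: its dualizing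
module ω_X (the degree −1 cohomology sheaf of f^! O for the structure morphism f, assuming Rf_* on
D_QCoh and its right adjoint exist) is isomorphic to O_X. Let D be an effective Cartier divisor on X
of positive degree, given here as an invertible module L = O_X(D) with a monomorphism s : O_X → L
and deg L = χ(L) − χ(O_X) > 0. Then H^1(X, O_X(D)) = 0. (The first assertion of the lemma, H^0(X,
O_X) = k, is not restated.) -/
theorem result (k : Type u) [Field k] [PerfectField k]
    (X : Scheme.{u}) [X.Over (Spec (CommRingCat.of k))] [IsProper (X ↘ Spec (CommRingCat.of k))]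
    [GeometricallyConnected (X ↘ Spec (CommRingCat.of k))] [GeometricallyReduced (X ↘ Spec (CommRingCat.of k))]
    (hdim : topologicalKrullDim ↥X = 1)
    [DCoh.HasRpush (X ↘ Spec (CommRingCat.of k))] (h : DCoh.RpushPreservesQCoh (X ↘ Spec (CommRingCat.of k))) [DCoh.HasShriek (X ↘ Spec (CommRingCat.of k)) h]
    (OY : DCoh.DQCoh (Spec (CommRingCat.of k))) (hOY : Nonempty (OY.obj ≅ DCoh.inD (Spec (CommRingCat.of k)) (Coh.structureModule (Spec (CommRingCat.of k)))))
    (hω : Nonempty (DCoh.dualizingMod (X ↘ Spec (CommRingCat.of k)) h OY 1 ≅ Coh.structureModule X))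
    (L : X.Modules) (hL : PicF.IsInvertible L) (s : Coh.structureModule X ⟶ L) [Mono s]
    (hdeg : 0 < Curv2.deg k X L 1) :
    Subsingleton (Coh.HH X L 1) := by
  obtain ⟨eω⟩ := hω
  let f := X ↘ Spec (CommRingCat.of k)
  letI := Groth.Agent.CanonDual.barOver k X
  haveI := Groth.Agent.CanonDual.isProper_barOver k X
  have hpb := Groth.Agent.CanonDual.isPullback_barOver k X
  obtain ⟨_, _⟩ := Groth.Agent.CurveBC.flat_surjective k (AlgebraicClosure k) _ hpb
  haveI : AlgebraicGeometry.IsReduced (Curv2.bc k X (AlgebraicClosure k)) :=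
    GeometricallyReduced.geometrically_isReduced (f := f) _ _ _ hpb
  haveI : AlgebraicGeometry.IsReduced X :=
    Groth.Agent.FBaseLib.isReduced_of_flat_surjective (Curv2.bcFst k X (AlgebraicClosure k))
  haveI : Subsingleton (Spec (CommRingCat.of k)) := inferInstanceAs (Subsingleton (PrimeSpectrum k))
  haveI : ConnectedSpace (Curv2.bc k X (AlgebraicClosure k)) :=
    GeometricallyConnected.geometrically_connectedSpace (f := f) _ _ _ hpb
  haveI := quasiSeparatedSpace_of_quasiSeparated f
  haveI := QuasiCompact.compactSpace_of_compactSpace f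
  have h0 : Module.finrank k (Coh.HH X (Coh.structureModule X) 0) = 1 :=
    (Groth.Agent.CurveBC.finrank_hh_unit k (AlgebraicClosure k) _ hpb 0).symm.trans
      (Groth.Agent.SurfRR.finrank_h0_reduced (AlgebraicClosure k))
  haveI := Groth.Agent.CurveCohLib.isNoetherian_of_proper (k := k) (X := X)
  obtain ⟨tr, hdual⟩ := Groth.Agent.CanonDual.exists_isRDualOver_dualizingMod h OY hOY (d := 1)
    (fun M hM q hq => Groth.Agent.CanonDual.subsingleton_HH_curve k hdim.le hM hq)
  refine (Groth.Agent.CanonDual.subsingleton_hom_iff hdual (Groth.Agent.ProjUPX.isQCoh_of_isInvertible hL)).1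
    ⟨fun a b => ?_⟩
  suffices key : ∀ t : L ⟶ Coh.structureModule X, t = 0 by
    rw [← cancel_mono eω.hom, key (a ≫ eω.hom), key (b ≫ eω.hom)]
  intro t
  obtain ⟨c, hc⟩ := Groth.Agent.Syzygy.endo_eq_smul_id h0 (s ≫ t)
  by_cases hc0 : c = 0
  · refine Groth.Agent.TFQuot.hom_eq_zero Groth.Agent.QCoh.isQCoh_structureModule
      (Groth.Agent.CanonDual.torsionFree_invertible Groth.Agent.InvX.isInvertible_structureModule) t fun η hη v => ?_
    obtain ⟨l⟩ := Groth.Agent.H23.InvStalk.exists_stalk_equiv hL η
    obtain ⟨l₀⟩ := Groth.Agent.H23.InvStalk.exists_stalk_equiv (Groth.Agent.InvX.isInvertible_structureModule (X := X)) η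
    have hinj := Groth.Agent.TFQuot.st_injective s η
    have hsurj : Function.Surjective (Groth.Agent.TFQuot.st s η) :=
      Groth.Agent.CanonDual.surjective_of_field (Groth.Agent.TFQuot.isField_stalk_generic hη) l _
        (w := l₀.symm 1) fun hw => one_ne_zero (α := X.presheaf.stalk η)
          (by rw [← l₀.apply_symm_apply 1, hinj (hw.trans (map_zero _).symm), map_zero])
    obtain ⟨u, rfl⟩ := hsurj v
    rw [← Groth.Agent.TFQuot.st_comp, hc, hc0, zero_smul, Groth.Agent.TFQuot.st_zero]
  · haveI : IsIso (s ≫ t) := by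
      rw [hc]
      exact ⟨c⁻¹ • 𝟙 _, by simp [smul_smul, inv_mul_cancel₀ hc0, mul_inv_cancel₀ hc0],
        by simp [smul_smul, inv_mul_cancel₀ hc0, mul_inv_cancel₀ hc0]⟩
    haveI : Epi t := epi_of_epi s t
    haveI := Groth.Agent.GGFF.isIso_of_epi_invertible hL Groth.Agent.InvX.isInvertible_structureModule t
    unfold Curv2.deg at hdeg
    rw [Groth.Agent.Euler.euler_congr k (asIso t)] at hdeg
    simp at hdeg

end Groth.Agent.S18784
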