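import Groth.Statements.S18789
import Mathlib.RingTheory.Nakayama
import Mathlib.LinearAlgebra.Matrix.Adjugate
import Mathlib.Algebra.Module.Projective

set_option autoImplicit false
universe u v w x
open TorusGr

namespace Groth.Agent.S18789

theorem decompose_smul_of_mem {k : Type u} [Field k] {M : Type v} [AddCommGroup M] [DecidableEq M]
    {A : Type w} [CommRing A] [Algebra k A] (𝒜 : M → Submodule k A) [GradedAlgebra 𝒜]
    {P : Type x} [AddCommGroup P] [Module A P] [Module k P] [IsScalarTower k A P]
    (ℳ : M → Submodule k P) [DirectSum.Decomposition ℳ] [SetLike.GradedSMul 𝒜 ℳ]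
    {q : P} {w₀ : M} (hq : q ∈ ℳ w₀) (a : A) (e : M) :
    (DirectSum.decompose ℳ (a • q) e : P) = (DirectSum.decompose 𝒜 a (e - w₀) : A) • q := by
  classical
  have hmem : ∀ i, (DirectSum.decompose 𝒜 a i : A) • q ∈ ℳ (i + w₀) := fun i =>
    vadd_eq_add i w₀ ▸ SetLike.GradedSMul.smul_mem (B := ℳ) (Submodule.coe_mem (DirectSum.decompose 𝒜 a i)) hq
  conv_lhs => rw [← DirectSum.sum_support_decompose 𝒜 a, Finset.sum_smul]
  rw [DirectSum.decompose_sum, DFinsupp.finsetSum_apply, AddSubmonoidClass.coe_finsetSum,
    Finset.sum_eq_single (e - w₀)]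
  · rw [DirectSum.decompose_of_mem_same ℳ]
    simpa using hmem (e - w₀)
  · intro i _ hi
    exact DirectSum.decompose_of_mem_ne ℳ (hmem i) fun h => hi (by rw [← h, add_sub_cancel_right])
  · intro h
    rw [DFinsupp.notMem_support_iff.mp h, ZeroMemClass.coe_zero, zero_smul, DirectSum.decompose_zero]
    rfl

open DirectSum in
/-- Let `A` be a commutative algebra over a field `k`, graded by an additive commutative group `M` (for
`M` the character group of a split torus `T` this is a `T`-action on `Spec A`, and an `M`-graded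
`A`-module is a `T`-equivariant quasi-coherent sheaf), let `P` be a finitely generated projective
`A`-module with a compatible `M`-grading (a locally free `T`-sheaf of finite rank), and let `m` be a
homogeneous maximal ideal with residue field `k` (a `T`-fixed rational point). If homogeneous
elements `f i` of `P` reduce to a basis of `P/mP`, then there is a homogeneous `s ∉ m` such that
after inverting `s` the `f i` generate `P` and every relation among them is killed by a power of
`s`: on the invariant open `D(s)` the module is free on the homogeneous sections `f i`, with the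
weights of the fibre `P/mP`. (The published statement has `M ≅ ℤ^r`, a split torus; here `M` is any
additive commutative group, i.e. any diagonalizable group.) -/
theorem result
    {k : Type u} [Field k] {M : Type v} [AddCommGroup M] [DecidableEq M]
    {A : Type w} [CommRing A] [Algebra k A] (𝒜 : M → Submodule k A) [GradedAlgebra 𝒜]
    {P : Type x} [AddCommGroup P] [Module A P] [Module k P] [IsScalarTower k A P]
    (ℳ : M → Submodule k P) [Decomposition ℳ] [SetLike.GradedSMul 𝒜 ℳ]
    [Module.Finite A P] [Module.Projective A P]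
    (m : Ideal A) [m.IsMaximal] (hm : m.IsHomogeneous 𝒜)
    (hrat : Function.Surjective (algebraMap k (A ⧸ m)))
    {n : ℕ} (wt : Fin n → M) (f : Fin n → P) (hf : ∀ i, f i ∈ ℳ (wt i))
    (hli : LinearIndependent (A ⧸ m)
      (fun i => (Submodule.Quotient.mk (f i) : P ⧸ (m • (⊤ : Submodule A P)))))
    (hsp : Submodule.span A (Set.range f) ⊔ m • (⊤ : Submodule A P) = ⊤) :
    ∃ s : A, SetLike.IsHomogeneousElem 𝒜 s ∧ s ∉ m ∧
      (∀ p : P, ∃ (N : ℕ) (c : Fin n → A), s ^ N • p = ∑ i, c i • f i) ∧
      (∀ c : Fin n → A, ∑ i, c i • f i = 0 → ∃ N : ℕ, ∀ i, s ^ N * c i = 0) := by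
  classical
  let g : (Fin n → A) →ₗ[A] P := Fintype.linearCombination A f
  have hg : ∀ c, g c = ∑ i, c i • f i := fun c => Fintype.linearCombination_apply A f c
  -- a homogeneous multiplier pushing `P` into the span
  obtain ⟨s', hs'1, hs'⟩ := Submodule.exists_sub_one_mem_and_smul_eq_zero_of_fg_of_le_smul m
    (⊤ : Submodule A (P ⧸ Submodule.span A (Set.range f))) Module.Finite.fg_top (by
      intro z _
      obtain ⟨q, rfl⟩ := Submodule.mkQ_surjective _ z
      obtain ⟨a, ha, b, hb, rfl⟩ := Submodule.mem_sup.mp (hsp ▸ Submodule.mem_top : q ∈ _)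
      rw [map_add, Submodule.mkQ_apply, (Submodule.Quotient.mk_eq_zero _).mpr ha, zero_add]
      exact Submodule.smul_top_le_comap_smul_top m (Submodule.mkQ _) hb)
  have hs'm : s' ∉ m := fun h => Ideal.IsPrime.ne_top (I := m) inferInstance
    ((Ideal.eq_top_iff_one m).mpr (by simpa using m.sub_mem h hs'1))
  have hcomp : ∀ t, t ∉ m → ∃ d, (DirectSum.decompose 𝒜 t d : A) ∉ m := fun t ht => by
    by_contra hcon
    push Not at hcon
    refine ht ?_
    rw [← DirectSum.sum_support_decompose 𝒜 t]
    exact Submodule.sum_mem _ fun i _ => hcon i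
  obtain ⟨d, hd⟩ := hcomp s' hs'm
  set s₁ : A := (DirectSum.decompose 𝒜 s' d : A) with hs₁
  have hspan : ∀ q ∈ Submodule.span A (Set.range f), ∀ e, (decompose ℳ q e : P) ∈ Submodule.span A (Set.range f) := by
    intro q hq e
    obtain ⟨c, rfl⟩ := (Submodule.mem_span_range_iff_exists_fun A).mp hq
    rw [decompose_sum, DFinsupp.finsetSum_apply, AddSubmonoidClass.coe_finsetSum]
    refine Submodule.sum_mem _ fun i _ => ?_
    rw [decompose_smul_of_mem 𝒜 ℳ (hf i) (c i) e]
    exact Submodule.smul_mem _ _ (Submodule.subset_span ⟨i, rfl⟩)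
  have hmove : ∀ q : P, s₁ • q ∈ Submodule.span A (Set.range f) := by
    intro q
    rw [← DirectSum.sum_support_decompose ℳ q, Finset.smul_sum]
    refine Submodule.sum_mem _ fun e _ => ?_
    have h : s' • (decompose ℳ q e : P) ∈ Submodule.span A (Set.range f) := by
      rw [← Submodule.Quotient.mk_eq_zero, Submodule.Quotient.mk_smul]
      exact hs' _ trivial
    have h2 := hspan _ h (d + e)
    rwa [decompose_smul_of_mem 𝒜 ℳ (Submodule.coe_mem _) s' (d + e), add_sub_cancel_right, ← hs₁] at h2
  -- the relations vanish modulo `m`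
  have hker : ∀ c, g c = 0 → ∀ i, c i ∈ m := by
    intro c hc i
    rw [← Ideal.Quotient.eq_zero_iff_mem]
    refine Fintype.linearIndependent_iff.mp hli (fun i => Ideal.Quotient.mk m (c i)) ?_ i
    refine Eq.trans ?_ (congrArg (Submodule.mkQ (m • (⊤ : Submodule A P))) ((hg c).symm.trans hc) |>.trans (map_zero _))
    rw [map_sum]
    rfl
  -- a determinant killing the relations
  obtain ⟨h, hh⟩ := Module.projective_lifting_property
    (g.codRestrict (Submodule.span A (Set.range f)) fun c => by
      rw [hg]; exact Submodule.sum_mem _ fun i _ => Submodule.smul_mem _ _ (Submodule.subset_span ⟨i, rfl⟩))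
    ((s₁ • LinearMap.id : P →ₗ[A] P).codRestrict (Submodule.span A (Set.range f)) hmove) (by
      rintro ⟨q, hq⟩
      obtain ⟨c, hc⟩ := (Submodule.mem_span_range_iff_exists_fun A).mp hq
      exact ⟨c, Subtype.ext ((hg c).trans hc)⟩)
  have hgh : ∀ q, g (h q) = s₁ • q := fun q => congrArg Subtype.val (LinearMap.congr_fun hh q)
  let E : Matrix (Fin n) (Fin n) A := Matrix.of fun i j => (h (f j)) i - if i = j then s₁ else 0
  have hE : ∀ i j, E i j ∈ m := by
    intro i j
    have := hker (h (f j) - s₁ • Pi.single j 1) (by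
      rw [map_sub, map_smul, hgh, hg, Finset.sum_eq_single j (fun i _ hi => by rw [Pi.single_eq_of_ne hi, zero_smul])
        (fun hj => absurd (Finset.mem_univ j) hj), Pi.single_eq_same, one_smul, sub_self]) i
    simpa [E, Pi.single_apply, eq_comm] using this

  have hrel : ∀ c, g c = 0 → (s₁ • (1 : Matrix (Fin n) (Fin n) A) + E).mulVec c = 0 := by
    intro c hc
    have h1 : h (g c) = 0 := by rw [hc, map_zero]
    rw [hg, map_sum] at h1
    ext i
    refine Eq.trans ?_ (congrFun h1 i)
    rw [Finset.sum_apply]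
    simp only [Matrix.mulVec, dotProduct, map_smul, Pi.smul_apply, smul_eq_mul]
    refine Finset.sum_congr rfl fun j _ => ?_
    simp [E, Matrix.one_apply, mul_comm]
  set D : A := ((s₁ • (1 : Matrix (Fin n) (Fin n) A) + E)).det with hD
  have hDm : D ∉ m := by
    intro hDmem
    rw [← Ideal.Quotient.eq_zero_iff_mem, hD, RingHom.map_det] at hDmem
    have e : (Ideal.Quotient.mk m).mapMatrix (s₁ • (1 : Matrix (Fin n) (Fin n) A) + E) =
        Matrix.diagonal fun _ => Ideal.Quotient.mk m s₁ := by
      ext i j
      by_cases hij : i = j <;>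
        simp [hij, Matrix.diagonal_apply, Matrix.one_apply, Ideal.Quotient.eq_zero_iff_mem.mpr (hE i j)]
      all_goals (subst hij; exact Ideal.Quotient.eq_zero_iff_mem.mpr (hE i i))
    rw [e, Matrix.det_diagonal, Finset.prod_const, ← map_pow, Ideal.Quotient.eq_zero_iff_mem] at hDmem
    exact hd (Ideal.IsPrime.mem_of_pow_mem inferInstance _ hDmem)
  obtain ⟨e, he⟩ := hcomp D hDm
  have hkill : ∀ c, g c = 0 → ∀ i, (decompose 𝒜 D e : A) * c i = 0 := by
    intro c hc i
    -- homogeneous relations suffice
    rw [← DirectSum.sum_support_decompose 𝒜 (c i), Finset.mul_sum]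
    refine Finset.sum_eq_zero fun a _ => ?_
    let c' : Fin n → A := fun j => (decompose 𝒜 (c j) (a + wt i - wt j) : A)
    have hc' : g c' = 0 := by
      rw [hg]
      have h0 : (decompose ℳ (∑ j, c j • f j) (a + wt i) : P) = 0 := by
        rw [← hg, hc, decompose_zero]
        rfl
      refine Eq.trans ?_ h0
      rw [decompose_sum, DFinsupp.finsetSum_apply, AddSubmonoidClass.coe_finsetSum]
      exact Finset.sum_congr rfl fun j _ => (decompose_smul_of_mem 𝒜 ℳ (hf j) (c j) _).symm
    have h2 := congrArg ((s₁ • (1 : Matrix (Fin n) (Fin n) A) + E).adjugate.mulVec) (hrel c' hc')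
    rw [Matrix.mulVec_mulVec, Matrix.adjugate_mul, Matrix.smul_mulVec, Matrix.one_mulVec, Matrix.mulVec_zero,
      ← hD] at h2
    have h3 : D * c' i = 0 := congrFun h2 i
    have hc'i : c' i = (decompose 𝒜 (c i) a : A) := by
      show (decompose 𝒜 (c i) (a + wt i - wt i) : A) = _
      rw [add_sub_cancel_right]
    rw [hc'i] at h3
    have h4 := congrArg (fun z => (decompose 𝒜 z (e + a) : A)) h3
    simp only [DirectSum.coe_decompose_mul_add_of_right_mem 𝒜 (Submodule.coe_mem (decompose 𝒜 (c i) a)),
      decompose_zero, DirectSum.zero_apply, ZeroMemClass.coe_zero] at h4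
    exact h4
  refine ⟨s₁ * (decompose 𝒜 D e : A), ⟨d + e, SetLike.mul_mem_graded (Submodule.coe_mem _) (Submodule.coe_mem _)⟩,
    fun hmem => (Ideal.IsPrime.mem_or_mem inferInstance hmem).elim hd he, fun q => ?_, fun c hc => ⟨1, fun i => ?_⟩⟩
  · obtain ⟨c, hc⟩ := (Submodule.mem_span_range_iff_exists_fun A).mp
      (Submodule.smul_mem _ (decompose 𝒜 D e : A) (hmove q))
    exact ⟨1, c, by rw [hc, pow_one, smul_smul, mul_comm]⟩
  · rw [pow_one, mul_assoc, hkill c (by rw [hg]; exact hc) i, mul_zero]

end Groth.Agent.S18789
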