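import Groth.Statements.S18790
-- import your own Groth.Agent.* helpers here

set_option autoImplicit false
universe u v w
open TorusGr

namespace Groth.Agent.S18790

/-- Let `A` be a commutative algebra over a field `k`, graded by an additive commutative group `M` (for
`M` the character group of a split torus `T`, a `T`-action on `Spec A`), let `J` be the ideal
generated by the homogeneous elements of non-zero degree (its zero locus is the fixed-point
subscheme) and let `m ⊇ J` be a maximal ideal with residue field `k` (a fixed rational point) at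
which the fixed-point subscheme is the reduced point: `J` and `m` agree after localizing at `m`.
Then the cotangent space `m/m²` has no part of weight zero: every degree-zero element of `m` lies in
`m²`. (The published statement has `M ≅ ℤ^r`, a split torus, and phrases the conclusion as the
non-vanishing of the weights of a semi-invariant basis of `m/m²`; here `M` is any additive
commutative group, i.e. any diagonalizable group.) -/
theorem result
    {k : Type u} [Field k] {M : Type v} [AddCommGroup M] [DecidableEq M]
    {A : Type w} [CommRing A] [Algebra k A] (𝒜 : M → Submodule k A) [GradedAlgebra 𝒜]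
    (m : Ideal A) [m.IsMaximal] (hrat : Function.Surjective (algebraMap k (A ⧸ m)))
    (hfix : ∀ i : M, i ≠ 0 → ∀ a ∈ 𝒜 i, a ∈ m)
    (hred : ∀ a ∈ m, ∃ s ∉ m, s * a ∈ Ideal.span {b : A | ∃ i : M, i ≠ 0 ∧ b ∈ 𝒜 i})
    {f : A} (hf0 : f ∈ 𝒜 0) (hfm : f ∈ m) : f ∈ m ^ 2 := by
  classical
  obtain ⟨s, hs, hsf⟩ := hred f hfm
  have key : ∀ z ∈ Ideal.span {b : A | ∃ i : M, i ≠ 0 ∧ b ∈ 𝒜 i}, GradedRing.proj 𝒜 0 z ∈ m ^ 2 := by
    intro z hz
    induction hz using Submodule.span_induction with
    | mem b hb =>
      obtain ⟨i, hi, hb⟩ := hb
      rw [GradedRing.proj_apply, DirectSum.decompose_of_mem_ne 𝒜 hb hi]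
      exact zero_mem _
    | zero => simp
    | add a b _ _ ha hb => rw [map_add]; exact add_mem ha hb
    | smul c b hb ih =>
      rw [smul_eq_mul]
      clear ih
      induction hb using Submodule.span_induction generalizing c with
      | mem b hb =>
        obtain ⟨i, hi, hb⟩ := hb
        rw [GradedRing.proj_apply, show (0 : M) = -i + i from (neg_add_cancel i).symm,
          DirectSum.coe_decompose_mul_add_of_right_mem 𝒜 hb, pow_two]
        exact Ideal.mul_mem_mul (hfix _ (neg_ne_zero.mpr hi) _ (Submodule.coe_mem _)) (hfix i hi b hb)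
      | zero => simp
      | add a b _ _ ha hb => rw [mul_add, map_add]; exact add_mem (ha c) (hb c)
      | smul d b _ ih => rw [smul_eq_mul, ← mul_assoc]; exact ih (c * d)
  have h1 := key _ hsf
  rw [GradedRing.proj_apply, show (0 : M) = 0 + 0 from (add_zero 0).symm,
    DirectSum.coe_decompose_mul_add_of_right_mem 𝒜 hf0] at h1
  have h0 : (DirectSum.decompose 𝒜 s 0 : A) ∉ m := by
    intro h
    refine hs ?_
    rw [← DirectSum.sum_support_decompose 𝒜 s]
    refine Submodule.sum_mem _ fun i _ => ?_
    by_cases hi : i = 0
    · subst hi; exact h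
    · exact hfix i hi _ (Submodule.coe_mem _)
  have hmax : m.IsMaximal := inferInstance
  obtain ⟨y, n, hn, hy⟩ := hmax.exists_inv h0
  have h2 : f = y * (((DirectSum.decompose 𝒜 s 0 : A)) * f) + n * f := by
    rw [← mul_assoc, ← add_mul, hy, one_mul]
  rw [h2]
  exact add_mem (Ideal.mul_mem_left _ _ h1) (pow_two m ▸ Ideal.mul_mem_mul hn hfm)

end Groth.Agent.S18790
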