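import Groth.Statements.S18791
import Mathlib.RingTheory.Nakayama

set_option autoImplicit false
universe u v w x
open TorusGr

namespace Groth.Agent.S18791

/-- Let `φ : B → A` be a degree-preserving homomorphism of commutative algebras over a field `k` graded
by an additive commutative group `M` (for `M` the character group of a split torus, an equivariant
morphism `Spec A → Spec B`), and let `m` be a maximal ideal of `A` containing all homogeneous
elements of non-zero degree (a fixed point). Then the ideal of those `b` whose image is zero in the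
local ring `A_m` is homogeneous: the homogeneous (weight) components of such a `b` again die in
`A_m`. Since `A_m` embeds in its completion when `A` is Noetherian, these are the elements of `B`
that die in the completed local ring. (The published lemma asserts moreover that, for `B = k[Y_1, …,
Y_d]` mapping the `Y_i` to semi-invariant lifts of a basis of `m/m²`, the kernel of the induced
surjection of completions `k[[Y]] → Â_m` is generated by semi-invariant polynomials; generation of
that kernel by polynomials can fail, so only the statement about polynomial elements of the kernel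
is recorded here. The published statement has `M ≅ ℤ^r` (a split torus) and `B` the polynomial ring
on the lifts; here `M` is any additive commutative group and `B` any `M`-graded `k`-algebra.) -/
theorem result
    {k : Type u} [Field k] {M : Type v} [AddCommGroup M] [DecidableEq M]
    {A : Type w} [CommRing A] [Algebra k A] (𝒜 : M → Submodule k A) [GradedAlgebra 𝒜]
    {B : Type x} [CommRing B] [Algebra k B] (ℬ : M → Submodule k B) [GradedAlgebra ℬ]
    (φ : B →ₐ[k] A) (hφ : ∀ i : M, ∀ b ∈ ℬ i, φ b ∈ 𝒜 i)
    (m : Ideal A) [m.IsMaximal] (hfix : ∀ i : M, i ≠ 0 → ∀ a ∈ 𝒜 i, a ∈ m) :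
    (RingHom.ker ((algebraMap A (Localization.AtPrime m)).comp (φ : B →+* A))).IsHomogeneous ℬ := by
  classical
  intro d₀ b hb
  set ψ : B →+* Localization.AtPrime m := (algebraMap A (Localization.AtPrime m)).comp (φ : B →+* A) with hψ
  let T := DFinsupp.support (DirectSum.decompose ℬ b)
  let I : Ideal (Localization.AtPrime m) :=
    Ideal.span ↑(T.image fun j => ψ (DirectSum.decompose ℬ b j : B))
  have hI : ∀ j, ψ (DirectSum.decompose ℬ b j : B) ∈ I := fun j => by
    by_cases hj : j ∈ T
    · exact Ideal.subset_span (Finset.mem_coe.mpr (Finset.mem_image_of_mem _ hj))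
    · rw [DFinsupp.notMem_support_iff.mp hj, ZeroMemClass.coe_zero, map_zero]; exact zero_mem _
  obtain ⟨⟨s, hs⟩, hsb⟩ := (IsLocalization.map_eq_zero_iff m.primeCompl (Localization.AtPrime m) (φ b)).mp
    (RingHom.mem_ker.mp hb)
  have hs0 : (DirectSum.decompose 𝒜 s 0 : A) ∉ m := by
    intro h
    refine hs ?_
    rw [← DirectSum.sum_support_decompose 𝒜 s]
    refine Submodule.sum_mem _ fun i _ => ?_
    by_cases hi : i = 0
    · subst hi; exact h
    · exact hfix i hi _ (Submodule.coe_mem _)
  have hφd : ∀ j, φ (DirectSum.decompose ℬ b j : B) ∈ 𝒜 j := fun j => hφ j _ (Submodule.coe_mem _)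
  let mL := IsLocalRing.maximalIdeal (Localization.AtPrime m)
  have hmem : ∀ d, ψ (DirectSum.decompose ℬ b d : B) ∈ mL • I := by
    intro d
    have hpart : ∀ i, i ∈ T → (DirectSum.decompose 𝒜 (s * φ (DirectSum.decompose ℬ b i : B)) d : A) =
      (DirectSum.decompose 𝒜 s (d - i) : A) * φ (DirectSum.decompose ℬ b i : B) := fun i _ => by
      rw [show d = (d - i) + i from (sub_add_cancel d i).symm, DirectSum.coe_decompose_mul_add_of_right_mem 𝒜 (hφd i),
        add_sub_cancel_right]
    have hsum : ∑ i ∈ T, (DirectSum.decompose 𝒜 s (d - i) : A) * φ (DirectSum.decompose ℬ b i : B) = 0 := by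
      rw [← Finset.sum_congr rfl hpart]
      simp only [← GradedRing.proj_apply, ← map_sum, ← Finset.mul_sum]
      rw [show ∑ i ∈ T, (GradedRing.proj ℬ i) b = b from DirectSum.sum_support_decompose ℬ b]
      simpa using congrArg (GradedRing.proj 𝒜 d) hsb
    by_cases hd : d ∈ T
    · rw [← Finset.add_sum_erase _ _ hd, sub_self] at hsum
      have h2 := congrArg (algebraMap A (Localization.AtPrime m)) hsum
      rw [map_add, map_sum, map_zero, map_mul] at h2
      have hu : IsUnit (algebraMap A (Localization.AtPrime m) (DirectSum.decompose 𝒜 s 0 : A)) :=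
        IsLocalization.map_units (Localization.AtPrime m) (⟨_, hs0⟩ : m.primeCompl)
      refine (Ideal.unit_mul_mem_iff_mem (mL • I) hu).mp ?_
      rw [show _ * ψ _ = _ from eq_neg_of_add_eq_zero_left h2, neg_mem_iff]
      refine Submodule.sum_mem _ fun i hi => ?_
      rw [map_mul]
      refine Ideal.mul_mem_mul ?_ (hI i)
      show _ ∈ IsLocalRing.maximalIdeal (Localization.AtPrime m)
      rw [← Localization.AtPrime.map_eq_maximalIdeal]
      exact Ideal.mem_map_of_mem _ (hfix _ (sub_ne_zero.mpr (Finset.ne_of_mem_erase hi).symm) _ (Submodule.coe_mem _))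
    · rw [DFinsupp.notMem_support_iff.mp hd, ZeroMemClass.coe_zero, map_zero]; exact zero_mem _
  have hall : I = ⊥ := Submodule.eq_bot_of_le_smul_of_le_jacobson_bot mL I ⟨_, rfl⟩ (by
    refine Ideal.span_le.mpr ?_
    intro z hz
    obtain ⟨j, -, rfl⟩ := Finset.mem_image.mp hz
    exact hmem j) (IsLocalRing.maximalIdeal_le_jacobson _)
  exact RingHom.mem_ker.mpr ((Submodule.mem_bot _).mp (hall ▸ hI d₀))

end Groth.Agent.S18791
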