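import Groth.Statements.S18805
import Groth.Agent.CurveFF.Facts
import Groth.Agent.CurveFF.Canonical
import Groth.Agent.CurveCohLib.Nonspecial
import Groth.Agent.CurveCohLib.Clifford
import Groth.Agent.Lib.CurveBundle
import Groth.Agent.Lib.CurveSlope
import Groth.Agent.CurveVA.Canonical

set_option autoImplicit false
set_option linter.style.haveILetI false
set_option linter.unusedSectionVars false
set_option backward.isDefEq.respectTransparency false
set_option backward.isDefEq.respectTransparency.types false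
set_option maxHeartbeats 1000000
universe u
open CategoryTheory CategoryTheory.Limits AlgebraicGeometry
open Curves

namespace Groth.Agent.S18805

open Groth.Agent

open CategoryTheory.Limits Groth.Agent Groth.Agent.CurveBundle Groth.Agent.CurveSlope in
theorem ideal_facts (k : Type u) [Field k] [IsAlgClosed k]
    (X : Scheme.{u}) [X.Over (Spec (CommRingCat.of k))] [IsIntegral X]
    [IsProper (X ↘ Spec (CommRingCat.of k))] [Smooth (X ↘ Spec (CommRingCat.of k))]
    (hdim : topologicalKrullDim X = 1) (I : X.IdealSheafData)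
    (h4 : Module.finrank k (Coh.HH X (ClSub.quotMod I) 0) = 4) :
    PicF.IsInvertible (ClSub.idealMod I) ∧ Curv2.deg k X (ClSub.idealMod I) 1 = -4 := by
  haveI := CurveCohLib.isNoetherian_of_proper (k := k) (X := X)
  have hne : I ≠ ⊥ := by
    rintro rfl
    haveI : Surjective (⊥ : X.IdealSheafData).subschemeι := ⟨fun x => by
      have : x ∈ Set.range (⊥ : X.IdealSheafData).subschemeι := by
        rw [Scheme.IdealSheafData.range_subschemeι, Scheme.IdealSheafData.support_bot]; trivial
      exact this⟩
    haveI : IsIso (⊥ : X.IdealSheafData).subschemeι := isIso_of_isClosedImmersion_of_surjective _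
    let Z : X.IdealSheafData := ⊥
    let φ := ClSub.toSubscheme Z
    let e₁ : Coh.HH X (Coh.structureModule X) 0 ≃+ Γ(Coh.structureModule X, ⊤) :=
      Sheaf.H.equiv₀ (Coh.toAb (Coh.structureModule X)) isTerminalTop
    let e₂ : Coh.HH X (ClSub.quotMod Z) 0 ≃+ Γ(ClSub.quotMod Z, ⊤) :=
      Sheaf.H.equiv₀ (Coh.toAb (ClSub.quotMod Z)) isTerminalTop
    have e : ∀ t, e₂ (Groth.Agent.PnCoh.Finite.mapLin k φ 0 t) = φ.app ⊤ (e₁ t) := fun t =>
      (Sheaf.H.equiv₀_naturality isTerminalTop ((QCoh.toAbFunctor X).map φ) t).symm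
    have hA : Function.Bijective (φ.app ⊤) := ConcreteCategory.bijective_of_isIso (Z.subschemeι.app ⊤)
    have hb : Function.Bijective (Groth.Agent.PnCoh.Finite.mapLin k φ 0) := by
      refine ⟨fun a b h => e₁.injective (hA.1 (by rw [← e, ← e, h])), fun z => ?_⟩
      obtain ⟨w, hw⟩ := hA.2 (e₂ z)
      exact ⟨e₁.symm w, e₂.injective (by rw [e, AddEquiv.apply_symm_apply]; exact hw)⟩
    have h := (LinearEquiv.ofBijective _ hb).finrank_eq
    rw [CurveCohLib.Clifford.finrank_h0_structure k (X := X), h4] at h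
    omega
  have hη : genericPoint X ∉ (I.support : Set X) := fun h => hne (Scheme.IdealSheafData.support_eq_top_iff.1
    (SetLike.coe_injective (Set.eq_univ_of_forall fun y =>
      ((genericPoint_spec X).specializes (Set.mem_univ y)).mem_closed I.support.isClosed h)))
  have hdimI : topologicalKrullDim (I.support : Set X) ≤ 0 :=
    CurveDeg.topologicalKrullDim_le_zero_of_ne_univ hdim.le I.support.isClosed fun h => hη (h ▸ trivial)
  have hS := CurveCohLib.Nonspecial.ideal_shortExact I
  have hQ := ParShLib.isCoh_quotMod I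
  have hI : Coh.IsCoh (ClSub.idealMod I) := QCoh.isCoh_kernel QCoh.isCoh_structureModule' hQ _
  haveI : Mono (ClSub.idealModι I) := hS.mono_f
  have hO : FlatMod.IsFinLocFree (Coh.structureModule X) := fun y =>
    let ⟨W, hy, he⟩ := InvEnd.isFinLocFreeOfRank_one CurveDeg.isInvertible_structureModule y; ⟨W, 1, hy, he⟩
  have hf := isFinLocFree_of_mono k hdim.le hI (ClSub.idealModι I) hO
  have hO1 := InvEnd.isFinLocFreeOfRank_one (CurveDeg.isInvertible_structureModule (X := X))
  have h := rk_add_coh k _ _ _ hS QCoh.isCoh_structureModule'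
  have h0 : rk (ClSub.quotMod I) = 0 := by
    haveI : Subsingleton ((ClSub.quotMod I).presheaf.stalk (genericPoint X)) :=
      ParShLib.subsingleton_stalk_quotMod I hη
    letI := (isField_stalk_generic (X := X)).toField
    exact Module.finrank_zero_of_subsingleton
  rw [rk_eq hO1] at h
  have h' : rk (ClSub.idealMod I) = 1 := by
    change 1 = rk (ClSub.idealMod I) + rk (ClSub.quotMod I) at h
    omega
  have hinv : PicF.IsInvertible (ClSub.idealMod I) := fun x =>
    let ⟨U, hx, ⟨e⟩⟩ := (h' ▸ isFinLocFreeOfRank_rk hf :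
      FlatMod.IsFinLocFreeOfRank 1 (ClSub.idealMod I)) x
    ⟨U, hx, ⟨e ≪≫ coproductUniqueIso _⟩⟩
  refine ⟨hinv, ?_⟩
  have hcl : ∀ x ∈ CohB1.support (ClSub.quotMod I), IsClosed ({x} : Set X) := fun x hx =>
    CurveCohLib.Nonspecial.isClosed_of_mem_support k hdim I hdimI
      (not_not.1 fun h => hx (ParShLib.subsingleton_stalk_quotMod I h))
  have hadd := euler_add' k _ _ _ hS hI QCoh.isCoh_structureModule' hQ
  rw [CurveCohLib.euler_eq_finrank_zero hQ hcl, h4] at hadd
  unfold Curv2.deg
  change _ = Curv2.euler k X (ClSub.idealMod I) + _ at hadd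
  push_cast at hadd ⊢
  omega


/-- Let k be an algebraically closed field of characteristic zero and X a smooth proper integral curve
over k (integral, proper and smooth over k, of dimension one), with sheaf of differentials ω =
Ω_(X/k). Then ω is 3-very ample, meaning dim_k H^0(X, ω ⊗ I) + 4 = dim_k H^0(X, ω) for every
quasi-coherent ideal I of O_X with dim_k H^0(X, O_X/I) = 4, if and only if X carries no g^1_4,
meaning that for every such I (the ideal of an effective divisor D of degree 4) every module M with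
I ⊗ M ≅ O_X (so M plays the role of O_X(D)) has dim_k H^0(X, M) = 1. -/
theorem result
    (k : Type u) [Field k] [IsAlgClosed k] [CharZero k]
    (X : Scheme.{u}) [X.Over (Spec (CommRingCat.of k))] [IsIntegral X]
    [IsProper (X ↘ Spec (CommRingCat.of k))] [Smooth (X ↘ Spec (CommRingCat.of k))]
    (hdim : topologicalKrullDim X = 1) :
    (∀ (I : X.IdealSheafData), Module.finrank k (Coh.HH X (ClSub.quotMod I) 0) = 4 →
      Module.finrank k (Coh.HH X (CohB1.tensorMod (Omega.sheaf (X ↘ Spec (CommRingCat.of k))) (ClSub.idealMod I)) 0) + 4 =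
        Module.finrank k (Coh.HH X (Omega.sheaf (X ↘ Spec (CommRingCat.of k))) 0)) ↔
    (∀ (I : X.IdealSheafData), Module.finrank k (Coh.HH X (ClSub.quotMod I) 0) = 4 →
      ∀ (M : X.Modules), ClSub.IsInverseOf (ClSub.idealMod I) M →
        Module.finrank k (Coh.HH X M 0) = 1) := by
  have key : ∀ (I : X.IdealSheafData), Module.finrank k (Coh.HH X (ClSub.quotMod I) 0) = 4 →
      ∀ (M : X.Modules), ClSub.IsInverseOf (ClSub.idealMod I) M →
        (Module.finrank k (Coh.HH X (CohB1.tensorMod (Omega.sheaf (X ↘ Spec (CommRingCat.of k))) (ClSub.idealMod I)) 0) + 4 =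
          Module.finrank k (Coh.HH X (Omega.sheaf (X ↘ Spec (CommRingCat.of k))) 0) ↔
        Module.finrank k (Coh.HH X M 0) = 1) := by
    intro I h4 M hM
    obtain ⟨hinv, hdeg⟩ := ideal_facts k X hdim I h4
    have hM' := Groth.Agent.CurveFF.isInvertible_of_inverse k hdim hinv hM
    obtain ⟨e⟩ := hM
    have hd := Groth.Agent.CurveFF.deg_inverse k hdim hinv hM' ⟨e⟩
    have hrr := Groth.Agent.CurveFF.riemann_roch k hdim hM'
      (Groth.Agent.CurveTensor.commIso M (ClSub.idealMod I) ≪≫ e)
    have hΩ := (Groth.Agent.CurveFF.canonical_invariants k X hdim).1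
    change _ - (Module.finrank k (Coh.HH X (CohB1.tensorMod (Omega.sheaf (X ↘ Spec (CommRingCat.of k)))
      (ClSub.idealMod I)) 0) : ℤ) = _ at hrr
    change Module.finrank k (Coh.HH X (Omega.sheaf (X ↘ Spec (CommRingCat.of k))) 0) = _ at hΩ
    omega
  refine ⟨fun h I h4 M hM => (key I h4 M hM).1 (h I h4), fun h I h4 => ?_⟩
  obtain ⟨hinv, -⟩ := ideal_facts k X hdim I h4
  haveI := Groth.Agent.CurveCohLib.isNoetherian_of_proper (k := k) (X := X)
  obtain ⟨M, hM, -, ⟨e⟩⟩ := Groth.Agent.CurveDuality.exists_inverse_deg k hdim hinv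
  exact (key I h4 M ⟨e⟩).2 (h I h4 M ⟨e⟩)

end Groth.Agent.S18805
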