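import Groth.Statements.S18828
import Groth.Agent.S5336
import Groth.Agent.LocalCrit.Flatness
import Mathlib.AlgebraicGeometry.Morphisms.FlatMono
set_option linter.style.haveILetI false
set_option backward.isDefEq.respectTransparency false

set_option autoImplicit false
universe u
open CategoryTheory MonoidalCategory CartesianMonoidalCategory MonObj AlgebraicGeometry
open AlgGrp

namespace Groth.Agent.S18828

open CategoryTheory AlgebraicGeometry IsLocalRing TensorProduct

/-- A map of local rings bijective modulo all powers of the maximal ideals is flat. -/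
theorem flat_of_bijective_quotient_pow {A B : Type u} [CommRing A] [CommRing B] [IsLocalRing A] [IsLocalRing B]
    [IsNoetherianRing A] [IsNoetherianRing B] (φ : A →+* B)
    (hs : ∀ n : ℕ, Function.Surjective ((Ideal.Quotient.mk (maximalIdeal B ^ (n + 1))).comp φ))
    (hk : ∀ (n : ℕ) (a : A), φ a ∈ maximalIdeal B ^ (n + 1) ↔ a ∈ maximalIdeal A ^ (n + 1)) : φ.Flat := by
  letI := φ.toAlgebra
  have hle : (maximalIdeal A).map φ ≤ maximalIdeal B := Ideal.map_le_iff_le_comap.2 fun a ha => by
    have := (hk 0 a).2 (by simpa using ha)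
    simpa using this
  have heq : (maximalIdeal A).map φ = maximalIdeal B := by
    refine le_antisymm hle (Submodule.le_of_le_smul_of_le_jacobson_bot (I := maximalIdeal B)
      (IsNoetherian.noetherian _) (le_of_eq (IsLocalRing.jacobson_eq_maximalIdeal ⊥ bot_ne_top).symm) fun b hb => ?_)
    obtain ⟨a, ha⟩ := hs 1 (Ideal.Quotient.mk _ b)
    rw [RingHom.comp_apply, Ideal.Quotient.eq] at ha
    have hb' : φ a - b ∈ maximalIdeal B := Ideal.pow_le_self two_ne_zero ha
    have ha' : φ a ∈ maximalIdeal B := by simpa using add_mem hb' hb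
    refine Submodule.mem_sup.2 ⟨φ a, Ideal.mem_map_of_mem φ (by simpa using (hk 0 a).1 (by simpa using ha')),
      -(φ a - b), ?_, by simp⟩
    rw [Ideal.smul_eq_mul, ← pow_two]
    exact neg_mem ha
  refine (RingHom.flat_algebraMap_iff (R := A) (S := B)).2 ?_
  refine LocalCrit.flat_of_forall_quotient_pow (B := B) (M := B) (maximalIdeal A)
    (hle.trans_eq (IsLocalRing.jacobson_eq_maximalIdeal ⊥ bot_ne_top).symm) fun n => ?_
  let I := maximalIdeal A ^ n
  have hsmul : ∀ b : B, b ∈ (I • ⊤ : Submodule A B) ↔ b ∈ maximalIdeal B ^ n := fun b => by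
    rw [Ideal.smul_top_eq_map, Submodule.restrictScalars_mem, show I.map (algebraMap A B) = maximalIdeal B ^ n by
      rw [Ideal.map_pow]; exact congrArg (· ^ n) heq]
  have hbij : Function.Bijective (Algebra.TensorProduct.includeLeft : (A ⧸ I) →ₐ[A ⧸ I] (A ⧸ I) ⊗[A] B) := by
    have hval : ∀ a : A, TensorProduct.quotTensorEquivQuotSMul B I
        ((Ideal.Quotient.mk I a) ⊗ₜ[A] (1 : B)) = Submodule.Quotient.mk (φ a) := fun a => by
      rw [TensorProduct.quotTensorEquivQuotSMul_mk_tmul]
      show Submodule.Quotient.mk (φ a * 1) = _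
      rw [_root_.mul_one]
    refine ⟨(injective_iff_map_eq_zero _).2 fun c hc => ?_, fun z => ?_⟩
    · obtain ⟨a, rfl⟩ := Ideal.Quotient.mk_surjective c
      have h1 := congrArg (TensorProduct.quotTensorEquivQuotSMul B I) hc
      rw [Algebra.TensorProduct.includeLeft_apply, hval, map_zero, Submodule.Quotient.mk_eq_zero, hsmul] at h1
      rw [Ideal.Quotient.eq_zero_iff_mem]
      rcases n with _ | n
      · simp [I]
      · exact (hk n a).1 h1
    · obtain ⟨b, hb⟩ := Submodule.mkQ_surjective (I • ⊤ : Submodule A B) (TensorProduct.quotTensorEquivQuotSMul B I z)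
      obtain ⟨a, ha⟩ : ∃ a, φ a - b ∈ maximalIdeal B ^ n := by
        rcases n with _ | n
        · exact ⟨0, by simp⟩
        · obtain ⟨a, ha⟩ := hs n (Ideal.Quotient.mk _ b)
          exact ⟨a, Ideal.Quotient.eq.1 ha⟩
      refine ⟨Ideal.Quotient.mk I a, (TensorProduct.quotTensorEquivQuotSMul B I).injective ?_⟩
      rw [Algebra.TensorProduct.includeLeft_apply, hval, ← hb, Submodule.mkQ_apply, Submodule.Quotient.eq, hsmul]
      exact ha
  haveI : Module.Flat (A ⧸ I) ((A ⧸ I) ⊗[A] B) :=
    Module.Flat.of_linearEquiv (AlgEquiv.ofBijective _ hbij).toLinearEquiv.symm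
  exact LocalCrit.keepsInjective_of_flat I B


/-- Let k be a field and f : H → G a homomorphism of locally algebraic groups over k (group k-schemes
locally of finite type). Write e_H for the unit point of H (the image under the unit section of the
point pt of the base Spec k) and φ : O_{G,f(e_H)} → O_{H,e_H} for the induced local homomorphism of
local rings. Assume (1) φ induces an isomorphism of completed local rings, stated here as: for every
n, φ followed by reduction modulo the (n+1)-st power of the maximal ideal of O_{H,e_H} is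
surjective, and an element of O_{G,f(e_H)} maps into that power exactly when it lies in the (n+1)-st
power of the maximal ideal of O_{G,f(e_H)}; and (2) f is a monomorphism of schemes. Then f is an
open immersion. -/
theorem result (k : Type u) [Field k]
    (H G : Over (Spec (CommRingCat.of k))) [GrpObj H] [GrpObj G]
    [LocallyOfFiniteType H.hom] [LocallyOfFiniteType G.hom] (f : H ⟶ G) [IsMonHom f] [Mono f.left]
    (pt : ↥(𝟙_ (Over (Spec (CommRingCat.of k)))).left)
    (h : ∀ n : ℕ,
      Function.Surjective ((Ideal.Quotient.mk (IsLocalRing.maximalIdeal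
          ↑(H.left.presheaf.stalk (η[H].left.base pt)) ^ (n + 1))).comp
        (f.left.stalkMap (η[H].left.base pt)).hom) ∧
      ∀ a : ↑(G.left.presheaf.stalk (f.left.base (η[H].left.base pt))),
        (f.left.stalkMap (η[H].left.base pt)).hom a ∈
            IsLocalRing.maximalIdeal ↑(H.left.presheaf.stalk (η[H].left.base pt)) ^ (n + 1) ↔
          a ∈ IsLocalRing.maximalIdeal ↑(G.left.presheaf.stalk (f.left.base (η[H].left.base pt))) ^ (n + 1)) :
    IsOpenImmersion f.left := by
  haveI : Mono f := (Over.forget _).mono_of_mono_map (inferInstanceAs (Mono f.left))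
  let x := η[H].left.base pt
  haveI : IsLocallyNoetherian H.left := LocallyOfFiniteType.isLocallyNoetherian H.hom
  haveI : IsLocallyNoetherian G.left := LocallyOfFiniteType.isLocallyNoetherian G.hom
  have hflat : (f.left.stalkMap x).hom.Flat :=
    flat_of_bijective_quotient_pow (f.left.stalkMap x).hom (fun n => (h n).1) (fun n => (h n).2)
  haveI : Flat f.left := S5336.result k H G f ⟨x, hflat⟩
  haveI : LocallyOfFiniteType (f.left ≫ G.hom) := by rw [Over.w f]; infer_instance
  haveI : LocallyOfFiniteType f.left := locallyOfFiniteType_of_comp f.left G.hom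
  haveI : LocallyOfFinitePresentation f.left := LocallyOfFinitePresentation.iff_locallyOfFiniteType.2 inferInstance
  exact IsOpenImmersion.of_flat_of_mono f.left

end Groth.Agent.S18828
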