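import Groth.Statements.S1884
import Groth.Agent.S0217
import Groth.Agent.GrpdThick.DimOne

set_option backward.isDefEq.respectTransparency false
set_option backward.isDefEq.respectTransparency.types false
set_option maxHeartbeats 800000

set_option autoImplicit false
universe u
open CategoryTheory CategoryTheory.Limits AlgebraicGeometry
open Grpd

namespace Groth.Agent.S1884

/-- Let (U, R, s, t, c) be a groupoid scheme with s, t finite, U separated and locally Noetherian, and u
a point such that every point u' in the orbit of u (u' = t(r) with s(r) = u) has local ring of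
dimension at most 1. Then u lies in an R-invariant affine open of U. (A groupoid scheme carries U,
R, s, t, c, e, i over S with the groupoid axioms on T-points; 'finite locally free' is finite, flat
and locally of finite presentation; C ⊂ Γ(U) is the ring of functions a with s♯(a) = t♯(a) and M =
Spec C.) -/
theorem result (S : Scheme.{u}) (G : Grpd.GroupoidScheme S) [IsFinite G.s] [IsFinite G.t] [G.U.IsSeparated] [IsLocallyNoetherian G.U] (u : G.U) (hdim : ∀ r : G.R, G.s r = u → ringKrullDim (G.U.presheaf.stalk (G.t r)) ≤ 1) : ∃ W : G.U.Opens, IsAffineOpen W ∧ u ∈ W ∧ G.s ⁻¹ᵁ W = G.t ⁻¹ᵁ W := by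
  classical
  let O : Set G.U := G.t '' (G.s ⁻¹' {u})
  have hO : O.Finite := (G.s.finite_preimage_singleton u).image _
  have huO : u ∈ O := ⟨G.e u, by show G.s (G.e u) = u; rw [← Scheme.Hom.comp_apply, G.e_s]; rfl,
    by rw [← Scheme.Hom.comp_apply, G.e_t]; rfl⟩
  have horb : ∀ r : G.R, G.s r ∈ O → G.t r ∈ O := by
    rintro r ⟨r', hr', e⟩
    obtain ⟨r'', h₁, h₂⟩ := GrpdLib.exists_comp G r r' e.symm
    exact ⟨r'', h₂.trans hr', h₁⟩
  obtain ⟨Wa, hWa, hOWa⟩ := Groth.Agent.S0217.result G.U (fun V hV => by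
      haveI : CompactSpace V.toScheme := isCompact_iff_compactSpace.1 hV
      haveI : IsLocallyNoetherian V.toScheme := LocallyOfFiniteType.isLocallyNoetherian V.ι
      haveI : IsNoetherian V.toScheme := {}
      exact TopologicalSpace.NoetherianSpace.finite_irreducibleComponents (α := (V.toScheme : Type u)))
    hO.toFinset (fun x hx => by
      obtain ⟨r, hr, rfl⟩ := hO.mem_toFinset.1 hx
      exact ⟨inferInstance, hdim r hr⟩)
  let N := GrpdLib.invCore G Wa
  have hN : GrpdLib.IsInv G N := GrpdLib.isInv_invCore _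
  have hON : O ⊆ N := fun x hx => GrpdLib.mem_invCore.2 fun r hr =>
    hOWa _ (hO.mem_toFinset.2 (horb r (hr ▸ hx)))
  let H := GrpdLib.restrict G N hN
  haveI hsfin : IsFinite H.s := IsZariskiLocalAtTarget.restrict (P := @IsFinite) ‹IsFinite G.s› N
  haveI : IsFinite H.t := by
    haveI : IsIso H.i := ⟨H.i, GrpdLib.i_i H, GrpdLib.i_i H⟩
    rw [← H.i_s]
    infer_instance
  haveI : IsLocallyNoetherian H.U := LocallyOfFiniteType.isLocallyNoetherian N.ι
  haveI : LocallyOfFinitePresentation H.s := GrpdThick.lfp_of_noetherian _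
  haveI : H.U.IsSeparated := ⟨by
    show IsSeparated (terminal.from N.toScheme)
    rw [← terminal.comp_from N.ι]; infer_instance⟩
  haveI : IsAffine Wa.toScheme := hWa
  let j : H.U ⟶ Spec Γ(G.U, Wa) := G.U.homOfLE (GrpdLib.invCore_le Wa) ≫ hWa.isoSpec.hom
  haveI : IsOpenImmersion j :=
    inferInstanceAs (IsOpenImmersion (G.U.homOfLE (GrpdLib.invCore_le Wa) ≫ hWa.isoSpec.hom))
  have hsι : ∀ r : H.R, N.ι (H.s r) = G.s ((G.s ⁻¹ᵁ N).ι r) := fun r => by
    show N.ι (GrpdLib.resS G N r) = _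
    rw [← Scheme.Hom.comp_apply, GrpdLib.resS_ι, Scheme.Hom.comp_apply]
  have htι : ∀ r : H.R, N.ι (H.t r) = G.t ((G.s ⁻¹ᵁ N).ι r) := fun r => by
    show N.ι (GrpdLib.resT G N hN r) = _
    rw [← Scheme.Hom.comp_apply, GrpdLib.resT_ι, Scheme.Hom.comp_apply]
  let O' : Set H.U := N.ι ⁻¹' O
  have horb' : ∀ r : H.R, H.s r ∈ O' → H.t r ∈ O' := fun r hr => by
    show N.ι (H.t r) ∈ O
    rw [htι]
    refine horb _ ?_
    rw [← hsι]
    exact hr
  have hrel : ∀ x ∈ O', ∀ y ∈ O', x ∈ GrpdThick.core H → y ∈ GrpdThick.core H := by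
    rintro x ⟨r, hr, hrx⟩ y ⟨r', hr', hry⟩ hxc
    obtain ⟨i, hit, his⟩ := GrpdLib.exists_inv G r
    obtain ⟨a, hat, has⟩ := GrpdLib.exists_comp G r' i (hr'.trans (hr.symm.trans hit.symm))
    have has' : G.s a = N.ι x := has.trans (his.trans hrx)
    have hat' : G.t a = N.ι y := hat.trans hry
    have hmem : G.s a ∈ N := by rw [has']; exact x.2
    let a' : H.R := (⟨a, hmem⟩ : (G.s ⁻¹ᵁ N).toScheme)
    have e1 : H.s a' = x := N.ι.isOpenEmbedding.injective ((hsι a').trans has')
    have e2 : H.t a' = y := N.ι.isOpenEmbedding.injective ((htι a').trans hat')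
    rw [← e2]
    exact ((GrpdThick.isInv_core H).mem_iff a').1 (e1 ▸ hxc)
  have hsplit : O' ⊆ (GrpdThick.core H : Set H.U) ∨ Disjoint O' (GrpdThick.core H : Set H.U) := by
    by_cases h : ∃ x ∈ O', x ∈ GrpdThick.core H
    · obtain ⟨x, hx, hxc⟩ := h
      exact Or.inl fun y hy => hrel x hx y hy hxc
    · exact Or.inr (Set.disjoint_left.2 fun x hx hxc => h ⟨x, hx, hxc⟩)
  have hgen : ∀ x ∈ O', ∀ y : H.U, y ⤳ x → y ≠ x → y ∈ GrpdThick.core H := by
    rintro x ⟨r₀, hr₀, hx⟩ y hyx hne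
    refine GrpdThick.mem_core H y fun r hr z hz => N.ι.isOpenEmbedding.injective ?_
    rw [htι]
    refine GrpdThick.translate_maximal u hdim hr₀ hx (hyx.map N.ι.continuous)
      (fun e => hne (N.ι.isOpenEmbedding.injective e)) _ (by rw [← hsι, hr]) _ ?_
    rw [← htι]
    exact hz.map N.ι.continuous
  obtain ⟨W, hW, hOW, hinv⟩ := GrpdThick.exists_invariant_affineOpen_of_core (G := H) j O'
    (hO.preimage N.ι.isOpenEmbedding.injective.injOn) horb' hsplit hgen
  refine ⟨N.ι ''ᵁ W, hW.image_of_isOpenImmersion N.ι,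
    ⟨⟨u, hON huO⟩, hOW (show (⟨u, hON huO⟩ : H.U) ∈ O' from huO), rfl⟩, GrpdLib.isInv_of_mem ?_⟩
  rintro r ⟨z, hz, hzr⟩
  have hmem : G.s r ∈ N := hzr ▸ z.2
  let r' : H.R := (⟨r, hmem⟩ : (G.s ⁻¹ᵁ N).toScheme)
  have e1 : H.s r' = z := N.ι.isOpenEmbedding.injective ((hsι r').trans hzr.symm)
  exact ⟨H.t r', (hinv.mem_iff r').1 (e1 ▸ hz), htι r'⟩


end Groth.Agent.S1884
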