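import Groth.Statements.S18841
import Groth.Agent.HilbBound.Closed
-- import your own Groth.Agent.* helpers here

set_option autoImplicit false
set_option linter.style.haveILetI false
universe u
open CategoryTheory CategoryTheory.Limits AlgebraicGeometry Polynomial
open Variety

namespace Groth.Agent.S18841

/-- Let k be an algebraically closed field of characteristic zero, X a projective k-scheme embedded in
projective n-space by a closed immersion ι, with L ≅ ι^*O(1), and fix N ≥ 0 and a rational
polynomial P. There is an integer l_0 such that for every coherent O_X-module F which is a quotient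
q : O_X^N → F with Hilbert polynomial P with respect to L, writing G for the kernel of q, one has
for all l ≥ l_0: H^i(X, F(l)) = 0 and H^i(X, G(l)) = 0 for every i > 0, and G(l) is generated by its
global sections (twists M(l) = M ⊗ L^(⊗l)). -/
theorem result
    (k : Type u) [Field k] [IsAlgClosed k] [CharZero k]
    (X : Scheme.{u}) [X.Over (Spec (CommRingCat.of k))] [IsProper (X ↘ Spec (CommRingCat.of k))]
    (n : ℕ) (ι : X ⟶ CohB1.ProjSpace n k) [IsClosedImmersion ι]
    (hι : ι ≫ CohB1.ProjSpace.toSpec n k = X ↘ Spec (CommRingCat.of k))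
    (L : X.Modules) (hL : Nonempty (L ≅ (Scheme.Modules.pullback ι).obj (Twist.twistProjSpace n k 1)))
    (N : ℕ) (P : ℚ[X]) :
    ∃ l₀ : ℕ, ∀ (F : X.Modules) (q : FlatMod.freeMod X N ⟶ F),
      Coh.IsCoh F → Epi q → ShStab.IsHilbPoly k X L F P →
        ∀ l : ℕ, l₀ ≤ l →
          (∀ i : ℕ, 0 < i → Subsingleton (Coh.HH X (ShStab.twist X L F l) i)) ∧
          (∀ i : ℕ, 0 < i → Subsingleton (Coh.HH X (ShStab.twist X L (kernel q) l) i)) ∧
          Curv2.IsGloballyGenerated (ShStab.twist X L (kernel q) l) := by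
  classical
  obtain ⟨eL⟩ := hL
  let ι' : X ⟶ Proj (CohB1.polyGrading n k) := ι
  haveI : IsClosedImmersion ι' := inferInstanceAs (IsClosedImmersion ι)
  have hpow : ∀ l : ℕ, Nonempty (CohB1.tensorPow L l ≅ CohB1.tensorPow (PruferCoh.oneX (k := n) (R := k) ι) l) :=
    fun l => H23.PicMul.cl_eq_iff.1 (by rw [H23.PicMul.cl_tensorPow, H23.PicMul.cl_tensorPow, H23.PicMul.cl_eq_iff.2 ⟨eL⟩])
  have htw : ∀ (M : X.Modules) (l : ℕ), Nonempty (ShStab.twist X L M l ≅
      CohB1.tensorMod M (CohB1.tensorPow (PruferCoh.oneX (k := n) (R := k) ι) l)) :=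
    fun M l => ⟨PicGrp.tensorModIso (Iso.refl _) (hpow l).some⟩
  obtain ⟨m, hm⟩ := HilbBound.exists_push_bound (k := k) (n := n) ι' N P
  refine ⟨m.toNat, fun F q hF hq hP l hl => ?_⟩
  haveI : IsNoetherian (Proj (CohB1.polyGrading n k)) := Proj16.isNoetherian_proj _
  have hlm : m ≤ (l : ℤ) := by omega
  have hchi : ∀ j : ℕ,
      (HilbBound.chi (k := k) (n := n) ((Scheme.Modules.pushforward ι').obj F) (j : ℤ) : ℚ) = P.eval (j : ℚ) :=
    fun j => by
      rw [HilbBound.chi_push (k := k) (n := n) ι' hι hF.1 j, ← hP j]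
      exact congrArg _ (CurveCohLib.euler_congr (k := k) (htw F j).some.symm)
  obtain ⟨hK, hFreg, hKreg⟩ := hm F q hF hq
    (HilbBound.chi_eq_of_nat (QCoh.isCoh_pushforward_finite ι' hF) hchi)
  exact ⟨fun i hi => QCoh.subsingleton_HH_of_iso (htw F l).some.symm i
      (HilbBound.subsingleton_closed (k := k) (n := n) ι' hF hFreg hlm i hi),
    fun i hi => QCoh.subsingleton_HH_of_iso (htw (kernel q) l).some.symm i
      (HilbBound.subsingleton_closed (k := k) (n := n) ι' hK hKreg hlm i hi),
    AmpleX.isGloballyGenerated_of_iso (htw (kernel q) l).some.symm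
      (HilbBound.isGloballyGenerated_closed (k := k) (n := n) ι' hK hKreg hlm)⟩

end Groth.Agent.S18841
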