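import Groth.Statements.S18842
import Groth.Agent.TFQuot.Basic
import Groth.Agent.QCoh.Support
import Groth.Agent.KZ.OpenExt

set_option autoImplicit false
set_option linter.style.haveILetI false
set_option linter.unusedSectionVars false
set_option backward.isDefEq.respectTransparency false
set_option backward.isDefEq.respectTransparency.types false
set_option maxHeartbeats 1000000
universe u
open CategoryTheory AlgebraicGeometry
open TFOne

namespace Groth.Agent.S18842

open Groth.Agent
open CategoryTheory.Limits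

open Groth.Agent.TFQuot in
theorem st_biprod_eq {X : Scheme.{u}} {A B : X.Modules} (x : X) (w : (DerSch.stalkFunctor X x).obj (A ⊞ B)) :
    w = st (biprod.inl : A ⟶ A ⊞ B) x (st biprod.fst x w) + st (biprod.inr : B ⟶ A ⊞ B) x (st biprod.snd x w) := by
  rw [← st_comp, ← st_comp, ← st_add, biprod.total]
  show w = (DerSch.stalkFunctor X x).map (𝟙 _) w
  rw [CategoryTheory.Functor.map_id]
  rfl


/-- Let X be a proper reduced scheme of pure dimension one over a field k and M a torsion-free rank-1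
sheaf on X. For closed subcurves Y and Z of X (non-empty unions of irreducible components) let W be
the union of the irreducible components of X contained in Y ∩ Z (W may be empty). Writing M_T for
the torsion-free quotient of M on a closed subset T (pinned by its defining property; M_W = 0 when W
is empty), one has χ(M_{Y ∪ Z}) + χ(M_W) ≤ χ(M_Y) + χ(M_Z). (The source states this for curves that
are moreover geometrically reduced with geometrically integral components and notes the equivalent
form with β in place of χ; neither is needed for the inequality as stated.) -/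
theorem result (k : Type u) [Field k] (X : Scheme.{u}) [X.Over (Spec (CommRingCat.of k))] [IsProper (X ↘ Spec (CommRingCat.of k))] [IsReduced X] (hpure : ∀ C ∈ irreducibleComponents (X : Type u), topologicalKrullDim C = 1) (M : X.Modules) (hM : TFOne.IsTF1 X M) (Y Z W : Set X) (hY : IsClosed Y) (hZ : IsClosed Z) (hYs : VecSt.IsSubcurve X Y) (hZs : VecSt.IsSubcurve X Z) (hW : W = ⋃₀ {C | C ∈ irreducibleComponents (X : Type u) ∧ C ⊆ Y ∩ Z}) (GY GZ GU GW : X.Modules) (πY : M ⟶ GY) (πZ : M ⟶ GZ) (πU : M ⟶ GU) (πW : M ⟶ GW) (hGY : TFOne.IsQuotOn X M Y GY πY) (hGZ : TFOne.IsQuotOn X M Z GZ πZ) (hGU : TFOne.IsQuotOn X M (Y ∪ Z) GU πU) (hGW : TFOne.IsQuotOn X M W GW πW) : Curv2.euler k X GU + Curv2.euler k X GW ≤ Curv2.euler k X GY + Curv2.euler k X GZ := by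
  haveI : IsLocallyNoetherian X := LocallyOfFiniteType.isLocallyNoetherian (X ↘ Spec (CommRingCat.of k))
  have hrk := hM.2.2
  have hid := fun (A : X.Modules) (π : M ⟶ A) => Category.id_comp π
  obtain ⟨rY, hrY⟩ := TFQuot.exists_factor hrk hGU hGY Set.subset_union_left (𝟙 M)
  obtain ⟨rZ, hrZ⟩ := TFQuot.exists_factor hrk hGU hGZ Set.subset_union_right (𝟙 M)
  have hWY : W ⊆ Y := by rw [hW]; exact Set.sUnion_subset fun C hC => hC.2.trans Set.inter_subset_left
  have hWZ : W ⊆ Z := by rw [hW]; exact Set.sUnion_subset fun C hC => hC.2.trans Set.inter_subset_right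
  obtain ⟨sY, hsY⟩ := TFQuot.exists_factor hrk hGY hGW hWY (𝟙 M)
  obtain ⟨sZ, hsZ⟩ := TFQuot.exists_factor hrk hGZ hGW hWZ (𝟙 M)
  rw [Category.id_comp] at hrY hrZ hsY hsZ
  have eY : ∀ η v, TFQuot.st rY η (TFQuot.st πU η v) = TFQuot.st πY η v := fun η v => by rw [← TFQuot.st_comp, hrY]
  have eZ : ∀ η v, TFQuot.st rZ η (TFQuot.st πU η v) = TFQuot.st πZ η v := fun η v => by rw [← TFQuot.st_comp, hrZ]
  have fY : ∀ η v, TFQuot.st sY η (TFQuot.st πY η v) = TFQuot.st πW η v := fun η v => by rw [← TFQuot.st_comp, hsY]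
  have fZ : ∀ η v, TFQuot.st sZ η (TFQuot.st πZ η v) = TFQuot.st πW η v := fun η v => by rw [← TFQuot.st_comp, hsZ]
  let a : GU ⟶ GY ⊞ GZ := biprod.lift rY rZ
  let b : GY ⊞ GZ ⟶ GW := biprod.desc sY (-sZ)
  have hab : a ≫ b = 0 := by
    haveI := hGU.1
    rw [← cancel_epi πU, comp_zero, biprod.lift_desc, Preadditive.comp_add, reassoc_of% hrY, Preadditive.comp_neg,
      Preadditive.comp_neg, reassoc_of% hrZ, hsY, hsZ, add_neg_cancel]
  haveI hmono : Mono a := Preadditive.mono_of_kernel_zero <| TFQuot.hom_eq_zero hGU.2.1.1 hGU.2.2.1 _ fun η hη v => by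
    have h0 : TFQuot.st a η (TFQuot.st (kernel.ι a) η v) = 0 := by
      rw [← TFQuot.st_comp, kernel.condition, TFQuot.st_zero]
    have hY' : TFQuot.st rY η (TFQuot.st (kernel.ι a) η v) = 0 := by
      rw [← biprod.lift_fst rY rZ, TFQuot.st_comp, h0, map_zero]
    have hZ' : TFQuot.st rZ η (TFQuot.st (kernel.ι a) η v) = 0 := by
      rw [← biprod.lift_snd rY rZ, TFQuot.st_comp, h0, map_zero]
    generalize TFQuot.st (kernel.ι a) η v = u at hY' hZ' ⊢
    by_cases hU : η ∈ Y ∪ Z
    · haveI := hGU.1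
      obtain ⟨m, rfl⟩ := TFQuot.st_surjective πU η u
      rcases hU with hU | hU
      · rw [(TFQuot.bijective_quot hrk hGY hη hU).1 (((eY η m).symm.trans hY').trans (map_zero _).symm), map_zero]
      · rw [(TFQuot.bijective_quot hrk hGZ hη hU).1 (((eZ η m).symm.trans hZ').trans (map_zero _).symm), map_zero]
    · exact TFQuot.stalk_eq_zero hGU hU u
  let c : cokernel a ⟶ GW := cokernel.desc a b hab
  haveI : Epi c := by
    haveI := hGW.1
    haveI : Epi (πY ≫ sY) := by rw [hsY]; infer_instance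
    haveI : Epi sY := epi_of_epi πY sY
    haveI : Epi b := epi_of_epi_fac (biprod.inl_desc sY (-sZ))
    exact epi_of_epi_fac (cokernel.π_desc a b hab)
  haveI : CompactSpace X := QuasiCompact.compactSpace_of_compactSpace (X ↘ Spec (CommRingCat.of k))
  haveI : AlgebraicGeometry.IsNoetherian X := {}
  have hsum : Coh.IsCoh (GY ⊞ GZ) := KZ.isCoh_biprod hGY.2.1 hGZ.2.1
  have hC : Coh.IsCoh (cokernel a) := QCoh.isCoh_cokernel hGU.2.1.1 hsum a
  have hK : Coh.IsCoh (kernel c) := QCoh.isCoh_kernel hC hGW.2.1 c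
  have h1 := Euler.euler_add k (S := ShortComplex.mk a (cokernel.π a) (cokernel.condition a))
    (.mk' (ShortComplex.exact_of_g_is_cokernel _ (cokernelIsCokernel a)) inferInstance inferInstance) hGU.2.1 hsum hC
  have h2 := Euler.euler_add k (S := ShortComplex.mk (kernel.ι c) c (kernel.condition c))
    (.mk' (ShortComplex.exact_kernel c) inferInstance inferInstance) hK hC hGW.2.1
  have h3 := Euler.euler_add k (S := ShortComplex.mk (biprod.inl : GY ⟶ GY ⊞ GZ) biprod.snd biprod.inl_snd)
    ((ShortComplex.Splitting.ofHasBinaryBiproduct GY GZ).shortExact) hGY.2.1 hsum hGZ.2.1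
  have h4 : 0 ≤ Curv2.euler k X (kernel c) := by
    refine TFQuot.euler_nonneg k (TFQuot.dim_le_one hpure) hK fun η hη hmem => hmem ?_
    refine subsingleton_of_forall_eq 0 fun v => TFQuot.st_injective (kernel.ι c) η ?_
    rw [map_zero]
    obtain ⟨w, hw⟩ := TFQuot.st_surjective (cokernel.π a) η (TFQuot.st (kernel.ι c) η v)
    have hb : TFQuot.st b η w = 0 := by
      rw [← cokernel.π_desc a b hab, TFQuot.st_comp, hw, ← TFQuot.st_comp, kernel.condition, TFQuot.st_zero]
    rw [← hw]
    suffices hu : ∃ u, TFQuot.st a η u = w by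
      obtain ⟨u, rfl⟩ := hu
      rw [← TFQuot.st_comp, cokernel.condition, TFQuot.st_zero]
    have hw2 := st_biprod_eq η w
    have hb2 : TFQuot.st sY η (TFQuot.st biprod.fst η w) = TFQuot.st sZ η (TFQuot.st biprod.snd η w) := by
      rw [← TFQuot.st_comp, ← TFQuot.st_comp, ← sub_eq_zero, ← TFQuot.st_sub]
      rwa [show biprod.fst ≫ sY - biprod.snd ≫ sZ = b from by
        apply biprod.hom_ext' <;> simp [b]]
    have hgoal : ∀ m, TFQuot.st πY η m = TFQuot.st biprod.fst η w → TFQuot.st πZ η m = TFQuot.st biprod.snd η w →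
        TFQuot.st a η (TFQuot.st πU η m) = w := fun m hm hm' => by
      rw [hw2, ← hm, ← hm', ← eY η m, ← eZ η m, ← TFQuot.st_comp rY, ← TFQuot.st_comp rZ, ← TFQuot.st_add,
        ← biprod.lift_eq]
    haveI := hGY.1; haveI := hGZ.1
    obtain ⟨m, hm⟩ := TFQuot.st_surjective πY η (TFQuot.st biprod.fst η w)
    obtain ⟨m', hm'⟩ := TFQuot.st_surjective πZ η (TFQuot.st biprod.snd η w)
    by_cases hY0 : η ∈ Y
    · refine ⟨_, hgoal m hm ?_⟩
      by_cases hZ0 : η ∈ Z
      · have hW0 : η ∈ W := by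
          rw [hW]
          exact Set.mem_sUnion.2 ⟨closure {η}, ⟨hη, Set.subset_inter
            (closure_minimal (Set.singleton_subset_iff.2 hY0) hY) (closure_minimal (Set.singleton_subset_iff.2 hZ0) hZ)⟩,
            subset_closure rfl⟩
        rw [← hm, ← hm', fY, fZ] at hb2
        rw [(TFQuot.bijective_quot hrk hGW hη hW0).1 hb2, hm']
      · exact (TFQuot.stalk_eq_zero hGZ hZ0 _).trans (TFQuot.stalk_eq_zero hGZ hZ0 _).symm
    · exact ⟨_, hgoal m' ((TFQuot.stalk_eq_zero hGY hY0 _).trans (TFQuot.stalk_eq_zero hGY hY0 _).symm) hm'⟩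
  linarith

end Groth.Agent.S18842
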