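import Groth.Statements.S18843
import Groth.Agent.TFQuot.Basic

set_option autoImplicit false
set_option linter.style.haveILetI false
set_option linter.unusedSectionVars false
set_option backward.isDefEq.respectTransparency false
set_option backward.isDefEq.respectTransparency.types false
set_option maxHeartbeats 1000000
universe u
open CategoryTheory AlgebraicGeometry
open TFOne

namespace Groth.Agent.S18843

open Groth.Agent
open CategoryTheory.Limits

/-- Let X be a proper, geometrically reduced scheme of pure dimension one over a field k whose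
irreducible components (with their reduced structure) are geometrically integral over k, and let M
be a torsion-free rank-1 sheaf on X. Let Y and Z be closed subcurves (non-empty unions of
irreducible components) with Y ∪ Z = X which have an irreducible component in common. If the
torsion-free quotients M_Y and M_Z of M on Y and on Z (pinned by their defining property) are both
simple over k, then M is simple over k. -/
theorem result (k : Type u) [Field k] (X : Scheme.{u}) [X.Over (Spec (CommRingCat.of k))] [IsProper (X ↘ Spec (CommRingCat.of k))] [IsReduced X] [GeometricallyReduced (X ↘ Spec (CommRingCat.of k))] (hpure : ∀ C ∈ irreducibleComponents (X : Type u), topologicalKrullDim C = 1) (hgi : ∀ (C : Set X) (hC : C ∈ irreducibleComponents (X : Type u)), GeometricallyIntegral (VecSt.subschι X C (isClosed_of_mem_irreducibleComponents C hC) ≫ (X ↘ Spec (CommRingCat.of k)))) (M : X.Modules) (hM : TFOne.IsTF1 X M) (Y Z : Set X) (hY : IsClosed Y) (hZ : IsClosed Z) (hYs : VecSt.IsSubcurve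 X Y) (hZs : VecSt.IsSubcurve X Z) (hcov : Y ∪ Z = Set.univ) (hmeet : ∃ C ∈ irreducibleComponents (X : Type u), C ⊆ Y ∩ Z) (GY GZ : X.Modules) (πY : M ⟶ GY) (πZ : M ⟶ GZ) (hGY : TFOne.IsQuotOn X M Y GY πY) (hGZ : TFOne.IsQuotOn X M Z GZ πZ) (hsY : TFOne.IsSimple X k (X ↘ Spec (CommRingCat.of k)) GY) (hsZ : TFOne.IsSimple X k (X ↘ Spec (CommRingCat.of k)) GZ) : TFOne.IsSimple X k (X ↘ Spec (CommRingCat.of k)) M := by
  haveI : IsLocallyNoetherian X := LocallyOfFiniteType.isLocallyNoetherian (X ↘ Spec (CommRingCat.of k))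
  have hrk := hM.2.2
  obtain ⟨C, hC, hCYZ⟩ := hmeet
  obtain ⟨η₀, hη₀⟩ := QuasiSober.sober hC.1 (isClosed_of_mem_irreducibleComponents C hC)
  have hg₀ : η₀ ∈ genericPoints X := by
    show closure ({η₀} : Set X) ∈ irreducibleComponents X
    rwa [hη₀.def]
  have hYZ₀ : η₀ ∈ Y ∩ Z := hCYZ (hη₀.def ▸ subset_closure rfl)
  have hk : ∀ (N : X.Modules) (η : X) (c : k) (v : (DerSch.stalkFunctor X η).obj N),
      TFQuot.st (Formal.smulMod k N c) η v =
        X.presheaf.germ ⊤ η trivial (Coh.toGlobal (X ↘ Spec (CommRingCat.of k)) c) • v :=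
    fun N η c v => TFQuot.st_smulMod N c η v
  refine ⟨fun hz => TFQuot.mem_support_of_rkOne hrk hg₀
    (TopCat.Presheaf.stalkFunctor AddCommGrpCat η₀ |>.map_isZero ((Scheme.Modules.toPresheaf _).map_isZero hz)
      |> AddCommGrpCat.subsingleton_of_isZero), fun φ => ?_⟩
  obtain ⟨rY, hrY⟩ := TFQuot.exists_factor hrk hGY hGY le_rfl φ
  obtain ⟨rZ, hrZ⟩ := TFQuot.exists_factor hrk hGZ hGZ le_rfl φ
  obtain ⟨cY, rfl⟩ := hsY.2 rY
  obtain ⟨cZ, rfl⟩ := hsZ.2 rZ
  have eY : ∀ η v, TFQuot.st πY η (TFQuot.st φ η v) =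
      TFQuot.st πY η (X.presheaf.germ ⊤ η trivial (Coh.toGlobal (X ↘ Spec (CommRingCat.of k)) cY) • v) :=
    fun η v => by rw [← TFQuot.st_comp, ← hrY, TFQuot.st_comp, hk, map_smul]
  have eZ : ∀ η v, TFQuot.st πZ η (TFQuot.st φ η v) =
      TFQuot.st πZ η (X.presheaf.germ ⊤ η trivial (Coh.toGlobal (X ↘ Spec (CommRingCat.of k)) cZ) • v) :=
    fun η v => by rw [← TFQuot.st_comp, ← hrZ, TFQuot.st_comp, hk, map_smul]
  have hc : cY = cZ := by
    obtain ⟨e⟩ := hrk η₀ hg₀
    have h := ((TFQuot.bijective_quot hrk hGY hg₀ hYZ₀.1).1 (eY η₀ (e.symm 1))).symm.trans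
      ((TFQuot.bijective_quot hrk hGZ hg₀ hYZ₀.2).1 (eZ η₀ (e.symm 1)))
    have h2 := congrArg e h
    simp only [map_smul, LinearEquiv.apply_symm_apply, smul_eq_mul, mul_one] at h2
    exact ((X.presheaf.germ ⊤ η₀ trivial).hom.comp (Coh.toGlobal (X ↘ Spec (CommRingCat.of k)))).injective h2
  subst hc
  refine ⟨cY, sub_eq_zero.1 (TFQuot.hom_eq_zero hM.1.1 hM.2.1 _ fun η hη v => ?_)⟩
  rw [TFQuot.st_sub, hk, sub_eq_zero]
  rcases (hcov.symm ▸ Set.mem_univ η : η ∈ Y ∪ Z) with h | h
  · exact (TFQuot.bijective_quot hrk hGY hη h).1 (eY η v)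
  · exact (TFQuot.bijective_quot hrk hGZ hη h).1 (eZ η v)

end Groth.Agent.S18843
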