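import Groth.Statements.S18844
import Groth.Agent.TFQuot.Scalars
import Groth.Agent.TFQuot.Basic

set_option autoImplicit false
set_option linter.style.haveILetI false
set_option linter.unusedSectionVars false
set_option backward.isDefEq.respectTransparency false
set_option backward.isDefEq.respectTransparency.types false
set_option maxHeartbeats 1000000
universe u
open CategoryTheory CategoryTheory.Limits AlgebraicGeometry
open TFOne

namespace Groth.Agent.S18844

open Groth.Agent
attribute [local instance] Curv2.stalkAlgebra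

/-- Let X be a proper, geometrically reduced scheme of pure dimension one over a field k whose
irreducible components (with their reduced structure) are geometrically integral over k, assume X is
non-empty, and take a torsion-free sheaf I of rank one on X. Then I is simple over k (every
endomorphism of I is multiplication by a scalar) exactly when I is not decomposable, that is, when
there do not exist closed proper subcurves Y and Z of X (non-empty unions of irreducible components,
each different from X) together with the torsion-free quotients I_Y, I_Z of I on them (pinned by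
their defining property) such that the canonical map I ⟶ I_Y ⊞ I_Z is an isomorphism. -/
theorem result (k : Type u) [Field k] (X : Scheme.{u}) [X.Over (Spec (CommRingCat.of k))] [IsProper (X ↘ Spec (CommRingCat.of k))] [IsReduced X] [GeometricallyReduced (X ↘ Spec (CommRingCat.of k))] (hpure : ∀ C ∈ irreducibleComponents (X : Type u), topologicalKrullDim C = 1) (hgi : ∀ (C : Set X) (hC : C ∈ irreducibleComponents (X : Type u)), GeometricallyIntegral (VecSt.subschι X C (isClosed_of_mem_irreducibleComponents C hC) ≫ (X ↘ Spec (CommRingCat.of k)))) [Nonempty X] (I : X.Modules) (hI : TFOne.IsTF1 X I) : TFOne.IsSimple X k (X ↘ Spec (CommRingCat.of k)) I ↔ ¬ ∃ (Y Z : Set X) (hY : IsClosed Y) (hZ : IsClosed Z) (GY GZ : X.Modules) (πY : I ⟶ GY) (πZ : I ⟶ GZ), VecSt.IsSubcurve X Y ∧ VecSt.IsSubcurve X Z ∧ Y ≠ Set.univ ∧ Z ≠ Set.univ ∧ TFOne.IsQuotOn X I Y GY πY ∧ TFOne.IsQuotOn X I Z GZ πZ ∧ IsIso (biprod.lift πY πZ) := by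
  haveI : IsLocallyNoetherian X := LocallyOfFiniteType.isLocallyNoetherian (X ↘ Spec (CommRingCat.of k))
  haveI : CompactSpace X := QuasiCompact.compactSpace_of_compactSpace (X ↘ Spec (CommRingCat.of k))
  haveI : AlgebraicGeometry.IsNoetherian X := {}
  obtain ⟨hco, htf, hrk⟩ := hI
  have hnt : ∀ η ∈ genericPoints X, Nontrivial (X.presheaf.stalk η) := fun η _ => inferInstance
  constructor
  · -- simple sheaves are indecomposable
    rintro ⟨-, hsimp⟩ ⟨Y, Z, hY, hZ, GY, GZ, πY, πZ, hYs, hZs, -, -, hGY, hGZ, hiso⟩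
    obtain ⟨c, hc⟩ := hsimp (biprod.lift πY πZ ≫ biprod.fst ≫ biprod.inl ≫ inv (biprod.lift πY πZ))
    have h1 : Formal.smulMod k I c ≫ biprod.lift πY πZ = biprod.lift πY πZ ≫ biprod.fst ≫ biprod.inl := by
      rw [← hc]; simp
    have hcY : Formal.smulMod k I c ≫ πY = πY := by
      have := congrArg (fun f => f ≫ biprod.fst) h1
      simpa using this
    have hcZ : Formal.smulMod k I c ≫ πZ = 0 := by
      have := congrArg (fun f => f ≫ biprod.snd) h1
      simpa using this
    obtain ⟨η, hη, hηY⟩ := TFQuot.exists_generic_mem hYs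
    obtain ⟨θ, hθ, hθZ⟩ := TFQuot.exists_generic_mem hZs
    obtain ⟨e⟩ := hrk η hη
    obtain ⟨f⟩ := hrk θ hθ
    have e1 : algebraMap k (X.presheaf.stalk η) c = 1 := by
      have h : TFQuot.st πY η (TFQuot.st (Formal.smulMod k I c) η (e.symm 1)) = TFQuot.st πY η (e.symm 1) := by
        rw [← TFQuot.st_comp, hcY]
      have h2 := congrArg e ((TFQuot.bijective_quot hrk hGY hη hηY).1 h)
      rw [TFQuot.st_smulMod, map_smul, e.apply_symm_apply, smul_eq_mul, mul_one] at h2
      exact h2
    have e2 : algebraMap k (X.presheaf.stalk θ) c = 0 := by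
      have h : TFQuot.st πZ θ (TFQuot.st (Formal.smulMod k I c) θ (f.symm 1)) = TFQuot.st πZ θ 0 := by
        rw [← TFQuot.st_comp, hcZ, TFQuot.st_zero, map_zero]
      have h2 := congrArg f ((TFQuot.bijective_quot hrk hGZ hθ hθZ).1 h)
      rw [TFQuot.st_smulMod, map_smul, f.apply_symm_apply, smul_eq_mul, mul_one, map_zero] at h2
      exact h2
    rw [RingHom.injective (algebraMap k (X.presheaf.stalk η)) (e1.trans (map_one _).symm), map_one] at e2
    exact one_ne_zero e2
  · intro hdec
    obtain ⟨η₀, hη₀⟩ : ∃ η, η ∈ genericPoints X :=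
      ⟨_, (genericPoints.ofComponent ⟨_, irreducibleComponent_mem_irreducibleComponents (Classical.arbitrary X)⟩).2⟩
    refine ⟨fun hz => TFQuot.mem_support_of_rkOne hrk hη₀
      (TopCat.Presheaf.stalkFunctor AddCommGrpCat η₀ |>.map_isZero ((Scheme.Modules.toPresheaf _).map_isZero hz)
        |> AddCommGrpCat.subsingleton_of_isZero), fun φ => ?_⟩
    haveI : Module.Finite k (I ⟶ I) := ASB.finite_hom X hco hco
    have hfin : Module.Finite k (CategoryTheory.End I) := this
    have hc : ∀ η, ∀ hη : η ∈ genericPoints X, ∃ c : k,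
        algebraMap k (X.presheaf.stalk η) c = TFQuot.ev (k := k) (Classical.choice (hrk η hη)) φ := fun η hη =>
      TFQuot.exists_scalar hgi hη
        ((haveI := hfin; (Algebra.IsIntegral.of_finite k (CategoryTheory.End I)).1 φ).map (TFQuot.ev (k := k) _))
    choose! c hc using hc
    by_cases hall : ∀ η ∈ genericPoints X, c η = c η₀
    · refine ⟨c η₀, sub_eq_zero.1 (TFQuot.hom_eq_zero hco.1 htf _ fun η hη v => ?_)⟩
      rw [TFQuot.st_sub, TFQuot.st_eq_ev_smul (k := k) (Classical.choice (hrk η hη)), ← hc η hη, hall η hη,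
        TFQuot.st_smulMod, sub_eq_zero]
      rfl
    push Not at hall
    obtain ⟨η₁, hη₁, hne⟩ := hall
    exfalso
    apply hdec
    classical
    have hfg : (genericPoints X).Finite := by
      haveI := (TopologicalSpace.NoetherianSpace.finite_irreducibleComponents (α := X)).to_subtype
      exact Set.finite_coe_iff.1 (Finite.of_equiv _ genericPoints.equiv.symm)
    have key : ∀ s : Finset k, c η₀ ∉ s → ∃ ψ : CategoryTheory.End I, ∀ η, ∀ hη : η ∈ genericPoints X,
        (c η = c η₀ → TFQuot.ev (k := k) (Classical.choice (hrk η hη)) ψ = 1) ∧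
          (c η ∈ s → TFQuot.ev (k := k) (Classical.choice (hrk η hη)) ψ = 0) := by
      intro s
      induction s using Finset.induction_on with
      | empty => exact fun _ => ⟨1, fun η hη => ⟨fun _ => map_one _, fun h => absurd h (Finset.notMem_empty _)⟩⟩
      | @insert b s _ ih =>
        intro hb
        rw [Finset.mem_insert, not_or] at hb
        obtain ⟨ψ, hψ⟩ := ih hb.2
        refine ⟨ψ * ((c η₀ - b)⁻¹ • ((show CategoryTheory.End I from φ) - algebraMap k (CategoryTheory.End I) b)), fun η hη => ?_⟩
        have hev : TFQuot.ev (k := k) (Classical.choice (hrk η hη))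
            (ψ * ((c η₀ - b)⁻¹ • ((show CategoryTheory.End I from φ) - algebraMap k (CategoryTheory.End I) b))) =
            TFQuot.ev (k := k) (Classical.choice (hrk η hη)) ψ *
              algebraMap k (X.presheaf.stalk η) ((c η₀ - b)⁻¹ * (c η - b)) := by
          generalize hE : TFQuot.ev (k := k) (Classical.choice (hrk η hη)) = E
          have hφ : E (show CategoryTheory.End I from φ) = algebraMap k (X.presheaf.stalk η) (c η) := by
            rw [← hE]; exact (hc η hη).symm
          generalize (show CategoryTheory.End I from φ) = φ' at hφ ⊢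
          erw [map_mul, map_smul, map_sub, AlgHom.commutes]
          rw [hφ, Algebra.smul_def, map_mul (algebraMap k (X.presheaf.stalk η)), map_sub]
        rw [hev]
        refine ⟨fun h => ?_, fun h => ?_⟩
        · rw [(hψ η hη).1 h, one_mul, h, inv_mul_cancel₀ (sub_ne_zero.2 hb.1), map_one]
        · rcases Finset.mem_insert.1 h with h | h
          · rw [h, sub_self, mul_zero, map_zero, mul_zero]
          · rw [(hψ η hη).2 h, zero_mul]
    obtain ⟨ψ, hψ⟩ := key ((hfg.toFinset.image c).erase (c η₀)) (Finset.notMem_erase _ _)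
    have hψ0 : ∀ η, ∀ hη : η ∈ genericPoints X, c η ≠ c η₀ → TFQuot.ev (k := k) (Classical.choice (hrk η hη)) ψ = 0 :=
      fun η hη h => (hψ η hη).2 (Finset.mem_erase.2 ⟨h, Finset.mem_image.2 ⟨η, hfg.mem_toFinset.2 hη, rfl⟩⟩)
    let p : I ⟶ I := ψ
    have hval : ∀ η, ∀ hη : η ∈ genericPoints X, ∀ v,
        TFQuot.st p η v = if c η = c η₀ then v else 0 := fun η hη v => by
      rw [TFQuot.st_eq_ev_smul (k := k) (Classical.choice (hrk η hη))]
      split_ifs with h
      · rw [(hψ η hη).1 h, one_smul]
      · rw [hψ0 η hη h, zero_smul]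
    have hid : ∀ η v, TFQuot.st (𝟙 I) η v = v := fun η v => by
      show (DerSch.stalkFunctor X η).map (𝟙 I) v = v
      rw [CategoryTheory.Functor.map_id]
      rfl
    have hpp : p ≫ p = p := sub_eq_zero.1 <| TFQuot.hom_eq_zero hco.1 htf _ fun η hη v => by
      rw [TFQuot.st_sub, TFQuot.st_comp, hval η hη, hval η hη, sub_eq_zero]
      split_ifs <;> rfl
    let iY := kernel.ι (𝟙 I - p)
    let iZ := kernel.ι p
    let πY : I ⟶ kernel (𝟙 I - p) := kernel.lift _ p (by rw [Preadditive.comp_sub, Category.comp_id, hpp, sub_self])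
    let πZ : I ⟶ kernel p := kernel.lift _ (𝟙 I - p) (by rw [Preadditive.sub_comp, Category.id_comp, hpp, sub_self])
    have hY1 : iY ≫ p = iY := by
      have := kernel.condition (𝟙 I - p)
      rw [Preadditive.comp_sub, Category.comp_id, sub_eq_zero] at this
      exact this.symm
    have hZ1 : iZ ≫ p = 0 := kernel.condition p
    have a1 : iY ≫ πY = 𝟙 _ := by
      apply equalizer.hom_ext
      simpa [πY, iY] using hY1
    have a2 : iY ≫ πZ = 0 := by
      apply equalizer.hom_ext
      simp [πZ, iY, Preadditive.comp_sub]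
      exact sub_eq_zero.2 hY1.symm
    have b1 : iZ ≫ πY = 0 := by
      apply equalizer.hom_ext
      simpa [πY, iZ] using hZ1
    have b2 : iZ ≫ πZ = 𝟙 _ := by
      apply equalizer.hom_ext
      simp [πZ, iZ, Preadditive.comp_sub]
    haveI hiso : IsIso (biprod.lift πY πZ) := by
      refine ⟨biprod.desc iY iZ, ?_, ?_⟩
      · rw [biprod.lift_desc]
        simp [πY, πZ, iY, iZ]
      · apply biprod.hom_ext' <;> apply biprod.hom_ext <;> simp [a1, a2, b1, b2]
    have hcY : Coh.IsCoh (kernel (𝟙 I - p)) := QCoh.isCoh_kernel hco hco _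
    have hcZ : Coh.IsCoh (kernel p) := QCoh.isCoh_kernel hco hco _
    have htY := TFQuot.torsionFree_of_mono iY htf
    have htZ := TFQuot.torsionFree_of_mono iZ htf
    have memY : ∀ η ∈ genericPoints X, η ∈ CohB1.support (kernel (𝟙 I - p)) ↔ c η = c η₀ := fun η hη => by
      constructor
      · intro h
        by_contra hne'
        refine h (subsingleton_of_forall_eq 0 fun v => TFQuot.st_injective iY η ?_)
        rw [map_zero, ← hY1, TFQuot.st_comp, hval η hη, if_neg hne']
      · intro h hsub
        haveI : Subsingleton ((DerSch.stalkFunctor X η).obj (kernel (𝟙 I - p))) := hsub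
        obtain ⟨e⟩ := hrk η hη
        refine one_ne_zero (e.symm.injective (?_ : e.symm 1 = e.symm 0))
        rw [map_zero]
        refine Eq.trans (b := TFQuot.st p η (e.symm 1)) (by rw [hval η hη, if_pos h]) ?_
        rw [show p = πY ≫ iY from (kernel.lift_ι _ _ _).symm, TFQuot.st_comp,
          Subsingleton.elim (TFQuot.st πY η _) 0, map_zero]
    have memZ : ∀ η ∈ genericPoints X, η ∈ CohB1.support (kernel p) ↔ c η ≠ c η₀ := fun η hη => by
      constructor
      · intro h heq
        refine h (subsingleton_of_forall_eq 0 fun v => TFQuot.st_injective iZ η ?_)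
        rw [map_zero]
        have := hval η hη (TFQuot.st iZ η v)
        rw [if_pos heq, ← TFQuot.st_comp, hZ1, TFQuot.st_zero] at this
        exact this.symm
      · intro h hsub
        haveI : Subsingleton ((DerSch.stalkFunctor X η).obj (kernel p)) := hsub
        obtain ⟨e⟩ := hrk η hη
        refine one_ne_zero (e.symm.injective (?_ : e.symm 1 = e.symm 0))
        rw [map_zero]
        refine Eq.trans (b := TFQuot.st (𝟙 I - p) η (e.symm 1))
          (by rw [TFQuot.st_sub, hid, hval η hη, if_neg h, sub_zero]) ?_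
        rw [show 𝟙 I - p = πZ ≫ iZ from (kernel.lift_ι _ _ _).symm, TFQuot.st_comp,
          Subsingleton.elim (TFQuot.st πZ η _) 0, map_zero]
    refine ⟨_, _, QCoh.isClosed_support_of_isFT hcY.1 hcY.2, QCoh.isClosed_support_of_isFT hcZ.1 hcZ.2, _, _, πY, πZ,
      TFQuot.isSubcurve_support hcY htY hη₀ ((memY η₀ hη₀).2 rfl),
      TFQuot.isSubcurve_support hcZ htZ hη₁ ((memZ η₁ hη₁).2 hne),
      fun h => hne ((memY η₁ hη₁).1 (h.symm ▸ Set.mem_univ η₁)),
      fun h => (memZ η₀ hη₀).1 (h.symm ▸ Set.mem_univ η₀) rfl,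
      ⟨epi_of_epi_fac a1, hcY, htY, rfl⟩, ⟨epi_of_epi_fac b2, hcZ, htZ, rfl⟩, hiso⟩

end Groth.Agent.S18844
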