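import Groth.Statements.S18845
import Groth.Agent.TFQuot.Push

set_option autoImplicit false
set_option linter.style.haveILetI false
set_option linter.unusedSectionVars false
set_option backward.isDefEq.respectTransparency false
set_option backward.isDefEq.respectTransparency.types false
set_option maxHeartbeats 1000000
universe u
open CategoryTheory CategoryTheory.Limits AlgebraicGeometry
open TFOne

namespace Groth.Agent.S18845

open Groth.Agent
open CategoryTheory.Limits

/-- Let X be a proper, geometrically reduced scheme of pure dimension one over a field k whose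
irreducible components (with their reduced structure) are geometrically integral over k, let Y and Z
be closed subcurves (non-empty unions of irreducible components) with Y ∪ Z = X, and let M be a
torsion-free sheaf of rank one on X. Suppose M sits in a short exact sequence 0 ⟶ i_{Y*} I ⟶ M ⟶
i_{Z*} J ⟶ 0 of modules on X, where I is a simple torsion-free sheaf of rank one on the reduced
closed subscheme Y, J is a simple torsion-free sheaf of rank one on the reduced closed subscheme Z,
and i_{Y*}, i_{Z*} are the direct images. Then M is simple over k exactly when the sequence does not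
split (the epimorphism M ⟶ i_{Z*} J has no section). -/
theorem result (k : Type u) [Field k] (X : Scheme.{u}) [X.Over (Spec (CommRingCat.of k))] [IsProper (X ↘ Spec (CommRingCat.of k))] [IsReduced X] [GeometricallyReduced (X ↘ Spec (CommRingCat.of k))] (hpure : ∀ C ∈ irreducibleComponents (X : Type u), topologicalKrullDim C = 1) (hgi : ∀ (C : Set X) (hC : C ∈ irreducibleComponents (X : Type u)), GeometricallyIntegral (VecSt.subschι X C (isClosed_of_mem_irreducibleComponents C hC) ≫ (X ↘ Spec (CommRingCat.of k)))) (Y Z : Set X) (hY : IsClosed Y) (hZ : IsClosed Z) (hYs : VecSt.IsSubcurve X Y) (hZs : VecSt.IsSubcurve X Z) (hcov : Y ∪ Z = Set.univ) (M : X.Modules) (hM : TFOne.IsTF1 X M) (I : (VecSt.subsch X Y hY).Modules) (hI : TFOne.IsTF1 (VecSt.subsch X Y hY) I) (hIs : TFOne.IsSimple (VecSt.subsch X Y hY) k (VecSt.subschι X Y hY ≫ (X ↘ Spec (CommRingCat.of k))) I) (J : (VecSt.subsch X Z hZ).Modules) (hJ : TFOne.IsTF1 (VecSt.subsch X Z hZ) J) (hJs : TFOne.IsSimple (VecSt.subsch X Z hZ) k (VecSt.subschι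 X Z hZ ≫ (X ↘ Spec (CommRingCat.of k))) J) (a : (Coh.push (VecSt.subschι X Y hY)).obj I ⟶ M) (b : M ⟶ (Coh.push (VecSt.subschι X Z hZ)).obj J) (w : a ≫ b = 0) (hex : (ShortComplex.mk a b w).ShortExact) : TFOne.IsSimple X k (X ↘ Spec (CommRingCat.of k)) M ↔ ¬ IsSplitEpi b := by
  haveI : IsLocallyNoetherian X := LocallyOfFiniteType.isLocallyNoetherian (X ↘ Spec (CommRingCat.of k))
  haveI : CompactSpace X := QuasiCompact.compactSpace_of_compactSpace (X ↘ Spec (CommRingCat.of k))
  haveI : AlgebraicGeometry.IsNoetherian X := {}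
  haveI := hex.mono_f
  haveI := hex.epi_g
  have hrk := hM.2.2
  have hker : ∀ {A : X.Modules} (u : A ⟶ M), u ≫ b = 0 → ∃ v, v ≫ a = u := fun u hu =>
    ⟨hex.exact.lift u hu, hex.exact.lift_f u hu⟩
  -- at each generic point one of the two outer terms vanishes
  have hone : ∀ η ∈ genericPoints X,
      (∀ v : (DerSch.stalkFunctor X η).obj ((Coh.push (VecSt.subschι X Y hY)).obj I), v = 0) ∨
      (∀ v : (DerSch.stalkFunctor X η).obj ((Coh.push (VecSt.subschι X Z hZ)).obj J), v = 0) := by
    intro η hη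
    by_contra hc
    push Not at hc
    obtain ⟨⟨v, hv⟩, ⟨w, hw⟩⟩ := hc
    obtain ⟨e⟩ := hrk η hη
    letI := (TFQuot.isField_stalk_generic hη).toField
    obtain ⟨m, rfl⟩ := TFQuot.st_surjective b η w
    have hev : e (TFQuot.st a η v) ≠ 0 := fun h0 =>
      hv (TFQuot.st_injective a η ((e.map_eq_zero_iff.1 h0).trans (map_zero _).symm))
    have hm : m = (e m * (e (TFQuot.st a η v))⁻¹) • TFQuot.st a η v := e.injective (by
      rw [map_smul, smul_eq_mul, mul_assoc, inv_mul_cancel₀ hev, mul_one])
    refine hw ?_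
    rw [hm, map_smul, ← TFQuot.st_comp, w, TFQuot.st_zero, smul_zero]
  have hcomm : ∀ {A B : X.Modules} (f : A ⟶ B) (c : k), Formal.smulMod k A c ≫ f = f ≫ Formal.smulMod k B c :=
    fun f c => (KLin.comp_smulModΓ f _).symm
  have hscal : ∀ (A : X.Modules) (c : k), Formal.smulMod k A c = c • 𝟙 A := fun A c => by
    rw [KLin.smul_def, Category.comp_id]
  have hI0 := TFQuot.push_ne_zero (hZ := hY) hIs.1
  have hJ0 := TFQuot.push_ne_zero (hZ := hZ) hJs.1
  constructor
  · rintro ⟨-, hsc⟩ ⟨⟨s⟩⟩
    obtain ⟨c, hc⟩ := hsc (b ≫ s.section_)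
    have h1 : c • a = 0 := by
      rw [← Category.comp_id a, ← Linear.comp_smul, ← hscal, ← hc, reassoc_of% w, zero_comp]
    have h2 : b = c • b := by
      conv_lhs => rw [← Category.comp_id b, ← s.id, ← Category.assoc, hc, hscal, Linear.smul_comp, Category.id_comp]
    rcases eq_or_ne c 0 with rfl | hc0
    · rw [zero_smul] at h2
      refine hJ0 ((IsZero.iff_id_eq_zero _).2 ?_)
      rw [← cancel_epi b, Category.comp_id, comp_zero, h2]
    · refine hI0 ((IsZero.iff_id_eq_zero _).2 ?_)
      rw [← cancel_mono a, Category.id_comp, zero_comp]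
      exact (smul_eq_zero.1 h1).resolve_left hc0
  · intro hns
    refine ⟨fun hz => hI0 ((IsZero.iff_id_eq_zero _).2 (by
      rw [← cancel_mono a, zero_comp]; exact hz.eq_of_tgt _ _)), fun φ => ?_⟩
    have h0 : a ≫ φ ≫ b = 0 := TFQuot.hom_push_eq_zero hZs hJ.1.1 hJ.2.1 _ fun η hη v => by
      rcases hone η hη with h | h
      · rw [h v, map_zero]
      · exact h _
    obtain ⟨φI, hφI⟩ := hker (a ≫ φ) (by rw [Category.assoc, h0])
    let φJ := hex.exact.desc (φ ≫ b) h0
    have hφJ : b ≫ φJ = φ ≫ b := hex.exact.g_desc _ h0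
    obtain ⟨cI, rfl⟩ := TFQuot.push_simple hIs φI
    obtain ⟨cJ, hcJ⟩ := TFQuot.push_simple hJs φJ
    rw [hscal, Linear.smul_comp, Category.id_comp] at hφI
    rw [hcJ, hscal, Linear.comp_smul, Category.comp_id] at hφJ
    have ha : a ≫ (φ - cI • 𝟙 M) = 0 := by
      rw [Preadditive.comp_sub, Linear.comp_smul, Category.comp_id, hφI, sub_self]
    let χ := hex.exact.desc (φ - cI • 𝟙 M) ha
    have hχ : b ≫ χ = φ - cI • 𝟙 M := hex.exact.g_desc _ ha
    have hχb : χ ≫ b = (cJ - cI) • 𝟙 _ := by
      rw [← cancel_epi b, ← Category.assoc, hχ, Preadditive.sub_comp, Linear.smul_comp, Category.id_comp, ← hφJ,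
        Linear.comp_smul, Category.comp_id, sub_smul]
    refine ⟨cI, sub_eq_zero.1 ?_⟩
    rw [hscal, ← hχ]
    rcases eq_or_ne (cJ - cI) 0 with h | h
    · obtain ⟨ω, hω⟩ := hker χ (by rw [hχb, h, zero_smul])
      refine TFQuot.hom_eq_zero hM.1.1 hM.2.1 _ fun η hη v => ?_
      rw [TFQuot.st_comp, ← hω, TFQuot.st_comp]
      rcases hone η hη with h' | h'
      · rw [h' (TFQuot.st ω η _), map_zero]
      · rw [h' (TFQuot.st b η v), map_zero, map_zero]
    · exact absurd ⟨⟨⟨(cJ - cI)⁻¹ • χ, by rw [Linear.smul_comp, hχb, smul_smul, inv_mul_cancel₀ h, one_smul]⟩⟩⟩ hns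

end Groth.Agent.S18845
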