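import Groth.Statements.S18848
import Groth.Agent.TFQuot.Sub

set_option autoImplicit false
set_option linter.style.haveILetI false
set_option linter.unusedSectionVars false
set_option backward.isDefEq.respectTransparency false
set_option backward.isDefEq.respectTransparency.types false
set_option maxHeartbeats 1000000
universe u
open CategoryTheory CategoryTheory.Limits AlgebraicGeometry
open TFOne

namespace Groth.Agent.S18848

open Groth.Agent

/-- Let R be a discrete valuation ring with residue field κ, f : X ⟶ Spec R flat and proper, and X_s its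
special fibre, assumed reduced of pure dimension one with geometrically integral irreducible
components over κ. Let I be a coherent R-flat module on X whose restriction I(s) to X_s is
torsion-free rank-1, E a locally free module of rank r > 0 on X with restriction E(s), and d an
integer with χ(I(s)) = d and deg E(s) = -r·d. For a closed subset T of X_s write I(s)_T for the
torsion-free quotient of I(s) on T (pinned by its defining property) and β(T) := r·χ(I(s)_T) +
deg(E(s)|_T) (the source's β cleared of the denominator r). Let Y be a closed subcurve of X_s (a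
non-empty union of irreducible components), and let I^Y be the kernel of the composite I ⟶ i_* I(s)
⟶ i_* I(s)_Y, with restriction I^Y(s) to X_s and quotients I^Y(s)_T and numbers β^Y(T) :=
r·χ(I^Y(s)_T) + deg(E(s)|_T) defined likewise. Assume I(s) is semistable with respect to E(s). Then
I^Y(s) is semistable with respect to E(s) if and only if β(Y) = 0 and I(s)_Y, viewed on the reduced
closed subscheme Y, is semistable with respect to E(s)|_Y. (Here β(Y) = 0 says that E(s)|_Y is a
polarisation for I(s)_Y, the source's implicit requirement for semistability with respect to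
E(s)|_Y. The source states the conclusion for semistability of I^Y over Spec R, which it reduces at
once to the special fibre since I^Y and I agree off Y; it also asserts that I^Y(s) and I(s) are then
Jordan–Hölder equivalent, which is not stated here; it takes f projective.) -/
theorem result (R : Type u) [CommRing R] [IsDomain R] [IsDiscreteValuationRing R] (X : Scheme.{u}) (f : X ⟶ Spec (CommRingCat.of R)) [Flat f] [IsProper f] (Xs : Scheme.{u}) [Xs.Over (Spec (CommRingCat.of (IsLocalRing.ResidueField R)))] (i : Xs ⟶ X) (hsq : IsPullback i (Xs ↘ Spec (CommRingCat.of (IsLocalRing.ResidueField R))) f (Spec.map (CommRingCat.ofHom (IsLocalRing.residue R)))) [IsReduced Xs] (hpure : ∀ C ∈ irreducibleComponents (Xs : Type u), topologicalKrullDim C = 1) (hgi : ∀ (C : Set Xs) (hC : C ∈ irreducibleComponents (Xs : Type u)), GeometricallyIntegral (VecSt.subschι Xs C (isClosed_of_mem_irreducibleComponents C hC) ≫ (Xs ↘ Spec (CommRingCat.of (IsLocalRing.ResidueField R))))) (I : X.Modules) (hIc : Coh.IsCoh I) (hIf : FlatMod.IsFlatOver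 f I) (hIs : TFOne.IsTF1 Xs ((Scheme.Modules.pullback i).obj I)) (E : X.Modules) (r : ℕ) (hr : 0 < r) (hE : FlatMod.IsFinLocFreeOfRank r E) (d : ℤ) (hχ : Curv2.euler (IsLocalRing.ResidueField R) Xs ((Scheme.Modules.pullback i).obj I) = d) (hEd : Curv2.deg (IsLocalRing.ResidueField R) Xs ((Scheme.Modules.pullback i).obj E) r = -(r : ℤ) * d) (hss : TFOne.IsSemistable Xs (IsLocalRing.ResidueField R) (Xs ↘ Spec (CommRingCat.of (IsLocalRing.ResidueField R))) ((Scheme.Modules.pullback i).obj I) ((Scheme.Modules.pullback i).obj E) r) (Y : Set Xs) (hY : IsClosed Y) (hYs : VecSt.IsSubcurve Xs Y) (GY : Xs.Modules) (πY : ((Scheme.Modules.pullback i).obj I) ⟶ GY) (hGY : TFOne.IsQuotOn Xs ((Scheme.Modules.pullback i).obj I) Y GY πY) (IY : X.Modules) (hIY : IY = kernel ((Scheme.Modules.pullbackPushforwardAdjunction i).unit.app I ≫ (Scheme.Modules.pushforward i).map πY)) : TFOne.IsSemistable Xs (IsLocalRing.ResidueField R) (Xs ↘ Spec (CommRingCat.of (IsLocalRing.ResidueField R))) ((Scheme.Modules.pullback i).obj IY) ((Scheme.Modules.pullback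 i).obj E) r ↔ (TFOne.rBeta Xs (IsLocalRing.ResidueField R) (Xs ↘ Spec (CommRingCat.of (IsLocalRing.ResidueField R))) Y hY ((Scheme.Modules.pullback i).obj E) r GY = 0 ∧ TFOne.IsSemistable (VecSt.subsch Xs Y hY) (IsLocalRing.ResidueField R) (VecSt.subschι Xs Y hY ≫ (Xs ↘ Spec (CommRingCat.of (IsLocalRing.ResidueField R)))) ((Scheme.Modules.pullback (VecSt.subschι Xs Y hY)).obj GY) ((Scheme.Modules.pullback (VecSt.subschι Xs Y hY)).obj ((Scheme.Modules.pullback i).obj E)) r) := by
  obtain ⟨hp, hn, hdim, hE'⟩ := TFQuot.modif_setup hsq hpure hE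
  obtain ⟨m⟩ := TFQuot.nonempty_modif f i hsq I hIc hIf hGY
  rw [← hIY] at m
  have uY := TFQuot.isUnion_of_isSubcurve hYs
  have hF' := m.isTF1 hIs
  obtain ⟨η₀, hgen₀, hη₀⟩ := TFQuot.exists_generic_mem hYs
  obtain ⟨G0, π0, hG0⟩ := TFQuot.exists_quotOn hIs (Z := ∅) (fun x hx => absurd hx (Set.notMem_empty x)) isClosed_empty
  have hge : ∀ T (hT : IsClosed T), TFQuot.IsUnion T → ∀ G π,
      TFOne.IsQuotOn Xs ((Scheme.Modules.pullback i).obj I) T G π →
      0 ≤ TFOne.rBeta Xs (IsLocalRing.ResidueField R) (Xs ↘ Spec (CommRingCat.of (IsLocalRing.ResidueField R))) T hT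
        ((Scheme.Modules.pullback i).obj E) r G := fun T hT uT G π hG => by
    by_cases hu : T = Set.univ
    · subst hu
      exact (TFQuot.rBeta_univ hdim hIs hG hE' hχ hEd).ge
    · rcases T.eq_empty_or_nonempty with rfl | hne
      · exact (TFQuot.rBeta_empty hG hE').ge
      · exact hss.2 T hT (TFQuot.isSubcurve_of_isUnion uT hT hne) hu G π hG
  constructor
  · intro hss'
    refine ⟨le_antisymm ?_ (hge Y hY uY GY πY hGY), TFQuot.isTF1_pullback hY hIs.2.2 hGY hYs, ?_⟩
    · let Y' := ⋃₀ {C | C ∈ irreducibleComponents (Xs : Type u) ∧ ¬ C ⊆ Y}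
      have uY' : TFQuot.IsUnion Y' := TFQuot.isUnion_comps
      have hY'c : IsClosed Y' := TFQuot.isClosed_comps
      have mY' := fun η hη => TFQuot.mem_compl_iff (η := η) (Y' := Y') rfl hY hη
      obtain ⟨G2, π2, hG2⟩ := TFQuot.exists_quotOn hF' uY' hY'c
      have e := (TFQuot.euler_quot_modif (k := IsLocalRing.ResidueField R) m hIs hdim hG2 hG0 (TFQuot.quot_id hIs)
        (Set.empty_subset _) (Set.empty_subset _) (Set.subset_univ _) (Set.subset_univ _)
        (fun η hη h h' => absurd h ((mY' η hη).1 h'))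
        fun η hη _ => (em (η ∈ Y)).imp id (mY' η hη).2).2
        (.inl fun η hη h h' => (mY' η hη).1 h' h)
      have hd := TFQuot.degOn_union_meet (k := IsLocalRing.ResidueField R) hdim hE' hY hY'c isClosed_univ isClosed_empty
        uY uY' TFQuot.isUnion_univ (fun x hx => absurd hx (Set.notMem_empty x))
        (fun η hη => iff_of_true trivial ((em (η ∈ Y)).imp id (mY' η hη).2))
        (fun η hη => iff_of_false (Set.notMem_empty η) fun h => (mY' η hη).1 h.2 h.1)
      rw [TFQuot.degOn_empty hE', TFQuot.degOn_univ hdim hE', hEd] at hd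
      rw [TFQuot.euler_of_isEmpty hG0, hχ] at e
      have h2 : 0 ≤ TFOne.rBeta Xs (IsLocalRing.ResidueField R) (Xs ↘ Spec (CommRingCat.of (IsLocalRing.ResidueField R)))
          Y' hY'c ((Scheme.Modules.pullback i).obj E) r G2 := by
        rcases Y'.eq_empty_or_nonempty with he | hne
        · rw [TFQuot.rBeta_eq, TFQuot.degOn_congr he hY'c isClosed_empty, TFQuot.degOn_empty hE',
            TFQuot.euler_of_isEmpty (he ▸ hG2 : TFOne.IsQuotOn Xs _ ∅ G2 π2)]
          simp
        · exact hss'.2 Y' hY'c (TFQuot.isSubcurve_of_isUnion uY' hY'c hne)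
            (fun hu => (mY' η₀ hgen₀).1 (hu.symm ▸ Set.mem_univ η₀) hη₀) G2 π2 hG2
      simp only [TFQuot.rBeta_eq] at h2 ⊢
      have he := congrArg (fun z => (r : ℤ) * z) e
      simp only [mul_add, mul_zero] at he
      linarith
    · intro T hT hTs hTne G π hG
      letI : (VecSt.subsch Xs Y hY).Over (Spec (CommRingCat.of (IsLocalRing.ResidueField R))) :=
        ⟨VecSt.subschι Xs Y hY ≫ (Xs ↘ Spec (CommRingCat.of (IsLocalRing.ResidueField R)))⟩
      obtain ⟨p, hp', hχ'⟩ := TFQuot.exists_push_quot hY (IsLocalRing.ResidueField R) hGY hYs hG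
      have hTc : IsClosed ((VecSt.subschι Xs Y hY) '' T) :=
        (VecSt.subschι Xs Y hY).isClosedEmbedding.isClosedMap _ hT
      have uT : TFQuot.IsUnion ((VecSt.subschι Xs Y hY) '' T) := by
        rintro _ ⟨y, hy, rfl⟩
        obtain ⟨z, hz, hzy, hzT⟩ := TFQuot.isUnion_of_isSubcurve hTs y hy
        exact ⟨_, TFQuot.map_mem_genericPoints hY hYs hz, hzy.map (VecSt.subschι Xs Y hY).continuous, z, hzT, rfl⟩
      have h := hge _ hTc uT _ p hp'
      show 0 ≤ TFOne.rBeta (VecSt.subsch Xs Y hY) (IsLocalRing.ResidueField R)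
        (VecSt.subsch Xs Y hY ↘ Spec (CommRingCat.of (IsLocalRing.ResidueField R))) T hT _ r G
      rw [TFQuot.rBeta_eq, hχ', ← TFQuot.degOn_sub hY (IsLocalRing.ResidueField R) hdim hE' hT hTc uT] at h
      rw [TFQuot.rBeta_eq]
      exact h
  · rintro ⟨hY0, -⟩
    refine ⟨hF', fun Z hZ hZs hZne GZ1 πZ1 hGZ1 => ?_⟩
    have uZ := TFQuot.isUnion_of_isSubcurve hZs
    let W := ⋃₀ {C | C ∈ irreducibleComponents (Xs : Type u) ∧ C ⊆ Y ∩ Z}
    have uW : TFQuot.IsUnion W := TFQuot.isUnion_comps
    have hWc : IsClosed W := TFQuot.isClosed_comps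
    obtain ⟨GW, πW, hGW⟩ := TFQuot.exists_quotOn hIs uW hWc
    obtain ⟨GU, πU, hGU⟩ := TFQuot.exists_quotOn hIs (uY.union uZ) (hY.union hZ)
    have h := TFQuot.rBeta_modif (k := IsLocalRing.ResidueField R) (hY := hY) (hZ := hZ) (hWc := hWc)
      (hUc := hY.union hZ) m hIs hdim hE' uY uZ
      (uY.union uZ) uW (fun η _ => Iff.rfl) (fun η hη => TFQuot.mem_meet_iff rfl hY hZ hη) hGZ1 hGW hGU
    linarith [hge _ hWc uW GW πW hGW, hge _ (hY.union hZ) (uY.union uZ) GU πU hGU]

end Groth.Agent.S18848
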