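import Groth.Statements.S18856
import Groth.Agent.TFQuot.Beta

set_option autoImplicit false
set_option linter.style.haveILetI false
set_option linter.unusedSectionVars false
set_option backward.isDefEq.respectTransparency false
set_option backward.isDefEq.respectTransparency.types false
set_option maxHeartbeats 1000000
universe u
open CategoryTheory CategoryTheory.Limits AlgebraicGeometry
open TFOne

namespace Groth.Agent.S18856

open Groth.Agent

/-- Let R be a discrete valuation ring with residue field κ, f : X ⟶ Spec R flat and proper, and X_s its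
special fibre, assumed reduced of pure dimension one with geometrically integral irreducible
components over κ. Let I be a coherent R-flat module on X whose restriction I(s) to X_s is
torsion-free rank-1, E a locally free module of rank r > 0 on X with restriction E(s), and d an
integer with χ(I(s)) = d and deg E(s) = -r·d. For a closed subset T of X_s write I(s)_T for the
torsion-free quotient of I(s) on T (pinned by its defining property) and β(T) := r·χ(I(s)_T) +
deg(E(s)|_T) (the source's β cleared of the denominator r). Let Y be a closed subcurve of X_s (a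
non-empty union of irreducible components), and let I^Y be the kernel of the composite I ⟶ i_* I(s)
⟶ i_* I(s)_Y, with restriction I^Y(s) to X_s and quotients I^Y(s)_T and numbers β^Y(T) :=
r·χ(I^Y(s)_T) + deg(E(s)|_T) defined likewise. Let Z be a closed subcurve of X_s, W the union of the
irreducible components of X_s contained in Y ∩ Z, Y' the union of the components not contained in Y,
and V the union of the components contained in Z but not in Y (each possibly empty; the torsion-free
quotient on the empty set is 0). Then the inequality β^Y(Z) + β(Y) ≥ β(W) + β(Y ∪ Z) is an equality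
if and only if χ(I^Y(s)_W) + χ(I^Y(s)_{Y'}) − χ(I^Y(s)_{W ∪ Y'}) = χ(I^Y(s)_W) + χ(I^Y(s)_V) −
χ(I^Y(s)_Z), that is δ(W, Y') = δ(W, V) for δ(A, B) := χ(I^Y(s)_A) + χ(I^Y(s)_B) − χ(I^Y(s)_{A ∪ B})
(note W ∪ V = Z). (The source takes f projective.) -/
theorem result (R : Type u) [CommRing R] [IsDomain R] [IsDiscreteValuationRing R] (X : Scheme.{u}) (f : X ⟶ Spec (CommRingCat.of R)) [Flat f] [IsProper f] (Xs : Scheme.{u}) [Xs.Over (Spec (CommRingCat.of (IsLocalRing.ResidueField R)))] (i : Xs ⟶ X) (hsq : IsPullback i (Xs ↘ Spec (CommRingCat.of (IsLocalRing.ResidueField R))) f (Spec.map (CommRingCat.ofHom (IsLocalRing.residue R)))) [IsReduced Xs] (hpure : ∀ C ∈ irreducibleComponents (Xs : Type u), topologicalKrullDim C = 1) (hgi : ∀ (C : Set Xs) (hC : C ∈ irreducibleComponents (Xs : Type u)), GeometricallyIntegral (VecSt.subschι Xs C (isClosed_of_mem_irreducibleComponents C hC) ≫ (Xs ↘ Spec (CommRingCat.of (IsLocalRing.ResidueField R))))) (I : X.Modules) (hIc : Coh.IsCoh I) (hIf : FlatMod.IsFlatOver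 f I) (hIs : TFOne.IsTF1 Xs ((Scheme.Modules.pullback i).obj I)) (E : X.Modules) (r : ℕ) (hr : 0 < r) (hE : FlatMod.IsFinLocFreeOfRank r E) (d : ℤ) (hχ : Curv2.euler (IsLocalRing.ResidueField R) Xs ((Scheme.Modules.pullback i).obj I) = d) (hEd : Curv2.deg (IsLocalRing.ResidueField R) Xs ((Scheme.Modules.pullback i).obj E) r = -(r : ℤ) * d) (Y : Set Xs) (hY : IsClosed Y) (hYs : VecSt.IsSubcurve Xs Y) (GY : Xs.Modules) (πY : ((Scheme.Modules.pullback i).obj I) ⟶ GY) (hGY : TFOne.IsQuotOn Xs ((Scheme.Modules.pullback i).obj I) Y GY πY) (IY : X.Modules) (hIY : IY = kernel ((Scheme.Modules.pullbackPushforwardAdjunction i).unit.app I ≫ (Scheme.Modules.pushforward i).map πY)) (Z W Y' V : Set Xs) (hZ : IsClosed Z) (hZs : VecSt.IsSubcurve Xs Z) (hW : W = ⋃₀ {C | C ∈ irreducibleComponents (Xs : Type u) ∧ C ⊆ Y ∩ Z}) (hWc : IsClosed W) (hY' : Y' = ⋃₀ {C | C ∈ irreducibleComponents (Xs : Type u) ∧ ¬ C ⊆ Y}) (hY'c : IsClosed Y') (hV : V = ⋃₀ {C | C ∈ irreducibleComponents (Xs : Type u) ∧ C ⊆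 Z ∧ ¬ C ⊆ Y}) (hVc : IsClosed V) (GZ1 G2 G3 G4 G5 : Xs.Modules) (πZ1 : ((Scheme.Modules.pullback i).obj IY) ⟶ GZ1) (π5 : ((Scheme.Modules.pullback i).obj IY) ⟶ G5) (hG5 : TFOne.IsQuotOn Xs ((Scheme.Modules.pullback i).obj IY) W G5 π5) (π2 : ((Scheme.Modules.pullback i).obj IY) ⟶ G2) (π3 : ((Scheme.Modules.pullback i).obj IY) ⟶ G3) (π4 : ((Scheme.Modules.pullback i).obj IY) ⟶ G4) (hGZ1 : TFOne.IsQuotOn Xs ((Scheme.Modules.pullback i).obj IY) Z GZ1 πZ1) (hG2 : TFOne.IsQuotOn Xs ((Scheme.Modules.pullback i).obj IY) Y' G2 π2) (hG3 : TFOne.IsQuotOn Xs ((Scheme.Modules.pullback i).obj IY) (W ∪ Y') G3 π3) (hG4 : TFOne.IsQuotOn Xs ((Scheme.Modules.pullback i).obj IY) V G4 π4) (GW GU : Xs.Modules) (πW : ((Scheme.Modules.pullback i).obj I) ⟶ GW) (πU : ((Scheme.Modules.pullback i).obj I) ⟶ GU) (hGW : TFOne.IsQuotOn Xs ((Scheme.Modules.pullback i).obj I) W GW πW) (hGU : TFOne.IsQuotOn Xs ((Scheme.Modules.pullback i).obj I) (Y ∪ Z) GU πU) : TFOne.rBeta Xs (IsLocalRing.ResidueField R) (Xs ↘ Spec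 (CommRingCat.of (IsLocalRing.ResidueField R))) W hWc ((Scheme.Modules.pullback i).obj E) r GW + TFOne.rBeta Xs (IsLocalRing.ResidueField R) (Xs ↘ Spec (CommRingCat.of (IsLocalRing.ResidueField R))) (Y ∪ Z) (hY.union hZ) ((Scheme.Modules.pullback i).obj E) r GU = TFOne.rBeta Xs (IsLocalRing.ResidueField R) (Xs ↘ Spec (CommRingCat.of (IsLocalRing.ResidueField R))) Z hZ ((Scheme.Modules.pullback i).obj E) r GZ1 + TFOne.rBeta Xs (IsLocalRing.ResidueField R) (Xs ↘ Spec (CommRingCat.of (IsLocalRing.ResidueField R))) Y hY ((Scheme.Modules.pullback i).obj E) r GY ↔ Curv2.euler (IsLocalRing.ResidueField R) Xs G5 + Curv2.euler (IsLocalRing.ResidueField R) Xs G2 - Curv2.euler (IsLocalRing.ResidueField R) Xs G3 = Curv2.euler (IsLocalRing.ResidueField R) Xs G5 + Curv2.euler (IsLocalRing.ResidueField R) Xs G4 - Curv2.euler (IsLocalRing.ResidueField R) Xs GZ1 := by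
  obtain ⟨hp, hn, hdim, hE'⟩ := TFQuot.modif_setup hsq hpure hE
  obtain ⟨m⟩ := TFQuot.nonempty_modif f i hsq I hIc hIf hGY
  rw [← hIY] at m
  have uY := TFQuot.isUnion_of_isSubcurve hYs
  have uZ := TFQuot.isUnion_of_isSubcurve hZs
  have uW : TFQuot.IsUnion W := hW ▸ TFQuot.isUnion_comps
  have uY' : TFQuot.IsUnion Y' := hY' ▸ TFQuot.isUnion_comps
  have uV : TFQuot.IsUnion V := hV ▸ TFQuot.isUnion_comps
  have mW := fun η hη => TFQuot.mem_meet_iff (η := η) hW hY hZ hη
  have mY' := fun η hη => TFQuot.mem_compl_iff (η := η) hY' hY hη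
  have mV := fun η hη => TFQuot.mem_diff_iff (η := η) hV hY hZ hη
  obtain ⟨G0, π0, hG0⟩ := TFQuot.exists_quotOn hIs (Z := ∅) (fun x hx => absurd hx (Set.notMem_empty x)) isClosed_empty
  have hQ := TFQuot.quot_id hIs
  have e4 := (TFQuot.euler_quot_modif (k := IsLocalRing.ResidueField R) m hIs hdim (U := Y ∪ Z) hG4 hG0 hGU
    (Set.empty_subset _) (Set.empty_subset _) Set.subset_union_left
    (uV.subset (hY.union hZ) fun η hη h => .inr ((mV η hη).1 h).1)
    (fun η hη h h' => absurd h ((mV η hη).1 h').2)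
    fun η hη h => (em (η ∈ Y)).imp id fun hn => (mV η hη).2 ⟨h.resolve_left hn, hn⟩).2
    (.inl fun η hη h h' => ((mV η hη).1 h').2 h)
  have e2 := (TFQuot.euler_quot_modif (k := IsLocalRing.ResidueField R) m hIs hdim hG2 hG0 hQ
    (Set.empty_subset _) (Set.empty_subset _) (Set.subset_univ _) (Set.subset_univ _)
    (fun η hη h h' => absurd h ((mY' η hη).1 h'))
    fun η hη _ => (em (η ∈ Y)).imp id (mY' η hη).2).2
    (.inl fun η hη h h' => (mY' η hη).1 h' h)
  have e3 := (TFQuot.euler_quot_modif (k := IsLocalRing.ResidueField R) m hIs hdim hG3 hGW hQ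
    (uW.subset hY fun η hη h => ((mW η hη).1 h).1) Set.subset_union_left (Set.subset_univ _) (Set.subset_univ _)
    (fun η hη h h' => h'.elim id fun h'' => absurd h ((mY' η hη).1 h''))
    fun η hη _ => (em (η ∈ Y)).imp id fun hn => .inr ((mY' η hη).2 hn)).2 (.inr fun η _ => trivial)
  have hd := TFQuot.degOn_union_meet (k := IsLocalRing.ResidueField R) hdim hE' hY hZ (hY.union hZ) hWc uY uZ
    (uY.union uZ) uW (fun η _ => Iff.rfl) mW
  rw [TFQuot.euler_of_isEmpty hG0] at e4 e2
  simp only [TFQuot.rBeta_eq]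
  constructor
  · intro h
    have := mul_left_cancel₀ (Int.natCast_ne_zero.2 hr.ne') (show (r : ℤ) *
      (Curv2.euler (IsLocalRing.ResidueField R) Xs GW + Curv2.euler (IsLocalRing.ResidueField R) Xs GU) = (r : ℤ) *
      (Curv2.euler (IsLocalRing.ResidueField R) Xs GZ1 + Curv2.euler (IsLocalRing.ResidueField R) Xs GY) by
        rw [mul_add, mul_add]; linarith)
    linarith
  · intro h
    have := congrArg (fun z => (r : ℤ) * z) (show
      Curv2.euler (IsLocalRing.ResidueField R) Xs GW + Curv2.euler (IsLocalRing.ResidueField R) Xs GU =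
      Curv2.euler (IsLocalRing.ResidueField R) Xs GZ1 + Curv2.euler (IsLocalRing.ResidueField R) Xs GY by linarith)
    simp only [mul_add] at this
    linarith

end Groth.Agent.S18856
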