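import Groth.Statements.S18863
import Groth.Agent.H9TorsLim.Grp
import Groth.Agent.H9TorsLim.Torsor
import Groth.Agent.EtFound.Descent
import Groth.Agent.AlgSpDec.LimAffine
import Groth.Agent.AlgSpDec.ToFieldFlat

set_option linter.style.haveILetI false
set_option backward.isDefEq.respectTransparency false
set_option backward.isDefEq.respectTransparency.types false


set_option autoImplicit false
universe u
open CategoryTheory CategoryTheory.Limits MonoidalCategory CartesianMonoidalCategory MonObj GrpObj AlgebraicGeometry
open NonAbH1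

namespace Groth.Agent.S18863

/-- Let k be a field and X a quasi-compact k-scheme. Let (G_i)_{i ∈ I} be a cofiltered inverse system of
affine group schemes of finite type over k with limit G in the category of k-group schemes (a limit
cone of homomorphisms G → G_i), and (T_i)_{i ∈ I} an inverse system of X-schemes such that each T_i
is a torsor over X for the fpqc topology under the base change of G_i to X and each transition map
T_j → T_i is equivariant along G_j → G_i. Let T be a limit of the T_i over X, with an action of the
base change of G to X for which every projection T → T_i is equivariant along G → G_i. Then T is a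
torsor over X under the base change of G for the fpqc topology. (The source indexes the system by a
directed partially ordered set and also records that T is pointed over a rational point of X when
all the T_i are; the limit scheme, the limit group and the limit action, which exist and are unique,
are taken here as data.) -/
theorem result (k : Type u) [Field k]
    (X : Scheme.{u}) [X.Over (Spec (CommRingCat.of k))] [CompactSpace X]
    {I : Type u} [SmallCategory I] [IsCofiltered I]
    (DG : I ⥤ Grp (Over (Spec (CommRingCat.of k))))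
    [∀ i, IsAffineHom (DG.obj i).X.hom] [∀ i, LocallyOfFiniteType (DG.obj i).X.hom]
    (cG : Cone DG) (hcG : IsLimit cG)
    (DT : I ⥤ Over X)
    (aT : ∀ i, AlgGrp.Action (Red.bc (X ↘ Spec (CommRingCat.of k)) (DG.obj i).X) (DT.obj i))
    (hT : ∀ i, NonAbH1.IsTorsorFor Scheme.fpqcPrecoverage (aT i))
    (hDT : ∀ (i j : I) (φ : i ⟶ j), AlgGrp.Action.IsEquivariant (aT i)
      ((aT j).restrict ((Over.pullback (X ↘ Spec (CommRingCat.of k))).map (DG.map φ).hom.hom)) (DT.map φ))
    (cT : Cone DT) (hcT : IsLimit cT)
    (a : AlgGrp.Action (Red.bc (X ↘ Spec (CommRingCat.of k)) cG.pt.X) cT.pt)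
    (ha : ∀ i, AlgGrp.Action.IsEquivariant a
      ((aT i).restrict ((Over.pullback (X ↘ Spec (CommRingCat.of k))).map (cG.π.app i).hom.hom)) (cT.π.app i)) :
    NonAbH1.IsTorsorFor Scheme.fpqcPrecoverage a := by
  haveI : ∀ i, IsAffine ((DG ⋙ Grp.forget _).obj i).left := fun i =>
    (isAffine_of_isAffineHom (DG.obj i).X.hom : IsAffine (DG.obj i).X.left)
  obtain ⟨c₀, ⟨hc₀⟩, -⟩ := Groth.Agent.AlgSpDec.exists_affine_limit (DG ⋙ Grp.forget _) this
  haveI : HasLimit (DG ⋙ Grp.forget _) := ⟨⟨⟨c₀, hc₀⟩⟩⟩
  haveI := Groth.Agent.H9TorsLim.preservesLimit_grp_forget DG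
  let f := X ↘ Spec (CommRingCat.of k)
  let cW := (Over.pullback f).mapCone ((Grp.forget _).mapCone cG)
  have hcW : IsLimit cW := isLimitOfPreserves _ (isLimitOfPreserves _ hcG)
  letI : GrpObj cW.pt := Red.grpObj_bc f cG.pt.X
  letI : ∀ i, GrpObj (((DG ⋙ Grp.forget _) ⋙ Over.pullback f).obj i) := fun i => Red.grpObj_bc f (DG.obj i).X
  haveI : ∀ i, IsAffineHom (Red.bc f (DG.obj i).X).hom := fun i =>
    MorphismProperty.pullback_snd (P := @IsAffineHom) (DG.obj i).X.hom f inferInstance
  haveI : ∀ i, Flat (Red.bc f (DG.obj i).X).hom := fun i =>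
    MorphismProperty.pullback_snd (P := @Flat) (DG.obj i).X.hom f inferInstance
  haveI := Groth.Agent.EtFound.fpqc_isAffineHom.{u}
  have hA : ∀ i, IsAffineHom (DT.obj i).hom := fun i =>
    Groth.Agent.SchTorsor.torsor_property @IsAffineHom (hT i) inferInstance
  have hF : ∀ i, Flat (DT.obj i).hom := fun i =>
    Groth.Agent.SchTorsor.torsor_property @Flat (hT i) inferInstance
  haveI := Groth.Agent.H9TorsLim.isAffineHom_limit hcT hA
  haveI := Groth.Agent.H9TorsLim.flat_limit hcT hA hF
  haveI := Groth.Agent.H9TorsLim.surjective_limit hcT hA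
    (fun i => Groth.Agent.H9TorsLim.surjective_of_isTorsorFor (hT i))
  refine ⟨?_, Groth.Agent.H9TorsLim.locallyTrivial_fpqc cT.pt⟩
  refine Groth.Agent.H9TorsLim.isPseudoTorsor_limit hcT hcW aT (fun i => (hT i).1) (fun {i j} φ => ?_) a (fun i => ?_)
  · have h := hDT i j φ
    unfold AlgGrp.Action.IsEquivariant at h
    rw [AlgGrp.Action.restrict_act] at h
    rw [h, tensorHom_def', Category.assoc]
    rfl
  · have h := ha i
    unfold AlgGrp.Action.IsEquivariant at h
    rw [AlgGrp.Action.restrict_act] at h
    rw [h, tensorHom_def', Category.assoc]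
    rfl
end Groth.Agent.S18863
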