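import Groth.Statements.S18876
import Groth.Agent.GerbLib.GeomPts
import Groth.Agent.FibBase.Basic

set_option backward.isDefEq.respectTransparency false
set_option backward.isDefEq.respectTransparency.types false
set_option linter.style.haveILetI false
-- import your own Groth.Agent.* helpers here

set_option autoImplicit false
universe u
open Gerb

namespace Groth.Agent.S18876

open CategoryTheory AlgebraicGeometry in
/-- Let S be a scheme and F : 𝒳 → 𝒴 a morphism of algebraic stacks over S which makes 𝒳 an fppf gerbe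
over 𝒴 and through which every morphism from 𝒳 to an algebraic space factors, uniquely up to
2-isomorphism. Then 𝒴 admits a coarse moduli space exactly when 𝒳 does, and the two coarse moduli
spaces coincide: for every coarse moduli map π : 𝒴 → M the composite 𝒳 → 𝒴 → M is a coarse moduli
map of 𝒳. (The published statement is about the rigidification F of 𝒳 along a flat finitely
presented subgroup stack of its inertia; only two of its properties are assumed here, that F is a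
gerbe and that maps to algebraic spaces factor through F, which is what the published argument uses;
neither stack is assumed quasi-separated or locally of finite presentation over S, and their
diagonals are not assumed quasi-compact or separated.) -/
theorem result (S : Scheme.{u}) (𝒳 𝒴 : AlgSt.Cat S)
    (h𝒳 : AlgSt.IsAlgStack Scheme.fppfPrecoverage 𝒳) (h𝒴 : AlgSt.IsAlgStack Scheme.fppfPrecoverage 𝒴)
    (F : 𝒳 ⥤ᵇ 𝒴) (hF : Gerb.IsGerbeOver (QuotSh.J Scheme.fppfPrecoverage S) F)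
    (huniv : ∀ (N : AlgSp.Sp S), AlgSp.IsAlgSpace N → ∀ φ : 𝒳 ⥤ᵇ AlgSt.ofSp N,
      ∃ ψ : 𝒴 ⥤ᵇ AlgSt.ofSp N, Nonempty (BasedFunctor.comp F ψ ≅ φ) ∧
        ∀ ψ' : 𝒴 ⥤ᵇ AlgSt.ofSp N, Nonempty (BasedFunctor.comp F ψ' ≅ φ) → Nonempty (ψ' ≅ ψ)) :
    ((∃ (M : AlgSp.Sp S) (π : 𝒴 ⥤ᵇ AlgSt.ofSp M), AlgSt.IsCoarseModuli π) ↔
        ∃ (M : AlgSp.Sp S) (π : 𝒳 ⥤ᵇ AlgSt.ofSp M), AlgSt.IsCoarseModuli π) ∧
      ∀ (M : AlgSp.Sp S) (π : 𝒴 ⥤ᵇ AlgSt.ofSp M), AlgSt.IsCoarseModuli π →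
        AlgSt.IsCoarseModuli (BasedFunctor.comp F π) := by
  have hX := h𝒳.isStack.1
  have hY := h𝒴.isStack.1
  have hpts {M : AlgSp.Sp S} (π : 𝒴 ⥤ᵇ AlgSt.ofSp M) :=
    GerbLib.GeomPts.geomPtBij_comp_iff hX hY F hF π
  have key : ∀ (M : AlgSp.Sp S) (π : 𝒴 ⥤ᵇ AlgSt.ofSp M), AlgSt.IsCoarseModuli π →
      AlgSt.IsCoarseModuli (BasedFunctor.comp F π) := by
    rintro M π ⟨⟨hM, hcat⟩, hb⟩
    refine ⟨⟨hM, fun N hN φ => ?_⟩, (hpts π).2 hb⟩
    obtain ⟨ψ, ⟨e⟩, hu⟩ := huniv N hN φ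
    obtain ⟨g, ⟨eg⟩, hg⟩ := hcat N hN ψ
    refine ⟨g, ⟨FibBase.whiskerLeftIso F eg ≪≫ e⟩, ?_⟩
    rintro g' ⟨eg'⟩
    exact hg g' (hu (BasedFunctor.comp π (AlgSt.ofSpMap g')) ⟨eg'⟩)
  refine ⟨⟨fun ⟨M, π, h⟩ => ⟨M, _, key M π h⟩, ?_⟩, key⟩
  rintro ⟨M, π', ⟨hM, hcat⟩, hb⟩
  obtain ⟨ψ, ⟨e⟩, -⟩ := huniv M hM π'
  refine ⟨M, ψ, ⟨hM, fun N hN φ => ?_⟩, ?_⟩
  · obtain ⟨g, ⟨eg⟩, hg⟩ := hcat N hN (BasedFunctor.comp F φ)
    obtain ⟨φ', -, hu⟩ := huniv N hN (BasedFunctor.comp F φ)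
    have e₁ : BasedFunctor.comp (BasedFunctor.comp F ψ) (AlgSt.ofSpMap g) ≅ BasedFunctor.comp π' (AlgSt.ofSpMap g) :=
      FibBase.whiskerRightIso e (AlgSt.ofSpMap g)
    obtain ⟨i₁⟩ := hu (BasedFunctor.comp ψ (AlgSt.ofSpMap g)) ⟨e₁ ≪≫ eg⟩
    obtain ⟨i₂⟩ := hu φ ⟨Iso.refl _⟩
    refine ⟨g, ⟨i₁ ≪≫ i₂.symm⟩, ?_⟩
    rintro g' ⟨eg'⟩
    exact hg g' ⟨(FibBase.whiskerRightIso e (AlgSt.ofSpMap g')).symm ≪≫ FibBase.whiskerLeftIso F eg'⟩
  · refine (hpts ψ).1 fun Ω _ _ t => ?_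
    have hs := fun x => GerbLib.GeomPts.fibSec_iso e (T := Over.mk t) x
    obtain ⟨h₁, h₂⟩ := hb Ω t
    exact ⟨fun m => (h₁ m).imp fun x hx => (hs x).trans hx,
      fun x y h => h₂ x y ((hs x).symm.trans (h.trans (hs y)))⟩

end Groth.Agent.S18876
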