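import Groth.Statements.S18879
import Groth.Agent.DimFormula.Scheme
import Groth.Agent.MorLib.Birat
-- import your own Groth.Agent.* helpers here

set_option autoImplicit false
set_option linter.style.haveILetI false
set_option backward.isDefEq.respectTransparency false
set_option backward.isDefEq.respectTransparency.types false
universe u
open CategoryTheory AlgebraicGeometry
open Resolve

namespace Groth.Agent.S18879

/-- Let f : Y ⟶ X be a morphism locally of finite type between Noetherian separated schemes which is
birational: it maps the maximal points of Y bijectively onto the maximal points of X, and over every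
maximal point of X its fibre is one point with the same residue field. Then for every point y of Y,
the Krull dimension of the local ring of Y at y is at most the Krull dimension of the local ring of
X at f y (the codimension of a point does not increase along f). -/
theorem result {X Y : Scheme.{u}} (f : Y ⟶ X)
    [IsNoetherian X] [X.IsSeparated] [IsNoetherian Y] [Y.IsSeparated] [LocallyOfFiniteType f]
    (hf : RadPt.IsBirational f) (y : Y) :
    ringKrullDim (Y.presheaf.stalk y) ≤ ringKrullDim (X.presheaf.stalk (f.base y)) := by
  rw [ringKrullDim_stalk_eq_coheight, Groth.Agent.DimFormula.ringKrullDim_stalk (f.base y)]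
  change ((Order.coheight y : ℕ∞) : WithBot ℕ∞) ≤ ((Groth.Agent.DimFormula.codim (f.base y) : ℕ∞) : WithBot ℕ∞)
  rw [WithBot.coe_le_coe]
  refine Order.coheight_le fun l hl => ?_
  obtain ⟨η, hη, hηl⟩ := Groth.Agent.MorLib.Birat.exists_generic l.last
  have h0 : η ⤳ l.head := (show l.head ≤ η from (LTSeries.head_le_last l).trans hηl)
  have h1 := Groth.Agent.DimFormula.le_cd (η := η) (x := l.head) h0 l rfl hηl
  have h2 := (Groth.Agent.DimFormula.cd_formula f h0).1
  have h3 := Groth.Agent.DimFormula.cd_le_codim (h0.map f.continuous)
  have h4 : Groth.Agent.FibDim.rd f η = 0 := by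
    refine (Groth.Agent.VarDim.closedPoint_iff_deg_eq_zero (f.fiberToSpecResidueField (f η)) (f.asFiber η)).1 ?_
    haveI : Subsingleton ↥(f.fiber (f η)) := ⟨fun a b => (f.fiberι (f η)).isEmbedding.injective (by
      have hy : ∀ z, f (f.fiberι (f η) z) = f η := fun z => by
        have : f.fiberι (f η) z ∈ Set.range (f.fiberι (f η)) := ⟨z, rfl⟩
        rwa [Scheme.Hom.range_fiberι] at this
      exact (hf.2 (f η) (hf.1.mapsTo hη)).1 _ _ (hy a) (hy b))⟩
    exact isClosed_discrete _
  have h5 : l.length ≤ Groth.Agent.DimFormula.codim (f.base y) := by
    have : l.head = y := hl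
    rw [this] at h2 h3 h1
    omega
  exact_mod_cast h5

end Groth.Agent.S18879
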