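import Groth.Statements.S18896
import Groth.Agent.GenBC.FreeRank
import Groth.Agent.Lib.CurveFamR1
import Groth.Agent.H23.RigidGamma
import Groth.Agent.GrpSchLib.SmoothReduced

set_option autoImplicit false
set_option linter.style.haveILetI false
set_option linter.unusedSectionVars false
set_option backward.isDefEq.respectTransparency false
set_option backward.isDefEq.respectTransparency.types false
set_option maxHeartbeats 1000000
universe u
open CategoryTheory CategoryTheory.Limits AlgebraicGeometry
open Curves

namespace Groth.Agent.S18896

open Groth.Agent


/-- Let f : X → S be a smooth curve of genus g over a scheme S, i.e. f is proper and smooth and its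
fibres are geometrically connected of dimension one and genus g (g the dimension of H¹ of the
structure sheaf of each fibre over its residue field). Then R¹f_*(O_X) is a locally free O_S-module
of rank g. -/
theorem result {X S : Scheme.{u}} (f : X ⟶ S)
    [IsProper f] [Smooth f] [GeometricallyConnected f]
    (hdim : ∀ s : S, topologicalKrullDim ↥(f.fiber s) = 1) (g : ℕ)
    (hgen : ∀ s : S, letI : (f.fiber s).Over (Spec (S.residueField s)) := ⟨f.fiberToSpecResidueField s⟩
      Curv2.genus (S.residueField s) (f.fiber s) = g)
    [HasInjectiveResolutions X.Modules] :
    FlatMod.IsFinLocFreeOfRank g ((Coh.Rpush f 1).obj (Coh.structureModule X)) := by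
  have hc : H23.RigidApply.ConstFibres f := fun s => by
    haveI : IsProper (pullback.snd f (S.fromSpecResidueField s)) := inferInstance
    haveI : Smooth (pullback.snd f (S.fromSpecResidueField s)) := inferInstance
    haveI : IsProper (f.fiberToSpecResidueField s) :=
      inferInstanceAs (IsProper (pullback.snd f (S.fromSpecResidueField s)))
    haveI : GeometricallyConnected (f.fiberToSpecResidueField s) :=
      inferInstanceAs (GeometricallyConnected (pullback.snd f (S.fromSpecResidueField s)))
    haveI : IsReduced (pullback (f.fiberToSpecResidueField s)
        (Spec.map (CommRingCat.ofHom (algebraMap (S.residueField s) (AlgebraicClosure (S.residueField s)))))) :=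
      GrpSchLib.isReduced_of_smooth_field (pullback.snd (pullback.snd f (S.fromSpecResidueField s)) _)
    haveI : ConnectedSpace ↥(pullback (f.fiberToSpecResidueField s)
        (Spec.map (CommRingCat.ofHom (algebraMap (S.residueField s) (AlgebraicClosure (S.residueField s)))))) :=
      GeometricallyConnected.geometrically_connectedSpace _ _ _ (.of_hasPullback _ _)
    exact H23.RigidGamma.bijective_appTop_of_algClosure (k := S.residueField s) (f.fiberToSpecResidueField s)
  have hd : ∀ s : S, topologicalKrullDim ↥(f.fiber s) ≤ (1 : ℕ) := fun s => by simp [hdim s]
  refine GenBC.FreeRank.isFinLocFreeOfRank f AssDimLoci.isFP_structureModule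
    (AssDimLoci.isFlatOver_structureModule f) 1
    (fun y => PBC.subsingleton_fiberH_of_dim f y (hd y) (by omega))
    (CurveFamR1.isFinLocFree_R1 f hc hd) fun y => ?_
  letI : (f.fiber y).Over (Spec (CommRingCat.of (S.residueField y))) := ⟨f.fiberToSpecResidueField y⟩
  obtain ⟨e⟩ := PicClLib.nonempty_pullback_structureModule (f.fiberι y)
  exact (LinearEquiv.finrank_eq (QCoh.HHcongr (Coh.toGlobal (A := S.residueField y) (f.fiberToSpecResidueField y)) e 1)).trans (hgen y)

end Groth.Agent.S18896
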