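import Groth.Statements.S18902
import Groth.Agent.Lib.GammaDescent
import Groth.Agent.H23.RigidGamma

set_option autoImplicit false
set_option linter.style.haveILetI false
set_option linter.unusedSectionVars false
set_option backward.isDefEq.respectTransparency false
set_option backward.isDefEq.respectTransparency.types false
set_option maxHeartbeats 1000000
universe u
open CategoryTheory CategoryTheory.Limits AlgebraicGeometry
open Curves

namespace Groth.Agent.S18902

open Groth.Agent


/-- Let q : P → S be a conic bundle, i.e. a smooth curve of genus 0 over S (q proper and smooth, with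
geometrically connected fibres of dimension one and genus dim H¹(P_s, O) = 0). Then the canonical
map O_S → q_*O_P is an isomorphism. -/
theorem result {P S : Scheme.{u}} (q : P ⟶ S)
    [IsProper q] [Smooth q] [GeometricallyConnected q]
    (hPdim : ∀ s : S, topologicalKrullDim ↥(q.fiber s) = 1)
    (hPgen : ∀ s : S, letI : (q.fiber s).Over (Spec (S.residueField s)) := ⟨q.fiberToSpecResidueField s⟩
      Curv2.genus (S.residueField s) (q.fiber s) = 0) :
    IsIso (ClSub.unitToPush q) := by
  haveI : Surjective q := ⟨fun s => by
    by_contra h
    haveI : IsEmpty ↥(q.fiber s) := ⟨fun w => h ⟨q.fiberι s w, by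
      have := q.range_fiberι s
      exact (this ▸ Set.mem_range_self w : q.fiberι s w ∈ q ⁻¹' {s})⟩⟩
    have h1 := hPdim s
    haveI : IsEmpty (TopologicalSpace.IrreducibleCloseds ↥(q.fiber s)) :=
      ⟨fun Z => isEmptyElim Z.isIrreducible.nonempty.some⟩
    rw [topologicalKrullDim, Order.krullDim_eq_bot] at h1
    exact absurd h1 (by simp)⟩
  haveI : GeometricallyReduced q := H23.RigidGamma.geometricallyReduced_of_smooth q
  exact GammaDescent.isIso_unitToPush q (H23.RigidGamma.constFibres q)

end Groth.Agent.S18902
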