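import Groth.Statements.S18905
import Mathlib.AlgebraicGeometry.Morphisms.FormallyUnramified
import Mathlib.AlgebraicGeometry.Morphisms.FiniteType
import Mathlib.RingTheory.Jacobson.Ring
import Mathlib.RingTheory.Unramified.Finite
import Mathlib.RingTheory.Nakayama
import Mathlib.Algebra.DualNumber

set_option autoImplicit false
universe u
open CategoryTheory CategoryTheory.Limits AlgebraicGeometry
open Mor

namespace Groth.Agent.S18905

open TrivSqZeroExt in
theorem formallyUnramified_of_dual {k A : Type u} [Field k] [IsAlgClosed k] [CommRing A] [Algebra k A]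
    [Algebra.FiniteType k A]
    (H : ∀ g₁ g₂ : A →ₐ[k] DualNumber k, (∀ a, (g₁ a).fst = (g₂ a).fst) → g₁ = g₂) :
    Algebra.FormallyUnramified k A := by
  refine ⟨not_nontrivial_iff_subsingleton.1 fun hnt => ?_⟩
  have hfin : (⊤ : Submodule A Ω[A⁄k]).FG := Module.Finite.fg_top
  obtain ⟨m, hm, hle⟩ := Ideal.exists_le_maximal (Module.annihilator A Ω[A⁄k]) fun e =>
    not_subsingleton Ω[A⁄k] ((Module.annihilator_eq_top_iff).1 e)
  have hne : m • (⊤ : Submodule A Ω[A⁄k]) ≠ ⊤ := fun e => by
    obtain ⟨r, hr, hr0⟩ := Submodule.exists_sub_one_mem_and_smul_eq_zero_of_fg_of_le_smul m ⊤ hfin e.ge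
    have : r ∈ m := hle (Module.mem_annihilator.2 fun x => hr0 x trivial)
    exact hm.ne_top ((Ideal.eq_top_iff_one m).2 (by simpa using m.sub_mem this hr))
  let Q := Ω[A⁄k] ⧸ (m • (⊤ : Submodule A Ω[A⁄k]))
  haveI : Nontrivial Q := Submodule.Quotient.nontrivial_iff.2 hne
  letI := Ideal.Quotient.field m
  haveI : Module.Finite k (A ⧸ m) := finite_of_finite_type_of_isJacobsonRing k (A ⧸ m)
  let e : k ≃ₐ[k] A ⧸ m := AlgEquiv.ofBijective (Algebra.ofId k _) IsAlgClosed.algebraMap_bijective_of_isIntegral
  let ev : A →ₐ[k] k := e.symm.toAlgHom.comp (Ideal.Quotient.mkₐ k m)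
  have hev : ∀ (a : A) (w : Q), a • w = ev a • w := fun a w => by
    have h1 : a - algebraMap k A (ev a) ∈ m := by
      rw [← Ideal.Quotient.eq_zero_iff_mem, map_sub]
      have h2 : Ideal.Quotient.mk m (algebraMap k A (ev a)) = e (ev a) := rfl
      rw [h2]
      simp [ev]
    have h2 : (a - algebraMap k A (ev a)) • w = 0 := by
      induction w using Submodule.Quotient.induction_on with
      | H w => rw [← Submodule.Quotient.mk_smul, Submodule.Quotient.mk_eq_zero]
               exact Submodule.smul_mem_smul h1 trivial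
    rw [sub_smul, sub_eq_zero] at h2
    rw [h2, algebraMap_smul]
  obtain ⟨w, hw⟩ := exists_ne (0 : Q)
  obtain ⟨φ, hφ⟩ := Module.Projective.exists_dual_ne_zero k hw
  let d : A → k := fun a => φ (Submodule.Quotient.mk (KaehlerDifferential.D k A a))
  have hdadd : ∀ a b, d (a + b) = d a + d b := fun a b => by simp [d]
  have hdmul : ∀ a b, d (a * b) = ev a * d b + ev b * d a := fun a b => by
    simp only [d, Derivation.leibniz, Submodule.Quotient.mk_add, Submodule.Quotient.mk_smul, map_add, hev,
      map_smul, smul_eq_mul]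
  have hdalg : ∀ r : k, d (algebraMap k A r) = 0 := fun r => by simp [d]
  let g₁ : A →ₐ[k] DualNumber k :=
    { toFun := fun a => inl (ev a) + inr (d a)
      map_one' := by
        apply TrivSqZeroExt.ext <;> simp [d]
      map_mul' := fun a b => by
        apply TrivSqZeroExt.ext
        · simp
        · simp [hdmul, mul_comm]
      map_zero' := by apply TrivSqZeroExt.ext <;> simp [d]
      map_add' := fun a b => by apply TrivSqZeroExt.ext <;> simp [hdadd]
      commutes' := fun r => by
        apply TrivSqZeroExt.ext <;> simp [hdalg, TrivSqZeroExt.algebraMap_eq_inl] }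
  have h0 : g₁ = (Algebra.ofId k (DualNumber k)).comp ev := H _ _ fun a => by
    simp [g₁, Algebra.ofId_apply, TrivSqZeroExt.algebraMap_eq_inl]
  have hd0 : ∀ a, d a = 0 := fun a => by
    simpa [g₁, Algebra.ofId_apply, TrivSqZeroExt.algebraMap_eq_inl] using congrArg TrivSqZeroExt.snd (AlgHom.congr_fun h0 a)
  refine hφ ?_
  obtain ⟨w, rfl⟩ := Submodule.Quotient.mk_surjective _ w
  have hwmem : w ∈ Submodule.span A (Set.range (KaehlerDifferential.D k A)) := by
    rw [KaehlerDifferential.span_range_derivation]; trivial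
  clear hw hφ
  induction hwmem using Submodule.span_induction with
  | mem x hx => obtain ⟨a, rfl⟩ := hx; exact hd0 a
  | zero => simp
  | add x y _ _ hx hy => simp [hx, hy]
  | smul a x _ hx => rw [Submodule.Quotient.mk_smul, hev, map_smul, hx, smul_zero]

/-- Let k be an algebraically closed field and X a scheme locally of finite type over k. Then X → Spec k
is formally unramified if and only if the map Hom_k(Spec k[ε], X) → Hom_k(Spec k, X) given by
restricting along the closed immersion of Spec k into Spec k[ε] (k[ε] the ring of dual numbers, ε ↦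
0), is bijective; since that map is always surjective, the condition is stated as injectivity: two
k-morphisms from Spec k[ε] to X which agree on Spec k are equal. -/
theorem result (k : Type u) [Field k] [IsAlgClosed k]
    {X : Scheme.{u}} (p : X ⟶ Spec (CommRingCat.of k)) [LocallyOfFiniteType p] :
    FormallyUnramified p ↔
      ∀ v₁ v₂ : Spec (CommRingCat.of (DualNumber k)) ⟶ X,
        v₁ ≫ p = Spec.map (CommRingCat.ofHom (algebraMap k (DualNumber k))) →
        v₂ ≫ p = Spec.map (CommRingCat.ofHom (algebraMap k (DualNumber k))) →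
        Spec.map (CommRingCat.ofHom (TrivSqZeroExt.fstHom k k k).toRingHom) ≫ v₁ =
          Spec.map (CommRingCat.ofHom (TrivSqZeroExt.fstHom k k k).toRingHom) ≫ v₂ →
        v₁ = v₂ := by
  constructor
  · intro hu v₁ v₂ h₁ h₂ h
    let ι := Spec.map (CommRingCat.ofHom (TrivSqZeroExt.fstHom k k k).toRingHom)
    have hpt : ∀ y : (Spec (CommRingCat.of (DualNumber k)) : Scheme), y = ι (IsLocalRing.closedPoint k) := fun y => by
      have key : ∀ y : PrimeSpectrum (DualNumber k), y.asIdeal = RingHom.ker (TrivSqZeroExt.fstHom k k k).toRingHom := fun y => by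
        haveI : (RingHom.ker (TrivSqZeroExt.fstHom k k k).toRingHom).IsMaximal :=
          RingHom.ker_isMaximal_of_surjective _ fun a => ⟨TrivSqZeroExt.inl a, rfl⟩
        refine (Ideal.IsMaximal.eq_of_le ‹_› y.isPrime.ne_top fun a ha => ?_).symm
        have ha' : a.fst = 0 := ha
        have : a * a = 0 := by apply TrivSqZeroExt.ext <;> simp [ha']
        exact (y.isPrime.mem_or_mem (this ▸ y.asIdeal.zero_mem)).elim id id
      exact PrimeSpectrum.ext ((key y).trans (key _).symm)
    let x := v₁ (ι (IsLocalRing.closedPoint k))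
    obtain ⟨U, hU, hxU, -⟩ := exists_isAffineOpen_mem_and_subset (x := x) (U := (⊤ : X.Opens)) trivial
    let j : Spec (Γ(X, U)) ⟶ X := hU.fromSpec
    obtain ⟨y, hy⟩ : x ∈ Set.range j := hU.range_fromSpec.symm ▸ hxU
    have hr₁ : Set.range v₁ ⊆ Set.range j := by
      rintro _ ⟨z, rfl⟩; rw [hpt z]; exact ⟨y, hy⟩
    have hr₂ : Set.range v₂ ⊆ Set.range j := by
      rintro _ ⟨z, rfl⟩
      rw [hpt z, ← Scheme.Hom.comp_apply, ← h, Scheme.Hom.comp_apply]; exact ⟨y, hy⟩
    obtain ⟨r, hr⟩ := Spec.map_surjective (j ≫ p)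
    obtain ⟨φ₁, hφ₁⟩ := Spec.map_surjective (IsOpenImmersion.lift j v₁ hr₁)
    obtain ⟨φ₂, hφ₂⟩ := Spec.map_surjective (IsOpenImmersion.lift j v₂ hr₂)
    have e₁ : v₁ = Spec.map φ₁ ≫ j := by rw [hφ₁, IsOpenImmersion.lift_fac]
    have e₂ : v₂ = Spec.map φ₂ ≫ j := by rw [hφ₂, IsOpenImmersion.lift_fac]
    haveI : FormallyUnramified (Spec.map r) := hr ▸ MorphismProperty.comp_mem @FormallyUnramified j p inferInstance hu
    letI := r.hom.toAlgebra
    have hfu : r.hom.FormallyUnramified := (HasRingHomProperty.Spec_iff (P := @FormallyUnramified)).1 ‹_›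
    have : Algebra.FormallyUnramified k Γ(X, U) := hfu
    have hA : ∀ φ, Spec.map φ ≫ j ≫ p = Spec.map (CommRingCat.ofHom (algebraMap k (DualNumber k))) →
        r ≫ φ = CommRingCat.ofHom (algebraMap k (DualNumber k)) := fun φ hφ => by
      rw [← hr, ← Spec.map_comp] at hφ; exact Spec.map_injective hφ
    let g₁ : _ →ₐ[k] DualNumber k := ⟨φ₁.hom, fun a => congrArg (fun f => f.hom a)
      (hA φ₁ (by rw [← Category.assoc, ← e₁, h₁]))⟩
    let g₂ : _ →ₐ[k] DualNumber k := ⟨φ₂.hom, fun a => congrArg (fun f => f.hom a)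
      (hA φ₂ (by rw [← Category.assoc, ← e₂, h₂]))⟩
    have hh : φ₁ ≫ CommRingCat.ofHom (TrivSqZeroExt.fstHom k k k).toRingHom =
        φ₂ ≫ CommRingCat.ofHom (TrivSqZeroExt.fstHom k k k).toRingHom := Spec.map_injective <| by
      rw [← cancel_mono j, Spec.map_comp, Spec.map_comp, Category.assoc, Category.assoc, ← e₁, ← e₂]
      exact h
    have hg : g₁ = g₂ := Algebra.FormallyUnramified.ext' (TrivSqZeroExt.fstHom k k k).toRingHom
      ⟨2, by
        refine le_bot_iff.1 ((pow_two _).le.trans (Ideal.mul_le.2 fun a ha b hb => ?_))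
        have ha' : a.fst = 0 := ha
        have hb' : b.fst = 0 := hb
        show a * b = 0
        apply TrivSqZeroExt.ext <;> simp [ha', hb']⟩ g₁ g₂ fun a => congrArg (fun f => f.hom a) hh
    rw [e₁, e₂]
    congr 2
    ext1
    exact congrArg AlgHom.toRingHom hg
  · intro H
    suffices ∀ (R : CommRingCat.{u}) (j : Spec R ⟶ X) [IsOpenImmersion j], FormallyUnramified (j ≫ p) by
      rw [IsZariskiLocalAtSource.iff_of_openCover (P := @FormallyUnramified) X.affineCover]
      exact fun i => @this _ (X.affineCover.f i) (X.affineCover.map_prop i)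
    intro R j _
    obtain ⟨r, hr⟩ := Spec.map_surjective (j ≫ p)
    rw [← hr, HasRingHomProperty.Spec_iff (P := @FormallyUnramified)]
    haveI : LocallyOfFiniteType (Spec.map r) := hr ▸ (inferInstance : LocallyOfFiniteType (_ ≫ p))
    letI := r.hom.toAlgebra
    have hft : r.hom.FiniteType := (HasRingHomProperty.Spec_iff (P := @LocallyOfFiniteType)).1 ‹_›
    haveI : Algebra.FiniteType k R := hft
    refine formallyUnramified_of_dual fun g₁ g₂ hg => ?_
    have e : ∀ g : _ →ₐ[k] DualNumber k, (Spec.map (CommRingCat.ofHom g.toRingHom) ≫ j) ≫ p =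
        Spec.map (CommRingCat.ofHom (algebraMap k (DualNumber k))) := fun g => by
      rw [Category.assoc, ← hr, ← Spec.map_comp]
      congr 1
      ext1
      exact g.comp_algebraMap
    have h := H _ _ (e g₁) (e g₂) (by
      rw [← Category.assoc, ← Category.assoc, ← Spec.map_comp, ← Spec.map_comp]
      congr 2
      ext a
      exact hg a)
    rw [cancel_mono, Spec.map_inj] at h
    exact AlgHom.ext fun a => congrArg (fun f => f.hom a) h


end Groth.Agent.S18905
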