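import Groth.Statements.S18918
import Groth.Agent.H23.CoverPush
import Groth.Agent.MorLib.BddFib
import Groth.Agent.EtFound.SectionUnr
import Mathlib.AlgebraicGeometry.Limits

set_option linter.style.haveILetI false
set_option backward.isDefEq.respectTransparency false
set_option backward.isDefEq.respectTransparency.types false


set_option autoImplicit false
universe u
open CategoryTheory CategoryTheory.Limits AlgebraicGeometry
open FEt

namespace Groth.Agent.S18918

/-- Let f : X → Y be a finite étale morphism of degree n (f_*O_X locally free of rank n) and φ : X' → Y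
a morphism from a nonempty connected scheme X'. Then the Y-morphisms X' → X (equivalently, the
sections of X ×_Y X' → X') form a finite set with at most n elements, and there are exactly n of
them if and only if the covering X ×_Y X' → X' is trivial, i.e. X ×_Y X' is isomorphic over X' to
the disjoint union of n copies of X'. The source works with separated Noetherian schemes over an
algebraically closed field of characteristic zero; that setting is not needed for the statement. -/
theorem result
    {X Y X' : Scheme.{u}} (f : X ⟶ Y) [IsFinite f] [Etale f] (n : ℕ)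
    (hdeg : FlatMod.IsFinLocFreeOfRank n ((Scheme.Modules.pushforward f).obj (Coh.structureModule X)))
    (φ : X' ⟶ Y) [Nonempty X'] [ConnectedSpace X'] :
    Finite (Over.mk φ ⟶ Over.mk f) ∧ Nat.card (Over.mk φ ⟶ Over.mk f) ≤ n ∧
      (Nat.card (Over.mk φ ⟶ Over.mk f) = n ↔
        ∃ e : pullback f φ ≅ ∐ fun _ : Fin n => X',
          e.hom ≫ Sigma.desc (fun _ : Fin n => 𝟙 X') = pullback.snd f φ) := by
  classical
  have hc := Groth.Agent.H23.CoverPush.isCover_of_crit f (Groth.Agent.H23.CoverPush.crit_of_isFinLocFreeOfRank_push f hdeg)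
  have hdf : Mor2.IsFinLocFreeOfDeg n f := hc
  let p : pullback f φ ⟶ X' := pullback.snd f φ
  haveI : IsFinite p := MorphismProperty.pullback_snd _ _ inferInstance
  haveI : Etale p := MorphismProperty.pullback_snd _ _ inferInstance
  have hbd : BddFib.FibreDegLE p n := Groth.Agent.MorLib.BF.fibreDegLE_of_isPullback (IsPullback.of_hasPullback f φ)
    (Groth.Agent.MorLib.BF.fibreDegLE_of_isFinLocFreeOfDeg hdf)
  obtain ⟨y₀⟩ := (inferInstance : Nonempty X')
  have hfib : ∀ y : X', (p ⁻¹' {y}).Finite ∧ (p ⁻¹' {y}).ncard ≤ n := fun y => by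
    obtain ⟨h1, h2⟩ := Groth.Agent.MorLib.BF.natCard_pullback_le hbd (X'.residueField y) (X'.fromSpecResidueField y)
    change Finite ↥(p.fiber y) at h1
    change Nat.card ↥(p.fiber y) ≤ n at h2
    rw [← Scheme.Hom.range_fiberι]
    refine ⟨Set.finite_range _, le_trans (le_of_eq ?_) h2⟩
    rw [← Nat.card_coe_set_eq]
    exact Nat.card_range_of_injective (p.fiberι y).isEmbedding.injective
  let Sec := {s : X' ⟶ pullback f φ // s ≫ p = 𝟙 X'}
  let E : (Over.mk φ ⟶ Over.mk f) ≃ Sec :=
    { toFun := fun h => ⟨pullback.lift h.left (𝟙 X') ((Over.w h).trans (Category.id_comp _).symm), pullback.lift_snd _ _ _⟩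
      invFun := fun s => Over.homMk (s.1 ≫ pullback.fst f φ) (show (s.1 ≫ pullback.fst f φ) ≫ f = φ by
        rw [Category.assoc, pullback.condition, ← Category.assoc, show s.1 ≫ pullback.snd f φ = 𝟙 X' from s.2,
          Category.id_comp])
      left_inv := fun h => Over.OverMorphism.ext (pullback.lift_fst _ _ _)
      right_inv := fun s => Subtype.ext (pullback.hom_ext (pullback.lift_fst _ _ _)
        ((pullback.lift_snd _ _ _).trans s.2.symm)) }
  have hps : ∀ (s : Sec) (y : X'), p (s.1 y) = y := fun s y => by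
    rw [← Scheme.Hom.comp_apply, s.2]
    rfl
  have hop : ∀ s : Sec, IsOpenImmersion s.1 := fun s => Groth.Agent.EtFound.isOpenImmersion_section p s.1 s.2
  have hpc : ∀ s : Sec, _root_.IsPreconnected (Set.range s.1) := fun s => isPreconnected_range s.1.continuous
  have hcl : ∀ s : Sec, IsClopen (Set.range s.1) := fun s =>
    ⟨Groth.Agent.EtFound.isClosed_range_section p s.1 s.2, (haveI := hop s; s.1.isOpenEmbedding.isOpen_range)⟩
  have hsep : ∀ (s t : Sec) (y y' : X'), s.1 y = t.1 y' → s = t := fun s t y y' h => by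
    refine Subtype.ext (Groth.Agent.EtFound.section_eq_of_range_eq p s.1 t.1 s.2 t.2 (Set.Subset.antisymm ?_ ?_)).symm
    · exact (hpc t).subset_isClopen (hcl s) ⟨s.1 y, ⟨y', h.symm⟩, ⟨y, rfl⟩⟩
    · exact (hpc s).subset_isClopen (hcl t) ⟨s.1 y, ⟨y, rfl⟩, ⟨y', h.symm⟩⟩
  have hinj : ∀ y : X', Function.Injective (fun s : Sec => (⟨s.1 y, hps s y⟩ : ↥(p ⁻¹' {y}))) :=
    fun y s t h => hsep s t y y (congrArg Subtype.val h)
  haveI : Finite ↥(p ⁻¹' {y₀}) := (hfib y₀).1
  haveI : Finite Sec := Finite.of_injective _ (hinj y₀)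
  haveI : Finite (Over.mk φ ⟶ Over.mk f) := Finite.of_equiv _ E.symm
  have hle : Nat.card Sec ≤ n := (Nat.card_le_card_of_injective _ (hinj y₀)).trans
    ((Nat.card_coe_set_eq _).trans_le (hfib y₀).2)
  rw [Nat.card_congr E]
  refine ⟨inferInstance, hle, fun hn => ?_, ?_⟩
  · let ε : Fin n ≃ Sec := (Finite.equivFinOfCardEq hn).symm
    let α : Fin n → (X' ⟶ pullback f φ) := fun i => (ε i).1
    haveI : ∀ i, IsOpenImmersion (α i) := fun i => hop _
    let σ : (∐ fun _ : Fin n => X') ⟶ pullback f φ := Sigma.desc α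
    haveI : IsOpenImmersion σ := isOpenImmersion_sigmaDesc _ _ fun i j hij => by
      refine Set.disjoint_left.2 ?_
      rintro _ ⟨y, rfl⟩ ⟨y', h⟩
      exact hij (ε.injective (hsep _ _ y y' h.symm))
    haveI : Surjective σ := ⟨fun x => by
      haveI : Finite ↥(p ⁻¹' {p x}) := (hfib (p x)).1
      obtain ⟨s, hs⟩ := ((Nat.bijective_iff_injective_and_card (fun s : Sec => (⟨s.1 (p x), hps s (p x)⟩ : ↥(p ⁻¹' {p x})))).2
        ⟨hinj (p x), le_antisymm (Nat.card_le_card_of_injective _ (hinj (p x)))
          (((Nat.card_coe_set_eq _).trans_le (hfib (p x)).2).trans hn.ge)⟩).2 ⟨x, rfl⟩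
      refine ⟨Sigma.ι (fun _ : Fin n => X') (ε.symm s) (p x), ?_⟩
      rw [← Scheme.Hom.comp_apply, Sigma.ι_desc]
      change (ε (ε.symm s)).1 (p x) = x
      rw [Equiv.apply_symm_apply]
      exact congrArg Subtype.val hs⟩
    haveI : IsIso σ := isIso_of_isOpenImmersion_of_opensRange_eq_top σ
      (TopologicalSpace.Opens.ext (Set.range_eq_univ.2 σ.surjective))
    refine ⟨(asIso σ).symm, (IsIso.inv_comp_eq σ).2 (Sigma.hom_ext _ _ fun i => ?_)⟩
    rw [Sigma.ι_desc, Sigma.ι_desc_assoc]
    exact (ε i).2.symm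
  · rintro ⟨e, he⟩
    let s : Fin n → Sec := fun i => ⟨Sigma.ι (fun _ : Fin n => X') i ≫ e.inv, by
      rw [Category.assoc, show p = e.hom ≫ Sigma.desc (fun _ : Fin n => 𝟙 X') from he.symm, Iso.inv_hom_id_assoc,
        Sigma.ι_desc]⟩
    refine le_antisymm hle ((Nat.card_fin n).symm.trans_le (Nat.card_le_card_of_injective s fun i j hij => ?_))
    by_contra hne
    have h := congrArg (fun t : Sec => (t.1 ≫ e.hom) y₀) hij
    simp only [s, Category.assoc, Iso.inv_hom_id, Category.comp_id] at h
    exact hne (congrArg Sigma.fst ((sigmaι_eq_iff (fun _ : Fin n => X') i j y₀ y₀).1 h))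
end Groth.Agent.S18918
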