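import Groth.Statements.S1892
import Groth.Agent.GrpdLib.ClosedSubCor
import Groth.Agent.GrpdOmega.Shear
-- import your own Groth.Agent.* helpers here

set_option backward.isDefEq.respectTransparency false
set_option backward.isDefEq.respectTransparency.types false

set_option autoImplicit false
universe u
open CategoryTheory CategoryTheory.Limits AlgebraicGeometry
open Grpd

namespace Groth.Agent.S1892

open GrpdLib

variable {S : Scheme.{u}}

theorem isClosed_range_of_isLocallyClosed {G₁ G₂ : GroupoidScheme S} (k : Type u) [Field k]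
    (eU : G₂.U ≅ Spec (CommRingCat.of k)) (a : GroupoidScheme.Hom G₁ G₂) [IsIso a.fU]
    (hlc : IsLocallyClosed (Set.range ⇑a.fR)) : IsClosed (Set.range ⇑a.fR) := by
  obtain ⟨W₀, C₀, hW₀, hC₀, hWC⟩ := hlc
  refine isClosed_of_closure_subset fun r hr => ?_
  let W : G₂.R.Opens := ⟨W₀, hW₀⟩
  have hsubW : Set.range ⇑a.fR ⊆ W₀ := fun y hy => (hWC.le hy).1
  let ρ := G₂.R.fromSpecResidueField r
  set M := pullback.lift (pullback.fst (ρ ≫ G₂.s) (W.ι ≫ G₂.t) ≫ ρ) (pullback.snd (ρ ≫ G₂.s) (W.ι ≫ G₂.t) ≫ W.ι)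
    ((Category.assoc _ _ _).trans (pullback.condition.trans (Category.assoc _ _ _).symm)) ≫ G₂.c with hM
  suffices h : (∀ z, M z ∈ Set.range ⇑a.fR → r ∈ Set.range ⇑a.fR) ∧ r ∈ Set.range ⇑M by
    obtain ⟨x, ⟨z, hz⟩, hx⟩ := mem_closure_iff.1 hr _ (isOpen_range_translate G₂ k eU W ρ) h.2
    exact h.1 z (show M z ∈ _ by rw [show M z = x from hz]; exact hx)
  refine ⟨fun z hx => ?_, ?_⟩
  ·
    let K := (pullback (ρ ≫ G₂.s) (W.ι ≫ G₂.t)).residueField z
    let ζ := (pullback (ρ ≫ G₂.s) (W.ι ≫ G₂.t)).fromSpecResidueField z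
    let ρ' : Spec (CommRingCat.of K) ⟶ G₂.R := ζ ≫ pullback.fst _ _ ≫ ρ
    let ω : Spec (CommRingCat.of K) ⟶ G₂.R := ζ ≫ pullback.snd _ _ ≫ W.ι
    have hρω : ρ' ≫ G₂.s = ω ≫ G₂.t := by
      show (ζ ≫ pullback.fst (ρ ≫ G₂.s) (W.ι ≫ G₂.t) ≫ ρ) ≫ G₂.s = _
      simp only [ω, Category.assoc, pullback.condition]
    let χ : Spec (CommRingCat.of K) ⟶ G₂.R := pullback.lift ρ' ω hρω ≫ G₂.c
    have hχ : χ (IsLocalRing.closedPoint K) ∈ Set.range ⇑a.fR := by
      have e : χ = ζ ≫ (pullback.lift (pullback.fst (ρ ≫ G₂.s) (W.ι ≫ G₂.t) ≫ ρ)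
        (pullback.snd (ρ ≫ G₂.s) (W.ι ≫ G₂.t) ≫ W.ι)
        ((Category.assoc _ _ _).trans (pullback.condition.trans (Category.assoc _ _ _).symm)) ≫ G₂.c) := by
        simp only [χ, ← Category.assoc]
        congr 1
        apply pullback.hom_ext <;> simp [ρ', ω]
      rw [e, Scheme.Hom.comp_apply]
      convert hx
      exact Scheme.fromSpecResidueField_apply _ _
    have hρ0 : ρ' (IsLocalRing.closedPoint K) = r := by
      simp only [ρ', Scheme.Hom.comp_apply]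
      exact Scheme.fromSpecResidueField_apply _ _
    have hω : ω (IsLocalRing.closedPoint K) ∈ Set.range ⇑a.fR := by
      refine hWC.ge ⟨(Subtype.prop _ : (_ : G₂.R) ∈ W), hC₀.closure_subset_iff.2 (fun y hy => (hWC.le hy).2) ?_⟩
      have hh : (ρ' ≫ G₂.i) ≫ G₂.s = χ ≫ G₂.t := by
        rw [Category.assoc, G₂.i_s]; exact (G₂.comp_t ρ' ω hρω).symm
      have hinv : pullback.lift (ρ' ≫ G₂.i) χ hh ≫ G₂.c = ω := GrpdOmega.comp_inv_left G₂ ρ' ω hρω
      rw [← hinv, Scheme.Hom.comp_apply]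
      refine ClosedSub.c_mem_closure a eU _ ?_ ?_
      · rw [← Scheme.Hom.comp_apply, pullback.lift_fst, Scheme.Hom.comp_apply, hρ0]
        rw [← ClosedSub.range_redι a] at hr ⊢
        obtain ⟨y, rfl⟩ := hr
        exact (ClosedSub.range_subset_closure a eU (ClosedSub.redι a) (ClosedSub.range_redι a)).1
          ⟨y, Scheme.Hom.comp_apply _ _ _⟩
      · rw [← Scheme.Hom.comp_apply, pullback.lift_snd]
        exact subset_closure hχ
    obtain ⟨L₁, _, g₁, ω₁, hω₁⟩ := exists_field_lift a.fR K ω hω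
    have hχ' : (g₁ ≫ χ) (IsLocalRing.closedPoint L₁) ∈ Set.range ⇑a.fR := by
      rw [Scheme.Hom.comp_apply, Subsingleton.elim (g₁ (IsLocalRing.closedPoint L₁)) (IsLocalRing.closedPoint K)]
      exact hχ
    obtain ⟨L, _, g₂, χ₁, hχ₁⟩ := exists_field_lift a.fR L₁ (g₁ ≫ χ) hχ'
    let ω₂ := g₂ ≫ ω₁
    have hω₂ : ω₂ ≫ a.fR = (g₂ ≫ g₁) ≫ ω := by simp only [ω₂, Category.assoc, hω₁]
    have hχ₂ : χ₁ ≫ a.fR = (g₂ ≫ g₁) ≫ χ := by simp only [hχ₁, Category.assoc]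
    have hs₂ : χ ≫ G₂.s = ω ≫ G₂.s := G₂.comp_s ρ' ω hρω
    have hs : χ₁ ≫ G₁.s = (ω₂ ≫ G₁.i) ≫ G₁.t := by
      rw [Category.assoc, G₁.i_t, ← cancel_mono a.fU, Category.assoc, ← a.comm_s, reassoc_of% hχ₂,
        Category.assoc ω₂ G₁.s, ← a.comm_s, reassoc_of% hω₂, hs₂]
    let γ := pullback.lift χ₁ (ω₂ ≫ G₁.i) hs ≫ G₁.c
    have hγ : γ ≫ a.fR = (g₂ ≫ g₁) ≫ ρ' := by
      have hcc := a.comm_c γ ω₂ (show γ ≫ G₁.s = ω₂ ≫ G₁.t by
        simp only [γ]; rw [G₁.comp_s, Category.assoc, G₁.i_s])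
      have e1 : pullback.lift γ ω₂ (show γ ≫ G₁.s = ω₂ ≫ G₁.t by
        simp only [γ]; rw [G₁.comp_s, Category.assoc, G₁.i_s]) ≫ G₁.c = χ₁ := by
        refine (G₁.assoc χ₁ (ω₂ ≫ G₁.i) ω₂ hs (by rw [Category.assoc, G₁.i_s])).trans ?_
        refine (c_congr G₁ _ rfl (G₁.i_comp ω₂)).trans ((c_congr G₁ _ rfl ?_).trans (G₁.comp_e χ₁))
        rw [← Category.assoc χ₁, hs]; simp only [Category.assoc, reassoc_of% G₁.i_t]
      rw [e1, hχ₂] at hcc
      have hcomp : (g₂ ≫ g₁) ≫ χ = pullback.lift ((g₂ ≫ g₁) ≫ ρ') ((g₂ ≫ g₁) ≫ ω)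
          (by simp only [Category.assoc, hρω]) ≫ G₂.c := by
        rw [show χ = pullback.lift ρ' ω hρω ≫ G₂.c from rfl, ← Category.assoc]
        congr 1
        apply pullback.hom_ext <;> simp
      rw [hcomp] at hcc
      have h := (isPullback_snd_c G₂).hom_ext
        (k := pullback.lift ((g₂ ≫ g₁) ≫ ρ') ((g₂ ≫ g₁) ≫ ω) (by simp only [Category.assoc, hρω]))
        (l := pullback.lift (γ ≫ a.fR) (ω₂ ≫ a.fR) (by
          rw [Category.assoc γ, a.comm_s, Category.assoc ω₂ a.fR, a.comm_t, ← Category.assoc γ,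
            ← Category.assoc ω₂]
          congr 1
          exact (G₁.comp_s _ _ hs).trans (by rw [Category.assoc, G₁.i_s])))
        (by simp [hω₂]) hcc
      have := congrArg (· ≫ pullback.fst G₂.s G₂.t) h
      simpa using this.symm
    refine ⟨γ (IsLocalRing.closedPoint L), ?_⟩
    rw [← Scheme.Hom.comp_apply, hγ]
    have hr' : ∀ y, ρ y = r := fun y => Scheme.fromSpecResidueField_apply _ _
    simp only [ρ', Scheme.Hom.comp_apply]
    exact hr' _
  · have hsub : Set.range ⇑(ρ ≫ G₂.s ≫ G₂.e) ⊆ Set.range ⇑W.ι := by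
      rintro _ ⟨y, rfl⟩
      rw [Scheme.Opens.range_ι]
      refine hsubW ⟨G₁.e (inv a.fU ((ρ ≫ G₂.s) y)), ?_⟩
      rw [← Scheme.Hom.comp_apply G₁.e, hom_comm_e, ← Scheme.Hom.comp_apply, IsIso.inv_hom_id_assoc]
      rfl
    let w := IsOpenImmersion.lift W.ι (ρ ≫ G₂.s ≫ G₂.e) hsub
    have hw : w ≫ W.ι = ρ ≫ G₂.s ≫ G₂.e := IsOpenImmersion.lift_fac ..
    let z := pullback.lift (𝟙 _) w (show 𝟙 _ ≫ ρ ≫ G₂.s = w ≫ W.ι ≫ G₂.t by
      rw [reassoc_of% hw, G₂.e_t, Category.comp_id, Category.id_comp])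
    refine ⟨z (IsLocalRing.closedPoint _), ?_⟩
    rw [← Scheme.Hom.comp_apply]
    have e : z ≫ (pullback.lift (pullback.fst (ρ ≫ G₂.s) (W.ι ≫ G₂.t) ≫ ρ)
        (pullback.snd (ρ ≫ G₂.s) (W.ι ≫ G₂.t) ≫ W.ι)
        ((Category.assoc _ _ _).trans (pullback.condition.trans (Category.assoc _ _ _).symm)) ≫ G₂.c) = ρ := by
      refine Eq.trans ?_ (G₂.comp_e ρ)
      refine (Category.assoc _ _ _).symm.trans (congrArg (· ≫ G₂.c) ?_)
      apply pullback.hom_ext <;> simp [z, hw] <;> exact Category.id_comp _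
    rw [e]
    exact Scheme.fromSpecResidueField_apply _ _



/-- Let (U₁, R₁, s, t, c) and (U₂, R₂, s, t, c) be groupoid schemes over S with U₂ isomorphic to Spec k
for a field k, and a : R₁ → R₂ a morphism of groupoid schemes which is an isomorphism on objects. If
a(R₁) is locally closed in R₂ then it is closed. (A groupoid scheme carries U, R, s, t, c, e, i over
S satisfying the groupoid axioms on T-points.) -/
theorem result (S : Scheme.{u}) (G₁ G₂ : Grpd.GroupoidScheme S) (k : Type u) [Field k] (eU : G₂.U ≅ Spec (CommRingCat.of k)) (a : Grpd.GroupoidScheme.Hom G₁ G₂) [IsIso a.fU] (hlc : IsLocallyClosed (Set.range ⇑a.fR)) : IsClosed (Set.range ⇑a.fR) := by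
  exact isClosed_range_of_isLocallyClosed k eU a hlc

end Groth.Agent.S1892
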