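import Groth.Statements.S18929
-- import your own Groth.Agent.* helpers here
import Mathlib

set_option autoImplicit false
universe u
open DPow

namespace Groth.Agent.S18929

/-- Let p be a prime, n a natural number, B a commutative ring in which p^n = 0, and I an ideal of B
equipped with divided powers. There is a ring homomorphism θ from the truncated Witt vectors
W_n(B/I) to B such that, for every Witt vector x over B, θ applied to the truncation of the image of
x in W_n(B/I) equals Σ_{i<n} p^i x_i^(p^(n−i)); in particular this sum depends only on the residues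
of x_0, …, x_{n−1} modulo I. (The source works with a divided power thickening of an algebra over a
perfect field and also checks linearity over the Witt vectors of that field; only the ring
homomorphism is asserted here. θ is unique, the truncation-of-reduction map being surjective.) -/
theorem result (p : ℕ) [Fact p.Prime] (n : ℕ)
    {B : Type u} [CommRing B] (hp : (p : B) ^ n = 0) {I : Ideal B} (hI : DividedPowers I) :
    ∃ θ : TruncatedWittVector p n (B ⧸ I) →+* B, ∀ x : WittVector p B, θ (WittVector.truncate n (WittVector.map (Ideal.Quotient.mk I) x)) =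
        ∑ i : Fin n, (p : B) ^ (i : ℕ) * (x.coeff i) ^ (p ^ (n - i)) := by
  classical
  have hpow : ∀ (m : ℕ), ∀ t ∈ I, ∃ s ∈ I, t ^ (p ^ m) = (p : B) ^ m * s := by
    intro m
    induction m with
    | zero => exact fun t ht => ⟨t, ht, by simp⟩
    | succ m ih =>
      intro t ht
      obtain ⟨s, hs, he⟩ := ih t ht
      have hs' : s ^ p = (p : B) * ((Nat.factorial (p - 1) : B) * hI.dpow p s) := by
        rw [← hI.factorial_mul_dpow_eq_pow hs, ← mul_assoc, ← Nat.cast_mul,
          Nat.mul_factorial_pred (Fact.out (p := p.Prime)).ne_zero]
      have hm : (p : B) ^ m * (p : B) ^ (m * (p - 1)) = (p : B) ^ (m * p) := by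
        rw [← pow_add]
        congr 1
        have hp1 := (Fact.out (p := p.Prime)).one_le
        calc m + m * (p - 1) = m * (p - 1 + 1) := by ring
          _ = m * p := by rw [Nat.sub_add_cancel hp1]
      refine ⟨(p : B) ^ (m * (p - 1)) * ((Nat.factorial (p - 1) : B) * hI.dpow p s),
        Ideal.mul_mem_left _ _ (Ideal.mul_mem_left _ _ (hI.dpow_mem (Fact.out (p := p.Prime)).ne_zero hs)), ?_⟩
      rw [pow_succ p m, pow_mul, he, mul_pow, hs', ← pow_mul, ← hm]
      ring
  let π : WittVector p B →+* TruncatedWittVector p n (B ⧸ I) :=
    (WittVector.truncate n).comp (WittVector.map (Ideal.Quotient.mk I))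
  have hπs : Function.Surjective π :=
    Function.Surjective.comp (g := WittVector.truncate n) (WittVector.truncate_surjective (p := p) n _)
      (WittVector.map_surjective (Ideal.Quotient.mk I) Ideal.Quotient.mk_surjective)
  have hg : ∀ x : WittVector p B, WittVector.ghostComponent n x =
      ∑ i : Fin n, (p : B) ^ (i : ℕ) * (x.coeff i) ^ (p ^ (n - i)) := by
    intro x
    rw [WittVector.ghostComponent_apply, wittPolynomial_eq_sum_C_mul_X_pow, map_sum, Finset.sum_range_succ,
      Fin.sum_univ_eq_sum_range (fun i => (p : B) ^ i * x.coeff i ^ (p ^ (n - i))) n]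
    simp [hp]
  have hker : ∀ x, π x = 0 → WittVector.ghostComponent n x = 0 := by
    intro x hx
    rw [hg]
    refine Finset.sum_eq_zero fun i _ => ?_
    have hi : x.coeff i ∈ I := by
      have h1 := congrArg (TruncatedWittVector.coeff i) hx
      rw [TruncatedWittVector.coeff_zero] at h1
      simp only [π, RingHom.comp_apply, WittVector.coeff_truncate, WittVector.map_coeff] at h1
      exact Ideal.Quotient.eq_zero_iff_mem.1 h1
    obtain ⟨s, -, hs⟩ := hpow (n - i) _ hi
    rw [hs, ← mul_assoc, ← pow_add, Nat.add_sub_cancel' i.2.le, hp, zero_mul]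
  exact ⟨RingHom.liftOfSurjective π hπs ⟨WittVector.ghostComponent n, fun x hx => hker x hx⟩, fun x => by
    rw [← hg x]
    exact RingHom.liftOfRightInverse_comp_apply π _ _ _ x⟩

end Groth.Agent.S18929
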