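import Groth.Statements.S18930
-- import your own Groth.Agent.* helpers here
import Groth.Agent.H4NS.WittTheta

set_option autoImplicit false
universe u
open DPow

namespace Groth.Agent.S18930

/-- Let p be a prime, n ≥ 1, B a commutative ring with p^n = 0 and A = B/pB. Let θ : W_n(A) → B be the
ring homomorphism which sends the reduction of a Witt vector (x_0, …, x_{n−1}) over B to Σ_{i<n} p^i
x_i^(p^(n−i)), let J_n be its kernel and let I_n be the set of a in W_n(A) whose zeroth component
satisfies a_0^(p^n) = 0. Then J_n + (p) ⊆ I_n. (In the source B is the ring of global sections of a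
scheme over the Witt vectors of length n of a perfect field.) -/
theorem result (p : ℕ) [Fact p.Prime] (n : ℕ) (hn : 0 < n)
    {B : Type u} [CommRing B] (hp : (p : B) ^ n = 0)
    (θ : TruncatedWittVector p n (B ⧸ (Ideal.span {(p : B)})) →+* B)
    (hθ : ∀ x : WittVector p B, θ (WittVector.truncate n (WittVector.map (Ideal.Quotient.mk (Ideal.span {(p : B)})) x)) =
        ∑ i : Fin n, (p : B) ^ (i : ℕ) * (x.coeff i) ^ (p ^ (n - i)))
    (a : TruncatedWittVector p n (B ⧸ (Ideal.span {(p : B)})))
    (ha : a ∈ RingHom.ker θ ⊔ Ideal.span {(p : TruncatedWittVector p n (B ⧸ (Ideal.span {(p : B)})))}) :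
    (TruncatedWittVector.coeff ⟨0, hn⟩ a) ^ (p ^ n) = 0 := by
  classical
  obtain ⟨j, hj, d, hd, rfl⟩ := Submodule.mem_sup.1 ha
  obtain ⟨c, rfl⟩ := Ideal.mem_span_singleton.1 hd
  obtain ⟨jw, rfl⟩ := WittVector.truncate_surjective (p := p) n _ j
  obtain ⟨cw, rfl⟩ := WittVector.truncate_surjective (p := p) n _ c
  obtain ⟨z, rfl⟩ := WittVector.map_surjective (Ideal.Quotient.mk (Ideal.span {(p : B)})) Ideal.Quotient.mk_surjective jw
  rw [RingHom.mem_ker, hθ] at hj
  rw [← map_natCast (WittVector.truncate n : WittVector p _ →+* TruncatedWittVector p n _), ← map_mul, ← map_add,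
    WittVector.coeff_truncate]
  show WittVector.constantCoeff (WittVector.map (Ideal.Quotient.mk (Ideal.span {(p : B)})) z + (p : WittVector p _) * cw) ^ _ = 0
  rw [map_add, map_mul, map_natCast, ← map_natCast (Ideal.Quotient.mk (Ideal.span {(p : B)})),
    Ideal.Quotient.eq_zero_iff_mem.2 (Ideal.subset_span (Set.mem_singleton (p : B))), zero_mul, add_zero]
  show ((WittVector.map (Ideal.Quotient.mk (Ideal.span {(p : B)})) z).coeff 0) ^ _ = 0
  rw [WittVector.map_coeff, ← Groth.Agent.H4NS.WittTheta.mk_theta n hn z, hj, map_zero]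

end Groth.Agent.S18930
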