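import Groth.Statements.S18931
-- import your own Groth.Agent.* helpers here
import Groth.Agent.H4NS.WittTheta

set_option autoImplicit false
universe u
open DPow

namespace Groth.Agent.S18931

/-- Let p be a prime, n ≥ 1, B a commutative ring with p^n = 0 and A = B/pB, and assume that the p-th
power map of A is surjective. Let θ : W_n(A) → B be the ring homomorphism which sends the reduction
of a Witt vector (x_0, …, x_{n−1}) over B to Σ_{i<n} p^i x_i^(p^(n−i)). Then every a in W_n(A) with
a_0^(p^n) = 0 lies in ker θ + (p); together with the reverse inclusion, ker θ + (p) is exactly the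
set of such a. (In the source B is the ring of global sections of a scheme over the Witt vectors of
length n of a perfect field. The printed argument subtracts a single correction term, which suffices
for n ≤ 2; in general one corrects the components one at a time.) -/
theorem result (p : ℕ) [Fact p.Prime]
    (n : ℕ) (hn : 0 < n) {B : Type u} [CommRing B] (hp : (p : B) ^ n = 0)
    (hF : Function.Surjective (fun y : B ⧸ (Ideal.span {(p : B)}) => y ^ p))
    (θ : TruncatedWittVector p n (B ⧸ (Ideal.span {(p : B)})) →+* B)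
    (hθ : ∀ x : WittVector p B, θ (WittVector.truncate n (WittVector.map (Ideal.Quotient.mk (Ideal.span {(p : B)})) x)) =
        ∑ i : Fin n, (p : B) ^ (i : ℕ) * (x.coeff i) ^ (p ^ (n - i)))
    (a : TruncatedWittVector p n (B ⧸ (Ideal.span {(p : B)}))) (ha : (TruncatedWittVector.coeff ⟨0, hn⟩ a) ^ (p ^ n) = 0) :
    a ∈ RingHom.ker θ ⊔ Ideal.span {(p : TruncatedWittVector p n (B ⧸ (Ideal.span {(p : B)})))} := by
  classical
  obtain ⟨x, rfl⟩ := WittVector.truncate_surjective (p := p) n _ a
  rw [WittVector.coeff_truncate] at ha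
  obtain ⟨x₀, hx₀⟩ := Ideal.Quotient.mk_surjective (x.coeff 0)
  have hx₀' : x₀ ^ (p ^ n) ∈ Ideal.span {(p : B)} := by
    rw [← Ideal.Quotient.eq_zero_iff_mem, map_pow, hx₀]; exact ha
  obtain ⟨b, hb⟩ := Ideal.mem_span_singleton.1 hx₀'
  obtain ⟨y, hy⟩ := Groth.Agent.H4NS.WittTheta.exists_digits hF hp (n - 1) 1 (by omega) (-b)
  rw [pow_one] at hy
  let z : WittVector p B := WittVector.mk p (Function.update y 0 x₀)
  have hz0 : z.coeff 0 = x₀ := by simp [z]
  let j := WittVector.map (Ideal.Quotient.mk (Ideal.span {(p : B)})) z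
  have hzero : θ (WittVector.truncate n j) = 0 := by
    rw [hθ, Fin.sum_univ_eq_sum_range (fun i => (p : B) ^ i * z.coeff i ^ (p ^ (n - i))) n,
      Finset.range_eq_Ico, Finset.sum_eq_sum_Ico_succ_bot hn]
    have h1 : ∑ i ∈ Finset.Ico (0 + 1) n, (p : B) ^ i * z.coeff i ^ (p ^ (n - i)) = p * -b := by
      rw [hy]
      refine Finset.sum_congr rfl fun i hi => ?_
      rw [Finset.mem_Ico] at hi
      show _ * Function.update y 0 x₀ i ^ _ = _
      rw [Function.update_of_ne (show i ≠ 0 by omega)]
    rw [h1, hz0, pow_zero, one_mul, Nat.sub_zero, hb, mul_neg, add_neg_cancel]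
  have hd : (x - j).coeff 0 = 0 := by
    show WittVector.constantCoeff (x - j) = 0
    rw [map_sub, sub_eq_zero]
    show x.coeff 0 = j.coeff 0
    rw [WittVector.map_coeff, hz0, hx₀]
  obtain ⟨e, he⟩ := Groth.Agent.H4NS.WittTheta.exists_mul_p
    (show ((p : B ⧸ Ideal.span {(p : B)})) = 0 by
      rw [← map_natCast (Ideal.Quotient.mk _), Ideal.Quotient.eq_zero_iff_mem]; exact Ideal.subset_span rfl)
    hF (x - j) hd
  rw [show x = j + e * (p : WittVector p _) by rw [← he, add_sub_cancel], map_add, map_mul, map_natCast]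
  exact Submodule.add_mem_sup hzero (Ideal.mem_span_singleton.2 (dvd_mul_left _ _))

end Groth.Agent.S18931
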