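import Groth.Statements.S18932
-- import your own Groth.Agent.* helpers here
import Groth.Agent.H4NS.WittTheta

set_option autoImplicit false
universe u
open DPow

namespace Groth.Agent.S18932

/-- Let p be a prime, k a perfect field of characteristic p, n a natural number and A a commutative
W_n(k)-algebra, W_n(k) the truncated Witt vectors, which is flat over W_n(k) and whose reduction
A/pA has surjective p-th power map. Let θ : W_n(A/pA) → A be the ring homomorphism which sends the
reduction of a Witt vector (x_0, …, x_{n−1}) over A to Σ_{i<n} p^i x_i^(p^(n−i)). Then θ is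
surjective, so A is the quotient of W_n(A/pA) by the kernel of θ. (This is the step of the source's
proposition establishing that Spec of the divided power envelope of that kernel is a thickening of
Spec A; the assertion that it is a final object of the crystalline site is not stated here.) -/
theorem result (p : ℕ) [Fact p.Prime]
    (k : Type u) [Field k] [CharP k p] [PerfectRing k p] (n : ℕ)
    (A : Type u) [CommRing A] [Algebra (TruncatedWittVector p n k) A] [Module.Flat (TruncatedWittVector p n k) A]
    (hF : Function.Surjective (fun y : A ⧸ (Ideal.span {(p : A)}) => y ^ p))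
    (θ : TruncatedWittVector p n (A ⧸ (Ideal.span {(p : A)})) →+* A)
    (hθ : ∀ x : WittVector p A, θ (WittVector.truncate n (WittVector.map (Ideal.Quotient.mk (Ideal.span {(p : A)})) x)) =
        ∑ i : Fin n, (p : A) ^ (i : ℕ) * (x.coeff i) ^ (p ^ (n - i))) :
    Function.Surjective θ := by
  classical
  have hpn : (p : A) ^ n = 0 := by
    have h : ((p : TruncatedWittVector p n k)) ^ n = 0 := by
      rw [← map_natCast (WittVector.truncate n : WittVector p k →+* TruncatedWittVector p n k), ← map_pow]
      refine TruncatedWittVector.ext fun i => ?_
      rw [WittVector.coeff_truncate, TruncatedWittVector.coeff_zero, ← one_mul ((p : WittVector p k) ^ n)]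
      exact WittVector.mul_pow_charP_coeff_zero _ i.2
    rw [← map_natCast (algebraMap (TruncatedWittVector p n k) A), ← map_pow, h, map_zero]
  intro a
  obtain ⟨y, hy⟩ := Groth.Agent.H4NS.WittTheta.exists_digits hF hpn n 0 (zero_add n) a
  rw [pow_zero, one_mul] at hy
  refine ⟨WittVector.truncate n (WittVector.map (Ideal.Quotient.mk _) (WittVector.mk p y)), ?_⟩
  rw [hθ, hy, ← Finset.range_eq_Ico, ← Fin.sum_univ_eq_sum_range (fun j => (p : A) ^ j * y j ^ (p ^ (n - j))) n]
  rfl

end Groth.Agent.S18932
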