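import Groth.Statements.S18938
import Mathlib
import Groth.Agent.SynLift.Adapted
import Groth.Agent.Synt29.RelReg
import Groth.Agent.Synt29.AwayGCI


set_option autoImplicit false
universe u
open Synt

namespace Groth.Agent.S18938

open RingTheory.Sequence Groth.Agent.Synt29

theorem avoid_coset {P : Type u} [CommRing P] (f : P) (J : Ideal P) (s : Finset (Ideal P))
    (hp : ∀ Q ∈ s, Q.IsPrime) (hne : ∀ Q ∈ s, ¬ (Ideal.span {f} ⊔ J ≤ Q)) :
    ∃ a ∈ J, ∀ Q ∈ s, f + a ∉ Q := by
  classical
  induction s using Finset.strongInduction with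
  | H s ih =>
    rcases s.eq_empty_or_nonempty with rfl | hs
    · exact ⟨0, zero_mem J, by simp⟩
    obtain ⟨Q, hQ⟩ := s.exists_minimal hs
    have hQs : Q ∈ s := hQ.1
    obtain ⟨a, haJ, ha⟩ := ih (s.erase Q) (Finset.erase_ssubset hQs)
      (fun Q' h => hp Q' (Finset.mem_of_mem_erase h)) (fun Q' h => hne Q' (Finset.mem_of_mem_erase h))
    by_cases hfa : f + a ∈ Q
    · haveI := hp Q hQs
      have hJ : ¬ J ≤ Q := fun hle => hne Q hQs (sup_le ((Ideal.span_singleton_le_iff_mem _).2 (by
        simpa using sub_mem hfa (hle haJ))) hle)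
      obtain ⟨b₀, hb₀, hb₀Q⟩ := SetLike.not_le_iff_exists.1 hJ
      have hsep : ∀ Q' ∈ s.erase Q, ∃ c ∈ Q', c ∉ Q := fun Q' h => SetLike.not_le_iff_exists.1 fun hle =>
        (Finset.ne_of_mem_erase h) (le_antisymm hle (hQ.2 (Finset.mem_of_mem_erase h) hle))
      choose c hc hcQ using hsep
      let b := b₀ * ∏ Q' ∈ (s.erase Q).attach, c Q'.1 Q'.2
      have hbQ : b ∉ Q := fun hb => by
        rcases Ideal.IsPrime.mem_or_mem ‹_› hb with h | h
        · exact hb₀Q h
        · obtain ⟨Q', -, h'⟩ := (Ideal.IsPrime.prod_mem_iff).1 h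
          exact hcQ _ _ h'
      refine ⟨a + b, add_mem haJ (J.mul_mem_right _ hb₀), fun Q' hQ' hm => ?_⟩
      by_cases hQQ : Q' = Q
      · subst hQQ
        exact hbQ (by simpa using sub_mem hm hfa)
      · have hmem : Q' ∈ s.erase Q := Finset.mem_erase.2 ⟨hQQ, hQ'⟩
        have hbQ' : b ∈ Q' := Ideal.mem_of_dvd _ ((Finset.dvd_prod_of_mem (fun Q'' : {x // x ∈ s.erase Q} => c Q''.1 Q''.2)
          (Finset.mem_attach _ ⟨Q', hmem⟩)).trans (dvd_mul_left _ _)) (hc Q' hmem)
        refine ha Q' hmem ?_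
        have := sub_mem hm hbQ'
        simpa [← add_assoc] using this
    · refine ⟨a, haJ, fun Q' hQ' => ?_⟩
      by_cases hQQ : Q' = Q
      · subst hQQ; exact hfa
      · exact ha Q' (Finset.mem_erase.2 ⟨hQQ, hQ'⟩)

theorem ofList_mid {P : Type u} [CommRing P] (gs r : List P) (f : P) :
    Ideal.ofList (gs ++ f :: r) = Ideal.span {f} ⊔ Ideal.ofList (gs ++ r) := by
  simp only [Ideal.ofList_append, Ideal.ofList_cons]
  rw [sup_left_comm]

theorem ofList_change {P : Type u} [CommRing P] (gs r : List P) (f g : P)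
    (h : g - f ∈ Ideal.ofList (gs ++ r)) : Ideal.ofList (gs ++ g :: r) = Ideal.ofList (gs ++ f :: r) := by
  rw [ofList_mid, ofList_mid]
  refine le_antisymm (sup_le ((Ideal.span_singleton_le_iff_mem _).2 ?_) le_sup_right)
    (sup_le ((Ideal.span_singleton_le_iff_mem _).2 ?_) le_sup_right)
  · rw [← add_sub_cancel f g]
    exact add_mem (Ideal.mem_sup_left (Ideal.mem_span_singleton_self _)) (Ideal.mem_sup_right h)
  · rw [← sub_sub_cancel g f]
    exact sub_mem (Ideal.mem_sup_left (Ideal.mem_span_singleton_self _)) (Ideal.mem_sup_right h)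

theorem regular_change {R : Type u} [CommRing R] [IsLocalRing R] [IsNoetherianRing R] (gs r : List R) (f g : R)
    (hm : ∀ x ∈ gs ++ f :: r, x ∈ IsLocalRing.maximalIdeal R) (h : IsWeaklyRegular R (gs ++ f :: r))
    (hfg : g - f ∈ Ideal.ofList (gs ++ r)) : IsWeaklyRegular R (gs ++ g :: r) := by
  have hp : ∀ a : R, List.Perm (gs ++ a :: r) ((gs ++ r) ++ [a]) := fun a => by
    rw [List.append_assoc]
    exact List.Perm.append_left gs (List.perm_append_singleton a r).symm
  have h1 := IsLocalRing.isWeaklyRegular_of_perm_of_subset_maximalIdeal h (hp f) hm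
  rw [isWeaklyRegular_append_iff, isWeaklyRegular_singleton_iff] at h1
  have h2 : IsWeaklyRegular R ((gs ++ r) ++ [g]) := by
    rw [isWeaklyRegular_append_iff, isWeaklyRegular_singleton_iff]
    refine ⟨h1.1, IsSMulRegular.of_right_eq_zero_of_smul fun x hx => h1.2.right_eq_zero_of_smul ?_⟩
    obtain ⟨y, rfl⟩ := Submodule.Quotient.mk_surjective _ x
    rw [← Submodule.Quotient.mk_smul, Submodule.Quotient.mk_eq_zero] at hx ⊢
    have : f • y = g • y - (g - f) • y := by rw [sub_smul]; abel
    rw [this]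
    exact sub_mem hx (Submodule.smul_mem_smul hfg Submodule.mem_top)
  refine IsLocalRing.isWeaklyRegular_of_perm_of_subset_maximalIdeal h2 (hp g).symm fun x hx => ?_
  have hle : Ideal.ofList (gs ++ r) ≤ IsLocalRing.maximalIdeal R := Ideal.span_le.2 fun y hy =>
    hm y (by simp only [Set.mem_setOf_eq, List.mem_append] at hy; rcases hy with hy | hy <;> simp [hy])
  rcases List.mem_append.1 hx with hx | hx
  · exact hle (Ideal.subset_span hx)
  · rw [List.mem_singleton] at hx
    subst hx
    rw [← add_sub_cancel f x]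
    exact add_mem (hm f (by simp)) (hle hfg)

theorem exists_regular {P : Type u} [CommRing P] [IsNoetherianRing P] :
    ∀ (r gs : List P), IsWeaklyRegular P gs →
      (∀ (Q : Ideal P) [Q.IsPrime], (∀ x ∈ gs ++ r, x ∈ Q) →
        IsWeaklyRegular (Localization.AtPrime Q) ((gs ++ r).map (algebraMap P (Localization.AtPrime Q)))) →
      ∃ l : List P, IsWeaklyRegular P l ∧ Ideal.ofList l = Ideal.ofList (gs ++ r) := by
  intro r
  induction r with
  | nil => exact fun gs h _ => ⟨gs, h, by rw [List.append_nil]⟩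
  | cons f r ih =>
    intro gs hgs hloc
    let M := P ⧸ (Ideal.ofList gs • ⊤ : Submodule P P)
    let K := Ideal.ofList (gs ++ f :: r)
    have hfin : (associatedPrimes P M).Finite := associatedPrimes.finite P M
    have hnot : ∀ Q ∈ hfin.toFinset, ¬ (Ideal.span {f} ⊔ Ideal.ofList (gs ++ r) ≤ Q) := by
      intro Q hQ hle
      obtain ⟨hQp, x, hx⟩ := isAssociatedPrime_iff.1 (hfin.mem_toFinset.1 hQ)
      rw [← ofList_mid] at hle
      have hfQ : f ∈ Q := hle (Ideal.subset_span (show f ∈ gs ++ f :: r by simp))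
      have hw := hloc Q fun y hy => hle (Ideal.subset_span hy)
      obtain ⟨y, rfl⟩ := Submodule.Quotient.mk_surjective _ x
      rw [List.map_append, List.map_cons, isWeaklyRegular_append_iff, isWeaklyRegular_cons_iff] at hw
      have hfy : f * y ∈ Ideal.ofList gs := by
        have : f ∈ (⊥ : Submodule P M).colon {Submodule.Quotient.mk y} := hx ▸ hfQ
        rw [Submodule.mem_colon_singleton, Submodule.mem_bot, ← Submodule.Quotient.mk_smul,
          Submodule.Quotient.mk_eq_zero, smul_eq_mul, smul_eq_mul, Ideal.mul_top] at this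
        exact this
      let Pq := Localization.AtPrime Q
      have hI : (Ideal.ofList (gs.map (algebraMap P Pq)) • ⊤ : Submodule Pq Pq) =
          (Ideal.ofList gs).map (algebraMap P Pq) := by rw [smul_eq_mul, Ideal.mul_top, Ideal.map_ofList]
      have h0 := hw.2.1.right_eq_zero_of_smul (x := Submodule.Quotient.mk (algebraMap P Pq y)) (by
        rw [← Submodule.Quotient.mk_smul, Submodule.Quotient.mk_eq_zero, hI, smul_eq_mul, ← map_mul]
        exact Ideal.mem_map_of_mem _ hfy)
      rw [Submodule.Quotient.mk_eq_zero, hI, IsLocalization.algebraMap_mem_map_algebraMap_iff Q.primeCompl] at h0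
      obtain ⟨t, ht, hty⟩ := h0
      refine ht ?_
      have : t ∈ (⊥ : Submodule P M).colon {Submodule.Quotient.mk y} := by
        rw [Submodule.mem_colon_singleton, Submodule.mem_bot, ← Submodule.Quotient.mk_smul,
          Submodule.Quotient.mk_eq_zero, smul_eq_mul, smul_eq_mul, Ideal.mul_top]
        exact hty
      exact hx ▸ this
    obtain ⟨a, haJ, ha⟩ := avoid_coset f (Ideal.ofList (gs ++ r)) hfin.toFinset
      (fun Q hQ => (hfin.mem_toFinset.1 hQ).isPrime) hnot
    have hgreg : IsSMulRegular M (f + a) := IsSMulRegular.of_right_eq_zero_of_smul fun x hx => by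
      by_contra hx0
      obtain ⟨Q, hQ, hle⟩ := exists_le_isAssociatedPrime_of_isNoetherianRing P x hx0
      exact ha Q (hfin.mem_toFinset.2 hQ) (hle (by rw [Submodule.mem_colon_singleton, Submodule.mem_bot]; exact hx))
    have hK := ofList_change gs r f (f + a) (by rwa [add_sub_cancel_left])
    have hassoc : (gs ++ [f + a]) ++ r = gs ++ (f + a) :: r := by simp
    obtain ⟨l, hl, hlK⟩ := ih (gs ++ [f + a])
      (by rw [isWeaklyRegular_append_iff, isWeaklyRegular_singleton_iff]; exact ⟨hgs, hgreg⟩)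
      (fun Q _ hQ => by
        rw [hassoc] at hQ ⊢
        have hQ' : Ideal.ofList (gs ++ f :: r) ≤ Q := hK ▸ Ideal.span_le.2 hQ
        rw [List.map_append, List.map_cons]
        refine regular_change _ _ (algebraMap P _ f) _ (fun x hx => ?_) ?_ ?_
        · rw [← List.map_cons, ← List.map_append, List.mem_map] at hx
          obtain ⟨y, hy, rfl⟩ := hx
          exact (IsLocalization.AtPrime.to_map_mem_maximal_iff _ Q y).2 (hQ' (Ideal.subset_span hy))
        · rw [← List.map_cons, ← List.map_append]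
          exact hloc Q fun y hy => hQ' (Ideal.subset_span hy)
        · rw [← map_sub, ← List.map_append, ← Ideal.map_ofList, add_sub_cancel_left]
          exact Ideal.mem_map_of_mem _ haJ)
    exact ⟨l, hl, by rw [hlK, hassoc, hK]⟩

theorem away_equiv {A S B : Type u} [CommRing A] [CommRing S] [CommRing B] [Algebra A S] [Algebra A B]
    (π : S →ₐ[A] B) (hπ : Function.Surjective π) (g : S) (hker : ∀ a, π a = 0 → g * a = 0) :
    Nonempty (Localization.Away g ≃ₐ[A] Localization.Away (π g)) := by
  let Bg := Localization.Away (π g)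
  have hu : IsUnit ((IsScalarTower.toAlgHom A B Bg).comp π g) := IsLocalization.Away.algebraMap_isUnit (π g)
  let T := Localization.Away g
  let ρ : T →ₐ[A] Bg := IsLocalization.Away.liftAlgHom g (f := (IsScalarTower.toAlgHom A B Bg).comp π) hu
  have hρ0 : ∀ y, ρ (algebraMap S T y) = algebraMap B Bg (π y) := fun y => IsLocalization.Away.lift_eq g hu y
  refine ⟨AlgEquiv.ofBijective ρ ⟨(injective_iff_map_eq_zero ρ).2 fun x hx => ?_, fun y => ?_⟩⟩
  · obtain ⟨N, a, ha⟩ := IsLocalization.Away.surj g x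
    have h0 : algebraMap B Bg (π a) = 0 := by rw [← hρ0, ← ha, map_mul, hx, zero_mul]
    obtain ⟨⟨_, m, rfl⟩, hm⟩ := (IsLocalization.map_eq_zero_iff (Submonoid.powers (π g)) Bg _).1 h0
    have h1 : g * (g ^ m * a) = 0 := hker _ (by simpa using hm)
    have h2 : algebraMap S T a = 0 := by
      have h3 := congrArg (algebraMap S T) h1
      rw [← mul_assoc, ← pow_succ', map_mul, map_zero] at h3
      rw [map_pow] at h3
      exact ((IsLocalization.Away.algebraMap_isUnit g).pow _).mul_right_eq_zero.1 h3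
    rw [h2] at ha
    exact ((IsLocalization.Away.algebraMap_isUnit g).pow N).mul_left_eq_zero.1 ha
  · obtain ⟨N, b, hb⟩ := IsLocalization.Away.surj (π g) y
    obtain ⟨a, rfl⟩ := hπ b
    obtain ⟨w, hw⟩ := (IsLocalization.Away.algebraMap_isUnit (S := T) g).pow N
    refine ⟨algebraMap S T a * (w⁻¹ : Tˣ), ((IsLocalization.Away.algebraMap_isUnit (π g)).pow N).mul_left_injective ?_⟩
    show ρ _ * algebraMap B Bg (π g) ^ N = y * algebraMap B Bg (π g) ^ N
    rw [hb, ← hρ0 g, ← map_pow, ← hw, ← map_mul, Units.inv_mul_cancel_right, hρ0]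

end Groth.Agent.S18938

namespace Groth.Agent.S18938

/-- Let A be a Noetherian commutative ring and B a syntomic A-algebra. Then Spec B is covered by basic
opens D(g) with B[1/g] isomorphic, as an A-algebra, to A[T_1, …, T_n]/(P_1, …, P_d) for a regular
sequence P_1, …, P_d (successive non-zero-divisors with nonzero last quotient) in the polynomial
ring A[T_1, …, T_n]. (The source states this for a syntomic scheme over Spec A, syntomic meaning
flat, locally of finite presentation and locally a Koszul-regular immersion into a smooth scheme;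
here syntomic is the ring-map notion with local complete intersection fibres, which agrees with it.) -/
theorem result
    (A : Type u) [CommRing A] [IsNoetherianRing A] (B : Type u) [CommRing B] [Algebra A B]
    (h : Synt.IsSyntomic A B) (q : PrimeSpectrum B) :
    ∃ g : B, g ∉ q.asIdeal ∧
      ∃ (n d : ℕ) (P : Fin d → MvPolynomial (Fin n) A),
        RingTheory.Sequence.IsRegular (MvPolynomial (Fin n) A) (List.ofFn P) ∧
        Nonempty (Localization.Away g ≃ₐ[A] (MvPolynomial (Fin n) A ⧸ Ideal.ofList (List.ofFn P))) := by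
  haveI := h.2.1
  obtain ⟨n, φ, hφ⟩ := Algebra.FiniteType.iff_quotient_mvPolynomial''.1
    (inferInstance : Algebra.FiniteType A B)
  obtain ⟨c, hcn, F, H, hH, hF, hHJ, hG⟩ := Groth.Agent.SynLift.exists_adapted h φ hφ q
  have hF' : Ideal.span (Set.range F) ≤ RingHom.ker φ.toRingHom := Ideal.span_le.2 (by rintro _ ⟨i, rfl⟩; exact hF i)
  let π : Synt.RelGCIRing A n c F →ₐ[A] B := Ideal.Quotient.liftₐ _ φ (fun x hx => hF' hx)
  obtain ⟨e₁⟩ := away_equiv π (fun y => by obtain ⟨x, rfl⟩ := hφ y; exact ⟨Ideal.Quotient.mk _ x, rfl⟩)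
    (Ideal.Quotient.mk _ H) (fun a ha => by
      obtain ⟨x, rfl⟩ := Ideal.Quotient.mk_surjective a
      rw [← map_mul, Ideal.Quotient.eq_zero_iff_mem]
      exact hHJ x ha)
  obtain ⟨e₂⟩ := Groth.Agent.Synt29.awayEquiv F H
  let G := Groth.Agent.Synt29.snocPoly F H
  obtain ⟨l, hl, hlK⟩ := exists_regular (List.ofFn G) [] (RingTheory.Sequence.IsWeaklyRegular.nil _ _) (fun Q _ hQ =>
    Groth.Agent.Synt29.weaklyRegular_relGCI hG Q fun i => hQ _ (List.mem_ofFn.2 ⟨i, rfl⟩))
  rw [List.nil_append] at hlK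
  have hofn : List.ofFn (fun i : Fin l.length => l[i]) = l := List.ofFn_getElem
  have hspan : Ideal.ofList l = Ideal.span (Set.range G) := by
    rw [hlK, Ideal.ofList]
    congr 1
    ext x
    simp only [Set.mem_setOf_eq, List.mem_ofFn, Set.mem_range]
  let e : Localization.Away (φ H) ≃ₐ[A] (MvPolynomial (Fin (n + 1)) A ⧸ Ideal.span (Set.range G)) :=
    (show Localization.Away (π (Ideal.Quotient.mk _ H)) ≃ₐ[A] _ from e₁.symm).trans e₂
  haveI hnt : Nontrivial (Localization.Away (φ H)) := by
    rcases subsingleton_or_nontrivial (Localization.Away (φ H)) with hs | hs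
    · obtain ⟨⟨_, m, rfl⟩, hm⟩ := (IsLocalization.map_eq_zero_iff (Submonoid.powers (φ H))
        (Localization.Away (φ H)) 1).1 (Subsingleton.elim _ _)
      exact absurd (q.isPrime.mem_of_pow_mem m (by simp at hm; rw [hm]; exact zero_mem _)) hH
    · exact hs
  refine ⟨φ H, hH, n + 1, l.length, fun i => l[i], ?_, ⟨e.trans (Ideal.quotientEquivAlgOfEq A (by rw [hofn, hspan]))⟩⟩
  rw [hofn]
  refine ⟨hl, fun htop => ?_⟩
  rw [smul_eq_mul, Ideal.mul_top, hspan] at htop
  haveI := e.injective.nontrivial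
  exact (Ideal.Quotient.nontrivial_iff.1 (inferInstance : Nontrivial (MvPolynomial (Fin (n + 1)) A ⧸ Ideal.span (Set.range G)))) htop.symm

end Groth.Agent.S18938
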