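import Groth.Statements.S18942
import Mathlib

set_option autoImplicit false
universe u
open DPow

namespace Groth.Agent.S18942

/-- Let p be a prime, k a perfect field of characteristic p, n a natural number and x an element of
W_n(k), written here as the truncation of a Witt vector x over k. For any Witt vectors y_0, …,
y_{n−1} over k lifting the components of x under the map y ↦ (y_0)^(p^n) (that is, (y_i)_0^(p^n) =
x_i), one has x = Σ_{i<n} p^i y_i^(p^(n−i)) in W_n(k). -/
theorem result (p : ℕ) [Fact p.Prime]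
    (k : Type u) [Field k] [CharP k p] [PerfectRing k p] (n : ℕ) (x : WittVector p k)
    (y : Fin n → WittVector p k) (hy : ∀ i : Fin n, ((y i).coeff 0) ^ (p ^ n) = x.coeff i) :
    WittVector.truncate n x =
      WittVector.truncate n (∑ i : Fin n, (p : WittVector p k) ^ (i : ℕ) * (y i) ^ (p ^ (n - i))) := by
  classical
  suffices (p : WittVector p k) ^ n ∣ x - ∑ i : Fin n, (p : WittVector p k) ^ (i : ℕ) * (y i) ^ (p ^ (n - i)) by
    rw [← sub_eq_zero, ← map_sub, ← RingHom.mem_ker, WittVector.mem_ker_truncate]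
    rw [← Ideal.mem_span_singleton] at this
    exact (WittVector.mem_span_p_pow_iff_le_coeff_eq_zero _ n).mp this
  rcases n with _ | m
  · simp
  have h1 := WittVector.dvd_sub_sum_teichmuller_iterateFrobeniusEquiv_coeff x m
  have hroot : ∀ (i : ℕ) (z : k), ((frobeniusEquiv k p).symm ^ i) (z ^ p ^ i) = z := by
    intro i
    induction i with
    | zero => simp
    | succ i ih =>
      intro z
      rw [pow_succ (frobeniusEquiv k p).symm i, RingAut.mul_apply, pow_succ p i, pow_mul,
        show (frobeniusEquiv k p).symm ((z ^ p ^ i) ^ p) = z ^ p ^ i from by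
          rw [← frobenius_def, ← frobeniusEquiv_apply, RingEquiv.symm_apply_apply]]
      exact ih z
  have h2 : (p : WittVector p k) ^ (m + 1) ∣
      (∑ i ≤ m, (WittVector.teichmuller p (((frobeniusEquiv k p).symm ^ i) (x.coeff i)) * (p : WittVector p k) ^ i)) -
        ∑ i : Fin (m + 1), (p : WittVector p k) ^ (i : ℕ) * (y i) ^ (p ^ (m + 1 - i)) := by
    rw [show Finset.Iic m = Finset.range (m + 1) by ext j; simp [Nat.lt_succ_iff], ← Fin.sum_univ_eq_sum_range,
      ← Finset.sum_sub_distrib]
    refine Finset.dvd_sum fun i _ => ?_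
    have hi : (i : ℕ) ≤ m + 1 := i.2.le
    have hτ : ((frobeniusEquiv k p).symm ^ (i : ℕ)) (x.coeff i) = (y i).coeff 0 ^ p ^ (m + 1 - i) := by
      rw [← hy i, show p ^ (m + 1) = p ^ (m + 1 - i) * p ^ (i : ℕ) by rw [← pow_add, Nat.sub_add_cancel hi], pow_mul]
      exact hroot _ _
    rw [hτ, map_pow, mul_comm, ← mul_sub]
    refine dvd_trans (pow_dvd_pow _ (show m + 1 ≤ (i : ℕ) + (m + 1 - i + 1) by omega)) ?_
    rw [pow_add]
    refine mul_dvd_mul_left _ (dvd_sub_pow_of_dvd_sub ?_ _)
    rw [← Ideal.mem_span_singleton, WittVector.mem_span_p_iff_coeff_zero_eq_zero]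
    show WittVector.constantCoeff (WittVector.teichmuller p ((y i).coeff 0) - y i) = 0
    rw [map_sub, sub_eq_zero]
    exact WittVector.teichmuller_coeff_zero p _
  have := dvd_add h1 h2
  rwa [sub_add_sub_cancel] at this

end Groth.Agent.S18942
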