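import Groth.Statements.S18963
import Groth.Agent.H28.FaceEq
import Groth.Prelude.Def_HMNum
-- import your own Groth.Agent.* helpers here

set_option autoImplicit false
universe u
open CategoryTheory MonoidalCategory CartesianMonoidalCategory MonObj AlgebraicGeometry Opposite
open Magnet

namespace Groth.Agent.S18963

/-- For the multiplicative monoid of the affine line with unit group G_m (the published statement: any
Kempf monoid M with unit group G), let k be a field, X a k-scheme with an action a of the
multiplicative group G_m = D(ℤ) over k, and Y a k-scheme. Let γ₁ and γ₂ be two k-morphisms A^1 ×_k Y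
→ X, where A^1 is the diagonalizable monoid scheme of the non-negative integers (the affine line
under multiplication), that are G_m-equivariant for G_m scaling the first factor — two Y-valued
points of the Białynicki-Birula functor D_X. Suppose γ₁ and γ₂ agree at every T-valued point (m, t)
of A^1 ×_k Y whose first coordinate m is nilpotent in the monoid A^1(T), i.e. some power of m is
absorbing (equal to its product with any element); equivalently γ₁ and γ₂ agree on all infinitesimal
neighbourhoods of {0} ×_k Y. Then γ₁ = γ₂; that is, the canonical map from D_X to the formal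
Białynicki-Birula functor is injective on Y-points. -/
theorem result (k : Type u) [Field k]
    (X Y : Over (Spec (CommRingCat.of k))) (a : AlgGrp.Action (Red.DS (Spec (CommRingCat.of k)) ℤ) X)
    (γ₁ γ₂ : (Magnet.attr (Magnet.MonAct.ofAction a) (AddSubmonoid.multiples (1 : ℤ))).obj (op Y))
    (h : ∀ (T : Over (Spec (CommRingCat.of k))) (m : T ⟶ Magnet.AMonS (Spec (CommRingCat.of k)) (AddSubmonoid.multiples (1 : ℤ))) (t : T ⟶ Y),
      (∃ n : ℕ, ∀ m' : T ⟶ Magnet.AMonS (Spec (CommRingCat.of k)) (AddSubmonoid.multiples (1 : ℤ)), m ^ (n + 1) * m' = m ^ (n + 1)) →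
      CartesianMonoidalCategory.lift m t ≫ γ₁.1 = CartesianMonoidalCategory.lift m t ≫ γ₂.1) :
    γ₁ = γ₂ := by
  refine Subtype.ext (Over.OverMorphism.ext ?_)
  let N := AddSubmonoid.multiples (1 : ℤ)
  let S := Spec (CommRingCat.of k)
  refine (Scheme.Pullback.openCoverOfRight Y.left.affineCover (Magnet.AMonS S N).hom Y.hom).hom_ext _ _
    fun i => ?_
  let T' : Over S := Over.mk (Y.left.affineCover.f i ≫ Y.hom)
  haveI : IsAffine T'.left := AlgebraicGeometry.Scheme.isAffine_affineCover Y.left i
  let u : T' ⟶ Y := Over.homMk (Y.left.affineCover.f i)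
  let F := (Magnet.attr (Magnet.MonAct.ofAction a) N).map u.op γ₁
  let G := (Magnet.attr (Magnet.MonAct.ofAction a) N).map u.op γ₂
  have hFG : F = G := by
    refine Groth.Agent.H28.FaceEq.eq_of_jk (Q := (⊥ : AddSubmonoid ℤ)) HMNum.isFace_bot ⟨{1}, by
      simp [N, AddSubmonoid.multiples_eq_closure]⟩ F G fun j hj => ?_
    obtain ⟨j, rfl⟩ := Nat.exists_eq_add_of_le' hj
    let w := Groth.Agent.H28.FaceThick.jk N (⊥ : AddSubmonoid ℤ) T' (j + 1)
    show w ≫ (Magnet.AMonS S N ◁ u) ≫ γ₁.1 = w ≫ (Magnet.AMonS S N ◁ u) ≫ γ₂.1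
    have hw : w ≫ (Magnet.AMonS S N ◁ u) = lift (w ≫ fst _ T') (w ≫ snd _ T' ≫ u) := by
      apply CartesianMonoidalCategory.hom_ext <;> simp
    rw [← Category.assoc, ← Category.assoc, hw]
    refine h _ (w ≫ fst _ T') (w ≫ snd _ T' ≫ u) ⟨j, fun m' => ?_⟩
    refine Groth.Agent.H23.CharPts.chi_injective (MonoidHom.ext fun n => ?_)
    obtain ⟨⟨_, l, rfl⟩, rfl⟩ := Multiplicative.ofAdd.surjective n
    rw [Groth.Agent.H23.CharPts.chi_mul]
    rcases Nat.eq_zero_or_pos l with rfl | hl
    · have h1 : Multiplicative.ofAdd (⟨(fun i : ℕ => i • (1 : ℤ)) 0, ⟨0, rfl⟩⟩ : N) = 1 :=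
        congrArg Multiplicative.ofAdd (Subtype.ext (by simp))
      rw [h1, map_one, map_one, _root_.mul_one]
    · have hpow : ∀ (i : ℕ) (q : Multiplicative N), Groth.Agent.H23.CharPts.chi ((w ≫ fst _ T') ^ (i + 1)) q =
          Groth.Agent.H23.CharPts.chi (w ≫ fst _ T') q ^ (i + 1) := by
        intro i q
        induction i with
        | zero => simp
        | succ i ih => rw [pow_succ _ (i + 1), Groth.Agent.H23.CharPts.chi_mul, ih, ← pow_succ]
      rw [hpow]
      have hP : ∀ i : ℕ, ((i * l : ℕ) : ℤ) ∈ Groth.Agent.H28.FacePow.Pk N (⊥ : AddSubmonoid ℤ) i := by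
        intro i
        induction i with
        | zero => exact ⟨0, by simp⟩
        | succ i ih =>
          refine ⟨(l : ℤ), ⟨l, by simp⟩, ?_, _, ih, by push_cast; ring⟩
          rw [AddSubmonoid.mem_bot]
          omega
      rw [← map_pow, Groth.Agent.H28.FaceThick.chi_jk N (⊥ : AddSubmonoid ℤ) T' (j + 1) (by
        convert hP (j + 1) using 1
        simp), MulZeroClass.zero_mul]
  have hu : (Magnet.AMonS S N ◁ u).left =
      (Scheme.Pullback.openCoverOfRight Y.left.affineCover (Magnet.AMonS S N).hom Y.hom).f i := by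
    apply Limits.pullback.hom_ext
    · erw [Over.whiskerLeft_left_fst u]
    · erw [Over.whiskerLeft_left_snd u]
  rw [← hu]
  exact congrArg (fun q => q.1.left) hFG

end Groth.Agent.S18963
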