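import Groth.Statements.S18974
import Mathlib.RingTheory.Derivation.Basic
import Mathlib.Algebra.Polynomial.Derivative
import Mathlib.Algebra.Polynomial.AlgebraMap
import Mathlib.Algebra.Polynomial.Inductions
import Mathlib.Algebra.Module.Rat
import Mathlib.Tactic.Ring
import Mathlib.Tactic.FieldSimp
import Mathlib.RingTheory.Ideal.Quotient.Operations

set_option autoImplicit false
universe u
open CAlg

namespace Groth.Agent.S18974

section
variable {A : Type u} [CommRing A] [Algebra ℚ A] (D : Derivation ℚ A A)

/-- The constants of a derivation. -/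
def consts : Subalgebra ℚ A where
  carrier := {x | D x = 0}
  mul_mem' := fun {x y} (hx : D x = 0) (hy : D y = 0) => show D (x * y) = 0 by simp [hx, hy]
  add_mem' := fun {x y} (hx : D x = 0) (hy : D y = 0) => show D (x + y) = 0 by simp [hx, hy]
  algebraMap_mem' := fun r => D.map_algebraMap r

theorem D_const (c : consts D) : D (c : A) = 0 := c.2

theorem D_aeval {a : A} (ha : D a = 1) (P : Polynomial (consts D)) :
    D (Polynomial.aeval a P) = Polynomial.aeval a (Polynomial.derivative P) := by
  induction P using Polynomial.induction_on' with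
  | add p q hp hq => simp [hp, hq]
  | monomial n c =>
    simp only [Polynomial.derivative_monomial, Polynomial.aeval_monomial, Derivation.leibniz, Derivation.leibniz_pow,
      ha, map_mul, map_natCast, smul_eq_mul, Subalgebra.algebraMap_eq, RingHom.coe_coe, Subalgebra.coe_val,
      D_const, mul_zero, add_zero, nsmul_eq_mul, mul_one]
    simp [mul_assoc, D_const D c]

theorem pow_apply_succ (n : ℕ) (x : A) :
    ((D : A →ₗ[ℚ] A) ^ (n + 1)) x = D (((D : A →ₗ[ℚ] A) ^ n) x) := by
  rw [pow_succ', Module.End.mul_apply]; rfl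

theorem D_pow_aeval {a : A} (ha : D a = 1) (P : Polynomial (consts D)) (n : ℕ) :
    ((D : A →ₗ[ℚ] A) ^ n) (Polynomial.aeval a P) = Polynomial.aeval a (Polynomial.derivative^[n] P) := by
  induction n with
  | zero => simp
  | succ n ih => rw [pow_apply_succ, ih, D_aeval D ha, Function.iterate_succ_apply']

end

/-- Let A be a commutative algebra over the rationals, D a locally nilpotent derivation of A and a an
element with D a = 1; write A' for the quotient of A by the ideal generated by a. Then there is a
ring isomorphism from A onto the polynomial ring A'[Y] which sends every x to the (finite) sum over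
n of (1/n!) (class of D^n x) Y^n; its inverse sends Y to a and the constant polynomial on the class
of x to the sum over n of ((-1)^n/n!) (D^n x) a^n, and under it D corresponds to the derivative
d/dY. (The source says only that A is a ring, in a setting over a field of characteristic zero; the
rational coefficients 1/n! require an algebra over the rationals, which is the hypothesis taken
here. Both sums are written over any range beyond which the iterates of D vanish at x.) -/
theorem result
    (A : Type u) [CommRing A] [Algebra ℚ A] (D : Derivation ℚ A A)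
    (hnil : ∀ x : A, ∃ n : ℕ, ((D : A →ₗ[ℚ] A) ^ n) x = 0) (a : A) (ha : D a = 1) :
    ∃ χ : A ≃+* Polynomial (A ⧸ Ideal.span ({a} : Set A)),
      (∀ (x : A) (N : ℕ), ((D : A →ₗ[ℚ] A) ^ N) x = 0 →
        χ x = ∑ n ∈ Finset.range N,
          ((n.factorial : ℚ)⁻¹ • Polynomial.C (Ideal.Quotient.mk (Ideal.span ({a} : Set A)) (((D : A →ₗ[ℚ] A) ^ n) x))) *
            Polynomial.X ^ n) ∧
      χ.symm Polynomial.X = a ∧
      (∀ (x : A) (N : ℕ), ((D : A →ₗ[ℚ] A) ^ N) x = 0 →
        χ.symm (Polynomial.C (Ideal.Quotient.mk (Ideal.span ({a} : Set A)) x)) =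
          ∑ n ∈ Finset.range N, (((-1 : ℚ) ^ n * (n.factorial : ℚ)⁻¹) • ((((D : A →ₗ[ℚ] A) ^ n) x) * a ^ n))) ∧
      ∀ p : Polynomial (A ⧸ Ideal.span ({a} : Set A)), χ (D (χ.symm p)) = Polynomial.derivative p := by
  classical
  let K := consts D
  let χ₀ : Polynomial K →ₐ[K] A := Polynomial.aeval a
  have hinj : Function.Injective χ₀ := by
    rw [injective_iff_map_eq_zero]
    suffices h : ∀ n (P : Polynomial K), P.natDegree ≤ n → χ₀ P = 0 → P = 0 from fun P => h _ P le_rfl
    intro n
    induction n with
    | zero =>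
      intro P hP h
      rw [Polynomial.eq_C_of_natDegree_le_zero hP] at h ⊢
      simp only [χ₀, Polynomial.aeval_C] at h
      rw [show P.coeff 0 = 0 from Subtype.ext h, map_zero]
    | succ n ih =>
      intro P hP h
      have h' : Polynomial.derivative P = 0 := ih _
        ((Polynomial.natDegree_derivative_le P).trans (by omega)) (by rw [← D_aeval D ha, h, map_zero])
      haveI : IsAddTorsionFree (K : Type u) := IsAddTorsionFree.of_module_rat _
      rw [Polynomial.eq_C_of_derivative_eq_zero h'] at h ⊢
      simp only [χ₀, Polynomial.aeval_C] at h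
      rw [show P.coeff 0 = 0 from Subtype.ext h, map_zero]
  have hanti : ∀ P : Polynomial K, ∃ Q : Polynomial K, Polynomial.derivative Q = P := fun P => by
    induction P using Polynomial.induction_on' with
    | add p q hp hq => obtain ⟨p', rfl⟩ := hp; obtain ⟨q', rfl⟩ := hq; exact ⟨p' + q', map_add _ _ _⟩
    | monomial n c =>
      refine ⟨Polynomial.monomial (n + 1) (((n + 1 : ℕ) : ℚ)⁻¹ • c), ?_⟩
      rw [Polynomial.derivative_monomial, Nat.add_sub_cancel, mul_comm, ← nsmul_eq_mul,
        ← Nat.cast_smul_eq_nsmul ℚ, smul_smul, mul_inv_cancel₀ (by positivity), one_smul]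
  have hsurj : Function.Surjective χ₀ := by
    suffices h : ∀ n x, ((D : A →ₗ[ℚ] A) ^ n) x = 0 → ∃ P, χ₀ P = x from fun x => h _ x (hnil x).choose_spec
    intro n
    induction n with
    | zero => exact fun x hx => ⟨0, by rw [map_zero]; exact (show x = 0 from hx).symm⟩
    | succ n ih =>
      intro x hx
      obtain ⟨P, hP⟩ := ih (D x) (by rw [pow_succ, Module.End.mul_apply] at hx; exact hx)
      obtain ⟨Q, hQ⟩ := hanti P
      have hc : D (x - χ₀ Q) = 0 := by rw [map_sub, D_aeval D ha, hQ, ← hP, sub_self]
      refine ⟨Q + Polynomial.C (⟨_, hc⟩ : K), ?_⟩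
      simp [χ₀]
  let q := Ideal.Quotient.mk (Ideal.span ({a} : Set A))
  have hqa : q a = 0 := Ideal.Quotient.eq_zero_iff_mem.2 (Ideal.mem_span_singleton_self a)
  have hqP : ∀ P : Polynomial K, q (χ₀ P) = q (P.coeff 0 : A) := fun P => by
    conv_lhs => rw [← Polynomial.X_mul_divX_add P]
    simp only [χ₀, map_add, map_mul, Polynomial.aeval_X, Polynomial.aeval_C, hqa, zero_mul, zero_add]
    rfl
  let ρ : K →+* A ⧸ Ideal.span ({a} : Set A) := q.comp K.val.toRingHom
  have hρinj : Function.Injective ρ := by
    rw [injective_iff_map_eq_zero]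
    intro c hc
    obtain ⟨y, hy⟩ := Ideal.mem_span_singleton'.1 (Ideal.Quotient.eq_zero_iff_mem.1 (show q (c : A) = 0 from hc))
    obtain ⟨P, rfl⟩ := hsurj y
    have : Polynomial.C c = P * Polynomial.X := hinj (by simp only [χ₀, map_mul, Polynomial.aeval_C, Polynomial.aeval_X]; exact hy.symm)
    simpa using congrArg (fun p => Polynomial.coeff p 0) this
  have hρ : Function.Bijective ρ := ⟨hρinj, fun y => by
    obtain ⟨x, rfl⟩ := Ideal.Quotient.mk_surjective y
    obtain ⟨P, rfl⟩ := hsurj x
    exact ⟨P.coeff 0, (hqP P).symm⟩⟩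
  let e₀ : Polynomial K ≃+* A := RingEquiv.ofBijective χ₀.toRingHom ⟨hinj, hsurj⟩
  let e₁ : Polynomial K ≃+* Polynomial (A ⧸ Ideal.span ({a} : Set A)) := Polynomial.mapEquiv (RingEquiv.ofBijective ρ hρ)
  let χ := e₀.symm.trans e₁
  have hχ : ∀ P : Polynomial K, χ (χ₀ P) = P.map ρ := fun P => by
    show e₁ (e₀.symm (e₀ P)) = _
    rw [RingEquiv.symm_apply_apply]
    rfl
  have hχs : ∀ P : Polynomial K, χ.symm (P.map ρ) = χ₀ P := fun P => by rw [← hχ, RingEquiv.symm_apply_apply]
  refine ⟨χ, fun x N hN => ?_, ?_, fun x N hN => ?_, fun p => ?_⟩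
  · obtain ⟨P, rfl⟩ := hsurj x
    rw [hχ]
    ext k
    rw [Polynomial.finsetSum_coeff]
    simp only [Polynomial.coeff_map, Polynomial.coeff_mul_X_pow', Polynomial.coeff_smul, Polynomial.coeff_C]
    have hk : q (((D : A →ₗ[ℚ] A) ^ k) (χ₀ P)) = (k.factorial : ℕ) • ρ (P.coeff k) := by
      rw [D_pow_aeval D ha, hqP, ← map_nsmul]
      show q _ = q _
      rw [Polynomial.coeff_iterate_derivative, zero_add, Nat.descFactorial_self]
      rfl
    by_cases hkN : k < N
    · rw [Finset.sum_eq_single k (fun j _ hj => ?_) (fun h => absurd (Finset.mem_range.2 hkN) h)]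
      · rw [if_pos le_rfl, Nat.sub_self, if_pos rfl, hk, ← Nat.cast_smul_eq_nsmul ℚ, smul_smul,
          inv_mul_cancel₀ (by exact_mod_cast k.factorial_ne_zero), one_smul]
      · split_ifs with h1 h2
        · omega
        · simp
        · rfl
    · rw [Finset.sum_eq_zero (fun j hj => ?_)]
      · have h0 : ((D : A →ₗ[ℚ] A) ^ k) (χ₀ P) = 0 := by
          rw [← Nat.sub_add_cancel (not_lt.1 hkN), pow_add, Module.End.mul_apply, hN, map_zero]
        rw [h0, map_zero, ← Nat.cast_smul_eq_nsmul ℚ] at hk
        exact (smul_eq_zero.1 hk.symm).resolve_left (by exact_mod_cast k.factorial_ne_zero)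
      · rw [Finset.mem_range] at hj
        split_ifs with h1 h2
        · omega
        · simp
        · rfl
  · have : (Polynomial.X : Polynomial (A ⧸ Ideal.span ({a} : Set A))) = Polynomial.X.map ρ := (Polynomial.map_X _).symm
    rw [this, hχs]
    exact Polynomial.aeval_X a
  · set S := ∑ n ∈ Finset.range N, (((-1 : ℚ) ^ n * (n.factorial : ℚ)⁻¹) • ((((D : A →ₗ[ℚ] A) ^ n) x) * a ^ n)) with hS
    let T : ℕ → A := fun n => match n with
      | 0 => 0
      | n + 1 => ((-1 : ℚ) ^ n * (n.factorial : ℚ)⁻¹) • ((((D : A →ₗ[ℚ] A) ^ (n + 1)) x) * a ^ n)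
    have hDS : D S = 0 := by
      rw [hS, map_sum, Finset.sum_congr rfl (g := fun n => T (n + 1) - T n) (fun n _ => ?_), Finset.sum_range_sub]
      · cases N with
        | zero => simp
        | succ m => simp [T, hN]
      · cases n with
        | zero => simp [T, pow_apply_succ]
        | succ m =>
          simp only [T]
          rw [Derivation.map_smul, Derivation.leibniz, Derivation.leibniz_pow, ha, ← pow_apply_succ]
          have hf : algebraMap ℚ A (((m + 1).factorial : ℚ))⁻¹ * ((m + 1 : ℕ) : A) =
              algebraMap ℚ A ((m.factorial : ℚ))⁻¹ := by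
            rw [← map_natCast (algebraMap ℚ A), ← map_mul]
            congr 1
            rw [Nat.factorial_succ]
            push_cast
            field_simp
          simp only [Nat.add_sub_cancel, smul_eq_mul, nsmul_eq_mul, mul_one, Algebra.smul_def, map_mul, map_pow, map_neg, map_one]
          rw [← hf, eq_natCast (algebraMap ℕ A)]
          ring
    have hqS : q S = q x := by
      rw [hS, map_sum]
      cases N with
      | zero => simp at hN; simp [hN]
      | succ m =>
        rw [Finset.sum_range_succ']
        simp only [Algebra.smul_def, map_mul, map_pow, hqa, zero_pow (Nat.succ_ne_zero _), mul_zero,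
          Finset.sum_const_zero, zero_add]
        simp
    have h1 : Polynomial.C (q x) = (Polynomial.C (⟨S, hDS⟩ : K)).map ρ := by
      rw [Polynomial.map_C, ← hqS]; rfl
    rw [h1, hχs]
    exact Polynomial.aeval_C a _
  · obtain ⟨P, hP⟩ := (e₁.surjective p)
    obtain rfl : P.map ρ = p := hP
    rw [hχs, D_aeval D ha, Polynomial.derivative_map]
    exact hχ _

end Groth.Agent.S18974
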