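import Groth.Statements.S18983
import Mathlib

set_option autoImplicit false
universe u v w
open CAlg

namespace Groth.Agent.S18983

section
variable {k : Type u} [Field k] {Λ : Type v} [AddCommGroup Λ] [DecidableEq Λ]
  {V : Type w} [AddCommGroup V] [Module k V] [FiniteDimensional k V]
  (𝒱 : Λ → Submodule k V) [DirectSum.Decomposition 𝒱]

noncomputable def proj (μ : Λ) : V →ₗ[k] V :=
  (𝒱 μ).subtype ∘ₗ DirectSum.component k Λ (fun i => 𝒱 i) μ ∘ₗ (DirectSum.decomposeLinearEquiv 𝒱).toLinearMap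

omit [FiniteDimensional k V] in
theorem proj_mem (μ : Λ) (x : V) : proj 𝒱 μ x ∈ 𝒱 μ := Submodule.coe_mem _

omit [FiniteDimensional k V] in
theorem proj_of_mem {μ : Λ} {x : V} (hx : x ∈ 𝒱 μ) : proj 𝒱 μ x = x :=
  DirectSum.decompose_of_mem_same 𝒱 hx

omit [FiniteDimensional k V] in
theorem proj_of_ne {μ ν : Λ} {x : V} (hx : x ∈ 𝒱 μ) (h : μ ≠ ν) : proj 𝒱 ν x = 0 :=
  DirectSum.decompose_of_mem_ne 𝒱 hx h

variable (A : Module.End k V) (χ : Λ) (hhom : ∀ (μ : Λ) (v : V), v ∈ 𝒱 μ → A v ∈ 𝒱 (μ + χ))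
include hhom

omit [FiniteDimensional k V] in
theorem pow_mem (j : ℕ) : ∀ {μ : Λ} {v : V}, v ∈ 𝒱 μ → (A ^ j) v ∈ 𝒱 (μ + j • χ) := by
  induction j with
  | zero => intro μ v hv; simpa using hv
  | succ j ih =>
    intro μ v hv
    have := hhom _ _ (ih hv)
    rw [pow_succ', Module.End.mul_apply, succ_nsmul, ← add_assoc]
    exact this

omit [FiniteDimensional k V] in
theorem proj_pow (j : ℕ) (μ : Λ) (x : V) : proj 𝒱 (μ + j • χ) ((A ^ j) x) = (A ^ j) (proj 𝒱 μ x) := by
  classical
  conv_lhs => rw [← DirectSum.sum_support_decompose 𝒱 x]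
  conv_rhs => rw [← DirectSum.sum_support_decompose 𝒱 x]
  simp only [map_sum]
  refine Finset.sum_congr rfl fun ν _ => ?_
  have hmem : ((DirectSum.decompose 𝒱 x) ν : V) ∈ 𝒱 ν := Submodule.coe_mem _
  by_cases h : ν = μ
  · subst h
    rw [proj_of_mem 𝒱 hmem, proj_of_mem 𝒱 (pow_mem 𝒱 A χ hhom j hmem)]
  · rw [proj_of_ne 𝒱 hmem h, proj_of_ne 𝒱 (pow_mem 𝒱 A χ hhom j hmem) (fun e => h (add_right_cancel e)), map_zero]

theorem main (hA : IsNilpotent A) : ∀ (d : ℕ) (W : Submodule k V), Module.finrank k W ≤ d → (∀ w ∈ W, A w ∈ W) →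
    (∀ w ∈ W, ∀ μ, proj 𝒱 μ w ∈ W) →
    ∃ (ι : Type w) (_ : Fintype ι) (n : ι → ℕ) (e : (Σ i : ι, Fin (n i + 1)) → V),
      (∀ il, ∃ μ, e il ∈ 𝒱 μ) ∧ (∀ il, e il ∈ W) ∧ LinearIndependent k e ∧ W ≤ Submodule.span k (Set.range e) ∧
      (∀ i, A (e ⟨i, 0⟩) = 0) ∧ ∀ i (l : Fin (n i)), A (e ⟨i, l.succ⟩) = e ⟨i, l.castSucc⟩ := by
  classical
  intro d
  induction d with
  | zero =>
    intro W hW _ _
    haveI : IsEmpty (Σ i : PEmpty.{w+1}, Fin (0 + 1)) := ⟨fun x => x.1.elim⟩
    refine ⟨PEmpty.{w+1}, inferInstance, fun _ => 0, fun x => x.1.elim, fun x => x.1.elim, fun x => x.1.elim,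
      linearIndependent_empty_type, ?_, fun i => i.elim, fun i => i.elim⟩
    rw [Submodule.finrank_eq_zero.mp (Nat.le_zero.mp hW)]
    exact bot_le
  | succ d ih =>
    intro W hW hWA hWg
    by_cases hW0 : Module.finrank k W ≤ d
    · exact ih W hW0 hWA hWg
    have hWne : W ≠ ⊥ := fun h => hW0 (by rw [h, finrank_bot]; omega)
    have hpw : ∀ j, ∀ x ∈ W, (A ^ j) x ∈ W := by
      intro j
      induction j with
      | zero => intro x hx; simpa using hx
      | succ j ihj => intro x hx; rw [pow_succ', Module.End.mul_apply]; exact hWA _ (ihj x hx)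
    obtain ⟨N₀, hN₀⟩ := hA
    have hex : ∃ N, ∀ x ∈ W, (A ^ N) x = 0 := ⟨N₀, fun x _ => by rw [hN₀]; rfl⟩
    obtain ⟨p, hp⟩ : ∃ p, Nat.find hex = p + 1 := by
      refine Nat.exists_eq_succ_of_ne_zero fun h => hWne ?_
      rw [Submodule.eq_bot_iff]
      intro x hx
      simpa [h] using Nat.find_spec hex x hx
    have htop : ∀ j, p < j → ∀ x ∈ W, (A ^ j) x = 0 := by
      intro j hj x hx
      obtain ⟨t, rfl⟩ : ∃ t, j = t + (p + 1) := ⟨j - (p + 1), by omega⟩
      rw [pow_add, Module.End.mul_apply, ← hp, Nat.find_spec hex x hx, map_zero]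
    obtain ⟨w₀, hw₀, hw₀'⟩ : ∃ w₀ ∈ W, (A ^ p) w₀ ≠ 0 := by
      by_contra! h
      exact Nat.find_min hex (by omega : p < Nat.find hex) h
    obtain ⟨μ₀, hμ₀⟩ : ∃ μ, (A ^ p) (proj 𝒱 μ w₀) ≠ 0 := by
      by_contra! h
      apply hw₀'
      rw [← DirectSum.sum_support_decompose 𝒱 w₀, map_sum]
      exact Finset.sum_eq_zero fun μ _ => h μ
    let v := proj 𝒱 μ₀ w₀
    let τ := μ₀ + p • χ
    have hvW : v ∈ W := hWg _ hw₀ _
    have hv : v ∈ 𝒱 μ₀ := proj_mem 𝒱 _ _
    obtain ⟨ψ, hψ⟩ := Module.Projective.exists_dual_ne_zero k hμ₀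
    let φ : V →ₗ[k] k := (ψ ((A ^ p) v))⁻¹ • (ψ ∘ₗ proj 𝒱 τ)
    have hφv : φ ((A ^ p) v) = 1 := by
      simp only [φ, LinearMap.smul_apply, LinearMap.comp_apply, smul_eq_mul]
      rw [proj_of_mem 𝒱 (pow_mem 𝒱 A χ hhom p hv)]
      exact inv_mul_cancel₀ hψ
    let T : V →ₗ[k] (Fin (p + 1) → k) := LinearMap.pi fun j => φ ∘ₗ (A ^ (j : ℕ))
    let C : Submodule k V := W ⊓ LinearMap.ker T
    have hC : ∀ x, x ∈ C ↔ x ∈ W ∧ ∀ j : Fin (p + 1), φ ((A ^ (j : ℕ)) x) = 0 := fun x => by
      simp [C, T, LinearMap.mem_ker, funext_iff]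
    have hCA : ∀ x ∈ C, A x ∈ C := by
      intro x hx
      rw [hC] at hx ⊢
      refine ⟨hWA _ hx.1, fun j => ?_⟩
      rw [← Module.End.mul_apply, ← pow_succ]
      by_cases hj : (j : ℕ) + 1 < p + 1
      · exact hx.2 ⟨j + 1, hj⟩
      · rw [htop _ (by omega) x hx.1, map_zero]
    have hCg : ∀ x ∈ C, ∀ μ, proj 𝒱 μ x ∈ C := by
      intro x hx μ
      rw [hC] at hx ⊢
      refine ⟨hWg _ hx.1 _, fun j => ?_⟩
      have h1 := hx.2 j
      simp only [φ, LinearMap.smul_apply, LinearMap.comp_apply] at h1 ⊢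
      by_cases h : μ + (j : ℕ) • χ = τ
      · rw [← proj_pow 𝒱 A χ hhom j μ x, h, proj_of_mem 𝒱 (proj_mem 𝒱 τ _)]
        exact h1
      · rw [proj_of_ne 𝒱 (pow_mem 𝒱 A χ hhom j (proj_mem 𝒱 μ x)) h, map_zero, smul_zero]
    have hlt : Module.finrank k C < Module.finrank k W := by
      refine Submodule.finrank_lt_finrank_of_lt (lt_of_le_of_ne inf_le_left fun h => ?_)
      have h2 := ((hC v).mp (h.symm ▸ hvW)).2 ⟨p, by omega⟩
      rw [hφv] at h2
      exact one_ne_zero h2
    obtain ⟨ι, _, n, e, he1, he2, he3, he4, he5, he6⟩ := ih C (by omega) hCA hCg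
    -- the chain
    let ch : Fin (p + 1) → V := fun l => (A ^ (p - (l : ℕ))) v
    let S : (Fin (p + 1) → k) →ₗ[k] (Fin (p + 1) → k) := T ∘ₗ Fintype.linearCombination k ch
    have hSinj : Function.Injective S := by
      rw [injective_iff_map_eq_zero]
      intro c hc
      suffices ∀ t, ∀ l : Fin (p + 1), p - (l : ℕ) = t → c l = 0 from funext fun l => this _ l rfl
      intro t
      induction t using Nat.strong_induction_on with
      | _ t iht =>
        intro l hl
        have h1 : S c l = 0 := by rw [hc]; rfl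
        simp only [S, T, LinearMap.comp_apply, LinearMap.pi_apply, Fintype.linearCombination_apply, map_sum, map_smul,
          smul_eq_mul, ch, ← Module.End.mul_apply, ← pow_add] at h1
        rw [Finset.sum_eq_single l] at h1
        · rw [show (l : ℕ) + (p - (l : ℕ)) = p by omega, hφv, mul_one] at h1
          exact h1
        · intro i _ hi
          rcases lt_or_gt_of_ne (fun e : (i : ℕ) = l => hi (Fin.ext e)) with h | h
          · rw [htop _ (by omega) v hvW, map_zero, mul_zero]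
          · rw [iht (p - (i : ℕ)) (by omega) i rfl, zero_mul]
        · simp
    have hSsurj : Function.Surjective S := LinearMap.injective_iff_surjective.mp hSinj
    have hchW : ∀ l, ch l ∈ W := fun l => hpw _ v hvW
    let n' : Option ι → ℕ := fun o => o.elim p n
    let e' : (Σ o : Option ι, Fin (n' o + 1)) → V
      | ⟨none, l⟩ => ch l
      | ⟨some i, l⟩ => e ⟨i, l⟩
    refine ⟨Option ι, inferInstance, n', e', ?_, ?_, ?_, ?_, ?_, ?_⟩
    · rintro ⟨_ | i, l⟩
      · exact ⟨_, pow_mem 𝒱 A χ hhom _ hv⟩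
      · exact he1 ⟨i, l⟩
    · rintro ⟨_ | i, l⟩
      · exact hchW l
      · exact ((hC _).mp (he2 ⟨i, l⟩)).1
    · rw [Fintype.linearIndependent_iff]
      intro g hg
      rw [Fintype.sum_sigma, Fintype.sum_option] at hg
      let c : Fin (p + 1) → k := fun l => g ⟨none, l⟩
      let y : V := ∑ i : ι, ∑ l : Fin (n i + 1), g ⟨some i, l⟩ • e ⟨i, l⟩
      have hy : y ∈ C := Submodule.sum_mem _ fun i _ => Submodule.sum_mem _ fun l _ => Submodule.smul_mem _ _ (he2 _)
      have hsum : Fintype.linearCombination k ch c + y = 0 := by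
        rw [Fintype.linearCombination_apply]; exact hg
      have hc : c = 0 := hSinj (by
        rw [map_zero, LinearMap.comp_apply, eq_neg_of_add_eq_zero_left hsum, map_neg, LinearMap.mem_ker.mp hy.2, neg_zero])
      rw [hc, map_zero, zero_add] at hsum
      have hz := (Fintype.linearIndependent_iff.mp he3) (fun il => g ⟨some il.1, il.2⟩)
        (by rw [Fintype.sum_sigma]; exact hsum)
      rintro ⟨_ | i, l⟩
      · exact congrFun hc l
      · exact hz ⟨i, l⟩
    · intro x hx
      obtain ⟨c, hc⟩ := hSsurj (T x)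
      have hxC : x - Fintype.linearCombination k ch c ∈ C := by
        refine ⟨sub_mem hx ?_, by rw [SetLike.mem_coe, LinearMap.mem_ker, map_sub, ← hc, LinearMap.comp_apply, sub_self]⟩
        rw [Fintype.linearCombination_apply]
        exact Submodule.sum_mem _ fun l _ => Submodule.smul_mem _ _ (hchW l)
      rw [← sub_add_cancel x (Fintype.linearCombination k ch c)]
      refine add_mem (Submodule.span_mono ?_ (he4 hxC)) ?_
      · rintro _ ⟨⟨i, l⟩, rfl⟩; exact ⟨⟨some i, l⟩, rfl⟩
      · rw [Fintype.linearCombination_apply]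
        exact Submodule.sum_mem _ fun l _ => Submodule.smul_mem _ _ (Submodule.subset_span ⟨⟨none, l⟩, rfl⟩)
    · rintro (_ | i)
      · show A ((A ^ (p - 0)) v) = 0
        rw [← Module.End.mul_apply, ← pow_succ']
        exact htop _ (by omega) v hvW
      · exact he5 i
    · rintro (_ | i) l
      · show A ((A ^ (p - ((l : ℕ) + 1))) v) = (A ^ (p - (l : ℕ))) v
        rw [← Module.End.mul_apply, ← pow_succ']
        congr 2
        have : (l : ℕ) < p := l.2
        omega
      · exact he6 i l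

end

/-- Let k be a field, Λ an additive commutative group, V a finite-dimensional k-vector space which is
the internal direct sum of subspaces V_μ indexed by Λ (a representation of a torus with character
group Λ), and A a nilpotent endomorphism of V mapping each V_μ into V_{μ+χ} for a fixed χ (the
infinitesimal generator of an action of the additive group on which the torus acts through the
character χ). Then V has a basis consisting of homogeneous vectors e_{i,l}, 0 ≤ l ≤ n_i, with A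
e_{i,0} = 0 and A e_{i,l+1} = e_{i,l}: a weight basis bringing A into Jordan normal form. (The
source states this, over an algebraically closed field of characteristic zero, as a decomposition of
every representation of the semidirect product of the additive group with a torus into twists of
symmetric powers of the standard two-dimensional representation by characters; the first line of its
proof reduces that to the present statement, which is what is proved, and which holds over any
field.) -/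
theorem result
    (k : Type u) [Field k] (Λ : Type v) [AddCommGroup Λ] [DecidableEq Λ]
    (V : Type w) [AddCommGroup V] [Module k V] [FiniteDimensional k V]
    (𝒱 : Λ → Submodule k V) (h𝒱 : DirectSum.IsInternal 𝒱)
    (A : Module.End k V) (hA : IsNilpotent A) (χ : Λ)
    (hhom : ∀ (μ : Λ) (v : V), v ∈ 𝒱 μ → A v ∈ 𝒱 (μ + χ)) :
    ∃ (ι : Type w) (_ : Finite ι) (n : ι → ℕ) (b : Module.Basis (Σ i : ι, Fin (n i + 1)) k V),
      (∀ (i : ι) (l : Fin (n i + 1)), ∃ μ : Λ, b ⟨i, l⟩ ∈ 𝒱 μ) ∧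
      (∀ i : ι, A (b ⟨i, 0⟩) = 0) ∧
      ∀ (i : ι) (l : Fin (n i)), A (b ⟨i, l.succ⟩) = b ⟨i, l.castSucc⟩ := by
  classical
  letI := h𝒱.chooseDecomposition
  obtain ⟨ι, _, n, e, h1, -, h3, h4, h5, h6⟩ :=
    main 𝒱 A χ hhom hA (Module.finrank k (⊤ : Submodule k V)) ⊤ le_rfl (fun _ _ => Submodule.mem_top) (fun _ _ _ => Submodule.mem_top)
  refine ⟨ι, inferInstance, n, Module.Basis.mk h3 h4, fun i l => ?_, fun i => ?_, fun i l => ?_⟩
  · rw [Module.Basis.mk_apply]; exact h1 _
  · rw [Module.Basis.mk_apply]; exact h5 i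
  · rw [Module.Basis.mk_apply, Module.Basis.mk_apply]; exact h6 i l

end Groth.Agent.S18983
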