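import Groth.Statements.S18985
import Groth.Agent.AssocBdl.Embedding
import Groth.Agent.AssocBdl.Isotrivial
import Groth.Agent.AssocBdl.Torsor
import Groth.Agent.S18975
import Groth.Agent.GrpSchLib.Cartier
import Groth.Agent.GLTors.Special

set_option backward.isDefEq.respectTransparency false
set_option backward.isDefEq.respectTransparency.types false
set_option linter.style.haveILetI false
-- import your own Groth.Agent.* helpers here

set_option autoImplicit false
universe u
open CategoryTheory MonoidalCategory CartesianMonoidalCategory MonObj AlgebraicGeometry
open GIT

namespace Groth.Agent.S18985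

/-- Over an algebraically closed field k of characteristic zero, let G be an affine group scheme of
finite type over k acting on a k-scheme X, and let φ : X → Y be a G-torsor over Y: the square formed
by the action, the second projection and φ twice is cartesian, and φ acquires sections on the
members of some fpqc covering family of Y. Then φ is locally isotrivial: every point of Y has an
open neighbourhood U and a finite étale surjective morphism U' → U such that φ acquires a section
over U' → Y. (The source's definition of an isotrivialising morphism asks only finite étale;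
surjectivity is added, since an empty U' would make the condition vacuous. The second assertion of
the source, a criterion for a group to be special, is not part of this row.) -/
theorem result
    (k : Type u) [Field k] [IsAlgClosed k] [CharZero k]
    (G X Y : Over (Spec (CommRingCat.of k))) [GrpObj G] [IsAffine G.left] [LocallyOfFiniteType G.hom]
    (a : AlgGrp.Action G X) (φ : X ⟶ Y)
    (hcart : IsPullback a.act (snd G X) φ φ)
    (hloc : NonAbH1.IsLocallyTrivialFor Scheme.fpqcPrecoverage (Over.mk φ.left : Over Y.left)) :
    ∀ y : ↥Y.left, ∃ (U : Y.left.Opens) (_ : y ∈ U) (U' : Scheme.{u}) (f : U' ⟶ ↑U)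
      (_ : IsFinite f) (_ : Etale f) (_ : Surjective f),
      NonAbH1.HasSectionOver (Over.mk φ.left : Over Y.left) (f ≫ U.ι) := by
  intro y
  haveI : IsAffineHom G.hom := isAffineHom_of_isAffine G.hom
  haveI : LocallyOfFinitePresentation G.hom := inferInstance
  haveI : Smooth G.hom := GrpSchLib.smooth_of_charZero G
  haveI := EtFound.fpqc_isAffineHom.{u}
  haveI : IsAffineHom φ.left := AssocBdl.torsorProj_property @IsAffineHom a φ hcart hloc inferInstance
  haveI : Flat φ.left := AssocBdl.torsorProj_property @Flat a φ hcart hloc inferInstance
  haveI : LocallyOfFinitePresentation φ.left :=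
    AssocBdl.torsorProj_property @LocallyOfFinitePresentation a φ hcart hloc inferInstance
  haveI : Surjective φ.left := ⟨(S18975.result k G X Y a φ hcart hloc).2.surj⟩
  obtain ⟨N, ρ, hρ, hmono⟩ := AssocBdl.exists_embedding G
  haveI := hρ
  haveI := hmono
  let M : Over (Spec (CommRingCat.of k)) := FrB.GLn N (Spec (CommRingCat.of k))
  obtain ⟨hMa, hMl⟩ := AssocBdl.isAffine_GLn (k := k) N
  haveI := hMa
  haveI := hMl
  haveI : IsAffineHom M.hom := isAffineHom_of_isAffine M.hom
  haveI : QuasiCompact ρ.left := by
    haveI : QuasiCompact (ρ.left ≫ M.hom) := by rw [Over.w ρ]; infer_instance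
    exact QuasiCompact.of_comp ρ.left M.hom
  obtain ⟨H, p, hf, hs, hl, hp, hsep, hlfp⟩ := Deform.QuotField.exists_quot ρ
  haveI := hf
  haveI := hs
  haveI := hl
  haveI := hsep
  haveI := hlfp
  exact AssocBdl.exists_finEt_section ρ p hp a φ hcart
    (fun Z b r h1 h2 => GLTors.zariski b r h1 h2) hloc y

end Groth.Agent.S18985
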