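import Groth.Statements.S18999
import Groth.Agent.SurfRR.Basic
import Groth.Agent.ExtShX.Codim
import Groth.Agent.LC.GorLCI
import Groth.Agent.LC.GorFlat

set_option autoImplicit false
set_option linter.style.haveILetI false
set_option backward.isDefEq.respectTransparency false
set_option backward.isDefEq.respectTransparency.types false
universe u
open CategoryTheory CategoryTheory.Limits AlgebraicGeometry
open Surf

namespace Groth.Agent.S18999

open Groth.Agent

theorem cm_of_lci {k : Type u} [Field k] {X : Scheme.{u}} (f : X ⟶ Spec (CommRingCat.of k))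
    (hlci : Dual3.IsLCIMor f) (x : X) : LocCoh.IsCohenMacaulayLocalRing (X.presheaf.stalk x) := by
  obtain ⟨U, V, e, hx, h⟩ := hlci x
  haveI hk : LocCoh.IsGorensteinRing k :=
    { isGorensteinLocalRing_localization := fun p _ => by
        have hp : p = ⊥ := (Ideal.eq_bot_or_top p).resolve_right (Ideal.IsPrime.ne_top inferInstance)
        refine LC.gorenstein_of_isField ?_
        rw [← Localization.AtPrime.map_eq_maximalIdeal]
        exact (Ideal.map_eq_bot_iff_le_ker _).2 (hp.le.trans bot_le) }
  have hV : V.1 = ⊤ := TopologicalSpace.Opens.ext (Set.eq_univ_of_forall fun y => by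
    rw [Subsingleton.elim (α := PrimeSpectrum k) y (f x)]
    exact e hx)
  let ε : k ≃+* Γ(Spec (CommRingCat.of k), V.1) := ((Scheme.ΓSpecIso (CommRingCat.of k)).symm ≪≫
    (Spec (CommRingCat.of k)).presheaf.mapIso (eqToIso hV).op).commRingCatIsoToRingEquiv
  letI := (f.appLE V.1 U.1 e).hom.toAlgebra
  haveI := LC.gorensteinRing_of_isLCI _ _ (LC.gorensteinRing_of_ringEquiv ε hk) h
  letI := TopCat.Presheaf.algebra_section_stalk X.presheaf ⟨x, hx⟩
  haveI := U.2.isLocalization_stalk ⟨x, hx⟩
  haveI : LocCoh.IsGorensteinLocalRing (Localization.AtPrime (U.2.primeIdealOf ⟨x, hx⟩).asIdeal) :=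
    LocCoh.IsGorensteinRing.isGorensteinLocalRing_localization _
  haveI : IsNoetherianRing (X.presheaf.stalk x) :=
    IsLocalization.isNoetherianRing (U.2.primeIdealOf ⟨x, hx⟩).asIdeal.primeCompl _ inferInstance
  haveI : LocCoh.IsGorensteinLocalRing (X.presheaf.stalk x) := LC.gorenstein_of_ringEquiv
    (IsLocalization.algEquiv (U.2.primeIdealOf ⟨x, hx⟩).asIdeal.primeCompl
      (Localization.AtPrime (U.2.primeIdealOf ⟨x, hx⟩).asIdeal) (X.presheaf.stalk x)).toRingEquiv
  exact LC.isCohenMacaulayLocalRing_of_gorenstein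

/-- Let k be a field and X an integral scheme of dimension two admitting a closed immersion into some
P^n_k over k, such that X → Spec k is a local complete intersection morphism. Let (ω, t) be a
dualizing sheaf for X — ω coherent, t a k-linear form on H^2(X, ω), such that for every coherent F
and every k-linear form ψ on H^2(X, F) there is exactly one φ : F → ω with ψ = t ∘ H^2(φ) — and
assume ω invertible (as it is, X being Gorenstein). Then for every invertible O_X-module L one has
2χ(L) = (L·L) − (L·ω) + 2χ(O_X), where (A·B) = χ(O_X) − χ(A) − χ(B) + χ(A ⊗ B) is the intersection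
number (packaged as FGA.intNum) and all dimensions are over k. (The published statement is for a
proper two-dimensional variety of local complete intersection over k, with Euler characteristics
over the field of global functions; this row assumes X projective over k and counts dimensions over
k, which multiplies both sides by the same degree.) -/
theorem result (k : Type u) [Field k] (X : Scheme.{u}) [X.Over (Spec (CommRingCat.of k))]
    [IsIntegral X] (hdim : topologicalKrullDim X = 2)
    (hproj : ∃ (n : ℕ) (ι : X ⟶ CohB1.ProjSpace n k), IsClosedImmersion ι ∧ ι ≫ CohB1.ProjSpace.toSpec n k = (X ↘ (Spec (CommRingCat.of k))))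
    (hlci : Dual3.IsLCIMor (X ↘ (Spec (CommRingCat.of k))))
    (ω : X.Modules) (hωcoh : Coh.IsCoh ω) (hωinv : PicF.IsInvertible ω) (t : Coh.HH X ω 2 →ₗ[k] k)
    (hdual : ∀ F : X.Modules, Coh.IsCoh F → ∀ ψ : Coh.HH X F 2 →ₗ[k] k,
        ∃! φ : F ⟶ ω, ∀ x : Coh.HH X F 2,
          ψ x = t (Sheaf.H.map ((SheafOfModules.toSheaf X.ringCatSheaf).map φ) 2 x))
    (L : X.Modules) (hL : PicF.IsInvertible L) :
    2 * Curv2.euler k X L = FGA.intNum k X 2 ![L, L] (Coh.structureModule X) - FGA.intNum k X 2 ![L, ω] (Coh.structureModule X) + 2 * Curv2.euler k X (Coh.structureModule X) := by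
  obtain ⟨N, ι, hι, hι'⟩ := hproj
  haveI := hι
  haveI : IsProper (X ↘ Spec (CommRingCat.of k)) := ExtShX.isProper_over (ι : X ⟶ PnVan.P k N) hι'
  have htop := fun G hG => ExtShX.bijective_of_existsUnique t (hdual G hG)
  have heq : ∀ Z : Set ↥X, Z ∈ irreducibleComponents ↥X → topologicalKrullDim ↥Z = ((2 : ℕ) : WithBot ℕ∞) :=
    fun Z hZ => by
      rw [irreducibleComponents_eq_singleton, Set.mem_singleton_iff] at hZ
      subst hZ
      rw [(Homeomorph.Set.univ X).isHomeomorph.topologicalKrullDim_eq, hdim]
      rfl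
  refine SurfRR.rr_of_dual hdim.le hωinv (fun L D hL hD hLD => SurfRR.euler_dual_of_cm ι hι' hdim
    (fun x hx => ⟨cm_of_lci (X ↘ Spec (CommRingCat.of k)) hlci x, ExtShX.dim_closedPoint (X ↘ Spec (CommRingCat.of k)) heq hx⟩) hωcoh t htop hL hLD) hL

end Groth.Agent.S18999
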