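import Groth.Statements.S19026
import Groth.Agent.CanonDual.Balanced
-- import your own Groth.Agent.* helpers here

set_option autoImplicit false
set_option linter.style.haveILetI false
universe u
open CategoryTheory CategoryTheory.Limits AlgebraicGeometry
attribute [local instance] HasDerivedCategory.standard
open Curves

namespace Groth.Agent.S19026

/-- Let k be an algebraically closed field and X a connected reduced Gorenstein curve over k of genus g
≥ 2: X is proper over k, reduced, connected, of dimension one, and its dualizing module ω_X (the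
degree −1 cohomology sheaf of f^! O for the structure morphism f, for any choice of the data Rf_* on
D_QCoh with its right adjoint) is invertible; g = dim_k H^1(X, O_X). A connected subcurve Z of X is
a reduced connected closed subscheme of dimension one, deg_Z of a module means the degree of its
pullback to Z, g_Z = dim_k H^1(Z, O_Z), and k_Z is the length (k-dimension of global sections of the
structure sheaf) of the scheme-theoretic intersection of Z with the reduced closed subscheme
supported on the closure of X ∖ Z. Let L be an invertible module of degree d which is balanced: for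
every connected subcurve Z, |deg_Z L − (d/(2g−2)) deg_Z ω_X| ≤ k_Z/2 (written cleared of
denominators). Assume d > g − 1. Then L is nef (deg_Z L ≥ 0 for every connected subcurve Z) if and
only if X is G-semistable (deg_Z ω_X ≥ 0 for every connected subcurve Z) and every exceptional
subcurve Z (connected, with deg_Z ω_X = 0) has deg_Z L = 0 or 1. -/
theorem result (k : Type u) [Field k] [IsAlgClosed k] (X : Scheme.{u}) [X.Over (Spec (CommRingCat.of k))]
    [IsProper (X ↘ (Spec (CommRingCat.of k)))] [AlgebraicGeometry.IsReduced X] [ConnectedSpace X] (hdim : topologicalKrullDim X = 1)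
    [DCoh.HasRpush (X ↘ (Spec (CommRingCat.of k)))] (h : DCoh.RpushPreservesQCoh (X ↘ (Spec (CommRingCat.of k)))) [DCoh.HasShriek (X ↘ (Spec (CommRingCat.of k))) h]
    (OY : DCoh.DQCoh (Spec (CommRingCat.of k)))
    (hOY : Nonempty (OY.obj ≅ DCoh.inD (Spec (CommRingCat.of k)) (Coh.structureModule (Spec (CommRingCat.of k)))))
    (hGor : PicF.IsInvertible (DCoh.dualizingMod (X ↘ (Spec (CommRingCat.of k))) h OY 1)) (hg : 2 ≤ Curv2.genus k X)
    (L : X.Modules) (hL : PicF.IsInvertible L)
    (hbal : ∀ J : X.IdealSheafData, AlgebraicGeometry.IsReduced J.subscheme → ConnectedSpace J.subscheme →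
      topologicalKrullDim J.subscheme = 1 →
      |2 * (2 * (Curv2.genus k X : ℤ) - 2) * @Curv2.deg k _ J.subscheme ⟨J.subschemeι ≫ (X ↘ (Spec (CommRingCat.of k)))⟩ ((Scheme.Modules.pullback J.subschemeι).obj L) 1
          - 2 * Curv2.deg k X L 1 * @Curv2.deg k _ J.subscheme ⟨J.subschemeι ≫ (X ↘ (Spec (CommRingCat.of k)))⟩ ((Scheme.Modules.pullback J.subschemeι).obj (DCoh.dualizingMod (X ↘ (Spec (CommRingCat.of k))) h OY 1)) 1|
        ≤ (2 * (Curv2.genus k X : ℤ) - 2) * (Module.finrank k (Coh.HH X (ClSub.quotMod (J ⊔ (Scheme.IdealSheafData.vanishingIdeal ⟨closure ((J.support : Set X)ᶜ), isClosed_closure⟩))) 0) : ℤ))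
    (hd : (Curv2.genus k X : ℤ) - 1 < Curv2.deg k X L 1) :
    (∀ J : X.IdealSheafData, AlgebraicGeometry.IsReduced J.subscheme → ConnectedSpace J.subscheme →
      topologicalKrullDim J.subscheme = 1 →
      0 ≤ @Curv2.deg k _ J.subscheme ⟨J.subschemeι ≫ (X ↘ (Spec (CommRingCat.of k)))⟩ ((Scheme.Modules.pullback J.subschemeι).obj L) 1) ↔
      ((∀ J : X.IdealSheafData, AlgebraicGeometry.IsReduced J.subscheme → ConnectedSpace J.subscheme →
      topologicalKrullDim J.subscheme = 1 →
        0 ≤ @Curv2.deg k _ J.subscheme ⟨J.subschemeι ≫ (X ↘ (Spec (CommRingCat.of k)))⟩ ((Scheme.Modules.pullback J.subschemeι).obj (DCoh.dualizingMod (X ↘ (Spec (CommRingCat.of k))) h OY 1)) 1) ∧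
      (∀ J : X.IdealSheafData, AlgebraicGeometry.IsReduced J.subscheme → ConnectedSpace J.subscheme →
      topologicalKrullDim J.subscheme = 1 →
        @Curv2.deg k _ J.subscheme ⟨J.subschemeι ≫ (X ↘ (Spec (CommRingCat.of k)))⟩ ((Scheme.Modules.pullback J.subschemeι).obj (DCoh.dualizingMod (X ↘ (Spec (CommRingCat.of k))) h OY 1)) 1 = 0 →
        (@Curv2.deg k _ J.subscheme ⟨J.subschemeι ≫ (X ↘ (Spec (CommRingCat.of k)))⟩ ((Scheme.Modules.pullback J.subschemeι).obj L) 1 = 0 ∨ @Curv2.deg k _ J.subscheme ⟨J.subschemeι ≫ (X ↘ (Spec (CommRingCat.of k)))⟩ ((Scheme.Modules.pullback J.subschemeι).obj L) 1 = 1))) := by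
  have hX := Groth.Agent.CanonDual.closedDimOne_of_connected k hdim
  obtain ⟨tr, hω⟩ := Groth.Agent.CanonDual.exists_isRDualOver_dualizingMod h OY hOY (d := 1)
    (fun M hM q hq => Groth.Agent.CanonDual.subsingleton_HH_curve k hdim.le hM hq)
  constructor
  · intro hnef
    refine ⟨fun J h₁ h₂ h₃ => ?_, fun J h₁ h₂ h₃ hw0 => ?_⟩
    · haveI := h₁
      haveI := h₂
      obtain ⟨hw, h0⟩ := Groth.Agent.CanonDual.subcurve_numbers k hdim hω hGor hL J h₃
      obtain ⟨hb2, hb1⟩ := abs_le.1 (hbal J h₁ h₂ h₃)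
      set δ : ℕ := Module.finrank k (Coh.HH X (ClSub.quotMod (J ⊔ Groth.Agent.CanonDual.compl J)) 0) with hδ
      set gJ := @Curv2.genus k _ J.subscheme ⟨J.subschemeι ≫ (X ↘ Spec (CommRingCat.of k))⟩
      set dJ := @Curv2.deg k _ J.subscheme ⟨J.subschemeι ≫ (X ↘ Spec (CommRingCat.of k))⟩ ((Scheme.Modules.pullback J.subschemeι).obj L) 1
      set w := @Curv2.deg k _ J.subscheme ⟨J.subschemeι ≫ (X ↘ Spec (CommRingCat.of k))⟩ ((Scheme.Modules.pullback J.subschemeι).obj (DCoh.dualizingMod (X ↘ Spec (CommRingCat.of k)) h OY 1)) 1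
      have hn : 0 ≤ dJ := hnef J h₁ h₂ h₃
      by_contra hneg
      have hδ : 0 < δ := Nat.pos_of_ne_zero fun hz => by have := (h0 hz).1; omega
      have hw1 : w = -1 ∧ δ = 1 := by omega
      rw [hw1.1, hw1.2] at hb1
      push_cast at hb1
      nlinarith
    · haveI := h₁
      haveI := h₂
      obtain ⟨hw, h0⟩ := Groth.Agent.CanonDual.subcurve_numbers k hdim hω hGor hL J h₃
      obtain ⟨hb2, hb1⟩ := abs_le.1 (hbal J h₁ h₂ h₃)
      set δ : ℕ := Module.finrank k (Coh.HH X (ClSub.quotMod (J ⊔ Groth.Agent.CanonDual.compl J)) 0) with hδ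
      set gJ := @Curv2.genus k _ J.subscheme ⟨J.subschemeι ≫ (X ↘ Spec (CommRingCat.of k))⟩
      set dJ := @Curv2.deg k _ J.subscheme ⟨J.subschemeι ≫ (X ↘ Spec (CommRingCat.of k))⟩ ((Scheme.Modules.pullback J.subschemeι).obj L) 1
      set w := @Curv2.deg k _ J.subscheme ⟨J.subschemeι ≫ (X ↘ Spec (CommRingCat.of k))⟩ ((Scheme.Modules.pullback J.subschemeι).obj (DCoh.dualizingMod (X ↘ Spec (CommRingCat.of k)) h OY 1)) 1
      have hn : 0 ≤ dJ := hnef J h₁ h₂ h₃
      have hδ : 0 < δ := Nat.pos_of_ne_zero fun hz => by have := (h0 hz).1; omega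
      have hw0' : w = 0 := hw0
      have h2 : δ = 2 := by omega
      rw [hw0', h2] at hb1
      push_cast at hb1
      have : dJ ≤ 1 := by nlinarith
      omega
  · rintro ⟨hss, hexc⟩ J h₁ h₂ h₃
    haveI := h₁
    haveI := h₂
    obtain ⟨hw, h0⟩ := Groth.Agent.CanonDual.subcurve_numbers k hdim hω hGor hL J h₃
    obtain ⟨hb2, hb1⟩ := abs_le.1 (hbal J h₁ h₂ h₃)
    set δ : ℕ := Module.finrank k (Coh.HH X (ClSub.quotMod (J ⊔ Groth.Agent.CanonDual.compl J)) 0) with hδ
    set gJ := @Curv2.genus k _ J.subscheme ⟨J.subschemeι ≫ (X ↘ Spec (CommRingCat.of k))⟩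
    set dJ := @Curv2.deg k _ J.subscheme ⟨J.subschemeι ≫ (X ↘ Spec (CommRingCat.of k))⟩ ((Scheme.Modules.pullback J.subschemeι).obj L) 1
    set w := @Curv2.deg k _ J.subscheme ⟨J.subschemeι ≫ (X ↘ Spec (CommRingCat.of k))⟩ ((Scheme.Modules.pullback J.subschemeι).obj (DCoh.dualizingMod (X ↘ Spec (CommRingCat.of k)) h OY 1)) 1
    have hw0 : 0 ≤ w := hss J h₁ h₂ h₃
    rcases hw0.eq_or_lt with he | he
    · rcases hexc J h₁ h₂ h₃ he.symm with e | e <;> omega
    · have h5 : (w - δ) * (2 * (Curv2.genus k X : ℤ) - 2) < 2 * dJ * (2 * (Curv2.genus k X : ℤ) - 2) := by nlinarith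
      have h6 : w - δ < 2 * dJ := lt_of_mul_lt_mul_right h5 (by omega)
      omega

end Groth.Agent.S19026
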