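import Groth.Statements.S19039
import Groth.Agent.GrpSchLib.Action
import Groth.Agent.GrpSchLib.Coincidence
import Groth.Prelude.Def_GmAct
import Mathlib.AlgebraicGeometry.Morphisms.ClosedImmersion
import Mathlib.Algebra.Polynomial.Basis

set_option autoImplicit false
universe u
open Instab

namespace Groth.Agent.S19039
open CategoryTheory Limits MonoidalCategory CartesianMonoidalCategory MonObj AlgebraicGeometry Opposite
open scoped TensorProduct

noncomputable local instance braidedAlgSpecOf (R : Type u) [CommRing R] : (algSpec (CommRingCat.of R)).Braided :=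
  braidedAlgSpec

attribute [local instance] CategoryTheory.Hom.monoid CategoryTheory.Hom.group
set_option linter.style.haveILetI false

theorem orbit_one (R : Type u) [CommRing R] :
    lift (𝟙 (ThetaS.Gm R)) ((1 : ThetaS.Gm R ⟶ ThetaS.Gm R) ≫ CoactBr.pt (ThetaS.linePt (ThetaS.zPow R 1))) ≫
      (ThetaS.lineAction R).act = CoactBr.pt (ThetaS.linePt (ThetaS.zPow R 1)) := by
  have h := ThetaS.lineAction_pt (AlgHom.id R (ThetaS.Lau R)) (1 : ThetaS.Lau R)
  rw [CoactBr.pt_id, AlgHom.id_apply, _root_.mul_one] at h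
  have e : (1 : ThetaS.Gm R ⟶ ThetaS.Gm R) ≫ CoactBr.pt (ThetaS.linePt (ThetaS.zPow R 1)) =
      CoactBr.pt (ThetaS.linePt (1 : ThetaS.Lau R)) := by
    show (1 : CoactBr.sp R (ThetaS.Lau R) ⟶ CoactBr.sp R (ThetaS.Lau R)) ≫ _ = _
    rw [CoactBr.one_eq_pt, ← CoactBr.pt_comp]
    congr 1
    apply Polynomial.algHom_ext
    simp [Bialgebra.counitAlgHom_apply, MonoidAlgebra.one_def]
  rw [e]
  exact h

theorem injective_laurent (R : Type u) [CommRing R] (B : Type u) [CommRing B] [Algebra R B] :
    Function.Injective (Algebra.TensorProduct.map (ThetaS.linePt (R := R) (ThetaS.zPow R 1)) (AlgHom.id R B)) := by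
  classical
  let l : ThetaS.Lau R →ₗ[R] Polynomial R :=
    (MonoidAlgebra.basis (Multiplicative ℤ) R).constr R fun n =>
      if 0 ≤ n.toAdd then Polynomial.X ^ n.toAdd.toNat else 0
  have hl : l.comp (ThetaS.linePt (ThetaS.zPow R 1)).toLinearMap = LinearMap.id := by
    apply (Polynomial.basisMonomials R).ext
    intro n
    have h : (ThetaS.linePt (ThetaS.zPow R 1)) (Polynomial.monomial n (1 : R)) =
        MonoidAlgebra.basis (Multiplicative ℤ) R (Multiplicative.ofAdd (n : ℤ)) := by
      rw [← Polynomial.X_pow_eq_monomial, map_pow, Polynomial.aeval_X, MonoidAlgebra.single_pow, one_pow,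
        ← ofAdd_nsmul]
      simp
    rw [Polynomial.coe_basisMonomials, LinearMap.comp_apply, AlgHom.toLinearMap_apply, h, Module.Basis.constr_basis,
      LinearMap.id_apply]
    simp [Polynomial.X_pow_eq_monomial]
  refine Function.LeftInverse.injective (g := TensorProduct.map l (LinearMap.id (R := R) (M := B))) fun z => ?_
  show (TensorProduct.map l LinearMap.id) ((TensorProduct.map (ThetaS.linePt (ThetaS.zPow R 1)).toLinearMap
    LinearMap.id) z) = z
  rw [← LinearMap.comp_apply, ← TensorProduct.map_comp, hl, LinearMap.comp_id, TensorProduct.map_id,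
    LinearMap.id_apply]

/-- Maps to a separated scheme agree if they agree after an injective ring map. -/
theorem ext_injective {R : Type u} [CommRing R] {C D : Type u} [CommRing C] [CommRing D] [Algebra R C] [Algebra R D]
    (φ : C →ₐ[R] D) (hφ : Function.Injective φ) {X : Over (Spec (CommRingCat.of R))} [IsSeparated X.hom]
    (u v : CoactBr.sp R C ⟶ X) (h : CoactBr.pt φ ≫ u = CoactBr.pt φ ≫ v) : u = v := by
  let L : (CoactBr.sp R C).left ⟶ pullback X.hom X.hom :=
    pullback.lift u.left v.left ((Over.w u).trans (Over.w v).symm)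
  let Z := pullback L (pullback.diagonal X.hom)
  let e : Z ⟶ (CoactBr.sp R C).left := pullback.fst L (pullback.diagonal X.hom)
  haveI : IsClosedImmersion e := inferInstanceAs (IsClosedImmersion (pullback.fst L (pullback.diagonal X.hom)))
  let P : (CoactBr.sp R D).left ⟶ (CoactBr.sp R C).left := (CoactBr.pt φ).left
  have hP : P ≫ u.left = P ≫ v.left := congrArg CommaMorphism.left h
  have hl : P ≫ L = (P ≫ u.left) ≫ pullback.diagonal X.hom := by
    apply pullback.hom_ext
    · rw [Category.assoc, Category.assoc, pullback.lift_fst, pullback.diagonal_fst, Category.comp_id]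
    · rw [Category.assoc, Category.assoc, pullback.lift_snd, pullback.diagonal_snd, Category.comp_id, hP]
  haveI : IsIso e := by
    haveI : IsAffine (CoactBr.sp R C).left := isAffine_Spec _
    refine IsClosedImmersion.isIso_of_injective_of_isAffine ?_
    have hinj : Function.Injective (Spec.map (CommRingCat.ofHom φ.toRingHom)).appTop := by
      have e := Scheme.ΓSpecIso_inv_naturality (CommRingCat.ofHom φ.toRingHom)
      intro a b hab
      obtain ⟨a, rfl⟩ := (ConcreteCategory.bijective_of_isIso (Scheme.ΓSpecIso (CommRingCat.of C)).inv).2 a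
      obtain ⟨b, rfl⟩ := (ConcreteCategory.bijective_of_isIso (Scheme.ΓSpecIso (CommRingCat.of C)).inv).2 b
      rw [← CommRingCat.comp_apply, ← CommRingCat.comp_apply, ← e] at hab
      exact congrArg _ (hφ ((ConcreteCategory.bijective_of_isIso (Scheme.ΓSpecIso (CommRingCat.of D)).inv).1 hab))
    have hfac : pullback.lift P (P ≫ u.left) hl ≫ e = P := pullback.lift_fst _ _ _
    replace hinj : Function.Injective P.appTop := hinj
    rw [← hfac, Scheme.Hom.comp_appTop] at hinj
    intro a b hab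
    exact hinj (by rw [CommRingCat.comp_apply, CommRingCat.comp_apply, hab])
  have hLd : L = (inv e ≫ pullback.snd L (pullback.diagonal X.hom)) ≫ pullback.diagonal X.hom := by
    rw [Category.assoc, ← pullback.condition, IsIso.inv_hom_id_assoc]
  have h1 := congrArg (· ≫ pullback.fst X.hom X.hom) hLd
  have h2 := congrArg (· ≫ pullback.snd X.hom X.hom) hLd
  simp only [L, pullback.lift_fst, pullback.lift_snd, Category.assoc, pullback.diagonal_fst, pullback.diagonal_snd,
    Category.comp_id] at h1 h2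
  exact Over.OverMorphism.ext (h1.trans h2.symm)

/-- `G_m × T` is schematically dense in `A¹ × T`. -/
theorem ext_dense (R : Type u) [CommRing R] {T X : Over (Spec (CommRingCat.of R))} [IsSeparated X.hom]
    {u v : ThetaS.Line R ⊗ T ⟶ X}
    (h : (CoactBr.pt (ThetaS.linePt (ThetaS.zPow R 1)) ▷ T) ≫ u =
      (CoactBr.pt (ThetaS.linePt (ThetaS.zPow R 1)) ▷ T) ≫ v) : u = v := by
  refine Over.OverMorphism.ext (Scheme.Cover.hom_ext
    (T.left.affineOpenCover.openCover.pullback₁ (snd (ThetaS.Line R) T).left) _ _ fun i => ?_)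
  obtain ⟨φ, hφ⟩ := Spec.map_surjective (T.left.affineOpenCover.f i ≫ T.hom)
  let B : Type u := T.left.affineOpenCover.X i
  letI : Algebra R B := φ.hom.toAlgebra
  let c : CoactBr.sp R B ⟶ T := Over.homMk (T.left.affineOpenCover.f i) (by
    show T.left.affineOpenCover.f i ≫ T.hom = Spec.map (CommRingCat.ofHom (algebraMap R B))
    rw [← hφ]
    rfl)
  have hc := GrpSchLib.isPullback_whiskerLeft (W := ThetaS.Line R) c
  have key : (ThetaS.Line R ◁ c) ≫ u = (ThetaS.Line R ◁ c) ≫ v := by
    let π : CoactBr.sp R (Polynomial R ⊗[R] B) ⟶ ThetaS.Line R ⊗ CoactBr.sp R B :=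
      lift (CoactBr.pt Algebra.TensorProduct.includeLeft) (CoactBr.pt Algebra.TensorProduct.includeRight)
    let π' : CoactBr.sp R (ThetaS.Lau R ⊗[R] B) ⟶ ThetaS.Gm R ⊗ CoactBr.sp R B :=
      lift (CoactBr.pt Algebra.TensorProduct.includeLeft) (CoactBr.pt Algebra.TensorProduct.includeRight)
    let μ' := Functor.LaxMonoidal.μ (algSpec (CommRingCat.of R)) (op (.of R (Polynomial R))) (op (.of R B))
    have hπ : π ≫ μ' = 𝟙 _ := by
      refine (CoactBr.lift_pt_pt _ _).trans (Eq.trans (congrArg CoactBr.pt ?_) CoactBr.pt_id)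
      ext <;> simp
    haveI : IsIso μ' :=
      (Functor.Monoidal.μIso (algSpec (CommRingCat.of R)) (op (.of R (Polynomial R))) (op (.of R B))).isIso_hom
    haveI : IsIso π := ⟨μ', hπ, (cancel_mono μ').1
      ((Category.assoc _ _ _).trans ((congrArg (μ' ≫ ·) hπ).trans ((Category.comp_id _).trans (Category.id_comp _).symm)))⟩
    rw [← cancel_epi π]
    refine ext_injective (Algebra.TensorProduct.map (ThetaS.linePt (ThetaS.zPow R 1)) (AlgHom.id R B))
      (injective_laurent R B) _ _ ?_
    have hsq : CoactBr.pt (Algebra.TensorProduct.map (ThetaS.linePt (ThetaS.zPow R 1)) (AlgHom.id R B)) ≫ π =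
        π' ≫ (CoactBr.pt (ThetaS.linePt (ThetaS.zPow R 1)) ▷ CoactBr.sp R B) := by
      simp only [π, π', comp_lift, lift_whiskerRight]
      apply CartesianMonoidalCategory.hom_ext
      · simp only [lift_fst, ← CoactBr.pt_comp]
        congr 1
      · simp only [lift_snd, ← CoactBr.pt_comp]
        congr 1
        apply AlgHom.ext
        intro p
        simp
    rw [reassoc_of% hsq, reassoc_of% hsq, ← whisker_exchange_assoc, ← whisker_exchange_assoc, h]
  refine (cancel_epi hc.isoPullback.hom).1 ?_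
  show hc.isoPullback.hom ≫ pullback.fst _ _ ≫ u.left = hc.isoPullback.hom ≫ pullback.fst _ _ ≫ v.left
  rw [hc.isoPullback_hom_fst_assoc, hc.isoPullback_hom_fst_assoc]
  exact congrArg CommaMorphism.left key
open CategoryTheory MonoidalCategory CartesianMonoidalCategory MonObj GrpObj AlgebraicGeometry in
/-- The case n = 1 for a scheme X separated over an affine base Spec R, stated as the two facts that
identify equivariant families with maps whose orbit map extends. Let G_m act on X (a left action a :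
G_m × X → X over Spec R) and on A¹ × T through the scaling action on A¹, for an R-scheme T; write j
: G_m → A¹ for the inclusion t ↦ t. (a) If u, v : A¹ × T → X are G_m-equivariant R-morphisms with
the same restriction to the section {1} × T, then u = v. (b) If x : T → X is an R-morphism and u :
A¹ × T → X is an R-morphism whose restriction along j × T is the orbit family (g, t) ↦ g · x(t),
then u is G_m-equivariant. (The source works with an algebraic space X quasi-separated and locally
of finite presentation over a base B with an action of G_mⁿ and deduces that X⁺ → X is a locally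
finitely presented unramified monomorphism; only the elementary identification for n = 1 is stated
here, which uses separatedness alone.) -/
theorem result
    (R : Type u) [CommRing R] (X : Over (Spec (CommRingCat.of R))) [IsSeparated X.hom]
    (a : AlgGrp.Action (ThetaS.Gm R) X) (T : Over (Spec (CommRingCat.of R))) :
    (∀ u v : ThetaS.Line R ⊗ T ⟶ X,
        (α_ (ThetaS.Gm R) (ThetaS.Line R) T).inv ≫ ((ThetaS.lineAction R).act ▷ T) ≫ u = (ThetaS.Gm R ◁ u) ≫ a.act →
        (α_ (ThetaS.Gm R) (ThetaS.Line R) T).inv ≫ ((ThetaS.lineAction R).act ▷ T) ≫ v = (ThetaS.Gm R ◁ v) ≫ a.act →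
        lift ((1 : T ⟶ ThetaS.Gm R) ≫ (CoactBr.pt (ThetaS.linePt (ThetaS.zPow R 1)) : ThetaS.Gm R ⟶ ThetaS.Line R)) (𝟙 T) ≫ u =
          lift ((1 : T ⟶ ThetaS.Gm R) ≫ (CoactBr.pt (ThetaS.linePt (ThetaS.zPow R 1)) : ThetaS.Gm R ⟶ ThetaS.Line R)) (𝟙 T) ≫ v →
        u = v) ∧
    (∀ (x : T ⟶ X) (u : ThetaS.Line R ⊗ T ⟶ X),
        ((CoactBr.pt (ThetaS.linePt (ThetaS.zPow R 1)) : ThetaS.Gm R ⟶ ThetaS.Line R) ▷ T) ≫ u = (ThetaS.Gm R ◁ x) ≫ a.act →
        (α_ (ThetaS.Gm R) (ThetaS.Line R) T).inv ≫ ((ThetaS.lineAction R).act ▷ T) ≫ u =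
          (ThetaS.Gm R ◁ u) ≫ a.act) := by
  classical
  let j : ThetaS.Gm R ⟶ ThetaS.Line R := CoactBr.pt (ThetaS.linePt (ThetaS.zPow R 1))
  have hsing : ∀ {T : Over (Spec (CommRingCat.of R))} (g : T ⟶ ThetaS.Gm R),
      lift g ((1 : T ⟶ ThetaS.Gm R) ≫ j) ≫ (ThetaS.lineAction R).act = g ≫ j := by
    intro T g
    have e := congrArg (g ≫ ·) (orbit_one R)
    rw [← Category.assoc, comp_lift, Category.comp_id, ← Category.assoc, MonObj.comp_one] at e
    exact e
  have hmul : ∀ {T : Over (Spec (CommRingCat.of R))} (g h : T ⟶ ThetaS.Gm R),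
      lift g (h ≫ j) ≫ (ThetaS.lineAction R).act = (g * h) ≫ j := by
    intro T g h
    rw [← hsing h, GrpSchLib.act_mul, hsing]
  constructor
  · intro u v hu hv huv
    refine ext_dense R (T := T) ?_
    have hα : lift (fst (ThetaS.Gm R) T) (lift (1 ≫ j) (snd (ThetaS.Gm R) T)) ≫
        (α_ (ThetaS.Gm R) (ThetaS.Line R) T).inv ≫ ((ThetaS.lineAction R).act ▷ T) = j ▷ T := by
      apply CartesianMonoidalCategory.hom_ext
      · simp only [Category.assoc, whiskerRight_fst, lift_lift_associator_inv_assoc, lift_fst_assoc, hsing]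
      · simp
    have key : ∀ w : ThetaS.Line R ⊗ T ⟶ X,
        (α_ (ThetaS.Gm R) (ThetaS.Line R) T).inv ≫ ((ThetaS.lineAction R).act ▷ T) ≫ w = (ThetaS.Gm R ◁ w) ≫ a.act →
        (j ▷ T) ≫ w = lift (fst (ThetaS.Gm R) T) (snd (ThetaS.Gm R) T ≫
          (lift ((1 : T ⟶ ThetaS.Gm R) ≫ j) (𝟙 T) ≫ w)) ≫ a.act := by
      intro w hw
      rw [← hα, Category.assoc, Category.assoc, hw, ← Category.assoc, lift_whiskerLeft]
      congr 2
      rw [← Category.assoc, comp_lift, ← Category.assoc, MonObj.comp_one, Category.comp_id]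
    rw [key u hu, key v hv]
    exact congrArg (fun w => lift (fst (ThetaS.Gm R) T) (snd (ThetaS.Gm R) T ≫ w) ≫ a.act) huv
  · intro x u hu
    rw [← cancel_epi ((α_ (ThetaS.Gm R) (ThetaS.Line R) T).hom ≫ 𝟙 _)]
    let e : ThetaS.Line R ⊗ (ThetaS.Gm R ⊗ T) ⟶ ThetaS.Gm R ⊗ (ThetaS.Line R ⊗ T) :=
      lift (snd _ _ ≫ fst _ _) (lift (fst _ _) (snd _ _ ≫ snd _ _))
    let e' : ThetaS.Gm R ⊗ (ThetaS.Line R ⊗ T) ⟶ ThetaS.Line R ⊗ (ThetaS.Gm R ⊗ T) :=
      lift (snd _ _ ≫ fst _ _) (lift (fst _ _) (snd _ _ ≫ snd _ _))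
    have he : e' ≫ e = 𝟙 _ := by
      apply CartesianMonoidalCategory.hom_ext
      · simp [e, e']
      · apply CartesianMonoidalCategory.hom_ext <;> simp [e, e']
    haveI : Epi e := SplitEpi.epi ⟨e', he⟩
    rw [Category.comp_id, cancel_epi (α_ (ThetaS.Gm R) (ThetaS.Line R) T).hom, ← cancel_epi e]
    refine ext_dense R (T := ThetaS.Gm R ⊗ T) ?_
    have hu' : ∀ {P : Over (Spec (CommRingCat.of R))} (g : P ⟶ ThetaS.Gm R) (t : P ⟶ T),
        lift (g ≫ j) t ≫ u = lift g (t ≫ x) ≫ a.act := by
      intro P g t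
      have h := congrArg (lift g t ≫ ·) hu
      rw [← Category.assoc, lift_whiskerRight, ← Category.assoc, lift_whiskerLeft] at h
      exact h
    let h₀ : ThetaS.Gm R ⊗ (ThetaS.Gm R ⊗ T) ⟶ ThetaS.Gm R := fst _ _
    let g₀ : ThetaS.Gm R ⊗ (ThetaS.Gm R ⊗ T) ⟶ ThetaS.Gm R := snd _ _ ≫ fst _ _
    let t₀ : ThetaS.Gm R ⊗ (ThetaS.Gm R ⊗ T) ⟶ T := snd _ _ ≫ snd _ _
    have hje : (j ▷ (ThetaS.Gm R ⊗ T)) ≫ e = lift g₀ (lift (h₀ ≫ j) t₀) := by
      apply CartesianMonoidalCategory.hom_ext
      · simp [e, g₀]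
      · apply CartesianMonoidalCategory.hom_ext <;> simp [e, h₀, t₀]
    show (j ▷ _) ≫ e ≫ _ = (j ▷ _) ≫ e ≫ _
    rw [reassoc_of% hje, lift_lift_associator_inv_assoc, lift_whiskerRight_assoc, hmul, hu',
      reassoc_of% hje, lift_whiskerLeft_assoc, hu', GrpSchLib.act_mul]

end Groth.Agent.S19039
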