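import Groth.Statements.S19060
-- import your own Groth.Agent.* helpers here

import Groth.Agent.CanonDual.H0Flat
import Groth.Agent.FibDimOne.QCVanish
import Groth.Agent.S0002

set_option backward.isDefEq.respectTransparency false
set_option backward.isDefEq.respectTransparency.types false
set_option autoImplicit false
universe u
open CategoryTheory CategoryTheory.Limits AlgebraicGeometry Opposite
open Curves

namespace Groth.Agent.S19060

/-- Let R be a Noetherian ring and X a relative curve over Spec R (proper and smooth, with geometrically
connected fibres of dimension one, and projective: X carries an ample invertible module). Let F be a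
coherent O_X-module which is flat over Spec R (every stalk is a flat module over the local ring of
the base). If H^1(X, F) is a projective R-module, then H^0(X, F) is a projective R-module. (The
source says only that F is an O_X-module flat over the base; F is taken coherent here, as the
finiteness of its cohomology over R used there requires.) -/
theorem result (R : Type u) [CommRing R] [IsNoetherianRing R]
    (X : Scheme.{u}) [X.Over (Spec (CommRingCat.of R))] [IsProper (X ↘ Spec (CommRingCat.of R))]
    [Smooth (X ↘ Spec (CommRingCat.of R))] [GeometricallyConnected (X ↘ Spec (CommRingCat.of R))]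
    (hdim : ∀ s : Spec (CommRingCat.of R), topologicalKrullDim ↥((X ↘ Spec (CommRingCat.of R)).fiber s) = 1)
    (hproj : ∃ M : X.Modules, CohB1.IsAmple M)
    (F : X.Modules) (hF : Coh.IsCoh F) (hfl : FlatMod.IsFlatOver (X ↘ Spec (CommRingCat.of R)) F)
    (h1 : Module.Projective R (Coh.HH X F 1)) :
    Module.Projective R (Coh.HH X F 0) := by
  haveI := Groth.Agent.FibDimOne.isNoetherian_X (A := R) (X := X)
  haveI := Groth.Agent.FibDimOne.isSeparated_X (A := R) (X := X)
  obtain ⟨ι, _, U, hcov, hU⟩ := Groth.Agent.KunnethHH.exists_cover_of_diagonal R X
  have hflat : Module.Flat R (Coh.HH X F 0) := by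
    refine Groth.Agent.CanonDual.H0Flat.flat_H0 U hcov hU hF.1 hfl fun p => ?_
    cases p with
    | zero =>
      haveI := h1
      exact Module.Flat.of_projective
    | succ p =>
      haveI := Groth.Agent.FibDimOne.subsingleton_ge_two_qcoh (A := R) (X := X) (fun y => (hdim y).le) hF.1 p
      exact Module.Flat.of_projective
  haveI := Groth.Agent.S0002.result R X F hF 0
  haveI : Module.FinitePresentation R (Coh.HH X F 0) := Module.finitePresentation_of_finite R _
  exact Module.Flat.projective_of_finitePresentation

end Groth.Agent.S19060
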