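import Groth.Statements.S19098


set_option linter.style.haveILetI false
set_option backward.isDefEq.respectTransparency false
set_option backward.isDefEq.respectTransparency.types false


set_option autoImplicit false
universe u
open CategoryTheory MonoidalCategory CartesianMonoidalCategory MonObj AlgebraicGeometry
open ChGrp

namespace Groth.Agent.S19098

/-- Let S be a scheme, G an S-group scheme acting on an S-scheme X through a, and h an S-point of G. Let
i : Z → G be a homomorphism and ψ : Ψ → G a monomorphism with a G-action on Ψ under which ψ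
intertwines with conjugation, and o an S-point of Ψ over h, such that (Ψ, o) is the homogeneous
space G/Z for the fppf topology through the orbit map g ↦ g h g⁻¹ (so Z is the centralizer of h and
Ψ its conjugacy class). Let incl : X^h → X be a monomorphism whose points are the points of X fixed
by h, with the Z-action restricted from a; let σ : S_Ψ → G ×_S X be a monomorphism whose points are
the pairs (g, x) with g a point of Ψ and g x = x (the part of the global stabilizer over Ψ), with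
the G-action by conjugation on the first entry and by a on the second; and let Φ : G ×_S X^h → S_Ψ
be the morphism (g, x) ↦ (g h g⁻¹, g x). Then Φ makes S_Ψ, with its G-action, the balanced product G
×^Z X^h for the fppf topology: Φ is G-equivariant, it is a Z-torsor for the action z (g, x) = (g
z⁻¹, z x), and it has sections fppf-locally on S_Ψ. (The source works with algebraic spaces of
finite type over the complex numbers and a semisimple conjugacy class Ψ, where the identification of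
Ψ with G/Z comes from the theory of algebraic groups; here that identification is the hypothesis
hhom, the base is arbitrary and X is a scheme.) -/
theorem result
    {S : Scheme.{u}} {G X Z Ψ Xh SΨ : Over S} [GrpObj G] [GrpObj Z]
    (a : AlgGrp.Action G X) (h : 𝟙_ (Over S) ⟶ G)
    (i : Z ⟶ G) [IsMonHom i]
    (ψ : Ψ ⟶ G) [Mono ψ] (aΨ : AlgGrp.Action G Ψ)
    (hψ : aΨ.act ≫ ψ = fst G Ψ * (snd G Ψ ≫ ψ) * (fst G Ψ)⁻¹)
    (o : 𝟙_ (Over S) ⟶ Ψ) (ho : o ≫ ψ = h)
    (hhom : ChGrp.IsHomog Scheme.fppfPrecoverage i aΨ o)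
    (incl : Xh ⟶ X) [Mono incl]
    (hXh : ∀ (T : Over S) (x : T ⟶ X), (∃ y : T ⟶ Xh, y ≫ incl = x) ↔ lift (toUnit T ≫ h) x ≫ a.act = x)
    (aXh : AlgGrp.Action Z Xh) (hincl : AlgGrp.Action.IsEquivariant aXh (a.restrict i) incl)
    (σ : SΨ ⟶ G ⊗ X) [Mono σ]
    (hSΨ : ∀ (T : Over S) (g : T ⟶ G) (x : T ⟶ X),
      (∃ q : T ⟶ SΨ, q ≫ σ = lift g x) ↔ ((∃ y : T ⟶ Ψ, y ≫ ψ = g) ∧ lift g x ≫ a.act = x))
    (aS : AlgGrp.Action G SΨ)
    (hσ : aS.act ≫ σ = lift (fst G SΨ * (snd G SΨ ≫ σ ≫ fst G X) * (fst G SΨ)⁻¹)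
      (lift (fst G SΨ) (snd G SΨ ≫ σ ≫ snd G X) ≫ a.act))
    (Φ : G ⊗ Xh ⟶ SΨ)
    (hΦ : Φ ≫ σ = lift (fst G Xh * (toUnit (G ⊗ Xh) ≫ h) * (fst G Xh)⁻¹)
      (lift (fst G Xh) (snd G Xh ≫ incl) ≫ a.act)) :
    ChGrp.IsBalProd Scheme.fppfPrecoverage i aXh aS Φ := by
  obtain ⟨hmon, hpb, hloc⟩ := hhom
  have hΦ' : ∀ {T : Over S} (g : T ⟶ G) (x : T ⟶ Xh), lift g x ≫ Φ ≫ σ =
      lift (g * (toUnit T ≫ h) * g⁻¹) (lift g (x ≫ incl) ≫ a.act) := fun g x => by
    rw [hΦ, comp_lift, comp_mul, comp_mul, GrpObj.comp_inv, lift_fst, comp_lift_assoc, lift_fst,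
      ← Category.assoc _ (toUnit _) h, toUnit_unique (lift g x ≫ toUnit _) (toUnit _), ← Category.assoc,
      lift_snd]
  have hσ' : ∀ {T : Over S} (u : T ⟶ G) (q : T ⟶ SΨ), lift u q ≫ aS.act ≫ σ =
      lift (u * (q ≫ σ ≫ fst G X) * u⁻¹) (lift u (q ≫ σ ≫ snd G X) ≫ a.act) := fun u q => by
    rw [hσ, comp_lift, comp_mul, comp_mul, GrpObj.comp_inv, lift_fst, comp_lift_assoc, lift_fst]
    simp only [lift_snd_assoc]
  have hψ' : ∀ {T : Over S} (u : T ⟶ G) (y : T ⟶ Ψ), lift u y ≫ aΨ.act ≫ ψ = u * (y ≫ ψ) * u⁻¹ := fun u y => by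
    rw [hψ, comp_mul, comp_mul, GrpObj.comp_inv, lift_fst]
    simp only [lift_snd_assoc]
  have horb : ∀ {T : Over S} (g : T ⟶ G), (g ≫ aΨ.orbitMap o) ≫ ψ = g * (toUnit T ≫ h) * g⁻¹ := fun g => by
    rw [AlgGrp.Action.comp_orbitMap, Category.assoc, hψ', Category.assoc, ho]
  have hincl' : ∀ {T : Over S} (z : T ⟶ Z) (x : T ⟶ Xh), (lift z x ≫ aXh.act) ≫ incl =
      lift (z ≫ i) (x ≫ incl) ≫ a.act := fun z x => by
    rw [Category.assoc, hincl, ← Category.assoc, lift_whiskerLeft, AlgGrp.Action.lift_restrict_act]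
  have hZh : ∀ {T : Over S} (g : T ⟶ G) (z : T ⟶ Z),
      (g * (z ≫ i)) * (toUnit T ≫ h) * (g * (z ≫ i))⁻¹ = g * (toUnit T ≫ h) * g⁻¹ := fun g z => by
    have := congrArg (fun t => (lift g z ≫ t) ≫ ψ) hpb.w
    simp only [← Category.assoc (lift g z)] at this
    rw [lift_fst, lift_whiskerLeft, ← Hom.mul_def, horb, horb] at this
    exact this.symm
  refine ⟨?_, ?_, ?_⟩
  · refine AlgGrp.Action.hom_ext_lift₂ fun T u w => ?_
    obtain ⟨g, x, rfl⟩ : ∃ (g : _ ⟶ G) (x : _ ⟶ Xh), w = lift g x := ⟨w ≫ fst G Xh, w ≫ snd G Xh, by rw [← comp_lift, lift_fst_snd, Category.comp_id]⟩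
    rw [← cancel_mono σ]
    simp only [Category.assoc]
    have e1 : lift u g ≫ (NonAbH1.trivialAction G).act = u * g := (Hom.mul_def u g).symm
    have hfst : (lift g x ≫ Φ) ≫ σ ≫ fst G X = g * (toUnit _ ≫ h) * g⁻¹ := by
      rw [← Category.assoc, Category.assoc (lift g x), hΦ', lift_fst]
    have hsnd : (lift g x ≫ Φ) ≫ σ ≫ snd G X = lift g (x ≫ incl) ≫ a.act := by
      rw [← Category.assoc, Category.assoc (lift g x), hΦ', lift_snd]
    rw [lift_whiskerLeft_assoc, hσ', hfst, hsnd, ← Category.assoc (lift u (lift g x)),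
      AlgGrp.Action.lift_prod_act, AlgGrp.Action.lift_trivial_act, e1, hΦ',
      AlgGrp.Action.lift_mul_act, mul_inv_rev]
    simp only [_root_.mul_assoc]
  · have hw : (twist i aXh).act ≫ Φ = snd Z (G ⊗ Xh) ≫ Φ := by
      refine AlgGrp.Action.hom_ext_lift₂ fun T z w => ?_
      obtain ⟨g, x, rfl⟩ : ∃ (g : _ ⟶ G) (x : _ ⟶ Xh), w = lift g x := ⟨w ≫ fst G Xh, w ≫ snd G Xh, by rw [← comp_lift, lift_fst_snd, Category.comp_id]⟩
      rw [lift_snd_assoc, ← Category.assoc, lift_twist_act, ← cancel_mono σ, Category.assoc, Category.assoc, hΦ', hΦ',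
        hincl', ← AlgGrp.Action.lift_mul_act, inv_mul_cancel_right]
      have e := hZh (g * (z ≫ i)⁻¹) z
      rw [inv_mul_cancel_right] at e
      rw [← e]
    refine ⟨⟨hw⟩, ⟨Limits.PullbackCone.IsLimit.mk hw (fun s => ?_) (fun s => ?_) (fun s => ?_) (fun s m h1 h2 => ?_)⟩⟩
    · let g := s.fst ≫ fst G Xh
      let g' := s.snd ≫ fst G Xh
      refine lift (hpb.lift g g' ?_ ≫ snd G Z) s.snd
      rw [← cancel_mono ψ, horb, horb]
      have hc := congrArg (fun t => t ≫ σ ≫ fst G X) s.condition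
      have e : ∀ w : s.pt ⟶ G ⊗ Xh, (w ≫ Φ) ≫ σ ≫ fst G X =
          (w ≫ fst G Xh) * (toUnit s.pt ≫ h) * (w ≫ fst G Xh)⁻¹ := fun w => by
        conv_lhs => rw [show w = lift (w ≫ fst G Xh) (w ≫ snd G Xh) by rw [← comp_lift, lift_fst_snd, Category.comp_id]]
        simp only [Category.assoc]
        rw [← Category.assoc Φ, ← Category.assoc, hΦ', lift_fst]
      simp only [e] at hc
      exact hc
    · let g := s.fst ≫ fst G Xh
      let g' := s.snd ≫ fst G Xh
      have hcond : g ≫ aΨ.orbitMap o = g' ≫ aΨ.orbitMap o ∧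
          lift g (s.fst ≫ snd G Xh ≫ incl) ≫ a.act = lift g' (s.snd ≫ snd G Xh ≫ incl) ≫ a.act := by
        have e : ∀ w : s.pt ⟶ G ⊗ Xh, (w ≫ Φ) ≫ σ =
            lift ((w ≫ fst G Xh) * (toUnit s.pt ≫ h) * (w ≫ fst G Xh)⁻¹)
              (lift (w ≫ fst G Xh) (w ≫ snd G Xh ≫ incl) ≫ a.act) := fun w => by
          conv_lhs => rw [show w = lift (w ≫ fst G Xh) (w ≫ snd G Xh) by rw [← comp_lift, lift_fst_snd, Category.comp_id]]
          rw [Category.assoc, hΦ', Category.assoc]
        have hc := congrArg (fun t => t ≫ σ) s.condition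
        simp only [e] at hc
        constructor
        · rw [← cancel_mono ψ, horb, horb]
          simpa only [lift_fst] using congrArg (fun t => t ≫ fst G X) hc
        · simpa only [lift_snd] using congrArg (fun t => t ≫ snd G X) hc
      set z := hpb.lift g g' hcond.1 ≫ snd G Z with hz
      have hgz : g * (z ≫ i) = g' := by
        have h2 := hpb.lift_snd g g' hcond.1
        have h1 := hpb.lift_fst g g' hcond.1
        rw [show hpb.lift g g' hcond.1 = lift g z by rw [hz]; conv_lhs => rw [← Category.comp_id (hpb.lift g g' hcond.1), ← lift_fst_snd, comp_lift, h1],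
          lift_whiskerLeft_assoc, ← Hom.mul_def] at h2
        exact h2
      show lift z s.snd ≫ (twist i aXh).act = s.fst
      conv_lhs => rw [show s.snd = lift g' (s.snd ≫ snd G Xh) by rw [← comp_lift, lift_fst_snd, Category.comp_id]]
      rw [lift_twist_act]
      refine CartesianMonoidalCategory.hom_ext _ _ ((lift_fst _ _).trans (mul_inv_eq_iff_eq_mul.2 hgz.symm)) ?_
      rw [lift_snd, ← cancel_mono incl, hincl']
      simp only [Category.assoc]
      have := congrArg (fun t => lift g⁻¹ t ≫ a.act) hcond.2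
      simp only [← AlgGrp.Action.lift_mul_act, inv_mul_cancel, AlgGrp.Action.lift_one_act] at this
      rw [this, show z ≫ i = g⁻¹ * g' from eq_inv_mul_iff_mul_eq.2 hgz]
    · exact lift_snd _ _
    · refine CartesianMonoidalCategory.hom_ext _ _ ?_ (by rw [lift_snd]; exact h2)
      rw [lift_fst]
      let g := s.fst ≫ fst G Xh
      let g' := s.snd ≫ fst G Xh
      have hm : m = lift (m ≫ fst Z (G ⊗ Xh)) (lift g' (s.snd ≫ snd G Xh)) := by
        conv_lhs => rw [← Category.comp_id m, ← lift_fst_snd, comp_lift, h2]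
        rw [← comp_lift, lift_fst_snd, Category.comp_id]
      have h3 := congrArg (fun t => t ≫ fst G Xh) h1
      rw [hm, lift_twist_act, lift_fst] at h3
      have : lift g (m ≫ fst Z (G ⊗ Xh)) = hpb.lift g g' (by
          rw [← cancel_mono ψ, horb, horb, ← hZh g (m ≫ fst Z (G ⊗ Xh)),
            show g = g' * ((m ≫ fst Z (G ⊗ Xh)) ≫ i)⁻¹ from h3.symm, inv_mul_cancel_right]) := by
        refine hpb.hom_ext ?_ ?_
        · rw [hpb.lift_fst, lift_fst]
        · rw [hpb.lift_snd, lift_whiskerLeft_assoc, ← Hom.mul_def,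
            show g = g' * ((m ≫ fst Z (G ⊗ Xh)) ≫ i)⁻¹ from h3.symm, inv_mul_cancel_right]
      show m ≫ fst Z (G ⊗ Xh) = _ ≫ snd G Z
      rw [← this, lift_snd]
  · obtain ⟨R, hR, hRs⟩ := hloc
    obtain ⟨⟨r, hr⟩, hfix⟩ := (hSΨ SΨ (σ ≫ fst G X) (σ ≫ snd G X)).1
      ⟨𝟙 _, by rw [Category.id_comp, ← comp_lift, lift_fst_snd, Category.comp_id]⟩
    refine ⟨R.pullbackArrows r.left, Precoverage.pullbackArrows_mem r.left hR, ?_⟩
    rintro _ _ ⟨S', f, hf⟩
    obtain ⟨u, hu⟩ := hRs f hf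
    let w := Limits.pullback.fst f r.left
    let v := Limits.pullback.snd f r.left
    let T : Over S := Over.mk (v ≫ SΨ.hom)
    let q : T ⟶ SΨ := Over.homMk v rfl
    have hu' : u ≫ (aΨ.orbitMap o).left = f := hu
    let g : T ⟶ G := Over.homMk (w ≫ u) (by
      show (w ≫ u) ≫ G.hom = v ≫ SΨ.hom
      rw [← Over.w (aΨ.orbitMap o), Category.assoc, reassoc_of% hu', ← Category.assoc, Limits.pullback.condition,
        Category.assoc, Over.w r])
    have hg : g ≫ aΨ.orbitMap o = q ≫ r := Over.OverMorphism.ext (by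
      show (w ≫ u) ≫ (aΨ.orbitMap o).left = v ≫ r.left
      rw [Category.assoc, hu', Limits.pullback.condition])
    have hc : g * (toUnit T ≫ h) * g⁻¹ = q ≫ σ ≫ fst G X := by rw [← horb, hg, Category.assoc, hr]
    let x' := lift g⁻¹ (q ≫ σ ≫ snd G X) ≫ a.act
    have hfix' : lift (q ≫ σ ≫ fst G X) (q ≫ σ ≫ snd G X) ≫ a.act = q ≫ σ ≫ snd G X := by
      rw [← comp_lift_assoc, hfix]
    obtain ⟨y, hy⟩ := (hXh T x').2 (by
      show lift _ (lift g⁻¹ _ ≫ a.act) ≫ a.act = lift g⁻¹ _ ≫ a.act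
      rw [← AlgGrp.Action.lift_mul_act]
      conv_rhs => rw [← hfix', ← AlgGrp.Action.lift_mul_act, ← hc]
      rw [_root_.mul_assoc g, inv_mul_cancel_left])
    refine ⟨(lift g y).left, ?_⟩
    show (lift g y).left ≫ Φ.left = q.left
    rw [← Over.comp_left]
    congr 1
    rw [← cancel_mono σ, Category.assoc, hΦ', hc, hy]
    show lift _ (lift g (lift g⁻¹ _ ≫ a.act) ≫ a.act) = _
    rw [← AlgGrp.Action.lift_mul_act, mul_inv_cancel, AlgGrp.Action.lift_one_act, ← comp_lift, ← comp_lift,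
      lift_fst_snd, Category.comp_id]
end Groth.Agent.S19098
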