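import Groth.Statements.S19146
import Groth.Agent.TwDescend.Valuative
import Groth.Agent.TwDescend.Components
import Groth.Agent.CplSplit.Basic
import Groth.Agent.EtFound.Henselian
-- import your own Groth.Agent.* helpers here

set_option autoImplicit false
open CategoryTheory MonoidalCategory CartesianMonoidalCategory MonObj GrpObj AlgebraicGeometry
universe u
open TwC

namespace Groth.Agent.S19146

/-- Let R be a henselian local ring, s the closed point of S = Spec R, and X a quasi-isotrivial twisted
constant S-scheme (etale-locally on S isomorphic to a constant scheme). Then X is the disjoint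
union, over the points x of the closed fibre X_s, of the local schemes X(x) = Spec O_{X,x}: for each
such x the canonical morphism Spec O_{X,x} ⟶ X is an open and closed immersion and X(x) is a finite
etale cover of S (finite, etale, surjective), every point of X lies in X(x) for exactly one x ∈ X_s,
and restricting a section of X ⟶ S to the closed point is a bijection from the sections of X over S
onto the sections of X_s over s. -/
theorem result (R : Type u) [CommRing R] [HenselianLocalRing R]
    (X : Over (Spec (CommRingCat.of R))) (hX : TwC.IsTwConst TwC.Topology.etale X) :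
    (∀ x : X.left, X.hom.base x = IsLocalRing.closedPoint R →
      IsOpenImmersion (X.left.fromSpecStalk x) ∧ IsClosedImmersion (X.left.fromSpecStalk x) ∧
        IsFinite (X.left.fromSpecStalk x ≫ X.hom) ∧ Etale (X.left.fromSpecStalk x ≫ X.hom) ∧
        Surjective (X.left.fromSpecStalk x ≫ X.hom)) ∧
    (∀ y : X.left, ∃! x : X.left, X.hom.base x = IsLocalRing.closedPoint R ∧
      y ∈ Set.range (X.left.fromSpecStalk x).base) ∧
    (∀ σ₁ σ₂ : Spec (CommRingCat.of R) ⟶ X.left, σ₁ ≫ X.hom = 𝟙 _ → σ₂ ≫ X.hom = 𝟙 _ →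
      Spec.map (CommRingCat.ofHom (IsLocalRing.residue R)) ≫ σ₁ = Spec.map (CommRingCat.ofHom (IsLocalRing.residue R)) ≫ σ₂ → σ₁ = σ₂) ∧
    (∀ τ : Spec (CommRingCat.of (IsLocalRing.ResidueField R)) ⟶ X.left,
      τ ≫ X.hom = Spec.map (CommRingCat.ofHom (IsLocalRing.residue R)) →
      ∃ σ : Spec (CommRingCat.of R) ⟶ X.left, σ ≫ X.hom = 𝟙 _ ∧ Spec.map (CommRingCat.ofHom (IsLocalRing.residue R)) ≫ σ = τ) := by
  obtain ⟨hsep, het⟩ := Groth.Agent.TwDescend.isSeparated_etale X hX
  haveI : LocallyQuasiFinite X.hom := Groth.Agent.TwDescend.locallyQuasiFinite_of_etale X.hom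
  have hdisc : ∀ x : X.left, X.hom.base x = IsLocalRing.closedPoint R →
      IsFinite (X.left.fromSpecStalk x ≫ X.hom) ∧ IsOpenImmersion (X.left.fromSpecStalk x) ∧
        IsClosedImmersion (X.left.fromSpecStalk x) := fun x hx => by
    refine Groth.Agent.CplSplit.local_finite_split R X.left X.hom x hx ?_
    haveI : DiscreteTopology (X.hom ⁻¹' {IsLocalRing.closedPoint R}) :=
      (X.hom.isDiscrete_preimage_singleton _).to_subtype
    exact isOpen_discrete _
  refine ⟨fun x hx => ?_, fun y => ?_, fun σ₁ σ₂ h₁ h₂ he => ?_, fun τ hτ => ?_⟩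
  · obtain ⟨h1, h2, h3⟩ := hdisc x hx
    haveI := h1
    haveI := h2
    refine ⟨h2, h3, h1, inferInstance, ⟨fun z => ?_⟩⟩
    have hcp : IsLocalRing.closedPoint R ∈ Set.range (X.left.fromSpecStalk x ≫ X.hom) :=
      ⟨IsLocalRing.closedPoint _, by
        rw [Scheme.Hom.comp_apply, X.left.fromSpecStalk_closedPoint]
        exact hx⟩
    obtain ⟨w, hw⟩ := hcp
    have hsp : z ⤳ (X.left.fromSpecStalk x ≫ X.hom) w := hw ▸ IsLocalRing.specializes_closedPoint z
    obtain ⟨w', -, hw'⟩ := Flat.generalizingMap (X.left.fromSpecStalk x ≫ X.hom) hsp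
    exact ⟨w', hw'⟩
  · obtain ⟨x, hyx, hx⟩ := ValuativeCriterion.Existence.specializingMap X.hom
      (Groth.Agent.TwDescend.existence X hX) (show X.hom y ⤳ IsLocalRing.closedPoint R from
        IsLocalRing.specializes_closedPoint _)
    refine ⟨x, ⟨hx, by rw [Scheme.range_fromSpecStalk]; exact hyx⟩, fun x' ⟨hx', hy'⟩ => ?_⟩
    rw [Scheme.range_fromSpecStalk] at hy'
    obtain ⟨-, h2, h3⟩ := hdisc x hx
    haveI := h2
    haveI := h3
    have hr : x' ∈ Set.range (X.left.fromSpecStalk x) :=
      hy'.mem_closed (X.left.fromSpecStalk x).isClosedEmbedding.isClosed_range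
        (by rw [Scheme.range_fromSpecStalk]; exact hyx)
    rw [Scheme.range_fromSpecStalk] at hr
    haveI : DiscreteTopology (X.hom ⁻¹' {IsLocalRing.closedPoint R}) :=
      (X.hom.isDiscrete_preimage_singleton _).to_subtype
    exact congrArg Subtype.val ((Topology.IsInducing.subtypeVal.specializes_iff.mp
      (show (⟨x', hx'⟩ : X.hom ⁻¹' {IsLocalRing.closedPoint R}).1 ⤳
        (⟨x, hx⟩ : X.hom ⁻¹' {IsLocalRing.closedPoint R}).1 from hr)).eq)
  · obtain ⟨σ, -, huniq⟩ := Groth.Agent.EtFound.existsUnique_section R X.hom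
      (Groth.Agent.EtFound.cpt R ≫ σ₁) (by rw [Category.assoc, h₁, Category.comp_id])
    exact (huniq σ₁ ⟨h₁, rfl⟩).trans (huniq σ₂ ⟨h₂, he.symm⟩).symm
  · obtain ⟨σ, hσ, -⟩ := Groth.Agent.EtFound.existsUnique_section R X.hom τ hτ
    exact ⟨σ, hσ⟩

end Groth.Agent.S19146
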