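import Groth.Statements.S19149
import Mathlib.RingTheory.Smooth.Local
import Mathlib.RingTheory.Smooth.Locus
import Mathlib.RingTheory.Etale.Kaehler
import Mathlib.RingTheory.Kaehler.Basic
import Mathlib.RingTheory.LocalRing.ResidueField.Basic
import Mathlib.RingTheory.Smooth.Flat
import Mathlib.Tactic.LinearCombination

set_option autoImplicit false
universe u
open GrpSch

namespace Groth.Agent.S19149

open scoped TensorProduct

/-- In affine form, let R be a commutative ring, A a smooth R-algebra with an augmentation ε : A → R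
(the unit section of G = Spec A over S = Spec R), I = ker ε its augmentation ideal, and J ⊆ I an
ideal (defining a closed subscheme H of G through the unit section) such that (1) J is finitely
generated, (2) J ∩ I² = I·J in A, and (3) I/(J + I²) is a finitely generated projective R-module
(finite locally free on S). Then H = Spec (A/J) is smooth over S at every point of the unit section:
for every prime P of A/J containing the image of I, the localization (A/J)_P is formally smooth over
R. (The source states this for G an affine smooth group scheme over a scheme S and H a closed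
subgroup, concluding that the neutral component H° is a smooth open subgroup scheme; that conclusion
is smoothness of H along the unit section, which is the statement here in affine form; the group
structure is not used.) -/
theorem result (R A : Type u) [CommRing R] [CommRing A] [Algebra R A]
    [Algebra.Smooth R A] (ε : A →ₐ[R] R) (J : Ideal A) (hJI : J ≤ RingHom.ker ε)
    (h1 : J.FG)
    (h2 : J ⊓ RingHom.ker ε ^ 2 = RingHom.ker ε * J)
    (h3 : Module.Finite R (↥(RingHom.ker ε) ⧸ Submodule.comap (RingHom.ker ε).subtype (J ⊔ RingHom.ker ε ^ 2)) ∧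
      Module.Projective R (↥(RingHom.ker ε) ⧸ Submodule.comap (RingHom.ker ε).subtype (J ⊔ RingHom.ker ε ^ 2)))
    (P : Ideal (A ⧸ J)) [P.IsPrime] (hP : (RingHom.ker ε).map (Ideal.Quotient.mk J) ≤ P) :
    Algebra.IsSmoothAt R P := by
  classical
  obtain ⟨-, h3⟩ := h3
  let I : Ideal A := RingHom.ker ε
  let q : Ideal A := P.comap (Ideal.Quotient.mk J)
  haveI : q.IsPrime := Ideal.IsPrime.comap _
  let B := Localization.AtPrime q
  let S := Localization.AtPrime P
  let φ : B →+* S := Localization.localRingHom q P (Ideal.Quotient.mk J) rfl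
  letI : Algebra B S := φ.toAlgebra
  have hφ : ∀ a : A, algebraMap B S (algebraMap A B a) = algebraMap (A ⧸ J) S (Ideal.Quotient.mk J a) := fun a =>
    Localization.localRingHom_to_map q P (Ideal.Quotient.mk J) rfl a
  haveI : IsScalarTower R B S := IsScalarTower.of_algebraMap_eq fun r => by
    rw [IsScalarTower.algebraMap_apply R A B, hφ, IsScalarTower.algebraMap_apply R (A ⧸ J) S]
    rfl
  haveI : Algebra.FormallySmooth R B := .comp R A B
  haveI : Module.Finite B Ω[B⁄R] := inferInstance
  haveI : Module.Free B Ω[B⁄R] := Module.free_of_flat_of_isLocalRing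
  have hqsup : J ≤ q := fun x hx => by simp [q, Ideal.Quotient.eq_zero_iff_mem.mpr hx]
  have hsurj : Function.Surjective (algebraMap B S) := fun y => by
    obtain ⟨a', ⟨s', hs'⟩, rfl⟩ := IsLocalization.exists_mk'_eq P.primeCompl y
    obtain ⟨a, rfl⟩ := Ideal.Quotient.mk_surjective a'
    obtain ⟨s, rfl⟩ := Ideal.Quotient.mk_surjective s'
    refine ⟨IsLocalization.mk' B a (⟨s, hs'⟩ : q.primeCompl), ?_⟩
    exact Localization.localRingHom_mk' q P (Ideal.Quotient.mk J) rfl a ⟨s, hs'⟩
  have hker : RingHom.ker (algebraMap B S) = J.map (algebraMap A B) := by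
    refine le_antisymm (fun x hx => ?_) (Ideal.map_le_iff_le_comap.mpr fun j hj => ?_)
    · obtain ⟨a, s, rfl⟩ := IsLocalization.exists_mk'_eq q.primeCompl x
      rw [RingHom.mem_ker, show algebraMap B S (IsLocalization.mk' B a s) = _ from
        Localization.localRingHom_mk' q P (Ideal.Quotient.mk J) rfl a s, IsLocalization.mk'_eq_zero_iff] at hx
      obtain ⟨⟨t', ht'⟩, ht⟩ := hx
      obtain ⟨t, rfl⟩ := Ideal.Quotient.mk_surjective t'
      rw [← map_mul, Ideal.Quotient.eq_zero_iff_mem] at ht
      exact (IsLocalization.mk'_mem_map_algebraMap_iff q.primeCompl B J a s).mpr ⟨t, ht', ht⟩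
    · rw [Ideal.mem_comap, RingHom.mem_ker, hφ, Ideal.Quotient.eq_zero_iff_mem.mpr hj, map_zero]
  let K := IsLocalRing.ResidueField S
  haveI : IsScalarTower A B S := IsScalarTower.of_algebraMap_eq fun a => by
    rw [hφ, IsScalarTower.algebraMap_apply A (A ⧸ J) S]; rfl
  refine (Algebra.FormallySmooth.iff_injective_cotangentComplexBaseChange_residueField B hsurj
    (hker ▸ h1.map _)).mpr ?_
  -- the residue field sees `A` through the section
  have hIK : ∀ x ∈ I, algebraMap B K (algebraMap A B x) = 0 := fun x hx => by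
    rw [IsScalarTower.algebraMap_apply B S K, hφ]
    refine (IsLocalRing.residue_eq_zero_iff _).mpr ?_
    rw [← Localization.AtPrime.map_eq_maximalIdeal (I := P)]
    exact Ideal.mem_map_of_mem _ (hP (Ideal.mem_map_of_mem _ hx))
  let kerB := RingHom.ker (algebraMap B S)
  let M := K ⊗[B] kerB
  have hsm : ∀ (a : A) (m : M), a • m = ε a • m := fun a m => by
    rw [← algebraMap_smul B a m, ← algebraMap_smul K (algebraMap A B a) m,
      show algebraMap B K (algebraMap A B a) = algebraMap B K (algebraMap R B (ε a)) from ?_,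
      algebraMap_smul, algebraMap_smul]
    rw [← sub_eq_zero, ← map_sub, IsScalarTower.algebraMap_apply R A B, ← map_sub]
    exact hIK _ (by simp [I, RingHom.mem_ker])
  have hmemk : ∀ j : J, algebraMap A B j ∈ kerB := fun j => by
    simp only [kerB, hker]; exact Ideal.mem_map_of_mem _ j.2
  let Φ : J →ₗ[A] M :=
    { toFun := fun j => (1 : K) ⊗ₜ[B] ⟨algebraMap A B j, hmemk j⟩
      map_add' := fun x y => by
        rw [← TensorProduct.tmul_add]
        exact congrArg _ (Subtype.ext (map_add _ _ _))
      map_smul' := fun a x => by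
        simp only [RingHom.id_apply]
        conv_rhs => rw [← algebraMap_smul B a, ← TensorProduct.tmul_smul]
        exact congrArg _ (Subtype.ext (map_mul _ _ _)) }
  have hΦ : ∀ x : J, (x : A) ∈ I * J → Φ x = 0 := fun x hx => by
    obtain ⟨x, hxJ⟩ := x
    suffices h : ∀ y ∈ I * J, ∃ hy : y ∈ J, Φ ⟨y, hy⟩ = 0 from (h x hx).2
    intro y hy
    refine Submodule.mul_induction_on hy (fun a ha b hb => ⟨J.mul_mem_left a hb, ?_⟩) (fun a b ⟨ha, ha'⟩ ⟨hb, hb'⟩ =>
      ⟨J.add_mem ha hb, ?_⟩)
    · rw [show (⟨a * b, J.mul_mem_left a hb⟩ : J) = a • ⟨b, hb⟩ from rfl, map_smul, hsm,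
        show ε a = 0 from ha, zero_smul]
    · rw [show (⟨a + b, J.add_mem ha hb⟩ : J) = ⟨a, ha⟩ + ⟨b, hb⟩ from rfl, map_add, ha', hb', add_zero]
  -- a retraction
  let T : Submodule A I := Submodule.comap I.subtype (J ⊔ I ^ 2)
  haveI : Module.Projective R (I ⧸ T) := h3
  obtain ⟨sec, hsec⟩ := Module.projective_lifting_property (T.mkQ.restrictScalars R) LinearMap.id T.mkQ_surjective
  let pr : A → I := fun a => ⟨a - algebraMap R A (ε a), by simp [I, RingHom.mem_ker]⟩
  let res : A → A := fun a => (pr a : A) - (sec (T.mkQ (pr a)) : A)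
  have hres : ∀ a, res a ∈ J ⊔ I ^ 2 := fun a =>
    (Submodule.Quotient.eq T).mp (LinearMap.congr_fun hsec (T.mkQ (pr a))).symm
  choose cJ hcJ cI hcI hsum using fun a => Submodule.mem_sup.mp (hres a)
  let D : A → M := fun a => Φ ⟨cJ a, hcJ a⟩
  have huniq : ∀ (a : A) (j : J) (w : A), w ∈ I ^ 2 → (j : A) + w = res a → D a = Φ j := fun a j w hw h => by
    refine sub_eq_zero.mp ((map_sub Φ _ _).symm.trans (hΦ _ ?_))
    show cJ a - (j : A) ∈ I * J
    rw [← h2]
    refine ⟨J.sub_mem (hcJ a) j.2, ?_⟩
    rw [show cJ a - (j : A) = w - cI a by linear_combination (hsum a) - h]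
    exact Ideal.sub_mem _ hw (hcI a)
  have hprc : ∀ (r : R) a, pr (r • a) = r • pr a := fun r a => Subtype.ext (by
    simp [pr, Algebra.smul_def, map_mul, mul_sub])
  have hpra : ∀ a b, pr (a + b) = pr a + pr b := fun a b => Subtype.ext (by simp [pr]; ring)
  let Dl : A →ₗ[R] M :=
    { toFun := D
      map_add' := fun a b => by
        refine (huniq (a + b) (⟨cJ a, hcJ a⟩ + ⟨cJ b, hcJ b⟩) (cI a + cI b) (add_mem (hcI a) (hcI b)) ?_).trans (map_add Φ _ _)
        simp only [res, hpra, map_add, Submodule.coe_add]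
        linear_combination (hsum a) + (hsum b)
      map_smul' := fun r a => by
        refine (huniq (r • a) (r • ⟨cJ a, hcJ a⟩) (r • cI a) (Submodule.smul_of_tower_mem _ r (hcI a)) ?_).trans
          (LinearMap.map_smul_of_tower Φ r _)
        show r • cJ a + r • cI a = _
        rw [← smul_add, hsum]
        simp only [res, hprc, LinearMap.map_smul_of_tower, smul_sub, SetLike.val_smul_of_tower] }
  have hD1 : Dl 1 = 0 := by
    have hp : pr 1 = 0 := Subtype.ext (by simp [pr])
    refine (huniq 1 0 0 (Submodule.zero_mem _) ?_).trans (map_zero _)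
    simp [res, hp]
  have hleib : ∀ a b, Dl (a * b) = a • Dl b + b • Dl a := fun a b => by
    rw [hsm, hsm, ← map_smul, ← map_smul, ← map_add]
    let w : I := ⟨(pr a : A) * pr b, I.mul_mem_right _ (pr a).2⟩
    have hw : (w : A) ∈ I ^ 2 := by rw [sq]; exact Ideal.mul_mem_mul (pr a).2 (pr b).2
    have hpr : pr (a * b) = pr (ε a • b + ε b • a) + w := Subtype.ext (by
      simp [pr, w, Algebra.smul_def, map_mul, map_add]; ring)
    have hwq : T.mkQ w = 0 := (Submodule.Quotient.mk_eq_zero T).mpr (Submodule.mem_sup_right hw)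
    set c := ε a • b + ε b • a
    refine huniq _ ⟨cJ c, hcJ c⟩ (cI c + w) (add_mem (hcI c) hw) ?_
    show cJ c + (cI c + (w : A)) = res (a * b)
    simp only [res, hpr, map_add, hwq, add_zero, Submodule.coe_add]
    linear_combination (hsum c)
  have hDJ : ∀ j : J, Dl (j : A) = Φ j := fun j => by
    have hp : (pr (j : A) : A) = j := by simp [pr, show ε (j : A) = 0 from hJI j.2]
    have hq : T.mkQ (pr (j : A)) = 0 :=
      (Submodule.Quotient.mk_eq_zero T).mpr (Submodule.mem_sup_left (show (pr (j : A) : A) ∈ J by rw [hp]; exact j.2))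
    refine huniq _ j 0 (Submodule.zero_mem _) ?_
    simp only [res, hq, map_zero, Submodule.coe_zero, hp, add_zero, sub_zero]
  let der : Derivation R A M := { Dl with map_one_eq_zero' := hD1, leibniz' := hleib }
  have hunit : ∀ x : q.primeCompl, IsUnit (algebraMap A (Module.End A M) x) := fun x => by
    rw [Module.End.isUnit_iff]
    obtain ⟨u, hu⟩ := IsLocalization.map_units B x
    have e : ∀ m : M, algebraMap A (Module.End A M) x m = (u : B) • m := fun m => by
      rw [Module.algebraMap_end_apply, hu, algebraMap_smul]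
    constructor
    · intro m m' h
      rw [e, e] at h
      exact u.isUnit.smul_left_cancel.mp h
    · intro m
      exact ⟨(↑u⁻¹ : B) • m, by rw [e, smul_smul, Units.mul_inv, one_smul]⟩
  let loc := KaehlerDifferential.map R R A B
  let L₀ : Ω[B⁄R] →ₗ[A] M := IsLocalizedModule.lift q.primeCompl loc der.liftKaehlerDifferential hunit
  let L : Ω[B⁄R] →ₗ[B] M := LinearMap.extendScalarsOfIsLocalization q.primeCompl B L₀
  have hL : ∀ j : J, L (KaehlerDifferential.D R B (algebraMap A B j)) = Φ j := fun j => by
    rw [← hDJ, show KaehlerDifferential.D R B (algebraMap A B j) = loc (KaehlerDifferential.D R A j) from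
      (KaehlerDifferential.map_D R R A B _).symm]
    show L₀ (loc _) = _
    rw [IsLocalizedModule.lift_apply, Derivation.liftKaehlerDifferential_comp_D]
    rfl
  let g : K ⊗[B] Ω[B⁄R] →ₗ[K] M := LinearMap.liftBaseChange K L
  refine Function.LeftInverse.injective (g := g) fun x => ?_
  suffices h : g ∘ₗ KaehlerDifferential.cotangentComplexBaseChange R S B K = LinearMap.id from LinearMap.congr_fun h x
  apply TensorProduct.AlgebraTensorModule.curry_injective
  refine LinearMap.ext_ring (LinearMap.ext fun y => ?_)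
  obtain ⟨y, hy⟩ := y
  show g (KaehlerDifferential.cotangentComplexBaseChange R S B K ((1 : K) ⊗ₜ[B] ⟨y, hy⟩)) = (1 : K) ⊗ₜ[B] ⟨y, hy⟩
  rw [KaehlerDifferential.cotangentComplexBaseChange_tmul, one_smul, KaehlerDifferential.kerToTensor_apply]
  simp only [g, TensorProduct.AlgebraTensorModule.cancelBaseChange_tmul, LinearMap.liftBaseChange_tmul, one_smul]
  have key : ∀ z ∈ J.map (algebraMap A B), ∃ hz : z ∈ kerB, L (KaehlerDifferential.D R B z) = (1 : K) ⊗ₜ[B] ⟨z, hz⟩ := by
    intro z hz
    rw [Ideal.map] at hz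
    induction hz using Submodule.span_induction with
    | mem z hz =>
      obtain ⟨j, hj, rfl⟩ := hz
      exact ⟨hmemk ⟨j, hj⟩, hL ⟨j, hj⟩⟩
    | zero => exact ⟨zero_mem _, by rw [map_zero, map_zero]; exact (TensorProduct.tmul_zero _ _).symm⟩
    | add z z' _ _ hz hz' =>
      obtain ⟨h1', e1⟩ := hz
      obtain ⟨h2', e2⟩ := hz'
      refine ⟨add_mem h1' h2', ?_⟩
      rw [map_add, map_add, e1, e2, ← TensorProduct.tmul_add]
      rfl
    | smul b z _ hz =>
      obtain ⟨h1', e1⟩ := hz
      refine ⟨Ideal.mul_mem_left _ b h1', ?_⟩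
      have hz0 : algebraMap B K z = 0 := by
        rw [IsScalarTower.algebraMap_apply B S K, RingHom.mem_ker.mp h1', map_zero]
      show L (KaehlerDifferential.D R B (b * z)) = (1 : K) ⊗ₜ[B] (⟨b * z, _⟩ : kerB)
      rw [Derivation.leibniz, map_add, map_smul, map_smul, e1, ← algebraMap_smul K z, hz0, zero_smul,
        add_zero, ← TensorProduct.tmul_smul]
      rfl
  exact (key y (hker ▸ hy)).2

end Groth.Agent.S19149
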