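import Groth.Statements.S19163
import Groth.Agent.TransLib.Universal
import Groth.Agent.TransLib.MultEssFree
import Groth.Agent.GrpSchLib.MultTypeBC
import Groth.Agent.AlgSpPts.Sep


set_option autoImplicit false
open CategoryTheory MonoidalCategory CartesianMonoidalCategory MonObj GrpObj AlgebraicGeometry
universe u
open SGA3x

namespace Groth.Agent.S19163

/-- Let Γ be a non-trivial totally ordered commutative group and H ⟶ G a closed immersion of reductive
S-groups (a homomorphism which is a closed immersion). Let A_H with υ_H, resp. A_G with υ_G,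
represent the functor of group homomorphisms D_S(Γ) ⟶ H, resp. D_S(Γ) ⟶ G, and let φ : A_H ⟶ A_G be
the S-morphism induced by composing with H ⟶ G (the universal family over A_H followed by H ⟶ G is
the pull-back of υ_G along φ). Then φ is a closed immersion, locally of finite presentation. -/
theorem result {S : Scheme.{u}}
    (Γ : Type) [AddCommGroup Γ] [LinearOrder Γ] [IsOrderedAddMonoid Γ] [Nontrivial Γ]
    (H G : Over S) [GrpObj H] [GrpObj G] (hH : Red.IsReductive H) (hG : Red.IsReductive G)
    (k : H ⟶ G) [IsMonHom k] (hk : IsClosedImmersion k.left)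
    (AH : Over S) (υH : Red.DS S Γ ⊗ AH ⟶ H) (hAH : AutFam.RepresentsHom (Red.DS S Γ) H AH υH)
    (AG : Over S) (υG : Red.DS S Γ ⊗ AG ⟶ G) (hAG : AutFam.RepresentsHom (Red.DS S Γ) G AG υG)
    (φ : AH ⟶ AG) (hφ : (Red.DS S Γ ◁ φ) ≫ υG = υH ≫ k) :
    IsClosedImmersion φ.left ∧ LocallyOfFinitePresentation φ.left := by
  have hW := Groth.Agent.TransLib.multType_essFree (H := Red.DS S Γ)
    ⟨S, 𝟙 S, inferInstance, inferInstance, fun V hV => ⟨V, hV.isCompact, by simp⟩, fun s => ⟨⊤, trivial, Γ, inferInstance,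
      Groth.Agent.GrpSchLib.MultTypeBC.bc_DS _ Γ⟩⟩
  haveI := hW.1
  haveI : Mono k.left := inferInstance
  haveI : Mono k := Over.mono_of_mono_left k
  obtain ⟨Z, c, hc, hfp, hZ⟩ := Groth.Agent.TransLib.exists_closed_universal_essFree hW.2 υG k
  haveI := hc
  haveI : Mono c := Over.mono_of_mono_left c
  haveI : Smooth H.hom := hH.2.1
  haveI : Smooth G.hom := hG.2.1
  haveI : LocallyOfFinitePresentation k.left := by
    haveI : LocallyOfFinitePresentation (k.left ≫ G.hom) := by rw [Over.w k]; infer_instance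
    haveI : LocallyOfFiniteType G.hom := inferInstance
    exact Groth.Agent.AlgSpPts.locallyOfFinitePresentation_of_comp k.left G.hom
  obtain ⟨z, hz⟩ := (hZ φ).mpr ⟨υH, hφ.symm⟩
  obtain ⟨l, hl⟩ := (hZ c).mp ⟨𝟙 Z, Category.id_comp c⟩
  have hlfam : AutFam.IsHomFamily (Red.DS S Γ) H l := fun X g₁ g₂ t => by
    rw [← cancel_mono k, MonObj.mul_comp, Category.assoc, Category.assoc, Category.assoc, hl,
      ← Category.assoc, ← Category.assoc, ← Category.assoc, lift_whiskerLeft, lift_whiskerLeft, lift_whiskerLeft]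
    exact hAG.1 X g₁ g₂ (t ≫ c)
  obtain ⟨a, ha, -⟩ := hAH.2 Z l hlfam
  have hGfam : AutFam.IsHomFamily (Red.DS S Γ) G ((Red.DS S Γ ◁ c) ≫ υG) := fun X g₁ g₂ t => by
    rw [← Category.assoc, ← Category.assoc, ← Category.assoc, lift_whiskerLeft, lift_whiskerLeft, lift_whiskerLeft]
    exact hAG.1 X g₁ g₂ (t ≫ c)
  have hac : a ≫ φ = c := by
    refine (hAG.2 Z _ hGfam).unique ?_ rfl
    rw [MonoidalCategory.whiskerLeft_comp, Category.assoc, hφ, ← Category.assoc, ha, hl]
  have hza : z ≫ a = 𝟙 AH := by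
    refine (hAH.2 AH υH hAH.1).unique ?_ (by rw [MonoidalCategory.whiskerLeft_id, Category.id_comp])
    rw [← cancel_mono k, MonoidalCategory.whiskerLeft_comp, Category.assoc, Category.assoc,
      reassoc_of% ha, hl, ← Category.assoc, ← MonoidalCategory.whiskerLeft_comp, hz, hφ]
  have haz : a ≫ z = 𝟙 Z := by rw [← cancel_mono c, Category.assoc, hz, hac, Category.id_comp]
  haveI : IsIso z.left :=
    ⟨a.left, by rw [← Over.comp_left, hza]; rfl, by rw [← Over.comp_left, haz]; rfl⟩
  haveI : LocallyOfFinitePresentation c.left := hfp inferInstance inferInstance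
  rw [← hz, Over.comp_left]
  exact ⟨inferInstance, inferInstance⟩

end Groth.Agent.S19163
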