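import Groth.Statements.S19176
import Mathlib.RingTheory.MvPolynomial.Ideal
import Mathlib.Algebra.MvPolynomial.PDeriv
import Mathlib.Algebra.CharP.Two
import Mathlib.Tactic.LinearCombination
import Mathlib.LinearAlgebra.Dimension.Constructions

set_option autoImplicit false
universe u
open PlaneCurve

namespace Groth.Agent.S19176

open MvPolynomial in
theorem finrank_monomial_quot (k : Type u) [Field k] (a b : ℕ) :
    Module.finrank k (MvPolynomial (Fin 2) k ⧸ Ideal.span
      ({X 0 ^ a, X 1 ^ b} : Set (MvPolynomial (Fin 2) k))) = a * b := by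
  classical
  let d : Fin a × Fin b → (Fin 2 →₀ ℕ) := fun i => Finsupp.equivFunOnFinite.symm ![(i.1 : ℕ), (i.2 : ℕ)]
  have hd : Function.Injective d := by
    intro i j h
    have h0 := DFunLike.congr_fun h 0
    have h1 := DFunLike.congr_fun h 1
    simp [d] at h0 h1
    exact Prod.ext (Fin.ext h0) (Fin.ext h1)
  let T : MvPolynomial (Fin 2) k →ₗ[k] (Fin a × Fin b → k) := LinearMap.pi fun i => lcoeff k (d i)
  have hT : Function.Surjective T := by
    intro v
    refine ⟨∑ i, monomial (d i) (v i), funext fun j => ?_⟩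
    simp only [T, LinearMap.pi_apply, lcoeff_apply, coeff_sum, coeff_monomial]
    rw [Finset.sum_eq_single j]
    · simp
    · intro i _ hij; rw [if_neg (hd.ne hij)]
    · simp
  have hI : (Ideal.span ({X 0 ^ a, X 1 ^ b} : Set (MvPolynomial (Fin 2) k))).restrictScalars k = LinearMap.ker T := by
    have he : ({X 0 ^ a, X 1 ^ b} : Set (MvPolynomial (Fin 2) k)) =
        (fun e => monomial e (1 : k)) '' {Finsupp.single 0 a, Finsupp.single 1 b} := by
      simp [Set.image_insert_eq, X_pow_eq_monomial]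
    rw [he]
    ext x
    rw [Submodule.restrictScalars_mem, mem_ideal_span_monomial_image, LinearMap.mem_ker]
    constructor
    · intro h
      funext i
      show coeff (d i) x = 0
      by_contra hne
      obtain ⟨e, he, hle⟩ := h _ (mem_support_iff.2 hne)
      rcases he with rfl | rfl
      · have := hle 0; simp [d] at this; omega
      · have := hle 1; simp [d] at this; omega
    · intro h m hm
      by_contra hcon
      simp only [Set.mem_insert_iff, Set.mem_singleton_iff, exists_eq_or_imp, exists_eq_left,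
        not_or, Finsupp.single_le_iff, not_le] at hcon
      have := congrFun h (⟨m 0, hcon.1⟩, ⟨m 1, hcon.2⟩)
      have hm' : d (⟨m 0, hcon.1⟩, ⟨m 1, hcon.2⟩) = m := by ext i; fin_cases i <;> simp [d]
      rw [mem_support_iff] at hm
      exact hm (hm' ▸ this)
  rw [← (Submodule.Quotient.restrictScalarsEquiv k _).finrank_eq]
  rw [(Submodule.quotEquivOfEq _ _ hI).finrank_eq, (LinearMap.quotKerEquivOfSurjective T hT).finrank_eq,
    Module.finrank_pi, Fintype.card_prod, Fintype.card_fin, Fintype.card_fin]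

open MvPolynomial in
/-- Let k be a field of characteristic p (p = 0 allowed) and F = y² − x³ in k[x, y] (x the variable of
index 0, y of index 1). The singular subscheme of the plane curve F = 0, cut out by F and its two
partial derivatives, is finite over k of degree 4 when p = 2, of degree 3 when p = 3, and of degree
2 otherwise: the k-dimension of k[x, y]/(F, ∂F/∂x, ∂F/∂y) is that number. (The source phrases this
through the complete local ring of a cusp; the row is the computation for the standard cusp y² =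
x³.) -/
theorem result (k : Type u) [Field k] (p : ℕ) [CharP k p] :
    Module.finrank k (MvPolynomial (Fin 2) k ⧸ Ideal.span
      ({X 1 ^ 2 - X 0 ^ 3, pderiv 0 (X 1 ^ 2 - X 0 ^ 3), pderiv 1 (X 1 ^ 2 - X 0 ^ 3)} :
        Set (MvPolynomial (Fin 2) k))) = (if p = 2 then 4 else if p = 3 then 3 else 2) := by
  have e0 : pderiv (0 : Fin 2) (X 1 ^ 2 - X 0 ^ 3 : MvPolynomial (Fin 2) k) = -(C 3 * X 0 ^ 2) := by
    simp [map_ofNat]
  have e1 : pderiv (1 : Fin 2) (X 1 ^ 2 - X 0 ^ 3 : MvPolynomial (Fin 2) k) = C 2 * X 1 := by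
    simp [map_ofNat]
  rw [e0, e1]
  set I := Ideal.span ({X 1 ^ 2 - X 0 ^ 3, -(C 3 * X 0 ^ 2), C 2 * X 1} : Set (MvPolynomial (Fin 2) k)) with hI
  have g1 : X 1 ^ 2 - X 0 ^ 3 ∈ I := Ideal.subset_span (by simp)
  have g2 : -(C 3 * X 0 ^ 2) ∈ I := Ideal.subset_span (by simp)
  have g3 : C 2 * X 1 ∈ I := Ideal.subset_span (by simp)
  have hu2 : (2 : k) ≠ 0 → (X 1 : MvPolynomial (Fin 2) k) ∈ I := by
    intro h
    have := I.mul_mem_left (C (2 : k)⁻¹) g3
    rwa [← mul_assoc, ← map_mul, inv_mul_cancel₀ h, map_one, one_mul] at this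
  have hu3 : (3 : k) ≠ 0 → (X 0 ^ 2 : MvPolynomial (Fin 2) k) ∈ I := by
    intro h
    have := I.mul_mem_left (-C (3 : k)⁻¹) g2
    rwa [neg_mul_neg, ← mul_assoc, ← map_mul, inv_mul_cancel₀ h, map_one, one_mul] at this
  have main : ∀ a b : ℕ, X 0 ^ a ∈ I → X 1 ^ b ∈ I →
      X 1 ^ 2 - X 0 ^ 3 ∈ Ideal.span ({X 0 ^ a, X 1 ^ b} : Set (MvPolynomial (Fin 2) k)) →
      -(C 3 * X 0 ^ 2) ∈ Ideal.span ({X 0 ^ a, X 1 ^ b} : Set (MvPolynomial (Fin 2) k)) →
      C 2 * X 1 ∈ Ideal.span ({X 0 ^ a, X 1 ^ b} : Set (MvPolynomial (Fin 2) k)) →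
      Module.finrank k (MvPolynomial (Fin 2) k ⧸ I) = a * b := by
    intro a b ha hb h1 h2 h3
    have : I = Ideal.span ({X 0 ^ a, X 1 ^ b} : Set (MvPolynomial (Fin 2) k)) := by
      refine le_antisymm (Ideal.span_le.2 ?_) (Ideal.span_le.2 ?_)
      · rintro x (rfl | rfl | rfl)
        · exact h1
        · exact h2
        · exact h3
      · rintro x (rfl | rfl)
        · exact ha
        · exact hb
    rw [this, finrank_monomial_quot]
  have hmem : ∀ (a b : ℕ) (i j : ℕ), a ≤ i ∨ b ≤ j → X 0 ^ i * X 1 ^ j ∈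
      Ideal.span ({X 0 ^ a, X 1 ^ b} : Set (MvPolynomial (Fin 2) k)) := by
    rintro a b i j (h | h)
    · exact Ideal.mul_mem_right _ _ (Ideal.pow_mem_of_pow_mem _ (Ideal.subset_span (by simp)) h)
    · exact Ideal.mul_mem_left _ _ (Ideal.pow_mem_of_pow_mem _ (Ideal.subset_span (by simp)) h)
  have hx : ∀ a b i, a ≤ i → X 0 ^ i ∈ Ideal.span ({X 0 ^ a, X 1 ^ b} : Set (MvPolynomial (Fin 2) k)) :=
    fun a b i h => by simpa using hmem a b i 0 (Or.inl h)
  have hy : ∀ a b j, b ≤ j → X 1 ^ j ∈ Ideal.span ({X 0 ^ a, X 1 ^ b} : Set (MvPolynomial (Fin 2) k)) :=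
    fun a b j h => by simpa using hmem a b 0 j (Or.inr h)
  by_cases hp2 : p = 2
  · subst hp2
    have h2 : (2 : k) = 0 := CharP.cast_eq_zero k 2
    have h3 : (3 : k) ≠ 0 := by
      intro h; exact one_ne_zero (by linear_combination h - h2 : (1 : k) = 0)
    rw [if_pos rfl]
    refine main 2 2 (hu3 h3) ?_ (sub_mem (hy _ _ _ le_rfl) (hx _ _ _ (by norm_num)))
      (neg_mem (Ideal.mul_mem_left _ _ (hx _ _ _ le_rfl))) (by rw [h2, map_zero, zero_mul]; exact zero_mem _)
    have := I.add_mem g1 (I.mul_mem_left (X 0) (hu3 h3))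
    convert this using 1
    ring
  · by_cases hp3 : p = 3
    · subst hp3
      have h3 : (3 : k) = 0 := CharP.cast_eq_zero k 3
      have h2 : (2 : k) ≠ 0 := by
        intro h; exact one_ne_zero (by linear_combination h3 - h : (1 : k) = 0)
      rw [if_neg hp2, if_pos rfl]
      refine main 3 1 ?_ (by simpa using hu2 h2) (sub_mem (hy _ _ _ (by norm_num)) (hx _ _ _ le_rfl))
        (by rw [h3, map_zero, zero_mul, neg_zero]; exact zero_mem _)
        (Ideal.mul_mem_left _ _ (by simpa using hy 3 1 1 le_rfl))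
      have := I.sub_mem (I.mul_mem_left (X 1) (hu2 h2)) g1
      convert this using 1
      ring
    · have h2 : (2 : k) ≠ 0 := by
        intro h
        have h' : ((2 : ℕ) : k) = 0 := h
        rw [CharP.cast_eq_zero_iff k p] at h'
        rcases (Nat.dvd_prime Nat.prime_two).1 h' with h'' | h''
        · subst h''; exact CharP.char_ne_one k 1 rfl
        · exact hp2 h''
      have h3 : (3 : k) ≠ 0 := by
        intro h
        have h' : ((3 : ℕ) : k) = 0 := h
        rw [CharP.cast_eq_zero_iff k p] at h'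
        rcases (Nat.dvd_prime Nat.prime_three).1 h' with h'' | h''
        · subst h''; exact CharP.char_ne_one k 1 rfl
        · exact hp3 h''
      rw [if_neg hp2, if_neg hp3]
      exact main 2 1 (hu3 h3) (by simpa using hu2 h2) (sub_mem (hy _ _ _ (by norm_num)) (hx _ _ _ (by norm_num)))
        (neg_mem (Ideal.mul_mem_left _ _ (hx _ _ _ le_rfl)))
        (Ideal.mul_mem_left _ _ (by simpa using hy 2 1 1 le_rfl))

end Groth.Agent.S19176
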