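import Groth.Statements.S19181
import Mathlib.Algebra.MvPolynomial.Equiv
import Mathlib.Algebra.Polynomial.RingDivision
import Mathlib.Algebra.Polynomial.Div
import Mathlib.RingTheory.Polynomial.Basic
import Mathlib.Algebra.Polynomial.Monic
import Mathlib.Tactic.Ring

set_option autoImplicit false
universe u
open CAlg

namespace Groth.Agent.S19181

open MvPolynomial in
/-- Let R be a commutative ring, a₁, a₂ ∈ R, and C ⊂ A²_R the curve y² + a₁xy = x³ + a₂x², blown up at
the section x = y = 0. In the chart where x = yα (variables y = X 0, α = X 1) the equation of C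
becomes y²·g₁ with g₁ = 1 + a₁α − yα³ − a₂α², and the y-saturation of the ideal (y²g₁) is (g₁): for
s ∈ R[y, α], some yⁿs lies in (y²g₁) if and only if s ∈ (g₁). In the chart where y = xβ (variables x
= X 0, β = X 1) the equation becomes x²·g₂ with g₂ = β² + a₁β − x − a₂, and some xⁿs lies in (x²g₂)
if and only if s ∈ (g₂). In other words the strict transform of C is cut out by g₁, resp. g₂, in the
two charts. -/
theorem result (R : Type u) [CommRing R] (a₁ a₂ : R) :
    (∀ s : MvPolynomial (Fin 2) R,
      (∃ n : ℕ, X 0 ^ n * s ∈ Ideal.span ({X 0 ^ 2 * (1 + C a₁ * X 1 - X 0 * X 1 ^ 3 - C a₂ * X 1 ^ 2)} :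
        Set (MvPolynomial (Fin 2) R))) ↔
      s ∈ Ideal.span ({1 + C a₁ * X 1 - X 0 * X 1 ^ 3 - C a₂ * X 1 ^ 2} : Set (MvPolynomial (Fin 2) R))) ∧
    (∀ s : MvPolynomial (Fin 2) R,
      (∃ n : ℕ, X 0 ^ n * s ∈ Ideal.span ({X 0 ^ 2 * (X 1 ^ 2 + C a₁ * X 1 - X 0 - C a₂)} :
        Set (MvPolynomial (Fin 2) R))) ↔
      s ∈ Ideal.span ({X 1 ^ 2 + C a₁ * X 1 - X 0 - C a₂} : Set (MvPolynomial (Fin 2) R))) := by
  classical
  let e := MvPolynomial.finSuccEquiv R 1
  have hX : e (MvPolynomial.X 0) = Polynomial.X := MvPolynomial.finSuccEquiv_X_zero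
  have main : ∀ P : MvPolynomial (Fin 2) R, IsRegular ((e P).coeff 0) →
      ∀ s : MvPolynomial (Fin 2) R, (∃ n : ℕ, MvPolynomial.X 0 ^ n * s ∈ Ideal.span {MvPolynomial.X 0 ^ 2 * P}) ↔
        s ∈ Ideal.span {P} := by
    intro P hP s
    constructor
    · rintro ⟨n, hn⟩
      obtain ⟨t, ht⟩ := Ideal.mem_span_singleton'.1 hn
      have h : ∀ (j : ℕ) (u : Polynomial (MvPolynomial (Fin 1) R)), u * e P = Polynomial.X ^ j * e s → e P ∣ e s := by
        intro j
        induction j with
        | zero => intro u hu; exact ⟨u, by rw [pow_zero, one_mul] at hu; rw [← hu, mul_comm]⟩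
        | succ j ih =>
          intro u hu
          have h0 : u.coeff 0 = 0 := by
            have := congrArg (fun p => Polynomial.coeff p 0) hu
            simp only [Polynomial.mul_coeff_zero, Polynomial.coeff_X_pow, if_neg (Nat.succ_ne_zero j).symm, zero_mul] at this
            exact hP.right.eq_iff.1 (this.trans (zero_mul _).symm)
          obtain ⟨v, rfl⟩ := Polynomial.X_dvd_iff.2 h0
          exact ih v (Polynomial.monic_X.isRegular.left (by simp only [← mul_assoc, ← pow_succ']; exact hu))
      rw [Ideal.mem_span_singleton]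
      have := h n (e t * Polynomial.X ^ 2) (by rw [mul_assoc, ← hX, ← map_pow, ← map_pow, ← map_mul, ← map_mul, ← map_mul, ht])
      exact (map_dvd_iff e).1 this
    · intro hs
      refine ⟨2, ?_⟩
      rw [Ideal.mem_span_singleton] at hs ⊢
      exact mul_dvd_mul_left _ hs
  let k : MvPolynomial (Fin 2) R →+* MvPolynomial (Fin 1) R := Polynomial.constantCoeff.comp e.toRingEquiv.toRingHom
  have hk : ∀ P, (e P).coeff 0 = k P := fun P => rfl
  have hk0 : k (MvPolynomial.X 0) = 0 := by rw [← hk, hX, Polynomial.coeff_X_zero]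
  have hk1 : k (MvPolynomial.X 1) = MvPolynomial.X 0 := by
    rw [← hk, show (1 : Fin 2) = Fin.succ 0 from rfl]
    simp only [e]
    rw [MvPolynomial.finSuccEquiv_X_succ, Polynomial.coeff_C_zero]
  have hkC : ∀ a, k (MvPolynomial.C a) = MvPolynomial.C a := fun a => by
    rw [← hk]; simp [e, MvPolynomial.finSuccEquiv_apply]
  let g := MvPolynomial.uniqueAlgEquiv R (Fin 1)
  have hg : ∀ q : MvPolynomial (Fin 1) R, IsRegular (g q) → IsRegular q := fun q hq =>
    ⟨fun a b hab => g.injective (hq.left (by simpa using congrArg g hab)),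
     fun a b hab => g.injective (hq.right (by simpa using congrArg g hab))⟩
  have hgX : g (MvPolynomial.X 0) = Polynomial.X := by simp [g]
  have hgC : ∀ a, g (MvPolynomial.C a) = Polynomial.C a := fun a => by simp [g]
  refine ⟨main _ (hg _ ?_), main _ (hg _ ?_)⟩
  · rw [hk]
    simp only [map_sub, map_add, map_mul, map_pow, map_one, hk0, hk1, hkC, hgX, hgC, zero_mul, mul_zero, sub_zero, map_zero]
    rcases subsingleton_or_nontrivial R with hR | hR
    · exact ⟨fun _ _ _ => Subsingleton.elim _ _, fun _ _ _ => Subsingleton.elim _ _⟩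
    set p := 1 + Polynomial.C a₁ * Polynomial.X - Polynomial.C a₂ * Polynomial.X ^ 2 with hp
    have h0 : p.coeff 0 = 1 := by simp [hp]
    have ht : p.natTrailingDegree = 0 := Nat.le_zero.1 (Polynomial.natTrailingDegree_le_of_ne_zero (by rw [h0]; exact one_ne_zero))
    rw [isRegular_iff_mem_nonZeroDivisors]
    refine Polynomial.mem_nonZeroDivisors_of_trailingCoeff ?_
    rw [Polynomial.trailingCoeff, ht, h0]
    exact one_mem _
  · rw [hk]
    simp only [map_sub, map_add, map_mul, map_pow, map_one, hk0, hk1, hkC, hgX, hgC, zero_mul, mul_zero, sub_zero, map_zero]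
    rcases subsingleton_or_nontrivial R with hR | hR
    · exact ⟨fun _ _ _ => Subsingleton.elim _ _, fun _ _ _ => Subsingleton.elim _ _⟩
    refine Polynomial.Monic.isRegular ?_
    rw [Polynomial.Monic, Polynomial.leadingCoeff]
    have : (Polynomial.X ^ 2 + Polynomial.C a₁ * Polynomial.X - Polynomial.C a₂).natDegree = 2 := by compute_degree!
    rw [this]
    simp

end Groth.Agent.S19181
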