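import Groth.Statements.S19182
import Groth.Agent.WeierBlow.Smooth

set_option autoImplicit false
universe u
open CAlg

namespace Groth.Agent.S19182

open MvPolynomial in
/-- Let R be a commutative ring and a₁, a₂ ∈ R. The two affine charts of the blow-up of the plane curve
y² + a₁xy = x³ + a₂x² at the section x = y = 0, with coordinate rings R[y, α]/(1 + a₁α − yα³ − a₂α²)
and R[x, β]/(β² + a₁β − x − a₂) (variables indexed 0 and 1 in this order), are smooth R-algebras
(formally smooth of finite presentation). This is the local computation behind the statement that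
the blow-up of a Weierstrass curve along a section through its singular locus is a smooth proper
curve of genus 0. -/
theorem result (R : Type u) [CommRing R] (a₁ a₂ : R) :
    Algebra.Smooth R (MvPolynomial (Fin 2) R ⧸
      Ideal.span ({1 + C a₁ * X 1 - X 0 * X 1 ^ 3 - C a₂ * X 1 ^ 2} : Set (MvPolynomial (Fin 2) R))) ∧
    Algebra.Smooth R (MvPolynomial (Fin 2) R ⧸
      Ideal.span ({X 1 ^ 2 + C a₁ * X 1 - X 0 - C a₂} : Set (MvPolynomial (Fin 2) R))) := by
  constructor
  · let p : Polynomial R := 1 + Polynomial.C a₁ * Polynomial.X - Polynomial.C a₂ * Polynomial.X ^ 2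
    let q : Polynomial R := Polynomial.X ^ 3
    have e : (1 + C a₁ * X 1 - X 0 * X 1 ^ 3 - C a₂ * X 1 ^ 2 : MvPolynomial (Fin 2) R) =
        Polynomial.aeval (X 1) p - X 0 * Polynomial.aeval (X 1) q := by
      simp [p, q, MvPolynomial.algebraMap_eq]; ring
    rw [e]
    refine WeierBlow.smooth_of_linear p q ?_
    rw [← e]
    have h3 : Polynomial.aeval (X 1 : MvPolynomial (Fin 2) R) q = X 1 ^ 3 := by simp [q]
    rw [h3, map_pow]
    refine IsUnit.pow _ (IsUnit.of_mul_eq_one
      (Ideal.Quotient.mk _ (-C a₁ + X 0 * X 1 ^ 2 + C a₂ * X 1)) ?_)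
    rw [← map_mul, ← map_one (Ideal.Quotient.mk _), Ideal.Quotient.eq]
    exact Ideal.mem_span_singleton'.2 ⟨-1, by ring⟩
  · let p : Polynomial R := Polynomial.X ^ 2 + Polynomial.C a₁ * Polynomial.X - Polynomial.C a₂
    let q : Polynomial R := 1
    have e : (X 1 ^ 2 + C a₁ * X 1 - X 0 - C a₂ : MvPolynomial (Fin 2) R) =
        Polynomial.aeval (X 1) p - X 0 * Polynomial.aeval (X 1) q := by
      simp [p, q, MvPolynomial.algebraMap_eq]; ring
    rw [e]
    refine WeierBlow.smooth_of_linear p q ?_
    simp [q]

end Groth.Agent.S19182
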