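import Groth.Statements.S19191
import Mathlib

set_option autoImplicit false
universe w v u v' u'
open CategoryTheory CategoryTheory.Limits CategoryTheory.Pretriangulated CategoryTheory.Triangulated
open CohDer

namespace Groth.Agent.S19191

/-- Let `A` be a commutative ring, `T` an `A`-linear triangulated category (octahedron axiom included;
shift functors `A`-linear), `U` a thick subcategory of `T` (a property of objects containing zero,
stable under shifts, extensions, isomorphisms and direct factors), and `Q : T ⥤ E` a localization of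
`T` at the morphisms whose cone lies in `U` (the Verdier quotient `T/U`), where `E` is preadditive
and `A`-linear and `Q` is `A`-linear. For an object `X` of `T` the following two conditions are
equivalent: (i) `X` lies in `U`; (ii) for every maximal ideal `m` of `A` the image of `X` in the
category obtained from `T/U` by tensoring the morphism modules with `A_m` is zero, i.e. some element
of `A` outside `m` annihilates the identity of `Q X`. (The published statement also lists a third
equivalent condition, phrased with idempotent completions of the localized categories; it is not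
asserted here.) -/
theorem result
    {A : Type w} [CommRing A]
    {T : Type u} [Category.{v} T] [Preadditive T] [Linear A T] [HasZeroObject T] [HasShift T ℤ]
    [∀ n : ℤ, (shiftFunctor T n).Additive] [∀ n : ℤ, (shiftFunctor T n).Linear A]
    [Pretriangulated T] [IsTriangulated T]
    (U : ObjectProperty T) [U.IsTriangulated] [U.IsClosedUnderIsomorphisms] [U.IsStableUnderRetracts]
    {E : Type u'} [Category.{v'} E] [Preadditive E] [Linear A E]
    (Q : T ⥤ E) [Q.Additive] [Q.Linear A] [Q.IsLocalization U.trW] (X : T) :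
    U X ↔ ∀ m : Ideal A, m.IsMaximal → ∃ s : A, s ∉ m ∧ s • 𝟙 (Q.obj X) = 0 := by
  constructor
  · intro hX m hm
    refine ⟨1, fun h => hm.ne_top ((Ideal.eq_top_iff_one m).2 h), ?_⟩
    obtain ⟨O, hO, hO'⟩ := U.exists_prop_of_containsZero
    have hw : U.trW (0 : O ⟶ X) := by
      refine (ObjectProperty.trW_iff U _).2 ⟨X, 𝟙 X, (0 : X ⟶ O⟦(1 : ℤ)⟧), isomorphic_distinguished _ (contractible_distinguished₁ X) _
        (Triangle.isoMk _ _ hO.isoZero (Iso.refl _) (Iso.refl _) (hO.eq_of_src _ _) ((Category.comp_id _).trans (Category.id_comp _).symm) (((shiftFunctor T (1 : ℤ)).map_isZero (isZero_zero T)).eq_of_tgt _ _)), hX⟩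
    haveI := Localization.inverts Q U.trW _ hw
    have hz : IsZero (Q.obj X) := (Q.map_isZero hO).of_iso (asIso (Q.map (0 : O ⟶ X))).symm
    rw [one_smul]
    exact hz.eq_of_src _ _
  · intro h
    let J : Ideal A :=
      { carrier := {s | s • 𝟙 (Q.obj X) = 0}
        zero_mem' := zero_smul A _
        add_mem' := fun {a b} ha hb => by
          change (a + b) • 𝟙 (Q.obj X) = 0
          rw [add_smul, show a • 𝟙 (Q.obj X) = 0 from ha, show b • 𝟙 (Q.obj X) = 0 from hb, add_zero]
        smul_mem' := fun c a ha => by
          change (c * a) • 𝟙 (Q.obj X) = 0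
          rw [mul_smul, show a • 𝟙 (Q.obj X) = 0 from ha, smul_zero] }
    have hJ : J = ⊤ := by
      by_contra hJ
      obtain ⟨m, hm, hJm⟩ := J.exists_le_maximal hJ
      obtain ⟨s, hs, hs'⟩ := h m hm
      exact hs (hJm hs')
    have h1 : Q.map (𝟙 X) = Q.map (0 : X ⟶ X) := by
      rw [Q.map_id, Q.map_zero]
      have h1 : (1 : A) • 𝟙 (Q.obj X) = 0 := (Ideal.eq_top_iff_one J).1 hJ
      rwa [one_smul] at h1
    obtain ⟨Y, s, hs, he⟩ := (MorphismProperty.map_eq_iff_postcomp Q U.trW _ _).1 h1
    rw [Category.id_comp, zero_comp] at he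
    subst he
    obtain ⟨Z, g, k, hT, hZ⟩ := (ObjectProperty.trW_iff U _).1 hs
    obtain ⟨r, hr⟩ := (Triangle.mk (0 : X ⟶ Y) g k).coyoneda_exact₁ hT (𝟙 (X⟦(1 : ℤ)⟧))
      (show 𝟙 (X⟦(1 : ℤ)⟧) ≫ (shiftFunctor T (1 : ℤ)).map (0 : X ⟶ Y) = 0 by rw [Functor.map_zero, comp_zero])
    have h2 : U (X⟦(1 : ℤ)⟧) := U.prop_of_retract ⟨r, k, hr.symm⟩ hZ
    exact U.prop_of_iso ((shiftFunctorCompIsoId T (1 : ℤ) (-1) (by simp)).app X) (U.le_shift (-1 : ℤ) _ h2)

end Groth.Agent.S19191
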