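import Groth.Statements.S19203
import Groth.Agent.HilbPoly.GGGrowth
-- import your own Groth.Agent.* helpers here

set_option autoImplicit false
universe u
open CategoryTheory AlgebraicGeometry
open Coh

namespace Groth.Agent.S19203

/-- Let X be a scheme proper over a field k with dim X = r, and L an invertible O_X-module generated by
its global sections. Then for each i ≥ 1 the dimensions dim_k H^i(X, L^{⊗n}) are O(n^{r-1}): there
is a real constant C with dim_k H^i(X, L^{⊗n}) ≤ C·n^{r-1} for every n ≥ 1. (For r = 0 the exponent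
r − 1 is read as 0; k is any field.) -/
theorem result (k : Type u) [Field k] (X : Scheme.{u})
    [X.Over (Spec (CommRingCat.of k))] [IsProper (X ↘ (Spec (CommRingCat.of k)))]
    (r : ℕ) (hdim : topologicalKrullDim X = r)
    (L : X.Modules) (hL : PicF.IsInvertible L) (hgen : Curv2.IsGloballyGenerated L)
    (i : ℕ) (hi : 1 ≤ i) :
    ∃ C : ℝ, ∀ n : ℕ, 1 ≤ n →
      (Module.finrank k (Coh.HH X (CohB1.tensorPow L n) i) : ℝ) ≤ C * (n : ℝ) ^ (r - 1) := by
  haveI : IsNoetherian X := CurveCohLib.isNoetherian_of_proper (k := k)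
  obtain ⟨e, he⟩ : ∃ e, e = r - 1 := ⟨_, rfl⟩
  have hO : HilbPoly.DimLT (Coh.structureModule X) (e + 2) := by
    refine HilbPoly.dimLT_of_subset (Set.subset_univ _) ?_
    refine lt_of_le_of_lt ((topologicalKrullDim_subspace_le X Set.univ).trans hdim.le) ?_
    exact_mod_cast (show r < e + 2 by omega)
  obtain ⟨C, hC⟩ := HilbPoly.hdimk_gg_le k hL hgen e _ QCoh.isCoh_structureModule' hO i hi
  refine ⟨(C : ℝ) * 2 ^ e, fun n hn => ?_⟩
  obtain ⟨c⟩ := H23.PicMul.comm (Coh.structureModule X) (CohB1.tensorPow L n)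
  have h := hC n
  rw [HilbPoly.hdimk, HilbPoly.finrank_HH_iso k
    ((c ≪≫ AmpleVan.twUnit.app _ : HilbPoly.pw L (Coh.structureModule X) n ≅ CohB1.tensorPow L n)) i] at h
  rw [← he]
  calc (Module.finrank k (Coh.HH X (CohB1.tensorPow L n) i) : ℝ) ≤ (C : ℝ) * ((n : ℝ) + 1) ^ e := by exact_mod_cast h
    _ ≤ (C : ℝ) * (2 * (n : ℝ)) ^ e := by
      have : (1 : ℝ) ≤ n := by exact_mod_cast hn
      gcongr
      linarith
    _ = (C : ℝ) * 2 ^ e * (n : ℝ) ^ e := by rw [mul_pow, mul_assoc]

end Groth.Agent.S19203
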