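import Groth.Statements.S19207
import Groth.Agent.H4HDP.Basic
-- import your own Groth.Agent.* helpers here

set_option autoImplicit false
universe u
open Filter
open LocAlg

namespace Groth.Agent.S19207

/-- the coefficient of `x` vanishes on the monomial ideal -/
lemma X_coeff_eq_zero {k : Type u} [Field k] {n' : ℕ} (f : MvPowerSeries (Fin 3) k) (hf : f ∈ H4HDP.M k) :
    MvPowerSeries.coeff (H4HDP.ex (1 + 2 * 0) (0 - n' * 0) 0) f = 0 := by
  classical
  have hex : ∀ a b c, a + b + c ≤ 1 → 1 ≤ a →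
      MvPowerSeries.coeff (H4HDP.ex a b c) f = 0 := by
    intro a b c h ha
    obtain ⟨rfl, rfl, rfl⟩ : a = 1 ∧ b = 0 ∧ c = 0 := by omega
    -- weights with `y, t` heavy enough: every generator is divisible by one of `x², y, t`
    have hle : H4HDP.M k ≤ Ideal.span {(MvPowerSeries.X 0 ^ 2 : MvPowerSeries (Fin 3) k),
        MvPowerSeries.X 1, MvPowerSeries.X 2} := by
      refine Ideal.span_le.2 ?_
      intro x hx
      rcases hx with rfl | rfl | rfl | rfl | rfl | rfl
      · exact Ideal.subset_span (by simp)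
      · exact Ideal.mul_mem_left _ _ (Ideal.subset_span (by simp))
      · exact Ideal.pow_mem_of_mem _ (Ideal.subset_span (by simp)) _ two_pos
      · exact Ideal.mul_mem_left _ _ (Ideal.subset_span (by simp))
      · exact Ideal.mul_mem_right _ _ (Ideal.subset_span (by simp))
      · exact Ideal.pow_mem_of_mem _ (Ideal.subset_span (by simp)) _ (by norm_num)
    obtain ⟨p, z, hz, rfl⟩ := Ideal.mem_span_insert.1 (hle hf)
    obtain ⟨q, w, hw, rfl⟩ := Ideal.mem_span_insert.1 hz
    obtain ⟨r, rfl⟩ := Ideal.mem_span_singleton.1 hw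
    rw [MvPowerSeries.X_pow_eq]
    simp [MvPowerSeries.X_def, mul_comm _ (MvPowerSeries.monomial _ _),
      MvPowerSeries.coeff_monomial_mul, Finsupp.single_le_iff]
  exact hex _ _ _ (by omega) (by omega)

/-- Let k be a field and n ≥ 3, and let A = k[[x, y, t]]/(x^2 − y^n), the power-series ring in t over
the higher double point O = k[[x, y]]/(x^2 − y^n), a two-dimensional local ring. The ideal I = (x^2,
xy, y^2, xt, yt^2, t^4) of A has length(A/I) = 7 and Samuel multiplicity e(I) = 16, in the sense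
that 2·length(A/I^m)/m^2 tends to 16. Hence e(I)/(2!·length(A/I)) = 8/7, which gives the bound
e_1(O) ≥ 8/7 for the first flat multiplicity of a higher double point (the supremum of
e(I)/(2!·length(A/I)) over ideals of finite colength of A = O[[t]]). Here x, y, t are the
power-series variables indexed 0, 1, 2. -/
theorem result (k : Type u) [Field k] (n : ℕ) (hn : 3 ≤ n)
    (I : Ideal (MvPowerSeries (Fin 3) k ⧸ Ideal.span {(MvPowerSeries.X 0 ^ 2 - MvPowerSeries.X 1 ^ n : MvPowerSeries (Fin 3) k)}))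
    (hI : I = Ideal.map (Ideal.Quotient.mk (Ideal.span {(MvPowerSeries.X 0 ^ 2 - MvPowerSeries.X 1 ^ n : MvPowerSeries (Fin 3) k)}))
      (Ideal.span {(MvPowerSeries.X 0 ^ 2 : MvPowerSeries (Fin 3) k), MvPowerSeries.X 0 * MvPowerSeries.X 1,
        MvPowerSeries.X 1 ^ 2, MvPowerSeries.X 0 * MvPowerSeries.X 2,
        MvPowerSeries.X 1 * MvPowerSeries.X 2 ^ 2, MvPowerSeries.X 2 ^ 4})) :
    Module.length (MvPowerSeries (Fin 3) k ⧸ Ideal.span {(MvPowerSeries.X 0 ^ 2 - MvPowerSeries.X 1 ^ n : MvPowerSeries (Fin 3) k)}) ((MvPowerSeries (Fin 3) k ⧸ Ideal.span {(MvPowerSeries.X 0 ^ 2 - MvPowerSeries.X 1 ^ n : MvPowerSeries (Fin 3) k)}) ⧸ I) = 7 ∧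
      Tendsto (fun m : ℕ => (2 : ℝ) * ((Module.length (MvPowerSeries (Fin 3) k ⧸ Ideal.span {(MvPowerSeries.X 0 ^ 2 - MvPowerSeries.X 1 ^ n : MvPowerSeries (Fin 3) k)}) ((MvPowerSeries (Fin 3) k ⧸ Ideal.span {(MvPowerSeries.X 0 ^ 2 - MvPowerSeries.X 1 ^ n : MvPowerSeries (Fin 3) k)}) ⧸ I ^ m)).toNat : ℝ) / (m : ℝ) ^ 2)
        atTop (nhds 16) := by
  classical
  constructor
  · obtain ⟨D, hD, hlo, hup⟩ := H4HDP.length_quot (k := k) hn I 1 (by rw [pow_one]; exact hI)
    have h1 : 7 ≤ D := by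
      let T : Finset (ℕ × ℕ × ℕ) := {(0, 0, 0), (0, 0, 1), (0, 0, 2), (0, 0, 3), (0, 1, 0), (0, 1, 1), (1, 0, 0)}
      have hw : ∀ i ∈ T, n * i.1 + 2 * i.2.1 + i.2.2 < 4 ∨ i = (1, 0, 0) := by simp [T]
      refine hlo T (by simp [T]) fun f hf => ?_
      rw [pow_one] at hf
      funext ⟨⟨e, b, c⟩, hi⟩
      rw [H4HDP.Phi_apply, Pi.zero_apply]
      refine Finset.sum_eq_zero fun j _ => ?_
      split_ifs with h
      · have hb : b ≤ 1 := by
          simp [T] at hi
          omega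
        have hj : j = 0 := by
          have : n * j ≤ 1 := le_trans h hb
          rcases Nat.eq_zero_or_pos j with h0 | h0
          · exact h0
          · have := Nat.le_mul_of_pos_right n h0
            omega
        subst hj
        rcases hw _ hi with hlt | heq
        · exact H4HDP.M_le_W hn hf _ (by simpa [H4HDP.wt] using hlt)
        · obtain ⟨rfl, rfl, rfl⟩ : e = 1 ∧ b = 0 ∧ c = 0 := by simpa using heq
          exact X_coeff_eq_zero f hf
      · rfl
    have h2 : D ≤ 7 := by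
      let S : Finset (MvPowerSeries (Fin 3) k) := {1, MvPowerSeries.X 2, MvPowerSeries.X 2 ^ 2, MvPowerSeries.X 2 ^ 3,
        MvPowerSeries.X 1, MvPowerSeries.X 1 * MvPowerSeries.X 2, MvPowerSeries.X 0}
      refine (hup S ?_).trans (by
        simp only [S]
        repeat refine (Finset.card_insert_le _ _).trans (Nat.succ_le_succ ?_)
        simp)
      refine sup_le ?_ le_sup_right
      rw [Submodule.span_le]
      rintro _ ⟨⟨e, b, c⟩, hi, rfl⟩
      rw [Finset.mem_coe, H4HDP.mem_idx] at hi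
      by_cases hbc : e = 1 ∧ (1 ≤ b ∨ 1 ≤ c)
      · refine Submodule.mem_sup_right (Ideal.mem_sup_right ?_)
        rw [pow_one, H4HDP.mon]
        obtain ⟨rfl, hb | hc⟩ := hbc
        · obtain ⟨b', rfl⟩ : ∃ b', b = b' + 1 := ⟨b - 1, by omega⟩
          rw [show (MvPowerSeries.X 0 ^ 1 * MvPowerSeries.X 1 ^ (b' + 1) * MvPowerSeries.X 2 ^ c : MvPowerSeries (Fin 3) k)
            = MvPowerSeries.X 0 * MvPowerSeries.X 1 * (MvPowerSeries.X 1 ^ b' * MvPowerSeries.X 2 ^ c) by ring]
          exact Ideal.mul_mem_right _ _ (Ideal.subset_span (by simp))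
        · obtain ⟨c', rfl⟩ : ∃ c', c = c' + 1 := ⟨c - 1, by omega⟩
          rw [show (MvPowerSeries.X 0 ^ 1 * MvPowerSeries.X 1 ^ b * MvPowerSeries.X 2 ^ (c' + 1) : MvPowerSeries (Fin 3) k)
            = MvPowerSeries.X 0 * MvPowerSeries.X 2 * (MvPowerSeries.X 1 ^ b * MvPowerSeries.X 2 ^ c') by ring]
          exact Ideal.mul_mem_right _ _ (Ideal.subset_span (by simp))
      · refine Submodule.mem_sup_left (Submodule.subset_span ?_)
        rcases hi with ⟨rfl, hlt⟩ | ⟨rfl, hlt⟩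
        · obtain ⟨hb, hc⟩ : b ≤ 1 ∧ c ≤ 3 := by omega
          interval_cases b <;> interval_cases c <;> first | omega | simp [S, H4HDP.mon]
        · obtain ⟨rfl, rfl⟩ : b = 0 ∧ c = 0 := by omega
          simp [S, H4HDP.mon]
    exact hD.trans (by rw [le_antisymm h2 h1]; rfl)
  · have hb : ∀ m : ℕ, ∃ D : ℕ, Module.length (MvPowerSeries (Fin 3) k ⧸ Ideal.span {(MvPowerSeries.X 0 ^ 2 - MvPowerSeries.X 1 ^ n : MvPowerSeries (Fin 3) k)}) ((MvPowerSeries (Fin 3) k ⧸ Ideal.span {(MvPowerSeries.X 0 ^ 2 - MvPowerSeries.X 1 ^ n : MvPowerSeries (Fin 3) k)}) ⧸ I ^ m) = D ∧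
        H4HDP.cnt (4 * m) + H4HDP.cnt (4 * m - n) ≤ D ∧ D ≤ H4HDP.cnt (4 * m) + H4HDP.cnt (4 * m) := by
      intro m
      obtain ⟨D, hD, hlo, hup⟩ := H4HDP.length_quot (k := k) hn (I ^ m) m
        (by rw [Ideal.map_pow]; exact congrArg (· ^ m) hI)
      refine ⟨D, hD, ?_, ?_⟩
      · rw [← H4HDP.card_idx]
        refine hlo _ (fun i hi => ?_) fun f hf => ?_
        · obtain ⟨e, b, c⟩ := i
          rw [H4HDP.mem_idx] at hi
          show e < 2
          omega
        · refine H4HDP.Phi_eq_zero_of_W _ (fun ⟨e, b, c⟩ hi => ?_) f (H4HDP.M_pow_le_W hn m hf)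
          rw [H4HDP.mem_idx] at hi
          show n * e + 2 * b + c < 4 * m
          rcases hi with ⟨rfl, h⟩ | ⟨rfl, h⟩ <;> omega
      · rw [← H4HDP.card_idx]
        refine (hup ((H4HDP.idx (4 * m) (4 * m)).image (H4HDP.mon k)) ?_).trans Finset.card_image_le
        rw [Finset.coe_image]
        exact le_rfl
    choose D hD hlo hup using hb
    simp only [hD, ENat.toNat_natCast]
    have h0 : Tendsto (fun m : ℕ => (16 : ℝ) - 4 * n * (1 / (m : ℝ))) atTop (nhds 16) := by
      simpa using (tendsto_one_div_atTop_nhds_zero_nat.const_mul (4 * (n : ℝ))).const_sub 16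
    have h1 : Tendsto (fun m : ℕ => (4 + 1 / (m : ℝ)) ^ 2) atTop (nhds 16) := by
      have h := ((tendsto_one_div_atTop_nhds_zero_nat (𝕜 := ℝ)).const_add 4).pow 2
      norm_num at h
      simpa using h
    refine tendsto_of_tendsto_of_tendsto_of_le_of_le' h0 h1 ?_ ?_
    · filter_upwards [eventually_gt_atTop 0] with m hm
      have hm' : (0 : ℝ) < m := by exact_mod_cast hm
      have hA := (H4HDP.cnt_bounds (4 * m)).1
      have hB := (H4HDP.cnt_bounds (4 * m - n)).1
      have hsub : 16 * m ^ 2 ≤ (4 * m - n) ^ 2 + 8 * n * m := by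
        rcases le_total n (4 * m) with h | h
        · obtain ⟨r, hr⟩ := Nat.exists_eq_add_of_le h
          rw [hr, Nat.add_sub_cancel_left]
          nlinarith
        · rw [Nat.sub_eq_zero_of_le h]
          nlinarith
      have hnat : 32 * m ^ 2 ≤ 4 * D m + 8 * n * m := by nlinarith [hlo m]
      have hR : (32 : ℝ) * (m : ℝ) ^ 2 ≤ 4 * (D m : ℝ) + 8 * n * m := by exact_mod_cast hnat
      rw [le_div_iff₀ (by positivity)]
      field_simp
      nlinarith
    · filter_upwards [eventually_gt_atTop 0] with m hm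
      have hm' : (0 : ℝ) < m := by exact_mod_cast hm
      have hA := (H4HDP.cnt_bounds (4 * m)).2
      have hnat : 2 * D m ≤ (4 * m + 1) ^ 2 := by nlinarith [hup m]
      have hR : (2 : ℝ) * (D m : ℝ) ≤ (4 * (m : ℝ) + 1) ^ 2 := by exact_mod_cast hnat
      rw [div_le_iff₀ (by positivity)]
      calc (2 : ℝ) * (D m : ℝ) ≤ (4 * (m : ℝ) + 1) ^ 2 := hR
        _ = (4 + 1 / (m : ℝ)) ^ 2 * (m : ℝ) ^ 2 := by field_simp

end Groth.Agent.S19207
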