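import Groth.Statements.S19208
import Groth.Agent.HSLib.Samuel

set_option autoImplicit false
universe u
open Filter
open LocAlg

namespace Groth.Agent.S19208

/-- Let O be a Noetherian local ring of Krull dimension r containing a field, with maximal ideal m. The
zeroth flat multiplicity e_0(O), the supremum over m-primary ideals I of e(I)/(r!·length(O/I)) with
e(I) the Samuel multiplicity, is at least 1: for every ε > 0 there is an m-primary ideal I (I ⊆ m,
m^N ⊆ I for some N) whose multiplicity e(I), the limit of r!·length(O/I^n)/n^r, satisfies e(I) ≥ (1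
− ε)·r!·length(O/I). (The same statement for the power-series rings O[[t_1, …, t_k]] is the bound
e_k(O) ≥ 1 for the k-th flat multiplicity.) -/
theorem result (O : Type u) [CommRing O] [IsNoetherianRing O]
    [IsLocalRing O] (K : Type u) [Field K] [Algebra K O] (r : ℕ) (hr : ringKrullDim O = r)
    (ε : ℝ) (hε : 0 < ε) :
    ∃ (I : Ideal O) (e : ℝ), I ≤ IsLocalRing.maximalIdeal O ∧
      (∃ N : ℕ, IsLocalRing.maximalIdeal O ^ N ≤ I) ∧
      Tendsto (fun n : ℕ => (r.factorial : ℝ) * ((Module.length O (O ⧸ I ^ n)).toNat : ℝ) / (n : ℝ) ^ r)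
        atTop (nhds e) ∧
      (1 - ε) * ((r.factorial : ℝ) * ((Module.length O (O ⧸ I)).toNat : ℝ)) ≤ e := by
  obtain ⟨R, hR⟩ := HSLib.exists_poly_jacobson (A := O) O
  have hdeg : R.natDegree = r := by
    have h := HSLib.supportDim_eq O R hR
    rw [Module.supportDim_self_eq_ringKrullDim, hr] at h
    exact_mod_cast h
  obtain ⟨t₀, ht₀⟩ := Filter.eventually_atTop.1 hR
  have hm : Ring.jacobson O = IsLocalRing.maximalIdeal O := IsLocalRing.ringJacobson_eq_maximalIdeal O
  have hlen : ∀ t, (Module.length O (O ⧸ IsLocalRing.maximalIdeal O ^ t)).toNat = HSLib.hs (Ring.jacobson O) O t := fun t => by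
    rw [HSLib.hs, (Submodule.quotEquivOfEq (Ring.jacobson O ^ t • (⊤ : Submodule O O)) (IsLocalRing.maximalIdeal O ^ t)
      (by rw [hm]; simp)).length_eq]
  let P : Polynomial ℝ := R.map (algebraMap ℚ ℝ)
  have hval : ∀ t : ℕ, t₀ ≤ t → ((Module.length O (O ⧸ IsLocalRing.maximalIdeal O ^ t)).toNat : ℝ) = P.eval (t : ℝ) := by
    intro t ht
    rw [hlen, Polynomial.eval_natCast_map, ← map_natCast (algebraMap ℚ ℝ) (HSLib.hs (Ring.jacobson O) O t), ht₀ t ht]
  have hP0 : P ≠ 0 := by
    intro h0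
    have hne : R = 0 := (Polynomial.map_eq_zero_iff (algebraMap ℚ ℝ).injective).1 h0
    have hpos := HSLib.hs_pos (M := O) (HSLib.maxSupp_jacobson (A := O) O) le_rfl (t := t₀ + 1) (by omega)
    have := ht₀ (t₀ + 1) (by omega)
    rw [hne, Polynomial.eval_zero, Nat.cast_eq_zero] at this
    omega
  have hPdeg : P.degree = (Polynomial.X ^ r : Polynomial ℝ).degree := by
    rw [Polynomial.degree_X_pow, Polynomial.degree_eq_natDegree hP0,
      Polynomial.natDegree_map_eq_of_injective (algebraMap ℚ ℝ).injective, hdeg]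
  have hlim : Tendsto (fun t : ℕ => P.eval (t : ℝ) / (t : ℝ) ^ r) atTop (nhds P.leadingCoeff) := by
    have h := (Polynomial.div_tendsto_atTop_leadingCoeff_div_of_degree_eq P _ hPdeg).comp
      (tendsto_natCast_atTop_atTop (R := ℝ))
    simpa [Function.comp_def] using h
  have hge : 0 ≤ P.leadingCoeff := ge_of_tendsto hlim (Filter.eventually_atTop.2 ⟨t₀, fun t ht => by
    rw [← hval t ht]; positivity⟩)
  have hgt : 0 < P.leadingCoeff := hge.lt_of_ne' (Polynomial.leadingCoeff_ne_zero.2 hP0)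
  have h2 : Tendsto (fun t : ℕ => (1 - ε) * (P.eval (t : ℝ) / (t : ℝ) ^ r)) atTop
      (nhds ((1 - ε) * P.leadingCoeff)) := hlim.const_mul _
  obtain ⟨t, ht1, ht2, ht3⟩ := ((h2.eventually (eventually_le_nhds (show (1 - ε) * P.leadingCoeff < P.leadingCoeff by
    nlinarith))).and ((eventually_ge_atTop t₀).and (eventually_ge_atTop 1))).exists
  have htpos : (0 : ℝ) < (t : ℝ) ^ r := by positivity
  refine ⟨IsLocalRing.maximalIdeal O ^ t, (r.factorial : ℝ) * (P.leadingCoeff * (t : ℝ) ^ r),
    Ideal.pow_le_self (by omega), ⟨t, le_rfl⟩, ?_, ?_⟩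
  · have hsub : Tendsto (fun n : ℕ => P.eval ((t * n : ℕ) : ℝ) / ((t * n : ℕ) : ℝ) ^ r) atTop
        (nhds P.leadingCoeff) := hlim.comp (tendsto_id.const_mul_atTop' (by omega : 0 < t))
    refine ((hsub.mul_const ((t : ℝ) ^ r)).const_mul (r.factorial : ℝ)).congr' ?_
    refine Filter.eventually_atTop.2 ⟨max t₀ 1, fun n hn => ?_⟩
    have h1n : t₀ ≤ t * n := le_trans (le_trans (le_max_left _ _) hn) (Nat.le_mul_of_pos_left n (by omega))
    show _ = _ / (n : ℝ) ^ r
    rw [← pow_mul, hval _ h1n]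
    simp only [Nat.cast_mul, mul_pow]
    have hn0 : (n : ℝ) ^ r ≠ 0 := by
      have h0 : (0 : ℝ) < n := by exact_mod_cast (lt_of_lt_of_le Nat.one_pos (le_trans (le_max_right _ _) hn))
      positivity
    field_simp
  · rw [hval t ht2]
    rw [← mul_div_assoc, div_le_iff₀ htpos] at ht1
    calc (1 - ε) * ((r.factorial : ℝ) * P.eval (t : ℝ))
        = (r.factorial : ℝ) * ((1 - ε) * P.eval (t : ℝ)) := by ring
      _ ≤ _ := mul_le_mul_of_nonneg_left ht1 (by positivity)

end Groth.Agent.S19208
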