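import Groth.Statements.S19223
import Groth.Agent.S7725
import Mathlib.RingTheory.Henselian
import Mathlib.RepresentationTheory.Homological.GroupCohomology.LongExactSequence

set_option linter.style.haveILetI false
set_option backward.isDefEq.respectTransparency false
set_option backward.isDefEq.respectTransparency.types false


set_option autoImplicit false
attribute [local instance] Units.mulDistribMulActionRight
open GalCoh

open CategoryTheory

namespace Groth.Agent.S19223

theorem exists_preimage_of_exact.{w} {k H : Type w} [CommRing k] [Group H] {X : ShortComplex (Rep.{w} k H)} (h : X.Exact)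
    (y : X.X₂) (hy : X.g.hom y = 0) : ∃ x : X.X₁, X.f.hom x = y :=
  (ShortComplex.moduleCat_exact_iff _).1 (h.map (forget₂ (Rep.{w} k H) (ModuleCat.{w} k))) y hy


/-- For a strictly henselian local ring R whose residue field k has characteristic p ≥ 0, and a finite
group G of order prime to p acting on R by ring automorphisms (hence on the unit groups R^× and
k^×), consider the homomorphism H^n(G, R^×) → H^n(G, k^×) induced by the reduction map. It is
bijective for every n ≥ 2; it is also bijective for n = 1 provided that p = 0 or the only p-power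
root of unity in R is 1. (The reduction map on cohomology is pinned by its values on units; groups,
rings and modules are taken in the lowest universe, as integral coefficients in the group-cohomology
library require.) -/
theorem result (R : Type) [CommRing R]
    [HenselianLocalRing R] [IsSepClosed (IsLocalRing.ResidueField R)] (p : ℕ) [CharP (IsLocalRing.ResidueField R) p]
    (G : Type) [Group G] [Finite G] [MulSemiringAction G R] (hp : ¬ p ∣ Nat.card G)
    (φ : Rep.ofMulDistribMulAction G Rˣ ⟶ Rep.ofMulDistribMulAction G (IsLocalRing.ResidueField R)ˣ)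
    (hφ : ∀ x : Rˣ, Additive.toMul (φ.hom (Additive.ofMul x)) = Units.map (IsLocalRing.residue R).toMonoidHom x)
    (n : ℕ) (hn : 1 ≤ n) (h1 : n = 1 → p ≠ 0 → ∀ (ζ : Rˣ) (m : ℕ), ζ ^ p ^ m = 1 → ζ = 1) :
    Function.Bijective ((groupCohomology.functor ℤ G n).map φ).hom := by
  classical
  let X₂ := Rep.ofMulDistribMulAction G Rˣ
  let X₃ := Rep.ofMulDistribMulAction G (IsLocalRing.ResidueField R)ˣ
  have hsurj : Function.Surjective φ.hom := by
    intro y
    obtain ⟨r, hr⟩ := IsLocalRing.residue_surjective (R := R) ((Additive.toMul (y : Additive (IsLocalRing.ResidueField R)ˣ)).val)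
    have hu : IsUnit r := by
      by_contra hh
      have h0 : IsLocalRing.residue R r = 0 := (IsLocalRing.residue_eq_zero_iff r).2 ((IsLocalRing.mem_maximalIdeal r).2 hh)
      exact (Additive.toMul (y : Additive (IsLocalRing.ResidueField R)ˣ)).ne_zero (hr ▸ h0)
    refine ⟨Additive.ofMul hu.unit, Additive.toMul.injective (Units.ext ?_)⟩
    rw [hφ]
    exact hr
  haveI : Epi φ := (Rep.epi_iff_surjective φ).2 hsurj
  let S : ShortComplex (Rep ℤ G) := ShortComplex.mk (Limits.kernel.ι φ) φ (Limits.kernel.condition φ)
  have hS : S.ShortExact := { exact := ShortComplex.exact_of_f_is_kernel _ (Limits.kernelIsKernel φ) }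
  have hinj : Function.Injective S.f.hom := (Rep.mono_iff_injective S.f).1 hS.mono_f
  have hrange : ∀ y : X₂, φ.hom y = 0 → ∃ x : S.X₁, S.f.hom x = y := fun y hy =>
    exists_preimage_of_exact hS.exact y hy
  have hker : ∀ x : S.X₁, φ.hom (S.f.hom x) = 0 := fun x => by
    have := congrArg (fun f => (Rep.Hom.hom f) x) S.zero
    exact this
  set N := Nat.card G with hN
  have hNk : (N : IsLocalRing.ResidueField R) ≠ 0 := fun h => hp ((CharP.cast_eq_zero_iff _ p N).1 h)
  have uniq : ∀ y : Rˣ, Units.map (IsLocalRing.residue R).toMonoidHom y = 1 → y ^ N = 1 → y = 1 := by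
    intro y hy hyN
    have hy' : IsLocalRing.residue R (y : R) = 1 := congrArg Units.val hy
    have hsum : IsUnit (∑ i ∈ Finset.range N, (y : R) ^ i) := by
      rw [← IsLocalRing.residue_ne_zero_iff_isUnit]
      simp [map_sum, map_pow, hy', hNk]
    have h0 : (∑ i ∈ Finset.range N, (y : R) ^ i) * ((y : R) - 1) = 0 := by
      rw [geom_sum_mul, ← Units.val_pow_eq_pow_val, hyN, Units.val_one, sub_self]
    exact Units.ext (sub_eq_zero.1 ((hsum.mul_right_eq_zero).1 h0))
  have exi : ∀ a : Rˣ, Units.map (IsLocalRing.residue R).toMonoidHom a = 1 →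
      ∃ y : Rˣ, Units.map (IsLocalRing.residue R).toMonoidHom y = 1 ∧ y ^ N = a := by
    intro a ha
    have ha' : IsLocalRing.residue R (a : R) = 1 := congrArg Units.val ha
    have hN0 : N ≠ 0 := Nat.card_pos.ne'
    obtain ⟨y, hy, hy1⟩ := HenselianLocalRing.is_henselian (Polynomial.X ^ N - Polynomial.C (a : R))
      (Polynomial.monic_X_pow_sub_C _ hN0) 1 (by
        rw [← IsLocalRing.residue_eq_zero_iff]
        simp [ha']) (by
        simp only [map_sub, Polynomial.derivative_X_pow, Polynomial.derivative_C, sub_zero, Polynomial.eval_mul,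
          Polynomial.eval_C, Polynomial.eval_pow, Polynomial.eval_X, one_pow, mul_one]
        rw [← IsLocalRing.residue_ne_zero_iff_isUnit, map_natCast]
        exact hNk)
    have hyN : y ^ N = (a : R) := by
      simpa [sub_eq_zero] using hy
    have hy' : IsLocalRing.residue R y = 1 := by
      rw [← IsLocalRing.residue_eq_zero_iff, map_sub, map_one, sub_eq_zero] at hy1
      exact hy1
    have hu : IsUnit y := (IsLocalRing.residue_ne_zero_iff_isUnit y).1 (hy' ▸ one_ne_zero)
    exact ⟨hu.unit, Units.ext hy', Units.ext hyN⟩
  have hphi : ∀ (y : Rˣ), φ.hom (Additive.ofMul y) = 0 ↔ Units.map (IsLocalRing.residue R).toMonoidHom y = 1 := by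
    intro y
    rw [← hφ y]
    exact ⟨fun h => by rw [h]; rfl, fun h => Additive.toMul.injective h⟩
  have hdiv : Function.Bijective fun a : S.X₁ => Nat.card G • a := by
    refine ⟨fun a b hab => ?_, fun a => ?_⟩
    · apply hinj
      rw [← sub_eq_zero, ← map_sub]
      have h1 : N • S.f.hom (a - b) = 0 := by
        rw [← map_nsmul, smul_sub, show N • a = N • b from hab, sub_self, map_zero]
      have h2 := hker (a - b)
      generalize S.f.hom (a - b) = y at h1 h2 ⊢
      have := uniq (Additive.toMul (y : Additive Rˣ)) ((hphi (Additive.toMul (y : Additive Rˣ))).1 h2) (congrArg Additive.toMul (h1 : N • (y : Additive Rˣ) = 0))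
      exact Additive.toMul.injective this
    · have h2 := hker a
      obtain ⟨y, hy1, hy2⟩ := exi (Additive.toMul (S.f.hom a : Additive Rˣ)) ((hphi _).1 h2)
      obtain ⟨x, hx⟩ := hrange (Additive.ofMul y) ((hphi y).2 hy1)
      refine ⟨x, hinj ?_⟩
      show S.f.hom (N • x) = S.f.hom a
      rw [map_nsmul, hx]
      exact congrArg Additive.ofMul hy2
  haveI hA := Groth.Agent.S7725.result ℤ G S.X₁ hdiv n (by omega)
  haveI h2 := Groth.Agent.S7725.result ℤ G S.X₁ hdiv (n + 1) (by omega)
  constructor
  · rw [injective_iff_map_eq_zero]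
    intro x hx
    obtain ⟨z, hz⟩ := (ShortComplex.moduleCat_exact_iff _).1 (groupCohomology.mapShortComplex₂_exact hS n) x hx
    rw [show z = 0 from Subsingleton.elim (α := ↥(groupCohomology S.X₁ n)) z 0, map_zero] at hz
    exact hz.symm
  · intro y
    exact (ShortComplex.moduleCat_exact_iff _).1 (groupCohomology.mapShortComplex₃_exact hS (rfl : n + 1 = n + 1)) y
      (Subsingleton.elim (α := ↥(groupCohomology S.X₁ (n + 1))) _ _)
end Groth.Agent.S19223
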