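import Groth.Statements.S19244
import Mathlib

set_option autoImplicit false
universe v v' u u'
open HomAlg3

namespace Groth.Agent.S19244

open CategoryTheory in
/-- Let A be an abelian category and let P be the class of bounded-torsion objects of A, those X with n
• 𝟙_X = 0 for some nonzero integer n; assume P is a Serre class. Let L : A ⥤ D be an additive
functor to a preadditive category exhibiting D as the localization of A at the morphisms whose
kernel and cokernel are in P (so D is the quotient category A_ℚ = A ⧸ A_{b-tor}; the source assumes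
A well-powered, which guarantees that this quotient exists). Then for all objects X, Y of A: (1) for
every nonzero integer n, multiplication by n is bijective on Hom_D(L X, L Y), so that this group is
naturally a ℚ-vector space; (2) a morphism f : X ⟶ Y satisfies L f = 0 if and only if n • f = 0 for
some nonzero integer n; (3) for every g : L X ⟶ L Y there are a nonzero integer n and f : X ⟶ Y with
n • g = L f. Equivalently, the natural map Hom_A(X, Y) ⊗_ℤ ℚ → Hom_D(L X, L Y) is an isomorphism. -/
theorem result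
    {A : Type u} [Category.{v} A] [Abelian A] {D : Type u'} [Category.{v'} D] [Preadditive D]
    (P : ObjectProperty A) (hP : ∀ X : A, P X ↔ ∃ n : ℤ, n ≠ 0 ∧ n • (𝟙 X) = 0) [P.IsSerreClass]
    (L : A ⥤ D) [L.Additive] [L.IsLocalization P.isoModSerre] (X Y : A) :
    (∀ n : ℤ, n ≠ 0 → Function.Bijective (fun g : L.obj X ⟶ L.obj Y => n • g)) ∧
    (∀ f : X ⟶ Y, L.map f = 0 ↔ ∃ n : ℤ, n ≠ 0 ∧ n • f = 0) ∧
    (∀ g : L.obj X ⟶ L.obj Y, ∃ (n : ℤ) (f : X ⟶ Y), n ≠ 0 ∧ n • g = L.map f) := by
  open CategoryTheory.Limits in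
  classical
  have kill : ∀ {X Y : A} (f : X ⟶ Y) (n : ℤ) , n • f = 0 ↔ n • 𝟙 (Abelian.image f) = 0 := by
    intro X Y f n
    constructor
    · intro h
      rw [← cancel_epi (Abelian.factorThruImage f), ← cancel_mono (Abelian.image.ι f)]
      simp [h]
    · intro h
      have := congrArg (fun t => Abelian.factorThruImage f ≫ t ≫ Abelian.image.ι f) h
      simpa using this
  have hmul : ∀ (Z : A) (n : ℤ), n ≠ 0 → P.isoModSerre (n • 𝟙 Z) := fun Z n hn => by
    refine (P.isoModSerre_iff _).2 ⟨?_, ?_⟩
    · exact (hP _).2 ⟨n, hn, by rw [← cancel_mono (kernel.ι (n • 𝟙 Z)), Preadditive.zsmul_comp, zero_comp, Category.id_comp]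
                                simpa using kernel.condition (n • 𝟙 Z)⟩
    · exact (hP _).2 ⟨n, hn, by rw [← cancel_epi (cokernel.π (n • 𝟙 Z)), Preadditive.comp_zsmul, comp_zero, Category.comp_id]
                                have h := cokernel.condition (n • 𝟙 Z)
                                rwa [Preadditive.zsmul_comp, Category.id_comp] at h⟩
  have hbij : ∀ (X Y : A) (n : ℤ), n ≠ 0 → Function.Bijective (fun g : L.obj X ⟶ L.obj Y => n • g) := by
    intro X Y n hn
    haveI := Localization.inverts L P.isoModSerre _ (hmul Y n hn)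
    have e : ∀ g : L.obj X ⟶ L.obj Y, n • g = g ≫ L.map (n • 𝟙 Y) := fun g => by
      rw [L.map_zsmul, L.map_id, Preadditive.comp_zsmul, Category.comp_id]
    refine ⟨fun a b h => ?_, fun g => ⟨g ≫ CategoryTheory.inv (L.map (n • 𝟙 Y)), ?_⟩⟩
    · rw [← cancel_mono (L.map (n • 𝟙 Y)), ← e, ← e]
      exact h
    · change n • _ = g
      rw [e, Category.assoc, IsIso.inv_hom_id, Category.comp_id]
  refine ⟨hbij X Y, fun f => ?_, fun g => ?_⟩
  · rw [ObjectProperty.SerreClassLocalization.map_eq_zero_iff L P, hP]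
    exact exists_congr fun n => and_congr_right fun _ => (kill f n).symm
  · obtain ⟨φ, rfl⟩ := Localization.exists_leftFraction L P.isoModSerre g
    obtain ⟨hK, hC⟩ := (P.isoModSerre_iff _).1 φ.hs
    obtain ⟨n, hn, hn'⟩ := (hP _).1 hK
    obtain ⟨m, hm, hm'⟩ := (hP _).1 hC
    have h1 : (m • 𝟙 φ.Y') ≫ cokernel.π φ.s = 0 := by
      rw [Preadditive.zsmul_comp, Category.id_comp]
      simpa using congrArg (fun t => cokernel.π φ.s ≫ t) hm'
    let v : φ.Y' ⟶ Abelian.image φ.s := kernel.lift _ _ h1
    have hv : v ≫ Abelian.image.ι φ.s = m • 𝟙 φ.Y' := kernel.lift_ι _ _ _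
    have h2 : kernel.ι (Abelian.factorThruImage φ.s) ≫ (n • 𝟙 Y) = 0 := by
      have hs : kernel.ι (Abelian.factorThruImage φ.s) ≫ φ.s = 0 := by
        conv_lhs => arg 2; rw [← Abelian.image.fac φ.s]
        rw [kernel.condition_assoc, zero_comp]
      have h3 : (n • kernel.ι φ.s : kernel φ.s ⟶ Y) = 0 := by
        simpa using congrArg (fun t => t ≫ kernel.ι φ.s) hn'
      rw [← kernel.lift_ι φ.s _ hs, Category.assoc, Preadditive.comp_zsmul, Category.comp_id, h3, comp_zero]
    let w : Abelian.image φ.s ⟶ Y := Abelian.epiDesc (Abelian.factorThruImage φ.s) _ h2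
    have hw : Abelian.factorThruImage φ.s ≫ w = n • 𝟙 Y := Abelian.comp_epiDesc _ _ _
    have hs : φ.s ≫ v = m • Abelian.factorThruImage φ.s := by
      rw [← cancel_mono (Abelian.image.ι φ.s), Category.assoc, hv, Preadditive.zsmul_comp, Abelian.image.fac,
        Preadditive.comp_zsmul, Category.comp_id]
    refine ⟨m * n, φ.f ≫ v ≫ w, mul_ne_zero hm hn, ?_⟩
    have hsw : φ.s ≫ v ≫ w = (m * n) • 𝟙 Y := by
      rw [reassoc_of% hs, Preadditive.zsmul_comp, hw, mul_smul]
    have e : (m * n) • φ.map L (Localization.inverts L P.isoModSerre) =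
        φ.map L (Localization.inverts L P.isoModSerre) ≫ L.map (φ.s ≫ v ≫ w) := by
      rw [hsw, L.map_zsmul, L.map_id, Preadditive.comp_zsmul, Category.comp_id]
    rw [e, L.map_comp φ.s, ← Category.assoc, MorphismProperty.LeftFraction.map_comp_map_s, L.map_comp φ.f]

end Groth.Agent.S19244
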