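import Groth.Statements.S19255
import Groth.Agent.QSheaf5.Main
import Groth.Agent.EtTransfer5.Coprime
-- import your own Groth.Agent.* helpers here

set_option autoImplicit false
universe u
open CategoryTheory CategoryTheory.Limits AlgebraicGeometry Opposite
open EtCd

attribute [-instance] CategoryTheory.catToReflQuiver

namespace Groth.Agent.S19255

/-- Let X be a Noetherian scheme of Krull dimension at most d and F an abelian sheaf on the small etale
site of X which is a sheaf of ℚ-vector spaces, i.e. multiplication by every positive integer is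
bijective on the sections of F over every etale X-scheme. Then Hⁱ(X_et, F) = 0 for every i > d. -/
theorem result (X : Scheme.{u}) [IsNoetherian X] (d : ℕ)
    (hd : topologicalKrullDim ↥X ≤ d) (F : EtCoh.Ab X)
    (hF : ∀ (U : X.Etale) (m : ℕ), 0 < m → Function.Bijective (fun s : EtCoh.sect F U => m • s))
    (i : ℕ) (hi : d < i) : Subsingleton (EtCoh.H X F i) := by
  refine Groth.Agent.QSheaf5.main (d + 1) X (lt_of_le_of_lt hd ?_) F (fun m hm => ?_) i (by omega)
  · exact WithBot.coe_lt_coe.2 (ENat.coe_lt_coe.2 (Nat.lt_succ_self d))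
  haveI : IsIso (m • 𝟙 F : F ⟶ F).hom := by
    haveI : ∀ U, IsIso ((m • 𝟙 F : F ⟶ F).hom.app U) := fun ⟨U⟩ => by
      rw [ConcreteCategory.isIso_iff_bijective]
      exact (funext fun s => Groth.Agent.EtTransfer5.nsmul_id_app F m U s) ▸ hF U m hm
    exact NatIso.isIso_of_isIso_app _
  exact (isIso_iff_of_reflects_iso (m • 𝟙 F : F ⟶ F) (sheafToPresheaf _ _)).1 (by assumption)

end Groth.Agent.S19255
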