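import Groth.Statements.S19272
-- import your own Groth.Agent.* helpers here

set_option autoImplicit false
universe u
open WittFil

namespace Groth.Agent.S19272

/-- Let A be a unique factorisation domain of characteristic p, x_1, …, x_r pairwise non-associate prime
elements of A, B = A[1/(x_1⋯x_r)] with u_i the unit of B defined by x_i, m ≥ 0, and n ∈ ℤ^r with n_i
< 0 for every i. Then every truncated p-typical Witt vector of length m over B lying in the filtered
piece cut out by ∏ u_i ^ n_i (every coordinate y_j has y_j ^ (p ^ (m−1−j)) · ∏ u_i ^ n_i in the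
image of A) has all its coordinates in the image of the ideal (x_1⋯x_r)·A. (The published item,
stated for the filtered de Rham–Witt pieces in all degrees over a regular local ring, says only that
such vectors have all coordinates in A; this row states the divisibility of every coordinate by
x_1⋯x_r that its proof establishes, in degree zero, for a unique factorisation domain in place of a
regular local ring.) -/
theorem result (p : ℕ) [Fact p.Prime] {A B : Type u} [CommRing A] [IsDomain A]
    [UniqueFactorizationMonoid A] [CharP A p] [CommRing B] [Algebra A B] {r : ℕ} (x : Fin r → A)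
    (hx : ∀ i, Prime (x i)) (hxa : ∀ i j, Associated (x i) (x j) → i = j)
    [IsLocalization.Away (∏ i, x i) B] (u : Fin r → Bˣ)
    (hu : ∀ i, (u i : B) = algebraMap A B (x i)) (m : ℕ) (n : Fin r → ℤ) (hn : ∀ i, n i < 0)
    (a : TruncatedWittVector p m B) (ha : a ∈ WittFil.fil p m (A := A) (WittFil.zmon u n))
    (j : Fin m) :
    ∃ b : A, TruncatedWittVector.coeff j a = algebraMap A B ((∏ i, x i) * b) := by
  classical
  have hprod : (∏ i, x i) ≠ 0 := Finset.prod_ne_zero_iff.mpr fun i _ => (hx i).ne_zero
  have hle : Submonoid.powers (∏ i, x i) ≤ nonZeroDivisors A := powers_le_nonZeroDivisors_of_noZeroDivisors hprod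
  have hinj : Function.Injective (algebraMap A B) := IsLocalization.injective B hle
  set y := TruncatedWittVector.coeff j a with hy
  set q := p ^ (m - 1 - (j : ℕ)) with hq
  have hq0 : q ≠ 0 := pow_ne_zero _ (Fact.out : p.Prime).ne_zero
  obtain ⟨b, hb⟩ := ha j
  rw [← hy, ← hq] at hb
  -- the monomial is the inverse of a monomial with positive exponents
  have hmon : WittFil.zmon u n * algebraMap A B (∏ i, x i ^ (-n i).toNat) = 1 := by
    have e : algebraMap A B (∏ i, x i ^ (-n i).toNat) = ((∏ i, u i ^ (-n i) : Bˣ) : B) := by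
      rw [map_prod, Units.coe_prod]
      refine Finset.prod_congr rfl fun i _ => ?_
      rw [map_pow, ← hu]
      conv_rhs => rw [show -n i = (((-n i).toNat : ℕ) : ℤ) from (Int.toNat_of_nonneg (by have := hn i; omega)).symm]
      rw [zpow_natCast, Units.val_pow_eq_pow_val]
    rw [e, WittFil.zmon, ← Units.val_mul, ← Finset.prod_mul_distrib]
    simp [← zpow_add]
  have hyq : y ^ q = algebraMap A B (b * ∏ i, x i ^ (-n i).toNat) := by
    rw [map_mul, hb, mul_assoc, hmon, mul_one]
  obtain ⟨y₀, hy₀⟩ : ∃ y₀, algebraMap A B y₀ = y := by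
    obtain ⟨N, a₀, ha₀⟩ := IsLocalization.Away.surj (∏ i, x i) y
    have h1 : a₀ ^ q = b * (∏ i, x i ^ (-n i).toNat) * ((∏ i, x i) ^ N) ^ q := hinj (by
      rw [map_pow, ← ha₀, map_mul, ← hyq, mul_pow, map_pow, map_pow])
    obtain ⟨z, hz⟩ := (UniqueFactorizationMonoid.pow_dvd_pow_iff_dvd hq0).mp (h1 ▸ dvd_mul_left (((∏ i, x i) ^ N) ^ q) _)
    refine ⟨z, ((IsLocalization.map_units B (⟨_, N, rfl⟩ : Submonoid.powers (∏ i, x i))).mul_left_inj).mp ?_⟩
    show algebraMap A B z * algebraMap A B ((∏ i, x i) ^ N) = y * algebraMap A B ((∏ i, x i) ^ N)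
    rw [← map_mul, mul_comm z, ← hz, map_pow, ha₀]
  rw [← hy₀, ← map_pow] at hyq
  have hdvd : ∀ i, x i ∣ y₀ := fun i => (hx i).dvd_of_dvd_pow (n := q) (by
    rw [hinj hyq]
    exact dvd_mul_of_dvd_right ((dvd_pow_self (x i) (show (-n i).toNat ≠ 0 by have := hn i; omega)).trans
      (Finset.dvd_prod_of_mem (fun i => x i ^ (-n i).toNat) (Finset.mem_univ i))) _)
  obtain ⟨c, hc⟩ : (∏ i, x i) ∣ y₀ := by
    refine Finset.prod_dvd_of_isRelPrime (fun i _ l _ hil => ?_) fun i _ => hdvd i
    exact (hx i).irreducible.isRelPrime_iff_not_dvd.mpr fun h =>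
      hil (hxa i l ((hx i).irreducible.associated_of_dvd (hx l).irreducible h))
  exact ⟨c, by rw [← hy₀, hc]⟩

end Groth.Agent.S19272
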