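import Groth.Statements.S19273
-- import your own Groth.Agent.* helpers here
import Mathlib

set_option autoImplicit false
universe u
open CAlg

namespace Groth.Agent.S19273

open KaehlerDifferential in
/-- Let A be an integral domain of prime characteristic p, x_1, …, x_N elements of A, r ≤ N, B =
A[1/(x_1⋯x_r)] with u_i the unit of B defined by x_i for i ≤ r, and suppose that the module Ω_A of
absolute Kähler differentials of A is free with a basis b indexed by {1, …, N} ⊔ ι whose i-th vector
is d(x_i) for i ≤ N. Then the module of logarithmic 1-forms — the A-submodule of Ω_B spanned by the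
image of Ω_A and the forms u_i⁻¹ · d(x_i), i ≤ r — is a free A-module: it has a basis indexed by {1,
…, N} ⊔ ι whose vector at i ≤ r is u_i⁻¹ · d(x_i), at r < i ≤ N is d(x_i), and at k ∈ ι is the image
of b_k. (In the published statement A is a regular local F-finite algebra over the prime field with
maximal ideal (x_1, …, x_N), the basis of Ω_A comes from the preceding lemma, and the assertion
covers the logarithmic q-forms for all q together with their identification with the log de Rham
complex of the log ring; only the degree-one freeness is stated here, from the properties of A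
actually used.) -/
theorem result (p : ℕ) [Fact p.Prime]
    {A B : Type u} [CommRing A] [IsDomain A] [CharP A p] [CommRing B] [Algebra A B] {r N : ℕ}
    (hr : r ≤ N) (x : Fin N → A) [IsLocalization.Away (∏ i : Fin r, x (Fin.castLE hr i)) B]
    (u : Fin r → Bˣ) (hu : ∀ i, (u i : B) = algebraMap A B (x (Fin.castLE hr i)))
    {ι : Type u} (b : Module.Basis (Fin N ⊕ ι) A (Ω[A⁄ℤ])) (hb : ∀ i, b (Sum.inl i) = D ℤ A (x i)) :
    ∃ e : Module.Basis (Fin N ⊕ ι) A
        (W4c6katofilta.logForms1 (fun i : Fin r => x (Fin.castLE hr i)) u),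
      (∀ i : Fin r, (e (Sum.inl (Fin.castLE hr i)) : Ω[B⁄ℤ]) =
          ((u i)⁻¹ : Bˣ) • KaehlerDifferential.map ℤ ℤ A B (D ℤ A (x (Fin.castLE hr i)))) ∧
      (∀ i : Fin N, r ≤ (i : ℕ) →
          (e (Sum.inl i) : Ω[B⁄ℤ]) = KaehlerDifferential.map ℤ ℤ A B (D ℤ A (x i))) ∧
      (∀ k : ι, (e (Sum.inr k) : Ω[B⁄ℤ]) = KaehlerDifferential.map ℤ ℤ A B (b (Sum.inr k))) := by
  classical
  let S : Submonoid A := Submonoid.powers (∏ i : Fin r, x (Fin.castLE hr i))
  have hx0 : ∀ i, x i ≠ 0 := by
    intro i h
    have := b.ne_zero (Sum.inl i)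
    rw [hb, h, map_zero] at this
    exact this rfl
  have hS : S ≤ nonZeroDivisors A := powers_le_nonZeroDivisors_of_noZeroDivisors
    (Finset.prod_ne_zero_iff.2 fun i _ => hx0 _)
  have hinj : Function.Injective (algebraMap A B) := IsLocalization.injective B hS
  have := (inferInstance : IsLocalization S B)
  set ψ := KaehlerDifferential.map ℤ ℤ A B with hψ
  have : IsLocalizedModule S ψ := KaehlerDifferential.isLocalizedModule_map ℤ A B S
  let bB : Module.Basis (Fin N ⊕ ι) B (Ω[B⁄ℤ]) := b.ofIsLocalizedModule B S ψ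
  have hbB : ∀ j, bB j = ψ (b j) := fun j => Module.Basis.ofIsLocalizedModule_apply B S ψ b j
  let c : Fin N ⊕ ι → Bˣ := Sum.elim (fun i => if h : (i : ℕ) < r then (u ⟨i, h⟩)⁻¹ else 1) (fun _ => 1)
  let w : Fin N ⊕ ι → Ω[B⁄ℤ] := c • ⇑bB
  have hw : LinearIndependent A w :=
    (bB.linearIndependent.units_smul c).restrict_scalars (by
      intro a a' h
      exact hinj (by simpa [Algebra.smul_def] using h))
  have hwi : ∀ i : Fin r, w (Sum.inl (Fin.castLE hr i)) =
      ((u i)⁻¹ : Bˣ) • ψ (D ℤ A (x (Fin.castLE hr i))) := by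
    intro i
    show c _ • bB _ = _
    rw [hbB, hb]
    simp [c]
  have hwge : ∀ i : Fin N, r ≤ (i : ℕ) → w (Sum.inl i) = ψ (D ℤ A (x i)) := by
    intro i hi
    show c _ • bB _ = _
    rw [hbB, hb]
    simp [c, Nat.not_lt.2 hi]
  have hwr : ∀ k : ι, w (Sum.inr k) = ψ (b (Sum.inr k)) := by
    intro k
    show c _ • bB _ = _
    rw [hbB]
    simp [c]
  have hspan : Submodule.span A (Set.range w) =
      W4c6katofilta.logForms1 (fun i : Fin r => x (Fin.castLE hr i)) u := by
    refine le_antisymm (Submodule.span_le.2 ?_) (Submodule.span_le.2 ?_)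
    · rintro _ ⟨i | k, rfl⟩
      · by_cases h : (i : ℕ) < r
        · have := hwi ⟨i, h⟩
          rw [show Fin.castLE hr ⟨i, h⟩ = i from rfl] at this
          rw [this]
          exact Submodule.subset_span (Or.inr ⟨⟨i, h⟩, rfl⟩)
        · rw [hwge i (Nat.not_lt.1 h)]
          exact Submodule.subset_span (Or.inl ⟨_, rfl⟩)
      · rw [hwr]
        exact Submodule.subset_span (Or.inl ⟨_, rfl⟩)
    · rintro _ (⟨m, rfl⟩ | ⟨i, rfl⟩)
      · have hm : m ∈ Submodule.span A (Set.range b) := by rw [b.span_eq]; trivial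
        have hm' := Submodule.mem_map_of_mem (f := ψ) hm
        rw [Submodule.map_span] at hm'
        refine (Submodule.span_le.2 ?_) hm'
        rintro _ ⟨_, ⟨j, rfl⟩, rfl⟩
        obtain i | k := j
        · by_cases h : (i : ℕ) < r
          · have := hwi ⟨i, h⟩
            rw [show Fin.castLE hr ⟨i, h⟩ = i from rfl] at this
            have hxw : ψ (b (Sum.inl i)) = x i • w (Sum.inl i) := by
              have hu' : ((u ⟨i, h⟩ : Bˣ) : B) = algebraMap A B (x i) := hu ⟨i, h⟩
              rw [this, hb, ← IsScalarTower.algebraMap_smul B (x i), ← hu', Units.smul_def,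
                smul_smul, Units.mul_inv, one_smul]
            rw [hxw]
            exact Submodule.smul_mem _ _ (Submodule.subset_span ⟨_, rfl⟩)
          · rw [hb, ← hwge i (Nat.not_lt.1 h)]
            exact Submodule.subset_span ⟨_, rfl⟩
        · rw [← hwr k]
          exact Submodule.subset_span ⟨_, rfl⟩
      · exact Submodule.subset_span ⟨_, hwi i⟩
  refine ⟨(Module.Basis.span hw).map (LinearEquiv.ofEq _ _ hspan), fun i => ?_, fun i hi => ?_,
    fun k => ?_⟩
  · rw [← hwi i]; simp
  · rw [← hwge i hi]; simp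
  · rw [← hwr k]; simp

end Groth.Agent.S19273
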