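import Groth.Statements.S19274
-- import your own Groth.Agent.* helpers here

set_option autoImplicit false
universe u
open WittFil

namespace Groth.Agent.S19274

/-- Let A be a unique factorisation domain of characteristic p, x a prime element of A, B = A[1/x] with
u the unit of B defined by x, m ≥ 1, and n an integer NOT divisible by p^m. For e in B and k ≥ 0
write fil_k(e) for the set of truncated p-typical Witt vectors of length k over B whose j-th
coordinate y_j satisfies y_j ^ (p ^ (k−1−j)) · e ∈ A for all j < k (the filtered piece; fil_k(u^n)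
is the piece of index n). Then fil_{m+1}(u^n) is contained in fil_{m+1}(u^(n−1)) + V(fil_m(u^n))
(the reverse inclusion is immediate): every a in fil_{m+1}(u^n) can be written a = b + V(y) with b
in fil_{m+1}(u^(n−1)) and y a Witt vector over B whose length-m truncation lies in fil_m(u^n), V(y)
being truncated to length m+1. (In the source A is a henselian discrete valuation ring, n = p^r·l >
1 with p not dividing l, and the condition reads m ≥ r + 1.) -/
theorem result (p : ℕ) [Fact p.Prime]
    {A B : Type u} [CommRing A] [IsDomain A] [UniqueFactorizationMonoid A] [CharP A p]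
    [CommRing B] [Algebra A B] (x : A) (hx : Prime x) [IsLocalization.Away x B] (u : Bˣ)
    (hu : (u : B) = algebraMap A B x) (m : ℕ) (hm : 0 < m) (n : ℤ) (hn : ¬ ((p : ℤ) ^ m ∣ n)) :
    ∀ a ∈ WittFil.fil p (m + 1) (A := A) ((u ^ n : Bˣ) : B),
      ∃ b ∈ WittFil.fil p (m + 1) (A := A) ((u ^ (n - 1) : Bˣ) : B),
        ∃ y : WittVector p B,
          WittVector.truncate m y ∈ WittFil.fil p m (A := A) ((u ^ n : Bˣ) : B) ∧
            a = b + WittVector.truncate (m + 1) (WittVector.verschiebung y) := by
  classical
  intro a ha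
  have hp : p.Prime := Fact.out
  have hinj : Function.Injective (algebraMap A B) :=
    IsLocalization.injective B (powers_le_nonZeroDivisors_of_noZeroDivisors hx.ne_zero)
  set P := p ^ m with hP
  obtain ⟨w, rfl⟩ := WittVector.truncate_surjective p (m + 1) B a
  let t : WittVector p B := WittVector.teichmuller p (w.coeff 0)
  let y : WittVector p B := WittVector.mk p fun i => w.coeff (i + 1)
  have hw : w = t + WittVector.verschiebung y := by
    refine WittVector.ext fun i => ?_
    rw [WittVector.coeff_add_of_disjoint]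
    · rcases i with _ | i
      · rw [WittVector.verschiebung_coeff_zero, add_zero, WittVector.teichmuller_coeff_zero]
      · rw [WittVector.verschiebung_coeff_succ, WittVector.teichmuller_coeff_pos _ _ _ (Nat.succ_pos i), zero_add]
        rfl
    · rintro (_ | i)
      · exact Or.inr (WittVector.verschiebung_coeff_zero y)
      · exact Or.inl (WittVector.teichmuller_coeff_pos _ _ _ (Nat.succ_pos i))
  refine ⟨WittVector.truncate (m + 1) t, ?_, y, fun j => ?_, by rw [← map_add, ← hw]⟩
  · rintro ⟨_ | i, hi⟩
    · rw [WittVector.coeff_truncate]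
      show (WittVector.teichmuller p (w.coeff 0)).coeff 0 ^ _ * _ ∈ _
      rw [WittVector.teichmuller_coeff_zero]
      obtain ⟨b, hb⟩ := ha ⟨0, hi⟩
      rw [WittVector.coeff_truncate] at hb
      simp only [Nat.add_sub_cancel, Nat.sub_zero, ← hP] at hb ⊢
      obtain ⟨N, α, e⟩ := IsLocalization.Away.surj x (w.coeff 0)
      rw [← hu, ← Units.val_pow_eq_pow_val] at e
      have hpos : 0 < P := pow_pos hp.pos m
      by_cases hα0 : α = 0
      · have h0 : w.coeff 0 = 0 := by
          rw [hα0, map_zero] at e
          exact (Units.mul_left_eq_zero _).mp e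
        exact ⟨0, by rw [map_zero, h0, zero_pow hpos.ne', zero_mul]⟩
      obtain ⟨f, α', hα', rfl⟩ := WfDvdMonoid.max_power_factor hα0 hx.irreducible
      have hw0 : w.coeff 0 = algebraMap A B α' * ((u ^ ((f : ℤ) - (N : ℤ)) : Bˣ) : B) := by
        rw [zpow_sub, zpow_natCast, zpow_natCast, Units.val_mul, Units.val_pow_eq_pow_val, hu, ← map_pow, ← mul_assoc,
          ← map_mul, mul_comm α', ← e, mul_assoc, Units.mul_inv, mul_one]
      have hexp : ∀ z : ℤ, w.coeff 0 ^ P * ((u ^ z : Bˣ) : B) =
          algebraMap A B (α' ^ P) * ((u ^ (((f : ℤ) - (N : ℤ)) * P + z) : Bˣ) : B) := fun z => by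
        rw [hw0, mul_pow, map_pow, mul_assoc, ← Units.val_pow_eq_pow_val, ← Units.val_mul, zpow_add, zpow_mul,
          zpow_natCast]
      rw [hexp] at hb
      set d := ((f : ℤ) - (N : ℤ)) * P + n with hd
      have hd1 : 1 ≤ d := by
        by_contra h
        have hd0 : d ≠ 0 := fun h0 => hn ⟨-((f : ℤ) - (N : ℤ)), by
          have : ((p : ℤ) ^ m) = (P : ℤ) := by rw [hP]; push_cast; rfl
          rw [this]; linear_combination h0⟩
        obtain ⟨s, hs⟩ : ∃ s : ℕ, d = -((s : ℤ) + 1) := ⟨(-d - 1).toNat, by omega⟩
        have h2 : algebraMap A B (α' ^ P) = algebraMap A B (b * x ^ (s + 1)) := by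
          rw [map_mul, map_pow _ x, ← hu, hb, mul_assoc, ← Units.val_pow_eq_pow_val, ← Units.val_mul, hs,
            ← zpow_natCast u (s + 1), ← zpow_add]
          simp
        exact hα' (hx.dvd_of_dvd_pow ((hinj h2) ▸ dvd_mul_of_dvd_right (dvd_pow_self x s.succ_ne_zero) b))
      refine ⟨α' ^ P * x ^ (d - 1).toNat, ?_⟩
      rw [hexp, map_mul, map_pow _ x, ← hu, ← Units.val_pow_eq_pow_val, ← zpow_natCast u,
        Int.toNat_of_nonneg (by omega), hd]
      congr 3
      ring
    · rw [WittVector.coeff_truncate]
      show (WittVector.teichmuller p (w.coeff 0)).coeff (i + 1) ^ _ * _ ∈ _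
      rw [WittVector.teichmuller_coeff_pos _ _ _ (Nat.succ_pos i), zero_pow (pow_ne_zero _ hp.ne_zero), zero_mul]
      exact zero_mem _
  · have h := ha ⟨(j : ℕ) + 1, by omega⟩
    rw [WittVector.coeff_truncate] at h ⊢
    rw [show m - 1 - (j : ℕ) = m + 1 - 1 - ((j : ℕ) + 1) by omega]
    exact h

end Groth.Agent.S19274
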