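import Groth.Statements.S19275
import Mathlib.RingTheory.Flat.Basic
import Mathlib.RingTheory.TensorProduct.MonoidAlgebra

open TensorProduct

theorem Groth.Agent.S19275.range_baseChange_range.{a, b, c} {K : Type a} [CommRing K] {M N : Type b}
    [AddCommGroup M] [AddCommGroup N] [Module K M] [Module K N] (R : Type c) [CommRing R] [Algebra K R]
    (f : M →ₗ[K] N) :
    LinearMap.range ((LinearMap.range f).subtype.baseChange R) = LinearMap.range (f.baseChange R) := by
  refine le_antisymm ?_ ?_
  · rintro _ ⟨z, rfl⟩
    induction z using TensorProduct.induction_on with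
    | zero => simp only [map_zero, Submodule.zero_mem]
    | add a b ha hb => rw [map_add]; exact add_mem ha hb
    | tmul r v =>
      obtain ⟨m, hm⟩ := v.2
      exact ⟨r ⊗ₜ[K] m, by rw [LinearMap.baseChange_tmul, LinearMap.baseChange_tmul, hm]; rfl⟩
  · rintro _ ⟨z, rfl⟩
    induction z using TensorProduct.induction_on with
    | zero => simp only [map_zero, Submodule.zero_mem]
    | add a b ha hb => rw [map_add]; exact add_mem ha hb
    | tmul r v => exact ⟨r ⊗ₜ[K] ⟨f v, v, rfl⟩, by rw [LinearMap.baseChange_tmul, LinearMap.baseChange_tmul]; rfl⟩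

set_option autoImplicit false
universe u v w
open Hoch

namespace Groth.Agent.S19275

open TensorProduct in
/-- In the case of an affine group scheme over a field (a K-groupoid acting on Spec K itself),
cohomology commutes with arbitrary base change. Precisely: let K be a field, A a commutative Hopf
algebra over K (the coordinate ring of an affine K-group scheme G), V a right A-comodule (a linear
representation of G) and R any commutative K-algebra. Give R ⊗ V the base-changed comodule structure
over the R-bialgebra R ⊗ A, whose coaction sends r ⊗ v to the image of r ⊗ ρ(v) under the canonical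
identification of R ⊗ (V ⊗ A) with (R ⊗ V) ⊗_R (R ⊗ A), and let φ_n : R ⊗ C^n(A, V) → C^n(R ⊗ A, R ⊗
V) be the canonical R-linear maps between the Hochschild cochain modules, determined by φ_0 = id and
φ_{n+1}(r ⊗ (c ⊗ a)) = φ_n(r ⊗ c) ⊗ (1 ⊗ a). Then every φ_n is bijective, the φ_n commute with the
Hochschild differentials, and for every n there is an R-linear isomorphism R ⊗ H^n(A, V) ≅ H^n(R ⊗
A, R ⊗ V) sending r ⊗ [z] to [φ_n(r ⊗ z)] for every n-cocycle z. (The published statement is for an
affine K-groupoid acting on the spectrum of a finite extension L of K and its coherent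
representations, with K of characteristic 0; this is its case L = K, in which the cochain complex of
a representation is the Hochschild complex of the comodule; V is not assumed finite-dimensional and
K may be any field.) -/
theorem result
    (K : Type u) [Field K] (A : Type v) [CommRing A] [HopfAlgebra K A]
    (V : Type v) [AddCommGroup V] [Module K V] [HopfRep.Comod K A V]
    (R : Type w) [CommRing R] [Algebra K R]
    (φ : ∀ n : ℕ, R ⊗[K] (Hoch.cochain K A V n) →ₗ[R] (Hoch.cochain R (R ⊗[K] A) (R ⊗[K] V) n))
    (hφ0 : ∀ x : R ⊗[K] V, φ 0 x = x)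
    (hφs : ∀ (n : ℕ) (r : R) (c : Hoch.cochain K A V n) (a : A),
      φ (n + 1) (r ⊗ₜ[K] (c ⊗ₜ[K] a)) = (φ n (r ⊗ₜ[K] c)) ⊗ₜ[R] ((1 : R) ⊗ₜ[K] a)) :
    letI := CoactBr.Comod.baseChange K R A V
    (∀ n : ℕ, Function.Bijective (φ n)) ∧
    (∀ (n : ℕ) (x : R ⊗[K] (Hoch.cochain K A V n)),
        φ (n + 1) ((Hoch.d K A V n).baseChange R x) = Hoch.d R (R ⊗[K] A) (R ⊗[K] V) n (φ n x)) ∧
      ∀ n : ℕ, ∃ e : R ⊗[K] Hoch.H K A V n ≃ₗ[R] Hoch.H R (R ⊗[K] A) (R ⊗[K] V) n,
        ∀ (r : R) (z : Hoch.cocycles K A V n)
          (hz : φ n (r ⊗ₜ[K] (z : Hoch.cochain K A V n)) ∈ Hoch.cocycles R (R ⊗[K] A) (R ⊗[K] V) n),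
          e (r ⊗ₜ[K] Hoch.H.mk K A V n z) = Hoch.H.mk R (R ⊗[K] A) (R ⊗[K] V) n ⟨φ n (r ⊗ₜ[K] (z : Hoch.cochain K A V n)), hz⟩ := by
  letI := CoactBr.Comod.baseChange K R A V
  have hbij : ∀ n, Function.Bijective (φ n) := by
    intro n
    induction n with
    | zero => exact ⟨fun x y h => by rwa [hφ0, hφ0] at h, fun y => ⟨y, hφ0 y⟩⟩
    | succ n ih =>
      have e : φ (n + 1) = (TensorProduct.congr (LinearEquiv.ofBijective (φ n) ih)
          (LinearEquiv.refl R (R ⊗[K] A))).toLinearMap ∘ₗ
          (AlgebraTensorModule.distribBaseChange K R (Hoch.cochain K A V n) A).toLinearMap := by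
        refine LinearMap.ext fun z => ?_
        induction z using TensorProduct.induction_on with
        | zero => simp only [map_zero]
        | add x y hx hy => simp only [map_add, hx, hy]
        | tmul r x =>
        induction x using TensorProduct.induction_on with
        | zero => simp only [TensorProduct.tmul_zero, map_zero]
        | add x y hx hy => simp only [TensorProduct.tmul_add, map_add, hx, hy]
        | tmul c a =>
          rw [hφs]
          simp [AlgebraTensorModule.distribBaseChange]
      rw [e]
      exact ((TensorProduct.congr _ _).bijective).comp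
        (AlgebraTensorModule.distribBaseChange K R (Hoch.cochain K A V n) A).bijective
  have hd : ∀ (n : ℕ) (x : R ⊗[K] (Hoch.cochain K A V n)),
      φ (n + 1) ((Hoch.d K A V n).baseChange R x) =
        Hoch.d R (R ⊗[K] A) (R ⊗[K] V) n (φ n x) := by
    intro n
    induction n with
    | zero =>
      intro x
      induction x using TensorProduct.induction_on with
      | zero => simp only [map_zero]
      | add x y hx hy => simp only [map_add, hx, hy]
      | tmul r v =>
        rw [hφ0, LinearMap.baseChange_tmul, Hoch.d_zero_apply, Hoch.d_zero_apply, TensorProduct.tmul_sub,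
          map_sub]
        congr 1
        · rw [CoactBr.baseChange_coact_tmul]
          induction (HopfRep.Comod.coact (k := K) (A := A) v : V ⊗[K] A) using TensorProduct.induction_on with
          | zero => simp only [TensorProduct.tmul_zero, map_zero]
          | add a b ha hb => simp only [TensorProduct.tmul_add, map_add, ha, hb]
          | tmul a b =>
            rw [hφs, hφ0, AlgebraTensorModule.tensorTensorTensorComm_tmul]
            conv_lhs => rw [show (r ⊗ₜ[K] a : R ⊗[K] V) = r • ((1 : R) ⊗ₜ[K] a) by
              simp [TensorProduct.smul_tmul']]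
            rw [TensorProduct.smul_tmul]
            simp [TensorProduct.smul_tmul']
        · rw [hφs, hφ0, Algebra.TensorProduct.one_def]
    | succ n ih =>
      intro x
      induction x using TensorProduct.induction_on with
      | zero => simp only [map_zero]
      | add x y hx hy => simp only [map_add, hx, hy]
      | tmul r y =>
        induction y using TensorProduct.induction_on with
        | zero => simp only [TensorProduct.tmul_zero, map_zero]
        | add x y hx hy => simp only [TensorProduct.tmul_add, map_add, hx, hy]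
        | tmul c a =>
          have h := ih (r ⊗ₜ[K] c)
          rw [LinearMap.baseChange_tmul] at h
          rw [hφs, LinearMap.baseChange_tmul, Hoch.d_succ, Hoch.d_succ]
          simp only [LinearMap.add_apply, LinearMap.smul_apply, LinearMap.rTensor_tmul,
            TensorProduct.tmul_add, TensorProduct.tmul_smul, map_add]
          congr 1
          · rw [hφs, h]
          · rw [← IsScalarTower.algebraMap_smul R ((-1 : K) ^ (n + 1)) (r ⊗ₜ[K] _), map_smul, map_pow,
              map_neg, map_one, Hoch.tail_tmul, Hoch.tail_tmul]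
            congr 1
            have key : ∀ u v : A,
                φ (n + 1 + 1) (r ⊗ₜ[K] ((TensorProduct.assoc K _ A A).symm (c ⊗ₜ[K] (u ⊗ₜ[K] v)))) =
                  (TensorProduct.assoc R _ (R ⊗[K] A) (R ⊗[K] A)).symm
                    (φ n (r ⊗ₜ[K] c) ⊗ₜ[R] (((1 : R) ⊗ₜ[K] u) ⊗ₜ[R] ((1 : R) ⊗ₜ[K] v))) := by
              intro u v
              rw [TensorProduct.assoc_symm_tmul, TensorProduct.assoc_symm_tmul, hφs, hφs]
            simp only [TensorProduct.tmul_sub, map_sub, key, Algebra.TensorProduct.one_def]
            congr 2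
            rw [TensorProduct.comul_tmul]
            induction (Coalgebra.comul (R := K) a) using TensorProduct.induction_on with
            | zero => simp only [TensorProduct.tmul_zero, map_zero]
            | add a b ha hb => simp only [TensorProduct.tmul_add, map_add, ha, hb]
            | tmul u v =>
              rw [key, Bialgebra.comul_one, Algebra.TensorProduct.one_def,
                AlgebraTensorModule.tensorTensorTensorComm_tmul]
  refine ⟨hbij, hd, fun n => ?_⟩
  have hflat : Module.Flat K R := inferInstance
  have hmap : ∀ x : R ⊗[K] Hoch.cocycles K A V n, φ n ((Hoch.cocycles K A V n).subtype.baseChange R x) ∈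
      Hoch.cocycles R (R ⊗[K] A) (R ⊗[K] V) n := by
    intro x
    show Hoch.d R (R ⊗[K] A) (R ⊗[K] V) n _ = 0
    have h0 : (Hoch.d K A V n).baseChange R ((Hoch.cocycles K A V n).subtype.baseChange R x) = 0 := by
      induction x using TensorProduct.induction_on with
      | zero => simp only [map_zero]
      | add a b ha hb => simp only [map_add, ha, hb, add_zero]
      | tmul r z =>
        rw [LinearMap.baseChange_tmul, LinearMap.baseChange_tmul]
        exact (congrArg (r ⊗ₜ[K] ·) z.2).trans (TensorProduct.tmul_zero _ _)
    rw [← hd, h0, map_zero]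
  let Ψ : R ⊗[K] Hoch.cocycles K A V n →ₗ[R] Hoch.cocycles R (R ⊗[K] A) (R ⊗[K] V) n :=
    LinearMap.codRestrict _ (φ n ∘ₗ (Hoch.cocycles K A V n).subtype.baseChange R) hmap
  let Φ := Hoch.H.mk R (R ⊗[K] A) (R ⊗[K] V) n ∘ₗ Ψ
  let π : R ⊗[K] Hoch.cocycles K A V n →ₗ[R] R ⊗[K] Hoch.H K A V n := (Hoch.H.mk K A V n).baseChange R
  have hexd : Function.Exact ((Hoch.cocycles K A V n).subtype.baseChange R) ((Hoch.d K A V n).baseChange R) :=
    Module.Flat.lTensor_exact R (LinearMap.exact_iff.2 (Submodule.range_subtype _).symm)
  have hπ : Function.Surjective π := LinearMap.lTensor_surjective R (Submodule.mkQ_surjective _)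
  have hΦ : Function.Surjective Φ := by
    intro y
    obtain ⟨z, rfl⟩ := Submodule.mkQ_surjective _ y
    obtain ⟨x, hx⟩ := (hbij n).2 z.1
    have h0 : (Hoch.d K A V n).baseChange R x = 0 := by
      refine (hbij (n + 1)).1 ?_
      rw [hd, hx, map_zero]
      exact z.2
    obtain ⟨x', rfl⟩ := (hexd x).1 h0
    exact ⟨x', congrArg (Hoch.H.mk R (R ⊗[K] A) (R ⊗[K] V) n) (Subtype.ext hx)⟩
  have hB : ∀ x : R ⊗[K] Hoch.cochain K A V n, φ n x ∈ Hoch.coboundaries R (R ⊗[K] A) (R ⊗[K] V) n ↔
      (Hoch.coboundaries K A V n).mkQ.baseChange R x = 0 := by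
    intro x
    have hex : Function.Exact ((Hoch.coboundaries K A V n).subtype.baseChange R)
        ((Hoch.coboundaries K A V n).mkQ.baseChange R) :=
      Module.Flat.lTensor_exact R (LinearMap.exact_subtype_mkQ _)
    rw [hex x]
    clear hmap Ψ Φ π hexd hπ hΦ hex
    cases n with
    | zero =>
      show φ 0 x ∈ (⊥ : Submodule R _) ↔ _
      rw [Submodule.mem_bot, hφ0]
      constructor
      · intro h
        exact ⟨0, by rw [map_zero]; exact h.symm⟩
      · rintro ⟨z, rfl⟩
        have hz : z = 0 := by
          clear hflat
          induction z using TensorProduct.induction_on with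
          | zero => rfl
          | add a b ha hb => rw [ha, hb, add_zero]
          | tmul r v =>
            have hv : v = 0 := Subtype.ext ((Submodule.mem_bot K).1 v.2)
            rw [hv, TensorProduct.tmul_zero]
        rw [hz, map_zero]
    | succ m =>
      show φ (m + 1) x ∈ LinearMap.range (Hoch.d R (R ⊗[K] A) (R ⊗[K] V) m) ↔
        x ∈ LinearMap.range ((LinearMap.range (Hoch.d K A V m)).subtype.baseChange R)
      rw [Groth.Agent.S19275.range_baseChange_range]
      constructor
      · rintro ⟨y, hy⟩
        obtain ⟨y', rfl⟩ := (hbij m).2 y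
        rw [← hd] at hy
        exact ⟨y', (hbij (m + 1)).1 hy⟩
      · rintro ⟨z, rfl⟩
        exact ⟨φ m z, (hd m z).symm⟩
  have hker : LinearMap.ker Φ = LinearMap.ker π := by
    ext x
    rw [LinearMap.mem_ker, LinearMap.mem_ker]
    show Submodule.Quotient.mk (Ψ x) = 0 ↔ _
    refine (Submodule.Quotient.mk_eq_zero _).trans
      ((hB ((Hoch.cocycles K A V n).subtype.baseChange R x)).trans ?_)
    have h1 : Function.Exact (((Hoch.coboundaries K A V n).comap (Hoch.cocycles K A V n).subtype).subtype.baseChange R)
        π := lTensor_exact R (LinearMap.exact_subtype_mkQ _) (Submodule.mkQ_surjective _)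
    have h2 : Function.Exact (((Hoch.coboundaries K A V n).comap (Hoch.cocycles K A V n).subtype).subtype.baseChange R)
        (((Hoch.coboundaries K A V n).mkQ ∘ₗ (Hoch.cocycles K A V n).subtype).baseChange R) :=
      Module.Flat.lTensor_exact R (LinearMap.exact_iff.2 (by
        rw [LinearMap.ker_comp, Submodule.ker_mkQ, Submodule.range_subtype]))
    rw [h1 x, ← h2 x, LinearMap.baseChange_comp]
    rfl
  refine ⟨((LinearMap.quotKerEquivOfSurjective π hπ).symm.trans (Submodule.quotEquivOfEq _ _ hker.symm)).trans
    (LinearMap.quotKerEquivOfSurjective Φ hΦ), fun r z hz => ?_⟩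
  have e : r ⊗ₜ[K] Hoch.H.mk K A V n z = LinearMap.quotKerEquivOfSurjective π hπ
      (Submodule.Quotient.mk (r ⊗ₜ[K] z)) := rfl
  rw [e, LinearEquiv.trans_apply, LinearEquiv.trans_apply, LinearEquiv.symm_apply_apply]
  rfl

end Groth.Agent.S19275
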