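import Groth.Statements.S19309
-- import your own Groth.Agent.* helpers here
import Mathlib.RingTheory.HahnSeries.PowerSeries

set_option autoImplicit false
universe u
open PowerSeries LaurentSeries
open CAlg

namespace Groth.Agent.S19309

theorem coeff_map_laurent {R R' : Type*} [CommRing R] [CommRing R'] (φ : R →+* R') (θ : R⸨X⸩ →+* R'⸨X⸩)
    (h : θ.comp (algebraMap R⟦X⟧ R⸨X⸩) = (algebraMap R'⟦X⟧ R'⸨X⸩).comp (PowerSeries.map φ))
    (f : R⸨X⸩) (m : ℤ) : (θ f).coeff m = φ (f.coeff m) := by
  have hcoe : ∀ g : R⟦X⟧, θ (HahnSeries.ofPowerSeries ℤ R g) = HahnSeries.ofPowerSeries ℤ R' (PowerSeries.map φ g) :=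
    fun g => RingHom.congr_fun h g
  have hnat : ∀ n : ℕ, θ (HahnSeries.single (n : ℤ) 1) = HahnSeries.single (n : ℤ) 1 := fun n => by
    rw [← HahnSeries.ofPowerSeries_X_pow, hcoe, map_pow, PowerSeries.map_X, HahnSeries.ofPowerSeries_X_pow]
  have hint : ∀ z : ℤ, θ (HahnSeries.single z 1) = HahnSeries.single z 1 := by
    intro z
    rcases Int.eq_nat_or_neg z with ⟨n, rfl | rfl⟩
    · exact hnat n
    · have h1 : θ (HahnSeries.single (-(n : ℤ)) 1) * HahnSeries.single (n : ℤ) 1 = 1 := by
        rw [← hnat n, ← map_mul, HahnSeries.single_mul_single, neg_add_cancel, mul_one, HahnSeries.single_zero_one, map_one]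
      calc θ (HahnSeries.single (-(n : ℤ)) 1)
          = θ (HahnSeries.single (-(n : ℤ)) 1) * (HahnSeries.single (n : ℤ) 1 * HahnSeries.single (-(n : ℤ)) 1) := by
            rw [HahnSeries.single_mul_single, add_neg_cancel, mul_one, HahnSeries.single_zero_one, mul_one]
        _ = HahnSeries.single (-(n : ℤ)) 1 := by rw [← mul_assoc, h1, one_mul]
  conv_lhs => rw [← LaurentSeries.single_order_mul_powerSeriesPart f]
  conv_rhs => rw [← LaurentSeries.single_order_mul_powerSeriesPart f]
  rw [map_mul, hint, hcoe, HahnSeries.coeff_single_mul, HahnSeries.coeff_single_mul, one_mul, one_mul,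
    PowerSeries.coeff_coe, PowerSeries.coeff_coe]
  split_ifs
  · rw [map_zero]
  · rw [PowerSeries.coeff_map]

/-- Let k be a field, R a commutative k-algebra, B a finitely presented R⟦X⟧-algebra (an affine scheme V
= Spec B of finite presentation over the disc D_R = Spec R⟦X⟧) and s : B → R((X)) an R⟦X⟧-algebra
map (a section of V over the punctured disc). Then there is an ideal I of R such that for every ring
map φ : R → R', writing θ : R((X)) → R'((X)) for the ring map compatible with R⟦X⟧ → R'⟦X⟧, the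
section s extends to a section over D_{R'} — an R⟦X⟧-algebra map s' : B → R'⟦X⟧ whose composite with
R'⟦X⟧ → R'((X)) is θ ∘ s — if and only if φ kills I. In other words the sub-presheaf of Spec R where
s extends over the disc is the closed subscheme defined by I. -/
theorem result
    (k : Type u) [Field k] (R : Type u) [CommRing R] [Algebra k R]
    (B : Type u) [CommRing B] [Algebra R⟦X⟧ B] [Algebra.FinitePresentation R⟦X⟧ B]
    (s : B →ₐ[R⟦X⟧] R⸨X⸩) :
    ∃ I : Ideal R, ∀ (R' : Type u) [CommRing R'] (φ : R →+* R') (θ : R⸨X⸩ →+* R'⸨X⸩),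
      θ.comp (algebraMap R⟦X⟧ R⸨X⸩) = (algebraMap R'⟦X⟧ R'⸨X⸩).comp (PowerSeries.map φ) →
      ((∃ s' : B →+* R'⟦X⟧, s'.comp (algebraMap R⟦X⟧ B) = PowerSeries.map φ ∧
          (algebraMap R'⟦X⟧ R'⸨X⸩).comp s' = θ.comp s.toRingHom) ↔ I ≤ RingHom.ker φ) := by
  refine ⟨Ideal.span {r | ∃ (b : B) (m : ℤ), m < 0 ∧ (s b).coeff m = r}, fun R' _ φ θ hθ => ?_⟩
  rw [Ideal.span_le]
  constructor
  · rintro ⟨s', -, hs'⟩ _ ⟨b, m, hm, rfl⟩
    rw [SetLike.mem_coe, RingHom.mem_ker, ← coeff_map_laurent φ θ hθ]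
    have h : θ (s b) = HahnSeries.ofPowerSeries ℤ R' (s' b) := (RingHom.congr_fun hs' b).symm
    rw [h, PowerSeries.coeff_coe, if_pos hm]
  · intro hI
    have hneg : ∀ (b : B) (m : ℤ), m < 0 → (θ (s b)).coeff m = 0 := fun b m hm => by
      rw [coeff_map_laurent φ θ hθ]
      exact hI ⟨b, m, hm, rfl⟩
    let F : B → R'⟦X⟧ := fun b => PowerSeries.mk fun n => (θ (s b)).coeff (n : ℤ)
    have hF : ∀ b, HahnSeries.ofPowerSeries ℤ R' (F b) = θ (s b) := fun b => by
      refine HahnSeries.ext (funext fun m => ?_)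
      rw [PowerSeries.coeff_coe]
      split_ifs with hm
      · exact (hneg b m hm).symm
      · rw [PowerSeries.coeff_mk, Int.natAbs_of_nonneg (le_of_not_gt hm)]
    have hinj : Function.Injective (HahnSeries.ofPowerSeries ℤ R') := HahnSeries.ofPowerSeries_injective
    let s' : B →+* R'⟦X⟧ :=
      { toFun := F
        map_one' := hinj (by rw [hF, map_one, map_one, map_one])
        map_zero' := hinj (by rw [hF, map_zero, map_zero, map_zero])
        map_mul' := fun a b => hinj (by rw [map_mul, hF, hF, hF, map_mul, map_mul])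
        map_add' := fun a b => hinj (by rw [map_add, hF, hF, hF, map_add, map_add]) }
    refine ⟨s', RingHom.ext fun g => hinj ?_, RingHom.ext fun b => hF b⟩
    show HahnSeries.ofPowerSeries ℤ R' (F (algebraMap R⟦X⟧ B g)) = _
    rw [hF, AlgHom.commutes]
    exact RingHom.congr_fun hθ g

end Groth.Agent.S19309
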