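import Groth.Statements.S19323
import Mathlib

set_option autoImplicit false
universe v u
open CategoryTheory CategoryTheory.Limits
open SpSeq

namespace Groth.Agent.S19323

/-- In an abelian category let E and E' be first-quadrant E₂ cohomological spectral sequences and φ : E
⟶ E' a morphism of spectral sequences such that (i) every differential of E' leaving a position
whose first coordinate is nonzero vanishes, (ii) on every page the map φ at each position followed
by the outgoing differential of E' is zero, and (iii) φ is a monomorphism at every position of page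
2. Then E degenerates at page 2. -/
theorem result
    {C : Type u} [Category.{v} C] [Abelian C]
    (E E' : E₂CohomologicalSpectralSequence C) (φ : E ⟶ E')
    (hE : ∀ pq : ℤ × ℤ, pq.1 < 0 ∨ pq.2 < 0 → IsZero ((E.page 2 le_rfl).X pq))
    (hE' : ∀ pq : ℤ × ℤ, pq.1 < 0 ∨ pq.2 < 0 → IsZero ((E'.page 2 le_rfl).X pq))
    (hd' : ∀ (r : ℤ) (hr : 2 ≤ r) (pq : ℤ × ℤ), pq.1 ≠ 0 →
      (E'.page r hr).d pq (pq + (r, 1 - r)) = 0)
    (hφd : ∀ (r : ℤ) (hr : 2 ≤ r) (pq : ℤ × ℤ),
      (φ.hom r hr).f pq ≫ (E'.page r hr).d pq (pq + (r, 1 - r)) = 0)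
    (hmono : ∀ pq : ℤ × ℤ, Mono ((φ.hom 2 le_rfl).f pq)) :
    SpSeq.Degenerates E 2 := by
  have zero : ∀ (k : ℕ) (pq : ℤ × ℤ), pq.1 < 0 ∨ pq.2 < 0 → IsZero ((E.page (2 + k) (by lia)).X pq) := by
    intro k
    induction k with
    | zero => exact hE
    | succ k ih =>
      intro pq hpq
      refine IsZero.of_iso ?_ (E.iso (2 + k) _ pq (by lia) (by lia)).symm
      exact (HomologicalComplex.exactAt_iff_isZero_homology _ _).1
        (ShortComplex.exact_of_isZero_X₂ _ (ih pq hpq))
  have key : ∀ k : ℕ, ∀ pq : ℤ × ℤ, (2 + k : ℤ) ≤ pq.1 ∨ k = 0 →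
      Mono ((φ.hom (2 + k) (by lia)).f pq) := by
    intro k
    induction k with
    | zero => exact fun pq _ => hmono pq
    | succ k ih =>
      intro pq hpq
      replace hpq : (2 + k : ℤ) + 1 ≤ pq.1 := by lia
      have hd : ∀ a b, (2 + k : ℤ) ≤ b.1 ∨ k = 0 → (E.page (2 + k) (by lia)).d a b = 0 := by
        intro a b hb
        by_cases h : (ComplexShape.up' ((2 + k, 1 - (2 + k)) : ℤ × ℤ)).Rel a b
        · obtain rfl : a + (2 + (k:ℤ), 1 - (2 + (k:ℤ))) = b := h
          haveI := ih _ hb
          rw [← cancel_mono ((φ.hom (2 + k) _).f _), zero_comp,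
            ← HomologicalComplex.Hom.comm, hφd (2 + k) (by lia) a]
        · exact HomologicalComplex.shape _ _ _ h
      let c := ComplexShape.up' ((2 + k, 1 - (2 + k)) : ℤ × ℤ)
      have hout : (E.page (2 + k) (by lia)).d pq (c.next pq) = 0 := by
        by_cases h : c.Rel pq (c.next pq)
        · refine hd _ _ (Or.inl ?_)
          have h' : pq + (2 + (k:ℤ), 1 - (2 + (k:ℤ))) = c.next pq := h
          rw [← h']
          simp only [Prod.fst_add]
          lia
        · exact HomologicalComplex.shape _ _ _ h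
      have hin : (E.page (2 + k) (by lia)).d (c.prev pq) pq = 0 := hd _ _ (Or.inl (by lia))
      have hin' : (E'.page (2 + k) (by lia)).d (c.prev pq) pq = 0 := by
        by_cases h : c.Rel (c.prev pq) pq
        · have h' : c.prev pq + (2 + (k:ℤ), 1 - (2 + (k:ℤ))) = pq := h
          have := hd' (2 + k) (by lia) (c.prev pq) (by
            have := congrArg Prod.fst h'
            simp only [Prod.fst_add] at this
            lia)
          rwa [h'] at this
        · exact HomologicalComplex.shape _ _ _ h
      haveI := (E.page (2 + k) (by lia)).isIso_iCycles pq _ rfl hout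
      haveI := (E.page (2 + k) (by lia)).isIso_homologyπ _ pq rfl hin
      haveI := (E'.page (2 + k) (by lia)).isIso_homologyπ _ pq rfl hin'
      haveI := ih pq (Or.inl (by lia))
      haveI : Mono (HomologicalComplex.cyclesMap (φ.hom (2 + k) (by lia)) pq) := by
        refine @mono_of_mono _ _ _ _ _ _ ((E'.page (2 + k) (by lia)).iCycles pq) ?_
        rw [HomologicalComplex.cyclesMap_i]
        infer_instance
      haveI : Mono (HomologicalComplex.homologyMap (φ.hom (2 + k) (by lia)) pq) := by
        rw [← cancel_epi ((E.page (2 + k) (by lia)).homologyπ pq) |>.1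
          (show (E.page (2 + k) _).homologyπ pq ≫ HomologicalComplex.homologyMap (φ.hom (2 + k) (by lia)) pq =
            (E.page (2 + k) _).homologyπ pq ≫ (inv ((E.page (2 + k) _).homologyπ pq) ≫
              HomologicalComplex.cyclesMap (φ.hom (2 + k) _) pq ≫ (E'.page (2 + k) _).homologyπ pq)
            from by rw [HomologicalComplex.homologyπ_naturality, IsIso.hom_inv_id_assoc]) |>.symm]
        infer_instance
      have hcomm := φ.comm (2 + k) (2 + (k + 1 : ℕ)) pq (by lia) (by lia)
      have : (φ.hom (2 + (k + 1 : ℕ)) (by lia)).f pq = (E.iso (2 + k) _ pq (by lia) (by lia)).inv ≫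
          HomologicalComplex.homologyMap (φ.hom (2 + k) (by lia)) pq ≫ (E'.iso (2 + k) _ pq (by lia) (by lia)).hom := by
        rw [hcomm, Iso.inv_hom_id_assoc]
      rw [this]
      infer_instance
  refine ⟨le_rfl, fun r hr _ pq pq' => ?_⟩
  obtain ⟨k, rfl⟩ : ∃ k : ℕ, r = 2 + k := ⟨(r - 2).toNat, by lia⟩
  by_cases h : (ComplexShape.up' ((2 + k, 1 - (2 + k)) : ℤ × ℤ)).Rel pq pq'
  · by_cases hp : pq.1 < 0
    · exact (zero k pq (Or.inl hp)).eq_of_src _ _
    · obtain rfl : pq + (2 + (k:ℤ), 1 - (2 + (k:ℤ))) = pq' := h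
      haveI := key k (pq + (2 + (k:ℤ), 1 - (2 + (k:ℤ)))) (Or.inl (by simp only [Prod.fst_add]; lia))
      rw [← cancel_mono ((φ.hom (2 + k) _).f _), zero_comp, ← HomologicalComplex.Hom.comm, hφd (2 + k) (by lia) pq]
  · exact HomologicalComplex.shape _ _ _ h

end Groth.Agent.S19323
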