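import Groth.Statements.S19331
import Groth.Agent.ModPairLib.Closure
import Groth.Agent.LocImmLib.ZMT
-- import your own Groth.Agent.* helpers here

set_option autoImplicit false
universe u
open CategoryTheory CategoryTheory.Limits AlgebraicGeometry TopologicalSpace
open ModPair

namespace Groth.Agent.S19331

open CategoryTheory AlgebraicGeometry in
theorem isEffCartier_comap_closure {S V : Scheme.{u}} {J : S.IdealSheafData} (hJ : ModPairLib.IsLocPrincipal J)
    (g : V ⟶ (ModPair.interior J : Scheme.{u})) [IsClosedImmersion g] :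
    BlowUp.IsEffCartierIdeal (J.comap (g ≫ (ModPair.interior J).ι).imageι) := by
  have := ModPairLib.isAffineHom_interior hJ
  have h1 := ModPairLib.isSchemeTheoreticallyDominant_toImage (g ≫ (ModPair.interior J).ι)
  obtain ⟨e, he, hfac⟩ := ModPairLib.exists_iso_toImage (ModPair.interior J) g
  let f := g ≫ (ModPair.interior J).ι
  let O := f.imageι ⁻¹ᵁ ModPair.interior J
  have : QuasiCompact O.ι :=
    MorphismProperty.of_isPullback (P := @QuasiCompact)
      (isPullback_morphismRestrict f.imageι (ModPair.interior J)) inferInstance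
  have : IsSchemeTheoreticallyDominant O.ι := by
    refine ⟨le_bot_iff.mp ?_⟩
    calc O.ι.ker ≤ (e ≫ O.ι).ker := Scheme.Hom.le_ker_comp _ _
      _ = ⊥ := (congrArg Scheme.Hom.ker hfac).trans f.toImage.ker_eq_bot
  exact ModPairLib.isEffCartier_of_dense (hJ.comap f.imageι) O
    (ModPairLib.preimage_interior J f.imageι).le

/-- Let (S, I) be a modulus pair, i.e. a scheme with the quasi-coherent ideal sheaf of an effective
Cartier divisor, with S quasi-compact and quasi-separated and with interior U, and let t₀ : T₀ ⟶ U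
be a finite surjective morphism. Then there are a finite surjective morphism t : T ⟶ S such that the
pulled-back modulus I.comap t is again the ideal sheaf of an effective Cartier divisor, making T ⟶ S
a minimal morphism of modulus pairs, and an open immersion j : T₀ ⟶ T with image t⁻¹(U) and j ≫ t =
t₀ ≫ (U ⟶ S), so that t₀ is the interior of t. -/
theorem result {S : Scheme.{u}}
    [CompactSpace S] [QuasiSeparatedSpace S] (I : S.IdealSheafData)
    (hI : BlowUp.IsEffCartierIdeal I) {T₀ : Scheme.{u}}
    (t₀ : T₀ ⟶ (ModPair.interior I : Scheme.{u})) [IsFinite t₀] [Surjective t₀] :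
    ∃ (T : Scheme.{u}) (t : T ⟶ S) (j : T₀ ⟶ T), IsFinite t ∧ Surjective t ∧
      BlowUp.IsEffCartierIdeal (I.comap t) ∧ IsOpenImmersion j ∧
      Set.range j.base = t.base ⁻¹' (ModPair.interior I : Set S) ∧
      j ≫ t = t₀ ≫ (ModPair.interior I).ι := by
  have hUaff := ModPairLib.isAffineHom_interior (ModPairLib.isLocPrincipal_of_isEffCartier hI)
  haveI hqf : LocallyQuasiFinite (t₀ ≫ (ModPair.interior I).ι) := MorphismProperty.comp_mem @LocallyQuasiFinite t₀ (ModPair.interior I).ι inferInstance inferInstance
  obtain ⟨T', j', π, hj', hjq', hπ, hjπ⟩ := Groth.Agent.LocImmLib.exists_openImmersion_finite (t₀ ≫ (ModPair.interior I).ι)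
  let J := I.comap π
  have hJ : ModPairLib.IsLocPrincipal J := (ModPairLib.isLocPrincipal_of_isEffCartier hI).comap π
  have hJU : ModPair.interior J = π ⁻¹ᵁ (ModPair.interior I) := (ModPairLib.preimage_interior I π).symm
  have hsub : Set.range j'.base ⊆ Set.range (ModPair.interior J).ι.base := by
    rintro _ ⟨x, rfl⟩
    rw [Scheme.Opens.range_ι, hJU]
    show π.base (j'.base x) ∈ (ModPair.interior I)
    rw [← Scheme.Hom.comp_apply, hjπ, Scheme.Hom.comp_apply]
    exact (t₀.base x).2
  let g : T₀ ⟶ (ModPair.interior J : Scheme.{u}) := IsOpenImmersion.lift (ModPair.interior J).ι j' hsub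
  have hg : g ≫ (ModPair.interior J).ι = j' := IsOpenImmersion.lift_fac _ _ _
  have : IsOpenImmersion (g ≫ (ModPair.interior J).ι) := by rw [hg]; exact hj'
  have : IsOpenImmersion g := IsOpenImmersion.of_comp g (ModPair.interior J).ι
  let p : (ModPair.interior J : Scheme.{u}) ⟶ ((ModPair.interior I) : Scheme.{u}) := IsOpenImmersion.lift (ModPair.interior I).ι
    ((ModPair.interior J).ι ≫ π) (by
      rintro _ ⟨x, rfl⟩
      rw [Scheme.Opens.range_ι, Scheme.Hom.comp_apply]
      exact hJU.le x.2)
  have hp : p ≫ (ModPair.interior I).ι = (ModPair.interior J).ι ≫ π := IsOpenImmersion.lift_fac _ _ _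
  have hgp : g ≫ p = t₀ := by
    rw [← cancel_mono (ModPair.interior I).ι, Category.assoc, hp, ← Category.assoc, hg, hjπ]
  have : IsSeparated (p ≫ (ModPair.interior I).ι) := by rw [hp]; infer_instance
  have : IsSeparated p := IsSeparated.of_comp p (ModPair.interior I).ι
  have : IsProper (g ≫ p) := by rw [hgp]; infer_instance
  have : IsProper g := IsProper.of_comp g p
  have : IsClosedImmersion g := (IsClosedImmersion.iff_isProper_and_mono g).mpr ⟨inferInstance, inferInstance⟩
  have hJaff := ModPairLib.isAffineHom_interior hJ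
  obtain ⟨hopen, hrange⟩ := ModPairLib.isOpenImmersion_toImage (ModPair.interior J) g
  set f := g ≫ (ModPair.interior J).ι with hf
  have hjt : f.toImage ≫ f.imageι ≫ π = t₀ ≫ (ModPair.interior I).ι := by
    rw [← Category.assoc, f.toImage_imageι, hg, hjπ]
  refine ⟨f.image, f.imageι ≫ π, f.toImage, inferInstance, ⟨fun s => ?_⟩, ?_, hopen, ?_, hjt⟩
  · obtain ⟨u, hu, hspec⟩ := ModPairLib.exists_specializes_mem_interior hI s
    obtain ⟨x, hx⟩ := t₀.surjective ⟨u, hu⟩
    have hcl : IsClosed (Set.range (f.imageι ≫ π).base) := (f.imageι ≫ π).isClosedMap.isClosed_range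
    refine hcl.stableUnderSpecialization hspec ⟨f.toImage.base x, ?_⟩
    rw [← Scheme.Hom.comp_apply, hjt, Scheme.Hom.comp_apply, hx]
    rfl
  · rw [Scheme.IdealSheafData.comap_comp]
    exact isEffCartier_comap_closure hJ g
  · rw [hrange, hJU]
    ext x
    show π.base (f.imageι.base x) ∈ (ModPair.interior I) ↔ (f.imageι ≫ π).base x ∈ (ModPair.interior I)
    rw [Scheme.Hom.comp_apply]

end Groth.Agent.S19331
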