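import Groth.Statements.S19352
import Groth.Agent.Big.RealAmple
import Groth.Agent.Big.Split
import Groth.Agent.CurveCohLib.SmoothCurve
import Groth.Agent.PnCoh.Chow.Proper

set_option autoImplicit false
universe u
open CategoryTheory CategoryTheory.Limits AlgebraicGeometry
open Surf

attribute [-instance] CategoryTheory.catToReflQuiver

namespace Groth.Agent.S19352

open Groth.Agent Groth.Agent.H23.PicMul

/-- Let k be an algebraically closed field and X a nonsingular projective surface over k, namely an
integral scheme, smooth over k, of dimension two, given with a closed immersion ι into a projective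
space P^n_k over k, and let H = ι^* O(1) be the invertible module of a hyperplane section. If L is
an invertible O_X-module (the module of a divisor D) with dim_k H^0(X, L) > 1, then (L·H) > 0. Here
(A·B) denotes the intersection number of two invertible modules, the alternating sum χ(O_X) − χ(A) −
χ(B) + χ(A ⊗ B) of Euler characteristics (cohomology in degrees at most two); for two invertible
modules this agrees with the same sum formed from their inverses. -/
theorem result (k : Type u) [Field k] [IsAlgClosed k]
    (X : Scheme.{u}) [X.Over (Spec (CommRingCat.of k))] [AlgebraicGeometry.IsIntegral X]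
    [Smooth (X ↘ Spec (CommRingCat.of k))] (hdim : topologicalKrullDim X = 2)
    (n : ℕ) (ι : X ⟶ CohB1.ProjSpace n k) [IsClosedImmersion ι]
    (hι : ι ≫ CohB1.ProjSpace.toSpec n k = X ↘ Spec (CommRingCat.of k))
    (L : X.Modules) (hL : PicF.IsInvertible L)
    (hsec : 1 < Module.finrank k (Coh.HH X L 0)) :
    0 < FGA.intNum k X 2 ![L, (Scheme.Modules.pullback ι).obj (Twist.twistProjSpace n k 1)] (Coh.structureModule X) := by
  letI : (CohB1.ProjSpace n k).Over (Spec (CommRingCat.of k)) := ⟨CohB1.ProjSpace.toSpec n k⟩
  haveI : IsProper ((CohB1.ProjSpace n k) ↘ Spec (CommRingCat.of k)) := PnCoh.Chow.isProper_toSpec n k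
  haveI : IsProper (X ↘ Spec (CommRingCat.of k)) := by
    rw [← hι]
    exact MorphismProperty.comp_mem _ ι _ inferInstance (PnCoh.Chow.isProper_toSpec n k)
  haveI := CurveCohLib.isNoetherian_of_proper (k := k) (X := X)
  have hH : CohB1.IsAmple ((Scheme.Modules.pullback ι).obj (Twist.twistProjSpace n k 1)) :=
    AmpleDev.isAmple_pullback_finite k ι (Big.isAmple_hyperplane n k)
  set H := (Scheme.Modules.pullback ι).obj (Twist.twistProjSpace n k 1)
  obtain ⟨s, hs⟩ := Big.exists_hom_of_h0_pos k (M := L) (lt_trans zero_lt_one hsec)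
  obtain ⟨D, hD, hcl⟩ := Big.RealForm.exists_divisor_of_section hL s hs
  have hDi := Big.isInvertible_ideal hD
  have hne : (D.support : Set X).Nonempty := by
    rw [Set.nonempty_iff_ne_empty]
    intro he
    obtain ⟨e⟩ := Big.cl_tensor_eq_of_isoOn (Big.isoOn_idealModι D (V := ⊤) (by rw [he]; exact disjoint_bot_right))
      (ProjUPX.isQCoh_of_isInvertible hDi) QCoh.isQCoh_structureModule QCoh.isQCoh_structureModule
      (fun x _ => trivial) (M := Coh.structureModule X)
    have e1 : PicF.cl (ClSub.idealMod D) = 1 := by
      have h := cl_eq_iff.2 ⟨e⟩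
      rw [cl_tensor, cl_tensor, ← one_def] at h
      simpa using h
    rw [e1, mul_one, one_def] at hcl
    have h1 : Module.finrank k (Coh.HH X L 0) = Module.finrank k (Coh.HH X (Coh.structureModule X) 0) :=
      Big.h0_congr_cl k hcl
    rw [h1, CurveCohLib.finrank_h0_eq_one k X] at hsec
    exact lt_irrefl _ hsec
  obtain ⟨η, hη, hηd⟩ := Big.exists_curve_point k hdim hD hne
  obtain ⟨H', hH', hHH'⟩ := H23.PicInv.exists_inverse hH.1
  have hcH : PicF.cl H * PicF.cl H' = 1 := by rw [← cl_tensor, cl_eq_iff.2 hHH', one_def]
  have hpos : 0 < Big.pair k (ClSub.idealMod D) H' := by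
    rw [Big.pair_ideal k hD hH']
    exact Big.alt_pos_of_components k (Big.pos k 1) (L := ![H]) (fun i => by fin_cases i; exact hH)
      (fun i => by fin_cases i; exact hH') (fun i => by fin_cases i; exact hcH) (ParShLib.isCoh_quotMod D)
      ((H23.TopDim.dim_le_dim_of_subset (Big.support_quotMod_subset _)).trans
        (Big.dim_support_le k hD (e := 1) hdim.le)) hη hηd
  have h2 : (0 : ℚ) < (FGA.intNum k X 2 ![L, H] (Coh.structureModule X) : ℚ) := by
    rw [Big.intNum_eq_pair k hdim.le hL hH.1]
    have e2 : Big.pair k (ClSub.idealMod D) H' = Big.pair k L H := by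
      rw [Big.pair_inverse k hdim.le hL hDi hcl hH', Big.pair_symm,
        Big.pair_inverse k hdim.le hH.1 hH' hcH hL, neg_neg, Big.pair_symm]
    linarith
  exact_mod_cast h2

end Groth.Agent.S19352
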