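import Groth.Statements.S1936
import Groth.Agent.S1341
import Groth.Agent.S1342
import Groth.Agent.GrpdOmega.Shear
import Groth.Agent.GrpdLib.DegDecomp
-- import your own Groth.Agent.* helpers here

set_option autoImplicit false
universe u
open CategoryTheory CategoryTheory.Limits AlgebraicGeometry
open Grpd

namespace Groth.Agent.S1936

theorem isCMAt_iff' {X Y : Scheme.{u}} (f : X ⟶ Y) (x : X) :
    Grpd.IsCMAt f x ↔ MoreMor.IsCMAt f x :=
  (Triage.CMMor.isCMAt_iff f x).symm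

theorem cm_t_of_s_eq {S : Scheme.{u}} (G : Grpd.GroupoidScheme S) [Flat G.t] [LocallyOfFinitePresentation G.t]
    {a b : G.R} (h : G.s a = G.s b) (hb : MoreMor.IsCMAt G.t b) : MoreMor.IsCMAt G.t a := by
  obtain ⟨w, hwa, hwb⟩ := Scheme.Pullback.exists_preimage_pullback (f := G.s) (g := G.s) a b h
  let p := pullback.fst G.s G.s
  let q := pullback.snd G.s G.s
  have hw : p ≫ G.s = q ≫ G.s := pullback.condition
  have h₁ : p ≫ G.s = (q ≫ G.i) ≫ G.t := by rw [Category.assoc, G.i_t, hw]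
  let γ := pullback.lift p (q ≫ G.i) h₁ ≫ G.c
  have hγ : γ ≫ G.s = q ≫ G.t := by rw [G.comp_s, Category.assoc, G.i_s]
  let z := pullback.lift γ q hγ
  have hzc : z ≫ G.c = p := by
    rw [G.assoc p (q ≫ G.i) q h₁ (by rw [Category.assoc, G.i_s])]
    refine Eq.trans ?_ (G.comp_e p)
    congr 1
    apply pullback.hom_ext
    · rw [pullback.lift_fst, pullback.lift_fst]
    · rw [pullback.lift_snd, pullback.lift_snd, G.i_comp, reassoc_of% hw]
  have hzq : z ≫ pullback.snd G.s G.t = q := pullback.lift_snd _ _ _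
  have e₁ : G.c (z w) = a := by rw [← Scheme.Hom.comp_apply, hzc]; exact hwa
  have e₂ : pullback.snd G.s G.t (z w) = b := by rw [← Scheme.Hom.comp_apply, hzq]; exact hwb
  have hA := Set.ext_iff.1 (S1342.result G.t (pullback.fst G.s G.t) G.c G.t
    (GrpdOmega.isPullback_comp G)) (z w)
  have hB := Set.ext_iff.1 (S1342.result G.t (pullback.fst G.s G.t) (pullback.snd G.s G.t) G.s
    (IsPullback.of_hasPullback G.s G.t).flip) (z w)
  simp only [Set.mem_setOf_eq, Set.mem_preimage] at hA hB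
  rw [e₁] at hA
  rw [e₂] at hB
  exact hA.1 (hB.2 hb)

theorem image_cm_eq_univ {X Y : Scheme.{u}} (f : X ⟶ Y) [Flat f] [LocallyOfFinitePresentation f]
    (σ : Y ⟶ X) (hσ : σ ≫ f = 𝟙 Y) : ⇑f '' {x : X | MoreMor.IsCMAt f x} = Set.univ := by
  refine Set.eq_univ_of_forall fun y => ?_
  have hy : f (σ y) = y := by rw [← Scheme.Hom.comp_apply, hσ]; rfl
  have : Nonempty ↥(f.fiber y) := by
    obtain ⟨z, -⟩ := (f.range_fiberι y).ge (show σ y ∈ f ⁻¹' {y} from hy)
    exact ⟨z⟩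
  obtain ⟨z, hz⟩ := ((S1341.result f).2 y).nonempty
  refine ⟨f.fiberι y z, hz, ?_⟩
  exact (f.range_fiberι y).le ⟨z, rfl⟩

/-- Let (U, R, s, t, c) be a groupoid scheme over S with s, t flat and locally of finite presentation.
There is an open U' ⊆ U such that t⁻¹(U') is exactly the set of points of R at which s is
Cohen–Macaulay, s⁻¹(U') is exactly the set of points at which t is Cohen–Macaulay, and both t
restricted to s⁻¹(U') and s restricted to t⁻¹(U') are surjective onto U. (Part (5), that the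
restriction of R to U' is a groupoid with Cohen–Macaulay s', t', then follows and is not restated.)
Cohen–Macaulay at a point: flat there with Cohen–Macaulay fibre local ring (Grpd.IsCMAt). (A
groupoid scheme carries U, R, s, t, c, e, i over S with the groupoid axioms on T-points; 'finite
locally free' is finite, flat and locally of finite presentation; C ⊂ Γ(U) is the ring of functions
a with s♯(a) = t♯(a) and M = Spec C.) -/
theorem result (S : Scheme.{u}) (G : Grpd.GroupoidScheme S) [Flat G.s] [LocallyOfFinitePresentation G.s] [Flat G.t] [LocallyOfFinitePresentation G.t] : ∃ U' : G.U.Opens, (G.t ⁻¹ᵁ U' : Set G.R) = {r | Grpd.IsCMAt G.s r} ∧ (G.s ⁻¹ᵁ U' : Set G.R) = {r | Grpd.IsCMAt G.t r} ∧ ⇑G.t '' (G.s ⁻¹ᵁ U' : Set G.R) = Set.univ ∧ ⇑G.s '' (G.t ⁻¹ᵁ U' : Set G.R) = Set.univ := by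
  have : IsIso G.i := ⟨G.i, GrpdLib.i_i G, GrpdLib.i_i G⟩
  have hii : ∀ r : G.R, G.i (G.i r) = r := fun r => by
    rw [← Scheme.Hom.comp_apply, GrpdLib.i_i]; rfl
  have his : ∀ r : G.R, G.s (G.i r) = G.t r := fun r => by rw [← Scheme.Hom.comp_apply, G.i_s]
  have hit : ∀ r : G.R, G.t (G.i r) = G.s r := fun r => by rw [← Scheme.Hom.comp_apply, G.i_t]
  have hst : ∀ r : G.R, MoreMor.IsCMAt G.s r ↔ MoreMor.IsCMAt G.t (G.i r) := fun r =>
    Set.ext_iff.1 (S1342.result G.t G.s G.i (𝟙 G.U)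
      (IsPullback.of_horiz_isIso ⟨by rw [G.i_t, Category.comp_id]⟩)) r
  let U' : G.U.Opens := ⟨⇑G.s '' {r | MoreMor.IsCMAt G.t r}, G.s.isOpenMap _ (S1341.result G.t).1⟩
  have hs : (G.s ⁻¹ᵁ U' : Set G.R) = {r | MoreMor.IsCMAt G.t r} :=
    Set.ext fun r => ⟨fun ⟨b, hb, hbr⟩ => cm_t_of_s_eq G hbr.symm hb, fun hr => ⟨r, hr, rfl⟩⟩
  have ht : (G.t ⁻¹ᵁ U' : Set G.R) = {r | MoreMor.IsCMAt G.s r} := by
    ext r
    rw [Set.mem_setOf_eq, hst]
    refine Iff.trans ?_ (Set.ext_iff.1 hs (G.i r))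
    show G.t r ∈ U' ↔ G.s (G.i r) ∈ U'
    rw [his]
  refine ⟨U', by rw [ht]; exact Set.ext fun r => (isCMAt_iff' G.s r).symm,
    by rw [hs]; exact Set.ext fun r => (isCMAt_iff' G.t r).symm,
    by rw [hs]; exact image_cm_eq_univ G.t G.e G.e_t,
    by rw [ht]; exact image_cm_eq_univ G.s G.e G.e_s⟩

end Groth.Agent.S1936
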