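import Groth.Statements.S19383
import Mathlib.RingTheory.AdicCompletion.AsTensorProduct
import Mathlib.RingTheory.Flat.TorsionFree
import Mathlib.RingTheory.Flat.Stability
import Mathlib.RingTheory.Filtration
import Mathlib.RingTheory.DiscreteValuationRing.Basic

set_option autoImplicit false
universe u
open CAlg

namespace Groth.Agent.S19383

/-- Over a discrete valuation ring, let V be a henselian discrete valuation ring with maximal ideal 𝔪
and B a Noetherian V-algebra, B̂ its 𝔪B-adic completion. Then B is flat over V if and only if B̂ is
flat over V. (The published lemma takes V an excellent normal ring with an ideal I such that (V,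
V/I) is a henselian pair and B of finite type; in that generality it fails: for V = ℤ_p[[x]], I =
(p) and B = V[y]/(x, py − 1) ≅ ℚ_p one has IB = B, so B̂ = 0 is flat while B is not flat over V.
Over a discrete valuation ring flatness is torsion-freeness and the statement holds for every
Noetherian B.) -/
theorem result
    (V : Type u) [CommRing V] [IsDomain V] [IsDiscreteValuationRing V] [HenselianLocalRing V]
    (B : Type u) [CommRing B] [Algebra V B] [IsNoetherianRing B] :
    Module.Flat V B ↔
      Module.Flat V (AdicCompletion ((IsLocalRing.maximalIdeal V).map (algebraMap V B)) B) := by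
  obtain ⟨ϖ, hϖ⟩ := IsDiscreteValuationRing.exists_irreducible V
  constructor
  · intro h
    exact Module.Flat.trans V B _
  · intro h
    haveI : Module.IsTorsionFree V (AdicCompletion ((IsLocalRing.maximalIdeal V).map (algebraMap V B)) B) := inferInstance
    have key : ∀ b : B, ϖ • b = 0 → b = 0 := by
      intro b hb
      let I := (IsLocalRing.maximalIdeal V).map (algebraMap V B)
      have hi : AdicCompletion.of I B b = 0 := by
        have : ϖ • AdicCompletion.of I B b = 0 := by
          rw [← LinearMap.map_smul_of_tower, hb, map_zero]
        exact (smul_eq_zero.1 this).resolve_left hϖ.ne_zero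
      have hmem : b ∈ (⨅ n : ℕ, I ^ n • (⊤ : Submodule B B)) := by
        rw [Submodule.mem_iInf]
        intro n
        have h2 := congrArg (fun z => AdicCompletion.eval I B n z) hi
        simp only [AdicCompletion.eval_of, map_zero] at h2
        exact (Submodule.Quotient.mk_eq_zero _).1 h2
      obtain ⟨⟨r, hr⟩, hrb⟩ := (I.mem_iInf_smul_pow_eq_bot_iff b).1 hmem
      have hI : I = Ideal.span {algebraMap V B ϖ} := by
        simp only [I, hϖ.maximalIdeal_eq, Ideal.map_span, Set.image_singleton]
      rw [hI, Ideal.mem_span_singleton'] at hr
      obtain ⟨c, rfl⟩ := hr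
      rw [← hrb]
      show (c * algebraMap V B ϖ) • b = 0
      rw [mul_smul, algebraMap_smul, hb, smul_zero]
    haveI : Module.IsTorsionFree V B := by
      refine Module.isTorsionFree_iff_smul_eq_zero.2 fun a b hab => or_iff_not_imp_left.2 fun ha => ?_
      obtain ⟨n, v, rfl⟩ := IsDiscreteValuationRing.eq_unit_mul_pow_irreducible ha hϖ
      rw [mul_smul, ← Units.smul_def, smul_eq_zero_iff_eq] at hab
      clear ha
      induction n generalizing b with
      | zero => simpa using hab
      | succ n ih => rw [pow_succ, mul_smul] at hab; exact key b (ih _ hab)
    infer_instance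

end Groth.Agent.S19383
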