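import Groth.Statements.S19403
import Groth.Agent.EquivZMT.Points
import Groth.Agent.EquivZMT.SubAlg
import Mathlib
-- import your own Groth.Agent.* helpers here

set_option autoImplicit false
universe u
open TensorProduct
open GLin

open CategoryTheory AlgebraicGeometry

namespace Groth.Agent.S19403

/-- The equivariant form of Zariski's Main Theorem. Let k be an algebraically closed field of
characteristic zero, A a finitely generated commutative Hopf algebra over k all of whose
finite-dimensional comodules are semisimple (a reductive group G), R and S finitely generated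
commutative k-algebras with multiplicative A-coactions (G acting on the affine schemes X = Spec R, Y
= Spec S), and S → R an algebra map compatible with the coactions (a G-morphism φ : X → Y) which is
quasi-finite. Then there exist a finitely generated commutative k-algebra B with a multiplicative
A-coaction (an affine G-scheme Z), an algebra map ψ : S → B compatible with the coactions and
finite, and an algebra map i : B → R compatible with the coactions such that Spec R → Spec B is an
open immersion, with i ∘ ψ the given map S → R (φ factors as an equivariant open immersion followed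
by a finite G-morphism). -/
theorem result (k : Type u) [Field k] [IsAlgClosed k] [CharZero k]
    (A : Type u) [CommRing A] [HopfAlgebra k A] [Algebra.FiniteType k A] (hG : HopfRep.IsLinearlyReductive k A)
    (S : Type u) [CommRing S] [Algebra k S] [Algebra.FiniteType k S] [HopfRep.Comod k A S] [GLin.IsCoactAlg k A S]
    (R : Type u) [CommRing R] [Algebra k R] [Algebra.FiniteType k R] [HopfRep.Comod k A R] [GLin.IsCoactAlg k A R]
    [Algebra S R] [IsScalarTower k S R] [Algebra.QuasiFinite S R]
    (hequiv : (∀ s : S, HopfRep.Comod.coact (k := k) (A := A) (algebraMap S R s) =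
      Algebra.TensorProduct.map (IsScalarTower.toAlgHom k S R) (AlgHom.id k A) (HopfRep.Comod.coact (k := k) (A := A) s))) :
    ∃ (B : Type u) (_ : CommRing B) (_ : Algebra k B) (_ : HopfRep.Comod k A B) (_ : GLin.IsCoactAlg k A B),
      Algebra.FiniteType k B ∧
      ∃ (ψ : S →ₐ[k] B) (i : B →ₐ[k] R),
        (∀ s : S, HopfRep.Comod.coact (k := k) (A := A) (ψ s) =
        Algebra.TensorProduct.map ψ (AlgHom.id k A) (HopfRep.Comod.coact (k := k) (A := A) s)) ∧
        (∀ s : B, HopfRep.Comod.coact (k := k) (A := A) (i s) =
        Algebra.TensorProduct.map i (AlgHom.id k A) (HopfRep.Comod.coact (k := k) (A := A) s)) ∧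
        i.comp ψ = IsScalarTower.toAlgHom k S R ∧ ψ.toRingHom.Finite ∧
        AlgebraicGeometry.IsOpenImmersion (AlgebraicGeometry.Spec.map (CommRingCat.ofHom i.toRingHom)) := by
  classical
  haveI : _root_.IsReduced A := ComodLib.isReduced_of_charZero' (k := k)
  haveI : Algebra.FiniteType S R := Algebra.FiniteType.of_restrictScalars_finiteType k S R
  let C : Subalgebra S R := integralClosure S R
  have hC : ∀ (g : A →ₐ[k] k), ∀ c ∈ C, EquivZMT.evalHom g c ∈ C := by
    intro g c hc
    obtain ⟨P, hP, hP0⟩ := hc
    refine ⟨P.map (EquivZMT.evalHom g : S →ₐ[k] S).toRingHom, hP.map _, ?_⟩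
    have hcomm : ((EquivZMT.evalHom g : R →ₐ[k] R).toRingHom).comp (algebraMap S R) =
        (algebraMap S R).comp (EquivZMT.evalHom g : S →ₐ[k] S).toRingHom := by
      ext s
      show EquivZMT.evalHom g (algebraMap S R s) = algebraMap S R (EquivZMT.evalHom g s)
      rw [EquivZMT.evalHom_apply, EquivZMT.evalHom_apply, ComodLib.actF_apply, ComodLib.actF_apply, hequiv]
      induction HopfRep.Comod.coact (k := k) (A := A) s using TensorProduct.induction_on with
      | zero => simp
      | add a b ha hb => simp only [map_add, ha, hb]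
      | tmul a b => simp [Algebra.smul_def, ← IsScalarTower.algebraMap_apply]
    rw [Polynomial.eval₂_map, ← hcomm]
    show Polynomial.eval₂ _ ((EquivZMT.evalHom g : R →ₐ[k] R).toRingHom c) P = 0
    rw [← Polynomial.hom_eval₂, hP0, map_zero]
  have hCk : HopfRep.IsSubcomod (k := k) (A := A) ((Subalgebra.toSubmodule C).restrictScalars k) :=
    EquivZMT.isSubcomod_of_points fun g u hu => by
      rw [← EquivZMT.evalHom_apply]; exact hC g u hu
  have hloc : ∀ p : PrimeSpectrum R, ∃ S' : Subalgebra S R, S'.toSubmodule.FG ∧ ∃ r : S',
      r.1 ∉ p.asIdeal ∧ Function.Bijective (Localization.awayMap S'.val.toRingHom r) := fun p => by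
    haveI : Algebra.QuasiFiniteAt S p.asIdeal := inferInstance
    exact Algebra.QuasiFiniteAt.exists_fg_and_exists_notMem_and_awayMap_bijective p.asIdeal
  choose S' hS'fg r hr hbij using hloc
  have hspan : Ideal.span (Set.range fun p => (r p : R)) = ⊤ := by
    by_contra h
    obtain ⟨M, hM, hle⟩ := Ideal.exists_le_maximal _ h
    exact hr ⟨M, hM.isPrime⟩ (hle (Ideal.subset_span ⟨⟨M, hM.isPrime⟩, rfl⟩))
  obtain ⟨T0, hT0sub, hT0⟩ := (Ideal.span_eq_top_iff_finite _).1 hspan
  have hp : ∀ t : (T0 : Set R), ∃ p, (r p : R) = t := fun t => hT0sub t.2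
  choose p hpt using hp
  choose G hG using fun q => hS'fg q
  let gens : Set R := ⋃ t : (T0 : Set R), ((G (p t) : Finset R) : Set R)
  have hgens : gens.Finite := Set.finite_iUnion fun t => Finset.finite_toSet _
  have hgensC : gens ⊆ C := by
    rintro x hx
    obtain ⟨t, ht⟩ := Set.mem_iUnion.1 hx
    have hxS : x ∈ Subalgebra.toSubmodule (S' (p t)) := hG (p t) ▸ Submodule.subset_span ht
    haveI : Module.Finite S (S' (p t)) := Module.Finite.iff_fg.2 (hS'fg (p t))
    exact (Algebra.IsIntegral.isIntegral (R := S) (⟨x, hxS⟩ : S' (p t))).map (S' (p t)).val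
  obtain ⟨U₀, hU₀fin, hgU₀, hU₀⟩ := ComodLib.exists_finite_subcomod_le (k := k) (C := A) hgens
  let U : Submodule k R := U₀ ⊓ (Subalgebra.toSubmodule C).restrictScalars k
  have hU : HopfRep.IsSubcomod (k := k) (A := A) U := ComodLib.isSubcomod_inf hU₀ hCk
  haveI : Module.Finite k U := Submodule.finiteDimensional_inf_left _ _
  have hUfg : U.FG := Module.Finite.iff_fg.1 inferInstance
  obtain ⟨T, hT⟩ := hUfg
  let Bs : Subalgebra S R := Algebra.adjoin S (T : Set R)
  let Bk : Subalgebra k R := Bs.restrictScalars k
  have hUB : U ≤ Subalgebra.toSubmodule Bk := by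
    rw [← hT, Submodule.span_le]
    exact Algebra.subset_adjoin
  haveI : Module.Finite S Bs := Module.Finite.iff_fg.2 (fg_adjoin_of_finite T.finite_toSet fun x hx =>
    (hT ▸ Submodule.subset_span hx : x ∈ U).2)
  have hBk : HopfRep.IsSubcomod (k := k) (A := A) (Subalgebra.toSubmodule Bk) := by
    refine EquivZMT.isSubcomod_of_points fun g b hb => ?_
    rw [← EquivZMT.evalHom_apply]
    show EquivZMT.evalHom g b ∈ Bs
    change b ∈ Algebra.adjoin S (T : Set R) at hb
    induction hb using Algebra.adjoin_induction with
    | mem x hx =>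
      exact hUB (EquivZMT.evalHom_apply g x ▸ ComodLib.subcomod_actF_mem hU _ (hT ▸ Submodule.subset_span hx))
    | algebraMap s =>
      have : EquivZMT.evalHom g (algebraMap S R s) = algebraMap S R (EquivZMT.evalHom g s) := by
        rw [EquivZMT.evalHom_apply, EquivZMT.evalHom_apply, ComodLib.actF_apply, ComodLib.actF_apply, hequiv]
        induction HopfRep.Comod.coact (k := k) (A := A) s using TensorProduct.induction_on with
        | zero => simp
        | add a b ha hb => simp only [map_add, ha, hb]
        | tmul a b => simp [Algebra.smul_def, ← IsScalarTower.algebraMap_apply]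
      rw [this]; exact Subalgebra.algebraMap_mem _ _
    | add x y _ _ hx hy => rw [map_add]; exact add_mem hx hy
    | mul x y _ _ hx hy => rw [map_mul]; exact mul_mem hx hy
  obtain ⟨c, hcA, hc⟩ := EquivZMT.exists_comod_subalgebra Bk hBk
  have hSB : ∀ s : S, IsScalarTower.toAlgHom k S R s ∈ Bk := fun s => Bs.algebraMap_mem s
  let ψ : S →ₐ[k] Bk := (IsScalarTower.toAlgHom k S R).codRestrict Bk hSB
  refine ⟨Bk, inferInstance, inferInstance, c, hcA, ?_, ψ, Bk.val, ?_, hc, AlgHom.ext fun s => rfl, ?_, ?_⟩
  · haveI : Algebra.FiniteType k Bs := Algebra.FiniteType.trans (S := S) inferInstance inferInstance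
    exact inferInstanceAs (Algebra.FiniteType k Bs)
  · intro s
    apply Module.Flat.rTensor_preserves_injective_linearMap Bk.val.toLinearMap Subtype.val_injective
    have h1 : ∀ z, (Bk.val.toLinearMap.rTensor A) z = Algebra.TensorProduct.map Bk.val (AlgHom.id k A) z := fun z => by
      induction z using TensorProduct.induction_on with
      | zero => simp
      | add a b ha hb => simp only [map_add, ha, hb]
      | tmul a b => simp
    rw [h1, h1, ← hc]
    show HopfRep.Comod.coact (k := k) (A := A) (algebraMap S R s) = _
    rw [hequiv]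
    induction HopfRep.Comod.coact (k := k) (A := A) s using TensorProduct.induction_on with
    | zero => simp
    | add a b ha hb => simp only [map_add, ha, hb]
    | tmul a b => simp [ψ]
  · show RingHom.Finite _
    have hψ : ψ.toRingHom = algebraMap S Bs := RingHom.ext fun s => rfl
    have h := RingHom.finite_algebraMap.2 (inferInstance : Module.Finite S Bs)
    rw [← hψ] at h
    exact h
  · have hsub : ∀ t, S' (p t) ≤ Bs := fun t => by
      intro x hx
      have hx' : x ∈ Submodule.span S ((G (p t) : Finset R) : Set R) := (hG (p t)).symm ▸ hx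
      refine (Submodule.span_le (p := Subalgebra.toSubmodule Bs)).2 (fun y hy => ?_) hx'
      have hyg : y ∈ gens := Set.mem_iUnion.2 ⟨t, hy⟩
      exact hUB ⟨hgU₀ hyg, hgensC hyg⟩
    let ρ : ↥((T0 : Set R)) → Bk := fun t => ⟨(r (p t) : R), hsub t (r (p t)).2⟩
    refine IsZariskiLocalAtTarget.of_range_subset_iSup (P := @IsOpenImmersion)
      (fun t => PrimeSpectrum.basicOpen (ρ t)) ?_ fun t => ?_
    · rintro _ ⟨q, rfl⟩
      have : ∃ t : (T0 : Set R), (t : R) ∉ q.asIdeal := by
        by_contra h
        push_neg at h
        exact q.isPrime.ne_top (top_le_iff.1 (hT0 ▸ Ideal.span_le.2 fun x hx => h ⟨x, hx⟩))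
      obtain ⟨t, ht⟩ := this
      refine TopologicalSpace.Opens.mem_iSup.2 ⟨t, ?_⟩
      show (ρ t) ∉ Ideal.comap Bk.val.toRingHom q.asIdeal
      simpa [ρ, hpt] using ht
    · refine (MorphismProperty.arrow_mk_iso_iff @IsOpenImmersion (SpecMapRestrictBasicOpenIso _ _)).2 ?_
      have hb : Function.Bijective (Localization.awayMap Bk.val.toRingHom (ρ t)) := by
        refine ⟨IsLocalization.map_injective_of_injective _ _ _ Subtype.val_injective, fun y => ?_⟩
        obtain ⟨x, rfl⟩ := (hbij (p t)).2 y
        refine ⟨Localization.awayMap (Subalgebra.inclusion (hsub t)).toRingHom (r (p t)) x, ?_⟩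
        have h2 : (Localization.awayMap Bk.val.toRingHom (ρ t)).comp
            (Localization.awayMap (Subalgebra.inclusion (hsub t)).toRingHom (r (p t))) =
            Localization.awayMap (S' (p t)).val.toRingHom (r (p t)) := by
          refine IsLocalization.ringHom_ext (.powers (r (p t))) ?_
          ext z
          simp only [Localization.awayMap, IsLocalization.Away.map, RingHom.comp_apply]
          erw [IsLocalization.map_eq, IsLocalization.map_eq, IsLocalization.map_eq]
          rfl
        exact RingHom.congr_fun h2 x
      haveI : IsIso (CommRingCat.ofHom (Localization.awayMap Bk.val.toRingHom (ρ t))) :=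
        (ConcreteCategory.isIso_iff_bijective _).2 hb
      infer_instance

end Groth.Agent.S19403
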