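import Groth.Statements.S19408
import Groth.Agent.StrongEt.Inv
import Mathlib.RingTheory.Smooth.Flat
-- import your own Groth.Agent.* helpers here

set_option autoImplicit false
universe u
open TensorProduct
open GLin

namespace Groth.Agent.S19408

/-- Let k be an algebraically closed field of characteristic zero, A a finitely generated commutative
Hopf algebra over k all of whose finite-dimensional comodules are semisimple (a reductive group G),
S and R finitely generated commutative k-algebras with multiplicative A-coactions (G acting on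
affine Y = Spec S and X = Spec R), S → R an algebra map compatible with the coactions (a G-morphism
θ : X → Y), S₀ → S and R₀ → R injective k-algebra maps whose images are the subrings of invariants,
and S₀ → R₀ an algebra map with S₀ → R₀ → R equal to S₀ → S → R (θ/G). Suppose R is étale over S, R₀
is étale over S₀, and the canonical map S ⊗_{S₀} R₀ → R is bijective (θ and θ/G étale and X ≅ Y
×_{Y//G} X//G). Let J be an ideal of S which is a subcomodule (Y' = V(J) a closed G-invariant
subscheme), let S/J and R/JR carry A-coactions for which the quotient maps are compatible with the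
coactions (the induced actions on Y' and X' = Y' ×_Y X), and let S₁ → S/J and R₁ → R/JR be injective
k-algebra maps whose images are the subrings of invariants, with S₁ → R₁ an algebra map such that S₁
→ R₁ → R/JR equals S₁ → S/J → R/JR. Then R/JR is étale over S/J, R₁ is étale over S₁, and the
canonical map (S/J) ⊗_{S₁} R₁ → R/JR is bijective (θ' : X' → Y' and θ'/G are étale and X' ≅ Y'
×_{Y'//G} X'//G). -/
theorem result (k : Type u) [Field k] [IsAlgClosed k] [CharZero k]
    (A : Type u) [CommRing A] [HopfAlgebra k A] [Algebra.FiniteType k A] (hG : HopfRep.IsLinearlyReductive k A)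
    (S : Type u) [CommRing S] [Algebra k S] [Algebra.FiniteType k S] [HopfRep.Comod k A S] [GLin.IsCoactAlg k A S]
    (R : Type u) [CommRing R] [Algebra k R] [Algebra.FiniteType k R] [HopfRep.Comod k A R] [GLin.IsCoactAlg k A R]
    [Algebra S R] [IsScalarTower k S R]
    (hequiv : (∀ s : S, HopfRep.Comod.coact (k := k) (A := A) (algebraMap S R s) =
      Algebra.TensorProduct.map (IsScalarTower.toAlgHom k S R) (AlgHom.id k A) (HopfRep.Comod.coact (k := k) (A := A) s)))
    (S₀ : Type u) [CommRing S₀] [Algebra k S₀] [Algebra S₀ S] [IsScalarTower k S₀ S]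
    (hS₀i : Function.Injective (algebraMap S₀ S)) (hS₀ : (IsScalarTower.toAlgHom k S₀ S).range = GLin.invariants k A S)
    (R₀ : Type u) [CommRing R₀] [Algebra k R₀] [Algebra R₀ R] [IsScalarTower k R₀ R]
    (hR₀i : Function.Injective (algebraMap R₀ R)) (hR₀ : (IsScalarTower.toAlgHom k R₀ R).range = GLin.invariants k A R)
    [Algebra S₀ R₀] [Algebra S₀ R] [IsScalarTower S₀ S R] [IsScalarTower S₀ R₀ R]
    (het : Algebra.Etale S R) (het₀ : Algebra.Etale S₀ R₀)
    (hcart : Function.Bijective (Algebra.TensorProduct.productMap (IsScalarTower.toAlgHom S₀ S R) (IsScalarTower.toAlgHom S₀ R₀ R)))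
    (J : Ideal S) (hJ : HopfRep.IsSubcomod (k := k) (A := A) (J.restrictScalars k))
    [HopfRep.Comod k A (S ⧸ J)] [GLin.IsCoactAlg k A (S ⧸ J)]
    (hqS : (∀ s : S, HopfRep.Comod.coact (k := k) (A := A) ((Ideal.Quotient.mkₐ k J) s) =
        Algebra.TensorProduct.map (Ideal.Quotient.mkₐ k J) (AlgHom.id k A) (HopfRep.Comod.coact (k := k) (A := A) s)))
    [HopfRep.Comod k A (R ⧸ J.map (algebraMap S R))] [GLin.IsCoactAlg k A (R ⧸ J.map (algebraMap S R))]
    (hqR : (∀ s : R, HopfRep.Comod.coact (k := k) (A := A) ((Ideal.Quotient.mkₐ k (J.map (algebraMap S R))) s) =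
        Algebra.TensorProduct.map (Ideal.Quotient.mkₐ k (J.map (algebraMap S R))) (AlgHom.id k A) (HopfRep.Comod.coact (k := k) (A := A) s)))
    (S₁ : Type u) [CommRing S₁] [Algebra k S₁] [Algebra S₁ (S ⧸ J)] [IsScalarTower k S₁ (S ⧸ J)]
    (hS₁i : Function.Injective (algebraMap S₁ (S ⧸ J)))
    (hS₁ : (IsScalarTower.toAlgHom k S₁ (S ⧸ J)).range = GLin.invariants k A (S ⧸ J))
    (R₁ : Type u) [CommRing R₁] [Algebra k R₁] [Algebra R₁ (R ⧸ J.map (algebraMap S R))] [IsScalarTower k R₁ (R ⧸ J.map (algebraMap S R))]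
    (hR₁i : Function.Injective (algebraMap R₁ (R ⧸ J.map (algebraMap S R))))
    (hR₁ : (IsScalarTower.toAlgHom k R₁ (R ⧸ J.map (algebraMap S R))).range = GLin.invariants k A (R ⧸ J.map (algebraMap S R)))
    [Algebra S₁ R₁] [Algebra S₁ (R ⧸ J.map (algebraMap S R))]
    [IsScalarTower S₁ (S ⧸ J) (R ⧸ J.map (algebraMap S R))] [IsScalarTower S₁ R₁ (R ⧸ J.map (algebraMap S R))] :
    Algebra.Etale (S ⧸ J) (R ⧸ J.map (algebraMap S R)) ∧ Algebra.Etale S₁ R₁ ∧
      Function.Bijective (Algebra.TensorProduct.productMap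
        (IsScalarTower.toAlgHom S₁ (S ⧸ J) (R ⧸ J.map (algebraMap S R)))
        (IsScalarTower.toAlgHom S₁ R₁ (R ⧸ J.map (algebraMap S R)))) := by
  classical
  let q := Ideal.Quotient.mkₐ k J
  let qR := Ideal.Quotient.mkₐ k (J.map (algebraMap S R))
  letI : Algebra S₀ (S ⧸ J) := inferInstance
  haveI : Module.Flat S₀ R₀ := inferInstance
  haveI : IsScalarTower k S₀ R := IsScalarTower.of_algebraMap_eq fun c => by
    rw [IsScalarTower.algebraMap_apply S₀ S R, ← IsScalarTower.algebraMap_apply k S₀ S,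
      ← IsScalarTower.algebraMap_apply k S R]
  haveI : IsScalarTower k S₀ R₀ := IsScalarTower.of_algebraMap_eq fun c => hR₀i (by
    rw [← IsScalarTower.algebraMap_apply k R₀ R, ← IsScalarTower.algebraMap_apply S₀ R₀ R,
      ← IsScalarTower.algebraMap_apply k S₀ R])
  haveI : IsScalarTower S₀ (S ⧸ J) (R ⧸ J.map (algebraMap S R)) := IsScalarTower.of_algebraMap_eq fun c => by
    show Ideal.Quotient.mk (J.map (algebraMap S R)) (algebraMap S₀ R c) =
      Ideal.Quotient.mk (J.map (algebraMap S R)) (algebraMap S R (algebraMap S₀ S c))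
    rw [← IsScalarTower.algebraMap_apply]
  haveI : IsScalarTower k S₀ (R ⧸ J.map (algebraMap S R)) := IsScalarTower.of_algebraMap_eq fun c => by
    show Ideal.Quotient.mk (J.map (algebraMap S R)) (algebraMap k R c) =
      Ideal.Quotient.mk (J.map (algebraMap S R)) (algebraMap S₀ R (algebraMap k S₀ c))
    rw [← IsScalarTower.algebraMap_apply]
  haveI : IsScalarTower k S₀ (S ⧸ J) := IsScalarTower.of_algebraMap_eq fun c => by
    show Ideal.Quotient.mk J (algebraMap k S c) = Ideal.Quotient.mk J (algebraMap S₀ S (algebraMap k S₀ c))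
    rw [← IsScalarTower.algebraMap_apply]
  -- invariant maps
  have hcomp : ∀ (V W : Type u) [CommRing V] [Algebra k V] [CommRing W] [Algebra k W]
      [HopfRep.Comod k A V] [GLin.IsCoactAlg k A V] [HopfRep.Comod k A W] [GLin.IsCoactAlg k A W]
      (φ : V →ₐ[k] W), (∀ v, HopfRep.Comod.coact (k := k) (A := A) (φ v) =
        Algebra.TensorProduct.map φ (AlgHom.id k A) (HopfRep.Comod.coact (k := k) (A := A) v)) →
      ∀ v ∈ GLin.invariants k A V, φ v ∈ GLin.invariants k A W := by
    intro V W _ _ _ _ _ _ _ _ φ hφ v hv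
    rw [GLin.mem_invariants_iff] at hv ⊢
    rw [hφ, hv]; simp
  have hJS : ∀ s₀ : S₀, algebraMap S₀ (S ⧸ J) s₀ ∈ GLin.invariants k A (S ⧸ J) := fun s₀ => by
    rw [show algebraMap S₀ (S ⧸ J) s₀ = q (algebraMap S₀ S s₀) from rfl]
    exact hcomp S (S ⧸ J) q hqS _ (hS₀ ▸ ⟨s₀, rfl⟩)
  haveI : IsScalarTower k (S ⧸ J) (R ⧸ J.map (algebraMap S R)) := IsScalarTower.of_algebraMap_eq fun c => by
    show qR (algebraMap k R c) = qR (algebraMap S R (algebraMap k S c))
    rw [← IsScalarTower.algebraMap_apply]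
  let ι : (S ⧸ J) →ₐ[k] R ⧸ J.map (algebraMap S R) :=
    IsScalarTower.toAlgHom k (S ⧸ J) (R ⧸ J.map (algebraMap S R))
  have hιq : ∀ s, ι (q s) = qR (algebraMap S R s) := fun s => rfl
  have hιq' : ∀ s, ι (Ideal.Quotient.mk J s) = algebraMap S (R ⧸ J.map (algebraMap S R)) s := fun s => rfl
  have hι : ∀ s, HopfRep.Comod.coact (k := k) (A := A) (ι s) =
      Algebra.TensorProduct.map ι (AlgHom.id k A) (HopfRep.Comod.coact (k := k) (A := A) s) := by
    intro s
    obtain ⟨s, rfl⟩ := Ideal.Quotient.mkₐ_surjective k J s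
    show HopfRep.Comod.coact (k := k) (A := A) (qR (algebraMap S R s)) =
      Algebra.TensorProduct.map ι (AlgHom.id k A) (HopfRep.Comod.coact (k := k) (A := A) (q s))
    rw [hqR, hequiv, hqS]
    induction HopfRep.Comod.coact (k := k) (A := A) s using TensorProduct.induction_on with
    | zero => simp
    | add a b ha hb => simp only [map_add, ha, hb]
    | tmul a b => simp [q, qR, hιq']
  let j : R₀ →ₐ[k] R ⧸ J.map (algebraMap S R) := qR.comp (IsScalarTower.toAlgHom k R₀ R)
  have hj : ∀ r₀, j r₀ ∈ GLin.invariants k A (R ⧸ J.map (algebraMap S R)) := fun r₀ =>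
    hcomp R _ qR hqR _ (hR₀ ▸ ⟨r₀, rfl⟩)
  -- the quotient is the base change
  let μ := Algebra.TensorProduct.productMap (IsScalarTower.toAlgHom S₀ S R) (IsScalarTower.toAlgHom S₀ R₀ R)
  let κ : (S ⧸ J) ⊗[S₀] R₀ →ₐ[S₀] R ⧸ J.map (algebraMap S R) :=
    Algebra.TensorProduct.productMap (IsScalarTower.toAlgHom S₀ (S ⧸ J) (R ⧸ J.map (algebraMap S R)))
      ((Ideal.Quotient.mkₐ S₀ (J.map (algebraMap S R))).comp (IsScalarTower.toAlgHom S₀ R₀ R))
  have hκμ : ∀ z : S ⊗[S₀] R₀, κ (Algebra.TensorProduct.map (Ideal.Quotient.mkₐ S₀ J) (AlgHom.id S₀ R₀) z) =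
      qR (μ z) := by
    intro z
    induction z using TensorProduct.induction_on with
    | zero => simp
    | add a b ha hb => simp only [map_add, ha, hb]
    | tmul a b => simp [κ, μ, qR]
  have hκ : Function.Bijective κ := by
    have hsurj : Function.Surjective (Algebra.TensorProduct.map (Ideal.Quotient.mkₐ S₀ J) (AlgHom.id S₀ R₀)) :=
      TensorProduct.map_surjective (Ideal.Quotient.mkₐ_surjective S₀ J) Function.surjective_id
    refine ⟨fun a b hab => ?_, fun r => ?_⟩
    · obtain ⟨a, rfl⟩ := hsurj a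
      obtain ⟨b, rfl⟩ := hsurj b
      rw [hκμ, hκμ] at hab
      have hmem : μ (a - b) ∈ J.map (algebraMap S R) := by
        rw [map_sub]; exact Ideal.Quotient.eq.1 hab
      have hker : Function.LeftInverse (Function.surjInv hcart.2) μ :=
        fun z => hcart.1 (Function.surjInv_eq hcart.2 _)
      let eμ : (S ⊗[S₀] R₀) ≃+* R := RingEquiv.ofBijective μ.toRingHom hcart
      have h2 : a - b ∈ J.map (Algebra.TensorProduct.includeLeft (R := S₀) (S := S₀) (A := S) (B := R₀)).toRingHom := by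
        have h3 : Ideal.map eμ.symm.toRingHom (J.map (algebraMap S R)) =
            J.map (Algebra.TensorProduct.includeLeft (R := S₀) (S := S₀) (A := S) (B := R₀)).toRingHom := by
          rw [Ideal.map_map]
          congr 1
          ext s
          apply eμ.injective
          simp [eμ, μ]
        rw [← h3]
        have := Ideal.mem_map_of_mem eμ.symm.toRingHom hmem
        have hs : ∀ z, eμ.symm (μ z) = z := fun z => eμ.symm_apply_apply z
        simp only [map_sub] at this
        change eμ.symm (μ a) - eμ.symm (μ b) ∈ _ at this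
        rwa [hs, hs] at this
      have h4 : J.map (Algebra.TensorProduct.includeLeft (R := S₀) (S := S₀) (A := S) (B := R₀)).toRingHom ≤
          RingHom.ker (Algebra.TensorProduct.map (Ideal.Quotient.mkₐ S₀ J) (AlgHom.id S₀ R₀)) := by
        rw [Ideal.map_le_iff_le_comap]
        intro s hs
        simp [RingHom.mem_ker, Ideal.Quotient.eq_zero_iff_mem.2 hs]
      have h5 := h4 h2
      rw [RingHom.mem_ker, map_sub, sub_eq_zero] at h5
      exact h5
    · obtain ⟨r, rfl⟩ := Ideal.Quotient.mkₐ_surjective k (J.map (algebraMap S R)) r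
      obtain ⟨z, rfl⟩ := hcart.2 r
      exact ⟨_, hκμ z⟩
  let eκ : ((S ⧸ J) ⊗[S₀] R₀) ≃ₐ[S ⧸ J] R ⧸ J.map (algebraMap S R) :=
    AlgEquiv.ofRingEquiv (f := RingEquiv.ofBijective κ.toRingHom hκ) (fun s => by simp [κ])
  refine ⟨Algebra.Etale.of_equiv eκ, ?_⟩
  -- invariants
  let e : R₀ ⊗[S₀] (S ⧸ J) →ₗ[k] R ⧸ J.map (algebraMap S R) :=
    (κ.toLinearMap.restrictScalars k) ∘ₗ ((TensorProduct.comm S₀ R₀ (S ⧸ J)).toLinearMap.restrictScalars k)
  have he : Function.Bijective e := hκ.comp (TensorProduct.comm S₀ R₀ (S ⧸ J)).bijective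
  have het' : ∀ r₀ s, e (r₀ ⊗ₜ s) = j r₀ * ι s := fun r₀ s => by
    simp [e, κ, j, ι, qR, mul_comm]
  -- maps into S₁ and R₁
  obtain ⟨c, hc⟩ := StrongEt.exists_lift_of_invariant (A := A) (IsScalarTower.toAlgHom k S₁ (S ⧸ J)) hS₁i hS₁
    (q.comp (IsScalarTower.toAlgHom k S₀ S)) hJS
  obtain ⟨d, hd⟩ := StrongEt.exists_lift_of_invariant (A := A)
    (IsScalarTower.toAlgHom k R₁ (R ⧸ J.map (algebraMap S R))) hR₁i hR₁ j hj
  letI : Algebra S₀ S₁ := c.toRingHom.toAlgebra
  haveI : IsScalarTower S₀ S₁ (S ⧸ J) := IsScalarTower.of_algebraMap_eq fun s₀ => (hc s₀).symm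
  have hd' : ∀ r₀, algebraMap R₁ (R ⧸ J.map (algebraMap S R)) (d r₀) = j r₀ := hd
  letI : Algebra S₀ R₁ := ((algebraMap S₁ R₁).comp c.toRingHom).toAlgebra
  haveI : IsScalarTower S₀ S₁ R₁ := IsScalarTower.of_algebraMap_eq fun s₀ => rfl
  let d₀ : R₀ →ₐ[S₀] R₁ :=
    { d.toRingHom with
      commutes' := fun s₀ => hR₁i (by
        show algebraMap R₁ _ (d (algebraMap S₀ R₀ s₀)) = algebraMap R₁ _ (algebraMap S₁ R₁ (c s₀))
        rw [hd', ← IsScalarTower.algebraMap_apply S₁ R₁, IsScalarTower.algebraMap_apply S₁ (S ⧸ J),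
          show algebraMap S₁ (S ⧸ J) (c s₀) = q (algebraMap S₀ S s₀) from hc s₀]
        show qR (algebraMap R₀ R (algebraMap S₀ R₀ s₀)) = qR (algebraMap S R (algebraMap S₀ S s₀))
        rw [← IsScalarTower.algebraMap_apply S₀ R₀ R, ← IsScalarTower.algebraMap_apply S₀ S R]) }
  let ν : S₁ ⊗[S₀] R₀ →ₐ[S₁] R₁ :=
    Algebra.TensorProduct.lift (Algebra.ofId S₁ R₁) d₀ (fun _ _ => Commute.all _ _)
  let incl : S₁ →ₐ[S₀] (S ⧸ J) := IsScalarTower.toAlgHom S₀ S₁ (S ⧸ J)
  have hcompat : ∀ w : S₁ ⊗[S₀] R₀, algebraMap R₁ (R ⧸ J.map (algebraMap S R)) (ν w) =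
      κ (Algebra.TensorProduct.map incl (AlgHom.id S₀ R₀) w) := by
    intro w
    induction w using TensorProduct.induction_on with
    | zero => simp
    | add a b ha hb => simp only [map_add, ha, hb]
    | tmul a b =>
      simp [ν, κ, incl, d₀, hd', j, qR, ← IsScalarTower.algebraMap_apply S₁ R₁,
        ← IsScalarTower.algebraMap_apply S₁ (S ⧸ J)]
  have hν : Function.Bijective ν := by
    refine ⟨fun a b hab => ?_, fun r₁ => ?_⟩
    · have h := congrArg (algebraMap R₁ (R ⧸ J.map (algebraMap S R))) hab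
      rw [hcompat, hcompat] at h
      exact Module.Flat.rTensor_preserves_injective_linearMap incl.toLinearMap hS₁i (hκ.1 h)
    · obtain ⟨w, hw⟩ := StrongEt.exists_of_invariant hJS ι hι j hj e he het'
        (r := algebraMap R₁ (R ⧸ J.map (algebraMap S R)) r₁) (hR₁ ▸ ⟨r₁, rfl⟩)
      suffices h : ∀ w, ∃ v, algebraMap R₁ (R ⧸ J.map (algebraMap S R)) (ν v) =
          e ((LinearMap.ker (StrongEt.defect (A := A) hJS)).subtype.lTensor R₀ w) by
        obtain ⟨v, hv⟩ := h w
        exact ⟨v, hR₁i (hv.trans hw)⟩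
      intro w
      induction w using TensorProduct.induction_on with
      | zero => exact ⟨0, by simp⟩
      | add a b ha hb =>
        obtain ⟨u, hu⟩ := ha; obtain ⟨v, hv⟩ := hb
        exact ⟨u + v, by simp only [map_add, hu, hv]⟩
      | tmul r₀ m =>
        have hm := (StrongEt.mem_ker_defect hJS _).1 m.2
        rw [← hS₁] at hm
        obtain ⟨s₁, hs₁⟩ := hm
        refine ⟨s₁ ⊗ₜ r₀, ?_⟩
        rw [hcompat]
        simp [e, incl, show algebraMap S₁ (S ⧸ J) s₁ = (m : S ⧸ J) from hs₁]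
  let eν : (S₁ ⊗[S₀] R₀) ≃ₐ[S₁] R₁ := AlgEquiv.ofBijective ν hν
  refine ⟨Algebra.Etale.of_equiv eν, ?_⟩
  let T : (S ⧸ J) ⊗[S₁] R₁ ≃ₗ[S₁] (S ⧸ J) ⊗[S₀] R₀ :=
    (LinearEquiv.lTensor (S ⧸ J) eν.symm.toLinearEquiv).trans
      ((TensorProduct.AlgebraTensorModule.cancelBaseChange S₀ S₁ S₁ (S ⧸ J) R₀))
  have hT : ∀ z, Algebra.TensorProduct.productMap (IsScalarTower.toAlgHom S₁ (S ⧸ J) (R ⧸ J.map (algebraMap S R)))
      (IsScalarTower.toAlgHom S₁ R₁ (R ⧸ J.map (algebraMap S R))) z = κ (T z) := by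
    intro z
    induction z using TensorProduct.induction_on with
    | zero => simp
    | add a b ha hb => simp only [map_add, ha, hb]
    | tmul a b =>
      obtain ⟨w, rfl⟩ := hν.2 b
      induction w using TensorProduct.induction_on with
      | zero => simp
      | add u v hu hv => simp only [map_add, TensorProduct.tmul_add, hu, hv]
      | tmul s r₀ =>
        have h1 : eν.symm (ν (s ⊗ₜ r₀)) = s ⊗ₜ r₀ := eν.symm_apply_apply (s ⊗ₜ r₀)
        simp [T, h1]
        rw [hcompat]
        simp [κ, incl, Algebra.smul_def]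
        ring
  rw [show (⇑(Algebra.TensorProduct.productMap (IsScalarTower.toAlgHom S₁ (S ⧸ J) (R ⧸ J.map (algebraMap S R)))
      (IsScalarTower.toAlgHom S₁ R₁ (R ⧸ J.map (algebraMap S R))))) = κ ∘ T from funext hT]
  exact hκ.comp T.bijective

end Groth.Agent.S19408
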