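import Groth.Statements.S19412
import Groth.Agent.ComodLib.Orbits
-- import your own Groth.Agent.* helpers here

set_option autoImplicit false
universe u
open TensorProduct
open GLin

namespace Groth.Agent.S19412

/-- Let k be an algebraically closed field of characteristic zero, A a finitely generated commutative
Hopf algebra over k (an algebraic group G), S and R finitely generated commutative k-algebras with
multiplicative A-coactions (G acting on affine Y = Spec S, X = Spec R), S → R an algebra map
compatible with the coactions (a G-morphism φ : X → Y), S₀ → S and R₀ → R injective k-algebra maps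
whose images are the subrings of invariants, and S₀ → R₀ an algebra map with S₀ → R₀ → R equal to S₀
→ S → R (φ/G). Suppose R₀ is étale over S₀ and the canonical map S ⊗_{S₀} R₀ → R is bijective (φ is
strongly étale: φ/G étale and X ≅ Y ×_{Y//G} X//G). Then R is étale over S (φ étale), and for every
k-point x of X: every k-point of G fixing the image point φ(x) fixes x (φ restricted to the orbit of
x is injective), and the orbit of x is closed if and only if the orbit of φ(x) is closed. (The
published item also asserts that φ is surjective; that fails when φ is the inclusion of a proper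
saturated open subset, which is strongly étale, so surjectivity is not asserted here.) -/
theorem result (k : Type u) [Field k] [IsAlgClosed k] [CharZero k]
    (A : Type u) [CommRing A] [HopfAlgebra k A] [Algebra.FiniteType k A]
    (S : Type u) [CommRing S] [Algebra k S] [Algebra.FiniteType k S] [HopfRep.Comod k A S] [GLin.IsCoactAlg k A S]
    (R : Type u) [CommRing R] [Algebra k R] [Algebra.FiniteType k R] [HopfRep.Comod k A R] [GLin.IsCoactAlg k A R]
    [Algebra S R] [IsScalarTower k S R]
    (hequiv : (∀ s : S, HopfRep.Comod.coact (k := k) (A := A) (algebraMap S R s) =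
      Algebra.TensorProduct.map (IsScalarTower.toAlgHom k S R) (AlgHom.id k A) (HopfRep.Comod.coact (k := k) (A := A) s)))
    (S₀ : Type u) [CommRing S₀] [Algebra k S₀] [Algebra S₀ S] [IsScalarTower k S₀ S]
    (hS₀i : Function.Injective (algebraMap S₀ S)) (hS₀ : (IsScalarTower.toAlgHom k S₀ S).range = GLin.invariants k A S)
    (R₀ : Type u) [CommRing R₀] [Algebra k R₀] [Algebra R₀ R] [IsScalarTower k R₀ R]
    (hR₀i : Function.Injective (algebraMap R₀ R)) (hR₀ : (IsScalarTower.toAlgHom k R₀ R).range = GLin.invariants k A R)
    [Algebra S₀ R₀] [Algebra S₀ R] [IsScalarTower S₀ S R] [IsScalarTower S₀ R₀ R]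
    (het₀ : Algebra.Etale S₀ R₀)
    (hcart : Function.Bijective (Algebra.TensorProduct.productMap (IsScalarTower.toAlgHom S₀ S R) (IsScalarTower.toAlgHom S₀ R₀ R))) :
    Algebra.Etale S R ∧
      ∀ x : R →ₐ[k] k,
        (∀ g : A →ₐ[k] k, GLin.actPt k g (x.comp (IsScalarTower.toAlgHom k S R)) = x.comp (IsScalarTower.toAlgHom k S R) →
          GLin.actPt k g x = x) ∧
        (GLin.IsClosedOrbit k A x ↔ GLin.IsClosedOrbit k A (x.comp (IsScalarTower.toAlgHom k S R))) := by
  let μ := Algebra.TensorProduct.productMap (IsScalarTower.toAlgHom S₀ S R) (IsScalarTower.toAlgHom S₀ R₀ R)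
  letI : Algebra S (S ⊗[S₀] R₀) := Algebra.TensorProduct.leftAlgebra
  let e : (S ⊗[S₀] R₀) ≃ₐ[S] R :=
    AlgEquiv.ofRingEquiv (f := RingEquiv.ofBijective μ.toRingHom hcart) (fun s => by
      simp [μ, RingEquiv.ofBijective])
  refine ⟨Algebra.Etale.of_equiv e, fun x => ?_⟩
  let ι : S →ₐ[k] R := IsScalarTower.toAlgHom k S R
  set y := x.comp ι with hy
  have horb : (GLin.orbitHom k A x).comp ι = GLin.orbitHom k A y := by
    apply AlgHom.ext
    intro s
    show GLin.orbitHom k A x (algebraMap S R s) = _
    rw [ComodLib.orbitHom_apply, ComodLib.orbitHom_apply, hequiv]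
    induction HopfRep.Comod.coact (k := k) (A := A) s using TensorProduct.induction_on with
    | zero => simp
    | tmul a b => simp [hy, ι]
    | add p q hp hq => simp only [map_add, hp, hq]
  have hinv : ∀ r₀ : R₀, algebraMap R₀ R r₀ ∈ GLin.invariants k A R := fun r₀ => hR₀ ▸ ⟨r₀, rfl⟩
  have hgen : ∀ r : R, ∃ z, μ z = r := hcart.2
  constructor
  · intro g hg
    apply AlgHom.ext
    intro r
    obtain ⟨z, rfl⟩ := hgen r
    induction z using TensorProduct.induction_on with
    | zero => simp
    | add a b ha hb => simp only [map_add, ha, hb]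
    | tmul s r₀ =>
      have h1 : GLin.actPt k g x (algebraMap S R s) = x (algebraMap S R s) := by
        have := AlgHom.congr_fun hg s
        rw [GLin.actPt, ← horb] at this
        exact this
      have h2 : GLin.actPt k g x (algebraMap R₀ R r₀) = x (algebraMap R₀ R r₀) := by
        show g (GLin.orbitHom k A x _) = _
        rw [ComodLib.orbitHom_of_invariant x (hinv r₀), AlgHom.commutes]
        rfl
      simp [μ, h1, h2]
  · let J : Ideal R := Ideal.span (Set.range fun r₀ : R₀ => algebraMap R₀ R r₀ - algebraMap k R (x (algebraMap R₀ R r₀)))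
    let q : R →ₐ[k] R ⧸ J := Ideal.Quotient.mkₐ k J
    let θ : R ⧸ J →ₐ[k] A := Ideal.Quotient.liftₐ J (GLin.orbitHom k A x) (fun a ha => by
      have : J ≤ RingHom.ker (GLin.orbitHom k A x) := Ideal.span_le.2 (by
        rintro _ ⟨r₀, rfl⟩
        simp [RingHom.mem_ker, ComodLib.orbitHom_of_invariant x (hinv r₀)])
      exact this ha)
    have hθ : θ.comp q = GLin.orbitHom k A x := Ideal.Quotient.liftₐ_comp _ _ _
    have hq : Function.Surjective (q.comp ι) := by
      intro c
      obtain ⟨r, rfl⟩ := Ideal.Quotient.mkₐ_surjective k J c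
      obtain ⟨z, rfl⟩ := hgen r
      show ∃ a, q (ι a) = q (μ z)
      induction z using TensorProduct.induction_on with
      | zero => exact ⟨0, by simp⟩
      | add a b ha hb =>
        obtain ⟨u, hu⟩ := ha; obtain ⟨v, hv⟩ := hb
        exact ⟨u + v, by simp only [map_add, hu, hv]⟩
      | tmul s r₀ =>
        refine ⟨x (algebraMap R₀ R r₀) • s, ?_⟩
        have h0 : q (algebraMap R₀ R r₀) = algebraMap k (R ⧸ J) (x (algebraMap R₀ R r₀)) := by
          rw [← q.commutes]
          exact Ideal.Quotient.eq.2 (Ideal.subset_span ⟨r₀, rfl⟩)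
        simp only [μ, Algebra.TensorProduct.productMap_apply_tmul, map_mul, map_smul]
        show _ = q (algebraMap S R s) * q (algebraMap R₀ R r₀)
        rw [h0, Algebra.smul_def, mul_comm]
        rfl
    have hxq : GLin.IsClosedOrbit k A x ↔ IsClosed (Set.range (PrimeSpectrum.comap θ.toRingHom)) := by
      rw [GLin.IsClosedOrbit, ← hθ,
        (PrimeSpectrum.isClosedEmbedding_comap_of_surjective _ q.toRingHom (Ideal.Quotient.mkₐ_surjective k J)).isClosed_iff_image_isClosed,
        ← Set.range_comp]
      rfl
    have hyq : GLin.IsClosedOrbit k A y ↔ IsClosed (Set.range (PrimeSpectrum.comap θ.toRingHom)) := by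
      rw [GLin.IsClosedOrbit, ← horb, ← hθ, AlgHom.comp_assoc,
        (PrimeSpectrum.isClosedEmbedding_comap_of_surjective _ (q.comp ι).toRingHom hq).isClosed_iff_image_isClosed,
        ← Set.range_comp]
      rfl
    exact hxq.trans hyq.symm

end Groth.Agent.S19412
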