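import Groth.Statements.S19419
import Groth.Agent.H23.GysinPb
import Groth.Agent.DimFormula.FlatFibres
import Groth.Agent.FibDim.AffineSpaceFibre
import Groth.Agent.FibDim.Minimal

set_option linter.style.haveILetI false
set_option backward.isDefEq.respectTransparency false
set_option backward.isDefEq.respectTransparency.types false
set_option maxHeartbeats 400000


set_option autoImplicit false
universe u
open CategoryTheory CategoryTheory.Limits AlgebraicGeometry
open Cyc

attribute [-instance] CategoryTheory.catToReflQuiver

namespace Groth.Agent.S19419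

/-- Let X be a smooth proper integral curve over an algebraically closed field k, with generic point η,
and ψ : X → X a flat endomorphism over k. Let Y = X ×_k X with its two projections, m = ψ × id : Y →
Y (first projection intertwines ψ, second projection unchanged), d : X → Y the diagonal and g = (id,
ψ) : X → Y the graph of ψ. For the dimension function δ on Y induced from weight 0 on Spec k, the
flat pull-back of cycles along m in relative dimension 0 takes the diagonal divisor [Δ], the cycle
equal to 1 at d(η) and 0 elsewhere, to the graph divisor [Γ_ψ], the cycle equal to 1 at g(η) and 0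
elsewhere: (ψ × id)^*[Δ] = [Γ_ψ]. The published statement allows any endomorphism ψ and reads the
pull-back on divisors; flatness of ψ is what the flat pull-back of cycles requires (the intended
case is the Frobenius endomorphism), and iterating gives [Γ_{ψ^n}] = ((ψ × id)^*)^n [Δ]. -/
theorem result (k : Type u) [Field k]
    [IsAlgClosed k] (X : Scheme.{u}) (f : X ⟶ Spec (CommRingCat.of k)) [Smooth f] [IsProper f]
    [IsIntegral X] (hdim : topologicalKrullDim ↥X = 1) (ψ : X ⟶ X) (hψ : ψ ≫ f = f) [Flat ψ]
    (m : pullback f f ⟶ pullback f f) (hm₁ : m ≫ pullback.fst f f = pullback.fst f f ≫ ψ)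
    (hm₂ : m ≫ pullback.snd f f = pullback.snd f f) (g : X ⟶ pullback f f)
    (hg₁ : g ≫ pullback.fst f f = 𝟙 X) (hg₂ : g ≫ pullback.snd f f = ψ)
    (δ : ↥(pullback f f) → ℤ) (hδ : Cyc.DeltaCompat (pullback.fst f f ≫ f) δ (fun _ => 0)) :
    Cyc.pullFun m δ δ 0
        (Set.indicator ({pullback.diagonal f (genericPoint ↥X)} : Set ↥(pullback f f)) (fun _ => (1 : ℤ))) =
      Set.indicator ({g (genericPoint ↥X)} : Set ↥(pullback f f)) (fun _ => (1 : ℤ)) := by
  classical
  haveI : LocallyOfFiniteType ψ := by
    haveI : LocallyOfFiniteType (ψ ≫ f) := by rw [hψ]; infer_instance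
    exact locallyOfFiniteType_of_comp ψ f
  haveI : IsLocallyNoetherian X := LocallyOfFiniteType.isLocallyNoetherian f
  haveI : IsClosedImmersion g := by
    haveI : IsClosedImmersion (g ≫ pullback.fst f f) := by rw [hg₁]; infer_instance
    exact IsClosedImmersion.of_comp g (pullback.fst f f)
  haveI : IsClosedImmersion (pullback.diagonal f) := inferInstance
  have hw : g ≫ m = ψ ≫ pullback.diagonal f := by
    refine pullback.hom_ext ?_ ?_
    · rw [Category.assoc, hm₁, ← Category.assoc, hg₁, Category.id_comp, Category.assoc,
        pullback.diagonal_fst, Category.comp_id]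
    · rw [Category.assoc, hm₂, hg₂, Category.assoc, pullback.diagonal_snd, Category.comp_id]
  have hpb : IsPullback g ψ m (pullback.diagonal f) := by
    refine IsPullback.of_isLimit' ⟨hw⟩ (PullbackCone.IsLimit.mk _ (fun s => s.fst ≫ pullback.fst f f)
      (fun s => ?_) (fun s => ?_) fun s l h1 h2 => ?_)
    · have h1 : s.fst ≫ pullback.fst f f ≫ ψ = s.snd := by
        have := congrArg (· ≫ pullback.fst f f) s.condition
        simpa [hm₁] using this
      have h2 : s.fst ≫ pullback.snd f f = s.snd := by
        have := congrArg (· ≫ pullback.snd f f) s.condition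
        simpa [hm₂] using this
      refine pullback.hom_ext ?_ ?_
      · rw [Category.assoc, hg₁, Category.comp_id]
      · rw [Category.assoc, hg₂, Category.assoc, h1, h2]
    · have h1 := congrArg (· ≫ pullback.fst f f) s.condition
      simpa [hm₁] using h1
    · rw [← h1, Category.assoc, hg₁, Category.comp_id]
  have hfld : ∀ {Z P : Scheme.{u}} (j : Z ⟶ P) (z : Z), IsClosedImmersion j → IsField (Z.presheaf.stalk z) →
      RingHom.ker (j.stalkMap z).hom = IsLocalRing.maximalIdeal (P.presheaf.stalk (j z)) := by
    intro Z P j z hj hz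
    letI := hz.toField
    exact IsLocalRing.eq_maximalIdeal (RingHom.ker_isMaximal_of_surjective _ (j.stalkMap_surjective z))
  have hK : IsField (X.presheaf.stalk (genericPoint X)) := Field.toIsField X.functionField
  have hψη : ψ (genericPoint X) = genericPoint X :=
    ((Groth.Agent.DimFormula.maximal_map ψ (η := genericPoint X) fun z hz =>
      (((genericPoint_spec X).specializes (Set.mem_univ z)).antisymm hz).eq.symm) _
        ((genericPoint_spec X).specializes (Set.mem_univ _))).symm
  have hrd : ∀ x, δ x = (Groth.Agent.FibDim.rd (pullback.fst f f ≫ f) x : ℤ) := by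
    intro x
    obtain ⟨n, hn, hx⟩ := hδ x
    have h := Groth.Agent.FibDim.rd_eq_rdeg (pullback.fst f f ≫ f) x
    rw [Groth.Agent.VarDim.rdeg, hn] at h
    have h' : Groth.Agent.FibDim.rd (pullback.fst f f ≫ f) x = n := by exact_mod_cast h
    rw [h', hx, zero_add]
  have hj : ∀ (j : X ⟶ pullback f f) (z : X), IsClosedImmersion j → j ≫ pullback.fst f f = 𝟙 X →
      δ (j z) = (Groth.Agent.FibDim.rd f z : ℤ) := by
    intro j z hj he
    have h := Groth.Agent.FibDim.rd_comp j (pullback.fst f f ≫ f) z
    rw [Groth.Agent.FibDim.rd_eq_zero_of_quasiFinite j, add_zero] at h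
    rw [hrd, ← h]
    simp only [← Category.assoc, he, Category.id_comp]
  have hgen : m (g (genericPoint X)) = pullback.diagonal f (genericPoint X) := by
    have h := congrArg (fun φ => φ (genericPoint X)) hw
    simp only [Scheme.Hom.comp_apply] at h
    rwa [hψη] at h
  funext x
  by_cases hmx : m x = pullback.diagonal f (genericPoint X)
  swap
  · rw [Set.indicator_of_notMem (s := {g (genericPoint X)}) (fun h => hmx (by
      rw [Set.mem_singleton_iff.1 h]; exact hgen))]
    simp only [Cyc.pullFun, Set.indicator_of_notMem (s := {pullback.diagonal f (genericPoint X)})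
      (a := m x) hmx, zero_mul, ite_self]
  obtain ⟨z, hzx, hzψ⟩ := Scheme.Pullback.exists_preimage_pullback (f := m) (g := pullback.diagonal f) x
    (genericPoint X) hmx
  obtain ⟨t, ht⟩ : ∃ t, hpb.isoPullback.hom t = z := ⟨hpb.isoPullback.inv z, by
    rw [← Scheme.Hom.comp_apply, Iso.inv_hom_id]; rfl⟩
  have htx : g t = x := by
    rw [← hpb.isoPullback_hom_fst, Scheme.Hom.comp_apply, ht, hzx]
  by_cases hxe : x = g (genericPoint X)
  swap
  · rw [Set.indicator_of_notMem (s := {g (genericPoint X)}) hxe]
    simp only [Cyc.pullFun]
    rw [if_neg]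
    intro hd
    rw [add_zero, hmx, hj _ _ inferInstance (pullback.diagonal_fst f), ← htx, hj g t inferInstance hg₁] at hd
    have hne : genericPoint X ≠ t := fun h => hxe (by rw [← htx, h])
    haveI : Subsingleton ↥(Spec (CommRingCat.of k)) := inferInstanceAs (Subsingleton (PrimeSpectrum k))
    have := Groth.Agent.FibDim.rd_lt f ((genericPoint_spec X).specializes (Set.mem_univ t)) hne
      (Subsingleton.elim _ _)
    omega
  subst hxe
  rw [Set.indicator_of_mem (Set.mem_singleton _)]
  simp only [Cyc.pullFun]
  rw [if_pos (by rw [add_zero, hgen, hj _ _ inferInstance (pullback.diagonal_fst f), hj g _ inferInstance hg₁]),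
    Set.indicator_of_mem (Set.mem_singleton_iff.2 hgen), one_mul]
  have hz0 : t = genericPoint X := g.isClosedEmbedding.injective htx
  have hsz : pullback.snd m (pullback.diagonal f) z = genericPoint X := hzψ
  have hKz : IsField ((pullback m (pullback.diagonal f)).presheaf.stalk z) := by
    subst ht
    subst hz0
    exact MulEquiv.isField hK (asIso (hpb.isoPullback.hom.stalkMap (genericPoint X))).commRingCatIsoToRingEquiv.toMulEquiv
  have h1 := hfld (pullback.fst m (pullback.diagonal f)) z inferInstance hKz
  have h2 := hfld (pullback.diagonal f) (pullback.snd m (pullback.diagonal f) z) inferInstance (by rw [hsz]; exact hK)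
  have h3 := Groth.Agent.H23.GysinPb.ker_stalkMap_fst m (pullback.diagonal f) z
  rw [h1, h2, Groth.Agent.H23.GysinPb.baseMap, CommRingCat.hom_comp, ← Ideal.map_map] at h3
  have h4 : ∀ (P : Scheme.{u}) (a b : P) (e : a = b),
      Ideal.map (P.presheaf.stalkSpecializes (specializes_of_eq e)).hom
        (IsLocalRing.maximalIdeal (P.presheaf.stalk b)) = IsLocalRing.maximalIdeal (P.presheaf.stalk a) := by
    intro P a b e
    subst e
    rw [TopCat.Presheaf.stalkSpecializes_refl]
    exact Ideal.map_id _
  rw [h4 (pullback f f) _ _ (Groth.Agent.H23.GysinPb.apply_fst_eq m (pullback.diagonal f) z)] at h3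
  have hx' : pullback.fst m (pullback.diagonal f) z = g (genericPoint X) := hzx
  clear hzx
  revert h3
  generalize pullback.fst m (pullback.diagonal f) z = y at hx'
  subst hx'
  intro h3
  rw [← h3]
  haveI : IsSimpleModule ((pullback f f).presheaf.stalk (g (genericPoint X)))
      ((pullback f f).presheaf.stalk (g (genericPoint X)) ⧸
        IsLocalRing.maximalIdeal ((pullback f f).presheaf.stalk (g (genericPoint X)))) :=
    isSimpleModule_iff_quot_maximal.2 ⟨_, inferInstance, ⟨LinearEquiv.refl _ _⟩⟩
  rw [Module.length_eq_one]
  rfl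
end Groth.Agent.S19419
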