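import Groth.Statements.S19430
import Groth.Agent.H6KB.Main

set_option linter.style.haveILetI false
set_option backward.isDefEq.respectTransparency false
set_option backward.isDefEq.respectTransparency.types false
open CategoryTheory CategoryTheory.Limits AlgebraicGeometry
open Groth.Agent Groth.Agent.H23.PicMul

set_option autoImplicit false
universe u
open SGA6

namespace Groth.Agent.S19430

open CategoryTheory CategoryTheory.Limits AlgebraicGeometry in
/-- For Grothendieck groups of vector bundles (the degree-zero case of the statement), let T be a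
quasi-compact scheme, E a finite locally free O_T-module of rank r, and (π : P ⟶ T, O(1), q) a
projective bundle P(E) of E, characterised by its universal property for invertible quotients of
pull-backs of E; let O(-1) be an inverse of the invertible module O(1). For each i < r let G_i be an
additive map from K₀ of the finite locally free O_T-modules to K₀ of the finite locally free
O_P-modules with G_i [N] = [O(-1)^{⊗ i} ⊗ π^* N] for every finite locally free N (the K₀(T)-module
structure of K₀(P) through π^* and the powers of t = [O(-1)]). Then (a_0, …, a_{r-1}) ↦ Σ_i G_i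
(a_i) is a bijection from K₀(T)^r onto K₀(P): K₀(P) is free over K₀(T) on 1, t, …, t^{r-1}. No
Noetherian or connectedness hypothesis on T. -/
theorem result (T P : Scheme.{u}) [CompactSpace T]
    (r : ℕ) (E : T.Modules) (hE : FlatMod.IsFinLocFreeOfRank r E)
    (π : P ⟶ T) (O1 : P.Modules) (q : (Scheme.Modules.pullback π).obj E ⟶ O1) (hPB : KRR.IsProjBundle π E O1 q)
    (Oinv : P.Modules) (hinv : ClSub.IsInverseOf Oinv O1)
    (G : Fin r → (SGA6.Kvb T →+ SGA6.Kvb P))
    (hG : ∀ (i : Fin r) (N : T.Modules), FlatMod.IsFinLocFree N →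
      G i (KRR.cl T N) = KRR.cl P (CohB1.tensorMod (CohB1.tensorPow Oinv (i : ℕ)) ((Scheme.Modules.pullback π).obj N))) :
    Function.Bijective (fun a : Fin r → SGA6.Kvb T => ∑ i : Fin r, G i (a i)) := by
  rcases r with _ | r
  · haveI := H6KB.isEmpty_of_rank_zero hPB hE
    exact ⟨fun a a' _ => funext fun i => i.elim0, fun z => ⟨0, (H6KB.eq_zero_of_isEmpty _).trans (H6KB.eq_zero_of_isEmpty z).symm⟩⟩
  obtain ⟨KX, _, φX, hX⟩ := KRRReg.exists_ringModel T
  obtain ⟨KP, _, φP, hP⟩ := KRRReg.exists_ringModel P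
  obtain ⟨g, hg⟩ := H6KB.exists_pullRingHom π hX hP
  have hL : PicF.IsInvertible O1 := BertiniSec.isInvertible_of_rank_one hPB.invertible
  have hcl1 : PicF.cl Oinv * PicF.cl O1 = 1 := cl_eq_iff.2 hinv
  have hI : PicF.IsInvertible Oinv := by
    obtain ⟨D, hD, hd⟩ := H23.PicInv.exists_inverse hL
    obtain ⟨e⟩ := cl_eq_iff.1 (left_inv_eq_right_inv hcl1 (cl_eq_iff.2 hd : PicF.cl O1 * PicF.cl D = 1)).symm
    exact H23.PicMul.isInvertible_of_iso e hD
  have hvL := H23.PullPush.isFinLocFree_of_isInvertible hL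
  have hvI := H23.PullPush.isFinLocFree_of_isInvertible hI
  have hw : φP (KRR.cl P Oinv) * φP (KRR.cl P O1) = 1 := by
    rw [hP.map_mul _ _ hvI hvL, ← hP.map_one]
    exact congrArg φP (KRRReg.cl_iso (cl_eq_iff.1 hcl1).some (KFlatLib.isFinLocFree_tensor hvI hvL))
  have hpow : ∀ k : ℕ, φP (KRR.cl P (CohB1.tensorPow Oinv k)) = φP (KRR.cl P Oinv) ^ k := fun k => by
    induction k with
    | zero => rw [pow_zero]; exact hP.map_one
    | succ k ih =>
      rw [pow_succ, ← ih, hP.map_mul _ _ (KRRReg.isFinLocFree_tensorPow hI k) hvI]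
      rfl
  have hbij := H6KB.bijective_invPowers hE hPB hX hP g hg hw
  have key : ∀ (i : Fin (r + 1)) (y : SGA6.Kvb T), φP (G i y) = g (φX y) * φP (KRR.cl P Oinv) ^ (i : ℕ) := fun i y => by
    refine DFunLike.congr_fun (KZ.K0sub_hom_ext (KRR.vbP T) (f := φP.comp (G i))
      (g := (AddMonoidHom.mulRight (φP (KRR.cl P Oinv) ^ (i : ℕ))).comp (g.toAddMonoidHom.comp φX)) fun N hN => ?_) y
    show φP (G i (KRR.cl T N)) = g.toAddMonoidHom (φX (KRR.cl T N)) * _
    rw [hG i N hN, hg N hN, ← hpow, mul_comm, hP.map_mul _ _ (KRRReg.isFinLocFree_tensorPow hI _) (KFlatLib.isFinLocFree_pullback π hN)]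
    rfl
  have h : (fun a : Fin (r + 1) → SGA6.Kvb T => φP (∑ i, G i (a i))) =
      (fun a : Fin (r + 1) → KX => ∑ i : Fin (r + 1), g (a i) * φP (KRR.cl P Oinv) ^ (i : ℕ)) ∘ fun a i => φX (a i) := by
    funext a
    simp [map_sum, key]
  refine (Function.Bijective.of_comp_iff' hP.bijective _).1 ?_
  show Function.Bijective fun a : Fin (r + 1) → SGA6.Kvb T => φP (∑ i, G i (a i))
  rw [h]
  exact hbij.comp (Function.Bijective.comp_left hX.bijective)

end Groth.Agent.S19430
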