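import Groth.Statements.S19438
import Mathlib.RingTheory.Ideal.Cotangent
import Mathlib.RingTheory.AdjoinRoot
import Mathlib.LinearAlgebra.Dimension.Finrank
import Mathlib.Algebra.Polynomial.Inductions

set_option autoImplicit false
universe u
open CAlg

namespace Groth.Agent.S19438

/-- First assertion: let A be a Noetherian local commutative algebra over a field k with maximal ideal
M, residue field k (the map from k to A/M is onto) and embedding dimension dim M/M^2 at least 2, and
let I be a proper ideal with A/I finite-dimensional over k. If A/I is generated as a k-algebra by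
one element, then some element of I does not lie in M^2; that is, the finite closed subscheme
defined by I lies on a smooth hypersurface germ (it is curvilinear). (The published statement is for
the local ring of a smooth surface at a closed point; only a Noetherian local algebra with residue
field k and embedding dimension at least 2 is assumed here, which is what the published argument
uses.) -/
theorem result (k : Type u) [Field k]
    (A : Type u) [CommRing A] [Algebra k A] [IsNoetherianRing A] [IsLocalRing A]
    (hres : Function.Surjective (algebraMap k (IsLocalRing.ResidueField A)))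
    (hemb : 2 ≤ Module.finrank (IsLocalRing.ResidueField A) (IsLocalRing.CotangentSpace A))
    (I : Ideal A) (hI : I ≠ ⊤) [Module.Finite k (A ⧸ I)]
    (f : A ⧸ I) (hf : Algebra.adjoin k {f} = ⊤) :
    ∃ g ∈ I, g ∉ IsLocalRing.maximalIdeal A ^ 2 := by
  by_contra! hc
  have hIm : I ≤ IsLocalRing.maximalIdeal A ^ 2 := fun g hg => hc g hg
  obtain ⟨f₀, rfl⟩ := Ideal.Quotient.mk_surjective f
  obtain ⟨c, hcf⟩ := hres (IsLocalRing.residue A f₀)
  set t := f₀ - algebraMap k A c with ht
  have htm : t ∈ IsLocalRing.maximalIdeal A := by
    rw [← IsLocalRing.residue_eq_zero_iff, map_sub, ← hcf, sub_eq_zero]; rfl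
  have hspan : ∀ x ∈ IsLocalRing.maximalIdeal A, ∃ r : A, x - r * t ∈ IsLocalRing.maximalIdeal A ^ 2 := by
    intro x hx
    have hxA : Ideal.Quotient.mk I x ∈ Algebra.adjoin k {Ideal.Quotient.mk I f₀} := hf ▸ Algebra.mem_top
    rw [Algebra.adjoin_singleton_eq_range_aeval] at hxA
    obtain ⟨P, hP⟩ := hxA
    let Q := P.comp (Polynomial.X + Polynomial.C c)
    have hQ : x - Polynomial.aeval t Q ∈ I := by
      rw [← Ideal.Quotient.eq, ← hP]
      show Polynomial.aeval (Ideal.Quotient.mk I f₀) P = Ideal.Quotient.mkₐ k I (Polynomial.aeval t Q)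
      rw [← Polynomial.aeval_algHom_apply, Polynomial.aeval_comp]
      simp [t, Ideal.Quotient.mk_algebraMap]
    have hQ0 : Polynomial.aeval t Q = algebraMap k A (Q.coeff 0) + Polynomial.aeval t Q.divX * t := by
      conv_lhs => rw [← Polynomial.divX_mul_X_add Q]
      rw [map_add, map_mul, Polynomial.aeval_X, Polynomial.aeval_C, add_comm]
    have h0 : Q.coeff 0 = 0 := by
      by_contra hne
      have hu : IsUnit (algebraMap k A (Q.coeff 0)) := (Ne.isUnit hne).map _
      refine (IsLocalRing.mem_maximalIdeal _).1 ?_ hu
      have : algebraMap k A (Q.coeff 0) = x - Polynomial.aeval t Q.divX * t - (x - Polynomial.aeval t Q) := by rw [hQ0]; ring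
      rw [this]
      exact sub_mem (sub_mem hx (Ideal.mul_mem_left _ _ htm)) (Ideal.pow_le_self two_ne_zero (hIm hQ))
    refine ⟨Polynomial.aeval t Q.divX, ?_⟩
    have : x - Polynomial.aeval t Q.divX * t = x - Polynomial.aeval t Q := by rw [hQ0, h0, map_zero, zero_add]
    rw [this]
    exact hIm hQ
  have hle : Module.finrank (IsLocalRing.ResidueField A) (IsLocalRing.CotangentSpace A) ≤ 1 := by
    refine finrank_le_one ((IsLocalRing.maximalIdeal A).toCotangent ⟨t, htm⟩) fun w => ?_
    obtain ⟨⟨x, hx⟩, rfl⟩ := (IsLocalRing.maximalIdeal A).toCotangent_surjective w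
    obtain ⟨r, hr⟩ := hspan x hx
    refine ⟨IsLocalRing.residue A r, ?_⟩
    change r • (IsLocalRing.maximalIdeal A).toCotangent ⟨t, htm⟩ = _
    rw [← map_smul, Ideal.toCotangent_eq]
    have := neg_mem hr
    simpa [smul_eq_mul] using this
  omega

end Groth.Agent.S19438
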