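import Groth.Statements.S19448
import Groth.Agent.TameFix.Basic

set_option autoImplicit false
universe u
open CAlg

namespace Groth.Agent.S19448

/-- Let k be a field, A a Noetherian local k-algebra with maximal ideal M and residue field k, and G a
finite group with |G| ≠ 0 in k acting on A by k-algebra automorphisms. An element of G which acts
trivially on M/M^2 acts trivially on A; in other words the stabilizer acts faithfully on the
cotangent space whenever it acts faithfully on the local ring. -/
theorem result (k : Type u) [Field k] (A : Type u) [CommRing A]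
    [Algebra k A] [IsLocalRing A] [IsNoetherianRing A]
    (hres : Function.Surjective (algebraMap k (IsLocalRing.ResidueField A)))
    (G : Type u) [Group G] [Finite G] [MulSemiringAction G A] [SMulCommClass G k A]
    (hG : (Nat.card G : k) ≠ 0) (g : G)
    (hg : ∀ a ∈ IsLocalRing.maximalIdeal A, g • a - a ∈ IsLocalRing.maximalIdeal A ^ 2) (a : A) :
    g • a = a := by
  open IsLocalRing in
  have hk : ∀ c : k, g • algebraMap k A c = algebraMap k A c := fun c => by
    rw [Algebra.algebraMap_eq_smul_one, smul_comm, smul_one]
  have h0 : ∀ b : A, g • b - b ∈ maximalIdeal A := by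
    intro b
    obtain ⟨c, hc⟩ := hres (residue A b)
    have hb : b - algebraMap k A c ∈ maximalIdeal A := by
      rw [← residue_eq_zero_iff, map_sub, sub_eq_zero, ← hc]
      rfl
    have := sub_mem (TameFix.smul_mem_maximalIdeal g hb) hb
    rwa [smul_sub, hk, sub_sub_sub_cancel_right] at this
  refine TameFix.smul_eq_self g h0 hg ?_ a
  have hN : ((orderOf g : ℕ) : k) ≠ 0 := fun h => by
    obtain ⟨d, hd⟩ := orderOf_dvd_natCard g
    exact hG (by rw [hd, Nat.cast_mul, h, zero_mul])
  rw [← map_natCast (algebraMap k A)]
  exact (isUnit_iff_ne_zero.2 hN).map _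

end Groth.Agent.S19448
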