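import Groth.Statements.S19449
-- import your own Groth.Agent.* helpers here

set_option autoImplicit false
universe u
open SymRep

namespace Groth.Agent.S19449

/-- The exponent vector of a tuple of pairs. -/
noncomputable def expo {n : ℕ} (p : Fin n → ℕ × ℕ) : Fin n × Fin 2 →₀ ℕ :=
  Finsupp.equivFunOnFinite.symm fun v => if v.2 = 0 then (p v.1).1 else (p v.1).2

theorem expo_zero {n : ℕ} (p : Fin n → ℕ × ℕ) (j : Fin n) : expo p (j, 0) = (p j).1 := by simp [expo]

theorem expo_one {n : ℕ} (p : Fin n → ℕ × ℕ) (j : Fin n) : expo p (j, 1) = (p j).2 := by simp [expo]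

theorem expo_self {n : ℕ} (e : Fin n × Fin 2 →₀ ℕ) : expo (fun j => (e (j, 0), e (j, 1))) = e := by
  ext ⟨j, b⟩
  fin_cases b <;> simp [expo]

theorem monomial_expo {k : Type u} [CommSemiring k] {n : ℕ} (p : Fin n → ℕ × ℕ) :
    MvPolynomial.monomial (expo p) (1 : k) =
      ∏ j : Fin n, (MvPolynomial.X (j, 0) : MvPolynomial (Fin n × Fin 2) k) ^ (p j).1 * MvPolynomial.X (j, 1) ^ (p j).2 := by
  rw [MvPolynomial.monomial_eq, map_one, one_mul, Finsupp.prod_fintype _ _ fun _ => pow_zero _, Fintype.prod_prod_type]
  refine Finset.prod_congr rfl fun j _ => ?_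
  rw [Fin.prod_univ_two, expo_zero, expo_one]

/-- Over a field k of characteristic zero, let the symmetric group S_n act on the polynomial ring in the
2n variables x_i, y_i (i < n; the variable (i, 0) is x_i and (i, 1) is y_i) by permuting the index
i, and for an n-tuple p of pairs (p_j, q_j) of exponents let Δ_p be the determinant det(x_i^{p_j}
y_i^{q_j}). A polynomial is alternating — each permutation acts on it by its sign — exactly when it
is a k-linear combination of the Δ_p; and the Δ_p for p strictly increasing in the lexicographic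
order on pairs (one for each n-element set of exponent pairs) are linearly independent. Hence these
Δ_p form a basis of the space of alternating polynomials. -/
theorem result (k : Type u) [Field k] [CharZero k] (n : ℕ) :
    (∀ f : MvPolynomial (Fin n × Fin 2) k,
      (∀ σ : Equiv.Perm (Fin n),
          MvPolynomial.rename (fun v : Fin n × Fin 2 => (σ v.1, v.2)) f = ((Equiv.Perm.sign σ : ℤˣ) : ℤ) • f) ↔
        f ∈ Submodule.span k (Set.range fun p : Fin n → ℕ × ℕ =>
          (Matrix.of fun i j : Fin n =>
            (MvPolynomial.X (i, 0) : MvPolynomial (Fin n × Fin 2) k) ^ (p j).1 * MvPolynomial.X (i, 1) ^ (p j).2).det)) ∧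
    LinearIndependent k (fun p : {p : Fin n → ℕ ×ₗ ℕ // StrictMono p} =>
      (Matrix.of fun i j : Fin n =>
        (MvPolynomial.X (i, 0) : MvPolynomial (Fin n × Fin 2) k) ^ (ofLex (p.1 j)).1 *
          MvPolynomial.X (i, 1) ^ (ofLex (p.1 j)).2).det) := by
  classical
  have hdet : ∀ p : Fin n → ℕ × ℕ, (Matrix.of fun i j : Fin n =>
      (MvPolynomial.X (i, 0) : MvPolynomial (Fin n × Fin 2) k) ^ (p j).1 * MvPolynomial.X (i, 1) ^ (p j).2).det =
      ∑ σ : Equiv.Perm (Fin n), ((Equiv.Perm.sign σ : ℤˣ) : ℤ) •
        MvPolynomial.rename (fun v : Fin n × Fin 2 => (σ v.1, v.2))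
          (MvPolynomial.monomial (expo p) (1 : k)) := by
    intro p
    rw [Matrix.det_apply]
    refine Finset.sum_congr rfl fun σ _ => ?_
    rw [monomial_expo, map_prod, Units.smul_def]
    simp
  refine ⟨fun f => ⟨fun hf => ?_, fun hf => ?_⟩, ?_⟩
  · have hsum : ∑ σ : Equiv.Perm (Fin n), ((Equiv.Perm.sign σ : ℤˣ) : ℤ) •
        MvPolynomial.rename (fun v : Fin n × Fin 2 => (σ v.1, v.2)) f = (Fintype.card (Equiv.Perm (Fin n))) • f := by
      rw [← Finset.card_univ, ← Finset.sum_const]
      refine Finset.sum_congr rfl fun σ _ => ?_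
      rw [hf, smul_smul, Int.units_coe_mul_self, one_smul]
    have hf' : f = ((Fintype.card (Equiv.Perm (Fin n)) : k))⁻¹ • ∑ σ : Equiv.Perm (Fin n), ((Equiv.Perm.sign σ : ℤˣ) : ℤ) •
        MvPolynomial.rename (fun v : Fin n × Fin 2 => (σ v.1, v.2)) f := by
      rw [hsum, ← Nat.cast_smul_eq_nsmul k, smul_smul, inv_mul_cancel₀ (Nat.cast_ne_zero.mpr Fintype.card_ne_zero), one_smul]
    rw [hf']
    refine Submodule.smul_mem _ _ ?_
    clear hf hsum hf'
    induction f using MvPolynomial.induction_on' with
    | add a b ha hb =>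
      simp only [map_add, smul_add, Finset.sum_add_distrib]
      exact add_mem ha hb
    | monomial e r =>
      have he : MvPolynomial.monomial e r = r • MvPolynomial.monomial (expo fun j => (e (j, 0), e (j, 1))) (1 : k) := by
        rw [expo_self, MvPolynomial.smul_monomial, smul_eq_mul, mul_one]
      simp only [he, map_smul, smul_comm _ r, ← Finset.smul_sum]
      refine Submodule.smul_mem _ _ ?_
      rw [← hdet]
      exact Submodule.subset_span ⟨_, rfl⟩
  · intro τ
    induction hf using Submodule.span_induction with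
    | mem x hx =>
      obtain ⟨p, rfl⟩ := hx
      simp only [AlgHom.map_det]
      rw [zsmul_eq_mul, ← Matrix.det_permute τ]
      congr 1
      ext i j
      simp
    | zero => simp
    | add a b _ _ ha hb => rw [map_add, ha, hb, smul_add]
    | smul c a _ ha => rw [map_smul, ha, smul_comm]
  · rw [linearIndependent_iff']
    intro S g hg p hp
    have h := congrArg (MvPolynomial.coeff (expo fun j => ofLex (p.1 j))) hg
    rw [MvPolynomial.coeff_sum, MvPolynomial.coeff_zero] at h
    have hone : ∀ q : {q : Fin n → ℕ ×ₗ ℕ // StrictMono q},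
        MvPolynomial.coeff (expo fun j => ofLex (p.1 j)) (Matrix.of fun i j : Fin n =>
          (MvPolynomial.X (i, 0) : MvPolynomial (Fin n × Fin 2) k) ^ (ofLex (q.1 j)).1 *
            MvPolynomial.X (i, 1) ^ (ofLex (q.1 j)).2).det = if q = p then 1 else 0 := by
      intro q
      rw [hdet fun j => ofLex (q.1 j), MvPolynomial.coeff_sum]
      have hterm : ∀ σ : Equiv.Perm (Fin n), MvPolynomial.coeff (expo fun j => ofLex (p.1 j))
          (((Equiv.Perm.sign σ : ℤˣ) : ℤ) • MvPolynomial.rename (fun v : Fin n × Fin 2 => (σ v.1, v.2))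
            (MvPolynomial.monomial (expo fun j => ofLex (q.1 j)) (1 : k))) =
          if σ = 1 ∧ q = p then 1 else 0 := by
        intro σ
        rw [MvPolynomial.coeff_smul, MvPolynomial.rename_monomial, MvPolynomial.coeff_monomial]
        by_cases hc : Finsupp.mapDomain (fun v : Fin n × Fin 2 => (σ v.1, v.2)) (expo fun j => ofLex (q.1 j)) =
            expo fun j => ofLex (p.1 j)
        · have hinj : Function.Injective fun v : Fin n × Fin 2 => (σ v.1, v.2) := fun a b hab => by
            simp only [Prod.mk.injEq, EmbeddingLike.apply_eq_iff_eq] at hab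
            exact Prod.ext hab.1 hab.2
          have hpq : ∀ j, p.1 (σ j) = q.1 j := fun j => by
            apply ofLex.injective
            have h0 := DFunLike.congr_fun hc (σ j, 0)
            have h1 := DFunLike.congr_fun hc (σ j, 1)
            rw [show (σ j, (0 : Fin 2)) = (fun v : Fin n × Fin 2 => (σ v.1, v.2)) (j, 0) from rfl,
              Finsupp.mapDomain_apply hinj] at h0
            rw [show (σ j, (1 : Fin 2)) = (fun v : Fin n × Fin 2 => (σ v.1, v.2)) (j, 1) from rfl,
              Finsupp.mapDomain_apply hinj] at h1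
            simp only [expo_zero, expo_one] at h0 h1
            exact Prod.ext h0.symm h1.symm
          have hrange : Set.range p.1 = Set.range q.1 := by
            rw [← show p.1 ∘ σ = q.1 from funext hpq, σ.surjective.range_comp]
          have hqp : q.1 = p.1 := (StrictMono.range_inj q.2 p.2).mp hrange.symm
          have hσ : σ = 1 := Equiv.ext fun j => p.2.injective ((hpq j).trans (congrFun hqp j))
          rw [if_pos hc, if_pos ⟨hσ, Subtype.ext hqp⟩, hσ]
          simp
        · rw [if_neg hc, smul_zero, if_neg]
          rintro ⟨rfl, rfl⟩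
          refine hc ?_
          rw [show (fun v : Fin n × Fin 2 => ((1 : Equiv.Perm (Fin n)) v.1, v.2)) = id from rfl, Finsupp.mapDomain_id]
      rw [Finset.sum_congr rfl fun σ _ => hterm σ]
      by_cases hq : q = p
      · simp [hq]
      · simp [hq]
    simp only [MvPolynomial.coeff_smul, hone, smul_eq_mul, mul_ite, mul_one, mul_zero, Finset.sum_ite_eq', if_pos hp] at h
    exact h

end Groth.Agent.S19449
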