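import Groth.Statements.S19453
import Mathlib

set_option autoImplicit false
universe u
open CAlg

namespace Groth.Agent.S19453

/-- Converse direction: let k be a field, A a regular local k-algebra of Krull dimension 2 with maximal
ideal M and residue field k, and I an ideal with A/I of finite dimension n ≥ 1 over k. If some
element of I does not lie in M^2, then A/I is isomorphic as a k-algebra to k[x]/(x^n): a cluster
lying on a smooth curve germ of a smooth surface is curvilinear, with coordinate ring generated by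
one element. -/
theorem result (k : Type u) [Field k]
    (A : Type u) [CommRing A] [Algebra k A] [IsRegularLocalRing A] (hdim : ringKrullDim A = 2)
    (hres : Function.Surjective (algebraMap k (IsLocalRing.ResidueField A)))
    (I : Ideal A) [Module.Finite k (A ⧸ I)] (n : ℕ) (hn : Module.finrank k (A ⧸ I) = n) (h1 : 1 ≤ n)
    (g : A) (hgI : g ∈ I) (hg : g ∉ IsLocalRing.maximalIdeal A ^ 2) :
    Nonempty ((A ⧸ I) ≃ₐ[k] (Polynomial k ⧸ Ideal.span {(Polynomial.X : Polynomial k) ^ n})) := by
  classical
  have hsp : Submodule.spanFinrank (IsLocalRing.maximalIdeal A) = 2 := by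
    have := IsRegularLocalRing.spanFinrank_maximalIdeal (R := A)
    rw [hdim] at this
    exact_mod_cast this
  obtain ⟨a, b, -, hab⟩ := Set.ncard_eq_two.mp ((Submodule.FG.generators_ncard
    (IsNoetherian.noetherian (IsLocalRing.maximalIdeal A))).trans hsp)
  have hM : IsLocalRing.maximalIdeal A = Ideal.span {a, b} := by
    rw [← hab]; exact (Submodule.span_generators _).symm
  have hIM : I ≤ IsLocalRing.maximalIdeal A := IsLocalRing.le_maximalIdeal (fun h => by
    subst h
    haveI : Subsingleton (A ⧸ (⊤ : Ideal A)) := Submodule.Quotient.subsingleton_iff.mpr rfl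
    rw [Module.finrank_zero_of_subsingleton] at hn
    omega)
  obtain ⟨u, v, huv⟩ := Ideal.mem_span_pair.mp (hM ▸ hIM hgI)
  obtain ⟨t, ht⟩ : ∃ t, IsLocalRing.maximalIdeal A = Ideal.span {g, t} := by
    have key : ∀ (a b u v : A), IsLocalRing.maximalIdeal A = Ideal.span {a, b} → u * a + v * b = g → IsUnit u →
        IsLocalRing.maximalIdeal A = Ideal.span {g, b} := by
      intro a b u v hM huv hu
      obtain ⟨w, rfl⟩ := hu
      refine le_antisymm (hM.le.trans (Ideal.span_le.mpr ?_)) (Ideal.span_le.mpr ?_)
      · rintro z (rfl | rfl)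
        · refine Ideal.mem_span_pair.mpr ⟨↑w⁻¹, -(↑w⁻¹ * v), ?_⟩
          linear_combination (-(↑w⁻¹ : A)) * huv + z * w.inv_mul
        · exact Ideal.subset_span (by simp)
      · rintro z (rfl | rfl)
        · exact hIM hgI
        · rw [hM]; exact Ideal.subset_span (by simp)
    by_cases hu : IsUnit u
    · exact ⟨b, key a b u v hM huv hu⟩
    by_cases hv : IsUnit v
    · exact ⟨a, key b a v u (by rw [hM, Set.pair_comm]) (by rw [← huv]; ring) hv⟩
    refine absurd ?_ hg
    rw [← huv, pow_two]
    exact add_mem (Ideal.mul_mem_mul hu (by rw [hM]; exact Ideal.subset_span (by simp)))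
      (Ideal.mul_mem_mul hv (by rw [hM]; exact Ideal.subset_span (by simp)))
  let t' : A ⧸ I := Ideal.Quotient.mk I t
  let π : Polynomial k →ₐ[k] A ⧸ I := Polynomial.aeval t'
  haveI : Nontrivial (A ⧸ I) := Module.nontrivial_of_finrank_pos (R := k) (by omega)
  haveI : IsArtinianRing (A ⧸ I) := isArtinian_of_tower k inferInstance
  haveI : IsLocalRing (A ⧸ I) := IsLocalRing.of_surjective' _ Ideal.Quotient.mk_surjective
  obtain ⟨N, hN⟩ : IsNilpotent t' := by
    refine mem_nilradical.mp ?_
    rw [Ring.KrullDimLE.nilradical_eq_maximalIdeal]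
    refine (IsLocalRing.mem_maximalIdeal _).mpr fun h => ?_
    haveI := IsLocalHom.of_surjective (Ideal.Quotient.mk I) Ideal.Quotient.mk_surjective
    exact (IsLocalRing.mem_maximalIdeal t).mp (by rw [ht]; exact Ideal.subset_span (by simp)) (isUnit_of_map_unit (Ideal.Quotient.mk I) t h)
  have hstep : ∀ z : A ⧸ I, ∃ c : k, ∃ w, z = algebraMap k _ c + t' * w := by
    intro z
    obtain ⟨z, rfl⟩ := Ideal.Quotient.mk_surjective z
    obtain ⟨c, hc⟩ := hres (IsLocalRing.residue A z)
    have hm : z - algebraMap k A c ∈ Ideal.span {g, t} := by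
      rw [← ht, ← IsLocalRing.residue_eq_zero_iff, map_sub, sub_eq_zero]
      exact hc.symm
    obtain ⟨p, q, hpq⟩ := Ideal.mem_span_pair.mp hm
    refine ⟨c, Ideal.Quotient.mk I q, ?_⟩
    rw [← Ideal.Quotient.mk_algebraMap, ← map_mul, ← map_add, Ideal.Quotient.eq,
      show z - (algebraMap k A c + t * q) = p * g by linear_combination -hpq]
    exact I.mul_mem_left _ hgI
  have hsurj : Function.Surjective π := by
    have : ∀ (j : ℕ) (z : A ⧸ I), ∃ P : Polynomial k, ∃ w, z = π P + t' ^ j * w := by
      intro j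
      induction j with
      | zero => exact fun z => ⟨0, z, by simp⟩
      | succ j ih =>
        intro z
        obtain ⟨P, w, rfl⟩ := ih z
        obtain ⟨c, w', rfl⟩ := hstep w
        refine ⟨P + Polynomial.C c * Polynomial.X ^ j, w', ?_⟩
        simp only [π, map_add, map_mul, map_pow, Polynomial.aeval_C, Polynomial.aeval_X]
        ring
    intro z
    obtain ⟨P, w, rfl⟩ := this N z
    exact ⟨P, by rw [hN, zero_mul, add_zero]⟩
  obtain ⟨f, hf⟩ := (IsPrincipalIdealRing.principal (RingHom.ker π)).principal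
  rw [Ideal.submodule_span_eq] at hf
  have hdvd : f ∣ Polynomial.X ^ N := by
    rw [← Ideal.mem_span_singleton, ← hf, RingHom.mem_ker, map_pow]
    simpa [π] using hN
  obtain ⟨m, -, hm⟩ := (dvd_prime_pow Polynomial.prime_X N).mp hdvd
  rw [Ideal.span_singleton_eq_span_singleton.mpr hm] at hf
  let e : (Polynomial k ⧸ Ideal.span {(Polynomial.X : Polynomial k) ^ m}) ≃ₐ[k] A ⧸ I :=
    (Ideal.quotientEquivAlgOfEq k hf.symm).trans (Ideal.quotientKerAlgEquivOfSurjective hsurj)
  have hmn : m = n := by
    rw [← hn, ← e.toLinearEquiv.finrank_eq, finrank_quotient_span_eq_natDegree, Polynomial.natDegree_X_pow]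
  exact ⟨(hmn ▸ e).symm⟩

end Groth.Agent.S19453
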