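import Groth.Statements.S19460
import Groth.Agent.SmoothField.Dominant
-- import your own Groth.Agent.* helpers here

set_option autoImplicit false
universe u
open CategoryTheory CategoryTheory.Limits AlgebraicGeometry
open Variety

set_option backward.isDefEq.respectTransparency false
set_option backward.isDefEq.respectTransparency.types false

namespace Groth.Agent.S19460

/-- Let k be an algebraically closed field, X and Y smooth irreducible varieties over k (integral,
separated, of finite type and smooth over k) of dimensions dX and dY, and f : X → Y a k-morphism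
which is smooth in the sense that at every closed point x of X the tangent map T_x X → T_{f(x)} Y is
surjective, equivalently the cotangent map m_{f(x)}/m_{f(x)}² → m_x/m_x² of the local rings is
injective. Then f is dominant, dY ≤ dX, and for every closed point y of Y in the image of f the
scheme-theoretic fibre X_y is smooth over the residue field κ(y) (which is k) and each of its
irreducible components has dimension dX − dY. (The published statement is for varieties in the
classical sense, with the fibre carrying its reduced structure, and it also identifies the tangent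
space of the fibre at each point with the kernel of the tangent map; that identification is not part
of this row.) -/
theorem result (k : Type u) [Field k] [IsAlgClosed k]
    {X Y : Scheme.{u}} (qX : X ⟶ Spec (CommRingCat.of k)) (qY : Y ⟶ Spec (CommRingCat.of k))
    [AlgebraicGeometry.IsIntegral X] [IsSeparated qX] [LocallyOfFiniteType qX] [QuasiCompact qX] [Smooth qX]
    [AlgebraicGeometry.IsIntegral Y] [IsSeparated qY] [LocallyOfFiniteType qY] [QuasiCompact qY] [Smooth qY]
    (f : X ⟶ Y) (hf : f ≫ qY = qX) (dX dY : ℕ) (hX : topologicalKrullDim ↥X = dX)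
    (hY : topologicalKrullDim ↥Y = dY)
    (hT : ∀ x : X, IsClosed ({x} : Set ↥X) → Function.Injective (FixPt.cotangentMapAt f x (f.base x) rfl)) :
    DenseRange f.base ∧ dY ≤ dX ∧
      ∀ y : Y, IsClosed ({y} : Set ↥Y) → y ∈ Set.range f.base →
        Smooth (f.fiberToSpecResidueField y) ∧
          ∀ Z ∈ irreducibleComponents ↥(f.fiber y),
            topologicalKrullDim ↥Z = ((dX - dY : ℕ) : WithBot ℕ∞) := by
  haveI : IsLocallyNoetherian Y := LocallyOfFiniteType.isLocallyNoetherian qY
  haveI : IsLocallyNoetherian X := LocallyOfFiniteType.isLocallyNoetherian qX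
  haveI : LocallyOfFiniteType f := by
    have : LocallyOfFiniteType (f ≫ qY) := by rw [hf]; infer_instance
    exact locallyOfFiniteType_of_comp f qY
  haveI : LocallyOfFinitePresentation f := LocallyOfFinitePresentation.iff_locallyOfFiniteType.2 ‹_›
  haveI : QuasiSeparated f := inferInstance
  haveI : JacobsonSpace X := LocallyOfFiniteType.jacobsonSpace qX
  obtain ⟨x₀, -, hx₀⟩ := nonempty_inter_closedPoints (Set.univ_nonempty (α := ↥X)) isClosed_univ.isLocallyClosed
  have hle : dY ≤ dX := SmoothField.dim_le_of_injective qX qY f hf dX dY hX hY hx₀ (hT x₀ hx₀)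
  have hX' : topologicalKrullDim ↥X = ((dY + (dX - dY) : ℕ) : WithBot ℕ∞) := by
    rw [Nat.add_sub_cancel' hle]; exact hX
  haveI := SmoothField.smoothOfRelativeDimension_of_injective qX qY f hf (dX - dY) dY hY hX' hT
  haveI : Smooth f := SmoothOfRelativeDimension.smooth (dX - dY) f
  refine ⟨?_, hle, fun y _ _ => ?_⟩
  · exact f.isOpenMap.isOpen_range.dense ⟨f x₀, x₀, rfl⟩
  · refine ⟨MorphismProperty.pullback_snd _ _ ‹Smooth f›, fun Z hZ => ?_⟩
    obtain ⟨z, ⟨-, hz⟩, hd⟩ := (FibDim.fiber_component_dims f y).le ⟨Z, hZ, rfl⟩
    dsimp only at hd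
    haveI : SmoothOfRelativeDimension (dX - dY) ((⊤ : X.Opens).ι ≫ f) :=
      (MorphismProperty.cancel_left_of_respectsIso (@SmoothOfRelativeDimension (dX - dY)) X.topIso.hom f).2 ‹_›
    have hfib := Synt29.SmoothDim.fibreDimAt_eq_of_nhd f ⊤ (dX - dY) (Set.mem_univ z : z ∈ (⊤ : X.Opens))
    rw [FibDim.fibreDimAt_eq_rd f hz] at hfib
    exact hd.symm.trans hfib

end Groth.Agent.S19460
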