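import Groth.Statements.S19461
import Mathlib
-- import your own Groth.Agent.* helpers here

set_option autoImplicit false
universe u
open CAlg

namespace Groth.Agent.S19461

theorem flat_of_comp {A B C : Type u} [CommRing A] [CommRing B] [CommRing C] [Algebra A B] [Algebra B C] [Algebra A C]
    [IsScalarTower A B C] [Module.Flat A C] [Module.FaithfullyFlat B C] : Module.Flat A B := by
  rw [Module.Flat.iff_lTensor_preserves_injective_linearMap]
  intro N N' _ _ _ _ g hg
  let e : ∀ (P : Type u) [AddCommGroup P] [Module A P], TensorProduct B C (TensorProduct A B P) ≃ₗ[B] TensorProduct A C P :=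
    fun P _ _ => TensorProduct.AlgebraTensorModule.cancelBaseChange A B B C P
  have h : Function.Injective (g.lTensor C) := Module.Flat.lTensor_preserves_injective_linearMap g hg
  have hsq : ∀ z, g.lTensor C (e N z) = e N' ((g.baseChange B).lTensor C z) := by
    intro z
    induction z using TensorProduct.induction_on with
    | zero => simp
    | add a b ha hb => simp [ha, hb]
    | tmul c w =>
      induction w using TensorProduct.induction_on with
      | zero => simp
      | add a b ha hb => simp [TensorProduct.tmul_add, ha, hb]
      | tmul b n => simp [e]
  have : Function.Injective ((g.baseChange B).lTensor C) := fun a b hab =>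
    (e N).injective (h (by rw [hsq, hsq, hab]))
  exact (Module.FaithfullyFlat.lTensor_injective_iff_injective B C _).1 this

/-- The implication from isomorphic completions to flat and unramified. Let A → B be a local
homomorphism of Noetherian local rings and ψ a ring map from the completion of A at its maximal
ideal to that of B whose composite with A → A^ is A → B → B^. If ψ is bijective, then A → B is flat
and the maximal ideal of A generates the maximal ideal of B. (The published statement is the
implication, for a morphism of algebraic varieties over an algebraically closed field, from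
isomorphic induced maps of completed local rings at every point to flat and unramified; its proof is
this local-ring argument, valid for any Noetherian local rings. The converse implication is a
separate result.) -/
theorem result (A B : Type u) [CommRing A]
    [CommRing B] [IsLocalRing A] [IsLocalRing B] [IsNoetherianRing A] [IsNoetherianRing B]
    [Algebra A B] [IsLocalHom (algebraMap A B)]
    (ψ : AdicCompletion (IsLocalRing.maximalIdeal A) A →+* AdicCompletion (IsLocalRing.maximalIdeal B) B)
    (hψ : ψ.comp (algebraMap A (AdicCompletion (IsLocalRing.maximalIdeal A) A)) =
      (algebraMap B (AdicCompletion (IsLocalRing.maximalIdeal B) B)).comp (algebraMap A B))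
    (hbij : Function.Bijective ψ) :
    Module.Flat A B ∧
      Ideal.map (algebraMap A B) (IsLocalRing.maximalIdeal A) = IsLocalRing.maximalIdeal B := by
  let Ah := AdicCompletion (IsLocalRing.maximalIdeal A) A
  let Bh := AdicCompletion (IsLocalRing.maximalIdeal B) B
  let e : Ah ≃+* Bh := RingEquiv.ofBijective ψ hbij
  haveI : IsScalarTower A B Bh := IsScalarTower.of_algebraMap_eq fun _ => rfl
  haveI : Module.FaithfullyFlat B Bh := Module.FaithfullyFlat.of_flat_of_isLocalHom
  have hlin : ∀ a : A, e (algebraMap A Ah a) = algebraMap A Bh a := fun a => RingHom.congr_fun hψ a
  let el : Ah ≃ₗ[A] Bh :=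
    { e with
      map_smul' := fun a x => by
        show e (a • x) = a • e x
        rw [Algebra.smul_def, Algebra.smul_def, map_mul, hlin] }
  haveI : Module.Flat A Bh := Module.Flat.of_linearEquiv el.symm
  refine ⟨flat_of_comp (C := Bh), ?_⟩
  have h1 : Ideal.map e.toRingHom (IsLocalRing.maximalIdeal Ah) = IsLocalRing.maximalIdeal Bh :=
    IsLocalRing.eq_maximalIdeal (Ideal.map_isMaximal_of_equiv e (p := IsLocalRing.maximalIdeal Ah))
  rw [show IsLocalRing.maximalIdeal Ah = (IsLocalRing.maximalIdeal A).map (algebraMap A Ah) from
      AdicCompletion.maximalIdeal_eq_map,
    show IsLocalRing.maximalIdeal Bh = (IsLocalRing.maximalIdeal B).map (algebraMap B Bh) from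
      AdicCompletion.maximalIdeal_eq_map, Ideal.map_map,
    show e.toRingHom.comp (algebraMap A Ah) = (algebraMap B Bh).comp (algebraMap A B) from hψ, ← Ideal.map_map] at h1
  have h2 := congrArg (Ideal.comap (algebraMap B Bh)) h1
  rwa [Ideal.comap_map_eq_self_of_faithfullyFlat, Ideal.comap_map_eq_self_of_faithfullyFlat] at h2

end Groth.Agent.S19461
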