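import Groth.Statements.S19462
import Mathlib

set_option autoImplicit false
universe u
open GrNak

namespace Groth.Agent.S19462

section
variable {R : Type u} [CommRing R] {σ : Type u} [SetLike σ R] [AddSubmonoidClass σ R] (𝒜 : ℤ → σ) [GradedRing 𝒜]

def L (n : ℕ) : Ideal R := Ideal.span {x | ∃ j : ℤ, (n : ℤ) ≤ j ∧ x ∈ 𝒜 j}

theorem L_mul (n : ℕ) : L 𝒜 1 * L 𝒜 n ≤ L 𝒜 (n + 1) := by
  rw [L, L, Ideal.span_mul_span', Ideal.span_le]
  rintro _ ⟨x, ⟨a, ha, hx⟩, y, ⟨b, hb, hy⟩, rfl⟩
  exact Ideal.subset_span ⟨a + b, by push_cast at *; omega, SetLike.GradedMul.mul_mem hx hy⟩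

theorem pow_le_L : ∀ n, L 𝒜 1 ^ n ≤ L 𝒜 n := by
  intro n
  induction n with
  | zero =>
    have : L 𝒜 0 = ⊤ := (Ideal.eq_top_iff_one _).2 (Ideal.subset_span ⟨0, le_refl _, SetLike.GradedOne.one_mem⟩)
    rw [this]; exact le_top
  | succ n ih =>
    rw [pow_succ']
    exact (Ideal.mul_mono le_rfl ih).trans (L_mul 𝒜 n)

variable (hneg : ∀ i : ℤ, i < 0 → ∀ x ∈ 𝒜 i, x = 0)
include hneg

theorem proj_L {n : ℕ} {x : R} (hx : x ∈ L 𝒜 n) : ∀ j : ℤ, j < n → (DirectSum.decompose 𝒜 x j : R) = 0 := by
  classical
  induction hx using Submodule.span_induction with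
  | mem y hy =>
    intro j hj
    obtain ⟨a, ha, hy⟩ := hy
    exact DirectSum.decompose_of_mem_ne 𝒜 hy (by omega)
  | zero => intro j _; simp
  | add a b _ _ ha hb =>
    intro j hj
    rw [DirectSum.decompose_add, DirectSum.add_apply, AddMemClass.coe_add, ha j hj, hb j hj, add_zero]
  | smul r a _ ha =>
    intro j hj
    rw [smul_eq_mul, ← DirectSum.sum_support_decompose 𝒜 r, Finset.sum_mul, DirectSum.decompose_sum,
      DFinsupp.finsetSum_apply, AddSubmonoidClass.coe_finsetSum]
    refine Finset.sum_eq_zero fun i _ => ?_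
    rw [← DirectSum.sum_support_decompose 𝒜 a, Finset.mul_sum, DirectSum.decompose_sum,
      DFinsupp.finsetSum_apply, AddSubmonoidClass.coe_finsetSum]
    refine Finset.sum_eq_zero fun l _ => ?_
    by_cases h : i + l = j
    · by_cases hi : i < 0
      · rw [hneg i hi _ (SetLike.coe_mem _), zero_mul]; simp
      · rw [ha l (by omega), mul_zero]; simp
    · exact DirectSum.decompose_of_mem_ne 𝒜 (SetLike.GradedMul.mul_mem (SetLike.coe_mem _) (SetLike.coe_mem _)) h

theorem sub_proj_mem (r : R) : r - (DirectSum.decompose 𝒜 r 0 : R) ∈ L 𝒜 1 := by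
  classical
  conv => arg 2; arg 1; rw [← DirectSum.sum_support_decompose 𝒜 r]
  by_cases h0 : (0 : ℤ) ∈ DFinsupp.support (DirectSum.decompose 𝒜 r)
  · rw [← Finset.sum_erase_add _ _ h0, add_sub_cancel_right]
    refine Ideal.sum_mem _ fun i hi => ?_
    rcases lt_trichotomy i 0 with h | h | h
    · rw [hneg i h _ (SetLike.coe_mem _)]; exact zero_mem _
    · exact absurd h (Finset.ne_of_mem_erase hi)
    · exact Ideal.subset_span ⟨i, by push_cast; omega, SetLike.coe_mem _⟩
  · rw [DFinsupp.notMem_support_iff.1 h0, ZeroMemClass.coe_zero, sub_zero]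
    refine Ideal.sum_mem _ fun i hi => ?_
    rcases lt_trichotomy i 0 with h | h | h
    · rw [hneg i h _ (SetLike.coe_mem _)]; exact zero_mem _
    · exact absurd (h ▸ hi) h0
    · exact Ideal.subset_span ⟨i, by push_cast; omega, SetLike.coe_mem _⟩

end

/-- Let k be a field and R a commutative ℤ-graded k-algebra whose pieces of negative degree vanish and
whose degree-zero piece is the image of k, and let M be a finitely generated ℤ-graded R-module,
graded compatibly with R. Then M is a projective R-module if and only if M has an R-basis consisting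
of homogeneous elements, i.e. M is a free graded module. (The published statement takes R a graded
quotient of a polynomial ring k[x_0, …, x_n] with its standard grading; stated here for any
commutative graded k-algebra concentrated in non-negative degrees with degree-zero part k, to which
the same graded-Nakayama argument applies.) -/
theorem result {k : Type u} [Field k] {R : Type u} [CommRing R] [Algebra k R]
    {σ : Type u} [SetLike σ R] [AddSubmonoidClass σ R] (𝒜 : ℤ → σ) [GradedRing 𝒜]
    (hneg : ∀ i : ℤ, i < 0 → ∀ x ∈ 𝒜 i, x = 0)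
    (hk : ∀ c : k, algebraMap k R c ∈ 𝒜 0) (h0 : ∀ x ∈ 𝒜 0, ∃ c : k, algebraMap k R c = x)
    {M : Type u} [AddCommGroup M] [Module R M] [Module.Finite R M]
    {τ : Type u} [SetLike τ M] [AddSubmonoidClass τ M] (ℳ : ℤ → τ) [DirectSum.Decomposition ℳ]
    [SetLike.GradedSMul 𝒜 ℳ] :
    Module.Projective R M ↔
      ∃ (ι : Type u) (b : Module.Basis ι R M), ∀ i : ι, SetLike.IsHomogeneousElem ℳ (b i) := by
  classical
  constructor
  swap
  · rintro ⟨ι, b, -⟩
    haveI := Module.Free.of_basis b
    infer_instance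
  intro hproj
  letI : Module k M := Module.compHom M (algebraMap k R)
  haveI : IsScalarTower k R M :=
    ⟨fun c r z => by rw [Algebra.smul_def, mul_smul]; rfl⟩
  let m : Ideal R := L 𝒜 1
  let N : Submodule R M := m • ⊤
  have hsm : ∀ (r : R) (v : M ⧸ N), ∃ c : k, r • v = c • v := by
    intro r v
    obtain ⟨c, hc⟩ := h0 _ (SetLike.coe_mem (DirectSum.decompose 𝒜 r 0))
    refine ⟨c, ?_⟩
    obtain ⟨z, rfl⟩ := Submodule.Quotient.mk_surjective N v
    rw [← algebraMap_smul R c, hc, ← sub_eq_zero, ← sub_smul, ← Submodule.Quotient.mk_smul, Submodule.Quotient.mk_eq_zero]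
    exact Submodule.smul_mem_smul (sub_proj_mem 𝒜 hneg r) trivial
  have hspan : ∀ T : Set (M ⧸ N), Submodule.span R T = ⊤ → Submodule.span k T = ⊤ := by
    intro T hT
    rw [eq_top_iff]
    rintro v -
    have hv : v ∈ Submodule.span R T := hT ▸ Submodule.mem_top
    induction hv using Submodule.span_induction with
    | mem y hy => exact Submodule.subset_span hy
    | zero => exact zero_mem _
    | add a b _ _ ha hb => exact add_mem ha hb
    | smul r a _ ha =>
      obtain ⟨c, hc⟩ := hsm r a
      rw [hc]; exact Submodule.smul_mem _ c ha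
  haveI : Module.Finite k (M ⧸ N) := by
    obtain ⟨T, hT⟩ := (Module.Finite.fg_top : (⊤ : Submodule R (M ⧸ N)).FG)
    exact ⟨⟨T, hspan _ hT⟩⟩
  let H : Set (M ⧸ N) := {v | ∃ j, ∃ z ∈ ℳ j, N.mkQ z = v}
  obtain ⟨S, hSH, hSspan, hSli⟩ := exists_linearIndependent k H
  have hHspan : Submodule.span k H = ⊤ := by
    rw [eq_top_iff]
    rintro v -
    obtain ⟨z, rfl⟩ := Submodule.Quotient.mk_surjective N v
    rw [← DirectSum.sum_support_decompose ℳ z, ← Submodule.mkQ_apply, map_sum]
    exact Submodule.sum_mem _ fun j _ => Submodule.subset_span ⟨j, _, SetLike.coe_mem _, rfl⟩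
  choose deg x hx hxv using fun i : S => hSH i.2
  haveI : Finite S := hSli.finite
  haveI := Fintype.ofFinite S
  -- generation
  obtain ⟨T, hT⟩ := (Module.Finite.fg_top : (⊤ : Submodule R M).FG)
  let P : Submodule R M := Submodule.span R (Set.range x)
  have hPN : P ⊔ N = ⊤ := by
    rw [eq_top_iff]
    rintro z -
    have hv : N.mkQ z ∈ Submodule.span k S := hSspan.symm ▸ hHspan.symm ▸ Submodule.mem_top
    have hle : Submodule.span k S ≤ ((P.map N.mkQ).restrictScalars k) :=
      Submodule.span_le.2 fun v hv => ⟨x ⟨v, hv⟩, Submodule.subset_span ⟨_, rfl⟩, hxv _⟩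
    obtain ⟨p, hp, hpz⟩ := hle hv
    have : z - p ∈ N := (Submodule.Quotient.eq N).1 hpz.symm
    rw [← add_sub_cancel p z]
    exact Submodule.add_mem_sup hp this
  -- components of a product
  have hcomp : ∀ (j : ℤ) (r : R) (z : M) (Q : Submodule R M),
      (∀ a b : ℤ, a + b = j → (DirectSum.decompose 𝒜 r a : R) • (DirectSum.decompose ℳ z b : M) ∈ Q) →
      (DirectSum.decompose ℳ (r • z) j : M) ∈ Q := by
    intro j r z Q hQ
    conv => arg 2; rw [← DirectSum.sum_support_decompose 𝒜 r, Finset.sum_smul, DirectSum.decompose_sum,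
      DFinsupp.finsetSum_apply, AddSubmonoidClass.coe_finsetSum]
    refine Submodule.sum_mem _ fun a _ => ?_
    conv => arg 2; rw [← DirectSum.sum_support_decompose ℳ z, Finset.smul_sum, DirectSum.decompose_sum,
      DFinsupp.finsetSum_apply, AddSubmonoidClass.coe_finsetSum]
    refine Submodule.sum_mem _ fun b _ => ?_
    have hm := SetLike.GradedSMul.smul_mem (SetLike.coe_mem (DirectSum.decompose 𝒜 r a)) (SetLike.coe_mem (DirectSum.decompose ℳ z b))
    rw [vadd_eq_add] at hm
    by_cases h : a + b = j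
    · subst h
      rw [DirectSum.decompose_of_mem_same ℳ hm]
      exact hQ a b rfl
    · rw [DirectSum.decompose_of_mem_ne ℳ hm h]
      exact zero_mem _
  obtain ⟨lo, hlo⟩ : ∃ lo : ℤ, ∀ t ∈ T, ∀ b, b < lo → (DirectSum.decompose ℳ t b : M) = 0 := by
    let U : Finset ℤ := T.biUnion fun t => DFinsupp.support (DirectSum.decompose ℳ t)
    obtain ⟨lo, hlo⟩ := U.bddBelow
    refine ⟨lo, fun t ht b hb => ?_⟩
    by_contra hne
    have : b ∈ U := Finset.mem_biUnion.2 ⟨t, ht, DFinsupp.mem_support_iff.2 fun h => hne (by rw [h]; rfl)⟩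
    exact absurd (hlo (Finset.mem_coe.2 this)) (not_le.2 hb)
  have hlow : ∀ j, j < lo → ∀ z : M, (DirectSum.decompose ℳ z j : M) = 0 := by
    intro j hj z
    have hz : z ∈ Submodule.span R (T : Set M) := hT ▸ Submodule.mem_top
    obtain ⟨c, -, rfl⟩ := Submodule.mem_span_finset.1 hz
    rw [DirectSum.decompose_sum, DFinsupp.finsetSum_apply, AddSubmonoidClass.coe_finsetSum]
    refine Finset.sum_eq_zero fun t ht => (Submodule.mem_bot R).1 (hcomp j (c t) t ⊥ fun a b hab => ?_)
    by_cases ha : a < 0
    · rw [hneg a ha _ (SetLike.coe_mem _), zero_smul]; exact zero_mem _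
    · rw [hlo t ht b (by omega), smul_zero]; exact zero_mem _
  have hgen : ∀ (n : ℕ) (z : M), ∀ j, j < lo + n → (DirectSum.decompose ℳ z j : M) ∈ P := by
    intro n
    induction n with
    | zero => intro z j hj; rw [hlow j (by simpa using hj) z]; exact zero_mem _
    | succ n ih =>
      intro z j hj
      have hz : z ∈ P ⊔ N := hPN ▸ Submodule.mem_top
      obtain ⟨p, hp, q, hq, rfl⟩ := Submodule.mem_sup.1 hz
      rw [DirectSum.decompose_add, DirectSum.add_apply, AddMemClass.coe_add]
      refine add_mem ?_ ?_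
      · obtain ⟨c, rfl⟩ := (Submodule.mem_span_range_iff_exists_fun R).1 hp
        rw [DirectSum.decompose_sum, DFinsupp.finsetSum_apply, AddSubmonoidClass.coe_finsetSum]
        refine Submodule.sum_mem _ fun i _ => hcomp j (c i) (x i) P fun a b _ => ?_
        by_cases hb : deg i = b
        · subst hb
          rw [DirectSum.decompose_of_mem_same ℳ (hx i)]
          exact P.smul_mem _ (Submodule.subset_span ⟨i, rfl⟩)
        · rw [DirectSum.decompose_of_mem_ne ℳ (hx i) hb, smul_zero]; exact zero_mem _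
      · clear hz
        induction hq using Submodule.smul_induction_on' with
        | smul r hr w _ =>
          refine hcomp j r w P fun a b hab => ?_
          by_cases ha : a < 1
          · rw [proj_L 𝒜 hneg hr a (by push_cast; exact ha), zero_smul]; exact zero_mem _
          · exact P.smul_mem _ (ih w b (by push_cast at hj; omega))
        | add u _ w _ hu hw =>
          rw [DirectSum.decompose_add, DirectSum.add_apply, AddMemClass.coe_add]; exact add_mem hu hw
  have hPtop : P = ⊤ := by
    rw [eq_top_iff]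
    rintro z -
    rw [← DirectSum.sum_support_decompose ℳ z]
    exact Submodule.sum_mem _ fun j _ => hgen (j + 1 - lo).toNat z j (by omega)
  -- freeness
  let π : (S →₀ R) →ₗ[R] M := Finsupp.linearCombination R x
  have hπ : Function.Surjective π := by
    rw [← LinearMap.range_eq_top, Finsupp.range_linearCombination]; exact hPtop
  obtain ⟨s, hs⟩ := Module.projective_lifting_property π LinearMap.id hπ
  let K := LinearMap.ker π
  let p : (S →₀ R) →ₗ[R] (S →₀ R) := LinearMap.id - s ∘ₗ π
  have hpK : LinearMap.range p ≤ K := by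
    rintro _ ⟨c, rfl⟩
    rw [LinearMap.mem_ker]
    simp only [p, LinearMap.sub_apply, LinearMap.id_apply, LinearMap.comp_apply, map_sub]
    rw [← LinearMap.comp_apply π s, hs, LinearMap.id_apply, sub_self]
  have hKm : K ≤ m • K := by
    intro c hc
    have hc0 : c ∈ m • (⊤ : Submodule R (S →₀ R)) := by
      have h1 : ∀ i, c i ∈ m := by
        choose e he using fun i : S => h0 _ (SetLike.coe_mem (DirectSum.decompose 𝒜 (c i) 0))
        have h2 : ∑ i : S, e i • (i : M ⧸ N) = 0 := by
          have h3 : π c = 0 := hc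
          rw [Finsupp.linearCombination_apply, Finsupp.sum_fintype _ _ (by simp)] at h3
          have h4 := congrArg N.mkQ h3
          rw [map_sum, map_zero] at h4
          refine Eq.trans (Finset.sum_congr rfl fun i _ => ?_) h4
          rw [map_smul, ← hxv i, ← algebraMap_smul R (e i), he i, ← sub_eq_zero, ← sub_smul, ← map_smul,
            Submodule.mkQ_apply, Submodule.Quotient.mk_eq_zero, ← neg_sub, neg_smul]
          exact neg_mem (Submodule.smul_mem_smul (sub_proj_mem 𝒜 hneg (c i)) trivial)
        intro i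
        have h5 : (DirectSum.decompose 𝒜 (c i) 0 : R) = 0 := by
          rw [← he i, (Fintype.linearIndependent_iff.1 hSli) e h2 i, map_zero]
        have := sub_proj_mem 𝒜 hneg (c i)
        rwa [h5, sub_zero] at this
      rw [← Finsupp.sum_single c]
      refine Submodule.sum_mem _ fun i _ => ?_
      rw [show Finsupp.single i (c i) = c i • Finsupp.single i (1 : R) by rw [Finsupp.smul_single, smul_eq_mul, mul_one]]
      exact Submodule.smul_mem_smul (h1 i) trivial
    have hpc : p c = c := by simp [p, show π c = 0 from hc]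
    rw [← hpc]
    have h6 : p c ∈ (m • (⊤ : Submodule R (S →₀ R))).map p := ⟨c, hc0, rfl⟩
    rw [Submodule.map_smul'', Submodule.map_top] at h6
    exact Submodule.smul_mono le_rfl hpK h6
  have hpow : ∀ n : ℕ, K ≤ (m ^ n) • K := by
    intro n
    induction n with
    | zero => simp
    | succ n ih =>
      refine ih.trans ?_
      rw [pow_succ, Submodule.mul_smul]
      exact Submodule.smul_mono le_rfl hKm
  have hK0 : K = ⊥ := by
    rw [eq_bot_iff]
    intro c hc
    rw [Submodule.mem_bot]
    ext i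
    rw [Finsupp.zero_apply, ← DirectSum.sum_support_decompose 𝒜 (c i)]
    refine Finset.sum_eq_zero fun j _ => ?_
    have h1 : c ∈ (m ^ (j + 1).toNat) • (⊤ : Submodule R (S →₀ R)) := Submodule.smul_mono le_rfl le_top (hpow _ hc)
    have h2 : c i ∈ ((m ^ (j + 1).toNat) • (⊤ : Submodule R (S →₀ R))).map (Finsupp.lapply i) := ⟨c, h1, rfl⟩
    rw [Submodule.map_smul''] at h2
    have h3 : c i ∈ m ^ (j + 1).toNat := Ideal.mul_le_left (by rw [← smul_eq_mul]; exact h2)
    exact proj_L 𝒜 hneg (pow_le_L 𝒜 _ h3) j (by omega)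
  refine ⟨S, .ofRepr (LinearEquiv.ofBijective π ⟨LinearMap.ker_eq_bot.1 hK0, hπ⟩).symm, fun i => ⟨deg i, ?_⟩⟩
  simp [π, hx i]

end Groth.Agent.S19462
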