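import Groth.Statements.S19464
import Groth.Agent.ResolveX.IsoNhd
import Groth.Agent.GrpSchLib.SmoothRegular

set_option linter.style.haveILetI false
set_option backward.isDefEq.respectTransparency false
set_option backward.isDefEq.respectTransparency.types false
set_option maxHeartbeats 1000000

set_option autoImplicit false
universe u
open CategoryTheory CategoryTheory.Limits AlgebraicGeometry
open Surf

attribute [local instance 2000] CategoryTheory.CategoryStruct.toQuiver
open Groth.Agent

namespace Groth.Agent.S19464

/-- Let k be an algebraically closed field, X and Y smooth surfaces over k (integral, separated, of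
finite type and smooth over k, of dimension two), f : X → Y a proper k-morphism which is an
isomorphism over some nonempty open subset of Y (birational), and y a closed point of Y over no open
neighbourhood of which f is an isomorphism (y is not in the domain of the inverse rational map).
Then f factors through the blow-up of Y at y: for every π : Y' → Y having the universal property of
the blowing up of Y in the ideal of the reduced closed point y, there is g : X → Y' with g ≫ π = f. -/
theorem result (k : Type u) [Field k] [IsAlgClosed k]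
    (X Y : Scheme.{u}) [X.Over (Spec (CommRingCat.of k))] [Y.Over (Spec (CommRingCat.of k))]
    [IsIntegral X] [IsSeparated (X ↘ (Spec (CommRingCat.of k)))] [LocallyOfFiniteType (X ↘ (Spec (CommRingCat.of k)))]
    [QuasiCompact (X ↘ (Spec (CommRingCat.of k)))] [Smooth (X ↘ (Spec (CommRingCat.of k)))] (hdimX : topologicalKrullDim X = 2)
    [IsIntegral Y] [IsSeparated (Y ↘ (Spec (CommRingCat.of k)))] [LocallyOfFiniteType (Y ↘ (Spec (CommRingCat.of k)))]
    [QuasiCompact (Y ↘ (Spec (CommRingCat.of k)))] [Smooth (Y ↘ (Spec (CommRingCat.of k)))] (hdimY : topologicalKrullDim Y = 2)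
    (f : X ⟶ Y) (hf : f ≫ (Y ↘ (Spec (CommRingCat.of k))) = X ↘ (Spec (CommRingCat.of k))) [IsProper f]
    (hbir : ∃ U : Y.Opens, (U : Set Y).Nonempty ∧ IsIso (f ∣_ U))
    (y : Y) (hy : IsClosed ({y} : Set Y)) (hP : ∀ V : Y.Opens, y ∈ V → ¬ IsIso (f ∣_ V))
    (Y' : Scheme.{u}) (π : Y' ⟶ Y) (hπ : BlowUp.IsBlowUp π (Scheme.IdealSheafData.vanishingIdeal ⟨{y}, hy⟩)) :
    ∃ g : X ⟶ Y', g ≫ π = f := by
  obtain ⟨U, hU, hiso⟩ := hbir
  have hregX : ∀ x : X, IsRegularLocalRing (X.presheaf.stalk x) := fun x =>
    GrpSchLib.isRegularLocalRing_stalk_of_smooth (X ↘ Spec (CommRingCat.of k)) x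
  have hregY : ∀ x : Y, IsRegularLocalRing (Y.presheaf.stalk x) := fun x =>
    GrpSchLib.isRegularLocalRing_stalk_of_smooth (Y ↘ Spec (CommRingCat.of k)) x
  haveI := hregY y
  haveI : IsLocallyNoetherian X := LocallyOfFiniteType.isLocallyNoetherian (X ↘ Spec (CommRingCat.of k))
  haveI : IsLocallyNoetherian Y := LocallyOfFiniteType.isLocallyNoetherian (Y ↘ Spec (CommRingCat.of k))
  have hYn : Pi1.IsNormalScheme Y := fun p => by
    haveI := hregY p
    haveI : UniqueFactorizationMonoid (Y.presheaf.stalk p) := (S2821.result _).2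
    exact ⟨(S2821.result _).1, inferInstance⟩
  have hbig : ∃ x x' : X, x ≠ x' ∧ f x = y ∧ f x' = y := by
    by_contra hcon
    obtain ⟨V, hyV, hV⟩ := ResolveX.exists_iso_nhd f U hU hiso hYn (y := y) (fun a ha b hb => by
      by_contra hne
      exact hcon ⟨a, b, hne, ha, hb⟩)
    exact hP V hyV hV
  have hdim : ringKrullDim (Y.presheaf.stalk y) = 2 := by
    refine le_antisymm ?_ (ResolveX.two_le_dim f U hU hiso y hbig)
    rw [ringKrullDim_stalk_eq_coheight]
    refine (Order.coheight_le_krullDim y).trans ?_
    rw [← Order.krullDim_eq_of_orderIso (irreducibleSetEquivPoints (α := Y))]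
    exact hdimY.le
  exact ResolveX.exists_lift_point f U hU hiso y hbig hy hdim hregX hdimX.le hπ

end Groth.Agent.S19464
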