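import Groth.Statements.S19467
import Groth.Agent.Deform.MultUnipAlmost
import Groth.Agent.Deform.TorusAlg
import Groth.Agent.S14691
import Groth.Agent.Deform.QuasiIsotrivial
import Groth.Agent.MultTypeLib.Build
import Groth.Agent.UnipExt.Conj


set_option autoImplicit false
universe u
open CategoryTheory MonoidalCategory CartesianMonoidalCategory MonObj GrpObj AlgebraicGeometry CategoryTheory.Limits
open AlgGrp

namespace Groth.Agent.S19467
set_option linter.style.haveILetI false

open CategoryTheory CategoryTheory.Limits MonoidalCategory CartesianMonoidalCategory MonObj GrpObj AlgebraicGeometry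
open WithConv Groth.Agent.Deform
open scoped TensorProduct
open GrpSchLib.AffineHopf (sp spIso spMap exists_hopf exists_bialgHom exists_eq_spMap spMap_comp spMap_injective spMap_mul isMonHom_spMap)

attribute [local instance] CategoryTheory.Hom.monoid CategoryTheory.Hom.group


theorem isPushout_of_surjective {O T U : Type u} [CommRing O] [CommRing T] [CommRing U] (ε : O →+* U) (ρ : O →+* T)
    (hε : Function.Surjective ε) (i : U →+* T ⧸ (RingHom.ker ε).map ρ)
    (hi : ∀ x, i (ε x) = Ideal.Quotient.mk _ (ρ x)) :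
    IsPushout (CommRingCat.ofHom ε) (CommRingCat.ofHom ρ) (CommRingCat.ofHom i)
      (CommRingCat.ofHom (Ideal.Quotient.mk ((RingHom.ker ε).map ρ))) := by
  refine IsPushout.of_isColimit' ⟨by ext x; exact hi x⟩ (PushoutCocone.isColimitAux' _ fun s => ?_)
  have hker : ∀ x ∈ (RingHom.ker ε).map ρ, s.inr.hom x = 0 := by
    refine fun x hx => (Ideal.map_le_iff_le_comap (K := RingHom.ker s.inr.hom)).2 (fun j hj => ?_) hx
    show s.inr.hom (ρ j) = 0
    have h : s.inl.hom (ε j) = s.inr.hom (ρ j) := congrArg (fun f => f.hom j) s.condition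
    rw [show ε j = 0 from hj] at h
    exact h.symm.trans (map_zero _)
  refine ⟨CommRingCat.ofHom (Ideal.Quotient.lift _ s.inr.hom hker), ?_, ?_, fun {m} _ h2 => ?_⟩
  · ext x
    obtain ⟨y, rfl⟩ := hε x
    show Ideal.Quotient.lift _ s.inr.hom hker (i (ε y)) = s.inl.hom (ε y)
    rw [hi]
    exact (congrArg (fun f => f.hom y) s.condition).symm
  · ext x; rfl
  · refine CommRingCat.hom_ext (RingHom.ext fun x => ?_)
    obtain ⟨x, rfl⟩ := Ideal.Quotient.mk_surjective (x : T ⧸ (RingHom.ker ε).map ρ)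
    exact congrArg (fun f => f.hom x) h2

/-- A Hopf algebra over a field, diagonalisable over an algebraic closure, gives a group of multiplicative type. -/
theorem isMultTypeFT_of_const {k : Type u} [Field k] {A : Type u} [CommRing A] [HopfAlgebra k A]
    [Algebra.FiniteType k A] (hA : SGA3b.IsMultTypeConst k A) : SGA3x.IsMultTypeFT (sp k A) := by
  let K := AlgebraicClosure k
  obtain ⟨M, _, ⟨e⟩⟩ := UnipComp.isDiag_of_span (K := K) (Q := K ⊗[k] A) fun x =>
    (UnipExt.span_groupLike_algClosure hA) ▸ Submodule.mem_top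
  haveI : Algebra.FiniteType K (MonoidAlgebra K M) :=
    Algebra.FiniteType.equiv (inferInstance : Algebra.FiniteType K (K ⊗[k] A)) (e : _ ≃ₐ[K] _)
  haveI : Group.FG M := Group.fg_iff_monoid_fg.mpr ((MonoidAlgebra.finiteType_iff_fg (R := K)).mp inferInstance)
  obtain ⟨N, iN, hN, ⟨cN⟩⟩ := QuasiIsotrivial.exists_small M
  let t : Spec (CommRingCat.of K) ⟶ Spec (CommRingCat.of k) := Spec.map (CommRingCat.ofHom (algebraMap k K))
  obtain ⟨b⟩ := GrpSchLib.AffineHopf.nonempty_bc_sp (R := k) K A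
  obtain ⟨a⟩ := GrpSchLib.AffineHopf.nonempty_DS_iso K N
  let e' := b ≪≫ spIso ((QuasiIsotrivial.congrEquiv K cN).trans e.symm) ≪≫ a
  haveI : Flat t := (HasRingHomProperty.Spec_iff (P := @Flat)).mpr (RingHom.flat_algebraMap_iff.mpr inferInstance)
  haveI : Surjective t := ⟨fun x => ⟨(⊥ : PrimeSpectrum K), Subsingleton.elim (α := PrimeSpectrum k) _ x⟩⟩
  refine ⟨_, t, inferInstance, inferInstance, fun V _ => ⟨t ⁻¹ᵁ V, (Set.toFinite _).isCompact, ?_⟩, fun s' => ?_⟩
  · exact Set.image_preimage_eq _ t.surjective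
  · obtain ⟨c₁⟩ := GrpSchLib.MultTypeBC.bc_bc (⊤ : (Spec (CommRingCat.of K)).Opens).ι t (sp k A)
    obtain ⟨c₂⟩ := GrpSchLib.MultTypeBC.bc_iso (⊤ : (Spec (CommRingCat.of K)).Opens).ι e'
    obtain ⟨c₃⟩ := GrpSchLib.MultTypeBC.bc_DS (⊤ : (Spec (CommRingCat.of K)).Opens).ι N
    exact ⟨⊤, trivial, N, iN, hN, ⟨c₁.symm ≪≫ c₂ ≪≫ c₃⟩⟩

theorem surjective_of_isClosedImmersion {R A C : Type u} [CommRing R] [CommRing A] [CommRing C] [Algebra R A]
    [Algebra R C] (φ : A →ₐ[R] C) (h : IsClosedImmersion (spMap φ).left) : Function.Surjective φ := by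
  let ρ := CommRingCat.ofHom φ.toRingHom
  have h2 : IsClosedImmersion (Spec.map ρ) := h
  have h3 := ((HasAffineProperty.iff_of_isAffine (P := @IsClosedImmersion)).mp h2).2
  have h4 := Scheme.ΓSpecIso_naturality ρ
  have h5 : ρ = (Scheme.ΓSpecIso _).inv ≫ (Spec.map ρ).appTop ≫ (Scheme.ΓSpecIso _).hom := by
    rw [h4, Iso.inv_hom_id_assoc]
  have h6 : Function.Surjective ρ := by
    rw [h5]
    exact ((ConcreteCategory.bijective_of_isIso (Scheme.ΓSpecIso (CommRingCat.of C)).hom).2.comp h3).comp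
      (ConcreteCategory.bijective_of_isIso (Scheme.ΓSpecIso _).inv).2
  exact h6

/-- Let k be a field, G a commutative affine k-group scheme of finite type, and j : M → G the largest
closed subgroup scheme of multiplicative type (M is of multiplicative type and every closed subgroup
scheme of G of multiplicative type factors through M). Then there is a closed subgroup scheme h : H
→ G such that G = M · H, in the sense that the multiplication M × H → G is surjective, and M ∩ H
(the fibre product of j and h) is finite over k. (The existence of the largest subgroup scheme of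
multiplicative type is taken here as a hypothesis on M.) -/
theorem result (k : Type u) [Field k]
    (G : Over (Spec (CommRingCat.of k))) [GrpObj G] [IsCommMonObj G] [IsAffine G.left]
    [LocallyOfFiniteType G.hom]
    (M : Over (Spec (CommRingCat.of k))) [GrpObj M] (j : M ⟶ G) [IsMonHom j] [IsClosedImmersion j.left]
    (hM : SGA3x.IsMultTypeFT M)
    (hMmax : ∀ (M' : Over (Spec (CommRingCat.of k))) [GrpObj M'] (j' : M' ⟶ G) [IsMonHom j']
      [IsClosedImmersion j'.left], SGA3x.IsMultTypeFT M' → ∃ g : M' ⟶ M, g ≫ j = j') :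
    ∃ (H : Over (Spec (CommRingCat.of k))) (_ : GrpObj H) (h : H ⟶ G), IsMonHom h ∧ IsClosedImmersion h.left ∧
      Surjective ((j ⊗ₘ h) ≫ μ[G]).left ∧
      IsFinite (pullback.fst j.left h.left ≫ M.hom) := by
  classical
  obtain ⟨A, _, _, ⟨eA⟩⟩ := exists_hopf G
  haveI : IsMonHom eA.hom.hom.hom := eA.hom.hom.isMonHom_hom
  haveI : IsMonHom eA.inv.hom.hom := eA.inv.hom.isMonHom_hom
  haveI : IsIso eA.hom.hom.hom := ((Grp.forget _).mapIso eA).isIso_hom
  haveI iA : IsIso eA.hom.hom.hom.left := ((Grp.forget _ ⋙ Over.forget _).mapIso eA).isIso_hom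
  haveI : IsIso eA.inv.hom.hom.left := ((Grp.forget _ ⋙ Over.forget _).mapIso eA).isIso_inv
  haveI : Coalgebra.IsCocomm k A := S14691.isCocomm_of_iso eA.hom.hom.hom
  haveI : Algebra.FiniteType k A := QuasiIsotrivial.finiteType_sp eA
  obtain ⟨C, _, _, hC, hCft, ⟨eC⟩⟩ := exists_hopf_ft M hM
  haveI : IsMonHom eC.hom.hom.hom := eC.hom.hom.isMonHom_hom
  haveI iC : IsIso eC.hom.hom.hom.left := ((Grp.forget _ ⋙ Over.forget _).mapIso eC).isIso_hom
  obtain ⟨φ, hφ⟩ := exists_bialgHom (eC.hom.hom.hom ≫ j ≫ eA.inv.hom.hom)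
  have hφs : Function.Surjective φ := surjective_of_isClosedImmersion (φ : A →ₐ[k] C) (by
    rw [← hφ]
    exact inferInstanceAs (IsClosedImmersion (eC.hom.hom.hom.left ≫ j.left ≫ eA.inv.hom.hom.left)))
  let J : Ideal A := RingHom.ker (φ : A →ₐ[k] C)
  haveI : J.IsHopfIdeal k := GrpSchLib.isHopfIdeal_ker φ fun a ha => by
    rw [← GrpSchLib.HopfGalois.antipode_bialgHom φ a, ha, map_zero]
  -- `A / J = C`
  obtain ⟨q', hq'⟩ := UnipExt.exists_factor φ hφs (Bialgebra.Quotient.mkBialgHom J : A →ₐc[k] A ⧸ J)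
    fun a ha => Ideal.Quotient.eq_zero_iff_mem.mpr ha
  have hq'bij : Function.Bijective q' := by
    refine ⟨(injective_iff_map_eq_zero q').mpr fun c hc => ?_, fun y => ?_⟩
    · obtain ⟨a, rfl⟩ := hφs c
      rw [hq'] at hc
      exact Ideal.Quotient.eq_zero_iff_mem.mp hc
    · obtain ⟨a, rfl⟩ := Ideal.Quotient.mk_surjective y
      exact ⟨φ a, hq' a⟩
  let eJ := BialgEquiv.ofBijective q' hq'bij
  have hJ : SGA3b.IsMultTypeConst k (A ⧸ J) := by
    obtain ⟨P, hP⟩ := MultTypeLib.exists_ff_split hC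
    let b : P.S ⊗[k] C →ₐc[P.S] P.S ⊗[k] (A ⧸ J) := Bialgebra.TensorProduct.map (BialgHom.id P.S P.S) q'
    have hb : Function.Bijective b :=
      (Algebra.TensorProduct.congr (AlgEquiv.refl (R := P.S) (A₁ := P.S))
        (AlgEquiv.ofBijective (q' : C →ₐ[k] A ⧸ J) hq'bij)).bijective
    exact ⟨P.S, inferInstance, inferInstance, hP, P.M, inferInstance,
      ⟨(BialgEquiv.ofBijective b hb).symm.trans P.bialgEquiv⟩⟩
  have hJmax : ∀ (I : Ideal A) [I.IsHopfIdeal k], SGA3b.IsMultTypeConst k (A ⧸ I) → J ≤ I := by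
    intro I _ hI
    let qI : A →ₐc[k] A ⧸ I := Bialgebra.Quotient.mkBialgHom I
    haveI : IsMonHom (spMap (qI : A →ₐ[k] A ⧸ I)) := isMonHom_spMap qI
    haveI : IsClosedImmersion (spMap (qI : A →ₐ[k] A ⧸ I)).left :=
      IsClosedImmersion.spec_of_surjective (CommRingCat.ofHom (qI : A →ₐ[k] A ⧸ I).toRingHom) Ideal.Quotient.mk_surjective
    haveI : IsClosedImmersion (spMap (qI : A →ₐ[k] A ⧸ I) ≫ eA.hom.hom.hom).left := by
      rw [Over.comp_left]; infer_instance
    obtain ⟨g, hg⟩ := hMmax (sp k (A ⧸ I)) (spMap (qI : A →ₐ[k] A ⧸ I) ≫ eA.hom.hom.hom)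
      (isMultTypeFT_of_const hI)
    obtain ⟨f, hf⟩ := exists_eq_spMap (g ≫ eC.inv.hom.hom)
    have key : f.comp (φ : A →ₐ[k] C) = (qI : A →ₐ[k] A ⧸ I) := by
      refine spMap_injective ?_
      rw [← spMap_comp, ← hf, ← hφ]
      simp only [Category.assoc]
      rw [show eC.inv.hom.hom ≫ eC.hom.hom.hom ≫ j ≫ eA.inv.hom.hom = j ≫ eA.inv.hom.hom by
        rw [← Category.assoc, show eC.inv.hom.hom ≫ eC.hom.hom.hom = 𝟙 M from
          congrArg (fun h => h.hom.hom) eC.inv_hom_id, Category.id_comp],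
        ← Category.assoc, hg, Category.assoc,
        show eA.hom.hom.hom ≫ eA.inv.hom.hom = 𝟙 _ from congrArg (fun h => h.hom.hom) eA.hom_inv_id,
        Category.comp_id]
    intro a ha
    refine Ideal.Quotient.eq_zero_iff_mem.mp ?_
    show (qI : A →ₐ[k] A ⧸ I) a = 0
    rw [← key, AlgHom.comp_apply, show (φ : A →ₐ[k] C) a = 0 from ha, map_zero]
  obtain ⟨I, hIh, hfin, hpts⟩ := MultUnip.exists_almost_complement A J hJ hJmax
  haveI := hIh
  let qI : A →ₐc[k] A ⧸ I := Bialgebra.Quotient.mkBialgHom I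
  haveI : IsMonHom (spMap (qI : A →ₐ[k] A ⧸ I)) := isMonHom_spMap qI
  haveI : IsClosedImmersion (spMap (qI : A →ₐ[k] A ⧸ I)).left :=
    IsClosedImmersion.spec_of_surjective (CommRingCat.ofHom (qI : A →ₐ[k] A ⧸ I).toRingHom) Ideal.Quotient.mk_surjective
  let h : sp k (A ⧸ I) ⟶ G := spMap (qI : A →ₐ[k] A ⧸ I) ≫ eA.hom.hom.hom
  have hj : eC.hom.hom.hom ≫ j = spMap (φ : A →ₐ[k] C) ≫ eA.hom.hom.hom := by
    rw [← hφ]
    simp only [Category.assoc]
    rw [show eA.inv.hom.hom ≫ eA.hom.hom.hom = 𝟙 G from congrArg (fun h => h.hom.hom) eA.inv_hom_id, Category.comp_id]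
  refine ⟨sp k (A ⧸ I), inferInstance, h, inferInstance,
    inferInstanceAs (IsClosedImmersion ((spMap (qI : A →ₐ[k] A ⧸ I)).left ≫ eA.hom.hom.hom.left)), ⟨fun z => ?_⟩, ?_⟩
  · -- every point is a product
    obtain ⟨P, rfl⟩ : ∃ P : Spec (CommRingCat.of A), eA.hom.hom.hom.left P = z :=
      ⟨eA.inv.hom.hom.left z, by
        rw [← Scheme.Hom.comp_apply, ← Over.comp_left,
          show eA.inv.hom.hom ≫ eA.hom.hom.hom = 𝟙 G from congrArg (fun h => h.hom.hom) eA.inv_hom_id]
        rfl⟩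
    let L := AlgebraicClosure P.asIdeal.ResidueField
    let g : A →ₐ[k] L :=
      (IsScalarTower.toAlgHom k P.asIdeal.ResidueField L).comp (IsScalarTower.toAlgHom k A P.asIdeal.ResidueField)
    obtain ⟨x, y, hxy⟩ := hpts L g
    let x' : C →ₐ[k] L := x.comp (q' : C →ₐ[k] A ⧸ J)
    let t : sp k L ⟶ M ⊗ sp k (A ⧸ I) := lift (spMap x' ≫ eC.hom.hom.hom) (spMap y)
    have ht : t ≫ (j ⊗ₘ h) ≫ μ[G] = spMap g ≫ eA.hom.hom.hom := by
      rw [lift_map_assoc, ← Hom.mul_def, Category.assoc, hj, ← Category.assoc, spMap_comp,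
        show (spMap y ≫ h) = (spMap y ≫ spMap (qI : A →ₐ[k] A ⧸ I)) ≫ eA.hom.hom.hom from (Category.assoc _ _ _).symm,
        spMap_comp, ← MonObj.mul_comp, spMap_mul]
      congr 2
      have hx : x'.comp (φ : A →ₐ[k] C) = x.comp (Ideal.Quotient.mkₐ k J) :=
        AlgHom.ext fun a => congrArg x (hq' a)
      rw [hx]
      exact congrArg WithConv.ofConv hxy
    refine ⟨t.left (⊥ : PrimeSpectrum L), ?_⟩
    have h2 := congrArg (fun f : sp k L ⟶ G => f.left (⊥ : PrimeSpectrum L)) ht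
    simp only [Over.comp_left, Scheme.Hom.comp_apply] at h2 ⊢
    refine h2.trans (congrArg _ ?_)
    show PrimeSpectrum.comap g.toRingHom ⊥ = P
    refine PrimeSpectrum.ext (Ideal.ext fun a => ?_)
    show algebraMap P.asIdeal.ResidueField L (algebraMap A P.asIdeal.ResidueField a) ∈ (⊥ : Ideal L) ↔ _
    rw [Ideal.mem_bot, map_eq_zero, Ideal.algebraMap_residueField_eq_zero]
  · -- the intersection
    let T := C ⧸ (RingHom.ker (qI : A →+* A ⧸ I)).map (φ : A →+* C)
    let i : A ⧸ I →+* T := Ideal.Quotient.lift I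
      ((Ideal.Quotient.mk ((RingHom.ker (qI : A →+* A ⧸ I)).map (φ : A →+* C))).comp (φ : A →+* C)) fun a ha =>
        Ideal.Quotient.eq_zero_iff_mem.mpr (Ideal.mem_map_of_mem _ (Ideal.Quotient.eq_zero_iff_mem.mpr ha))
    have sq := isPullback_SpecMap_of_isPushout _ _ _ _ (isPushout_of_surjective
      (qI : A →+* A ⧸ I) (φ : A →+* C) Ideal.Quotient.mk_surjective i fun a => rfl)
    let iP : Spec (CommRingCat.of T) ⟶ (sp k (A ⧸ I)).left := Spec.map (CommRingCat.ofHom i)
    let iQ := Spec.map (CommRingCat.ofHom (Ideal.Quotient.mk ((RingHom.ker (qI : A →+* A ⧸ I)).map (φ : A →+* C))))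
    have sq' : IsPullback (iQ ≫ eC.hom.hom.hom.left) iP j.left h.left := by
      refine sq.flip.of_iso (Iso.refl _) (@asIso _ _ _ _ eC.hom.hom.hom.left iC) (Iso.refl _) (@asIso _ _ _ _ eA.hom.hom.hom.left iA) ?_ ?_ ?_ ?_
      · simp [iQ]
      · exact Category.comp_id _
      · exact (congrArg CommaMorphism.left hj).symm
      · simp [h]
        rfl
    have hT : IsFinite (Spec.map (CommRingCat.ofHom (algebraMap k T))) := by
      rw [IsFinite.SpecMap_iff]
      show (algebraMap k T).Finite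
      rw [RingHom.finite_algebraMap]
      haveI := hfin
      have hle : J ⊔ I ≤ RingHom.ker ((Ideal.Quotient.mkₐ k ((RingHom.ker (qI : A →+* A ⧸ I)).map (φ : A →+* C))).comp
          (φ : A →ₐ[k] C)) := by
        refine sup_le (fun a ha => ?_) fun a ha => ?_
        · show Ideal.Quotient.mk _ (φ a) = 0
          rw [show φ a = 0 from ha, map_zero]
        · exact Ideal.Quotient.eq_zero_iff_mem.mpr (Ideal.mem_map_of_mem _ (Ideal.Quotient.eq_zero_iff_mem.mpr ha))
      refine Module.Finite.of_surjective (Ideal.Quotient.liftₐ (J ⊔ I) _ fun a ha => hle ha).toLinearMap fun z => ?_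
      obtain ⟨c, rfl⟩ := Ideal.Quotient.mk_surjective z
      obtain ⟨a, rfl⟩ := hφs c
      exact ⟨Ideal.Quotient.mk _ a, rfl⟩
    have e : pullback.fst j.left h.left ≫ M.hom =
        sq'.isoPullback.inv ≫ Spec.map (CommRingCat.ofHom (algebraMap k T)) := by
      rw [← sq'.isoPullback_inv_fst, Category.assoc, Category.assoc]
      refine congrArg (sq'.isoPullback.inv ≫ ·) ?_
      refine (congrArg (iQ ≫ ·) (Over.w eC.hom.hom.hom)).trans ?_
      show Spec.map _ ≫ Spec.map _ = _
      rw [← Spec.map_comp]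
      rfl
    rw [e]
    haveI := hT
    infer_instance

end Groth.Agent.S19467
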