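import Groth.Statements.S19468
import Groth.Agent.Deform.Chev.FiniteField


set_option autoImplicit false
universe u
open CategoryTheory MonoidalCategory CartesianMonoidalCategory MonObj GrpObj AlgebraicGeometry CategoryTheory.Limits
open AlgGrp

namespace Groth.Agent.S19468
set_option linter.style.haveILetI false
set_option backward.isDefEq.respectTransparency false

open CategoryTheory CategoryTheory.Limits MonoidalCategory CartesianMonoidalCategory MonObj GrpObj AlgebraicGeometry

attribute [local instance] CategoryTheory.Hom.monoid CategoryTheory.Hom.group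

/-- Let k be a finite field and G a smooth connected k-group scheme of finite type. Then there are a
closed normal subgroup scheme l : L → G with L smooth, connected and affine, and a closed subgroup
scheme a : A → G with A an abelian variety (proper, smooth and connected over k), such that G = L ·
A, in the sense that the multiplication L × A → G is surjective, and L ∩ A (the fibre product of l
and a) is finite over k. (The published statement also asserts that such a decomposition is unique;
that part is not included here.) -/
theorem result (k : Type u) [Field k] [Finite k]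
    (G : Over (Spec (CommRingCat.of k))) [GrpObj G] [Smooth G.hom] [QuasiCompact G.hom]
    [ConnectedSpace ↥G.left] :
    ∃ (L : Over (Spec (CommRingCat.of k))) (_ : GrpObj L) (l : L ⟶ G) (A : Over (Spec (CommRingCat.of k)))
      (_ : GrpObj A) (a : A ⟶ G),
      IsMonHom l ∧ IsClosedImmersion l.left ∧ AlgGrp.IsNormalHom l ∧ Smooth L.hom ∧ ConnectedSpace ↥L.left ∧
        IsAffine L.left ∧
      IsMonHom a ∧ IsClosedImmersion a.left ∧ IsProper A.hom ∧ Smooth A.hom ∧ ConnectedSpace ↥A.left ∧
      Surjective ((l ⊗ₘ a) ≫ μ[G]).left ∧ IsFinite (pullback.fst l.left a.left ≫ L.hom) := by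
  obtain ⟨K, iK, κ, hκ, hκc, hKl, hKq, hKb, I, iI, p, hp, hI, hIl, hpf, hps, hkp⟩ :=
    Deform.AntiAffineParts.exists_ant G
  letI := iK
  letI := iI
  haveI := hκ; haveI := hκc; haveI := hKl; haveI := hKq; haveI := hp; haveI := hI; haveI := hIl; haveI := hpf; haveI := hps
  obtain ⟨L, iL, l, Q, iQ, q, hl, hlc, hLs, hLq, hLc, hLa, hLn, hq, hqf, hqs, hkq, hQ, hQs, hQc⟩ :=
    Deform.Chev.Perfect.exists_decomp G
  letI := iL
  letI := iQ
  haveI := hq; haveI := hQ; haveI := hQc
  haveI : Surjective (κ ≫ q).left := Deform.AntiAffineParts.surjective_proper hKb κ p hkp q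
  haveI hKp := Deform.Chev.FiniteField.isProper_of_antiAffine K hKb
  refine ⟨L, iL, l, K, iK, κ, hl, hlc, hLn, hLs, hLc, hLa, hκ, hκc, hKp,
    Agent.GrpSchLib.AntiAffineSmooth.smooth hKb, Agent.GrpSchLib.AntiAffine.connectedSpace_of_bijective hKb,
    Deform.AntiAffineParts.surjective_mul l q hkq κ, ?_⟩
  haveI := hlc; haveI := hLa
  haveI : IsAffine (pullback l.left κ.left) := isAffine_of_isAffineHom (pullback.fst l.left κ.left)
  haveI : IsProper (pullback.fst l.left κ.left ≫ L.hom) := by
    rw [← Over.w l, pullback.condition_assoc, Over.w κ]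
    infer_instance
  rw [IsFinite.iff_isProper_and_isAffineHom]
  exact ⟨inferInstance, isAffineHom_of_isAffine _⟩

end Groth.Agent.S19468
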