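import Groth.Statements.S19489
import Mathlib.Algebra.MvPolynomial.PDeriv
import Mathlib.RingTheory.Localization.Integer
import Mathlib.Algebra.CharP.Lemmas
import Mathlib.LinearAlgebra.FiniteDimensional.Basic

set_option linter.style.haveILetI false
set_option backward.isDefEq.respectTransparency false
set_option backward.isDefEq.respectTransparency.types false


set_option autoImplicit false
open scoped TensorProduct
open ZeroCyc


namespace Groth.Agent.S19489

/-- Let p be a prime, k = F_p(t_0, t_1, …) the field of rational functions over F_p in countably many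
variables, and K = k^{1/p} = F_p(t_0^{1/p}, t_1^{1/p}, …), modelled here as a copy of k made into a
k-algebra through the Frobenius b ↦ b ^ p (under a ↦ a ^ p the extension k ⊆ k^{1/p} becomes this
algebra). Then a ↦ a ^ p is a multiplicative polynomial law from K to k over k, homogeneous of
degree p: there is such a law sending s ⊗ a to s ^ p ⊗ a ^ p on every test algebra S, where a ^ p is
read in k. Every such law has zero kernel, so the support of the corresponding family of zero-cycles
of degree p on Spec K over Spec k is all of Spec K; and K is not finite over k. Thus the support of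
a family of zero-cycles need not be finite over the base. -/
theorem result (p : ℕ) [Fact p.Prime] :
    (∃ F : PolLaw.MulLaw (FractionRing (MvPolynomial ℕ (ZMod p))) (FrobAlg.Twist p (FractionRing (MvPolynomial ℕ (ZMod p)))) (FractionRing (MvPolynomial ℕ (ZMod p))) p,
      ∀ (S : Type) [CommSemiring S] [Algebra (FractionRing (MvPolynomial ℕ (ZMod p))) S] (s : S) (a : FrobAlg.Twist p (FractionRing (MvPolynomial ℕ (ZMod p)))),
        F.law.toFun' S (s ⊗ₜ[FractionRing (MvPolynomial ℕ (ZMod p))] a) =
          (s ^ p) ⊗ₜ[FractionRing (MvPolynomial ℕ (ZMod p))] (FrobAlg.toTwist p (FractionRing (MvPolynomial ℕ (ZMod p)))).symm a) ∧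
    (∀ F : PolLaw.MulLaw (FractionRing (MvPolynomial ℕ (ZMod p))) (FrobAlg.Twist p (FractionRing (MvPolynomial ℕ (ZMod p)))) (FractionRing (MvPolynomial ℕ (ZMod p))) p,
      (∀ (S : Type) [CommSemiring S] [Algebra (FractionRing (MvPolynomial ℕ (ZMod p))) S] (s : S) (a : FrobAlg.Twist p (FractionRing (MvPolynomial ℕ (ZMod p)))),
        F.law.toFun' S (s ⊗ₜ[FractionRing (MvPolynomial ℕ (ZMod p))] a) =
          (s ^ p) ⊗ₜ[FractionRing (MvPolynomial ℕ (ZMod p))] (FrobAlg.toTwist p (FractionRing (MvPolynomial ℕ (ZMod p)))).symm a) →
      PolLaw.ker F.law = ⊥) ∧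
    ¬ Module.Finite (FractionRing (MvPolynomial ℕ (ZMod p))) (FrobAlg.Twist p (FractionRing (MvPolynomial ℕ (ZMod p)))) := by
  classical
  refine ⟨?_, fun F hF => ?_, ?_⟩
  · let k := FractionRing (MvPolynomial ℕ (ZMod p))
    let K := FrobAlg.Twist p k
    let e : K ≃+* k := (FrobAlg.toTwist p k).symm
    have hp : p.Prime := Fact.out
    have hsmul : ∀ (c : k) (a : K), e (c • a) = c ^ p * e a := fun c a => rfl
    have hfrob : ∀ (S : Type) [CommSemiring S] [Algebra k S] (x y : S),
        (x + y) ^ p = x ^ p + y ^ p := fun S _ _ x y => by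
      have h0 : ((p : ℕ) : S) = 0 := by
        rw [← map_natCast (algebraMap k S), CharP.cast_eq_zero, map_zero]
      rw [add_pow_prime_eq hp, h0]
      simp
    let bil : ∀ (S : Type) [CommSemiring S] [Algebra k S], S →+ K →+ (S ⊗[k] k) := fun S _ _ =>
      { toFun := fun (s : S) =>
          { toFun := fun (a : K) => ((s ^ p) ⊗ₜ[k] (e a) : S ⊗[k] k)
            map_zero' := by rw [map_zero, TensorProduct.tmul_zero]
            map_add' := fun a b => by rw [map_add, TensorProduct.tmul_add] }
        map_zero' := by
          refine AddMonoidHom.ext fun a => ?_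
          show ((0 : S) ^ p) ⊗ₜ[k] e a = 0
          rw [zero_pow hp.ne_zero, TensorProduct.zero_tmul]
        map_add' := fun s t => by
          refine AddMonoidHom.ext fun a => ?_
          show ((s + t) ^ p) ⊗ₜ[k] e a = (s ^ p) ⊗ₜ[k] e a + (t ^ p) ⊗ₜ[k] e a
          rw [hfrob S s t, TensorProduct.add_tmul] }
    have hbal : ∀ (S : Type) [CommSemiring S] [Algebra k S] (c : k) (s : S) (a : K),
        bil S (c • s) a = bil S s (c • a) := fun S _ _ c s a => by
      show ((c • s) ^ p) ⊗ₜ[k] e a = (s ^ p) ⊗ₜ[k] e (c • a)
      rw [hsmul, smul_pow, TensorProduct.smul_tmul, smul_eq_mul]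
    let L : ∀ (S : Type) [CommSemiring S] [Algebra k S], (S ⊗[k] K) →+ (S ⊗[k] k) := fun S _ _ =>
      TensorProduct.liftAddHom (bil S) (hbal S)
    have hL : ∀ (S : Type) [CommSemiring S] [Algebra k S] (s : S) (a : K),
        L S (s ⊗ₜ[k] a) = (s ^ p) ⊗ₜ[k] e a := fun S _ _ s a => rfl
    let law : K →ₚₗ[k] k :=
      { toFun' := fun S _ _ => L S
        isCompat' := fun {S} _ _ {S'} _ _ φ => by
          funext x
          simp only [Function.comp_apply]
          induction x using TensorProduct.induction_on with
          | zero => simp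
          | tmul a b =>
            rw [LinearMap.rTensor_tmul, hL, hL, LinearMap.rTensor_tmul]
            simp
          | add a b ha hb => simp only [map_add, ha, hb] }
    refine ⟨⟨law, fun S _ _ s x => ?_, fun S _ _ => ⟨?_, fun x y => ?_⟩⟩,
      fun S _ _ s a => hL S s a⟩
    · show L S (s • x) = s ^ p • L S x
      induction x using TensorProduct.induction_on with
      | zero => simp
      | tmul a b =>
        rw [TensorProduct.smul_tmul', hL, hL, TensorProduct.smul_tmul', smul_eq_mul, smul_eq_mul,
          mul_pow]
      | add a b ha hb => simp only [smul_add, map_add, ha, hb]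
    · show L S ((1 : S) ⊗ₜ[k] (1 : K)) = 1
      rw [hL, one_pow, map_one]
      rfl
    · show L S (x * y) = L S x * L S y
      induction x using TensorProduct.induction_on with
      | zero => simp
      | tmul a b =>
        induction y using TensorProduct.induction_on with
        | zero => simp
        | tmul c d =>
          rw [Algebra.TensorProduct.tmul_mul_tmul, hL, hL, hL,
            Algebra.TensorProduct.tmul_mul_tmul, mul_pow, map_mul]
        | add c d hc hd => simp only [mul_add, map_add, hc, hd]
      | add a b ha hb => simp only [add_mul, map_add, ha, hb]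
  · refine eq_bot_iff.2 fun b hb => ?_
    have h := hb (FractionRing (MvPolynomial ℕ (ZMod p))) 0 1
    rw [one_mul, zero_add, hF] at h
    have h0 := hF (FractionRing (MvPolynomial ℕ (ZMod p))) 0 0
    rw [TensorProduct.zero_tmul] at h0
    rw [h0, one_pow, zero_pow (Fact.out : p.Prime).ne_zero, TensorProduct.zero_tmul] at h
    have h' := congrArg (TensorProduct.lid (FractionRing (MvPolynomial ℕ (ZMod p))) (FractionRing (MvPolynomial ℕ (ZMod p)))) h
    simp only [TensorProduct.lid_tmul, one_smul, map_zero] at h'
    rw [Submodule.mem_bot]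
    exact (map_eq_zero_iff _ (FrobAlg.toTwist p _).symm.injective).1 h'
  · intro hfin
    let P := MvPolynomial ℕ (ZMod p)
    let k := FractionRing P
    let x : ℕ → FrobAlg.Twist p k := fun i => FrobAlg.toTwist p k (algebraMap P k (MvPolynomial.X i))
    have hli : LinearIndependent k x := by
      rw [linearIndependent_iff']
      intro s c hc j hj
      obtain ⟨⟨b, hb⟩, hbc⟩ := IsLocalization.exist_integer_multiples (nonZeroDivisors P) s c
      choose a ha using hbc
      let a' : ℕ → P := fun i => if hi : i ∈ s then a i hi else 0
      have ha' : ∀ i ∈ s, algebraMap P k (a' i) = algebraMap P k b * c i := fun i hi => by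
        simp only [a', dif_pos hi, ha i hi, Algebra.smul_def]
      have hsum : ∑ i ∈ s, a' i ^ p * MvPolynomial.X i = 0 := by
        apply IsFractionRing.injective P k
        rw [map_sum, map_zero]
        have h1 : ∑ i ∈ s, (c i) ^ p * algebraMap P k (MvPolynomial.X i) = 0 := by
          have := congrArg (FrobAlg.toTwist p k).symm hc
          rw [map_sum, map_zero] at this
          exact this
        calc ∑ i ∈ s, algebraMap P k (a' i ^ p * MvPolynomial.X i)
            = ∑ i ∈ s, algebraMap P k b ^ p * ((c i) ^ p * algebraMap P k (MvPolynomial.X i)) :=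
              Finset.sum_congr rfl fun i hi => by
                rw [map_mul, map_pow, ha' i hi, mul_pow, mul_assoc]
          _ = 0 := by rw [← Finset.mul_sum, h1, mul_zero]
      have hd := congrArg (MvPolynomial.pderiv j) hsum
      rw [map_sum, map_zero, Finset.sum_eq_single j] at hd
      · rw [Derivation.leibniz, Derivation.leibniz_pow, MvPolynomial.pderiv_X_self] at hd
        simp only [smul_eq_mul, mul_one, nsmul_eq_mul, CharP.cast_eq_zero, zero_mul, mul_zero,
          add_zero] at hd
        have haj : a' j = 0 := eq_zero_of_pow_eq_zero hd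
        have := ha' j hj
        rw [haj, map_zero, eq_comm, mul_eq_zero] at this
        exact this.resolve_left fun h => nonZeroDivisors.ne_zero hb
          ((map_eq_zero_iff _ (IsFractionRing.injective P k)).1 h)
      · intro i _ hi
        rw [Derivation.leibniz, Derivation.leibniz_pow, MvPolynomial.pderiv_X_of_ne hi]
        simp
      · exact fun h => absurd hj h
    haveI : Module.Finite k (FrobAlg.Twist p k) := hfin
    exact lt_irrefl _ (Cardinal.mk_nat ▸ hli.lt_aleph0_of_finiteDimensional)
end Groth.Agent.S19489
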