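import Groth.Statements.S1950
import Groth.Agent.H9Diag.ProjFormula

set_option linter.style.haveILetI false
set_option backward.isDefEq.respectTransparency false

set_option autoImplicit false
universe u
open CategoryTheory CategoryTheory.Limits AlgebraicGeometry
attribute [local instance] HasDerivedCategory.standard
open IntMult

set_option maxHeartbeats 2000000

namespace Groth.Agent.S1950

/-- Let f : X → Y be proper and flat, where X and Y are nonsingular varieties over K of dimensions n and
m, e = n − m, α an r-cycle on X and β an s-cycle on Y such that α and f^*β intersect properly. The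
pushforward f_*α then meets β properly, and on Y the cycle f_*α · β equals f_*(α · f^*β) (flat
pullback and products taken coefficientwise; f_* is Mathlib's pushforward, applied to any cycle with
the coefficients of α · f^*β). Here X is a nonsingular variety over the algebraically closed field K
(smooth, separated, quasi-compact, integral) with dimension function δ (transcendence degree) and n
= dim X; cycles are Mathlib AlgebraicCycles with Cyc.Zk membership, proper intersection is
IntMult.IntersectProperly and α · β is the Tor-formula intersection product on coefficient functions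
(IntMult.interProd), bundled where needed as 'any cycle with these coefficients'. -/
theorem result (K : Type u) [Field K] [IsAlgClosed K] (X Y : Scheme.{u}) (f : X ⟶ Y) (gX : X ⟶ Spec (CommRingCat.of K)) (gY : Y ⟶ Spec (CommRingCat.of K)) (hf : f ≫ gY = gX) [Smooth gX] [IsSeparated gX] [QuasiCompact gX] [IsIntegral X] [Smooth gY] [IsSeparated gY] [QuasiCompact gY] [IsIntegral Y] [Flat f] [IsProper f] (δX : X → ℤ) (δY : Y → ℤ) (hX : Cyc.IsSetup X δX) (hY : Cyc.IsSetup Y δY) (hδX : Cyc.DeltaCompat gX δX (fun _ => 0)) (hδY : Cyc.DeltaCompat gY δY (fun _ => 0)) (hδ : Cyc.DeltaCompat f δX δY) (n m : ℤ) (hn : δX (genericPoint X) = n) (hm : δY (genericPoint Y) = m) (e : ℕ) (he : (e : ℤ) = n - m) (hrel : Cyc.HasRelDim f e) (r s : ℤ) (α : AlgebraicCycle X ℤ) (β : AlgebraicCycle Y ℤ) (hα : α ∈ Cyc.Zk X δX r) (hβ : β ∈ Cyc.Zk Y δY s) (hprop : IntMult.IntersectProperly δX n ⇑α (Cyc.pullFun f δX δY e ⇑β)) (γ : AlgebraicCycle X ℤ) (hγ : ⇑γ = IntMult.interProd δX n ⇑α (Cyc.pullFun f δX δY e ⇑β)) : IntMult.IntersectProperly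 δY m ⇑(AlgebraicCycle.map f δX δY α) ⇑β ∧ IntMult.interProd δY m ⇑(AlgebraicCycle.map f δX δY α) ⇑β = ⇑(AlgebraicCycle.map f δX δY γ) := by
  classical
  haveI : IsLocallyNoetherian X := hX.1
  haveI : IsLocallyNoetherian Y := hY.1
  haveI : CompactSpace X := QuasiCompact.compactSpace_of_compactSpace gX
  haveI : CompactSpace Y := QuasiCompact.compactSpace_of_compactSpace gY
  have hle := Groth.Agent.H23.FlatShift.le_of_hasRelDim f hrel hδ
  have hshift := Groth.Agent.H23.FlatShift.hasShift_of_hasRelDim f hrel hδ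
  have hαr : ∀ x, α x ≠ 0 → δX x = r := fun x hx => by_contra fun hne => hx (hα x hne)
  have hβs : ∀ y, β y ≠ 0 → δY y = s := fun y hy => by_contra fun hne => hy (hβ y hne)
  have hlift : ∀ (x : X) (η : Y), β η ≠ 0 → η ⤳ f x →
      ∃ η' : X, η' ⤳ x ∧ Cyc.pullFun f δX δY e (⇑β) η' ≠ 0 ∧ δX η' = s + e := by
    intro x η hη hηx
    obtain ⟨z, hz, hfz⟩ := Groth.Agent.CycLib.exists_generization f hηx
    obtain ⟨η', hη', hfη, hmax⟩ := Groth.Agent.H23.FlatShift.exists_fibMax_gen f z
    rw [hfz] at hfη
    have hδη := hshift.eq_of_fibMax hmax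
    refine ⟨η', hη'.trans hz, ?_, ?_⟩
    · rw [Cyc.pullFun, if_pos hδη]
      refine mul_ne_zero (fun h0 => hη (hfη ▸ h0)) ?_
      have hne := Groth.Agent.H23.FlatShift.length_stalk_pullback f (Cyc.closureStructureSheaf η) η'
      have hfin := Groth.Agent.CycLib.length_stalk_lt_top _
        (Groth.Agent.ZClosLib.isCoh_pullback f (Groth.Agent.H9ChowK.isCoh_closure η)) (ξ := η') fun w hw hwη => by
          have h1 := (Groth.Agent.H9Diag.nontrivial_closure_iff η (f w)).1
            (Groth.Agent.H23.FlatShift.nontrivial_of_pullback f _ w hw)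
          have h2 : f w ⤳ η := hfη ▸ hwη.map f.continuous
          exact hmax w hwη ((h2.antisymm h1).eq.trans hfη.symm)
      subst hfη
      rw [hne, Groth.Agent.H9ChowK.length_closure_self, one_mul] at hfin
      refine Nat.cast_ne_zero.2 fun h0 => ?_
      rcases ENat.toNat_eq_zero.1 h0 with h1 | h1
      · haveI : Nontrivial (X.presheaf.stalk η' ⧸ Ideal.map (f.stalkMap η').hom
            (IsLocalRing.maximalIdeal (Y.presheaf.stalk (f η')))) := Ideal.Quotient.nontrivial_iff.2 fun ht =>
          (IsLocalRing.maximalIdeal.isMaximal (X.presheaf.stalk η')).ne_top (top_le_iff.1 (ht.ge.trans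
            (Ideal.map_le_iff_le_comap.2 fun a ha hu => ha ((isUnit_map_iff (f.stalkMap η').hom a).1 hu))))
        exact Module.length_pos.ne' h1
      · exact hfin.ne h1
    · rw [hδη, hfη, hβs η hη]
  have key : ∀ (ξ : X) (η : Y) (x : X), α ξ ≠ 0 → β η ≠ 0 → ξ ⤳ x → η ⤳ f x → δX x ≤ r + s - m := by
    intro ξ η x hξ hη hξx hηx
    obtain ⟨η', hη', hne, hd⟩ := hlift x η hη hηx
    have := hprop ξ η' x hξ hne hξx hη'
    rw [hαr ξ hξ, hd] at this
    omega
  refine ⟨fun ξ₁ η ζ hξ₁ hη hξζ hηζ => ?_, funext fun y => ?_⟩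
  · rw [Groth.Agent.CycLib.map_apply'] at hξ₁
    obtain ⟨ξ, hξy, hξ⟩ := exists_ne_zero_of_finsum_mem_ne_zero hξ₁
    obtain ⟨h1, h2⟩ := mul_ne_zero_iff.1 hξ
    simp only [AlgebraicCycle.mapCoeff, ne_eq, Nat.cast_eq_zero, ite_eq_right_iff, Classical.not_imp] at h2
    have hfξ : f ξ = ξ₁ := hξy
    obtain ⟨x, hx, hxζ⟩ : ∃ x, ξ ⤳ x ∧ f x = ζ := by
      have hc : IsClosed (f '' closure {ξ}) := f.isClosedMap _ isClosed_closure
      have hm : f ξ ∈ f '' closure {ξ} := ⟨ξ, subset_closure rfl, rfl⟩
      obtain ⟨x, hx, hxζ⟩ := (hfξ.symm ▸ hξζ).mem_closed hc hm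
      exact ⟨x, specializes_iff_mem_closure.2 hx, hxζ⟩
    have hk := key ξ η x h1 hη hx (hxζ.symm ▸ hηζ)
    have hl := Groth.Agent.CycLib.le_of_deltaCompat f hδ x
    have h3 : δX ξ = δY ξ₁ := h2.1.trans (congrArg δY hfξ)
    rw [hxζ] at hl
    rw [← h3, hαr ξ h1, hβs η hη]
    omega
  · have hS : (Function.support ⇑α).Finite := by
      simpa using α.locallyFiniteSupport.finite_inter_support_of_isCompact isCompact_univ
    let S := hS.toFinset
    let sg : Bool → ℤ := fun i => if i then 1 else -1
    let G : Bool → Y.Modules := fun i => Cyc.cycleSheafPos (sg i • ⇑β)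
    have hFP : ∀ i, Groth.Agent.H9ChowK.FinPts (sg i • ⇑β) := fun i U =>
      (Groth.Agent.H9ChowK.finPts_cycle β U).subset
        (Set.inter_subset_inter_right _ (Function.support_const_smul_subset _ _))
    have hk : ∀ i w, (sg i • ⇑β) w ≠ 0 → δY w = s := fun i w hw => hβs w fun h0 => hw (by simp [h0])
    have hG := fun i => Groth.Agent.H9ChowK.cohLe_cycleSheafPos hY.2.2 (hFP i) (hk i)
    have hβG : ⇑β = Cyc.sheafFun δY s (G true) - Cyc.sheafFun δY s (G false) := by
      funext w
      rw [Pi.sub_apply, Groth.Agent.H9ChowK.sheafFun_cycleSheafPos hY.2.2 (hFP true) (hk true),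
        Groth.Agent.H9ChowK.sheafFun_cycleSheafPos hY.2.2 (hFP false) (hk false)]
      simp only [sg, Pi.smul_apply, smul_eq_mul, if_true, Bool.false_eq_true, if_false]
      omega
    have gG := fun i => Groth.Agent.H9Diag.finGen_sheafFun hY.2.2 (hG i).1 (hG i).2
    have pG := fun i => Groth.Agent.H23.FlatShift.sheafFun_pullback f δX δY hle s (G i) (hG i).2
    have gG' : ∀ i, Groth.Agent.H9Diag.FinGen (Cyc.pullFun f δX δY e (Cyc.sheafFun δY s (G i))) := fun i => by
      rw [(pG i).2]
      exact Groth.Agent.H9Diag.finGen_sheafFun hX.2.2 (Groth.Agent.ZClosLib.isCoh_pullback f (hG i).1) (pG i).1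
    have gβ : Groth.Agent.H9Diag.FinGen ⇑β := Groth.Agent.H9Diag.finGen_cycle β
    have gβ' : Groth.Agent.H9Diag.FinGen (Cyc.pullFun f δX δY e ⇑β) := by
      rw [hβG, Groth.Agent.H9Diag.pullFun_sub]
      exact (gG' true).sub (gG' false)
    let cf : X → ℤ := fun x => (AlgebraicCycle.mapCoeff f δX δY x : ℤ)
    let one : X → X → ℤ := fun ξ w => if w = ξ then 1 else 0
    let img : X → Y → ℤ := fun ξ w => if w = f ξ then cf ξ else 0
    have hαsum : ⇑α = fun w => ∑ ξ ∈ S, α ξ * one ξ w := by
      funext w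
      simp only [one, mul_ite, mul_one, mul_zero, Finset.sum_ite_eq, S, Set.Finite.mem_toFinset, Function.mem_support]
      by_cases hw : α w = 0 <;> simp [hw]
    have hmsum : ⇑(AlgebraicCycle.map f δX δY α) = fun w => ∑ ξ ∈ S, α ξ * img ξ w := by
      funext w
      rw [Groth.Agent.CycLib.map_apply', finsum_mem_eq_sum_of_subset _ (t := S.filter fun ξ => w = f ξ)
        (fun x hx => ?_) (fun x hx => ?_), Finset.sum_filter]
      · refine Finset.sum_congr rfl fun ξ _ => ?_
        simp only [img, cf]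
        split_ifs <;> simp
      · rw [Finset.coe_filter]
        exact ⟨by simpa [S] using left_ne_zero_of_mul hx.2, (show f x = w from hx.1).symm⟩
      · exact (Finset.mem_filter.1 hx).2.symm
    have hpt : ∀ ξ ∈ S, ((f ⁻¹' {y}) ∩ Function.support (fun x =>
        IntMult.interProd δX n (one ξ) (Cyc.pullFun f δX δY e ⇑β) x * cf x)).Finite ∧
        IntMult.interProd δY m (img ξ) ⇑β y =
        ∑ᶠ x ∈ f ⁻¹' {y}, IntMult.interProd δX n (one ξ) (Cyc.pullFun f δX δY e ⇑β) x * cf x := by
      intro ξ hξS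
      have hξ : α ξ ≠ 0 := by simpa [S] using hξS
      have hcase : ∀ i, IntMult.interProd δY m (img ξ) (Cyc.sheafFun δY s (G i)) y =
          ∑ᶠ x ∈ f ⁻¹' {y}, IntMult.interProd δX n (one ξ) (Cyc.pullFun f δX δY e (Cyc.sheafFun δY s (G i))) x * cf x := by
        intro i
        refine Groth.Agent.H9Diag.proj_point gX gY f hX hY hδX hδY hδ hn hm he hrel ξ (G i) (hG i).1 s (hG i).2
          (fun x hξx hx => ?_) y
        obtain ⟨η, hη, hηx⟩ := Groth.Agent.H9Diag.exists_of_nontrivial_cycleSheafPos (hFP i) hx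
        rw [hαr ξ hξ]
        exact key ξ η x hξ (fun h0 => hη.ne' (by simp [h0])) hξx hηx
      have hfin : ∀ i, ((f ⁻¹' {y}) ∩ Function.support (fun x =>
          IntMult.interProd δX n (one ξ) (Cyc.pullFun f δX δY e (Cyc.sheafFun δY s (G i))) x * cf x)).Finite :=
        fun i => by
          haveI : AlgebraicGeometry.IsNoetherian X := {}
          have hC : IsClosed (closure {ξ} ∩ f ⁻¹' {w : Y | Nontrivial ((G i).presheaf.stalk w)}) :=
            isClosed_closure.inter ((Groth.Agent.CycLib.isClosed_nontrivial (G i) (hG i).1).preimage f.continuous)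
          refine (Groth.Agent.H9Diag.finite_top_points hX.2.2 hC (l := r + s - m) (fun x hx => ?_)).subset fun x hx => ?_
          · obtain ⟨η, hη, hηx⟩ := Groth.Agent.H9Diag.exists_of_nontrivial_cycleSheafPos (hFP i) hx.2
            exact key ξ η x hξ (fun h0 => hη.ne' (by simp [h0])) (specializes_iff_mem_closure.2 hx.1) hηx
          · have h0 : IntMult.interProd δX n (one ξ) (Cyc.pullFun f δX δY e (Cyc.sheafFun δY s (G i))) x ≠ 0 :=
              left_ne_zero_of_mul hx.2
            obtain ⟨⟨⟨a, b⟩, ha, hb, hd⟩, hne⟩ := not_forall.1 (fun hall => h0 (finsum_eq_zero_of_forall_eq_zero hall))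
            obtain ⟨h1, h2⟩ := mul_ne_zero_iff.1 (left_ne_zero_of_mul hne)
            obtain rfl : a = ξ := by
              by_contra hax
              exact h1 (if_neg hax)
            rw [(pG i).2, Cyc.sheafFun] at h2
            split_ifs at h2 with hb'
            swap
            · exact absurd rfl h2
            have hbn : Nontrivial (((Scheme.Modules.pullback f).obj (G i)).presheaf.stalk b) :=
              Groth.Agent.H9Diag.nontrivial_of_length_ne_zero (by exact_mod_cast h2)
            refine ⟨⟨specializes_iff_mem_closure.1 ha, Groth.Agent.H23.FlatShift.nontrivial_of_pullback f _ x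
              (Groth.Agent.H9Diag.nontrivial_of_specializes _ (Groth.Agent.ZClosLib.isCoh_pullback f (hG i).1).1 hb hbn)⟩, ?_⟩
            dsimp only at hd hb'
            rw [hb', hαr a hξ] at hd
            omega
      rw [hβG, Groth.Agent.H9Diag.pullFun_sub,
        Groth.Agent.H9Diag.interProd_sub_right (Groth.Agent.H9Diag.finGen_indicator (f ξ) (cf ξ)) (gG true) (gG false),
        Groth.Agent.H9Diag.interProd_sub_right (Groth.Agent.H9Diag.finGen_indicator ξ 1) (gG' true) (gG' false),
        Pi.sub_apply, hcase, hcase, ← Groth.Agent.H9Diag.finsum_mem_sub_int (hfin true) (hfin false)]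
      refine ⟨((hfin true).union (hfin false)).subset ?_, finsum_mem_congr rfl fun x _ => by rw [Pi.sub_apply]; ring⟩
      rintro x ⟨hx, hne⟩
      simp only [Function.mem_support, Pi.sub_apply, sub_mul] at hne
      by_contra hc
      simp only [Set.mem_union, Set.mem_inter_iff, Function.mem_support, not_or, not_and, ne_eq, not_not] at hc
      exact hne (by rw [hc.1 hx, hc.2 hx, sub_zero])
    rw [Groth.Agent.CycLib.map_apply', hmsum,
      Groth.Agent.H9Diag.interProd_sum_left S (fun ξ => α ξ) img
        (fun ξ _ => Groth.Agent.H9Diag.finGen_indicator (f ξ) (cf ξ)) gβ y,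
      Finset.sum_congr rfl fun ξ hξ => by rw [(hpt ξ hξ).2]]
    rw [finsum_mem_congr rfl fun x _ => show γ x * (AlgebraicCycle.mapCoeff f δX δY x : ℤ) =
      ∑ ξ ∈ S, α ξ * (IntMult.interProd δX n (one ξ) (Cyc.pullFun f δX δY e ⇑β) x * cf x) by
        rw [hγ]
        conv_lhs => rw [hαsum]
        rw [Groth.Agent.H9Diag.interProd_sum_left S (fun ξ => α ξ) one
          (fun ξ _ => Groth.Agent.H9Diag.finGen_indicator ξ 1) gβ' x, Finset.sum_mul]
        exact Finset.sum_congr rfl fun ξ _ => mul_assoc _ _ _]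
    exact (Groth.Agent.H9Diag.finsum_mem_sum_comm S _ _ _ fun ξ hξ => (hpt ξ hξ).1).symm

end Groth.Agent.S1950
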