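import Groth.Statements.S1949
import Groth.Agent.H9Diag.P1Pull
import Groth.Agent.H9Assoc.Global
import Groth.Agent.S1950

set_option linter.style.haveILetI false
set_option backward.isDefEq.respectTransparency false
set_option maxHeartbeats 2000000
-- import your own Groth.Agent.* helpers here

set_option autoImplicit false
universe u
open CategoryTheory CategoryTheory.Limits AlgebraicGeometry
attribute [local instance] HasDerivedCategory.standard
open IntMult

namespace Groth.Agent.S1949

/-- Let W → P^1_X be a closed immersion with W integral of dimension s + 1 (for the dimension function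
δP on P^1_X induced from δ) dominating P^1_K (dense image under P^1_X → P^1_K), W_0, W_∞ → X its
pullbacks along the sections at 0 and ∞, and V ⊆ X the closure of a point v with δ(v) = r, such that
[V] intersects [W_0]_s and [W_∞]_s properly. Then [V]·[W_0]_s ∼_rat [V]·[W_∞]_s as (r + s −
n)-cycles on X. (The source allows any two closed points a, b of P^1; they are taken to be 0 and ∞,
to which any two distinct closed points are carried by an automorphism of P^1 over the algebraically
closed K.) Here X is a nonsingular variety over the algebraically closed field K (smooth, separated,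
quasi-compact, integral) with dimension function δ (transcendence degree) and n = dim X; cycles are
Mathlib AlgebraicCycles with Cyc.Zk membership, proper intersection is IntMult.IntersectProperly and
α · β is the Tor-formula intersection product on coefficient functions (IntMult.interProd), bundled
where needed as 'any cycle with these coefficients'. -/
theorem result (K : Type u) [Field K] [IsAlgClosed K] (X : Scheme.{u}) (f : X ⟶ Spec (CommRingCat.of K)) [Smooth f] [IsSeparated f] [QuasiCompact f] [IsIntegral X] (δ : X → ℤ) (hX : Cyc.IsSetup X δ) (hδ : Cyc.DeltaCompat f δ (fun _ => 0)) (n : ℤ) (hn : δ (genericPoint X) = n) (δP : ↥(CohB1.ProjSpaceOver 1 X) → ℤ) (hP : Cyc.DeltaCompat (CohB1.ProjSpaceOver.toBase 1 X) δP δ) (r s : ℤ) (W : Scheme.{u}) [IsIntegral W] (ιW : W ⟶ CohB1.ProjSpaceOver 1 X) [IsClosedImmersion ιW] (hW : δP (ιW (genericPoint W)) = s + 1) (hdom : ∀ U : (CohB1.ProjSpaceOver 1 (Spec (CommRingCat.of K))).Opens, (U : Set ↥(CohB1.ProjSpaceOver 1 (Spec (CommRingCat.of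 K)))).Nonempty → ∃ w : W, (ιW ≫ P1.toP1 f) w ∈ U) (v : X) (hv : δ v = r) (h0 : IntMult.IntersectProperly δ n (Set.indicator {v} 1) (Cyc.subschemeFun δ s (pullback.snd ιW (P1.sect X 0)))) (h1 : IntMult.IntersectProperly δ n (Set.indicator {v} 1) (Cyc.subschemeFun δ s (pullback.snd ιW (P1.sect X 1)))) (γ₀ γ₁ : AlgebraicCycle X ℤ) (hγ₀ : ⇑γ₀ = IntMult.interProd δ n (Set.indicator {v} 1) (Cyc.subschemeFun δ s (pullback.snd ιW (P1.sect X 0)))) (hγ₁ : ⇑γ₁ = IntMult.interProd δ n (Set.indicator {v} 1) (Cyc.subschemeFun δ s (pullback.snd ιW (P1.sect X 1)))) : Cyc.RatEquiv δ (r + s - n) γ₀ γ₁ := by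
  classical
  haveI := hX.1
  haveI : CompactSpace X := QuasiCompact.compactSpace_of_compactSpace f
  haveI := H9Diag.P1Geom.smooth_toBase X
  haveI := H9Diag.P1Geom.isProper_toBase X
  haveI := H9Diag.P1Geom.isIntegral_line f
  haveI : QuasiCompact (CohB1.ProjSpaceOver.toBase 1 X) := inferInstance
  haveI : CompactSpace ↥(CohB1.ProjSpaceOver 1 X) :=
    QuasiCompact.compactSpace_of_compactSpace (CohB1.ProjSpaceOver.toBase 1 X)
  let π := CohB1.ProjSpaceOver.toBase 1 X
  have hPs := H23.SetupLFT.isSetup π hX hP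
  haveI := hPs.1
  haveI : AlgebraicGeometry.IsNoetherian (CohB1.ProjSpaceOver 1 X) := {}
  haveI : AlgebraicGeometry.IsNoetherian X := {}
  have hδ'' : Cyc.DeltaCompat (π ≫ f) δP (fun _ => 0) := H9Diag.P1Cap.deltaCompat_point f hδ hP
  have hgen : δP (genericPoint ↥(CohB1.ProjSpaceOver 1 X)) = n + 1 := by
    rw [H9Diag.P1Geom.delta_generic f hX hP, hn]
  let σ : Fin (1 + 1) → X → ↥(CohB1.ProjSpaceOver 1 X) := fun i x => P1.sect X i x
  have hπσ : ∀ i x, π (σ i x) = x := fun i x => by
    show π (P1.sect X i x) = x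
    rw [← Scheme.Hom.comp_apply, H23.P1Sect.sect_toBase]; rfl
  have hσd : ∀ i x, δP (σ i x) = δ x := fun i x => H23.P1Fam.delta_sect hP i x
  have hrange : ∀ i z, σ i (genericPoint X) ⤳ z → ∃ x, σ i x = z := fun i z h =>
    h.mem_closed (P1.sect X i).isClosedEmbedding.isClosed_range ⟨_, rfl⟩
  have hσs : ∀ i x, σ i (genericPoint X) ⤳ σ i x := fun i x =>
    ((genericPoint_spec X).specializes (Set.mem_univ x)).map (P1.sect X i).continuous
  set w := ιW (genericPoint W) with hwdef
  have hwn : ∀ i, w ∉ Set.range (P1.sect X i) := by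
    intro i hi
    obtain ⟨w', hw'⟩ := hdom (H23.P1Sect.V _ (1 - i))
      ⟨_, H23.P1Sect.sect_mem (Spec (CommRingCat.of K)) (1 - i) (IsLocalRing.closedPoint K)⟩
    have hV : ιW w' ∈ H23.P1Sect.V X (1 - i) := by
      have e : P1.toP1 f ≫ H23.P1Sect.pr (Spec (CommRingCat.of K)) = H23.P1Sect.pr X := by
        simp [P1.toP1, H23.P1Sect.pr]
      show H23.P1Sect.pr X (ιW w') ∈ H23.P1Sect.jZ.{u} (1 - i) ''ᵁ ⊤
      rw [← e]
      exact hw'
    obtain ⟨x, hx⟩ := (((genericPoint_spec W).specializes (Set.mem_univ w')).map ιW.continuous).mem_closed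
      (P1.sect X i).isClosedEmbedding.isClosed_range hi
    exact H23.P1Fam.sect_ne i x (hx ▸ hV)
  -- the point over `v`
  haveI := H9Diag.P1Pull.isIntegral_fibre v
  set ζ := π.fiberι v (genericPoint ↥(π.fiber v)) with hζdef
  have hζv : π ζ = v := (π.range_fiberι v).le ⟨_, rfl⟩
  have hζσ : ∀ i, ζ ⤳ σ i v := fun i => by
    obtain ⟨b, hb⟩ : σ i v ∈ Set.range (π.fiberι v) := by rw [π.range_fiberι]; exact hπσ i v
    rw [← hb]
    exact ((genericPoint_spec ↥(π.fiber v)).specializes (Set.mem_univ b)).map (π.fiberι v).continuous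
  have hζd : δP ζ = r + 1 := by
    have h1 := H23.FlatShift.le_of_hasRelDim π (H9Diag.P1Geom.hasRelDim_toBase X) hP ζ
    rw [hζv, hv] at h1
    push_cast at h1
    have hne : ζ ≠ σ 0 v := fun e => by
      have h2 : σ 0 v ⤳ σ 1 v := e ▸ hζσ 1
      have h3 := CycLib.eq_of_delta_le hPs.2.2 h2 (by rw [hσd, hσd])
      exact H9Diag.P1Cap.disjoint_sect (i := 0) (j := 1) (by decide) v v h3
    have h2 := CycLib.delta_lt hPs.2.2 (hζσ 0) hne
    rw [hσd, hv] at h2
    omega
  have hvπ : ∀ z, ζ ⤳ z → v ⤳ π z := fun z h => hζv ▸ h.map π.continuous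
  have hh : ∀ i, IntMult.IntersectProperly δ n (Set.indicator {v} 1)
      (Cyc.subschemeFun δ s (pullback.snd ιW (P1.sect X i))) := by
    intro i; fin_cases i
    · exact h0
    · exact h1
  have hwi : ∀ i x, w ⤳ σ i x → v ⤳ x → δ x ≤ r + s - n := by
    intro i x hwx hvx
    obtain ⟨ξ, hξ, hξx, -, hne⟩ := H9Diag.P1Pull.exists_fib f hX hδ hP (k := s) hW i (hwn i) hwx
    rw [← H9Diag.P1Pull.subschemeFun_sect] at hne
    have := hh i v ξ x (by simp) hne hvx hξx
    rw [hv, hξ] at this
    exact this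
  have hloc : ∀ i x y, y ⤳ σ i x → w ⤳ y → ζ ⤳ y → δP y ≤ r + s - n + 1 := by
    intro i x y hy hwy hζy
    by_cases hmem : y ∈ Set.range (P1.sect X i)
    · obtain ⟨z, rfl⟩ := hmem
      have h := hvπ _ hζy
      rw [show π (P1.sect X i z) = z from hπσ i z] at h
      have := hwi i z hwy h
      have h2 : δP (P1.sect X i z) = δ z := hσd i z
      omega
    · obtain ⟨ξ, hξ, -, hyξ, -⟩ := H9Diag.P1Pull.exists_fib f hX hδ hP (k := δP y - 1) (w := y)
        (sub_add_cancel _ _).symm i hmem hy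
      have h := hvπ _ (hζy.trans hyξ)
      rw [show π (P1.sect X i ξ) = ξ from hπσ i ξ] at h
      have := hwi i ξ (hwy.trans hyξ) h
      omega
  set G := IntMult.interProd δP (n + 1) (Set.indicator {w} 1) (Set.indicator {ζ} 1) with hGdef
  -- the components of dimension `r + s - n + 1`
  let M : Set ↥(CohB1.ProjSpaceOver 1 X) := closure {w} ∩ closure {ζ}
  let T0 : Set ↥(CohB1.ProjSpaceOver 1 X) :=
    {y | y ∈ M ∧ δP y = r + s - n + 1 ∧ ∀ y' ∈ M, y' ⤳ y → y' = y}
  have hT0 : T0.Finite := by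
    obtain ⟨S, hSf, hSirr, hS⟩ := TopologicalSpace.NoetherianSpace.exists_finite_set_closeds_irreducible
      (⟨M, isClosed_closure.inter isClosed_closure⟩ : TopologicalSpace.Closeds ↥(CohB1.ProjSpaceOver 1 X))
    haveI := hSf.to_subtype
    refine (Set.finite_range fun t : S => (hSirr t.1 t.2).genericPoint).subset fun y hy => ?_
    obtain ⟨t, ht, hyt⟩ : ∃ t ∈ S, y ∈ t := by
      have hyC : y ∈ (⟨M, isClosed_closure.inter isClosed_closure⟩ : TopologicalSpace.Closeds ↥(CohB1.ProjSpaceOver 1 X)) := hy.1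
      rw [hS] at hyC
      haveI := hSf.fintype
      rw [← Set.coe_toFinset S, ← Finset.sup_id_eq_sSup, ← SetLike.mem_coe] at hyC
      simpa using hyC
    refine ⟨⟨t, ht⟩, ?_⟩
    have hsp := (hSirr t ht).isGenericPoint_genericPoint_closure
    rw [(TopologicalSpace.Closeds.isClosed t).closure_eq] at hsp
    exact hy.2.2 _ ((le_sSup ht).trans hS.ge hsp.mem) (hsp.specializes hyt)
  let T := hT0.toFinset
  let A : ↥(CohB1.ProjSpaceOver 1 X) → ℤ := fun z => ∑ η ∈ T, G η * (if z = η then 1 else 0)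
  have hTd : ∀ η ∈ T, δP η = r + s - n + 1 := fun η hη => (hT0.mem_toFinset.1 hη).2.1
  have hTn : ∀ η ∈ T, ∀ i, η ∉ Set.range (P1.sect X i) := by
    rintro η hη i ⟨x, rfl⟩
    obtain ⟨⟨hM1, hM2⟩, hd, -⟩ := hT0.mem_toFinset.1 hη
    have h := hvπ _ (specializes_iff_mem_closure.2 hM2)
    rw [show π (P1.sect X i x) = x from hπσ i x] at h
    have := hwi i x (specializes_iff_mem_closure.2 hM1) h
    have h2 : δP (P1.sect X i x) = δ x := hσd i x
    omega
  have hfg : ∀ z, H9Diag.FinGen (Set.indicator {z} (1 : ↥(CohB1.ProjSpaceOver 1 X) → ℤ)) := fun z y =>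
    (Set.finite_singleton z).subset fun u hu => Set.mem_of_indicator_ne_zero hu.2
  have hne : ∀ y : ↥(CohB1.ProjSpaceOver 1 X),
      Set.indicator {y} (1 : ↥(CohB1.ProjSpaceOver 1 X) → ℤ) y ≠ 0 := fun y => by simp
  have hS : ∀ i, δP (σ i (genericPoint X)) = n := fun i => (hσd i _).trans hn
  -- the fibre of the family over a coordinate point
  have hval : ∀ i x, IntMult.interProd δ n (Set.indicator {v} 1) (Cyc.subschemeFun δ s (pullback.snd ιW (P1.sect X i))) x =
      ∑ η ∈ T, G η * H9Diag.P1Cap.fibFun δ (r + s - n) η i x := by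
    intro i x
    have e1 : IntMult.interProd δP (n + 1) A (Set.indicator {σ i (genericPoint X)} 1) (σ i x) =
        ∑ η ∈ T, G η * H9Diag.P1Cap.fibFun δ (r + s - n) η i x := by
      rw [H9Diag.interProd_sum_left T _ _ (fun η _ => H9Diag.finGen_indicator η 1) (hfg _)]
      exact Finset.sum_congr rfl fun η hη => congrArg _
        (H9Diag.P1Cap.interProd_sect f hX hδ hn hP (hTd η hη) i (hTn η hη i) x)
    rw [← e1]
    set Si := σ i (genericPoint X) with hSi
    have e2 : IntMult.interProd δP (n + 1) A (Set.indicator {Si} 1) (σ i x) =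
        IntMult.interProd δP (n + 1) (Set.indicator {Si} 1) G (σ i x) := by
      rw [H9Assoc.interProd_comm δP _ (Set.indicator {Si} 1) G]
      refine finsum_congr ?_
      rintro ⟨⟨η, u⟩, hη, hu, hd⟩
      by_cases hu0 : Set.indicator {Si} (1 : ↥(CohB1.ProjSpaceOver 1 X) → ℤ) u = 0
      · simp [hu0]
      obtain rfl : u = Si := Set.eq_of_mem_singleton (Set.mem_of_indicator_ne_zero hu0)
      show A η * _ * _ = G η * _ * _
      congr 2
      by_cases hηT : η ∈ T
      · simp [A, Finset.sum_ite_eq, hηT]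
      · have hA0 : A η = 0 := by simp [A, Finset.sum_ite_eq, hηT]
        rw [hA0]
        by_contra hG0
        obtain ⟨h1', h2', h3'⟩ := (H9Assoc.interProd_points δP _ w ζ η).1 (Ne.symm hG0)
        rw [hW, hζd] at h3'
        refine hηT (hT0.mem_toFinset.2 ⟨⟨specializes_iff_mem_closure.1 h1', specializes_iff_mem_closure.1 h2'⟩,
          by omega, fun y hy hyη => CycLib.eq_of_delta_le hPs.2.2 hyη ?_⟩)
        have := hloc i x y (hyη.trans hη) (specializes_iff_mem_closure.2 hy.1) (specializes_iff_mem_closure.2 hy.2)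
        omega
    rw [e2]
    have e3 : IntMult.interProd δP (n + 1) (Set.indicator {Si} 1) G (σ i x) =
        IntMult.interProd δP (n + 1) (Set.indicator {ζ} 1)
          (IntMult.interProd δP (n + 1) (Set.indicator {Si} 1) (Set.indicator {w} 1)) (σ i x) := by
      by_cases h : w ⤳ σ i x ∧ ζ ⤳ σ i x ∧ δP (σ i x) = δP Si + δP w + δP ζ - 2 * (n + 1)
      · obtain ⟨ha, hb, hc⟩ := h
        obtain ⟨p1, q1⟩ := H9Assoc.interProd_side_local (π ≫ f) hδ'' hgen (ξU := Si) (ξV := w) (ξW := ζ)
          (hσs i x) ha hb hc (fun y hy hy1 hy2 => by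
            have := hloc i x y hy hy1 hy2
            rw [hW, hζd]; omega)
          (fun y hy hy0 hy1 hy2 => by
            obtain ⟨z, rfl⟩ := hrange i y hy0
            have h := hvπ _ hy2
            rw [hπσ] at h
            have := hwi i z hy1 h
            rw [hS, hW, hζd, hσd]; omega)
        obtain ⟨p2, q2⟩ := H9Assoc.interProd_side_local (π ≫ f) hδ'' hgen (ξU := ζ) (ξV := Si) (ξW := w)
          hb (hσs i x) ha (by omega) (fun y hy hy1 hy2 => by
            obtain ⟨z, rfl⟩ := hrange i y hy1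
            have := CycLib.delta_lt hPs.2.2 hy2 (fun e => hwn i ⟨z, e.symm⟩)
            rw [hW] at this
            rw [hS, hW]; omega)
          (fun y hy hy0 hy1 hy2 => by
            obtain ⟨z, rfl⟩ := hrange i y hy1
            have h := hvπ _ hy0
            rw [hπσ] at h
            have := hwi i z hy2 h
            rw [hS, hW, hζd, hσd]; omega)
        haveI : IsRegularLocalRing ((CohB1.ProjSpaceOver 1 X).presheaf.stalk (σ i x)) :=
          GrpSchLib.isRegularLocalRing_stalk_of_smooth (π ≫ f) _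
        rw [hGdef, q1, q2, H9Assoc.assoc _ _ _ p1 p2]
        exact finsum_congr fun j => by rw [H9Samuel.chi_comm]
      · rw [hGdef, H9Assoc.interProd_side_zero (fun h' => h ⟨h'.2.1, h'.2.2.1, h'.2.2.2⟩),
          H9Assoc.interProd_side_zero (fun h' => h ⟨h'.2.2.1, h'.1, by omega⟩)]
    rw [e3, H9Assoc.interProd_comm δP _ (Set.indicator {ζ} 1)]
    -- projection formula
    set GS := IntMult.interProd δP (n + 1) (Set.indicator {Si} 1) (Set.indicator {w} 1) with hGS
    have hGSσ : ∀ y, GS (σ i y) = Cyc.subschemeFun δ s (pullback.snd ιW (P1.sect X i)) y := by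
      intro y
      rw [hGS, H9Assoc.interProd_comm, H9Diag.P1Pull.subschemeFun_sect]
      have e : Set.indicator {w} (1 : ↥(CohB1.ProjSpaceOver 1 X) → ℤ) = fun z => if z = w then 1 else 0 := by
        funext z; simp [Set.indicator_apply]
      rw [e]
      exact H9Diag.P1Cap.interProd_sect f hX hδ hn hP hW i (hwn i) y
    have hGSs : ∀ z, GS z ≠ 0 → ∃ y, σ i y = z ∧ w ⤳ z ∧ δ y = s := by
      intro z hz
      obtain ⟨g1, g2, g3⟩ := (H9Assoc.interProd_points δP _ Si w z).1 hz
      obtain ⟨y, rfl⟩ := hrange i z g1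
      refine ⟨y, rfl, g2, ?_⟩
      rw [hσd, hS, hW] at g3
      omega
    have hcl : IsClosed {y : X | w ⤳ σ i y} := by
      have e : {y : X | w ⤳ σ i y} = P1.sect X i ⁻¹' closure {w} := by
        ext y; exact specializes_iff_mem_closure
      rw [e]; exact isClosed_closure.preimage (P1.sect X i).continuous
    have hsle : ∀ y ∈ {y : X | w ⤳ σ i y}, δ y ≤ s := fun y hy => by
      have := CycLib.delta_lt hPs.2.2 (show w ⤳ σ i y from hy) (fun e => hwn i ⟨y, e.symm⟩)
      rw [hW, hσd] at this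
      omega
    let α : AlgebraicCycle (CohB1.ProjSpaceOver 1 X) ℤ := ⟨GS, Set.subset_univ _, fun z _ => ⟨Set.univ, Filter.univ_mem,
      ((H9Diag.finite_top_points hX.2.2 hcl hsle).image (σ i)).subset fun z hz => by
        obtain ⟨y, rfl, g1, g2⟩ := hGSs z hz.2
        exact ⟨y, ⟨g1, g2⟩, rfl⟩⟩⟩
    let β : AlgebraicCycle X ℤ := ⟨Set.indicator {v} 1, Set.subset_univ _, fun z _ => ⟨Set.univ, Filter.univ_mem,
      (Set.finite_singleton v).subset fun y hy => Set.mem_of_indicator_ne_zero hy.2⟩⟩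
    have hpull : Cyc.pullFun π δP δ 1 ⇑β = Set.indicator {ζ} 1 :=
      H9Diag.P1Pull.pullFun_point hX hP hζv (by rw [hζd, hv])
    have hΓs : ∀ z, IntMult.interProd δP (n + 1) GS (Set.indicator {ζ} 1) z ≠ 0 →
        ∃ y, σ i y = z ∧ w ⤳ z ∧ v ⤳ y ∧ δ y = r + s - n := by
      intro z hz
      by_contra hc
      refine hz (finsum_eq_zero_of_forall_eq_zero ?_)
      rintro ⟨⟨a, b⟩, ha, hb, hd⟩
      by_contra h00
      simp only [mul_eq_zero, not_or] at h00
      obtain rfl : b = ζ := Set.eq_of_mem_singleton (Set.mem_of_indicator_ne_zero h00.1.2)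
      obtain ⟨a', rfl, ha1, ha2⟩ := hGSs a h00.1.1
      obtain ⟨y, rfl⟩ := hrange i z ((hσs i a').trans ha)
      have h := hvπ _ hb
      rw [hπσ] at h
      dsimp only at hd
      rw [hσd, hσd, hζd, ha2] at hd
      exact hc ⟨y, rfl, ha1.trans ha, h, by omega⟩
    have hcl2 : IsClosed ({y : X | w ⤳ σ i y} ∩ closure {v}) := hcl.inter isClosed_closure
    let γ : AlgebraicCycle (CohB1.ProjSpaceOver 1 X) ℤ := ⟨IntMult.interProd δP (n + 1) GS (Set.indicator {ζ} 1),
      Set.subset_univ _, fun z _ => ⟨Set.univ, Filter.univ_mem,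
      ((H9Diag.finite_top_points hX.2.2 hcl2 fun y hy => hwi i y hy.1
        (specializes_iff_mem_closure.2 hy.2)).image (σ i)).subset fun z hz => by
        obtain ⟨y, rfl, g1, g2, g3⟩ := hΓs z hz.2
        exact ⟨y, ⟨⟨g1, specializes_iff_mem_closure.1 g2⟩, g3⟩, rfl⟩⟩⟩
    have hproper : IntMult.IntersectProperly δP (n + 1) ⇑α (Cyc.pullFun π δP δ 1 ⇑β) := by
      rw [hpull]
      intro a b z ha hb haz hbz
      obtain rfl : b = ζ := Set.eq_of_mem_singleton (Set.mem_of_indicator_ne_zero hb)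
      obtain ⟨a', rfl, ha1, ha2⟩ := hGSs a ha
      obtain ⟨y, rfl⟩ := hrange i z ((hσs i a').trans haz)
      have h := hvπ _ hbz
      rw [hπσ] at h
      have := hwi i y (ha1.trans haz) h
      rw [hσd, hσd, hζd, ha2]
      omega
    have hproj := S1950.result K (CohB1.ProjSpaceOver 1 X) X π (π ≫ f) f rfl δP δ hPs hX hδ'' hδ hP
      (n + 1) n hgen hn 1 (by simp) (H9Diag.P1Geom.hasRelDim_toBase X) s r α β
      (fun z hz => by
        by_contra h00
        obtain ⟨y, rfl, -, hy⟩ := hGSs z h00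
        exact hz (by rw [hσd, hy]))
      (fun y hy => by
        refine Set.indicator_of_notMem (fun hm => hy ?_) _
        rw [Set.mem_singleton_iff.1 hm, hv])
      hproper γ (by simp only [Nat.cast_one]; rw [hpull]; rfl)
    have hmap : ∀ (c : AlgebraicCycle (CohB1.ProjSpaceOver 1 X) ℤ), (∀ z, c z ≠ 0 → ∃ y, σ i y = z) →
        ∀ y, AlgebraicCycle.map π δP δ c y = c (σ i y) := by
      intro c hc y
      rw [CycLib.map_apply', finsum_mem_eq_sum_of_inter_support_eq _ (t := {σ i y}) ?_, Finset.sum_singleton,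
        H23.P1Fam.mapCoeff_sect hP, Nat.cast_one, mul_one]
      ext p
      simp only [Set.mem_inter_iff, Set.mem_preimage, Set.mem_singleton_iff, Function.mem_support, Finset.coe_singleton]
      constructor
      · rintro ⟨hpx, hne0⟩
        refine ⟨?_, hne0⟩
        obtain ⟨y', rfl⟩ := hc p (left_ne_zero_of_mul hne0)
        exact congrArg (σ i) ((hπσ i y').symm.trans hpx)
      · rintro ⟨rfl, hne0⟩
        exact ⟨hπσ i y, hne0⟩
    have h2 := congrFun hproj.2 x
    rw [hmap γ (fun z hz => (hΓs z hz).imp fun _ h => h.1) x] at h2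
    refine Eq.trans ?_ h2
    rw [H9Assoc.interProd_comm δ n (Set.indicator {v} 1)]
    refine congrArg (fun a => IntMult.interProd δ n a (Set.indicator {v} 1) x) (funext fun y => ?_)
    rw [hmap α (fun z hz => (hGSs z hz).imp fun _ h => h.1) y]
    exact (hGSσ y).symm
  refine H23.RatOn.ratEquiv (T := Set.univ) (H23.RatOn.congr (H23.RatOn.sum hX.2.2 (fun η : ↥(T : Set ↥(CohB1.ProjSpaceOver 1 X)) => G η.1)
    (fun η x => H9Diag.P1Cap.fibFun δ (r + s - n) η.1 0 x - H9Diag.P1Cap.fibFun δ (r + s - n) η.1 1 x) (fun _ => Set.univ)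
    (fun _ => le_rfl) (fun η => H9Diag.P1Cap.zeroOn_point hX hP (hTd _ η.2) fun i => hTn _ η.2 i)
    fun x => ⟨Set.univ, isOpen_univ, trivial, Set.toFinite _⟩) fun x => ?_)
  rw [hγ₀, hγ₁, hval 0 x, hval 1 x, finsum_set_coe_eq_finsum_mem (f := fun η => G η *
        (H9Diag.P1Cap.fibFun δ (r + s - n) η 0 x - H9Diag.P1Cap.fibFun δ (r + s - n) η 1 x)) (T : Set ↥(CohB1.ProjSpaceOver 1 X)),
      finsum_mem_coe_finset, ← Finset.sum_sub_distrib]
  exact Finset.sum_congr rfl fun η _ => (mul_sub _ _ _).symm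

end Groth.Agent.S1949
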