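import Groth.Statements.S19493
import Groth.Agent.AssSTD.Basic
import Mathlib.AlgebraicGeometry.PullbackCarrier
import Mathlib.AlgebraicGeometry.Morphisms.Integral
-- import your own Groth.Agent.* helpers here

set_option autoImplicit false
universe u
open CategoryTheory AlgebraicGeometry
open EtHull


namespace Groth.Agent.S19493

/-- Let f : S' → S be a morphism of locally Noetherian schemes which is integral, radicial (universally
injective) and surjective, and which matches embedded points: a point s' of S' is an embedded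
associated point of O_{S'} (an associated point that is a proper specialization of another
associated point) if and only if f(s') is an embedded associated point of O_S. Let a : X → S be
faithfully flat, g : E → S étale and u : X → E a morphism with u ≫ g = a, so that X → E → S is a
factorization of a through an étale S-scheme. Let E' → S' be the base change of g along f, with
projection φ : E' → E, and u' : X' → E' the base change of u along φ (so X' = X ×_S S'). Then u is
scheme-theoretically dominant if and only if u' is. (The source allows algebraic spaces; schemes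
here.) -/
theorem result {X E S S' E' X' : Scheme.{u}}
    [IsLocallyNoetherian S] [IsLocallyNoetherian S'] (f : S' ⟶ S) [IsIntegralHom f]
    [UniversallyInjective f] [Surjective f]
    (hemb : ∀ s' : S', (s' ∈ AssSch.Ass (Coh.structureModule S') ∧ ∃ t ∈ AssSch.Ass (Coh.structureModule S'), t ⤳ s' ∧ t ≠ s') ↔
      (f.base s' ∈ AssSch.Ass (Coh.structureModule S) ∧ ∃ t ∈ AssSch.Ass (Coh.structureModule S), t ⤳ f.base s' ∧ t ≠ f.base s'))
    (a : X ⟶ S) [Flat a] [Surjective a] (g : E ⟶ S) [Etale g] (u : X ⟶ E) (hu : u ≫ g = a)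
    (g' : E' ⟶ S') (φ : E' ⟶ E) (hE : IsPullback φ g' g f)
    (u' : X' ⟶ E') (ψ : X' ⟶ X) (hX : IsPullback ψ u' u φ) :
    IsSchemeTheoreticallyDominant u ↔ IsSchemeTheoreticallyDominant u' := by
  haveI : IsLocallyNoetherian E := LocallyOfFiniteType.isLocallyNoetherian g
  haveI : Etale g' := MorphismProperty.IsStableUnderBaseChange.of_isPullback (P := @Etale) hE ‹Etale g›
  haveI : IsLocallyNoetherian E' := LocallyOfFiniteType.isLocallyNoetherian g'
  haveI : Flat u := by
    haveI : Flat (u ≫ g) := by rw [hu]; infer_instance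
    exact Groth.Agent.AssSTD.flat_of_comp_etale u g
  haveI : Flat u' := MorphismProperty.IsStableUnderBaseChange.of_isPullback (P := @Flat) hX ‹Flat u›
  haveI : Surjective φ := MorphismProperty.IsStableUnderBaseChange.of_isPullback (P := @Surjective) hE.flip ‹Surjective f›
  have hemb' := Topology.IsClosedEmbedding.of_continuous_injective_isClosedMap f.continuous f.injective f.isClosedMap
  have hmax : ∀ s', (∀ y, y ⤳ s' → y = s') ↔ ∀ y, y ⤳ f s' → y = f s' := fun s' => by
    refine ⟨fun h y hy => ?_, fun h y hy => hemb'.injective (h _ (hy.map f.continuous))⟩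
    obtain ⟨y, rfl⟩ := f.surjective y
    exact congrArg f (h y (hemb'.isInducing.specializes_iff.1 hy))
  have key : ∀ {Z : Scheme.{u}} [IsLocallyNoetherian Z] (z : Z), z ∈ AssSch.Ass (Coh.structureModule Z) ↔
      (∀ y, y ⤳ z → y = z) ∨ (z ∈ AssSch.Ass (Coh.structureModule Z) ∧
        ∃ t ∈ AssSch.Ass (Coh.structureModule Z), t ⤳ z ∧ t ≠ z) := fun {Z} _ z => by
    refine ⟨fun hz => ?_, fun h => h.elim Groth.Agent.AssLib.mem_ass_of_maximal And.left⟩
    by_cases h : ∃ t ∈ AssSch.Ass (Coh.structureModule Z), t ⤳ z ∧ t ≠ z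
    · exact Or.inr ⟨hz, h⟩
    · refine Or.inl fun y hy => ?_
      obtain ⟨m, hmy, hm⟩ := Groth.Agent.FibDim.exists_maximal_generization y
      have : m = z := by_contra fun hne => h ⟨m, Groth.Agent.AssLib.mem_ass_of_maximal hm, hmy.trans hy, hne⟩
      exact (hy.antisymm (this ▸ hmy)).eq
  have hS : ∀ s', s' ∈ AssSch.Ass (Coh.structureModule S') ↔ f s' ∈ AssSch.Ass (Coh.structureModule S) := fun s' => by
    rw [key s', key (f s'), hmax s', hemb s']
  have hEA : ∀ e', e' ∈ AssSch.Ass (Coh.structureModule E') ↔ φ e' ∈ AssSch.Ass (Coh.structureModule E) := fun e' => by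
    rw [Groth.Agent.AssSTD.mem_ass_iff_of_etale g', hS, Groth.Agent.AssSTD.mem_ass_iff_of_etale g,
      ← Scheme.Hom.comp_apply, ← Scheme.Hom.comp_apply, hE.w]
  have hr : Set.range u'.base = φ.base ⁻¹' Set.range u.base := by
    ext e'
    refine ⟨?_, fun ⟨x, hx⟩ => ?_⟩
    · rintro ⟨x', rfl⟩
      exact ⟨ψ x', by rw [← Scheme.Hom.comp_apply, hX.w, Scheme.Hom.comp_apply]⟩
    · obtain ⟨z, -, hz⟩ := Scheme.exists_preimage_of_isPullback hX x e' hx
      exact ⟨z, hz⟩
  rw [Groth.Agent.AssSTD.iff_ass_subset_range, Groth.Agent.AssSTD.iff_ass_subset_range, hr]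
  refine ⟨fun h e' he' => h ((hEA e').1 he'), fun h e he => ?_⟩
  obtain ⟨e', rfl⟩ := φ.surjective e
  exact h ((hEA e').2 he)

end Groth.Agent.S19493
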