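import Groth.Statements.S19496
import Groth.Agent.FibDimOne.Nef

set_option linter.style.haveILetI false
set_option backward.isDefEq.respectTransparency false
set_option backward.isDefEq.respectTransparency.types false

set_option autoImplicit false
universe u
open CategoryTheory CategoryTheory.Limits AlgebraicGeometry
open Curves

namespace Groth.Agent.S19496

/-- Let A be a Noetherian ring and f : X → Spec A a proper morphism such that H^1(X, O_X) = 0 and every
fibre of f has dimension at most one. Let L be an invertible O_X-module which is f-nef: for every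
one-dimensional integral closed subscheme C of X which f maps to a point — expressed here as: C lies
over Spec K → Spec A for some field K — the degree of L restricted to C, computed over K as χ(L|_C)
− χ(O_C), is nonnegative. Then L is globally generated (a quotient of a free O_X-module) and H^1(X,
L) = 0. -/
theorem result (A : Type u) [CommRing A]
    [IsNoetherianRing A] (X : Scheme.{u}) (f : X ⟶ Spec (CommRingCat.of A)) [IsProper f]
    (h1 : Subsingleton (Coh.HH X (Coh.structureModule X) 1))
    (hfib : ∀ y : ↥(Spec (CommRingCat.of A)), topologicalKrullDim ↥(f.fiber y) ≤ 1)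
    (L : X.Modules) (hL : PicF.IsInvertible L)
    (hnef : ∀ (K : Type u) [Field K] (i : A →+* K) (J : X.IdealSheafData)
      (t : J.subscheme ⟶ Spec (CommRingCat.of K)),
      AlgebraicGeometry.IsIntegral J.subscheme → topologicalKrullDim ↥J.subscheme = 1 →
      t ≫ Spec.map (CommRingCat.ofHom i) = J.subschemeι ≫ f →
      0 ≤ @Curv2.deg K _ J.subscheme ⟨t⟩ ((Scheme.Modules.pullback J.subschemeι).obj L) 1) :
    Curv2.IsGloballyGenerated L ∧ Subsingleton (Coh.HH X L 1) := by
  letI : X.Over (Spec (CommRingCat.of A)) := ⟨f⟩
  haveI : IsProper (X ↘ Spec (CommRingCat.of A)) := ‹IsProper f›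
  haveI := LocallyOfFiniteType.isLocallyNoetherian (X ↘ Spec (CommRingCat.of A))
  have hfib' : ∀ y, topologicalKrullDim ↥((X ↘ Spec (CommRingCat.of A)).fiber y) ≤ 1 := hfib
  have hc : ∀ m : Ideal A, m.IsMaximal →
      Groth.Agent.CurveReg.Cover ((Scheme.Modules.pullback (Groth.Agent.FibDimOne.inc X m)).obj L) := fun m hm => by
    haveI := hm
    letI : Field (A ⧸ m) := Ideal.Quotient.field m
    let i := Groth.Agent.FibDimOne.inc X m
    letI : (Groth.Agent.FibDimOne.fib A X m).Over (Spec (CommRingCat.of (A ⧸ m))) := ⟨pullback.snd _ _⟩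
    haveI : IsProper (Groth.Agent.FibDimOne.fib A X m ↘ Spec (CommRingCat.of (A ⧸ m))) :=
      Groth.Agent.FibDimOne.fib_proper (A := A) (X := X) m
    refine Groth.Agent.CurveReg.cover_of_nef (A ⧸ m) (Groth.Agent.FibDimOne.dim_fib_le hfib' m)
      (Groth.Agent.FibDimOne.subsingleton_h1_fib hfib' h1 m) (Groth.Agent.PicClLib.isInvertible_pullback _ hL)
      fun J' hJ hd => ?_
    haveI := hJ
    let j := J'.subschemeι ≫ i
    let e := asIso j.toImage
    let t := e.inv ≫ J'.subschemeι ≫ pullback.snd (X ↘ Spec (CommRingCat.of A))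
      (Spec.map (CommRingCat.ofHom (Ideal.Quotient.mk m)))
    haveI : Nonempty j.ker.subscheme := ⟨e.hom (genericPoint J'.subscheme)⟩
    haveI : IsIntegral j.ker.subscheme := isIntegral_of_isOpenImmersion e.inv
    have hd' : topologicalKrullDim j.ker.subscheme = 1 := by
      rw [← hd]
      exact le_antisymm e.inv.isOpenEmbedding.isInducing.topologicalKrullDim_le
        e.hom.isOpenEmbedding.isInducing.topologicalKrullDim_le
    have hr : e.inv ≫ J'.subschemeι ≫ i = j.ker.subschemeι := by
      rw [Iso.inv_comp_eq]
      exact j.toImage_imageι.symm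
    have h := hnef (A ⧸ m) (Ideal.Quotient.mk m) j.ker t inferInstance hd' (by
      rw [← hr]
      simp only [t, i, Category.assoc]
      rw [← pullback.condition]
      rfl)
    exact Groth.Agent.FibDimOne.deg_nonneg_of_iso (A ⧸ m) j.ker.subschemeι J'.subschemeι i e hr t rfl hL h hd'.le
  exact ⟨Groth.Agent.FibDimOne.isGloballyGenerated hfib' h1 hL hc,
    Groth.Agent.FibDimOne.subsingleton_h1 hfib' h1 hL hc
      (Groth.Agent.CurveDeg.isCoh_of_isInvertible hL) (𝟙 L)⟩

end Groth.Agent.S19496
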