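import Groth.Statements.S19502
import Mathlib

-- import your own Groth.Agent.* helpers here

set_option autoImplicit false
universe u
open W4c3ghconstell

namespace Groth.Agent.S19502

/-- Let ι index the irreducible representations, θ : ι → ℚ a weight which is negative exactly on the
finite set D₋, h h' : ι → ℕ with h' ≤ h pointwise (the isotypic dimensions of an object and of a
sub-object) and Σ_i θ_i h_i summable. For a finite set D of indices put S_D = Σ_{i ∉ D} θ_i h_i, d =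
#(D ∖ D₋) and θ̃_D = Σ_{i ∈ D} θ_i h'_i + (S_D / d) · Σ_{i ∈ D ∖ D₋} h'_i / h_i, the modified weight
attached to the parameters chosen for D (a quotient by zero is read as zero). Then for finite sets
D₋ ⊆ D ⊆ D̃ contained in the locus θ ≠ 0: (first error term) θ̃_{D̃} − θ̃_D = Σ_{τ ∈ D̃ ∖ D} (θ_τ
h_τ + S_{D̃}/d̃) · (h'_τ/h_τ − (1/d) Σ_{σ ∈ D ∖ D₋} h'_σ/h_σ); (second error term) Σ_i θ_i h'_i −
θ̃_D = Σ_{τ ∉ D} θ_τ h_τ · (h'_τ/h_τ − (1/d) Σ_{σ ∈ D ∖ D₋} h'_σ/h_σ). -/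
theorem result {ι : Type u} [DecidableEq ι]
    (θ : ι → ℚ) (h h' : ι → ℕ) (hle : ∀ i, h' i ≤ h i) (hfin : {i | θ i < 0}.Finite)
    (hsum : Summable (fun i => (θ i : ℝ) * (h i : ℝ))) (D D' : Finset ι)
    (hDm : hfin.toFinset ⊆ D) (hDD' : D ⊆ D') (hsupp : ∀ i ∈ D', θ i ≠ 0) :
    (((∑ i ∈ D', (θ i : ℝ) * (h' i : ℝ)) + ((∑' i, if i ∈ D' then (0 : ℝ) else (θ i : ℝ) * (h i : ℝ)) / ((D' \ hfin.toFinset).card : ℝ)) * (∑ σ ∈ D' \ hfin.toFinset, ((h' σ : ℝ) / (h σ : ℝ)))) - ((∑ i ∈ D, (θ i : ℝ) * (h' i : ℝ)) + ((∑' i, if i ∈ D then (0 : ℝ) else (θ i : ℝ) * (h i : ℝ)) / ((D \ hfin.toFinset).card : ℝ)) * (∑ σ ∈ D \ hfin.toFinset, ((h' σ : ℝ) / (h σ : ℝ)))) =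
      ∑ τ ∈ D' \ D, ((θ τ : ℝ) * (h τ : ℝ) + (∑' i, if i ∈ D' then (0 : ℝ) else (θ i : ℝ) * (h i : ℝ)) / ((D' \ hfin.toFinset).card : ℝ)) *
        (((h' τ : ℝ) / (h τ : ℝ)) - (1 / ((D \ hfin.toFinset).card : ℝ)) * (∑ σ ∈ D \ hfin.toFinset, ((h' σ : ℝ) / (h σ : ℝ))))) ∧
    ((∑' i, (θ i : ℝ) * (h' i : ℝ)) - ((∑ i ∈ D, (θ i : ℝ) * (h' i : ℝ)) + ((∑' i, if i ∈ D then (0 : ℝ) else (θ i : ℝ) * (h i : ℝ)) / ((D \ hfin.toFinset).card : ℝ)) * (∑ σ ∈ D \ hfin.toFinset, ((h' σ : ℝ) / (h σ : ℝ)))) =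
      ∑' τ, if τ ∈ D then (0 : ℝ) else (θ τ : ℝ) * (h τ : ℝ) *
        (((h' τ : ℝ) / (h τ : ℝ)) - (1 / ((D \ hfin.toFinset).card : ℝ)) * (∑ σ ∈ D \ hfin.toFinset, ((h' σ : ℝ) / (h σ : ℝ))))) := by
  classical
  set f : ι → ℝ := fun i => (θ i : ℝ) * (h i : ℝ) with hf
  set g : ι → ℝ := fun i => (θ i : ℝ) * (h' i : ℝ) with hg
  set r : ι → ℝ := fun i => (h' i : ℝ) / (h i : ℝ) with hrdef
  have hfr : ∀ i, f i * r i = g i := by
    intro i
    simp only [f, g, r]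
    rcases Nat.eq_zero_or_pos (h i) with h0 | h0
    · have : h' i = 0 := Nat.le_zero.mp (h0 ▸ hle i)
      simp [h0, this]
    · have : (h i : ℝ) ≠ 0 := by positivity
      field_simp
  have hs' : Summable g := by
    refine Summable.of_norm_bounded hsum.abs fun i => ?_
    simp only [f, g, Real.norm_eq_abs, abs_mul, Nat.abs_cast]
    exact mul_le_mul_of_nonneg_left (by exact_mod_cast hle i) (abs_nonneg _)
  have hout : ∀ (u : ι → ℝ), Summable u → ∀ D : Finset ι,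
      HasSum (fun i => if i ∈ D then (0 : ℝ) else u i) (∑' i, u i - ∑ i ∈ D, u i) := by
    intro u hu D
    have h1 : HasSum (fun i => if i ∈ D then u i else 0) (∑ i ∈ D, u i) := by
      have := hasSum_sum_of_ne_finset_zero (f := fun i => if i ∈ D then u i else 0) (s := D)
        (L := SummationFilter.unconditional ι) (by intro b hb; simp [hb])
      rwa [Finset.sum_congr rfl fun i hi => if_pos hi] at this
    refine (hu.hasSum.sub h1).congr_fun fun i => ?_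
    by_cases hi : i ∈ D <;> simp [hi]
  have hout' : ∀ D : Finset ι, (∑' i, if i ∈ D then (0 : ℝ) else f i) =
      ∑' i, f i - ∑ i ∈ D, f i := fun D => (hout f hsum D).tsum_eq
  set Dm := hfin.toFinset with hDmdef
  change ((∑ i ∈ D', g i) + (_ / _) * (∑ σ ∈ D' \ Dm, r σ)) -
      ((∑ i ∈ D, g i) + (_ / _) * (∑ σ ∈ D \ Dm, r σ)) =
      (∑ τ ∈ D' \ D, (f τ + _ / _) * (r τ - _ * ∑ σ ∈ D \ Dm, r σ)) ∧
    (∑' i, g i) - ((∑ i ∈ D, g i) + (_ / _) * ∑ σ ∈ D \ Dm, r σ) =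
      ∑' τ, if τ ∈ D then (0 : ℝ) else f τ * (r τ - _ * ∑ σ ∈ D \ Dm, r σ)
  constructor
  · change (∑ i ∈ D', g i) + ((∑' i, if i ∈ D' then (0 : ℝ) else f i) / ((D' \ Dm).card : ℝ)) *
        (∑ σ ∈ D' \ Dm, r σ) -
        ((∑ i ∈ D, g i) + ((∑' i, if i ∈ D then (0 : ℝ) else f i) / ((D \ Dm).card : ℝ)) *
          (∑ σ ∈ D \ Dm, r σ)) =
      ∑ τ ∈ D' \ D, (f τ + (∑' i, if i ∈ D' then (0 : ℝ) else f i) / ((D' \ Dm).card : ℝ)) *
        (r τ - 1 / ((D \ Dm).card : ℝ) * ∑ σ ∈ D \ Dm, r σ)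
    have hsplit : D' \ Dm = (D' \ D) ∪ (D \ Dm) := by
      ext x
      simp only [Finset.mem_sdiff, Finset.mem_union]
      constructor
      · rintro ⟨hx, hx'⟩
        by_cases hxD : x ∈ D
        · exact Or.inr ⟨hxD, hx'⟩
        · exact Or.inl ⟨hx, hxD⟩
      · rintro (⟨hx, hx'⟩ | ⟨hx, hx'⟩)
        · exact ⟨hx, fun e => hx' (hDm e)⟩
        · exact ⟨hDD' hx, hx'⟩
    have hdj : Disjoint (D' \ D) (D \ Dm) := Finset.disjoint_left.mpr fun x hx hx' =>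
      (Finset.mem_sdiff.mp hx).2 (Finset.mem_sdiff.mp hx').1
    have hfS : ∑ i ∈ D', f i = ∑ i ∈ D' \ D, f i + ∑ i ∈ D, f i := (Finset.sum_sdiff hDD').symm
    have hgS : ∑ i ∈ D', g i = ∑ i ∈ D' \ D, g i + ∑ i ∈ D, g i := (Finset.sum_sdiff hDD').symm
    rw [hout', hout', hgS, hsplit, Finset.sum_union hdj, Finset.card_union_of_disjoint hdj, hfS]
    simp only [add_mul, mul_sub, Finset.sum_add_distrib, Finset.sum_sub_distrib, ← Finset.sum_mul,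
      ← Finset.mul_sum, hfr, Finset.sum_const, nsmul_eq_mul, Nat.cast_add]
    rcases Nat.eq_zero_or_pos (D \ Dm).card with hd | hd
    · have hA : ∑ σ ∈ D \ Dm, r σ = 0 := by rw [Finset.card_eq_zero.mp hd, Finset.sum_empty]
      rw [hA]
      simp only [hd, Nat.cast_zero]
      ring
    · have hd' : ((D \ Dm).card : ℝ) ≠ 0 := by positivity
      have hd'' : ((D' \ D).card : ℝ) + ((D \ Dm).card : ℝ) ≠ 0 := by positivity
      field_simp
      ring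
  · set c := 1 / ((D \ Dm).card : ℝ) * ∑ σ ∈ D \ Dm, r σ with hc
    have hu : HasSum (fun τ => if τ ∈ D then (0 : ℝ) else f τ * (r τ - c))
        ((∑' i, g i - ∑ i ∈ D, g i) - c * (∑' i, f i - ∑ i ∈ D, f i)) := by
      refine ((hout g hs' D).sub ((hout f hsum D).mul_left c)).congr_fun fun i => ?_
      by_cases hi : i ∈ D
      · simp [hi]
      · simp only [if_neg hi, mul_sub, hfr]
        ring
    rw [hu.tsum_eq, hout', hc]
    ring


end Groth.Agent.S19502
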