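import Groth.Statements.S19508
import Groth.Agent.S3904
import Groth.Agent.Deform.Homogeneous.Action
import Groth.Agent.GrpSchLib.AntiAffineHom
import Groth.Agent.EtFound.Descent


set_option autoImplicit false
universe u
open CategoryTheory MonoidalCategory CartesianMonoidalCategory MonObj GrpObj AlgebraicGeometry
open AGF

namespace Groth.Agent.S19508

open Limits
attribute [local instance] CategoryTheory.Hom.monoid CategoryTheory.Hom.group

/-- The base change of a quotient is a quotient. -/
theorem isQuotient_bc {S S' : Scheme.{u}} (f : S' ⟶ S) {G H X : Over S} [GrpObj G] [GrpObj H] {i : H ⟶ G}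
    {a : AlgGrp.Action G X} {o : 𝟙_ (Over S) ⟶ X} (hX : AGF.IsQuotient i X a o) :
    AGF.IsQuotient ((Over.pullback f).map i) (Red.bc f X) (Deform.Homogeneous.bcAction a f)
      (Functor.LaxMonoidal.ε (Over.pullback f) ≫ (Over.pullback f).map o) := by
  let F := Over.pullback f
  obtain ⟨h1, h2, h3, h4⟩ := hX
  haveI := h1; haveI := h2; haveI := h3
  have horb : (Deform.Homogeneous.bcAction a f).orbitMap (Functor.LaxMonoidal.ε F ≫ F.map o) =
      F.map (a.orbitMap o) := by
    show lift (𝟙 (F.obj G)) (toUnit (F.obj G) ≫ Functor.LaxMonoidal.ε F ≫ F.map o) ≫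
      Functor.LaxMonoidal.μ F G X ≫ F.map a.act = F.map (lift (𝟙 G) (toUnit G ≫ o) ≫ a.act)
    have e : F.map (lift (𝟙 G) (toUnit G ≫ o)) =
        lift (𝟙 (F.obj G)) (toUnit (F.obj G) ≫ Functor.LaxMonoidal.ε F ≫ F.map o) ≫ Functor.LaxMonoidal.μ F G X := by
      have e1 : F.map (toUnit G) = toUnit (F.obj G) ≫ Functor.LaxMonoidal.ε F :=
        (Functor.Monoidal.εIso F).comp_inv_eq.mp (toUnit_unique _ _)
      have e2 : toUnit (F.obj G) ≫ Functor.LaxMonoidal.ε F ≫ F.map o = F.map (toUnit G ≫ o) := by
        rw [Functor.map_comp, e1, Category.assoc]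
      rw [e2]
      refine (Iso.comp_inv_eq (Functor.Monoidal.μIso F G X)).mp ?_
      apply CartesianMonoidalCategory.hom_ext <;> simp [← Functor.map_comp]
    rw [Functor.map_comp, e, Category.assoc]
  refine ⟨inferInstanceAs (LocallyOfFiniteType (pullback.snd X.hom f)), ?_, ?_, ?_⟩
  · rw [horb]
    exact MorphismProperty.baseChange_map (P := @Flat) f (a.orbitMap o) h2
  · rw [horb]
    exact MorphismProperty.baseChange_map (P := @Surjective) f (a.orbitMap o) h3
  · rw [horb]
    refine IsPullback.of_iso (h4.map F) (Functor.Monoidal.μIso F G H).symm (Iso.refl _) (Iso.refl _) (Iso.refl _)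
      ?_ ?_ (by simp) (by simp)
    · simp [F]
    · rw [Iso.refl_hom, Category.comp_id, Iso.symm_hom]
      refine (Iso.eq_inv_comp _).mpr ?_
      rw [Functor.Monoidal.μIso_hom]
      show Functor.LaxMonoidal.μ F G H ≫ F.map ((G ◁ i) ≫ μ[G]) =
        (F.obj G ◁ F.map i) ≫ Functor.LaxMonoidal.μ F G G ≫ F.map μ[G]
      rw [Functor.map_comp, Functor.LaxMonoidal.μ_natural_right_assoc]

/-- Let k be a field, G an affine, smooth, connected k-group scheme, P a smooth connected closed
k-subgroup scheme of G and X = G/P the quotient. Then X is proper over k if and only if, after base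
change to an algebraic closure of k (the geometric fibre over the point of Spec k), P contains a
Borel subgroup of G. (Over an algebraically closed field this is the usual characterisation of
parabolic subgroups; the point here is an arbitrary ground field.) -/
theorem result (k : Type u) [Field k]
    (G : Over (Spec (CommRingCat.of k))) [GrpObj G] [IsAffine G.left] [Smooth G.hom] [ConnectedSpace G.left]
    (P : Over (Spec (CommRingCat.of k))) [GrpObj P] (iP : P ⟶ G) [IsMonHom iP] (hcl : IsClosedImmersion iP.left)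
    [Smooth P.hom] [ConnectedSpace P.left]
    (X : Over (Spec (CommRingCat.of k))) (a : AlgGrp.Action G X) (o : 𝟙_ (Over (Spec (CommRingCat.of k))) ⟶ X)
    (hX : AGF.IsQuotient iP X a o) :
    IsProper X.hom ↔ Red.IsParabolic iP := by
  haveI := hcl
  haveI : LocallyOfFiniteType X.hom := hX.1
  haveI : Subsingleton ↥(Spec (CommRingCat.of k)) := inferInstanceAs (Subsingleton (PrimeSpectrum k))
  have key : ∀ (K : Type u) [Field K] [IsAlgClosed K] (σ : Spec (CommRingCat.of K) ⟶ Spec (CommRingCat.of k)),
      IsProper X.hom ↔ Red.IsParabolicOver K ((Over.pullback σ).map iP) := by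
    intro K _ _ σ
    obtain ⟨φ, rfl⟩ : ∃ φ, Spec.map φ = σ := ⟨_, Spec.map_preimage σ⟩
    haveI : IsAffine (Red.bc (Spec.map φ) G).left := inferInstanceAs (IsAffine (pullback G.hom (Spec.map φ)))
    haveI : Smooth (Red.bc (Spec.map φ) G).hom := inferInstanceAs (Smooth (pullback.snd G.hom (Spec.map φ)))
    haveI : Smooth (Red.bc (Spec.map φ) P).hom := inferInstanceAs (Smooth (pullback.snd P.hom (Spec.map φ)))
    haveI : ConnectedSpace ↥(Red.bc (Spec.map φ) G).left :=
      Groth.Agent.GrpSchLib.AntiAffine.connectedSpace_bc G φ.hom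
    rw [← Groth.Agent.S3904.result K (Red.bc (Spec.map φ) G) (Red.bc (Spec.map φ) P) ((Over.pullback (Spec.map φ)).map iP)
      (MorphismProperty.baseChange_map (P := @IsClosedImmersion) (Spec.map φ) iP hcl)
      (Red.bc (Spec.map φ) X) _ _ (isQuotient_bc (Spec.map φ) hX)]
    show IsProper X.hom ↔ IsProper (pullback.snd X.hom (Spec.map φ))
    refine ⟨fun h => inferInstance, fun h => ?_⟩
    haveI : Flat (Spec.map φ) := by
      rw [HasRingHomProperty.Spec_iff (P := @Flat)]
      letI := φ.hom.toAlgebra
      show Module.Flat k K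
      infer_instance
    haveI : Surjective (Spec.map φ) := ⟨fun x => ⟨IsLocalRing.closedPoint K, Subsingleton.elim _ _⟩⟩
    haveI := Groth.Agent.EtFound.fpqc_isProper.{u}
    exact MorphismProperty.of_isPullback_of_descendsAlong (P := @IsProper)
      (Q := @Surjective ⊓ @Flat ⊓ @QuasiCompact) (IsPullback.of_hasPullback X.hom (Spec.map φ)).flip
      ⟨⟨inferInstance, inferInstance⟩, inferInstance⟩ h
  constructor
  · intro h
    exact ⟨inferInstance, hcl, inferInstance, fun s => (key _ (Red.geomPt s)).mp h⟩
  · rintro ⟨-, -, -, h⟩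
    exact (key _ (Red.geomPt (IsLocalRing.closedPoint k))).mpr (h _)

end Groth.Agent.S19508
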