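import Groth.Statements.S1951
import Groth.Agent.H9Diag.ExtProd

set_option linter.style.haveILetI false
set_option backward.isDefEq.respectTransparency false

set_option autoImplicit false
universe u
open CategoryTheory CategoryTheory.Limits AlgebraicGeometry
attribute [local instance] HasDerivedCategory.standard
open IntMult

set_option maxHeartbeats 2000000

namespace Groth.Agent.S1951

/-- Let X, Y be nonsingular varieties over K of dimensions n, m, α an r-cycle on X and β an s-cycle on
Y. Then pr_X^*α and pr_Y^*β (flat pullbacks to X ×_K Y, of relative dimensions m and n) intersect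
properly on X ×_K Y and pr_X^*α · pr_Y^*β = α × β as (r + s)-cycles, coefficientwise. Here X is a
nonsingular variety over the algebraically closed field K (smooth, separated, quasi-compact,
integral) with dimension function δ (transcendence degree) and n = dim X; cycles are Mathlib
AlgebraicCycles with Cyc.Zk membership, proper intersection is IntMult.IntersectProperly and α · β
is the Tor-formula intersection product on coefficient functions (IntMult.interProd), bundled where
needed as 'any cycle with these coefficients'. -/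
theorem result (K : Type u) [Field K] [IsAlgClosed K] (X Y : Scheme.{u}) (f : X ⟶ Spec (CommRingCat.of K)) (g : Y ⟶ Spec (CommRingCat.of K)) [Smooth f] [IsSeparated f] [QuasiCompact f] [IsIntegral X] [Smooth g] [IsSeparated g] [QuasiCompact g] [IsIntegral Y] (δX : X → ℤ) (δY : Y → ℤ) (δ : ↥(pullback f g) → ℤ) (hX : Cyc.DeltaCompat f δX (fun _ => 0)) (hY : Cyc.DeltaCompat g δY (fun _ => 0)) (hXY : Cyc.DeltaCompat (pullback.fst f g ≫ f) δ (fun _ => 0)) (n m : ℕ) (hn : δX (genericPoint X) = n) (hm : δY (genericPoint Y) = m) (r s : ℤ) (α : AlgebraicCycle X ℤ) (β : AlgebraicCycle Y ℤ) (hα : α ∈ Cyc.Zk X δX r) (hβ : β ∈ Cyc.Zk Y δY s) : IntMult.IntersectProperly δ (n + m) (Cyc.pullFun (pullback.fst f g) δ δX m ⇑α) (Cyc.pullFun (pullback.snd f g) δ δY n ⇑β) ∧ IntMult.interProd δ (n + m) (Cyc.pullFun (pullback.fst f g) δ δX m ⇑α) (Cyc.pullFun (pullback.snd f g) δ δY n ⇑β) = IntMult.extProd f g δX δY δ ⇑α ⇑β := by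
  classical
  obtain ⟨hPint, hnm⟩ := Groth.Agent.H9Diag.prod_data f g hX hY hXY hn hm
  haveI := hPint
  let p := pullback.fst f g
  let q := pullback.snd f g
  haveI : CompactSpace X := QuasiCompact.compactSpace_of_compactSpace f
  haveI : CompactSpace Y := QuasiCompact.compactSpace_of_compactSpace g
  haveI : IsLocallyNoetherian X := LocallyOfFiniteType.isLocallyNoetherian f
  haveI : IsLocallyNoetherian Y := LocallyOfFiniteType.isLocallyNoetherian g
  haveI : IsLocallyNoetherian (pullback f g) := LocallyOfFiniteType.isLocallyNoetherian (p ≫ f)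
  have hdX := Groth.Agent.CycLib.isDimFun_of_deltaCompat f (Groth.Agent.CycLib.isSetup_spec_field K) hX
  have hdY := Groth.Agent.CycLib.isDimFun_of_deltaCompat g (Groth.Agent.CycLib.isSetup_spec_field K) hY
  have hd := Groth.Agent.CycLib.isDimFun_of_deltaCompat (p ≫ f) (Groth.Agent.CycLib.isSetup_spec_field K) hXY
  have hadd : ∀ z, δ z ≤ δX (p z) + δY (q z) := Groth.Agent.H9Diag.delta_le_add f g hX hY hXY
  have hp : ∀ z, δ z ≤ δX (p z) + m := fun z => by
    have := hadd z
    have := Groth.Agent.H9Diag.delta_le_generic g hY hm (q z)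
    omega
  have hq : ∀ z, δ z ≤ δY (q z) + n := fun z => by
    have := hadd z
    have := Groth.Agent.H9Diag.delta_le_generic f hX hn (p z)
    omega
  have hαr : ∀ x, α x ≠ 0 → δX x = r := fun x hx => by_contra fun hne => hx (hα x hne)
  have hβs : ∀ y, β y ≠ 0 → δY y = s := fun y hy => by_contra fun hne => hy (hβ y hne)
  refine ⟨fun ξ' η' ζ hξ hη hξζ hηζ => ?_, funext fun z => ?_⟩
  · simp only [Cyc.pullFun] at hξ hη
    split_ifs at hξ hη with h1 h2 <;> try exact absurd rfl hξ
    all_goals try exact absurd rfl hη
    have a1 := Groth.Agent.CycLib.delta_le hdX (hξζ.map p.continuous)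
    have a2 := Groth.Agent.CycLib.delta_le hdY (hηζ.map q.continuous)
    have a3 := hadd ζ
    have h1' : δ ξ' = δX (p ξ') + m := h1
    have h2' : δ η' = δY (q η') + n := h2
    omega
  · have hS : (Function.support ⇑α).Finite := by
      simpa using α.locallyFiniteSupport.finite_inter_support_of_isCompact isCompact_univ
    have hT : (Function.support ⇑β).Finite := by
      simpa using β.locallyFiniteSupport.finite_inter_support_of_isCompact isCompact_univ
    let F := fun ξ : X => (Scheme.Modules.pullback p).obj (Cyc.closureStructureSheaf ξ)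
    let G := fun η : Y => (Scheme.Modules.pullback q).obj (Cyc.closureStructureSheaf η)
    have cF : ∀ ξ, Coh.IsCoh (F ξ) := fun ξ =>
      Groth.Agent.ZClosLib.isCoh_pullback p (Groth.Agent.H9ChowK.isCoh_closure ξ)
    have cG : ∀ η, Coh.IsCoh (G η) := fun η =>
      Groth.Agent.ZClosLib.isCoh_pullback q (Groth.Agent.H9ChowK.isCoh_closure η)
    have pF := fun ξ : X => Groth.Agent.H23.FlatShift.sheafFun_pullback p δ δX hp (δX ξ) (Cyc.closureStructureSheaf ξ)
      fun w hw => Groth.Agent.CycLib.delta_le hdX ((Groth.Agent.H9Diag.nontrivial_closure_iff ξ w).1 hw)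
    have pG := fun η : Y => Groth.Agent.H23.FlatShift.sheafFun_pullback q δ δY hq (δY η) (Cyc.closureStructureSheaf η)
      fun w hw => Groth.Agent.CycLib.delta_le hdY ((Groth.Agent.H9Diag.nontrivial_closure_iff η w).1 hw)
    have hαsum : Cyc.pullFun p δ δX m ⇑α =
        fun w => ∑ ξ ∈ hS.toFinset, α ξ * Cyc.sheafFun δ (δX ξ + m) (F ξ) w := by
      funext w
      simp only [F]
      rw [Finset.sum_congr rfl fun ξ _ => by rw [← (pF ξ).2]]
      simp only [Cyc.pullFun]
      split_ifs
      · simp only [← mul_assoc, ← Finset.sum_mul]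
        congr 1
        simp only [Groth.Agent.H9Diag.sheafFun_closure hdX, mul_ite, mul_one, mul_zero, Finset.sum_ite_eq,
          Set.Finite.mem_toFinset, Function.mem_support]
        by_cases h : α (p w) = 0 <;> simp [h]
      · simp
    have hβsum : Cyc.pullFun q δ δY n ⇑β =
        fun w => ∑ η ∈ hT.toFinset, β η * Cyc.sheafFun δ (δY η + n) (G η) w := by
      funext w
      simp only [G]
      rw [Finset.sum_congr rfl fun η _ => by rw [← (pG η).2]]
      simp only [Cyc.pullFun]
      split_ifs
      · simp only [← mul_assoc, ← Finset.sum_mul]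
        congr 1
        simp only [Groth.Agent.H9Diag.sheafFun_closure hdY, mul_ite, mul_one, mul_zero, Finset.sum_ite_eq,
          Set.Finite.mem_toFinset, Function.mem_support]
        by_cases h : β (q w) = 0 <;> simp [h]
      · simp
    have gF := fun ξ => Groth.Agent.H9Diag.finGen_sheafFun hd (cF ξ) (pF ξ).1
    have gG := fun η => Groth.Agent.H9Diag.finGen_sheafFun hd (cG η) (pG η).1
    have gsum : Groth.Agent.H9Diag.FinGen (fun w => ∑ η ∈ hT.toFinset, β η * Cyc.sheafFun δ (δY η + n) (G η) w) := by
      intro ζ
      refine ((hT.toFinset.finite_toSet.biUnion fun η _ => gG η ζ)).subset fun w hw => ?_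
      obtain ⟨η, hη, hne⟩ := Finset.exists_ne_zero_of_sum_ne_zero hw.2
      exact Set.mem_biUnion hη ⟨hw.1, right_ne_zero_of_mul hne⟩
    let L : ↥(pullback f g) → ℤ := fun z => ((Module.length ((pullback f g).presheaf.stalk z)
        (↑((pullback f g).presheaf.stalk z) ⧸
          ((IsLocalRing.maximalIdeal (X.presheaf.stalk (p z))).map (p.stalkMap z).hom ⊔
            (IsLocalRing.maximalIdeal (Y.presheaf.stalk (q z))).map (q.stalkMap z).hom))).toNat : ℤ)
    have hterm : ∀ ξ ∈ hS.toFinset, ∀ η ∈ hT.toFinset, IntMult.interProd δ (n + m)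
        (Cyc.sheafFun δ (δX ξ + m) (F ξ)) (Cyc.sheafFun δ (δY η + n) (G η)) z =
        if δ z = r + s ∧ ξ = p z ∧ η = q z then L z else 0 := by
      intro ξ hξ η hη
      have kX : δX ξ = r := hαr ξ (by simpa using hξ)
      have kY : δY η = s := hβs η (by simpa using hη)
      have hrs : ∀ w, Nontrivial ((F ξ).presheaf.stalk w) → Nontrivial ((G η).presheaf.stalk w) →
          δ w ≤ (δX ξ + m) + (δY η + n) - (n + m) := by
        intro w hw hw'
        have a1 := Groth.Agent.CycLib.delta_le hdX ((Groth.Agent.H9Diag.nontrivial_closure_iff ξ _).1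
          (Groth.Agent.H23.FlatShift.nontrivial_of_pullback p _ w hw))
        have a2 := Groth.Agent.CycLib.delta_le hdY ((Groth.Agent.H9Diag.nontrivial_closure_iff η _).1
          (Groth.Agent.H23.FlatShift.nontrivial_of_pullback q _ w hw'))
        have a3 := hadd w
        omega
      rw [Groth.Agent.H9Diag.interProd_sheafFun (p ≫ f) hXY (by exact_mod_cast hnm) (F ξ) (G η) (cF ξ) (cG η)
        (δX ξ + m) (δY η + n) (pF ξ).1 (pG η).1 hrs z]
      by_cases hz : δ z = r + s
      swap
      · rw [if_neg (by omega), if_neg (fun h => hz h.1)]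
      rw [if_pos (by omega)]
      by_cases hpt : ξ = p z ∧ η = q z
      · rw [if_pos ⟨hz, hpt⟩]
        exact Groth.Agent.H9Diag.chi_ext_point f g hX hY hXY hn hm hnm z hpt.1.symm hpt.2.symm (by omega)
      · rw [if_neg (fun h => hpt h.2)]
        have hsub : Subsingleton ((F ξ).presheaf.stalk z) ∨ Subsingleton ((G η).presheaf.stalk z) := by
          by_contra hc
          simp only [not_or, not_subsingleton_iff_nontrivial] at hc
          have s1 := (Groth.Agent.H9Diag.nontrivial_closure_iff ξ _).1
            (Groth.Agent.H23.FlatShift.nontrivial_of_pullback p _ z hc.1)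
          have s2 := (Groth.Agent.H9Diag.nontrivial_closure_iff η _).1
            (Groth.Agent.H23.FlatShift.nontrivial_of_pullback q _ z hc.2)
          have a1 := Groth.Agent.CycLib.delta_le hdX s1
          have a2 := Groth.Agent.CycLib.delta_le hdY s2
          have a3 := hadd z
          exact hpt ⟨Groth.Agent.CycLib.eq_of_delta_le hdX s1 (by omega),
            Groth.Agent.CycLib.eq_of_delta_le hdY s2 (by omega)⟩
        rcases hsub with hs | hs
        · refine finsum_eq_zero_of_forall_eq_zero fun i => ?_
          rw [Module.length_eq_zero_iff.2 (Groth.Agent.H9Diag.interProd_sheafFun.subsingleton_tor_of_subsingleton i)]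
          simp
        · rw [Groth.Agent.H9Samuel.chi_comm]
          refine finsum_eq_zero_of_forall_eq_zero fun i => ?_
          rw [Module.length_eq_zero_iff.2 (Groth.Agent.H9Diag.interProd_sheafFun.subsingleton_tor_of_subsingleton i)]
          simp
    rw [hαsum, hβsum, Groth.Agent.H9Diag.interProd_sum_left hS.toFinset _ _ (fun ξ _ => gF ξ) gsum z]
    rw [Finset.sum_congr rfl fun ξ hξ => by
      rw [Groth.Agent.H9Assoc.interProd_comm δ _ (Cyc.sheafFun δ (δX ξ + m) (F ξ)),
        Groth.Agent.H9Diag.interProd_sum_left hT.toFinset _ _ (fun η _ => gG η) (gF ξ) z,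
        Finset.sum_congr rfl fun η hη => by rw [Groth.Agent.H9Assoc.interProd_comm δ _ (Cyc.sheafFun δ (δY η + n) (G η)), hterm ξ hξ η hη]]]
    simp only [IntMult.extProd]
    change _ = if δ z = δX (p z) + δY (q z) then α (p z) * β (q z) * L z else 0
    by_cases hne : α (p z) ≠ 0 ∧ β (q z) ≠ 0
    · rw [Finset.sum_eq_single (p z), Finset.sum_eq_single (q z), hαr _ hne.1, hβs _ hne.2]
      · simp only [and_true, eq_self_iff_true]
        split_ifs <;> ring
      · intro η _ hη
        rw [if_neg (fun h => hη h.2.2), mul_zero]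
      · exact fun h => absurd (by simpa using hne.2) h
      · intro ξ _ hξ
        rw [Finset.sum_eq_zero fun η _ => by rw [if_neg (fun h => hξ h.2.1), mul_zero], mul_zero]
      · exact fun h => absurd (by simpa using hne.1) h
    · rw [Finset.sum_eq_zero fun ξ hξ => ?_]
      · split_ifs with h
        · have h0 : α (p z) * β (q z) = 0 := by
            by_contra h0
            exact hne (mul_ne_zero_iff.1 h0)
          rw [h0, zero_mul]
        · rfl
      · rw [Finset.sum_eq_zero fun η hη => ?_, mul_zero]
        rw [if_neg, mul_zero]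
        rintro ⟨-, rfl, rfl⟩
        exact hne ⟨by simpa using hξ, by simpa using hη⟩

end Groth.Agent.S1951
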