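import Groth.Statements.S1952
import Groth.Agent.H9Diag.P1Cap
import Groth.Agent.H9ProdCl.Main

set_option linter.style.haveILetI false
set_option backward.isDefEq.respectTransparency false
set_option maxHeartbeats 1000000
-- import your own Groth.Agent.* helpers here

set_option autoImplicit false
universe u
open CategoryTheory CategoryTheory.Limits AlgebraicGeometry
attribute [local instance] HasDerivedCategory.standard
open IntMult

namespace Groth.Agent.S1952

/-- Let α be a (k + 1)-cycle on P^1_X (X a nonsingular variety, P^1_X of dimension n + 1 with dimension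
function δP) intersecting the divisors X × 0 and X × ∞ (the images of the two sections, as prime
cycles) properly. Then pr_{X,*}(α · [X × 0] − α · [X × ∞]) ∼_rat 0 as a k-cycle on X (the source's
two distinct closed points a, b of P^1 are taken to be 0 and ∞), for any cycle on P^1_X with the
coefficients of α · [X × 0] − α · [X × ∞]. Here X is a nonsingular variety over the algebraically
closed field K (smooth, separated, quasi-compact, integral) with dimension function δ (transcendence
degree) and n = dim X; cycles are Mathlib AlgebraicCycles with Cyc.Zk membership, proper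
intersection is IntMult.IntersectProperly and α · β is the Tor-formula intersection product on
coefficient functions (IntMult.interProd), bundled where needed as 'any cycle with these
coefficients'. -/
theorem result (K : Type u) [Field K] [IsAlgClosed K] (X : Scheme.{u}) (f : X ⟶ Spec (CommRingCat.of K)) [Smooth f] [IsSeparated f] [QuasiCompact f] [IsIntegral X] (δ : X → ℤ) (hX : Cyc.IsSetup X δ) (hδ : Cyc.DeltaCompat f δ (fun _ => 0)) (n : ℤ) (hn : δ (genericPoint X) = n) (δP : ↥(CohB1.ProjSpaceOver 1 X) → ℤ) (hPX : Cyc.IsSetup (CohB1.ProjSpaceOver 1 X) δP) (hP : Cyc.DeltaCompat (CohB1.ProjSpaceOver.toBase 1 X) δP δ) [QuasiCompact (CohB1.ProjSpaceOver.toBase 1 X)] (k : ℤ) (α : AlgebraicCycle (CohB1.ProjSpaceOver 1 X) ℤ) (hα : α ∈ Cyc.Zk _ δP (k + 1)) (h0 : IntMult.IntersectProperly δP (n + 1) ⇑α (Set.indicator {P1.sect X 0 (genericPoint X)} 1)) (h1 : IntMult.IntersectProperly δP (n + 1) ⇑α (Set.indicator {P1.sect X 1 (genericPoint X)} 1)) (γ : AlgebraicCycle (CohB1.ProjSpaceOver 1 X) ℤ) (hγ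 : ⇑γ = IntMult.interProd δP (n + 1) ⇑α (Set.indicator {P1.sect X 0 (genericPoint X)} 1) - IntMult.interProd δP (n + 1) ⇑α (Set.indicator {P1.sect X 1 (genericPoint X)} 1)) : Cyc.RatEquivZero δ k (AlgebraicCycle.map (CohB1.ProjSpaceOver.toBase 1 X) δP δ γ) := by
  classical
  haveI := hPX.1
  haveI := hX.1
  haveI : CompactSpace X := QuasiCompact.compactSpace_of_compactSpace f
  haveI : CompactSpace ↥(CohB1.ProjSpaceOver 1 X) :=
    QuasiCompact.compactSpace_of_compactSpace (CohB1.ProjSpaceOver.toBase 1 X)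
  haveI := H9Diag.P1Geom.isIntegral_line f
  let π := CohB1.ProjSpaceOver.toBase 1 X
  let σ : Fin (1 + 1) → X → ↥(CohB1.ProjSpaceOver 1 X) := fun i => P1.sect X i
  have hπσ : ∀ i x, π (σ i x) = x := fun i x => by
    show π (P1.sect X i x) = x
    rw [← Scheme.Hom.comp_apply, H23.P1Sect.sect_toBase]; rfl
  have hwdim : ∀ w, α w ≠ 0 → δP w = k + 1 := fun w hw => by_contra fun hne => hw (hα w hne)
  have hprop : ∀ i, IntMult.IntersectProperly δP (n + 1) ⇑α (Set.indicator {P1.sect X i (genericPoint X)} 1) := by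
    intro i; fin_cases i
    · exact h0
    · exact h1
  have hnot : ∀ i w, α w ≠ 0 → w ∉ Set.range (P1.sect X i) := by
    rintro i w hw ⟨x, rfl⟩
    have h := hprop i _ (P1.sect X i (genericPoint X)) (P1.sect X i x) hw (by simp) (specializes_refl _)
      (((genericPoint_spec X).specializes (Set.mem_univ x)).map (P1.sect X i).continuous)
    rw [H23.P1Fam.delta_sect hP i (genericPoint X), hn] at h
    have := hwdim _ hw
    omega
  let T := (H9ProdCl.finite_support_cycle α).toFinset
  have hT : ∀ w, w ∈ T ↔ α w ≠ 0 := fun w => Set.Finite.mem_toFinset _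
  have hdec : ⇑α = fun z => ∑ w ∈ T, α w * (if z = w then 1 else 0) := by
    funext z
    by_cases hz : z ∈ T
    · rw [Finset.sum_eq_single z (fun w _ hw => by rw [if_neg (Ne.symm hw), mul_zero]) (fun h => absurd hz h),
        if_pos rfl, mul_one]
    · rw [Finset.sum_eq_zero fun w hw => by rw [if_neg (fun e : z = w => hz (e.symm ▸ hw)), mul_zero]]
      exact not_not.1 fun h => hz ((hT z).2 h)
  have hfg : ∀ i, H9Diag.FinGen (Set.indicator {P1.sect X i (genericPoint X)} (1 : ↥(CohB1.ProjSpaceOver 1 X) → ℤ)) :=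
    fun i ζ => (Set.finite_singleton (P1.sect X i (genericPoint X))).subset fun z hz => by
      by_contra hm
      exact hz.2 (Set.indicator_of_notMem hm _)
  have hzero : ∀ i p, p ∉ Set.range (P1.sect X i) →
      IntMult.interProd δP (n + 1) ⇑α (Set.indicator {P1.sect X i (genericPoint X)} 1) p = 0 := by
    intro i p hp
    refine finsum_eq_zero_of_forall_eq_zero ?_
    rintro ⟨⟨ξ, η⟩, -, hη, -⟩
    have h : Set.indicator {P1.sect X i (genericPoint X)} (1 : ↥(CohB1.ProjSpaceOver 1 X) → ℤ) η = 0 := by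
      refine Set.indicator_of_notMem (fun hm => hp ?_) _
      rw [Set.mem_singleton_iff] at hm
      exact (hm ▸ hη : P1.sect X i (genericPoint X) ⤳ p).mem_closed
        (P1.sect X i).isClosedEmbedding.isClosed_range ⟨_, rfl⟩
    simp [h]
  have hval : ∀ i x, IntMult.interProd δP (n + 1) ⇑α (Set.indicator {P1.sect X i (genericPoint X)} 1)
      (P1.sect X i x) = ∑ w ∈ T, α w * H9Diag.P1Cap.fibFun δ k w i x := by
    intro i x
    conv_lhs => rw [hdec]
    rw [H9Diag.interProd_sum_left T _ _ (fun w _ => H9Diag.finGen_indicator w 1) (hfg i)]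
    refine Finset.sum_congr rfl fun w hw => congrArg _ ?_
    exact H9Diag.P1Cap.interProd_sect f hX hδ hn hP (hwdim w ((hT w).1 hw)) i (hnot i w ((hT w).1 hw)) x
  have hmap : ∀ x, AlgebraicCycle.map π δP δ γ x =
      ∑ᶠ w : ↥(T : Set ↥(CohB1.ProjSpaceOver 1 X)), α w.1 *
        (H9Diag.P1Cap.fibFun δ k w.1 0 x - H9Diag.P1Cap.fibFun δ k w.1 1 x) := by
    intro x
    rw [finsum_set_coe_eq_finsum_mem (f := fun w => α w *
        (H9Diag.P1Cap.fibFun δ k w 0 x - H9Diag.P1Cap.fibFun δ k w 1 x)) (T : Set ↥(CohB1.ProjSpaceOver 1 X)),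
      finsum_mem_coe_finset]
    simp only [mul_sub, Finset.sum_sub_distrib]
    rw [← hval 0 x, ← hval 1 x, CycLib.map_apply']
    have hne : P1.sect X 0 x ≠ P1.sect X 1 x := H9Diag.P1Cap.disjoint_sect (by decide) x x
    rw [finsum_mem_eq_sum_of_inter_support_eq _ (t := {P1.sect X 0 x, P1.sect X 1 x}) ?_, Finset.sum_pair hne,
      H23.P1Fam.mapCoeff_sect hP, H23.P1Fam.mapCoeff_sect hP, Nat.cast_one, mul_one, mul_one, hγ, Pi.sub_apply,
      Pi.sub_apply, hzero 1 (P1.sect X 0 x) fun ⟨y, hy⟩ => H9Diag.P1Cap.disjoint_sect (by decide) x y hy.symm,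
      hzero 0 (P1.sect X 1 x) fun ⟨y, hy⟩ => H9Diag.P1Cap.disjoint_sect (by decide) x y hy.symm, sub_zero, zero_sub]
    · ring
    · ext p
      simp only [Set.mem_inter_iff, Set.mem_preimage, Set.mem_singleton_iff, Function.mem_support,
        Finset.coe_insert, Finset.coe_singleton, Set.mem_insert_iff]
      constructor
      · rintro ⟨hpx, hne0⟩
        refine ⟨?_, hne0⟩
        by_contra hn'
        push Not at hn'
        refine left_ne_zero_of_mul hne0 ?_
        have hout : ∀ i, P1.sect X i x ≠ p → p ∉ Set.range (P1.sect X i) := by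
          rintro i hi ⟨y, rfl⟩
          exact hi (congrArg _ ((hpx.symm.trans (hπσ i y))))
        rw [hγ, Pi.sub_apply, hzero 0 _ (hout 0 (Ne.symm hn'.1)), hzero 1 _ (hout 1 (Ne.symm hn'.2)), sub_zero]
      · rintro ⟨rfl | rfl, hne0⟩
        · exact ⟨hπσ 0 x, hne0⟩
        · exact ⟨hπσ 1 x, hne0⟩
  refine H23.RatOn.ratEquivZero (T := Set.univ) (H23.RatOn.congr (H23.RatOn.sum hX.2.2 (fun w : ↥(T : Set ↥(CohB1.ProjSpaceOver 1 X)) => α w.1)
    (fun w x => H9Diag.P1Cap.fibFun δ k w.1 0 x - H9Diag.P1Cap.fibFun δ k w.1 1 x) (fun _ => Set.univ)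
    (fun _ => le_rfl) (fun w => H9Diag.P1Cap.zeroOn_point hX hP (hwdim _ ((hT _).1 w.2)) fun i => hnot i _ ((hT _).1 w.2))
    fun x => ⟨Set.univ, isOpen_univ, trivial, Set.toFinite _⟩) hmap)

end Groth.Agent.S1952
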