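import Groth.Statements.S1953
import Groth.Agent.H9Diag.DiagCycle

set_option linter.style.haveILetI false
set_option backward.isDefEq.respectTransparency false

set_option autoImplicit false
universe u
open CategoryTheory CategoryTheory.Limits AlgebraicGeometry
attribute [local instance] HasDerivedCategory.standard
open IntMult

set_option maxHeartbeats 2000000

namespace Groth.Agent.S1953

/-- Let X be a proper nonsingular variety over K, α an r-cycle and β an s-cycle intersecting properly, Δ
⊆ X ×_K X the diagonal (as the prime cycle of its generic point) and α × β the exterior product,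
with dimension function δ₂ on X ×_K X. Then [Δ] and α × β intersect properly and pr_{1,*}([Δ] · (α ×
β)) = α · β coefficientwise, for any cycle on X ×_K X with the coefficients of [Δ] · (α × β). Here X
is a nonsingular variety over the algebraically closed field K (smooth, separated, quasi-compact,
integral) with dimension function δ (transcendence degree) and n = dim X; cycles are Mathlib
AlgebraicCycles with Cyc.Zk membership, proper intersection is IntMult.IntersectProperly and α · β
is the Tor-formula intersection product on coefficient functions (IntMult.interProd), bundled where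
needed as 'any cycle with these coefficients'. -/
theorem result (K : Type u) [Field K] [IsAlgClosed K] (X : Scheme.{u}) (f : X ⟶ Spec (CommRingCat.of K)) [Smooth f] [IsProper f] [IsIntegral X] (δ : X → ℤ) (hX : Cyc.IsSetup X δ) (hδ : Cyc.DeltaCompat f δ (fun _ => 0)) (n : ℤ) (hn : δ (genericPoint X) = n) (δ₂ : ↥(pullback f f) → ℤ) (h₂ : Cyc.DeltaCompat (pullback.fst f f ≫ f) δ₂ (fun _ => 0)) (h₂' : Cyc.DeltaCompat (pullback.fst f f) δ₂ δ) (r s : ℤ) (α β : AlgebraicCycle X ℤ) (hα : α ∈ Cyc.Zk X δ r) (hβ : β ∈ Cyc.Zk X δ s) (hprop : IntMult.IntersectProperly δ n ⇑α ⇑β) (γ : AlgebraicCycle (pullback f f) ℤ) (hγ : ⇑γ = IntMult.interProd δ₂ (n + n) (Set.indicator {pullback.diagonal f (genericPoint X)} 1) (IntMult.extProd f f δ δ δ₂ ⇑α ⇑β)) : IntMult.IntersectProperly δ₂ (n + n) (Set.indicator {pullback.diagonal f (genericPoint X)} 1) (IntMult.extProd f f δ δ δ₂ ⇑α ⇑β) ∧ ⇑(AlgebraicCycle.map (pullback.fst f f) δ₂ δ γ) = IntMult.interProd δ n ⇑α ⇑β := by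
  classical
  haveI : IsLocallyNoetherian X := hX.1
  haveI : CompactSpace X := QuasiCompact.compactSpace_of_compactSpace f
  let p := pullback.fst f f
  let q := pullback.snd f f
  let Δ := pullback.diagonal f
  haveI : IsClosedImmersion Δ := IsSeparated.isClosedImmersion_diagonal
  haveI : IsLocallyNoetherian (pullback f f) := LocallyOfFiniteType.isLocallyNoetherian (p ≫ f)
  obtain ⟨n', rfl⟩ : ∃ n' : ℕ, n = (n' : ℤ) := ⟨_, hn.symm.trans (Groth.Agent.H9Mult.delta_eq f hδ _)⟩
  obtain ⟨hPint, hnm⟩ := Groth.Agent.H9Diag.prod_data f f hδ hδ h₂ hn hn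
  haveI := hPint
  have hd₂ := Groth.Agent.CycLib.isDimFun_of_deltaCompat (p ≫ f) (Groth.Agent.CycLib.isSetup_spec_field K) h₂
  have hp : ∀ v, p (Δ v) = v := fun v => by rw [← Scheme.Hom.comp_apply, pullback.diagonal_fst]; rfl
  have hq : ∀ v, q (Δ v) = v := fun v => by rw [← Scheme.Hom.comp_apply, pullback.diagonal_snd]; rfl
  let γ₀ := Δ (genericPoint X)
  have hδγ : δ₂ γ₀ = n' := (Groth.Agent.H9Diag.delta_diag f hδ h₂ _).trans hn
  have hrange : ∀ w, γ₀ ⤳ w → ∃ v, Δ v = w := fun w hw =>
    hw.mem_closed Δ.isClosedEmbedding.isClosed_range ⟨_, rfl⟩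
  have hαr : ∀ x, α x ≠ 0 → δ x = r := fun x hx => by_contra fun hne => hx (hα x hne)
  have hβs : ∀ x, β x ≠ 0 → δ x = s := fun x hx => by_contra fun hne => hx (hβ x hne)
  refine ⟨fun a b ζ ha hb haζ hbζ => ?_, funext fun y => ?_⟩
  · obtain rfl : a = γ₀ := Set.mem_singleton_iff.1 (Set.mem_of_indicator_ne_zero ha)
    obtain ⟨v, rfl⟩ := hrange ζ haζ
    simp only [IntMult.extProd] at hb
    split_ifs at hb with hb'
    swap
    · exact absurd rfl hb
    obtain ⟨h1, h2⟩ := mul_ne_zero_iff.1 (left_ne_zero_of_mul hb)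
    have h3 := hprop (p b) (q b) v h1 h2 (hp v ▸ hbζ.map p.continuous) (hq v ▸ hbζ.map q.continuous)
    have e1 := Groth.Agent.H9Diag.delta_diag f hδ h₂ v
    have hb'' : δ₂ b = δ (p b) + δ (q b) := hb'
    rw [show δ₂ (Δ v) = δ v from e1]
    omega
  · have hsupp : ∀ w, γ w ≠ 0 → γ₀ ⤳ w := by
      intro w hw
      rw [hγ] at hw
      obtain ⟨⟨⟨a, b⟩, ha, hb, hd⟩, hne⟩ := not_forall.1 fun hall => hw (finsum_eq_zero_of_forall_eq_zero hall)
      obtain rfl : a = γ₀ := Set.mem_singleton_iff.1
        (Set.mem_of_indicator_ne_zero (left_ne_zero_of_mul (left_ne_zero_of_mul hne)))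
      exact ha
    rw [Groth.Agent.CycLib.map_apply', finsum_mem_eq_sum_of_subset _ (t := {Δ y}) (fun w hw => ?_) (fun w hw => ?_),
      Finset.sum_singleton]
    rotate_left
    · simp only [Finset.coe_singleton, Set.mem_singleton_iff]
      obtain ⟨v, rfl⟩ := hrange w (hsupp w (left_ne_zero_of_mul hw.2))
      rw [← (show p (Δ v) = y from hw.1), hp]
    · simp only [Finset.coe_singleton, Set.mem_singleton_iff] at hw
      subst hw
      exact hp y
    have hcoef : AlgebraicCycle.mapCoeff p δ₂ δ (Δ y) = 1 := by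
      rw [AlgebraicCycle.mapCoeff, if_pos]
      · have h1 := Groth.Agent.CycLib.residueDegree_comp Δ p y
        rw [Groth.Agent.CycLib.residueDegree_preimmersion Δ, mul_one,
          Groth.Agent.H23.FiniteFibreSum.residueDegree_congr' (show Δ ≫ p = 𝟙 X from pullback.diagonal_fst f),
          Groth.Agent.CycLib.residueDegree_preimmersion (𝟙 X)] at h1
        exact h1.symm
      · show δ₂ (Δ y) = δ (p (Δ y))
        rw [hp]
        exact Groth.Agent.H9Diag.delta_diag f hδ h₂ y
    rw [hcoef, Nat.cast_one, mul_one, hγ]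
    have hS : (Function.support ⇑α).Finite := by
      simpa using α.locallyFiniteSupport.finite_inter_support_of_isCompact isCompact_univ
    have hT : (Function.support ⇑β).Finite := by
      simpa using β.locallyFiniteSupport.finite_inter_support_of_isCompact isCompact_univ
    let one : X → X → ℤ := fun ξ w => if w = ξ then 1 else 0
    let ind : ↥(pullback f f) → ℤ := fun w => if w = γ₀ then 1 else 0
    have hind : Set.indicator {γ₀} 1 = ind := by
      funext w; simp [ind, Set.indicator_apply]
    have hαsum : ∀ w, α w = ∑ ξ ∈ hS.toFinset, α ξ * one ξ w := fun w => by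
      simp only [one, mul_ite, mul_one, mul_zero, Finset.sum_ite_eq, Set.Finite.mem_toFinset, Function.mem_support]
      by_cases hw : α w = 0 <;> simp [hw]
    have hβsum : ∀ w, β w = ∑ η ∈ hT.toFinset, β η * one η w := fun w => by
      simp only [one, mul_ite, mul_one, mul_zero, Finset.sum_ite_eq, Set.Finite.mem_toFinset, Function.mem_support]
      by_cases hw : β w = 0 <;> simp [hw]
    have hext : IntMult.extProd f f δ δ δ₂ ⇑α ⇑β = fun w => ∑ k ∈ hS.toFinset ×ˢ hT.toFinset,
        (α k.1 * β k.2) * IntMult.extProd f f δ δ δ₂ (one k.1) (one k.2) w := by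
      funext w
      simp only [IntMult.extProd]
      split_ifs
      · rw [hαsum (pullback.fst f f w), hβsum (pullback.snd f f w), Finset.sum_mul_sum, Finset.sum_product,
          Finset.sum_mul]
        refine Finset.sum_congr rfl fun ξ _ => ?_
        rw [Finset.sum_mul]
        exact Finset.sum_congr rfl fun η _ => by ring
      · simp
    have hprod : ∀ (ξ η : X), Groth.Agent.H9Diag.FinGen (IntMult.extProd f f δ δ δ₂ (one ξ) (one η)) := fun ξ η => by
      rw [← funext (Groth.Agent.H9Diag.sheafFun_box f hδ h₂ ξ η)]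
      refine Groth.Agent.H9Diag.finGen_sheafFun hd₂ (Groth.Agent.H9Diag.isCoh_closedSheaf _) fun w hw => ?_
      obtain ⟨s1, s2⟩ := Groth.Agent.H9Diag.mem_box f (Groth.Agent.H9Diag.mem_support_of_nontrivial _ hw)
      exact (Groth.Agent.H9Diag.delta_le_add f f hδ hδ h₂ w).trans
        (add_le_add (Groth.Agent.CycLib.delta_le hX.2.2 s1) (Groth.Agent.CycLib.delta_le hX.2.2 s2))
    rw [show Set.indicator {pullback.diagonal f (genericPoint X)} (1 : ↥(pullback f f) → ℤ) = ind from hind,
      Groth.Agent.H9Assoc.interProd_comm δ₂ _ ind, hext,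
      Groth.Agent.H9Diag.interProd_sum_left _ _ _ (fun k _ => hprod k.1 k.2)
        (Groth.Agent.H9Diag.finGen_indicator γ₀ 1) (Δ y)]
    have hrhs : IntMult.interProd δ (n' : ℤ) ⇑α ⇑β y = ∑ k ∈ hS.toFinset ×ˢ hT.toFinset,
        (α k.1 * β k.2) * IntMult.interProd δ (n' : ℤ) (one k.1) (one k.2) y := by
      have gsum : Groth.Agent.H9Diag.FinGen ⇑β := Groth.Agent.H9Diag.finGen_cycle β
      conv_lhs => rw [show ⇑α = fun w => ∑ ξ ∈ hS.toFinset, α ξ * one ξ w from funext hαsum]
      rw [Groth.Agent.H9Diag.interProd_sum_left _ _ _ (fun ξ _ => Groth.Agent.H9Diag.finGen_indicator ξ 1) gsum y,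
        Finset.sum_product]
      refine Finset.sum_congr rfl fun ξ _ => ?_
      conv_lhs => rw [Groth.Agent.H9Assoc.interProd_comm δ _ (one ξ), show ⇑β = fun w => ∑ η ∈ hT.toFinset, β η * one η w from funext hβsum]
      rw [Groth.Agent.H9Diag.interProd_sum_left _ _ _ (fun η _ => Groth.Agent.H9Diag.finGen_indicator η 1)
        (Groth.Agent.H9Diag.finGen_indicator ξ 1) y, Finset.mul_sum]
      refine Finset.sum_congr rfl fun η _ => ?_
      rw [Groth.Agent.H9Assoc.interProd_comm δ _ (one η)]
      ring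
    rw [hrhs]
    refine Finset.sum_congr rfl fun k hk => ?_
    rw [Finset.mem_product] at hk
    have hk1 : α k.1 ≠ 0 := by simpa using hk.1
    have hk2 : β k.2 ≠ 0 := by simpa using hk.2
    congr 1
    rw [Groth.Agent.H9Assoc.interProd_comm δ₂ _ _ ind]
    exact Groth.Agent.H9Diag.diag_point f hδ h₂ hn hnm k.1 k.2 (fun z h1 h2 => hprop k.1 k.2 z hk1 hk2 h1 h2) y

end Groth.Agent.S1953
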