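import Groth.Statements.S19536
import Groth.Agent.FTorsL.KRgamma

set_option autoImplicit false
open CategoryTheory CategoryTheory.Limits AlgebraicGeometry
universe u
attribute [local instance] HasDerivedCategory.standard
open FTors
open Groth.Agent.FTorsL (kMor)

namespace Groth.Agent.S19536

/-- Let X be a locally Noetherian scheme, 𝓘 a quasi-coherent ideal of O_X with closed subset Z, X̂ the
completion of X along 𝓘, κ : X̂ ⟶ X the completion morphism of ringed spaces with κ^* exact
(assumed), so that κ^* is defined on unbounded derived categories, and assume the derived torsion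
functors RΓ'_X̂ and RΓ_Z' exist. Let E, F ∈ D(O_X) and suppose that E or F has 𝓘-power-torsion
cohomology sheaves (lies in D_Z(X)). Then the map Hom_{D(X)}(E, F) → Hom_{D(X̂)}(κ^*E, κ^*F), φ ↦
κ^*φ, is bijective. (The published statement factors this map through Hom_{D(X)}(E, κ_*κ^*F) by
adjunction; the composite is the map on morphisms of the functor κ^*, which is what is asserted
here. The existence hypotheses on the derived torsion functors are those of the surrounding section
and are not used in the conclusion.) -/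
theorem result (X : Scheme.{u}) [IsLocallyNoetherian X]
    (𝓘 : X.IdealSheafData) (hX : (FSch.completionAlong X 𝓘).IsFormal)
    [PreservesFiniteLimits (FSch.toSchemeMor (FSch.completionAlong X 𝓘) hX (FSch.completionToX X 𝓘) (FSch.completionToX_comm X 𝓘)).pull]
    [FTors.HasRgammaT (FSch.completionAlong X 𝓘) hX] [FTors.HasRgammaZp X 𝓘]
    (E F : DerivedCategory (ModSite.Mod X.sheaf)) (hEF : FTors.IsDTorsZp X 𝓘 E ∨ FTors.IsDTorsZp X 𝓘 F) :
    Function.Bijective (fun φ : E ⟶ F => (SiteCmp.pullD (FSch.toSchemeMor (FSch.completionAlong X 𝓘) hX (FSch.completionToX X 𝓘) (FSch.completionToX_comm X 𝓘))).map φ) := by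
  have h : (FSch.completionAlong X 𝓘).IsLocNoethFormal :=
    Groth.Agent.FComplLib.isLocNoethFormal_completionAlong 𝓘
  haveI : PreservesFiniteLimits (kMor 𝓘 h).pull := Groth.Agent.FTorsL.preservesFiniteLimits_pull h
  haveI : FTors.HasRgammaT (FSch.completionAlong X 𝓘) h.1 := ‹_›
  haveI : SiteCmp.HasRpushD (kMor 𝓘 h) := Groth.Agent.FTorsL.hasRpushD_kMor h
  obtain ⟨a, hu, -⟩ := Groth.Agent.FTorsL.exists_adj h
  rcases hEF with hE | hF
  · obtain ⟨e, he⟩ := Groth.Agent.FTorsL.exists_pullD_RgammaZp_iso h F
    have hψ := Groth.Agent.FTorsL.Gen.comp_ε_bijective (E := E) (F := F) _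
      (Groth.Agent.FTorsL.hasAcyc_powIdealFam X 𝓘) hE
    refine (Function.Bijective.of_comp_iff _ hψ).1 ?_
    have hL := Groth.Agent.FTorsL.bijective_map_left a E ((FTors.RgammaZp X 𝓘).obj F)
      (hu _ (Groth.Agent.FTorsL.Gen.isDTorsF_RgammaT _ F))
    have hε := Groth.Agent.FTorsL.comp_ε_bijective h (F := (SiteCmp.pullD (kMor 𝓘 h)).obj F)
      (Groth.Agent.FTorsL.isDTorsF_pullD h hE)
    have hpost : Function.Bijective (fun x : (SiteCmp.pullD (kMor 𝓘 h)).obj E ⟶
        (SiteCmp.pullD (kMor 𝓘 h)).obj ((FTors.RgammaZp X 𝓘).obj F) => x ≫ e.hom) :=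
      (Iso.homToEquiv e).bijective
    convert hε.comp (hpost.comp hL) using 1
    funext φ
    simp only [Function.comp_apply, Category.assoc]
    exact ((SiteCmp.pullD (kMor 𝓘 h)).map_comp _ _).trans (congrArg (_ ≫ ·) he.symm)
  · exact Groth.Agent.FTorsL.bijective_map_left a E F (hu F hF)

end Groth.Agent.S19536
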