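import Groth.Statements.S19537
import Groth.Agent.FTorsL.KRgamma

set_option autoImplicit false
open CategoryTheory CategoryTheory.Limits AlgebraicGeometry
universe u
attribute [local instance] HasDerivedCategory.standard
open FTors
open Groth.Agent.FTorsL (kMor)

namespace Groth.Agent.S19537

/-- Let X be a locally Noetherian scheme, 𝓘 a quasi-coherent ideal of O_X with closed subset Z, X̂ the
completion of X along 𝓘 and κ : X̂ ⟶ X the completion morphism of ringed spaces, with κ^* exact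
(assumed) and the derived direct image Rκ_* existing on unbounded derived categories. Write D_Z(X)
for the complexes of O_X-modules whose cohomology sheaves are 𝓘-power torsion and D_qcZ(X) for those
whose cohomology sheaves are moreover quasi-coherent; write D_t(X̂) for the complexes of
O_X̂-modules whose cohomology sheaves are torsion and D_qct(X̂) for those whose cohomology sheaves
are quasi-coherent torsion modules. Then κ^* sends D_Z(X) into D_t(X̂); Rκ_* sends D_t(X̂) into
D_Z(X); κ^* sends D_qcZ(X) into D_qct(X̂); Rκ_* sends D_qct(X̂) into D_qcZ(X); and if M ∈ D_qct(X̂)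
has coherent cohomology sheaves, then so does Rκ_*M. (The published statement says moreover that κ^*
and κ_* are inverse isomorphisms between D_Z(X) and D_t(X̂) and between D_qcZ(X) and D_qct(X̂); that
the unit and counit are isomorphisms there is not stated here.) -/
theorem result (X : Scheme.{u}) [IsLocallyNoetherian X]
    (𝓘 : X.IdealSheafData) (hX : (FSch.completionAlong X 𝓘).IsFormal)
    [PreservesFiniteLimits (FSch.toSchemeMor (FSch.completionAlong X 𝓘) hX (FSch.completionToX X 𝓘) (FSch.completionToX_comm X 𝓘)).pull] [SiteCmp.HasRpushD (FSch.toSchemeMor (FSch.completionAlong X 𝓘) hX (FSch.completionToX X 𝓘) (FSch.completionToX_comm X 𝓘))] :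
    (∀ F : DerivedCategory (ModSite.Mod X.sheaf), FTors.IsDTorsZp X 𝓘 F →
      FTors.IsDTorsF (FSch.completionAlong X 𝓘) hX ((SiteCmp.pullD (FSch.toSchemeMor (FSch.completionAlong X 𝓘) hX (FSch.completionToX X 𝓘) (FSch.completionToX_comm X 𝓘))).obj F)) ∧
    (∀ G : DerivedCategory (FSch.ModF (FSch.completionAlong X 𝓘) hX), FTors.IsDTorsF (FSch.completionAlong X 𝓘) hX G →
      FTors.IsDTorsZp X 𝓘 ((SiteCmp.RpushD (FSch.toSchemeMor (FSch.completionAlong X 𝓘) hX (FSch.completionToX X 𝓘) (FSch.completionToX_comm X 𝓘))).obj G)) ∧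
    (∀ F : DerivedCategory (ModSite.Mod X.sheaf), FTors.IsDTorsZp X 𝓘 F →
      (∀ i : ℤ, SheafOfModules.IsQuasicoherent.{u} (SiteCmp.HMod F i)) →
      FTors.IsDQCT (FSch.completionAlong X 𝓘) hX ((SiteCmp.pullD (FSch.toSchemeMor (FSch.completionAlong X 𝓘) hX (FSch.completionToX X 𝓘) (FSch.completionToX_comm X 𝓘))).obj F)) ∧
    (∀ G : DerivedCategory (FSch.ModF (FSch.completionAlong X 𝓘) hX), FTors.IsDQCT (FSch.completionAlong X 𝓘) hX G →
      FTors.IsDTorsZp X 𝓘 ((SiteCmp.RpushD (FSch.toSchemeMor (FSch.completionAlong X 𝓘) hX (FSch.completionToX X 𝓘) (FSch.completionToX_comm X 𝓘))).obj G) ∧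
        ∀ i : ℤ, SheafOfModules.IsQuasicoherent.{u} (SiteCmp.HMod ((SiteCmp.RpushD (FSch.toSchemeMor (FSch.completionAlong X 𝓘) hX (FSch.completionToX X 𝓘) (FSch.completionToX_comm X 𝓘))).obj G) i)) ∧
    (∀ G : DerivedCategory (FSch.ModF (FSch.completionAlong X 𝓘) hX), FTors.IsDQCT (FSch.completionAlong X 𝓘) hX G →
      (∀ i : ℤ, FSch.IsCohF (FSch.completionAlong X 𝓘) hX (SiteCmp.HMod G i)) →
      ∀ i : ℤ, Coh.IsCoh (SiteCmp.HMod ((SiteCmp.RpushD (FSch.toSchemeMor (FSch.completionAlong X 𝓘) hX (FSch.completionToX X 𝓘) (FSch.completionToX_comm X 𝓘))).obj G) i)) := by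
  have h : (FSch.completionAlong X 𝓘).IsLocNoethFormal :=
    Groth.Agent.FComplLib.isLocNoethFormal_completionAlong 𝓘
  haveI : PreservesFiniteLimits (kMor 𝓘 h).pull := Groth.Agent.FTorsL.preservesFiniteLimits_pull h
  haveI : SiteCmp.HasRpushD (kMor 𝓘 h) := ‹_›
  have hQC : ∀ {A B : ModSite.Mod X.sheaf}, (A ≅ B) → SheafOfModules.IsQuasicoherent.{u} A →
      SheafOfModules.IsQuasicoherent.{u} B := fun e hA =>
    (SheafOfModules.isQuasicoherent.{u} (ModSite.ringSh X.sheaf)).prop_of_iso e hA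
  refine ⟨fun F hF => Groth.Agent.FTorsL.isDTorsF_pullD h hF,
    fun G hG => Groth.Agent.FTorsL.isDTorsZp_RpushD h hG, fun F hF hQ i => ?_, fun G hG => ⟨?_, fun i => ?_⟩,
    fun G hG hC i => ?_⟩
  · exact ⟨Groth.Agent.FTorsL.isDTorsF_pullD h hF i,
      (SheafOfModules.isQuasicoherent.{u} _).prop_of_iso (Groth.Agent.FTorsL.hPullIso h F i).symm
        (Groth.Agent.FTorsL.isQC_pull_kMor h (hQ i))⟩
  · exact Groth.Agent.FTorsL.isDTorsZp_RpushD h fun i => (hG i).1
  · obtain ⟨e⟩ := Groth.Agent.FTorsL.exists_hPushIso h G i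
    exact hQC e.symm (Groth.Agent.FTorsL.isQC_kPush h (hG i).1 (hG i).2)
  · obtain ⟨e⟩ := Groth.Agent.FTorsL.exists_hPushIso h G i
    have hfp := (SheafOfModules.isFinitePresentation.{u} (ModSite.ringSh X.sheaf)).prop_of_iso e.symm
      (Groth.Agent.FTorsL.isFP_kPush h (hG i).1 (hC i))
    exact ⟨Groth.Agent.H9FCoh.isQC_of_isFP hfp, Groth.Agent.H9FCoh.isFT_of_isFP hfp⟩

end Groth.Agent.S19537
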