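import Groth.Statements.S1954
import Groth.Agent.H9Mult.CycleMult
import Groth.Agent.RegLoc6.Basic

set_option autoImplicit false
set_option linter.style.haveILetI false
set_option backward.isDefEq.respectTransparency false
set_option backward.isDefEq.respectTransparency.types false
set_option maxHeartbeats 1000000
universe u
open CategoryTheory CategoryTheory.Limits AlgebraicGeometry
attribute [local instance] HasDerivedCategory.standard
open IntMult

namespace Groth.Agent.S1954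

/-- Let Y, Z → X be closed immersions into a nonsingular variety with δ ≤ r on Y and δ ≤ s on Z, such
that [Y]_r and [Z]_s intersect properly, and let τ be a point of δ-dimension r + s − n lying under Y
and Z (the generic point of a component of the intersection of components of dimension r and s) at
which the scheme-theoretic intersection Y ×_X Z has multiplicity 1 (its local ring there has length
1). Then the coefficient of the closure of τ in [Y]_r · [Z]_s is 1, and the local rings of Y and Z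
at the points over τ are regular. (The published statement has further parts, not restated here.)
Here X is a nonsingular variety over the algebraically closed field K (smooth, separated,
quasi-compact, integral) with dimension function δ (transcendence degree) and n = dim X; cycles are
Mathlib AlgebraicCycles with Cyc.Zk membership, proper intersection is IntMult.IntersectProperly and
α · β is the Tor-formula intersection product on coefficient functions (IntMult.interProd), bundled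
where needed as 'any cycle with these coefficients'. -/
theorem result (K : Type u) [Field K] [IsAlgClosed K] (X : Scheme.{u}) (f : X ⟶ Spec (CommRingCat.of K)) [Smooth f] [IsSeparated f] [QuasiCompact f] [IsIntegral X] (δ : X → ℤ) (hX : Cyc.IsSetup X δ) (hδ : Cyc.DeltaCompat f δ (fun _ => 0)) (n : ℤ) (hn : δ (genericPoint X) = n) (Y Z : Scheme.{u}) (ιY : Y ⟶ X) (ιZ : Z ⟶ X) [IsClosedImmersion ιY] [IsClosedImmersion ιZ] (r s : ℤ) (hY : ∀ y : Y, δ (ιY y) ≤ r) (hZ : ∀ z : Z, δ (ιZ z) ≤ s) (hprop : IntMult.IntersectProperly δ n (Cyc.subschemeFun δ r ιY) (Cyc.subschemeFun δ s ιZ)) (τ : X) (hτ : δ τ = r + s - n) (hξ : ∃ ξ η : X, Cyc.subschemeFun δ r ιY ξ ≠ 0 ∧ Cyc.subschemeFun δ s ιZ η ≠ 0 ∧ ξ ⤳ τ ∧ η ⤳ τ) (hmult : Cyc.subschemeFun δ (r + s - n) (pullback.fst ιY ιZ ≫ ιY) τ = 1) : IntMult.interProd δ n (Cyc.subschemeFun δ r ιY) (Cyc.subschemeFun δ s ιZ) τ = 1 ∧ (∀ y : Y, ιY y = τ → IsRegularLocalRing (Y.presheaf.stalk y)) ∧ (∀ z : Z, ιZ z = τ → IsRegularLocalRing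 (Z.presheaf.stalk z)) := by
  classical
  haveI : IsLocallyNoetherian X := LocallyOfFiniteType.isLocallyNoetherian f
  haveI := FibDim.subsingleton_spec_field K
  -- the scheme-theoretic intersection is reduced at the point
  rw [Cyc.subschemeFun, if_pos hτ] at hmult
  have hfib : ∀ {W : Scheme.{u}} (i : W ⟶ X) [IsClosedImmersion i] (w : W),
      {w' : W | i w' = i w} = {w} := fun i _ w => Set.ext fun w' => i.isEmbedding.injective.eq_iff
  obtain ⟨p, hp⟩ : ∃ p, (pullback.fst ιY ιZ ≫ ιY) p = τ := by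
    by_contra! hp
    rw [show {z | (pullback.fst ιY ιZ ≫ ιY) z = τ} = ∅ from Set.eq_empty_of_forall_notMem fun z hz => hp z hz,
      finsum_mem_empty] at hmult
    exact zero_ne_one hmult
  subst hp
  rw [hfib (pullback.fst ιY ιZ ≫ ιY) p, finsum_mem_singleton] at hmult
  have hlen : Module.length ((pullback ιY ιZ).presheaf.stalk p) ((pullback ιY ιZ).presheaf.stalk p) = 1 := by
    have h1 : (Module.length ((pullback ιY ιZ).presheaf.stalk p) ((pullback ιY ιZ).presheaf.stalk p)).toNat = 1 := by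
      exact_mod_cast hmult
    rwa [ENat.toNat_eq_iff one_ne_zero, Nat.cast_one] at h1
  let y₀ := pullback.fst ιY ιZ p
  let z₀ := pullback.snd ιY ιZ p
  let τ := ιY y₀
  haveI := GrpSchLib.isRegularLocalRing_stalk_of_smooth f τ
  let IY := IntMult.stalkIdeal ιY.ker τ
  let IZ := IntMult.stalkIdeal ιZ.ker τ
  have hIY : IY = RingHom.ker (ιY.stalkMap y₀).hom := by
    rw [FlatX.ker_stalkMap_eq_stI]; exact H9Mult.stalkIdeal_eq_stI _ _
  let m : Ideal (X.presheaf.stalk τ) := RingHom.ker ((pullback.fst ιY ιZ ≫ ιY).stalkMap p).hom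
  have hker : m = IY ⊔ IZ := by
    show RingHom.ker ((pullback.fst ιY ιZ ≫ ιY).stalkMap p).hom = _
    rw [RegImmLib.ker_stalkMap_comp, H23.GysinPb.ker_stalkMap_fst, H23.GysinPb.baseMap, CommRingCat.hom_comp,
      ← Ideal.map_map, FlatX.ker_stalkMap_eq_stI, Div21Lib.stI_generize,
      Ideal.comap_map_of_surjective _ (ιY.stalkMap_surjective _), ← RingHom.ker_eq_comap_bot, sup_comm, hIY]
    exact congrArg (_ ⊔ ·) (H9Mult.stalkIdeal_eq_stI _ _).symm
  have hmax : IY ⊔ IZ = IsLocalRing.maximalIdeal _ := by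
    rw [← hker]
    have hf : IsField ((pullback ιY ιZ).presheaf.stalk p) := by
      have h2 := isSimpleModule_iff_isCoatom.1 (show IsSimpleModule _ ((pullback ιY ιZ).presheaf.stalk p ⧸ (⊥ : Ideal _)) from
        Module.length_eq_one_iff.1 (((Submodule.quotEquivOfEqBot (⊥ : Ideal ((pullback ιY ιZ).presheaf.stalk p)) rfl).length_eq).trans hlen))
      refine IsLocalRing.isField_iff_maximalIdeal_eq.2 (IsLocalRing.eq_maximalIdeal ⟨h2⟩).symm
    letI := hf.toField
    haveI : m.IsMaximal :=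
      RingHom.ker_isMaximal_of_surjective _ ((pullback.fst ιY ιZ ≫ ιY).stalkMap_surjective p)
    exact IsLocalRing.eq_maximalIdeal this
  have hrange : ∀ {W : Scheme.{u}} (i : W ⟶ X) (t : ℤ) (ξ : X), Cyc.subschemeFun δ t i ξ ≠ 0 →
      ξ ∈ Set.range i ∧ δ ξ = t := by
    intro W i t ξ h
    rw [Cyc.subschemeFun] at h
    split_ifs at h with ht
    · exact ⟨by_contra fun hr => h (by
        rw [show {w | i w = ξ} = ∅ from Set.eq_empty_of_forall_notMem fun w hw => hr ⟨w, hw⟩, finsum_mem_empty]), ht⟩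
    · exact absurd rfl h
  obtain ⟨ξ, η, hξ0, hη0, hξs, hηs⟩ := hξ
  obtain ⟨hξr, hξd⟩ := hrange ιY r ξ hξ0
  obtain ⟨hηr, hηd⟩ := hrange ιZ s η hη0
  have hηs' : η ⤳ ιZ z₀ := by rw [← H23.GysinPb.apply_fst_eq]; exact hηs
  -- dimensions
  have hN : topologicalKrullDim ↥X = (FibDim.rd f (genericPoint X) : ℕ) := by
    rw [← (Homeomorph.Set.univ X).isHomeomorph.topologicalKrullDim_eq,
      ← (genericPoint_spec X).def, FibDim.topologicalKrullDim_closure f]
    rfl
  obtain ⟨D, d, hD, hd, hDd⟩ := H9Mult.codim_add_rd f hN τ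
  have hDn : (D : ℤ) = n - δ τ := by
    rw [← hn, H9Mult.delta_eq f hδ, H9Mult.delta_eq f hδ, hd, ← hDd]
    push_cast; ring
  have hle : ∀ {W : Scheme.{u}} (i : W ⟶ X) [IsClosedImmersion i] (ζ : X), ζ ∈ Set.range i → τ ∈ Set.range i →
      IntMult.stalkIdeal i.ker τ ≤ IntMult.stalkIdeal (IntMult.ptIdeal ζ) τ := by
    intro W i _ ζ hζ hτi
    obtain ⟨w, hw⟩ := hτi
    rw [← hw, H9Mult.stalkIdeal_eq_stI i.ker, ← FlatX.ker_stalkMap_eq_stI]
    exact H9Mult.stalkIdeal_le_ptIdeal i w hζ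
  have hτY : τ ∈ Set.range ιY := ⟨y₀, rfl⟩
  have hτZ : τ ∈ Set.range ιZ := ⟨z₀, (H23.GysinPb.apply_fst_eq ιY ιZ p).symm⟩
  obtain ⟨a, ha, haδ, hPξ⟩ := H9Mult.exists_dim_ptIdeal f hδ hξs
  obtain ⟨b, hb, hbδ, hPη⟩ := H9Mult.exists_dim_ptIdeal f hδ hηs
  have ha' : ((a : ℕ) : WithBot ℕ∞) ≤ ringKrullDim (X.presheaf.stalk τ ⧸ IY) :=
    ha ▸ ringKrullDim_le_of_surjective _ (Ideal.Quotient.factor_surjective (hle ιY ξ hξr hτY))
  have hb' : ((b : ℕ) : WithBot ℕ∞) ≤ ringKrullDim (X.presheaf.stalk τ ⧸ IZ) :=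
    hb ▸ ringKrullDim_le_of_surjective _ (Ideal.Quotient.factor_surjective (hle ιZ η hηr hτZ))
  have hab : a + b = D := by
    have : ((a + b : ℕ) : ℤ) = D := by
      rw [Nat.cast_add, haδ, hbδ, hDn, hξd, hηd]
      have : δ τ = r + s - n := hτ
      omega
    exact_mod_cast this
  have hm1 : IY ≤ IsLocalRing.maximalIdeal _ := le_sup_left.trans hmax.le
  have hm2 : IZ ≤ IsLocalRing.maximalIdeal _ := le_sup_right.trans hmax.le
  obtain ⟨hYr, hZr, hsum⟩ := H9Mult.isRegular_quot_of_sup_eq IY IZ hmax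
    (ne_top_of_le_ne_top (IsLocalRing.maximalIdeal.isMaximal _).ne_top hm1)
    (ne_top_of_le_ne_top (IsLocalRing.maximalIdeal.isMaximal _).ne_top hm2)
    (by rw [hD, ← hab, Nat.cast_add]; exact add_le_add ha' hb')
  obtain ⟨a', ha''⟩ := H9Mult.chi_eq_length.exists_nat_dim
    ((ringKrullDim_quotient_le IY).trans hD.le : ringKrullDim (X.presheaf.stalk τ ⧸ IY) ≤ (D : ℕ))
  obtain ⟨b', hb''⟩ := H9Mult.chi_eq_length.exists_nat_dim
    ((ringKrullDim_quotient_le IZ).trans hD.le : ringKrullDim (X.presheaf.stalk τ ⧸ IZ) ≤ (D : ℕ))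
  rw [ha'', hb'', hD] at hsum
  rw [ha''] at ha'
  rw [hb''] at hb'
  have e1 : a ≤ a' := by exact_mod_cast ha'
  have e2 : b ≤ b' := by exact_mod_cast hb'
  have e3 : a' + b' ≤ D := by exact_mod_cast hsum
  haveI : IsDomain (X.presheaf.stalk τ ⧸ IY) := RegLoc6.isDomain_of_isRegularLocalRing _
  haveI : IsDomain (X.presheaf.stalk τ ⧸ IZ) := RegLoc6.isDomain_of_isRegularLocalRing _
  haveI : IY.IsPrime := (Ideal.Quotient.isDomain_iff_prime _).1 inferInstance
  haveI : IZ.IsPrime := (Ideal.Quotient.isDomain_iff_prime _).1 inferInstance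
  -- the components through the point
  have hptY : ∀ ζ, ζ ∈ Set.range ιY → δ ζ = r → ζ ⤳ τ → IY = IntMult.stalkIdeal (IntMult.ptIdeal ζ) τ := by
    intro ζ h1 h2 h3
    obtain ⟨c, hc, hcδ, -⟩ := H9Mult.exists_dim_ptIdeal f hδ h3
    have : c = a := by
      have : (c : ℤ) = a := by rw [hcδ, haδ, h2, hξd]; rfl
      exact_mod_cast this
    refine H9Mult.eq_of_le_of_dim (hle ιY ζ h1 hτY) (a := a) ?_ (by rw [hc, this])
    rw [ha'', show a' = a by omega]
  have hptZ : ∀ ζ, ζ ∈ Set.range ιZ → δ ζ = s → ζ ⤳ τ → IZ = IntMult.stalkIdeal (IntMult.ptIdeal ζ) τ := by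
    intro ζ h1 h2 h3
    obtain ⟨c, hc, hcδ, -⟩ := H9Mult.exists_dim_ptIdeal f hδ h3
    have : c = b := by
      have : (c : ℤ) = b := by rw [hcδ, hbδ, h2, hηd]; rfl
      exact_mod_cast this
    refine H9Mult.eq_of_le_of_dim (hle ιZ ζ h1 hτZ) (a := b) ?_ (by rw [hc, this])
    rw [hb'', show b' = b by omega]
  have hinj : ∀ ζ ζ' : X, ζ ⤳ τ → ζ' ⤳ τ →
      IntMult.stalkIdeal (IntMult.ptIdeal ζ) τ = IntMult.stalkIdeal (IntMult.ptIdeal ζ') τ → ζ = ζ' := by
    have key : ∀ ζ ζ' : X, ζ ⤳ τ → ζ' ⤳ τ →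
        IntMult.stalkIdeal (IntMult.ptIdeal ζ) τ = IntMult.stalkIdeal (IntMult.ptIdeal ζ') τ → ζ ⤳ ζ' := by
      intro ζ ζ' h1 h2 he
      by_contra hns
      obtain ⟨-, -, -, hprime⟩ := H9Mult.exists_dim_ptIdeal f hδ (specializes_refl ζ')
      refine hprime.ne_top ?_
      rw [H9Mult.stalkIdeal_eq_stI, ← Div21Lib.stI_generize _ h2, ← H9Mult.stalkIdeal_eq_stI, ← he,
        H9Mult.stalkIdeal_eq_stI, Div21Lib.stI_generize, ← H9Mult.stalkIdeal_eq_stI]
      refine H9Mult.stalkIdeal_eq_top _ fun hmem => hns (specializes_iff_mem_closure.2 ?_)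
      rw [← H9Mult.support_ptIdeal]
      exact hmem
    exact fun ζ ζ' h1 h2 he => ((key ζ ζ' h1 h2 he).antisymm (key ζ' ζ h2 h1 he.symm)).eq
  have hcY : Cyc.subschemeFun δ r ιY ξ = 1 := by
    rw [← hξd]
    exact H9Mult.subschemeFun_eq_one ιY y₀ hξs (hIY.symm.trans (hptY ξ hξr hξd hξs)) hξr δ
  have hcZ : Cyc.subschemeFun δ s ιZ η = 1 := by
    rw [← hηd]
    refine H9Mult.subschemeFun_eq_one ιZ z₀ hηs' ?_ hηr δ
    rw [FlatX.ker_stalkMap_eq_stI, ← H9Mult.stalkIdeal_eq_stI, ← H23.GysinPb.apply_fst_eq ιY ιZ p]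
    exact hptZ η hηr hηd hηs
  refine ⟨?_, fun y hy => ?_, fun z hz => ?_⟩
  · unfold IntMult.interProd
    rw [finsum_eq_single _ ⟨(ξ, η), hξs, hηs, by rw [hξd, hηd, hτ]⟩]
    · rw [hcY, hcZ, one_mul, one_mul]
      show IntMult.chi (X.presheaf.stalk τ) (X.presheaf.stalk τ ⧸ IntMult.stalkIdeal (IntMult.ptIdeal η) τ)
        (X.presheaf.stalk τ ⧸ IntMult.stalkIdeal (IntMult.ptIdeal ξ) τ) = 1
      rw [← hptY ξ hξr hξd hξs, ← hptZ η hηr hηd hηs]
      rw [(H9Mult.chi_eq_length IZ IY (H9Mult.isCM_of_regular _) (H9Mult.isCM_of_regular _)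
        (by rw [hD, ha'', hb'']; exact_mod_cast (by omega : D ≤ b' + a')) ⟨1, by rw [pow_one, sup_comm, hmax]⟩).2]
      rw [show Module.length (X.presheaf.stalk τ) (X.presheaf.stalk τ ⧸ (IZ ⊔ IY)) = 1 from
        Module.length_eq_one_iff.2 (isSimpleModule_iff_isCoatom.2 (by
          rw [sup_comm, hmax]; exact (IsLocalRing.maximalIdeal.isMaximal _).out))]
      rfl
    · rintro ⟨⟨ζ, θ⟩, hζ, hθ, hd'⟩ hne
      by_contra h0
      simp only [ne_eq, mul_eq_zero, not_or] at h0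
      obtain ⟨hζr, hζd⟩ := hrange ιY r ζ h0.1.1
      obtain ⟨hθr, hθd⟩ := hrange ιZ s θ h0.1.2
      refine hne (Subtype.ext (Prod.ext ?_ ?_))
      · exact hinj ζ ξ hζ hξs ((hptY ζ hζr hζd hζ).symm.trans (hptY ξ hξr hξd hξs))
      · exact hinj θ η hθ hηs ((hptZ θ hθr hθd hθ).symm.trans (hptZ η hηr hηd hηs))
  · obtain rfl : y = y₀ := ιY.isEmbedding.injective hy
    haveI := hYr
    exact IsRegularLocalRing.of_ringEquiv
      ((Ideal.quotEquivOfEq hIY).trans (RingHom.quotientKerEquivOfSurjective (ιY.stalkMap_surjective y₀)))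
  · obtain rfl : z = z₀ := ιZ.isEmbedding.injective (hz.trans (H23.GysinPb.apply_fst_eq ιY ιZ p))
    haveI := hZr
    have e0 : τ = ιZ z₀ := H23.GysinPb.apply_fst_eq ιY ιZ p
    have key : ∀ w : X, w = τ → IsRegularLocalRing (X.presheaf.stalk w ⧸ Div21Lib.stI ιZ.ker w) := by
      rintro w rfl
      exact IsRegularLocalRing.of_ringEquiv (Ideal.quotEquivOfEq (H9Mult.stalkIdeal_eq_stI ιZ.ker τ))
    haveI := key _ e0.symm
    exact IsRegularLocalRing.of_ringEquiv ((Ideal.quotEquivOfEq (FlatX.ker_stalkMap_eq_stI ιZ z₀).symm).trans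
      (RingHom.quotientKerEquivOfSurjective (ιZ.stalkMap_surjective z₀)))

end Groth.Agent.S1954
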