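import Groth.Statements.S1955
import Groth.Agent.H9ChowK.Compare
import Groth.Agent.H9ChowK.CycleSheaf
-- import your own Groth.Agent.* helpers here

set_option autoImplicit false
universe u
open CategoryTheory AlgebraicGeometry
open Cyc

namespace Groth.Agent.S1955

/-- The assignment F ↦ [F]_k induces an isomorphism from K_0(Coh_{≤k}(X)/Coh_{≤k−1}(X)) onto the group
Z_k(X) of k-cycles: there is an additive map ψ to coefficient functions with ψ[F] = [F]_k for every
coherent F with support of δ-dimension ≤ k, which is injective with image exactly the coefficient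
functions of k-cycles. K_0 of the Serre quotient is modelled as K_0(Coh_{≤k}) modulo the classes of
Coh_{≤k−1} (Cyc.K0CohQuot). Here a pair (X, δ) with Cyc.IsSetup plays the role of a scheme locally
of finite type over a fixed base with a dimension function (X locally Noetherian with universally
catenary local rings, δ a dimension function). -/
theorem result (X : Scheme.{u}) (δ : X → ℤ) (hX : Cyc.IsSetup X δ) (k : ℤ) : ∃ ψ : Cyc.K0CohQuot δ k (k - 1) →+ (X → ℤ), (∀ F : X.Modules, Cyc.CohLe δ k F → ψ (Cyc.toK0CohQuot δ k (k - 1) F) = Cyc.sheafFun δ k F) ∧ Function.Injective ψ ∧ Set.range ψ = {a | ∃ α : AlgebraicCycle X ℤ, α ∈ Cyc.Zk X δ k ∧ ⇑α = a} := by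
  haveI := hX.1
  have hd := hX.2.2
  obtain ⟨ψ, hψ, hinj⟩ := H9ChowK.exists_sheafFunHom hd k
  refine ⟨ψ, hψ, hinj, Set.ext fun a => ⟨?_, ?_⟩⟩
  · rintro ⟨c, rfl⟩
    obtain ⟨F, G, hF, hG, rfl⟩ := H9ChowK.exists_sub_repr c
    have hloc : ∀ M, Cyc.CohLe δ k M → ∃ γ : AlgebraicCycle X ℤ, γ ∈ Cyc.Zk X δ k ∧ ⇑γ = Cyc.sheafFun δ k M :=
      fun M hM => ⟨{
        toFun := Cyc.sheafFun δ k M
        supportWithinDomain' := fun _ _ => trivial
        supportLocallyFiniteWithinDomain' := fun z _ => by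
          obtain ⟨U, hU, hfin⟩ := H23.P1Fam.locFin_sheafFun hd hM.1 hM.2 z
          exact ⟨U, hU, hfin⟩ }, fun x hx => if_neg hx, rfl⟩
    obtain ⟨γ, hγ, eγ⟩ := hloc F hF
    obtain ⟨γ', hγ', eγ'⟩ := hloc G hG
    refine ⟨γ - γ', fun x hx => ?_, ?_⟩
    · rw [Function.locallyFinsuppWithin.coe_sub, Pi.sub_apply, hγ x hx, hγ' x hx, sub_zero]
    · rw [map_sub, hψ F hF, hψ G hG, Function.locallyFinsuppWithin.coe_sub, eγ, eγ']
  · rintro ⟨α, hα, rfl⟩
    have hk : ∀ ζ, (⇑α : X → ℤ) ζ ≠ 0 → δ ζ = k := fun ζ hζ => by_contra fun hn => hζ (hα ζ hn)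
    have hf := H9ChowK.finPts_cycle α
    have h1 := H9ChowK.cohLe_cycleSheafPos hd hf hk
    have h2 : Cyc.CohLe δ k (Cyc.cycleSheafNeg ⇑α) :=
      H9ChowK.cohLe_cycleSheafPos hd (H9ChowK.finPts_neg hf) fun ζ hζ => hk ζ (by simpa using hζ)
    refine ⟨Cyc.toK0CohQuot δ k (k - 1) (Cyc.cycleSheafPos ⇑α) - Cyc.toK0CohQuot δ k (k - 1) (Cyc.cycleSheafNeg ⇑α), ?_⟩
    rw [map_sub, hψ _ h1, hψ _ h2, H9ChowK.cycle_eq_sub hd hf hk]

end Groth.Agent.S1955
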