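import Groth.Statements.S19553
import Groth.Agent.H7Index.Transversal
import Groth.Agent.ArInt.GenericDim
import Groth.Agent.CurveBC.Geometry
import Groth.Agent.Lib.Euler

set_option linter.style.haveILetI false
set_option backward.isDefEq.respectTransparency false
set_option backward.isDefEq.respectTransparency.types false
set_option maxHeartbeats 1000000

open Groth.Agent

set_option autoImplicit false
universe u
open CategoryTheory CategoryTheory.Limits AlgebraicGeometry
open Models

namespace Groth.Agent.S19553

/-- The surjectivity of the degree map, which is the assertion in the published proof that uses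
completeness of R and an algebraically closed residue field. Let R be a complete discrete valuation
ring with algebraically closed residue field k and fraction field K, C a smooth proper curve over K
with H⁰(C, O_C) = K and dim_K H¹(C, O_C) = g ≥ 2, X → Spec R a regular proper model of C, and Γ₁, …,
Γ_n the irreducible components of the closed fibre. Then for each i there is an invertible
O_X-module M with deg_k(M|Γ_i) = 1 and deg_k(M|Γ_j) = 0 for j ≠ i; in other words the degree map
from invertible modules on X to ℤ^n is surjective. (The published proposition, which also assumes
that the multiplicities of the Γ_j have no common divisor, is the exact sequence 0 → Pic⁰ X → Pic C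
→ G → 0 with Pic⁰ X the classes of degree zero on every Γ_j and G the cokernel of the intersection
matrix; its other constituents — the kernel of restriction to C is generated by the O_X(Γ_j), a
class of degree zero on every Γ_j and trivial on C is trivial when the multiplicities are coprime,
and the kernel of the induced map on Pic C — hold over any discrete valuation ring and are stated
separately; this row is the assertion whose published argument uses that R is complete with
algebraically closed residue field.) -/
theorem result
    (R : Type u) [CommRing R] [IsDomain R] [IsDiscreteValuationRing R]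
    [IsAdicComplete (IsLocalRing.maximalIdeal R) R]
    (hk : IsAlgClosed (IsLocalRing.ResidueField R))
    (C : Scheme.{u}) (fC : C ⟶ (Spec (CommRingCat.of (FractionRing R)))) [IsProper fC] [Smooth fC]
    (hC0 : Models.hRank (FractionRing R) C fC (Coh.structureModule C) 0 = 1)
    (g : ℕ) (hg2 : 2 ≤ g) (hg : Models.curveGenus (FractionRing R) C fC = g)
    (X : Scheme.{u}) (p : X ⟶ (Spec (CommRingCat.of R))) (hX : Models.IsRegularProperModel R X p C fC)
    {n : ℕ} (Γ : Fin n → ArSurf.VertComp R (Over.mk p)) (hΓ : Models.IsComponentList R (Over.mk p) Γ)
    (i : Fin n) :
    ∃ M : X.Modules, PicF.IsInvertible M ∧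
      ∀ j : Fin n, ArSurf.inter R (Over.mk p) M (Γ j) = if j = i then 1 else 0 := by
  classical
  letI : C.Over (Spec (CommRingCat.of (FractionRing R))) := ⟨fC⟩
  haveI : IsProper (C ↘ Spec (CommRingCat.of (FractionRing R))) := ‹IsProper fC›
  haveI : Smooth (C ↘ Spec (CommRingCat.of (FractionRing R))) := ‹Smooth fC›
  haveI : IsIntegral C := CurveBC.isIntegral_of_h0 (FractionRing R) C hC0
  haveI := hX.2.1
  have hCn : IsNoetherian C := CurveCohLib.isNoetherian_of_proper (k := FractionRing R)
  have hle1 := ArInt.dim_le_one hX.1 Γ hΓ
  have hdim : topologicalKrullDim C = 1 := by
    refine le_antisymm hle1 ?_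
    by_contra hlt
    push Not at hlt
    have hall : ∀ x : C, closure {x} = ({x} : Set C) := fun x => by
      refine subset_antisymm (fun y hy => ?_) subset_closure
      by_contra hne
      have hyx : y < x := lt_of_le_not_ge (specializes_iff_mem_closure.2 hy) fun h =>
        hne (Specializes.antisymm (specializes_iff_mem_closure.2 hy) h).eq.symm
      have h1 : ((1 : ℕ) : WithBot ℕ∞) ≤ Order.krullDim C :=
        Order.LTSeries.length_le_krullDim (RelSeries.cons (RelSeries.singleton _ x) y hyx)
      rw [← Order.krullDim_eq_of_orderIso (irreducibleSetEquivPoints (α := C))] at h1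
      exact absurd (lt_of_le_of_lt h1 hlt) (lt_irrefl _)
    have hgood := Euler.good_of_support (RefX.isCoh_unit (X := C)) fun x _ => hall x
    haveI := hgood.1 1 le_rfl
    have h0 : Models.curveGenus (FractionRing R) C fC = 0 := Module.finrank_zero_of_subsingleton
    omega
  have hC : Curve.IsSmoothProperCurve (FractionRing R) C fC := ⟨inferInstance, inferInstance, inferInstance, hdim⟩
  have hH0 : IsIso fC.appTop :=
    (ConcreteCategory.isIso_iff_bijective _).2 (CurveBC.bijective_appTop (FractionRing R) C hC0)
  haveI := (ArInt.model_facts hC hX.1).1
  haveI := ArInt.isSurf hC hX Γ hΓ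
  haveI : Flat (Over.mk p).hom := hX.1.1
  haveI := hk
  haveI : HenselianLocalRing R :=
    { is_henselian := fun f hf a₀ h₁ h₂ =>
        HenselianRing.is_henselian (I := IsLocalRing.maximalIdeal R) f hf a₀ h₁ (h₂.map _) }
  exact H7Index.Transversal.exists_inter_eq_ite Γ hΓ i

end Groth.Agent.S19553
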