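import Groth.Statements.S19566
import Groth.Agent.StkMassLib.Fibre
import Groth.Agent.StkMassLib.FinPts

set_option backward.isDefEq.respectTransparency false
set_option backward.isDefEq.respectTransparency.types false

set_option autoImplicit false
universe u
open CategoryTheory CategoryTheory.Limits AlgebraicGeometry
open AlgSt

namespace Groth.Agent.S19566

open CartesianMonoidalCategory MonoidalCategory

/-- Let F be a finite field, X a smooth F-scheme of finite type, and G a smooth affine connected F-group
scheme acting on X. Form the quotient stack [X/G] as the category over F-schemes whose objects over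
T are fppf G-torsors P → T (as schemes) with a G-equivariant map P → X, and take its fibre category
over Spec F itself. Then the isomorphism classes of this fibre are finite in number, each of its
objects has a finite automorphism group, and the mass Σ_{[ξ]} 1/#Aut(ξ) over the isomorphism classes
equals #X(F) / #G(F), the number of F-points of X divided by the order of the finite group G(F).
(The published statement allows X to be a smooth Deligne–Mumford stack, with 1/#Aut(x) weights on
the right as well, and G any connected algebraic group; this row is the case of a scheme X and a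
smooth affine G, where F-points of X have no automorphisms.) -/
theorem result
    {F : Type u} [Field F] [Finite F]
    (X G : Over (Spec (CommRingCat.of F))) [GrpObj G] (aX : AlgGrp.Action G X)
    [Smooth X.hom] [QuasiCompact X.hom] [Smooth G.hom] [IsAffineHom G.hom] [ConnectedSpace ↥G.left] :
    Finite (Quotient (isIsomorphicSetoid ((AlgSt.QuotSt Scheme.fppfPrecoverage G aX).p.Fiber (Over.mk (𝟙 (Spec (CommRingCat.of F))))))) ∧
      (∀ ξ : ((AlgSt.QuotSt Scheme.fppfPrecoverage G aX).p.Fiber (Over.mk (𝟙 (Spec (CommRingCat.of F))))), Finite (Aut ξ)) ∧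
      ∑ᶠ c : Quotient (isIsomorphicSetoid ((AlgSt.QuotSt Scheme.fppfPrecoverage G aX).p.Fiber (Over.mk (𝟙 (Spec (CommRingCat.of F)))))), ((Nat.card (Aut c.out) : ℚ))⁻¹ =
        (Nat.card (Over.mk (𝟙 (Spec (CommRingCat.of F))) ⟶ X) : ℚ) /
          (Nat.card (Over.mk (𝟙 (Spec (CommRingCat.of F))) ⟶ G) : ℚ) := by
  have : Nontrivial F := inferInstance
  haveI : IsAffine G.left := isAffine_of_isAffineHom G.hom
  haveI : QuasiCompact G.hom := inferInstance
  haveI := StkMassLib.finite_pts G
  haveI := StkMassLib.finite_pts X
  refine StkMassLib.mass (T := Over.mk (𝟙 (Spec (CommRingCat.of F)))) ?_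
  intro a
  obtain ⟨⟨A, P, act, π, cart, loc, φ, eqv⟩, hA⟩ := a
  cases hA
  have hne : Nonempty P.left := by
    obtain ⟨R, hR, hsec⟩ := loc
    obtain ⟨S', f, hf, y, hy⟩ : ∃ (S' : Scheme.{u}) (f : S' ⟶ Spec (CommRingCat.of F)), R f ∧
        ∃ y : S', f.base y = IsLocalRing.closedPoint F := by
      obtain ⟨Y, g, ⟨hg⟩, hy⟩ := hR.1 (IsLocalRing.closedPoint F)
      exact ⟨_, _, hg, hy⟩
    obtain ⟨s, -⟩ := hsec f hf
    exact ⟨s.base y⟩
  have hterm : IsTerminal (Over.mk (𝟙 (Spec (CommRingCat.of F)))) := Over.mkIdTerminal
  have hs : IsIso (lift act.act (snd G P)) := by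
    let w : (fst P P) ≫ π = snd P P ≫ π := hterm.hom_ext _ _
    refine ⟨⟨cart.lift (fst P P) (snd P P) w, cart.hom_ext ?_ ?_, CartesianMonoidalCategory.hom_ext _ _ ?_ ?_⟩⟩
    · simp
    · simp
    · simp
    · simp
  obtain ⟨b⟩ := StkMassLib.exists_point F G P act hs
  exact ⟨b, hterm.hom_ext _ _⟩

end Groth.Agent.S19566
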