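import Groth.Statements.S19569
import Mathlib

set_option autoImplicit false
universe u
open CAlg

namespace Groth.Agent.S19569

open TensorProduct in
/-- Let A be the colimit of a directed system of rings (A_i), given by compatible ring maps A_i → A
which are jointly surjective and such that an element of some A_i mapping to zero in A already maps
to zero in some later A_j, and let B be an étale A-algebra. Then for some index i there is an étale
A_i-algebra B_i such that B is isomorphic, as an A-algebra, to the base change A ⊗_{A_i} B_i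
(existence of an isomorphism). (Stated for a system indexed by a directed preordered set.) -/
theorem result {ι : Type u} [Preorder ι] [IsDirected ι (· ≤ ·)] [Nonempty ι]
    (G : ι → Type u) [∀ i, CommRing (G i)] (f : ∀ i j, i ≤ j → (G i →+* G j))
    (A : Type u) [CommRing A] (g : ∀ i, G i →+* A) (hg : ∀ i j (h : i ≤ j), (g j).comp (f i j h) = g i)
    (hsurj : ∀ a : A, ∃ i, ∃ x : G i, g i x = a)
    (hker : ∀ i (x : G i), g i x = 0 → ∃ j, ∃ h : i ≤ j, f i j h x = 0)
    (B : Type u) [CommRing B] [Algebra A B] [Algebra.Etale A B] :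
    ∃ (i : ι) (Bi : Type u) (_ : CommRing Bi) (_ : Algebra (G i) Bi), Algebra.Etale (G i) Bi ∧
      letI : Algebra (G i) A := (g i).toAlgebra
      Nonempty (B ≃ₐ[A] A ⊗[G i] Bi) := by
  classical
  obtain ⟨A₀, B₀, _, _, hA₀, hB₀, ⟨e⟩⟩ := Algebra.Etale.exists_subalgebra_fg (R := ℤ) (A := A) (B := B)
  haveI : Algebra.FiniteType ℤ A₀ := (Subalgebra.fg_iff_finiteType A₀).mp hA₀
  haveI hfp : Algebra.FinitePresentation ℤ A₀ := Algebra.FinitePresentation.of_finiteType.mp inferInstance
  obtain ⟨n, φ, hφ, hker'⟩ := hfp.out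
  obtain ⟨S, hS⟩ := hker'
  have step : ∀ {i j : ι} (h : i ≤ j) (x : G i), g j (f i j h x) = g i x := fun h x => RingHom.congr_fun (hg _ _ h) x
  -- lift the generators
  choose idx a ha using fun m : Fin n => hsurj ((φ (MvPolynomial.X m) : A₀) : A)
  obtain ⟨i₀, hi₀⟩ := Finite.exists_le idx
  let a₀ : Fin n → G i₀ := fun m => f _ _ (hi₀ m) (a m)
  have hbase : (g i₀).comp (MvPolynomial.eval₂Hom (Int.castRingHom (G i₀)) a₀) =
      (algebraMap A₀ A).comp φ.toRingHom := by
    refine MvPolynomial.ringHom_ext (fun r => ?_) fun m => ?_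
    · simp
    · simp [a₀, step, ha]
  have key : ∀ T : Finset (MvPolynomial (Fin n) ℤ), (∀ p ∈ T, φ p = 0) →
      ∃ (i : ι) (ev : MvPolynomial (Fin n) ℤ →+* G i),
        (g i).comp ev = (algebraMap A₀ A).comp φ.toRingHom ∧ ∀ p ∈ T, ev p = 0 := by
    intro T
    induction T using Finset.induction with
    | empty => exact fun _ => ⟨i₀, _, hbase, by simp⟩
    | insert p T hpT ih =>
      intro hT
      obtain ⟨i, ev, hev, hev0⟩ := ih fun q hq => hT q (Finset.mem_insert_of_mem hq)
      have h0 : g i (ev p) = 0 := by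
        have := RingHom.congr_fun hev p
        simpa [hT p (Finset.mem_insert_self p T)] using this
      obtain ⟨j, hj, hz⟩ := hker i _ h0
      refine ⟨j, (f i j hj).comp ev, by rw [← RingHom.comp_assoc, hg, hev], fun q hq => ?_⟩
      rcases Finset.mem_insert.mp hq with rfl | hq
      · exact hz
      · rw [RingHom.comp_apply, hev0 q hq, map_zero]
  obtain ⟨i, ev, hev, hev0⟩ := key S fun p hp => by
    have h1 : p ∈ RingHom.ker φ.toRingHom := hS ▸ Ideal.subset_span hp
    exact h1
  have hle : RingHom.ker φ.toRingHom ≤ RingHom.ker ev := by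
    rw [← hS]; exact Ideal.span_le.mpr hev0
  let ψ : A₀ →+* G i := RingHom.liftOfSurjective φ.toRingHom hφ ⟨ev, hle⟩
  have hψ : (g i).comp ψ = algebraMap A₀ A := by
    ext y
    obtain ⟨y, rfl⟩ := hφ y
    rw [RingHom.comp_apply]
    erw [RingHom.liftOfRightInverse_comp_apply]
    exact RingHom.congr_fun hev y
  letI : Algebra A₀ (G i) := ψ.toAlgebra
  letI : Algebra (G i) A := (g i).toAlgebra
  haveI : IsScalarTower A₀ (G i) A := IsScalarTower.of_algebraMap_eq' hψ.symm
  exact ⟨i, G i ⊗[A₀] B₀, inferInstance, inferInstance, inferInstance,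
    ⟨e.trans (Algebra.TensorProduct.cancelBaseChange A₀ (G i) A A B₀).symm⟩⟩

end Groth.Agent.S19569
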