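import Groth.Statements.S19585
import Groth.Agent.AVEuler.Conc
-- import your own Groth.Agent.* helpers here

set_option autoImplicit false
universe u
open CategoryTheory CategoryTheory.Limits MonoidalCategory CartesianMonoidalCategory MonObj GrpObj AlgebraicGeometry
open AbVar

set_option backward.isDefEq.respectTransparency false
attribute [-instance] CategoryTheory.catToReflQuiver
open scoped Groth.Agent.H23.PicMul

namespace Groth.Agent.S19585

/-- Let k be a field and f : X → Y an isogeny between abelian varieties over k (X, Y proper
geometrically integral k-group schemes; f a finite, flat, surjective homomorphism) and L an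
invertible O_Y-module which is non-degenerate of index i, expressed by the equivalent condition that
H^j(Y, L) = 0 for j ≠ i and H^i(Y, L) ≠ 0. Then f^*L is non-degenerate of the same index: H^j(X,
f^*L) = 0 for j ≠ i and H^i(X, f^*L) ≠ 0. (No assumption on the degree of f or on the field.) -/
theorem result
    (k : Type u) [Field k] (X Y : Over (Spec (CommRingCat.of k)))
    [GrpObj X] [IsProper X.hom] [GeometricallyIntegral X.hom]
    [GrpObj Y] [IsProper Y.hom] [GeometricallyIntegral Y.hom]
    (f : X ⟶ Y) [IsMonHom f] [IsFinite f.left] [Flat f.left] [Surjective f.left]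
    (L : Y.left.Modules) (hL : PicF.IsInvertible L) (i : ℕ)
    (hvan : ∀ j : ℕ, j ≠ i → Subsingleton (Coh.HH Y.left L j)) (hne : Nontrivial (Coh.HH Y.left L i)) :
    (∀ j : ℕ, j ≠ i → Subsingleton (Coh.HH X.left ((Scheme.Modules.pullback f.left).obj L) j)) ∧
      Nontrivial (Coh.HH X.left ((Scheme.Modules.pullback f.left).obj L) i) := by
  have hi : Groth.Agent.AVEuler.Conc Y.left i L := ⟨hvan, not_subsingleton_iff_nontrivial.2 hne⟩
  let fb : Groth.Agent.AVEuler.bar X ⟶ Groth.Agent.AVEuler.bar Y :=
    (Over.pullback (Groth.Agent.AVEuler.barMap (k := k))).map f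
  haveI : IsMonHom fb := inferInstanceAs (IsMonHom ((Over.pullback (Groth.Agent.AVEuler.barMap (k := k))).map f))
  haveI : IsFinite fb.left := MorphismProperty.baseChange_map (P := @IsFinite) _ f inferInstance
  haveI : Flat fb.left := MorphismProperty.baseChange_map (P := @Flat) _ f inferInstance
  haveI : Surjective fb.left := MorphismProperty.baseChange_map (P := @Surjective) _ f inferInstance
  have hiY := (Groth.Agent.AVEuler.conc_bar_iff Y hL i).2 hi
  have hLY := PicClLib.isInvertible_pullback (Groth.Agent.AVEuler.barP Y) hL
  have h := Groth.Agent.AVEuler.conc_pullback fb hLY (Groth.Agent.AVEuler.finite_Fix_of_conc hLY hiY) hiY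
  have h' := (Groth.Agent.AVEuler.conc_bar_iff X (PicClLib.isInvertible_pullback f.left hL) i).1
    (h.congr ((Scheme.Modules.pullbackComp _ _).app L ≪≫
      (Scheme.Modules.pullbackCongr (pullback.lift_fst _ _ _)).app L ≪≫
      ((Scheme.Modules.pullbackComp _ _).app L).symm))
  exact ⟨h'.1, not_subsingleton_iff_nontrivial.1 h'.2⟩


end Groth.Agent.S19585
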