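import Groth.Statements.S19593
import Groth.Agent.FppfPic.GeneralSection
import Groth.Agent.RelCube.PnFamily
-- import your own Groth.Agent.* helpers here

set_option autoImplicit false
universe u
open CategoryTheory AlgebraicGeometry
open PicF

set_option backward.isDefEq.respectTransparency false
set_option backward.isDefEq.respectTransparency.types false
set_option synthInstance.maxHeartbeats 400000
set_option maxHeartbeats 1000000
set_option linter.style.haveILetI false
attribute [-instance] CategoryTheory.catToReflQuiver

namespace Groth.Agent.S19593

/-- Let k be an infinite field, Y a scheme proper over k with a relatively very ample O_Y-module A (the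
pullback of O(1) along an immersion of Y into the Proj of a symmetric algebra over k), and y_1, …,
y_m finitely many points of Y. Then some global section of A generates A at every y_i. (The
published statement takes Y projective over k and A a very ample line bundle; here Y is proper over
k and A very ample relative to Y → Spec k, which makes Y projective.) -/
theorem result
    (k : Type u) [Field k] [Infinite k] (Y : Scheme.{u}) (f : Y ⟶ Spec (CommRingCat.of k)) [IsProper f]
    (A : Y.Modules) (hA : RelProj.IsRelVeryAmple f A)
    (ι : Type) [Finite ι] (y : ι → ↥Y) :
    ∃ s : Coh.structureModule Y ⟶ A, ∀ i : ι, y i ∈ CohB1.genLocus A s := by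
  open Groth.Agent in
  obtain ⟨n, i, -, -, ⟨e⟩⟩ := VeryAmpleX.isRelVeryAmplePn_of_isRelVeryAmple f hA
  open Groth.Agent in
  exact FppfPic.exists_section_finite k f hA
    (H23.PicMul.isInvertible_of_iso e.symm (PicClLib.isInvertible_pullback i (RelCube.isInvertible_twistOver n _ 1))) ι y


end Groth.Agent.S19593
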