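import Groth.Statements.S19618
import Groth.Agent.BlowUpX.ProperInter

set_option autoImplicit false
universe u
open CategoryTheory CategoryTheory.Limits AlgebraicGeometry Opposite TopologicalSpace
open BlowUp

namespace Groth.Agent.S19618

/-- Let X be a locally Noetherian scheme, Y an effective Cartier divisor on X (a quasi-coherent ideal
sheaf which, near every point, is generated on some affine open by one nonzerodivisor; Y is its
support) and Z a closed integral subscheme (a closed immersion i from an integral scheme with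
generic point ξ). If Y and Z intersect properly — every point ζ of Y ∩ Z which is maximal under
generization inside Y ∩ Z satisfies dim O_{X,ζ} = codim(Y,X) + codim(Z,X), where codim(Y,X) is the
infimum over y ∈ Y of dim O_{X,y} and codim(Z,X) = dim O_{X,i(ξ)} — then Z is not contained in Y. -/
theorem result {X Z : Scheme.{u}}
    [IsLocallyNoetherian X] (𝓘 : X.IdealSheafData) (hY : BlowUp.IsEffCartierIdeal 𝓘)
    (i : Z ⟶ X) [IsClosedImmersion i] [IsIntegral Z]
    (hprop : ∀ ζ : ↥X, ζ ∈ (𝓘.support : Set ↥X) ∩ Set.range i.base →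
        (∀ ζ' : ↥X, ζ' ∈ (𝓘.support : Set ↥X) ∩ Set.range i.base → ζ' ⤳ ζ → ζ' = ζ) →
        ringKrullDim ↑(X.presheaf.stalk ζ) =
          (⨅ y : (𝓘.support : Set ↥X), ringKrullDim ↑(X.presheaf.stalk y.1)) +
            ringKrullDim ↑(X.presheaf.stalk (i (genericPoint ↥Z)))) :
    ¬ Set.range i.base ⊆ (𝓘.support : Set ↥X) := by
  intro hsub
  have hgen : ∀ z : Z, genericPoint ↥Z ⤳ z := fun z => (genericPoint_spec ↥Z).specializes (Set.mem_univ z)
  have h1 := hprop (i (genericPoint ↥Z)) ⟨hsub ⟨_, rfl⟩, _, rfl⟩ (by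
    rintro _ ⟨-, z, rfl⟩ hz
    exact (hz.antisymm ((hgen z).map i.continuous)).eq)
  rw [Groth.Agent.DimFormula.ringKrullDim_stalk (i (genericPoint ↥Z))] at h1
  generalize Groth.Agent.DimFormula.codim (i (genericPoint ↥Z)) = n at h1
  have h2 : (1 : WithBot ℕ∞) ≤ ⨅ y : (𝓘.support : Set ↥X), ringKrullDim ↑(X.presheaf.stalk y.1) :=
    le_iInf fun y => Groth.Agent.BlowUpX.one_le_ringKrullDim_of_mem_support 𝓘 hY y.2
  have h3 : (1 : WithBot ℕ∞) + (n : WithBot ℕ∞) ≤ (n : WithBot ℕ∞) := (add_le_add_left h2 _).trans_eq h1.symm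
  have h4 : ((1 + n : ℕ) : WithBot ℕ∞) ≤ ((n : ℕ) : WithBot ℕ∞) := by exact_mod_cast h3
  have h5 : 1 + n ≤ n := by exact_mod_cast h4
  omega

end Groth.Agent.S19618
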