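import Groth.Statements.S19625
import Groth.Agent.SurfRR.Curve
import Groth.Agent.SurfStab.LMEuler
import Groth.Agent.AmpleVan.LiftFibre

set_option autoImplicit false
set_option linter.style.haveILetI false
set_option backward.isDefEq.respectTransparency false
set_option backward.isDefEq.respectTransparency.types false
universe u
open CategoryTheory CategoryTheory.Limits AlgebraicGeometry
open Surf

namespace Groth.Agent.S19625

open Groth.Agent
open scoped Groth.Agent.H23.PicMul

/-- Let k be a field and S an integral surface (dimension two) which is smooth over k and projective (a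
closed immersion into some P^n_k over k). Let i : C → S be the closed immersion of an integral curve
(dimension one) all of whose local rings are regular, with ideal sheaf I ⊆ O_S, and let N =
Hom(i^*I, O_C) be the normal sheaf of C in S, the dual of the conormal sheaf i^*I (the sheaf Hom,
assumed to exist as the right adjoint of tensoring with i^*I). Then the self-intersection number
C·C, namely the intersection number of O_S(C) with itself computed as the alternating sum χ(O_S) −
2χ(I) + χ(I ⊗ I) with the inverse I = O_S(−C) of O_S(C) (packaged as FGA.intNum), equals the degree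
of N on C, the degree of a module M on C being χ(M) − χ(O_C). -/
theorem result (k : Type u) [Field k] (S : Scheme.{u}) [S.Over (Spec (CommRingCat.of k))]
    [IsIntegral S] (hdim : topologicalKrullDim S = 2) [Smooth (S ↘ (Spec (CommRingCat.of k)))]
    (hproj : ∃ (n : ℕ) (ι : S ⟶ CohB1.ProjSpace n k), IsClosedImmersion ι ∧ ι ≫ CohB1.ProjSpace.toSpec n k = (S ↘ (Spec (CommRingCat.of k))))
    (C : Scheme.{u}) (i : C ⟶ S) [IsClosedImmersion i] [IsIntegral C] (hC : topologicalKrullDim C = 1)
    (hCreg : ∀ c : C, IsRegularLocalRing (C.presheaf.stalk c))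
    [DCoh.HasSheafHom (Omega.conormal i)] :
    letI : C.Over (Spec (CommRingCat.of k)) := ⟨i ≫ (S ↘ (Spec (CommRingCat.of k)))⟩
    FGA.intNum k S 2 ![ClSub.idealMod i.ker, ClSub.idealMod i.ker] (Coh.structureModule S) =
      Curv2.deg k C ((DCoh.sheafHom (Omega.conormal i)).obj (Coh.structureModule C)) 1 := by
  obtain ⟨N, ι, hι, hι'⟩ := hproj
  haveI := hι
  haveI : IsProper (S ↘ Spec (CommRingCat.of k)) := ExtShX.isProper_over (ι : S ⟶ PnVan.P k N) hι'
  letI : C.Over (Spec (CommRingCat.of k)) := ⟨i ≫ (S ↘ Spec (CommRingCat.of k))⟩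
  have hI := SurfStab.isInvertible_ideal (k := k) hdim hC i
  obtain ⟨M, hM, ⟨eM⟩⟩ := H23.PicInv.exists_inverse hI
  have hcl : PicF.cl M * PicF.cl (ClSub.idealMod i.ker) = 1 := by
    rw [mul_comm]; exact Big.cl_mul_eq_one ⟨eM⟩
  rw [SurfRR.intNum_ideal_inverse hdim.le hC i rfl hI hM hI hcl]
  obtain ⟨h⟩ := SurfRR.nonempty_hom_iso_tensor (X := C) (L := (Scheme.Modules.pullback i).obj (ClSub.idealMod i.ker))
    (D := (Scheme.Modules.pullback i).obj M) (PicClLib.isInvertible_pullback i hI) (by
      have h := congrArg (PicF.pullCl i) hcl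
      rw [H23.PicMul.pullCl_mul, H23.PicMul.pullCl_one, mul_comm] at h
      exact h) (Coh.structureModule C)
  obtain ⟨r⟩ : Nonempty (CohB1.tensorMod (Coh.structureModule C) ((Scheme.Modules.pullback i).obj M) ≅
      (Scheme.Modules.pullback i).obj M) := H23.PicMul.cl_eq_iff.1 (by
    rw [H23.PicMul.cl_tensor, ← H23.PicMul.one_def, one_mul])
  haveI : IsProper (C ↘ Spec (CommRingCat.of k)) :=
    inferInstanceAs (IsProper (i ≫ (S ↘ Spec (CommRingCat.of k))))
  exact (CurveRR.deg_congr k ((AmpleVan.sheafHomIso (Omega.conormal i)).app (Coh.structureModule C) ≪≫ h ≪≫ r) 1).symm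

end Groth.Agent.S19625
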