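import Groth.Statements.S19653
import Groth.Agent.Compactify.FlatNear
import Groth.Agent.Compactify.Count

set_option autoImplicit false
universe u
open AlgebraicGeometry CategoryTheory CategoryTheory.Limits
open EGA43

attribute [-instance] CategoryTheory.catToReflQuiver
set_option backward.isDefEq.respectTransparency false
set_option backward.isDefEq.respectTransparency.types false

namespace Groth.Agent.S19653

/-- Let R be a discrete valuation ring and f : X → Spec R a flat, separated morphism of finite type
whose closed fibre is nonempty and proper over the residue field and whose generic fibre is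
geometrically connected. Then f is proper, and its closed fibre is geometrically connected too. (The
published statement does not require the closed fibre to be nonempty; the affine line over the
fraction field, viewed over R, has empty closed fibre and satisfies the other hypotheses without
being proper, and the published proof uses a point of the closed fibre, so nonemptiness is assumed
here.) -/
theorem result
    (R : Type u) [CommRing R] [IsDomain R] [IsDiscreteValuationRing R]
    (X : Scheme.{u}) (f : X ⟶ Spec (CommRingCat.of R))
    [Flat f] [IsSeparated f] [LocallyOfFiniteType f] [QuasiCompact f]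
    [IsProper (f.fiberToSpecResidueField (IsLocalRing.closedPoint R))]
    [Nonempty ↥(f.fiber (IsLocalRing.closedPoint R))]
    [GeometricallyConnected (f.fiberToSpecResidueField (genericPoint ↥(Spec (CommRingCat.of R))))] :
    IsProper f ∧ GeometricallyConnected (f.fiberToSpecResidueField (IsLocalRing.closedPoint R)) := by
  let Y := Spec (CommRingCat.of R)
  let s : Y := IsLocalRing.closedPoint R
  have hmax : ∀ η : Y, (∀ η' : Y, η' ⤳ η → η' = η) → η = genericPoint ↥Y := fun η h =>
    (h _ (genericPoint_specializes η)).symm
  obtain ⟨U, hsU, hU⟩ := Compactify.exists_nhd_isProper_of_flat f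
    (fun η h _ => by rw [hmax η h]; assumption) s ‹_›
  have hUtop : U = ⊤ := eq_top_iff.2 fun z _ => (IsLocalRing.specializes_closedPoint z).mem_open U.2 hsU
  subst hUtop
  haveI : IsProper f := by
    haveI := hU
    have e : f = (Scheme.topIso X).inv ≫ (f ∣_ ⊤) ≫ (⊤ : Scheme.Opens _).ι := by
      rw [morphismRestrict_ι, ← Category.assoc]
      exact ((congrArg (· ≫ f) (Scheme.topIso X).inv_hom_id).trans (Category.id_comp f)).symm
    haveI : IsProper ((⊤ : Scheme.Opens _).ι : _ ⟶ Y) := inferInstanceAs (IsProper (Scheme.topIso _).hom)
    rw [e]; infer_instance
  refine ⟨inferInstance, ?_⟩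
  haveI : GeometricallyConnected f := GeomLoci.geometricallyConnected_of_nGeom f fun z => by
    obtain ⟨W, hW, hle⟩ := GeomLoci.nGeomConnComp_le_nhds_flat f z
    have hηW : genericPoint ↥Y ∈ W := by
      obtain ⟨O, hOW, hO, hsO⟩ := mem_nhds_iff.1 hW
      exact hOW ((genericPoint_specializes z).mem_open hO hsO)
    have h1 := GeomLoci.nGeomConnComp_eq_one f (genericPoint ↥Y)
    refine le_antisymm ((hle _ hηW).1.trans h1.le) ?_
    obtain ⟨p⟩ := ‹Nonempty ↥(f.fiber (IsLocalRing.closedPoint R))›
    have hp : f (f.fiberι s p) = s := by
      have := Set.mem_range_self (f := f.fiberι s) p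
      rw [Scheme.Hom.range_fiberι] at this
      exact this
    obtain ⟨x, hx, hfx⟩ := Flat.generalizingMap f (show genericPoint ↥Y ⤳ f (f.fiberι s p) from genericPoint_specializes _)
    obtain ⟨x', hx'⟩ : z ∈ Set.range f := f.isClosedMap.isClosed_range.stableUnderSpecialization (genericPoint_specializes z) ⟨x, hfx⟩
    exact Compactify.one_le_nGeomConnComp f z x' hx'
  infer_instance

end Groth.Agent.S19653
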