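import Groth.Statements.S19655
import Groth.Agent.S11099
import Mathlib
-- import your own Groth.Agent.* helpers here

set_option autoImplicit false
universe u
open CategoryTheory CategoryTheory.Limits MonoidalCategory CartesianMonoidalCategory AlgebraicGeometry
open Neron

attribute [-instance] CategoryTheory.catToReflQuiver

namespace Groth.Agent.S19655

/-- Let R be a Dedekind domain with fraction field K, A an abelian variety over K (a proper smooth
geometrically connected K-group scheme) and N a Néron model of A over Spec R. Then for every smooth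
R-scheme Y, every K-morphism to A defined on a dense open subscheme of the generic fibre of Y is the
restriction of exactly one R-morphism Y → N: K-rational maps from smooth R-schemes to A extend
uniquely to the Néron model. (The text works over a connected Dedekind scheme; the affine case is
stated.) -/
theorem result
    (R : Type u) [CommRing R] [IsDedekindDomain R]
    (N : Over (Spec (CommRingCat.of R))) (A : Over (Spec (CommRingCat.of (FractionRing R))))
    (e : (Neron.genericFibre R).obj N ≅ A) (hN : Neron.IsNeronModelOf R N A e)
    [GrpObj A] [IsProper A.hom] [Smooth A.hom] [GeometricallyConnected A.hom]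
    (Y : Over (Spec (CommRingCat.of R))) [Smooth Y.hom]
    (W : ((Neron.genericFibre R).obj Y).left.Opens) (hW : Dense (W : Set ↥((Neron.genericFibre R).obj Y).left))
    (g : (W : Scheme.{u}) ⟶ A.left) (hg : g ≫ A.hom = W.ι ≫ ((Neron.genericFibre R).obj Y).hom) :
    ∃! h : Y ⟶ N, W.ι ≫ ((Neron.genericFibre R).map h ≫ e.hom).left = g := by
  haveI : GrpObj (Over.mk A.hom) := ‹GrpObj A›
  haveI : Smooth ((Neron.genericFibre R).obj Y).hom :=
    inferInstanceAs (Smooth (pullback.snd Y.hom (Spec.map (CommRingCat.ofHom (algebraMap R (FractionRing R))))))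
  let pX := ((Neron.genericFibre R).obj Y).hom
  have hdense : ∀ x : ((Neron.genericFibre R).obj Y).left,
      x ∈ closure ((W : Set ↥((Neron.genericFibre R).obj Y).left) ∩ {y | pX.base y = pX.base x}) := by
    intro x
    have : {y | pX.base y = pX.base x} = Set.univ :=
      Set.eq_univ_of_forall fun y => Subsingleton.elim (α := PrimeSpectrum (FractionRing R)) _ _
    rw [this, Set.inter_univ]
    exact hW x
  obtain ⟨g', ⟨hg', hgW⟩, huniq⟩ := S11099.result (R := FractionRing R) pX A.hom W hdense g hg
  obtain ⟨h, hh⟩ := (hN.2.2.2.2 Y ‹_›).2 (Over.homMk g' hg')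
  have hh' : ((Neron.genericFibre R).map h ≫ e.hom).left = g' := congrArg CommaMorphism.left hh
  refine ⟨h, ?_, fun h₂ hh₂ => ?_⟩
  · show W.ι ≫ ((Neron.genericFibre R).map h ≫ e.hom).left = g
    rw [hh', hgW]
  · apply (hN.2.2.2.2 Y ‹_›).1
    apply Over.OverMorphism.ext
    show ((Neron.genericFibre R).map h₂ ≫ e.hom).left = ((Neron.genericFibre R).map h ≫ e.hom).left
    rw [hh']
    exact huniq _ ⟨Over.w ((Neron.genericFibre R).map h₂ ≫ e.hom), hh₂⟩


end Groth.Agent.S19655
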