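import Groth.Statements.S19657
import Groth.Agent.Compactify.FlatNear
import Groth.Agent.Compactify.Count
import Groth.Agent.FlatMisc.Fibrewise

set_option autoImplicit false
universe u
open AlgebraicGeometry CategoryTheory CategoryTheory.Limits Topology
open EGA43

attribute [-instance] CategoryTheory.catToReflQuiver
set_option backward.isDefEq.respectTransparency false
set_option backward.isDefEq.respectTransparency.types false

namespace Groth.Agent.S19657

/-- The implication from the weakest fibrewise condition to the global one. Let S be a locally
Noetherian scheme and f : X → S a surjective, flat, separated morphism, locally of finite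
presentation and quasi-compact, whose fibres are all smooth and proper over the residue fields and
whose fibres over the maximal points of S (points without proper generization) are geometrically
connected. Then f is proper and smooth with geometrically connected fibres. (The text states the
criterion over an arbitrary base, appealing to a limit argument it does not carry out, and without
the words separated and surjective, which its proof uses through the properness criterion it invokes
and which are both needed: an abelian variety over the fraction field of a discrete valuation ring,
viewed over the ring, is flat of finite presentation with smooth proper fibres, the closed one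
empty, and is not proper; and two copies of the projective line over a discrete valuation ring glued
along their generic fibres form a flat, surjective, finitely presented scheme over the ring with
smooth proper fibres and geometrically connected generic fibre which is neither separated nor
proper.) -/
theorem result
    {X S : Scheme.{u}} [IsLocallyNoetherian S] (f : X ⟶ S)
    [Surjective f] [Flat f] [IsSeparated f] [LocallyOfFinitePresentation f] [QuasiCompact f]
    (hsm : ∀ s : S, Smooth (f.fiberToSpecResidueField s))
    (hpr : ∀ s : S, IsProper (f.fiberToSpecResidueField s))
    (hgen : ∀ η : S, (∀ η' : S, η' ⤳ η → η' = η) → GeometricallyConnected (f.fiberToSpecResidueField η)) :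
    IsProper f ∧ Smooth f ∧ GeometricallyConnected f := by
  haveI : IsLocallyNoetherian X := LocallyOfFiniteType.isLocallyNoetherian f
  have hne : ∀ s : S, Nonempty ↥(f.fiber s) := fun s => by
    obtain ⟨x, hx⟩ := f.surjective s
    have : x ∈ Set.range (f.fiberι s) := by rw [Scheme.Hom.range_fiberι]; exact hx
    exact ⟨this.choose⟩
  choose U hsU hU using fun s : S =>
    haveI := hne s
    Compactify.exists_nhd_isProper_of_flat f (fun η h _ => hgen η h) s (hpr s)
  haveI : IsProper f := IsZariskiLocalAtTarget.of_iSup_eq_top U
    (eq_top_iff.2 fun s _ => TopologicalSpace.Opens.mem_iSup.2 ⟨s, hsU s⟩) hU
  refine ⟨inferInstance, ?_, ?_⟩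
  · rw [← Scheme.Hom.smoothLocus_eq_top_iff, eq_top_iff]
    intro x _
    haveI := hsm (f x)
    rw [S2156.result f x]
    exact ⟨Flat.stalkMap _ _, by rw [(f.fiberToSpecResidueField (f x)).smoothLocus_eq_top]; trivial⟩
  · refine GeomLoci.geometricallyConnected_of_nGeom f fun s => ?_
    obtain ⟨W, hW, hle⟩ := GeomLoci.nGeomConnComp_le_nhds_flat f s
    obtain ⟨O, hOW, hO, hsO⟩ := mem_nhds_iff.1 hW
    let Z := irreducibleComponent s
    have hZ : IsIrreducible Z := isIrreducible_irreducibleComponent
    have hη : IsGenericPoint hZ.genericPoint Z := by
      have := hZ.isGenericPoint_genericPoint_closure
      rwa [isClosed_irreducibleComponent.closure_eq] at this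
    haveI : GeometricallyConnected (f.fiberToSpecResidueField hZ.genericPoint) := by
      refine hgen _ fun η' h => ?_
      have h1 : Z ⊆ closure {η'} := hη.def.symm.subset.trans (specializes_iff_closure_subset.1 h)
      have h2 := (irreducibleComponent_mem_irreducibleComponents s).2 isIrreducible_singleton.closure h1
      exact (h.antisymm (hη.specializes (h2 (subset_closure rfl)))).eq
    have h1 := GeomLoci.nGeomConnComp_eq_one f hZ.genericPoint
    exact le_antisymm ((hle _ (hOW ((hη.specializes mem_irreducibleComponent).mem_open hO hsO))).1.trans h1.le)
      (Compactify.one_le_nGeomConnComp f s _ (f.surjective s).choose_spec)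

end Groth.Agent.S19657
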