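import Groth.Statements.S19671

import Groth.Agent.ExtShX.HighTwist
import Groth.Agent.PnVan.HomTw
import Groth.Agent.PnCoh.Chow.Proper

set_option autoImplicit false
universe u
open CategoryTheory CategoryTheory.Limits AlgebraicGeometry
open ProjDual

namespace Groth.Agent.S19671

set_option linter.style.haveILetI false
set_option backward.isDefEq.respectTransparency false
set_option backward.isDefEq.respectTransparency.types false
set_option maxHeartbeats 1000000

open Groth.Agent Groth.Agent.PnCoh Groth.Agent.PnCoh.Finite Groth.Agent.PnDual Groth.Agent.H23.PicMul in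
theorem pull_twist_pow {k : Type u} [CommRing k] [IsNoetherianRing k] {n : ℕ} {X : Scheme.{u}} (i : X ⟶ CohB1.ProjSpace n k) (d : ℕ) :
    Nonempty ((Scheme.Modules.pullback i).obj (Twist.twistProjSpace n k (d : ℤ)) ≅
      CohB1.tensorPow ((Scheme.Modules.pullback i).obj (Twist.twist (CohB1.polyGrading n k) 1)) d) := by
  obtain ⟨e⟩ := twist_tensorPow_iso (coordsR k n) coordsR_mem coordsR_cover d
  refine cl_eq_iff.1 ?_
  rw [cl_tensorPow]
  have h := congrArg (PicF.pullCl i) (cl_eq_iff.2 ⟨e⟩)
  rw [cl_tensorPow, pullCl_pow] at h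
  exact h


open Groth.Agent Groth.Agent.PnCoh Groth.Agent.PnDual in
theorem isAmple_pull_twist {k : Type u} [CommRing k] [IsNoetherianRing k] {n : ℕ} {X : Scheme.{u}} (i : X ⟶ CohB1.ProjSpace n k)
    [IsClosedImmersion i] :
    CohB1.IsAmple ((Scheme.Modules.pullback i).obj (Twist.twist (CohB1.polyGrading n k) 1)) := by
  classical
  have hT : CohB1.IsAmple (Twist.twist (CohB1.polyGrading n k) 1) := by
    refine AmpleX.isAmple_twist_one (CohB1.polyGrading n k)
      (Finset.image (fun j : Fin (n + 1) => (MvPolynomial.X j : MvPolynomial (Fin (n + 1)) k)) Finset.univ)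
      (fun f hf => ?_) (top_le_iff.1 fun y _ => ?_)
    · obtain ⟨j, -, rfl⟩ := Finset.mem_image.1 hf
      exact ProjPt.X_mem j
    · obtain ⟨j, hj⟩ := ProjUPX.cov_X y
      exact TopologicalSpace.Opens.mem_iSup.2 ⟨⟨_, Finset.mem_image.2 ⟨j, Finset.mem_univ _, rfl⟩⟩, hj⟩
  haveI : CompactSpace (CohB1.ProjSpace n k) := hT.2.1
  haveI : CompactSpace X := i.isClosedEmbedding.compactSpace
  exact AmpleVan.isAmple_pullback_of_isEmbedding i i.isClosedEmbedding.isEmbedding hT



/-- Let A be a Noetherian ring, ι : X → P^n_A a closed immersion over Spec A (so X is projective over A,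
with the very ample sheaf O_X(1) = ι^*O(1)), and F, G coherent O_X-modules. Then for every i there
is d₀ such that for every d ≥ d₀ the group Ext^i_{O_X}(F, G(d)), computed in the category of all
O_X-modules (the Ext instance, the internal Hom functor of F and injective resolutions are the
stated instance hypotheses, all true) with the A-module structure coming from the structure morphism
X → Spec A, is A-linearly isomorphic to the A-module of global sections H^0(X, Ext^i_{O_X}(F, G(d)))
of the Ext sheaf (the i-th right derived functor of the internal Hom functor Hom(F, −)), where G(d)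
= G ⊗ ι^*O(d) and A acts on global sections through Γ(X, O_X). (Existence of an A-linear isomorphism
only; the published statement has the natural identification, and allows any very ample O_X(1) on X
projective over A, which amounts to the choice of ι.) -/
theorem result (A : Type u) [CommRing A]
    [IsNoetherianRing A] (n : ℕ) (X : Scheme.{u}) [X.Over (Spec (CommRingCat.of A))] (ι : X ⟶ CohB1.ProjSpace n A)
    [IsClosedImmersion ι] (hι : ι ≫ CohB1.ProjSpace.toSpec n A = X ↘ Spec (CommRingCat.of A))
    [HasExt.{u} X.Modules] (F G : X.Modules) (hF : Coh.IsCoh F) (hG : Coh.IsCoh G)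
    [ModSite.HasSheafHom (O := X.sheaf) F] [HasInjectiveResolutions (ModSite.Mod X.sheaf)] (i : ℕ) :
    ∃ d₀ : ℕ, ∀ d : ℕ, d₀ ≤ d →
      Nonempty (Abelian.Ext F (CohB1.tensorMod G ((Scheme.Modules.pullback ι).obj (Twist.twistProjSpace n A (d : ℤ)))) i ≃ₗ[A]
        Coh.HH X ((ModSite.extSh (O := X.sheaf) F i).obj
          (CohB1.tensorMod G ((Scheme.Modules.pullback ι).obj (Twist.twistProjSpace n A (d : ℤ))))) 0) := by
  haveI : IsProper (CohB1.ProjSpace.toSpec n A) := Groth.Agent.PnCoh.Chow.isProper_toSpec n A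
  haveI : IsProper (X ↘ Spec (CommRingCat.of A)) := by rw [← hι]; infer_instance
  obtain ⟨d₀, hd₀⟩ := Groth.Agent.ExtShX.exists_ext_linearEquiv_HH0 (A := A)
    (isAmple_pull_twist (k := A) (n := n) ι) hF hG i
  refine ⟨d₀, fun d hd => ?_⟩
  let N := (Scheme.Modules.pullback ι).obj (Twist.twistProjSpace n A (d : ℤ))
  obtain ⟨w⟩ := hd₀ d hd N (pull_twist_pow ι d)
  obtain ⟨a⟩ := Groth.Agent.ExtShX.extSh_iso F i (CohB1.tensorMod G N)
  obtain ⟨g₁⟩ := Groth.Agent.ExtShX.exists_hom_HH0 (A := A)
    ((Groth.Agent.ExtShX.E F i).obj (CohB1.tensorMod G N))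
  obtain ⟨g₂⟩ := Groth.Agent.ExtShX.exists_hom_HH0 (A := A)
    ((ModSite.extSh (O := X.sheaf) F i).obj (CohB1.tensorMod G N))
  exact ⟨((w.trans g₁.symm).trans (Linear.homCongr A (Iso.refl (Coh.structureModule X)) a.symm)).trans g₂⟩


end Groth.Agent.S19671
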