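import Groth.Statements.S19681


set_option linter.style.haveILetI false
set_option backward.isDefEq.respectTransparency false
set_option backward.isDefEq.respectTransparency.types false


set_option autoImplicit false
universe u
open CategoryTheory MonoidalCategory CartesianMonoidalCategory MonObj AlgebraicGeometry
open ChGrp

namespace Groth.Agent.S19681

/-- Let k be an algebraically closed field of characteristic zero, G and H affine group schemes of
finite type over k with i : H → G a homomorphism which is a closed immersion, and Z a reduced affine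
k-scheme of finite type with an action of H. Let Y, with its G-action and j : G × Z → Y, be the
balanced product G ×^H Z for the fppf topology (j is G-equivariant for left translation on the first
factor, a torsor for the twisted H-action h·(g, z) = (g i(h)⁻¹, h·z), with sections fppf-locally on
Y). Let c : Y' → Y be a closed immersion from a reduced scheme Y' with a G-action making c
equivariant (a closed G-invariant subvariety of Y). Then Y' is again a balanced product: there are a
closed immersion c' : Z' → Z, an H-action on Z' for which c' is equivariant (a closed H-invariant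
subscheme of Z), and a morphism j' : G × Z' → Y' with j' followed by c equal to G × c' followed by
j, such that j' makes Y' the balanced product G ×^H Z' for the fppf topology. (The source assumes G
and H reductive and defines G ×^H Z as the quotient (G × Z)//H, a principal H-bundle; here the
balanced product is taken in its torsor form and reductivity is not needed.) -/
theorem result
    (k : Type u) [Field k] [IsAlgClosed k] [CharZero k]
    (G H Z Y Y' : Over (Spec (CommRingCat.of k))) [GrpObj G] [GrpObj H]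
    [IsAffine G.left] [LocallyOfFiniteType G.hom] [IsAffine H.left] [LocallyOfFiniteType H.hom]
    (i : H ⟶ G) [IsMonHom i] [IsClosedImmersion i.left]
    [IsAffine Z.left] [LocallyOfFiniteType Z.hom] [IsReduced Z.left]
    (aZ : AlgGrp.Action H Z) (aY : AlgGrp.Action G Y) (j : G ⊗ Z ⟶ Y)
    (hY : ChGrp.IsBalProd Scheme.fppfPrecoverage i aZ aY j)
    (c : Y' ⟶ Y) [IsClosedImmersion c.left] [IsReduced Y'.left]
    (aY' : AlgGrp.Action G Y') (hc : AlgGrp.Action.IsEquivariant aY' aY c) :
    ∃ (Z' : Over (Spec (CommRingCat.of k))) (c' : Z' ⟶ Z) (aZ' : AlgGrp.Action H Z') (j' : G ⊗ Z' ⟶ Y'),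
      IsClosedImmersion c'.left ∧ AlgGrp.Action.IsEquivariant aZ' aZ c' ∧
      j' ≫ c = (G ◁ c') ≫ j ∧ ChGrp.IsBalProd Scheme.fppfPrecoverage i aZ' aY' j' := by
  obtain ⟨hjeq, hpb, hloc⟩ := hY
  haveI : Mono c := ⟨fun p q h => Over.OverMorphism.ext ((cancel_mono c.left).1 (congrArg CommaMorphism.left h))⟩
  let m : Z ⟶ Y := lift (1 : Z ⟶ G) (𝟙 Z) ≫ j
  have hm : ∀ {T : Over (Spec (CommRingCat.of k))} (z : T ⟶ Z), z ≫ m = lift (1 : T ⟶ G) z ≫ j := fun z => by
    rw [comp_lift_assoc, MonObj.comp_one, Category.comp_id]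
  have hgj : ∀ {T : Over (Spec (CommRingCat.of k))} (g g' : T ⟶ G) (z : T ⟶ Z),
      lift g (lift g' z ≫ j) ≫ aY.act = lift (g * g') z ≫ j := fun g g' z => by
    have e := congrArg (lift g (lift g' z) ≫ ·) hjeq
    simp only [← Category.assoc] at e
    rw [lift_whiskerLeft, AlgGrp.Action.lift_prod_act, AlgGrp.Action.lift_trivial_act] at e
    rw [← e]
    exact congrArg (fun t => lift t z ≫ j) (Hom.mul_def g g').symm
  have htw : ∀ {T : Over (Spec (CommRingCat.of k))} (h : T ⟶ H) (g : T ⟶ G) (z : T ⟶ Z),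
      lift (g * (h ≫ i)⁻¹) (lift h z ≫ aZ.act) ≫ j = lift g z ≫ j := fun h g z => by
    have e := congrArg (lift h (lift g z) ≫ ·) hpb.w
    simp only [← Category.assoc] at e
    rwa [lift_twist_act, lift_snd] at e
  let Z' : Over (Spec (CommRingCat.of k)) := Over.mk (Limits.pullback.fst m.left c.left ≫ Z.hom)
  let c' : Z' ⟶ Z := Over.homMk (Limits.pullback.fst m.left c.left) rfl
  let s : Z' ⟶ Y' := Over.homMk (Limits.pullback.snd m.left c.left) (by
    show Limits.pullback.snd m.left c.left ≫ Y'.hom = Limits.pullback.fst m.left c.left ≫ Z.hom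
    rw [← Over.w c, ← Over.w m, ← Limits.pullback.condition_assoc])
  have hcl : IsClosedImmersion c'.left :=
    MorphismProperty.pullback_fst (P := @IsClosedImmersion) m.left c.left inferInstance
  haveI : Mono c' := ⟨fun p q h => Over.OverMorphism.ext ((cancel_mono c'.left).1 (congrArg CommaMorphism.left h))⟩
  have hs : c' ≫ m = s ≫ c := Over.OverMorphism.ext Limits.pullback.condition
  have hlift : ∀ {T : Over (Spec (CommRingCat.of k))} (z : T ⟶ Z) (y : T ⟶ Y'), z ≫ m = y ≫ c →
      ∃ w : T ⟶ Z', w ≫ c' = z ∧ w ≫ s = y := fun {T} z y h =>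
    ⟨Over.homMk (Limits.pullback.lift z.left y.left (congrArg CommaMorphism.left h)) (by
        show Limits.pullback.lift z.left y.left _ ≫ Limits.pullback.fst m.left c.left ≫ Z.hom = T.hom
        rw [Limits.pullback.lift_fst_assoc, Over.w z]),
      Over.OverMorphism.ext (Limits.pullback.lift_fst _ _ _), Over.OverMorphism.ext (Limits.pullback.lift_snd _ _ _)⟩
  have hc' : ∀ {T : Over (Spec (CommRingCat.of k))} (g : T ⟶ G) (y : T ⟶ Y'),
      (lift g y ≫ aY'.act) ≫ c = lift g (y ≫ c) ≫ aY.act := fun g y => by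
    rw [Category.assoc, hc, lift_whiskerLeft_assoc]
  obtain ⟨act, hact, -⟩ := hlift ((H ◁ c') ≫ aZ.act) (lift (fst H Z' ≫ i) (snd H Z' ≫ s) ≫ aY'.act) (by
    refine AlgGrp.Action.hom_ext_lift₂ fun T h w => ?_
    simp only [← Category.assoc]
    rw [lift_whiskerLeft, hm, Category.assoc (lift h w), Category.assoc (lift h w), hc', ← Category.assoc (lift h w),
      comp_lift, lift_fst_assoc, ← Category.assoc (lift h w) (snd H Z' ≫ s), lift_snd_assoc, Category.assoc w s c, ← hs,
      ← Category.assoc w c' m, hm, hgj, _root_.mul_one]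
    have e := htw h (h ≫ i) (w ≫ c')
    rwa [mul_inv_cancel] at e)
  let aZ' : AlgGrp.Action H Z' :=
    { act := act
      one_act := by
        rw [← cancel_mono c', Category.assoc, hact, ← whisker_exchange_assoc, aZ.one_act, leftUnitor_naturality]
      mul_act := by
        rw [← cancel_mono c']
        simp only [Category.assoc]
        rw [hact, ← MonoidalCategory.whiskerLeft_comp_assoc, hact, MonoidalCategory.whiskerLeft_comp_assoc,
          ← whisker_exchange_assoc, aZ.mul_act, associator_naturality_right_assoc] }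
  let j' : G ⊗ Z' ⟶ Y' := lift (fst G Z') (snd G Z' ≫ s) ≫ aY'.act
  have hj' : j' ≫ c = (G ◁ c') ≫ j := by
    refine AlgGrp.Action.hom_ext_lift₂ fun T g w => ?_
    rw [lift_whiskerLeft_assoc]
    show lift g w ≫ (lift (fst G Z') (snd G Z' ≫ s) ≫ aY'.act) ≫ c = _
    rw [hc', comp_lift_assoc, lift_fst, ← Category.assoc (lift g w) (snd G Z' ≫ s) c, lift_snd_assoc,
      Category.assoc w s c, ← hs, ← Category.assoc w c' m, hm, hgj, _root_.mul_one]
  have hj'' : ∀ {T : Over (Spec (CommRingCat.of k))} (g : T ⟶ G) (w : T ⟶ Z'),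
      (lift g w ≫ j') ≫ c = lift g (w ≫ c') ≫ j := fun g w => by
    rw [Category.assoc, hj', lift_whiskerLeft_assoc]
  have heq : ∀ {T : Over (Spec (CommRingCat.of k))} (h : T ⟶ H) (w : T ⟶ Z'),
      (lift h w ≫ act) ≫ c' = lift h (w ≫ c') ≫ aZ.act := fun h w => by
    rw [Category.assoc, hact, lift_whiskerLeft_assoc]
  refine ⟨Z', c', aZ', j', hcl, hact, hj', ?_, ?_, ?_⟩
  · refine AlgGrp.Action.hom_ext_lift₂ fun T u v => ?_
    obtain ⟨g, w, rfl⟩ : ∃ (g : T ⟶ G) (w : T ⟶ Z'), v = lift g w :=
      ⟨v ≫ fst G Z', v ≫ snd G Z', by rw [← comp_lift, lift_fst_snd, Category.comp_id]⟩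
    rw [← cancel_mono c, lift_whiskerLeft_assoc, hc', hj'', hgj, ← Category.assoc, AlgGrp.Action.lift_prod_act,
      AlgGrp.Action.lift_trivial_act, hj'']
    exact congrArg (fun t => lift t (w ≫ c') ≫ j) (Hom.mul_def u g).symm
  · have hGc : ∀ {T : Over (Spec (CommRingCat.of k))} (v v' : T ⟶ G ⊗ Z'),
        v ≫ (G ◁ c') = v' ≫ (G ◁ c') → v = v' := fun v v' e => by
      refine CartesianMonoidalCategory.hom_ext _ _ ?_ ?_
      · simpa only [Category.assoc, whiskerLeft_fst] using congrArg (· ≫ fst G Z) e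
      · have e' := congrArg (· ≫ snd G Z) e
        simp only [Category.assoc, whiskerLeft_snd] at e'
        rw [← cancel_mono c', Category.assoc, Category.assoc]
        exact e'
    have hnat : (twist i aZ').act ≫ (G ◁ c') = (H ◁ (G ◁ c')) ≫ (twist i aZ).act := by
      refine AlgGrp.Action.hom_ext_lift₂ fun T h v => ?_
      obtain ⟨g, w, rfl⟩ : ∃ (g : T ⟶ G) (w : T ⟶ Z'), v = lift g w :=
        ⟨v ≫ fst G Z', v ≫ snd G Z', by rw [← comp_lift, lift_fst_snd, Category.comp_id]⟩
      simp only [← Category.assoc]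
      rw [lift_twist_act, lift_whiskerLeft, lift_whiskerLeft, lift_whiskerLeft, lift_twist_act, heq]
    have hw : (twist i aZ').act ≫ j' = snd H (G ⊗ Z') ≫ j' := by
      rw [← cancel_mono c]
      simp only [Category.assoc]
      rw [hj', reassoc_of% hnat, hpb.w, whiskerLeft_snd_assoc]
    have hcond : ∀ t : Limits.PullbackCone j' j', (t.fst ≫ (G ◁ c')) ≫ j = (t.snd ≫ (G ◁ c')) ≫ j := fun t => by
      have e := congrArg (· ≫ c) t.condition
      simp only [Category.assoc, hj'] at e
      simpa only [Category.assoc] using e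
    refine ⟨⟨hw⟩, ⟨Limits.PullbackCone.IsLimit.mk hw (fun t => lift (hpb.lift _ _ (hcond t) ≫ fst H (G ⊗ Z)) t.snd)
      (fun t => ?_) (fun t => lift_snd _ _) (fun t n h1 h2 => ?_)⟩⟩
    · refine hGc _ _ ?_
      rw [Category.assoc, hnat, lift_whiskerLeft_assoc]
      conv_rhs => rw [← hpb.lift_fst _ _ (hcond t)]
      congr 1
      refine CartesianMonoidalCategory.hom_ext _ _ (lift_fst _ _) ?_
      rw [lift_snd, hpb.lift_snd]
    · refine CartesianMonoidalCategory.hom_ext _ _ ?_ (by rw [lift_snd]; exact h2)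
      rw [lift_fst]
      have e : hpb.lift _ _ (hcond t) = n ≫ (H ◁ (G ◁ c')) := by
        refine hpb.hom_ext ?_ ?_
        · rw [hpb.lift_fst, Category.assoc, ← hnat, ← Category.assoc, h1]
        · rw [hpb.lift_snd, Category.assoc, whiskerLeft_snd, ← Category.assoc, h2]
      rw [e, Category.assoc, whiskerLeft_fst]
  · obtain ⟨R, hR, hRs⟩ := hloc
    refine ⟨R.pullbackArrows c.left, Precoverage.pullbackArrows_mem c.left hR, ?_⟩
    rintro _ _ ⟨S', f, hf⟩
    obtain ⟨u, hu⟩ := hRs f hf
    let p₁ := Limits.pullback.fst f c.left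
    let p₂ := Limits.pullback.snd f c.left
    let T : Over (Spec (CommRingCat.of k)) := Over.mk (p₂ ≫ Y'.hom)
    let y : T ⟶ Y' := Over.homMk p₂ rfl
    have hu' : u ≫ j.left = f := hu
    let v : T ⟶ G ⊗ Z := Over.homMk (p₁ ≫ u) (by
      show (p₁ ≫ u) ≫ (G ⊗ Z).hom = p₂ ≫ Y'.hom
      rw [← Over.w j, Category.assoc, reassoc_of% hu', Limits.pullback.condition_assoc, Over.w c])
    have hv : v ≫ j = y ≫ c := Over.OverMorphism.ext (by
      show (p₁ ≫ u) ≫ j.left = p₂ ≫ c.left
      rw [Category.assoc, hu', Limits.pullback.condition])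
    obtain ⟨g, z, hgz⟩ : ∃ (g : T ⟶ G) (z : T ⟶ Z), v = lift g z :=
      ⟨v ≫ fst G Z, v ≫ snd G Z, by rw [← comp_lift, lift_fst_snd, Category.comp_id]⟩
    obtain ⟨w, hw, -⟩ := hlift z (lift g⁻¹ y ≫ aY'.act) (by
      rw [hm, hc', ← hv, hgz, hgj, inv_mul_cancel])
    refine ⟨(lift g w).left, ?_⟩
    show (lift g w).left ≫ j'.left = y.left
    rw [← Over.comp_left]
    congr 1
    rw [← cancel_mono c, hj'', hw, ← hgz, hv]
end Groth.Agent.S19681
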