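import Groth.Statements.S19683
import Groth.Agent.BiextDiv.Main
import Groth.Agent.MultSchFac.Local
-- import your own Groth.Agent.* helpers here

set_option autoImplicit false
universe u
open CategoryTheory CategoryTheory.Limits MonoidalCategory CartesianMonoidalCategory MonObj AlgebraicGeometry
open AbSch

set_option backward.isDefEq.respectTransparency false
set_option backward.isDefEq.respectTransparency.types false
set_option synthInstance.maxHeartbeats 400000
set_option maxHeartbeats 1000000
set_option linter.style.haveILetI false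

namespace Groth.Agent.S19683

/-- Let S be a scheme, P, Q and G commutative S-group schemes with P and Q divisible (multiplication by
every non-zero integer is an epimorphism of their sheaves of points on the big fppf site), and n, m
non-zero integers. Then the pull-back map on isomorphism classes of biextensions of (P, Q) by G
along (n, m) : P × Q → P × Q has trivial kernel: if B is a biextension of (P, Q) by G on the big
fppf site of all S-schemes, B' a biextension of (P, Q) by G with a morphism of biextensions B' → B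
lying over multiplication by n on P, multiplication by m on Q and the identity of G (so that B' is
the inverse image of B by (n, m)), and B' is trivial, then B is trivial. -/
theorem result {S : Scheme.{u}} (P Q G : Over S)
    [GrpObj P] [IsCommMonObj P] [GrpObj Q] [IsCommMonObj Q] [GrpObj G] [IsCommMonObj G]
    (hP : ∀ k : ℤ, k ≠ 0 → Epi (k • 𝟙 (CGrpSh.pts Scheme.fppfPrecoverage P)))
    (hQ : ∀ k : ℤ, k ≠ 0 → Epi (k • 𝟙 (CGrpSh.pts Scheme.fppfPrecoverage Q)))
    (n m : ℤ) (hn : n ≠ 0) (hm : m ≠ 0)
    (B B' : Biext (QuotSh.J Scheme.fppfPrecoverage S) (CGrpSh.pts Scheme.fppfPrecoverage P) (CGrpSh.pts Scheme.fppfPrecoverage Q) (CGrpSh.pts Scheme.fppfPrecoverage G))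
    (φ : Biext.HomOver (QuotSh.J Scheme.fppfPrecoverage S) (n • 𝟙 (CGrpSh.pts Scheme.fppfPrecoverage P)) (m • 𝟙 (CGrpSh.pts Scheme.fppfPrecoverage Q)) (𝟙 (CGrpSh.pts Scheme.fppfPrecoverage G)) B' B)
    (hB' : Biext.IsTrivial (QuotSh.J Scheme.fppfPrecoverage S) B') :
    Biext.IsTrivial (QuotSh.J Scheme.fppfPrecoverage S) B := by
  obtain ⟨s⟩ := hB'
  have app : ∀ (X : Over S) [GrpObj X] [IsCommMonObj X] (j : ℤ) (T : Over S)
      (x : (CGrpSh.pts Scheme.fppfPrecoverage X).obj.obj (Opposite.op T)),
      (j • 𝟙 (CGrpSh.pts Scheme.fppfPrecoverage X)).hom.app (Opposite.op T) x = j • x := fun X _ _ j T x => rfl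
  have div : ∀ (X : Over S) [GrpObj X] [IsCommMonObj X],
      (∀ j : ℤ, j ≠ 0 → Epi (j • 𝟙 (CGrpSh.pts Scheme.fppfPrecoverage X))) → ∀ j : ℤ, j ≠ 0 →
      BiextDiv.IsDivisible (CGrpSh.pts Scheme.fppfPrecoverage X) j := by
    intro X _ _ hX j hj T x
    haveI := hX j hj
    haveI : Sheaf.IsLocallySurjective (j • 𝟙 (CGrpSh.pts Scheme.fppfPrecoverage X)) :=
      (Sheaf.isLocallySurjective_iff_epi' (A := AddCommGrpCat.{u + 1}) _).2 inferInstance
    refine ⟨_, Presheaf.imageSieve_mem (QuotSh.J Scheme.fppfPrecoverage S)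
      (j • 𝟙 (CGrpSh.pts Scheme.fppfPrecoverage X)).hom (U := Opposite.op T) x, fun W f hf => ?_⟩
    obtain ⟨l, hl⟩ := hf
    exact ⟨l, (app X j W l).symm.trans hl⟩
  exact BiextDiv.isTrivial_of_partial (BiextDiv.partialOfHomOver (app P n) (app Q m) φ s)
    (div P hP n hn) (div P hP m hm) (div Q hQ m hm) (div Q hQ n hn)


end Groth.Agent.S19683
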