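import Groth.Statements.S1969
import Mathlib

set_option autoImplicit false
universe u
open EtAlg

namespace Groth.Agent.S1969

theorem principal_of_flat (R : Type u) [CommRing R] [IsLocalRing R] (J : Ideal R) (hfg : J.FG) [Module.Flat R J] :
    ∃ z : J, ∀ w : J, (∃ r : R, w = r • z) ∧ (w ≠ 0 → ∀ r : R, r • z = 0 → r = 0) := by
  haveI : Module.Finite R J := Module.Finite.iff_fg.mpr hfg
  haveI : Module.Free R J := Module.free_of_flat_of_isLocalRing
  let b := Module.Free.chooseBasis R J
  haveI hsub : Subsingleton (Module.Free.ChooseBasisIndex R J) := by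
    refine ⟨fun i j => by_contra fun hij => ?_⟩
    have e : (b j : R) • b i = (b i : R) • b j := Subtype.ext (mul_comm _ _)
    have h2 := congrArg (fun x => b.repr x i) e
    simp [Ne.symm hij] at h2
    exact b.ne_zero j h2
  by_cases h : IsEmpty (Module.Free.ChooseBasisIndex R J)
  · refine ⟨0, fun w => ?_⟩
    have : w = 0 := b.repr.injective (Subsingleton.elim _ _)
    exact ⟨⟨0, by simp [this]⟩, fun hw => absurd this hw⟩
  · rw [not_isEmpty_iff] at h
    obtain ⟨i⟩ := h
    refine ⟨b i, fun w => ⟨⟨b.repr w i, ?_⟩, fun _ r hr => ?_⟩⟩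
    · conv_lhs => rw [← b.linearCombination_repr w]
      rw [Finsupp.linearCombination_apply, Finsupp.sum_eq_single i (fun j _ hj => absurd (Subsingleton.elim j i) hj) (by simp)]
    · simpa using congrArg (fun x => b.repr x i) hr

theorem isDomain_of_flat (R : Type u) [CommRing R] [IsLocalRing R] (h : ∀ J : Ideal R, J.FG → Module.Flat R J) :
    ∃ _ : IsDomain R, ValuationRing R := by
  haveI : NoZeroDivisors R := by
    refine ⟨fun {x y} hxy => or_iff_not_imp_left.mpr fun hx => ?_⟩
    haveI := h (Ideal.span {x}) (Submodule.fg_span_singleton x)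
    obtain ⟨z, hz⟩ := principal_of_flat R (Ideal.span {x}) (Submodule.fg_span_singleton x)
    let x' : (Ideal.span {x} : Ideal R) := ⟨x, Ideal.mem_span_singleton_self x⟩
    have hx' : x' ≠ 0 := fun e => hx (congrArg Subtype.val e)
    obtain ⟨⟨s, hs⟩, hfree⟩ := hz x'
    obtain ⟨r, hr⟩ := Ideal.mem_span_singleton'.mp z.2
    have hz' : z = r • x' := Subtype.ext hr.symm
    have h1 : r * s - 1 = 0 := hfree hx' _ (by rw [sub_smul, one_smul, mul_smul, ← hs, ← hz', sub_self])
    have h2 : y * s = 0 := hfree hx' _ (by
      rw [mul_smul, ← hs]; exact Subtype.ext ((mul_comm y x).trans hxy))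
    calc y = y * (r * s) := by rw [sub_eq_zero.mp h1, mul_one]
      _ = (y * s) * r := by ring
      _ = 0 := by rw [h2, zero_mul]
  haveI : IsDomain R := NoZeroDivisors.to_isDomain R
  refine ⟨inferInstance, (ValuationRing.iff_dvd_total).mpr ⟨fun a b => ?_⟩⟩
  have hfg : (Ideal.span {a, b}).FG := Submodule.fg_span (Set.toFinite _)
  haveI := h _ hfg
  obtain ⟨z, hz⟩ := principal_of_flat R _ hfg
  obtain ⟨u, hu⟩ := (hz ⟨a, Ideal.subset_span (Set.mem_insert a _)⟩).1
  obtain ⟨v, hv⟩ := (hz ⟨b, Ideal.subset_span (Set.mem_insert_of_mem a rfl)⟩).1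
  have hu' : a = u * (z : R) := congrArg Subtype.val hu
  have hv' : b = v * (z : R) := congrArg Subtype.val hv
  by_cases hz0 : (z : R) = 0
  · exact Or.inl ⟨0, hv'.trans (by rw [hz0, mul_zero, mul_zero])⟩
  obtain ⟨p, q, hpq⟩ := Ideal.mem_span_pair.mp z.2
  have h1 : p * u + q * v = 1 := mul_right_cancel₀ hz0 (by
    rw [one_mul]
    calc (p * u + q * v) * (z : R) = p * (u * z) + q * (v * z) := by ring
      _ = z := by rw [← hu', ← hv']; exact hpq)
  rcases IsLocalRing.isUnit_or_isUnit_of_add_one h1 with h2 | h2
  · left
    exact ((dvd_of_eq hu').trans (mul_dvd_mul_right (isUnit_of_mul_isUnit_right h2).dvd _)).trans (dvd_of_eq hv'.symm)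
  · right
    exact ((dvd_of_eq hv').trans (mul_dvd_mul_right (isUnit_of_mul_isUnit_right h2).dvd _)).trans (dvd_of_eq hu'.symm)

theorem flat_submodule (A : Type u) [CommRing A] (h : ∀ I : Ideal A, I.FG → Module.Flat A I)
    (M : Type u) [AddCommGroup M] [Module A M] [Module.Flat A M] (N : Submodule A M) : Module.Flat A N := by
  rw [Module.Flat.iff_rTensor_injective]
  intro I hI
  haveI := h I hI
  have hcomp : (N.subtype.lTensor A) ∘ₗ (I.subtype.rTensor N) = (I.subtype.rTensor M) ∘ₗ (N.subtype.lTensor I) := by
    rw [LinearMap.lTensor_comp_rTensor, LinearMap.rTensor_comp_lTensor]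
  have hinj : Function.Injective ((I.subtype.rTensor M) ∘ₗ (N.subtype.lTensor I)) :=
    (Module.Flat.rTensor_preserves_injective_linearMap (M := M) I.subtype Subtype.val_injective).comp
      (Module.Flat.lTensor_preserves_injective_linearMap (M := I) N.subtype Subtype.val_injective)
  rw [← hcomp] at hinj
  exact fun a b hab => hinj (congrArg (N.subtype.lTensor A) hab)

/-- For a commutative ring A these are equivalent — all ideals are flat A-modules; all finitely
generated ideals are flat; flatness passes to submodules of flat modules; each localization at a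
prime is a valuation ring (in particular a domain). Condition (1), weak dimension at most one, is
not stated. -/
theorem result (A : Type u) [CommRing A] :
    List.TFAE [∀ I : Ideal A, Module.Flat A I,
      ∀ I : Ideal A, I.FG → Module.Flat A I,
      ∀ (M : Type u) [AddCommGroup M] [Module A M], Module.Flat A M → ∀ N : Submodule A M, Module.Flat A N,
      ∀ (p : Ideal A) [p.IsPrime], ∃ _ : IsDomain (Localization.AtPrime p), ValuationRing (Localization.AtPrime p)] := by
  tfae_have 1 → 2 := fun h I _ => h I
  tfae_have 2 → 3 := fun h M _ _ hM N => @flat_submodule A _ h M _ _ hM N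
  tfae_have 3 → 1 := fun h I => h A inferInstance I
  tfae_have 3 → 4 := by
    intro h p hp
    refine isDomain_of_flat (Localization.AtPrime p) fun J _ => ?_
    rw [Module.flat_iff_of_isLocalization (R := A) (S := Localization.AtPrime p) p.primeCompl]
    haveI : Module.Flat A (Localization.AtPrime p) := IsLocalization.flat _ p.primeCompl
    exact h (Localization.AtPrime p) inferInstance (J.restrictScalars A)
  tfae_have 4 → 1 := by
    intro h I
    refine Module.flat_of_isLocalized_maximal A I (fun P hP => (haveI := hP.isPrime; I.localized' (Localization.AtPrime P) P.primeCompl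
      (Algebra.linearMap A (Localization.AtPrime P)) : Ideal (Localization.AtPrime P)))
      (fun P hP => haveI := hP.isPrime; I.toLocalized' (Localization.AtPrime P) P.primeCompl (Algebra.linearMap A (Localization.AtPrime P))) ?_
    intro P _
    obtain ⟨_, _⟩ := h P
    haveI : Module.Flat A (Localization.AtPrime P) := IsLocalization.flat _ P.primeCompl
    let J : Ideal (Localization.AtPrime P) :=
      I.localized' (Localization.AtPrime P) P.primeCompl (Algebra.linearMap A (Localization.AtPrime P))
    haveI : Module.Flat (Localization.AtPrime P) J :=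
      Module.Flat.flat_iff_torsion_eq_bot_of_isBezout.mpr (Submodule.isTorsionFree_iff_torsion_eq_bot.mp inferInstance)
    exact Module.Flat.trans A (Localization.AtPrime P) J
  tfae_finish

end Groth.Agent.S1969
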