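import Groth.Statements.S19701
import Groth.Agent.HyperellLib.Push

set_option linter.style.haveILetI false
set_option linter.unusedSectionVars false
set_option backward.isDefEq.respectTransparency false
set_option backward.isDefEq.respectTransparency.types false

set_option autoImplicit false
universe u
open CategoryTheory CategoryTheory.Limits AlgebraicGeometry Opposite
open Curves

namespace Groth.Agent.S19701

open TopologicalSpace Opposite

theorem epi_trace (k : Type u) [Field k] {X : Scheme.{u}} [X.Over (Spec (CommRingCat.of k))] (h : X ⟶ CohB1.ProjSpace 1 k) [IsFinite h] [Flat h]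
    (hr : ∀ y : ↥(CohB1.ProjSpace 1 k), h.finrank y = 2)
    (τ : (Scheme.Modules.pushforward h).obj (Coh.structureModule X) ⟶ Coh.structureModule (CohB1.ProjSpace 1 k))
    (hτ : FinCov.IsTraceHom h τ) (h2 : (2 : k) ≠ 0) : Epi τ := by
  let Y := CohB1.ProjSpace 1 k
  let E := (Scheme.Modules.pushforward h).obj (Coh.structureModule X)
  let t : Γ(E, ⊤) := (1 : Γ(X, h ⁻¹ᵁ ⊤))
  let v : Γ(Y, ⊤) := τ.app ⊤ t
  have hcrit := Groth.Agent.H23.CoverPush.crit_of_isFinLocFreeOfRank_push h
    (Groth.Agent.HyperellLib.isFinLocFreeOfRank_two k h hr)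
  have hv : v = 2 := by
    choose U hU hy l using hcrit
    refine Y.sheaf.eq_of_locally_eq' U ⊤ (fun y => homOfLE le_top)
      (fun y _ => Opens.mem_iSup.2 ⟨y, hy y⟩) v 2 (fun y => ?_)
    letI : Algebra Γ(Y, U y) Γ(X, h ⁻¹ᵁ U y) := (h.app (U y)).hom.toAlgebra
    obtain ⟨e⟩ := l y
    have hfree : Module.Free Γ(Y, U y) Γ(X, h ⁻¹ᵁ U y) := Module.Free.of_equiv e.symm
    have hfin : Module.Finite Γ(Y, U y) Γ(X, h ⁻¹ᵁ U y) := Module.Finite.equiv e.symm
    haveI : Nontrivial Γ(Y, U y) := (Y.presheaf.germ (U y) y (hy y)).hom.domain_nontrivial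
    have h1 := hτ (U y) (hU y) hfree hfin 1
    rw [show Algebra.trace Γ(Y, U y) Γ(X, h ⁻¹ᵁ U y) 1 = 2 by
      rw [← map_one (algebraMap Γ(Y, U y) Γ(X, h ⁻¹ᵁ U y)), Algebra.trace_algebraMap, e.finrank_eq]
      simp] at h1
    show Y.presheaf.map (homOfLE le_top).op v = Y.presheaf.map (homOfLE le_top).op 2
    rw [map_ofNat]
    refine Eq.trans ?_ h1
    refine (ConcreteCategory.congr_hom (τ.mapPresheaf.naturality (homOfLE (le_top : U y ≤ ⊤)).op) t).symm.trans ?_
    exact congrArg (τ.app (U y)) (map_one (X.presheaf.map _).hom)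
  let w : Γ(Y, ⊤) := Coh.toGlobal (CohB1.ProjSpace.toSpec 1 k) (2⁻¹ : k)
  have hvw : v * w = 1 := by
    rw [hv, show (2 : Γ(Y, ⊤)) = Coh.toGlobal (CohB1.ProjSpace.toSpec 1 k) 2 from (map_ofNat _ _).symm]
    show Coh.toGlobal (CohB1.ProjSpace.toSpec 1 k) 2 * Coh.toGlobal (CohB1.ProjSpace.toSpec 1 k) (2⁻¹ : k) = 1
    rw [← map_mul, mul_inv_cancel₀ h2, map_one]
  let s : Coh.structureModule Y ⟶ E := Groth.Agent.QCoh.homOfTop t
  let u : Coh.structureModule Y ⟶ Coh.structureModule Y :=
    Groth.Agent.QCoh.homOfTop (show Γ(Coh.structureModule Y, ⊤) from w)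
  have hid : (u ≫ s) ≫ τ = 𝟙 _ := by
    refine Groth.Agent.CurveRR.hom_ext_one ?_
    show τ.app ⊤ (s.app ⊤ (u.app ⊤ (1 : Γ(Y, ⊤)))) = (1 : Γ(Y, ⊤))
    have hu : u.app ⊤ (1 : Γ(Y, ⊤)) = (show Γ(Coh.structureModule Y, ⊤) from w) :=
      (Groth.Agent.QCoh.homOfTop_app (P := Coh.structureModule Y) w (1 : Γ(Y, ⊤))).trans ((one_smul _ _).trans
        (ConcreteCategory.congr_hom ((Coh.structureModule Y).presheaf.map_id _) _))
    rw [hu]
    refine (congrArg (τ.app ⊤) ((Groth.Agent.QCoh.homOfTop_app t w).trans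
      (congrArg (w • ·) (ConcreteCategory.congr_hom (E.presheaf.map_id _) t)))).trans ?_
    refine (Scheme.Modules.Hom.app_smul τ w t).trans ?_
    show w * v = 1
    rw [mul_comm, hvw]
  exact epi_of_epi_fac hid


/-- Let k be an algebraically closed field of characteristic different from 2 and X a hyperelliptic
curve of genus g over k: X → Spec k is smooth and proper, X is connected of dimension one with g =
dim_k H¹(X, O_X) ≥ 2, and h : X → P¹_k is a k-morphism which is a double cover (finite, flat,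
locally of finite presentation, of rank 2 at every point). Let τ : h_*O_X → O_{P¹} be the trace of h
(the O-linear map which over every affine open of P¹_k where h_*O_X is finite free is the trace of
the regular representation). Then the kernel of τ — an invertible sheaf on P¹_k — has degree −g − 1,
the degree of a rank-one sheaf E on P¹_k being χ(E) − χ(O). (On P¹_k this says that ker τ is
isomorphic to O(−g − 1); only the degree is asserted here.) -/
theorem result (k : Type u) [Field k] [IsAlgClosed k]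
    (h2 : (2 : k) ≠ 0) {X : Scheme.{u}} (p : X ⟶ Spec (CommRingCat.of k)) [IsProper p] [Smooth p]
    [ConnectedSpace ↥X] (hX : topologicalKrullDim ↥X = 1) (hg : 2 ≤ @Curv2.genus k _ X ⟨p⟩)
    (h : X ⟶ CohB1.ProjSpace 1 k) (hh : h ≫ CohB1.ProjSpace.toSpec 1 k = p)
    [IsFinite h] [Flat h] [LocallyOfFinitePresentation h]
    (hr : ∀ y : ↥(CohB1.ProjSpace 1 k), h.finrank y = 2)
    (τ : (Scheme.Modules.pushforward h).obj (Coh.structureModule X) ⟶ Coh.structureModule (CohB1.ProjSpace 1 k))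
    (hτ : FinCov.IsTraceHom h τ) :
    @Curv2.deg k _ (CohB1.ProjSpace 1 k) ⟨CohB1.ProjSpace.toSpec 1 k⟩ (kernel τ) 1 =
      -((@Curv2.genus k _ X ⟨p⟩ : ℤ) + 1) := by
  letI : X.Over (Spec (CommRingCat.of k)) := ⟨p⟩
  haveI : IsProper (X ↘ Spec (CommRingCat.of k)) := ‹IsProper p›
  haveI : Smooth (X ↘ Spec (CommRingCat.of k)) := ‹Smooth p›
  haveI : IsIntegral X := Groth.Agent.CurveBC.isIntegral_of_h0 k X (Groth.Agent.CurveCohLib.finrank_h0_eq_one k X)
  have h0 := Groth.Agent.CurveCohLib.finrank_h0_eq_one k X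
  obtain ⟨e⟩ := Groth.Agent.HyperellLib.push_decomp k h hh hr h0 (g := Curv2.genus k X) rfl
  have hE := Groth.Agent.HyperellLib.isFinLocFreeOfRank_two k h hr
  haveI : Epi τ := epi_trace k h hr τ hτ h2
  have hS := Groth.Agent.CurveSlope.shortExact_kernel_of_epi τ
  have hEc := Groth.Agent.CurveStable.coh_of_free k (Groth.Agent.CurveStable.isFinLocFree_of_rank hE)
  have hOc : Coh.IsCoh (Coh.structureModule (CohB1.ProjSpace 1 k)) :=
    Groth.Agent.QCoh.isCoh_structureModule'
  have hKc := Groth.Agent.QCoh.isCoh_kernel hEc hOc τ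
  have hadd := Groth.Agent.CurveBundle.euler_add' k _ _ _ hS hKc hEc hOc
  have hχE : Curv2.euler k (CohB1.ProjSpace 1 k) ((Scheme.Modules.pushforward h).obj (Coh.structureModule X)) =
      1 - (Curv2.genus k X : ℤ) := by
    rw [Groth.Agent.CurveRR.euler_eq_h0_sub_h1 k (Groth.Agent.P1Bundle.hdim k).le hEc.1,
      Groth.Agent.HyperellLib.finrank_hh_push k h hh Groth.Agent.QCoh.isQCoh_structureModule,
      Groth.Agent.HyperellLib.finrank_hh_push k h hh Groth.Agent.QCoh.isQCoh_structureModule, h0, Curv2.genus]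
    rfl
  show Curv2.euler k (CohB1.ProjSpace 1 k) (kernel τ) - ((1 : ℕ) : ℤ) * Curv2.euler k (CohB1.ProjSpace 1 k) _ = _
  rw [hχE, Groth.Agent.P1Bundle.euler_O] at hadd
  rw [Groth.Agent.P1Bundle.euler_O]
  omega

end Groth.Agent.S19701
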