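import Groth.Statements.S19709
import Groth.Agent.CSEquiv.Central
import Groth.Agent.CSEquiv.Concrete
-- import your own Groth.Agent.* helpers here

set_option autoImplicit false
set_option synthInstance.maxHeartbeats 400000
set_option maxHeartbeats 1600000
set_option linter.style.haveILetI false
set_option backward.isDefEq.respectTransparency false
set_option backward.isDefEq.respectTransparency.types false
universe u
open CategoryTheory MonoidalCategory CartesianMonoidalCategory MonObj GrpObj AlgebraicGeometry MvPolynomial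
open AbVar

namespace Groth.Agent.S19709

/-- The case S = M_w = Hom(−, A_w): let p be a prime and k a field with p elements; (π_j) a finite
family of pairwise nonconjugate nonreal Weil p-numbers (π_j in a field K_j of characteristic zero,
integral over ℤ, all complex roots of its minimal polynomial P_j of absolute value √p and none real,
P_i ≠ P_j for i ≠ j), P_w = ∏ P_j and R_w ⊆ ∏ K_j the minimal central order, the image of ℤ[F, V] →
∏ K_j, F ↦ (π_j), V ↦ (p/π_j). An abelian variety over k means a proper, geometrically integral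
commutative group scheme over k taken with its p-Frobenius endomorphism (identity on points, p-th
power on sections; a homomorphism); A lies in AV_w when P_w(π_A) = 0 in End(A). Let A_w be an
abelian variety over k with a ring isomorphism ρ_w : R_w ≅ End(A_w) sending F to the Frobenius, and
let R_w act on Hom(A, A_w) through ρ_w and postcomposition. Then for A in AV_w the following are
equivalent: (a) there is a ring isomorphism R_w ≅ End(A) sending F to the Frobenius of A (the
natural map R_w → End(A) is an isomorphism); (b) the R_w-module M_w(A) = Hom(A, A_w) is locally free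
of rank one: its localization at every prime ideal of R_w is free of rank one. (The source assumes
the Weil support of A is exactly w; for A in AV_w with smaller support both (a) and (b) fail.) -/
theorem result (p : ℕ) [Fact p.Prime] (k : Type u) [Field k] [Finite k] (hk : Nat.card k = p)
    (J : Type) [Fintype J] (K : J → Type) [∀ j, Field (K j)] [∀ j, CharZero (K j)] (ϖ : ∀ j, K j)
    (hint : ∀ j, IsIntegral ℤ (ϖ j))
    (hweil : ∀ j, ∀ z ∈ (minpoly ℤ (ϖ j)).aroots ℂ, ‖z‖ = Real.sqrt p)
    (hnr : ∀ j, ∀ z ∈ (minpoly ℤ (ϖ j)).aroots ℂ, z.im ≠ 0)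
    (hinj : ∀ i j, minpoly ℤ (ϖ i) = minpoly ℤ (ϖ j) → i = j)
    (Aw : Over (Spec (CommRingCat.of k))) [GrpObj Aw] [IsCommMonObj Aw] [IsProper Aw.hom] [GeometricallyIntegral Aw.hom]
    (πw : Aw ⟶ Aw) [IsMonHom πw] (hπwb : πw.left.base = 𝟙 _) (hπwle : ∀ U : Aw.left.Opens, U ≤ πw.left ⁻¹ᵁ U)
    (hπwapp : ∀ (U : Aw.left.Opens) (s : Γ(Aw.left, U)), (πw.left.appLE U U (hπwle U)).hom s = s ^ p)
    (ρw : (MvPolynomial.aeval ![fun j => ϖ j, fun j => (p : K j) / ϖ j] : MvPolynomial (Fin 2) ℤ →ₐ[ℤ] ((j : J) → K j)).range ≃+* EndAV.End Aw)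
    (hρw : ρw ⟨(MvPolynomial.aeval ![fun j => ϖ j, fun j => (p : K j) / ϖ j] : MvPolynomial (Fin 2) ℤ →ₐ[ℤ] ((j : J) → K j)) (X 0), AlgHom.mem_range_self _ _⟩ = EndAV.End.of πw)
    (A : Over (Spec (CommRingCat.of k))) [GrpObj A] [IsCommMonObj A] [IsProper A.hom] [GeometricallyIntegral A.hom]
    (πA : A ⟶ A) [IsMonHom πA] (hπAb : πA.left.base = 𝟙 _) (hπAle : ∀ U : A.left.Opens, U ≤ πA.left ⁻¹ᵁ U)
    (hπAapp : ∀ (U : A.left.Opens) (s : Γ(A.left, U)), (πA.left.appLE U U (hπAle U)).hom s = s ^ p)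
    (hPA : Polynomial.aeval (EndAV.End.of πA) (∏ j, minpoly ℤ (ϖ j)) = 0)
    [Module ↥(MvPolynomial.aeval ![fun j => ϖ j, fun j => (p : K j) / ϖ j] : MvPolynomial (Fin 2) ℤ →ₐ[ℤ] ((j : J) → K j)).range (EndAV.Hom A Aw)]
    (hmod : ∀ (r : ↥(MvPolynomial.aeval ![fun j => ϖ j, fun j => (p : K j) / ϖ j] : MvPolynomial (Fin 2) ℤ →ₐ[ℤ] ((j : J) → K j)).range) (φ : EndAV.Hom A Aw), r • φ = (ρw r) • φ) :
    (∃ ρ : ↥(MvPolynomial.aeval ![fun j => ϖ j, fun j => (p : K j) / ϖ j] : MvPolynomial (Fin 2) ℤ →ₐ[ℤ] ((j : J) → K j)).range ≃+* EndAV.End A, ρ ⟨(MvPolynomial.aeval ![fun j => ϖ j, fun j => (p : K j) / ϖ j] : MvPolynomial (Fin 2) ℤ →ₐ[ℤ] ((j : J) → K j)) (X 0), AlgHom.mem_range_self _ _⟩ = EndAV.End.of πA) ↔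
      ∀ (P : Ideal ↥(MvPolynomial.aeval ![fun j => ϖ j, fun j => (p : K j) / ϖ j] : MvPolynomial (Fin 2) ℤ →ₐ[ℤ] ((j : J) → K j)).range) (_ : P.IsPrime),
        Nonempty (LocalizedModule P.primeCompl (EndAV.Hom A Aw) ≃ₗ[Localization.AtPrime P] Localization.AtPrime P) := by
  classical
  have hπw := CSEquiv.frobE_eq_of hk πw hπwb hπwle hπwapp
  have hπA := CSEquiv.frobE_eq_of hk πA hπAb hπAle hπAapp
  have h := CSEquiv.data_of hint hweil hnr hinj ρw (hρw.trans hπw.symm) hk
  have hX := CSEquiv.mem_of hk πA hπAb hπAle hπAapp hPA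
  haveI := CSEquiv.finite_hom ρw hmod
  constructor
  · rintro ⟨ρ, hρ⟩ P hP
    have hA := CSEquiv.data_of hint hweil hnr hinj ρ (hρ.trans hπA.symm) hk
    have hact : ∀ x, h.act hX (ρw x) = ρ x := fun x => by
      obtain ⟨N, Q, h1, h2⟩ := (h.exists_act hX).choose_spec.2 (ρw x)
      have h2' : CSEquiv.frobE A ^ N * h.act hX (ρw x) = Polynomial.aeval (CSEquiv.frobE A) Q := h2
      have h3 : CSEquiv.frobE A ^ N * ρ x = Polynomial.aeval (CSEquiv.frobE A) Q := by
        have e := congrArg (fun s => ρ (ρw.symm s)) h1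
        simp only [map_mul, map_pow, RingEquiv.symm_apply_apply] at e
        rw [hπw, ← hρw, RingEquiv.symm_apply_apply, hρ, ← hπA] at e
        rw [e]
        refine (congrArg (fun s => ρ (ρw.symm s)) (CSEquiv.map_aeval_int ρw.toRingHom _ Q).symm).trans ?_
        show ρ (ρw.symm (ρw (Polynomial.aeval _ Q))) = _
        rw [RingEquiv.symm_apply_apply]
        refine (CSEquiv.map_aeval_int ρ.toRingHom _ Q).trans ?_
        rw [hπA, ← hρ]
        rfl
      refine sub_eq_zero.1 (CSEquiv.frob_pow_cancel N (AVFin.frob_commute (CSEquiv.isPowMap_frobE A) _) ?_)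
      rw [mul_sub, h2', h3, sub_self]
    have hbij : Function.Bijective (h.act hX) := by
      have e : (h.act hX : EndAV.End Aw → EndAV.End A) = ρ ∘ ρw.symm := funext fun s => by
        conv_lhs => rw [← ρw.apply_symm_apply s]
        exact hact _
      rw [e]
      exact ρ.bijective.comp ρw.symm.bijective
    exact CSEquiv.nonempty_equiv ((h.faithful_iff ρw hmod hX).1 hbij.1)
      (fun m hm => h.cyc_of_bijective ρw hmod hA hX hbij m) P
  · intro hloc
    have hbij : Function.Bijective (h.act hX) := by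
      refine h.bijective_of_cyc ρw hmod hX (fun s hs => ?_) fun m hm =>
        (CSEquiv.cyc_of_equiv m (hloc m hm.isPrime).some).1
      exact CSEquiv.eq_zero_of_local fun m hm => (CSEquiv.cyc_of_equiv m (hloc m hm.isPrime).some).2 s hs
    refine ⟨ρw.trans (RingEquiv.ofBijective (h.act hX) hbij), ?_⟩
    show h.act hX (ρw _) = _
    rw [hρw, ← hπw, h.act_frobE, hπA]

end Groth.Agent.S19709
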