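import Groth.Statements.S19712
import Groth.Agent.FibreGrowth.DivFam
import Groth.Agent.MulSect.Main
import Groth.Agent.NumTau.Proper
import Groth.Agent.AsympCoh.NumBound
-- import your own Groth.Agent.* helpers here

set_option autoImplicit false
universe u
open CategoryTheory AlgebraicGeometry
open Variety

namespace Groth.Agent.S19712

open AlgebraicGeometry.Scheme.Modules in
/-- Uniform cohomology bound on intersections of divisors: let X be an integral scheme, proper over an
algebraically closed field k of characteristic zero and admitting an ample invertible module, of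
dimension n (the source works over the complex numbers); let A be an invertible O_X-module which is
very ample (A ≅ i^*O(1) for an immersion into some P^N_k) and such that A ⊗ P' is very ample for
every invertible P' numerically equivalent to zero, D any invertible O_X-module and 1 ≤ k ≤ n. Then
there is a constant C > 0, determined by X, A and D, such that: for every invertible P numerically
equivalent to zero, every k global sections s_1, …, s_k of A ⊗ P, and every closed subscheme Z of X
whose ideal is generated by the zero-scheme ideals of the s_j (Z = E_1 ∩ ⋯ ∩ E_k with E_j the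
divisor of s_j), if Z is reduced and all its irreducible components have dimension n − k, then dim_k
H^i(Z, (D^{⊗m})|_Z) ≤ C · m^{n−k} for every m ≥ 1 and every i. -/
theorem result
    (k : Type u) [Field k] [IsAlgClosed k] [CharZero k] (X : Scheme.{u})
    [X.Over (Spec (CommRingCat.of k))] [AlgebraicGeometry.IsIntegral X]
    [IsProper (X ↘ Spec (CommRingCat.of k))] (hproj : ∃ A : X.Modules, CohB1.IsAmple A)
    (n : ℕ) (hn : topologicalKrullDim ↥X = n)
    (A : X.Modules) (hA : PicF.IsInvertible A) (hAva : RelAmple.IsRelVeryAmplePn (X ↘ Spec (CommRingCat.of k)) A)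
    (hAP : ∀ P' : X.Modules, PicF.IsInvertible P' → Pic13.IsNumEquivZero k X P' →
      RelAmple.IsRelVeryAmplePn (X ↘ Spec (CommRingCat.of k)) (CohB1.tensorMod A P'))
    (D : X.Modules) (hD : PicF.IsInvertible D) (kk : ℕ) (hk1 : 1 ≤ kk) (hkn : kk ≤ n) :
    ∃ C : ℝ, 0 < C ∧ ∀ (P : X.Modules), PicF.IsInvertible P → Pic13.IsNumEquivZero k X P →
      ∀ (s : Fin kk → (Coh.structureModule X ⟶ CohB1.tensorMod A P))
        (Z : Scheme.{u}) [Z.Over (Spec (CommRingCat.of k))] (ι : Z ⟶ X) [IsClosedImmersion ι],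
        ι ≫ (X ↘ Spec (CommRingCat.of k)) = Z ↘ Spec (CommRingCat.of k) →
        (∀ U : X.affineOpens, ι.ker.ideal U = ⨆ j, (PicF2.zeroScheme (CohB1.tensorMod A P) (s j)).ideal U) →
        AlgebraicGeometry.IsReduced Z →
        (∀ W ∈ irreducibleComponents ↥Z, topologicalKrullDim ↥W = ((n - kk : ℕ) : WithBot ℕ∞)) →
        ∀ (m : ℕ), 1 ≤ m → ∀ i : ℕ,
          (Module.finrank k (Coh.HH Z ((pullback ι).obj (CohB1.tensorPow D m)) i) : ℝ) ≤ C * (m : ℝ) ^ (n - kk) := by
  classical
  open Groth.Agent Groth.Agent.H23.PicMul in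
  obtain ⟨H, hH⟩ := hproj
  haveI : Infinite k := inferInstance
  haveI : AlgebraicGeometry.IsNoetherian X := CurveCohLib.isNoetherian_of_proper (k := k)
  have hM : PicF.IsInvertible (CohB1.tensorMod A A) := InvX.isInvertible_tensorMod hA hA
  haveI := CurveCohLib.finite_HH (k := k) (AmpleVan.isCoh_invertible hM) 0
  let e := LinearEquiv.ofBijective _ (RegEpi.evalOneLin_bijective k (CohB1.tensorMod A A))
  let B := Module.finBasis k (Coh.HH X (CohB1.tensorMod A A) 0)
  let σ : Fin (Module.finrank k (Coh.HH X (CohB1.tensorMod A A) 0)) → Γ(CohB1.tensorMod A A, ⊤) :=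
    fun r => InvX.one (e.symm (B r))
  obtain ⟨b, hb⟩ := AsympCoh.exists_uniform_bound k hH 0 A (AmpleVan.isCoh_invertible hA)
  obtain ⟨C, hC⟩ := FibreGrowth.exists_bound_intersections k hH hD hM σ (kk * b)
  refine ⟨C + 1, by positivity, fun P hP hPn s Z _ ι _ hι hker _ hcomp m hm i => ?_⟩
  haveI : IsProper (Z ↘ Spec (CommRingCat.of k)) := by rw [← hι]; infer_instance
  by_cases hne : Nonempty Z
  swap
  · have hcoh : Coh.IsCoh ((pullback ι).obj (CohB1.tensorPow D m)) := by
      haveI : IsLocallyNoetherian Z := LocallyOfFiniteType.isLocallyNoetherian ι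
      exact ZClosLib.isCoh_pullback _ (AmpleVan.isCoh_invertible (InvX.isInvertible_tensorPow hD m))
    have h0 : HilbPoly.hdimk k ((pullback ι).obj (CohB1.tensorPow D m)) i = 0 := by
      refine HilbPoly.hdimk_eq_zero_of_dimLT k hcoh (d := 0) ?_ (Nat.zero_le i)
      haveI : IsEmpty Z := not_nonempty_iff.1 hne
      haveI : IsEmpty (TopologicalSpace.IrreducibleCloseds
          ↥(CohB1.support ((pullback ι).obj (CohB1.tensorPow D m)))) := ⟨fun W => isEmptyElim W.2.1.some.1⟩
      show topologicalKrullDim _ < _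
      rw [topologicalKrullDim, Order.krullDim_eq_bot]
      exact WithBot.bot_lt_coe _
    have h1 : Module.finrank k (Coh.HH Z ((pullback ι).obj (CohB1.tensorPow D m)) i) = 0 := h0
    rw [h1]
    simp only [Nat.cast_zero]
    positivity
  have hdimZ : topologicalKrullDim ↥Z = ((n - kk : ℕ) : WithBot ℕ∞) := by
    rw [H23.TopDim.dim_eq_iSup_irreducibleComponents]
    obtain ⟨z⟩ := hne
    refine le_antisymm (iSup₂_le fun W hW => (hcomp W hW).le) ?_
    exact le_iSup₂_of_le (irreducibleComponent z) (irreducibleComponent_mem_irreducibleComponents z)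
      (hcomp _ (irreducibleComponent_mem_irreducibleComponents z)).ge
  obtain ⟨P', hP', hPP'⟩ := (NumTau.nt_of_numEquivZero hP hPn).inv
  have hN : PicF.IsInvertible (CohB1.tensorMod A P') := InvX.isInvertible_tensorMod hA hP'.1
  have hgg := FibreGrowth.isGloballyGenerated_of_relVeryAmplePn
    (hAP P' hP'.1 (NumTau.numEquivZero_of_nt hP'))
  obtain ⟨t, ht⟩ := MulSect.exists_generating k hN hgg
  have hle : Module.finrank k (Coh.HH X (CohB1.tensorMod A P') 0) ≤ b := hb P' hP'
  have hpos : 0 < Module.finrank k (Coh.HH X (CohB1.tensorMod A P') 0) := by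
    obtain ⟨l, -⟩ := InvX.exists_frame_of_generated hN t (genericPoint X) (ht _)
    exact l.pos
  let τ : Fin b → Fin (Module.finrank k (Coh.HH X (CohB1.tensorMod A P') 0)) :=
    fun l => if h : (l : ℕ) < _ then ⟨l, h⟩ else ⟨0, hpos⟩
  have hτ : ∀ l, ∃ l', τ l' = l := fun l =>
    ⟨⟨l, l.2.trans_le hle⟩, by simp [τ, l.2]⟩
  have hLN : PicF.cl (CohB1.tensorMod (CohB1.tensorMod A P) (CohB1.tensorMod A P')) =
      PicF.cl (CohB1.tensorMod A A) := by
    rw [H23.PicMul.cl_tensor, H23.PicMul.cl_tensor, H23.PicMul.cl_tensor, H23.PicMul.cl_tensor]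
    open Groth.Agent.H23.PicMul in
    rw [mul_mul_mul_comm, hPP', mul_one]
  obtain ⟨eLN⟩ := H23.PicMul.cl_eq_iff.1 hLN
  choose ψ hψ using fun l => FibreGrowth.exists_hom eLN (InvX.ofSect (t l))
  have hAPi : PicF.IsInvertible (CohB1.tensorMod A P) := InvX.isInvertible_tensorMod hA hP
  have hcov : ∀ x : X, ∃ (l : Fin b) (W : X.Opens), x ∈ W ∧
      IsIso ((Scheme.Modules.restrictFunctor W.ι).map (ψ (τ l))) := fun x => by
    obtain ⟨l, U, hx, hU⟩ := InvX.exists_frame_of_generated hN t x (ht x)
    obtain ⟨l', rfl⟩ := hτ l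
    exact ⟨l', hψ _ x (H23.TrivBasic.le_locus hU hx)⟩
  let a2jl := (finProdFinEquiv (m := kk) (n := b)).symm
  let sec : Fin (kk * b) → (Coh.structureModule X ⟶ CohB1.tensorMod A A) :=
    fun a => s (a2jl a).1 ≫ ψ (τ (a2jl a).2)
  let v : Fin (kk * b) × Fin (Module.finrank k (Coh.HH X (CohB1.tensorMod A A) 0)) → k :=
    fun p => B.repr (e (sec p.1)) p.2
  have hsec : ∀ a, InvX.ofSect (FibreGrowth.combo k σ fun r => v (a, r)) = sec a := fun a => by
    have h : sec a = ∑ r, v (a, r) • e.symm (B r) := by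
      apply e.injective
      rw [map_sum]
      refine (B.sum_repr (e (sec a))).symm.trans (Finset.sum_congr rfl fun r _ => ?_)
      rw [_root_.map_smul, e.apply_symm_apply]
    let ev : (Coh.structureModule X ⟶ CohB1.tensorMod A A) →+ Γ(CohB1.tensorMod A A, ⊤) :=
      AddMonoidHom.mk' InvX.one fun _ _ => rfl
    have h1 : ev (sec a) = FibreGrowth.combo k σ fun r => v (a, r) := by
      rw [h, map_sum]
      refine Finset.sum_congr rfl fun r _ => ?_
      refine (KLin.smul_app_apply _ _ _ _).trans ?_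
      show X.presheaf.map (homOfLE (le_top : (⊤ : X.Opens) ≤ ⊤)).op _ • _ = _ • _
      rw [show (homOfLE (le_top : (⊤ : X.Opens) ≤ ⊤)).op = 𝟙 _ from rfl, X.presheaf.map_id]
      rfl
    rw [← h1]
    refine sub_eq_zero.1 (AmpleX.eq_zero_of_one_eq_zero _ ?_)
    show InvX.one (InvX.ofSect (InvX.one (sec a))) - InvX.one (sec a) = 0
    rw [InvX.one_ofSect, sub_self]
  have hkerι : ι.ker = ⨆ a, PicF2.zeroScheme (CohB1.tensorMod A A)
      (InvX.ofSect (FibreGrowth.combo k σ fun r => v (a, r))) := by
    have h1 : ι.ker = ⨆ j, PicF2.zeroScheme (CohB1.tensorMod A P) (s j) :=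
      Scheme.IdealSheafData.ext (funext fun U => by
        rw [hker U, Scheme.IdealSheafData.ideal_iSup, iSup_apply])
    rw [h1]
    simp only [hsec, sec]
    rw [← Equiv.iSup_comp (g := fun a => PicF2.zeroScheme (CohB1.tensorMod A A)
      (s (a2jl a).1 ≫ ψ (τ (a2jl a).2))) (finProdFinEquiv (m := kk) (n := b))]
    simp only [a2jl, Equiv.symm_apply_apply]
    rw [iSup_prod]
    exact iSup_congr fun j =>
      (FibreGrowth.iSup_zeroScheme_comp hAPi hM (s j) (fun l => ψ (τ l)) hcov).symm
  have hfin := hC v Z ι hι hkerι (n - kk) hdimZ m hm i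
  refine le_trans (Nat.cast_le.2 hfin) ?_
  push_cast
  gcongr
  exact le_add_of_nonneg_right zero_le_one

end Groth.Agent.S19712
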