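import Groth.Statements.S19733
import Groth.Agent.Big.RealWalls
import Groth.Agent.S11371

set_option autoImplicit false
universe u
open CategoryTheory CategoryTheory.Limits AlgebraicGeometry TopologicalSpace
open Surf

attribute [-instance] CategoryTheory.catToReflQuiver

namespace Groth.Agent.S19733

open Groth.Agent Groth.Agent.H23.PicMul

/-- Let k be an algebraically closed field of characteristic zero and X a smooth projective surface over
k (integral, proper and smooth over k, of dimension 2, with an ample invertible module); the notes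
work over the complex numbers. Fix a group law on the Picard set of X, and let B be the intersection
form on N¹(X)_ℝ = ℝ ⊗ (Pic X modulo numerical equivalence), the real bilinear form whose value on
the classes of invertible modules L, M is (L·M) = χ(O_X) − χ(L) − χ(M) + χ(L ⊗ M). Real divisors are
finite real combinations of integral curves on X (quasi-coherent ideals with integral closed
subscheme of one-dimensional support and invertible ideal module); such a real divisor is ample when
it is a combination with positive real coefficients of integral divisors E_i whose Picard classes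
[O_X(E_i)] are classes of ample invertible modules, and numerically trivial when its class pairs to
zero under B with the class of every integral divisor. If D is an ample real divisor and D′ is a
real divisor with D′ − D numerically trivial, then D′ is ample. -/
theorem result (k : Type u) [Field k] [IsAlgClosed k] [CharZero k]
    (X : Scheme.{u}) [X.Over (Spec (CommRingCat.of k))] [IsProper (X ↘ (Spec (CommRingCat.of k)))]
    [Smooth (X ↘ (Spec (CommRingCat.of k)))] [AlgebraicGeometry.IsIntegral X] (hdim : topologicalKrullDim X = 2)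
    (hproj : ∃ H : X.Modules, CohB1.IsAmple H) [PicGrp.Law X]
    (B : NumR.N1R k X →ₗ[ℝ] NumR.N1R k X →ₗ[ℝ] ℝ) (hB : NumR.IsIntForm₂ k X B)
    (D D' : NumR.CDivR X) (hD : NumR.IsAmpleRDiv X D) (h : NumR.IsNumTrivialRDiv k X B (D' - D)) :
    NumR.IsAmpleRDiv X D' := by
  classical
  haveI := CurveCohLib.isNoetherian_of_proper (k := k) (X := X)
  have move : ∀ (E Z : NumR.CDiv X), (∀ C : NumR.Curve X,
      B (NumR.divClR k X (NumR.CDiv.toR X Z)) (NumR.curveCl k X C.1 C.2.2.2) = 0) →
      (∃ (L : X.Modules) (hL : PicF.IsInvertible L), CohB1.IsAmple L ∧ Additive.ofMul (PicGrp.cls L hL) = NumR.divCl X E) →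
      ∃ (L : X.Modules) (hL : PicF.IsInvertible L), CohB1.IsAmple L ∧
        Additive.ofMul (PicGrp.cls L hL) = NumR.divCl X (E + Z) := by
    rintro E Z hZ ⟨L, hL, hA, hLE⟩
    obtain ⟨M, hM, hMe⟩ := PicGrp.exists_eq_cls (Additive.toMul (NumR.divCl X (E + Z)))
    refine ⟨M, hM, S11371.result k X L M hL hM (fun J hJi hJd => ?_) hA, by rw [← hMe, ofMul_toMul]⟩
    haveI := hJi
    have hJd' : topologicalKrullDim J.subscheme = 1 :=
      (AmpleDev.dim_eq_one_of_closedImmersion J.subschemeι J.range_subschemeι).trans hJd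
    obtain ⟨I, hI1, hI2, hI3, -, hIp⟩ := Big.exists_curve_ideal k hdim J.subschemeι hJd'
    have hI := (S8914.result I).2 hI3
    have e : ∀ (P : X.Modules) (hP : PicF.IsInvertible P) (F : NumR.CDiv X),
        Additive.ofMul (PicGrp.cls P hP) = NumR.divCl X F →
        ((Big.cdeg k J.subschemeι P : ℚ) : ℝ) =
          B (NumR.divClR k X (NumR.CDiv.toR X F)) (NumR.curveCl k X I hI) := fun P hP F hF => by
      rw [NumR.divClR_toR, ← hF]
      show _ = B (NumR.clR k X P hP) (NumR.curveCl k X I hI)
      rw [NumR.curveCl, map_neg, Big.RealForm.B_clR hdim hB hP hI, Big.pair_symm, hIp P hP, Rat.cast_neg, neg_neg]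
    have h1 := e M hM (E + Z) (by rw [← hMe, ofMul_toMul])
    rw [map_add, map_add, map_add, LinearMap.add_apply, hZ ⟨I, hI1, hI2, hI⟩, add_zero, ← e L hL E hLE] at h1
    have h2 : Big.cdeg k J.subschemeι M = Big.cdeg k J.subschemeι L := by exact_mod_cast h1
    rw [Big.cdeg_eq, Big.cdeg_eq, sub_left_inj] at h2
    exact_mod_cast h2.symm
  have step : ∀ (D₀ : NumR.CDivR X) (Z : NumR.CDiv X) (s : ℝ), (∀ C : NumR.Curve X,
      B (NumR.divClR k X (NumR.CDiv.toR X Z)) (NumR.curveCl k X C.1 C.2.2.2) = 0) →
      NumR.IsAmpleRDiv X D₀ → NumR.IsAmpleRDiv X (D₀ + s • NumR.CDiv.toR X Z) := by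
    rintro D₀ Z s hZ ⟨n, E, t, hn, ht, hE, rfl⟩
    obtain ⟨m, rfl⟩ : ∃ m, n = m + 1 := ⟨n - 1, by omega⟩
    obtain ⟨M, hMb⟩ := exists_nat_gt (|s| / t 0)
    have hM : (0 : ℝ) < M := lt_of_le_of_lt (div_nonneg (abs_nonneg _) (ht 0).le) hMb
    rw [div_lt_iff₀ (ht 0)] at hMb
    have hab : |s / M| < t 0 := by
      rw [abs_div, abs_of_pos hM, div_lt_iff₀ hM]; linarith
    rw [abs_lt] at hab
    refine ⟨m + 2, Fin.cons (E 0 + (M : ℤ) • Z) (Fin.cons (E 0 + (-(M : ℤ)) • Z) (Fin.tail E)),
      Fin.cons ((t 0 + s / M) / 2) (Fin.cons ((t 0 - s / M) / 2) (Fin.tail t)), by omega, ?_, ?_, ?_⟩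
    · refine Fin.cases ?_ (Fin.cases ?_ fun i => ?_)
      · simp only [Fin.cons_zero]; linarith
      · simp only [Fin.cons_succ, Fin.cons_zero]; linarith
      · simp only [Fin.cons_succ, Fin.tail]; exact ht _
    · have hz : ∀ (c : ℤ) (C : NumR.Curve X),
          B (NumR.divClR k X (NumR.CDiv.toR X (c • Z))) (NumR.curveCl k X C.1 C.2.2.2) = 0 := fun c C => by
        rw [map_zsmul, map_zsmul, map_zsmul, LinearMap.smul_apply, hZ C, smul_zero]
      refine Fin.cases ?_ (Fin.cases ?_ fun i => ?_)
      · simp only [Fin.cons_zero]; exact move _ _ (hz _) (hE 0)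
      · simp only [Fin.cons_succ, Fin.cons_zero]; exact move _ _ (hz _) (hE 0)
      · simp only [Fin.cons_succ, Fin.tail]; exact hE _
    · rw [Fin.sum_univ_succ (n := m + 1), Fin.sum_univ_succ (n := m), Fin.sum_univ_succ (n := m)]
      simp only [Fin.cons_zero, Fin.cons_succ, Fin.tail, map_add, map_zsmul, smul_add,
        ← Int.cast_smul_eq_zsmul ℝ, smul_smul, Int.cast_neg, Int.cast_natCast, map_smul]
      have h1 : s = (t 0 + s / M) / 2 * M + (t 0 - s / M) / 2 * -(M : ℝ) := by field_simp; ring
      have h2 : t 0 = (t 0 + s / M) / 2 + (t 0 - s / M) / 2 := by ring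
      nth_rewrite 1 [h1]
      nth_rewrite 1 [h2]
      rw [add_smul, add_smul]
      abel
  set R := D' - D
  let V : Submodule ℚ ℝ := Submodule.span ℚ (R '' (R.support : Set (NumR.Curve X)))
  haveI : Module.Finite ℚ V := Module.Finite.span_of_finite ℚ ((R.support.finite_toSet).image _)
  let β := Module.finBasis ℚ V
  have hmem : ∀ i ∈ R.support, R i ∈ V := fun i hi => Submodule.subset_span ⟨i, hi, rfl⟩
  let q : NumR.Curve X → Fin (Module.finrank ℚ V) → ℚ := fun i j =>
    if hi : i ∈ R.support then β.repr ⟨R i, hmem i hi⟩ j else 0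
  have hq : ∀ i ∈ R.support, R i = ∑ j, (q i j : ℝ) * (β j : ℝ) := fun i hi => by
    have h1 := congrArg (fun v : V => (v : ℝ)) (β.sum_repr ⟨R i, hmem i hi⟩)
    simp only [Submodule.coe_sum, Submodule.coe_smul, Rat.smul_def] at h1
    rw [← h1]
    exact Finset.sum_congr rfl fun j _ => by simp only [q, dif_pos hi]
  have hq0 : ∀ (C : NumR.Curve X) (j),
      (∑ i ∈ R.support, q i j * (FGA.intNum k X 2 ![ClSub.idealMod i.1, ClSub.idealMod C.1] (Coh.structureModule X) : ℚ)) = 0 := by
    intro C j
    have h0 := h (Finsupp.single C 1)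
    rw [show NumR.divClR k X (NumR.CDiv.toR X (Finsupp.single C 1)) = NumR.curveCl k X C.1 C.2.2.2 from by
      simp [NumR.CDiv.toR, NumR.divClR]] at h0
    simp only [NumR.divClR, Finsupp.linearCombination_apply] at h0
    rw [Finsupp.sum, map_sum, LinearMap.sum_apply] at h0
    simp only [map_smul, LinearMap.smul_apply, smul_eq_mul] at h0
    have h1 : ∑ j, ((∑ i ∈ R.support, q i j * (FGA.intNum k X 2 ![ClSub.idealMod i.1, ClSub.idealMod C.1]
        (Coh.structureModule X) : ℚ) : ℚ) • β j) = (0 : V) := by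
      apply Subtype.ext
      simp only [Submodule.coe_sum, Submodule.coe_smul, Rat.smul_def, Submodule.coe_zero, Rat.cast_sum, Rat.cast_mul,
        Rat.cast_intCast, Finset.sum_mul]
      rw [Finset.sum_comm]
      refine Eq.trans (Finset.sum_congr rfl fun i hi => ?_) h0
      rw [show B (NumR.curveCl k X i.1 i.2.2.2) (NumR.curveCl k X C.1 C.2.2.2) = _ from
        Big.RealForm.curveCl_pair k hdim hB i.2.2.2 C.2.2.2, hq i hi, Finset.sum_mul]
      exact Finset.sum_congr rfl fun j _ => by ring
    exact Fintype.linearIndependent_iff.1 β.linearIndependent _ h1 j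
  let d : ℕ := ∏ j, ∏ i ∈ R.support, (q i j).den
  have hd : 0 < d := Finset.prod_pos fun j _ => Finset.prod_pos fun i _ => (q i j).pos
  have hz : ∀ i j, ∃ z : ℤ, i ∈ R.support → (z : ℝ) = (d : ℝ) * (q i j : ℝ) := fun i j => by
    by_cases hi : i ∈ R.support
    · have hdvd : (q i j).den ∣ d :=
        (Finset.dvd_prod_of_mem (fun i => (q i j).den) hi).trans (Finset.dvd_prod_of_mem _ (Finset.mem_univ j))
      obtain ⟨e, he⟩ := hdvd
      refine ⟨(e : ℤ) * (q i j).num, fun _ => ?_⟩
      have h2 : ((q i j).den : ℚ) * q i j = ((q i j).num : ℚ) := by rw [mul_comm]; exact Rat.mul_den_eq_num _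
      have h1 : ((q i j).den : ℝ) * (q i j : ℝ) = ((q i j).num : ℝ) := by exact_mod_cast h2
      rw [he]; push_cast; rw [← h1]; ring
    · exact ⟨0, fun h => absurd h hi⟩
  choose z hz using hz
  let Z : Fin (Module.finrank ℚ V) → NumR.CDiv X := fun j => ∑ i ∈ R.support, Finsupp.single i (z i j)
  have hZ : ∀ j (C : NumR.Curve X),
      B (NumR.divClR k X (NumR.CDiv.toR X (Z j))) (NumR.curveCl k X C.1 C.2.2.2) = 0 := fun j C => by
    simp only [Z, map_sum, LinearMap.sum_apply, NumR.CDiv.toR, Finsupp.mapRange.addMonoidHom_apply,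
      Finsupp.mapRange_single, NumR.divClR, Finsupp.linearCombination_single, map_smul, LinearMap.smul_apply,
      smul_eq_mul, Int.coe_castAddHom, Big.RealForm.curveCl_pair k hdim hB]
    rw [Finset.sum_congr rfl fun i (hi : i ∈ R.support) => by rw [hz i j hi]]
    have h1 := congrArg (fun x : ℚ => (d : ℝ) * (x : ℝ)) (hq0 C j)
    push_cast at h1
    rw [Finset.mul_sum, mul_zero] at h1
    rw [← h1]
    exact Finset.sum_congr rfl fun i _ => by ring
  have hR : R = ∑ j, ((β j : ℝ) / d) • NumR.CDiv.toR X (Z j) := by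
    simp only [Z, map_sum, NumR.CDiv.toR, Finsupp.mapRange.addMonoidHom_apply, Finsupp.mapRange_single,
      Int.coe_castAddHom, Finset.smul_sum, Finsupp.smul_single, smul_eq_mul]
    rw [Finset.sum_comm]
    conv_lhs => rw [← Finsupp.sum_single R]
    refine Finset.sum_congr rfl fun i hi => ?_
    rw [← Finsupp.single_finsetSum]
    congr 1
    rw [hq i hi]
    refine Finset.sum_congr rfl fun j _ => ?_
    rw [hz i j hi]
    have : (d : ℝ) ≠ 0 := by exact_mod_cast hd.ne'
    field_simp
  have key : ∀ s : Finset (Fin (Module.finrank ℚ V)),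
      NumR.IsAmpleRDiv X (D + ∑ j ∈ s, ((β j : ℝ) / d) • NumR.CDiv.toR X (Z j)) := fun s => by
    induction s using Finset.induction_on with
    | empty => simpa using hD
    | @insert j s hj ih =>
      rw [Finset.sum_insert hj, add_comm (_ • _), ← add_assoc]
      exact step _ _ _ (hZ j) ih
  have := key Finset.univ
  rwa [← hR, add_sub_cancel] at this

end Groth.Agent.S19733
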