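import Groth.Statements.S19745
import Groth.Agent.EssDimLib.P1Points
import Groth.Agent.EssDimLib.GenusZero

set_option linter.style.haveILetI false
set_option linter.unusedSectionVars false
set_option backward.isDefEq.respectTransparency false
set_option backward.isDefEq.respectTransparency.types false
-- import your own Groth.Agent.* helpers here

set_option autoImplicit false
universe u
open EssDim

namespace Groth.Agent.S19745

section
open CategoryTheory CategoryTheory.Limits AlgebraicGeometry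
open Groth.Agent Groth.Agent.EssDimLib

theorem pts_eq {K : Type u} [Field K] (c : Spec (CommRingCat.of K)) : c = IsLocalRing.closedPoint K :=
  Subsingleton.elim (α := PrimeSpectrum K) _ _

theorem isSmoothPtdFam_std (K : Type u) [Field K] {n : ℕ} (j : Fin n → Fin (1 + 1)) (hj : Function.Injective j) :
    CurvSt.IsSmoothPtdFam (T := Spec (CommRingCat.of K)) (CohB1.ProjSpace.toSpec 1 K)
      (fun i => P1Points.std 1 K (j i)) 0 := by
  refine ⟨isCurveOfGenus_line K, fun i i' hne c h => ?_⟩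
  rw [pts_eq c] at h
  have h2 : ∀ a b : Fin (1 + 1), a ≠ b →
      P1Points.std 1 K a (IsLocalRing.closedPoint K) ≠ P1Points.std 1 K b (IsLocalRing.closedPoint K) := by
    intro a b hab
    fin_cases a <;> fin_cases b
    · exact absurd rfl hab
    · exact P1Points.std_ne_apply
    · exact P1Points.std_ne_apply.symm
    · exact absurd rfl hab
  exact h2 _ _ (hj.ne hne) h

theorem edSt_mgn (k : Type u) [Field k] (n : ℕ)
    [FibCat.IsFibGrpd (CurvSt.Mgn (Spec (CommRingCat.of k)) 0 n).p] (hn : 0 < n) (j : Fin n → Fin (1 + 1))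
    (hj : Function.Injective j)
    (hmove : ∀ (L : Type u) [Field L] (s : Fin n → (Spec (CommRingCat.of L) ⟶ CohB1.ProjSpace 1 L)),
      (∀ i, s i ≫ CohB1.ProjSpace.toSpec 1 L = 𝟙 _) → (∀ i i', i ≠ i' → s i ≠ s i') →
      ∃ a b : Spec (CommRingCat.of L) ⟶ CohB1.ProjSpace 1 L, a ≫ CohB1.ProjSpace.toSpec 1 L = 𝟙 _ ∧
        b ≫ CohB1.ProjSpace.toSpec 1 L = 𝟙 _ ∧ a ≠ b ∧ ∀ i, s i = if j i = 0 then a else b) :
    EssDim.edSt (CurvSt.Mgn (Spec (CommRingCat.of k)) 0 n) = 0 := by
  let 𝒳 := CurvSt.Mgn (Spec (CommRingCat.of k)) 0 n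
  refine le_antisymm ?_ ?_
  · refine iSup_le fun L => iSup_le fun _ => iSup_le fun _ => iSup_le fun ξ => ?_
    refine WithBot.coe_le_coe.2 ?_
    induction ξ using Quot.ind with
    | mk x =>
    obtain ⟨⟨⟨B, C, f, s, hs⟩, hA⟩, hB⟩ := x
    change B = SGA7.pt (K := k) L at hB
    subst hB
    let K : IntermediateField k L := ⊥
    refine (EssDim.edAt_le_of_descends (K := K) ?_).trans (le_of_eq ?_)
    swap
    · haveI : Algebra.IsAlgebraic k K := Algebra.IsAlgebraic.of_finite k _
      rw [trdeg_eq_zero (R := k), map_zero]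
    refine (EssDim.descends_isoCl_iff 𝒳 _ K).2 ?_
    let A₀ : CurvSt.PtFamObj (Spec (CommRingCat.of k)) n :=
      { base := SGA7.pt (K := k) K
        C := CohB1.ProjSpace 1 K
        f := CohB1.ProjSpace.toSpec 1 K
        sect := fun i => P1Points.std 1 K (j i)
        sect_f := fun i => P1Points.std_toSpec _ }
    have hA₀ : CurvSt.IsSmoothPtdFam A₀.f A₀.sect 0 := isSmoothPtdFam_std K j hj
    refine ⟨⟨⟨A₀, hA₀⟩, rfl⟩, ?_⟩
    obtain ⟨e, he⟩ := exists_iso_line hA.1 (s ⟨0, hn⟩) (hs _)
    have hsec : ∀ i, (s i ≫ e.hom) ≫ CohB1.ProjSpace.toSpec 1 L = 𝟙 _ := fun i => by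
      rw [Category.assoc, he]; exact hs i
    obtain ⟨a, b, ha, hb, hab, hval⟩ := hmove L (fun i => s i ≫ e.hom) hsec fun i i' hne h =>
      hA.2 i i' hne (IsLocalRing.closedPoint L) (by
        have h' : s i = s i' := (cancel_mono e.hom).1 h
        exact congrArg (fun t : Spec (CommRingCat.of L) ⟶ C => t (IsLocalRing.closedPoint L)) h')
    obtain ⟨σ, hσ, hσa, hσb⟩ := P1Points.exists_aut a b ha hb hab
    have hstd : ∀ i, s i ≫ e.hom ≫ σ.inv = P1Points.std 1 L (j i) := fun i => by
      rw [← Category.assoc, Iso.comp_inv_eq, hval i]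
      generalize j i = l
      fin_cases l
      · exact (if_pos rfl).trans hσa.symm
      · exact (if_neg (by decide)).trans hσb.symm
    let M := HypCurve.Scale.map (r := 1) K L (fun _ => 1)
    have sq₁ : IsPullback (e.hom ≫ σ.inv) f (CohB1.ProjSpace.toSpec 1 L) (𝟙 _) := by
      refine IsPullback.of_horiz_isIso ⟨?_⟩
      rw [Category.comp_id, Category.assoc]
      exact (congrArg (e.hom ≫ ·) ((Iso.inv_comp_eq _).2 hσ.symm)).trans he
    have sq := sq₁.paste_horiz (HypCurve.Scale.isPullback_map (r := 1) K L (fun _ => 1))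
    rw [Category.id_comp] at sq
    let φ : (⟨SGA7.pt (K := k) L, C, f, s, hs⟩ : CurvSt.PtFamObj (Spec (CommRingCat.of k)) n) ⟶ A₀ :=
      { base := EssDim.resPt K.val
        top := (e.hom ≫ σ.inv) ≫ M
        cart := sq
        w_sect := fun i => by
          show s i ≫ (e.hom ≫ σ.inv) ≫ M = _
          rw [← Category.assoc (s i), hstd i]
          exact P1Points.std_scale K (j i) }
    let Φ : (⟨_, hA⟩ : 𝒳.obj) ⟶ (⟨A₀, hA₀⟩ : 𝒳.obj) := ObjectProperty.homMk φ
    exact ⟨Φ, show 𝒳.p.IsHomLift (𝒳.p.map Φ) Φ from inferInstance⟩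
  · let A₁ : CurvSt.PtFamObj (Spec (CommRingCat.of k)) n :=
      { base := SGA7.pt (K := k) k
        C := CohB1.ProjSpace 1 k
        f := CohB1.ProjSpace.toSpec 1 k
        sect := fun i => P1Points.std 1 k (j i)
        sect_f := fun i => P1Points.std_toSpec _ }
    have hA₁ : CurvSt.IsSmoothPtdFam A₁.f A₁.sect 0 := isSmoothPtdFam_std k j hj
    exact (WithBot.coe_le_coe.2 bot_le).trans (EssDim.edAt_le_ed (P := Gerb.isoClPsh 𝒳)
      (Quot.mk (Gerb.IsoRel 𝒳 (SGA7.pt (K := k) k)) ⟨⟨A₁, hA₁⟩, rfl⟩))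

theorem exists_other {L : Type u} [Field L] (a : Spec (CommRingCat.of L) ⟶ CohB1.ProjSpace 1 L) :
    ∃ b : Spec (CommRingCat.of L) ⟶ CohB1.ProjSpace 1 L, b ≫ CohB1.ProjSpace.toSpec 1 L = 𝟙 _ ∧ a ≠ b := by
  by_cases h : a = P1Points.std 1 L 0
  · exact ⟨_, P1Points.std_toSpec 1, h ▸ P1Points.std_ne⟩
  · exact ⟨_, P1Points.std_toSpec 0, h⟩

end

open CategoryTheory AlgebraicGeometry in
/-- Over a field `k` of characteristic zero, the stack of smooth genus-`0` curves with one marked point
and the stack of smooth genus-`0` curves with two (distinct) marked points both have essential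
dimension `0`: they have objects over some field, and every smooth proper geometrically irreducible
curve of genus `0` over a field `L ⊇ k` with one or two rational points descends, with its points,
to a subfield of `L` algebraic over `k`. -/
theorem result (k : Type u) [Field k] [CharZero k]
    [FibCat.IsFibGrpd (CurvSt.Mgn (Spec (CommRingCat.of k)) 0 1).p]
    [FibCat.IsFibGrpd (CurvSt.Mgn (Spec (CommRingCat.of k)) 0 2).p] :
    EssDim.edSt (CurvSt.Mgn (Spec (CommRingCat.of k)) 0 1) = 0 ∧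
      EssDim.edSt (CurvSt.Mgn (Spec (CommRingCat.of k)) 0 2) = 0 := by
  refine ⟨edSt_mgn k 1 Nat.one_pos (fun _ => 0) (fun a b _ => Subsingleton.elim a b) fun L _ s hs _ => ?_,
    edSt_mgn k 2 Nat.two_pos id Function.injective_id fun L _ s hs hne => ?_⟩
  · obtain ⟨b, hb, hne⟩ := exists_other (s 0)
    exact ⟨s 0, b, hs 0, hb, hne, fun i => by rw [if_pos rfl, Subsingleton.elim i 0]⟩
  · exact ⟨s 0, s 1, hs 0, hs 1, hne 0 1 (by decide), fun i => by fin_cases i <;> rfl⟩

end Groth.Agent.S19745
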