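import Groth.Statements.S19746
import Groth.Agent.EssDimLib.ConicFam

set_option backward.isDefEq.respectTransparency false
set_option backward.isDefEq.respectTransparency.types false
set_option linter.style.haveILetI false
-- import your own Groth.Agent.* helpers here

set_option autoImplicit false
universe u
open EssDim

namespace Groth.Agent.S19746

open CategoryTheory AlgebraicGeometry in
/-- Over a field `k` of characteristic zero the stack of smooth curves of genus `0` (no marked points)
has an object over some field, and its essential dimension over `k` is at most `2`: every smooth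
proper geometrically irreducible curve of genus `0` over a field `L ⊇ k` is obtained by base change
from a curve over a subfield of `L` of transcendence degree at most `2` over `k`. (The source
asserts that this essential dimension equals `2`; the reverse inequality is only indicated there,
and this row states non-emptiness and the upper bound.) -/
theorem result (k : Type u) [Field k] [CharZero k]
    [FibCat.IsFibGrpd (CurvSt.Mgn (Spec (CommRingCat.of k)) 0 0).p] :
    EssDim.edSt (CurvSt.Mgn (Spec (CommRingCat.of k)) 0 0) ≠ ⊥ ∧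
      EssDim.edSt (CurvSt.Mgn (Spec (CommRingCat.of k)) 0 0) ≤ ((2 : ℕ) : WithBot ℕ∞) := by
  let 𝒳 := CurvSt.Mgn (Spec (CommRingCat.of k)) 0 0
  refine ⟨?_, ?_⟩
  · let A₁ : CurvSt.PtFamObj (Spec (CommRingCat.of k)) 0 :=
      { base := SGA7.pt (K := k) k
        C := CohB1.ProjSpace 1 k
        f := CohB1.ProjSpace.toSpec 1 k
        sect := fun i => i.elim0
        sect_f := fun i => i.elim0 }
    have hA₁ : CurvSt.IsSmoothPtdFam A₁.f A₁.sect 0 :=
      ⟨Groth.Agent.EssDimLib.isCurveOfGenus_line k, fun i => i.elim0⟩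
    intro hbot
    have h := EssDim.edAt_le_ed (P := Gerb.isoClPsh 𝒳)
      (Quot.mk (Gerb.IsoRel 𝒳 (SGA7.pt (K := k) k)) ⟨⟨A₁, hA₁⟩, rfl⟩)
    exact WithBot.coe_ne_bot (le_bot_iff.1 (h.trans hbot.le))
  · refine iSup_le fun L => iSup_le fun _ => iSup_le fun _ => iSup_le fun ξ => ?_
    refine WithBot.coe_le_coe.2 ?_
    induction ξ using Quot.ind with
    | mk x =>
    obtain ⟨⟨⟨B, C, f, s, hs⟩, hA⟩, hB⟩ := x
    change B = SGA7.pt (K := k) L at hB
    subst hB
    obtain ⟨K, C₀, f₀, top, hK, hf₀, sq⟩ := Groth.Agent.EssDimLib.ConicModel.exists_model (k := k) hA.1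
    refine (EssDim.edAt_le_of_descends (K := K) ?_).trans hK
    refine (EssDim.descends_isoCl_iff 𝒳 _ K).2 ?_
    let A₀ : CurvSt.PtFamObj (Spec (CommRingCat.of k)) 0 :=
      { base := SGA7.pt (K := k) K
        C := C₀
        f := f₀
        sect := fun i => i.elim0
        sect_f := fun i => i.elim0 }
    have hA₀ : CurvSt.IsSmoothPtdFam A₀.f A₀.sect 0 := ⟨hf₀, fun i => i.elim0⟩
    refine ⟨⟨⟨A₀, hA₀⟩, rfl⟩, ?_⟩
    let φ : (⟨SGA7.pt (K := k) L, C, f, s, hs⟩ : CurvSt.PtFamObj (Spec (CommRingCat.of k)) 0) ⟶ A₀ :=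
      { base := EssDim.resPt K.val
        top := top
        cart := sq
        w_sect := fun i => i.elim0 }
    let Φ : (⟨_, hA⟩ : 𝒳.obj) ⟶ (⟨A₀, hA₀⟩ : 𝒳.obj) := ObjectProperty.homMk φ
    exact ⟨Φ, show 𝒳.p.IsHomLift (𝒳.p.map Φ) Φ from inferInstance⟩

end Groth.Agent.S19746
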