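import Groth.Statements.S19779
import Groth.Agent.H9Elkik.ProjApprox
import Groth.Agent.H9Elkik.Laurent
-- import your own Groth.Agent.* helpers here

set_option autoImplicit false
universe u
open Polynomial TensorProduct
open CAlg

namespace Groth.Agent.S19779

/-- For general linear groups, in the case R{t}[1/t] → R((t)), let R be a commutative ring, B = R{t} a
henselization of R[t] along (t), ψ : B → R[[t]] the R[t]-algebra map, L = B[1/t], and L' an
L-algebra identified with R((t)) compatibly with ψ. Then base change along L → L' is a bijection on
isomorphism classes of finitely generated projective modules: two finitely generated projective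
L-modules isomorphic over L' are isomorphic, and every finitely generated projective L'-module is
extended from one over L. (The published statement is the bijection H¹(R{t}[1/t], G) ≅ H¹(R((t)), G)
for every quasi-affine smooth group G; this row is the case of the general linear groups, stated for
finitely generated projective modules of arbitrary rank.) -/
theorem result (R : Type u) [CommRing R]
    (B : Type u) [CommRing B] [Algebra R[X] B] (hB : Hens2.IsPairHenselization R[X] (Ideal.span {(X : R[X])}) B)
    (ψ : B →ₐ[R[X]] PowerSeries R)
    (L' : Type u) [CommRing L'] [Algebra (Localization.Away (algebraMap R[X] B X)) L'] (e : L' ≃+* LaurentSeries R)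
    (he : ∀ b : B, e (algebraMap (Localization.Away (algebraMap R[X] B X)) L' (algebraMap B (Localization.Away (algebraMap R[X] B X)) b)) =
      HahnSeries.ofPowerSeries ℤ R (ψ b)) :
    (∀ (M N : Type u) [AddCommGroup M] [Module (Localization.Away (algebraMap R[X] B X)) M] [Module.Finite (Localization.Away (algebraMap R[X] B X)) M] [Module.Projective (Localization.Away (algebraMap R[X] B X)) M]
        [AddCommGroup N] [Module (Localization.Away (algebraMap R[X] B X)) N] [Module.Finite (Localization.Away (algebraMap R[X] B X)) N] [Module.Projective (Localization.Away (algebraMap R[X] B X)) N],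
        Nonempty (L' ⊗[Localization.Away (algebraMap R[X] B X)] M ≃ₗ[L'] L' ⊗[Localization.Away (algebraMap R[X] B X)] N) → Nonempty (M ≃ₗ[Localization.Away (algebraMap R[X] B X)] N)) ∧
    (∀ (M' : Type u) [AddCommGroup M'] [Module L' M'] [Module.Finite L' M'] [Module.Projective L' M'],
        ∃ (M : Type u) (_ : AddCommGroup M) (_ : Module (Localization.Away (algebraMap R[X] B X)) M),
          Module.Finite (Localization.Away (algebraMap R[X] B X)) M ∧ Module.Projective (Localization.Away (algebraMap R[X] B X)) M ∧
          Nonempty (L' ⊗[Localization.Away (algebraMap R[X] B X)] M ≃ₗ[L'] M')) := by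
  let t : B := algebraMap R[X] B X
  let L := Localization.Away t
  haveI : HenselianRing B (Ideal.span {t}) := H9Elkik.henz_henselian hB
  letI : Algebra B (PowerSeries R) := ψ.toRingHom.toAlgebra
  letI : Algebra B L' := ((algebraMap L L').comp (algebraMap B L)).toAlgebra
  letI : Algebra (PowerSeries R) L' := (e.symm.toRingHom.comp (algebraMap (PowerSeries R) (LaurentSeries R))).toAlgebra
  haveI : IsScalarTower B L L' := IsScalarTower.of_algebraMap_eq fun _ => rfl
  haveI : IsScalarTower B (PowerSeries R) L' := IsScalarTower.of_algebraMap_eq fun b => by
    show algebraMap L L' (algebraMap B L b) = e.symm (HahnSeries.ofPowerSeries ℤ R (ψ b))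
    rw [← he b, RingEquiv.symm_apply_apply]
  haveI := H9Elkik.isLocalization_laurent ψ
  haveI : IsLocalization.Away (algebraMap B (PowerSeries R) t) L' :=
    IsLocalization.isLocalization_of_algEquiv (Submonoid.powers (algebraMap B (PowerSeries R) t))
      ({ e.symm with commutes' := fun _ => rfl } : LaurentSeries R ≃ₐ[PowerSeries R] L')
  have h : H9Elkik.Approx t (algebraMap B (PowerSeries R)) := ⟨H9Elkik.henz_inj hB ψ, H9Elkik.henz_surj ψ⟩
  refine ⟨fun M N _ _ _ _ _ _ _ _ ⟨α⟩ => H9Elkik.nonempty_linearEquiv_of_tensor h
    (HenselianRing.jac (I := Ideal.span {t}) (Ideal.mem_span_singleton_self t)) M N α, fun M' _ _ _ _ => ?_⟩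
  refine H9Elkik.exists_projective (At := L) h ?_ M'
  show ψ t ∈ _
  rw [H9Elkik.henz_map_X, Ideal.mem_jacobson_bot]
  intro y
  rw [PowerSeries.isUnit_iff_constantCoeff]
  simp

end Groth.Agent.S19779
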