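import Groth.Statements.S19781
import Groth.Agent.PairHom.Descend
import Groth.Agent.PairHom.RestrictU
import Groth.Agent.QCoh.Pullback

set_option autoImplicit false
universe u
open CategoryTheory AlgebraicGeometry
open Coherent

namespace Groth.Agent.S19781

open TopologicalSpace TensorProduct Groth.Agent

/-- Let A → A' be a homomorphism of Noetherian rings and J ⊂ A an ideal such that J and JA' lie in the
Jacobson radicals of A and A' (Zariski pairs) and A/J^n → A'/J^nA' is bijective for all n, and let U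
⊂ Spec A be an open containing Spec A ∖ V(J), with g : U_{A'} → U the base change of Spec A' → Spec
A. Then two finite locally free O_U-modules of rank n whose pullbacks along g are isomorphic are
isomorphic: H¹(U, GL_n) → H¹(U_{A'}, GL_n) is injective. -/
theorem result (A A' : Type u) [CommRing A] [CommRing A']
    [IsNoetherianRing A] [IsNoetherianRing A'] (φ : A →+* A') (J : Ideal A)
    (hJ : J ≤ (⊥ : Ideal A).jacobson) (hJ' : J.map φ ≤ (⊥ : Ideal A').jacobson)
    (hq : ∀ n : ℕ, Function.Bijective (Ideal.quotientMap (Ideal.map φ (J ^ n)) φ Ideal.le_comap_map))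
    (U : (Spec (CommRingCat.of A)).Opens)
    (hU : ∀ p : PrimeSpectrum A, ¬ J ≤ p.asIdeal → p ∈ U)
    (n : ℕ) (E₁ E₂ : (U : Scheme.{u}).Modules)
    (h₁ : FlatMod.IsFinLocFreeOfRank n E₁) (h₂ : FlatMod.IsFinLocFreeOfRank n E₂)
    (hiso : Nonempty ((Scheme.Modules.pullback ((Spec.map (CommRingCat.ofHom φ)) ∣_ U)).obj E₁ ≅ (Scheme.Modules.pullback ((Spec.map (CommRingCat.ofHom φ)) ∣_ U)).obj E₂)) :
    Nonempty (E₁ ≅ E₂) := by
  letI : Algebra A A' := φ.toAlgebra
  haveI := PairHom.flat_of_quotients J hJ' hq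
  set f := Spec.map (CommRingCat.ofHom φ) with hf
  haveI : IsNoetherianRing (CommRingCat.of A) := inferInstanceAs (IsNoetherianRing A)
  haveI : QuasiCompact U.ι := QCoh.quasiCompact_ι_of_compact U (NoetherianSpace.isCompact _)
  have ext : ∀ E : (U : Scheme.{u}).Modules, FlatMod.IsFinLocFreeOfRank n E →
      ∃ K : ModuleCat.{u} (CommRingCat.of A), Module.Finite A K ∧ Nonempty ((tilde K).restrict U.ι ≅ E) := by
    intro E hE
    have hEf : FlatMod.IsFinLocFree E := fun y => let ⟨W, hy, he⟩ := hE y; ⟨W, n, hy, he⟩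
    obtain ⟨G, hG, hGf, ⟨e⟩⟩ := QCoh.exists_extension_abs
      (QCoh.extStep_qcqs (U := U) (NoetherianSpace.isCompact _)) E (QCoh.isQCoh_of_isFinLocFree hEf)
      (QCoh.isFT_of_isFP (QCoh.isFP_of_isFinLocFree hEf))
    obtain ⟨K, ⟨eK⟩⟩ := QCoh.isQCoh_spec_iff.1 hG
    exact ⟨K, PairHom.finite_of_iso eK hG hGf,
      ⟨(Scheme.Modules.restrictFunctor U.ι).mapIso eK ≪≫ e⟩⟩
  obtain ⟨K₁, hK₁, ⟨e₁⟩⟩ := ext E₁ h₁
  obtain ⟨K₂, hK₂, ⟨e₂⟩⟩ := ext E₂ h₂
  let U' := f ⁻¹ᵁ U
  let ext' : ModuleCat.{u} (CommRingCat.of A) → ModuleCat.{u} (CommRingCat.of A') :=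
    fun K => (ModuleCat.extendScalars.{_, _, u} φ).obj K
  let chain : ∀ (K : ModuleCat.{u} (CommRingCat.of A)),
      (Scheme.Modules.pullback (f ∣_ U)).obj ((tilde K).restrict U.ι) ≅ (tilde (ext' K)).restrict U'.ι :=
    fun K => (Scheme.Modules.pullback (f ∣_ U)).mapIso ((Scheme.Modules.restrictFunctorIsoPullback U.ι).app (tilde K)) ≪≫
      (Scheme.Modules.pullbackComp (f ∣_ U) U.ι).app (tilde K) ≪≫
      (Scheme.Modules.pullbackCongr (morphismRestrict_ι f U)).app (tilde K) ≪≫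
      ((Scheme.Modules.pullbackComp U'.ι f).app (tilde K)).symm ≪≫
      ((Scheme.Modules.restrictFunctorIsoPullback U'.ι).app ((Scheme.Modules.pullback f).obj (tilde K))).symm ≪≫
      (Scheme.Modules.restrictFunctor U'.ι).mapIso ((QCoh.tildePullbackIso (CommRingCat.ofHom φ)).app K)
  obtain ⟨θ₀⟩ := hiso
  let θ := (chain K₁).symm ≪≫ (Scheme.Modules.pullback (f ∣_ U)).mapIso e₁ ≪≫ θ₀ ≪≫
    (Scheme.Modules.pullback (f ∣_ U)).mapIso e₂.symm ≪≫ chain K₂
  let I : Ideal A := PrimeSpectrum.vanishingIdeal ((U.1 : Set (PrimeSpectrum A))ᶜ)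
  have hmem : ∀ r ∈ I, (PrimeSpectrum.basicOpen r : (Spec (CommRingCat.of A)).Opens) ≤ U := by
    intro r hr p hp
    by_contra h
    exact hp ((PrimeSpectrum.mem_vanishingIdeal _ r).1 hr p h)
  have hI : ∀ r : A, (PrimeSpectrum.basicOpen r : (Spec (CommRingCat.of A)).Opens) ≤ U → r ∈ I := by
    intro r hr
    refine (PrimeSpectrum.mem_vanishingIdeal _ r).2 fun p hp => ?_
    by_contra h
    exact hp (hr h)
  have hIJ : J ≤ I.radical := fun r hr => Ideal.le_radical (hI r fun p hp => hU p fun h => hp (h hr))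
  have hI' : ∀ r ∈ I.map (algebraMap A A'),
      (PrimeSpectrum.basicOpen r : (Spec (CommRingCat.of A')).Opens) ≤ U' := by
    intro r hr q hq'
    by_contra h
    have h1 : I.map (algebraMap A A') ≤ q.asIdeal := Ideal.map_le_iff_le_comap.2 fun s hs => by
      by_contra h2
      exact h (hmem s hs (show s ∉ (PrimeSpectrum.comap φ q).asIdeal from h2))
    exact hq' (h1 hr)
  haveI : Module.Finite A K₁ := hK₁
  haveI : Module.Finite A K₂ := hK₂
  haveI : Module.Finite (CommRingCat.of A') (ext' K₁) := inferInstanceAs (Module.Finite A' (A' ⊗[A] K₁))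
  haveI : Module.Finite (CommRingCat.of A') (ext' K₂) := inferInstanceAs (Module.Finite A' (A' ⊗[A] K₂))
  haveI : IsNoetherianRing (CommRingCat.of A') := inferInstanceAs (IsNoetherianRing A')
  obtain ⟨L, a, b, hL, ha, hb⟩ := PairHom.exists_corr θ
  let L' : Type u := L
  letI : Module A' L' := inferInstanceAs (Module (CommRingCat.of A') L)
  haveI : Module.Finite A' L' := hL
  let a' : L' →ₗ[A'] A' ⊗[A] K₁ := a.hom
  let b' : L' →ₗ[A'] A' ⊗[A] K₂ := b.hom
  have ua : PairHom.UIso (I.map (algebraMap A A')) a' :=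
    haveI := ha
    PairHom.uiso_of_isIso_restrict a _ hI'
  have ub : PairHom.UIso (I.map (algebraMap A A')) b' :=
    haveI := hb
    PairHom.uiso_of_isIso_restrict b _ hI'
  obtain ⟨N, h, hh⟩ := PairHom.exists_descend J I hIJ hJ hJ' hq a' b' ua ub.coker
  let K : ModuleCat.{u} (CommRingCat.of A) := ModuleCat.of A (I ^ N • (⊤ : Submodule A K₁) : Submodule A K₁)
  let ι₁ : K ⟶ K₁ := ModuleCat.ofHom (I ^ N • (⊤ : Submodule A K₁)).subtype
  let h₀ : K ⟶ K₂ := ModuleCat.ofHom h
  haveI hi : IsIso ((Scheme.Modules.restrictFunctor U.ι).map (tilde.map ι₁)) :=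
    PairHom.isIso_restrict ι₁ fun r hr => ⟨fun x hx => (PairHom.UIso.subtype_pow N).ker x hx r (hI r hr),
      fun y => (PairHom.UIso.subtype_pow (M := K₁) N).coker y r (hI r hr)⟩
  let ψ : E₁ ⟶ E₂ := e₁.inv ≫ inv ((Scheme.Modules.restrictFunctor U.ι).map (tilde.map ι₁)) ≫
    (Scheme.Modules.restrictFunctor U.ι).map (tilde.map h₀) ≫ e₂.hom
  have : IsIso ψ := PairHom.isIso_of_app_surjective h₁ h₂ ψ (PairHom.Good U) (PairHom.good_basis U) fun W hW => by
    have s1 := (ZClosLib.app_bijective_of_isIso e₁.inv W).2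
    have s2 := (ZClosLib.app_bijective_of_isIso (inv ((Scheme.Modules.restrictFunctor U.ι).map (tilde.map ι₁))) W).2
    have s3 := PairHom.restrict_app_surjective h₀ (fun r hr y => hh y r (hI r hr)) W hW
    have s4 := (ZClosLib.app_bijective_of_isIso e₂.hom W).2
    exact ((s4.comp s3).comp s2).comp s1
  exact ⟨asIso ψ⟩

end Groth.Agent.S19781
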