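import Groth.Statements.S19788
-- import your own Groth.Agent.* helpers here
import Groth.Agent.TorusMu.Main

set_option autoImplicit false
universe u
open CategoryTheory MonoidalCategory CartesianMonoidalCategory MonObj AlgebraicGeometry Opposite
open GIT

namespace Groth.Agent.S19788

/-- Let k be an algebraically closed field, G a connected reductive algebraic group over k, i : T → G a
maximal torus of G, X a scheme proper over k on which G acts by σ, and L an ample G-linearised line
bundle on X in total-space form (a line bundle V(L) → X with a linear atlas and a fibrewise-linear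
lifting of σ; ample meaning that X is covered by affine opens X_f with f a section of a positive
power of L). Then there are finitely many maps ℓ_1, …, ℓ_n from the one-parameter subgroups of T to
ℚ, additive for the pointwise product of one-parameter subgroups (so: linear functionals on Hom(𝔾_m,
T) ⊗ ℝ that are rational on Hom(𝔾_m, T) ⊗ ℚ), with the following property: for every k-point x of X
there is a subset I of the indices (non-empty, since μ^L(x, ·) takes a value at every one-parameter
subgroup when X is proper) such that, for every one-parameter subgroup λ of T, μ^L(x, i∘λ) =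
max{ℓ_j(λ) : j ∈ I} — the numerical function of x at the one-parameter subgroup i∘λ of G (the limit
of λ(u)·x as u → 0 exists and 𝔾_m acts on the fibre of L over it with exponent m) takes the value m
exactly when m is the largest of the numbers ℓ_j(λ), j ∈ I. (The published statement is for any
reductive G; this row takes G connected.) -/
theorem result (k : Type u) [Field k] [IsAlgClosed k]
    (G X T : Over (Spec (CommRingCat.of k))) [GrpObj G] [GrpObj T] (hG : Red.IsReductive G)
    (i : T ⟶ G) [IsMonHom i] (hi : Red.IsMaximalTorus i) [IsProper X.hom]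
    (a : AlgGrp.Action G X) (B : GLinSh.LinBun G a) (hB : HMNum.AmpleCover B) :
    ∃ (n : ℕ) (ℓ : Fin n → (Red.Gm (Spec (CommRingCat.of k)) ⟶ T) → ℚ),
      (∀ (j : Fin n) (l₁ l₂ : Red.Gm (Spec (CommRingCat.of k)) ⟶ T) [IsMonHom l₁] [IsMonHom l₂],
          ℓ j (l₁ * l₂) = ℓ j l₁ + ℓ j l₂) ∧
      ∀ (x : 𝟙_ (Over (Spec (CommRingCat.of k))) ⟶ X), ∃ I : Finset (Fin n),
        ∀ (l : Red.Gm (Spec (CommRingCat.of k)) ⟶ T) [IsMonHom l] (m : ℤ),
          HMNum.IsMu B (l ≫ i) x m ↔ ∃ j ∈ I, (m : ℚ) = ℓ j l ∧ ∀ j' ∈ I, ℓ j' l ≤ ℓ j l := by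
  classical
  haveI := hi.2.1
  obtain ⟨r, e, j, he, hj, -, hej⟩ := TorusMu.exists_coords i hi.2.2.1
  haveI := he
  haveI := hj
  obtain ⟨F, hF⟩ := TorusMu.exists_forms (j := j) hB
  refine ⟨F.card, fun q l => TorusMu.ell (F.equivFin.symm q).1 (l ≫ e), fun q l₁ l₂ _ _ => ?_,
    fun x => ⟨Finset.univ.filter fun q => TorusMu.Nz (F.equivFin.symm q).1.f x, fun l _ m => ?_⟩⟩
  · show TorusMu.ell _ ((l₁ * l₂) ≫ e) = _
    rw [MonObj.mul_comp, TorusMu.ell_mul]
  · rw [TorusMu.isMu_congr B (show l ≫ i = (l ≫ e) ≫ j by rw [Category.assoc, hej]) x m,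
      TorusMu.mu_formula F hF x (l ≫ e) m]
    simp only [Finset.mem_filter, Finset.mem_univ, true_and]
    constructor
    · rintro ⟨σ, hσF, hσx, hm, hmax⟩
      refine ⟨F.equivFin ⟨σ, hσF⟩, ?_, ?_, fun q hq => ?_⟩
      · simpa using hσx
      · simpa using hm
      · simpa using hmax _ (F.equivFin.symm q).2 hq
    · rintro ⟨q, hq, hm, hmax⟩
      refine ⟨(F.equivFin.symm q).1, (F.equivFin.symm q).2, hq, hm, fun σ' hσ' hσ'x => ?_⟩
      simpa using hmax (F.equivFin ⟨σ', hσ'⟩) (by simpa using hσ'x)

end Groth.Agent.S19788
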