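import Groth.Statements.S5352
import Groth.Agent.Deform.AbelianCat
import Groth.Agent.GrpSchLib.NormalQuot


set_option autoImplicit false
set_option linter.style.haveILetI false
universe u
open CategoryTheory CategoryTheory.Limits MonoidalCategory CartesianMonoidalCategory MonObj GrpObj AlgebraicGeometry
open SGA3

namespace Groth.Agent.S5352
attribute [local instance] CategoryTheory.Hom.monoid CategoryTheory.Hom.group

theorem isCommMonObj_of_ff {k : Type u} [Field k] {G Q : Over (Spec (CommRingCat.of k))} [GrpObj G] [IsCommMonObj G]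
    [GrpObj Q] (q : G ⟶ Q) [IsMonHom q] [Flat q.left] [Surjective q.left] [QuasiCompact q.left] : IsCommMonObj Q := by
  haveI : Flat (q ▷ G).left := GrpSchLib.property_whiskerRight q G @Flat inferInstance
  haveI : Surjective (q ▷ G).left := GrpSchLib.property_whiskerRight q G @Surjective inferInstance
  haveI : QuasiCompact (q ▷ G).left := GrpSchLib.property_whiskerRight q G @QuasiCompact inferInstance
  haveI := Deform.AbelianCat.epi_of_ff (q ▷ G)
  haveI : Flat (q ▷ Q).left := GrpSchLib.property_whiskerRight q Q @Flat inferInstance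
  haveI : Surjective (q ▷ Q).left := GrpSchLib.property_whiskerRight q Q @Surjective inferInstance
  haveI : QuasiCompact (q ▷ Q).left := GrpSchLib.property_whiskerRight q Q @QuasiCompact inferInstance
  haveI := Deform.AbelianCat.epi_of_ff (q ▷ Q)
  haveI : Epi (q ⊗ₘ q) := by
    rw [show q ⊗ₘ q = (q ▷ G) ≫ (β_ Q G).hom ≫ (q ▷ Q) ≫ (β_ Q Q).hom by ext : 1 <;> simp]
    infer_instance
  exact ⟨by rw [← cancel_epi (q ⊗ₘ q), BraidedCategory.braiding_naturality_assoc, ← IsMonHom.mul_hom q,
    IsCommMonObj.mul_comm_assoc]⟩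


/-- Let k be a field. The category of commutative affine algebraic k-groups (commutative group objects
in k-schemes whose underlying scheme is affine and of finite type over k, as a full subcategory of
commutative group objects over Spec k) is an abelian category. -/
theorem result (k : Type u) [Field k] :
    Nonempty (Abelian (ObjectProperty.FullSubcategory
      (fun G : CommGrp (Over (Spec (CommRingCat.of k))) => LocallyOfFiniteType G.X.hom ∧ QuasiCompact G.X.hom ∧ IsAffine G.X.left))) := by
  refine Deform.AbelianCat.nonempty_abelian ⟨fun G h => h.1, fun G h => h.2.1, ⟨inferInstanceAs (LocallyOfFiniteType (𝟙 _)),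
    inferInstanceAs (QuasiCompact (𝟙 _)), inferInstanceAs (IsAffine (Spec _))⟩, ?_, ?_, ?_⟩
  · rintro G H ⟨_, _, _⟩ ⟨_, _, _⟩
    refine ⟨?_, ?_, ?_⟩
    · show LocallyOfFiniteType (Limits.pullback.fst G.X.hom H.X.hom ≫ G.X.hom)
      infer_instance
    · show QuasiCompact (Limits.pullback.fst G.X.hom H.X.hom ≫ G.X.hom)
      infer_instance
    · show IsAffine (Limits.pullback G.X.hom H.X.hom)
      infer_instance
  · rintro G H i _ _ ⟨_, _, _⟩
    refine ⟨?_, ?_, isAffine_of_isAffineHom i.left⟩
    · rw [← Over.w i]; infer_instance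
    · rw [← Over.w i]; infer_instance
  · rintro N G i _ _ ⟨_, _, _⟩
    haveI : AlgGrp.IsNormalHom i := fun T g n => ⟨n, by
      letI : CommGroup (T ⟶ G.X) := Hom.commGroup
      rw [mul_comm g, mul_inv_cancel_right]⟩
    obtain ⟨Q, gQ, q, hq, hQa, hQf, hqf, hqs, hk⟩ := GrpSchLib.NormalQuot.exists_quot G.X N.X i ‹_›
    haveI := hq; haveI := hQa; haveI := hQf; haveI := hqf; haveI := hqs
    haveI : QuasiCompact q.left := Deform.AbelianCat.quasiCompact_hom q
    haveI : IsCommMonObj Q := isCommMonObj_of_ff q
    exact ⟨{ X := Q }, q, ⟨hQf, inferInstance, hQa⟩, hq, hqf, hqs, hk⟩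

end Groth.Agent.S5352
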