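import Groth.Statements.S19790
import Groth.Agent.TorusMu.Bound

set_option autoImplicit false
universe u
open CategoryTheory MonoidalCategory CartesianMonoidalCategory MonObj AlgebraicGeometry Opposite
open GIT

namespace Groth.Agent.S19790

/-- Let k be an algebraically closed field, G a connected reductive algebraic group over k, i : T → G a
maximal torus, X a scheme proper over k on which G acts by σ, and L an ample G-linearised line
bundle on X in total-space form. Fix a norm on one-parameter subgroups as for the flag complex: a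
symmetric biadditive form b on the one-parameter subgroups of T (a group under pointwise product)
with rational values, positive on every non-trivial one-parameter subgroup, and a real function ‖·‖
on the one-parameter subgroups of G such that for every one-parameter subgroup λ of T and every
k-point γ of G the conjugate u ↦ γ·i(λ(u))·γ⁻¹ has ‖γ·(i∘λ)·γ⁻¹‖ ≥ 0 and ‖γ·(i∘λ)·γ⁻¹‖² = b(λ, λ)
(every one-parameter subgroup of G is conjugate under G(k) to one of T, so this determines ‖·‖ on
all of them; consistency forces b to be invariant under the Weyl group, and such forms exist). Then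
there is a constant K such that |μ^L(x, λ)| ≤ K·‖λ‖ for every k-point x of X and every one-parameter
subgroup λ of G: whenever the numerical function of x at λ (the limit of λ(u)·x as u → 0 exists and
𝔾_m acts on the fibre of L over it with exponent m) takes the value m, |m| ≤ K·‖λ‖. In other words
the normalised function ν^L(x, λ) = μ^L(x, λ)/‖λ‖ is bounded in absolute value, uniformly in x and
λ. (The published statement is for any reductive G; this row takes G connected.) -/
theorem result (k : Type u) [Field k] [IsAlgClosed k]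
    (G X T : Over (Spec (CommRingCat.of k))) [GrpObj G] [GrpObj T] (hG : Red.IsReductive G)
    (i : T ⟶ G) [IsMonHom i] (hi : Red.IsMaximalTorus i) [IsProper X.hom]
    (a : AlgGrp.Action G X) (B : GLinSh.LinBun G a) (hB : HMNum.AmpleCover B)
    (b : (Red.Gm (Spec (CommRingCat.of k)) ⟶ T) → (Red.Gm (Spec (CommRingCat.of k)) ⟶ T) → ℚ)
    (hb_add : ∀ (l₁ l₂ l₃ : Red.Gm (Spec (CommRingCat.of k)) ⟶ T) [IsMonHom l₁] [IsMonHom l₂] [IsMonHom l₃],
      b (l₁ * l₂) l₃ = b l₁ l₃ + b l₂ l₃)
    (hb_symm : ∀ (l₁ l₂ : Red.Gm (Spec (CommRingCat.of k)) ⟶ T) [IsMonHom l₁] [IsMonHom l₂], b l₁ l₂ = b l₂ l₁)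
    (hb_pos : ∀ (l : Red.Gm (Spec (CommRingCat.of k)) ⟶ T) [IsMonHom l], l ≠ 1 → 0 < b l l)
    (nrm : (Red.Gm (Spec (CommRingCat.of k)) ⟶ G) → ℝ)
    (hnrm : ∀ (l : Red.Gm (Spec (CommRingCat.of k)) ⟶ T) [IsMonHom l] (g : 𝟙_ (Over (Spec (CommRingCat.of k))) ⟶ G),
      0 ≤ nrm ((toUnit _ ≫ g) * (l ≫ i) * (toUnit _ ≫ g)⁻¹) ∧
        nrm ((toUnit _ ≫ g) * (l ≫ i) * (toUnit _ ≫ g)⁻¹) ^ 2 = ((b l l : ℚ) : ℝ)) :
    ∃ K : ℝ, ∀ (x : 𝟙_ (Over (Spec (CommRingCat.of k))) ⟶ X) (l : Red.Gm (Spec (CommRingCat.of k)) ⟶ G) [IsMonHom l] (m : ℤ),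
      HMNum.IsMu B l x m → |(m : ℝ)| ≤ K * nrm l := by
  classical
  haveI := hi.2.1
  haveI : IsCommMonObj T := Deform.Extension.isCommMonObj_of fun X a b => GrpSchLib.RankOne.torus_mul_comm hi.2.2.1 X a b
  obtain ⟨r, e, j, he, hj, -, hej⟩ := TorusMu.exists_coords i hi.2.2.1
  haveI := he
  haveI := hj
  haveI : Mono e := by
    haveI : Mono (e ≫ j) := by rw [hej]; infer_instance
    exact mono_of_mono e j
  obtain ⟨F, hF⟩ := TorusMu.exists_forms (j := j) hB
  have hone : IsMonHom (1 : Red.Gm (Spec (CommRingCat.of k)) ⟶ T) :=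
    WittEndoLib.isMonHom_of_mul (S := Spec (CommRingCat.of k)) (G := Red.Gm (Spec (CommRingCat.of k))) (H := T) 1
      fun Y u w => by rw [MonObj.comp_one, MonObj.comp_one, MonObj.comp_one, _root_.mul_one]
  have hmul : ∀ x y : Red.Gm (Spec (CommRingCat.of k)) ⟶ T, IsMonHom x → IsMonHom y → IsMonHom (x * y) :=
    fun x y hx hy => WittEndoLib.isMonHom_of_mul (S := Spec (CommRingCat.of k)) (G := Red.Gm (Spec (CommRingCat.of k))) (H := T) (x * y) fun Y u w => by
      rw [MonObj.comp_mul, MonObj.comp_mul, MonObj.comp_mul, MonObj.mul_comp, MonObj.mul_comp]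
      exact mul_mul_mul_comm _ _ _ _
  have hinv : ∀ x : Red.Gm (Spec (CommRingCat.of k)) ⟶ T, IsMonHom x → IsMonHom x⁻¹ :=
    fun x hx => WittEndoLib.isMonHom_of_mul (S := Spec (CommRingCat.of k)) (G := Red.Gm (Spec (CommRingCat.of k))) (H := T) x⁻¹ fun Y u w => by
      rw [GrpObj.comp_inv, GrpObj.comp_inv, GrpObj.comp_inv, MonObj.mul_comp, mul_inv]
  let H : Subgroup (Red.Gm (Spec (CommRingCat.of k)) ⟶ T) :=
    { carrier := {l | IsMonHom l}
      one_mem' := hone
      mul_mem' := fun {x y} (hx : IsMonHom x) (hy : IsMonHom y) => @hmul x y hx hy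
      inv_mem' := fun {x} (hx : IsMonHom x) => @hinv x hx }
  let ch : H → ((Fin r → ℤ) →+ ℤ) := fun l =>
    haveI : IsMonHom l.1 := l.2
    AddMonoidHom.mk' (fun m => TorusMu.pair (l.1 ≫ e) (Multiplicative.ofAdd m))
      (fun m m' => TorusMu.pair_mul_char (l.1 ≫ e) _ _)
  let v : Additive H →+ (Fin r → ℤ) := AddMonoidHom.mk' (fun l q => ch (Additive.toMul l) (Pi.single q 1))
    fun l l' => by
      haveI : IsMonHom (Additive.toMul l).1 := (Additive.toMul l).2
      haveI : IsMonHom (Additive.toMul l').1 := (Additive.toMul l').2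
      funext q
      show TorusMu.pair (((Additive.toMul l).1 * (Additive.toMul l').1) ≫ e) _ = _
      rw [MonObj.mul_comp, TorusMu.pair_mul]
      rfl
  have hv : Function.Injective v := fun l l' h => by
    haveI : IsMonHom (Additive.toMul l).1 := (Additive.toMul l).2
    haveI : IsMonHom (Additive.toMul l').1 := (Additive.toMul l').2
    refine Additive.toMul.injective (Subtype.ext ((cancel_mono e).1 (TorusMu.pair_injective fun m => ?_)))
    have h2 : ch (Additive.toMul l) = ch (Additive.toMul l') := AddMonoidHom.functions_ext' ℤ _ _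
      fun q => AddMonoidHom.ext_int (congrFun h q)
    exact DFunLike.congr_fun h2 (Multiplicative.toAdd m)
  let bb : Additive H →+ Additive H →+ ℚ := AddMonoidHom.mk' (fun l => AddMonoidHom.mk'
      (fun l' => b (Additive.toMul l).1 (Additive.toMul l').1) fun l' l'' => by
        haveI : IsMonHom (Additive.toMul l).1 := (Additive.toMul l).2
        haveI : IsMonHom (Additive.toMul l').1 := (Additive.toMul l').2
        haveI : IsMonHom (Additive.toMul l'').1 := (Additive.toMul l'').2
        show b _ ((Additive.toMul l').1 * (Additive.toMul l'').1) = _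
        haveI : IsMonHom ((Additive.toMul l').1 * (Additive.toMul l'').1) := (Additive.toMul (l' + l'')).2
        rw [hb_symm, hb_add, hb_symm (Additive.toMul l').1, hb_symm (Additive.toMul l'').1])
    fun l' l'' => AddMonoidHom.ext fun l => by
      haveI : IsMonHom (Additive.toMul l).1 := (Additive.toMul l).2
      haveI : IsMonHom (Additive.toMul l').1 := (Additive.toMul l').2
      haveI : IsMonHom (Additive.toMul l'').1 := (Additive.toMul l'').2
      show b ((Additive.toMul l').1 * (Additive.toMul l'').1) _ = _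
      rw [hb_add]
      rfl
  have hbs : ∀ x y, bb x y = bb y x := fun x y => by
    haveI : IsMonHom (Additive.toMul x).1 := (Additive.toMul x).2
    haveI : IsMonHom (Additive.toMul y).1 := (Additive.toMul y).2
    exact hb_symm _ _
  have hbp : ∀ x, x ≠ 0 → 0 < bb x x := fun x hx => by
    haveI : IsMonHom (Additive.toMul x).1 := (Additive.toMul x).2
    exact hb_pos _ fun h => hx (Additive.toMul.injective (Subtype.ext h))
  let cc : TorusMu.Sec B j → (Additive H →+ ℚ) := fun σ =>
    AddMonoidHom.mk' (fun l => TorusMu.ell σ ((Additive.toMul l).1 ≫ e)) fun l l' => by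
      haveI : IsMonHom (Additive.toMul l).1 := (Additive.toMul l).2
      haveI : IsMonHom (Additive.toMul l').1 := (Additive.toMul l').2
      show TorusMu.ell σ (((Additive.toMul l).1 * (Additive.toMul l').1) ≫ e) = _
      rw [MonObj.mul_comp, TorusMu.ell_mul]
  choose C hC0 hC using fun σ => TorusMu.exists_sq_le v hv bb hbs hbp (cc σ)
  refine ⟨∑ σ ∈ F, Real.sqrt (C σ : ℝ), fun x l _ m hm => ?_⟩
  obtain ⟨g, l₀, hl₀, hl⟩ := TorusMu.exists_conj_into hG i hi l
  haveI := hl₀
  obtain ⟨hn0, hn2⟩ := hnrm l₀ g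
  rw [← hl] at hn0 hn2
  let x' : 𝟙_ (Over (Spec (CommRingCat.of k))) ⟶ X := lift g⁻¹ x ≫ a.act
  have hx : lift g x' ≫ a.act = x := by
    rw [GrpSchLib.act_mul, mul_inv_cancel, GrpSchLib.act_one]
  have hm' : HMNum.IsMu B (l₀ ≫ i) x' m := by
    refine (HMTransLib.isMu_transl_iff B g hl).1 ?_
    rw [hx]
    exact hm
  rw [TorusMu.isMu_congr B (show l₀ ≫ i = (l₀ ≫ e) ≫ j by rw [Category.assoc, hej]) x' m,
    TorusMu.mu_formula F hF x' (l₀ ≫ e) m] at hm'
  obtain ⟨σ, hσF, -, hmσ, -⟩ := hm'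
  let y : Additive H := Additive.ofMul ⟨l₀, hl₀⟩
  have h1 : (cc σ y : ℝ) ^ 2 ≤ (C σ : ℝ) * (bb y y : ℝ) := by exact_mod_cast hC σ y
  have h2 : (bb y y : ℝ) = nrm l ^ 2 := by rw [hn2]; rfl
  have h3 : ((m : ℤ) : ℝ) = (cc σ y : ℝ) := by
    show ((m : ℤ) : ℝ) = ((TorusMu.ell σ (l₀ ≫ e) : ℚ) : ℝ)
    rw [← hmσ]
    simp
  calc |(m : ℝ)| = Real.sqrt ((cc σ y : ℝ) ^ 2) := by rw [h3, Real.sqrt_sq_eq_abs]
    _ ≤ Real.sqrt ((C σ : ℝ) * nrm l ^ 2) := Real.sqrt_le_sqrt (h2 ▸ h1)
    _ = Real.sqrt (C σ : ℝ) * nrm l := by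
        rw [Real.sqrt_mul (by exact_mod_cast hC0 σ), Real.sqrt_sq hn0]
    _ ≤ (∑ σ ∈ F, Real.sqrt (C σ : ℝ)) * nrm l :=
        mul_le_mul_of_nonneg_right (Finset.single_le_sum (f := fun σ => Real.sqrt (C σ : ℝ)) (fun σ _ => Real.sqrt_nonneg _) hσF) hn0

end Groth.Agent.S19790
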