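import Groth.Statements.S19794
import Groth.Agent.Deform.NormalExtend


set_option autoImplicit false
open CategoryTheory MonoidalCategory CartesianMonoidalCategory MonObj GrpObj AlgebraicGeometry
universe u
open SGA3x

namespace Groth.Agent.S19794
set_option linter.style.haveILetI false
open Groth.Agent.Deform

/-- Let S be a connected, normal, locally Noetherian scheme, T an S-torus and T₀ ⟶ T its unique maximal
split subtorus, i.e. a split subtorus through which every split subtorus of T factors. Then the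
formation of T₀ commutes with Zariski localisation: for every open U ⊆ S, the restriction T₀|_U ⟶
T|_U is the greatest split subtorus of T|_U, that is, every split subtorus T' ⟶ T|_U with T' ≅
D_U(ℤ^{r'}) factors through T₀|_U. -/
theorem result {S : Scheme.{u}} [ConnectedSpace ↥S]
    [IsLocallyNoetherian S] (hnorm : ∀ x : ↥S, IsDomain (S.presheaf.stalk x) ∧ IsIntegrallyClosed (S.presheaf.stalk x))
    {T T₀ : Over S} [GrpObj T] [GrpObj T₀] (hT : Red.IsTorus T) (j₀ : T₀ ⟶ T) [IsMonHom j₀] [Mono j₀] (r₀ : ℕ)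
    (hT₀ : Red.IsSplitTorusWith (Fin r₀ → ℤ) T₀)
    (hmax : ∀ (T' : Over S) [GrpObj T'] (j' : T' ⟶ T) [IsMonHom j'] [Mono j'] (r' : ℕ),
      Red.IsSplitTorusWith (Fin r' → ℤ) T' → ∃ g : T' ⟶ T₀, g ≫ j₀ = j')
    (U : S.Opens) (T' : Over (U : Scheme.{u})) [GrpObj T'] (j' : T' ⟶ Red.bc U.ι T) [IsMonHom j'] [Mono j']
    (r' : ℕ) (hT' : Red.IsSplitTorusWith (Fin r' → ℤ) T') :
    ∃ g : T' ⟶ Red.bc U.ι T₀, g ≫ (Over.pullback U.ι).map j₀ = j' := by
  classical
  obtain ⟨e⟩ := hT'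
  by_cases hU : (U : Set S).Nonempty
  · haveI := LocSplitGlobal.irreducibleSpace_of_domain (S := S) fun x => (hnorm x).1
    haveI : IsMonHom e.inv.hom.hom := e.inv.hom.isMonHom_hom
    haveI : IsIso e.inv.hom.hom := ((Grp.forget _).mapIso e.symm).isIso_hom
    let M := Fin r' → ℤ
    let v : Red.bc U.ι (Red.DS S M) ⟶ Red.bc U.ι T := (DiagMaps.bcDS U.ι M).hom ≫ e.inv.hom.hom ≫ j'
    haveI : IsMonHom v := inferInstanceAs (IsMonHom ((DiagMaps.bcDS U.ι M).hom ≫ e.inv.hom.hom ≫ j'))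
    haveI : Mono v := inferInstanceAs (Mono ((DiagMaps.bcDS U.ι M).hom ≫ e.inv.hom.hom ≫ j'))
    obtain ⟨f, hfh, hf⟩ := NormalExtend.exists_hom_extends hnorm (Deform.isMultTypeFT_of_isTorus hT) hU v
    haveI := hfh
    have hDS : Red.IsTorus (Red.DS S M) := Deform.isTorus_of_split r' ⟨Iso.refl _⟩
    obtain ⟨V, hVc, hV, hVt⟩ := GrpSchLib.HomSplitLocus.mono_locus (u := f)
      (Deform.isMultType_of_ft (Deform.isMultTypeFT_of_isTorus hDS)) (Deform.isMultTypeFT_of_isTorus hT)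
    obtain ⟨x₀, hx₀⟩ := hU
    have hξ : genericPoint ↥S ∈ U := LocSplitGlobal.genericPoint_mem U hx₀
    haveI : Mono ((Over.pullback U.ι).map f).left := by
      rw [hf]
      exact Over.mono_left_of_mono _
    have hinj : GrpSchLib.HomMonoLocus.Inj f (S.fromSpecResidueField (genericPoint ↥S)) := by
      let l : Spec (S.residueField (genericPoint ↥S)) ⟶ U :=
        IsOpenImmersion.lift U.ι (S.fromSpecResidueField (genericPoint ↥S)) (by
          rw [Scheme.range_fromSpecResidueField, Scheme.Opens.range_ι, Set.singleton_subset_iff]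
          exact hξ)
      rw [← IsOpenImmersion.lift_fac U.ι (S.fromSpecResidueField (genericPoint ↥S)) _]
      exact (GrpSchLib.HomMonoLocus.inj_of_mono ‹_›).comp l
    obtain ⟨l, hl⟩ := SplitQuot.exists_lift_univ (U := V) (Set.eq_univ_of_forall fun x => by
      by_contra hx
      exact LocSplitGlobal.genericPoint_mem (⟨(V : Set S)ᶜ, hVc.isOpen_compl⟩ : S.Opens) hx ((hV _).mpr hinj))
    haveI : Mono f := SplitQuot.mono_of_inj f (by rw [← hl]; exact hVt.comp l)
    obtain ⟨g₀, hg₀⟩ := hmax (Red.DS S M) f r' ⟨Iso.refl _⟩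
    refine ⟨e.hom.hom.hom ≫ (DiagMaps.bcDS U.ι M).inv ≫ (Over.pullback U.ι).map g₀, ?_⟩
    rw [Category.assoc, Category.assoc, ← Functor.map_comp, hg₀, hf]
    show e.hom.hom.hom ≫ (DiagMaps.bcDS U.ι M).inv ≫ (DiagMaps.bcDS U.ι M).hom ≫ e.inv.hom.hom ≫ j' = j'
    rw [Iso.inv_hom_id_assoc, ← Category.assoc,
      show e.hom.hom.hom ≫ e.inv.hom.hom = 𝟙 _ from congrArg (fun m => m.hom.hom) e.hom_inv_id, Category.id_comp]
  · haveI : IsEmpty ↥(U : Scheme.{u}) := ⟨fun x => hU ⟨x.1, x.2⟩⟩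
    haveI : IsEmpty ↥T'.left := Function.isEmpty T'.hom
    exact ⟨Over.homMk (isInitialOfIsEmpty.to _) (isInitialOfIsEmpty.hom_ext _ _),
      Over.OverMorphism.ext (isInitialOfIsEmpty.hom_ext _ _)⟩

end Groth.Agent.S19794
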