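import Groth.Statements.S19799
import Mathlib
-- import your own Groth.Agent.* helpers here

set_option autoImplicit false
universe u v w
open scoped TensorProduct
open CAlg

namespace Groth.Agent.S19799

set_option linter.style.haveILetI false

/-- A reduced finite algebra over an algebraically closed field stays reduced after tensoring with a reduced one. -/
theorem isReduced_tensor (k : Type u) [Field k] [IsAlgClosed k] (A : Type v) [CommRing A] [Algebra k A]
    [Module.Finite k A] [IsReduced A] (B : Type w) [CommRing B] [Algebra k B] [IsReduced B] :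
    IsReduced (A ⊗[k] B) := by
  classical
  haveI : IsArtinianRing A := IsArtinianRing.of_finite k A
  haveI : Fintype (MaximalSpectrum A) := Fintype.ofFinite _
  let e : ∀ m : MaximalSpectrum A, (A ⧸ m.asIdeal) ≃ₐ[k] k := fun m =>
    haveI := m.isMaximal
    letI := Ideal.Quotient.field m.asIdeal
    haveI : Algebra.IsIntegral k (A ⧸ m.asIdeal) := Algebra.IsIntegral.of_finite k _
    (AlgEquiv.ofBijective (Algebra.ofId k (A ⧸ m.asIdeal)) (IsAlgClosed.algebraMap_bijective_of_isIntegral)).symm
  let ev : A →ₐ[k] (MaximalSpectrum A → k) :=
    AlgHom.pi fun m => (e m).toAlgHom.comp (Ideal.Quotient.mkₐ k m.asIdeal)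
  have hev : Function.Injective ev := by
    rw [injective_iff_map_eq_zero]
    intro a ha
    have h0 : a ∈ nilradical A := by
      rw [nilradical_eq_sInf, Submodule.mem_sInf]
      intro P hP
      haveI : Ideal.IsPrime P := hP
      have hm := congrFun ha ⟨P, IsArtinianRing.isMaximal_of_isPrime P⟩
      exact Ideal.Quotient.eq_zero_iff_mem.1 ((e _).injective (hm.trans (map_zero _).symm))
    simpa [nilradical_eq_zero] using h0
  haveI : IsReduced (B ⊗[k] (MaximalSpectrum A → k)) :=
    isReduced_of_injective (Algebra.TensorProduct.piScalarRight k k B (MaximalSpectrum A))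
      (AlgEquiv.injective _)
  refine isReduced_of_injective
    ((Algebra.TensorProduct.map (AlgHom.id k B) ev).comp (Algebra.TensorProduct.comm k A B).toAlgHom) ?_
  exact (Module.Flat.lTensor_preserves_injective_linearMap ev.toLinearMap hev).comp (AlgEquiv.injective _)

/-- Let k be an algebraically closed field and A, B commutative k-algebras, each finite-dimensional as a
k-vector space. Then reduction commutes with tensor products: the kernel of the canonical surjection
A ⊗_k B ⟶ (A/nilradical A) ⊗_k (B/nilradical B) equals the nilradical of A ⊗_k B, so that this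
surjection induces an isomorphism (A ⊗_k B)_red ≅ A_red ⊗_k B_red and in particular A_red ⊗_k B_red
is reduced. -/
theorem result (k : Type u) [Field k]
    [IsAlgClosed k] (A : Type v) [CommRing A] [Algebra k A] [Module.Finite k A]
    (B : Type w) [CommRing B] [Algebra k B] [Module.Finite k B] :
    RingHom.ker (Algebra.TensorProduct.map (Ideal.Quotient.mkₐ k (nilradical A))
      (Ideal.Quotient.mkₐ k (nilradical B))).toRingHom = nilradical (A ⊗[k] B) := by
  haveI : IsReduced (A ⧸ nilradical A) := Ideal.isRadical_iff_quotient_reduced _ |>.1 (Ideal.radical_isRadical _)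
  haveI : IsReduced (B ⧸ nilradical B) := Ideal.isRadical_iff_quotient_reduced _ |>.1 (Ideal.radical_isRadical _)
  haveI := isReduced_tensor k (A ⧸ nilradical A) (B ⧸ nilradical B)
  refine le_antisymm ?_ fun x hx => ?_
  · have := Algebra.TensorProduct.map_ker (Ideal.Quotient.mkₐ k (nilradical A)) (Ideal.Quotient.mkₐ k (nilradical B))
      (Ideal.Quotient.mkₐ_surjective k _) (Ideal.Quotient.mkₐ_surjective k _)
    rw [show RingHom.ker (Algebra.TensorProduct.map (Ideal.Quotient.mkₐ k (nilradical A))
      (Ideal.Quotient.mkₐ k (nilradical B))).toRingHom = _ from this]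
    refine sup_le ?_ ?_ <;> rw [Ideal.map_le_iff_le_comap] <;> intro a ha <;>
      · rw [show RingHom.ker (Ideal.Quotient.mkₐ k _) = _ from Ideal.mk_ker] at ha
        rw [Ideal.mem_comap]
        exact mem_nilradical.2 ((mem_nilradical.1 ha).map _)
  · exact RingHom.mem_ker.2 ((mem_nilradical.1 hx).map _).eq_zero

end Groth.Agent.S19799
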