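import Groth.Statements.S19801
import Groth.Agent.Big.Volume

set_option autoImplicit false
universe u
open CategoryTheory CategoryTheory.Limits AlgebraicGeometry Asymptotics
open Variety

attribute [-instance] CategoryTheory.catToReflQuiver

namespace Groth.Agent.S19801

open Groth.Agent Groth.Agent.H23.PicMul

/-- Let X be a projective variety of dimension d over a field k, i.e. a geometrically integral scheme
proper over k admitting an ample invertible module, with dim X = d; let L be an invertible
O_X-module and F a coherent O_X-module. Then dim_k H^0(X, F ⊗ L^m) = O(m^d) as m → ∞. -/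
theorem result (k : Type u) [Field k] (X : Scheme.{u})
    [X.Over (Spec (CommRingCat.of k))] [IsIntegral X] [GeometricallyIntegral (X ↘ Spec (CommRingCat.of k))]
    [IsProper (X ↘ Spec (CommRingCat.of k))] (hproj : ∃ A : X.Modules, CohB1.IsAmple A)
    (d : ℕ) (hd : topologicalKrullDim X = d) (L : X.Modules) (hL : PicF.IsInvertible L)
    (F : X.Modules) (hF : Coh.IsCoh F) :
    (fun m : ℕ => (Module.finrank k (Coh.HH X (CohB1.tensorMod F (CohB1.tensorPow L m)) 0) : ℝ)) =O[Filter.atTop]
      (fun m : ℕ => (m : ℝ) ^ d) := by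
  obtain ⟨A, hA⟩ := hproj
  obtain ⟨C, hC⟩ := Big.bound_coh k hA hL hF (T := (⊤ : TopologicalSpace.Closeds X)) (fun x _ => trivial) (d := d)
    ((Topology.IsInducing.subtypeVal.topologicalKrullDim_le).trans hd.le)
  refine Asymptotics.IsBigO.of_bound ((C * 2 ^ d : ℕ) : ℝ) (Filter.eventually_atTop.2 ⟨1, fun m hm => ?_⟩)
  rw [Real.norm_natCast, norm_pow, Real.norm_natCast]
  have h1 : Big.h0 k (CohB1.tensorMod F (CohB1.tensorPow L m)) ≤ C * 2 ^ d * m ^ d := by
    refine (hC m).trans ?_
    rw [mul_assoc, ← mul_pow]
    exact Nat.mul_le_mul_left C (Nat.pow_le_pow_left (by omega) d)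
  exact_mod_cast h1

end Groth.Agent.S19801
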