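import Groth.Statements.S19805
import Groth.Agent.Big.Volume

set_option autoImplicit false
universe u
open CategoryTheory CategoryTheory.Limits AlgebraicGeometry
open scoped ENNReal
open Variety

attribute [-instance] CategoryTheory.catToReflQuiver

namespace Groth.Agent.S19805

open Groth.Agent Groth.Agent.H23.PicMul

/-- Let X be a projective variety of dimension d over a field k (a geometrically integral scheme, proper
over k, admitting an ample invertible module, with dim X = d) and L an invertible O_X-module; write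
vol(L) for the upper limit of dim_k H^0(X, L^m) / m^d as m → ∞, taken in the extended non-negative
reals (the volume of L up to the factor d!). Then for every integer a ≥ 1 the volume is homogeneous
of degree d: vol(L^a) = a^d · vol(L). -/
theorem result (k : Type u) [Field k] (X : Scheme.{u})
    [X.Over (Spec (CommRingCat.of k))] [IsIntegral X] [GeometricallyIntegral (X ↘ Spec (CommRingCat.of k))]
    [IsProper (X ↘ Spec (CommRingCat.of k))]
    (hproj : ∃ A : X.Modules, CohB1.IsAmple A) (d : ℕ) (hd : topologicalKrullDim X = d)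
    (L : X.Modules) (hL : PicF.IsInvertible L) (a : ℕ) (ha : 0 < a) :
    Filter.limsup (fun m : ℕ => (Module.finrank k (Coh.HH X (CohB1.tensorPow (CohB1.tensorPow L a) m) 0) : ℝ≥0∞) /
        (m : ℝ≥0∞) ^ d) Filter.atTop =
      (a : ℝ≥0∞) ^ d * Filter.limsup (fun m : ℕ => (Module.finrank k (Coh.HH X (CohB1.tensorPow L m) 0) : ℝ≥0∞) /
        (m : ℝ≥0∞) ^ d) Filter.atTop := by
  obtain ⟨A, hA⟩ := hproj
  let f : ℕ → ℝ≥0∞ := fun m => (Big.h0 k (CohB1.tensorPow L m) : ℝ≥0∞) / (m : ℝ≥0∞) ^ d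
  let g : ℕ → ℝ≥0∞ := fun m => (Big.h0 k (CohB1.tensorPow (CohB1.tensorPow L a) m) : ℝ≥0∞) / (m : ℝ≥0∞) ^ d
  show Filter.limsup g Filter.atTop = (a : ℝ≥0∞) ^ d * Filter.limsup f Filter.atTop
  have ha0 : (a : ℝ≥0∞) ≠ 0 := by exact_mod_cast ha.ne'
  have had0 : (a : ℝ≥0∞) ^ d ≠ 0 := pow_ne_zero _ ha0
  have hadt : (a : ℝ≥0∞) ^ d ≠ ⊤ := ENNReal.pow_ne_top (ENNReal.natCast_ne_top a)
  have hgf : ∀ m, g m = (a : ℝ≥0∞) ^ d * f (a * m) := fun m => by
    show (_ : ℝ≥0∞) / _ = _ * (_ / _)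
    rw [Big.h0_congr_cl k (show PicF.cl (CohB1.tensorPow (CohB1.tensorPow L a) m) = PicF.cl (CohB1.tensorPow L (a * m)) by
      rw [cl_tensorPow, cl_tensorPow, cl_tensorPow, ← pow_mul]), Nat.cast_mul, mul_pow, ← mul_div_assoc,
      ENNReal.mul_div_mul_left _ _ had0 hadt]
  have htend : Filter.Tendsto (fun m : ℕ => a * m) Filter.atTop Filter.atTop :=
    Filter.tendsto_atTop_mono (fun m => Nat.le_mul_of_pos_left m ha) Filter.tendsto_id
  have hle : Filter.limsup g Filter.atTop ≤ (a : ℝ≥0∞) ^ d * Filter.limsup f Filter.atTop := by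
    rw [show g = fun m => (a : ℝ≥0∞) ^ d * f (a * m) from funext hgf, ENNReal.limsup_const_mul_of_ne_top hadt]
    refine mul_le_mul' le_rfl ?_
    show Filter.limsup (f ∘ fun m => a * m) Filter.atTop ≤ _
    rw [Filter.limsup_comp]
    exact Filter.limsup_le_limsup_of_le htend
  refine le_antisymm hle ?_
  by_cases hf0 : 0 < Filter.limsup f Filter.atTop
  swap
  · rw [not_lt, nonpos_iff_eq_zero] at hf0
    rw [hf0, mul_zero]
    exact zero_le
  obtain ⟨ν, B, φ, hν, hB, hφ⟩ := Big.exists_ample_mono_of_limsup k hd hA hL hf0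
  haveI := hφ
  obtain ⟨c, hc, n₀, hn⟩ := Big.exists_lower_all k hd hB hL hν φ
  have hmono : ∀ m s, max n₀ 1 ≤ s → Big.h0 k (CohB1.tensorPow L m) ≤ Big.h0 k (CohB1.tensorPow L (m + s)) := fun m s hs => by
    have hs1 : 1 ≤ s := (le_max_right n₀ 1).trans hs
    have hpos : 0 < Big.h0 k (CohB1.tensorPow L s) := by
      have h1 : (0 : ℚ) < c * (s : ℚ) ^ d := mul_pos hc (pow_pos (by exact_mod_cast hs1) d)
      exact_mod_cast lt_of_lt_of_le h1 (hn s ((le_max_left n₀ 1).trans hs))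
    obtain ⟨t, ht⟩ := Big.exists_hom_of_h0_pos k hpos
    refine le_trans (le_of_eq (Big.h0_congr_cl k ?_))
      ((Big.h0_le_twist k (InvX.isInvertible_tensorPow hL s) (InvX.isInvertible_tensorPow hL m) t ht).trans
        (le_of_eq (Big.h0_congr_cl k ?_)))
    · rw [cl_tensor, Big.one_mul_cl]
    · rw [cl_tensor, cl_tensorPow, cl_tensorPow, cl_tensorPow, ← pow_add, add_comm]
  let b := max n₀ 1
  let τ : ℕ → ℕ := fun m => (m + b) / a + 1
  have hτ : ∀ m, m + b ≤ a * τ m ∧ a * τ m ≤ m + (b + a) := fun m => by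
    have h1 := Nat.mod_add_div (m + b) a
    have h2 := Nat.mod_lt (m + b) ha
    show m + b ≤ a * ((m + b) / a + 1) ∧ a * ((m + b) / a + 1) ≤ m + (b + a)
    rw [mul_add, mul_one]
    omega
  have hτt : Filter.Tendsto τ Filter.atTop Filter.atTop := by
    refine Filter.tendsto_atTop.2 fun N => Filter.eventually_atTop.2 ⟨a * N, fun m hm => ?_⟩
    have h1 : N ≤ (m + b) / a := (Nat.le_div_iff_mul_le ha).2 (by rw [mul_comm]; omega)
    exact h1.trans (Nat.le_succ _)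
  let v : ℕ → ℝ≥0∞ := fun m => (((m + (b + a) : ℕ) : ℝ≥0∞) / (m : ℝ≥0∞)) ^ d
  have hv : Filter.Tendsto v Filter.atTop (nhds 1) := by
    have h1 : Filter.Tendsto (fun m : ℕ => 1 + ((b + a : ℕ) : ℝ≥0∞) * (m : ℝ≥0∞)⁻¹) Filter.atTop (nhds 1) := by
      have := Filter.Tendsto.const_add (1 : ℝ≥0∞)
        (ENNReal.Tendsto.const_mul ENNReal.tendsto_inv_nat_nhds_zero (Or.inr (ENNReal.natCast_ne_top (b + a))))
      rwa [mul_zero, add_zero] at this
    have h2 : Filter.Tendsto (fun m : ℕ => (1 + ((b + a : ℕ) : ℝ≥0∞) * (m : ℝ≥0∞)⁻¹) ^ d) Filter.atTop (nhds 1) := by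
      have := ((ENNReal.continuous_pow d).tendsto _).comp h1
      rwa [one_pow] at this
    refine h2.congr' (Filter.eventually_atTop.2 ⟨1, fun m hm => ?_⟩)
    have hm0 : (m : ℝ≥0∞) ≠ 0 := by exact_mod_cast (show m ≠ 0 by omega)
    show _ = (((m + (b + a) : ℕ) : ℝ≥0∞) / (m : ℝ≥0∞)) ^ d
    rw [Nat.cast_add m (b + a), ENNReal.add_div, ENNReal.div_self hm0 (ENNReal.natCast_ne_top m), div_eq_mul_inv]
  have key : ∀ᶠ m in Filter.atTop, (a : ℝ≥0∞) ^ d * f m ≤ (g ∘ τ) m * v m := by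
    refine Filter.eventually_atTop.2 ⟨1, fun m hm => ?_⟩
    have hm0 : (m : ℝ≥0∞) ^ d ≠ 0 := pow_ne_zero _ (by exact_mod_cast (show m ≠ 0 by omega))
    have hmt : (m : ℝ≥0∞) ^ d ≠ ⊤ := ENNReal.pow_ne_top (ENNReal.natCast_ne_top m)
    have hτ0 : (τ m : ℝ≥0∞) ^ d ≠ 0 := pow_ne_zero _ (Nat.cast_ne_zero.2 (Nat.succ_ne_zero _))
    have hτtop : (τ m : ℝ≥0∞) ^ d ≠ ⊤ := ENNReal.pow_ne_top (ENNReal.natCast_ne_top _)
    obtain ⟨s, hs⟩ := Nat.exists_eq_add_of_le (show m ≤ a * τ m from le_trans (Nat.le_add_right _ _) (hτ m).1)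
    have hh : Big.h0 k (CohB1.tensorPow L m) ≤ Big.h0 k (CohB1.tensorPow (CohB1.tensorPow L a) (τ m)) := by
      refine le_of_le_of_eq (hmono m s (by have := (hτ m).1; show b ≤ s; omega)) (Big.h0_congr_cl k ?_)
      rw [cl_tensorPow, cl_tensorPow, cl_tensorPow, ← pow_mul, hs]
    calc (a : ℝ≥0∞) ^ d * f m
        ≤ (a : ℝ≥0∞) ^ d * ((Big.h0 k (CohB1.tensorPow (CohB1.tensorPow L a) (τ m)) : ℝ≥0∞) / (m : ℝ≥0∞) ^ d) :=
          mul_le_mul' le_rfl (ENNReal.div_le_div_right (Nat.cast_le.2 hh) _)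
      _ = g (τ m) * (((a * τ m : ℕ) : ℝ≥0∞) ^ d / (m : ℝ≥0∞) ^ d) := by
          show _ = (Big.h0 k (CohB1.tensorPow (CohB1.tensorPow L a) (τ m)) : ℝ≥0∞) / (τ m : ℝ≥0∞) ^ d * _
          rw [Nat.cast_mul, mul_pow]
          simp only [div_eq_mul_inv]
          rw [show (Big.h0 k (CohB1.tensorPow (CohB1.tensorPow L a) (τ m)) : ℝ≥0∞) * ((τ m : ℝ≥0∞) ^ d)⁻¹ *
            ((a : ℝ≥0∞) ^ d * (τ m : ℝ≥0∞) ^ d * ((m : ℝ≥0∞) ^ d)⁻¹) =
            ((τ m : ℝ≥0∞) ^ d * ((τ m : ℝ≥0∞) ^ d)⁻¹) * ((a : ℝ≥0∞) ^ d *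
              ((Big.h0 k (CohB1.tensorPow (CohB1.tensorPow L a) (τ m)) : ℝ≥0∞) * ((m : ℝ≥0∞) ^ d)⁻¹)) by ring,
            ENNReal.mul_inv_cancel hτ0 hτtop, one_mul]
      _ ≤ (g ∘ τ) m * v m := by
          refine mul_le_mul' le_rfl ?_
          show _ ≤ (((m + (b + a) : ℕ) : ℝ≥0∞) / (m : ℝ≥0∞)) ^ d
          simp only [div_eq_mul_inv, mul_pow, ENNReal.inv_pow]
          exact mul_le_mul' (pow_le_pow_left' (Nat.cast_le.2 (hτ m).2) d) le_rfl
  calc (a : ℝ≥0∞) ^ d * Filter.limsup f Filter.atTop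
      = Filter.limsup (fun m => (a : ℝ≥0∞) ^ d * f m) Filter.atTop := (ENNReal.limsup_const_mul_of_ne_top hadt).symm
    _ ≤ Filter.limsup ((g ∘ τ) * v) Filter.atTop := Filter.limsup_le_limsup key
    _ ≤ Filter.limsup (g ∘ τ) Filter.atTop * Filter.limsup v Filter.atTop := by
        refine ENNReal.limsup_mul_le' ?_ ?_
        · exact Or.inr (by rw [hv.limsup_eq]; exact ENNReal.one_ne_top)
        · exact Or.inr (by rw [hv.limsup_eq]; exact one_ne_zero)
    _ ≤ Filter.limsup g Filter.atTop := by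
        rw [hv.limsup_eq, mul_one, Filter.limsup_comp]
        exact Filter.limsup_le_limsup_of_le hτt

end Groth.Agent.S19805
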