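import Groth.Statements.S19809
import Groth.Agent.BinQuintic.Basic

set_option autoImplicit false
universe u
open RatCurv

namespace Groth.Agent.S19809

/-- A smooth rational quintic curve C ⊂ P^3 has a one-parameter family of 3-secant lines. Stated, as for
the nondegenerate case, through binary forms: C is the image of P^1 under a 4-dimensional linear
series V of binary quintic forms which separates every length-2 subscheme of P^1 (for every nonzero
quadratic form e, the forms of V together with the multiples of e span all quintic forms), so that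
P^1 → P(V^*) = P^3 is a closed embedding; the linear forms on P^3 are the elements of V, a line L ⊂
P^3 is the 2-dimensional space of linear forms vanishing on it, and L ∩ C has length at least 3
exactly when that space is contained in g · K[s,t]_2 for a cubic form g. The conclusion: there are
infinitely many pairwise non-proportional nonzero cubic forms g with dim (V ∩ g · K[s,t]_2) ≥ 2,
i.e. for every finite set of cubics there is such a g proportional to none of them. (The ground
field is algebraically closed of characteristic zero in place of the complex numbers; the third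
printed assertion, on curves all of whose 3-secants are 4-secant, is not stated.) -/
theorem result (K : Type u) [Field K] [IsAlgClosed K]
    [CharZero K] (V : Submodule K (MvPolynomial (Fin 2) K))
    (hV : V ≤ MvPolynomial.homogeneousSubmodule (Fin 2) K 5) (hdim : Module.finrank K ↥V = 4)
    (hsep : ∀ e ∈ MvPolynomial.homogeneousSubmodule (Fin 2) K 2, e ≠ 0 →
      ∀ F ∈ MvPolynomial.homogeneousSubmodule (Fin 2) K 5, ∃ v ∈ V,
        ∃ h ∈ MvPolynomial.homogeneousSubmodule (Fin 2) K 3, F = v + e * h)
    (F : Finset (MvPolynomial (Fin 2) K)) :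
    ∃ g ∈ MvPolynomial.homogeneousSubmodule (Fin 2) K 3, g ≠ 0 ∧
      2 ≤ Module.finrank K ↥(V ⊓ (MvPolynomial.homogeneousSubmodule (Fin 2) K 2).map (LinearMap.mulLeft K g)) ∧
      ∀ g' ∈ F, ∀ c : K, g ≠ c • g' := by
  classical
  let V' : Submodule K (BinQuintic.S K 5) := V.comap (Submodule.subtype _)
  have hV' : Module.finrank K V' = 4 := by
    exact (Submodule.comapSubtypeEquivOfLe hV).finrank_eq.trans hdim
  have hq : Module.finrank K (BinQuintic.S K 5 ⧸ V') = 2 := by
    have h1 := Submodule.finrank_quotient_add_finrank V'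
    rw [BinQuintic.finrank_S] at h1
    omega
  let b := (Module.finBasis K (BinQuintic.S K 5 ⧸ V')).reindex (finCongr hq)
  let φ₁ : BinQuintic.S K 5 →ₗ[K] K := (b.coord 0).comp V'.mkQ
  let φ₂ : BinQuintic.S K 5 →ₗ[K] K := (b.coord 1).comp V'.mkQ
  let φ : K → (BinQuintic.S K 5 →ₗ[K] K) := fun t => φ₁ + t • φ₂
  have hVφ : ∀ t (v : BinQuintic.S K 5), v ∈ V' → φ t v = 0 := by
    intro t v hv
    simp [φ, φ₁, φ₂, (Submodule.Quotient.mk_eq_zero V').2 hv]
  have hφ0 : ∀ t, φ t ≠ 0 := by
    intro t h
    obtain ⟨v, hv⟩ := V'.mkQ_surjective (b 0)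
    have := LinearMap.congr_fun h v
    simp only [φ, φ₁, φ₂, LinearMap.add_apply, LinearMap.smul_apply, LinearMap.comp_apply, hv] at this
    simp at this
  have hg : ∀ t, ∃ g : BinQuintic.S K 3, g ≠ 0 ∧ g ∈ BinQuintic.apolar (φ t) := by
    intro t
    obtain ⟨g, hg, hg0, -⟩ := BinQuintic.exists_gen_apolar (BinQuintic.pair_injective (V := V) hsep (φ t)
      (fun v hv => hVφ t v hv) (hφ0 t))
    exact ⟨g, hg0, hg⟩
  choose g hg0 hg using hg
  have hrank : ∀ t, 2 ≤ Module.finrank K ↥(V ⊓ (MvPolynomial.homogeneousSubmodule (Fin 2) K 2).map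
      (LinearMap.mulLeft K (g t : MvPolynomial (Fin 2) K))) := by
    intro t
    let ψ : BinQuintic.S K 2 →ₗ[K] K := φ₂.comp ((BinQuintic.mulS 2 3 5 rfl).flip (g t))
    have hk : 2 ≤ Module.finrank K (LinearMap.ker ψ) := by
      have h1 := LinearMap.finrank_range_add_finrank_ker ψ
      have h2 : Module.finrank K (LinearMap.range ψ) ≤ 1 :=
        (Submodule.finrank_le _).trans (Module.finrank_self K).le
      rw [BinQuintic.finrank_S] at h1
      omega
    have hmem : ∀ h ∈ LinearMap.ker ψ, BinQuintic.mulS 2 3 5 rfl h (g t) ∈ V' := by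
      intro h hh
      have h2 : φ₂ (BinQuintic.mulS 2 3 5 rfl h (g t)) = 0 := hh
      have h1 : φ₁ (BinQuintic.mulS 2 3 5 rfl h (g t)) = 0 := by
        have := BinQuintic.mem_apolar.1 (hg t) h
        simpa [φ, h2] using this
      rw [← Submodule.Quotient.mk_eq_zero]
      refine b.ext_elem fun i => ?_
      fin_cases i
      · simpa [φ₁] using h1
      · simpa [φ₂] using h2
    let T : LinearMap.ker ψ →ₗ[K] ↥(V ⊓ (MvPolynomial.homogeneousSubmodule (Fin 2) K 2).map
        (LinearMap.mulLeft K (g t : MvPolynomial (Fin 2) K))) :=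
      LinearMap.codRestrict _ ((LinearMap.mulLeft K (g t : MvPolynomial (Fin 2) K)).comp
          ((Submodule.subtype _).comp (LinearMap.ker ψ).subtype)) fun h =>
        ⟨by
          have := hmem h h.2
          show (g t : MvPolynomial (Fin 2) K) * ((h : BinQuintic.S K 2) : MvPolynomial (Fin 2) K) ∈ V
          rw [mul_comm]; exact this,
        ⟨_, (h : BinQuintic.S K 2).2, rfl⟩⟩
    have hT : Function.Injective T := by
      intro x y hxy
      have := congrArg Subtype.val hxy
      refine Subtype.ext (Subtype.ext (mul_left_cancel₀ ?_ this))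
      exact fun h => hg0 t (Subtype.ext h)
    have : Module.Finite K ↥(V ⊓ (MvPolynomial.homogeneousSubmodule (Fin 2) K 2).map
        (LinearMap.mulLeft K (g t : MvPolynomial (Fin 2) K))) := by
      have : Module.Finite K (MvPolynomial.homogeneousSubmodule (Fin 2) K 2) :=
        inferInstanceAs (Module.Finite K (BinQuintic.S K 2))
      exact Submodule.finiteDimensional_inf_right _ _
    exact hk.trans (LinearMap.finrank_le_finrank_of_injective hT)
  have huniq : ∀ s t (c : K), (g t : MvPolynomial (Fin 2) K) = c • (g s : MvPolynomial (Fin 2) K) → s = t := by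
    intro s t c hc
    have hc' : g t = c • g s := Subtype.ext hc
    have hc0 : c ≠ 0 := fun h => hg0 t (by rw [hc', h, zero_smul])
    have hts : g t ∈ BinQuintic.apolar (φ s) := hc' ▸ Submodule.smul_mem _ c (hg s)
    by_contra hst
    -- every multiple of `g t` lies in `V`
    have hall : ∀ h : BinQuintic.S K 2, BinQuintic.mulS 2 3 5 rfl h (g t) ∈ V' := by
      intro h
      have e1 := BinQuintic.mem_apolar.1 hts h
      have e2 := BinQuintic.mem_apolar.1 (hg t) h
      simp only [φ, LinearMap.add_apply, LinearMap.smul_apply, smul_eq_mul] at e1 e2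
      have h2 : φ₂ (BinQuintic.mulS 2 3 5 rfl h (g t)) = 0 := by
        have : (s - t) * φ₂ (BinQuintic.mulS 2 3 5 rfl h (g t)) = 0 := by linear_combination e1 - e2
        exact (mul_eq_zero.1 this).resolve_left (sub_ne_zero.2 hst)
      have h1 : φ₁ (BinQuintic.mulS 2 3 5 rfl h (g t)) = 0 := by rw [h2, mul_zero, add_zero] at e1; exact e1
      rw [← Submodule.Quotient.mk_eq_zero]
      refine b.ext_elem fun i => ?_
      fin_cases i
      · simpa [φ₁] using h1
      · simpa [φ₂] using h2
    obtain ⟨l, e, hl, he, hge⟩ := BinQuintic.exists_quadratic_factor (g t : MvPolynomial (Fin 2) K) (g t).2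
    have he0 : e ≠ 0 := fun h => hg0 t (Subtype.ext (by simp [hge, h]))
    let E : Submodule K (BinQuintic.S K 5) := LinearMap.range (BinQuintic.mulS 2 3 5 rfl ⟨e, he⟩)
    let G : Submodule K (BinQuintic.S K 5) := LinearMap.range ((BinQuintic.mulS 2 3 5 rfl).flip (g t))
    have hG : G ≤ V' ⊓ E := by
      rintro _ ⟨h, rfl⟩
      refine ⟨hall h, ⟨⟨l * (h : MvPolynomial (Fin 2) K), hl.mul h.2⟩, Subtype.ext ?_⟩⟩
      show e * (l * (h : MvPolynomial (Fin 2) K)) = (h : MvPolynomial (Fin 2) K) * (g t : MvPolynomial (Fin 2) K)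
      rw [hge]; ring
    have hGr : Module.finrank K G = 3 := by
      rw [LinearMap.finrank_range_of_inj, BinQuintic.finrank_S]
      intro x y hxy
      have := congrArg Subtype.val hxy
      exact Subtype.ext (mul_right_cancel₀ (fun h => hg0 t (Subtype.ext h)) this)
    have hEr : Module.finrank K E ≤ 4 :=
      (LinearMap.finrank_range_le _).trans (BinQuintic.finrank_S 3).le
    have htop : V' ⊔ E = ⊤ := by
      rw [eq_top_iff]
      intro F _
      obtain ⟨v, hv, h, hh, hF⟩ := hsep e he he0 F F.2
      refine Submodule.mem_sup.2 ⟨F - BinQuintic.mulS 2 3 5 rfl ⟨e, he⟩ ⟨h, hh⟩, ?_, _, ⟨⟨h, hh⟩, rfl⟩, sub_add_cancel _ _⟩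
      show ((F - BinQuintic.mulS 2 3 5 rfl ⟨e, he⟩ ⟨h, hh⟩ : BinQuintic.S K 5) : MvPolynomial (Fin 2) K) ∈ V
      rw [Submodule.coe_sub, BinQuintic.mulS_coe, hF]
      simpa using hv
    have h6 := Submodule.finrank_sup_add_finrank_inf_eq V' E
    rw [htop, finrank_top, BinQuintic.finrank_S, hV'] at h6
    have := Submodule.finrank_mono hG
    omega
  -- only finitely many parameters are excluded
  let bad : Set K := ⋃ g' ∈ F, {t | ∃ c : K, (g t : MvPolynomial (Fin 2) K) = c • g'}
  have hfin : bad.Finite := by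
    refine Set.Finite.biUnion F.finite_toSet fun g' _ => Set.Subsingleton.finite ?_
    rintro t ⟨c, hc⟩ s ⟨d, hd⟩
    have hd0 : d ≠ 0 := fun h => hg0 s (Subtype.ext (by simp [hd, h]))
    refine (huniq s t (c * d⁻¹) ?_).symm
    rw [hd, smul_smul, inv_mul_cancel_right₀ hd0, hc]
  obtain ⟨t, ht⟩ := hfin.exists_notMem
  refine ⟨g t, (g t).2, fun h => hg0 t (Subtype.ext h), hrank t, fun g' hg' c hc => ht ?_⟩
  exact Set.mem_biUnion hg' ⟨c, hc⟩

end Groth.Agent.S19809
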