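import Groth.Statements.S1985
import Mathlib
import Groth.Agent.NagataLib.IntClosure
import Groth.Agent.CompleteNagata.Complete
import Groth.Agent.N12Aux.Nagata


set_option autoImplicit false
universe u
open EtAlg

namespace Groth.Agent.S1985

open TensorProduct

theorem isReduced_tensor (K K' L : Type u) [Field K] [Field K'] [Field L] [Algebra K K'] [Algebra K L]
    [Algebra.IsSeparable K L] : IsReduced (L ⊗[K] K') := by
  haveI : IsReduced (K' ⊗[K] L) := IsReduced.tensorProduct_of_flat_of_forall_fg fun B hB => by
    obtain ⟨s, rfl⟩ := hB
    let E : IntermediateField K L := IntermediateField.adjoin K (s : Set L)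
    have hle : Algebra.adjoin K (s : Set L) ≤ E.toSubalgebra := IntermediateField.algebra_adjoin_le_adjoin _ _
    haveI : FiniteDimensional K E :=
      IntermediateField.finiteDimensional_adjoin fun x _ => (Algebra.IsSeparable.isSeparable K x).isIntegral
    haveI : Algebra.IsSeparable K E := inferInstance
    haveI : Algebra.FormallyUnramified K E := Algebra.FormallyUnramified.of_isSeparable K E
    haveI : IsReduced (K' ⊗[K] E) := Algebra.FormallyUnramified.isReduced_of_field K' (K' ⊗[K] E)
    let i : Algebra.adjoin K (s : Set L) →ₐ[K] E := Subalgebra.inclusion hle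
    exact isReduced_of_injective (Algebra.TensorProduct.map (AlgHom.id K' K') i)
      (Module.Flat.lTensor_preserves_injective_linearMap (M := K') i.toLinearMap (Subalgebra.inclusion_injective hle))
  exact isReduced_of_injective (Algebra.TensorProduct.comm K L K').toAlgHom (Algebra.TensorProduct.comm K L K').injective

theorem isN2_dvr (A B K L : Type u) [CommRing A] [IsDomain A] [IsDiscreteValuationRing A]
    [CommRing B] [IsDomain B] [IsDiscreteValuationRing B] [Algebra A B] [IsLocalHom (algebraMap A B)]
    (hinj : Function.Injective (algebraMap A B))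
    [Field K] [Field L] [Algebra A K] [IsFractionRing A K] [Algebra B L] [IsFractionRing B L]
    [Algebra K L] [Algebra A L] [IsScalarTower A K L] [IsScalarTower A B L] [Algebra.IsSeparable K L]
    (hB : CAlg.IsNagata B) (K' : Type u) [Field K'] [Algebra K K'] [Algebra A K'] [IsScalarTower A K K']
    [FiniteDimensional K K'] : Module.Finite A (integralClosure A K') := by
  haveI : IsReduced (L ⊗[K] K') := isReduced_tensor K K' L
  let T := L ⊗[K] K'
  haveI : IsScalarTower A B T := inferInstance
  haveI : Algebra.FiniteType B L := by
    obtain ⟨π, hπ⟩ := IsDiscreteValuationRing.exists_irreducible B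
    refine Algebra.FiniteType.of_surjective (A := Polynomial B) (Polynomial.aeval (algebraMap B L π)⁻¹) fun z => ?_
    obtain ⟨x, y, hy, rfl⟩ := IsFractionRing.div_surjective (A := B) z
    obtain ⟨k, v, rfl⟩ := IsDiscreteValuationRing.eq_unit_mul_pow_irreducible (nonZeroDivisors.ne_zero hy) hπ
    refine ⟨Polynomial.C (x * (v⁻¹ : Bˣ)) * Polynomial.X ^ k, ?_⟩
    rw [map_mul, Polynomial.aeval_C, map_pow, Polynomial.aeval_X, map_mul, map_mul, map_pow, inv_pow, map_units_inv,
      div_eq_mul_inv, mul_inv, mul_assoc]
  haveI : Algebra.FiniteType B T := Algebra.FiniteType.trans ‹Algebra.FiniteType B L› inferInstance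
  haveI := NagataLib.finite_integralClosure_of_reduced hB T
  haveI : IsNoetherianRing B := hB.1
  haveI := isNoetherian_of_isNoetherianRing_of_finite B (integralClosure B T)
  let C := integralClosure A K'
  haveI : FaithfulSMul A B := (faithfulSMul_iff_algebraMap_injective A B).2 hinj
  haveI : Module.IsTorsionFree A B := inferInstance
  haveI : Module.Flat A B := inferInstance
  haveI : Module.FaithfullyFlat A B := Module.FaithfullyFlat.of_flat_of_isLocalHom
  haveI : Module.Flat A K := IsLocalization.flat K (nonZeroDivisors A)
  haveI : Module.Flat A K' := Module.Flat.trans A K K'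
  haveI : CompatibleSMul A K L K' := IsLocalization.tensorProduct_compatibleSMul (nonZeroDivisors A) K L K'
  let g₁ : B ⊗[A] C →ₗ[A] B ⊗[A] K' := C.val.toLinearMap.lTensor B
  let g₂ : B ⊗[A] K' →ₗ[A] L ⊗[A] K' := (IsScalarTower.toAlgHom A B L).toLinearMap.rTensor K'
  let e : L ⊗[A] K' ≃ₗ[A] L ⊗[K] K' := TensorProduct.equivOfCompatibleSMul K A A L K'
  have hg₁ : Function.Injective g₁ := Module.Flat.lTensor_preserves_injective_linearMap _ Subtype.val_injective
  have hg₂ : Function.Injective g₂ :=
    Module.Flat.rTensor_preserves_injective_linearMap _ (IsFractionRing.injective B L)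
  let j : C →ₐ[A] T :=
    ((Algebra.TensorProduct.includeRight : K' →ₐ[K] T).restrictScalars A).comp C.val
  let ψ : B ⊗[A] C →ₐ[B] T := Algebra.TensorProduct.lift (Algebra.ofId B T) j fun _ _ => Commute.all _ _
  have hψ : ∀ z, ψ z = e (g₂ (g₁ z)) := fun z => by
    induction z using TensorProduct.induction_on with
    | zero => simp
    | tmul b c =>
      show algebraMap B T b * ((1 : L) ⊗ₜ[K] (c : K')) = algebraMap B L b ⊗ₜ[K] (c : K')
      rw [Algebra.TensorProduct.algebraMap_apply, Algebra.TensorProduct.tmul_mul_tmul, one_mul, mul_one]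
    | add u v hu hv => simp only [map_add, hu, hv]
  have hint : ∀ z, ψ z ∈ integralClosure B T := fun z => by
    induction z using TensorProduct.induction_on with
    | zero => rw [map_zero]; exact zero_mem _
    | tmul b c =>
      rw [Algebra.TensorProduct.lift_tmul]
      exact mul_mem (Subalgebra.algebraMap_mem _ b) (IsIntegral.tower_top (R := A) (A := B) ((c.2).map
        ((Algebra.TensorProduct.includeRight : K' →ₐ[K] T).restrictScalars A)))
    | add u v hu hv => rw [map_add]; exact add_mem hu hv
  haveI : Module.Finite B (B ⊗[A] C) :=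
    Module.Finite.of_injective (ψ.codRestrict (integralClosure B T) hint).toLinearMap fun a b h => by
      have h' : ψ a = ψ b := congrArg Subtype.val h
      rw [hψ, hψ] at h'
      exact hg₁ (hg₂ (e.injective h'))
  exact Module.Finite.of_finite_tensorProduct_of_faithfullyFlat B

end Groth.Agent.S1985

namespace Groth.Agent.S1985

/-- Let A -> B be an extension of discrete valuation rings whose extension of fraction fields L/K is
separable. If B is a Nagata ring then so is A. -/
theorem result (A B K L : Type u) [CommRing A] [IsDomain A] [IsDiscreteValuationRing A]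
    [CommRing B] [IsDomain B] [IsDiscreteValuationRing B] [Algebra A B] [IsLocalHom (algebraMap A B)]
    (hinj : Function.Injective (algebraMap A B))
    [Field K] [Field L] [Algebra A K] [IsFractionRing A K] [Algebra B L] [IsFractionRing B L]
    [Algebra K L] [Algebra A L] [IsScalarTower A K L] [IsScalarTower A B L] [Algebra.IsSeparable K L] (hB : CAlg.IsNagata B) :
    CAlg.IsNagata A := by
  refine ⟨inferInstance, fun p _ => ?_⟩
  by_cases hp : p = ⊥
  · subst hp
    refine N12Aux.isN2_of_ringEquiv (RingEquiv.quotientBot A).symm ?_
    intro K' _ _ _ _ hfd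
    letI : Algebra K K' := ((algebraMap (FractionRing A) K').comp
      (FractionRing.algEquiv A K).symm.toRingEquiv.toRingHom).toAlgebra
    haveI : IsScalarTower A K K' := IsScalarTower.of_algebraMap_eq fun a => by
      show algebraMap A K' a = algebraMap (FractionRing A) K' ((FractionRing.algEquiv A K).symm (algebraMap A K a))
      rw [AlgEquiv.commutes, ← IsScalarTower.algebraMap_apply]
    haveI : FiniteDimensional K K' := by
      refine Module.Finite.of_equiv_equiv (FractionRing.algEquiv A K).toRingEquiv (RingEquiv.refl K') ?_
      ext x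
      simp [RingHom.algebraMap_toAlgebra]
    exact isN2_dvr A B K L hinj hB K'
  · haveI : p.IsMaximal := Ideal.IsPrime.isMaximal ‹_› hp
    letI := Ideal.Quotient.field p
    exact CompleteNagata.isN2_field (A ⧸ p)

end Groth.Agent.S1985
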