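import Groth.Statements.S19856
import Groth.Agent.TameFix.Basic
import Mathlib.RingTheory.IntegralDomain
import Mathlib.RingTheory.DiscreteValuationRing.Basic

set_option autoImplicit false
universe u v
open CAlg

namespace Groth.Agent.S19856

/-- Ring-level form: let O be a discrete valuation ring and G a finite group acting faithfully on O by
ring automorphisms, such that every element of G acts trivially on the residue field of O (that is,
g • a - a lies in the maximal ideal for all a) and such that the order of G is nonzero in the
residue field of O. Then G is cyclic. (The source states this for a finite group of order invertible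
in an algebraically closed field k acting faithfully on a smooth connected k-variety and the
subgroup of elements fixing pointwise a codimension-one irreducible component of the ramification
locus, applied to the local ring at the generic point of that component; it is stated here for an
arbitrary discrete valuation ring with a faithful action. The source also shows that this subgroup
is nontrivial; that geometric part is not stated.) -/
theorem result
    (O : Type u) [CommRing O] [IsDomain O] [IsDiscreteValuationRing O]
    (G : Type v) [Group G] [Finite G] [MulSemiringAction G O] [FaithfulSMul G O]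
    (htriv : ∀ (g : G) (a : O), g • a - a ∈ IsLocalRing.maximalIdeal O)
    (hcard : ((Nat.card G : ℕ) : IsLocalRing.ResidueField O) ≠ 0) :
    IsCyclic G := by
  open IsLocalRing in
  obtain ⟨π, hπ⟩ := IsDiscreteValuationRing.exists_irreducible O
  have hm : maximalIdeal O = Ideal.span {π} := (IsDiscreteValuationRing.irreducible_iff_uniformizer π).1 hπ
  have hπm : π ∈ maximalIdeal O := hm ▸ Ideal.mem_span_singleton_self π
  have hu : ∀ g : G, ∃ u : O, g • π = u * π := fun g => by
    obtain ⟨u, hu⟩ := Ideal.mem_span_singleton'.1 (hm ▸ TameFix.smul_mem_maximalIdeal g hπm)
    exact ⟨u, hu.symm⟩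
  choose u hu using hu
  have hres : ∀ (g : G) (x : O), residue O (g • x) = residue O x := fun g x => by
    rw [← sub_eq_zero, ← map_sub, residue_eq_zero_iff]
    exact htriv g x
  let χ : G →* ResidueField O :=
    { toFun := fun g => residue O (u g)
      map_one' := by
        rw [show u 1 = 1 from mul_right_cancel₀ hπ.ne_zero (by rw [← hu, one_smul, one_mul]), map_one]
      map_mul' := fun g h => by
        rw [show u (g * h) = g • u h * u g from mul_right_cancel₀ hπ.ne_zero
          (by rw [← hu, mul_smul, hu h, smul_mul', hu g, mul_assoc]), map_mul, hres, mul_comm] }
  refine isCyclic_of_subgroup_isDomain χ ((injective_iff_map_eq_one χ).2 fun g hg => ?_)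
  refine FaithfulSMul.eq_of_smul_eq_smul (α := O) fun a => ?_
  rw [one_smul]
  refine TameFix.smul_eq_self g (htriv g) (fun x hx => ?_) ?_ a
  · obtain ⟨y, rfl⟩ := Ideal.mem_span_singleton'.1 (hm ▸ hx)
    rw [smul_mul', hu g, show g • y * (u g * π) - y * π = (g • y * u g - y) * π by ring, sq]
    refine Ideal.mul_mem_mul ?_ hπm
    rw [← residue_eq_zero_iff, map_sub, map_mul, hres, show residue O (u g) = 1 from hg, mul_one, sub_self]
  · rw [← residue_ne_zero_iff_isUnit, map_natCast]
    intro h
    obtain ⟨d, hd⟩ := orderOf_dvd_natCard g
    exact hcard (by rw [hd, Nat.cast_mul, h, zero_mul])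

end Groth.Agent.S19856
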