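import Groth.Statements.S19860
import Groth.Agent.HilbSnap.FlatCrit
import Groth.Agent.HilbSnap.FiniteRange
import Groth.Agent.S4381
import Groth.Agent.AmpleX.Rel
-- import your own Groth.Agent.* helpers here

set_option autoImplicit false
universe u
open CategoryTheory CategoryTheory.Limits AlgebraicGeometry
open Variety

namespace Groth.Agent.S19860

/-- Let A be a Noetherian local integral domain, f : X ⟶ Spec A a proper morphism, L an invertible
O_X-module ample relative to f and F a coherent O_X-module. Then F is flat over Spec A if and only
if the Hilbert polynomials of F on the generic fibre and on the closed fibre coincide: for every n ≥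
0 the Euler characteristic, over the fraction field, of the pullback of F ⊗ L^{⊗n} to the fibre over
the generic point equals the Euler characteristic, over the residue field, of its pullback to the
fibre over the closed point. (The source works with k-schemes of finite type over an algebraically
closed field of characteristic zero, A a local integral k-algebra and f projective with a relatively
very ample O(1); the argument uses only that A is a Noetherian local domain and that some power of L
is relatively very ample, so it is stated here for proper f with an f-ample L and no base field.) -/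
theorem result
    (A : Type u) [CommRing A] [IsDomain A] [IsNoetherianRing A] [IsLocalRing A]
    (X : Scheme.{u}) (f : X ⟶ Spec (CommRingCat.of A)) [IsProper f]
    (L : X.Modules) (hL : RelAmple.IsRelAmple f L) (F : X.Modules) (hF : Coh.IsCoh F) :
    FlatMod.IsFlatOver f F ↔
      ∀ n : ℕ,
        @Curv2.euler ((Spec (CommRingCat.of A)).residueField (⊥ : PrimeSpectrum A)) _ (f.fiber (⊥ : PrimeSpectrum A))
          ⟨f.fiberToSpecResidueField (⊥ : PrimeSpectrum A)⟩
          ((Scheme.Modules.pullback (f.fiberι (⊥ : PrimeSpectrum A))).obj (CohB1.tensorMod F (CohB1.tensorPow L n))) =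
        @Curv2.euler ((Spec (CommRingCat.of A)).residueField (IsLocalRing.closedPoint A)) _ (f.fiber (IsLocalRing.closedPoint A))
          ⟨f.fiberToSpecResidueField (IsLocalRing.closedPoint A)⟩
          ((Scheme.Modules.pullback (f.fiberι (IsLocalRing.closedPoint A))).obj (CohB1.tensorMod F (CohB1.tensorPow L n))) := by
  haveI : IsLocallyNoetherian X := LocallyOfFiniteType.isLocallyNoetherian f
  have hLi := Groth.Agent.AmpleX.isInvertible_of_isRelAmple hL
  letI : X.Over (Spec (CommRingCat.of A)) := ⟨f⟩
  haveI : IsProper (X ↘ Spec (CommRingCat.of A)) := ‹IsProper f›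
  refine ⟨fun hfl n => ?_, fun h => Groth.Agent.HilbSnap.isFlatOver_of_eulerChar_eq ((Groth.Agent.S4381.result f L).1 hL) hF 0 fun n _ => h n⟩
  have hlc := Groth.Agent.PBC.isLocallyConstant_eulerChar f (CohB1.tensorMod F (CohB1.tensorPow L n))
    (Groth.Agent.HilbSnap.isFP_tensor_invertible (Groth.Agent.QCoh.isCoh_iff_isFP.1 hF) (Groth.Agent.H23.PicMul.isInvertible_tensorPow hLi n))
    (Groth.Agent.TwistFlat.isFlatOver_tensor f (Groth.Agent.H23.PicMul.isInvertible_tensorPow hLi n) hfl)
  exact (IsLocalRing.specializes_closedPoint (⊥ : PrimeSpectrum A)).mem_open (hlc.isOpen_fiber _) rfl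

end Groth.Agent.S19860
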