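import Groth.Statements.S19862
import Groth.Agent.AVTorsLib.GeomPts

set_option autoImplicit false
universe u
open CategoryTheory MonoidalCategory CartesianMonoidalCategory MonObj GrpObj AlgebraicGeometry
open AbVar

namespace Groth.Agent.S19862

/-- Let k be a field, K an algebraically closed extension field of k, l a prime invertible in k, A and B
abelian varieties over k (proper, geometrically integral, commutative group schemes over k), φ : A →
B a homomorphism over k and n a natural number. If the map induced by φ on the l-adic Tate modules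
of K-valued points, T_l A(K) → T_l B(K), equals l^n · u for some ℤ_l-linear u, then φ is divisible
by l^n among homomorphisms over k: φ = φ′ ∘ (l^n)_A for some homomorphism φ′ : A → B, (l^n)_A being
the l^n-th power of the identity in the group Hom(A, A). (The source uses Tate modules of points
over an algebraic closure of k; any algebraically closed extension field gives the same statement.) -/
theorem result (k : Type u) [Field k]
    (K : Type u) [Field K] [Algebra k K] [IsAlgClosed K] (l : ℕ) [Fact l.Prime] (hl : (l : k) ≠ 0)
    (A B : Over (Spec (CommRingCat.of k)))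
    [GrpObj A] [IsCommMonObj A] [IsProper A.hom] [GeometricallyIntegral A.hom]
    [GrpObj B] [IsCommMonObj B] [IsProper B.hom] [GeometricallyIntegral B.hom]
    (φ : A ⟶ B) [IsMonHom φ] (n : ℕ)
    (u : AbDual.TateMod A l (Over.mk (Spec.map (CommRingCat.ofHom (algebraMap k K)))) →ₗ[ℤ_[l]]
      AbDual.TateMod B l (Over.mk (Spec.map (CommRingCat.ofHom (algebraMap k K)))))
    (hu : AbDual.tateMapₗ (l := l) (T := Over.mk (Spec.map (CommRingCat.ofHom (algebraMap k K)))) φ =
      ((l : ℤ_[l]) ^ n) • u) :
    ∃ φ' : A ⟶ B, IsMonHom φ' ∧ φ = (𝟙 A ^ (l ^ n)) ≫ φ' := by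
  refine Groth.Agent.AVTorsLib.exists_factor_geom K φ (l ^ n) (by rw [Nat.cast_pow]; exact pow_ne_zero n hl)
    fun a ha => ?_
  obtain ⟨z, hz⟩ := Groth.Agent.AVTorsLib.exists_component_eq
    (Groth.Agent.AVTorsLib.pt_divisible K l (Fact.out : l.Prime).one_le) n a ha
  have h := congrArg (AbDual.TateMod.component B l (SGA7.pt (K := k) K) n) (LinearMap.congr_fun hu z)
  rw [LinearMap.smul_apply, ← Nat.cast_pow, Nat.cast_smul_eq_nsmul, map_nsmul] at h
  have h0 : (l ^ n) • AbDual.TateMod.component B l (SGA7.pt (K := k) K) n (u z) = 0 := (u z).torsion n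
  rw [h0] at h
  change Additive.ofMul (((z : ℕ → Additive (SGA7.pt (K := k) K ⟶ A)) n).toMul ≫ φ) = 0 at h
  rw [hz] at h
  exact congrArg Additive.toMul h

end Groth.Agent.S19862
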