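import Groth.Statements.S19879
import Groth.Agent.LVTwist.Main
-- import your own Groth.Agent.* helpers here

set_option autoImplicit false
universe u
open LVCorr

namespace Groth.Agent.S19879

open AlgebraicGeometry CategoryTheory CategoryTheory.Limits in
/-- Let k₀ be a finite field with p^e elements, K an algebraic closure of k₀, C₀ a scheme of finite type
over k₀, C = C₀ ×_{k₀} Spec K with its projections, and Fr : C → C the n-th power of the geometric
Frobenius (over K, compatible with the (e·n)-th power of the absolute p-Frobenius of C₀). Let X be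
locally of finite type over K and c₁, c₂ : C → X morphisms over K with c₂ locally quasi-finite, and
let d < p^(e n) be such that for every closed point x of X, with J_x the inverse image under c₂ of
the ideal sheaf of the reduced point x, one has (√J_x)^d ⊂ J_x (so p^(e n) exceeds the ramification
degree of c₂). Then the scheme of fixed points of the twisted correspondence (c₁ ∘ Fr, c₂), namely
the pullback of (c₁ ∘ Fr, c₂) : C → X ×_K X along the diagonal of X, has finite and discrete
underlying topological space. (In the source X, c₁ and c₂ are also defined over k₀ and all schemes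
are separated; neither is needed here.) -/
theorem result {C C₀ X Fx : Scheme.{u}}
    (p : ℕ) [Fact p.Prime] (k₀ : Type u) [Field k₀] [Fintype k₀] [CharP k₀ p] (e : ℕ)
    (hq : Fintype.card k₀ = p ^ e) (K : Type u) [Field K] [Algebra k₀ K] [IsAlgClosure k₀ K]
    (f₀ : C₀ ⟶ Spec (CommRingCat.of k₀)) [LocallyOfFiniteType f₀] [QuasiCompact f₀] [FrobSch.IsCharP C₀ p]
    (πC₀ : C ⟶ C₀) (πK : C ⟶ Spec (CommRingCat.of K))
    (hC : IsPullback πC₀ πK f₀ (Spec.map (CommRingCat.ofHom (algebraMap k₀ K))))
    (n : ℕ) (Fr : C ⟶ C)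
    (hFr₀ : Fr ≫ πC₀ = πC₀ ≫ End.asHom (End.of (FrobSch.frob C₀ p) ^ (e * n)))
    (hFrK : Fr ≫ πK = πK)
    (pX : X ⟶ Spec (CommRingCat.of K)) [LocallyOfFiniteType pX]
    (c₁ c₂ : C ⟶ X) (hc₁ : c₁ ≫ pX = πK) (hc₂ : c₂ ≫ pX = πK)
    [LocallyQuasiFinite c₂] [LocallyOfFiniteType c₂]
    (hcomm : (Fr ≫ c₁) ≫ pX = c₂ ≫ pX) (d : ℕ) (hn : d < p ^ (e * n))
    (hd : ∀ (x : X) (hx : IsClosed ({x} : Set X)),
      ((Scheme.IdealSheafData.vanishingIdeal ⟨{x}, hx⟩).comap c₂).radical ^ d ≤
        (Scheme.IdealSheafData.vanishingIdeal ⟨{x}, hx⟩).comap c₂)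
    (i : Fx ⟶ C) (δ : Fx ⟶ X) (hF : IsPullback i δ (pullback.lift (Fr ≫ c₁) c₂ hcomm) (pullback.diagonal pX)) :
    Finite Fx ∧ DiscreteTopology Fx := by
  haveI : LocallyOfFiniteType πK := MorphismProperty.of_isPullback hC inferInstance
  haveI : QuasiCompact πK := MorphismProperty.of_isPullback hC inferInstance
  haveI : IsLocallyNoetherian C := LocallyOfFiniteType.isLocallyNoetherian πK
  haveI : CompactSpace C := QuasiCompact.compactSpace_of_compactSpace πK
  haveI : IsNoetherian C := {}
  haveI : IsImmersion i := MorphismProperty.of_isPullback hF.flip (inferInstance : IsImmersion (pullback.diagonal pX))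
  have h2 : i ≫ c₂ = δ := by
    have := congrArg (· ≫ pullback.snd pX pX) hF.w
    simp only [Category.assoc, pullback.diagonal_snd, Category.comp_id] at this
    rwa [pullback.lift_snd] at this
  haveI : LocallyOfFiniteType δ := h2 ▸ inferInstance
  haveI : LocallyOfFiniteType (δ ≫ pX) := inferInstance
  haveI : JacobsonSpace Fx := LocallyOfFiniteType.jacobsonSpace (δ ≫ pX)
  haveI : JacobsonSpace X := LocallyOfFiniteType.jacobsonSpace pX
  haveI : TopologicalSpace.NoetherianSpace Fx := i.isEmbedding.isInducing.noetherianSpace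
  have hiso : ∀ w : Fx, IsClosed ({w} : Set Fx) → IsOpen ({w} : Set Fx) := by
    intro w hw
    have hx : IsClosed ({δ w} : Set X) := δ.closePoints_subset_preimage_closedPoints hw
    obtain ⟨W, hW, -, m, hm⟩ :=
      Groth.Agent.LVTwist.exists_contracting p k₀ e hq K f₀ πC₀ πK hC n Fr hFr₀ hFrK pX c₁ c₂ hcomm d hn (δ w) hx (hd (δ w) hx)
    have hrange : Set.range i.base ⊆ (W : Set C) := by
      rintro _ ⟨z, rfl⟩
      refine hW ⟨δ z, ?_⟩
      rw [← Scheme.Hom.comp_apply, ← Scheme.Hom.comp_apply, hF.w]
    have hopen := Groth.Agent.LVTwist.isOpen_preimage_support πK pX (Fr ≫ c₁) c₂ hcomm i δ hF _ W hrange m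
      (by simpa only [Category.assoc] using hm)
    rw [Scheme.IdealSheafData.coe_support_vanishingIdeal] at hopen
    change IsOpen (δ.base ⁻¹' {δ w}) at hopen
    have hdisc : _root_.IsDiscrete (δ.base ⁻¹' {δ w}) := by
      have h1 : δ.base ⁻¹' {δ w} = i.base ⁻¹' (c₂.base ⁻¹' {δ w}) := by rw [← h2]; rfl
      rw [h1]
      exact (c₂.isDiscrete_preimage_singleton _).preimage' i.continuous.continuousOn fun y =>
        Set.Subsingleton.isDiscrete (fun a ha b hb => i.isEmbedding.injective (Eq.trans ha hb.symm))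
    haveI := hdisc.to_subtype
    have := hopen.isOpenEmbedding_subtypeVal.isOpenMap {⟨w, rfl⟩} (isOpen_discrete _)
    simpa using this
  have hdisc : DiscreteTopology Fx := by
    have hO : IsOpen (closedPoints Fx) := by
      rw [isOpen_iff_forall_mem_open]
      exact fun w hw => ⟨{w}, Set.singleton_subset_iff.mpr hw, hiso w hw, rfl⟩
    have hall : ∀ w : Fx, w ∈ closedPoints Fx := by
      intro w
      by_contra hc
      obtain ⟨z, hz1, hz2⟩ := nonempty_inter_closedPoints (Z := (closedPoints Fx)ᶜ) ⟨w, hc⟩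
        hO.isClosed_compl.isLocallyClosed
      exact hz1 hz2
    exact discreteTopology_iff_isOpen_singleton.mpr fun w => hiso w (hall w)
  exact ⟨finite_of_compact_of_discrete, hdisc⟩


end Groth.Agent.S19879
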