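import Groth.Statements.S19880
import Groth.Agent.PicCurve.Pts.SepClosed
set_option linter.style.haveILetI false
set_option backward.isDefEq.respectTransparency false
set_option backward.isDefEq.respectTransparency.types false
set_option maxHeartbeats 1000000

set_option autoImplicit false
universe u
open CategoryTheory CategoryTheory.Limits AlgebraicGeometry
open JacVar
open MonoidalCategory CartesianMonoidalCategory
open scoped MonObj Groth.Agent.H23.PicMul

namespace Groth.Agent.S19880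

/-- Let k be a separably closed field, C a smooth proper geometrically connected curve of genus g > 0
over k with a k-rational point, and r > 2g an integer. Then for every effective divisor D of degree
r on C there is an (r − g)-tuple γ = (P_1, …, P_{r−g}) of k-rational points of C with h⁰(D − P_1 − ⋯
− P_{r−g}) = 1; since every invertible module L of degree r > 2g − 2 is of the form O(D) with D
effective, this is stated as: for every invertible module L of degree r on C there are k-rational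
points P_1, …, P_{r−g} with h⁰(C, L ⊗ I_{P_1} ⊗ ⋯ ⊗ I_{P_{r−g}}) = 1. (In the source this is the
statement that the symmetric power C^(r) is the union of the open pieces C^γ.) -/
theorem result (k : Type u) [Field k] [IsSepClosed k]
    (C : Scheme.{u}) [C.Over (Spec (CommRingCat.of k))]
    [IsProper (C ↘ Spec (CommRingCat.of k))] [Smooth (C ↘ Spec (CommRingCat.of k))] [GeometricallyConnected (C ↘ Spec (CommRingCat.of k))]
    (hdim : topologicalKrullDim ↥C = 1)
    (g : ℕ) (hg : Curv2.genus k C = g) (hg0 : 0 < g)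
    (σ₀ : Spec (CommRingCat.of k) ⟶ C) (hσ₀ : σ₀ ≫ (C ↘ Spec (CommRingCat.of k)) = 𝟙 _)
    (r : ℕ) (hr : 2 * g < r)
    (L : C.Modules) (hL : PicF.IsInvertible L) (hLdeg : Curv2.deg k C L 1 = (r : ℤ)) :
    ∃ σ : Fin (r - g) → (Spec (CommRingCat.of k) ⟶ C), (∀ t, σ t ≫ (C ↘ Spec (CommRingCat.of k)) = 𝟙 _) ∧
      Module.finrank k (Coh.HH C (CohB1.tensorMod L (FGA.tensorList (List.ofFn fun t : Fin (r - g) =>
        ClSub.idealMod (σ t).ker))) 0) = 1 := by
  let f := C ↘ Spec (CommRingCat.of k)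
  haveI : IsProper f := ‹_›
  haveI : Smooth f := ‹_›
  haveI : ConnectedSpace C := PicCurve.Alb.connectedSpace_of_geomConn f
  haveI : GeometricallyIntegral f := Groth.Agent.S7791.result f σ₀ hσ₀
  haveI : IsIntegral C := GeometricallyIntegral.isIntegral_of_subsingleton f
  haveI : SmoothOfRelativeDimension 1 f := Groth.Agent.HilbCurve.smoothOfRelativeDimension_one f hdim
  obtain ⟨J₀, ξ, hp, hsm, hi, hξ, huniv⟩ := Groth.Agent.PicCurve.exists_jacobian_field f hdim σ₀ hσ₀
  haveI := hp; haveI := hsm; haveI := hi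
  letI := PicCurve.jacGrpObj f hdim σ₀ hσ₀ ξ hξ huniv
  let δ := PicCurve.Alb.δ σ₀
  have hδ := PicCurve.Alb.isInvertibleCl_δ f σ₀ hσ₀
  have hpow := fun m => PicCurve.Alb.isInvertibleCl_pow hδ m
  have hgen : PicCurve.Alb.gen f = g := hg
  obtain ⟨c, hc⟩ := PicCurve.Pts.exists_A f σ₀ hσ₀ ξ huniv (H23.PicMul.isInvertibleCl_mul ⟨L, rfl, hL⟩ (hpow r)) (by
    rw [PicCurve.degX_mul f hdim ⟨L, rfl, hL⟩ (hpow r), PicCurve.Pts.degX_δ_pow f hdim σ₀ hσ₀,
      PicCurve.degX_cl (k := k) hdim.le hL, hLdeg, add_neg_cancel])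
  obtain ⟨x, hx⟩ := PicCurve.Pts.exists_tuple_good f hdim σ₀ hσ₀ ξ hξ huniv (n := r - g) (by omega) c
  refine ⟨fun t => (x t).left, fun t => Over.w (x t), ?_⟩
  let I := fun t : Fin (r - g) => ClSub.idealMod (x t).left.ker
  let M := CohB1.tensorMod L (FGA.tensorList (List.ofFn I))
  show Module.finrank k (Coh.HH C M 0) = 1
  have hMcl : PicF.cl M = PicF.cl L * (List.ofFn fun t => PicCurve.Pts.ptCl f (x t)).prod :=
    (H23.PicMul.cl_tensor _ _).trans (congrArg (_ * ·) (PicCurve.Pts.cl_tensorList_ofFn _ _))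
  obtain ⟨M', hM'cl, hM'⟩ := H23.PicMul.isInvertibleCl_mul (show PicF.IsInvertibleCl (PicF.cl L) from ⟨L, rfl, hL⟩)
    (PicCurve.Pts.isInvertibleCl_prod_pt f (r - g) x)
  obtain ⟨v⟩ := H23.PicMul.cl_eq_iff.1 (hMcl.trans hM'cl.symm)
  rw [(CurveCohLib.hhEquiv (k := k) v 0).finrank_eq]
  -- the class of the good point
  let a := c * ((List.ofFn fun i => x i ≫ PicCurve.Alb.aj f hdim σ₀ hσ₀ ξ hξ huniv).prod)⁻¹
  have ha : PicF.cl M' = PicCurve.Pts.clN f σ₀ hσ₀ ξ g a := by
    refine PicCurve.eq_of_invCl_mul (H23.PicMul.isInvertibleCl_mul (hpow g) (hpow (r - g))) ?_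
    have h1 := PicCurve.Pts.A_prod_sep f hdim σ₀ hσ₀ ξ hξ huniv (r - g) x
    rw [← _root_.mul_assoc (PicCurve.Pts.clN f σ₀ hσ₀ ξ g a), PicCurve.Pts.clN_mul_pow, ← h1, ← _root_.mul_assoc (PicCurve.Pts.A f σ₀ hσ₀ ξ a),
      ← PicCurve.Pts.A_mul f hdim σ₀ hσ₀ ξ hξ huniv, show a * _ = c from inv_mul_cancel_right c _, hc, hM'cl, h1,
      ← pow_add, show g + (r - g) = r by omega, mul_right_comm]
  letI : (PicF.XT f (𝟙_ (Over (Spec (CommRingCat.of k))))).Over (Spec (CommRingCat.of k)) :=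
    ⟨PicF.XTproj f (𝟙_ (Over (Spec (CommRingCat.of k))))⟩
  let q : PicF.XT f (𝟙_ (Over (Spec (CommRingCat.of k)))) ⟶ Spec (CommRingCat.of k) :=
    PicF.XTproj f (𝟙_ (Over (Spec (CommRingCat.of k))))
  haveI : IsProper q := PicCurve.isProper_proj f _
  haveI : CompactSpace C := QuasiCompact.compactSpace_of_compactSpace f
  haveI : QuasiSeparatedSpace C := quasiSeparatedSpace_of_quasiSeparated f
  let M₁ := (Scheme.Modules.pullback (PicCurve.Pts.p₁ f)).obj M'
  have hM₁ : PicF.IsInvertible M₁ := PicClLib.isInvertible_pullback _ hM'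
  have hgood : PicCurve.GoodCl f (PicF.pullCl (PicF.XTmap f a) (PicCurve.Alb.shCl f σ₀ hσ₀ ξ g))
      (show Spec (CommRingCat.of k) from IsLocalRing.closedPoint k) := by
    rw [PicCurve.goodCl_pull f a (PicCurve.Alb.isInvertibleCl_shCl f σ₀ hσ₀ ξ g)]
    rw [← hgen]
    exact hx
  rw [← PicCurve.Pts.pull_clN f σ₀ hσ₀ ξ g a, ← ha,
    show PicF.pullCl (PicCurve.Pts.p₁ f) (PicF.cl M') = PicF.cl M₁ from rfl, PicCurve.goodCl_cl f hM₁] at hgood
  have h2 : CohIII.fiberRank q M₁ 0 (show Spec (CommRingCat.of k) from IsLocalRing.closedPoint k) = 1 := hgood.1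
  rw [QuotRep.fiberRank_field q (PicCurve.isQCoh_inv hM₁)] at h2
  rw [← h2]
  refine (CurveBC.finrank_hh k k (PicCurve.Pts.p₁ f) ?_ M' (PicCurve.isQCoh_inv hM') 0).symm
  rw [show Spec.map (CommRingCat.ofHom (algebraMap k k)) = 𝟙 (Spec (CommRingCat.of k)) by
    rw [show CommRingCat.ofHom (algebraMap k k) = 𝟙 (CommRingCat.of k) from rfl, Spec.map_id]]
  exact IsPullback.of_hasPullback f (𝟙 _)

end Groth.Agent.S19880
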