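import Groth.Statements.S19886
import Groth.Agent.EtLC12.GaLinear
import Groth.Agent.S0469

set_option autoImplicit false
universe u
open CategoryTheory CategoryTheory.Limits AlgebraicGeometry
open EtCoh

namespace Groth.Agent.S19886

/-- Let k be a separably closed field of characteristic p > 0 and X a scheme proper over k of dimension
d. Then the étale cohomology groups H^q(X_et, Z/p) with constant coefficients vanish for all q > d.
(The same vanishing for X separated of finite type over an algebraically closed field is a separate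
statement; here the field is only separably closed and X is proper.) -/
theorem result (k : Type u) [Field k] [IsSepClosed k]
    (p : ℕ) [Fact p.Prime] [CharP k p]
    (X : Scheme.{u}) (f : X ⟶ Spec (CommRingCat.of k)) [IsProper f]
    (d : ℕ) (hd : topologicalKrullDim X = d) (q : ℕ) (hq : d + 1 ≤ q) :
    Subsingleton (EtCoh.H X (EtCoh.const X (ZMod p)) q) := by
  have h0 : (p : Γ(X, ⊤)) = 0 := by
    have hk : (p : k) = 0 := CharP.cast_eq_zero k p
    have h := congrArg (Coh.toGlobal f) hk
    rwa [map_natCast, map_zero] at h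
  haveI : CompactSpace X := QuasiCompact.compactSpace_of_compactSpace f
  haveI : QuasiSeparatedSpace X := quasiSeparatedSpace_of_quasiSeparated f
  haveI : EtZar.ZarCont X := Agent.EtLC12.EtZarCompare.zarCont X
  have hGa : ∀ n, d < n → Subsingleton (EtCoh.H X (EtCoh.Ga X) n) := fun n hn => by
    obtain ⟨ε, -⟩ := Agent.EtLC12.GaLinear.exists_equiv X n
    haveI : T0Space (↥X) := inferInstance
    haveI : SpectralSpace (↥X) := ⟨⟩
    haveI : Subsingleton (Coh.HH X (Coh.structureModule X) n) :=
      @Groth.Agent.S0469.result X.toTopCat ‹SpectralSpace (↥X)› d hd.le _ n hn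
    exact ε.toEquiv.subsingleton
  obtain ⟨n, rfl⟩ : ∃ n, q = n + 1 := ⟨q - 1, by omega⟩
  let T := ShortComplex.mk (kernel.ι (Agent.EtLC12.ArtinSchreier.as p h0))
    (Agent.EtLC12.ArtinSchreier.as p h0) (kernel.condition _)
  have hT := Agent.EtLC12.ArtinSchreier.shortExact_kernel p h0
  have hK : Subsingleton (EtCoh.H X T.X₁ (n + 1)) := by
    refine subsingleton_of_forall_eq 0 fun x => ?_
    obtain ⟨z, rfl⟩ := Abelian.Ext.covariant_sequence_exact₁ _
      hT x (@Subsingleton.elim _ (hGa (n + 1) (by omega)) _ _) (rfl : n + 1 = n + 1)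
    obtain ⟨y, rfl⟩ := Agent.EtLC12.GaLinear.as_surjective p f h0 n z
    rw [Sheaf.H.map_apply, Abelian.Ext.comp_assoc_of_second_deg_zero]
    exact (congrArg (fun t => Abelian.Ext.comp y t rfl) hT.comp_extClass).trans (Abelian.Ext.comp_zero _ _ _ _ _)
  haveI : Subsingleton ((EtCoh.HF X (n + 1)).obj (kernel (Agent.EtLC12.ArtinSchreier.as p h0))) := hK
  exact ((EtCoh.HF X (n + 1)).mapIso
    (asIso (Agent.EtLC12.ArtinSchreier.constToKer p h0))).addCommGroupIsoToAddEquiv.toEquiv.subsingleton

end Groth.Agent.S19886
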