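import Groth.Statements.S19892
-- import your own Groth.Agent.* helpers here
import Groth.Agent.H4Val.Refined

set_option autoImplicit false
universe u
open CategoryTheory AlgebraicGeometry
open ValCrit

namespace Groth.Agent.S19892

/-- Let h : Z → Y and f : Y → X be morphisms of quasi-compact quasi-separated schemes, with h dominant
and f locally of finite type. Then f is proper if and only if the following refined valuative
criterion holds: for every point z of Z, every valuation ring R of the residue field κ(z) and every
morphism φ : Spec R → X whose restriction to Spec κ(z) is the canonical morphism Spec κ(z) → Z → Y →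
X, there is exactly one morphism Spec R → Y lying over φ and restricting to Spec κ(z) → Z → Y on the
generic point. (The published statement does not require h to be dominant; its proof uses that every
point of Y generalises to a point of h(Z), and for Z empty the criterion holds whatever f is, so
dominance of h is assumed here.) -/
theorem result {X Y Z : Scheme.{u}} (h : Z ⟶ Y) (f : Y ⟶ X)
    [CompactSpace ↥Z] [QuasiSeparatedSpace ↥Z] [CompactSpace ↥Y] [QuasiSeparatedSpace ↥Y]
    [CompactSpace ↥X] [QuasiSeparatedSpace ↥X] (hd : DenseRange h.base)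
    [LocallyOfFiniteType f] :
    IsProper f ↔
      ∀ (z : ↥Z) (R : ValuationSubring ↑(Z.residueField z)) (φ : Spec (CommRingCat.of ↥R) ⟶ X),
        Spec.map (CommRingCat.ofHom R.subtype) ≫ φ = Z.fromSpecResidueField z ≫ h ≫ f →
        ∃! φ' : Spec (CommRingCat.of ↥R) ⟶ Y,
          Spec.map (CommRingCat.ofHom R.subtype) ≫ φ' = Z.fromSpecResidueField z ≫ h ∧ φ' ≫ f = φ := by
  haveI : QuasiCompact h := QuasiCompact.of_comp h (Limits.terminal.from Y)
  haveI : QuasiSeparated f := QuasiSeparated.of_comp f (Limits.terminal.from X)
  haveI : QuasiCompact f := QuasiCompact.of_comp f (Limits.terminal.from X)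
  constructor
  · intro _ z R φ hφ
    let S : ValuativeCommSq f :=
      { R := R, K := Z.residueField z, i₁ := Z.fromSpecResidueField z ≫ h, i₂ := φ,
        commSq := ⟨((Category.assoc _ _ _).trans hφ.symm)⟩ }
    have hv : ValuativeCriterion f := by
      have := (IsProper.eq_valuativeCriterion.le _ _ f ‹IsProper f›)
      exact this.1.1.1
    obtain ⟨l, hl₁, hl₂⟩ := (hv.existence S).exists_lift
    exact ⟨l, ⟨hl₁, hl₂⟩, fun l' hl' =>
      Groth.Agent.H4Val.refUniq_of_isSeparated h f z R φ hφ l' l hl'.1 hl'.2 hl₁ hl₂⟩
  · intro H
    haveI : IsSeparated f := Groth.Agent.H4Val.isSeparated_of_refUniq h f hd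
      fun z R φ hφ φ₁ φ₂ h₁ h₁' h₂ h₂' => (H z R φ hφ).unique ⟨h₁, h₁'⟩ ⟨h₂, h₂'⟩
    exact IsProper.of_valuativeCriterion f (ValuativeCriterion.iff.2
      ⟨Groth.Agent.H4Val.existence_of_refExist h f hd fun z R φ hφ => (H z R φ hφ).exists,
        IsSeparated.valuativeCriterion f⟩)

end Groth.Agent.S19892
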