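import Groth.Statements.S19901
-- import your own Groth.Agent.* helpers here
import Groth.Agent.AlgStLib.LocQCalc
import Groth.Agent.AlgSpLib.SmoothLocalLCI
import Groth.Agent.S10666

set_option autoImplicit false
universe u
open CategoryTheory AlgebraicGeometry
open AlgSt

namespace Groth.Agent.S19901

/-- Let f : 𝒳 → 𝒴, q : 𝒴 → 𝒵 and p : 𝒳 → 𝒵 be morphisms of algebraic stacks forming a 2-commutative
triangle (a 2-isomorphism between q ∘ f and p is given). If q is smooth and p is a local complete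
intersection morphism (Koszul), then f is a local complete intersection morphism. Smooth and local
complete intersection morphisms of algebraic stacks are read on one square of smooth scheme charts. -/
theorem result
    (S : Scheme.{u}) (𝒳 : AlgSt.Cat S) (𝒴 : AlgSt.Cat S) (𝒵 : AlgSt.Cat S)
    (h𝒳 : AlgSt.IsAlgStack Scheme.fppfPrecoverage 𝒳)
    (h𝒴 : AlgSt.IsAlgStack Scheme.fppfPrecoverage 𝒴)
    (h𝒵 : AlgSt.IsAlgStack Scheme.fppfPrecoverage 𝒵)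
    (f : 𝒳 ⥤ᵇ 𝒴) (q : 𝒴 ⥤ᵇ 𝒵) (p : 𝒳 ⥤ᵇ 𝒵) (e : BasedFunctor.comp f q ≅ p)
    (hq : AlgSt.LocQ (AlgSp.LocP @Smooth) q) (hp : AlgSt.LocQ AlgSp.IsLCIMor p) :
    AlgSt.LocQ AlgSp.IsLCIMor f := by
  have hP : AlgSp.IsSmoothLocalST (S := S) AlgSp.IsLCIMor := Groth.Agent.AlgSpLib.isSmoothLocalST_lci
  obtain ⟨U₀, V₀, x₀, y₀, h₀, α₀, hx₀, hx₀', hy₀, hh₀⟩ := hp
  have hfq : AlgSt.LocQ AlgSp.IsLCIMor (BasedFunctor.comp f q) :=
    ⟨U₀, V₀, x₀, y₀, h₀, Groth.Agent.FibBase.whiskerLeftIso x₀ e ≪≫ α₀, hx₀, hx₀', hy₀, hh₀⟩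
  obtain ⟨U, V, W, z, d, c, hz, hd, hc, hy⟩ := Groth.Agent.AlgStLib.exists_charts_comp h𝒳 h𝒴 h𝒵 f q
  obtain ⟨c', e', hs, hs'⟩ :=
    Groth.Agent.AlgStLib.exists_chart_comp h𝒳.isStack.1 h𝒴.isStack.1 h𝒵.isStack.1 d c
  refine Groth.Agent.AlgStLib.locQ_of_chart hP h𝒳 h𝒴 hy.1 hy.2 hc.1 hc.2 ?_
  have h1 := (Groth.Agent.AlgStLib.locQ_iff_locQS hP h𝒳 h𝒵 _).1 hfq U W z c' hz.1 (hs hc.1 hd.1)
  rw [e'] at h1
  exact Groth.Agent.S10666.result (X := U) (Y := V) (Z := W)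
    (CategoryTheory.ObjectProperty.homMk (Groth.Agent.AlgStLib.spHom (BasedFunctor.comp c (FibCat.fpSnd f _))))
    (CategoryTheory.ObjectProperty.homMk (Groth.Agent.AlgStLib.spHom (BasedFunctor.comp c (FibCat.fpSnd f _)) ≫
      Groth.Agent.AlgStLib.spHom (BasedFunctor.comp d (FibCat.fpSnd q z))))
    (CategoryTheory.ObjectProperty.homMk (Groth.Agent.AlgStLib.spHom (BasedFunctor.comp d (FibCat.fpSnd q z))))
    rfl ((Groth.Agent.AlgStLib.locQ_iff_locQS Groth.Agent.AlgSpLib.isSmoothLocalST_smooth h𝒴 h𝒵 q).1 hq V W z d hz.1 hd.1) h1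

end Groth.Agent.S19901
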