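import Groth.Statements.S19902
-- import your own Groth.Agent.* helpers here
import Groth.Agent.AlgStLib.SmoothLocusSt

set_option autoImplicit false
universe u
open CategoryTheory AlgebraicGeometry
open AlgSt

namespace Groth.Agent.S19902

/-- Let f : 𝒳 → 𝒴 be a morphism of algebraic stacks and 𝒰 ⊂ 𝒳 the largest open substack on which f is
smooth. Formation of 𝒰 commutes with precomposing by smooth morphisms: for a smooth g : 𝒳' → 𝒳, the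
inverse image of 𝒰 in 𝒳' is the largest open substack of 𝒳' on which f ∘ g is smooth. Open substacks
are given by their object predicates, the inverse image by composing the predicate with g on
objects, and smoothness is read on one square of smooth scheme charts. -/
theorem result
    (S : Scheme.{u}) (𝒳' : AlgSt.Cat S) (𝒳 : AlgSt.Cat S) (𝒴 : AlgSt.Cat S)
    (h𝒳' : AlgSt.IsAlgStack Scheme.fppfPrecoverage 𝒳')
    (h𝒳 : AlgSt.IsAlgStack Scheme.fppfPrecoverage 𝒳)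
    (h𝒴 : AlgSt.IsAlgStack Scheme.fppfPrecoverage 𝒴)
    (g : 𝒳' ⥤ᵇ 𝒳) (hg : AlgSt.LocQ (AlgSp.LocP @Smooth) g) (f : 𝒳 ⥤ᵇ 𝒴)
    (Q : 𝒳.obj → Prop) (hQ₁ : AlgSt.IsOpenSubstack 𝒳 Q Scheme.fppfPrecoverage)
    (hQ₂ : AlgSt.LocQ (AlgSp.LocP @Smooth) (BasedFunctor.comp (AlgSt.subIncl 𝒳 Q) f))
    (hQ₃ : ∀ Q' : 𝒳.obj → Prop, AlgSt.IsOpenSubstack 𝒳 Q' Scheme.fppfPrecoverage →
      AlgSt.LocQ (AlgSp.LocP @Smooth) (BasedFunctor.comp (AlgSt.subIncl 𝒳 Q') f) → ∀ a, Q' a → Q a) :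
    AlgSt.IsOpenSubstack 𝒳' (fun a ↦ Q (g.obj a)) Scheme.fppfPrecoverage ∧
      AlgSt.LocQ (AlgSp.LocP @Smooth)
        (BasedFunctor.comp (AlgSt.subIncl 𝒳' (fun a ↦ Q (g.obj a))) (BasedFunctor.comp g f)) ∧
      ∀ Q' : 𝒳'.obj → Prop, AlgSt.IsOpenSubstack 𝒳' Q' Scheme.fppfPrecoverage →
        AlgSt.LocQ (AlgSp.LocP @Smooth) (BasedFunctor.comp (AlgSt.subIncl 𝒳' Q') (BasedFunctor.comp g f)) →
        ∀ a, Q' a → Q (g.obj a) := by
  obtain ⟨d⟩ := Groth.Agent.AlgStLib.nonempty_smData h𝒳 h𝒴 f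
  have hT := d.isOpen_T h𝒳 h𝒴
  have hP := Groth.Agent.AlgStLib.isOpenSubstack_ptsIn h𝒳 hT
  have hQT : Q = Groth.Agent.AlgStLib.PtsIn d.T := funext fun a => propext ⟨fun ha => ?_, fun ha =>
    hQ₃ _ hP (d.locQ_comp_of_range_subset h𝒳 h𝒴 hP.2.1 _ (Groth.Agent.AlgStLib.locQ_smooth_subIncl h𝒳 hP)
      fun p => Groth.Agent.AlgStLib.range_subIncl_ptsIn.subset ⟨p, rfl⟩) a ha⟩
  swap
  · rw [Groth.Agent.AlgStLib.eq_ptsIn_range h𝒳 hQ₁] at ha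
    intro p φ
    obtain ⟨w, hw⟩ := ha p φ
    rw [← hw]
    exact d.range_subset h𝒳 h𝒴 hQ₁.2.1 _ (Groth.Agent.AlgStLib.locQ_smooth_subIncl h𝒳 hQ₁) hQ₂ w
  subst hQT
  have hT' : IsOpen (AlgSt.Points.map g ⁻¹' d.T) :=
    hT.preimage (Groth.Agent.AlgStLib.continuous_pts_map h𝒳.isStack.1 h𝒳.atlas g)
  have hP' := Groth.Agent.AlgStLib.isOpenSubstack_ptsIn h𝒳' hT'
  have heq : (fun a => Groth.Agent.AlgStLib.PtsIn d.T (g.obj a)) =
      Groth.Agent.AlgStLib.PtsIn (AlgSt.Points.map g ⁻¹' d.T) :=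
    funext fun a => propext (Groth.Agent.AlgStLib.ptsIn_obj_iff h𝒳.isStack.1 h𝒳'.isStack.1 g d.T a)
  rw [heq]
  refine ⟨hP', ?_, fun Q' hQ' hf a ha => ?_⟩
  ·
    exact d.locQ_comp_of_range_subset h𝒳 h𝒴 hP'.2.1 _
      (Groth.Agent.AlgStLib.locQ_comp Groth.Agent.AlgSpLib.isSmoothLocalST_smooth
        Groth.Agent.AlgStLib.stableComp_locP hP'.2.1 h𝒳' h𝒳 (Groth.Agent.AlgStLib.locQ_smooth_subIncl h𝒳' hP') hg)
      fun p => by
        rw [Groth.Agent.AlgStLib.pts_map_comp]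
        exact (Groth.Agent.AlgStLib.range_subIncl_ptsIn (T := AlgSt.Points.map g ⁻¹' d.T)).subset ⟨p, rfl⟩
  · rw [Groth.Agent.AlgStLib.eq_ptsIn_range h𝒳' hQ'] at ha
    refine (Groth.Agent.AlgStLib.ptsIn_obj_iff h𝒳.isStack.1 h𝒳'.isStack.1 g d.T a).2 fun p φ => ?_
    obtain ⟨w, hw⟩ := ha p φ
    rw [Set.mem_preimage, ← hw, ← Groth.Agent.AlgStLib.pts_map_comp]
    exact d.range_subset h𝒳 h𝒴 hQ'.2.1 _
      (Groth.Agent.AlgStLib.locQ_comp Groth.Agent.AlgSpLib.isSmoothLocalST_smooth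
        Groth.Agent.AlgStLib.stableComp_locP hQ'.2.1 h𝒳' h𝒳 (Groth.Agent.AlgStLib.locQ_smooth_subIncl h𝒳' hQ') hg)
      hf w

end Groth.Agent.S19902
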