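import Groth.Statements.S19909
-- import your own Groth.Agent.* helpers here
import Groth.Agent.AlgStLib.SmoothLocusBC

set_option autoImplicit false
universe u
open CategoryTheory AlgebraicGeometry
open AlgSt

namespace Groth.Agent.S19909

/-- Let f : 𝒳 → 𝒴 be a morphism of algebraic stacks and 𝒰 ⊂ 𝒳 the largest open substack on which f is
smooth. Formation of 𝒰 commutes with base change along y : 𝒴' → 𝒴 when y is flat and locally of
finite presentation, or when y is flat and f is locally of finite presentation: the inverse image of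
𝒰 in 𝒴' ×_𝒴 𝒳 is the largest open substack on which the projection to 𝒴' is smooth. Open substacks
are given by their object predicates, the inverse image by reading the predicate on the second
component, and flat, locally of finite presentation and smooth are read on one square of smooth
scheme charts. -/
theorem result
    (S : Scheme.{u}) (𝒳 : AlgSt.Cat S) (𝒴 : AlgSt.Cat S) (𝒴' : AlgSt.Cat S)
    (h𝒳 : AlgSt.IsAlgStack Scheme.fppfPrecoverage 𝒳)
    (h𝒴 : AlgSt.IsAlgStack Scheme.fppfPrecoverage 𝒴)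
    (h𝒴' : AlgSt.IsAlgStack Scheme.fppfPrecoverage 𝒴')
    (f : 𝒳 ⥤ᵇ 𝒴) (y : 𝒴' ⥤ᵇ 𝒴) (hy : AlgSt.LocQ (AlgSp.LocP @Flat) y)
    (hfp : AlgSt.LocQ (AlgSp.LocP @LocallyOfFinitePresentation) y ∨
      AlgSt.LocQ (AlgSp.LocP @LocallyOfFinitePresentation) f)
    (Q : 𝒳.obj → Prop) (hQ₁ : AlgSt.IsOpenSubstack 𝒳 Q Scheme.fppfPrecoverage)
    (hQ₂ : AlgSt.LocQ (AlgSp.LocP @Smooth) (BasedFunctor.comp (AlgSt.subIncl 𝒳 Q) f))
    (hQ₃ : ∀ Q' : 𝒳.obj → Prop, AlgSt.IsOpenSubstack 𝒳 Q' Scheme.fppfPrecoverage →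
      AlgSt.LocQ (AlgSp.LocP @Smooth) (BasedFunctor.comp (AlgSt.subIncl 𝒳 Q') f) → ∀ a, Q' a → Q a) :
    AlgSt.IsOpenSubstack (FibCat.fp y f) (fun b ↦ Q b.obj.snd) Scheme.fppfPrecoverage ∧
      AlgSt.LocQ (AlgSp.LocP @Smooth)
        (BasedFunctor.comp (AlgSt.subIncl (FibCat.fp y f) fun b ↦ Q b.obj.snd) (FibCat.fpFst y f)) ∧
      ∀ Q' : (FibCat.fp y f).obj → Prop, AlgSt.IsOpenSubstack (FibCat.fp y f) Q' Scheme.fppfPrecoverage →
        AlgSt.LocQ (AlgSp.LocP @Smooth) (BasedFunctor.comp (AlgSt.subIncl (FibCat.fp y f) Q') (FibCat.fpFst y f)) →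
        ∀ b, Q' b → Q b.obj.snd := by
  obtain ⟨d⟩ := Groth.Agent.AlgStLib.nonempty_smData h𝒳 h𝒴 f
  obtain ⟨d', hd'⟩ := Groth.Agent.AlgStLib.exists_smData_baseChange h𝒳 h𝒴 h𝒴' y d hy hfp
  obtain rfl := d.eq_ptsIn_T h𝒳 h𝒴 hQ₁ hQ₂ hQ₃
  have hM := Groth.Agent.AlgStLib.isAlgStack_fp h𝒴' h𝒳 h𝒴.isStack h𝒴.diag y f
  have hT : AlgSt.Points.map (FibCat.fpSnd y f) ⁻¹' d.T = d'.T := Set.ext fun p => (hd' p).symm
  have heq : (fun b : (FibCat.fp y f).obj => Groth.Agent.AlgStLib.PtsIn d.T b.obj.snd) =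
      Groth.Agent.AlgStLib.PtsIn d'.T := funext fun b => propext (by
    rw [← hT]
    exact Groth.Agent.AlgStLib.ptsIn_obj_iff h𝒳.isStack.1 hM.isStack.1 (FibCat.fpSnd y f) d.T b)
  have hP := Groth.Agent.AlgStLib.isOpenSubstack_ptsIn hM (d'.isOpen_T hM h𝒴')
  rw [heq]
  refine ⟨hP, ?_, fun Q' hQ' hf b hb => ?_⟩
  · exact d'.locQ_comp_of_range_subset hM h𝒴' hP.2.1 _ (Groth.Agent.AlgStLib.locQ_smooth_subIncl hM hP)
      fun p => Groth.Agent.AlgStLib.range_subIncl_ptsIn.subset ⟨p, rfl⟩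
  · rw [Groth.Agent.AlgStLib.eq_ptsIn_range hM hQ'] at hb
    refine (congrFun heq b).symm ▸ fun p φ => ?_
    obtain ⟨w, hw⟩ := hb p φ
    rw [← hw]
    exact d'.range_subset hM h𝒴' hQ'.2.1 _ (Groth.Agent.AlgStLib.locQ_smooth_subIncl hM hQ') hf w

end Groth.Agent.S19909
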