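import Groth.Statements.S19918
import Groth.Agent.ArInt.Twist

set_option linter.style.haveILetI false
set_option backward.isDefEq.respectTransparency false
set_option backward.isDefEq.respectTransparency.types false
set_option maxHeartbeats 1000000

set_option autoImplicit false
universe u
open CategoryTheory CategoryTheory.Limits AlgebraicGeometry
open Models

open Groth.Agent
open Groth.Agent.H23.PicMul

namespace Groth.Agent.S19918

/-- Kernel of Pic(X)[n] → Pic(C)[n]: let R be a discrete valuation ring with fraction field K, C a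
smooth proper curve over K with H^0(C, O_C) = K, X a regular proper model of C with generic-fibre
inclusion g : C → X, Γ_1, …, Γ_n the irreducible components of the closed fibre with multiplicities
m_1, …, m_n, d = gcd(m_1, …, m_n), and L_i invertible O_X-modules with L_i ⊗ I(Γ_i) ≅ O_X (that is,
L_i = O_X(Γ_i)). Let h ≥ 1 and put e = gcd(h, d). If M is an invertible O_X-module with M^{⊗h} ≅ O_X
whose pullback to C is trivial, then there is exactly one natural number k < e with M ≅ L_1^{k
m_1/e} ⊗ ⋯ ⊗ L_n^{k m_n/e} = O_X(k·(1/e)·X_s). In other words the kernel of Pic(X)[h] → Pic(C)[h] is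
cyclic of order gcd(h, d), generated by the class of O_X((1/e)·X_s). -/
theorem result (R : Type u) [CommRing R] [IsDomain R] [IsDiscreteValuationRing R]
    (C X : Scheme.{u}) (f : C ⟶ Spec (CommRingCat.of (FractionRing R))) (p : X ⟶ Spec (CommRingCat.of R))
    (hC : Curve.IsSmoothProperCurve (FractionRing R) C f) (hH0 : IsIso f.appTop)
    (hX : Models.IsRegularProperModel R X p C f)
    {n : ℕ} (Γ : Fin n → ArSurf.VertComp R (Over.mk p)) (hΓ : Models.IsComponentList R (Over.mk p) Γ)
    (g : C ⟶ X) (hg : IsPullback g f p (Spec.map (CommRingCat.ofHom (algebraMap R (FractionRing R)))))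
    (L : Fin n → X.Modules) (hL : ∀ i, ClSub.IsInverseOf (L i) (ClSub.idealMod (Γ i).ι.ker))
    (h : ℕ) (hh : 0 < h)
    (M : X.Modules) (hM : PicF.IsInvertible M)
    (htors : Nonempty (CohB1.tensorPow M h ≅ Coh.structureModule X))
    (htriv : Nonempty ((Scheme.Modules.pullback g).obj M ≅ Coh.structureModule C)) :
    ∃! k : ℕ, k < Nat.gcd h (Models.multGcd R (Over.mk p) Γ) ∧
      Nonempty (M ≅ FGA.multiTwist L (fun i => k * (Models.mult R (Over.mk p) (Γ i) / Nat.gcd h (Models.multGcd R (Over.mk p) Γ)))) := by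
  classical
  haveI := (ArInt.model_facts hC hX.1).1
  haveI := ArInt.isSurf hC hX Γ hΓ
  haveI : Flat (Over.mk p).hom := hX.1.1
  let M₁ : (Over.mk p).left.Modules := M
  let L' : Fin n → (Over.mk p).left.Modules := L
  let g' : C ⟶ (Over.mk p).left := g
  have hcov := ArInt.cover _ Γ hΓ
  have hbij : Function.Bijective (Over.mk p).hom.appTop := ArInt.bijective_appTop_model C X f p hH0 hX
  have hne : Nonempty (Fin n) := by
    obtain ⟨z, hz⟩ := (ArInt.isConnected_fibre hC hH0 hX).nonempty
    obtain ⟨i, -⟩ := Set.mem_iUnion.1 (hcov hz)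
    exact ⟨i⟩
  let m : Fin n → ℕ := fun i => Models.mult R (Over.mk p) (Γ i)
  let d := Models.multGcd R (Over.mk p) Γ
  let q := Nat.gcd h d
  have hq : 0 < q := Nat.gcd_pos_of_pos_left _ hh
  have hqm : ∀ i, q ∣ m i := fun i => (Nat.gcd_dvd_right h d).trans (Finset.gcd_dvd (Finset.mem_univ i))
  have hcl : ∀ e : Fin n → ℕ, Nonempty (M ≅ FGA.multiTwist L e) ↔ PicF.cl M₁ = ArInt.twistCl L' e := fun e => by
    rw [← ArInt.cl_twist]; exact (H23.PicMul.cl_eq_iff (X := (Over.mk p).left)).symm
  -- the class is a vertical twist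
  have htr : PicF.pullCl g' 1 = PicF.pullCl g' (PicF.cl M₁) := by
    rw [H23.PicMul.pullCl_one, H23.PicMul.one_def]
    exact (H23.PicMul.cl_eq_iff.2 htriv).symm
  rw [H23.PicMul.one_def] at htr
  obtain ⟨e, he⟩ := ArInt.exists_twist_of_iso Γ L' hL hcov g' f hg (M := Coh.structureModule (Over.mk p).left) (M' := M₁)
    CurveDeg.isInvertible_structureModule hM htr
  rw [← H23.PicMul.one_def, one_mul] at he
  have hMh : PicF.cl M₁ ^ h = 1 := by
    rw [← H23.PicMul.cl_tensorPow, H23.PicMul.one_def]; exact H23.PicMul.cl_eq_iff.2 htors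
  rw [he, ← ArInt.twistCl_smul, ← ArInt.twistCl_zero L'] at hMh
  obtain ⟨c, hc⟩ := (ArInt.twist_eq_iff Γ L' hL hΓ.1 hcov hbij _ _).1 hMh
  simp only [Pi.smul_apply, smul_eq_mul, Pi.zero_apply, Nat.cast_zero, sub_zero] at hc
  lift c to ℕ using (by
    obtain ⟨i⟩ := hne
    have h1 := hc i
    have h2 := ArInt.mult_pos Γ hΓ.1 i
    by_contra hneg
    push Not at hneg
    have : (0 : ℤ) ≤ ((h * e i : ℕ) : ℤ) := Int.natCast_nonneg _
    nlinarith) with c' hc'
  have hc2 : ∀ i, h * e i = c' * m i := fun i => by exact_mod_cast hc i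
  have hdvd : h ∣ c' * d := by
    have h1 : h ∣ Finset.univ.gcd (fun i => c' * m i) := Finset.dvd_gcd fun i _ => ⟨e i, (hc2 i).symm⟩
    rwa [Finset.gcd_mul_left, normalize_eq] at h1
  obtain ⟨s, hs⟩ : h / q ∣ c' := by
    have h1 : h / q ∣ c' * (d / q) := by
      rw [← Nat.mul_div_assoc c' (Nat.gcd_dvd_right h d)]
      exact Nat.div_dvd_div (Nat.gcd_dvd_left h d) hdvd
    exact (Nat.coprime_div_gcd_div_gcd hq).dvd_of_dvd_mul_right h1
  have hes : ∀ i, e i = s * (m i / q) := fun i => by
    have h1 : h * e i = h * (s * (m i / q)) := by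
      rw [hc2 i, hs]
      calc h / q * s * m i = h / q * s * (q * (m i / q)) := by rw [Nat.mul_div_cancel' (hqm i)]
        _ = q * (h / q) * (s * (m i / q)) := by ring
        _ = h * (s * (m i / q)) := by rw [Nat.mul_div_cancel' (Nat.gcd_dvd_left h d)]
    exact Nat.eq_of_mul_eq_mul_left hh h1
  have key : ∀ a b : ℕ, ArInt.twistCl L' (fun i => a * (m i / q)) = ArInt.twistCl L' (fun i => b * (m i / q)) ↔
      a % q = b % q := fun a b => by
    have hmq : ∀ i, ((m i : ℤ)) = (q : ℤ) * ((m i / q : ℕ) : ℤ) := fun i => by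
      exact_mod_cast (Nat.mul_div_cancel' (hqm i)).symm
    refine (ArInt.twist_eq_iff Γ L' hL hΓ.1 hcov hbij _ _).trans ?_
    constructor
    · rintro ⟨t, ht⟩
      obtain ⟨i⟩ := hne
      have h1 := ht i
      rw [show (Models.mult R (Over.mk p) (Γ i) : ℤ) = (m i : ℤ) from rfl, hmq i] at h1
      push_cast at h1
      have h2 : 0 < m i / q := Nat.div_pos (Nat.le_of_dvd (ArInt.mult_pos Γ hΓ.1 i) (hqm i)) hq
      have h3 : ((a : ℤ) - b) = t * q := mul_right_cancel₀ (by exact_mod_cast h2.ne' : ((m i / q : ℕ) : ℤ) ≠ 0)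
        (by push_cast; linear_combination h1)
      have h4 : ((b : ℤ)) % q = (a : ℤ) % q := Int.modEq_iff_dvd.2 ⟨t, by linear_combination h3⟩
      exact_mod_cast h4.symm
    · intro hab
      obtain ⟨t, ht⟩ := Int.modEq_iff_dvd.1 (show (b : ℤ) ≡ (a : ℤ) [ZMOD (q : ℤ)] by
        show (b : ℤ) % q = (a : ℤ) % q
        exact_mod_cast hab.symm)
      refine ⟨t, fun i => ?_⟩
      rw [show (Models.mult R (Over.mk p) (Γ i) : ℤ) = (m i : ℤ) from rfl]
      simp only [Nat.cast_mul]
      have h5 := hmq i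
      linear_combination ((m i / q : ℕ) : ℤ) * ht - t * h5
  refine ⟨s % q, ⟨Nat.mod_lt _ hq, ?_⟩, fun k' hk' => ?_⟩
  · refine (hcl _).2 ?_
    rw [he, show e = (fun i => s * (m i / q)) from funext hes]
    exact (key s (s % q)).2 (Nat.mod_mod _ _).symm
  · have h1 := ((hcl _).1 hk'.2).symm.trans he
    rw [show e = (fun i => s * (m i / q)) from funext hes] at h1
    have h2 := (key k' s).1 h1
    rwa [Nat.mod_eq_of_lt hk'.1] at h2

end Groth.Agent.S19918
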