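import Groth.Statements.S19920
import Groth.Agent.H7Index.Index
import Groth.Agent.H23.GysinPb
import Groth.Agent.H4FB.LengthMul
import Groth.Agent.CycLib.Push
import Groth.Agent.CycLib.DivMap
import Groth.Agent.QsAlgLib.Point

set_option autoImplicit false
universe u
open CategoryTheory CategoryTheory.Limits AlgebraicGeometry
open Models

set_option backward.isDefEq.respectTransparency false
set_option backward.isDefEq.respectTransparency.types false
attribute [-instance] CategoryTheory.catToReflQuiver

namespace Groth.Agent.S19920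

/-- The kernel of the map from the stalk of the total space to that of the special fibre. -/
theorem ker_stalkMap_fibre {R : Type u} [CommRing R] [IsLocalRing R] {X : Scheme.{u}}
    (f : X ⟶ Spec (CommRingCat.of R))
    (z : (pullback f (Spec.map (CommRingCat.ofHom (IsLocalRing.residue R))) : Scheme.{u})) :
    RingHom.ker ((pullback.fst f (Spec.map (CommRingCat.ofHom (IsLocalRing.residue R)))).stalkMap z).hom =
      (IsLocalRing.maximalIdeal R).map
        ((X.presheaf.germ ⊤ (pullback.fst f (Spec.map (CommRingCat.ofHom (IsLocalRing.residue R))) z) trivial).hom.comp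
          (Coh.toGlobal f)) := by
  let i : Spec (CommRingCat.of (IsLocalRing.ResidueField R)) ⟶ Spec (CommRingCat.of R) :=
    Spec.map (CommRingCat.ofHom (IsLocalRing.residue R))
  haveI : IsClosedImmersion i := IsClosedImmersion.spec_of_surjective _ IsLocalRing.residue_surjective
  let s := pullback.snd f i z
  have h3 : RingHom.ker (i.stalkMap s).hom = IsLocalRing.maximalIdeal ((Spec (CommRingCat.of R)).presheaf.stalk (i s)) := by
    refine le_antisymm (IsLocalRing.le_maximalIdeal (RingHom.ker_ne_top _)) fun a ha => ?_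
    have hsf : IsField ((Spec (CommRingCat.of (IsLocalRing.ResidueField R))).presheaf.stalk s) :=
      isField_stalk_of_closure_mem_irreducibleComponents _ s (by
        haveI : Subsingleton ↥(Spec (CommRingCat.of (IsLocalRing.ResidueField R))) :=
          inferInstanceAs (Subsingleton (PrimeSpectrum (IsLocalRing.ResidueField R)))
        rw [show closure ({s} : Set _) = Set.univ from
          Set.eq_univ_of_forall fun t => subset_closure (Subsingleton.elim t s)]
        rw [irreducibleComponents_eq_singleton]
        rfl)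
    letI := hsf.toField
    by_contra hne
    exact ha (IsUnit.of_map (i.stalkMap s).hom a (IsUnit.mk0 _ hne))
  have his : i s = IsLocalRing.closedPoint R := by
    apply PrimeSpectrum.ext
    show Ideal.comap (IsLocalRing.residue R) s.asIdeal = IsLocalRing.maximalIdeal R
    rw [show s.asIdeal = ⊥ from (Ideal.eq_bot_of_prime s.asIdeal), ← RingHom.ker_eq_comap_bot,
      IsLocalRing.ker_residue]
  refine (Groth.Agent.H23.GysinPb.ker_stalkMap_fst f i z).trans ?_
  rw [h3]
  letI : Algebra R ((Spec (CommRingCat.of R)).presheaf.stalk (i s)) := StructureSheaf.stalkAlgebra R (i s)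
  haveI : IsLocalization.AtPrime ((Spec (CommRingCat.of R)).presheaf.stalk (i s)) (i s).asIdeal :=
    StructureSheaf.IsLocalization.to_stalk (CommRingCat.of R) (i s)
  have halg : (algebraMap R ((Spec (CommRingCat.of R)).presheaf.stalk (i s))) =
      ((Scheme.ΓSpecIso (CommRingCat.of R)).inv ≫ (Spec (CommRingCat.of R)).presheaf.germ ⊤ (i s) trivial).hom := rfl
  rw [← IsLocalization.AtPrime.map_eq_maximalIdeal (i s).asIdeal, Ideal.map_map,
    show (i s).asIdeal = IsLocalRing.maximalIdeal R from by rw [his]; rfl]
  congr 1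
  rw [halg]
  show (((Scheme.ΓSpecIso (CommRingCat.of R)).inv ≫ (Spec (CommRingCat.of R)).presheaf.germ ⊤ (i s) trivial) ≫
    (Spec (CommRingCat.of R)).presheaf.stalkSpecializes _ ≫ f.stalkMap (pullback.fst f i z)).hom = _
  rw [Category.assoc, TopCat.Presheaf.germ_stalkSpecializes_assoc, Scheme.Hom.germ_stalkMap]
  rfl

/-- An integral quotient of a chart which is finite and dominant over `R` gives a closed point of the
generic fibre of the same degree. -/
theorem mem_indexSubgroup {R K : Type u} [CommRing R] [IsDomain R] [IsPrincipalIdealRing R] [Field K] [Algebra R K] [IsFractionRing R K]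
    {X : Scheme.{u}} (f : X ⟶ Spec (CommRingCat.of K)) [LocallyOfFiniteType f]
    {𝒳 : Scheme.{u}} (p : 𝒳 ⟶ Spec (CommRingCat.of R)) {g : X ⟶ 𝒳}
    (hpb : IsPullback g f p (Spec.map (CommRingCat.ofHom (algebraMap R K))))
    {A : Type u} [CommRing A] [Algebra R A] (j : Spec (CommRingCat.of A) ⟶ 𝒳) [IsOpenImmersion j]
    (hj : j ≫ p = Spec.map (CommRingCat.ofHom (algebraMap R A)))
    (P : Ideal A) [P.IsPrime] (hP : P.comap (algebraMap R A) = ⊥) [Module.Finite R (A ⧸ P)] :
    (Module.finrank R (A ⧸ P) : ℤ) ∈ Curv2.indexSubgroup f := by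
  let F := FractionRing (A ⧸ P)
  have hinj : Function.Injective (algebraMap R (A ⧸ P)) := by
    rw [RingHom.injective_iff_ker_eq_bot, show algebraMap R (A ⧸ P) = (Ideal.Quotient.mk P).comp (algebraMap R A) from rfl,
      ← RingHom.comap_ker, Ideal.mk_ker, hP]
  haveI : FaithfulSMul R (A ⧸ P) := (faithfulSMul_iff_algebraMap_injective R (A ⧸ P)).2 hinj
  haveI : FaithfulSMul R F := (faithfulSMul_iff_algebraMap_injective R F).2 (by
    rw [IsScalarTower.algebraMap_eq R (A ⧸ P) F]
    exact (IsFractionRing.injective (A ⧸ P) F).comp hinj)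
  letI : Algebra K F := (IsFractionRing.lift (FaithfulSMul.algebraMap_injective R F)).toAlgebra
  haveI : IsScalarTower R K F := IsScalarTower.of_algebraMap_eq fun r =>
    (IsFractionRing.lift_algebraMap (FaithfulSMul.algebraMap_injective R F) r).symm
  let φ : A →+* F := (algebraMap (A ⧸ P) F).comp (Ideal.Quotient.mk P)
  haveI : IsPreimmersion (Spec.map (CommRingCat.ofHom (Ideal.Quotient.mk P))) := by
    haveI := IsClosedImmersion.spec_of_surjective (CommRingCat.ofHom (Ideal.Quotient.mk P))
      Ideal.Quotient.mk_surjective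
    infer_instance
  haveI : IsPreimmersion (Spec.map (CommRingCat.ofHom (algebraMap (A ⧸ P) F))) :=
    IsPreimmersion.of_isLocalization (nonZeroDivisors (A ⧸ P))
  haveI : IsPreimmersion (Spec.map (CommRingCat.ofHom φ)) := by
    rw [CommRingCat.ofHom_comp, Spec.map_comp]; infer_instance
  have hw : (Spec.map (CommRingCat.ofHom φ) ≫ j) ≫ p =
      Spec.map (CommRingCat.ofHom (algebraMap K F)) ≫ Spec.map (CommRingCat.ofHom (algebraMap R K)) := by
    rw [Category.assoc, hj, ← Spec.map_comp, ← Spec.map_comp, ← CommRingCat.ofHom_comp, ← CommRingCat.ofHom_comp]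
    congr 2
    rw [← IsScalarTower.algebraMap_eq, IsScalarTower.algebraMap_eq R (A ⧸ P) F, RingHom.comp_assoc]
    rfl
  let s : Spec (CommRingCat.of F) ⟶ X := hpb.lift (Spec.map (CommRingCat.ofHom φ) ≫ j)
    (Spec.map (CommRingCat.ofHom (algebraMap K F))) hw
  have hs1 : s ≫ g = Spec.map (CommRingCat.ofHom φ) ≫ j := hpb.lift_fst _ _ _
  have hs2 : s ≫ f = Spec.map (CommRingCat.ofHom (algebraMap K F)) := hpb.lift_snd _ _ _
  haveI : IsPreimmersion (Spec.map (CommRingCat.ofHom (algebraMap R K))) :=
    IsPreimmersion.of_isLocalization (nonZeroDivisors R)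
  haveI : IsPreimmersion g := MorphismProperty.of_isPullback (P := @IsPreimmersion) hpb.flip inferInstance
  haveI : IsPreimmersion (s ≫ g) := by rw [hs1]; infer_instance
  haveI : IsPreimmersion s := IsPreimmersion.of_comp s g
  -- the degree
  haveI : Algebra.IsAlgebraic R (A ⧸ P) := Algebra.IsIntegral.isAlgebraic
  obtain ⟨hrank, hfinK⟩ := Groth.Agent.H7Index.finrank_fractionRing R K (A ⧸ P) F
  haveI := hfinK
  haveI : LocallyOfFiniteType (s ≫ f) := by
    rw [hs2, HasRingHomProperty.Spec_iff (P := @LocallyOfFiniteType)]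
    exact RingHom.finiteType_algebraMap.2 inferInstance
  haveI : LocallyOfFiniteType s := locallyOfFiniteType_of_comp s f
  haveI : JacobsonSpace X := LocallyOfFiniteType.jacobsonSpace f
  let pt : Spec (CommRingCat.of F) := (⊥ : PrimeSpectrum F)
  have hclosed : IsClosed ({s pt} : Set X) :=
    s.closePoints_subset_preimage_closedPoints (show IsClosed ({pt} : Set (Spec (CommRingCat.of F))) from by
      haveI : Subsingleton ↥(Spec (CommRingCat.of F)) := inferInstanceAs (Subsingleton (PrimeSpectrum F))
      rw [Set.Subsingleton.eq_singleton_of_mem Set.subsingleton_univ (Set.mem_univ pt) |>.symm]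
      exact isClosed_univ)
  refine AddSubgroup.subset_closure ⟨s pt, hclosed, ?_⟩
  have h1 := Groth.Agent.CycLib.residueDegree_comp s f pt
  rw [Groth.Agent.CycLib.residueDegree_preimmersion (j := s) pt, mul_one] at h1
  have h2 := Groth.Agent.QsAlgLib.residueDegree_specMap (k := K) pt
  show (f.residueDegree (s pt) : ℤ) = _
  rw [hrank, ← h1, ← h2]
  exact_mod_cast Groth.Agent.CycLib.residueDegree_congr hs2 pt

/-- Let R be a discrete valuation ring that is Henselian, whose residue field k is algebraically closed,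
with fraction field K, and let 𝒳 be an R-scheme of finite type, flat over R, whose generic fibre is
X (𝒳 is a model of the K-scheme X) and special fibre Y = 𝒳 ⊗_R k. Then the index of X over K (the
greatest common divisor of the degrees of its closed points) divides the multiplicity of Y (the
greatest common divisor of the lengths of the local rings of Y at its points of codimension 0): for
every point η of Y which is maximal for specialization, the local ring O_{Y,η} has finite length ℓ
and ℓ lies in the subgroup of ℤ generated by the degrees of the closed points of X. -/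
theorem result (R : Type u) [CommRing R]
    [IsDomain R] [IsDiscreteValuationRing R] [HenselianLocalRing R] (hk : IsAlgClosed (IsLocalRing.ResidueField R))
    (X : Scheme.{u}) (f : X ⟶ Spec (CommRingCat.of (FractionRing R)))
    (𝒳 : Scheme.{u}) (p : 𝒳 ⟶ Spec (CommRingCat.of R)) (h𝒳 : Models.IsModel R 𝒳 p X f)
    (η : ↥(Models.specialFibre R 𝒳 p)) (hη : ∀ y : ↥(Models.specialFibre R 𝒳 p), y ⤳ η → y = η) :
    ∃ ℓ : ℕ, Module.length ((Models.specialFibre R 𝒳 p).presheaf.stalk η) ((Models.specialFibre R 𝒳 p).presheaf.stalk η) = ℓ ∧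
      (ℓ : ℤ) ∈ Curv2.indexSubgroup f := by
  obtain ⟨hflat, hlft, hqc, g, hpb⟩ := h𝒳
  haveI : LocallyOfFiniteType f := MorphismProperty.of_isPullback hpb hlft
  haveI := hk
  let i : Spec (CommRingCat.of (IsLocalRing.ResidueField R)) ⟶ Spec (CommRingCat.of R) :=
    Spec.map (CommRingCat.ofHom (IsLocalRing.residue R))
  haveI : IsClosedImmersion i := IsClosedImmersion.spec_of_surjective _ IsLocalRing.residue_surjective
  let q : Models.specialFibre R 𝒳 p ⟶ 𝒳 := pullback.fst p i
  haveI : IsClosedImmersion q := MorphismProperty.pullback_fst p i inferInstance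
  obtain ⟨_, ⟨V, hV, rfl⟩, hxV, -⟩ :=
    𝒳.isBasis_affineOpens.exists_subset_of_mem_open (Set.mem_univ (q η)) isOpen_univ
  replace hV : IsAffineOpen V := hV
  let A := Γ(𝒳, V)
  let ι : R →+* A := ((𝒳.presheaf.map (homOfLE le_top).op).hom.comp (Coh.toGlobal p) : R →+* A)
  letI : Algebra R A := ι.toAlgebra
  have hj : hV.fromSpec ≫ p = Spec.map (CommRingCat.ofHom (algebraMap R A)) := by
    rw [← IsAffineOpen.SpecMap_appLE_fromSpec p (isAffineOpen_top _) hV le_top, IsAffineOpen.fromSpec_top,
      Scheme.isoSpec_Spec_inv, ← Spec.map_comp]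
    congr 1
  haveI : LocallyOfFiniteType (Spec.map (CommRingCat.ofHom (algebraMap R A))) := hj ▸ inferInstance
  haveI : Flat (Spec.map (CommRingCat.ofHom (algebraMap R A))) := hj ▸ inferInstance
  haveI : Algebra.FiniteType R A :=
    RingHom.finiteType_algebraMap.1 ((HasRingHomProperty.Spec_iff (P := @LocallyOfFiniteType) (φ := CommRingCat.ofHom (algebraMap R A))).1 inferInstance)
  haveI : Module.Flat R A :=
    RingHom.flat_algebraMap_iff.1 ((HasRingHomProperty.Spec_iff (P := @Flat) (φ := CommRingCat.ofHom (algebraMap R A))).1 inferInstance)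
  let L := 𝒳.presheaf.stalk (q η)
  letI : Algebra A L := TopCat.Presheaf.algebra_section_stalk 𝒳.presheaf ⟨q η, hxV⟩
  let P : Ideal A := (hV.primeIdealOf ⟨q η, hxV⟩).asIdeal
  haveI : IsLocalization.AtPrime L P := hV.isLocalization_stalk ⟨q η, hxV⟩
  have hker : RingHom.ker (q.stalkMap η).hom = ((IsLocalRing.maximalIdeal R).map (algebraMap R A)).map (algebraMap A L) := by
    refine (ker_stalkMap_fibre p η).trans ?_
    rw [Ideal.map_map]
    congr 1
    refine RingHom.ext fun r => ?_
    exact (TopCat.Presheaf.germ_res_apply 𝒳.presheaf (homOfLE le_top) (q η) hxV (Coh.toGlobal p r)).symm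
  have hmin : P ∈ ((IsLocalRing.maximalIdeal R).map (algebraMap R A)).minimalPrimes := by
    refine ⟨⟨inferInstance, ?_⟩, fun Q hQ hQP => ?_⟩
    · intro a ha
      have h1 : algebraMap A L a ∈ RingHom.ker (q.stalkMap η).hom := hker ▸ Ideal.mem_map_of_mem _ ha
      have h2 := IsLocalRing.le_maximalIdeal (RingHom.ker_ne_top (q.stalkMap η).hom) h1
      exact (IsLocalization.AtPrime.to_map_mem_maximal_iff L P a).1 h2
    · haveI := hQ.1
      let y0 : Spec (CommRingCat.of A) := (⟨Q, hQ.1⟩ : PrimeSpectrum A)
      have hyp : p (hV.fromSpec y0) = IsLocalRing.closedPoint R := by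
        rw [← Scheme.Hom.comp_apply, hj]
        exact PrimeSpectrum.ext ((IsLocalRing.maximalIdeal.isMaximal R).eq_of_le (Ideal.IsPrime.ne_top inferInstance)
            (Ideal.map_le_iff_le_comap.1 hQ.2)).symm
      have hclosedpt : i (IsLocalRing.closedPoint (IsLocalRing.ResidueField R)) = IsLocalRing.closedPoint R :=
        PrimeSpectrum.ext (by
          show Ideal.comap (IsLocalRing.residue R) (IsLocalRing.maximalIdeal (IsLocalRing.ResidueField R)) = _
          rw [IsLocalRing.maximalIdeal_eq_bot, ← RingHom.ker_eq_comap_bot, IsLocalRing.ker_residue]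
          rfl)
      obtain ⟨y, hy, -⟩ := Scheme.Pullback.exists_preimage_pullback (f := p) (g := i) (hV.fromSpec y0)
        (IsLocalRing.closedPoint (IsLocalRing.ResidueField R)) (hyp.trans hclosedpt.symm)
      have hy' : q y = hV.fromSpec y0 := hy
      have hspec : hV.fromSpec y0 ⤳ q η := by
        have h := ((PrimeSpectrum.le_iff_specializes y0 (hV.primeIdealOf ⟨q η, hxV⟩)).1 hQP).map hV.fromSpec.continuous
        exact (congrArg (fun w => hV.fromSpec y0 ⤳ w) (hV.fromSpec_primeIdealOf ⟨q η, hxV⟩)).mp h
      have hyη : y = η := hη y (q.isEmbedding.toIsInducing.specializes_iff.1 (hy' ▸ hspec))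
      have heq : y0 = hV.primeIdealOf ⟨q η, hxV⟩ := hV.fromSpec.isOpenEmbedding.injective (by
        rw [hV.fromSpec_primeIdealOf, ← hy', hyη])
      exact (congrArg PrimeSpectrum.asIdeal heq).ge
  obtain ⟨ℓ, hℓ, hmem⟩ := Groth.Agent.H7Index.exists_length_mem_horizRanks R A P hmin
  refine ⟨ℓ, ?_, ?_⟩
  · refine (Groth.Agent.H4FB.length_quotient_eq _ (q.stalkMap_surjective η) hker).symm.trans ?_
    exact (Groth.Agent.H7Index.length_quotient_localization P _ L).trans hℓ
  · refine AddSubgroup.closure_le _ |>.2 ?_ hmem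
    rintro _ ⟨Q, hQp, hQ, hQfin, rfl⟩
    haveI := hQp
    haveI := hQfin
    exact mem_indexSubgroup f p hpb hV.fromSpec hj Q hQ

end Groth.Agent.S19920
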