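import Groth.Statements.S19924
import Groth.Agent.ArInt.Twist

set_option linter.style.haveILetI false
set_option backward.isDefEq.respectTransparency false
set_option backward.isDefEq.respectTransparency.types false
set_option maxHeartbeats 1000000

set_option autoImplicit false
universe u
open CategoryTheory CategoryTheory.Limits AlgebraicGeometry
open Models

open Groth.Agent
open Groth.Agent.H23.PicMul

namespace Groth.Agent.S19924

/-- Let R be a discrete valuation ring with fraction field K, C a smooth proper curve over K with H^0(C,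
O_C) = K, X a regular proper model of C with generic-fibre inclusion g : C → X, Γ_1, …, Γ_n the
irreducible components of the closed fibre with multiplicities m_1, …, m_n, and L_i invertible
O_X-modules with L_i ⊗ I(Γ_i) ≅ O_X. Let h ≥ 1, let N be an invertible O_C-module with N^{⊗h} ≅ O_C,
let M be an invertible O_X-module whose pullback to C is N, and let a, b be exponent vectors with
M^{⊗h} ⊗ L_1^{a_1} ⊗ ⋯ ⊗ L_n^{a_n} ≅ L_1^{b_1} ⊗ ⋯ ⊗ L_n^{b_n}, i.e. M^{⊗h} ≅ O_X(Σ (b_i − a_i)
Γ_i). Then N is the pullback of some invertible O_X-module M' with M'^{⊗h} ≅ O_X if and only if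
there are integers c_1, …, c_n and e with b_i − a_i = h c_i + e m_i for all i: the class of Σ (b_i −
a_i) Γ_i modulo h ℤ^n + ℤ·(m_1, …, m_n) is the obstruction to lifting the h-torsion class N to an
h-torsion class on X. -/
theorem result (R : Type u) [CommRing R] [IsDomain R] [IsDiscreteValuationRing R]
    (C X : Scheme.{u}) (f : C ⟶ Spec (CommRingCat.of (FractionRing R))) (p : X ⟶ Spec (CommRingCat.of R))
    (hC : Curve.IsSmoothProperCurve (FractionRing R) C f) (hH0 : IsIso f.appTop)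
    (hX : Models.IsRegularProperModel R X p C f)
    {n : ℕ} (Γ : Fin n → ArSurf.VertComp R (Over.mk p)) (hΓ : Models.IsComponentList R (Over.mk p) Γ)
    (g : C ⟶ X) (hg : IsPullback g f p (Spec.map (CommRingCat.ofHom (algebraMap R (FractionRing R)))))
    (L : Fin n → X.Modules) (hL : ∀ i, ClSub.IsInverseOf (L i) (ClSub.idealMod (Γ i).ι.ker))
    (h : ℕ) (hh : 0 < h)
    (N : C.Modules) (hN : PicF.IsInvertible N) (hNt : Nonempty (CohB1.tensorPow N h ≅ Coh.structureModule C))
    (M : X.Modules) (hM : PicF.IsInvertible M) (hMN : Nonempty ((Scheme.Modules.pullback g).obj M ≅ N))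
    (a b : Fin n → ℕ)
    (hab : Nonempty (CohB1.tensorMod (CohB1.tensorPow M h) (FGA.multiTwist L a) ≅ FGA.multiTwist L b)) :
    (∃ M' : X.Modules, PicF.IsInvertible M' ∧ Nonempty (CohB1.tensorPow M' h ≅ Coh.structureModule X) ∧
        Nonempty ((Scheme.Modules.pullback g).obj M' ≅ N)) ↔
      ∃ (c : Fin n → ℤ) (e : ℤ), ∀ i, ((b i : ℤ) - (a i : ℤ)) = (h : ℤ) * c i + e * (Models.mult R (Over.mk p) (Γ i) : ℤ) := by
  classical
  haveI := (ArInt.model_facts hC hX.1).1
  haveI := ArInt.isSurf hC hX Γ hΓ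
  haveI : Flat (Over.mk p).hom := hX.1.1
  let M₁ : (Over.mk p).left.Modules := M
  let L' : Fin n → (Over.mk p).left.Modules := L
  let g' : C ⟶ (Over.mk p).left := g
  have hcov := ArInt.cover _ Γ hΓ
  have hbij : Function.Bijective (Over.mk p).hom.appTop := ArInt.bijective_appTop_model C X f p hH0 hX
  have hMN' : PicF.pullCl g' (PicF.cl M₁) = PicF.cl N := H23.PicMul.cl_eq_iff.2 hMN
  have hab' : PicF.cl M₁ ^ h * ArInt.twistCl L' a = ArInt.twistCl L' b := by
    rw [← ArInt.cl_twist, ← ArInt.cl_twist, ← H23.PicMul.cl_tensorPow, ← H23.PicMul.cl_tensor]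
    exact H23.PicMul.cl_eq_iff.2 hab
  -- the twist of `M` by `ε` is killed by `h` iff the exponents agree up to the fibre
  have key : ∀ ε : Fin n → ℕ, (PicF.cl M₁ * ArInt.twistCl L' ε) ^ h = 1 ↔
      ∃ t : ℤ, ∀ i, ((b i : ℤ) + h * (ε i : ℤ)) - (a i : ℤ) = t * (Models.mult R (Over.mk p) (Γ i) : ℤ) := fun ε => by
    have h1 : (PicF.cl M₁ * ArInt.twistCl L' ε) ^ h * ArInt.twistCl L' a = ArInt.twistCl L' (b + h • ε) := by
      rw [ArInt.twistCl_add, ArInt.twistCl_smul, ← hab', mul_pow]; ac_rfl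
    refine Iff.trans ?_ ((ArInt.twist_eq_iff Γ L' hL hΓ.1 hcov hbij (b + h • ε) a).trans
      (exists_congr fun t => forall_congr' fun i => by simp))
    show _ ↔ ArInt.twistCl L' (b + h • ε) = ArInt.twistCl L' a
    rw [← h1]
    exact ⟨fun h2 => by rw [h2, one_mul], fun h2 => ArInt.twistCl_cancel Γ L' hL a (by rw [h2, one_mul])⟩
  constructor
  · rintro ⟨M', hM', htor, hM'N⟩
    let M₂ : (Over.mk p).left.Modules := M'
    obtain ⟨ε, hε⟩ := ArInt.exists_twist_of_iso Γ L' hL hcov g' f hg (M := M₁) (M' := M₂) hM hM'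
      (hMN'.trans (H23.PicMul.cl_eq_iff.2 hM'N).symm)
    have hh' : PicF.cl M₂ ^ h = 1 := by
      rw [← H23.PicMul.cl_tensorPow, H23.PicMul.one_def]; exact H23.PicMul.cl_eq_iff.2 htor
    rw [hε] at hh'
    obtain ⟨t, ht⟩ := (key ε).1 hh'
    exact ⟨fun i => -(ε i : ℤ), t, fun i => by linear_combination ht i⟩
  · rintro ⟨c, t, ht⟩
    let K := ∑ i, (c i).natAbs
    let ε : Fin n → ℕ := fun i => ((K : ℤ) * Models.mult R (Over.mk p) (Γ i) - c i).toNat
    have he : ∀ i, (ε i : ℤ) = (K : ℤ) * Models.mult R (Over.mk p) (Γ i) - c i := fun i => by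
      refine Int.toNat_of_nonneg ?_
      have h1 : (c i).natAbs ≤ K := Finset.single_le_sum (fun j _ => Nat.zero_le ((c j).natAbs)) (Finset.mem_univ i)
      have h2 := ArInt.mult_pos Γ hΓ.1 i
      have h3 : c i ≤ (K : ℤ) := by omega
      nlinarith
    refine ⟨CohB1.tensorMod M₁ (FGA.multiTwist L' ε),
      H23.PicMul.isInvertible_tensor hM (ArInt.isInvertible_multiTwist Γ L' hL ε), H23.PicMul.cl_eq_iff.1 ?_,
      H23.PicMul.cl_eq_iff.1 ?_⟩
    · show PicF.cl (CohB1.tensorPow (CohB1.tensorMod M₁ (FGA.multiTwist L' ε)) h) =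
        PicF.cl (Coh.structureModule (Over.mk p).left)
      rw [H23.PicMul.cl_tensorPow, H23.PicMul.cl_tensor, ArInt.cl_twist, ← H23.PicMul.one_def]
      exact (key ε).2 ⟨t + h * K, fun i => by rw [he i]; linear_combination ht i⟩
    · show PicF.pullCl g' (PicF.cl (CohB1.tensorMod M₁ (FGA.multiTwist L' ε))) = _
      rw [H23.PicMul.cl_tensor, H23.PicMul.pullCl_mul, hMN', ArInt.cl_twist,
        ArInt.pullCl_twistCl Γ L' hL g' f hg ε, mul_one]

end Groth.Agent.S19924
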