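import Groth.Statements.S19945
import Groth.Agent.AVTheta.Local
-- import your own Groth.Agent.* helpers here

set_option autoImplicit false
universe u
open CategoryTheory MonoidalCategory CartesianMonoidalCategory MonObj GrpObj AlgebraicGeometry
open ThetaGrp

set_option backward.isDefEq.respectTransparency false
set_option backward.isDefEq.respectTransparency.types false
set_option synthInstance.maxHeartbeats 400000
set_option maxHeartbeats 1000000
set_option linter.style.haveILetI false

namespace Groth.Agent.S19945

/-- Let X be an abelian variety over a field k (a proper, geometrically integral, commutative k-group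
scheme), L an invertible O_X-module and i : K → X a closed immersion exhibiting K as K(L), the
maximal closed subscheme of X over which the Mumford bundle m^*L ⊗ p_1^*L⁻¹ ⊗ p_2^*L⁻¹, restricted
to X ×_k K, is the inverse image of an invertible module on K, with its universal property for
morphisms T → X. For a k-scheme T and a T-valued point x of X, the following are equivalent: x
factors through i; every point of T has an open neighbourhood U over which some point of the theta
group G(L)(U) lies over the restriction of x, that is, there is an isomorphism L_U ≅ t_x^*L_U of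
modules on X ×_k U. In other words the map G(L) → X, (x, φ) ↦ x, has image the subfunctor K(L),
surjectively for the Zariski topology. -/
theorem result (k : Type u) [Field k]
    (A : Over (Spec (CommRingCat.of k))) [GrpObj A] [IsCommMonObj A] [IsProper A.hom] [GeometricallyIntegral A.hom]
    (L : A.left.Modules) (hL : PicF.IsInvertible L)
    (K : Over (Spec (CommRingCat.of k))) (iK : K ⟶ A) (hK : ThetaGrp.IsKL A L iK)
    (T : Over (Spec (CommRingCat.of k))) (x : T ⟶ A) :
    (∃ y : T ⟶ K, y ≫ iK = x) ↔
      ∀ t : ↥T.left, ∃ U : T.left.Opens, t ∈ U ∧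
        ∃ β : ThetaGrp.thetaPts A L (Over.mk (U.ι ≫ T.hom)),
          ThetaGrp.IsOverPt β ((Over.homMk U.ι rfl : Over.mk (U.ι ≫ T.hom) ⟶ T) ≫ x) := by
  constructor
  · rintro ⟨y, rfl⟩ t
    obtain ⟨U, ht, β, hβ⟩ := AVTheta.exists_local_pts hL (y ≫ iK) ((hK.univ T _).2 ⟨y, rfl⟩) t
    exact ⟨U, ht, β, hβ⟩
  · intro h
    choose U hU β hβ using h
    have hy : ∀ t, ∃ y : AVTheta.ovOpen T (U t) ⟶ K, y ≫ iK = AVTheta.ovIncl T (U t) ≫ x := fun t =>
      (hK.univ _ _).1 (AVTheta.mumford_of_pts hL (hβ t))
    choose y hy using hy
    haveI : IsClosedImmersion iK.left := hK.closed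
    let 𝒰 : T.left.OpenCover := T.left.openCoverOfIsOpenCover U
      (TopologicalSpace.IsOpenCover.mk (TopologicalSpace.Opens.ext (Set.eq_univ_of_forall fun t =>
        TopologicalSpace.Opens.mem_iSup.2 ⟨t, hU t⟩)))
    have hf : ∀ t, (y t).left ≫ iK.left = 𝒰.f t ≫ x.left := fun t => congrArg CommaMorphism.left (hy t)
    let l := 𝒰.glueMorphisms (fun t => (y t).left) fun a b => by
      rw [← cancel_mono iK.left, Category.assoc, Category.assoc, hf, hf, Limits.pullback.condition_assoc]
    have hl : l ≫ iK.left = x.left := 𝒰.hom_ext _ _ fun t => by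
      rw [← Category.assoc, 𝒰.ι_glueMorphisms, hf]
    exact ⟨Over.homMk l (by rw [← Over.w iK, ← Category.assoc, hl, Over.w]), Over.OverMorphism.ext hl⟩


end Groth.Agent.S19945
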