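import Groth.Statements.S19946
import Groth.Agent.AVTheta.Local
-- import your own Groth.Agent.* helpers here

set_option autoImplicit false
universe u
open CategoryTheory MonoidalCategory CartesianMonoidalCategory MonObj GrpObj AlgebraicGeometry
open ThetaGrp

set_option backward.isDefEq.respectTransparency false
set_option backward.isDefEq.respectTransparency.types false
set_option synthInstance.maxHeartbeats 400000
set_option maxHeartbeats 1000000
set_option linter.style.haveILetI false

namespace Groth.Agent.S19946

/-- Let X be an abelian variety over a field k (a proper, geometrically integral, commutative k-group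
scheme) and L an invertible O_X-module whose subscheme K(L) is all of X: the identity of X has the
universal property of K(L), i.e. for every k-scheme Z and every Z-valued point z of X the Mumford
bundle m^*L ⊗ p_1^*L⁻¹ ⊗ p_2^*L⁻¹ restricted along X ×_k Z → X ×_k X is the inverse image of an
invertible module on Z (equivalently, the class of L lies in Pic⁰_{X/k}). Then the commutator
pairing e_L of the theta group is identically 1: for every k-scheme T, any two points (x₁, φ₁), (x₂,
φ₂) of G(L)(T) (x_i a T-valued point of X, φ_i : L_T ≅ t_{x_i}^*L_T) commute. -/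
theorem result (k : Type u) [Field k]
    (A : Over (Spec (CommRingCat.of k))) [GrpObj A] [IsCommMonObj A] [IsProper A.hom] [GeometricallyIntegral A.hom]
    (L : A.left.Modules) (hL : PicF.IsInvertible L)
    (hK : ThetaGrp.IsKL A L (𝟙 A))
    (T : Over (Spec (CommRingCat.of k))) (β₁ β₂ : ThetaGrp.thetaPts A L T) :
    β₁ * β₂ = β₂ * β₁ := by
  haveI : GeometricallyConnected A.hom := AVTorsLib.geometricallyConnected_of_geometricallyIntegral A.hom
  have htriv : ∀ (Z : Over (Spec (CommRingCat.of k))) (z : Z ⟶ A), ThetaGrp.IsMumfordTriv A L z :=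
    fun Z z => (hK.univ Z z).2 ⟨z, Category.comp_id z⟩
  obtain ⟨e, he⟩ := AVTheta.exists_global_comm hL (fst A A) (snd A A) (htriv _ _) (htriv _ _)
  have hconst := H23.CubeField.bijective_appTop_prod A A (H23.CubeField.bijective_appTop_of_connected A)
    (H23.CubeField.bijective_appTop_of_connected A)
  obtain ⟨c, hc⟩ := hconst.2 e
  have he1 : e = 1 := by
    have h1 := he (𝟙_ (Over (Spec (CommRingCat.of k)))) (lift (1 : 𝟙_ _ ⟶ A) 1) 1 1
      (by rw [lift_fst]; exact AVTheta.isOverPt_one) (by rw [lift_snd]; exact AVTheta.isOverPt_one)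
    have h2 := AVTheta.isComm_unique hL h1 ((AVTheta.isComm_one_iff _ _).2 rfl)
    rw [← hc, ← ConcreteCategory.comp_apply, ← Scheme.Hom.comp_appTop, Over.w,
      show (𝟙_ (Over (Spec (CommRingCat.of k)))).hom = 𝟙 _ from rfl, Scheme.Hom.id_appTop] at h2
    rw [← hc, show c = 1 from h2, map_one]
  obtain ⟨x₁, hx₁⟩ := AVTheta.exists_pt β₁
  obtain ⟨x₂, hx₂⟩ := AVTheta.exists_pt β₂
  have h := he T (lift x₁ x₂) β₁ β₂ (by rw [lift_fst]; exact hx₁) (by rw [lift_snd]; exact hx₂)
  rw [he1, map_one] at h
  exact (AVTheta.isComm_one_iff _ _).1 h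


end Groth.Agent.S19946
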