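import Groth.Statements.S19947
import Groth.Agent.AVTheta.KerDescent
import Groth.Agent.S19953
-- import your own Groth.Agent.* helpers here

set_option autoImplicit false
universe u
open CategoryTheory MonoidalCategory CartesianMonoidalCategory MonObj GrpObj AlgebraicGeometry
open ThetaGrp

set_option backward.isDefEq.respectTransparency false
set_option backward.isDefEq.respectTransparency.types false
set_option synthInstance.maxHeartbeats 400000
set_option maxHeartbeats 1000000
set_option linter.style.haveILetI false
attribute [-instance] CategoryTheory.catToReflQuiver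

namespace Groth.Agent.S19947

/-- Let f : X → Y be a surjective homomorphism of abelian varieties over a field k (proper,
geometrically integral, commutative k-group schemes), i : N → X its kernel (a homomorphism of
k-group schemes forming a cartesian square with the unit section of Y), L an invertible O_X-module,
and G a k-group scheme with a point u ∈ G(L)(G) representing the theta group of L (every point of
G(L)(T) is the base change of u along a unique T → G, multiplicatively). Then L descends to Y, i.e.
there is an invertible O_Y-module M with f^*M ≅ L, if and only if the inclusion i lifts to a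
homomorphism of group schemes j : N → G over X: for every k-scheme T and every T-valued point n of
N, the base change of u along j(n) lies over the translation by i(n). (The source states a bijection
between the isomorphism classes of such M and the set of such homomorphisms; this row states that
one set is non-empty exactly when the other is.) -/
theorem result (k : Type u) [Field k]
    (A : Over (Spec (CommRingCat.of k))) [GrpObj A] [IsCommMonObj A] [IsProper A.hom] [GeometricallyIntegral A.hom]
    (B : Over (Spec (CommRingCat.of k))) [GrpObj B] [IsCommMonObj B] [IsProper B.hom] [GeometricallyIntegral B.hom]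
    (f : A ⟶ B) [IsMonHom f] (hf : Surjective f.left)
    (N : Over (Spec (CommRingCat.of k))) [GrpObj N] (i : N ⟶ A) [IsMonHom i] (hN : AlgGrp.IsKernel i f)
    (L : A.left.Modules) (hL : PicF.IsInvertible L)
    (G : Over (Spec (CommRingCat.of k))) [GrpObj G] (u : ThetaGrp.thetaPts A L G)
    (hG : ThetaGrp.IsThetaGrpSch A L G u) :
    (∃ M : B.left.Modules, PicF.IsInvertible M ∧ Nonempty ((Scheme.Modules.pullback f.left).obj M ≅ L)) ↔
      ∃ j : N ⟶ G, IsMonHom j ∧
        ∀ (T : Over (Spec (CommRingCat.of k))) (n : T ⟶ N) (β : ThetaGrp.thetaPts A L T),
          ThetaGrp.IsBaseChange β (n ≫ j) u → ThetaGrp.IsOverPt β (n ≫ i) := by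
  open Groth.Agent.AVTheta in
  exact (by
  constructor
  · rintro ⟨M, hM, hLM⟩
    obtain ⟨j, hj, -, hover⟩ := Groth.Agent.S19953.result k A B f hf N i hN L hL M hM hLM G u hG
    exact ⟨j, hj, hover⟩
  · rintro ⟨j, hj, hover⟩
    haveI := hj
    haveI := hf
    haveI : Mono i := IsogLib.mono_kernel f hN
    haveI : IsCommMonObj N := ⟨by
      rw [← cancel_mono i, Category.assoc, IsMonHom.mul_hom, ← Category.assoc, ← BraidedCategory.braiding_naturality,
        Category.assoc, IsCommMonObj.mul_comm A]⟩
    let Bn : ∀ {T : Over (Spec (CommRingCat.of k))}, (T ⟶ N) → ThetaGrp.thetaPts A L T := fun {T} n =>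
      (hG.exists_bc T (n ≫ j)).exists.choose
    have hBn : ∀ {T : Over (Spec (CommRingCat.of k))} (n : T ⟶ N), ThetaGrp.IsBaseChange (Bn n) (n ≫ j) u :=
      fun {T} n => (hG.exists_bc T (n ≫ j)).exists.choose_spec
    refine exists_descent_of_action f i hN hL Bn (fun {T} n => hover T n _ (hBn n)) (fun {T T'} g n => ?_)
      (fun {T} n m => ?_)
    · obtain ⟨β, hβ, -⟩ := existsUnique_bc g (Bn n)
      have h := (hG.exists_bc T' ((g ≫ n) ≫ j)).unique
        (by rw [Category.assoc]; exact isBaseChange_comp (hBn n) hβ) (hBn (g ≫ n))
      rw [← h]
      exact hβ
    · have hm := hG.mul T _ _ _ _ (hBn n) (hBn m)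
      rw [← MonObj.mul_comp] at hm
      exact (hG.exists_bc T ((n * m) ≫ j)).unique hm (hBn (n * m)))


end Groth.Agent.S19947
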