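import Groth.Statements.S19952
import Groth.Agent.AVTheta.LevelQuot
-- import your own Groth.Agent.* helpers here

set_option autoImplicit false
universe u
open CategoryTheory MonoidalCategory CartesianMonoidalCategory MonObj GrpObj AlgebraicGeometry
open ThetaGrp

set_option backward.isDefEq.respectTransparency false
set_option backward.isDefEq.respectTransparency.types false
set_option synthInstance.maxHeartbeats 400000
set_option maxHeartbeats 1000000
set_option linter.style.haveILetI false
attribute [-instance] CategoryTheory.catToReflQuiver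

namespace Groth.Agent.S19952

/-- Let X be an abelian variety over a field k (a proper, geometrically integral, commutative k-group
scheme), L an invertible O_X-module, and G a k-group scheme with a point u ∈ G(L)(G) representing
the theta group of L (every point of G(L)(T) is the base change of u along a unique T → G,
multiplicatively). Let j : H → G be a level subgroup — H a k-group scheme, j a homomorphism of group
schemes and an immersion, such that a point of H whose image lies over the identity translation is
trivial — and let i_H : H → X be the morphism it lies over: for every k-scheme T and T-valued point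
h of H the base change of u along j(h) lies over the translation by i_H(h). Then there are an
abelian variety Y over k (proper, geometrically integral k-group scheme), a surjective homomorphism
f : X → Y whose kernel is i_H (i_H and f form a cartesian square with the unit section of Y), and an
invertible O_Y-module M with f^*M ≅ L. (The source states a bijection between level subgroups and
isomorphism classes of such pairs (f, M); this row is the existence of a pair for a given level
subgroup.) -/
theorem result (k : Type u) [Field k]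
    (A : Over (Spec (CommRingCat.of k))) [GrpObj A] [IsCommMonObj A] [IsProper A.hom] [GeometricallyIntegral A.hom]
    (L : A.left.Modules) (hL : PicF.IsInvertible L)
    (G : Over (Spec (CommRingCat.of k))) [GrpObj G] (u : ThetaGrp.thetaPts A L G)
    (hG : ThetaGrp.IsThetaGrpSch A L G u)
    (H : Over (Spec (CommRingCat.of k))) [GrpObj H] (j : H ⟶ G) (hj : ThetaGrp.IsLevelSubgrp u j)
    (iH : H ⟶ A)
    (hover : ∀ (T : Over (Spec (CommRingCat.of k))) (h : T ⟶ H) (β : ThetaGrp.thetaPts A L T),
      ThetaGrp.IsBaseChange β (h ≫ j) u → ThetaGrp.IsOverPt β (h ≫ iH)) :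
    ∃ (B : Over (Spec (CommRingCat.of k))) (_ : GrpObj B) (f : A ⟶ B),
      IsProper B.hom ∧ GeometricallyIntegral B.hom ∧ IsMonHom f ∧ Surjective f.left ∧
      AlgGrp.IsKernel iH f ∧
      ∃ M : B.left.Modules, PicF.IsInvertible M ∧ Nonempty ((Scheme.Modules.pullback f.left).obj M ≅ L) := by
  open Groth.Agent.AVTheta in
  exact (by
  obtain ⟨hjimm, hjm, hjone⟩ := hj
  haveI := hjimm
  haveI := hjm
  let Bn : ∀ {T : Over (Spec (CommRingCat.of k))}, (T ⟶ H) → ThetaGrp.thetaPts A L T := fun {T} h =>
    (hG.exists_bc T (h ≫ j)).exists.choose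
  have hBn : ∀ {T : Over (Spec (CommRingCat.of k))} (h : T ⟶ H), ThetaGrp.IsBaseChange (Bn h) (h ≫ j) u :=
    fun {T} h => (hG.exists_bc T (h ≫ j)).exists.choose_spec
  have hx : ∀ {T : Over (Spec (CommRingCat.of k))} (h : T ⟶ H), ThetaGrp.IsOverPt (Bn h) (h ≫ iH) :=
    fun {T} h => hover T h _ (hBn h)
  have hmul : ∀ {T : Over (Spec (CommRingCat.of k))} (n m : T ⟶ H), Bn n * Bn m = Bn (n * m) := fun {T} n m => by
    have hm := hG.mul T _ _ _ _ (hBn n) (hBn m)
    rw [← MonObj.mul_comp] at hm
    exact (hG.exists_bc T ((n * m) ≫ j)).unique hm (hBn (n * m))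
  have hiMul : ∀ (T : Over (Spec (CommRingCat.of k))) (n m : T ⟶ H), (n * m) ≫ iH = (n ≫ iH) * (m ≫ iH) :=
    fun T n m => by
    rw [mul_comm (n ≫ iH)]
    exact pt_unique (hx (n * m)) (hmul n m ▸ isOverPt_mul (hx n) (hx m))
  haveI hiM : IsMonHom iH := by
    refine ⟨?_, ?_⟩
    · have h := hiMul (𝟙_ _) 1 1
      rw [_root_.mul_one, eq_comm, mul_eq_left] at h
      rwa [MonObj.one_eq_one, show (1 : 𝟙_ _ ⟶ H) = η[H] from (MonObj.one_eq_one (M := H)).symm] at *
    · rw [show μ[H] = fst H H * snd H H by rw [Hom.mul_def, lift_fst_snd, Category.id_comp], hiMul, Hom.mul_def]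
      congr 1
  haveI : Mono iH := by
    refine ⟨fun {T} a b hab => ?_⟩
    have h1 : (a * b⁻¹) ≫ iH = 1 := by
      rw [MonObj.mul_comp, GrpObj.inv_comp, hab, mul_inv_cancel]
    exact mul_inv_eq_one.1 (hjone T _ _ (hBn (a * b⁻¹)) (h1 ▸ hx (a * b⁻¹)))
  haveI : IsCommMonObj H := ⟨by
    rw [← cancel_mono iH, Category.assoc, IsMonHom.mul_hom, ← Category.assoc, ← BraidedCategory.braiding_naturality,
      Category.assoc, IsCommMonObj.mul_comm A]⟩
  obtain ⟨hGl, hGq⟩ := GrpSch.finiteType_of_isThetaGrpSch hL hG
  haveI := hGl
  haveI := hGq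
  haveI : IsLocallyNoetherian G.left := LocallyOfFiniteType.isLocallyNoetherian G.hom
  haveI : LocallyOfFiniteType H.hom := by rw [← Over.w j]; infer_instance
  haveI : CompactSpace G.left := QuasiCompact.compactSpace_of_compactSpace G.hom
  haveI : IsNoetherian G.left := {}
  haveI : TopologicalSpace.NoetherianSpace H.left :=
    Topology.IsEmbedding.isInducing (Scheme.Hom.isEmbedding j.left) |>.noetherianSpace
  haveI : CompactSpace H.left := inferInstance
  haveI : QuasiCompact H.hom := (quasiCompact_iff_compactSpace H.hom).mpr inferInstance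
  haveI : IsClosedImmersion iH.left := isClosedImmersion_of_mono iH
  obtain ⟨B, gB, f, hf, hff, hfs, hBl, hBq, hk⟩ := Deform.Chev.exists_quotient iH
    (fun T g n => ⟨n, by rw [mul_comm g, mul_inv_cancel_right]⟩)
  letI := gB
  haveI := hf
  haveI := hff
  haveI := hfs
  haveI := hBl
  obtain ⟨hBp, hBi⟩ := proper_geometricallyIntegral_of_surjective f
  haveI := hBp
  haveI := hBi
  refine ⟨B, gB, f, hBp, hBi, hf, hfs, hk, ?_⟩
  refine exists_descent_of_action f iH hk hL Bn hx (fun {T T'} g n => ?_) hmul
  obtain ⟨β, hβ, -⟩ := existsUnique_bc g (Bn n)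
  have h := (hG.exists_bc T' ((g ≫ n) ≫ j)).unique
    (by rw [Category.assoc]; exact isBaseChange_comp (hBn n) hβ) (hBn (g ≫ n))
  rw [← h]
  exact hβ)


end Groth.Agent.S19952
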