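import Groth.Statements.S19954
import Groth.Agent.AVTheta.Pull
-- import your own Groth.Agent.* helpers here

set_option autoImplicit false
universe u
open CategoryTheory MonoidalCategory CartesianMonoidalCategory MonObj GrpObj AlgebraicGeometry
open ThetaGrp

set_option backward.isDefEq.respectTransparency false
set_option backward.isDefEq.respectTransparency.types false
set_option synthInstance.maxHeartbeats 400000
set_option maxHeartbeats 1000000
set_option linter.style.haveILetI false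

namespace Groth.Agent.S19954

/-- Let f : X → Y be a homomorphism of abelian varieties over a field k (proper, geometrically integral,
commutative k-group schemes), L an invertible O_Y-module, and i_K : K → Y a closed immersion
exhibiting K as K(L), the maximal closed subscheme of Y over which the Mumford bundle m^*L ⊗
p_1^*L⁻¹ ⊗ p_2^*L⁻¹, restricted to Y ×_k K, is the inverse image of an invertible module on K, with
its universal property. The identity e_{f^*L} = e_L ∘ (f, f) on f⁻¹(K(L)) is stated here through the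
vanishing of the two commutator pairings: for a k-scheme H and a k-morphism i_H : H → X such that f
∘ i_H factors through i_K, the pairing e_L is trivial on the image of H in Y — for every k-scheme T,
any two points of G(L)(T) lying over the translations by f(i_H(h₁)), f(i_H(h₂)) for T-valued points
h₁, h₂ of H commute — if and only if e_{f^*L} is trivial on H: any two points of G(f^*L)(T) lying
over the translations by i_H(h₁), i_H(h₂) commute. -/
theorem result (k : Type u) [Field k]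
    (A : Over (Spec (CommRingCat.of k))) [GrpObj A] [IsCommMonObj A] [IsProper A.hom] [GeometricallyIntegral A.hom]
    (B : Over (Spec (CommRingCat.of k))) [GrpObj B] [IsCommMonObj B] [IsProper B.hom] [GeometricallyIntegral B.hom]
    (f : A ⟶ B) [IsMonHom f]
    (L : B.left.Modules) (hL : PicF.IsInvertible L)
    (K : Over (Spec (CommRingCat.of k))) (iK : K ⟶ B) (hK : ThetaGrp.IsKL B L iK)
    (H : Over (Spec (CommRingCat.of k))) (iH : H ⟶ A) (hH : ∃ y : H ⟶ K, y ≫ iK = iH ≫ f) :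
    ThetaGrp.IsIsotropic L (iH ≫ f) ↔
      ThetaGrp.IsIsotropic ((Scheme.Modules.pullback f.left).obj L) iH := by
  open Groth.Agent.AVTheta in
  exact (by
  constructor
  · intro hiso T x y α₁ α₂ h₁ h₂
    obtain ⟨c, hc, -⟩ := existsUnique_comm (PicClLib.isInvertible_pullback f.left hL) α₁ α₂
    refine (isComm_one_iff _ _).1 ?_
    suffices hc1 : c = 1 by rwa [hc1] at hc
    obtain ⟨y₀, hy₀⟩ := hH
    have hmum : ∀ z : T ⟶ H, ThetaGrp.IsMumfordTriv B L ((z ≫ iH) ≫ f) := fun z =>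
      (hK.univ T _).2 ⟨z ≫ y₀, by simp only [Category.assoc, hy₀]⟩
    refine eq_of_local fun t => ?_
    obtain ⟨U₁, ht₁, b₁, hb₁⟩ := exists_local_pts hL _ (hmum x) t
    obtain ⟨U₂, ht₂, b₂, hb₂⟩ := exists_local_pts hL _ (hmum y) t
    refine ⟨U₁ ⊓ U₂, ⟨ht₁, ht₂⟩, ?_⟩
    obtain ⟨β₁, hβ₁, -⟩ := existsUnique_bc (ovHomOfLE T (inf_le_left : U₁ ⊓ U₂ ≤ U₁)) b₁
    obtain ⟨β₂, hβ₂, -⟩ := existsUnique_bc (ovHomOfLE T (inf_le_right : U₁ ⊓ U₂ ≤ U₂)) b₂
    obtain ⟨ζ₁, hζ₁, -⟩ := existsUnique_bc (ovIncl T (U₁ ⊓ U₂)) α₁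
    obtain ⟨ζ₂, hζ₂, -⟩ := existsUnique_bc (ovIncl T (U₁ ⊓ U₂)) α₂
    obtain ⟨F, hF, hFb⟩ := exists_pullMap f (Iso.refl ((Scheme.Modules.pullback f.left).obj L)) (ovOpen T (U₁ ⊓ U₂))
    have hp₁ : ThetaGrp.IsOverPt β₁ ((ovIncl T (U₁ ⊓ U₂) ≫ x ≫ iH) ≫ f) := by
      simpa only [← Category.assoc, ovHomOfLE_incl] using isOverPt_bc hβ₁ hb₁
    have hp₂ : ThetaGrp.IsOverPt β₂ ((ovIncl T (U₁ ⊓ U₂) ≫ y ≫ iH) ≫ f) := by
      simpa only [← Category.assoc, ovHomOfLE_incl] using isOverPt_bc hβ₂ hb₂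
    obtain ⟨θ₁, hθ₁, hθ₁'⟩ := exists_pull_pts f hF hFb _ β₁ hp₁
    obtain ⟨θ₂, hθ₂, hθ₂'⟩ := exists_pull_pts f hF hFb _ β₂ hp₂
    have hcomm : β₁ * β₂ = β₂ * β₁ := hiso _ (ovIncl T (U₁ ⊓ U₂) ≫ x) (ovIncl T (U₁ ⊓ U₂) ≫ y) β₁ β₂
      (by simpa only [Category.assoc] using hp₁) (by simpa only [Category.assoc] using hp₂)
    have hb : (θ₁ * θ₂).1.hom.base = (θ₂ * θ₁).1.hom.base :=
      (isOverPt_mul hθ₁ hθ₂).trans (by rw [mul_comm]; exact (isOverPt_mul hθ₂ hθ₁).symm)
    have h := comm_eq_of_same_pts (PicClLib.isInvertible_pullback f.left hL) hθ₁ hθ₂ (isOverPt_bc hζ₁ h₁)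
      (isOverPt_bc hζ₂ h₂) (isComm_pull f hF hFb hb hθ₁' hθ₂' ((isComm_one_iff _ _).2 hcomm)) (isComm_bc hζ₁ hζ₂ hc)
    exact h.symm.trans (map_one _).symm
  · intro hiso T x y β₁ β₂ h₁ h₂
    obtain ⟨c, hc, -⟩ := existsUnique_comm hL β₁ β₂
    refine (isComm_one_iff _ _).1 ?_
    obtain ⟨F, hF, hFb⟩ := exists_pullMap f (Iso.refl ((Scheme.Modules.pullback f.left).obj L)) T
    obtain ⟨θ₁, hθ₁, hθ₁'⟩ := exists_pull_pts f hF hFb (x ≫ iH) β₁ (by simpa only [Category.assoc] using h₁)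
    obtain ⟨θ₂, hθ₂, hθ₂'⟩ := exists_pull_pts f hF hFb (y ≫ iH) β₂ (by simpa only [Category.assoc] using h₂)
    have hb : (θ₁ * θ₂).1.hom.base = (θ₂ * θ₁).1.hom.base :=
      (isOverPt_mul hθ₁ hθ₂).trans (by rw [mul_comm]; exact (isOverPt_mul hθ₂ hθ₁).symm)
    rw [← isComm_unique (PicClLib.isInvertible_pullback f.left hL) (isComm_pull f hF hFb hb hθ₁' hθ₂' hc)
      ((isComm_one_iff _ _).2 (hiso T x y θ₁ θ₂ hθ₁ hθ₂))]
    exact hc)


end Groth.Agent.S19954
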