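import Groth.Statements.S19955
import Groth.Agent.AVTheta.LambdaLift
-- import your own Groth.Agent.* helpers here

set_option autoImplicit false
universe u
open CategoryTheory MonoidalCategory CartesianMonoidalCategory MonObj GrpObj AlgebraicGeometry
open ThetaGrp

set_option backward.isDefEq.respectTransparency false
set_option backward.isDefEq.respectTransparency.types false
set_option synthInstance.maxHeartbeats 400000
set_option maxHeartbeats 1000000
set_option linter.style.haveILetI false
attribute [-instance] CategoryTheory.catToReflQuiver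

namespace Groth.Agent.S19955

/-- Let A be an abelian variety over a field k (a proper, geometrically integral, commutative k-group
scheme), L an invertible O_A-module, and Λ an invertible module on A ×_k A which is the Mumford
bundle of L, stated without inverses: Λ ⊗ p_1^*L ⊗ p_2^*L ≅ m^*L for the group law m and the
projections p_1, p_2. Let i : K → A be a closed subgroup scheme exhibiting K as K(L) (the maximal
closed subscheme of A over which Λ, restricted to A ×_k K, is the inverse image of an invertible
module on K, with its universal property), and let G be a k-group scheme with a point u ∈ G(Λ)(G)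
representing the theta group of Λ on the k-group scheme A ×_k A (every point of G(Λ)(T) — a T-valued
point z of A × A with an isomorphism Λ_T ≅ t_z^*Λ_T — is the base change of u along a unique T → G,
multiplicatively). Then the action of K × {e} on A × A by translations lifts to Λ compatibly with
the group law of K: there is a homomorphism of group schemes j : K → G such that for every k-scheme
T and every T-valued point y of K, the base change of u along j(y) lies over the translation by the
point (i(y), e) of A × A. (In the source L is a fixed ample invertible module and the equivariant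
structure is moreover shown to be unique once an isomorphism of the fibre of L at e with k is fixed;
the argument for existence uses only that L is invertible, and the uniqueness is not part of this
statement.) -/
theorem result (k : Type u) [Field k]
    (A : Over (Spec (CommRingCat.of k))) [GrpObj A] [IsCommMonObj A] [IsProper A.hom] [GeometricallyIntegral A.hom]
    (L : A.left.Modules) (hL : PicF.IsInvertible L)
    (Λ : (A ⊗ A).left.Modules) (hΛi : PicF.IsInvertible Λ)
    (hΛ : AgPol.IsLambdaSheaf μ[A].left (fst A A).left (snd A A).left L Λ)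
    (K : Over (Spec (CommRingCat.of k))) [GrpObj K] (iK : K ⟶ A) [IsMonHom iK] (hK : ThetaGrp.IsKL A L iK)
    (G : Over (Spec (CommRingCat.of k))) [GrpObj G] (u : ThetaGrp.thetaPts (A ⊗ A) Λ G)
    (hG : ThetaGrp.IsThetaGrpSch (A ⊗ A) Λ G u) :
    ∃ j : K ⟶ G, IsMonHom j ∧
      ∀ (T : Over (Spec (CommRingCat.of k))) (y : T ⟶ K) (β : ThetaGrp.thetaPts (A ⊗ A) Λ T),
        ThetaGrp.IsBaseChange β (y ≫ j) u → ThetaGrp.IsOverPt β (y ≫ lift iK (1 : K ⟶ A)) := by
  open Groth.Agent.AVTheta in
  exact (by
  obtain ⟨Bn, hBn, hnat, hmul⟩ := exists_lambda_lifts hL Λ hΛi hΛ iK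
    (fun {T} y => (hK.univ T (y ≫ iK)).2 ⟨y, rfl⟩)
  obtain ⟨j, hj, -⟩ := hG.univ K (Bn (𝟙 K))
  have hju : ∀ (T : Over (Spec (CommRingCat.of k))) (n : T ⟶ K), ThetaGrp.IsBaseChange (Bn n) (n ≫ j) u := by
    intro T n
    refine isBaseChange_comp hj ?_
    simpa using hnat n (𝟙 K)
  have hgu : ∀ (T : Over (Spec (CommRingCat.of k))) (β : ThetaGrp.thetaPts (A ⊗ A) Λ T) (g g' : T ⟶ G),
      ThetaGrp.IsBaseChange β g u → ThetaGrp.IsBaseChange β g' u → g = g' := fun T β g g' h h' =>
    (hG.univ T β).unique h h'
  have hjmul : ∀ (T : Over (Spec (CommRingCat.of k))) (n m : T ⟶ K), (n * m) ≫ j = (n ≫ j) * (m ≫ j) := fun T n m =>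
    hgu T _ _ _ (hju T (n * m)) (hmul n m ▸ hG.mul T _ _ _ _ (hju T n) (hju T m))
  refine ⟨j, ⟨?_, ?_⟩, fun T y β hβ => ?_⟩
  · have h := hjmul (𝟙_ _) 1 1
    rw [_root_.mul_one, eq_comm, mul_eq_left] at h
    rwa [MonObj.one_eq_one, show (1 : 𝟙_ _ ⟶ K) = η[K] from (MonObj.one_eq_one (M := K)).symm] at *
  · rw [show μ[K] = fst K K * snd K K by rw [Hom.mul_def, lift_fst_snd, Category.id_comp], hjmul, Hom.mul_def]
    congr 1
  · rw [(hG.exists_bc T (y ≫ j)).unique hβ (hju T y),
      show y ≫ lift iK (1 : K ⟶ A) = y ≫ iK ≫ inFst by simp [inFst]]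
    exact hBn y)


end Groth.Agent.S19955
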