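import Groth.Statements.S20008
import Groth.Agent.AssocBdl.Extension
import Groth.Agent.AssocBdl.Torsor
import Groth.Agent.S18975
import Groth.Agent.GrpSchLib.Cartier
import Groth.Agent.GrpSchLib.HomFlat
import Groth.Agent.DescLib.Reduced
import Groth.Agent.AlgSpPts.Sep
import Groth.Agent.Tors9.Descent

set_option backward.isDefEq.respectTransparency false
set_option backward.isDefEq.respectTransparency.types false
set_option linter.style.haveILetI false
-- import your own Groth.Agent.* helpers here

set_option autoImplicit false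
universe u
open CategoryTheory MonoidalCategory CartesianMonoidalCategory MonObj AlgebraicGeometry
open GIT

namespace Groth.Agent.S20008

/-- An extension of special groups is special. Over an algebraically closed field k of characteristic
zero, let G be an affine group scheme of finite type over k with a closed normal subgroup scheme N,
the kernel of a surjective homomorphism q : G → Q onto an affine group scheme Q of finite type over
k (the factor group G/N). Call an affine group scheme H of finite type over k special when for every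
action of H on a k-scheme X and every morphism ψ : X → Y of k-schemes which is an H-torsor over Y —
the square formed by the action, the second projection H ×_k X → X and ψ twice is cartesian, and ψ
acquires sections on the members of some fpqc covering family of Y — the morphism ψ acquires
sections on the members of some Zariski open covering of Y. If N and Q are special, then G is
special. -/
theorem result
    (k : Type u) [Field k] [IsAlgClosed k] [CharZero k]
    (G N Q : Over (Spec (CommRingCat.of k))) [GrpObj G] [GrpObj N] [GrpObj Q]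
    [IsAffine G.left] [LocallyOfFiniteType G.hom]
    (iN : N ⟶ G) [IsMonHom iN] [IsClosedImmersion iN.left] (hnorm : AlgGrp.IsNormalHom iN)
    (q : G ⟶ Q) [IsMonHom q] [Surjective q.left] [IsAffine Q.left] [LocallyOfFiniteType Q.hom]
    (hker : AlgGrp.IsKernel iN q)
    (hN : ∀ (X Y : Over (Spec (CommRingCat.of k))) (b : AlgGrp.Action N X) (ψ : X ⟶ Y),
      IsPullback b.act (snd N X) ψ ψ →
      NonAbH1.IsLocallyTrivialFor Scheme.fpqcPrecoverage (Over.mk ψ.left : Over Y.left) →
      NonAbH1.IsLocallyTrivialFor Scheme.zariskiPrecoverage (Over.mk ψ.left : Over Y.left))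
    (hQ : ∀ (X Y : Over (Spec (CommRingCat.of k))) (b : AlgGrp.Action Q X) (ψ : X ⟶ Y),
      IsPullback b.act (snd Q X) ψ ψ →
      NonAbH1.IsLocallyTrivialFor Scheme.fpqcPrecoverage (Over.mk ψ.left : Over Y.left) →
      NonAbH1.IsLocallyTrivialFor Scheme.zariskiPrecoverage (Over.mk ψ.left : Over Y.left))
    (X Y : Over (Spec (CommRingCat.of k))) (a : AlgGrp.Action G X) (φ : X ⟶ Y)
    (hcart : IsPullback a.act (snd G X) φ φ)
    (hloc : NonAbH1.IsLocallyTrivialFor Scheme.fpqcPrecoverage (Over.mk φ.left : Over Y.left)) :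
    NonAbH1.IsLocallyTrivialFor Scheme.zariskiPrecoverage (Over.mk φ.left : Over Y.left) := by
  haveI : IsAffineHom G.hom := isAffineHom_of_isAffine G.hom
  haveI : IsAffineHom Q.hom := isAffineHom_of_isAffine Q.hom
  haveI : IsAffineHom q.left := isAffineHom_of_isAffine q.left
  haveI : Smooth Q.hom := GrpSchLib.smooth_of_charZero Q
  haveI : IsReduced Q.left := DescLib.isReduced_of_smooth_of_isReduced Q.hom
  haveI : Flat q.left := GrpSchLib.flat_of_surjective_hom q
  haveI : LocallyOfFinitePresentation G.hom := inferInstance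
  haveI : LocallyOfFinitePresentation q.left := by
    haveI : LocallyOfFinitePresentation (q.left ≫ Q.hom) := by rw [Over.w q]; infer_instance
    exact AlgSpPts.locallyOfFinitePresentation_of_comp q.left Q.hom
  haveI : Mono iN := (Over.forget _).mono_of_mono_map (inferInstanceAs (Mono iN.left))
  haveI : Surjective G.hom := ⟨fun x => ⟨(MonObj.one (X := G)).left x,
      (Scheme.Hom.comp_apply _ _ x).symm.trans (congrArg (fun f : Spec (CommRingCat.of k) ⟶ _ => f x) (Over.w (MonObj.one (X := G))))⟩⟩
  haveI := EtFound.fpqc_isAffineHom.{u}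
  haveI : IsAffineHom φ.left := AssocBdl.torsorProj_property @IsAffineHom a φ hcart hloc inferInstance
  haveI : Flat φ.left := AssocBdl.torsorProj_property @Flat a φ hcart hloc inferInstance
  haveI : LocallyOfFinitePresentation φ.left :=
    AssocBdl.torsorProj_property @LocallyOfFinitePresentation a φ hcart hloc inferInstance
  haveI : Surjective φ.left := ⟨(S18975.result k G X Y a φ hcart hloc).2.surj⟩
  obtain ⟨R, hR, hsec⟩ := hloc
  obtain ⟨Z, ψ, r, bQ, hψr, hNcart, hNloc, hrcart, hrloc⟩ := AssocBdl.exists_factor q a φ hcart iN hker hR hsec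
  obtain ⟨R₁, hR₁, hs₁⟩ := hN X Z (a.restrict iN) ψ hNcart hNloc
  obtain ⟨R₂, hR₂, hs₂⟩ := hQ Z Y bQ r hrcart hrloc
  obtain ⟨I, U, u, rfl⟩ := R₁.exists_eq_ofArrows
  obtain ⟨J, V, v, rfl⟩ := R₂.exists_eq_ofArrows
  obtain ⟨hU, hu⟩ := (Scheme.ofArrows_mem_precoverage_iff _).1 hR₁
  obtain ⟨hV, hv⟩ := (Scheme.ofArrows_mem_precoverage_iff _).1 hR₂
  refine Tors9.isLocallyTrivial_zariski fun y => ?_
  obtain ⟨j, hy⟩ := hV y
  obtain ⟨y', rfl⟩ := hy
  obtain ⟨s, hs⟩ := hs₂ (v j) (.mk j)
  obtain ⟨i, z', hz'⟩ := hU (s y')
  obtain ⟨t, ht⟩ := hs₁ (u i) (.mk i)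
  haveI := hu i
  haveI := hv j
  obtain ⟨w, hw₁, -⟩ := Scheme.Pullback.exists_preimage_pullback y' z' hz'.symm
  refine ⟨Limits.pullback s (u i), Limits.pullback.fst s (u i) ≫ v j, inferInstance, ⟨w, ?_⟩,
    Limits.pullback.snd s (u i) ≫ t, ?_⟩
  · rw [Scheme.Hom.comp_apply, hw₁]
  change t ≫ ψ.left = u i at ht
  change s ≫ r.left = v j at hs
  show (Limits.pullback.snd s (u i) ≫ t) ≫ φ.left = Limits.pullback.fst s (u i) ≫ v j
  rw [← hψr, Over.comp_left, Category.assoc, reassoc_of% ht, ← Category.assoc, ← Limits.pullback.condition,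
    Category.assoc, hs]

end Groth.Agent.S20008
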