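import Groth.Statements.S20016
import Mathlib.RingTheory.Smooth.IntegralClosure
import Groth.Agent.ModPairLib.Dense

open TensorProduct in
theorem Groth.Agent.S20016.alg.{w} {A C Aa Ca : Type w} [CommRing A] [CommRing C] [Algebra A C]
    [Algebra.Smooth A C] [CommRing Aa] [Algebra A Aa] [CommRing Ca] [Algebra C Ca] (a : A)
    [IsLocalization.Away a Aa] [IsLocalization.Away (algebraMap A C a) Ca]
    (h : ∀ x : Aa, IsIntegral A x → x ∈ Set.range (algebraMap A Aa))
    (x : Ca) (hx : IsIntegral C x) : x ∈ Set.range (algebraMap C Ca) := by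
  let e : C ⊗[A] Aa ≃ₐ[C] Ca := IsLocalization.algEquiv (Submonoid.powers (algebraMap A C a)) _ _
  obtain ⟨y, hy⟩ := (TensorProduct.toIntegralClosure_bijective_of_smooth (R := A) (S := C) (B := Aa)).2
    ⟨e.symm x, hx.map e.symm⟩
  have key : ∀ y : C ⊗[A] integralClosure A Aa, ∃ c : C,
      ((TensorProduct.toIntegralClosure A C Aa y : integralClosure C (C ⊗[A] Aa)) : C ⊗[A] Aa) =
        algebraMap C (C ⊗[A] Aa) c := by
    intro y
    induction y with
    | zero => exact ⟨0, by simp⟩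
    | add y z hy hz =>
      obtain ⟨c, hc⟩ := hy
      obtain ⟨d, hd⟩ := hz
      exact ⟨c + d, by simp [hc, hd, TensorProduct.add_tmul]⟩
    | tmul c z =>
      obtain ⟨r, hr⟩ := h z.1 z.2
      refine ⟨r • c, ?_⟩
      simp only [TensorProduct.toIntegralClosure, AlgHom.coe_codRestrict,
        Algebra.TensorProduct.map_tmul, AlgHom.coe_id, id_eq, Subalgebra.coe_val]
      rw [← hr, Algebra.algebraMap_eq_smul_one, TensorProduct.tmul_smul, TensorProduct.smul_tmul']
      rfl
  obtain ⟨c, hc⟩ := key y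
  refine ⟨c, ?_⟩
  rw [hy] at hc
  calc algebraMap C Ca c = e (algebraMap C (C ⊗[A] Aa) c) := (e.commutes c).symm
    _ = e (e.symm x) := by rw [← hc]
    _ = x := e.apply_symm_apply x

set_option autoImplicit false
universe u
open CategoryTheory AlgebraicGeometry TopologicalSpace Opposite
open ModPair

namespace Groth.Agent.S20016

/-- Let (X, I_X) be a modulus pair — a scheme X with the quasi-coherent ideal sheaf I_X of an effective
Cartier divisor — with interior X° (the open complement of the support of I_X), and suppose O_X is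
integrally closed in O_{X°}: for every affine open U of X, every section of O_X over U ∩ X° which is
integral over Γ(U, O_X) along the restriction map is the restriction of a section over U. Let g : Y
⟶ X be an étale morphism and Y° = g⁻¹(X°). Then O_Y is integrally closed in O_{Y°}: for every affine
open V of Y, every section of O_Y over V ∩ Y° which is integral over Γ(V, O_Y) along the restriction
map is the restriction of a section over V. (The text does not spell out the phrase integrally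
closed for sheaves; it is rendered here affine-locally through restriction maps.) -/
theorem result {X Y : Scheme.{u}}
    (IX : X.IdealSheafData) (hX : BlowUp.IsEffCartierIdeal IX)
    (hint : ∀ U ∈ X.affineOpens, ∀ s : Γ(X, U ⊓ ModPair.interior IX),
      (X.presheaf.map (homOfLE (inf_le_left : U ⊓ ModPair.interior IX ≤ U)).op).hom.IsIntegralElem s →
        s ∈ Set.range (X.presheaf.map (homOfLE (inf_le_left : U ⊓ ModPair.interior IX ≤ U)).op).hom)
    (g : Y ⟶ X) [Etale g] :
    ∀ V ∈ Y.affineOpens, ∀ t : Γ(Y, V ⊓ g ⁻¹ᵁ ModPair.interior IX),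
      (Y.presheaf.map (homOfLE (inf_le_left : V ⊓ g ⁻¹ᵁ ModPair.interior IX ≤ V)).op).hom.IsIntegralElem t →
        t ∈ Set.range (Y.presheaf.map (homOfLE (inf_le_left : V ⊓ g ⁻¹ᵁ ModPair.interior IX ≤ V)).op).hom := by
  intro V hV t ht
  haveI : IsAffineHom (ModPair.interior IX).ι :=
    ModPairLib.isAffineHom_interior (ModPairLib.isLocPrincipal_of_isEffCartier hX)
  haveI := ModPairLib.isSchemeTheoreticallyDominant_interior hX
  haveI : IsSchemeTheoreticallyDominant (g ⁻¹ᵁ ModPair.interior IX).ι :=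
    IsSchemeTheoreticallyDominant.of_isPullback (isPullback_morphismRestrict g (ModPair.interior IX))
  haveI : QuasiCompact (g ⁻¹ᵁ ModPair.interior IX).ι :=
    MorphismProperty.of_isPullback (P := @QuasiCompact)
      (isPullback_morphismRestrict g (ModPair.interior IX)) inferInstance
  -- restriction to the interior is injective
  have hinj : ∀ (O O' : Y.Opens) (hle : O' ≤ O), O' = O ⊓ g ⁻¹ᵁ ModPair.interior IX →
      Function.Injective (Y.presheaf.map (homOfLE hle).op) := by
    intro O O' hle hO' s₁ s₂ hs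
    refine (g ⁻¹ᵁ ModPair.interior IX).ι.app_injective O ?_
    simp only [Scheme.Opens.ι_app]
    have hle' : (g ⁻¹ᵁ ModPair.interior IX).ι ''ᵁ (g ⁻¹ᵁ ModPair.interior IX).ι ⁻¹ᵁ O ≤ O' := by
      rw [Scheme.Hom.image_preimage_eq_opensRange_inf, Scheme.Opens.opensRange_ι, inf_comm, hO']
    have := congrArg (Y.presheaf.map (homOfLE hle').op) hs
    rw [← ConcreteCategory.comp_apply, ← ConcreteCategory.comp_apply, ← Functor.map_comp] at this
    exact this
  have hloc : ∀ y : V, ∃ W : Y.Opens, y.1 ∈ W ∧ ∃ hWV : W ≤ V, ∃ c : Γ(Y, W),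
      Y.presheaf.map (homOfLE (inf_le_left : W ⊓ g ⁻¹ᵁ ModPair.interior IX ≤ W)).op c =
        Y.presheaf.map (homOfLE (inf_le_inf_right (g ⁻¹ᵁ ModPair.interior IX) hWV)).op t := by
    intro y
    obtain ⟨U, hU, a, -, haU⟩ :=
      (ModPairLib.isLocPrincipal_of_isEffCartier hX).exists_basicOpen (g y.1)
    obtain ⟨_, ⟨W, hW, rfl⟩, hyW, hWle⟩ := Y.isBasis_affineOpens.exists_subset_of_mem_open
      (show y.1 ∈ ((V ⊓ g ⁻¹ᵁ U.1 : Y.Opens) : Set Y) from ⟨y.2, hU⟩) (V ⊓ g ⁻¹ᵁ U.1).isOpen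
    have hWV : W ≤ V := fun z hz => (hWle hz).1
    have hWU : W ≤ g ⁻¹ᵁ U.1 := fun z hz => (hWle hz).2
    let φ := g.appLE U.1 W hWU
    have hsm : φ.hom.Smooth := g.smooth_appLE U.2 hW hWU
    letI := φ.hom.toAlgebra
    haveI : Algebra.Smooth Γ(X, U.1) Γ(Y, W) := hsm
    have e1 : Y.basicOpen (φ a) = W ⊓ g ⁻¹ᵁ ModPair.interior IX := by
      show Y.basicOpen (g.appLE U.1 W hWU a) = _
      rw [Scheme.basicOpen_appLE, ← haU, Scheme.Hom.preimage_inf, ← inf_assoc, inf_eq_left.2 hWU]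
    haveI := U.2.isLocalization_basicOpen a
    haveI : IsLocalization.Away (algebraMap Γ(X, U.1) Γ(Y, W) a) Γ(Y, Y.basicOpen (φ a)) :=
      hW.isLocalization_basicOpen (φ a)
    have hA : ∀ (O : X.Opens), O = U.1 ⊓ ModPair.interior IX → ∀ hle : O ≤ U.1, ∀ x : Γ(X, O),
        (X.presheaf.map (homOfLE hle).op).hom.IsIntegralElem x →
          x ∈ Set.range (X.presheaf.map (homOfLE hle).op).hom := by
      rintro O rfl hle x hx
      exact hint U.1 U.2 x hx
    have hY : ∀ (O : Y.Opens) (hO : O = W ⊓ g ⁻¹ᵁ ModPair.interior IX) (hOW : O ≤ W)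
        (hOV : O ≤ V ⊓ g ⁻¹ᵁ ModPair.interior IX),
        (∀ x : Γ(Y, O), (Y.presheaf.map (homOfLE hOW).op).hom.IsIntegralElem x →
          x ∈ Set.range (Y.presheaf.map (homOfLE hOW).op).hom) →
        ∃ c : Γ(Y, W), Y.presheaf.map (homOfLE (inf_le_left : W ⊓ g ⁻¹ᵁ ModPair.interior IX ≤ W)).op c =
          Y.presheaf.map (homOfLE (inf_le_inf_right (g ⁻¹ᵁ ModPair.interior IX) hWV)).op t := by
      rintro O rfl hOW hOV H
      refine H _ ?_
      obtain ⟨p, hp, he⟩ := ht
      refine ⟨p.map (Y.presheaf.map (homOfLE hWV).op).hom, hp.map _, ?_⟩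
      rw [Polynomial.eval₂_map, ← CommRingCat.hom_comp, ← Functor.map_comp]
      have h2 := congrArg (Y.presheaf.map (homOfLE hOV).op).hom he
      rw [Polynomial.hom_eval₂, map_zero, ← CommRingCat.hom_comp, ← Functor.map_comp] at h2
      exact h2
    refine ⟨W, hyW, hWV, hY _ e1 (Y.basicOpen_le _)
      (e1 ▸ inf_le_inf_right _ hWV) fun x hx => ?_⟩
    exact Groth.Agent.S20016.alg (A := Γ(X, U.1)) (C := Γ(Y, W))
      (Aa := Γ(X, X.basicOpen a)) (Ca := Γ(Y, Y.basicOpen (φ a))) a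
      (fun z hz => hA _ haU.symm (X.basicOpen_le a) z hz) x hx
  choose W hyW hWV c hc using hloc
  have hcomp : TopCat.Presheaf.IsCompatible Y.sheaf.1 W c := by
    intro y z
    refine hinj (W y ⊓ W z) (W y ⊓ W z ⊓ g ⁻¹ᵁ ModPair.interior IX) inf_le_left rfl ?_
    have h1 := congrArg (Y.presheaf.map (homOfLE
      (inf_le_inf_right (g ⁻¹ᵁ ModPair.interior IX) inf_le_left :
        W y ⊓ W z ⊓ g ⁻¹ᵁ ModPair.interior IX ≤ W y ⊓ g ⁻¹ᵁ ModPair.interior IX)).op) (hc y)
    have h2 := congrArg (Y.presheaf.map (homOfLE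
      (inf_le_inf_right (g ⁻¹ᵁ ModPair.interior IX) inf_le_right :
        W y ⊓ W z ⊓ g ⁻¹ᵁ ModPair.interior IX ≤ W z ⊓ g ⁻¹ᵁ ModPair.interior IX)).op) (hc z)
    simp only [← ConcreteCategory.comp_apply, ← Functor.map_comp] at h1 h2
    show Y.presheaf.map _ (Y.presheaf.map _ (c y)) = Y.presheaf.map _ (Y.presheaf.map _ (c z))
    simp only [← ConcreteCategory.comp_apply, ← Functor.map_comp]
    exact h1.trans h2.symm
  obtain ⟨s, hs, -⟩ := TopCat.Sheaf.existsUnique_gluing' Y.sheaf W V (fun y => homOfLE (hWV y))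
    (fun z hz => TopologicalSpace.Opens.mem_iSup.2 ⟨⟨z, hz⟩, hyW ⟨z, hz⟩⟩) c hcomp
  refine ⟨s, ?_⟩
  refine TopCat.Sheaf.eq_of_locally_eq' Y.sheaf (fun y : V => W y ⊓ g ⁻¹ᵁ ModPair.interior IX)
    (V ⊓ g ⁻¹ᵁ ModPair.interior IX) (fun y => homOfLE (inf_le_inf_right _ (hWV y)))
    (fun z hz => TopologicalSpace.Opens.mem_iSup.2 ⟨⟨z, hz.1⟩, hyW ⟨z, hz.1⟩, hz.2⟩) _ _ fun y => ?_
  have h1 := congrArg (Y.presheaf.map (homOfLE
    (inf_le_left : W y ⊓ g ⁻¹ᵁ ModPair.interior IX ≤ W y)).op) (hs y)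
  show Y.presheaf.map _ (Y.presheaf.map _ s) = Y.presheaf.map _ t
  rw [hc y] at h1
  rw [← h1]
  show _ = Y.presheaf.map _ (Y.presheaf.map _ s)
  simp only [← ConcreteCategory.comp_apply, ← Functor.map_comp]
  rfl

end Groth.Agent.S20016
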