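import Groth.Statements.S2050
import Groth.Agent.FlatSub.Spread
import Groth.Agent.EssFPDescent.Syzygy
import Groth.Agent.EssFPDescent.AssUniv
-- import your own Groth.Agent.* helpers here

set_option autoImplicit false
set_option backward.isDefEq.respectTransparency false
universe u
open CAlg

namespace Groth.Agent.S2050


open TensorProduct

/-- Finitely many relations generate the relations after localisation. -/
theorem exists_relations {A : Type u} [CommRing A] (W : Submonoid A) {M : Type u} [AddCommGroup M] [Module A M] {a : ℕ}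
    (π : (Fin a → A) →ₗ[A] M) (hπ : Function.Surjective π)
    [Module.FinitePresentation (Localization W) (LocalizedModule W M)] :
    ∃ G : Finset (Fin a → A), (G : Set (Fin a → A)) ⊆ LinearMap.ker π ∧
      ∀ x ∈ LinearMap.ker π, ∃ w ∈ W, w • x ∈ Submodule.span A (G : Set (Fin a → A)) := by
  classical
  let T := Localization W
  let f := LocalizedModule.mkLinearMap W M
  let π' : (Fin a → T) →ₗ[T] LocalizedModule W M := Fintype.linearCombination T fun i => f (π (Pi.single i 1))
  have hπ' : ∀ x : Fin a → A, π' (Groth.Agent.EssFPDescent.imv T a x) = f (π x) := by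
    intro x
    conv_rhs => rw [pi_eq_sum_univ' x]
    simp only [π', Fintype.linearCombination_apply, map_sum, map_smul, Groth.Agent.EssFPDescent.imv,
      LinearMap.compLeft_apply, Function.comp_apply, Algebra.linearMap_apply, algebraMap_smul]
  have hsurj : Function.Surjective π' := fun z => by
    obtain ⟨⟨c, w⟩, hcw⟩ := IsLocalizedModule.surj W f z
    obtain ⟨x, rfl⟩ := hπ c
    obtain ⟨u, hu⟩ := IsLocalization.map_units T w
    refine ⟨(↑u⁻¹ : T) • Groth.Agent.EssFPDescent.imv T a x, ?_⟩
    rw [map_smul, hπ', ← hcw, Submonoid.smul_def, ← algebraMap_smul T (w : A) z, smul_smul, ← hu, Units.inv_mul, one_smul]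
  obtain ⟨Z, hZ⟩ := Module.FinitePresentation.fg_ker π' hsurj
  have hgen : ∀ y : {y // y ∈ Z}, ∃ x ∈ LinearMap.ker π, ∃ w ∈ W, w • y.1 = Groth.Agent.EssFPDescent.imv T a x := by
    intro y
    obtain ⟨w, hw, x, hx⟩ := Groth.Agent.EssFPDescent.exists_smul_eq_imv W T y.1
    have h0 : f (π x) = 0 := by
      rw [← hπ', ← hx, LinearMap.map_smul_of_tower, LinearMap.mem_ker.1 (hZ.le (Submodule.subset_span y.2)), smul_zero]
    obtain ⟨t, ht⟩ := (IsLocalizedModule.eq_zero_iff W f).1 h0
    refine ⟨(t : A) • x, ?_, (t : A) * w, mul_mem t.2 hw, by rw [mul_smul, map_smul, hx]⟩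
    rw [LinearMap.mem_ker, map_smul]
    exact ht
  choose x hx w hw hwx using hgen
  let G := Finset.univ.image x
  refine ⟨G, ?_, fun v hv => ?_⟩
  · intro v hv
    obtain ⟨y, _, rfl⟩ := Finset.mem_image.1 hv
    exact hx y
  let e := G.equivFin
  let k : Fin G.card → Fin a → A := fun j => (e.symm j).1
  have hk : LinearMap.range (Fintype.linearCombination A k) = Submodule.span A (G : Set (Fin a → A)) := by
    rw [Fintype.range_linearCombination]
    congr 1
    ext z
    refine ⟨?_, fun hz => ⟨e ⟨z, hz⟩, by simp [k]⟩⟩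
    rintro ⟨j, rfl⟩
    exact (e.symm j).2
  rw [← hk]
  refine Groth.Agent.EssFPDescent.smul_mem_range_of_imv_mem W T k ?_
  have h1 : Groth.Agent.EssFPDescent.imv T a v ∈ LinearMap.ker π' := by
    rw [LinearMap.mem_ker, hπ', LinearMap.mem_ker.1 hv, map_zero]
  rw [← hZ] at h1
  refine Submodule.span_le.2 (fun y hy => ?_) h1
  show y ∈ LinearMap.range (Groth.Agent.EssFPDescent.relMap T k)
  rw [Groth.Agent.EssFPDescent.mem_range_relMap_iff W T k]
  exact ⟨w ⟨y, hy⟩, hw _, x ⟨y, hy⟩, hk.ge (Submodule.subset_span (Finset.mem_image_of_mem x (Finset.mem_univ _))), hwx ⟨y, hy⟩⟩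

/-- Let `S = R[x_1, …, x_n]` and `M` a finite `S`-module, flat over `R`, such that for every prime `𝔭`
of `R` the localization `M_𝔭` is finitely presented over `S_𝔭`. If `R` embeds into the product of
finitely many of its local rings, then `M` is finitely presented over `S`. -/
theorem result {R : Type u} [CommRing R] (n : ℕ)
    {M : Type u} [AddCommGroup M] [Module (MvPolynomial (Fin n) R) M] [Module R M]
    [IsScalarTower R (MvPolynomial (Fin n) R) M] [Module.Finite (MvPolynomial (Fin n) R) M] [Module.Flat R M]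
    (s : Finset (PrimeSpectrum R))
    (hs : Function.Injective fun r : R => fun p : s => algebraMap R (Localization.AtPrime p.1.asIdeal) r)
    (hloc : ∀ (p : Ideal R) [p.IsPrime],
      Module.FinitePresentation
        (Localization (Algebra.algebraMapSubmonoid (MvPolynomial (Fin n) R) p.primeCompl))
        (LocalizedModule (Algebra.algebraMapSubmonoid (MvPolynomial (Fin n) R) p.primeCompl) M)) :
    Module.FinitePresentation (MvPolynomial (Fin n) R) M := by
  classical
  obtain ⟨a, π, hπ⟩ := Module.Finite.exists_fin' (MvPolynomial (Fin n) R) M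
  have hrel : ∀ p : PrimeSpectrum R, ∃ G : Finset (Fin a → MvPolynomial (Fin n) R),
      (G : Set (Fin a → MvPolynomial (Fin n) R)) ⊆ LinearMap.ker π ∧
      ∀ x ∈ LinearMap.ker π, ∃ t ∉ p.asIdeal, algebraMap R (MvPolynomial (Fin n) R) t • x ∈
        Submodule.span (MvPolynomial (Fin n) R) (G : Set (Fin a → MvPolynomial (Fin n) R)) := by
    intro p
    haveI := hloc p.asIdeal
    obtain ⟨G, hG, hGx⟩ := exists_relations (Algebra.algebraMapSubmonoid (MvPolynomial (Fin n) R) p.asIdeal.primeCompl) π hπ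
    refine ⟨G, hG, fun x hx => ?_⟩
    obtain ⟨_, ⟨t, ht, rfl⟩, h⟩ := hGx x hx
    exact ⟨t, ht, h⟩
  choose G hGK hGx using hrel
  have hloc' : ∀ p : PrimeSpectrum R, ∃ f ∉ p.asIdeal, ∀ x ∈ LinearMap.ker π, ∃ m : ℕ,
      algebraMap R (MvPolynomial (Fin n) R) (f ^ m) • x ∈ Submodule.span (MvPolynomial (Fin n) R)
        ((G p ∪ s.biUnion G : Finset _) : Set (Fin a → MvPolynomial (Fin n) R)) := by
    intro p
    let H : Finset (Fin a → MvPolynomial (Fin n) R) := G p ∪ s.biUnion G
    let K' := Submodule.span (MvPolynomial (Fin n) R) (H : Set (Fin a → MvPolynomial (Fin n) R))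
    have hK' : K' ≤ LinearMap.ker π := Submodule.span_le.2 fun v hv => by
      rcases Finset.mem_union.1 hv with hv | hv
      · exact hGK p hv
      · obtain ⟨q, _, hv⟩ := Finset.mem_biUnion.1 hv
        exact hGK q hv
    let Wp := Algebra.algebraMapSubmonoid (MvPolynomial (Fin n) R) p.asIdeal.primeCompl
    let θ : ((Fin a → MvPolynomial (Fin n) R) ⧸ K') →ₗ[MvPolynomial (Fin n) R] LocalizedModule Wp M :=
      K'.liftQ (LocalizedModule.mkLinearMap Wp M ∘ₗ π) fun v hv => by
        rw [LinearMap.mem_ker, LinearMap.comp_apply, LinearMap.mem_ker.1 (hK' hv), map_zero]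
    haveI : IsLocalizedModule Wp θ := by
      refine ⟨IsLocalizedModule.map_units (LocalizedModule.mkLinearMap Wp M), fun y => ?_, fun {y z} e => ?_⟩
      · obtain ⟨⟨c, w⟩, hc⟩ := IsLocalizedModule.surj Wp (LocalizedModule.mkLinearMap Wp M) y
        obtain ⟨v, rfl⟩ := hπ c
        exact ⟨⟨K'.mkQ v, w⟩, hc⟩
      · obtain ⟨y, rfl⟩ := K'.mkQ_surjective y
        obtain ⟨z, rfl⟩ := K'.mkQ_surjective z
        obtain ⟨w, hw⟩ := IsLocalizedModule.exists_of_eq (S := Wp) (f := LocalizedModule.mkLinearMap Wp M)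
          (x₁ := π y) (x₂ := π z) e
        have hker : (w : MvPolynomial (Fin n) R) • (y - z) ∈ LinearMap.ker π := by
          rw [LinearMap.mem_ker, map_smul, map_sub, smul_sub, sub_eq_zero]
          exact hw
        obtain ⟨t, ht, htm⟩ := hGx p _ hker
        refine ⟨⟨algebraMap R (MvPolynomial (Fin n) R) t * w, mul_mem ⟨t, ht, rfl⟩ w.2⟩, ?_⟩
        show (algebraMap R (MvPolynomial (Fin n) R) t * w) • K'.mkQ y = (algebraMap R (MvPolynomial (Fin n) R) t * w) • K'.mkQ z
        rw [← sub_eq_zero, ← smul_sub, ← map_sub, ← map_smul, mul_smul]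
        exact (Submodule.Quotient.mk_eq_zero K').2 (Submodule.span_mono (Finset.coe_subset.2 Finset.subset_union_left) htm)
    haveI : Module.Flat R (LocalizedModule Wp M) := Groth.Agent.EssFPDescent.flat_localizedModule M Wp
    obtain ⟨g, ⟨f, hf, rfl⟩, hflat⟩ := Groth.Agent.FlatModel.exists_flat_powers_mem K'.mkQ K'.mkQ_surjective
      (by rw [Submodule.ker_mkQ]; exact ⟨H, rfl⟩) Wp
      (Module.Flat.of_linearEquiv ((IsLocalizedModule.iso Wp θ).restrictScalars R))
    refine ⟨f, hf, fun x hx => ?_⟩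
    let N := LocalizedModule (Submonoid.powers (algebraMap R (MvPolynomial (Fin n) R) f))
      ((Fin a → MvPolynomial (Fin n) R) ⧸ K')
    let fN := LocalizedModule.mkLinearMap (Submonoid.powers (algebraMap R (MvPolynomial (Fin n) R) f))
      ((Fin a → MvPolynomial (Fin n) R) ⧸ K')
    haveI : Module.Flat R N := hflat
    have hz : fN (K'.mkQ x) = 0 := by
      let ι : R →ₗ[R] (∀ q : s, Localization.AtPrime q.1.asIdeal) :=
        LinearMap.pi fun q => Algebra.linearMap R (Localization.AtPrime q.1.asIdeal)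
      have hι : Function.Injective ι := hs
      have h1 : fN (K'.mkQ x) ⊗ₜ[R] ι 1 = 0 := by
        rw [← Finset.univ_sum_single (ι 1), TensorProduct.tmul_sum]
        refine Finset.sum_eq_zero fun q _ => ?_
        obtain ⟨t, ht, htx⟩ := hGx q.1 x hx
        obtain ⟨u, hu⟩ := IsLocalization.map_units (Localization.AtPrime q.1.asIdeal) (⟨t, ht⟩ : q.1.asIdeal.primeCompl)
        have h2 : Pi.single q (ι 1 q) = t • (Pi.single q (↑u⁻¹ * ι 1 q) : ∀ q : s, Localization.AtPrime q.1.asIdeal) := by
          rw [← Pi.single_smul, Algebra.smul_def, ← mul_assoc, ← hu, Units.mul_inv, one_mul]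
        rw [h2, ← TensorProduct.smul_tmul, ← algebraMap_smul (MvPolynomial (Fin n) R) t, ← map_smul, ← map_smul,
          show K'.mkQ (algebraMap R (MvPolynomial (Fin n) R) t • x) = 0 from (Submodule.Quotient.mk_eq_zero K').2
            (Submodule.span_mono (Finset.coe_subset.2 ((Finset.subset_biUnion_of_mem G q.2).trans Finset.subset_union_right)) htx),
          map_zero, TensorProduct.zero_tmul]
      have h3 := Module.Flat.lTensor_preserves_injective_linearMap (M := N) ι hι
        (a₁ := fN (K'.mkQ x) ⊗ₜ[R] (1 : R)) (a₂ := 0) (by rw [LinearMap.lTensor_tmul, h1, map_zero])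
      have h4 := congrArg (TensorProduct.rid R N) h3
      rwa [TensorProduct.rid_tmul, one_smul, map_zero] at h4
    obtain ⟨⟨_, m, rfl⟩, hm⟩ := (IsLocalizedModule.eq_zero_iff (Submonoid.powers (algebraMap R (MvPolynomial (Fin n) R) f)) fN).1 hz
    refine ⟨m, (Submodule.Quotient.mk_eq_zero K').1 ?_⟩
    rw [map_pow]
    exact hm
  choose f hf hfx using hloc'
  have hspan : Ideal.span (Set.range f) = ⊤ := by
    by_contra hne
    obtain ⟨m, hm, hle⟩ := Ideal.exists_le_maximal _ hne
    exact hf ⟨m, hm.isPrime⟩ (hle (Ideal.subset_span ⟨⟨m, hm.isPrime⟩, rfl⟩))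
  obtain ⟨T, hT, hTfin⟩ := Submodule.mem_span_finite_of_mem_span (hspan ▸ Submodule.mem_top : (1 : R) ∈ Ideal.span (Set.range f))
  have hTp : ∀ r : T, ∃ p, f p = r.1 := fun r => hT r.2
  choose pt hpt using hTp
  let H : Finset (Fin a → MvPolynomial (Fin n) R) := s.biUnion G ∪ Finset.univ.biUnion fun r => G (pt r)
  refine Module.finitePresentation_of_surjective π hπ ⟨H, le_antisymm ?_ ?_⟩
  · refine Submodule.span_le.2 fun v hv => ?_
    rcases Finset.mem_union.1 hv with hv | hv
    · obtain ⟨q, _, hv⟩ := Finset.mem_biUnion.1 hv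
      exact hGK q hv
    · obtain ⟨q, _, hv⟩ := Finset.mem_biUnion.1 hv
      exact hGK _ hv
  · intro x hx
    let J : Ideal R := (Submodule.span (MvPolynomial (Fin n) R) (H : Set _)).restrictScalars R |>.comap
      (LinearMap.toSpanSingleton R (Fin a → MvPolynomial (Fin n) R) x)
    have hJ : J = ⊤ := by
      rw [← Ideal.radical_eq_top, eq_top_iff]
      intro c _
      rw [← mul_one c]
      refine Ideal.mul_mem_left _ c ?_
      refine Submodule.span_le.2 ?_ hTfin
      intro r hr
      obtain ⟨m, hm⟩ := hfx (pt ⟨r, hr⟩) x hx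
      refine ⟨m, ?_⟩
      show (r ^ m) • x ∈ Submodule.span (MvPolynomial (Fin n) R) (H : Set _)
      rw [← show f (pt ⟨r, hr⟩) = r from hpt ⟨r, hr⟩, ← algebraMap_smul (MvPolynomial (Fin n) R)]
      refine Submodule.span_mono (Finset.coe_subset.2 ?_) hm
      intro v hv
      rcases Finset.mem_union.1 hv with hv | hv
      · exact Finset.mem_union_right _ (Finset.mem_biUnion.2 ⟨⟨r, hr⟩, Finset.mem_univ _, hv⟩)
      · exact Finset.mem_union_left _ hv
    have h1 : (1 : R) ∈ J := hJ ▸ Submodule.mem_top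
    simpa [J] using h1

end Groth.Agent.S2050
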