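import Groth.Statements.S2052
import Groth.Agent.S9237
import Groth.Agent.BrnchLib.Unibranch

set_option autoImplicit false
universe u
open CAlg

namespace Groth.Agent.S2052

/-- A local ring `A` is unibranch (its reduction is a domain with local integral closure) if and only if
the henselization of `A` has a unique minimal prime ideal. -/
theorem result {A Ah : Type u} [CommRing A] [IsLocalRing A]
    [CommRing Ah] [IsLocalRing Ah] [Algebra A Ah] [IsLocalHom (algebraMap A Ah)]
    [Hensel.IsHenselization A Ah] :
    CAlg2.IsUnibranch A ↔ CAlgX.HasUniqueMinimalPrime Ah := by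
  rw [← Groth.Agent.BrnchLib.isUnibranch_iff, ← Groth.Agent.S9237.result A Ah, ENat.card_eq_one_iff_unique]
  constructor
  · rintro ⟨h⟩
    exact ⟨h.default.1, h.default.2, fun p hp => congrArg Subtype.val (h.uniq ⟨p, hp⟩)⟩
  · rintro ⟨p, hp, hu⟩
    exact ⟨⟨⟨⟨p, hp⟩⟩, fun q => Subtype.ext (hu q.1 q.2)⟩⟩

end Groth.Agent.S2052
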