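import Groth.Statements.S2060
import Groth.Agent.LiftCrit.Basic

set_option autoImplicit false
universe u
open CAlg

namespace Groth.Agent.S2060

/-- Let `R` be Noetherian, `S` of finite type over `R` and `𝔮` a prime of `S`. Then `R → S` is smooth at
`𝔮` if and only if for every surjection `B' → B` of Artinian local `R`-algebras whose kernel is
principal and killed by the maximal ideal of `B'`, every `R`-algebra map `S → B` under which the
maximal ideal pulls back to `𝔮` lifts to `B'`. -/
theorem result {R S : Type u} [CommRing R] [IsNoetherianRing R]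
    [CommRing S] [Algebra R S] [Algebra.FiniteType R S] (q : Ideal S) [q.IsPrime] :
    Algebra.IsSmoothAt R q ↔
      ∀ (B' B : Type u) [CommRing B'] [CommRing B] [IsLocalRing B'] [IsLocalRing B]
        [IsArtinianRing B'] [IsArtinianRing B] [Algebra R B'] [Algebra R B] (π : B' →ₐ[R] B),
        Function.Surjective π →
        (∃ t : B', RingHom.ker π.toRingHom = Ideal.span {t} ∧
          ∀ a ∈ IsLocalRing.maximalIdeal B', a * t = 0) →
        ∀ g : S →ₐ[R] B, (IsLocalRing.maximalIdeal B).comap g = q →
          ∃ g' : S →ₐ[R] B', π.comp g' = g := by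
  constructor
  · intro hs B' B _ _ _ _ _ _ _ _ π hπ hker g hg
    obtain ⟨t, ht, htm⟩ := hker
    have htm' : t ∈ IsLocalRing.maximalIdeal B' :=
      IsLocalRing.le_maximalIdeal (RingHom.ker_ne_top π.toRingHom) (ht.ge (Ideal.subset_span rfl))
    have hnil : IsNilpotent (RingHom.ker (π : B' →+* B)) := ⟨2, by
      show RingHom.ker π.toRingHom ^ 2 = 0
      rw [ht, pow_two, Ideal.span_singleton_mul_span_singleton, htm t htm']
      exact Ideal.span_singleton_eq_bot.2 rfl⟩
    have hunit : ∀ s : q.primeCompl, IsUnit (g s) := fun s => by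
      have h1 : (s : S) ∉ (IsLocalRing.maximalIdeal B).comap g := hg.symm ▸ s.2
      exact IsLocalRing.notMem_maximalIdeal.1 h1
    let gq : Localization.AtPrime q →ₐ[R] B := IsLocalization.liftAlgHom (f := g) hunit
    have : Algebra.FormallySmooth R (Localization.AtPrime q) := hs
    let G := Algebra.FormallySmooth.liftOfSurjective gq π hπ hnil
    refine ⟨G.comp (IsScalarTower.toAlgHom R S (Localization.AtPrime q)), AlgHom.ext fun z => ?_⟩
    exact (DFunLike.congr_fun (Algebra.FormallySmooth.comp_liftOfSurjective gq π hπ hnil) _).trans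
      (IsLocalization.lift_eq hunit z)
  · intro H
    let p := q.under R
    let R' := Localization.AtPrime p
    let S' := Localization.AtPrime q
    letI : Algebra R' S' := Localization.AtPrime.algebraOfLiesOver p q
    haveI : IsLocalHom (algebraMap R' S') := Localization.isLocalHom_localRingHom p q _ Ideal.LiesOver.over
    haveI : Algebra.EssFiniteType R S' := Algebra.EssFiniteType.comp R S S'
    haveI : Algebra.EssFiniteType R' S' := Algebra.EssFiniteType.of_comp R R' S'
    haveI : IsNoetherianRing R' := IsLocalization.isNoetherianRing p.primeCompl _ inferInstance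
    haveI : IsNoetherianRing S := Algebra.FiniteType.isNoetherianRing R S
    haveI : IsNoetherianRing S' := IsLocalization.isNoetherianRing q.primeCompl _ inferInstance
    haveI : Algebra.FormallyEtale R R' := Algebra.FormallyEtale.of_isLocalization p.primeCompl
    suffices Algebra.FormallySmooth R' S' from Algebra.FormallySmooth.comp R R' S'
    refine LiftCrit.formallySmooth_of_adic (Groth.Agent.AdicSmooth.isAdicFormallySmooth_of_smallLift ?_)
    intro A _ _ _ _ _ J _ hlen _ ψ _ hbij
    haveI : IsSimpleModule A J := Module.length_eq_one_iff.1 hlen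
    haveI : Nontrivial J := IsSimpleModule.nontrivial A J
    have hann := IsSimpleModule.annihilator_isMaximal (R := A) (M := J)
    obtain ⟨⟨t, htJ⟩, ht0⟩ := exists_ne (0 : J)
    have hspan : J = Ideal.span {t} := by
      refine le_antisymm (fun x hx => ?_) ((Ideal.span_singleton_le_iff_mem _).2 htJ)
      obtain ⟨c, hc⟩ := IsSimpleModule.toSpanSingleton_surjective A ht0 ⟨x, hx⟩
      exact Ideal.mem_span_singleton'.2 ⟨c, congrArg Subtype.val hc⟩
    have hkill : ∀ a ∈ IsLocalRing.maximalIdeal A, a * t = 0 := fun a ha =>
      congrArg Subtype.val (Module.mem_annihilator.1 (IsLocalRing.eq_maximalIdeal hann ▸ ha) ⟨t, htJ⟩)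
    letI : Algebra R A := ((algebraMap R' A).comp (algebraMap R R')).toAlgebra
    haveI : IsScalarTower R R' A := IsScalarTower.of_algebraMap_eq fun _ => rfl
    haveI : IsArtinianRing (A ⧸ J) := inferInstance
    let g : S →ₐ[R] A ⧸ J := (ψ.restrictScalars R).comp (IsScalarTower.toAlgHom R S S')
    have hg : (IsLocalRing.maximalIdeal (A ⧸ J)).comap g = q := by
      have h1 : (IsLocalRing.maximalIdeal (A ⧸ J)).comap ψ.toRingHom = IsLocalRing.maximalIdeal S' :=
        le_antisymm (IsLocalRing.le_maximalIdeal (Ideal.comap_ne_top _ (IsLocalRing.maximalIdeal.isMaximal _).ne_top))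
          fun x hx => map_nonunit ψ.toRingHom x hx
      have h2 : (IsLocalRing.maximalIdeal S').comap (algebraMap S S') = q :=
        IsLocalization.AtPrime.under_maximalIdeal _ q
      rw [← h1, Ideal.comap_comap] at h2
      exact h2
    obtain ⟨g', hg'⟩ := H A (A ⧸ J) (Ideal.Quotient.mkₐ R J) Ideal.Quotient.mk_surjective
      ⟨t, (Ideal.mk_ker).trans hspan, hkill⟩ g hg
    have hmk : IsLocalHom (Ideal.Quotient.mk J) := IsLocalHom.of_surjective _ Ideal.Quotient.mk_surjective
    have hunit : ∀ s : q.primeCompl, IsUnit (g' s) := fun s => by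
      refine isUnit_of_map_unit (Ideal.Quotient.mk J) _ ?_
      rw [show Ideal.Quotient.mk J (g' s) = ψ (algebraMap S S' s) from DFunLike.congr_fun hg' (s : S)]
      exact (IsLocalization.map_units S' s).map ψ
    let χ₀ : S' →+* A := IsLocalization.lift (g := g'.toRingHom) hunit
    have hχ₀ : ∀ r' : R', χ₀ (algebraMap R' S' r') = algebraMap R' A r' := by
      intro r'
      refine RingHom.congr_fun (?_ : χ₀.comp (algebraMap R' S') = algebraMap R' A) r'
      refine IsLocalization.ringHom_ext p.primeCompl (RingHom.ext fun r => ?_)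
      show χ₀ (algebraMap R' S' (algebraMap R R' r)) = algebraMap R' A (algebraMap R R' r)
      rw [← IsScalarTower.algebraMap_apply R R' S', IsScalarTower.algebraMap_apply R S S']
      exact (IsLocalization.lift_eq hunit _).trans (g'.commutes r)
    refine ⟨{ χ₀ with commutes' := hχ₀ }, AlgHom.coe_ringHom_injective ?_⟩
    refine IsLocalization.ringHom_ext q.primeCompl (RingHom.ext fun z => ?_)
    show Ideal.Quotient.mk J (χ₀ (algebraMap S S' z)) = ψ (algebraMap S S' z)
    rw [IsLocalization.lift_eq hunit z]
    exact DFunLike.congr_fun hg' z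

end Groth.Agent.S2060
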