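import Groth.Statements.S2065
import Groth.Agent.S19962
import Groth.Agent.BEForward.Basic
-- import your own Groth.Agent.* helpers here

set_option autoImplicit false
universe u
open CAlg

namespace Groth.Agent.S2065

/-- Let `R` be a Noetherian local ring and `0 → R^{n_e} → … → R^{n_1} → R^{n_0}` a complex of finite
free modules, the map `R^{n_{i+1}} → R^{n_i}` being given by the matrix `A i`. The complex is exact
at `R^{n_e}, …, R^{n_1}` if and only if for each `1 ≤ j ≤ e` the matrix of `R^{n_j} → R^{n_{j-1}}`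
has rank `n_j - n_{j+1} + … ± n_e` and its ideal of minors of that size is the unit ideal or
contains a regular sequence of length `j`. -/
theorem result {R : Type u} [CommRing R] [IsLocalRing R] [IsNoetherianRing R]
    (e : ℕ) (he : 1 ≤ e) (n : ℕ → ℕ) (A : (i : ℕ) → Matrix (Fin (n i)) (Fin (n (i + 1))) R)
    (hA : ∀ i, i + 2 ≤ e → A i * A (i + 1) = 0) :
    (LinearMap.ker (A (e - 1)).mulVecLin = ⊥ ∧
        ∀ i, i + 2 ≤ e → LinearMap.ker (A i).mulVecLin = LinearMap.range (A (i + 1)).mulVecLin) ↔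
      ∀ j, 1 ≤ j → j ≤ e →
        (CAlgX.matrixRank (A (j - 1)) : ℤ) = ∑ t ∈ Finset.Icc j e, (-1 : ℤ) ^ (t - j) * (n t : ℤ) ∧
          (CAlgX.detIdeal (A (j - 1)) = ⊤ ∨
            ∃ rs : List R, rs.length = j ∧ (∀ r ∈ rs, r ∈ CAlgX.detIdeal (A (j - 1))) ∧
              RingTheory.Sequence.IsRegular R rs) := by
  classical
  refine ⟨fun ⟨hker, hex⟩ => ?_, fun h => Groth.Agent.S19962.result e he n A hA (fun j h1 h2 => (h j h1 h2).1)
    (fun j h1 h2 => (h j h1 h2).2)⟩
  let A' : (i : ℕ) → Matrix (Fin (n i)) (Fin (n (i + 1))) R := fun i => if i < e then A i else 0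
  have hA' : ∀ i, i < e → A' i = A i := fun i hi => if_pos hi
  have hC : Groth.Agent.BEForward.IsExactCx n e A' := by
    refine ⟨fun i => ?_, if_neg (lt_irrefl e), fun k hk z hz => ?_⟩
    · by_cases h : i + 2 ≤ e
      · rw [hA' i (by omega), hA' (i + 1) (by omega), hA i h]
      · rw [show A' (i + 1) = 0 from if_neg (by omega), Matrix.mul_zero]
    · rw [hA' k hk] at hz
      by_cases h : k + 2 ≤ e
      · obtain ⟨v, hv⟩ := (hex k h).le (show z ∈ LinearMap.ker (A k).mulVecLin from hz)
        exact ⟨v, by rw [hA' (k + 1) (by omega)]; exact hv⟩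
      · obtain rfl : k = e - 1 := by omega
        exact ⟨0, by rw [Matrix.mulVec_zero, LinearMap.ker_eq_bot'.1 hker z hz]⟩
  have hsum : ∀ d k, k + d = e → (Groth.Agent.BEForward.rkAux n d k : ℤ) =
      ∑ t ∈ Finset.Icc (k + 1) e, (-1 : ℤ) ^ (t - (k + 1)) * (n t : ℤ) := by
    intro d
    induction d with
    | zero =>
      intro k hk
      rw [Finset.Icc_eq_empty (by omega), Finset.sum_empty]
      rfl
    | succ d ih =>
      intro k hk
      rw [Groth.Agent.BEForward.rkAux, Nat.cast_sub (Groth.Agent.BEForward.le_of_exact hC d k (by omega)),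
        ih (k + 1) (by omega), ← Finset.add_sum_Ioc_eq_sum_Icc (show k + 1 ≤ e by omega),
        show Finset.Ioc (k + 1) e = Finset.Icc (k + 1 + 1) e by ext; simp, Nat.sub_self, pow_zero, one_mul,
        sub_eq_add_neg, ← Finset.sum_neg_distrib]
      refine congrArg _ (Finset.sum_congr rfl fun t ht => ?_)
      rw [Finset.mem_Icc] at ht
      rw [show t - (k + 1) = t - (k + 1 + 1) + 1 by omega, pow_succ]
      ring
  intro j hj1 hj2
  obtain ⟨k, rfl⟩ : ∃ k, j = k + 1 := ⟨j - 1, by omega⟩
  have hr := Groth.Agent.BEForward.matrixRank_eq hC (e - k) k (by omega)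
  rw [hA' k (by omega)] at hr
  rw [Nat.add_sub_cancel]
  refine ⟨by rw [hr]; exact hsum _ _ (by omega), ?_⟩
  have hd := Groth.Agent.BEForward.exists_regular_sequence k R n e A' hC (e - k) (by omega)
  rw [hA' k (by omega), ← hr] at hd
  by_cases htop : CAlgX.detIdeal (A k) = ⊤
  · exact Or.inl htop
  · obtain ⟨rs, hlen, hmem, hreg⟩ := hd.resolve_left htop
    refine Or.inr ⟨rs, hlen, hmem, (IsLocalRing.isRegular_iff_isWeaklyRegular_of_subset_maximalIdeal
      fun r hr => IsLocalRing.le_maximalIdeal htop (hmem r hr)).2 hreg⟩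

end Groth.Agent.S2065
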