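import Groth.Statements.S2077
import Groth.Agent.S0590
import Groth.Agent.TTApprox.GraphImm

set_option autoImplicit false
universe u
open CategoryTheory AlgebraicGeometry
open Lim

attribute [-instance] CategoryTheory.catToReflQuiver
set_option linter.style.haveILetI false
set_option backward.isDefEq.respectTransparency false
set_option backward.isDefEq.respectTransparency.types false

namespace Groth.Agent.S2077

/-- Let `f : X → S` be locally of finite type with `X` quasi-compact and quasi-separated. Then there are
a morphism `f' : X' → S` of finite presentation (locally of finite presentation, quasi-compact,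
quasi-separated) and an immersion `X → X'` over `S`. -/
theorem result {X S : Scheme.{u}} (f : X ⟶ S) [LocallyOfFiniteType f]
    [CompactSpace X] [QuasiSeparatedSpace X] :
    ∃ (X' : Scheme.{u}) (f' : X' ⟶ S) (j : X ⟶ X'), LocallyOfFinitePresentation f' ∧ QuasiCompact f' ∧
      QuasiSeparated f' ∧ IsImmersion j ∧ j ≫ f' = f := by
  classical
  obtain ⟨J, _, _, _, D, c, hc, htr, hD, ⟨e⟩⟩ := S0590.result X
  haveI : ∀ {i j : Jᵒᵖ} (a : i ⟶ j), IsAffineHom (D.map a) := fun {i j} a => htr i j a
  haveI : ∀ j, CompactSpace (D.obj j) := fun j => (hD j).1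
  haveI : IsNoetherianRing (ULift.{u} ℤ) := isNoetherianRing_of_ringEquiv ℤ ULift.ringEquiv.symm
  haveI : IsNoetherianRing (CommRingCat.of (ULift.{u} ℤ)) := ‹_›
  haveI : ∀ j, IsLocallyNoetherian (D.obj j) := fun j =>
    haveI := (hD j).2
    LocallyOfFiniteType.isLocallyNoetherian (Limits.IsTerminal.from specULiftZIsTerminal (D.obj j))
  haveI : CompactSpace (c.extend e.inv).pt := ‹CompactSpace X›
  obtain ⟨i, hi⟩ := TTApprox.exists_isImmersion_graphStage (c := c.extend e.inv)
    (Limits.IsLimit.extendIso e.inv hc) (Limits.IsTerminal.from specULiftZIsTerminal S)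
    (fun i => Limits.IsTerminal.from specULiftZIsTerminal (D.obj i)) f
    (fun i => specULiftZIsTerminal.hom_ext _ _)
  let τD : D.obj i ⟶ Spec (CommRingCat.of (ULift.{u} ℤ)) := Limits.IsTerminal.from specULiftZIsTerminal (D.obj i)
  haveI : LocallyOfFiniteType τD := (hD i).2
  haveI : LocallyOfFinitePresentation τD := inferInstance
  haveI : QuasiCompact τD := quasiCompact_of_compactSpace τD
  haveI : QuasiSeparated τD := QuasiSeparated.of_quasiSeparatedSpace τD
  refine ⟨_, Limits.pullback.fst (Limits.IsTerminal.from specULiftZIsTerminal S) τD, _,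
    MorphismProperty.pullback_fst _ _ inferInstance, MorphismProperty.pullback_fst _ _ inferInstance,
    MorphismProperty.pullback_fst _ _ inferInstance, hi, Limits.pullback.lift_fst _ _ _⟩

end Groth.Agent.S2077
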