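import Groth.Statements.S2078
import Groth.Agent.Graft.Model
-- import your own Groth.Agent.* helpers here

set_option autoImplicit false
universe u
open CategoryTheory AlgebraicGeometry
open Lim

attribute [-instance] CategoryTheory.catToReflQuiver

namespace Groth.Agent.S2078

/-- Let `f : X → S` be locally of finite type with `X` quasi-compact and quasi-separated and `S`
quasi-separated. Then there are a morphism `f' : X' → S` of finite presentation and a closed
immersion `X → X'` over `S`. -/
theorem result {X S : Scheme.{u}} (f : X ⟶ S) [LocallyOfFiniteType f]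
    [CompactSpace X] [QuasiSeparatedSpace X] [QuasiSeparatedSpace S] :
    ∃ (X' : Scheme.{u}) (f' : X' ⟶ S) (j : X ⟶ X'), LocallyOfFinitePresentation f' ∧ QuasiCompact f' ∧
      QuasiSeparated f' ∧ IsClosedImmersion j ∧ j ≫ f' = f := by
  obtain ⟨P, p, k, hc, hq, hp, hk, hkp⟩ := Graft.exists_hasModel f
  exact ⟨P, p, k, hp, quasiCompact_of_compactSpace p, QuasiSeparated.of_quasiSeparatedSpace p, hk, hkp⟩

end Groth.Agent.S2078
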