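import Groth.Statements.S2100
import Groth.Agent.Achinger9.Nagata
import Mathlib.RingTheory.AlgebraicIndependent.TranscendenceBasis

set_option autoImplicit false
universe u
open CAlg

namespace Groth.Agent.S2100

open MvPolynomial

/-- Replacing a tuple with an algebraic relation by a shorter one, integrally. -/
theorem exists_shorter {k : Type u} [Field k] {B : Type u} [CommRing B] [Algebra k B] {N : ℕ}
    (z : Fin (N + 1) → B) (hz : (aeval z : MvPolynomial (Fin (N + 1)) k →ₐ[k] B).toRingHom.IsIntegral)
    (f : MvPolynomial (Fin (N + 1)) k) (hf : f ≠ 0) (hfz : aeval z f = 0) :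
    ∃ e : Fin N → ℕ, (∀ i, e i ≠ 0) ∧
      (aeval (fun i => z i.succ - z 0 ^ e i) : MvPolynomial (Fin N) k →ₐ[k] B).toRingHom.IsIntegral := by
  let e : Fin N → ℕ := fun i => (1 * (2 + f.totalDegree)) ^ (i.succ : Fin (N + 1)).1
  let w : Fin N → B := fun i => z i.succ - z 0 ^ e i
  refine ⟨e, fun i => (pow_pos (by omega) _).ne', ?_⟩
  let φ : MvPolynomial (Fin N) k →ₐ[k] B := aeval w
  let z' : Fin (N + 1) → B := Fin.cons (z 0) w
  have hT : (aeval z').comp (Achinger9.T1 1 f 1) = (aeval z : MvPolynomial (Fin (N + 1)) k →ₐ[k] B) := by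
    refine algHom_ext fun i => ?_
    cases i using Fin.cases <;> simp [z', w, e]
  have heval : ∀ x : MvPolynomial (Fin (N + 1)) k,
      aeval z' x = (finSuccEquiv k N x).eval₂ φ.toRingHom (z 0) := by
    intro x
    induction x using MvPolynomial.induction_on with
    | C a => simp [finSuccEquiv_apply, φ]
    | add a b ha hb => simp [ha, hb]
    | mul_X a i ha =>
      rw [map_mul, map_mul, Polynomial.eval₂_mul, ha]
      congr 1
      cases i using Fin.cases <;> simp [finSuccEquiv_X_zero, finSuccEquiv_X_succ, φ, z']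
  have h0 : φ.toRingHom.IsIntegralElem (z 0) := by
    have hu := Achinger9.T_leadingcoeff_isUnit 1 f hf
    refine ⟨_, Polynomial.monic_of_isUnit_leadingCoeff_inv_smul hu, ?_⟩
    have h1 : (finSuccEquiv k N (Achinger9.T1 1 f 1 f)).eval₂ φ.toRingHom (z 0) = 0 := by
      rw [← heval, ← AlgHom.comp_apply, hT, hfz]
    rw [Units.smul_def, Polynomial.smul_eq_C_mul, Polynomial.eval₂_mul]
    erw [h1]
    rw [mul_zero]
  algebraize [φ.toRingHom]
  have hgen : ∀ i, z i ∈ integralClosure (MvPolynomial (Fin N) k) B := by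
    intro i
    have h0' : z 0 ∈ integralClosure (MvPolynomial (Fin N) k) B := h0
    cases i using Fin.cases with
    | zero => exact h0'
    | succ i =>
      have hw : w i ∈ integralClosure (MvPolynomial (Fin N) k) B := by
        have : w i = algebraMap (MvPolynomial (Fin N) k) B (X i) := by
          rw [RingHom.algebraMap_toAlgebra]; simp [φ]
        rw [this]
        exact Subalgebra.algebraMap_mem _ _
      have := add_mem hw (pow_mem h0' (e i))
      simpa [w] using this
  have hrange : ∀ x : MvPolynomial (Fin (N + 1)) k,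
      aeval z x ∈ integralClosure (MvPolynomial (Fin N) k) B := by
    intro x
    induction x using MvPolynomial.induction_on with
    | C a =>
      have : aeval z (C a) = algebraMap (MvPolynomial (Fin N) k) B (C a) := by
        rw [RingHom.algebraMap_toAlgebra]; simp [φ]
      rw [this]
      exact Subalgebra.algebraMap_mem _ _
    | add a b ha hb => rw [map_add]; exact add_mem ha hb
    | mul_X a i ha => rw [map_mul, aeval_X]; exact mul_mem ha (hgen i)
  intro b
  obtain ⟨p, hp, hpb⟩ := hz b
  let ψ : MvPolynomial (Fin (N + 1)) k →+* integralClosure (MvPolynomial (Fin N) k) B :=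
    RingHom.codRestrict (aeval z : MvPolynomial (Fin (N + 1)) k →ₐ[k] B).toRingHom _ hrange
  have hC : IsIntegral (integralClosure (MvPolynomial (Fin N) k) B) b := by
    refine ⟨p.map ψ, hp.map ψ, ?_⟩
    rw [Polynomial.eval₂_map]
    exact hpb
  exact isIntegral_trans b hC

variable {k : Type u} [Field k] {n s : ℕ}

theorem finite_of_isIntegral {ι : Type} (σ : Fin n → ι) (hσ : Function.Surjective σ)
    (v : ι → MvPolynomial (Fin n) k)
    (hint : (aeval v : MvPolynomial ι k →ₐ[k] _).toRingHom.IsIntegral) :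
    ((aeval v).comp (rename σ : MvPolynomial (Fin n) k →ₐ[k] MvPolynomial ι k)).toRingHom.Finite := by
  have hi : ((aeval v).comp (rename σ : MvPolynomial (Fin n) k →ₐ[k] MvPolynomial ι k)).toRingHom.IsIntegral := by
    have hσ' : Function.Surjective (rename σ : MvPolynomial (Fin n) k →ₐ[k] MvPolynomial ι k).toRingHom :=
      rename_surjective σ hσ
    change ((aeval v).toRingHom.comp (rename σ : MvPolynomial (Fin n) k →ₐ[k] MvPolynomial ι k).toRingHom).IsIntegral
    exact (RingHom.isIntegral_of_surjective _ hσ').trans _ _ hint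
  refine hi.to_finite ?_
  have hc : algebraMap k (MvPolynomial (Fin n) k) =
      ((aeval v).comp (rename σ : MvPolynomial (Fin n) k →ₐ[k] MvPolynomial ι k)).toRingHom.comp (algebraMap k (MvPolynomial (Fin n) k)) :=
    RingHom.ext fun c => (((aeval v).comp (rename σ)).commutes c).symm
  exact (hc ▸ RingHom.finiteType_algebraMap.mpr inferInstance).of_comp_finiteType

/-- Reducing the number of generators taken from the ideal. -/
theorem reduce (q : Ideal (MvPolynomial (Fin n) k)) (h : Fin s → MvPolynomial (Fin n) k) :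
    ∀ (m : ℕ) (F : Fin m → MvPolynomial (Fin n) k) (H : Fin s → MvPolynomial (Fin n) k),
      (∀ i, F i ∈ q) → (∀ j, H j - h j ∈ q) → n - s ≤ m →
      (aeval (Sum.elim F H) : MvPolynomial (Fin m ⊕ Fin s) k →ₐ[k] _).toRingHom.IsIntegral →
      ∃ (F' : Fin (n - s) → MvPolynomial (Fin n) k) (H' : Fin s → MvPolynomial (Fin n) k),
        (∀ i, F' i ∈ q) ∧ (∀ j, H' j - h j ∈ q) ∧
          (aeval (Sum.elim F' H') : MvPolynomial (Fin (n - s) ⊕ Fin s) k →ₐ[k] _).toRingHom.IsIntegral := by
  intro m
  induction m with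
  | zero =>
    intro F H hF hH hle hint
    obtain hns : n - s = 0 := by omega
    rw [hns]
    exact ⟨F, H, hF, hH, hint⟩
  | succ m ih =>
    intro F H hF hH hle hint
    rcases Nat.eq_or_lt_of_le hle with heq | hlt
    · rw [heq]
      exact ⟨F, H, hF, hH, hint⟩
    · let z : Fin (m + s + 1) → MvPolynomial (Fin n) k :=
        Fin.cons (F 0) (Sum.elim (fun i => F i.succ) H ∘ finSumFinEquiv.symm)
      have hnot : ¬ AlgebraicIndependent k z := fun hi => by
        have h1 := hi.lift_cardinalMk_le_trdeg
        rw [MvPolynomial.trdeg_of_isDomain] at h1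
        simp at h1
        have h2 : m + s + 1 ≤ n := by exact_mod_cast h1
        omega
      obtain ⟨f, hfz, hf⟩ : ∃ f, aeval z f = 0 ∧ f ≠ 0 := by
        rw [algebraicIndependent_iff] at hnot
        push Not at hnot
        exact hnot
      have hzint : (aeval z : MvPolynomial (Fin (m + s + 1)) k →ₐ[k] _).toRingHom.IsIntegral := by
        let t : Fin (m + 1) ⊕ Fin s → Fin (m + s + 1) :=
          Sum.elim (Fin.cases 0 fun i => (finSumFinEquiv (Sum.inl i)).succ)
            fun j => (finSumFinEquiv (Sum.inr j)).succ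
        have hcomp : (aeval z).comp (rename t) =
            (aeval (Sum.elim F H) : MvPolynomial (Fin (m + 1) ⊕ Fin s) k →ₐ[k] _) := by
          refine algHom_ext fun i => ?_
          rcases i with i | j
          · cases i using Fin.cases <;> simp [t, z]
          · simp [t, z]
        refine RingHom.IsIntegral.tower_top (rename t).toRingHom _ ?_
        change ((aeval z).comp (rename t : MvPolynomial (Fin (m + 1) ⊕ Fin s) k →ₐ[k] _)).toRingHom.IsIntegral
        rw [hcomp]
        exact hint
      obtain ⟨e, he, hw⟩ := exists_shorter z hzint f hf hfz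
      refine ih (fun i => F i.succ - F 0 ^ e (finSumFinEquiv (Sum.inl i)))
        (fun j => H j - F 0 ^ e (finSumFinEquiv (Sum.inr j))) ?_ ?_ (by omega) ?_
      · intro i
        exact sub_mem (hF _) (Ideal.pow_mem_of_mem _ (hF 0) _ (Nat.pos_of_ne_zero (he _)))
      · intro j
        rw [sub_right_comm]
        exact sub_mem (hH j) (Ideal.pow_mem_of_mem _ (hF 0) _ (Nat.pos_of_ne_zero (he _)))
      · refine RingHom.IsIntegral.tower_top (rename finSumFinEquiv.symm).toRingHom _ ?_
        have hcomp : (aeval (Sum.elim (fun i => F i.succ - F 0 ^ e (finSumFinEquiv (Sum.inl i)))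
            (fun j => H j - F 0 ^ e (finSumFinEquiv (Sum.inr j))))).comp
              (rename finSumFinEquiv.symm) =
            (aeval (fun i => z i.succ - z 0 ^ e i) : MvPolynomial (Fin (m + s)) k →ₐ[k] _) := by
          refine algHom_ext fun i => ?_
          obtain ⟨c, rfl⟩ := finSumFinEquiv.surjective i
          rcases c with a | b <;> simp [z]
        change ((aeval (Sum.elim (fun i => F i.succ - F 0 ^ e (finSumFinEquiv (Sum.inl i)))
            (fun j => H j - F 0 ^ e (finSumFinEquiv (Sum.inr j))))).comp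
              (rename finSumFinEquiv.symm : MvPolynomial (Fin (m + s)) k →ₐ[k] _)).toRingHom.IsIntegral
        rw [hcomp]
        exact hw

/-- Let `k` be a field, `𝔮` a prime of `k[x_1, …, x_n]` and `r` the transcendence degree of `κ(𝔮)` over
`k`. Then there is a finite `k`-algebra map `φ : k[y_1, …, y_n] → k[x_1, …, x_n]` with `φ⁻¹(𝔮) =
(y_{r+1}, …, y_n)`. -/
theorem result {k : Type u} [Field k] (n r : ℕ) (q : Ideal (MvPolynomial (Fin n) k))
    [q.IsPrime] (hr : Algebra.trdeg k q.ResidueField = r) :
    ∃ φ : MvPolynomial (Fin n) k →ₐ[k] MvPolynomial (Fin n) k, φ.toRingHom.Finite ∧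
      q.comap φ = Ideal.span (Set.range fun i : {i : Fin n // r ≤ (i : ℕ)} => MvPolynomial.X (i : Fin n)) := by
  obtain ⟨s, hsn, g, hg, hgint⟩ :=
    exists_integral_inj_algHom_of_quotient q (Ideal.IsPrime.ne_top ‹_›)
  have hsr : s = r := by
    haveI : Algebra.IsAlgebraic (MvPolynomial (Fin n) k ⧸ q) q.ResidueField :=
      IsLocalization.isAlgebraic _ (nonZeroDivisors (MvPolynomial (Fin n) k ⧸ q))
    have h1 : Algebra.trdeg k q.ResidueField = Algebra.trdeg k (MvPolynomial (Fin n) k ⧸ q) := by
      haveI := (faithfulSMul_iff_algebraMap_injective k (MvPolynomial (Fin n) k ⧸ q)).mpr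
        (RingHom.injective _)
      rw [← trdeg_add_eq k (MvPolynomial (Fin n) k ⧸ q),
        (trdeg_eq_zero_iff (R := MvPolynomial (Fin n) k ⧸ q) (A := q.ResidueField)).2 inferInstance,
        add_zero]
    letI := g.toRingHom.toAlgebra
    haveI : IsScalarTower k (MvPolynomial (Fin s) k) (MvPolynomial (Fin n) k ⧸ q) :=
      IsScalarTower.of_algebraMap_eq fun c => (g.commutes c).symm
    haveI : FaithfulSMul (MvPolynomial (Fin s) k) (MvPolynomial (Fin n) k ⧸ q) :=
      (faithfulSMul_iff_algebraMap_injective _ _).mpr hg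
    haveI : Algebra.IsIntegral (MvPolynomial (Fin s) k) (MvPolynomial (Fin n) k ⧸ q) := ⟨hgint⟩
    have h2 : Algebra.trdeg k (MvPolynomial (Fin n) k ⧸ q) =
        Algebra.trdeg k (MvPolynomial (Fin s) k) := by
      rw [← trdeg_add_eq k (MvPolynomial (Fin s) k),
        (trdeg_eq_zero_iff (R := MvPolynomial (Fin s) k) (A := MvPolynomial (Fin n) k ⧸ q)).2 inferInstance,
        add_zero]
    rw [h1, h2, MvPolynomial.trdeg_of_isDomain] at hr
    simpa using hr
  subst hsr
  choose h hh using fun i => Ideal.Quotient.mk_surjective (g (X i))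
  have hgh : ∀ p, g p = Ideal.Quotient.mk q (aeval h p) := fun p => by
    have : g = (Ideal.Quotient.mkₐ k q).comp (aeval h) := algHom_ext fun i => by simp [hh]
    rw [this]; rfl
  choose m hm hmx using fun j : Fin n => hgint (Ideal.Quotient.mk q (X j))
  let F : Fin n → MvPolynomial (Fin n) k := fun j => (m j).eval₂ (aeval h).toRingHom (X j)
  have hF : ∀ j, F j ∈ q := fun j => by
    rw [← Ideal.Quotient.eq_zero_iff_mem, ← hmx j]
    change Ideal.Quotient.mk q _ = _
    rw [Polynomial.hom_eval₂]
    congr 1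
    exact RingHom.ext fun p => (hgh p).symm
  have hdeg : ∀ j, (m j).natDegree ≠ 0 := fun j h0 => by
    have h1 := hmx j
    rw [(hm j).natDegree_eq_zero.mp h0, Polynomial.eval₂_one] at h1
    haveI := Ideal.Quotient.nontrivial_iff.mpr (Ideal.IsPrime.ne_top (I := q) ‹_›)
    exact one_ne_zero h1
  have hFint : (aeval (Sum.elim F h) : MvPolynomial (Fin n ⊕ Fin s) k →ₐ[k] _).toRingHom.IsIntegral := by
    intro x
    induction x using MvPolynomial.induction_on with
    | C a =>
      have : (C a : MvPolynomial (Fin n) k) =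
          (aeval (Sum.elim F h) : MvPolynomial (Fin n ⊕ Fin s) k →ₐ[k] _).toRingHom (C a) := by simp
      rw [this]
      exact RingHom.isIntegralElem_map _
    | add a b ha hb => exact RingHom.IsIntegralElem.add _ ha hb
    | mul_X a i ha =>
      refine RingHom.IsIntegralElem.mul _ ha ?_
      refine ⟨(m i).map (rename Sum.inr : MvPolynomial (Fin s) k →ₐ[k] MvPolynomial (Fin n ⊕ Fin s) k).toRingHom -
        Polynomial.C (X (Sum.inl i)), ?_, ?_⟩
      · refine ((hm i).map _).sub_of_left ?_
        refine lt_of_le_of_lt Polynomial.degree_C_le ?_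
        rw [(hm i).degree_map, Polynomial.degree_eq_natDegree (hm i).ne_zero]
        exact_mod_cast Nat.pos_of_ne_zero (hdeg i)
      · rw [Polynomial.eval₂_sub, Polynomial.eval₂_C, Polynomial.eval₂_map]
        have hc : ((aeval (Sum.elim F h)).toRingHom.comp (rename Sum.inr :
            MvPolynomial (Fin s) k →ₐ[k] MvPolynomial (Fin n ⊕ Fin s) k).toRingHom) =
            (aeval h : MvPolynomial (Fin s) k →ₐ[k] _).toRingHom :=
          RingHom.ext fun p => aeval_rename Sum.inr (Sum.elim F h) p
        rw [hc]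
        simp [F]
  obtain ⟨F', H', hF', hH', hint⟩ := reduce q h n F h hF (by simp) (Nat.sub_le _ _) hFint
  let σ : Fin n → Fin (n - s) ⊕ Fin s := fun i =>
    if hi : (i : ℕ) < s then Sum.inr ⟨i, hi⟩ else Sum.inl ⟨i - s, by omega⟩
  let φ : MvPolynomial (Fin n) k →ₐ[k] MvPolynomial (Fin n) k :=
    (aeval (Sum.elim F' H')).comp (rename σ)
  refine ⟨φ, ?_, ?_⟩
  · have hσ : Function.Surjective σ := by
      rintro (a | b)
      · exact ⟨⟨a + s, by omega⟩, by simp [σ]⟩
      · exact ⟨⟨b, by omega⟩, by simp [σ]⟩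
    exact finite_of_isIntegral σ hσ (Sum.elim F' H') hint
  · let J : Ideal (MvPolynomial (Fin n) k) :=
      Ideal.span (Set.range fun i : {i : Fin n // s ≤ (i : ℕ)} => X (i : Fin n))
    let π : MvPolynomial (Fin n) k →ₐ[k] MvPolynomial (Fin s) k :=
      aeval fun i => if hi : (i : ℕ) < s then X ⟨i, hi⟩ else 0
    have hπ : (Ideal.Quotient.mkₐ k q).comp φ = g.comp π := by
      refine algHom_ext fun i => ?_
      by_cases hi : (i : ℕ) < s
      · simp only [φ, π, AlgHom.comp_apply, rename_X, aeval_X, σ, dif_pos hi, Sum.elim_inr,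
          Ideal.Quotient.mkₐ_eq_mk]
        rw [← hh, Ideal.Quotient.mk_eq_mk_iff_sub_mem]
        exact hH' _
      · simp only [φ, π, AlgHom.comp_apply, rename_X, aeval_X, σ, dif_neg hi, Sum.elim_inl,
          map_zero, Ideal.Quotient.mkₐ_eq_mk, Ideal.Quotient.eq_zero_iff_mem]
        exact hF' _
    ext p
    rw [Ideal.mem_comap, ← Ideal.Quotient.eq_zero_iff_mem]
    change (Ideal.Quotient.mkₐ k q).comp φ p = 0 ↔ _
    rw [hπ, AlgHom.comp_apply, map_eq_zero_iff _ hg]
    constructor
    · intro hp
      have : (Ideal.Quotient.mkₐ k J).comp ((rename (Fin.castLE hsn)).comp π) =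
          Ideal.Quotient.mkₐ k J := by
        refine algHom_ext fun i => ?_
        by_cases hi : (i : ℕ) < s
        · simp [π, hi]
        · simp only [π, AlgHom.comp_apply, aeval_X, dif_neg hi, map_zero,
            Ideal.Quotient.mkₐ_eq_mk]
          exact (Ideal.Quotient.eq_zero_iff_mem.mpr
            (show X i ∈ J from Ideal.subset_span ⟨⟨i, not_lt.mp hi⟩, rfl⟩)).symm
      have h2 := congrArg (fun ψ : MvPolynomial (Fin n) k →ₐ[k] _ ⧸ J => ψ p) this
      simp only [AlgHom.comp_apply, hp, map_zero, Ideal.Quotient.mkₐ_eq_mk] at h2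
      exact Ideal.Quotient.eq_zero_iff_mem.mp h2.symm
    · intro hp
      have : J ≤ RingHom.ker π := by
        refine Ideal.span_le.mpr ?_
        rintro _ ⟨i, rfl⟩
        simp [π, not_lt.mpr i.2]
      exact this hp

end Groth.Agent.S2100
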