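import Groth.Statements.S2101
import Mathlib.Data.Fin.Tuple.Sort
import Mathlib.RingTheory.Regular.RegularSequence
import Mathlib.Algebra.MvPolynomial.Eval
import Mathlib.Tactic.LinearCombination
-- import your own Groth.Agent.* helpers here

set_option autoImplicit false
universe u
open CAlg

namespace Groth.Agent.S2101

open MvPolynomial

/-- Weak regularity of `List.ofFn g`, spelled out with elements. -/
theorem weaklyRegular_ofFn_iff {A : Type*} [CommRing A] {r : ℕ} (g : Fin r → A) :
    RingTheory.Sequence.IsWeaklyRegular A (List.ofFn g) ↔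
      ∀ i : Fin r, ∀ x : A, g i * x ∈ Ideal.span (g '' Set.Iio i) →
        x ∈ Ideal.span (g '' Set.Iio i) := by
  have h : ∀ i : Fin r, Ideal.ofList ((List.ofFn g).take i) = Ideal.span (g '' Set.Iio i) := by
    intro i
    refine congrArg Ideal.span (Set.ext fun a => ?_)
    rw [Set.mem_setOf_eq, List.mem_take_iff_getElem]
    constructor
    · rintro ⟨j, hj, rfl⟩
      simp only [List.length_ofFn, lt_min_iff] at hj
      exact ⟨⟨j, hj.2⟩, hj.1, by simp⟩
    · rintro ⟨j, hj, rfl⟩
      exact ⟨j, by simp only [List.length_ofFn, lt_min_iff]; exact ⟨hj, j.2⟩, by simp⟩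
  rw [RingTheory.Sequence.isWeaklyRegular_iff]
  constructor
  · intro H i x hx
    have := H i (by simp)
    rw [isSMulRegular_quotient_iff_mem_of_smul_mem] at this
    simp only [smul_eq_mul, Ideal.mul_top, List.getElem_ofFn, h] at this
    exact this x hx
  · intro H i hi
    rw [List.length_ofFn] at hi
    rw [isSMulRegular_quotient_iff_mem_of_smul_mem]
    simp only [smul_eq_mul, Ideal.mul_top, List.getElem_ofFn]
    rw [h ⟨i, hi⟩]
    exact fun x hx => H ⟨i, hi⟩ x hx

variable {R : Type u} [CommRing R] {r : ℕ} (f : Fin r → R)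

/-- `f k` is a nonzerodivisor modulo the `f i` with `i ∈ T`. -/
def Nzd (k : Fin r) (T : Finset (Fin r)) : Prop :=
  ∀ x : R, f k * x ∈ Ideal.span (f '' (T : Set (Fin r))) → x ∈ Ideal.span (f '' (T : Set (Fin r)))

theorem nzd_all_of_below (H : ∀ k, ∀ T : Finset (Fin r), (∀ i ∈ T, i < k) → Nzd f k T) :
    ∀ T : Finset (Fin r), ∀ k ∉ T, Nzd f k T := by
  intro T
  induction T using Finset.induction_on_max with
  | empty => intro k _; exact H k ∅ (by simp)
  | insert m T hmax ih =>
    intro k hk
    rw [Finset.mem_insert, not_or] at hk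
    rcases lt_or_gt_of_ne hk.1 with hkm | hmk
    · -- `k < m`: swap
      have hB : Nzd f m (insert k T) := H m _ fun i hi => by
        rcases Finset.mem_insert.mp hi with rfl | hi
        · exact hkm
        · exact hmax i hi
      have hA := ih k hk.2
      intro x hx
      simp only [Finset.coe_insert, Set.image_insert_eq] at hx ⊢
      obtain ⟨b, j, hj, hxj⟩ := Ideal.mem_span_insert.mp hx
      have hb : b ∈ Ideal.span (f '' (insert k T : Finset (Fin r)) : Set R) := by
        refine hB b ?_
        rw [Finset.coe_insert, Set.image_insert_eq, Ideal.mem_span_insert]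
        refine ⟨x, -j, neg_mem hj, ?_⟩
        linear_combination (norm := ring_nf) -hxj
      rw [Finset.coe_insert, Set.image_insert_eq, Ideal.mem_span_insert] at hb
      obtain ⟨z, j', hj', rfl⟩ := hb
      have h2 : x - f m * z ∈ Ideal.span (f '' (T : Set (Fin r))) := by
        refine hA _ ?_
        have : f k * (x - f m * z) = f m * j' + j := by
          linear_combination (norm := ring_nf) hxj
        rw [this]
        exact add_mem (Ideal.mul_mem_left _ _ hj') hj
      exact Ideal.mem_span_insert.mpr ⟨z, _, h2, by ring⟩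
    · refine H k _ fun i hi => ?_
      rcases Finset.mem_insert.mp hi with rfl | hi
      · exact hmk
      · exact (hmax i hi).trans hmk

theorem perm_iff : (∀ σ : Equiv.Perm (Fin r),
    RingTheory.Sequence.IsWeaklyRegular R (List.ofFn (f ∘ σ))) ↔
      ∀ k, ∀ T : Finset (Fin r), (∀ i ∈ T, i < k) → Nzd f k T := by
  classical
  constructor
  · intro H k T hT
    let key : Fin r → ℕ := fun j => if j ∈ T then 0 else if j = k then 1 else 2
    let σ := Tuple.sort key
    have hmono : Monotone (key ∘ σ) := Tuple.monotone_sort key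
    have hk : k ∉ T := fun h => lt_irrefl k (hT k h)
    let i := σ.symm k
    have hi : σ i = k := σ.apply_symm_apply k
    have himg : σ '' Set.Iio i = (T : Set (Fin r)) := by
      ext a
      constructor
      · rintro ⟨j, hj, rfl⟩
        by_contra ha
        have hne : σ j ≠ k := fun h => (ne_of_lt hj) (σ.injective (h.trans hi.symm))
        have := hmono (le_of_lt hj)
        simp only [Function.comp_apply, key, hi, if_neg hk, if_true] at this
        rw [if_neg (by simpa using ha), if_neg hne] at this
        omega
      · intro ha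
        refine ⟨σ.symm a, ?_, σ.apply_symm_apply a⟩
        by_contra hlt
        rw [Set.mem_Iio, not_lt] at hlt
        have := hmono hlt
        simp only [Function.comp_apply, key, hi, Equiv.apply_symm_apply, if_neg hk, if_true] at this
        rw [if_pos (by exact Finset.mem_coe.mp ha)] at this
        omega
    intro x hx
    have := (weaklyRegular_ofFn_iff _).mp (H σ) i x
    simp only [Set.image_comp, himg] at this
    simp only [Function.comp_apply, hi] at this
    exact this hx
  · intro H σ
    rw [weaklyRegular_ofFn_iff]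
    intro i x hx
    have hn := nzd_all_of_below f H ((Finset.Iio i).map σ.toEmbedding) (σ i) (by simp) x
    rw [Finset.coe_map, Finset.coe_Iio, Equiv.coe_toEmbedding] at hn
    rw [Set.image_comp] at hx ⊢
    exact hn hx

/-- The prefix ideal `(f i X i : i < k)`. -/
noncomputable abbrev J (k : Fin r) : Ideal (MvPolynomial (Fin r) R) :=
  Ideal.span ((fun i => C (f i) * X i) '' Set.Iio k)

/-- The indices `i < k` occurring in the exponent `E`. -/
def supp (k : Fin r) (E : Fin r →₀ ℕ) : Finset (Fin r) := E.support.filter (· < k)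

theorem mem_J_iff (k : Fin r) (p : MvPolynomial (Fin r) R) :
    p ∈ J f k ↔ ∀ E, coeff E p ∈ Ideal.span (f '' (supp k E : Set (Fin r))) := by
  classical
  constructor
  · intro hp
    induction hp using Submodule.span_induction with
    | mem q hq =>
      obtain ⟨i, hi, rfl⟩ := hq
      intro E
      rw [coeff_C_mul, coeff_X]
      split_ifs with h
      · refine Ideal.mul_mem_right _ _ (Ideal.subset_span ⟨i, ?_, rfl⟩)
        subst h
        simpa [supp] using hi
      · simp
    | zero => simp
    | add a b _ _ ha hb => intro E; rw [coeff_add]; exact add_mem (ha E) (hb E)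
    | smul a q _ hq =>
      intro E
      rw [smul_eq_mul, coeff_mul]
      refine sum_mem fun x hx => Ideal.mul_mem_left _ _ ?_
      refine Ideal.span_mono (Set.image_mono ?_) (hq x.2)
      intro i hi
      simp only [supp, Finset.coe_filter, Finsupp.mem_support_iff, Set.mem_setOf_eq] at hi ⊢
      refine ⟨?_, hi.2⟩
      have hE : x.1 + x.2 = E := Finset.HasAntidiagonal.mem_antidiagonal.mp hx
      rw [← hE, Finsupp.add_apply]
      have := hi.1
      omega
  · intro h
    rw [p.as_sum]
    refine sum_mem fun E _ => ?_
    have hle : Ideal.span (f '' (supp k E : Set (Fin r))) ≤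
        Submodule.comap (monomial E : R →ₗ[R] MvPolynomial (Fin r) R)
          ((J f k).restrictScalars R) := by
      rw [Ideal.span, Submodule.span_le]
      rintro _ ⟨i, hi, rfl⟩
      simp only [supp, Finset.coe_filter, Finsupp.mem_support_iff, Set.mem_setOf_eq] at hi
      simp only [SetLike.mem_coe, Submodule.mem_comap, Submodule.restrictScalars_mem]
      have : monomial E (f i) =
          monomial (E - Finsupp.single i 1) 1 * (C (f i) * X i) := by
        rw [C_mul_X_eq_monomial, monomial_mul, one_mul, tsub_add_cancel_of_le]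
        rw [Finsupp.single_le_iff]
        exact Nat.one_le_iff_ne_zero.mpr hi.1
      rw [this]
      exact Ideal.mul_mem_left _ _ (Ideal.subset_span ⟨i, hi.2, rfl⟩)
    exact hle (h E)

theorem poly_iff : RingTheory.Sequence.IsWeaklyRegular (MvPolynomial (Fin r) R)
      (List.ofFn fun i => C (f i) * X i) ↔
      ∀ k, ∀ T : Finset (Fin r), (∀ i ∈ T, i < k) → Nzd f k T := by
  classical
  rw [weaklyRegular_ofFn_iff]
  have key : ∀ (k : Fin r) (E : Fin r →₀ ℕ), supp k (E + Finsupp.single k 1) = supp k E := by
    intro k E
    ext i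
    simp only [supp, Finset.mem_filter, Finsupp.mem_support_iff, Finsupp.add_apply]
    constructor <;> rintro ⟨h1, h2⟩ <;> refine ⟨?_, h2⟩ <;>
      simpa [Finsupp.single_eq_of_ne' (ne_of_gt h2)] using h1
  constructor
  · intro H k T hT x hx
    let E : Fin r →₀ ℕ := ∑ i ∈ T, Finsupp.single i 1
    have hE : supp k E = T := by
      ext i
      simp only [supp, E, Finset.mem_filter, Finsupp.mem_support_iff, Finsupp.finset_sum_apply,
        Finsupp.single_apply, Finset.sum_ite_eq']
      constructor
      · rintro ⟨h1, _⟩; by_contra h; simp [h] at h1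
      · intro h; exact ⟨by simp [h], hT i h⟩
    have h1 : monomial E x ∈ J f k := by
      refine H k _ ((mem_J_iff f k _).mpr fun E' => ?_)
      rw [C_mul_X_eq_monomial, monomial_mul, coeff_monomial]
      split_ifs with h
      · rw [← h, add_comm, key, hE]; exact hx
      · exact zero_mem _
    have h2 := (mem_J_iff f k _).mp h1 E
    rwa [coeff_monomial, if_pos rfl, hE] at h2
  · intro H k p hp
    refine (mem_J_iff f k p).mpr fun E => H k _ (fun i hi => (Finset.mem_filter.mp hi).2) _ ?_
    have h := (mem_J_iff f k _).mp hp (E + Finsupp.single k 1)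
    rw [key] at h
    rw [mul_assoc, coeff_C_mul, mul_comm (X k) p, coeff_mul_X] at h
    exact h

/-- For elements `f_1, …, f_r` generating a proper ideal, all reorderings are regular sequences in `R`
if and only if the products `f_i x_i` form a regular sequence in `R[x_1, …, x_r]`. -/
theorem result {R : Type u} [CommRing R] {r : ℕ} (f : Fin r → R)
    (hf : Ideal.span (Set.range f) ≠ ⊤) :
    (∀ σ : Equiv.Perm (Fin r), RingTheory.Sequence.IsRegular R (List.ofFn (f ∘ σ))) ↔
      RingTheory.Sequence.IsRegular (MvPolynomial (Fin r) R)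
        (List.ofFn fun i => MvPolynomial.C (f i) * MvPolynomial.X i) := by
  have hR : ∀ σ : Equiv.Perm (Fin r),
      (⊤ : Submodule R R) ≠ Ideal.ofList (List.ofFn (f ∘ σ)) • ⊤ := by
    intro σ h
    apply hf
    rw [smul_eq_mul, Ideal.mul_top] at h
    rw [eq_top_iff, h]
    refine Ideal.span_mono ?_
    intro a ha
    simp only [Set.mem_setOf_eq, List.mem_ofFn] at ha
    obtain ⟨i, rfl⟩ := ha
    exact ⟨σ i, rfl⟩
  have hP : (⊤ : Submodule (MvPolynomial (Fin r) R) (MvPolynomial (Fin r) R)) ≠
      Ideal.ofList (List.ofFn fun i => C (f i) * X i) • ⊤ := by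
    intro h
    rw [smul_eq_mul, Ideal.mul_top] at h
    apply hf
    have hle : Ideal.ofList (List.ofFn fun i => C (f i) * X i) ≤
        Ideal.comap (MvPolynomial.constantCoeff : MvPolynomial (Fin r) R →+* R) ⊥ := by
      refine Ideal.span_le.mpr ?_
      intro a ha
      simp only [Set.mem_setOf_eq, List.mem_ofFn] at ha
      obtain ⟨i, rfl⟩ := ha
      simp
    have h1 : (1 : MvPolynomial (Fin r) R) ∈ Ideal.comap constantCoeff ⊥ :=
      hle (h ▸ Submodule.mem_top)
    simp only [Ideal.mem_comap, map_one, Ideal.mem_bot] at h1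
    exact (Ideal.eq_top_iff_one _).mpr (h1 ▸ zero_mem _)
  refine Iff.trans ?_ ((perm_iff f).trans ((poly_iff f).symm.trans ⟨fun h => ⟨h, hP⟩, fun h => h.1⟩))
  exact forall_congr' fun σ => ⟨fun h => h.1, fun h => ⟨h, hR σ⟩⟩

end Groth.Agent.S2101
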