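import Groth.Statements.S2106
import Groth.Agent.EssFPDescent.Model
import Groth.Agent.EssFPDescent.Cancel
import Groth.Agent.LocalCrit.Fibre
-- import your own Groth.Agent.* helpers here

set_option autoImplicit false
universe u
open CAlg TensorProduct

namespace Groth.Agent.S2106

/-- Let `R → S → S'` be local homomorphisms of local rings with `S` and `S'` essentially of finite
presentation over `R`, and `M` a nonzero finitely presented `S'`-module which is flat over `R` and
such that `M/𝔪_R M` is flat over `S/𝔪_R S`. Then `S` is flat over `R` and `M` is flat over `S`. -/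
theorem result {R S S' M : Type u} [CommRing R] [CommRing S] [CommRing S']
    [IsLocalRing R] [IsLocalRing S] [IsLocalRing S'] [Algebra R S] [Algebra S S'] [Algebra R S'] [IsScalarTower R S S']
    [IsLocalHom (algebraMap R S)] [IsLocalHom (algebraMap S S')]
    (hS : CAlgX.IsEssFinitePresentation R S) (hS' : CAlgX.IsEssFinitePresentation R S')
    [AddCommGroup M] [Module S' M] [Module S M] [Module R M] [IsScalarTower S S' M] [IsScalarTower R S' M]
    [IsScalarTower R S M] [Module.FinitePresentation S' M] [Nontrivial M] [Module.Flat R M]
    (hfib : Module.Flat (S ⧸ (IsLocalRing.maximalIdeal R).map (algebraMap R S))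
      (M ⧸ (IsLocalRing.maximalIdeal R).map (algebraMap R S) • (⊤ : Submodule S M))) :
    Module.Flat R S ∧ Module.Flat S M := by
  set 𝔞 := (IsLocalRing.maximalIdeal R).map (algebraMap R S)
  have hle : 𝔞 ≤ IsLocalRing.maximalIdeal S := IsLocalRing.map_maximalIdeal_le (algebraMap R S)
  haveI : Module.Flat (S ⧸ 𝔞) ((S ⧸ 𝔞) ⊗[S] M) := Module.Flat.of_linearEquiv
    (LinearEquiv.extendScalarsOfSurjective Ideal.Quotient.mk_surjective (TensorProduct.quotTensorEquivQuotSMul M 𝔞))
  have hflat : Module.Flat S M := by
    refine EssFPDescent.flat_of_essFP (EssFPDescent.isEssFinitePresentation_of_comp hS hS') M fun y hy => ?_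
    have hinj : Function.Injective ((IsLocalRing.maximalIdeal S).subtype.rTensor M) :=
      LocalCrit.rTensor_injective_of_smul_le 𝔞 M (LocalCrit.rTensor_map_injective _) (LocalCrit.keepsInjective_of_flat 𝔞 M)
        _ (by rw [Ideal.smul_eq_mul, Ideal.mul_top]; exact hle)
    exact ((LinearMap.lTensor_inj_iff_rTensor_inj _ _).2 hinj) (hy.trans (map_zero _).symm)
  refine ⟨?_, hflat⟩
  -- `M` is faithfully flat over `S` by Nakayama over `S'`
  have : Module.FaithfullyFlat S M := by
    refine ⟨fun m hm htop => ?_⟩
    obtain rfl := IsLocalRing.eq_maximalIdeal hm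
    have h1 : (IsLocalRing.maximalIdeal S').jacobson = IsLocalRing.maximalIdeal S' :=
      IsLocalRing.jacobson_eq_maximalIdeal _ Ideal.IsPrime.ne_top'
    have h2 : (⊤ : Submodule S' M) ≤ IsLocalRing.maximalIdeal S' • ⊤ := by
      intro x _
      have hx : x ∈ IsLocalRing.maximalIdeal S • (⊤ : Submodule S M) := by rw [htop]; trivial
      induction hx using Submodule.smul_induction_on' with
      | smul a ha y _ =>
        rw [← IsScalarTower.algebraMap_smul S' a y]
        exact Submodule.smul_mem_smul (by simpa using ha) Submodule.mem_top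
      | add p _ q _ hp hq => exact add_mem (hp trivial) (hq trivial)
    have : (⊤ : Submodule S' M) = ⊥ :=
      Submodule.eq_bot_of_le_smul_of_le_jacobson_bot _ _ Module.Finite.fg_top h2
        (IsLocalRing.maximalIdeal_le_jacobson _)
    exact not_subsingleton M ((Submodule.subsingleton_iff S').mp (subsingleton_of_bot_eq_top this.symm))
  rw [Module.Flat.iff_lTensor_preserves_injective_linearMap]
  intro N N' _ _ _ _ f hf
  let g : S ⊗[R] N →ₗ[S] S ⊗[R] N' := f.baseChange S
  suffices Function.Injective g from this
  refine (Module.FaithfullyFlat.lTensor_injective_iff_injective S M g).mp ?_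
  let e : ∀ (P : Type u) [AddCommGroup P] [Module R P], M ⊗[S] (S ⊗[R] P) ≃ₗ[S] M ⊗[R] P :=
    fun P _ _ => AlgebraTensorModule.cancelBaseChange R S S M P
  have h2 : ∀ x, e N' (g.lTensor M x) = f.lTensor M (e N x) := by
    intro x
    induction x using TensorProduct.induction_on with
    | zero => simp
    | add x y hx hy => simp only [map_add, hx, hy]
    | tmul m y =>
      induction y using TensorProduct.induction_on with
      | zero => simp
      | add y z hy hz => simp only [tmul_add, map_add, hy, hz]
      | tmul c n => simp [e, g]
  intro x y hxy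
  have := congrArg (e N') hxy
  rw [h2, h2] at this
  exact (e N).injective (Module.Flat.lTensor_preserves_injective_linearMap f hf this)

end Groth.Agent.S2106
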