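import Groth.Statements.S2117
import Groth.Agent.S2484
import Groth.Agent.GrpSchLib.Reduced
import Mathlib.Algebra.Algebra.ZMod
import Mathlib.RingTheory.Unramified.Basic

set_option autoImplicit false
universe u
open CAlg

namespace Groth.Agent.S2117

open TensorProduct KaehlerDifferential

theorem injective_iff_of_perfect (P : Type u) [Field P] [PerfectField P] [Algebra.FormallyUnramified ℤ P]
    (k K : Type u) [Field k] [Field K] [Algebra k K] [Algebra P k] [Algebra P K] [IsScalarTower P k K] :
    Algebra.IsGeometricallyReduced k K ↔ Function.Injective (KaehlerDifferential.mapBaseChange ℤ k K) := by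
  haveI : Algebra.IsGeometricallyReduced P K := GrpSchLib.isGeometricallyReduced_of_isReduced (k := P) K
  have h0 := S2484.result (K := P) (E := k) (F := K)
  have hb : ∀ (A : Type u) [Field A] [Algebra P A], Function.Bijective (KaehlerDifferential.map ℤ P A A) := by
    intro A _ _
    refine ⟨?_, KaehlerDifferential.map_surjective ℤ P A⟩
    rw [← LinearMap.ker_eq_bot, ← KaehlerDifferential.range_mapBaseChange, LinearMap.range_eq_bot]
    haveI : Subsingleton (Ω[P⁄ℤ]) := inferInstance
    exact LinearMap.ext fun x => by
      induction x with
      | zero => simp
      | tmul a b => rw [Subsingleton.elim b 0, TensorProduct.tmul_zero, map_zero, map_zero]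
      | add x y hx hy => rw [map_add, hx, hy, map_add]
  let ek := LinearEquiv.ofBijective (KaehlerDifferential.map ℤ P k k) (hb k)
  have hcomm : ∀ z, KaehlerDifferential.map ℤ P K K (KaehlerDifferential.mapBaseChange ℤ k K z) =
      KaehlerDifferential.mapBaseChange P k K (ek.toLinearMap.baseChange K z) := fun z => by
    induction z with
    | zero => simp
    | add x y hx hy => simp only [map_add, hx, hy]
    | tmul a w =>
      rw [LinearMap.baseChange_tmul, mapBaseChange_tmul, mapBaseChange_tmul, map_smul]
      congr 1
      show KaehlerDifferential.map ℤ P K K (KaehlerDifferential.map ℤ ℤ k K w) =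
        KaehlerDifferential.map P P k K (KaehlerDifferential.map ℤ P k k w)
      have hw : w ∈ Submodule.span k (Set.range (KaehlerDifferential.D ℤ k)) := by
        rw [KaehlerDifferential.span_range_derivation]; trivial
      induction hw using Submodule.span_induction with
      | mem x hx => obtain ⟨c, rfl⟩ := hx; simp
      | zero => simp
      | add x y _ _ hx hy => simp only [map_add, hx, hy]
      | smul r x _ hx => simp only [map_smul, LinearMap.map_smul_of_tower, hx]
  have hinj : Function.Injective (KaehlerDifferential.mapBaseChange P k K) ↔
      Function.Injective (KaehlerDifferential.mapBaseChange ℤ k K) := by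
    have he : Function.Bijective (ek.toLinearMap.baseChange K) := (LinearEquiv.baseChange k K _ _ ek).bijective
    have hfun : (KaehlerDifferential.map ℤ P K K) ∘ (KaehlerDifferential.mapBaseChange ℤ k K) =
        (KaehlerDifferential.mapBaseChange P k K) ∘ (ek.toLinearMap.baseChange K) := funext hcomm
    constructor
    · intro h
      exact Function.Injective.of_comp (f := KaehlerDifferential.map ℤ P K K) (hfun ▸ h.comp he.1)
    · intro h
      have h1 : Function.Injective ((KaehlerDifferential.mapBaseChange P k K) ∘ (ek.toLinearMap.baseChange K)) :=
        hfun ▸ (hb K).1.comp h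
      exact h1.of_comp_right he.2
  rw [← hinj]
  exact ⟨fun h => h0.1 h, fun h => h0.2 inferInstance h⟩

/-- Let k be a field of characteristic p > 0 and K a field extension of k. Then K is geometrically
reduced over k (equivalently, K/k is separable: every finitely generated subextension is separably
generated) if and only if the natural base-change map K ⊗_k Ω_{k/ℤ} → Ω_{K/ℤ} on absolute Kähler
differentials is injective. -/
theorem result {k K : Type u} [Field k] [Field K] [Algebra k K] (p : ℕ)
    [Fact p.Prime] [CharP k p] :
    Algebra.IsGeometricallyReduced k K ↔ Function.Injective (KaehlerDifferential.mapBaseChange ℤ k K) := by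
  haveI : CharP K p := charP_of_injective_algebraMap (algebraMap k K).injective p
  letI : Algebra (ZMod p) k := ZMod.algebra k p
  let P : Subfield k := (algebraMap (ZMod p) k).fieldRange
  haveI : Finite P := Finite.of_surjective (algebraMap (ZMod p) k).rangeRestrictField
    (algebraMap (ZMod p) k).rangeRestrictField_bijective.surjective
  haveI : Algebra.FormallyUnramified ℤ P := Algebra.FormallyUnramified.of_surjective (Algebra.ofId ℤ P) fun x => by
    obtain ⟨c, hc⟩ := (algebraMap (ZMod p) k).rangeRestrictField_bijective.surjective x
    obtain ⟨m, rfl⟩ := ZMod.intCast_surjective c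
    exact ⟨m, by rw [← hc]; simp⟩
  exact injective_iff_of_perfect P k K

end Groth.Agent.S2117
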