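import Groth.Statements.S2128
import Groth.Agent.LimMod.FPColim

set_option autoImplicit false
universe u
open CategoryTheory AlgebraicGeometry
open Mor


set_option linter.style.haveILetI false
set_option backward.isDefEq.respectTransparency false
set_option backward.isDefEq.respectTransparency.types false
open Groth.Agent Groth.Agent.QCoh Groth.Agent.QcqsColim Groth.Agent.LimMod

namespace Groth.Agent.S2128

/-- Let `X` be quasi-compact and quasi-separated and `F` a quasi-coherent `O_X`-module. Then `F` is the
colimit of a filtered diagram of finitely presented `O_X`-modules: there are a small filtered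
category `I`, a diagram of finitely presented modules and a colimit cocone with vertex `F`. -/
theorem result (X : Scheme.{u}) [CompactSpace X] [QuasiSeparatedSpace X] (F : X.Modules)
    (hF : Coh.IsQCoh F) :
    ∃ (I : Type u) (_ : SmallCategory I) (_ : IsFiltered I) (D : I ⥤ X.Modules) (c : Limits.Cocone D)
      (_ : Limits.IsColimit c), (∀ i, CohB1.IsFP (D.obj i)) ∧ c.pt = F := by
  classical
  let σ : Type u := Σ V : X.affineOpens, Γ(F, V.1)
  choose G p hG hp using fun a : σ => LimMod.exists_fp_hom_mem hF a.1.2 (n := 1) (fun _ => a.2)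
  let P : Finset σ ⥤ X.Modules :=
    { obj := fun S => ∐ fun a : S => G a.1
      map := fun {S T} h => Limits.Sigma.desc fun a => Limits.Sigma.ι (fun a : T => G a.1) ⟨a.1, leOfHom h a.2⟩
      map_id := fun S => by
        apply Limits.Sigma.hom_ext
        intro a
        simp
      map_comp := fun {S T R} h h' => by
        apply Limits.Sigma.hom_ext
        intro a
        simp }
  let π : P ⟶ (Functor.const _).obj F :=
    { app := fun S => Limits.Sigma.desc fun a => p a.1
      naturality := fun S T h => by
        apply Limits.Sigma.hom_ext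
        intro a
        simp [P] }
  have hP : ∀ S, CohB1.IsFP (P.obj S) := fun S =>
    LimMod.FPC.isFP_sigma (inferInstance : Finite S) _ fun a => hG a.1
  haveI := LimMod.FPC.directed P π hP hF
  obtain ⟨hc⟩ := LimMod.FPC.nonempty_isColimit P π hP hF (fun W s x hx => by
    obtain ⟨V, hV, hxV, hle⟩ := exists_isAffineOpen_mem_and_subset (X := X) (x := x) (U := W) hx
    let a : σ := ⟨⟨V, hV⟩, rs F hle s⟩
    obtain ⟨z, hz⟩ := hp a 0
    refine ⟨V, hle, {a}, (Limits.Sigma.ι (fun b : ({a} : Finset σ) => G b.1) ⟨a, Finset.mem_singleton_self a⟩).app V z,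
      hxV, Eq.trans ?_ hz⟩
    exact congrArg (fun φ => Scheme.Modules.Hom.app φ V z)
      (Limits.Sigma.ι_desc (fun b : ({a} : Finset σ) => p b.1) ⟨a, Finset.mem_singleton_self a⟩))
  exact ⟨LimMod.FPC.Idx P π, inferInstance, inferInstance, LimMod.FPC.quots P π,
    LimMod.FPC.quotsCocone P π, hc, LimMod.FPC.isFP_quots P π hP hF, rfl⟩

end Groth.Agent.S2128
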