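import Groth.Statements.S2147
import Groth.Agent.S2079
import Groth.Agent.S0590
import Groth.Agent.S0591
import Groth.Agent.S2074
import Groth.Agent.TTApprox.Arrow
import Groth.Agent.MorLib.BaseChangeLim

set_option autoImplicit false
universe u
open CategoryTheory AlgebraicGeometry
open Lim

attribute [-instance] CategoryTheory.catToReflQuiver
set_option linter.style.haveILetI false
set_option backward.isDefEq.respectTransparency false
set_option backward.isDefEq.respectTransparency.types false

namespace Groth.Agent.S2147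

open Limits in
/-- A proper morphism is a limit, over a directed poset, of proper morphisms over schemes of finite type
over the integers. -/
theorem exists_proper_limit {X S : Scheme.{u}} (f : X ⟶ S) [IsProper f] [CompactSpace S]
    [QuasiSeparatedSpace S] :
    ∃ (I : Type u) (_ : Preorder I) (_ : IsDirected I (fun a b => a ≤ b)) (_ : Nonempty I)
      (F : Iᵒᵖ ⥤ Arrow Scheme.{u}) (cF : Cone F) (_ : IsLimit cF) (_ : cF.pt ≅ Arrow.mk f),
      (∀ (i j : Iᵒᵖ) (a : i ⟶ j), TTApprox.affP (F.map a)) ∧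
      ∀ i, IsProper (F.obj i).hom ∧ CompactSpace (F.obj i).right ∧
        LocallyOfFiniteType (IsTerminal.from specULiftZIsTerminal (F.obj i).right) := by
  classical
  haveI : CompactSpace X := QuasiCompact.compactSpace_of_compactSpace f
  haveI : QuasiSeparatedSpace X := quasiSeparatedSpace_of_quasiSeparated f
  -- the two limit presentations
  obtain ⟨A, _, _, DX, cX, hcX, eX, htrX, hDX⟩ := S2079.result f
  obtain ⟨J, _, _, _, Ss, cS₀, hcS₀, htrS, hSs, ⟨eS⟩⟩ := S0590.result S
  let cS : Cone Ss := cS₀.extend eS.inv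
  have hcS : IsLimit cS := IsLimit.extendIso eS.inv hcS₀
  haveI : IsAffineHom (𝟙 S) := inferInstance
  haveI : CategoryTheory.IsConnected A := IsCofiltered.isConnected _
  haveI : CategoryTheory.IsConnected Jᵒᵖ := IsCofiltered.isConnected _
  haveI hA : ∀ {i j : Jᵒᵖ} (a : i ⟶ j), IsAffineHom (Ss.map a) := fun {i j} a => htrS i j a
  haveI : ∀ (i j : Jᵒᵖ) (a : i ⟶ j), IsAffineHom (Ss.map a) := htrS
  haveI : ∀ j, CompactSpace (Ss.obj j) := fun j => (hSs j).1
  haveI hqs : ∀ j, QuasiSeparatedSpace (Ss.obj j) := fun j => by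
    haveI := (hSs j).2
    haveI : IsNoetherianRing (ULift.{u} ℤ) := isNoetherianRing_of_ringEquiv ℤ ULift.ringEquiv.symm
    haveI : IsNoetherianRing (CommRingCat.of (ULift.{u} ℤ)) := ‹_›
    haveI : IsLocallyNoetherian (Ss.obj j) :=
      LocallyOfFiniteType.isLocallyNoetherian (IsTerminal.from specULiftZIsTerminal (Ss.obj j))
    infer_instance
  have hNX : ∀ a, CompactSpace (DX.obj a).left ∧ QuasiSeparatedSpace (DX.obj a).left := fun a => by
    haveI := (hDX a).2.1
    exact ⟨QuasiCompact.compactSpace_of_compactSpace (DX.obj a).hom,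
      quasiSeparatedSpace_of_quasiSeparated (DX.obj a).hom⟩
  haveI : ∀ a, CompactSpace ((DX ⋙ Over.forget S).obj a) := fun a => (hNX a).1
  haveI : ∀ a, QuasiSeparatedSpace ((DX ⋙ Over.forget S).obj a) := fun a => (hNX a).2
  haveI : ∀ {a a' : A} (q : a ⟶ a'), IsAffineHom ((DX ⋙ Over.forget S).map q) := fun {a a'} q => by
    haveI := htrX a a' q
    show IsAffineHom (DX.map q).left
    infer_instance
  -- descend every stage to a proper morphism
  have hst : ∀ a, ∃ (j : Jᵒᵖ) (Y : Scheme.{u}) (h : Y ⟶ Ss.obj j) (g : (DX.obj a).left ⟶ Y),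
      IsProper h ∧ LocallyOfFinitePresentation h ∧ IsPullback g (DX.obj a).hom h (cS.π.app j) := fun a => by
    haveI := (hDX a).2.1
    haveI := (hDX a).2.2
    haveI : LocallyOfFinitePresentation (show (DX.obj a).left ⟶ cS.pt from (DX.obj a).hom) := (hDX a).2.2
    haveI : QuasiCompact (show (DX.obj a).left ⟶ cS.pt from (DX.obj a).hom) :=
      inferInstanceAs (QuasiCompact (DX.obj a).hom)
    haveI : QuasiSeparated (show (DX.obj a).left ⟶ cS.pt from (DX.obj a).hom) :=
      inferInstanceAs (QuasiSeparated (DX.obj a).hom)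
    obtain ⟨i, Y₀, f₀, g₀, h1, h2, h3, hpb⟩ := S0591.result Ss cS hcS (DX.obj a).left (DX.obj a).hom
    haveI := h1; haveI := h2; haveI := h3
    haveI : CompactSpace Y₀ := QuasiCompact.compactSpace_of_compactSpace f₀
    haveI : QuasiSeparatedSpace Y₀ := quasiSeparatedSpace_of_quasiSeparated f₀
    haveI : IsProper (show (DX.obj a).left ⟶ cS.pt from (DX.obj a).hom) := (hDX a).2.1
    obtain ⟨j, φ, Xj, Yj, fj, gj, pY, pX, hYj, hXj, hp⟩ := S2074.result Ss cS hcS i f₀ (𝟙 _)
      (show (DX.obj a).left ⟶ cS.pt from (DX.obj a).hom) (𝟙 _) (cS.π.app i) g₀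
      (IsPullback.of_vert_isIso ⟨by simp⟩) hpb
    have hj : IsPullback pX (fj ≫ gj) f₀ (Ss.map φ) := by
      have h := hXj.paste_vert hYj
      rwa [Category.comp_id] at h
    haveI : IsIso gj := hYj.isIso_snd_of_isIso
    let l : (DX.obj a).left ⟶ Xj := hj.lift g₀ ((DX.obj a).hom ≫ cS.π.app j)
      (by rw [Category.assoc, cS.w]; exact hpb.w)
    haveI := hp
    refine ⟨j, Xj, fj ≫ gj, l, inferInstance, MorphismProperty.of_isPullback hj h1, ?_⟩
    refine IsPullback.of_right ?_ (hj.lift_snd _ _ _) hj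
    rw [hj.lift_fst, cS.w]
    exact hpb
  choose j₀ Y h g hprop hlfp hpb using hst
  haveI := hprop; haveI := hlfp
  haveI : ∀ a, CompactSpace (Y a) := fun a => QuasiCompact.compactSpace_of_compactSpace (h a)
  haveI : ∀ a, QuasiSeparatedSpace (Y a) := fun a => quasiSeparatedSpace_of_quasiSeparated (h a)
  haveI : ∀ a, CategoryTheory.IsConnected (Over (j₀ a)) := fun a => IsCofiltered.isConnected _
  -- the outer system
  let D : A ⥤ Arrow Scheme.{u} :=
    { obj := fun a => Arrow.mk (DX.obj a).hom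
      map := fun {a a'} q => Arrow.homMk (DX.map q).left (𝟙 S) ((Over.w (DX.map q)).trans (Category.comp_id _).symm)
      map_id := fun a => Arrow.hom_ext _ _ (congrArg (fun m => m.left) (DX.map_id a)) rfl
      map_comp := fun q q' => Arrow.hom_ext _ _ (congrArg (fun m => m.left) (DX.map_comp q q'))
        (Category.id_comp _).symm }
  let cD : Cone D :=
    { pt := Arrow.mk cX.pt.hom
      π := { app := fun a => Arrow.homMk (cX.π.app a).left (𝟙 S)
               ((Over.w (cX.π.app a)).trans (Category.comp_id _).symm)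
             naturality := fun a a' q => Arrow.hom_ext _ _ (congrArg (fun m => m.left) (cX.π.naturality q))
               rfl } }
  have hcD : IsLimit cD := TTApprox.isLimitArrow cD (isLimitOfPreserves (Over.forget S) hcX)
    (TTApprox.isLimitOfConst fun a => inferInstanceAs (IsIso (𝟙 S)))
  -- the inner systems
  let E : ∀ a, Over (j₀ a) ⥤ Arrow Scheme.{u} := fun a =>
    { obj := fun k => Arrow.mk (pullback.snd (h a) (Ss.map k.hom))
      map := fun {k k'} m => Arrow.homMk ((MorLib.BC.diag Ss (h a)).map m) (Ss.map m.left)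
        (MorLib.BC.map_snd Ss (h a) m)
      map_id := fun k => Arrow.hom_ext _ _ ((MorLib.BC.diag Ss (h a)).map_id k) (Ss.map_id _)
      map_comp := fun m m' => Arrow.hom_ext _ _ ((MorLib.BC.diag Ss (h a)).map_comp m m') (Ss.map_comp _ _) }
  let η : ∀ a, (Functor.const _).obj (D.obj a) ⟶ E a := fun a =>
    { app := fun k => Arrow.homMk (MorLib.BC.proj (c := cS) Ss (h a) (hpb a) k) (cS.π.app k.left)
        (MorLib.BC.proj_snd (c := cS) Ss (h a) (hpb a) k)
      naturality := fun k k' m => Arrow.hom_ext _ _ ((MorLib.BC.cone (c := cS) Ss (h a) (hpb a)).π.naturality m)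
        (cS.π.naturality m.left) }
  have hη : ∀ a, IsLimit ({ pt := D.obj a, π := η a } : Cone (E a)) := fun a =>
    TTApprox.isLimitArrow _ (MorLib.BC.isLimitCone (c := cS) Ss (h a) (hpb a) hcS)
      ((Functor.Initial.isLimitWhiskerEquiv (Over.forget (j₀ a)) cS).symm hcS)
  have hFa : ∀ a {k k' : Over (j₀ a)} (m : k ⟶ k'), IsAffineHom ((MorLib.BC.diag Ss (h a)).map m) :=
    fun a {k k'} m => inferInstance
  have hE : ∀ a (k k' : Over (j₀ a)) (m : k ⟶ k'), TTApprox.affP ((E a).map m) :=
    fun a k k' m => ⟨hFa a m, hA m.left⟩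
  -- the stages are of finite type over the integers
  have hTE : ∀ a (k : Over (j₀ a)), LocallyOfFiniteType
      (IsTerminal.from specULiftZIsTerminal ((E a).obj k).left) := fun a k => by
    haveI := (hSs k.left).2
    have e : IsTerminal.from specULiftZIsTerminal ((E a).obj k).left =
        pullback.snd (h a) (Ss.map k.hom) ≫ IsTerminal.from specULiftZIsTerminal (Ss.obj k.left) :=
      specULiftZIsTerminal.hom_ext _ _
    rw [e]
    infer_instance
  obtain ⟨I, _, _, _, D', c', hc', hobj, hP, hpt⟩ :=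
    LimNested.exists_directed_limit' cD η TTApprox.affP hcD hη hE
    (fun a a' q k' => by
      obtain ⟨j, u₁, u₂, -⟩ := IsCofilteredOrEmpty.cone_objs (j₀ a) k'.left
      let k₀ : Over (j₀ a) := Over.mk u₁
      haveI : CategoryTheory.IsConnected (Over k₀) := IsCofiltered.isConnected _
      let F : Over k₀ ⥤ Scheme.{u} := Over.forget k₀ ⋙ MorLib.BC.diag Ss (h a)
      let cF : Cone F := (MorLib.BC.cone (c := cS) Ss (h a) (hpb a)).whisker (Over.forget k₀)
      have hcF : IsLimit cF :=
        (Functor.Initial.isLimitWhiskerEquiv (Over.forget k₀) _).symm (MorLib.BC.isLimitCone (c := cS) Ss (h a) (hpb a) hcS)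
      haveI : ∀ n, CompactSpace (F.obj n) := fun n => MorLib.BC.compactSpace_obj Ss (h a) n.left
      haveI : ∀ n, QuasiSeparatedSpace (F.obj n) := fun n => MorLib.BC.quasiSeparatedSpace_obj Ss (h a) n.left
      haveI hF : ∀ {n n' : Over k₀} (m : n ⟶ n'), IsAffineHom (F.map m) := fun {n n'} m => hFa a m.left
      let τ : F ⟶ (Functor.const _).obj (Ss.obj k'.left) :=
        { app := fun n => pullback.snd (h a) (Ss.map n.left.hom) ≫ Ss.map (n.hom.left ≫ u₂)
          naturality := fun n n' m => by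
            show (MorLib.BC.diag Ss (h a)).map m.left ≫ pullback.snd _ _ ≫ Ss.map (n'.hom.left ≫ u₂) = _ ≫ 𝟙 _
            rw [Category.comp_id, ← Category.assoc, MorLib.BC.map_snd, Category.assoc, ← Ss.map_comp,
              Subsingleton.elim (m.left.left ≫ n'.hom.left ≫ u₂) (n.hom.left ≫ u₂)] }
      haveI : LocallyOfFinitePresentation (pullback.snd (h a') (Ss.map k'.hom)) := inferInstance
      let t : cF.pt ⟶ pullback (h a') (Ss.map k'.hom) :=
        (DX.map q).left ≫ MorLib.BC.proj (c := cS) Ss (h a') (hpb a') k'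
      obtain ⟨n₀, g₁, hg₁, hg₁'⟩ := Scheme.exists_π_app_comp_eq_of_locallyOfFinitePresentation
        F τ (pullback.snd (h a') (Ss.map k'.hom)) cF hcF t (by
          ext n
          show MorLib.BC.proj (c := cS) Ss (h a) (hpb a) n.left ≫ pullback.snd _ _ ≫ Ss.map (n.hom.left ≫ u₂) =
            ((DX.map q).left ≫ MorLib.BC.proj (c := cS) Ss (h a') (hpb a') k') ≫ pullback.snd _ _
          rw [MorLib.BC.proj_snd_assoc, Category.assoc, MorLib.BC.proj_snd]
          refine (congrArg ((DX.obj a).hom ≫ ·) (cS.w (n.hom.left ≫ u₂))).trans ?_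
          exact (congrArg (· ≫ cS.π.app k'.left) (Over.w (DX.map q)).symm).trans (Category.assoc _ _ _))
      haveI : IsAffineHom (cF.π.app n₀ ≫ g₁) := by
        rw [hg₁]
        haveI : IsAffineHom (DX.map q).left := by haveI := htrX a a' q; infer_instance
        haveI : IsAffineHom (MorLib.BC.proj (c := cS) Ss (h a') (hpb a') k') :=
          MorphismProperty.of_isPullback (MorLib.BC.isPullback_proj (c := cS) Ss (h a') (hpb a') k').flip
            (isAffineHom_π_app Ss cS hcS k'.left)
        show IsAffineHom ((DX.map q).left ≫ MorLib.BC.proj (c := cS) Ss (h a') (hpb a') k')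
        infer_instance
      haveI : CompactSpace ↥(pullback (h a') (Ss.map k'.hom)) := MorLib.BC.compactSpace_obj Ss (h a') k'
      haveI : QuasiSeparatedSpace ↥(pullback (h a') (Ss.map k'.hom)) :=
        MorLib.BC.quasiSeparatedSpace_obj Ss (h a') k'
      haveI : QuasiCompact g₁ := quasiCompact_of_compactSpace g₁
      haveI : QuasiSeparated g₁ := QuasiSeparated.of_quasiSeparatedSpace g₁
      obtain ⟨n, hn⟩ := Graft.exists_isAffineHom hcF g₁
      refine ⟨n.left.left, Arrow.homMk (F.map n.hom ≫ g₁) (Ss.map (n.left.hom.left ≫ u₂)) ?_,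
        ⟨hn, hA _⟩, Arrow.hom_ext _ _ ?_ ?_⟩
      · show (F.map n.hom ≫ g₁) ≫ pullback.snd (h a') (Ss.map k'.hom) = _
        rw [Category.assoc, hg₁']
        exact (τ.naturality n.hom).trans (Category.comp_id _)
      · show MorLib.BC.proj (c := cS) Ss (h a) (hpb a) n.left.left ≫ F.map n.hom ≫ g₁ = t
        rw [← Category.assoc]
        exact (congrArg (· ≫ g₁) (cF.w n.hom)).trans hg₁
      · show cS.π.app _ ≫ Ss.map (n.left.hom.left ≫ u₂) = 𝟙 S ≫ cS.π.app k'.left
        rw [cS.w]
        exact (Category.id_comp _).symm)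
    (fun a a' k k' g₁ g₂ hgh => by
      haveI : ∀ b, CompactSpace ((MorLib.BC.diag Ss (h a)).obj b) := MorLib.BC.compactSpace_obj Ss (h a)
      haveI : ∀ b, QuasiSeparatedSpace ((MorLib.BC.diag Ss (h a)).obj b) :=
        MorLib.BC.quasiSeparatedSpace_obj Ss (h a)
      haveI : ∀ {b b' : Over (j₀ a)} (m : b ⟶ b'), IsAffineHom ((MorLib.BC.diag Ss (h a)).map m) := hFa a
      haveI := hTE a' k'
      haveI := (hSs k'.left).2
      let T : Scheme.{u} := Spec (CommRingCat.of (ULift.{u} ℤ))
      let τ₁ : MorLib.BC.diag Ss (h a) ⟶ (Functor.const _).obj T :=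
        { app := fun b => IsTerminal.from specULiftZIsTerminal _
          naturality := fun b b' m => specULiftZIsTerminal.hom_ext _ _ }
      obtain ⟨b₁, m₁, hm₁⟩ := Scheme.exists_hom_comp_eq_comp_of_locallyOfFiniteType
        (MorLib.BC.diag Ss (h a)) τ₁ (IsTerminal.from specULiftZIsTerminal ((E a').obj k').left)
        (MorLib.BC.cone (c := cS) Ss (h a) (hpb a)) (MorLib.BC.isLimitCone (c := cS) Ss (h a) (hpb a) hcS) g₁.left g₂.left
        (specULiftZIsTerminal.hom_ext _ _) (specULiftZIsTerminal.hom_ext _ _) (congrArg (fun m => m.left) hgh)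
      let τ₂ : Ss ⟶ (Functor.const _).obj T :=
        { app := fun b => IsTerminal.from specULiftZIsTerminal _
          naturality := fun b b' m => specULiftZIsTerminal.hom_ext _ _ }
      obtain ⟨l, q, hq⟩ := Scheme.exists_hom_comp_eq_comp_of_locallyOfFiniteType
        Ss τ₂ (IsTerminal.from specULiftZIsTerminal (Ss.obj k'.left)) cS hcS g₁.right g₂.right
        (specULiftZIsTerminal.hom_ext _ _) (specULiftZIsTerminal.hom_ext _ _) (congrArg (fun m => m.right) hgh)
      obtain ⟨b, m, m', -⟩ := IsCofilteredOrEmpty.cone_objs b₁ (Over.mk (q ≫ k.hom))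
      refine ⟨b, m ≫ m₁, Arrow.hom_ext _ _ ?_ ?_⟩
      · show (MorLib.BC.diag Ss (h a)).map (m ≫ m₁) ≫ g₁.left = (MorLib.BC.diag Ss (h a)).map (m ≫ m₁) ≫ g₂.left
        rw [Functor.map_comp, Category.assoc, Category.assoc, hm₁]
      · show Ss.map (m ≫ m₁).left ≫ g₁.right = Ss.map (m ≫ m₁).left ≫ g₂.right
        rw [Subsingleton.elim (m ≫ m₁).left (m'.left ≫ q), Functor.map_comp, Category.assoc, Category.assoc]
        exact congrArg (Ss.map m'.left ≫ ·) hq)
    (fun a a' k' g₁ g₂ hgh => by
      haveI := hTE a' k'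
      let T : Scheme.{u} := Spec (CommRingCat.of (ULift.{u} ℤ))
      let τ : DX ⋙ Over.forget S ⟶ (Functor.const _).obj T :=
        { app := fun b => IsTerminal.from specULiftZIsTerminal _
          naturality := fun b b' m => specULiftZIsTerminal.hom_ext _ _ }
      obtain ⟨a₁, q, hq⟩ := Scheme.exists_hom_comp_eq_comp_of_locallyOfFiniteType
        (DX ⋙ Over.forget S) τ (IsTerminal.from specULiftZIsTerminal ((E a').obj k').left)
        ((Over.forget S).mapCone cX) (isLimitOfPreserves (Over.forget S) hcX) g₁.left g₂.left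
        (specULiftZIsTerminal.hom_ext _ _) (specULiftZIsTerminal.hom_ext _ _) (congrArg (fun m => m.left) hgh)
      have hr : g₁.right = g₂.right := by
        have h1 : 𝟙 S ≫ g₁.right = 𝟙 S ≫ g₂.right := congrArg (fun m => m.right) hgh
        exact (Category.id_comp _).symm.trans (h1.trans (Category.id_comp _))
      exact ⟨a₁, q, Arrow.hom_ext _ _ hq (by rw [Arrow.comp_right, Arrow.comp_right, hr])⟩)
  refine ⟨I, inferInstance, inferInstance, inferInstance, D', c', hc',
    eqToIso hpt ≪≫ Arrow.isoMk ((Over.forget S).mapIso eX) (Iso.refl S) ?_, hP, fun i => ?_⟩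
  · show eX.hom.left ≫ f = cX.pt.hom ≫ 𝟙 S
    rw [Category.comp_id]
    exact Over.w eX.hom
  · obtain ⟨a, k, e⟩ := hobj i
    rw [e]
    exact ⟨MorphismProperty.pullback_snd _ _ (hprop a), (hSs k.left).1, (hSs k.left).2⟩

/-- Let `f : X → S` be proper with `S` quasi-compact and quasi-separated. Then `f` is a limit of proper
morphisms `f_i : X_i → S_i` with `S_i` of finite type over `ℤ`: there are cofiltered diagrams of
schemes `X_i`, `S_i` with affine transition morphisms, a natural transformation with proper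
components, and limit cones identified with `X` and `S` compatibly with `f`. -/
theorem result {X S : Scheme.{u}} (f : X ⟶ S) [IsProper f] [CompactSpace S]
    [QuasiSeparatedSpace S] :
    ∃ (I : Type u) (_ : SmallCategory I) (_ : IsCofiltered I) (DX DS : I ⥤ Scheme.{u}) (φ : DX ⟶ DS)
      (cX : Limits.Cone DX) (cS : Limits.Cone DS) (_ : Limits.IsLimit cX) (_ : Limits.IsLimit cS)
      (eX : cX.pt ≅ X) (eS : cS.pt ≅ S),
      (∀ (i j : I) (a : i ⟶ j), IsAffineHom (DX.map a) ∧ IsAffineHom (DS.map a)) ∧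
      (∀ i, IsProper (φ.app i) ∧ CompactSpace (DS.obj i) ∧
        LocallyOfFiniteType (Limits.IsTerminal.from specULiftZIsTerminal (DS.obj i))) ∧
      (∀ i, cX.π.app i ≫ φ.app i = eX.hom ≫ f ≫ eS.inv ≫ cS.π.app i) := by
  obtain ⟨I, _, _, _, F, cF, hcF, e, htr, hF⟩ := exists_proper_limit f
  refine ⟨Iᵒᵖ, inferInstance, inferInstance, F ⋙ Arrow.leftFunc, F ⋙ Arrow.rightFunc,
    Functor.whiskerLeft F Arrow.leftToRight, Arrow.leftFunc.mapCone cF, Arrow.rightFunc.mapCone cF,
    TTApprox.isLimitLeft cF hcF, TTApprox.isLimitRight cF hcF, Arrow.leftFunc.mapIso e,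
    Arrow.rightFunc.mapIso e, htr, hF, fun i => ?_⟩
  show (cF.π.app i).left ≫ (F.obj i).hom = e.hom.left ≫ f ≫ e.inv.right ≫ (cF.π.app i).right
  have h1 : e.hom.left ≫ f = cF.pt.hom ≫ e.hom.right := e.hom.w
  rw [← Category.assoc e.hom.left, h1, Category.assoc, ← Category.assoc e.hom.right,
    ← Arrow.comp_right, e.hom_inv_id]
  exact (cF.π.app i).w.trans (congrArg (cF.pt.hom ≫ ·) (Category.id_comp _).symm)

end Groth.Agent.S2147
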