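import Groth.Statements.S2223
import Groth.Agent.ArInt.TorsionInj

set_option linter.style.haveILetI false
set_option backward.isDefEq.respectTransparency false
set_option backward.isDefEq.respectTransparency.types false
set_option maxHeartbeats 1000000

set_option autoImplicit false
universe u
open CategoryTheory AlgebraicGeometry
open Models

open Groth.Agent

namespace Groth.Agent.S2223

/-- Weakened form (special fibre instead of its reduction, which follows from the source): let R be a
discrete valuation ring with fraction field K and residue field k, C a smooth proper curve over K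
with H^0(C, O_C) = K, and X a regular proper model of C. Let h be a positive integer prime to the
characteristic of k and L an invertible O_X-module whose h-th tensor power is trivial. If the
pullback of L to the special fibre is trivial then L is trivial; i.e. Pic(X)[h] -> Pic(X_k)[h] is
injective. -/
theorem result (R : Type u) [CommRing R] [IsDomain R]
    [IsDiscreteValuationRing R] (C X : Scheme.{u})
    (f : C ⟶ Spec (CommRingCat.of (FractionRing R))) (p : X ⟶ Spec (CommRingCat.of R))
    (hC : Curve.IsSmoothProperCurve (FractionRing R) C f) (hH0 : IsIso f.appTop)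
    (hX : Models.IsRegularProperModel R X p C f) (h : ℕ) (hh : 0 < h)
    (hchar : ∀ q : ℕ, q.Prime → CharP (IsLocalRing.ResidueField R) q → ¬ q ∣ h)
    (L : X.Modules) (hL : PicF.IsInvertible L)
    (htors : Nonempty (CohB1.tensorPow L h ≅ Coh.structureModule X))
    (htriv : Nonempty ((Scheme.Modules.pullback
        (Limits.pullback.fst p (Spec.map (CommRingCat.ofHom
          (algebraMap R (IsLocalRing.ResidueField R)))))).obj L ≅
        Coh.structureModule (Models.specialFibre R X p))) :
    Nonempty (L ≅ Coh.structureModule X) := by
  haveI : IsProper p := hX.2.1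
  let k := IsLocalRing.ResidueField R
  let s : Spec (CommRingCat.of k) ⟶ Spec (CommRingCat.of R) := Spec.map (CommRingCat.ofHom (algebraMap R k))
  haveI : IsClosedImmersion s := IsClosedImmersion.spec_of_surjective _ IsLocalRing.residue_surjective
  have hs : Set.range s.base = {IsLocalRing.closedPoint R} := Set.ext fun t => ⟨by
      rintro ⟨w, rfl⟩
      rw [Set.mem_singleton_iff, Subsingleton.elim w (IsLocalRing.closedPoint k)]
      exact IsLocalRing.comap_closedPoint (IsLocalRing.residue R), fun ht => ⟨IsLocalRing.closedPoint k, by
      rw [Set.mem_singleton_iff] at ht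
      rw [ht]
      exact IsLocalRing.comap_closedPoint (IsLocalRing.residue R)⟩⟩
  obtain ⟨j, hj1, hj2, hj⟩ := ArInt.TorsionInj.exists_red_to (p := p) s hs
  obtain ⟨τ⟩ := htriv
  obtain ⟨tO⟩ := PicClLib.nonempty_pullback_structureModule j
  exact ArInt.TorsionInj.trivial_of_trivial_red hC hH0 hX hh hchar L hL htors
    ⟨(Scheme.Modules.pullbackCongr hj.symm).app L ≪≫ ((Scheme.Modules.pullbackComp j (Limits.pullback.fst p s)).app L).symm ≪≫
      (Scheme.Modules.pullback j).mapIso τ ≪≫ tO⟩

end Groth.Agent.S2223
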