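import Groth.Statements.S2225
import Groth.Agent.WeilExt.Dedekind
import Groth.Agent.H23.GysinPb
import Groth.Agent.S0342
import Groth.Agent.S0343
import Groth.Agent.S2821
import Groth.Agent.LC.GorFlat
import Mathlib
-- import your own Groth.Agent.* helpers here

set_option autoImplicit false
set_option backward.isDefEq.respectTransparency false
universe u
open CategoryTheory AlgebraicGeometry
open Models

attribute [-instance] CategoryTheory.catToReflQuiver

namespace Groth.Agent.S2225

/-- Part (1), for the closed fibre: let R be a discrete valuation ring with fraction field K, C a smooth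
proper curve over K and X a regular model of C over R (flat, of finite type, all local rings
regular). Then every local ring of the special fibre X_k is a Gorenstein local ring; together with
flatness and regularity of the generic fibre this says X -> Spec R is a Gorenstein morphism. -/
theorem result (R : Type u) [CommRing R] [IsDomain R]
    [IsDiscreteValuationRing R] (C X : Scheme.{u})
    (f : C ⟶ Spec (CommRingCat.of (FractionRing R))) (p : X ⟶ Spec (CommRingCat.of R))
    (hC : Curve.IsSmoothProperCurve (FractionRing R) C f) (hX : Models.IsModel R X p C f)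
    (hreg : Models.IsRegularScheme X) (x : ↥(Models.specialFibre R X p)) :
    LocCoh.IsGorensteinLocalRing ((Models.specialFibre R X p).presheaf.stalk x) := by
  obtain ⟨hflat, hlft, hqc, g, hg⟩ := hX
  haveI := hflat
  haveI := hlft
  let jk := Spec.map (CommRingCat.ofHom (algebraMap R (IsLocalRing.ResidueField R)))
  haveI : IsClosedImmersion jk := IsClosedImmersion.spec_of_surjective _ Ideal.Quotient.mk_surjective
  let c : Spec (CommRingCat.of (IsLocalRing.ResidueField R)) := Limits.pullback.snd p jk x
  let T := (Spec (CommRingCat.of R)).presheaf.stalk (jk c)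
  have hjc : jk c = IsLocalRing.closedPoint R := by
    refine PrimeSpectrum.ext ?_
    show Ideal.comap (algebraMap R (IsLocalRing.ResidueField R)) (c : PrimeSpectrum _).asIdeal = _
    rw [((c : PrimeSpectrum (IsLocalRing.ResidueField R)).asIdeal.eq_bot_or_top).resolve_right
      (c : PrimeSpectrum (IsLocalRing.ResidueField R)).2.ne_top, ← RingHom.ker_eq_comap_bot]
    exact Ideal.mk_ker
  haveI hpir : IsPrincipalIdealRing T := Groth.Agent.WeilExt.isPrincipalIdealRing_stalk (R := R) (jk c)
  haveI hregT : IsRegularLocalRing T := Groth.Agent.WeilExt.isRegularLocalRing_stalk_spec (R := R) (jk c)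
  haveI : IsDomain T := (Groth.Agent.S2821.result T).1
  obtain ⟨ϖ, hϖ⟩ := IsDiscreteValuationRing.exists_irreducible R
  obtain ⟨t, ht⟩ := (IsPrincipalIdealRing.principal (RingHom.ker (jk.stalkMap c).hom)).principal
  have ht' : RingHom.ker (jk.stalkMap c).hom = Ideal.span {t} := ht
  have ht0 : t ≠ 0 := by
    intro h0
    let γ : Γ(Spec (CommRingCat.of R), ⊤) →+* T :=
      ((Spec (CommRingCat.of R)).presheaf.germ ⊤ (jk c) trivial).hom
    have hγ : Function.Injective γ := germ_injective_of_isIntegral _ _ _
    let w := (Scheme.ΓSpecIso (CommRingCat.of R)).inv ϖ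
    have hw : γ w ∈ RingHom.ker (jk.stalkMap c).hom := by
      rw [RingHom.mem_ker]
      show (jk.stalkMap c) ((Spec (CommRingCat.of R)).presheaf.germ ⊤ (jk c) trivial w) = 0
      rw [Scheme.Hom.germ_stalkMap_apply]
      have h1 : jk.app ⊤ w = 0 := by
        apply (ConcreteCategory.bijective_of_isIso (Scheme.ΓSpecIso (CommRingCat.of
          (IsLocalRing.ResidueField R))).hom).1
        show (jk.appTop ≫ (Scheme.ΓSpecIso _).hom) w = (Scheme.ΓSpecIso _).hom 0
        rw [map_zero, Scheme.ΓSpecIso_naturality, CommRingCat.comp_apply, Iso.inv_hom_id_apply]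
        exact (IsLocalRing.residue_eq_zero_iff ϖ).2 (hϖ.maximalIdeal_eq ▸ Ideal.mem_span_singleton_self _)
      rw [h1, map_zero]
    rw [ht', h0, Ideal.span_singleton_zero, Ideal.mem_bot] at hw
    have h2 : w = 0 := hγ (hw.trans (map_zero _).symm)
    exact hϖ.ne_zero ((ConcreteCategory.bijective_of_isIso (Scheme.ΓSpecIso (CommRingCat.of R)).inv).1
      (h2.trans (map_zero _).symm))
  let z := Limits.pullback.fst p jk x
  let B := X.presheaf.stalk z
  haveI : IsRegularLocalRing B := hreg z
  let β : T ⟶ B := Groth.Agent.H23.GysinPb.baseMap p jk x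
  have hker : RingHom.ker ((Limits.pullback.fst p jk).stalkMap x).hom = Ideal.span {β t} := by
    rw [Groth.Agent.H23.GysinPb.ker_stalkMap_fst, ht', Ideal.map_span, Set.image_singleton]
  have hflatβ : β.hom.Flat := by
    refine RingHom.Flat.comp ?_ (Flat.stalkMap p z)
    exact RingHom.Flat.of_bijective ((ConcreteCategory.isIso_iff_bijective _).1
      (inferInstance : IsIso ((Spec (CommRingCat.of R)).presheaf.stalkCongr
        (Inseparable.of_eq (Groth.Agent.H23.GysinPb.apply_fst_eq p jk x).symm)).hom))
  have hreg' : IsSMulRegular B (β t) := by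
    letI := β.hom.toAlgebra
    haveI : Module.Flat T B := hflatβ
    have h1 : IsSMulRegular B t :=
      Module.Flat.isSMulRegular_of_nonZeroDivisors (mem_nonZeroDivisors_of_ne_zero ht0)
    intro a b hab
    exact h1 hab
  have hmem : β t ∈ IsLocalRing.maximalIdeal B :=
    IsLocalRing.le_maximalIdeal (RingHom.ker_ne_top ((Limits.pullback.fst p jk).stalkMap x).hom)
      (hker.ge (Ideal.mem_span_singleton_self _))
  haveI : IsLocallyNoetherian X := LocallyOfFiniteType.isLocallyNoetherian p
  haveI : IsClosedImmersion (Limits.pullback.fst p jk) := inferInstance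
  haveI : IsLocallyNoetherian (Limits.pullback p jk) :=
    LocallyOfFiniteType.isLocallyNoetherian (Limits.pullback.fst p jk)
  haveI : IsNoetherianRing ((Models.specialFibre R X p).presheaf.stalk x) :=
    (inferInstance : IsNoetherianRing ((Limits.pullback p jk).presheaf.stalk x))
  haveI h343 : LocCoh.IsGorensteinLocalRing (B ⧸ Ideal.span {β t}) :=
    (Groth.Agent.S0343.result B (β t) hmem hreg').1 (Groth.Agent.S0342.result B)
  exact Groth.Agent.LC.gorenstein_of_ringEquiv ((Ideal.quotEquivOfEq hker.symm).trans
    (RingHom.quotientKerEquivOfSurjective ((Limits.pullback.fst p jk).stalkMap_surjective x)))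


end Groth.Agent.S2225
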