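import Groth.Statements.S9823
import Groth.Agent.MorLib.IdealFG2
-- import your own Groth.Agent.* helpers here

set_option autoImplicit false
universe u
open CategoryTheory CategoryTheory.Limits AlgebraicGeometry TopologicalSpace Opposite
open Props

namespace Groth.Agent.S9823

/-- In a quasi-compact quasi-separated scheme, an open subset is quasi-compact exactly when its
complement is the support of some quasi-coherent ideal sheaf of finite type. -/
theorem result (X : Scheme.{u}) [CompactSpace X] [QuasiSeparatedSpace X]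
    (U : X.Opens) :
    IsCompact (U : Set X) ↔
      ∃ I : X.IdealSheafData, (∀ V : X.affineOpens, (I.ideal V).FG) ∧ (I.support : Set X) = (U : Set X)ᶜ := by
  classical
  constructor
  · intro hU
    let I : X.IdealSheafData := Scheme.IdealSheafData.vanishingIdeal ⟨(U : Set X)ᶜ, U.2.isClosed_compl⟩
    have hI : (I.support : Set X) = (U : Set X)ᶜ := by
      simp [I, Scheme.IdealSheafData.coe_support_vanishingIdeal, U.2.isClosed_compl.closure_eq]
    have hcov : ∀ x : X, x ∈ U → ∃ K : Groth.Agent.MorLib.IdealFG.Sub I, x ∉ K.1.support := by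
      intro x hx
      obtain ⟨_, ⟨V, hV, rfl⟩, hxV, -⟩ :=
        X.isBasis_affineOpens.exists_subset_of_mem_open (Set.mem_univ x) isOpen_univ
      have : x ∉ I.support := fun h => (hI.le h) hx
      rw [Scheme.IdealSheafData.mem_support_iff_of_mem (U := ⟨V, hV⟩) hxV, Scheme.mem_zeroLocus_iff] at this
      push_neg at this
      obtain ⟨a, ha, hxa⟩ := this
      obtain ⟨K, hK⟩ := Groth.Agent.MorLib.IdealFG.exists_sub_mem I ⟨V, hV⟩ ha
      refine ⟨K, fun h => ?_⟩
      rw [Scheme.IdealSheafData.mem_support_iff_of_mem (U := ⟨V, hV⟩) hxV, Scheme.mem_zeroLocus_iff] at h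
      exact h a hK hxa
    obtain ⟨t, ht⟩ := hU.elim_finite_subcover (fun K : Groth.Agent.MorLib.IdealFG.Sub I => (K.1.support : Set X)ᶜ)
      (fun K => K.1.support.isClosed.isOpen_compl) (fun x hx => Set.mem_iUnion.2 (hcov x hx))
    refine ⟨t.sup fun K => K.1, ?_, ?_⟩
    · exact Finset.sup_induction (p := fun K : X.IdealSheafData => Groth.Agent.MorLib.IdealFG.IsFG K)
        Groth.Agent.MorLib.IdealFG.isFG_bot (fun _ h _ h' => Groth.Agent.MorLib.IdealFG.isFG_sup h h') fun K _ => K.2.2
    · refine Set.Subset.antisymm ?_ ?_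
      · intro x hx hxU
        obtain ⟨K, hK, hxK⟩ := Set.mem_iUnion₂.1 (ht hxU)
        exact hxK (Scheme.IdealSheafData.support_antitone (Finset.le_sup (f := fun K => K.1) hK) hx)
      · rw [← hI]
        exact Scheme.IdealSheafData.support_antitone (Finset.sup_le fun K _ => K.2.1)
  · rintro ⟨I, hfg, hI⟩
    have hloc : ∀ V : X.affineOpens, IsCompact ((U : Set X) ∩ V.1) := by
      intro V
      obtain ⟨s, hs⟩ := hfg V
      have e : (U : Set X) ∩ V.1 = ⋃ a ∈ s, (X.basicOpen a : Set X) := by
        ext x
        simp only [Set.mem_inter_iff, Set.mem_iUnion₂, SetLike.mem_coe]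
        constructor
        · rintro ⟨hxU, hxV⟩
          have : x ∉ I.support := fun h => hI.le h hxU
          rw [Scheme.IdealSheafData.mem_support_iff_of_mem hxV, ← hs, Scheme.zeroLocus_span,
            Scheme.mem_zeroLocus_iff] at this
          push_neg at this
          obtain ⟨a, ha, hxa⟩ := this
          exact ⟨a, ha, hxa⟩
        · rintro ⟨a, ha, hxa⟩
          have hxV : x ∈ V.1 := X.basicOpen_le a hxa
          refine ⟨not_not.1 fun hxU => ?_, hxV⟩
          have h := hI.ge hxU
          rw [SetLike.mem_coe, Scheme.IdealSheafData.mem_support_iff_of_mem hxV, ← hs, Scheme.zeroLocus_span,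
            Scheme.mem_zeroLocus_iff] at h
          exact h a ha hxa
      rw [e]
      exact s.finite_toSet.isCompact_biUnion fun a _ => (V.2.basicOpen a).isCompact
    obtain ⟨t, ht⟩ := isCompact_univ.elim_finite_subcover (fun V : X.affineOpens => (V.1 : Set X)) (fun V => V.1.2)
      (fun x _ => by
        obtain ⟨_, ⟨V, hV, rfl⟩, hxV, -⟩ :=
          X.isBasis_affineOpens.exists_subset_of_mem_open (Set.mem_univ x) isOpen_univ
        exact Set.mem_iUnion.2 ⟨⟨V, hV⟩, hxV⟩)
    have e : (U : Set X) = ⋃ V ∈ t, ((U : Set X) ∩ (V.1 : Set X)) := by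
      ext x
      simp only [Set.mem_iUnion₂, Set.mem_inter_iff]
      exact ⟨fun hx => (Set.mem_iUnion₂.1 (ht (Set.mem_univ x))).imp fun V h => h.imp fun hV h' => ⟨hx, h'⟩,
        fun ⟨_, _, h, _⟩ => h⟩
    rw [e]
    exact t.finite_toSet.isCompact_biUnion fun V _ => hloc V

end Groth.Agent.S9823
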