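import Groth.Statements.S2326
import Groth.Agent.AmpleX.Pow
import Groth.Agent.AmpleX.Generated
import Groth.Agent.AmpleVan.Mul
import Groth.Agent.InvX.GenEpi
import Groth.Agent.KFlatLib.Scheme.Sky
import Groth.Agent.QCoh.Support
import Groth.Agent.OmegaLib.IdealMod
import Groth.Agent.S9823
import Groth.Prelude.Def_KoszTw

set_option autoImplicit false
universe u
open CategoryTheory CategoryTheory.Limits AlgebraicGeometry
open EGA2

namespace Groth.Agent.S2326

open Groth.Agent.H23.PicMul in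
theorem cl_one_tensor {X : Scheme.{u}} (T : X.Modules) :
    PicF.cl (CohB1.tensorMod (Coh.structureModule X) T) = PicF.cl T := by
  rw [cl_tensor]
  exact one_mul _

open TopologicalSpace Opposite MonoidalCategory Groth.Agent.InvX Groth.Agent.AmpleVan
open scoped TensorProduct

set_option backward.isDefEq.respectTransparency false
set_option backward.isDefEq.respectTransparency.types false
set_option linter.style.haveILetI false

variable {X : Scheme.{u}} {M T : X.Modules}

/-- Near a point every section of `M ⊗ T` is a section of `M` times the frame of `T`. -/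
theorem exists_tmul_eq {U : X.Opens} {e : Γ(T, U)} (he : IsFrame e) {z : X} (hz : z ∈ U)
    (m : (CohB1.tensorMod M T).presheaf.stalk z) :
    ∃ (W : X.Opens) (hW : W ≤ U) (hzW : z ∈ W) (a : Γ(M, W)),
      (CohB1.tensorMod M T).presheaf.germ W z hzW (tmul a (AModX.res T hW e)) = m := by
  let P := CohB1.toPMod M
  let Q := CohB1.toPMod T
  haveI hi := KFlatLib.isIso_stalk_unitShP (x := z) (P ⊗ Q)
  let u : KFlatLib.stalkMod z (P ⊗ Q) →ₗ[X.presheaf.stalk z]
      KFlatLib.stalkMod z (DCoh.toP.obj (DCoh.shP.obj (P ⊗ Q))) :=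
    ((KFlatLib.stalkP z).map (KFlatLib.unitShP (P ⊗ Q))).hom
  let ψ := u ∘ₗ (KFlatLib.tensorStalkEquiv P Q).toLinearMap
  have hψ : Function.Surjective ψ :=
    (ConcreteCategory.bijective_of_isIso ((KFlatLib.stalkP z).map (KFlatLib.unitShP (P ⊗ Q)))).2.comp
      (KFlatLib.tensorStalkEquiv P Q).surjective
  have key : ∀ (W : X.Opens) (hzW : z ∈ W) (a : Γ(M, W)) (b : Γ(T, W)),
      ψ (KFlatLib.germP P W hzW a ⊗ₜ KFlatLib.germP Q W hzW b) =
      (CohB1.tensorMod M T).presheaf.germ W z hzW (InvX.tmul a b) := fun W hzW a b =>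
    (congrArg u (KFlatLib.ofTensor_germ W hzW _ _)).trans (KFlatLib.stalkModMap_germ _ W hzW _)
  obtain ⟨w, rfl⟩ := hψ m
  induction w using TensorProduct.induction_on with
  | zero =>
    refine ⟨U, le_rfl, hz, 0, ?_⟩
    rw [map_zero, ← key, map_zero, TensorProduct.zero_tmul, map_zero]
  | add a b ha hb =>
    obtain ⟨W₁, h₁, hz₁, a₁, e₁⟩ := ha
    obtain ⟨W₂, h₂, hz₂, a₂, e₂⟩ := hb
    refine ⟨W₁ ⊓ W₂, inf_le_left.trans h₁, ⟨hz₁, hz₂⟩,
      AModX.res M inf_le_left a₁ + AModX.res M inf_le_right a₂, ?_⟩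
    rw [map_add, ← e₁, ← e₂, ← key, map_add, TensorProduct.add_tmul, map_add, key, key]
    congr 1
    · rw [← AModX.res_res h₁ (inf_le_left : W₁ ⊓ W₂ ≤ W₁), ← res_tmul]
      exact germ_res' _ _ _
    · rw [← AModX.res_res h₂ (inf_le_right : W₁ ⊓ W₂ ≤ W₂), ← res_tmul]
      exact germ_res' _ _ _
  | tmul x y =>
    obtain ⟨c, rfl⟩ := (he.germ_bijective hz).2 y
    obtain ⟨W, hzW, a, ha⟩ := M.presheaf.germ_exist (x := z) (c • x : KFlatLib.stalkMod z P)
    refine ⟨W ⊓ U, inf_le_right, ⟨hzW, hz⟩, AModX.res M inf_le_left a, ?_⟩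
    rw [← key]
    show ψ _ = ψ (x ⊗ₜ (c • KFlatLib.germP Q U hz e))
    rw [← TensorProduct.smul_tmul]
    congr 1
    congr 1
    · exact (germ_res' (inf_le_left : W ⊓ U ≤ W) ⟨hzW, hz⟩ a).trans ha
    · exact germ_res' (inf_le_right : W ⊓ U ≤ U) ⟨hzW, hz⟩ e

/-- A section of an ideal sheaf does not generate at a point of its support. -/
theorem not_mem_basicOpen (I : X.IdealSheafData) {W : X.Opens} (a : Γ(ClSub.idealMod I, W)) {z : X}
    (hz : z ∈ I.support) : z ∉ X.basicOpen (OmegaSh.idealSect I W a) := by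
  intro h
  obtain ⟨_, ⟨V, hV, rfl⟩, hzV, hle⟩ :=
    X.isBasis_affineOpens.exists_subset_of_mem_open (X.basicOpen_le _ h) W.2
  have h1 := OmegaLib.idealSect_mem I ⟨V, hV⟩
    ((ClSub.idealMod I).presheaf.map (homOfLE (show V ≤ W from hle)).op a)
  rw [OmegaLib.idealSect_map] at h1
  rw [Scheme.IdealSheafData.mem_support_iff_of_mem (U := ⟨V, hV⟩) hzV, Scheme.mem_zeroLocus_iff] at hz
  refine hz _ h1 ?_
  rw [Scheme.basicOpen_res]
  exact ⟨hzV, h⟩

variable (I : X.IdealSheafData)

local notation "O_" => Coh.structureModule X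

/-- `I ⊗ T ⟶ O ⊗ T`. -/
noncomputable def mulι (T : X.Modules) : CohB1.tensorMod (ClSub.idealMod I) T ⟶ CohB1.tensorMod O_ T :=
  KoszTw.tensorMap (ClSub.idealModι I) (𝟙 T)

theorem mulι_tmul {W : X.Opens} (a : Γ(ClSub.idealMod I, W)) (b : Γ(T, W)) :
    (mulι I T).app W (tmul a b) = tmul ((ClSub.idealModι I).app W a) b :=
  KoszTw.tensorMap_tmul (ClSub.idealModι I) (𝟙 T) W a b

/-- Multiplication by the ideal, in a frame. -/
theorem app_tmul {W : X.Opens} (a : Γ(ClSub.idealMod I, W)) (b : Γ(T, W)) :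
    (mulι I T).app W (tmul a b) =
      OmegaSh.idealSect I W a • tmul (show Γ(O_, W) from (1 : Γ(X, W))) b := by
  refine (mulι_tmul I a b).trans ?_
  rw [← tmul_smul_left]
  congr 1
  exact (mul_one (OmegaSh.idealSect I W a : Γ(X, W))).symm

/-- Sections of `I ⊗ T` only generate `O ⊗ T` off the support of `I`. -/
theorem not_mem_genLocus (hT : PicF.IsInvertible T) (s : O_ ⟶ (CohB1.tensorMod (ClSub.idealMod I) T)) {z : X}
    (hz : z ∈ I.support) :
    z ∉ CohB1.genLocus (CohB1.tensorMod O_ T) (s ≫ mulι I T) := by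
  intro hgen
  obtain ⟨U, hzU, e, he⟩ := exists_frame hT z
  obtain ⟨W, hW, hzW, a, ha⟩ := exists_tmul_eq he hzU
    (((CohB1.tensorMod (ClSub.idealMod I) T)).presheaf.germ ⊤ z trivial (one s))
  obtain ⟨W', hzW', i₁, i₂, hW'⟩ := ((CohB1.tensorMod (ClSub.idealMod I) T)).presheaf.germ_eq z hzW (show z ∈ (⊤ : X.Opens) from trivial) _ _ ha
  have hle : W' ≤ W := leOfHom i₁
  have hres : AModX.res _ (le_top : W' ≤ ⊤) (one s) =
      tmul (AModX.res (ClSub.idealMod I) hle a) (AModX.res T (hle.trans hW) e) := by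
    rw [← AModX.res_res hW hle, ← res_tmul]
    exact hW'.symm
  have h1 : AModX.res _ (le_top : W' ≤ ⊤) (one (s ≫ mulι I T)) =
      OmegaSh.idealSect I W' (AModX.res (ClSub.idealMod I) hle a) •
        tmul (show Γ(O_, W') from (1 : Γ(X, W'))) (AModX.res T (hle.trans hW) e) := by
    rw [← app_tmul, ← hres]
    exact (AModX.app_res (mulι I T) _ (one s)).symm
  have h2 : z ∈ X.basicOpen (OmegaSh.idealSect I W' (AModX.res (ClSub.idealMod I) hle a)) := by
    rw [← genLocus_inf _ (isFrame_tmul (isFrame_one W') (he.res (hle.trans hW))) h1]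
    exact ⟨hgen, hzW'⟩
  exact not_mem_basicOpen I _ hz h2

/-- A generated source and a local generator in the image give a global generator in the image. -/
theorem exists_gen_of_epi {L : X.Modules} (χ : M ⟶ L) {k : ℕ} (p : FlatMod.freeMod X k ⟶ M) [Epi p]
    {V : X.Opens} {x : X} (hxV : x ∈ V) {eV : Γ(L, V)} (heV : IsFrame eV) (b : Γ(M, V)) (r : Γ(X, V))
    (hbe' : χ.app V b = r • eV) (hr : x ∈ X.basicOpen r) :
    ∃ s : O_ ⟶ M, x ∈ CohB1.genLocus L (s ≫ χ) := by
  by_contra hnone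
  push Not at hnone
  let R := X.presheaf.stalk x
  let P : Submodule R (L.presheaf.stalk x) := IsLocalRing.maximalIdeal R • ⊤
  let N : ModuleCat.{u} R := ModuleCat.of R (L.presheaf.stalk x ⧸ P)
  let g : L ⟶ KFlatLib.skyObjM x N :=
    ⟨{ app := fun V => ModuleCat.ofHom (Y := KFlatLib.skyObj x N V)
        { toFun := fun a h => (P.mkQ ((L.presheaf.germ V.unop x h.down).hom a) : N)
          map_add' := fun a b => funext fun h => by
            show P.mkQ ((L.presheaf.germ V.unop x h.down).hom (a + b)) = _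
            exact ((congrArg P.mkQ (map_add (L.presheaf.germ V.unop x h.down).hom a b)).trans
              (map_add P.mkQ _ _))
          map_smul' := fun r a => funext fun h => by
            show P.mkQ ((L.presheaf.germ V.unop x h.down).hom (r • a)) =
              (X.presheaf.germ V.unop x h.down r) • (P.mkQ ((L.presheaf.germ V.unop x h.down).hom a) : N)
            exact ((congrArg P.mkQ (QCoh.germ_smul' L h.down r a)).trans
              (map_smul P.mkQ _ _)) }
       naturality := fun {V W} i => by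
         ext a
         funext h
         exact congrArg P.mkQ (L.presheaf.germ_res_apply i.unop x h.down a) }⟩
  have hmax : ∀ s : O_ ⟶ M,
      (L.presheaf.germ ⊤ x trivial).hom (one (s ≫ χ)) ∈ P := by
    intro s
    obtain ⟨c, hc⟩ := heV.exists_coord le_rfl (AModX.res L (le_top : V ≤ ⊤) (one (s ≫ χ)))
    rw [AModX.res_self] at hc
    have hm : X.presheaf.germ V x hxV c ∈ IsLocalRing.maximalIdeal R := fun hu => by
      have h1 : x ∈ X.basicOpen c := (X.mem_basicOpen c x hxV).2 hu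
      rw [← genLocus_inf (s ≫ χ) heV hc] at h1
      exact hnone s h1.1
    have h2 : (L.presheaf.germ ⊤ x trivial).hom (one (s ≫ χ)) =
        X.presheaf.germ V x hxV c • (L.presheaf.germ V x hxV).hom eV := by
      rw [← QCoh.germ_smul' L hxV, ← hc]
      exact (L.presheaf.germ_res_apply (homOfLE le_top) x hxV _).symm
    rw [h2]
    exact Submodule.smul_mem_smul hm trivial
  have hg0 : χ ≫ g = 0 := by
    rw [← cancel_epi p, Limits.comp_zero]
    refine Sigma.hom_ext _ _ fun i => ?_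
    rw [Limits.comp_zero, ← Category.assoc, ← Category.assoc]
    apply Scheme.Modules.hom_ext
    intro W
    ext a
    funext h
    let σ := Sigma.ι (fun _ : Fin k => O_) i ≫ p
    show P.mkQ ((L.presheaf.germ W x h.down).hom ((σ ≫ χ).app W a)) = 0
    rw [Submodule.mkQ_apply, Submodule.Quotient.mk_eq_zero]
    rw [show (σ ≫ χ).app W a = (show Γ(X, W) from a) • AModX.res L (le_top : W ≤ ⊤) (one (σ ≫ χ))
      from InvX.app_eq_smul _ _]
    rw [QCoh.germ_smul' L h.down]
    refine Submodule.smul_mem _ _ ?_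
    rw [show (L.presheaf.germ W x h.down).hom (AModX.res L (le_top : W ≤ ⊤) (one (σ ≫ χ))) =
      (L.presheaf.germ ⊤ x trivial).hom (one (σ ≫ χ))
      from L.presheaf.germ_res_apply (homOfLE le_top) x h.down _]
    exact hmax _
  have hbe : (L.presheaf.germ V x hxV).hom (r • eV) ∈ P := by
    rw [← Submodule.Quotient.mk_eq_zero, ← hbe']
    have := congrArg (fun φ => (φ : M ⟶ KFlatLib.skyObjM x N).app V b) hg0
    exact congrFun this ⟨hxV⟩
  rw [QCoh.germ_smul' L hxV] at hbe
  have hu : IsUnit (X.presheaf.germ V x hxV r) := (X.mem_basicOpen _ x hxV).1 hr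
  have he0 : (L.presheaf.germ V x hxV).hom eV ∈ P := (Submodule.smul_mem_iff_of_isUnit P hu).1 hbe
  have hbij := heV.germ_bijective hxV
  have hle' : P ≤ Submodule.map (LinearMap.toSpanSingleton R (L.presheaf.stalk x)
      ((L.presheaf.germ V x hxV).hom eV)) (IsLocalRing.maximalIdeal R) := by
    refine Submodule.smul_le.2 fun r hr m _ => ?_
    obtain ⟨c, rfl⟩ := hbij.2 m
    exact ⟨r * c, Ideal.mul_mem_right _ _ hr, by simp [mul_smul]⟩
  obtain ⟨c, hc, hce⟩ := hle' he0
  have h1 : c = 1 := hbij.1 (hce.trans (one_smul R _).symm)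
  exact (IsLocalRing.maximalIdeal.isMaximal R).ne_top ((Ideal.eq_top_iff_one _).2 (h1 ▸ hc))

/-- If `I ⊗ T` is globally generated, some section generates `O ⊗ T` at a point off the support. -/
theorem exists_mem_genLocus (hT : PicF.IsInvertible T) {k : ℕ}
    (p : FlatMod.freeMod X k ⟶ (CohB1.tensorMod (ClSub.idealMod I) T)) [Epi p] {x : X} (hx : x ∉ I.support) :
    ∃ s : O_ ⟶ (CohB1.tensorMod (ClSub.idealMod I) T),
      x ∈ CohB1.genLocus (CohB1.tensorMod O_ T) (s ≫ mulι I T) := by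
  obtain ⟨U₀, hxU₀, e₀, he₀⟩ := exists_frame hT x
  obtain ⟨_, ⟨V, hV, rfl⟩, hxV, hle⟩ :=
    X.isBasis_affineOpens.exists_subset_of_mem_open (show x ∈ U₀ from hxU₀) U₀.2
  obtain ⟨b, hb, hxb⟩ : ∃ b ∈ I.ideal ⟨V, hV⟩, x ∈ X.basicOpen b := by
    rw [Scheme.IdealSheafData.mem_support_iff_of_mem (U := ⟨V, hV⟩) hxV, Scheme.mem_zeroLocus_iff] at hx
    push Not at hx
    exact hx
  obtain ⟨b', rfl⟩ := OmegaLib.exists_of_mem I ⟨V, hV⟩ b hb
  exact exists_gen_of_epi (mulι I T) p hxV (isFrame_tmul (isFrame_one V) (he₀.res hle))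
    (tmul b' (AModX.res T hle e₀)) _ (app_tmul I b' _) hxb

theorem isAffineOpen_of_le (G : X.Opens) [IsAffineHom G.ι] {U : X.Opens} (hU : IsAffineOpen U)
    (h : G ≤ U) : IsAffineOpen G := by
  have := (hU.preimage G.ι).image_of_isOpenImmersion G.ι
  rwa [Scheme.Hom.image_preimage_eq_opensRange_inf, Scheme.Opens.opensRange_ι,
    inf_eq_left.2 h] at this

theorem exists_affine_genLocus (hT : PicF.IsInvertible T) {k : ℕ}
    (p : FlatMod.freeMod X k ⟶ (CohB1.tensorMod (ClSub.idealMod I) T)) [Epi p] {U : X.Opens} (hU : IsAffineOpen U)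
    (hsupp : (I.support : Set X) = (U : Set X)ᶜ) {x : X} (hxU : x ∈ U) :
    ∃ t : O_ ⟶ T, x ∈ CohB1.genLocus T t ∧ IsAffineOpen (CohB1.genLocus T t) := by
  have hx : x ∉ I.support := fun hmem => (hsupp.le hmem) hxU
  obtain ⟨s, hs⟩ := exists_mem_genLocus I hT p hx
  let G := CohB1.genLocus (CohB1.tensorMod O_ T) (s ≫ mulι I T)
  have hGU : G ≤ U := fun z hz => by
    by_contra hzU
    exact not_mem_genLocus I hT s (hsupp.ge hzU) hz
  have hGa : IsAffineOpen G := by
    haveI := isAffineHom_genLocus_ι (isInvertible_tensorMod isInvertible_structureModule hT)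
      (s ≫ mulι I T)
    exact isAffineOpen_of_le G hU hGU
  obtain ⟨t, ht⟩ := AmpleX.exists_section_of_cl_eq (B := T)
    (cl_one_tensor T)
    (s ≫ mulι I T)
  refine ⟨t, ?_, ?_⟩
  · rw [ht]; exact hs
  · rw [ht]; exact hGa


/-- Let X be a quasi-compact separated scheme (the source also allows a prescheme with Noetherian
underlying space) and L an invertible module. Suppose that for every quasi-coherent ideal sheaf I of
finite type there are n > 0 and k > 0 with I ⊗ L^{⊗n} a quotient of O_X^k. Then L is ample. -/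
theorem result (X : Scheme.{u}) [CompactSpace X] [X.IsSeparated] (L : X.Modules) (hL : PicF.IsInvertible L)
    (h : ∀ I : X.IdealSheafData, BlowUp.IsFiniteTypeIdeal I →
      ∃ (n k : ℕ) (p : FlatMod.freeMod X k ⟶ CohB1.tensorMod (ClSub.idealMod I) (CohB1.tensorPow L (n + 1))), 0 < k ∧ Epi p) :
    CohB1.IsAmple L := by
  refine ⟨hL, inferInstance, fun x => ?_⟩
  obtain ⟨_, ⟨U, hU, rfl⟩, hxU, -⟩ :=
    X.isBasis_affineOpens.exists_subset_of_mem_open (Set.mem_univ x) isOpen_univ
  obtain ⟨I, hI, hsupp⟩ := (Groth.Agent.S9823.result X U).1 hU.isCompact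
  obtain ⟨n, k, p, -, hp⟩ := h I hI
  have hx : x ∉ I.support := fun hmem => (hsupp.le hmem) hxU
  have hT : PicF.IsInvertible (CohB1.tensorPow L (n + 1)) := isInvertible_tensorPow hL _
  obtain ⟨t, ht, hta⟩ := exists_affine_genLocus I hT p hU hsupp hxU
  exact ⟨n, t, ht, hta⟩

end Groth.Agent.S2326
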