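import Groth.Statements.S2344
import Groth.Agent.S4440
import Groth.Agent.Ref1X.CurveAux

set_option autoImplicit false
universe u
open CategoryTheory CategoryTheory.Limits AlgebraicGeometry
open EGA2

namespace Groth.Agent.S2344

/-- Let X be a normal algebraic curve over k (separated, of finite type, nonempty, local rings at closed
points of dimension one, all local rings integrally closed domains), Y proper over k, U a dense open
of X and g : U → Y a k-morphism. Then g extends uniquely to a k-morphism X → Y. -/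
theorem result (k : Type u) [Field k] (X Y : Scheme.{u}) [X.Over (Spec (CommRingCat.of k))] [Y.Over (Spec (CommRingCat.of k))]
    [LocallyOfFiniteType (X ↘ (Spec (CommRingCat.of k)))] [QuasiCompact (X ↘ (Spec (CommRingCat.of k)))] [IsSeparated (X ↘ (Spec (CommRingCat.of k)))] [Nonempty X] (hcurve : (∀ x : X, IsClosed ({x} : Set X) → ringKrullDim (X.presheaf.stalk x) = 1)) (hnorm : Pi1.IsNormalScheme X)
    [IsProper (Y ↘ (Spec (CommRingCat.of k)))] (U : X.Opens) (hU : Dense (U : Set X)) (g : (U : Scheme.{u}) ⟶ Y)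
    (hg : g ≫ (Y ↘ (Spec (CommRingCat.of k))) = U.ι ≫ (X ↘ (Spec (CommRingCat.of k)))) :
    ∃! g' : X ⟶ Y, U.ι ≫ g' = g ∧ g' ≫ (Y ↘ (Spec (CommRingCat.of k))) = X ↘ (Spec (CommRingCat.of k)) := by
  haveI : IsLocallyNoetherian X := LocallyOfFiniteType.isLocallyNoetherian (X ↘ (Spec (CommRingCat.of k)))
  haveI : IsReduced X := Groth.Agent.Ref1X.isReduced_of_normal hnorm
  obtain ⟨U', hUU', g', hg', hgU, hU'⟩ := Groth.Agent.S4440.result (Y ↘ (Spec (CommRingCat.of k)))
    (X ↘ (Spec (CommRingCat.of k))) (fun y hy => Groth.Agent.Ref1X.isRegular_of_normal_dim_le_one hnorm hy) U hU g hg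
  have htop : U' = ⊤ := top_unique fun y _ => hU' y
    (Groth.Agent.Ref1X.dim_le_one_of_curve (X ↘ (Spec (CommRingCat.of k))) hcurve y)
  subst htop
  let G : X ⟶ Y := X.topIso.inv ≫ g'
  have hι : U.ι ≫ X.topIso.inv = X.homOfLE hUU' := by
    rw [← cancel_mono X.topIso.hom, Category.assoc, Iso.inv_hom_id, Category.comp_id]
    exact (X.homOfLE_ι hUU').symm
  have hGU : U.ι ≫ G = g := by
    simp only [G]
    rw [reassoc_of% hι, hgU]
  have hGk : G ≫ (Y ↘ (Spec (CommRingCat.of k))) = X ↘ (Spec (CommRingCat.of k)) := by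
    simp only [G]
    rw [Category.assoc, hg', ← Category.assoc]
    show (X.topIso.inv ≫ (⊤ : X.Opens).ι) ≫ _ = _
    rw [show X.topIso.inv ≫ (⊤ : X.Opens).ι = 𝟙 X from X.topIso.inv_hom_id, Category.id_comp]
  refine ⟨G, ⟨hGU, hGk⟩, fun G' hG' => ?_⟩
  haveI : IsDominant U.ι := ⟨by rw [DenseRange, Scheme.Opens.range_ι]; exact hU⟩
  exact ext_of_isDominant_of_isSeparated (Y ↘ (Spec (CommRingCat.of k))) (hG'.2.trans hGk.symm) U.ι
    (hG'.1.trans hGU.symm)

end Groth.Agent.S2344
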