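import Groth.Statements.S2472
import Groth.Agent.S2471
import Groth.Agent.S4542
import Groth.Agent.RegFS6.PrimeField
import Groth.Agent.CoeffField.Smooth
import Groth.Agent.PSLib.Regular

set_option autoImplicit false
universe u
open EGA41

namespace Groth.Agent.S2472


open IsLocalRing TensorProduct KaehlerDifferential in
/-- The imperfection module of the residue field of a formally smooth Noetherian algebra is finite. -/
theorem finite_imperfection {k A K : Type u} [Field k] [CommRing A] [IsLocalRing A] [IsNoetherianRing A]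
    [Algebra k A] [Field K] [Algebra k K] (hfs : CAlgX.IsAdicFormallySmooth k A (maximalIdeal A))
    (e : ResidueField A ≃ₐ[k] K) : Module.Finite K (EGA41.imperfection ℤ k K) := by
  obtain ⟨-, hi⟩ := S2471.result.1 hfs
  let : Algebra A K := ((e : ResidueField A →+* K).comp (residue A)).toAlgebra
  have : IsScalarTower k A K := IsScalarTower.of_algebraMap_eq fun c => (e.commutes c).symm
  have hsurj : Function.Surjective (algebraMap A K) := fun y => by
    obtain ⟨a, ha⟩ := residue_surjective (e.symm y)
    exact ⟨a, (congrArg e ha).trans (e.apply_symm_apply y)⟩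
  let eA : ResidueField A ≃ₗ[A] K :=
    { e.toAddEquiv with
      map_smul' := fun a x => by
        show e (a • x) = algebraMap A K a * e x
        rw [Algebra.smul_def, map_mul]
        rfl }
  have hi' : Function.Injective ((mapBaseChange ℤ k A).lTensor K) := by
    intro x y h
    have hnat : ∀ z, (mapBaseChange ℤ k A).lTensor (ResidueField A)
        (eA.symm.toLinearMap.rTensor _ z) = eA.symm.toLinearMap.rTensor _ ((mapBaseChange ℤ k A).lTensor K z) := by
      intro z
      rw [← LinearMap.comp_apply, ← LinearMap.comp_apply (eA.symm.toLinearMap.rTensor _),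
        LinearMap.lTensor_comp_rTensor, LinearMap.rTensor_comp_lTensor]
    have h1 := hi (((hnat x).trans (congrArg _ h)).trans (hnat y).symm)
    exact (LinearEquiv.rTensor (A ⊗[k] Ω[k⁄ℤ]) eA.symm).injective h1
  let i : K ⊗[k] Ω[k⁄ℤ] →ₗ[K] K ⊗[A] Ω[A⁄ℤ] :=
    ((mapBaseChange ℤ k A).baseChange K) ∘ₗ (AlgebraTensorModule.cancelBaseChange k A K K (Ω[k⁄ℤ])).symm.toLinearMap
  have hiinj : Function.Injective i :=
    (show Function.Injective ((mapBaseChange ℤ k A).baseChange K) from hi').comp (LinearEquiv.injective _)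
  let r : K ⊗[A] Ω[A⁄ℤ] →ₗ[K] Ω[K⁄ℤ] := mapBaseChange ℤ A K
  have hri : r ∘ₗ i = mapBaseChange ℤ k K := by
    refine TensorProduct.AlgebraTensorModule.ext fun a x => ?_
    rw [LinearMap.comp_apply, LinearMap.comp_apply, mapBaseChange_tmul]
    rw [LinearEquiv.coe_coe, AlgebraTensorModule.cancelBaseChange_symm_tmul]
    show mapBaseChange ℤ A K (a ⊗ₜ[A] mapBaseChange ℤ k A ((1 : A) ⊗ₜ[k] x)) = _
    rw [mapBaseChange_tmul, mapBaseChange_tmul, one_smul]
    congr 1
    refine LinearMap.congr_fun (?_ : ((KaehlerDifferential.map ℤ ℤ A K).restrictScalars k).comp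
      (KaehlerDifferential.map ℤ ℤ k A) = KaehlerDifferential.map ℤ ℤ k K) x
    refine Derivation.liftKaehlerDifferential_unique _ _ ?_
    ext c
    simp
    rw [IsScalarTower.algebraMap_apply k A K c]
  have : Module.Finite A (RingHom.ker (algebraMap A K)).Cotangent :=
    Module.Finite.of_surjective (RingHom.ker (algebraMap A K)).toCotangent (Ideal.toCotangent_surjective _)
  have : Module.Finite K (LinearMap.ker r) := by
    have hfA : ((LinearMap.ker r).restrictScalars A).FG := by
      rw [← range_kerCotangentToTensor ℤ A K hsurj, LinearMap.range_eq_map]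
      exact Module.Finite.fg_top.map _
    exact Module.Finite.iff_fg.2 (Submodule.FG.of_restrictScalars A hfA)
  have : IsNoetherian K ↥(LinearMap.ker r) := isNoetherian_of_isNoetherianRing_of_finite K ↥(LinearMap.ker r)
  refine Module.Finite.of_injective
    (LinearMap.codRestrict (LinearMap.ker r) (i ∘ₗ (EGA41.imperfection ℤ k K).subtype) fun z => ?_)
    fun x y h => Subtype.ext (hiinj (congrArg Subtype.val h))
  rw [LinearMap.mem_ker, ← LinearMap.comp_apply r, ← LinearMap.comp_assoc, hri]
  exact z.2

open IsLocalRing TensorProduct KaehlerDifferential in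
/-- The criterion by derivations. -/
theorem fs_of_derivations {k K A : Type u} [Field k] [Field K] [CommRing A] [IsLocalRing A] [IsNoetherianRing A]
    [Algebra k K] [Algebra k A] [Algebra A K] [IsScalarTower k A K] (hreg : IsRegularLocalRing A)
    (hsurj : Function.Surjective (algebraMap A K)) {n : ℕ} (φ : Fin n → (K ⊗[k] Ω[k⁄ℤ]) →ₗ[K] K)
    (hφ : ∀ z ∈ EGA41.imperfection ℤ k K, (∀ j, φ j z = 0) → z = 0) (Dj : Fin n → Derivation ℤ A K)
    (hD : ∀ j c, Dj j (algebraMap k A c) = φ j (1 ⊗ₜ[k] D ℤ k c)) :
    CAlgX.IsAdicFormallySmooth k A (maximalIdeal A) := by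
  refine S2471.result.2 ⟨hreg, ?_⟩
  let ρ : A →ₐ[k] K := IsScalarTower.toAlgHom k A K
  have hρk : RingHom.ker ρ.toRingHom = maximalIdeal A :=
    IsLocalRing.eq_maximalIdeal (RingHom.ker_isMaximal_of_surjective _ hsurj)
  let e : ResidueField A ≃ₐ[k] K :=
    (Ideal.quotientEquivAlgOfEq k hρk.symm).trans (Ideal.quotientKerAlgEquivOfSurjective hsurj)
  have he : ∀ a, e (residue A a) = algebraMap A K a := fun a => rfl
  let eA : ResidueField A ≃ₗ[A] K :=
    { e.toAddEquiv with
      map_smul' := fun a x => by
        obtain ⟨y, rfl⟩ := residue_surjective x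
        show e (a • residue A y) = a • e (residue A y)
        rw [Algebra.smul_def, Algebra.smul_def, map_mul]
        rfl }
  have hiK : Function.Injective (((mapBaseChange ℤ k A).baseChange K) ∘ₗ
      (AlgebraTensorModule.cancelBaseChange k A K K (Ω[k⁄ℤ])).symm.toLinearMap) := by
    set i := ((mapBaseChange ℤ k A).baseChange K) ∘ₗ
      (AlgebraTensorModule.cancelBaseChange k A K K (Ω[k⁄ℤ])).symm.toLinearMap
    have key : ∀ {M : Type u} [AddCommGroup M] [Module K M] [Module A M] [IsScalarTower A K M] [Module k M] [IsScalarTower k K M]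
        (L : K ⊗[A] Ω[A⁄ℤ] →ₗ[K] M) (L' : K ⊗[k] Ω[k⁄ℤ] →ₗ[K] M),
        (∀ c, L ((1 : K) ⊗ₜ[A] D ℤ A (algebraMap k A c)) = L' ((1 : K) ⊗ₜ[k] D ℤ k c)) → L ∘ₗ i = L' := by
      intro M _ _ _ _ _ _ L L' h
      refine TensorProduct.AlgebraTensorModule.ext fun a x => ?_
      rw [← mul_one a, ← smul_eq_mul, ← TensorProduct.smul_tmul', map_smul, map_smul]
      congr 1
      have hx : x ∈ Submodule.span k (Set.range (D ℤ k)) := by
        rw [span_range_derivation]; trivial
      induction hx using Submodule.span_induction with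
      | mem y hy =>
        obtain ⟨c, rfl⟩ := hy
        rw [← h c, LinearMap.comp_apply]
        congr 1
        show (mapBaseChange ℤ k A).baseChange K ((1 : K) ⊗ₜ[A] ((1 : A) ⊗ₜ[k] D ℤ k c)) = _
        rw [LinearMap.baseChange_tmul, mapBaseChange_tmul, one_smul, map_D]
      | zero => simp
      | add y z _ _ hy hz => rw [TensorProduct.tmul_add, map_add, map_add, hy, hz]
      | smul c y _ hy =>
        rw [TensorProduct.tmul_smul, ← algebraMap_smul K c, map_smul, map_smul, hy]
    rw [injective_iff_map_eq_zero]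
    intro z hz
    have h1 : (mapBaseChange ℤ A K) ∘ₗ i = mapBaseChange ℤ k K := key _ _ fun c => by
      rw [mapBaseChange_tmul, mapBaseChange_tmul, one_smul, one_smul, map_D, map_D]
      exact congrArg _ (IsScalarTower.algebraMap_apply k A K c).symm
    have hzU : z ∈ (EGA41.imperfection ℤ k K) := by
      show mapBaseChange ℤ k K z = 0
      rw [← h1, LinearMap.comp_apply, hz, map_zero]
    refine hφ z hzU fun j => ?_
    let L : K ⊗[A] Ω[A⁄ℤ] →ₗ[K] K := (Dj j).liftKaehlerDifferential.liftBaseChange K
    have h2 : L ∘ₗ i = φ j := key _ _ fun c => by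
      rw [← hD]
      show L _ = _
      rw [LinearMap.liftBaseChange_tmul, one_smul, Derivation.liftKaehlerDifferential_comp_D]
    rw [← h2, LinearMap.comp_apply, hz, map_zero]
  have hiK' : Function.Injective ((mapBaseChange ℤ k A).baseChange K) := by
    intro x y h
    have h' := hiK (a₁ := AlgebraTensorModule.cancelBaseChange k A K K (Ω[k⁄ℤ]) x)
      (a₂ := AlgebraTensorModule.cancelBaseChange k A K K (Ω[k⁄ℤ]) y) (by simpa using h)
    exact (LinearEquiv.injective _) h'
  intro x y h
  apply (LinearEquiv.rTensor (A ⊗[k] Ω[k⁄ℤ]) eA).injective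
  apply hiK'
  have hnat : ∀ z, (mapBaseChange ℤ k A).baseChange K (LinearEquiv.rTensor _ eA z) =
      eA.toLinearMap.rTensor _ ((mapBaseChange ℤ k A).lTensor (ResidueField A) z) := by
    intro z
    show (mapBaseChange ℤ k A).lTensor K (eA.toLinearMap.rTensor _ z) = _
    rw [← LinearMap.comp_apply, ← LinearMap.comp_apply (eA.toLinearMap.rTensor _),
      LinearMap.lTensor_comp_rTensor, LinearMap.rTensor_comp_lTensor]
  rw [hnat, hnat, h]


open IsLocalRing TensorProduct KaehlerDifferential in
/-- A formally smooth power series algebra with given residue field. -/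
theorem exists_powerSeries {k K : Type u} [Field k] [Field K] [Algebra k K]
    [Module.Finite K (EGA41.imperfection ℤ k K)] (n : ℕ)
    (hn : Module.finrank K (EGA41.imperfection ℤ k K) ≤ n) :
    ∃ (A : Type u) (_ : CommRing A) (_ : IsLocalRing A) (_ : IsNoetherianRing A) (_ : Algebra k A),
      IsAdicComplete (maximalIdeal A) A ∧ CAlgX.IsAdicFormallySmooth k A (maximalIdeal A) ∧
      Nonempty (ResidueField A ≃ₐ[k] K) ∧ ringKrullDim A = n := by
  classical
  obtain ⟨W, hW⟩ := (EGA41.imperfection ℤ k K).exists_isCompl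
  have : Module.Free K ↥(EGA41.imperfection ℤ k K) := Module.Free.of_divisionRing K ↥(EGA41.imperfection ℤ k K)
  let b := Module.finBasis K (EGA41.imperfection ℤ k K)
  let φ : Fin n → (K ⊗[k] Ω[k⁄ℤ]) →ₗ[K] K := fun j =>
    if h : (j : ℕ) < Module.finrank K (EGA41.imperfection ℤ k K) then (b.coord ⟨j, h⟩) ∘ₗ (EGA41.imperfection ℤ k K).projectionOnto W hW else 0
  have hφ : ∀ z ∈ (EGA41.imperfection ℤ k K), (∀ j, φ j z = 0) → z = 0 := by
    intro z hz h
    suffices (⟨z, hz⟩ : (EGA41.imperfection ℤ k K)) = 0 from congrArg Subtype.val this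
    refine b.forall_coord_eq_zero_iff.1 fun i => ?_
    have := h ⟨i, lt_of_lt_of_le i.2 hn⟩
    simp only [φ, dif_pos i.2, LinearMap.comp_apply] at this
    rwa [show (EGA41.imperfection ℤ k K).projectionOnto W hW z = ⟨z, hz⟩ from Submodule.projectionOnto_apply_left hW ⟨z, hz⟩] at this
  let δ : Fin n → Derivation ℤ k K := fun j =>
    (((φ j).restrictScalars k) ∘ₗ TensorProduct.mk k K (Ω[k⁄ℤ]) 1).compDer (D ℤ k)
  have hδ : ∀ j c, δ j c = φ j (1 ⊗ₜ[k] D ℤ k c) := fun j c => rfl
  let m := maximalIdeal (MvPowerSeries (Fin n) K)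
  have hm : m = PSLib.vars n K := PSLib.maximalIdeal_eq_vars K n
  have hcomp : IsAdicComplete m (MvPowerSeries (Fin n) K) := by rw [hm]; exact ⟨⟩
  have hX : ∀ j, MvPowerSeries.X j ∈ m := fun j => hm ▸ Ideal.subset_span ⟨j, rfl⟩
  -- the first order structure map
  let q := Ideal.Quotient.mk (m ^ 2)
  let lin : k → (MvPowerSeries (Fin n) K) := fun c => ∑ j, MvPowerSeries.C (δ j c) * MvPowerSeries.X j
  have hlin : ∀ c, lin c ∈ m := fun c => Ideal.sum_mem _ fun j _ => Ideal.mul_mem_left _ _ (hX j)
  let u₀ : k →+* (MvPowerSeries (Fin n) K) ⧸ m ^ 2 :=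
    { toFun := fun c => q (MvPowerSeries.C (algebraMap k K c) + lin c)
      map_one' := by simp [lin]
      map_zero' := by simp [lin]
      map_add' := fun x y => by
        rw [← map_add]; congr 1
        simp only [lin, map_add, add_mul, Finset.sum_add_distrib]; abel
      map_mul' := fun x y => by
        rw [← map_mul, Ideal.Quotient.eq]
        have h : MvPowerSeries.C (algebraMap k K (x * y)) + lin (x * y) -
            (MvPowerSeries.C (algebraMap k K x) + lin x) * (MvPowerSeries.C (algebraMap k K y) + lin y) =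
            -(lin x * lin y) := by
          have : lin (x * y) = MvPowerSeries.C (algebraMap k K x) * lin y + MvPowerSeries.C (algebraMap k K y) * lin x := by
            simp only [lin, Finset.mul_sum, ← Finset.sum_add_distrib]
            refine Finset.sum_congr rfl fun j _ => ?_
            rw [Derivation.leibniz, Algebra.smul_def, Algebra.smul_def, map_add, map_mul, map_mul]
            ring
          rw [map_mul, map_mul, this]
          ring
        rw [h, pow_two]
        exact neg_mem (Ideal.mul_mem_mul (hlin x) (hlin y)) }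
  obtain ⟨P, _, _, hP, hur⟩ := RegFS6.exists_primeField k
  let : Algebra P K := ((algebraMap k K).comp (algebraMap P k)).toAlgebra
  let : Algebra P (MvPowerSeries (Fin n) K) := ((MvPowerSeries.C (R := K) (σ := Fin n)).comp (algebraMap P K)).toAlgebra
  have hδP : ∀ j (c : P), δ j (algebraMap P k c) = 0 := fun j c => by
    let D' : Derivation ℤ P K :=
      { toFun := fun c => δ j (algebraMap P k c)
        map_add' := fun x y => by rw [map_add, map_add]
        map_smul' := fun z x => by rw [map_zsmul, map_zsmul]; rfl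
        map_one_eq_zero' := by simp
        leibniz' := fun x y => by
          show δ j (algebraMap P k (x * y)) = x • δ j (algebraMap P k y) + y • δ j (algebraMap P k x)
          rw [map_mul, Derivation.leibniz]
          simp only [Algebra.smul_def]
          rfl }
    show D' c = 0
    rw [← Derivation.liftKaehlerDifferential_comp_D D', Subsingleton.elim (D ℤ P c) 0, map_zero]
  let u : k →ₐ[P] (MvPowerSeries (Fin n) K) ⧸ m ^ 2 :=
    { u₀ with
      commutes' := fun c => by
        show q (MvPowerSeries.C (algebraMap k K (algebraMap P k c)) + lin (algebraMap P k c)) = _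
        simp only [lin, hδP, map_zero, zero_mul, Finset.sum_const_zero, add_zero]
        rfl }
  have := CoeffField.formallySmooth_of_perfectField P k
  have hfsP : EGA41.IsFormallySmoothAdic P (⊥ : Ideal P) k (⊥ : Ideal k) := fun C _ _ J hJ _ v _ =>
    ⟨Algebra.FormallySmooth.lift J hJ v, Algebra.FormallySmooth.comp_lift J hJ v⟩
  have : IsHausdorff (m.map q) ((MvPowerSeries (Fin n) K) ⧸ m ^ 2) := ⟨fun x hx => by
    have h := hx 2
    rw [SModEq.zero, ← Ideal.map_pow, Ideal.map_quotient_self, Submodule.bot_smul, Submodule.mem_bot] at h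
    exact h⟩
  obtain ⟨σ, -, hσ⟩ := S4542.result (⊥ : Ideal P) (⊥ : Ideal k) m hfsP ⟨1, by rw [pow_one, Ideal.map_bot]; exact bot_le⟩ (m ^ 2) ⟨1, by rw [pow_one]; exact Ideal.pow_le_self two_ne_zero⟩
    u ⟨1, by rw [pow_one, Ideal.map_bot]; exact bot_le⟩
  have hσ' : ∀ c, q (σ c) = q (MvPowerSeries.C (algebraMap k K c) + lin c) := AlgHom.congr_fun hσ
  let : Algebra k (MvPowerSeries (Fin n) K) := σ.toRingHom.toAlgebra
  have : IsScalarTower ℤ k (MvPowerSeries (Fin n) K) := IsScalarTower.of_algebraMap_eq' (RingHom.ext_int _ _)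
  have hc0 : ∀ c, MvPowerSeries.constantCoeff (σ c) = algebraMap k K c := fun c => by
    have h := Ideal.Quotient.eq.1 (hσ' c)
    have h1 : σ c - (MvPowerSeries.C (algebraMap k K c) + lin c) ∈ m := Ideal.pow_le_self two_ne_zero h
    have h0 := hlin c
    rw [hm, PSLib.mem_vars_iff] at h0
    rw [hm, PSLib.mem_vars_iff, map_sub, map_add, MvPowerSeries.constantCoeff_C, h0, add_zero, sub_eq_zero] at h1
    exact h1
  have hcj : ∀ c j, MvPowerSeries.coeff (Finsupp.single j 1) (σ c) = δ j c := fun c j => by
    have h := Ideal.Quotient.eq.1 (hσ' c)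
    rw [hm, PSLib.mem_pow_iff] at h
    have h1 := h (Finsupp.single j 1) (by simp [Finsupp.degree_single])
    rw [map_sub, sub_eq_zero] at h1
    rw [h1, map_add]
    simp [lin, MvPowerSeries.coeff_C, MvPowerSeries.coeff_C_mul, MvPowerSeries.coeff_X, Finsupp.single_left_inj]
  have hreg : IsRegularLocalRing (MvPowerSeries (Fin n) K) := PSLib.isRegularLocalRing K n
  let ρ : (MvPowerSeries (Fin n) K) →ₐ[k] K :=
    { (MvPowerSeries.constantCoeff : (MvPowerSeries (Fin n) K) →+* K) with commutes' := hc0 }
  have hρs : Function.Surjective ρ := fun x => ⟨MvPowerSeries.C x, MvPowerSeries.constantCoeff_C x⟩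
  have hρk : RingHom.ker ρ.toRingHom = m := by
    ext x; rw [hm, PSLib.mem_vars_iff]; rfl
  let e : ResidueField (MvPowerSeries (Fin n) K) ≃ₐ[k] K :=
    (Ideal.quotientEquivAlgOfEq k hρk.symm).trans (Ideal.quotientKerAlgEquivOfSurjective hρs)
  have he : ∀ a, e (residue (MvPowerSeries (Fin n) K) a) = MvPowerSeries.constantCoeff a := fun a => rfl
  let : Algebra (MvPowerSeries (Fin n) K) K := ρ.toRingHom.toAlgebra
  have : IsScalarTower k (MvPowerSeries (Fin n) K) K := IsScalarTower.of_algebraMap_eq fun c => (hc0 c).symm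
  let : Algebra ℤ (MvPowerSeries (Fin n) K) := Ring.toIntAlgebra _
  let Dj : Fin n → Derivation ℤ (MvPowerSeries (Fin n) K) K := fun j =>
    Derivation.mk' (MvPowerSeries.coeff (R := K) (Finsupp.single j 1)).toAddMonoidHom.toIntLinearMap fun x y => by
        show MvPowerSeries.coeff _ (x * y) = MvPowerSeries.constantCoeff x * MvPowerSeries.coeff _ y +
          MvPowerSeries.constantCoeff y * MvPowerSeries.coeff _ x
        rw [MvPowerSeries.coeff_mul, Finsupp.antidiagonal_single,
          show Finset.HasAntidiagonal.antidiagonal 1 = ({(0, 1), (1, 0)} : Finset (ℕ × ℕ)) from rfl]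
        simp [MvPowerSeries.coeff_zero_eq_constantCoeff_apply, mul_comm]
  exact ⟨(MvPowerSeries (Fin n) K), inferInstance, inferInstance, inferInstance, inferInstance, hcomp,
    fs_of_derivations hreg hρs φ hφ Dj (fun j c => by rw [← hδ]; exact hcj c j), ⟨e⟩, PSLib.ringKrullDim_eq K n⟩

open IsLocalRing in
/-- Existence part and the range of dimensions: let k ⊆ K be fields. There is a Noetherian local
k-algebra A, formally smooth over k for its adic topology, whose residue field is k-isomorphic to K,
if and only if Υ_{K/k} is a finite-dimensional K-vector space. When this holds, for every integer n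
≥ rank Υ_{K/k} there is such an A which is moreover complete and of dimension n. (The source's
uniqueness-up-to-isomorphism clause for a given dimension is not stated.) -/
theorem result {k K : Type u} [Field k] [Field K] [Algebra k K] :
    ((∃ (A : Type u) (_ : CommRing A) (_ : IsLocalRing A) (_ : IsNoetherianRing A) (_ : Algebra k A),
        CAlgX.IsAdicFormallySmooth k A (maximalIdeal A) ∧ Nonempty (ResidueField A ≃ₐ[k] K)) ↔
      Module.Finite K (EGA41.imperfection ℤ k K)) ∧
    (Module.Finite K (EGA41.imperfection ℤ k K) → ∀ n : ℕ, Module.finrank K (EGA41.imperfection ℤ k K) ≤ n →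
      ∃ (A : Type u) (_ : CommRing A) (_ : IsLocalRing A) (_ : IsNoetherianRing A) (_ : Algebra k A),
        IsAdicComplete (maximalIdeal A) A ∧ CAlgX.IsAdicFormallySmooth k A (maximalIdeal A) ∧
        Nonempty (ResidueField A ≃ₐ[k] K) ∧ ringKrullDim A = n) := by
  refine ⟨⟨?_, fun h => ?_⟩, fun h n hn => ?_⟩
  · rintro ⟨A, _, _, _, _, hfs, ⟨e⟩⟩
    exact finite_imperfection hfs e
  · obtain ⟨A, i₁, i₂, i₃, i₄, -, hfs, he, -⟩ := exists_powerSeries (k := k) (K := K) _ le_rfl
    exact ⟨A, i₁, i₂, i₃, i₄, hfs, he⟩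
  · exact exists_powerSeries n hn

end Groth.Agent.S2472
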