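import Groth.Statements.S2566
import Groth.Agent.FlatUnibr.Reduction

set_option autoImplicit false
set_option linter.style.haveILetI false
set_option backward.isDefEq.respectTransparency false
set_option backward.isDefEq.respectTransparency.types false
open CategoryTheory AlgebraicGeometry
universe u
open EGA43 TensorProduct

namespace Groth.Agent.S2566

open CategoryTheory.Limits in
/-- Let A be a local domain which is unibranch, A' a local ring and A ⟶ A' an injective local
homomorphism. Let f : X ⟶ Spec A be locally of finite presentation, x a point of X over the closed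
point, and X' = X ×_{Spec A} Spec A'. If X' ⟶ Spec A' is flat at every point of X' lying over x and
over the closed point of Spec A', then f is flat at x. -/
theorem result {A A' : Type u} [CommRing A] [IsDomain A] [IsLocalRing A]
    (hA : CAlg2.IsUnibranch A) [CommRing A'] [IsLocalRing A'] [Algebra A A'] [IsLocalHom (algebraMap A A')]
    (hinj : Function.Injective (algebraMap A A'))
    {X : Scheme.{u}} (f : X ⟶ Spec (CommRingCat.of A)) [LocallyOfFinitePresentation f] (x : X)
    (hx : f.base x = IsLocalRing.closedPoint A)
    (h : ∀ x' : ↥(pullback f (Spec.map (CommRingCat.ofHom (algebraMap A A')))),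
      (pullback.fst f _).base x' = x →
      (pullback.snd f (Spec.map (CommRingCat.ofHom (algebraMap A A')))).base x' = IsLocalRing.closedPoint A' →
      ((pullback.snd f (Spec.map (CommRingCat.ofHom (algebraMap A A')))).stalkMap x').hom.Flat) :
    (f.stalkMap x).hom.Flat := by
  obtain ⟨U, hU, hxU, -⟩ := exists_isAffineOpen_mem_and_subset (X := X) (x := x) (U := ⊤) trivial
  let j := hU.fromSpec
  let φ := Spec.preimage (j ≫ f)
  have hφ : Spec.map φ = j ≫ f := Spec.map_preimage _
  let B := Γ(X, U)
  letI : Algebra A B := φ.hom.toAlgebra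
  have hf : j ≫ f = Spec.map (CommRingCat.ofHom (algebraMap A B)) := hφ.symm
  haveI : LocallyOfFinitePresentation (Spec.map (CommRingCat.ofHom (algebraMap A B))) := by
    rw [← hf]; infer_instance
  haveI : Algebra.FinitePresentation A B := RingHom.finitePresentation_algebraMap.1
    ((HasRingHomProperty.Spec_iff (P := @LocallyOfFinitePresentation)).1
      (inferInstance : LocallyOfFinitePresentation (Spec.map (CommRingCat.ofHom (algebraMap A B)))))
  let P : PrimeSpectrum B := hU.primeIdealOf ⟨x, hxU⟩
  have hjP : j P = x := hU.fromSpec_primeIdealOf ⟨x, hxU⟩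
  have hPm : Spec.map (CommRingCat.ofHom (algebraMap A B)) P = IsLocalRing.closedPoint A := by
    rw [← hf, Scheme.Hom.comp_apply]; exact (congrArg f hjP).trans hx
  have key := FlatUnibr.flat_unibranch (A' := A') hA hinj P (congrArg PrimeSpectrum.asIdeal hPm) fun Q hQl hQr => by
    refine FlatUnibr.flat_of_chart j f hf Q fun w hw₁ hw₂ => h w ?_ ?_
    · have e : Spec.map (CommRingCat.ofHom (Algebra.TensorProduct.includeRight : B →ₐ[A] A' ⊗[A] B).toRingHom) Q = P :=
        PrimeSpectrum.ext hQr
      exact hw₁.trans ((congrArg j e).trans hjP)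
    · exact hw₂.trans (PrimeSpectrum.ext hQl)
  rw [FlatUnibr.flat_atPrime_iff] at key
  have h2 : ((j ≫ f).stalkMap P).hom.Flat := by rw [hf]; exact key
  rw [Scheme.Hom.stalkMap_comp] at h2
  have hgoal : (f.stalkMap (j P)).hom.Flat := (FlatLocus.flat_comp_isIso _ _).1 h2
  exact hjP ▸ hgoal

end Groth.Agent.S2566
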