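import Groth.Statements.S2569
import Groth.Agent.Compactify.HensNhd

set_option autoImplicit false
open CategoryTheory AlgebraicGeometry
universe u
open EGA43

attribute [-instance] CategoryTheory.catToReflQuiver
set_option backward.isDefEq.respectTransparency false
set_option backward.isDefEq.respectTransparency.types false

namespace Groth.Agent.S2569

/-- Let Y be locally Noetherian and f : X ⟶ Y separated, of finite type and universally submersive
(every base change is a topological quotient map onto its target), with all fibres geometrically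
connected. If the fibre over a point y is proper over the residue field of y, then f is proper over
some open neighbourhood of y. -/
theorem result {X Y : Scheme.{u}} [IsLocallyNoetherian Y] (f : X ⟶ Y)
    [IsSeparated f] [LocallyOfFiniteType f] [QuasiCompact f]
    (hsub : MorphismProperty.universally (topologically fun g => Topology.IsQuotientMap g) f)
    (hconn : ∀ y : Y, GeometricallyConnected (f.fiberToSpecResidueField y))
    (y : Y) (hy : IsProper (f.fiberToSpecResidueField y)) :
    ∃ U : Y.Opens, y ∈ U ∧ IsProper (f ∣_ U) := by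
  obtain ⟨R, _, V, φ, hV, hφ, hy0⟩ := Compactify.exists_henselian_nhd y
  haveI := hφ
  haveI : GeometricallyConnected f := (GeometricallyConnected.iff_geometricallyConnected_fiber f).2 hconn
  let a : Spec R ⟶ Y := φ ≫ V.ι
  have ha : a (IsLocalRing.closedPoint R) = y := (Scheme.Hom.comp_apply _ _ _).trans hy0
  haveI : IsProper (f.fiberToSpecResidueField (a (IsLocalRing.closedPoint R))) := by rw [ha]; exact hy
  let g := Limits.pullback.snd f a
  obtain ⟨T, t, ht, hr⟩ := Compactify.isProper_closedFibre f a
  haveI : IsProper (t ≫ g) := ht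
  obtain ⟨W, hWc, hWp, hW⟩ := Compactify.exists_clopen_proper (IsLocalRing.maximalIdeal R) g t ⊤
    (by rw [hr, TopologicalSpace.Opens.coe_top, Set.univ_inter]; rfl)
  have hq : Topology.IsQuotientMap g := hsub _ _ g (IsPullback.of_hasPullback f a).flip
  haveI : GeometricallyConnected g := inferInstance
  have hsat : g ⁻¹' (g '' (W : Set _)) = (W : Set _) := by
    refine Set.Subset.antisymm (fun x hx => ?_) (Set.subset_preimage_image _ _)
    obtain ⟨w, hw, hwx⟩ := hx
    exact (g.isConnected_preimage_singleton (g x)).isPreconnected.subset_isClopen ⟨hWc, W.2⟩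
      ⟨w, hwx, hw⟩ rfl
  have ho : IsOpen (g '' (W : Set _)) := hq.isOpen_preimage.1 (by rw [hsat]; exact W.2)
  have hz : IsLocalRing.closedPoint R ∈ g '' (W : Set _) := by
    obtain ⟨x, hx⟩ := g.surjective (IsLocalRing.closedPoint R)
    refine ⟨x, (hW.ge (hr.ge ?_)).1, hx⟩
    rw [Set.mem_preimage]
    show g x ∈ _
    rw [hx]
    exact (PrimeSpectrum.mem_zeroLocus _ _).2 (Set.Subset.refl _)
  have hWtop : W = ⊤ := by
    refine eq_top_iff.2 fun x _ => ?_
    have : g x ∈ g '' (W : Set _) := (IsLocalRing.specializes_closedPoint (g x)).mem_open ho hz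
    exact hsat.le this
  subst hWtop
  haveI : IsProper g := by
    have e : g = (Scheme.topIso _).inv ≫ ((⊤ : Scheme.Opens _).ι ≫ g) := by
      rw [← Category.assoc, show (Scheme.topIso _).inv ≫ Scheme.Opens.ι _ = 𝟙 _ from (Scheme.topIso _).inv_hom_id, Category.id_comp]
    rw [e]
    infer_instance
  obtain ⟨U, hU, hUp⟩ := Compactify.exists_nhd_isProper f hV φ (φ (IsLocalRing.closedPoint R)) ⟨_, rfl⟩
  exact ⟨U, hy0 ▸ hU, hUp⟩

end Groth.Agent.S2569
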