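import Groth.Statements.S2571
import Groth.Agent.FinSection.Main
import Groth.Agent.S0021

set_option autoImplicit false
open CategoryTheory AlgebraicGeometry
universe u
open EGA43

namespace Groth.Agent.S2571

open Limits in
theorem isAffineHom_of_factor {X Y Y' W T : Scheme.{u}} {f : X ⟶ Y} {g : Y' ⟶ Y}
    [IsAffineHom (pullback.snd f g)] {a : W ⟶ X} {b : W ⟶ T} {t : T ⟶ Y'}
    (sq : IsPullback a b f (t ≫ g)) : IsAffineHom b := by
  have h : b = sq.isoPullback.hom ≫ (pullbackLeftPullbackSndIso f g t).inv ≫ pullback.snd (pullback.snd f g) t := by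
    rw [pullbackLeftPullbackSndIso_inv_snd_snd]
    exact sq.isoPullback_hom_snd.symm
  rw [h]
  haveI : IsAffineHom (pullback.snd (pullback.snd f g) t) := MorphismProperty.pullback_snd _ _ ‹_›
  infer_instance

open Limits in
theorem affine_base {X Y Y' : Scheme.{u}} [IsNoetherian Y] [IsAffine Y]
    (f : X ⟶ Y) [LocallyOfFiniteType f] (g : Y' ⟶ Y) [LocallyOfFiniteType g] [UniversallyOpen g] [Surjective g]
    [IsAffineHom (pullback.snd f g)] : IsAffine X := by
  obtain ⟨Y'', π, hfin, hsurj, hsec⟩ := FinSection.exists_cover g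
  choose U hU t ht using hsec
  haveI : IsAffineHom (pullback.snd f π) := by
    refine IsZariskiLocalAtTarget.of_iSup_eq_top U (top_le_iff.1 fun y _ => TopologicalSpace.Opens.mem_iSup.2 ⟨y, hU y⟩) fun y => ?_
    have sq := (isPullback_morphismRestrict (pullback.snd f π) (U y)).flip.paste_horiz
      (IsPullback.of_hasPullback f π)
    rw [← ht y] at sq
    exact isAffineHom_of_factor sq
  haveI : IsAffine Y'' := isAffine_of_isAffineHom π
  haveI : IsAffine (pullback f π) := isAffine_of_isAffineHom (pullback.snd f π)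
  haveI : IsFinite (pullback.fst f π) := MorphismProperty.pullback_fst _ _ hfin
  haveI : Surjective (pullback.fst f π) := MorphismProperty.pullback_fst _ _ hsurj
  haveI : CompactSpace X := (pullback.fst f π).surjective.compactSpace (pullback.fst f π).continuous
  haveI : IsLocallyNoetherian X := LocallyOfFiniteType.isLocallyNoetherian f
  haveI : IsNoetherian X := {}
  exact S0021.result (pullback.fst f π)


open CategoryTheory.Limits in
/-- Let Y be locally Noetherian, f : X ⟶ Y locally of finite type, and g : Y' ⟶ Y locally of finite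
type, universally open and surjective. If the base change X ×_Y Y' ⟶ Y' is an affine morphism, then
f is affine. -/
theorem result {X Y Y' : Scheme.{u}} [IsLocallyNoetherian Y]
    (f : X ⟶ Y) [LocallyOfFiniteType f] (g : Y' ⟶ Y) [LocallyOfFiniteType g] [UniversallyOpen g] [Surjective g]
    [IsAffineHom (pullback.snd f g)] : IsAffineHom f := by
  
  refine IsZariskiLocalAtTarget.of_iSup_eq_top (fun V : Y.affineOpens => (V : Y.Opens))
    (iSup_affineOpens_eq_top Y) fun V => ?_
  haveI : IsAffine (V.1 : Scheme.{u}) := V.2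
  haveI : IsNoetherian (V.1 : Scheme.{u}) := {}
  haveI : LocallyOfFiniteType (f ∣_ V.1) := IsZariskiLocalAtTarget.restrict ‹_› _
  haveI : LocallyOfFiniteType (g ∣_ V.1) := IsZariskiLocalAtTarget.restrict ‹_› _
  haveI : UniversallyOpen (g ∣_ V.1) := IsZariskiLocalAtTarget.restrict ‹_› _
  haveI : Surjective (g ∣_ V.1) := IsZariskiLocalAtTarget.restrict ‹_› _
  haveI : IsAffineHom (pullback.snd (f ∣_ V.1) (g ∣_ V.1)) := by
    have sq := (IsPullback.of_hasPullback (f ∣_ V.1) (g ∣_ V.1)).paste_horiz
      (isPullback_morphismRestrict f V.1).flip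
    rw [morphismRestrict_ι] at sq
    exact isAffineHom_of_factor sq
  haveI := affine_base (f ∣_ V.1) (g ∣_ V.1)
  infer_instance

end Groth.Agent.S2571
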