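import Groth.Statements.S2586
import Groth.Agent.FibFlatMod.Regular

set_option linter.style.haveILetI false
set_option backward.isDefEq.respectTransparency false
set_option backward.isDefEq.respectTransparency.types false

set_option autoImplicit false
open TensorProduct
universe u
open EGA43

namespace Groth.Agent.S2586

/-- Let A ⟶ B be a ring map with B finitely presented over A, M a finitely presented B-module, q a prime
of B with contraction p, and g₁, …, gₙ elements of q. Suppose the localization M_q is flat over A
and the gᵢ form a regular sequence on the localization at q of the fibre module M ⊗_A κ(p). Then the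
gᵢ form a regular sequence on M_q, and for every i the localization at q of M/(g₁, …, gᵢ)M is flat
over A. -/
theorem result {A B : Type u} [CommRing A] [CommRing B] [Algebra A B]
    [Algebra.FinitePresentation A B] (M : Type u) [AddCommGroup M] [Module B M] [Module A M] [IsScalarTower A B M]
    [Module.FinitePresentation B M] (q : Ideal B) [q.IsPrime] (g : List B) (hg : ∀ b ∈ g, b ∈ q)
    (hflat : Module.Flat A (LocalizedModule q.primeCompl M))
    (hreg : RingTheory.Sequence.IsRegular
      (LocalizedModule q.primeCompl (M ⊗[A] (q.comap (algebraMap A B)).ResidueField)) g) :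
    RingTheory.Sequence.IsRegular (LocalizedModule q.primeCompl M) g ∧
      ∀ i ≤ g.length, Module.Flat A
        (LocalizedModule q.primeCompl (M ⧸ (Ideal.span {b | b ∈ g.take i} • (⊤ : Submodule B M)))) := by
  classical
  let p : Ideal A := q.comap (algebraMap A B)
  let R := Localization.AtPrime p
  let S := Localization.AtPrime q
  let N := LocalizedModule q.primeCompl M
  let T := LocalizedModule q.primeCompl (M ⊗[A] p.ResidueField)
  letI : Algebra R S := (Localization.localRingHom p q (algebraMap A B) rfl).toAlgebra
  haveI : IsScalarTower A R S := .of_algebraMap_eq fun a => by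
    show _ = Localization.localRingHom p q (algebraMap A B) rfl (algebraMap A R a)
    rw [Localization.localRingHom_to_map, ← IsScalarTower.algebraMap_apply A B S]
  haveI : IsLocalHom (algebraMap R S) := by
    show IsLocalHom (Localization.localRingHom p q (algebraMap A B) rfl)
    infer_instance
  have hS : CAlgX.IsEssFinitePresentation R S :=
    Groth.Agent.FibFlatMod.isEssFP_localization (A := A) (B := B) p.primeCompl q.primeCompl
      (by rintro _ ⟨a, ha, rfl⟩; exact ha)
  letI : Module R N := Module.compHom N (algebraMap R S)
  haveI : IsScalarTower R S N := .of_algebraMap_smul fun _ _ => rfl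
  haveI : IsScalarTower A S N := IsScalarTower.to₁₃₄ A B S N
  haveI : IsScalarTower A R N := .of_algebraMap_smul fun a x => by
    show algebraMap R S (algebraMap A R a) • x = a • x
    rw [← IsScalarTower.algebraMap_apply A R S, algebraMap_smul]
  haveI : Module.FinitePresentation S N := inferInstance
  haveI : Module.Flat R N := (Module.flat_iff_of_isLocalization R p.primeCompl N).2 hflat
  let mN : Submodule S N := (IsLocalRing.maximalIdeal R).map (algebraMap R S) • ⊤
  let Q := N ⧸ mN
  have htor : Module.IsTorsionBySet R Q (IsLocalRing.maximalIdeal R) := by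
    intro x r
    obtain ⟨y, rfl⟩ := mN.mkQ_surjective x
    show (r : R) • mN.mkQ y = 0
    rw [← algebraMap_smul S (r : R) (mN.mkQ y), ← map_smul]
    exact (Submodule.Quotient.mk_eq_zero _).2
      (Submodule.smul_mem_smul (Ideal.mem_map_of_mem _ r.2) trivial)
  letI : Module p.ResidueField Q := Module.IsTorsionBySet.module htor
  haveI : IsScalarTower A p.ResidueField Q := htor.isScalarTower
  let j : M →ₗ[A] Q := (mN.mkQ.restrictScalars A) ∘ₗ ((LocalizedModule.mkLinearMap q.primeCompl M).restrictScalars A)
  let φ : M ⊗[A] p.ResidueField →ₗ[A] Q := TensorProduct.lift (LinearMap.mk₂ A (fun m c => c • j m)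
    (fun m m' c => by rw [map_add, smul_add]) (fun a m c => by rw [map_smul, smul_comm])
    (fun m c c' => by rw [add_smul]) (fun a m c => by rw [smul_assoc]))
  let ι : M →ₗ[B] M ⊗[A] p.ResidueField :=
    { toFun := fun m => m ⊗ₜ 1
      map_add' := fun m m' => TensorProduct.add_tmul m m' 1
      map_smul' := fun b m => (TensorProduct.smul_tmul' b m 1).symm }
  let ιq : N →ₗ[S] T := LocalizedModule.map q.primeCompl ι
  have hmap : ∀ m s, ιq (LocalizedModule.mk m s) = LocalizedModule.mk (ι m) s := fun m s =>
    LocalizedModule.map_mk q.primeCompl ι m s
  have hsurj : Function.Surjective ιq := by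
    have h1 : ∀ z : M ⊗[A] p.ResidueField, LocalizedModule.mk z 1 ∈ LinearMap.range ιq := by
      intro z
      induction z using TensorProduct.induction_on with
      | zero => rw [LocalizedModule.zero_mk]; exact zero_mem _
      | tmul m c =>
        obtain ⟨r, rfl⟩ := IsLocalRing.residue_surjective c
        obtain ⟨a, s, rfl⟩ := IsLocalization.exists_mk'_eq p.primeCompl r
        let s' : q.primeCompl := ⟨algebraMap A B s, s.2⟩
        refine ⟨LocalizedModule.mk (a • m) s', ?_⟩
        rw [hmap, LocalizedModule.mk_eq]
        refine ⟨1, ?_⟩
        simp only [one_smul]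
        show (a • m) ⊗ₜ[A] (1 : p.ResidueField) = algebraMap A B (s : A) • (m ⊗ₜ[A] _)
        rw [algebraMap_smul, TensorProduct.smul_tmul, ← TensorProduct.tmul_smul]
        congr 1
        rw [← algebraMap_smul R a, ← algebraMap_smul R (s : A), Algebra.smul_def, Algebra.smul_def,
          mul_one, IsLocalRing.ResidueField.algebraMap_eq, ← map_mul, IsLocalization.mk'_spec']
      | add x y hx hy => simpa [LocalizedModule.mk_add_mk] using add_mem hx hy
    intro x
    induction x using LocalizedModule.induction_on with
    | h z s =>
      obtain ⟨y, hy⟩ := h1 z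
      exact ⟨Localization.mk 1 s • y, by
        rw [map_smul, hy, LocalizedModule.mk_smul_mk, one_smul, mul_one]⟩
  have hker : LinearMap.ker ιq = mN := by
    apply le_antisymm
    · intro x hx
      induction x using LocalizedModule.induction_on with
      | h m s =>
        rw [LinearMap.mem_ker, hmap, ← LocalizedModule.zero_mk s, LocalizedModule.mk_eq] at hx
        obtain ⟨v, hv⟩ := hx
        have h2 : ι (((v * s : q.primeCompl) : B) • m) = 0 := by
          rw [map_smul, Submonoid.coe_mul, mul_smul]
          simpa [Submonoid.smul_def] using hv
        have h3 := congrArg φ h2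
        rw [map_zero] at h3
        change (1 : p.ResidueField) • j _ = 0 at h3
        rw [one_smul] at h3
        change mN.mkQ (LocalizedModule.mk (((v * s : q.primeCompl) : B) • m) 1) = 0 at h3
        have h4 := mN.smul_mem (Localization.mk 1 (v * s * s)) ((Submodule.Quotient.mk_eq_zero _).1 h3)
        rw [LocalizedModule.mk_smul_mk, one_smul, mul_one] at h4
        convert h4 using 1
        rw [LocalizedModule.mk_eq]
        exact ⟨1, by simp only [one_smul, Submonoid.smul_def, Submonoid.coe_mul, ← mul_smul]; ring_nf⟩
    · show (IsLocalRing.maximalIdeal R).map (algebraMap R S) • ⊤ ≤ LinearMap.ker ιq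
      rw [← IsLocalization.AtPrime.map_eq_maximalIdeal p R, Ideal.map_map, Submodule.smul_le]
      intro c hc n _
      rw [LinearMap.mem_ker, map_smul]
      induction hc using Submodule.span_induction with
      | mem c hc =>
        obtain ⟨a, ha, rfl⟩ := hc
        show algebraMap R S (algebraMap A R a) • _ = (0 : T)
        rw [← IsScalarTower.algebraMap_apply A R S, IsScalarTower.algebraMap_apply A B S, algebraMap_smul]
        have h5 : ∀ z : M ⊗[A] p.ResidueField, algebraMap A B a • z = 0 := by
          intro z
          induction z using TensorProduct.induction_on with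
          | zero => exact smul_zero _
          | tmul m k =>
            rw [algebraMap_smul, ← TensorProduct.tmul_smul, Algebra.smul_def,
              IsScalarTower.algebraMap_apply A R p.ResidueField, IsLocalRing.ResidueField.algebraMap_eq,
              (IsLocalRing.residue_eq_zero_iff _).2, zero_mul, TensorProduct.tmul_zero]
            exact (IsLocalization.AtPrime.to_map_mem_maximal_iff R p a).2 ha
          | add x y hx hy => rw [smul_add, hx, hy, add_zero]
        generalize ιq n = t
        induction t using LocalizedModule.induction_on with
        | h z s => rw [LocalizedModule.smul'_mk, h5, LocalizedModule.zero_mk]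
      | zero => exact zero_smul _ _
      | add c d _ _ hc hd => rw [add_smul, hc, hd, add_zero]
      | smul d c _ hc => rw [smul_eq_mul, mul_smul, hc, smul_zero]
  let e : Q ≃ₗ[S] T := Submodule.quotEquivOfEq _ _ hker.symm ≪≫ₗ ιq.quotKerEquivOfSurjective hsurj
  obtain ⟨h1, h2⟩ := Groth.Agent.FibFlatMod.regular_of_fibre (R := R) hS (g.map (algebraMap B S)) N
    ((e.isWeaklyRegular_congr _).2
      ((RingTheory.Sequence.isWeaklyRegular_map_algebraMap_iff S T g).2 hreg.toIsWeaklyRegular))
  refine ⟨⟨(RingTheory.Sequence.isWeaklyRegular_map_algebraMap_iff S N g).1 h1, fun htop => hreg.top_ne_smul ?_⟩,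
    fun i _ => ?_⟩
  · have h := congrArg (Submodule.map (ιq.restrictScalars B)) htop
    rw [Submodule.map_smul'', Submodule.map_top,
      LinearMap.range_eq_top.2 (show Function.Surjective (ιq.restrictScalars B) from hsurj)] at h
    exact h
  · haveI := h2 i
    haveI hRflat := IsLocalization.flat R p.primeCompl
    let J : Ideal B := Ideal.span {b | b ∈ g.take i}
    have hJ : (J • (⊤ : Submodule B M)).localized q.primeCompl =
        Ideal.ofList ((g.map (algebraMap B S)).take i) • (⊤ : Submodule S N) := by
      show (J • (⊤ : Submodule B M)).localized' S q.primeCompl (LocalizedModule.mkLinearMap q.primeCompl M) = _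
      rw [Submodule.localized'_smul, Submodule.localized'_top, Ideal.localized'_eq_map, ← List.map_take,
        ← Ideal.map_ofList]
    haveI : Module.Flat A (N ⧸ Ideal.ofList ((g.map (algebraMap B S)).take i) • (⊤ : Submodule S N)) :=
      Module.Flat.trans A R _
    exact Module.Flat.of_linearEquiv
      (((Submodule.quotEquivOfEq _ _ hJ).symm ≪≫ₗ localizedQuotientEquiv q.primeCompl _).restrictScalars A).symm

end Groth.Agent.S2586
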