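import Groth.Statements.S2591
import Groth.Agent.FlatSyz5.GenFreeNil
import Groth.Agent.ProConsLib.Basic
-- import your own Groth.Agent.* helpers here

set_option autoImplicit false
open TensorProduct
universe u
open EGA43

namespace Groth.Agent.S2591

open ProConsLib Topology in
/-- Finitely many pieces `V(P) ∩ D(f)` with free module cover the base. -/
theorem exists_finite_pieces {A B : Type u} [CommRing A] [CommRing B] [Algebra A B]
    [Algebra.FinitePresentation A B] (M : Type u) [AddCommGroup M] [Module B M] [Module A M]
    [IsScalarTower A B M] [Module.FinitePresentation B M] :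
    ∃ T : Finset A, ∀ (A' : Type u) [CommRing A'] [Algebra A A'],
      (∀ t ∈ T, IsUnit (algebraMap A A' t) ∨ algebraMap A A' t = 0) → Module.Free A' (A' ⊗[A] M) := by
  classical
  have hq : ∀ q : PrimeSpectrum A, ∃ (G : Finset A) (f : A), (G : Set A) ⊆ q.asIdeal ∧ f ∉ q.asIdeal ∧
      ∀ (A' : Type u) [CommRing A'] [Algebra A A'], (∀ x ∈ G, algebraMap A A' x = 0) →
        IsUnit (algebraMap A A' f) → Module.Free A' (A' ⊗[A] M) := by
    intro q
    obtain ⟨P, f, hP, hPq, hf, h⟩ := FlatSyz5.exists_free_piece (R := A) (S := B) M q.asIdeal q.isPrime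
    obtain ⟨G, rfl⟩ := hP
    refine ⟨G, f, fun x hx => hPq (Submodule.subset_span hx), hf, fun A' _ _ h0 hu => h A' (fun x hx => ?_) hu⟩
    exact (Submodule.span_le (p := RingHom.ker (algebraMap A A'))).2 h0 hx
  choose G f hG hf hfree using hq
  let E : PrimeSpectrum A → Set (PrimeSpectrum A) := fun q =>
    PrimeSpectrum.zeroLocus (G q : Set A) ∩ (PrimeSpectrum.basicOpen (f q) : Set (PrimeSpectrum A))
  have hcons : ∀ q, Topology.IsConstructible (E q) := fun q => by
    refine Topology.IsConstructible.inter ?_ ?_
    · rw [← Topology.isConstructible_compl]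
      exact ((PrimeSpectrum.isCompact_isOpen_iff.mpr ⟨G q, rfl⟩).1.isRetrocompact
        (PrimeSpectrum.isClosed_zeroLocus _).isOpen_compl).isConstructible
          (PrimeSpectrum.isClosed_zeroLocus _).isOpen_compl
    · exact ((PrimeSpectrum.isCompact_basicOpen (f q)).isRetrocompact
        (PrimeSpectrum.basicOpen (f q)).isOpen).isConstructible (PrimeSpectrum.basicOpen (f q)).isOpen
  have hopen : ∀ q, IsOpen[constructibleTopology (PrimeSpectrum A)] (E q) := fun q => by
    have := @IsClosed.isOpen_compl (PrimeSpectrum A) (constructibleTopology _) _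
      (consClosed_of_isConstructible (hcons q).compl)
    rwa [compl_compl] at this
  obtain ⟨s, hs⟩ := @IsCompact.elim_finite_subcover (PrimeSpectrum A) (constructibleTopology _) _ _
    (@isCompact_univ (PrimeSpectrum A) (constructibleTopology _) compactSpace_cons) E hopen
    fun q _ => Set.mem_iUnion.2 ⟨q, PrimeSpectrum.mem_zeroLocus _ _ |>.2 (hG q), hf q⟩
  refine ⟨s.biUnion fun q => insert (f q) (G q), fun A' _ _ hT => ?_⟩
  cases subsingleton_or_nontrivial A'
  · have := Module.subsingleton A' (A' ⊗[A] M)
    exact Module.Free.of_subsingleton A' _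
  · obtain ⟨m, hm⟩ := Ideal.exists_maximal A'
    obtain ⟨q, hqs, hqG, hqf⟩ := Set.mem_iUnion₂.1 (hs (Set.mem_univ (PrimeSpectrum.comap (algebraMap A A') ⟨m, hm.isPrime⟩)))
    have hmem : ∀ t ∈ insert (f q) (G q), IsUnit (algebraMap A A' t) ∨ algebraMap A A' t = 0 := fun t ht =>
      hT t (Finset.mem_biUnion.2 ⟨q, hqs, ht⟩)
    refine hfree q A' (fun x hx => (hmem x (Finset.mem_insert_of_mem hx)).resolve_left fun hu => ?_) ?_
    · exact hm.ne_top (Ideal.eq_top_of_isUnit_mem _ (hqG hx) hu)
    · refine (hmem (f q) (Finset.mem_insert_self _ _)).resolve_right fun h0 => hqf ?_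
      show algebraMap A A' (f q) ∈ m
      rw [h0]
      exact m.zero_mem

/-- Let A be a commutative ring, B a finitely presented A-algebra and M a finitely presented B-module
which is flat over A. Then there are finitely many elements f₁, …, fₙ of A generating the unit ideal
such that, for each i < n, writing A' for the localization of A at f_{i+1} modulo the ideal
generated by f₁, …, fᵢ, the module A' ⊗_A M is free over A'. -/
theorem result {A B : Type u} [CommRing A] [CommRing B] [Algebra A B]
    [Algebra.FinitePresentation A B] (M : Type u) [AddCommGroup M] [Module B M] [Module A M] [IsScalarTower A B M]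
    [Module.FinitePresentation B M] [Module.Flat A M] :
    ∃ l : List A, Ideal.span {a | a ∈ l} = ⊤ ∧
      ∀ (i : ℕ) (hi : i < l.length),
        letI J : Ideal (Localization.Away l[i]) :=
          (Ideal.span {a | a ∈ l.take i}).map (algebraMap A (Localization.Away l[i]))
        Module.Free (Localization.Away l[i] ⧸ J) ((Localization.Away l[i] ⧸ J) ⊗[A] M) := by
  classical
  obtain ⟨T, hT⟩ := exists_finite_pieces (A := A) (B := B) M
  let L : List (Finset A) := T.powerset.toList.mergeSort fun a b => decide (b.card ≤ a.card)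
  have hmemL : ∀ S, S ∈ L ↔ S ⊆ T := fun S => by simp [L]
  have hpair : L.Pairwise fun a b => b.card ≤ a.card :=
    (List.pairwise_mergeSort (fun a b c => by simpa using fun h1 h2 => le_trans h2 h1)
      (fun a b => by simpa using le_total _ _) _).imp (by simp)
  refine ⟨L.map fun S => ∏ t ∈ S, t, ?_, fun i hi => ?_⟩
  · exact (Ideal.eq_top_iff_one _).2 (Ideal.subset_span
      (List.mem_map.2 ⟨∅, (hmemL _).2 (Finset.empty_subset _), Finset.prod_empty⟩))
  · set l := L.map fun S => ∏ t ∈ S, t with hl
    let J : Ideal (Localization.Away l[i]) :=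
      (Ideal.span {a | a ∈ l.take i}).map (algebraMap A (Localization.Away l[i]))
    have hiL : i < L.length := by simpa [hl] using hi
    have hli : l[i] = ∏ t ∈ L[i], t := by simp [hl]
    have hfac : algebraMap A (Localization.Away l[i] ⧸ J) =
        (Ideal.Quotient.mk J).comp (algebraMap A (Localization.Away l[i])) := rfl
    have hu : IsUnit (algebraMap A (Localization.Away l[i] ⧸ J) (∏ t ∈ L[i], t)) := by
      rw [← hli, hfac]
      exact (IsLocalization.Away.algebraMap_isUnit (S := Localization.Away l[i]) l[i]).map (Ideal.Quotient.mk J)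
    have hzero : ∀ x ∈ l.take i, algebraMap A (Localization.Away l[i] ⧸ J) x = 0 := fun x hx => by
      rw [hfac]
      exact Ideal.Quotient.eq_zero_iff_mem.2 (Ideal.mem_map_of_mem _ (Ideal.subset_span hx))
    refine hT _ fun t ht => ?_
    by_cases htS : t ∈ L[i]
    · exact Or.inl (isUnit_of_dvd_unit (map_dvd _ (Finset.dvd_prod_of_mem _ htS)) hu)
    · obtain ⟨j, hj, hjeq⟩ := List.getElem_of_mem
        ((hmemL (insert t L[i])).2 (Finset.insert_subset ht ((hmemL _).1 (List.getElem_mem _))))
      have hcard : (L[i]).card < (L[j]).card := by rw [hjeq, Finset.card_insert_of_notMem htS]; omega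
      have hji : j < i := by
        rcases lt_trichotomy j i with h | h | h
        · exact h
        · subst h; omega
        · exact absurd (List.pairwise_iff_getElem.1 hpair i j hiL hj h) (by omega)
      have h0 := hzero (∏ x ∈ L[j], x) (List.mem_take_iff_getElem.2 ⟨j, by simp [hl]; omega, by simp [hl]⟩)
      rw [hjeq, Finset.prod_insert htS, map_mul] at h0
      exact Or.inr (hu.mul_left_eq_zero.1 h0)

end Groth.Agent.S2591
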