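import Groth.Statements.S2595
import Groth.Agent.CMRelDim.Basic
import Groth.Agent.CMOpen5.Open
import Groth.Agent.DimFormula.Equidim
-- import your own Groth.Agent.* helpers here

set_option autoImplicit false
open CategoryTheory AlgebraicGeometry
universe u
open EGA43

namespace Groth.Agent.S2595

/-- Let Y be locally Noetherian, f : X ⟶ Y locally of finite type and x a point of X. If O_{Y,f x} ⟶
O_{X,x} is flat and the local ring at x of the fibre through x is Cohen–Macaulay, then f is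
equidimensional at x. -/
theorem result {X Y : Scheme.{u}} [IsLocallyNoetherian Y] (f : X ⟶ Y)
    [LocallyOfFiniteType f] (x : X) (hflat : (f.stalkMap x).hom.Flat)
    (hCM : LocCoh.IsCohenMacaulayLocalRing ((f.fiber (f.base x)).presheaf.stalk (f.asFiber x))) :
    EGA43.IsEquidimAt f x := by
  haveI : LocallyOfFinitePresentation f := LocallyOfFinitePresentation.iff_locallyOfFiniteType.2 ‹_›
  let U : X.Opens := ⟨_, FlatLocus.isOpen_flat_locus f⟩
  have hxU : x ∈ U := hflat
  let g := U.ι ≫ f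
  haveI : Flat g := Flat.iff_flat_stalkMap g |>.2 fun u => by
    rw [Scheme.Hom.stalkMap_comp]
    exact RingHom.Flat.comp u.2 (RingHom.Flat.of_bijective (ConcreteCategory.bijective_of_isIso (U.ι.stalkMap u)))
  have hcm : MoreMor.IsCMAt g ⟨x, hxU⟩ := (CMOpen5.isCMAt_openImmersion_comp U.ι f ⟨x, hxU⟩).2 ⟨hflat, hCM⟩
  obtain ⟨V, hxV, hV⟩ := CMRelDim.exists_nhd_fibreDimAt_eq g ⟨x, hxU⟩ hcm.2
  refine DimFormula.isEquidimAt_of f fun η hη hmax => ?_
  obtain ⟨e, he⟩ : η ∈ Set.range U.ι := by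
    rw [Scheme.Opens.range_ι]; exact hη.mem_open U.isOpen hxU
  subst he
  have hη' : e ⤳ (⟨x, hxU⟩ : (U : Scheme.{u})) := U.ι.isOpenEmbedding.isInducing.specializes_iff.1 hη
  refine ⟨fun y hy => ?_, ?_⟩
  · obtain ⟨z, hz, hzy⟩ := (Flat.generalizingMap g) (show y ⤳ g e by rwa [Scheme.Hom.comp_apply])
    rw [← hzy, Scheme.Hom.comp_apply, hmax _ (hz.map U.ι.continuous)]
  · have h := hV e (hη'.mem_open V.isOpen hxV)
    replace h : FlatMor.fibreDimAt f (U.ι e) = FlatMor.fibreDimAt f x :=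
      (FibDim.fibreDimAt_openImmersion_comp U.ι f e).symm.trans
        (h.trans (FibDim.fibreDimAt_openImmersion_comp U.ι f ⟨x, hxU⟩))
    rw [DimFormula.fibreDimAt_eq_add, DimFormula.fibreDimAt_eq_add,
      (DimFormula.fb_eq_zero_iff f (U.ι e)).2 (FibDim.fibMax_of_maximal f hmax), add_zero] at h
    exact_mod_cast h

end Groth.Agent.S2595
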