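import Groth.Statements.S2596
import Groth.Agent.ValLib.DvrRat

set_option autoImplicit false
set_option backward.isDefEq.respectTransparency false
set_option backward.isDefEq.respectTransparency.types false
open CategoryTheory AlgebraicGeometry
universe u
open EGA43

namespace Groth.Agent.S2596

open CategoryTheory.Limits in
/-- Let Y be locally Noetherian, f : X ⟶ Y separated and of finite type, and y a point of Y. Suppose
that for every discrete valuation ring A with fraction field K and every morphism g : Spec A ⟶ Y
sending the closed point to y, every K-point σ of X ×_Y Spec A lying over the generic point Spec K ⟶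
Spec A extends to a section of X ×_Y Spec A ⟶ Spec A. Then f is proper over some open neighbourhood
of y. -/
theorem result {X Y : Scheme.{u}} [IsLocallyNoetherian Y]
    (f : X ⟶ Y) [IsSeparated f] [LocallyOfFiniteType f] [QuasiCompact f] (y : Y)
    (h : ∀ (A : Type u) [CommRing A] [IsDomain A] [IsDiscreteValuationRing A]
      (g : Spec (CommRingCat.of A) ⟶ Y), g.base (IsLocalRing.closedPoint A) = y →
      ∀ σ : Spec (CommRingCat.of (FractionRing A)) ⟶ pullback f g,
        σ ≫ pullback.snd f g = Spec.map (CommRingCat.ofHom (algebraMap A (FractionRing A))) →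
        ∃ s : Spec (CommRingCat.of A) ⟶ pullback f g, s ≫ pullback.snd f g = 𝟙 _ ∧
          Spec.map (CommRingCat.ofHom (algebraMap A (FractionRing A))) ≫ s = σ) :
    ∃ U : Y.Opens, y ∈ U ∧ IsProper (f ∣_ U) := by
  obtain ⟨U, hyU, hP⟩ := ValLib.exists_isProperOver_of_extAt f Set.univ isClosed_univ y (by
    intro ξ _ _ R _ _ _ g hg σ _ hσ
    obtain ⟨s, hs₁, hs₂⟩ := h R g hg (pullback.lift σ _ hσ) (pullback.lift_snd _ _ _)
    refine ⟨s ≫ pullback.fst f g, ?_, ?_⟩
    · rw [Category.assoc, pullback.condition, reassoc_of% hs₁]
    · rw [← Category.assoc]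
      exact (congrArg (· ≫ pullback.fst f g) hs₂).trans (pullback.lift_fst _ _ _))
  refine ⟨U, hyU, ?_⟩
  haveI : LocallyOfFiniteType (f ∣_ U) :=
    IsZariskiLocalAtTarget.restrict (P := @LocallyOfFiniteType) inferInstance U
  simpa using QCoh.isProper_comp_of_isProperOver (f := f ∣_ U) (𝟙 _) hP (by simp)

end Groth.Agent.S2596
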