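import Groth.Statements.S4568
import Groth.Agent.S12124
import Mathlib.RingTheory.Localization.Integral

set_option autoImplicit false
universe u
open CAlg

namespace Groth.Agent.S4568

open Groth.Agent.UnibConn in
/-- The statement at a maximal ideal. -/
theorem exists_mul_integral {A : Type u} [CommRing A] [IsDomain A] [IsNoetherianRing A]
    (h : ∀ C : Subalgebra A (FractionRing A), C ≤ integralClosure A (FractionRing A) → Module.Finite A C →
      ∀ (q : Ideal C) [q.IsPrime], q.height = 1 → (q.comap (algebraMap A C)).height = 1)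
    (x : FractionRing A)
    (hx : ∀ p : PrimeSpectrum A, p.asIdeal.height = 1 →
      ∃ s : A, s ∉ p.asIdeal ∧ IsIntegral A (algebraMap A (FractionRing A) s * x))
    (m : Ideal A) [m.IsPrime] :
    ∃ s : A, s ∉ m ∧ IsIntegral A (algebraMap A (FractionRing A) s * x) := by
  classical
  let K := FractionRing A
  let L := Localization.AtPrime m
  haveI : IsDomain L := IsLocalization.isDomain_localization m.primeCompl_le_nonZeroDivisors
  haveI : IsNoetherianRing L := IsLocalization.isNoetherianRing m.primeCompl _ ‹_›
  letI := algAtPrime A K m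
  haveI : IsScalarTower A L K := IsScalarTower.of_algebraMap_eq' (IsLocalization.lift_comp _).symm
  haveI := isFractionRing_atPrime A K m
  obtain ⟨C, hfin, hle, hsep⟩ := exists_separating L K
  haveI := hfin
  -- clear the denominators of a finite set of generators
  obtain ⟨G, hG⟩ := Module.Finite.fg_top (R := L) (M := C)
  have hcl : ∀ g : C, ∃ s : m.primeCompl, IsIntegral A (s • (g : K)) := fun g =>
    IsIntegral.exists_multiple_integral_of_isLocalization m.primeCompl (g : K) (hle g.2)
  choose sc hsc using hcl
  let G₀ : Set K := (fun g => sc g • (g : K)) '' (G : Set C)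
  let C₀ := Algebra.adjoin A G₀
  have hle₀ : C₀ ≤ integralClosure A K := Algebra.adjoin_le (by rintro _ ⟨g, _, rfl⟩; exact hsc g)
  have hfin₀ : Module.Finite A C₀ := Module.Finite.of_fg
    (fg_adjoin_of_finite (G.finite_toSet.image _) (by rintro _ ⟨g, _, rfl⟩; exact hsc g))
  have hinc : C₀ ≤ C.restrictScalars A := Algebra.adjoin_le (by
    rintro _ ⟨g, _, rfl⟩
    show sc g • (g : K) ∈ C
    rw [Submonoid.smul_def, Algebra.smul_def, IsScalarTower.algebraMap_apply A L K]
    exact C.mul_mem (C.algebraMap_mem _) g.2)
  letI : Algebra C₀ C := (Subalgebra.inclusion hinc : C₀ →ₐ[A] C.restrictScalars A).toRingHom.toAlgebra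
  have hval : ∀ c : C₀, ((algebraMap C₀ C c : C) : K) = (c : K) := fun c => rfl
  have hclear : ∀ k ∈ C, ∃ s : m.primeCompl, s • k ∈ C₀ := by
    intro k hk
    have hk' : (⟨k, hk⟩ : C) ∈ Submodule.span L (G : Set C) := by rw [hG]; trivial
    suffices ∀ c ∈ Submodule.span L (G : Set C), ∃ s : m.primeCompl, s • (c : K) ∈ C₀ from this _ hk'
    intro c hc
    refine Submodule.span_induction ?_ ⟨1, ?_⟩ ?_ ?_ hc
    · exact fun g hg => ⟨sc g, Algebra.subset_adjoin ⟨g, hg, rfl⟩⟩
    · rw [one_smul, ZeroMemClass.coe_zero]; exact C₀.zero_mem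
    · rintro a b _ _ ⟨s, hs⟩ ⟨t, ht⟩
      refine ⟨s * t, ?_⟩
      rw [AddMemClass.coe_add, smul_add]
      refine C₀.add_mem ?_ ?_
      · rw [mul_comm, mul_smul]; exact C₀.smul_mem hs (t : A)
      · rw [mul_smul]; exact C₀.smul_mem ht (s : A)
    · rintro l a _ ⟨s, hs⟩
      obtain ⟨⟨r, t⟩, hrt⟩ := IsLocalization.surj m.primeCompl l
      refine ⟨t * s, ?_⟩
      have e : (t * s) • ((l • a : C) : K) = r • (s • (a : K)) := by
        have e1 : algebraMap L K l * algebraMap A K t = algebraMap A K r := by
          rw [IsScalarTower.algebraMap_apply A L K (t : A), ← map_mul, hrt, ← IsScalarTower.algebraMap_apply]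
        rw [SetLike.val_smul, Algebra.smul_def l (a : K)]
        simp only [Submonoid.smul_def, Submonoid.coe_mul, Algebra.smul_def, map_mul, ← e1]
        ring
      rw [e]; exact C₀.smul_mem hs r
  haveI : IsLocalization (Algebra.algebraMapSubmonoid C₀ m.primeCompl) C := by
    constructor; constructor
    · rintro ⟨_, a, ha, rfl⟩
      have e : algebraMap C₀ C (algebraMap A C₀ a) = algebraMap L C (algebraMap A L a) :=
        Subtype.ext (by rw [hval]; exact IsScalarTower.algebraMap_apply A L K a)
      show IsUnit (algebraMap C₀ C (algebraMap A C₀ a))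
      rw [e]
      exact (IsLocalization.map_units L (⟨a, ha⟩ : m.primeCompl)).map _
    · intro c
      obtain ⟨s, hs⟩ := hclear c c.2
      refine ⟨⟨⟨_, hs⟩, ⟨algebraMap A C₀ s, s, s.2, rfl⟩⟩, Subtype.ext ?_⟩
      show (c : K) * algebraMap A K s = s • (c : K)
      rw [Submonoid.smul_def, Algebra.smul_def, mul_comm]
    · intro a b hab
      exact ⟨1, by rw [Subtype.ext ((hval a).symm.trans ((congrArg Subtype.val hab).trans (hval b)))]⟩
  have hint : IsIntegral L x := by
    refine Groth.Agent.S12124.partB C hle hsep x fun p _ hp => ?_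
    have hq : (p.comap (algebraMap C₀ C)).height = 1 := by
      rw [← Ideal.under_def, IsLocalization.height_under (Algebra.algebraMapSubmonoid C₀ m.primeCompl), hp]
    haveI : (p.comap (algebraMap C₀ C)).IsPrime := Ideal.comap_isPrime _ _
    have hA := h C₀ hle₀ hfin₀ _ hq
    haveI : ((p.comap (algebraMap C₀ C)).comap (algebraMap A C₀)).IsPrime := Ideal.comap_isPrime _ _
    obtain ⟨s, hs, hsx⟩ := hx ⟨(p.comap (algebraMap C₀ C)).comap (algebraMap A C₀), Ideal.comap_isPrime _ _⟩ hA
    refine ⟨algebraMap C₀ C (algebraMap A C₀ s), hs, ?_⟩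
    rw [hval]
    exact hsx.tower_top
  obtain ⟨s, hs⟩ := IsIntegral.exists_multiple_integral_of_isLocalization m.primeCompl x hint
  exact ⟨s, s.2, by rwa [Submonoid.smul_def, Algebra.smul_def] at hs⟩

/-- Let A be a Noetherian domain with fraction field K and A' its integral closure in K. Assume that for
every sub-A-algebra C of A' which is finite over A, every height-one prime of C lies over a
height-one prime of A. Then A' is the intersection in K of the localizations A'_p over the
height-one primes p of A. -/
theorem result {A : Type u} [CommRing A] [IsDomain A] [IsNoetherianRing A]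
    (h : ∀ C : Subalgebra A (FractionRing A), C ≤ integralClosure A (FractionRing A) → Module.Finite A C →
      ∀ (q : Ideal C) [q.IsPrime], q.height = 1 → (q.comap (algebraMap A C)).height = 1) :
    (integralClosure A (FractionRing A) : Set (FractionRing A)) =
      ⋂ (p : PrimeSpectrum A) (_ : p.asIdeal.height = 1),
        {x : FractionRing A | ∃ s : A, s ∉ p.asIdeal ∧
          algebraMap A (FractionRing A) s * x ∈ integralClosure A (FractionRing A)} := by
  ext x
  simp only [SetLike.mem_coe, Set.mem_iInter, Set.mem_setOf_eq]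
  constructor
  · intro hx p _
    exact ⟨1, p.2.one_notMem, by rwa [map_one, one_mul]⟩
  · intro hx
    let I : Ideal A :=
      { carrier := {a | IsIntegral A (algebraMap A (FractionRing A) a * x)}
        add_mem' := fun {a b} ha hb => by
          show IsIntegral A _
          rw [map_add, add_mul]; exact ha.add hb
        zero_mem' := by
          show IsIntegral A _
          rw [map_zero, zero_mul]; exact isIntegral_zero
        smul_mem' := fun c a ha => by
          show IsIntegral A _
          rw [smul_eq_mul, map_mul, mul_assoc]; exact isIntegral_algebraMap.mul ha }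
    have hI : I = ⊤ := by
      by_contra hne
      obtain ⟨m, hm, hIm⟩ := Ideal.exists_le_maximal I hne
      obtain ⟨s, hs, hsx⟩ := exists_mul_integral h x hx m
      exact hs (hIm hsx)
    have h1 : (1 : A) ∈ I := hI ▸ Submodule.mem_top
    have h2 : IsIntegral A (algebraMap A (FractionRing A) 1 * x) := h1
    rwa [map_one, one_mul] at h2

end Groth.Agent.S4568
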