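import Groth.Statements.S2903
import Groth.Agent.EtRep9.FiniteApprox

set_option linter.style.haveILetI false
set_option backward.isDefEq.respectTransparency false
set_option backward.isDefEq.respectTransparency.types false


set_option autoImplicit false
open CategoryTheory CategoryTheory.Limits AlgebraicGeometry Opposite
universe u
open SGA1

namespace Groth.Agent.S2903

/-- Let g : S' ⟶ S be proper, surjective and locally of finite presentation. Then every descent datum
relative to g whose underlying scheme is a finite etale cover of S' is isomorphic to the canonical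
descent datum of a finite etale cover of S. (Descent data relative to g are taken in
functor-of-points form.) -/
theorem result {S' S : Scheme.{u}} (g : S' ⟶ S) [IsProper g] [Surjective g]
    [LocallyOfFinitePresentation g] (D : Desc.SchDD g) [IsFinite D.obj.hom] [Etale D.obj.hom] :
    ∃ U : Over S, IsFinite U.hom ∧ Etale U.hom ∧ Nonempty ((Desc.toDD g).obj U ≅ D) := by
  obtain ⟨U, hqc, hsep, het, ⟨I⟩⟩ := Groth.Agent.EtRep9.effective_proper_fp g D
  haveI := hqc; haveI := hsep; haveI := het
  let P := pullback g U.hom
  have e : I.hom.hom.left ≫ D.obj.hom = pullback.fst g U.hom := Over.w I.hom.hom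
  haveI : IsIso I.hom.hom.left := ⟨I.inv.hom.left,
    congrArg CommaMorphism.left (congrArg Desc.SchDD.Hom.hom I.hom_inv_id),
    congrArg CommaMorphism.left (congrArg Desc.SchDD.Hom.hom I.inv_hom_id)⟩
  haveI : IsFinite (pullback.fst g U.hom) := by rw [← e]; infer_instance
  haveI : Surjective (pullback.snd g U.hom) := MorphismProperty.pullback_snd _ _ inferInstance
  haveI : UniversallyClosed (pullback.snd g U.hom ≫ U.hom) := by
    rw [← pullback.condition]; infer_instance
  haveI : UniversallyClosed U.hom := UniversallyClosed.of_comp_surjective (pullback.snd g U.hom) U.hom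
  haveI : IsProper U.hom := ⟨⟩
  haveI : LocallyQuasiFinite U.hom := inferInstance
  exact ⟨U, IsFinite.of_isProper_of_locallyQuasiFinite U.hom, het, ⟨I⟩⟩
end Groth.Agent.S2903
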