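import Groth.Statements.S2911
import Groth.Agent.Quot9.Etale
import Groth.Agent.SGA1Q.Properties

set_option backward.isDefEq.respectTransparency false
set_option backward.isDefEq.respectTransparency.types false


set_option autoImplicit false
open CategoryTheory CategoryTheory.Limits AlgebraicGeometry
universe u
open SGA1

namespace Groth.Agent.S2911

/-- With the existence of the quotient taken as a hypothesis: Let Y be locally Noetherian, f : X ⟶ Y
etale, separated and quasi-compact, G a finite group acting on X by Y-automorphisms, p : X ⟶ X' a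
quotient of X by G and q : X' ⟶ Y the induced morphism. Then p and q are etale, and if f is finite
then q is finite. -/
theorem result {X X' Y : Scheme.{u}} {G : Type u} [Group G] [Finite G] (ρ : G →* Aut X)
    [IsLocallyNoetherian Y] (f : X ⟶ Y) [Etale f] [IsSeparated f] [QuasiCompact f] (hρ : ∀ g : G, (ρ g).hom ≫ f = f)
    (p : X ⟶ X') (hp : SGA1.IsQuot ρ p) (q : X' ⟶ Y) (hq : p ≫ q = f) :
    Etale p ∧ Etale q ∧ (IsFinite f → IsFinite q) := by
  have hlft : LocallyOfFiniteType f := inferInstance
  haveI : LocallyOfFiniteType q := SGA1Q.locallyOfFiniteType_of_isQuot hp hq hlft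
  haveI : IsFinite p := SGA1Q.isFinite_of_isQuot hp hq hlft
  haveI : IsLocallyNoetherian X' := LocallyOfFiniteType.isLocallyNoetherian q
  haveI : LocallyOfFinitePresentation p := inferInstance
  haveI hpe : Etale p := Groth.Agent.Quot9.etale_quot f hρ p hp
  haveI : Surjective p := ⟨SGA1Q.surjective hp⟩
  haveI : Etale (p ≫ q) := hq ▸ inferInstance
  refine ⟨hpe, Groth.Agent.SrcDescent.etale_of_etale_comp p q inferInstance, fun hf => ?_⟩
  haveI := hf
  haveI : IsAffineHom q := (SGA1Q.isAffineHom_iff_of_isQuot hp hq).mp inferInstance
  haveI : IsSeparated q := (SGA1Q.isSeparated_iff_of_isQuot hp hq).mp inferInstance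
  haveI : UniversallyClosed (p ≫ q) := hq ▸ inferInstance
  haveI : UniversallyClosed q := UniversallyClosed.of_comp_surjective p q
  haveI : IsProper q := ⟨⟩
  exact IsFinite.iff_isProper_and_isAffineHom.mpr ⟨inferInstance, inferInstance⟩
end Groth.Agent.S2911
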