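import Groth.Statements.S2912
import Groth.Agent.DescLib.DescFinite

set_option backward.isDefEq.respectTransparency false
set_option backward.isDefEq.respectTransparency.types false

set_option autoImplicit false
open CategoryTheory CategoryTheory.Limits AlgebraicGeometry Opposite
universe u
open SGA1
open Groth.Agent.DescLib

namespace Groth.Agent.S2912

/-- Let g : S' ⟶ S be flat, surjective, quasi-compact and universally injective. Then every descent
datum relative to g (on an arbitrary S'-scheme) is isomorphic to the canonical descent datum of some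
S-scheme. (Descent data relative to g are taken in functor-of-points form.) -/
theorem result {S' S : Scheme.{u}} (g : S' ⟶ S) [Flat g] [Surjective g] [QuasiCompact g]
    [UniversallyInjective g] (D : Desc.SchDD g) : ∃ U : Over S, Nonempty ((Desc.toDD g).obj U ≅ D) := by
  haveI hs : IsSeparated g := ⟨by
    haveI : Surjective (pullback.diagonal g) := (UniversallyInjective.iff_diagonal g).1 inferInstance
    exact IsClosedImmersion.of_isPreimmersion _ (by rw [(pullback.diagonal g).surjective.range_eq]; exact isClosed_univ)⟩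
  refine Groth.Agent.DescLib.effective_of_locally_effective g D fun v => ?_
  let fs := pullback.fst (IndQA.sv g D) g
  let σ : D.obj.left ⟶ pullback (IndQA.sv g D) g := pullback.lift (𝟙 _) D.obj.hom (Category.id_comp _)
  haveI : UniversallyInjective fs := MorphismProperty.pullback_fst (P := @UniversallyInjective) _ _ inferInstance
  have hinj : Function.Injective fs := fs.injective
  have key : ∀ r, IndQA.d₁ g D r = fs r := fun r => by
    have h1 : σ (fs r) = r := hinj (by
      rw [← Scheme.Hom.comp_apply]
      exact congrArg (fun f : D.obj.left ⟶ D.obj.left => f (fs r)) (pullback.lift_fst _ _ _))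
    have h2 : σ ≫ IndQA.d₁ g D = 𝟙 _ :=
      (IndQA.lift_d₁ g D _ _ _).trans (IndQA.tr_self g D _ _ (Category.id_comp _) _)
    conv_lhs => rw [← h1]
    rw [← Scheme.Hom.comp_apply, h2]; rfl
  obtain ⟨_, ⟨Y', hY', rfl⟩, hvY, -⟩ :=
    S.isBasis_affineOpens.exists_subset_of_mem_open (Set.mem_univ (IndQA.sv g D v)) isOpen_univ
  replace hY' : IsAffineOpen Y' := hY'
  obtain ⟨O, hO, hvO, hOY⟩ := exists_isAffineOpen_mem_and_subset
    (show v ∈ IndQA.sv g D ⁻¹ᵁ Y' from hvY)
  obtain ⟨D', j, hj, hr⟩ := Groth.Agent.DescLib.exists_subDatum g D O (by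
    ext r
    show fs r ∈ O ↔ IndQA.d₁ g D r ∈ O
    rw [key])
  refine ⟨D', j, hj, (show v ∈ Set.range j.hom.left by rw [hr]; exact hvO), ?_⟩
  haveI := hj
  haveI : IsAffine O.toScheme := hO
  haveI : IsAffine D'.obj.left :=
    .of_isIso (IsOpenImmersion.isoOfRangeEq j.hom.left O.ι (hr.trans O.range_ι.symm)).hom
  let X' : S'.Opens := g ⁻¹ᵁ Y'
  have hrange : Set.range D'.obj.hom ⊆ Set.range X'.ι := by
    rw [X'.range_ι]
    rintro _ ⟨w, rfl⟩
    show g (D'.obj.hom w) ∈ Y'
    rw [← Over.w j.hom, Scheme.Hom.comp_apply]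
    exact hOY (show j.hom.left w ∈ (O : Set D.obj.left) by rw [← hr]; exact ⟨w, rfl⟩)
  haveI : IsAffine (Scheme.Opens.toScheme Y') := hY'
  haveI : IsSeparated (g ∣_ Y') := IsZariskiLocalAtTarget.restrict hs Y'
  haveI : Scheme.IsSeparated X'.toScheme :=
    (Scheme.isSeparated_iff _).2 (by
      rw [← terminal.comp_from (g ∣_ Y')]; infer_instance)
  let g' : D'.obj.left ⟶ X'.toScheme := IsOpenImmersion.lift X'.ι D'.obj.hom hrange
  haveI : IsAffineHom g' := MorphismProperty.of_postcomp (W := @IsAffineHom) (W' := @IsSeparated) g' (terminal.from X'.toScheme) ((Scheme.isSeparated_iff _).1 inferInstance) (by rw [terminal.comp_from]; infer_instance)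
  refine Groth.Agent.DescLib.effective_single IndQA.indQA
    (fun _ _ p _ _ _ _ D h => IndQA.effective_indQA_hom p D h) g D' ?_
  rw [← IsOpenImmersion.lift_fac X'.ι D'.obj.hom hrange]
  exact Groth.Agent.MorLib.IQA.indQA_comp g' X'.ι (Groth.Agent.DescLib.indQA_of_isAffineHom g')
    (Groth.Agent.MorLib.IQA.indQA_of_isImmersion _)

end Groth.Agent.S2912
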