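import Groth.Statements.S2915
import Groth.Agent.H9PiOne.SplitDescend
import Groth.Agent.S1340
import Groth.Agent.S7809
import Groth.Agent.Pi1Ext.UHDescent
import Groth.Agent.Pi1X.GeomConnFF

set_option linter.style.haveILetI false
set_option backward.isDefEq.respectTransparency false
set_option backward.isDefEq.respectTransparency.types false
-- import your own Groth.Agent.* helpers here

set_option autoImplicit false
universe u
open SGA1
attribute [-instance] CategoryTheory.catToReflQuiver

namespace Groth.Agent.S2915

open AlgebraicGeometry CategoryTheory CategoryTheory.Limits in
/-- Let f : X ⟶ S be proper, surjective and locally of finite presentation, with geometrically connected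
fibres: the base change of X along any point of S with values in an algebraically closed field is
connected. Let X′ be a finite étale cover of X such that for every such geometric point of S the
pullback of X′ to the corresponding geometric fibre is split (isomorphic over the fibre to a finite
disjoint union of copies of it). Then X′ is isomorphic to the pullback along f of some finite étale
cover of S. -/
theorem result {X S : Scheme.{u}} (f : X ⟶ S) [IsProper f] [Surjective f]
    [LocallyOfFinitePresentation f]
    (hconn : ∀ (K : Type u) [Field K] [IsAlgClosed K] (ξ : Spec (CommRingCat.of K) ⟶ S), ConnectedSpace ↑(pullback f ξ))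
    (X' : FEt.Cat X)
    (hsplit : ∀ (K : Type u) [Field K] [IsAlgClosed K] (ξ : Spec (CommRingCat.of K) ⟶ S),
      Pi1.IsSplit ((FEt.restrict (pullback.fst f ξ)).obj X')) :
    ∃ S' : FEt.Cat S, Nonempty ((FEt.restrict f).obj S' ≅ X') := by
  haveI : GeometricallyConnected f := Pi1X.geometricallyConnected_of_isAlgClosed f fun K _ _ ξ => hconn K ξ
  haveI := SteinLib.isProper_toNormalization f
  haveI := SteinLib.geometricallyConnected_toNormalization_general f
  haveI : Surjective (f.toNormalization ≫ f.fromNormalization) := by
    rw [Scheme.Hom.toNormalization_fromNormalization]; infer_instance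
  haveI : Surjective f.fromNormalization := Surjective.of_comp f.toNormalization f.fromNormalization
  haveI : UniversallyInjective f.fromNormalization :=
    SteinPtLib.universallyInjective_of_subsingleton _ fun K _ x =>
      SteinPtLib.subsingleton_pullback_fromNormalization f K x
  obtain ⟨T, ⟨e⟩⟩ := H9PiOne.exists_descend_of_split f.toNormalization (S1340.result f) X' fun K _ _ ξ => by
    let m : pullback f.toNormalization ξ ⟶ pullback f (ξ ≫ f.fromNormalization) :=
      pullback.lift (pullback.fst _ _) (pullback.snd _ _) (by
        rw [← pullback.condition_assoc, Scheme.Hom.toNormalization_fromNormalization])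
    exact ((H9PiOne.hasSplitting_of_isSplit (hsplit K (ξ ≫ f.fromNormalization))).restrict m).of_iso
      (Pi1Ext.Spread.restrictComp m (pullback.fst f (ξ ≫ f.fromNormalization)) _ (pullback.lift_fst _ _ _).symm X').symm
  haveI := Pi1Ext.UH.restrict_essSurj f.fromNormalization
  let S' := (FEt.restrict f.fromNormalization).objPreimage T
  exact ⟨S', ⟨Pi1Ext.Spread.restrictComp f.toNormalization f.fromNormalization f f.toNormalization_fromNormalization.symm S' ≪≫
    (FEt.restrict f.toNormalization).mapIso ((FEt.restrict f.fromNormalization).objObjPreimageIso T) ≪≫ e⟩⟩

end Groth.Agent.S2915
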