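import Groth.Statements.S2918
import Groth.Agent.H9Pur.BigExt
import Groth.Agent.Pi1Ext.Spread

set_option linter.style.haveILetI false
set_option backward.isDefEq.respectTransparency false
set_option backward.isDefEq.respectTransparency.types false
-- import your own Groth.Agent.* helpers here

set_option autoImplicit false
universe u
open SGA1

namespace Groth.Agent.S2918

open AlgebraicGeometry CategoryTheory CategoryTheory.Limits in
/-- Birational invariance of the fundamental group, in terms of finite etale covers: Let X and Y be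
proper over a field k, locally Noetherian with all local rings regular, and birational over k: some
dense open of X is k-isomorphic to some dense open of Y. Then the categories of finite etale covers
of X and of Y are equivalent compatibly with restriction to the common dense open. -/
theorem result (k : Type u) [Field k] {X Y : Scheme.{u}}
    (f : X ⟶ Spec (CommRingCat.of k)) (g : Y ⟶ Spec (CommRingCat.of k)) [IsProper f] [IsProper g]
    [IsLocallyNoetherian X] [IsLocallyNoetherian Y]
    (hX : ∀ x : X, IsRegularLocalRing (X.presheaf.stalk x)) (hY : ∀ y : Y, IsRegularLocalRing (Y.presheaf.stalk y))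
    (U : X.Opens) (V : Y.Opens) (hU : Dense (U : Set X)) (hV : Dense (V : Set Y))
    (e : (U : Scheme.{u}) ≅ (V : Scheme.{u})) (he : e.hom ≫ V.ι ≫ g = U.ι ≫ f) :
    ∃ Φ : FEt.Cat X ≌ FEt.Cat Y, Nonempty (FEt.restrict U.ι ≅ Φ.functor ⋙ FEt.restrict V.ι ⋙ FEt.restrict e.hom) := by
  haveI : CompactSpace X := QuasiCompact.compactSpace_of_compactSpace f
  haveI : CompactSpace Y := QuasiCompact.compactSpace_of_compactSpace g
  haveI : AlgebraicGeometry.IsNoetherian X := { }
  haveI : AlgebraicGeometry.IsNoetherian Y := { }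
  obtain ⟨U₀, hUU₀, a, -, ha, haE⟩ := H9Pur.exists_big_extension f g hX U hU (e.hom ≫ V.ι)
    (by rw [Category.assoc, he])
  obtain ⟨V₀, hVV₀, b, -, hb, hbE⟩ := H9Pur.exists_big_extension g f hY V hV (e.inv ≫ U.ι)
    (by rw [Category.assoc, ← he, Iso.inv_hom_id_assoc])
  haveI := haE
  haveI := hbE
  let jV := Y.homOfLE hVV₀
  let jU := X.homOfLE hUU₀
  let m : (V : Scheme.{u}) ⟶ X := e.inv ≫ U.ι
  haveI : IsOpenImmersion m := inferInstance
  have hm : Dense (Set.range m.base) := by
    have : Set.range m.base = U := by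
      show Set.range ⇑(e.inv ≫ U.ι) = _
      rw [Scheme.Hom.comp_base, TopCat.coe_comp, Set.range_comp, Set.range_eq_univ.2 e.inv.surjective,
        Set.image_univ, Scheme.Opens.range_ι]
    rw [this]; exact hU
  obtain ⟨hm1, hm2⟩ := H9Pur.restrict_fullyFaithful_of_dense (H9Pur.isNormalScheme_of_regular hX) m hm
  haveI : AlgebraicGeometry.IsNoetherian (V₀ : Scheme.{u}) := H9Pur.isNoetherian_opens V₀
  have hjd : Dense (Set.range jV.base) := by
    intro z
    rw [V₀.ι.isEmbedding.isInducing.closure_eq_preimage_closure_image, ← Set.range_comp]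
    have : Set.range (V₀.ι.base ∘ jV.base) = V := by
      rw [← TopCat.coe_comp, ← Scheme.Hom.comp_base, Scheme.homOfLE_ι, Scheme.Opens.range_ι]
    rw [this, hV.closure_eq]
    trivial
  obtain ⟨hj1, hj2⟩ := H9Pur.restrict_fullyFaithful_of_dense
    (H9Pur.isNormalScheme_of_regular fun z => by
      haveI := hY (V₀.ι z)
      exact IsRegularLocalRing.of_ringEquiv (asIso (V₀.ι.stalkMap z)).commRingCatIsoToRingEquiv) jV hjd
  haveI := hm1
  haveI := hm2
  haveI := hj1
  haveI := hj2
  let ib : FEt.restrict b ⋙ FEt.restrict jV ≅ FEt.restrict m :=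
    (MorphismProperty.Over.pullbackComp jV b m hb.symm).symm
  haveI : (FEt.restrict b).Faithful := Functor.Faithful.of_comp_iso ib
  haveI : (FEt.restrict b).Full := Functor.Full.of_comp_faithful_iso ib
  haveI : (FEt.restrict b).EssSurj := ⟨fun B => by
    let B' := (FEt.restrict V₀.ι).objPreimage B
    let A := (FEt.restrict U₀.ι).objPreimage ((FEt.restrict a).obj B')
    refine ⟨A, ⟨(FEt.restrict jV).preimageIso ?_⟩⟩
    let n : (V : Scheme.{u}) ⟶ (U₀ : Scheme.{u}) := e.inv ≫ jU
    exact (Pi1Ext.Spread.restrictComp jV b m hb.symm A).symm ≪≫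
      Pi1Ext.Spread.restrictComp n U₀.ι m (by simp [n, jU, m]) A ≪≫
      (FEt.restrict n).mapIso ((FEt.restrict U₀.ι).objObjPreimageIso _) ≪≫
      (Pi1Ext.Spread.restrictComp n a V.ι (by simp [n, jU, ha]) B').symm ≪≫
      Pi1Ext.Spread.restrictComp jV V₀.ι V.ι (Y.homOfLE_ι hVV₀).symm B' ≪≫
      (FEt.restrict jV).mapIso ((FEt.restrict V₀.ι).objObjPreimageIso B)⟩
  haveI : (FEt.restrict b).IsEquivalence := { }
  let Φ := (FEt.restrict b).asEquivalence.trans (FEt.restrict V₀.ι).asEquivalence.symm
  refine ⟨Φ, ⟨?_⟩⟩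
  let iV : FEt.restrict V.ι ≅ FEt.restrict V₀.ι ⋙ FEt.restrict jV :=
    MorphismProperty.Over.pullbackComp jV V₀.ι V.ι (Y.homOfLE_ι hVV₀).symm
  let i1 : Φ.functor ⋙ FEt.restrict V.ι ≅ FEt.restrict m :=
    Functor.isoWhiskerLeft Φ.functor iV ≪≫ (Functor.associator _ _ _).symm ≪≫
      Functor.isoWhiskerRight (Functor.associator _ _ _ ≪≫
        Functor.isoWhiskerLeft (FEt.restrict b) (FEt.restrict V₀.ι).asEquivalence.counitIso ≪≫
        Functor.rightUnitor _) (FEt.restrict jV) ≪≫ ib
  exact MorphismProperty.Over.pullbackComp e.hom m U.ι (by simp [m]) ≪≫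
    Functor.isoWhiskerRight i1.symm (FEt.restrict e.hom) ≪≫ Functor.associator _ _ _

end Groth.Agent.S2918
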