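import Groth.Statements.S2923
import Groth.Agent.H9Abh.Main
import Groth.Agent.H9Abh.StrictCover
-- import your own Groth.Agent.* helpers here

set_option autoImplicit false
universe u
open IsLocalRing
open SGA1

namespace Groth.Agent.S2923

open AlgebraicGeometry CategoryTheory CategoryTheory.Limits in
/-- The Kummer coverings are cofinal among tame covers: let A be a strictly henselian regular local ring
(henselian with separably closed residue field), f_1, …, f_r part of a regular system of parameters
with each (f_i) a prime ideal, U ⊆ X = Spec A the open where f_1 ⋯ f_r is invertible, and V a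
connected finite etale cover of U tamely ramified along each f_i. Then for some exponents n_i ≥ 1
invertible in the residue field there is a surjective U-morphism from the restriction to U of the
Kummer covering Spec A[T_1, …, T_r]/(T_i^{n_i} − f_i) onto V. -/
theorem result (A : Type u) [CommRing A] [IsRegularLocalRing A] [IsDomain A] (r : ℕ) (f : Fin r → A)
    (hm : ∀ i, f i ∈ maximalIdeal A)
    (hf : LinearIndependent (ResidueField A) (fun i => (maximalIdeal A).toCotangent ⟨f i, hm i⟩))
    [∀ i, (Ideal.span {f i}).IsPrime]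
    [HenselianLocalRing A] [IsSepClosed (ResidueField A)]
    (V : FEt.Cat ((SGA1.specBasicOpen A (∏ i, f i)) : Scheme.{u})) [ConnectedSpace V.left] (htame : SGA1.IsTameAlong f (((V.hom ≫ ((SGA1.specBasicOpen A (∏ i, f i))).ι).appTop).hom.comp (Scheme.ΓSpecIso (CommRingCat.of A)).inv.hom)) :
    ∃ n : Fin r → ℕ, (∀ i, 1 ≤ n i) ∧ (∀ i, IsUnit ((n i : ℕ) : ResidueField A)) ∧
      ∃ φ : (↑((Spec.map (CommRingCat.ofHom (algebraMap A (SGA1.kummerAlg A f n)))) ⁻¹ᵁ (SGA1.specBasicOpen A (∏ i, f i))) : Scheme.{u}) ⟶ V.left, φ ≫ V.hom = (Spec.map (CommRingCat.ofHom (algebraMap A (SGA1.kummerAlg A f n)))) ∣_ (SGA1.specBasicOpen A (∏ i, f i)) ∧ Surjective φ := by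
  have htame' : SGA1.IsTameAlong f (Groth.Agent.H9Abh.structHom V) := htame
  obtain ⟨n, hn1, hnu, hgood⟩ := Groth.Agent.H9Abh.exists_good_exponent hm hf V htame'
  have hu : ∀ i, IsUnit (n : Localization.AtPrime (Ideal.span {f i})) := fun i => by
    have h := hnu.map (algebraMap A (Localization.AtPrime (Ideal.span {f i})))
    rwa [map_natCast] at h
  obtain ⟨W, ⟨e⟩⟩ := Groth.Agent.H9Abh.exists_extension hm hf V (fun _ => n) (fun _ => hn1) hu hgood
  refine ⟨fun _ => n, fun _ => hn1, fun _ => ?_, ?_⟩
  · have h := hnu.map (residue A)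
    rwa [map_natCast] at h
  haveI := Groth.Agent.H9Kummer.regular f (fun _ => n) hm hf (fun _ => hn1)
  haveI := Groth.Agent.RegLoc6.isDomain_of_isRegularLocalRing (SGA1.kummerAlg A f fun _ => n)
  haveI := Groth.Agent.H9Kummer.isIntegral f (fun _ => n) (fun _ => hn1)
  haveI : HenselianLocalRing (SGA1.kummerAlg A f fun _ => n) :=
    Groth.Agent.Hensel.henselianLocalRing_of_isIntegral_local A (SGA1.kummerAlg A f fun _ => n)
  haveI : IsLocalHom (algebraMap A (SGA1.kummerAlg A f fun _ => n)) :=
    Groth.Agent.Hensel.isLocalHom_of_isIntegral_local (A := A) (B := SGA1.kummerAlg A f fun _ => n)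
  haveI : IsSepClosed (ResidueField (SGA1.kummerAlg A f fun _ => n)) := by
    haveI : Algebra.IsAlgebraic (ResidueField A) (ResidueField (SGA1.kummerAlg A f fun _ => n)) := ⟨fun x => by
      obtain ⟨y, rfl⟩ := residue_surjective x
      have h := (Algebra.IsIntegral.isIntegral (R := A) y).map
        (IsScalarTower.toAlgHom A (SGA1.kummerAlg A f fun _ => n) (ResidueField (SGA1.kummerAlg A f fun _ => n)))
      exact IsIntegral.isAlgebraic (IsIntegral.tower_top (A := ResidueField A) h)⟩
    exact @Algebra.IsAlgebraic.isSepClosed (ResidueField A) (ResidueField (SGA1.kummerAlg A f fun _ => n)) _ _ _ _ _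
  have hF : (∏ i, f i) ≠ 0 := Finset.prod_ne_zero_iff.2 fun i _ => Groth.Agent.H9Abh.f_ne_zero hm hf i
  have hinj := Groth.Agent.H9Kummer.injective f (fun _ => n) (fun _ => hn1)
  refine Groth.Agent.H9Abh.exists_dominating ((map_ne_zero_iff _ hinj).2 hF) hF V ?_ W e
  refine Groth.Agent.H9Abh.fet_prop_mk _ ?_ ?_
  · haveI : Module.Finite A (SGA1.kummerAlg A f fun _ => n) := Groth.Agent.H9Kummer.finite f _ (fun _ => hn1)
    haveI : IsFinite (Spec.map (CommRingCat.ofHom (algebraMap A (SGA1.kummerAlg A f fun _ => n)))) :=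
      (IsFinite.SpecMap_iff _).2 (RingHom.finite_algebraMap.2 inferInstance)
    infer_instance
  · refine Groth.Agent.H9Kummer.LocalCover.restrict_etale _ _ ?_
    exact Groth.Agent.H9Kummer.etale_away f (fun _ => n) (fun _ => hnu) (fun _ => hn1)

end Groth.Agent.S2923
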