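import Groth.Statements.S2924
import Groth.Agent.H9Kummer.Tame

set_option linter.style.haveILetI false
set_option backward.isDefEq.respectTransparency false
set_option backward.isDefEq.respectTransparency.types false


set_option autoImplicit false
universe u
open IsLocalRing
open SGA1

namespace Groth.Agent.S2924

/-- Let A be a regular local ring, f_1, …, f_r part of a regular system of parameters and n_i ≥ 1
invertible in the residue field. Then the Kummer algebra A[T_1, …, T_r]/(T_i^{n_i} − f_i) is tamely
ramified along each f_i (at every point of its generic fibre, with respect to the discrete valuation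
rings A_{(f_i)}). -/
theorem result (A : Type u) [CommRing A] [IsRegularLocalRing A] [IsDomain A] (r : ℕ) (f : Fin r → A)
    (hm : ∀ i, f i ∈ maximalIdeal A)
    (hf : LinearIndependent (ResidueField A) (fun i => (maximalIdeal A).toCotangent ⟨f i, hm i⟩))
    [∀ i, (Ideal.span {f i}).IsPrime] (n : Fin r → ℕ) (hn : ∀ i, 1 ≤ n i) (hu : ∀ i, IsUnit ((n i : ℕ) : ResidueField A)) :
    SGA1.IsTameAlong f (algebraMap A (SGA1.kummerAlg A f n)) := by
  intro i q _ hq
  haveI : IsNoetherianRing A := inferInstance
  haveI := Groth.Agent.H9Kummer.finite f n hn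
  haveI : IsNoetherianRing (SGA1.kummerAlg A f n) := IsNoetherianRing.of_finite A _
  refine Groth.Agent.H9Kummer.tame f n hn (fun j => ?_) i
    (fun j hji => Groth.Agent.H9Kummer.notMem_span_of_independent hm hf hji)
    (Groth.Agent.H9Kummer.param_ne_zero hm hf i)
    (Groth.Agent.H9Kummer.T f n) (Groth.Agent.H9Kummer.T_pow f n) (Groth.Agent.H9Kummer.adjoin_T f n)
    (algebraMap _ q.ResidueField) (fun x => ?_) (fun a ha => ?_) _ (IsLocalization.lift_comp _)
  · rw [← IsLocalRing.residue_ne_zero_iff_isUnit, map_natCast]
    exact (hu j).ne_zero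
  · obtain ⟨b, c, hc, rfl⟩ := IsFractionRing.div_surjective (SGA1.kummerAlg A f n ⧸ q) x
    obtain ⟨b, rfl⟩ := Ideal.Quotient.mk_surjective b
    obtain ⟨c, rfl⟩ := Ideal.Quotient.mk_surjective c
    refine ⟨b, c, ?_, rfl⟩
    exact IsFractionRing.to_map_ne_zero_of_mem_nonZeroDivisors (R := SGA1.kummerAlg A f n ⧸ q) (K := q.ResidueField) hc
  · intro h
    rw [← RingHom.mem_ker, Ideal.ker_algebraMap_residueField] at h
    have : a ∈ Ideal.comap (algebraMap A (SGA1.kummerAlg A f n)) q := h
    rw [hq, Ideal.mem_bot] at this
    exact ha this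
end Groth.Agent.S2924
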