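import Groth.Statements.S2927
import Groth.Agent.PnVan.ExtDual
import Groth.Agent.ExtShX.Codim
import Groth.Agent.PnVan.CM
import Groth.Agent.LC.GorRows
import Groth.Agent.LC.CdDim

set_option autoImplicit false
universe u
open CategoryTheory AlgebraicGeometry
open ProjDual

namespace Groth.Agent.S2927

set_option linter.style.haveILetI false
set_option backward.isDefEq.respectTransparency false
set_option backward.isDefEq.respectTransparency.types false
set_option maxHeartbeats 1000000

open Groth.Agent Groth.Agent.PnVan CategoryTheory.Limits in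
theorem aux {k : Type u} [Field k] {r : ℕ} {F : (P k r).Modules} (hF : Coh.IsCoh F) (i : ℕ) :
    NegVan F i ↔ ∀ x : P k r, IsClosed ({x} : Set (P k r)) →
      Subsingleton (LocCoh.H (IsLocalRing.maximalIdeal ((P k r).presheaf.stalk x)) i (F.presheaf.stalk x)) := by
  rcases Nat.lt_or_ge r i with hi | hi
  · refine iff_of_true ⟨0, fun d _ => ?_⟩ fun x hx => ?_
    · exact Groth.Agent.PnDual.subsingleton_HH_above (R := k) (m := r) (isCoh_tw hF d).1 i hi
    · haveI := finite_stalk (F := F) hF x
      exact LC.subsingleton_H_of_supportDim_lt _ _ i (lt_of_le_of_lt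
        ((Module.supportDim_le_ringKrullDim _ _).trans_eq (dim_closed hx)) (by exact_mod_cast hi))
  haveI : LocallyOfFiniteType (CohB1.ProjSpace.toSpec r k) :=
    haveI := Groth.Agent.PnCoh.Chow.isProper_toSpec r k
    inferInstance
  haveI : JacobsonSpace (P k r) := LocallyOfFiniteType.jacobsonSpace (CohB1.ProjSpace.toSpec r k)
  rw [negVan_iff_isZero_E (r - i) (i := i) (by omega) hF]
  have hx : ∀ x : P k r, IsClosed ({x} : Set (P k r)) →
      (Subsingleton (Abelian.Ext ((DerSch.stalkFunctor (P k r) x).obj F)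
        ((DerSch.stalkFunctor (P k r) x).obj (om k r)) (r - i)) ↔
      Subsingleton (LocCoh.H (IsLocalRing.maximalIdeal ((P k r).presheaf.stalk x)) i (F.presheaf.stalk x))) := by
    intro x hx
    set R := (P k r).presheaf.stalk x
    haveI := finite_stalk (F := F) hF x
    haveI : IsRegularLocalRing R := regularP x
    haveI := LC.gorenstein_of_isRegularLocalRing (R := R)
    obtain ⟨t⟩ := H23.InvStalk.exists_stalk_equiv (om_invertible k r) x
    let a := ((Abelian.extFunctorObj ((DerSch.stalkFunctor (P k r) x).obj F) (r - i)).mapIso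
      (show (DerSch.stalkFunctor (P k r) x).obj (om k r) ≅ ModuleCat.of R R from t.toModuleIso)).addCommGroupIsoToAddEquiv
    obtain ⟨E, _, _, f, hf⟩ := LC.exists_injectiveHull R (IsLocalRing.ResidueField R)
    obtain ⟨e⟩ := LC.exists_localDuality_gorenstein r (dim_closed hx) E hf (F.presheaf.stalk x) (r - i) i (by omega)
    refine a.toEquiv.subsingleton_congr.trans ((LC.subsingleton_iff_dual hf
      (Abelian.Ext (ModuleCat.of R (F.presheaf.stalk x)) (ModuleCat.of R R) (r - i))).symm.trans ?_)
    exact e.symm.toEquiv.subsingleton_congr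
  constructor
  · exact fun h x hc => (hx x hc).1 ((ExtShX.isZero_E_iff hF (om k r) (r - i)).1 h x)
  · intro h
    refine ExtShX.isZero_of_closedPoints (ExtShX.isCoh_E hF (isCoh_om k r) (r - i)) fun x hc => ?_
    obtain ⟨e⟩ := ExtShX.exists_stalk_ext hF (om k r) x (r - i)
    haveI := (hx x hc).2 (h x hc)
    exact e.toEquiv.subsingleton

/-- (i)⇔(iii): Let k be a field, X = P^r_k, F a coherent O_X-module and i ≥ 0. Then H^i(X, F(−m))
vanishes for all sufficiently large m if and only if for every closed point x of X the local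
cohomology H^i of the stalk F_x, with support in the maximal ideal of O_{X,x}, vanishes. -/
theorem result (k : Type u) [Field k] (r : ℕ) (F : (CohB1.ProjSpace r k).Modules) (hF : Coh.IsCoh F) (i : ℕ) : (∃ m₀ : ℤ, ∀ m : ℤ, m₀ ≤ m → Subsingleton (Coh.HH (CohB1.ProjSpace r k) (Twist.twistBy _ F (-m)) i)) ↔ ∀ x : (CohB1.ProjSpace r k), IsClosed ({x} : Set (CohB1.ProjSpace r k)) → Subsingleton (LocCoh.H (IsLocalRing.maximalIdeal ((CohB1.ProjSpace r k).presheaf.stalk x)) i (F.presheaf.stalk x)) := by
  refine Iff.trans ?_ (aux (k := k) (r := r) hF i)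
  constructor
  · rintro ⟨m₀, h⟩
    refine ⟨-m₀, fun d hd => ?_⟩
    have h' := h (-d) (by omega)
    rw [neg_neg] at h'
    exact h'
  · rintro ⟨m₀, h⟩
    exact ⟨-m₀, fun m hm => h (-m) (by omega)⟩

end Groth.Agent.S2927
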