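import Groth.Statements.S2928
import Groth.Agent.PnVan.Depth
import Groth.Agent.CurveCohLib.Proper
import Groth.Agent.Lib.Euler

set_option autoImplicit false
universe u
open CategoryTheory AlgebraicGeometry
open ProjDual

namespace Groth.Agent.S2928

open Groth.Agent.PnVan

theorem negVan_iff (k : Type u) [Field k] (r : ℕ) (F : (CohB1.ProjSpace r k).Modules) (n : ℕ) :
    (∃ m₀ : ℤ, ∀ m : ℤ, m₀ ≤ m → ∀ i : ℕ, i ≤ n →
      Subsingleton (Coh.HH (CohB1.ProjSpace r k) (Twist.twistBy _ F (-m)) i)) ↔
    ∀ i, i ≤ n → NegVan (k := k) (r := r) F i := by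
  classical
  constructor
  · rintro ⟨m₀, h⟩ i hi
    refine ⟨-m₀, fun d hd => ?_⟩
    have h' := h (-d) (by omega) i hi
    rw [neg_neg] at h'
    exact h'
  · intro h
    choose a ha using h
    refine ⟨∑ i : Fin (n + 1), |a i (Nat.le_of_lt_succ i.2)|, fun m hm i hi => ha i hi (-m) ?_⟩
    have h1 : |a i hi| ≤ ∑ j : Fin (n + 1), |a j (Nat.le_of_lt_succ j.2)| :=
      Finset.single_le_sum (f := fun j : Fin (n + 1) => |a j (Nat.le_of_lt_succ j.2)|) (fun j _ => abs_nonneg _)
        (Finset.mem_univ ⟨i, Nat.lt_succ_of_le hi⟩)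
    have h2 := neg_abs_le (a i hi)
    omega

theorem aux {k : Type u} [Field k] {r : ℕ} (F : (P k r).Modules) (hF : Coh.IsCoh F) (n : ℕ) :
    (∀ i, i ≤ n → NegVan F i) ↔ ∀ x : P k r, IsClosed ({x} : Set (P k r)) →
      (n : ℕ∞) < LocCoh.depth ((P k r).presheaf.stalk x) (F.presheaf.stalk x) := by
  rcases Nat.lt_or_ge n r with hn | hn
  · obtain ⟨j, hj⟩ : ∃ j, n + 1 + j = r := ⟨r - (n + 1), by omega⟩
    constructor
    · exact fun h x hx => (depth_gt_iff hF hx hj).2
        ((pdC_iff_negVan j (by omega) hF).2 (fun i hi => h i (by omega)) x hx)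
    · exact fun h i hi => (pdC_iff_negVan j (by omega) hF).1 (fun x hx => (depth_gt_iff hF hx hj).1 (h x hx)) i (by omega)
  · constructor
    · intro h x hx
      have hz : Limits.IsZero (C := (P k r).Modules) F := isZero_of_negVan (k := k) hF fun i hi => h i (hi.trans hn)
      haveI : Subsingleton (F.presheaf.stalk x) :=
        AddCommGrpCat.subsingleton_of_isZero (Functor.map_isZero (KFlatLib.stalkAb (X := P k r) x) hz)
      exact lt_of_lt_of_le (Nat.cast_lt.2 n.lt_succ_self)
        (natCast_le_depth_of_subsingleton ((P k r).presheaf.stalk x) (F.presheaf.stalk x) (n + 1))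
    · intro h i hi
      have hclosed : ∀ x : P k r, IsClosed ({x} : Set (P k r)) → Subsingleton (F.presheaf.stalk x) := fun x hx => by
        by_contra hs
        haveI := not_subsingleton_iff_nontrivial.1 hs
        haveI := finite_stalk (F := F) hF x
        have h1 := LC.depth_le_supportDim (R := (P k r).presheaf.stalk x) (M := F.presheaf.stalk x)
        have h2 := h1.trans ((Module.supportDim_le_ringKrullDim _ _).trans_eq (dim_closed hx))
        have h3 : LocCoh.depth ((P k r).presheaf.stalk x) (F.presheaf.stalk x) ≤ (n : ℕ∞) :=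
          le_trans (by exact_mod_cast h2) (Nat.cast_le.2 hn)
        exact absurd (h x hx) (not_lt.2 h3)
      have hall : ∀ x : P k r, Subsingleton (F.presheaf.stalk x) := fun x => by
        by_contra hx
        obtain ⟨y, hy, hyc⟩ := exists_closed_point (QCoh.isClosed_support_of_isFT hF.1 hF.2) ⟨x, hx⟩
        exact hy (hclosed y hyc)
      have hz : Limits.IsZero (C := (P k r).Modules) F := CurveCohLib.isZero_of_subsingleton_stalks hall
      exact ⟨0, fun d _ => Euler.subsingleton_HH_of_isZero (Functor.map_isZero (tw d) hz) i⟩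

/-- (i)⇔(ii): Let k be a field, X = P^r_k, F a coherent O_X-module and n ≥ 0. Then H^i(X, F(−m)) = 0 for
all i ≤ n and all sufficiently large m if and only if at every closed point x of X the stalk F_x has
depth greater than n over O_{X,x}. -/
theorem result (k : Type u) [Field k] (r : ℕ) (F : (CohB1.ProjSpace r k).Modules) (hF : Coh.IsCoh F) (n : ℕ) : (∃ m₀ : ℤ, ∀ m : ℤ, m₀ ≤ m → ∀ i : ℕ, i ≤ n → Subsingleton (Coh.HH (CohB1.ProjSpace r k) (Twist.twistBy _ F (-m)) i)) ↔ ∀ x : (CohB1.ProjSpace r k), IsClosed ({x} : Set (CohB1.ProjSpace r k)) → (n : ℕ∞) < LocCoh.depth ((CohB1.ProjSpace r k).presheaf.stalk x) (F.presheaf.stalk x) := by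
  exact (negVan_iff k r F n).trans (aux (k := k) (r := r) F hF n)

end Groth.Agent.S2928
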