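import Groth.Statements.S2929
import Groth.Agent.RGammaI.FiniteDegree
import Groth.Agent.LC.Finiteness
-- import your own Groth.Agent.* helpers here

set_option autoImplicit false
universe u
open LocCoh

namespace Groth.Agent.S2929

open IsLocalRing in
/-- Nonvanishing of `Ext^b` at a point gives nonvanishing of local cohomology there. -/
lemma nontrivial_H_of_mem_support_ext {S : Type u} [CommRing S] [IsRegularRing S] (M : Type u) [AddCommGroup M]
    [Module S M] [Module.Finite S M] (s : PrimeSpectrum S) (b j : ℕ)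
    (hs : s.asIdeal.height = ((j + b : ℕ) : ℕ∞))
    (hsupp : s ∈ Module.support S (CategoryTheory.Abelian.Ext (ModuleCat.of S M) (ModuleCat.of S S) b)) :
    ¬ Subsingleton (LocCoh.H (maximalIdeal (Localization.AtPrime s.asIdeal)) j
      (LocalizedModule s.asIdeal.primeCompl M)) := by
  intro h0
  let A := Localization.AtPrime s.asIdeal
  haveI := Groth.Agent.LC.gorenstein_of_isRegularLocalRing (R := A)
  haveI : IsNoetherianRing A := IsLocalization.isNoetherianRing s.asIdeal.primeCompl A inferInstance
  haveI : Module.Finite A (LocalizedModule s.asIdeal.primeCompl M) :=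
    Module.Finite.of_isLocalizedModule s.asIdeal.primeCompl (LocalizedModule.mkLinearMap _ _)
  have hd : ringKrullDim A = ((j + b : ℕ) : WithBot ℕ∞) := by
    rw [IsLocalization.AtPrime.ringKrullDim_eq_height s.asIdeal A, hs]
    rfl
  obtain ⟨E, _, _, f, hf⟩ := Groth.Agent.LC.exists_injectiveHull A (ResidueField A)
  obtain ⟨e⟩ := Groth.Agent.LC.exists_localDuality_gorenstein (j + b) hd E hf
    (LocalizedModule s.asIdeal.primeCompl M) b j rfl
  haveI : Subsingleton ((localCohomology (maximalIdeal A) j).obj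
    (ModuleCat.of A (LocalizedModule s.asIdeal.primeCompl M))) := h0
  haveI : Subsingleton (CategoryTheory.Abelian.Ext (ModuleCat.of A (LocalizedModule s.asIdeal.primeCompl M)) (ModuleCat.of A A) b) :=
    (Groth.Agent.LC.subsingleton_iff_dual hf _).1 e.symm.toEquiv.subsingleton
  obtain ⟨l⟩ := Groth.Agent.LC.exists_extLoc (R := S) (N := S) s.asIdeal.primeCompl b M
  rw [Module.mem_support_iff] at hsupp
  haveI := hsupp
  haveI := l.symm.toEquiv.nontrivial
  refine not_subsingleton (CategoryTheory.Abelian.Ext (ModuleCat.of A (LocalizedModule s.asIdeal.primeCompl M))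
    (ModuleCat.of A (LocalizedModule s.asIdeal.primeCompl S)) b) ?_
  refine subsingleton_of_forall_eq 0 fun x => ?_
  let c := (Groth.Agent.LC.selfLoc s.asIdeal.primeCompl).toModuleIso
  have h1 : x.comp (CategoryTheory.Abelian.Ext.mk₀ c.hom) (add_zero b) = 0 := Subsingleton.elim _ _
  rw [← CategoryTheory.Abelian.Ext.comp_mk₀_id x, ← c.hom_inv_id, ← CategoryTheory.Abelian.Ext.mk₀_comp_mk₀,
    ← CategoryTheory.Abelian.Ext.comp_assoc _ _ _ (add_zero b) (add_zero 0) (by omega), h1, CategoryTheory.Abelian.Ext.zero_comp]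

/-- Let A be a Noetherian ring which is a quotient of a regular ring, I an ideal, M a finite A-module
and i ≥ 0. For a prime p write c(p) for the codimension of V(p) ∩ V(I) in V(p). Suppose that for
every prime p not containing I with c(p) finite, the local cohomology H^{i−c(p)} of M_p with support
in the maximal ideal of A_p vanishes (no condition when c(p) > i). Then the local cohomology module
H^i_I(M) is a finite A-module. -/
theorem result (R : Type u) [CommRing R] [IsRegularRing R] (A : Type u) [CommRing A] [IsNoetherianRing A] (π : R →+* A) (hπ : Function.Surjective π) (I : Ideal A) (M : Type u) [AddCommGroup M] [Module A M] [Module.Finite A M] (i : ℕ) (h : ∀ p : PrimeSpectrum A, ¬ I ≤ p.asIdeal → ∀ (c j : ℕ), SGA2.relCodim I p = c → j + c = i → Subsingleton (LocCoh.H (IsLocalRing.maximalIdeal (Localization.AtPrime p.asIdeal)) j (LocalizedModule p.asIdeal.primeCompl M))) : Module.Finite A (LocCoh.H I i M) := by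
  letI : Algebra R A := π.toAlgebra
  letI : Module R M := Module.compHom M π
  haveI : IsScalarTower R A M := IsScalarTower.of_algebraMap_smul fun _ _ => rfl
  have hs : Function.Surjective (algebraMap R A) := hπ
  haveI : Module.Finite R A := Module.Finite.of_surjective (Algebra.linearMap R A) hs
  haveI : Module.Finite R M := Module.Finite.trans A M
  rcases Nat.eq_zero_or_pos i with rfl | hi
  · exact Groth.Agent.LC.finite_H0 I M
  let J : Ideal R := I.comap (algebraMap R A)
  have hJ : J.map (algebraMap R A) = I := Ideal.map_comap_of_surjective _ hs I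
  obtain ⟨φ, hφ⟩ : ∃ φ : LocCoh.H I i M ≃+ LocCoh.H J i M, ∀ (r : R) x, φ (algebraMap R A r • x) = r • φ x := by
    rw [← hJ]
    exact Groth.Agent.LC.exists_indep (R := R) (R' := A) J i M
  haveI := Groth.Agent.KFlatLib.hasLTen R
  haveI := Groth.Agent.KFlatLib.hasRHom (A := R)
  haveI := Groth.Agent.KFlatLib.hasLTen₃ R
  haveI := Groth.Agent.KFlatLib.isSymMonoidal R
  have key : Module.Finite R (LocCoh.H J i M) := by
    refine Groth.Agent.RGammaI.FiniteDegree.finite_H_of_ext_support J M i fun b q Q hq hJq hqQ hJQ hht => ?_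
    obtain ⟨s, ⟨hqs, hsQ, hJs⟩, hmax⟩ :=
      (InvImage.wf PrimeSpectrum.asIdeal (wellFounded_gt (α := Ideal R))).has_min
        {t : PrimeSpectrum R | q ≤ t ∧ t < Q ∧ ¬ J ≤ t.asIdeal}
        ⟨q, le_rfl, lt_of_le_of_ne hqQ (fun h => hJq (h ▸ hJQ)), hJq⟩
    have hsQ' : s.asIdeal < Q.asIdeal := hsQ
    have h1 : (Q.asIdeal.map (Ideal.Quotient.mk s.asIdeal)).height = 1 := by
      refine le_antisymm ?_ (Groth.Agent.LC.one_le_height_map_mk s.asIdeal Q.asIdeal hsQ')
      by_contra hc
      obtain ⟨c, hc', hcs⟩ := SetLike.not_le_iff_exists.1 hJs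
      obtain ⟨w, hw, hsw, hwQ, hcw⟩ := Groth.Agent.LC.exists_prime_between s.asIdeal Q.asIdeal hsQ' (not_le.1 hc)
        (hJQ hc') hcs
      exact hmax ⟨w, hw⟩ ⟨hqs.trans (show s.asIdeal ≤ w from hsw.le), hwQ, fun h => hcw (h hc')⟩ hsw
    have hcov : s ⋖ Q := ⟨hsQ, fun t hst htQ => by
      have h2 := le_trans (add_le_add (Groth.Agent.LC.one_le_height_map_mk s.asIdeal t.asIdeal hst)
        (Groth.Agent.LC.one_le_height_map_mk t.asIdeal Q.asIdeal htQ))
        (Groth.Agent.LC.height_map_mk_add_le s.asIdeal t.asIdeal Q.asIdeal hst.le htQ.le)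
      rw [h1] at h2
      norm_num at h2⟩
    have hsupp := Module.mem_support_mono hqs hq
    have hker : RingHom.ker (algebraMap R A) ≤ s.asIdeal := fun r hr => by
      refine Module.annihilator_le_of_mem_support hsupp (Module.mem_annihilator.2 fun x => ?_)
      have h0 : r • CategoryTheory.CategoryStruct.id (ModuleCat.of R M) = 0 := ModuleCat.hom_ext (LinearMap.ext fun m => by
        show algebraMap R A r • m = 0
        rw [RingHom.mem_ker.1 hr, zero_smul])
      rw [← CategoryTheory.Abelian.Ext.mk₀_id_comp x, ← CategoryTheory.Abelian.Ext.smul_comp, ← CategoryTheory.Abelian.Ext.mk₀_smul, h0,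
        CategoryTheory.Abelian.Ext.mk₀_zero, CategoryTheory.Abelian.Ext.zero_comp]
    let P : PrimeSpectrum R → Ideal A := fun t => t.asIdeal.map (algebraMap R A)
    have hP : ∀ t : PrimeSpectrum R, RingHom.ker (algebraMap R A) ≤ t.asIdeal →
        (P t).IsPrime ∧ (P t).comap (algebraMap R A) = t.asIdeal := fun t ht =>
      ⟨Ideal.map_isPrime_of_surjective hs ht, by
        rw [Ideal.comap_map_of_surjective _ hs]
        exact sup_eq_left.2 (by rwa [← RingHom.ker_eq_comap_bot])⟩
    obtain ⟨hsp, hsc⟩ := hP s hker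
    obtain ⟨hQp, hQc⟩ := hP Q (hker.trans hsQ'.le)
    let s' : PrimeSpectrum A := ⟨P s, hsp⟩
    let Q' : PrimeSpectrum A := ⟨P Q, hQp⟩
    have hIs : ¬ I ≤ s'.asIdeal := fun h => hJs (le_of_le_of_eq (Ideal.comap_mono h) hsc)
    have hc1 : SGA2.relCodim I s' = 1 := by
      refine (Groth.Agent.LC.covBy_iff_relCodim I s' hIs).1 ⟨Q', ?_, ⟨?_, fun t ht1 ht2 => ?_⟩⟩
      · show I ≤ P Q
        rw [← hJ]
        exact Ideal.map_mono hJQ
      · refine lt_of_le_of_ne (show P s ≤ P Q from Ideal.map_mono hsQ'.le) fun h => hsQ'.ne ?_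
        rw [← hsc, ← hQc]
        exact congrArg (fun t : PrimeSpectrum A => t.asIdeal.comap (algebraMap R A)) h
      · have hlt : ∀ {u v : PrimeSpectrum A}, u < v →
            u.asIdeal.comap (algebraMap R A) < v.asIdeal.comap (algebraMap R A) := fun {u v} huv =>
          lt_of_le_of_ne (Ideal.comap_mono huv.le) fun h => huv.ne (PrimeSpectrum.ext
            (Ideal.comap_injective_of_surjective _ hs h))
        have a1 : s.asIdeal < t.asIdeal.comap (algebraMap R A) := hsc ▸ hlt ht1
        have a2 : t.asIdeal.comap (algebraMap R A) < Q.asIdeal := hQc ▸ hlt ht2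
        exact hcov.2 (c := ⟨t.asIdeal.comap (algebraMap R A), inferInstance⟩) a1 a2
    have hsum := Groth.Agent.LC.height_add_height_quotient_eq s.asIdeal Q.asIdeal hsQ'.le
    rw [h1, hht] at hsum
    obtain ⟨m, hm⟩ := ENat.ne_top_iff_exists.1 (Ideal.height_ne_top (I := s.asIdeal) s.isPrime.ne_top)
    rw [← hm] at hsum
    have hm' : m + 1 = i + b := by exact_mod_cast hsum
    have hvan := h s' hIs 1 (i - 1) hc1 (by omega)
    haveI : Module.Finite A M := inferInstance
    have hR := (Groth.Agent.LC.subsingleton_H_localized_comap (M := M) hs (P s) (i - 1)).2 hvan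
    have hne := nontrivial_H_of_mem_support_ext M s b (i - 1) (by rw [← hm]; congr 1; omega) hsupp
    refine hne ?_
    have key : ∀ (t : Ideal R) [t.IsPrime], (P s).comap (algebraMap R A) = t →
        Subsingleton (LocCoh.H (IsLocalRing.maximalIdeal (Localization.AtPrime t)) (i - 1)
          (LocalizedModule t.primeCompl M)) := by
      intro t _ ht
      subst ht
      exact hR
    exact key s.asIdeal hsc
  obtain ⟨t, ht⟩ := key.fg_top
  classical
  refine ⟨⟨t.image φ.symm, top_unique fun x _ => ?_⟩⟩
  have : φ x ∈ Submodule.span R (t : Set (LocCoh.H J i M)) := ht ▸ Submodule.mem_top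
  obtain ⟨c, hc⟩ := Submodule.mem_span_finset'.1 this
  rw [← φ.symm_apply_apply x, ← hc, map_sum]
  refine Submodule.sum_mem _ fun z _ => ?_
  rw [show c z • (z : LocCoh.H J i M) = φ (algebraMap R A (c z) • φ.symm z) by rw [hφ, φ.apply_symm_apply],
    φ.symm_apply_apply]
  exact Submodule.smul_mem _ _ (Submodule.subset_span (Finset.mem_image_of_mem _ z.2))


end Groth.Agent.S2929
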