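import Groth.Statements.S2933
import Groth.Agent.RGammaI.DepthTwoConn

set_option autoImplicit false
universe u
open LocCoh

namespace Groth.Agent.S2933

/-- Let A be a Noetherian ring with connected spectrum and d ≥ 1 an integer such that every prime p with
dim A_p ≥ d has depth A_p ≥ 2. Then for any two minimal primes p', p'' of A there is a finite
sequence of minimal primes starting at p' and ending at p'' such that any two consecutive members
are both contained in some prime of height at most d − 1 (Spec A is connected in codimension d − 1). -/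
theorem result (A : Type u) [CommRing A] [IsNoetherianRing A] [ConnectedSpace (PrimeSpectrum A)] (d : ℕ) (hd : 1 ≤ d) (h : ∀ p : PrimeSpectrum A, (d : ℕ∞) ≤ p.asIdeal.height → (2 : ℕ∞) ≤ LocCoh.depth (Localization.AtPrime p.asIdeal) (Localization.AtPrime p.asIdeal)) (p' p'' : PrimeSpectrum A) (hp' : p'.asIdeal ∈ minimalPrimes A) (hp'' : p''.asIdeal ∈ minimalPrimes A) : ∃ l : List (PrimeSpectrum A), l.head? = some p' ∧ l.getLast? = some p'' ∧ (∀ p ∈ l, p.asIdeal ∈ minimalPrimes A) ∧ List.IsChain (fun p q => ∃ r : PrimeSpectrum A, p ≤ r ∧ q ≤ r ∧ r.asIdeal.height ≤ (d - 1 : ℕ)) l := by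
  classical
  let M := {p : PrimeSpectrum A // p.asIdeal ∈ minimalPrimes A}
  let R : M → M → Prop := fun p q => ∃ r : PrimeSpectrum A, p.1 ≤ r ∧ q.1 ≤ r ∧ r.asIdeal.height ≤ (d - 1 : ℕ)
  suffices hreach : Relation.ReflTransGen R ⟨p', hp'⟩ ⟨p'', hp''⟩ by
    obtain ⟨l, hl, hlast⟩ := List.exists_isChain_cons_of_relationReflTransGen hreach
    refine ⟨(⟨p', hp'⟩ :: l : List M).map Subtype.val, by simp, ?_, ?_, ?_⟩
    · rw [List.getLast?_map, List.getLast?_eq_getLast_of_ne_nil (List.cons_ne_nil _ _), hlast]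
      rfl
    · intro p hp
      obtain ⟨q, -, rfl⟩ := List.mem_map.1 hp
      exact q.2
    · rw [List.isChain_map]
      exact hl
  by_contra hno
  let S : Set (Ideal A) := {q | ∃ m : M, Relation.ReflTransGen R ⟨p', hp'⟩ m ∧ m.1.asIdeal = q}
  let S' : Set (Ideal A) := {q | ∃ m : M, ¬ Relation.ReflTransGen R ⟨p', hp'⟩ m ∧ m.1.asIdeal = q}
  have hfin := minimalPrimes.finite_of_isNoetherianRing A
  obtain ⟨J, hJ, hJ'⟩ := Groth.Agent.RGammaI.exists_ideal_of_finite_primes S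
    (hfin.subset fun q ⟨m, _, h⟩ => h ▸ m.2)
  obtain ⟨J₂, hJ₂, hJ₂'⟩ := Groth.Agent.RGammaI.exists_ideal_of_finite_primes S'
    (hfin.subset fun q ⟨m, _, h⟩ => h ▸ m.2)
  have hcov : ∀ q : PrimeSpectrum A, J ≤ q.asIdeal ∨ J₂ ≤ q.asIdeal := fun q => by
    obtain ⟨m, hm, hmq⟩ := Ideal.exists_minimalPrimes_le (bot_le : (⊥ : Ideal A) ≤ q.asIdeal)
    let mm : M := ⟨⟨m, hm.1.1⟩, hm⟩
    by_cases hr : Relation.ReflTransGen R ⟨p', hp'⟩ mm
    · exact Or.inl ((hJ _ ⟨mm, hr, rfl⟩).trans hmq)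
    · exact Or.inr ((hJ₂ _ ⟨mm, hr, rfl⟩).trans hmq)
  have hne : J ⊔ J₂ ≠ ⊤ := fun htop => by
    have hc := (isPreconnected_closed_iff.1 (PreconnectedSpace.isPreconnected_univ (α := PrimeSpectrum A)))
      (PrimeSpectrum.zeroLocus (J : Set A)) (PrimeSpectrum.zeroLocus (J₂ : Set A))
      (PrimeSpectrum.isClosed_zeroLocus _) (PrimeSpectrum.isClosed_zeroLocus _)
      (fun q _ => hcov q) ⟨p', trivial, hJ _ ⟨⟨p', hp'⟩, Relation.ReflTransGen.refl, rfl⟩⟩
      ⟨p'', trivial, hJ₂ _ ⟨⟨p'', hp''⟩, hno, rfl⟩⟩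
    obtain ⟨q, -, h1, h2⟩ := hc
    exact q.2.ne_top (top_le_iff.1 (htop ▸ sup_le h1 h2))
  obtain ⟨Q, hQ, hQle⟩ := Ideal.exists_le_maximal _ hne
  obtain ⟨P, hP, hPQ⟩ := Ideal.exists_minimalPrimes_le hQle (J := Q)
  haveI : P.IsPrime := hP.1.1
  -- no point of small height lies on both sides
  have hsep : ∀ r : PrimeSpectrum A, J ≤ r.asIdeal → J₂ ≤ r.asIdeal → (d : ℕ∞) ≤ r.asIdeal.height := fun r h1 h2 => by
    obtain ⟨_, ⟨a, ha, rfl⟩, ha'⟩ := hJ' _ r.2 h1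
    obtain ⟨_, ⟨b, hb, rfl⟩, hb'⟩ := hJ₂' _ r.2 h2
    by_contra hlt
    rw [not_le] at hlt
    refine hb (ha.tail ⟨r, ha', hb', ?_⟩)
    obtain ⟨n, hn⟩ := ENat.ne_top_iff_exists.1 (ne_top_of_lt hlt)
    rw [← hn] at hlt ⊢
    have : n < d := by exact_mod_cast hlt
    exact_mod_cast (by omega : n ≤ d - 1)
  have hd2 := h ⟨P, inferInstance⟩ (hsep ⟨P, inferInstance⟩ (le_sup_left.trans hP.1.2) (le_sup_right.trans hP.1.2))
  obtain ⟨N, hN⟩ : IsNilpotent (J * J₂) := (Ideal.FG.isNilpotent_iff_le_nilradical (IsNoetherian.noetherian _)).2 (by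
    rw [nilradical_eq_sInf]
    refine le_sInf fun q hq => ?_
    rcases hcov ⟨q, hq⟩ with h1 | h1
    · exact Ideal.mul_le_left.trans h1
    · exact Ideal.mul_le_right.trans h1)
  let φ := algebraMap A (Localization.AtPrime P)
  have hab : (J ^ (N + 1)).map φ * (J₂ ^ (N + 1)).map φ = ⊥ := by
    rw [← Ideal.map_mul, ← mul_pow, pow_succ, hN, zero_mul, Ideal.zero_eq_bot, Ideal.map_bot]
  have hle : (J ^ (N + 1)).map φ ⊔ (J₂ ^ (N + 1)).map φ ≤ IsLocalRing.maximalIdeal _ := by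
    rw [← Localization.AtPrime.map_eq_maximalIdeal]
    exact sup_le (Ideal.map_mono ((Ideal.pow_le_self (by omega)).trans (le_sup_left.trans hP.1.2)))
      (Ideal.map_mono ((Ideal.pow_le_self (by omega)).trans (le_sup_right.trans hP.1.2)))
  have hrad : IsLocalRing.maximalIdeal (Localization.AtPrime P) ≤
      ((J ^ (N + 1)).map φ ⊔ (J₂ ^ (N + 1)).map φ).radical := by
    rw [Ideal.radical_eq_sInf]
    refine le_sInf fun q hq => ?_
    haveI := hq.2
    have hs : J ⊔ J₂ ≤ q.comap φ := sup_le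
      (Ideal.IsPrime.le_of_pow_le (Ideal.map_le_iff_le_comap.1 (le_sup_left.trans hq.1)))
      (Ideal.IsPrime.le_of_pow_le (Ideal.map_le_iff_le_comap.1 (le_sup_right.trans hq.1)))
    have hqP : q.comap φ ≤ P := fun x hx => by
      by_contra hxP
      exact hq.2.ne_top (Ideal.eq_top_of_isUnit_mem _ hx (IsLocalization.map_units _ (⟨x, hxP⟩ : P.primeCompl)))
    have hPq : P ≤ q.comap φ := hP.2 ⟨inferInstance, hs⟩ hqP
    rw [← Localization.AtPrime.map_eq_maximalIdeal]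
    exact Ideal.map_le_iff_le_comap.2 hPq
  -- one side is everything below `P`
  have key : ∀ K : Ideal A, (K ^ (N + 1)).map φ = ⊥ → ∀ q : PrimeSpectrum A, q.asIdeal ≤ P → K ≤ q.asIdeal := by
    intro K hK q hq
    refine Ideal.IsPrime.le_of_pow_le (n := N + 1) fun x hx => ?_
    obtain ⟨⟨c, hc⟩, hc0⟩ := (IsLocalization.map_eq_zero_iff P.primeCompl (Localization.AtPrime P) x).1
      ((Submodule.mem_bot _).1 (hK ▸ Ideal.mem_map_of_mem φ hx))
    exact (q.2.mem_or_mem (show c * x ∈ q.asIdeal by rw [hc0]; exact zero_mem _)).resolve_left fun h => hc (hq h)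
  rcases Groth.Agent.RGammaI.eq_bot_or_eq_bot_of_two_le_depth hd2 _ _ hab hle hrad with hK | hK
  · obtain ⟨_, ⟨b, hb, rfl⟩, hb'⟩ := hJ₂' P inferInstance (le_sup_right.trans hP.1.2)
    obtain ⟨_, ⟨a, ha, rfl⟩, ha'⟩ := hJ' _ b.1.2 (key J hK b.1 hb')
    exact hb ((Subtype.ext (PrimeSpectrum.ext (le_antisymm ha' (b.2.2 ⟨a.1.2, bot_le⟩ ha'))) : a = b) ▸ ha)
  · obtain ⟨_, ⟨a, ha, rfl⟩, ha'⟩ := hJ' P inferInstance (le_sup_left.trans hP.1.2)
    obtain ⟨_, ⟨b, hb, rfl⟩, hb'⟩ := hJ₂' _ a.1.2 (key J₂ hK a.1 ha')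
    exact hb ((Subtype.ext (PrimeSpectrum.ext (le_antisymm (a.2.2 ⟨b.1.2, bot_le⟩ hb') hb')) : a = b) ▸ ha)

end Groth.Agent.S2933
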