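import Groth.Statements.S2963
import Groth.Agent.SplitRootUnique.Main

set_option autoImplicit false
open CategoryTheory MonoidalCategory CartesianMonoidalCategory MonObj GrpObj AlgebraicGeometry
universe u
open RedX

namespace Groth.Agent.S2963

/-- With conjugacy of maximal tori over the algebraically closed base field carried as a hypothesis (the
published statement takes it as known): let k be an algebraically closed field and G a reductive
k-group in which any maximal torus is carried into any other by conjugation by some k-point of G.
Then the root data of any two splittings of G are isomorphic (an equivalence of root pairings in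
Mathlib's sense). -/
theorem result (k : Type u) [Field k] [IsAlgClosed k]
    (G : Over (Spec (CommRingCat.of k))) [GrpObj G] (hG : Red.IsReductive G)
    (hconj : ∀ (T T' : Over (Spec (CommRingCat.of k))) [GrpObj T] [GrpObj T'] (i : T ⟶ G) (i' : T' ⟶ G),
      Red.IsMaximalTorus i → Red.IsMaximalTorus i' → ∃ g : 𝟙_ (Over (Spec (CommRingCat.of k))) ⟶ G,
        ∀ (X : Over (Spec (CommRingCat.of k))) (t : X ⟶ T), ∃ t' : X ⟶ T',
          (toUnit X ≫ g) * (t ≫ i) * (toUnit X ≫ g)⁻¹ = t' ≫ i')
    (D D' : Red.SplitRed G) : Nonempty (RootPairing.Equiv D.P D'.P) := by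
  obtain ⟨g, hg⟩ := hconj D.T D'.T D.i D'.i D.maximalTorus D'.maximalTorus
  obtain ⟨g', hg'⟩ := hconj D'.T D.T D'.i D.i D'.maximalTorus D.maximalTorus
  obtain ⟨e, he, h⟩ := SplitRootUnique.exists_transport D D' g hg
  obtain ⟨e', he', -⟩ := SplitRootUnique.exists_transport D' D g' hg'
  have hb : Function.Bijective (e'.comp e).toIntLinearMap :=
    OrzechProperty.bijective_of_surjective_endomorphism _ (he'.comp he)
  have hei : Function.Injective e := fun x y hxy => hb.1 (congrArg e' hxy)
  exact SplitRootUnique.nonempty_equiv D D' g (AddEquiv.ofBijective e ⟨hei, he⟩) h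

end Groth.Agent.S2963
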