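import Groth.Statements.S2981
import Groth.Agent.MultTypeLib.Torsion
import Groth.Agent.TorsDense.Core
import Mathlib.RingTheory.Localization.Ideal


set_option autoImplicit false
universe u
open TensorProduct SGA3b
open SGA3b

namespace Groth.Agent.S2981

/-- Let G = Spec A be an R-group of multiplicative type and of finite type. Then the kernels ₙG of the
n-th power maps, n > 0, form a schematically dense family: over every basic open D(a) of G, the
intersection of the (extended) ideals of the ₙG is zero. (Affine group schemes over an affine base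
are taken in Hopf-algebra form; base change is the tensor product.) -/
theorem result (R : Type u) [CommRing R] (A : Type u) [CommRing A] [HopfAlgebra R A] (hft : Algebra.FiniteType R A) (h : IsMultType R A) :
    ∀ a : A, ⨅ n : {n : ℕ // 0 < n}, Ideal.map (algebraMap A (Localization.Away a)) (torsionIdeal R A n.1) = ⊥ := by
  intro a
  obtain ⟨c⟩ := Groth.Agent.MultTypeLib.exists_cover h
  rw [eq_bot_iff]
  intro x hx
  obtain ⟨f, s, rfl⟩ := IsLocalization.exists_mk'_eq (Submonoid.powers a) x
  rw [Ideal.mem_bot, IsLocalization.mk'_eq_zero_iff]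
  rw [Ideal.mem_iInf] at hx
  -- membership in every torsion ideal up to a power of `a`
  have hN : ∀ n : ℕ, 0 < n → ∃ N : ℕ, a ^ N * f ∈ torsionIdeal R A n := by
    intro n hn
    obtain ⟨t, ⟨N, rfl⟩, ht⟩ := (IsLocalization.mk'_mem_map_algebraMap_iff (Submonoid.powers a) (Localization.Away a) _ f s).mp (hx ⟨n, hn⟩)
    exact ⟨N, ht⟩
  have hC : ∀ i, ∃ C : ℕ, (c.split i).hom.toAlgHom (a ^ C * f) = 0 := by
    intro i
    let P := c.split i
    rcases subsingleton_or_nontrivial P.S with hs | hs
    · exact ⟨0, MonoidAlgebra.coeff_injective (Finsupp.ext fun m => Subsingleton.elim _ _)⟩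
    haveI : Algebra.FiniteType P.S (MonoidAlgebra P.S P.M) :=
      (inferInstance : Algebra.FiniteType P.S (P.S ⊗[R] A)).equiv P.equiv
    haveI : Monoid.FG P.M := MonoidAlgebra.fg_of_finiteType (R := P.S)
    haveI : Group.FG P.M := Group.fg_iff_monoid_fg.mpr inferInstance
    obtain ⟨C, hC⟩ := Groth.Agent.TorsDense.exists_pow_mul_eq_zero (P.hom.toAlgHom a) (P.hom.toAlgHom f) fun n hn => by
      obtain ⟨N, hN⟩ := hN n hn
      refine ⟨N, ?_⟩
      rw [← map_pow, ← map_mul]
      suffices hle : torsionIdeal R A n ≤ RingHom.ker ((Groth.Agent.TorsDense.proj P.S P.M n).comp P.hom.toAlgHom.toRingHom) from hle hN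
      rw [torsionIdeal, Ideal.map_le_iff_le_comap]
      intro b hb
      show Groth.Agent.TorsDense.proj P.S P.M n (P.hom.toAlgHom (powConv R A n b)) = 0
      rw [P.hom_powConv]
      have key : ∀ y : MonoidAlgebra P.S P.M, Groth.Agent.TorsDense.proj P.S P.M n (MonoidAlgebra.mapDomain (fun m : P.M => m ^ n) y) =
          MonoidAlgebra.single 1 (Coalgebra.counit (R := P.S) y) := by
        intro y
        induction y using MonoidAlgebra.induction_linear with
        | zero => simp
        | add y z hy hz => simp only [MonoidAlgebra.mapDomain_add, map_add, hy, hz, MonoidAlgebra.single_add]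
        | single m r =>
          rw [MonoidAlgebra.mapDomain_single]
          have h1 : QuotientGroup.mk' (powMonoidHom (α := P.M) n).range (m ^ n) = 1 :=
            (QuotientGroup.eq_one_iff _).mpr ⟨m, rfl⟩
          rw [map_pow, QuotientGroup.mk'_apply] at h1
          simp [Groth.Agent.TorsDense.proj, MonoidAlgebra.mapDomainRingHom, h1]
      rw [key, P.hom.counit_comp, show Coalgebra.counit (R := R) b = 0 from hb, map_zero, MonoidAlgebra.single_zero]
    exact ⟨C, by rwa [map_mul, map_pow]⟩
  choose C hC using hC
  haveI := Fintype.ofFinite c.ι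
  refine ⟨⟨a ^ Finset.univ.sup C, _, rfl⟩, c.eq_zero_of_hom _ fun i => ?_⟩
  obtain ⟨d, hd⟩ := Nat.exists_eq_add_of_le (Finset.le_sup (f := C) (Finset.mem_univ i))
  show (c.split i).hom.toAlgHom (a ^ Finset.univ.sup C * f) = 0
  rw [hd, pow_add, mul_comm (a ^ C i), mul_assoc, map_mul, hC i, mul_zero]

end Groth.Agent.S2981
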