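import Groth.Statements.S2989
import Groth.Agent.Deform.Luna.Reductive
import Groth.Agent.GrpSchLib.RankOneNonComm


set_option autoImplicit false
open CategoryTheory MonoidalCategory CartesianMonoidalCategory MonObj GrpObj AlgebraicGeometry
universe u
open Red

namespace Groth.Agent.S2989
attribute [local instance] CategoryTheory.Hom.monoid CategoryTheory.Hom.group
/-- First assertion (H¹(G, k) = 0 for k with trivial action). Let k be a field and G a reductive
k-group. Then every homomorphism of k-groups from G to the additive group is trivial. -/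
theorem result (k : Type u) [Field k] (G : Over (Spec (CommRingCat.of k))) [GrpObj G]
    (hG : Red.IsReductive G) (φ : G ⟶ Red.Ga (Spec (CommRingCat.of k))) [IsMonHom φ] :
    φ = toUnit G ≫ η[Red.Ga (Spec (CommRingCat.of k))] := by
  obtain ⟨hGa, hGs, hfib⟩ := hG
  let s₀ : ↥(Spec (CommRingCat.of k)) := IsLocalRing.closedPoint k
  let y := Red.geomPt s₀
  have hone : toUnit G ≫ η[Red.Ga (Spec (CommRingCat.of k))] = (1 : G ⟶ Red.Ga (Spec (CommRingCat.of k))) :=
    Hom.one_def.symm
  rw [hone]
  refine Deform.Borel.bc_map_injective y ?_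
  rw [Functor.map_one]
  haveI : IsAffine Red.GaZ.{u}.left := by show IsAffine (Spec _); infer_instance
  haveI : IsAffineHom Red.GaZ.{u}.hom := isAffineHom_of_isAffine _
  haveI : IsAffineHom (Red.Ga (Spec (CommRingCat.of k))).hom := by
    show IsAffineHom (Limits.pullback.snd _ _)
    exact MorphismProperty.pullback_snd _ _ inferInstance
  haveI : Smooth (Red.Ga (Spec (CommRingCat.of k))).hom := Agent.GrpSchLib.RankOne.smooth_ga _
  haveI : IsAffineHom (Red.bc y (Red.Ga (Spec (CommRingCat.of k)))).hom := by
    show IsAffineHom (Limits.pullback.snd _ y)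
    exact MorphismProperty.pullback_snd _ _ inferInstance
  haveI : IsAffine (Red.bc y (Red.Ga (Spec (CommRingCat.of k)))).left :=
    isAffine_of_isAffineHom (Red.bc y (Red.Ga (Spec (CommRingCat.of k)))).hom
  haveI : Smooth (Red.bc y (Red.Ga (Spec (CommRingCat.of k)))).hom := by
    show Smooth (Limits.pullback.snd _ y)
    exact MorphismProperty.pullback_snd _ _ inferInstance
  refine Deform.Luna.hom_reductive_trivial (hfib s₀) (fun X a b => ?_) (fun N hN x hx => ?_)
    ((Over.pullback y).map φ)
  · refine (DSPtsLib.theta_bijective y).injective ?_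
    rw [DSPtsLib.theta_mul, DSPtsLib.theta_mul]
    refine Agent.GrpSchLib.GaPts.gaFn_injective ?_
    show Red.gaFn (_ * _) = Red.gaFn (_ * _)
    rw [Agent.GrpSchLib.GaPts.gaFn_mul, Agent.GrpSchLib.GaPts.gaFn_mul, add_comm]
  · refine (DSPtsLib.theta_bijective y).injective ?_
    let Y : Over (Spec (CommRingCat.of k)) := (Over.map y).obj (𝟙_ _)
    have hpow : ∀ n : ℕ, Red.gaFn (DSPtsLib.theta y (x ^ n)) = n • Red.gaFn (DSPtsLib.theta y x) := by
      intro n
      induction n with
      | zero =>
        have h1 := congrArg Red.gaFn (DSPtsLib.theta_mul y (x ^ 0) (x ^ 0))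
        rw [← pow_add, Agent.GrpSchLib.GaPts.gaFn_mul] at h1
        rw [zero_nsmul]
        exact left_eq_add.mp h1
      | succ n ih =>
        rw [pow_succ]
        refine (congrArg Red.gaFn (DSPtsLib.theta_mul y (x ^ n) x)).trans ?_
        rw [Agent.GrpSchLib.GaPts.gaFn_mul, ih, succ_nsmul]
    have h0 := hpow 0
    have hN' := hpow N
    rw [hx] at hN'
    rw [pow_zero, zero_nsmul] at h0
    refine Agent.GrpSchLib.GaPts.gaFn_injective (h0.symm ▸ ?_ : Red.gaFn _ = Red.gaFn _)
    rw [h0, nsmul_eq_mul] at hN'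
    have hk : (N : k) ≠ 0 := fun h => hN (by
      obtain ⟨f, hf⟩ := Spec.map_surjective y
      rw [← map_natCast f.hom N, h, map_zero])
    have hu : IsUnit ((N : ℕ) : Agent.GrpSchLib.Kunneth.Fn Y) := by
      rw [← map_natCast (algebraMap k (Agent.GrpSchLib.Kunneth.Fn Y)) N]
      exact (IsUnit.mk0 _ hk).map _
    exact hu.mul_right_eq_zero.mp hN'.symm

end Groth.Agent.S2989
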