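import Groth.Statements.S5509
import Groth.Agent.SplitGrp.Psi
import Groth.Agent.Deform.DiagMaps

set_option autoImplicit false
open CategoryTheory MonoidalCategory CartesianMonoidalCategory MonObj GrpObj AlgebraicGeometry
universe u
open RedSub

namespace Groth.Agent.S5509
attribute [local instance] CategoryTheory.Hom.monoid CategoryTheory.Hom.group
open SplitGrp
open scoped LaurentPolynomial

theorem main {S : Scheme.{u}} {G : Over S} [GrpObj G] {E : Sys G} {lam : E.M →+ ℤ} {n m : ℕ} {e : Fin n → E.idx}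
    {e' : Fin m → E.idx} (h : IsFull lam e e') {B : Type u} [CommRing B] (s : Spec (CommRingCat.of B) ⟶ S)
    (v : Fin n → B) (t : pX s ⟶ Red.DS S E.M) (w : Fin m → B)
    (hnorm : ∃ t' : pX (laurS s) ⟶ Red.DS S E.M,
      (baseL s ≫ cellPt E (fun l => sec s (v l)) t (fun l => sec s (w l)) ≫ E.cell e e') * (zt s E lam ≫ E.j) *
        (baseL s ≫ cellPt E (fun l => sec s (v l)) t (fun l => sec s (w l)) ≫ E.cell e e')⁻¹ = t' ≫ E.j) :
    cellPt E (fun l => sec s (v l)) t (fun l => sec s (w l)) ≫ E.cell e e' = t ≫ E.j := by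
  obtain ⟨t', ht'⟩ := hnorm
  haveI := h.mono
  set z := zt s E lam
  have hg : baseL s ≫ cellPt E (fun l => sec s (v l)) t (fun l => sec s (w l)) ≫ E.cell e e' =
      cellPt E (fun l => sec (laurS s) (LaurentPolynomial.C (v l))) (baseL s ≫ t)
        (fun l => sec (laurS s) (LaurentPolynomial.C (w l))) ≫ E.cell e e' := by
    rw [cellPt_cell, cellPt_cell, MonObj.comp_mul, MonObj.comp_mul, Category.assoc, baseL, comp_Prod_sec, comp_Prod_sec]
  rw [hg, mul_inv_eq_iff_eq_mul] at ht'
  have h1 : ∀ (a : Fin n → Γ((pX (laurS s)).left, ⊤)) (b : Fin m → Γ((pX (laurS s)).left, ⊤))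
      (u r : pX (laurS s) ⟶ Red.DS S E.M),
      (cellPt E a u b ≫ E.cell e e') * (r ≫ E.j) =
        cellPt E a (u * r) (fun l => Red.gmFn (r⁻¹ ≫ Red.chi S (E.r (e' l))) * b l) ≫ E.cell e e' := fun a b u r => by
    rw [cellPt_cell, cellPt_cell, ← conj_Prod, GrpObj.inv_comp, MonObj.mul_comp]
    group
  have h2 : ∀ (a : Fin n → Γ((pX (laurS s)).left, ⊤)) (b : Fin m → Γ((pX (laurS s)).left, ⊤))
      (u r : pX (laurS s) ⟶ Red.DS S E.M),
      (r ≫ E.j) * (cellPt E a u b ≫ E.cell e e') =
        cellPt E (fun l => Red.gmFn (r ≫ Red.chi S (E.r (e l))) * a l) (r * u) b ≫ E.cell e e' := fun a b u r => by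
    rw [cellPt_cell, cellPt_cell, ← conj_Prod, MonObj.mul_comp]
    group
  rw [h1, h2] at ht'
  have h3 := (cancel_mono (E.cell e e')).1 ht'
  have ht : t' = z := by
    have := congrArg (fun c : pX (laurS s) ⟶ cellOb E n m => c ≫ snd _ _ ≫ fst _ _) h3
    simp only [cellPt, lift_snd_assoc, lift_fst] at this
    rw [comm_DS E _ z] at this
    have h4 := congrArg (· * (baseL s ≫ t)⁻¹) this
    exact ((mul_inv_cancel_right t' (baseL s ≫ t)).symm.trans (h4.symm.trans (mul_inv_cancel_right z (baseL s ≫ t))))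
  subst ht
  have hv : v = 0 := funext fun l => by
    have := congrArg (fun c : pX (laurS s) ⟶ cellOb E n m => coord (c ≫ fst _ _) l) h3
    simp only [cellPt, lift_fst, coord_ofCoord, z, zt, gmFn_tpt] at this
    simp only [sec, ← map_mul] at this
    have h4 := congrArg (fun p : B[T;T⁻¹] => p.coeff (0 : ℤ)) ((sec_bijective (laurS s)).injective this)
    have hne := (h.neg l).ne
    simp [zchar, ← LaurentPolynomial.single_eq_C_mul_T, LaurentPolynomial.C_apply, mul_comm (LaurentPolynomial.T _),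
      Finsupp.single_apply, hne] at h4
    exact h4
  have hw : w = 0 := funext fun l => by
    have := congrArg (fun c : pX (laurS s) ⟶ cellOb E n m => coord (c ≫ snd _ _ ≫ snd _ _) l) h3
    simp only [cellPt, lift_snd_assoc, lift_snd, coord_ofCoord] at this
    have h5 : Red.gmFn (z ≫ Red.chi S (E.r (e' l))) * Red.gmFn (z⁻¹ ≫ Red.chi S (E.r (e' l))) = 1 := by
      haveI : IsMonHom (Red.chi S (E.r (e' l))) := Deform.DiagMaps.isMonHom_DSmap _
      rw [← GmPts.gmFn_mul, ← MonObj.mul_comp, mul_inv_cancel, MonObj.one_comp, GmPts.gmFn_one]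
    have h6 := congrArg (Red.gmFn (z ≫ Red.chi S (E.r (e' l))) * ·) this
    simp only [← _root_.mul_assoc, h5, _root_.one_mul] at h6
    simp only [z, zt, gmFn_tpt] at h6
    simp only [sec, ← map_mul] at h6
    have h4 := congrArg (fun p : B[T;T⁻¹] => p.coeff (0 : ℤ)) ((sec_bijective (laurS s)).injective h6)
    have hne := (h.pos l).ne'
    simp [zchar, ← LaurentPolynomial.single_eq_C_mul_T, LaurentPolynomial.C_apply, mul_comm (LaurentPolynomial.T _),
      Finsupp.single_apply, hne] at h4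
    exact h4
  have h7 : ∀ {k : ℕ}, (fun l => sec s ((0 : Fin k → B) l)) = fun _ => 0 := fun {k} => funext fun _ => map_zero _
  rw [hv, hw, h7, h7, cellPt_cell, Prod_zero, Prod_zero, _root_.one_mul, _root_.mul_one]

/-- Let G be a split reductive S-group (splitting D), b a system of simple roots with enumerations of
the negative and positive roots, and x a point (with values in some X) of the big cell G_a^{R_-} x_S
T x_S G_a^{R_+}. If the image g of x in G satisfies g t g⁻¹ ∈ T for every point t of T (after every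
base change), then g lies in T: g is the image of the T-component of x (so the two unipotent
components of x are trivial). In other words the big cell meets the normaliser of T in T. -/
theorem result {S : Scheme.{u}} {G : Over S} [GrpObj G] (D : Red.SplitRed G)
    (b : D.P.Base) {n m : ℕ} (eneg : Fin n → D.idx) (epos : Fin m → D.idx)
    (hneg : RedSub.Enumerates (RedSub.negRoots D.P b) eneg) (hpos : RedSub.Enumerates (RedSub.posRoots D.P b) epos)
    (X : Over S) (x : X ⟶ RedSub.pow (Red.Ga S) n ⊗ (D.T ⊗ RedSub.pow (Red.Ga S) m))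
    (hnorm : ∀ (X' : Over S) (y : X' ⟶ X) (t : X' ⟶ D.T), ∃ t' : X' ⟶ D.T,
      (y ≫ x ≫ RedSub.cellMap D eneg epos) * (t ≫ D.i) * (y ≫ x ≫ RedSub.cellMap D eneg epos)⁻¹ = t' ≫ D.i) :
    x ≫ RedSub.cellMap D eneg epos = (x ≫ snd _ _ ≫ fst _ _) ≫ D.i := by
  classical
  obtain ⟨lam, hlam⟩ := exists_isFull_of_base D b
  have h := hlam n m eneg epos hneg hpos
  have h0 : D.split.hom.hom.hom ≫ (ofSplit D).j = D.i := by simpa using split_comp_j D (𝟙 D.T)
  refine hom_ext_rings fun B _ s y => ?_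
  obtain ⟨v, t, w, hx⟩ := exists_cellPt (ofSplit D) (y ≫ x ≫ (cellIso D n m).hom)
  obtain ⟨v₀, hv⟩ := exists_sec s v
  obtain ⟨w₀, hw⟩ := exists_sec s w
  subst hv hw
  have hg : y ≫ x ≫ RedSub.cellMap D eneg epos =
      cellPt (ofSplit D) (fun l => sec s (v₀ l)) t (fun l => sec s (w₀ l)) ≫ (ofSplit D).cell eneg epos := by
    rw [← hx, cellMap_eq, Category.assoc, Category.assoc]
  have hm := main h s v₀ t w₀ (by
    obtain ⟨t', ht'⟩ := hnorm (pX (laurS s)) (baseL s ≫ y) (zt s (ofSplit D) lam ≫ D.split.inv.hom.hom)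
    refine ⟨t' ≫ D.split.hom.hom.hom, ?_⟩
    rw [← hg]
    refine Eq.trans ?_ (ht'.trans ((congrArg (t' ≫ ·) h0).symm.trans (Category.assoc _ _ _).symm))
    rw [Category.assoc (baseL s)]
    rfl)
  rw [hg, hm]
  have h1 := congrArg (fun c : pX s ⟶ cellOb (ofSplit D) n m => c ≫ snd _ _ ≫ fst _ _) hx
  simp only [cellPt, lift_snd_assoc, lift_fst] at h1
  rw [← h1, ← h0]
  simp only [cellIso, whiskerLeftIso_hom, whiskerRightIso_hom, Category.assoc]
  erw [whiskerLeft_snd_assoc, whiskerRight_fst_assoc]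
  rfl

end Groth.Agent.S5509
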