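import Groth.Statements.S2990
import Groth.Agent.SplitGrp.BorelFibre
import Groth.Agent.SplitGrp.Reduced
import Groth.Agent.S5509
import Groth.Agent.Deform.SubtorusJoin

set_option autoImplicit false
open CategoryTheory MonoidalCategory CartesianMonoidalCategory MonObj GrpObj AlgebraicGeometry
universe u
open Red

namespace Groth.Agent.S2990
attribute [local instance] CategoryTheory.Hom.monoid CategoryTheory.Hom.group
open SplitGrp
open scoped Polynomial LaurentPolynomial

theorem chi_add {S : Scheme.{u}} {M : Type} [AddCommGroup M] (x y : M) :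
    Red.chi S (x + y) = Red.chi S x * Red.chi S y := by
  rw [Red.chi, Red.chi, Red.chi, Deform.SubtorusJoin.DSmap_mul]
  congr 1
  exact AddMonoidHom.ext_int (by simp)

theorem gm_chi_mul {S : Scheme.{u}} {M : Type} [AddCommGroup M] (m : M) {X : Over S} (t t' : X ⟶ Red.DS S M) :
    Red.gmFn ((t * t') ≫ Red.chi S m) = Red.gmFn (t ≫ Red.chi S m) * Red.gmFn (t' ≫ Red.chi S m) := by
  haveI : IsMonHom (Red.chi S m) := Deform.DiagMaps.isMonHom_DSmap _
  rw [MonObj.mul_comp]
  exact GmPts.gmFn_mul _ _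

theorem gm_chi_one {S : Scheme.{u}} {M : Type} [AddCommGroup M] (m : M) {X : Over S} :
    Red.gmFn ((1 : X ⟶ Red.DS S M) ≫ Red.chi S m) = 1 := by
  haveI : IsMonHom (Red.chi S m) := Deform.DiagMaps.isMonHom_DSmap _
  rw [MonObj.one_comp]
  exact GmPts.gmFn_one

theorem gm_chi_add {S : Scheme.{u}} {M : Type} [AddCommGroup M] (x y : M) {X : Over S} (t : X ⟶ Red.DS S M) :
    Red.gmFn (t ≫ Red.chi S (x + y)) = Red.gmFn (t ≫ Red.chi S x) * Red.gmFn (t ≫ Red.chi S y) := by
  rw [chi_add, MonObj.comp_mul]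
  exact GmPts.gmFn_mul _ _

/-- Points of the torus with the same value at every simple root agree at every root. -/
theorem chi_eq_of_simple {S : Scheme.{u}} {J M N : Type} [AddCommGroup M] [AddCommGroup N]
    (P : RootPairing J ℤ M N) (b : P.Base) {X : Over S} {t t' : X ⟶ Red.DS S M}
    (h : ∀ a ∈ b.support, Red.gmFn (t' ≫ Red.chi S (P.root a)) = Red.gmFn (t ≫ Red.chi S (P.root a))) (c : J) :
    Red.gmFn (t' ≫ Red.chi S (P.root c)) = Red.gmFn (t ≫ Red.chi S (P.root c)) := by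
  have hunit : ∀ m : M, IsUnit (Red.gmFn (t ≫ Red.chi S m)) := fun m => GmPts.isUnit_gmFn _
  let H : AddSubgroup M :=
    { carrier := {m | Red.gmFn (t' ≫ Red.chi S m) = Red.gmFn (t ≫ Red.chi S m)}
      add_mem' := fun {x y} hx hy => by
        show _ = _
        rw [gm_chi_add, gm_chi_add, hx, hy]
      zero_mem' := by
        show _ = _
        have e : ∀ s : X ⟶ Red.DS S M, Red.gmFn (s ≫ Red.chi S (0 : M)) = 1 := fun s => by
          refine (GmPts.isUnit_gmFn (s ≫ Red.chi S (0 : M))).mul_left_cancel ?_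
          rw [← gm_chi_add, add_zero, _root_.mul_one]
        rw [e, e]
      neg_mem' := fun {x} hx => by
        show _ = _
        refine (GmPts.isUnit_gmFn (t ≫ Red.chi S x)).mul_left_cancel ?_
        conv_lhs => rw [← show Red.gmFn (t' ≫ Red.chi S x) = Red.gmFn (t ≫ Red.chi S x) from hx]
        rw [← gm_chi_add, ← gm_chi_add, add_neg_cancel]
        refine (GmPts.isUnit_gmFn (t ≫ Red.chi S (0 : M))).mul_left_cancel ?_
        have e : ∀ s : X ⟶ Red.DS S M, Red.gmFn (s ≫ Red.chi S (0 : M)) = 1 := fun s => by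
          refine (GmPts.isUnit_gmFn (s ≫ Red.chi S (0 : M))).mul_left_cancel ?_
          rw [← gm_chi_add, add_zero, _root_.mul_one]
        rw [e, e] }
  have hsub : Submodule.span ℤ (P.root '' (b.support : Set J)) ≤ AddSubgroup.toIntSubmodule H :=
    Submodule.span_le.2 (by rintro _ ⟨a, ha, rfl⟩; exact h a (Finset.mem_coe.1 ha))
  exact hsub (b.root_mem_span_int c)

variable {S : Scheme.{u}} {G : Over S} [GrpObj G] {E : Sys G} {lam : E.M →+ ℤ} {n p r : ℕ} {e : Fin n → E.idx}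
  {a : Fin p → E.idx} {b : Fin r → E.idx}

/-- A point normalising the torus with trivial action on the roots normalises the positive part. -/
theorem lim_conj {R : Type u} [CommRing R] (s : Spec (CommRingCat.of R) ⟶ S) (g u : pX s ⟶ G)
    (hu : Lim s E lam u 1)
    (hz : ∃ z' : pX (laurS s) ⟶ Red.DS S E.M,
      (baseL s ≫ g) * (zt s E lam ≫ E.j) * (baseL s ≫ g)⁻¹ = z' ≫ E.j ∧
        ∀ d, Red.gmFn (z' ≫ Red.chi S (E.r d)) = Red.gmFn (zt s E lam ≫ Red.chi S (E.r d))) :
    Lim s E lam (g * u * g⁻¹) 1 := by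
  obtain ⟨z', hz', hroot⟩ := hz
  obtain ⟨k, hk, hk0⟩ := hu
  refine ⟨(baseP s ≫ g) * k * (baseP s ≫ g)⁻¹, ?_, ?_⟩
  · simp only [MonObj.comp_mul, GrpObj.comp_inv, ← Category.assoc, toL_baseP]
    rw [hk]
    have hcomm := commute_of_roots E (z'⁻¹ * zt s E lam) (fun d => by
      refine GmPts.gmFn_injective ?_
      show Red.gmFn _ = Red.gmFn _
      rw [gm_chi_mul, GmPts.gmFn_one, ← hroot d, ← gm_chi_mul, inv_mul_cancel, gm_chi_one])
      ((baseL s ≫ g) * (baseL s ≫ u) * (baseL s ≫ g)⁻¹)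
    rw [MonObj.mul_comp, GrpObj.inv_comp] at hcomm
    simp only [orbit, MonObj.comp_mul, GrpObj.comp_inv]
    calc (baseL s ≫ g) * (((zt s E lam) ≫ E.j) * (baseL s ≫ u) * ((zt s E lam) ≫ E.j)⁻¹) * (baseL s ≫ g)⁻¹
        = ((baseL s ≫ g) * ((zt s E lam) ≫ E.j) * (baseL s ≫ g)⁻¹) * ((baseL s ≫ g) * (baseL s ≫ u) * (baseL s ≫ g)⁻¹) *
            ((baseL s ≫ g) * ((zt s E lam) ≫ E.j) * (baseL s ≫ g)⁻¹)⁻¹ := by group
      _ = (z' ≫ E.j) * ((baseL s ≫ g) * (baseL s ≫ u) * (baseL s ≫ g)⁻¹) * (z' ≫ E.j)⁻¹ := by rw [hz']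
      _ = (z' ≫ E.j) * (((z' ≫ E.j)⁻¹ * ((zt s E lam) ≫ E.j)) * ((baseL s ≫ g) * (baseL s ≫ u) * (baseL s ≫ g)⁻¹)) *
            ((z' ≫ E.j)⁻¹ * ((zt s E lam) ≫ E.j))⁻¹ * (z' ≫ E.j)⁻¹ := by
          rw [hcomm]; group
      _ = _ := by group
  · simp only [MonObj.comp_mul, GrpObj.comp_inv, ← Category.assoc, evP_baseP, Category.id_comp]
    rw [hk0, _root_.mul_one, mul_inv_cancel]

open Deform.Chev (Pt) in
/-- Such a point of a geometric fibre lies in the big cell. -/
theorem range_subset (h : IsClosedPos lam e a b) (hall : ∀ d, 0 < lam (E.r d) → d ∈ Set.range a)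
    (hB : Red.IsBorel h.bincl) (x : S) (g : pX (Red.geomPt x) ⟶ G)
    (hT : ∀ (X : Over S) (y : X ⟶ pX (Red.geomPt x)) (t : X ⟶ Red.DS S E.M), ∃ t' : X ⟶ Red.DS S E.M,
      (y ≫ g) * (t ≫ E.j) * (y ≫ g)⁻¹ = t' ≫ E.j ∧ ∀ d, Red.gmFn (t' ≫ Red.chi S (E.r d)) = Red.gmFn (t ≫ Red.chi S (E.r d))) :
    Set.range g.left ⊆ Set.range (E.cell e (Fin.append a b)).left := by
  let q := Red.geomPt x
  let K := AlgebraicClosure (S.residueField x)
  obtain ⟨hGa, hGs, hGc, -⟩ := E.reductive.2.2 x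
  haveI := hGa; haveI := hGs; haveI := hGc
  obtain ⟨gK, hgK⟩ := (DSPtsLib.theta_bijective (H := G) q).surjective
    (show (Over.map q).obj (𝟙_ (Over (Spec (CommRingCat.of K)))) ⟶ G from g)
  haveI : IsEmpty (Fin r) := ⟨fun j => by
    obtain ⟨i, hi⟩ := hall (b j) (by simpa using h.full.pos (Fin.natAdd p j))
    have h1 : Fin.castAdd r i = Fin.natAdd p j := h.full.inj' (by
      rw [Fin.append_left, Fin.append_right]; exact hi)
    have h2 := congrArg Fin.val h1
    simp only [Fin.val_castAdd, Fin.val_natAdd] at h2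
    omega⟩
  obtain ⟨c, hc⟩ := Deform.Borel.norm_mem_borel (Red.geomFibre x G) ((Over.pullback q).map h.bincl) (hB.2.2.2 x) gK
    fun β => by
      obtain ⟨t, v, hv⟩ := h.exists_pt (show pX q ⟶ BObj h from DSPtsLib.theta q β)
      obtain ⟨v₀, hv₀⟩ := exists_sec q v
      subst hv₀
      obtain ⟨t', ht', -⟩ := hT _ (𝟙 _) t
      rw [Category.id_comp] at ht'
      have hl : Lim q E lam (g * E.Prod a (fun l => sec q (v₀ l)) * g⁻¹) 1 := lim_conj q g _ (lim_Prod a h.pos v₀) (hT _ (baseL q) _)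
      obtain ⟨w, hw⟩ := exists_Prod_of_lim h.full hl
      have hw' : g * E.Prod a (fun l => sec q (v₀ l)) * g⁻¹ = E.Prod a (fun i => sec q (w (Fin.castAdd r i))) := by
        rw [hw, show (fun l => sec q (w l)) = Fin.append (fun i => sec q (w (Fin.castAdd r i))) (fun _ => 0) from
          funext fun l => Fin.addCases (fun i => by simp) (fun j => isEmptyElim j) l, Prod_append, Prod_zero]
        exact _root_.mul_one _
      obtain ⟨y, hy⟩ := h.exists_of_pt t' (fun i => sec q (w (Fin.castAdd r i)))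
      obtain ⟨y', hy'⟩ := (DSPtsLib.theta_bijective (H := BObj h) q).surjective
        (show (Over.map q).obj (𝟙_ (Over (Spec (CommRingCat.of K)))) ⟶ _ from y)
      refine ⟨y', (DSPtsLib.theta_bijective q).injective ?_⟩
      show DSPtsLib.theta q _ = _
      rw [Deform.Luna.theta_comp_map, hy']
      refine hy.trans ?_
      rw [← ht', ← hw']
      let Θ : (𝟙_ (Over (Spec (CommRingCat.of K))) ⟶ Red.bc q G) →* (pX q ⟶ G) :=
        MonoidHom.mk' (DSPtsLib.theta q) (DSPtsLib.theta_mul q)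
      show _ = Θ (gK * (β ≫ (Over.pullback q).map h.bincl) * gK⁻¹)
      rw [map_mul, map_mul, map_inv, show Θ gK = g from hgK, show Θ (β ≫ (Over.pullback q).map h.bincl) =
        (t ≫ E.j) * E.Prod a (fun l => sec q (v₀ l)) from (Deform.Luna.theta_comp_map q β h.bincl).trans hv]
      group
  obtain ⟨t, v, hv⟩ := h.exists_pt (show pX q ⟶ BObj h from DSPtsLib.theta q c)
  refine range_subset_of_comp (cellPt E (n := n) (m := p + r) 0 t (Fin.append v 0)) ?_
  have h1 : DSPtsLib.theta q c ≫ h.bincl = g := by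
    rw [← Deform.Luna.theta_comp_map, hc, hgK]
  rw [← h1]
  refine Eq.trans ?_ hv.symm
  rw [cellPt_cell, Prod_append]
  simp only [Pi.zero_def, Prod_zero, _root_.mul_one, _root_.one_mul]

/-- Conjugation fixing a root homomorphism fixes the root. -/
theorem chi_eq_of_fix (c : E.idx) {X : Over S} (h : X ⟶ G) (t t' : X ⟶ Red.DS S E.M)
    (hu : ∀ w : Γ(X.left, ⊤), h * E.U c w * h⁻¹ = E.U c w) (ht : h * (t ≫ E.j) * h⁻¹ = t' ≫ E.j) :
    Red.gmFn (t' ≫ Red.chi S (E.r c)) = Red.gmFn (t ≫ Red.chi S (E.r c)) := by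
  have h1 : (h * (t ≫ E.j) * h⁻¹) * (h * E.U c 1 * h⁻¹) * (h * (t ≫ E.j) * h⁻¹)⁻¹ =
      h * ((t ≫ E.j) * E.U c 1 * (t ≫ E.j)⁻¹) * h⁻¹ := by group
  rw [hu, ht, conj_U, conj_U, hu, _root_.mul_one, _root_.mul_one] at h1
  exact U_injective h1

set_option maxHeartbeats 1600000 in
/-- Let G be a reductive S-group scheme with a pinning (a split maximal torus T, a root datum with a
chosen base, and root homomorphisms u_a), and let g be an S-point of G such that the inner
automorphism int(g) normalises T and commutes with the root homomorphism u_a of every simple root a.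
Then int(g) is the identity: g centralises every point of G with values in any S-scheme. (This is
the case of an inner automorphism respecting the pinning without permuting the simple roots.) -/
theorem result {S : Scheme.{u}} {G : Over S} [GrpObj G] (D : Red.Pinning G)
    (g : 𝟙_ (Over S) ⟶ G)
    (hT : ∀ (X : Over S) (t : X ⟶ D.T), ∃ t' : X ⟶ D.T, (toUnit X ≫ g) * (t ≫ D.i) * (toUnit X ≫ g)⁻¹ = t' ≫ D.i)
    (hu : ∀ a ∈ D.base.support, ∀ (X : Over S) (x : X ⟶ Red.Ga S),
      (toUnit X ≫ g) * (x ≫ D.u a) * (toUnit X ≫ g)⁻¹ = x ≫ D.u a) :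
    ∀ (X : Over S) (y : X ⟶ G), (toUnit X ≫ g) * y * (toUnit X ≫ g)⁻¹ = y := by
  classical
  let E : Sys G := ofSplit D.toSplitRed
  have h0 : D.split.hom.hom.hom ≫ E.j = D.i := by simpa using split_comp_j D.toSplitRed (𝟙 D.T)
  have e1 : ∀ {X : Over S} (t : X ⟶ Red.DS S D.M), (t ≫ D.split.inv.hom.hom) ≫ D.i = t ≫ E.j := fun t =>
    Category.assoc _ _ _
  have e2 : ∀ {X : Over S} (t : X ⟶ D.T), t ≫ D.i = (t ≫ D.split.hom.hom.hom) ≫ E.j := fun t =>
    (congrArg (t ≫ ·) h0).symm.trans (Category.assoc _ _ _).symm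
  haveI := E.mono_j
  -- action on the characters
  have hact : ∀ (X : Over S) (t : X ⟶ Red.DS S D.M), ∃ t' : X ⟶ Red.DS S D.M,
      (toUnit X ≫ g) * (t ≫ E.j) * (toUnit X ≫ g)⁻¹ = t' ≫ E.j ∧
        ∀ d : D.idx, Red.gmFn (t' ≫ Red.chi S (D.P.root d)) = Red.gmFn (t ≫ Red.chi S (D.P.root d)) := fun X t => by
    obtain ⟨t₁, ht₁⟩ := hT X (t ≫ D.split.inv.hom.hom)
    rw [e1, e2] at ht₁
    refine ⟨_, ht₁, chi_eq_of_simple D.P D.base fun c hc => ?_⟩
    exact chi_eq_of_fix (E := E) c (toUnit X ≫ g) t _ (fun w => hu c hc X (GrpSchLib.GaPts.ptOfFn w)) ht₁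
  -- the big cell
  obtain ⟨m, epos, hpos⟩ := exists_enum (RedSub.posRoots D.P D.base)
  obtain ⟨n, eneg, hneg⟩ := exists_enum (RedSub.negRoots D.P D.base)
  obtain ⟨-, -, -, hall⟩ := exists_separating D.P D.base
  obtain ⟨lam, hlam⟩ := exists_isFull_of_base D.toSplitRed D.base
  have hf := hlam n m eneg epos hneg hpos
  have hp : ∀ d ∈ RedSub.posRoots D.P D.base, 0 < lam (D.P.root d) := fun d hd => by
    obtain ⟨l, rfl⟩ := hpos.2.ge hd; exact hf.pos l
  have hn : ∀ d ∈ RedSub.negRoots D.P D.base, lam (D.P.root d) < 0 := fun d hd => by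
    obtain ⟨l, rfl⟩ := hneg.2.ge hd; exact hf.neg l
  have hne : ∀ d, lam (D.P.root d) ≠ 0 := fun d => by
    rcases hall d with h | h
    · exact (hp d h).ne'
    · exact (hn d h).ne
  have hcl : ∀ a c d : D.idx, a ∈ RedSub.posRoots D.P D.base → c ∈ RedSub.posRoots D.P D.base →
      D.P.root a + D.P.root c = D.P.root d → d ∈ RedSub.posRoots D.P D.base := fun a c d ha hc h => by
    show D.P.root d ∈ AddSubmonoid.closure (D.P.root '' (D.base.support : Set D.idx))
    rw [← h]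
    exact add_mem ha hc
  obtain ⟨n', q', e', b', h⟩ := exists_closedPos D.toSplitRed hcl lam hne hp epos hpos
  have hallpos : ∀ d, 0 < lam (E.r d) → d ∈ Set.range epos := fun d hd => by
    rcases hall d with hd' | hd'
    · exact hpos.2.ge hd'
    · exact absurd hd (not_lt.2 (hn d hd').le)
  have hB : Red.IsBorel h.bincl := h.isBorel hallpos
    (fun i j m m' hm hh => eq_or_eq_neg_of_smul D.P D.base hm hh)
    (fun d => ⟨corootFn D.P d, (corootFn_root D.P d d).trans (D.P.pairing_same d)⟩)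
  haveI := hf.isOpenImmersion
  have hsub : Set.range g.left ⊆ Set.range (E.cell eneg epos).left := by
    rintro _ ⟨x, rfl⟩
    let x₀ : S := x
    let pt0 : (pX (Red.geomPt x₀)).left := IsLocalRing.closedPoint (AlgebraicClosure (S.residueField x₀))
    have hmem : (toUnit (pX (Red.geomPt x₀)) ≫ g).left pt0 ∈ Set.range (E.cell e' (Fin.append epos b')).left :=
      range_subset h hallpos hB x₀ (toUnit _ ≫ g) (fun X y t => by
        obtain ⟨t', h1, h2⟩ := hact X t
        exact ⟨t', by rw [comp_toUnit_assoc]; exact h1, h2⟩) ⟨pt0, rfl⟩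
    have hpt : (toUnit (pX (Red.geomPt x₀)) ≫ g).left pt0 = g.left x := by
      show g.left ((toUnit (pX (Red.geomPt x₀))).left pt0) = g.left x
      congr 1
      exact Scheme.fromSpecResidueField_apply x₀ _
    rw [hpt] at hmem
    exact range_cell_subset h.full hf hmem
  obtain ⟨y, hy⟩ := exists_lift (E.cell eneg epos) g hsub
  haveI : IsIso (cellIso D.toSplitRed n m).hom := inferInstance
  have hx : (y ≫ (cellIso D.toSplitRed n m).inv) ≫ RedSub.cellMap D.toSplitRed eneg epos = g := by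
    rw [cellMap_eq, Category.assoc, Iso.inv_hom_id_assoc, hy]
  have hgt := Groth.Agent.S5509.result D.toSplitRed D.base eneg epos hneg hpos _ _ (fun X' z t => by
    rw [hx, toUnit_unique z (toUnit X')]
    exact hT X' t)
  rw [hx, e2] at hgt
  obtain ⟨t₀, hgt⟩ : ∃ t₀ : 𝟙_ (Over S) ⟶ Red.DS S E.M, g = t₀ ≫ E.j := ⟨_, hgt⟩
  have hroot : ∀ d, t₀ ≫ Red.chi S (E.r d) = 1 := fun d => GmPts.gmFn_injective (by
    show Red.gmFn _ = Red.gmFn _
    rw [GmPts.gmFn_one]
    refine (chi_eq_of_simple D.P D.base (t := (1 : 𝟙_ (Over S) ⟶ Red.DS S D.M)) (t' := t₀) (fun c hc => ?_) d).trans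
      (gm_chi_one _)
    rw [gm_chi_one]
    have h1 := hu c hc _ (GrpSchLib.GaPts.ptOfFn (1 : Γ((𝟙_ (Over S)).left, ⊤)))
    rw [toUnit_unique (toUnit (𝟙_ (Over S))) (𝟙 _), Category.id_comp, hgt] at h1
    have h2 : (t₀ ≫ E.j) * E.U c 1 * (t₀ ≫ E.j)⁻¹ = E.U c 1 := h1
    rw [conj_U, _root_.mul_one] at h2
    exact U_injective h2)
  intro X y'
  rw [mul_inv_eq_iff_eq_mul, hgt, ← Category.assoc]
  exact commute_of_roots E (toUnit X ≫ t₀) (fun d => (Category.assoc _ _ _).trans ((congrArg (toUnit X ≫ ·) (hroot d)).trans (MonObj.comp_one _))) y' 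

end Groth.Agent.S2990
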