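import Groth.Statements.S3014
import Groth.Agent.Deform.IsoSpecialise

set_option autoImplicit false
universe u
open CategoryTheory MonoidalCategory CartesianMonoidalCategory MonObj GrpObj AlgebraicGeometry
open Red

namespace Groth.Agent.S3014
open CategoryTheory.Limits
set_option linter.style.haveILetI false
set_option maxHeartbeats 1000000
/-- (i)⇒(ii): Let G and G' be reductive S-groups and f : S' → S a surjective morphism such that the base
changes of G and G' to S' are isomorphic as group schemes. Then for every s ∈ S the geometric fibres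
G_{s̄} and G'_{s̄} are isomorphic. -/
theorem result (S : Scheme.{u}) (G G' : Over S) [GrpObj G] [GrpObj G'] (hG : Red.IsReductive G) (hG' : Red.IsReductive G') (S' : Scheme.{u}) (f : S' ⟶ S) [Surjective f] (hiso : Nonempty (Grp.mk (Red.bc f G) ≅ Grp.mk (Red.bc f G'))) (s : S) : Nonempty (Grp.mk (Red.geomFibre s G) ≅ Grp.mk (Red.geomFibre s G')) := by
  obtain ⟨s', rfl⟩ := f.surjective s
  obtain ⟨e⟩ := hiso
  obtain ⟨e'⟩ := Groth.Agent.GrpSchLib.MultTypeBC.bc_iso (Red.geomPt s') e
  let K := AlgebraicClosure (S.residueField (f s'))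
  let L := AlgebraicClosure (S'.residueField s')
  letI : Algebra (S.residueField (f s')) L :=
    ((algebraMap (S'.residueField s') L).comp (f.residueFieldMap s').hom).toAlgebra
  let ia : K →ₐ[S.residueField (f s')] L := IsAlgClosed.lift
  letI : Algebra K L := ia.toRingHom.toAlgebra
  let σ : Spec (CommRingCat.of L) ⟶ Spec (CommRingCat.of K) := Spec.map (CommRingCat.ofHom (algebraMap K L))
  have hσ : σ ≫ Red.geomPt (f s') = Red.geomPt s' ≫ f := by
    show _ = (_ ≫ _) ≫ f
    rw [Category.assoc, ← Scheme.Hom.SpecMap_residueFieldMap_fromSpecResidueField, ← Category.assoc, ← Category.assoc,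
      ← Spec.map_comp, ← Spec.map_comp]
    congr 2
    exact CommRingCat.hom_ext (RingHom.ext fun x => ia.commutes x)
  have hc : ∀ (X : Over S) [GrpObj X], Nonempty (Grp.mk (Red.bc σ (Red.geomFibre (f s') X)) ≅
      Grp.mk (Red.bc (Red.geomPt s') (Red.bc f X))) := fun X _ =>
    ⟨Grp.mkIso' (Groth.Agent.GrpLimLib.cmp hσ X) ≪≫
      (Grp.mkIso' (Groth.Agent.GrpLimLib.cmp (rfl : Red.geomPt s' ≫ f = Red.geomPt s' ≫ f) X)).symm⟩
  obtain ⟨a⟩ := hc G
  obtain ⟨b⟩ := hc G'
  haveI := hG.1
  haveI := hG.2.1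
  haveI := hG'.1
  haveI := hG'.2.1
  haveI : IsAffine (Red.geomFibre (f s') G).left :=
    haveI : IsAffineHom (pullback.snd G.hom (Red.geomPt (f s'))) := inferInstance
    isAffine_of_isAffineHom (pullback.snd G.hom (Red.geomPt (f s')))
  haveI : IsAffine (Red.geomFibre (f s') G').left :=
    haveI : IsAffineHom (pullback.snd G'.hom (Red.geomPt (f s'))) := inferInstance
    isAffine_of_isAffineHom (pullback.snd G'.hom (Red.geomPt (f s')))
  haveI : LocallyOfFiniteType (Red.geomFibre (f s') G).hom :=
    inferInstanceAs (LocallyOfFiniteType (pullback.snd G.hom (Red.geomPt (f s'))))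
  haveI : LocallyOfFiniteType (Red.geomFibre (f s') G').hom :=
    inferInstanceAs (LocallyOfFiniteType (pullback.snd G'.hom (Red.geomPt (f s'))))
  exact Groth.Agent.Deform.IsoSpec.nonempty_grp_iso _ _ ⟨a ≪≫ e' ≪≫ b.symm⟩

end Groth.Agent.S3014
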