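import Groth.Statements.S3016
import Groth.Agent.Deform.QuotImage
import Groth.Agent.GrpSchLib.ArtinTop
set_option linter.style.haveILetI false
set_option backward.isDefEq.respectTransparency false
set_option backward.isDefEq.respectTransparency.types false

set_option autoImplicit false
universe u
open CategoryTheory MonoidalCategory CartesianMonoidalCategory MonObj GrpObj AlgebraicGeometry TensorProduct
open SGA3

namespace Groth.Agent.S3016

/-- Let A be a local artinian ring and u : G → H a quasi-compact homomorphism between group schemes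
locally of finite type over A. Then the image u(G) is a closed subset of H, and dim G = dim u(G) +
dim Ker u (dimensions of the underlying topological spaces; Ker u is the fibre of u over the unit
section). -/
theorem result (A : Type u) [CommRing A] [IsArtinianRing A] [IsLocalRing A]
    (G H : Over (Spec (CommRingCat.of A))) [GrpObj G] [GrpObj H] [LocallyOfFiniteType G.hom] [LocallyOfFiniteType H.hom]
    (u : G ⟶ H) [IsMonHom u] [QuasiCompact u.left] :
    IsClosed (Set.range u.left.base) ∧
    topologicalKrullDim G.left =
      topologicalKrullDim (Set.range u.left.base) +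
        topologicalKrullDim ↥(Limits.pullback u.left (η[H] : 𝟙_ (Over (Spec (CommRingCat.of A))) ⟶ H).left) := by
  let Fr := Over.pullback (Groth.Agent.GrpSchLib.clPt A)
  haveI : LocallyOfFiniteType (Fr.obj G).hom := inferInstanceAs (LocallyOfFiniteType (Limits.pullback.snd G.hom _))
  haveI : LocallyOfFiniteType (Fr.obj H).hom := inferInstanceAs (LocallyOfFiniteType (Limits.pullback.snd H.hom _))
  haveI : QuasiCompact (Fr.map u).left := MorphismProperty.overPullbackMap (P := @QuasiCompact) _ u ‹_›
  haveI : IsMonHom (Fr.map u) := inferInstance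
  obtain ⟨hcl, hdim⟩ := Groth.Agent.Deform.QuotImage.isClosed_range_and_dim (Fr.map u)
  let eG := Groth.Agent.GrpSchLib.clHomeo G
  let eH := Groth.Agent.GrpSchLib.clHomeo H
  have hrange : Set.range u.left.base = eH '' Set.range (Fr.map u).left := by
    ext y
    constructor
    · rintro ⟨x, rfl⟩
      obtain ⟨x', rfl⟩ := eG.surjective x
      exact ⟨_, ⟨x', rfl⟩, Groth.Agent.GrpSchLib.map_clFib_apply H u x'⟩
    · rintro ⟨_, ⟨x', rfl⟩, rfl⟩
      exact ⟨eG x', (Groth.Agent.GrpSchLib.map_clFib_apply H u x').symm⟩
  refine ⟨hrange ▸ eH.isClosedMap _ hcl, ?_⟩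
  let K : Over (Spec (CommRingCat.of A)) :=
    Over.mk (Limits.pullback.fst u.left (η[H] : 𝟙_ (Over (Spec (CommRingCat.of A))) ⟶ H).left ≫ G.hom)
  let n : K ⟶ G := Over.homMk (Limits.pullback.fst u.left (η[H] : 𝟙_ (Over (Spec (CommRingCat.of A))) ⟶ H).left) rfl
  have sq : IsPullback n (toUnit K) u η[H] := by
    have e : (toUnit K).left = Limits.pullback.snd u.left (η[H] : 𝟙_ (Over (Spec (CommRingCat.of A))) ⟶ H).left := by
      show K.hom = _
      show Limits.pullback.fst _ _ ≫ G.hom = _
      rw [← Over.w u, Limits.pullback.condition_assoc, Over.w η[H]]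
      exact Category.comp_id _
    refine IsPullback.of_map (Over.forget _) (Over.OverMorphism.ext ?_) ?_
    · show Limits.pullback.fst _ _ ≫ u.left = (toUnit K).left ≫ η[H].left
      rw [e, Limits.pullback.condition]
    · show IsPullback n.left (toUnit K).left u.left η[H].left
      rw [e]
      exact IsPullback.of_hasPullback _ _
  have sq₀ : AlgGrp.IsKernel (Fr.map n) (Fr.map u) := by
    refine (sq.map Fr).of_iso (Iso.refl _) (Iso.refl _) (Functor.Monoidal.εIso Fr).symm (Iso.refl _)
      (by simp) ?_ (by simp) ?_
    · exact toUnit_unique _ _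
    · rw [Iso.refl_hom, Category.comp_id, Iso.symm_hom, Iso.eq_inv_comp]
      rfl
  rw [← eG.isHomeomorph.topologicalKrullDim_eq, hdim _ (Fr.map n) sq₀]
  congr 1
  · exact ((eH.image _).trans (Homeomorph.setCongr hrange.symm)).isHomeomorph.topologicalKrullDim_eq
  · exact (Groth.Agent.GrpSchLib.clHomeo K).isHomeomorph.topologicalKrullDim_eq

end Groth.Agent.S3016
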