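import Groth.Statements.S3031
import Groth.Agent.Deform.GenSub.GenClosed
import Groth.Agent.H23.GeomConn
import Groth.Agent.VarGeom.OpenMap

set_option autoImplicit false
universe u
open CategoryTheory MonoidalCategory CartesianMonoidalCategory MonObj GrpObj AlgebraicGeometry TensorProduct
open SGA3

namespace Groth.Agent.S3031
attribute [local instance] CategoryTheory.Hom.monoid CategoryTheory.Hom.group
set_option linter.style.haveILetI false
/-- With X connected and possessing a rational point over the identity, a case of 'geometrically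
connected with e ∈ f(X)': let G be a group scheme over a field k, X a connected, geometrically
reduced k-scheme, x a k-point of X and f : X → G a k-morphism with f(x) the identity. Then the
smallest closed subgroup scheme of G through which f factors is connected. -/
theorem result (k : Type u) [Field k] (G X : Over (Spec (CommRingCat.of k))) [GrpObj G]
    [GeometricallyReduced X.hom] [ConnectedSpace X.left] (x : 𝟙_ (Over (Spec (CommRingCat.of k))) ⟶ X) (f : X ⟶ G)
    (hx : x ≫ f = η[G])
    (Γ : Over (Spec (CommRingCat.of k))) [GrpObj Γ] (i : Γ ⟶ G) [IsMonHom i] [IsClosedImmersion i.left]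
    (hf : ∃ f' : X ⟶ Γ, f' ≫ i = f)
    (hmin : ∀ (Γ' : Over (Spec (CommRingCat.of k))) (_ : GrpObj Γ') (i' : Γ' ⟶ G), IsMonHom i' → IsClosedImmersion i'.left →
        (∃ f'' : X ⟶ Γ', f'' ≫ i' = f) → ∃ j : Γ ⟶ Γ', j ≫ i' = i) :
    ConnectedSpace Γ.left := by
  open Deform.GenSub in
  obtain ⟨I, _, j, hj, hjc, hfI, -, hr, hminI⟩ := exists_generated_closed f
  haveI := hj; haveI := hjc
  haveI : Mono i := (Over.forget _).mono_of_mono_map (inferInstanceAs (Mono i.left))
  haveI : Mono j := (Over.forget _).mono_of_mono_map (inferInstanceAs (Mono j.left))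
  obtain ⟨p, hp⟩ := hminI Γ ‹_› i ‹_› ‹_› hf
  obtain ⟨q, hq⟩ := hmin I ‹_› j ‹_› ‹_› hfI
  haveI : GeometricallyConnected X.hom := H23.GeomConn.of_point k X.hom x.left (Over.w x)
  have hconn : ∀ l, ConnectedSpace (wObj X l).left := by
    intro l
    induction l with
    | nil => exact inferInstanceAs (ConnectedSpace (Spec (CommRingCat.of k)))
    | cons β l ih =>
      haveI := ih
      haveI : UniversallyOpen X.hom := inferInstance
      exact inferInstanceAs (ConnectedSpace ↥(Limits.pullback X.hom (wObj X l).hom))
  let e := η[G].left (IsLocalRing.closedPoint k)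
  have hpre : _root_.IsPreconnected (⋃ l, Set.range (wMor f l).left) := by
    refine isPreconnected_iUnion ⟨e, Set.mem_iInter.mpr fun l => ?_⟩ fun l =>
      haveI := hconn l
      isPreconnected_range (wMor f l).left.continuous
    have : ∃ z : 𝟙_ (Over (Spec (CommRingCat.of k))) ⟶ wObj X l, z ≫ wMor f l = η[G] := by
      induction l with
      | nil => exact ⟨𝟙 _, (Category.id_comp _).trans (MonObj.one_eq_one (M := G)).symm⟩
      | cons β l ih =>
        obtain ⟨z, hz⟩ := ih
        refine ⟨lift x z, ?_⟩
        cases β with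
        | true =>
          show lift x z ≫ ((fst X (wObj X l) ≫ f) * (snd X (wObj X l) ≫ wMor f l) : X ⊗ wObj X l ⟶ G) = _
          rw [MonObj.comp_mul, lift_fst_assoc, lift_snd_assoc, hx, hz, MonObj.one_eq_one, _root_.one_mul]
        | false =>
          show lift x z ≫ ((fst X (wObj X l) ≫ f)⁻¹ * (snd X (wObj X l) ≫ wMor f l) : X ⊗ wObj X l ⟶ G) = _
          rw [MonObj.comp_mul, GrpObj.comp_inv, lift_fst_assoc, lift_snd_assoc, hx, hz, MonObj.one_eq_one, inv_one,
            _root_.one_mul]
    obtain ⟨z, hz⟩ := this
    exact ⟨z.left (IsLocalRing.closedPoint k),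
      congrArg (fun φ : 𝟙_ (Over (Spec (CommRingCat.of k))) ⟶ G => φ.left (IsLocalRing.closedPoint k)) hz⟩
  haveI : Nonempty I.left := ⟨η[I].left (IsLocalRing.closedPoint k)⟩
  haveI : ConnectedSpace I.left := by
    haveI : PreconnectedSpace I.left := ⟨by
      rw [← j.left.isClosedEmbedding.isInducing.isPreconnected_image, Set.image_univ, hr]
      exact hpre.closure⟩
    exact ⟨inferInstance⟩
  exact Function.Surjective.connectedSpace (f := p.left) (fun z => ⟨q.left z, by
    have h : q ≫ p = 𝟙 _ := by rw [← cancel_mono i, Category.assoc, hp, hq, Category.id_comp]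
    rw [← Scheme.Hom.comp_apply, ← Over.comp_left, h]
    rfl⟩) p.left.continuous

end Groth.Agent.S3031
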