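import Groth.Statements.S3035
import Groth.Agent.GrpSchLib.HomFinite
import Groth.Agent.GrpSchLib.HomKer
import Groth.Agent.GrpSchLib.KernelPair
import Groth.Agent.GrpSchLib.ImageFactor
import Groth.Agent.GrpSchLib.IdentityComp
import Groth.Agent.GrpSchLib.MonoSubgroup
import Groth.Agent.Deform.TorusAlg
import Mathlib.AlgebraicGeometry.Morphisms.FlatDescent
import Mathlib.AlgebraicGeometry.Morphisms.FlatMono


set_option autoImplicit false
set_option linter.style.haveILetI false
universe u
open CategoryTheory MonoidalCategory CartesianMonoidalCategory MonObj GrpObj AlgebraicGeometry TensorProduct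
open SGA3

namespace Groth.Agent.S3035
attribute [local instance] CategoryTheory.Hom.monoid CategoryTheory.Hom.group

open GrpSchLib

theorem universallyClosed_algebraic {k : Type u} [Field k] {G H : Over (Spec (CommRingCat.of k))} [GrpObj G] [GrpObj H]
    [LocallyOfFiniteType G.hom] [LocallyOfFiniteType H.hom] [QuasiCompact G.hom] [QuasiCompact H.hom]
    (u : G ⟶ H) [IsMonHom u] [IsProper (Limits.pullback.snd u.left (η[H]).left)] : UniversallyClosed u.left := by
  obtain ⟨I, gI, p, j, hp, hj, hpj, hjc, hfl, hs, -, hqc⟩ := ImageFactor.exists_image u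
  haveI := hp; haveI := hj; haveI := hjc; haveI := hfl; haveI := hs; haveI := hqc
  haveI : IsSeparated I.hom := AntiAffine.isSeparated_grp I
  haveI : QuasiCompact (p.left ≫ I.hom) := by rw [Over.w p]; infer_instance
  haveI : QuasiCompact p.left := QuasiCompact.of_comp p.left I.hom
  let N := Limits.pullback p η[I]
  let i : N ⟶ G := Limits.pullback.fst p η[I]
  have hi : AlgGrp.IsKernel i p := by
    have h := IsPullback.of_hasPullback p η[I]
    rwa [toUnit_unique (Limits.pullback.snd p η[I]) (toUnit N)] at h
  have sq : IsPullback i.left N.hom p.left (η[I]).left := HomKer.kernel_square i hi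
  have sq2 : IsPullback (η[I]).left (𝟙 _) j.left (η[H]).left := by
    refine IsPullback.of_isLimit' ⟨by rw [← Over.comp_left, IsMonHom.one_hom j]; exact (Category.id_comp _).symm⟩
      (Limits.PullbackCone.IsLimit.mk _ (fun s => s.snd) (fun s => ?_) (fun s => Category.comp_id _)
        (fun s m _ h => (Category.comp_id m).symm.trans h))
    rw [← cancel_mono j.left, Category.assoc, ← Over.comp_left, IsMonHom.one_hom j]
    exact s.condition.symm
  have sq3 : IsPullback i.left N.hom u.left (η[H]).left := by
    have h := sq.paste_vert sq2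
    rw [← Over.comp_left, hpj] at h
    exact (congrArg (fun w => IsPullback i.left w u.left (η[H]).left) (Category.comp_id N.hom)).mp h
  haveI hN : IsProper N.hom := by
    have e := sq3.isoPullback_hom_snd
    rw [← e]
    infer_instance
  obtain ⟨q, hq, hqsnd⟩ := exists_kernelPair_iso i p hi
  haveI := hq
  haveI : IsProper (snd N G).left := inferInstanceAs (IsProper (Limits.pullback.snd N.hom G.hom))
  haveI : IsProper (Limits.pullback.snd p.left p.left) := by
    have : Limits.pullback.snd p.left p.left = inv q ≫ (snd N G).left := (IsIso.eq_inv_comp q).mpr hqsnd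
    rw [this]
    infer_instance
  haveI : UniversallyClosed p.left := by
    apply MorphismProperty.of_pullback_snd_of_descendsAlong
      (P := @UniversallyClosed) (Q := @Surjective ⊓ @Flat ⊓ @QuasiCompact) (f := p.left) (g := p.left)
    · exact ⟨⟨inferInstance, inferInstance⟩, inferInstance⟩
    · infer_instance
  rw [← hpj, Over.comp_left]
  infer_instance

theorem universallyClosed_algClosed {K : Type u} [Field K] [IsAlgClosed K] {G H : Over (Spec (CommRingCat.of K))}
    [GrpObj G] [GrpObj H] [LocallyOfFiniteType G.hom] [LocallyOfFiniteType H.hom] (u : G ⟶ H) [IsMonHom u]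
    [QuasiCompact u.left] [IsProper (Limits.pullback.snd u.left (η[H]).left)] : UniversallyClosed u.left := by
  haveI : IsLocallyNoetherian H.left := LocallyOfFiniteType.isLocallyNoetherian H.hom
  obtain ⟨H₀, gH, j, hj, hjc, hjf, -, -, hcpt⟩ := exists_identityComponent (G := H)
  haveI := hj; haveI := hjc; haveI := hjf; haveI := hcpt
  haveI : LocallyOfFinitePresentation j.left := inferInstance
  haveI : IsOpenImmersion j.left := IsOpenImmersion.of_flat_of_mono j.left
  haveI : Mono j := (Over.forget _).mono_of_mono_map (inferInstanceAs (Mono j.left))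
  haveI : LocallyOfFiniteType H₀.hom := by rw [← Over.w j]; infer_instance
  haveI : QuasiCompact H₀.hom := (quasiCompact_iff_compactSpace H₀.hom).mpr hcpt
  let G' := Limits.pullback u j
  let i : G' ⟶ G := Limits.pullback.fst u j
  let u' : G' ⟶ H₀ := Limits.pullback.snd u j
  have sq : IsPullback i u' u j := IsPullback.of_hasPullback u j
  haveI : Mono i := inferInstanceAs (Mono (Limits.pullback.fst u j))
  obtain ⟨str, hi⟩ := exists_grpObj_of_mono i
    (sq.lift η[G] η[H₀] (by rw [IsMonHom.one_hom u, IsMonHom.one_hom j])) (sq.lift_fst _ _ _)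
    (sq.lift ((fst G' G' ≫ i) * (snd G' G' ≫ i)) ((fst G' G' ≫ u') * (snd G' G' ≫ u'))
      (by simp only [MonObj.mul_comp, Category.assoc, sq.w])) (sq.lift_fst _ _ _)
    (sq.lift i⁻¹ u'⁻¹ (by simp only [GrpObj.inv_comp, sq.w])) (sq.lift_fst _ _ _)
  letI := str
  haveI := hi
  haveI : IsMonHom u' := Deform.isMonHom_of_comp u' j (i := i ≫ u) sq.w.symm
  have sqL : IsPullback i.left u'.left u.left j.left := sq.map (Over.forget _)
  haveI : IsOpenImmersion i.left := MorphismProperty.of_isPullback (P := @IsOpenImmersion) sqL.flip ‹_›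
  haveI : QuasiCompact u'.left := MorphismProperty.of_isPullback (P := @QuasiCompact) sqL ‹_›
  haveI : LocallyOfFiniteType G'.hom := by rw [← Over.w i]; infer_instance
  haveI : QuasiCompact G'.hom := by rw [← Over.w u']; infer_instance
  haveI : IsProper (Limits.pullback.snd u'.left (η[H₀]).left) := by
    have h := (IsPullback.of_hasPullback u'.left (η[H₀]).left).paste_horiz sqL
    rw [← Over.comp_left, IsMonHom.one_hom j] at h
    rw [← h.isoPullback_hom_snd]
    infer_instance
  haveI : UniversallyClosed u'.left := universallyClosed_algebraic u'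
  have hV : UniversallyClosed (u.left ∣_ j.left.opensRange) := by
    let h₁₁ := sqL.lift (u.left ⁻¹ᵁ j.left.opensRange).ι ((u.left ∣_ j.left.opensRange) ≫
      (Scheme.Hom.isoOpensRange j.left).inv) (by
        rw [Category.assoc, Scheme.Hom.isoOpensRange_inv_comp, morphismRestrict_ι])
    have hsq : IsPullback h₁₁ (u.left ∣_ j.left.opensRange) u'.left (Scheme.Hom.isoOpensRange j.left).inv := by
      refine IsPullback.of_right ?_ (sqL.lift_snd _ _ _) sqL
      rw [IsPullback.lift_fst, Scheme.Hom.isoOpensRange_inv_comp]
      exact (isPullback_morphismRestrict u.left j.left.opensRange).flip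
    exact MorphismProperty.of_isPullback hsq ‹UniversallyClosed u'.left›
  let W : H.left.Opens := ⨆ V : {V : H.left.Opens // UniversallyClosed (u.left ∣_ V)}, V.1
  have htop : ∀ y, y ∈ W := by
    by_contra h
    push Not at h
    obtain ⟨x, hx⟩ := h
    haveI : JacobsonSpace H.left := LocallyOfFiniteType.jacobsonSpace H.hom
    haveI : JacobsonSpace G.left := LocallyOfFiniteType.jacobsonSpace G.hom
    obtain ⟨y, hyW, hy⟩ := nonempty_inter_closedPoints (Z := (W : Set H.left)ᶜ) ⟨x, hx⟩
      W.2.isClosed_compl.isLocallyClosed
    refine hyW ?_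
    by_cases hyr : y ∈ Set.range u.left
    swap
    · have hR : IsClosed (Set.range u.left) := HomClosedRange.isClosed_range u
      let V : H.left.Opens := ⟨(Set.range u.left)ᶜ, hR.isOpen_compl⟩
      refine le_iSup (fun V : {V : H.left.Opens // UniversallyClosed (u.left ∣_ V)} => V.1) ⟨V, ?_⟩ hyr
      haveI : IsEmpty ↥(u.left ⁻¹ᵁ V).toScheme := ⟨fun z => z.2 ⟨z.1, rfl⟩⟩
      infer_instance
    obtain ⟨g, hgy, hg⟩ := nonempty_inter_closedPoints (Z := u.left ⁻¹' {y})
      (by obtain ⟨g, hg⟩ := hyr; exact ⟨g, hg⟩) (hy.preimage u.left.continuous).isLocallyClosed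
    have he : IsClosed ({η[G].left (IsLocalRing.closedPoint K)} : Set G.left) := by
      haveI := AntiAffine.isSeparated_grp G
      have h1 := (η[G]).left.isClosedEmbedding.isClosedMap _
        (isClosed_discrete (α := ↥(Spec (CommRingCat.of K))) {IsLocalRing.closedPoint K})
      exact (Set.image_singleton (f := (η[G]).left)) ▸ h1
    obtain ⟨a, ha⟩ := HomFinite.exists_trans (G := G) g (η[G].left (IsLocalRing.closedPoint K)) hg he
    let T : H.left ≅ H.left := (Over.forget _).mapIso (HomFinite.trans (a ≫ u))
    let S : G.left ≅ G.left := (Over.forget _).mapIso (HomFinite.trans a)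
    have e : S.hom ≫ u.left = u.left ≫ T.hom := HomFinite.trans_comm u a
    have hTV : UniversallyClosed (u.left ∣_ (T.hom ⁻¹ᵁ j.left.opensRange)) := by
      haveI := hV
      haveI : UniversallyClosed ((S.hom ≫ u.left) ∣_ j.left.opensRange) := by
        rw [morphismRestrict_comp]
        exact MorphismProperty.comp_mem @UniversallyClosed _ _
          (IsZariskiLocalAtTarget.restrict (P := @UniversallyClosed) inferInstance _) hV
      have h1 : UniversallyClosed ((u.left ≫ T.hom) ∣_ j.left.opensRange) := by rwa [← e]
      rw [morphismRestrict_comp] at h1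
      exact (MorphismProperty.cancel_right_of_respectsIso @UniversallyClosed _
        (T.hom ∣_ j.left.opensRange)).mp h1
    refine le_iSup (fun V : {V : H.left.Opens // UniversallyClosed (u.left ∣_ V)} => V.1) ⟨_, hTV⟩ ?_
    show T.hom y ∈ j.left.opensRange
    refine ⟨η[H₀].left (IsLocalRing.closedPoint K), ?_⟩
    rw [← Scheme.Hom.comp_apply, ← Over.comp_left, IsMonHom.one_hom j, ← IsMonHom.one_hom u, Over.comp_left,
      Scheme.Hom.comp_apply, ← ha]
    have h2 : u.left (S.hom g) = T.hom (u.left g) := congrArg (fun f : G.left ⟶ H.left => f g) e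
    rw [(hgy : u.left g = y)] at h2
    exact h2
  have hWtop : W = ⊤ := eq_top_iff.mpr fun y _ => htop y
  exact (IsZariskiLocalAtTarget.iff_of_iSup_eq_top (P := @UniversallyClosed)
    (fun V : {V : H.left.Opens // UniversallyClosed (u.left ∣_ V)} => V.1) hWtop).mpr fun V => V.2

theorem proper_of_proper_ker {A : Type u} [CommRing A] [IsArtinianRing A] [IsLocalRing A]
    {G H : Over (Spec (CommRingCat.of A))} [GrpObj G] [GrpObj H] [LocallyOfFiniteType G.hom]
    [LocallyOfFiniteType H.hom] (u : G ⟶ H) [IsMonHom u] [QuasiCompact u.left]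
    [hk : IsProper (Limits.pullback.snd u.left (η[H]).left)] : IsProper u.left := by
  let S₀ := Spec (CommRingCat.of A)
  haveI : LocallyOfFiniteType u.left := by
    have : LocallyOfFiniteType (u.left ≫ H.hom) := by rw [Over.w u]; infer_instance
    exact locallyOfFiniteType_of_comp u.left H.hom
  haveI : IsSeparated u.left := by
    have := HomFinite.isSeparated G
    have : IsSeparated (u.left ≫ H.hom) := by rwa [Over.w u]
    exact IsSeparated.of_comp u.left H.hom
  let gp := HomFinite.geomPt A
  let F := Over.pullback gp
  haveI : LocallyOfFiniteType (F.obj G).hom := inferInstanceAs (LocallyOfFiniteType (Limits.pullback.snd G.hom _))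
  haveI : LocallyOfFiniteType (F.obj H).hom := inferInstanceAs (LocallyOfFiniteType (Limits.pullback.snd H.hom _))
  haveI : QuasiCompact (F.map u).left := MorphismProperty.overPullbackMap (P := @QuasiCompact) _ u ‹_›
  have sq : IsPullback (Limits.pullback.fst G.hom gp) (F.map u).left u.left (Limits.pullback.fst H.hom gp) := by
    refine IsPullback.of_bot ?_ (Limits.pullback.lift_fst _ _ _).symm (IsPullback.of_hasPullback H.hom gp)
    have h1 : (F.map u).left ≫ Limits.pullback.snd H.hom gp = Limits.pullback.snd G.hom gp :=
      Limits.pullback.lift_snd _ _ _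
    rw [h1, Over.w u]
    exact IsPullback.of_hasPullback G.hom gp
  let e : Spec (CommRingCat.of (AlgebraicClosure (IsLocalRing.ResidueField A))) ⟶ (F.obj H).left :=
    (η[F.obj H]).left
  have he : e ≫ Limits.pullback.fst H.hom gp = gp ≫ (η[H]).left := by
    have h1 : η[F.obj H] = Functor.LaxMonoidal.ε F ≫ F.map η[H] := rfl
    have h2 : (F.map η[H]).left ≫ Limits.pullback.fst H.hom gp =
        Limits.pullback.fst (𝟙_ (Over S₀)).hom gp ≫ (η[H]).left := Limits.pullback.lift_fst _ _ _
    have h3 : (Functor.LaxMonoidal.ε F).left ≫ Limits.pullback.fst (𝟙_ (Over S₀)).hom gp = gp := by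
      have h4 : (Functor.LaxMonoidal.ε F).left ≫ Limits.pullback.snd (𝟙_ (Over S₀)).hom gp = 𝟙 _ :=
        Over.w (Functor.LaxMonoidal.ε F)
      have h5 : Limits.pullback.fst (𝟙_ (Over S₀)).hom gp =
          Limits.pullback.snd (𝟙_ (Over S₀)).hom gp ≫ gp := by
        rw [← Limits.pullback.condition]
        exact (Category.comp_id _).symm
      rw [h5, reassoc_of% h4]
    show (η[F.obj H]).left ≫ _ = _
    rw [h1, Over.comp_left, Category.assoc, h2, reassoc_of% h3]
  have hbig := (IsPullback.of_hasPullback (F.map u).left e).paste_horiz sq.flip.flip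
  haveI : IsProper (Limits.pullback.snd (F.map u).left e) := by
    have hker : IsPullback (Limits.pullback.fst u.left (η[H]).left) (Limits.pullback.snd u.left (η[H]).left)
        u.left (η[H]).left := IsPullback.of_hasPullback _ _
    rw [he] at hbig
    have hsub := IsPullback.of_right
      (h₁₁ := hker.lift (Limits.pullback.fst (F.map u).left e ≫ Limits.pullback.fst G.hom gp)
        (Limits.pullback.snd (F.map u).left e ≫ gp)
        (by rw [Category.assoc]; exact hbig.w.trans (Category.assoc _ _ _).symm))
      (by rw [IsPullback.lift_fst]; exact hbig) (IsPullback.lift_snd _ _ _ _) hker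
    exact MorphismProperty.of_isPullback hsub hk
  haveI : UniversallyClosed (F.map u).left := universallyClosed_algClosed (F.map u)
  haveI : UniversallyClosed u.left := HomFinite.universallyClosed_of_geomPt u
  exact ⟨⟩


/-- (i) ⟺ (iii): let A be a local artinian ring and u : G → H a quasi-compact homomorphism between group
schemes locally of finite type over A. Then u is proper if and only if the kernel of u (the fibre of
u over the unit section) is proper over A. -/
theorem result (A : Type u) [CommRing A] [IsArtinianRing A] [IsLocalRing A]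
    (G H : Over (Spec (CommRingCat.of A))) [GrpObj G] [GrpObj H] [LocallyOfFiniteType G.hom] [LocallyOfFiniteType H.hom]
    (u : G ⟶ H) [IsMonHom u] [QuasiCompact u.left] :
    IsProper u.left ↔ IsProper (Limits.pullback.snd u.left (η[H] : 𝟙_ (Over (Spec (CommRingCat.of A))) ⟶ H).left) := by
  refine ⟨fun h => ?_, fun h => proper_of_proper_ker u (hk := h)⟩
  infer_instance

end Groth.Agent.S3035
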