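import Groth.Statements.S3041
import Groth.Agent.Deform.WeilGeomInt.Chart
import Groth.Agent.Deform.WeilGeomInt.Smooth

set_option autoImplicit false
universe u
open CategoryTheory MonoidalCategory CartesianMonoidalCategory MonObj GrpObj AlgebraicGeometry TensorProduct
open SGA3

namespace Groth.Agent.S3041
open CategoryTheory.Limits

/-- Let f : X → S be a smooth morphism whose fibres are geometrically irreducible and j : Y → X a closed
immersion. Then there is a closed immersion t : T → S such that a morphism g : S' → S factors
through T exactly when the closed immersion Y ×_X X_{S'} → X_{S'} obtained by base change is an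
isomorphism; if j is of finite presentation then so is t. -/
theorem result (S X Y : Scheme.{u}) (f : X ⟶ S) [Smooth f]
    [GeometricallyIrreducible f] (j : Y ⟶ X) [IsClosedImmersion j] :
    ∃ (T : Scheme.{u}) (t : T ⟶ S), IsClosedImmersion t ∧
      (∀ (S' : Scheme.{u}) (g : S' ⟶ S),
        (∃ g' : S' ⟶ T, g' ≫ t = g) ↔ IsIso (Limits.pullback.snd j (Limits.pullback.fst f g))) ∧
      (LocallyOfFinitePresentation j → LocallyOfFinitePresentation t) := by
  haveI := H23.RigidGamma.geometricallyReduced_of_smooth f
  haveI := GeometricallyIntegral.of_geometricallyReduced_of_geometricallyIrreducible f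
  obtain ⟨T, t, ht, hu, hfp⟩ := Deform.WeilGeomInt.exists_weilRestriction_closed f j
  refine ⟨T, t, ht, fun S' g => (hu S' g).trans ⟨?_, ?_⟩, hfp⟩
  · rintro ⟨l, hl⟩
    haveI : Mono (pullback.snd j (pullback.fst f g)) := inferInstance
    haveI : IsSplitEpi (pullback.snd j (pullback.fst f g)) := ⟨⟨pullback.lift ((pullbackSymmetry f g).hom ≫ l) (𝟙 _)
      (by rw [Category.assoc, hl, pullbackSymmetry_hom_comp_snd, Category.id_comp]), pullback.lift_snd _ _ _⟩⟩
    exact isIso_of_mono_of_isSplitEpi _
  · intro h
    exact ⟨(pullbackSymmetry f g).inv ≫ CategoryTheory.inv (pullback.snd j (pullback.fst f g)) ≫ pullback.fst j (pullback.fst f g), by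
      rw [Category.assoc, Category.assoc, pullback.condition, IsIso.inv_hom_id_assoc, pullbackSymmetry_inv_comp_fst]⟩

end Groth.Agent.S3041
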