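import Groth.Statements.S3203
import Groth.Agent.ExtPowSh.Lambda

set_option linter.style.haveILetI false
set_option backward.isDefEq.respectTransparency false
set_option backward.isDefEq.respectTransparency.types false
set_option autoImplicit false
universe u
open CategoryTheory CategoryTheory.Limits AlgebraicGeometry
attribute [local instance] HasDerivedCategory.standard
open SGA6

namespace Groth.Agent.S3203

/-- Let X be a scheme such that every finite locally free O_X-module has finite locally free exterior
powers (hypothesis hext, phrased with the affine-local predicate ExtPow.IsExtPow). Then K₀ of finite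
locally free O_X-modules carries a biadditive, commutative, associative multiplication with unit
[O_X] such that [E]·[F] = [E ⊗ F], and operations λ^i with λ^i[E] = [Λ^i E], λ⁰ = [O_X], λ¹ = id and
λ^k(x + y) = Σ_{i+j=k} λ^i(x)·λ^j(y): it is a pre-λ-ring. (Such a structure is unique since the
classes of finite locally free modules generate. The identities of a special λ-ring are not
asserted.) -/
theorem result (X : Scheme.{u})
    (hext : ∀ (i : ℕ) (E : X.Modules), FlatMod.IsFinLocFree E → ∃ L : X.Modules, FlatMod.IsFinLocFree L ∧ ExtPow.IsExtPow i E L) :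
    ∃ (mul : SGA6.Kvb X →+ SGA6.Kvb X →+ SGA6.Kvb X) (lam : ℕ → SGA6.Kvb X → SGA6.Kvb X), SGA6.IsLambdaStructureVb X mul lam := by
  obtain ⟨K, _, φ, hφ⟩ := Groth.Agent.KRRReg.exists_ringModel X
  obtain ⟨o, ho⟩ := Groth.Agent.ExtPowSh.exists_lamOps hφ
  let e : SGA6.Kvb X ≃+ K := AddEquiv.ofBijective φ hφ.bijective
  let mul : SGA6.Kvb X →+ SGA6.Kvb X →+ SGA6.Kvb X :=
    AddMonoidHom.mk' (fun x => (e.symm.toAddMonoidHom.comp (AddMonoidHom.mulLeft (e x))).comp e.toAddMonoidHom)
      fun x y => AddMonoidHom.ext fun z => by
        show e.symm (e (x + y) * e z) = e.symm (e x * e z) + e.symm (e y * e z)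
        rw [map_add, add_mul, map_add]
  refine ⟨mul, fun i x => e.symm (o.lam i (e x)), fun x y => congrArg e.symm (mul_comm _ _), fun x y z => ?_,
    fun x => ?_, fun E F hE hF => ?_, fun i E L hE h => ?_, fun x => ?_, fun x => ?_, fun k x y => ?_⟩
  · show e.symm (e (e.symm (e x * e y)) * e z) = e.symm (e x * e (e.symm (e y * e z)))
    rw [AddEquiv.apply_symm_apply, AddEquiv.apply_symm_apply, mul_assoc]
  · show e.symm (φ (KRR.cl X (Coh.structureModule X)) * e x) = x
    rw [hφ.map_one, one_mul, AddEquiv.symm_apply_apply]
  · show e.symm (φ _ * φ _) = _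
    rw [hφ.map_mul E F hE hF]
    exact e.symm_apply_apply _
  · exact (congrArg e.symm (ho i E L hE h)).trans (e.symm_apply_apply _)
  · show e.symm (o.lam 0 (e x)) = _
    rw [o.lam_zero, ← hφ.map_one]
    exact e.symm_apply_apply _
  · show e.symm (o.lam 1 (e x)) = _
    rw [o.lam_one, AddEquiv.symm_apply_apply]
  · show e.symm (o.lam k (e (x + y))) = ∑ i ∈ Finset.range (k + 1), mul (e.symm (o.lam i (e x))) (e.symm (o.lam (k - i) (e y)))
    rw [map_add, o.lam_add, map_sum]
    refine Finset.sum_congr rfl fun i _ => ?_
    show _ = e.symm (e (e.symm _) * e (e.symm _))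
    rw [AddEquiv.apply_symm_apply, AddEquiv.apply_symm_apply]

end Groth.Agent.S3203
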