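import Groth.Statements.S3206
import Groth.Agent.PSQuad.Morse
import Groth.Agent.PSQuad.Coeff
import Mathlib.RingTheory.MvPowerSeries.Derivative
import Mathlib.LinearAlgebra.Matrix.NonsingularInverse
-- import your own Groth.Agent.* helpers here

set_option autoImplicit false
open SGA7


namespace Groth.Agent.S3206

/-- Let k be a field and f a formal power series in n variables over k without constant term whose
partial derivatives ∂f/∂x_1, …, ∂f/∂x_n generate the maximal ideal of k[[x_1, …, x_n]]. Then there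
are power series ε_1, …, ε_n with no terms of degree < 2 and a quadratic form q such that f = q(x_1
+ ε_1, …, x_n + ε_n). -/
theorem result (k : Type) [Field k] (n : ℕ) (f : MvPowerSeries (Fin n) k)
    (hf0 : MvPowerSeries.constantCoeff f = 0)
    (hJ : Ideal.span (Set.range fun i : Fin n => MvPowerSeries.pderiv k i f) = IsLocalRing.maximalIdeal (MvPowerSeries (Fin n) k)) :
    ∃ (ε : Fin n → MvPowerSeries (Fin n) k) (_ : ∀ i (m : Fin n →₀ ℕ), m.degree < 2 → MvPowerSeries.coeff m (ε i) = 0)
      (q : MvPolynomial (Fin n) k) (_ : q.IsHomogeneous 2)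
      (_ : MvPowerSeries.HasSubst (fun i : Fin n => MvPowerSeries.X i + ε i)),
      f = MvPowerSeries.subst (fun i : Fin n => MvPowerSeries.X i + ε i) (q : MvPowerSeries (Fin n) k) := by
  classical
  have hd : ∀ i, MvPowerSeries.pderiv k i f ∈ Groth.Agent.PSLib.vars n k := fun i => by
    have h : MvPowerSeries.pderiv k i f ∈ IsLocalRing.maximalIdeal (MvPowerSeries (Fin n) k) :=
      hJ ▸ Ideal.subset_span ⟨i, rfl⟩
    rw [IsLocalRing.mem_maximalIdeal, mem_nonunits_iff, MvPowerSeries.isUnit_iff_constantCoeff, isUnit_iff_ne_zero,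
      not_not] at h
    exact Groth.Agent.PSLib.mem_vars_iff.2 h
  have hlin : ∀ i : Fin n, MvPowerSeries.coeff (Finsupp.single i 1) f = 0 := fun i => by
    have h := Groth.Agent.PSLib.mem_vars_iff.1 (hd i)
    rw [← MvPowerSeries.coeff_zero_eq_constantCoeff_apply, MvPowerSeries.coeff_pderiv, zero_add] at h
    simpa using h
  let M := VanCyc.polarMatrix (VanCyc.quadPart f)
  have hM : ∀ i j, MvPowerSeries.coeff (Finsupp.single j 1) (MvPowerSeries.pderiv k i f) = M i j := fun i j => by
    rw [MvPowerSeries.coeff_pderiv]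
    rcases lt_trichotomy i j with h | rfl | h
    · simp [M, VanCyc.polarMatrix, h.ne, h, Groth.Agent.PSQuad.quadPart_apply h.le, Finsupp.single_eq_of_ne h.ne,
        add_comm]
    · simp [M, VanCyc.polarMatrix, Groth.Agent.PSQuad.quadPart_apply le_rfl]
      ring
    · simp [M, VanCyc.polarMatrix, h.ne', not_lt.2 h.le, Groth.Agent.PSQuad.quadPart_apply h.le,
        Finsupp.single_eq_of_ne h.ne']
  have hdet : VanCyc.QuadNondeg (VanCyc.quadPart f) := by
    have hX : ∀ m, ∃ c : Fin n → MvPowerSeries (Fin n) k, ∑ i, c i * MvPowerSeries.pderiv k i f = MvPowerSeries.X m := by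
      intro m
      refine Ideal.mem_span_range_iff_exists_fun.1 (hJ ▸ ?_)
      rw [IsLocalRing.mem_maximalIdeal, mem_nonunits_iff, MvPowerSeries.isUnit_iff_constantCoeff, MvPowerSeries.constantCoeff_X]
      exact not_isUnit_zero
    choose c hc using hX
    let C : Matrix (Fin n) (Fin n) k := fun m i => MvPowerSeries.constantCoeff (c m i)
    have hCM : C * M = 1 := by
      ext m j
      have h := congrArg (MvPowerSeries.coeff (Finsupp.single j 1)) (hc m)
      rw [map_sum, MvPowerSeries.coeff_X] at h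
      simp only [Matrix.mul_apply, Matrix.one_apply, Finsupp.single_left_inj one_ne_zero, eq_comm (a := j)] at h ⊢
      rw [← h]
      refine Finset.sum_congr rfl fun i _ => ?_
      have h1 : (c m i - MvPowerSeries.C (C m i)) * MvPowerSeries.pderiv k i f ∈ Groth.Agent.PSLib.vars n k ^ 2 := by
        rw [pow_two]
        exact Ideal.mul_mem_mul (Groth.Agent.PSLib.mem_vars_iff.2 (by simp [C])) (hd i)
      have h2 := Groth.Agent.PSLib.mem_pow_iff.1 h1 (Finsupp.single j 1) (by simp)
      rw [sub_mul, map_sub, sub_eq_zero, MvPowerSeries.coeff_C_mul, hM] at h2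
      exact h2.symm
    exact (Matrix.isUnit_iff_isUnit_det M).1 ((Matrix.isUnit_iff_isUnit_det M).2 (IsUnit.of_mul_eq_one_right _ (by
      rw [← Matrix.det_mul, hCM, Matrix.det_one])))
  obtain ⟨ψ, hψ, hψF⟩ := Groth.Agent.PSQuad.exists_morse (N := 0) (VanCyc.quadPart f) hdet 0 f
    (Groth.Agent.PSLib.mem_pow_iff.2 fun d hd3 => by
      rw [map_sub, MvPolynomial.coeff_coe, map_zero, add_zero, sub_eq_zero]
      rcases Groth.Agent.PSQuad.degree_le_two_cases (d := d) (by omega) with rfl | ⟨i, rfl⟩ | ⟨i, j, hij, rfl⟩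
      · rw [Groth.Agent.PSQuad.coeff_quadPoly_eq_zero _ (by simp), MvPowerSeries.coeff_zero_eq_constantCoeff_apply, hf0]
      · rw [Groth.Agent.PSQuad.coeff_quadPoly_eq_zero _ (by simp), hlin]
      · rw [Groth.Agent.PSQuad.coeff_quadPoly_pair _ hij, Groth.Agent.PSQuad.quadPart_apply hij])
  rw [map_zero, add_zero] at hψF
  let ε : Fin n → MvPowerSeries (Fin n) k := fun i => ψ.symm (MvPowerSeries.X i) - MvPowerSeries.X i
  have hsv : ∀ i, ψ.symm (MvPowerSeries.X i) ∈ Groth.Agent.PSLib.vars n k := fun i => by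
    have hv : ∀ j, ψ (MvPowerSeries.X j) ∈ Groth.Agent.PSLib.vars n k := fun j => by
      rw [← sub_add_cancel (ψ (MvPowerSeries.X j)) (MvPowerSeries.X j)]
      exact add_mem (Ideal.pow_le_self (by norm_num) (hψ j)) (Ideal.subset_span ⟨j, rfl⟩)
    set g := ψ.symm (MvPowerSeries.X i)
    have h0 : g - MvPowerSeries.C (MvPowerSeries.constantCoeff g) ∈ Groth.Agent.PSLib.vars n k := by
      rw [Groth.Agent.PSLib.mem_vars_iff]; simp
    have h1 := Groth.Agent.PSQuad.map_mem_vars (ψ : MvPowerSeries (Fin n) k →ₐ[k] MvPowerSeries (Fin n) k) hv h0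
    rw [AlgEquiv.coe_algHom, map_sub, ψ.apply_symm_apply,
      show ψ (MvPowerSeries.C (MvPowerSeries.constantCoeff g)) = MvPowerSeries.C (MvPowerSeries.constantCoeff g) from ψ.commutes _,
      Groth.Agent.PSLib.mem_vars_iff] at h1
    simp only [map_sub, MvPowerSeries.constantCoeff_X, MvPowerSeries.constantCoeff_C, zero_sub, neg_eq_zero] at h1
    exact Groth.Agent.PSLib.mem_vars_iff.2 h1
  have hε : ∀ i, ε i ∈ Groth.Agent.PSLib.vars n k ^ 2 := fun i => by
    have h1 := Groth.Agent.PSLib.map_pow_le (ψ.symm : MvPowerSeries (Fin n) k →ₐ[k] MvPowerSeries (Fin n) k) hsv 2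
      (Ideal.mem_map_of_mem _ (hψ i))
    change ψ.symm (ψ (MvPowerSeries.X i) - MvPowerSeries.X i) ∈ _ at h1
    rw [map_sub, ψ.symm_apply_apply] at h1
    simpa [ε] using neg_mem h1
  have hv : ∀ i, MvPowerSeries.X i + ε i ∈ Groth.Agent.PSLib.vars n k := fun i => by simpa [ε] using hsv i
  refine ⟨ε, fun i m hm => Groth.Agent.PSLib.coeff_eq_zero_of_mem_pow _ _ (hε i) m hm, VanCyc.quadPoly (VanCyc.quadPart f),
    ?_, MvPowerSeries.hasSubst_of_constantCoeff_zero fun i => Groth.Agent.PSLib.mem_vars_iff.1 (hv i), ?_⟩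
  · intro d hd'
    by_contra hne
    exact hd' (Groth.Agent.PSQuad.coeff_quadPoly_eq_zero _ (by
      rw [Finsupp.degree_eq_weight_one]
      exact hne))
  · rw [← congrFun (Groth.Agent.PSLib.subst_eq hv (ψ.symm : MvPowerSeries (Fin n) k →ₐ[k] MvPowerSeries (Fin n) k)
      fun i => (add_sub_cancel _ _).symm) _, ← hψF, AlgEquiv.coe_algHom, ψ.symm_apply_apply]

end Groth.Agent.S3206
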