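import Groth.Statements.S3207
import Groth.Agent.FlatRankOne.Basic
-- import your own Groth.Agent.* helpers here

set_option autoImplicit false
universe u
open CategoryTheory CategoryTheory.Limits AlgebraicGeometry
open SGA7


namespace Groth.Agent.S3207

/-- Let g : T -> S be locally quasi-finite, of finite presentation, separated and flat. If for every
maximal point s of S (a point with no proper generization) the fibre of g over s is either empty or
mapped isomorphically onto Spec κ(s) (rank at most 1), then g is an open immersion. -/
theorem result {T S : Scheme.{u}} (g : T ⟶ S) [LocallyQuasiFinite g]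
    [LocallyOfFinitePresentation g] [QuasiCompact g] [IsSeparated g] [Flat g]
    (h : ∀ s : S, (∀ t : S, t ⤳ s → t = s) →
      IsEmpty ↑(pullback g (S.fromSpecResidueField s)) ∨ IsIso (pullback.snd g (S.fromSpecResidueField s))) :
    IsOpenImmersion g := by
  skip
  refine Groth.Agent.FlatRankOne.isOpenImmersion g fun s hs => ?_
  rcases h s hs with he | he
  · exact ⟨fun {Z} a b _ => by
      haveI : IsEmpty Z := Function.isEmpty a.base
      exact (isInitialOfIsEmpty (X := Z)).hom_ext _ _⟩
  · infer_instance

end Groth.Agent.S3207
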