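import Groth.Statements.S3210
import Groth.Agent.NeronComp.GoodInertia
-- import your own Groth.Agent.* helpers here

set_option autoImplicit false
set_option backward.isDefEq.respectTransparency false
set_option backward.isDefEq.respectTransparency.types false
universe u
open CategoryTheory CategoryTheory.Limits AlgebraicGeometry MonObj
open SGA7


namespace Groth.Agent.S3210

/-- Direction (i) ⇒ (v bis) of the Néron–Ogg–Chafarévitch criterion (only this direction of the
criterion is stated): let R be a discrete valuation ring with fraction field K and residue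
characteristic different from the prime ℓ, Ω a separable closure of K, W a valuation subring of Ω
lying over R, and A an abelian variety over K (a proper, geometrically integral group scheme). If A
extends to an abelian scheme over R (a proper smooth group scheme over Spec R with connected
geometric fibres whose generic fibre is K-isomorphic to A), then for every ν every element of the
inertia group at W fixes all the ℓ^ν-torsion Ω-points of A. -/
theorem result (R K Ω : Type u) [CommRing R] [IsDomain R] [IsDiscreteValuationRing R] [Field K]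
    [Algebra R K] [IsFractionRing R K] [Field Ω] [Algebra K Ω] [IsSepClosure K Ω]
    (W : ValuationSubring Ω) (hW : SGA7.LiesOver K R W) (ℓ : ℕ) (hℓ : ℓ.Prime) (hℓp : (ℓ : IsLocalRing.ResidueField R) ≠ 0)
    (A : Over (Spec (CommRingCat.of K))) [GrpObj A] [IsProper A.hom] [GeometricallyIntegral A.hom]
    (hgood : (∃ (B : Over (Spec (CommRingCat.of R))) (_ : GrpObj B), IsProper B.hom ∧ Smooth B.hom ∧
        (∀ (k' : Type u) [Field k'] (t : Spec (CommRingCat.of k') ⟶ Spec (CommRingCat.of R)), ConnectedSpace ↑(pullback B.hom t)) ∧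
        Nonempty ((Over.pullback (Spec.map (CommRingCat.ofHom (algebraMap R K)))).obj B ≅ A))) :
    ∀ (ν : ℕ) (σ : Ω ≃ₐ[K] Ω), SGA7.IsInertia W σ → ∀ x : SGA7.Pts Ω A, x ^ (ℓ ^ ν) = 1 → SGA7.galAct σ x = x := by
  obtain ⟨B, hBg, hBp, hBs, -, ⟨i⟩⟩ := hgood
  letI := hBg
  haveI := hBp
  haveI := hBs
  intro ν σ hσ x hx
  letI : Algebra R Ω := ((algebraMap K Ω).comp (algebraMap R K)).toAlgebra
  haveI : IsScalarTower R K Ω := IsScalarTower.of_algebraMap_eq fun r => rfl
  let G := SGA7.genFib R K
  letI : GrpObj (G.obj B) := Functor.grpObjObj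
  haveI hGI : GeometricallyIntegral (G.obj B).hom := by
    haveI : IsIso i.hom.left := inferInstanceAs (IsIso ((Over.forget _).map i.hom))
    rw [← Over.w i.hom]
    exact (MorphismProperty.cancel_left_of_respectsIso @GeometricallyIntegral _ _).mpr ‹_›
  haveI : Smooth (G.obj B).hom := inferInstanceAs (Smooth (pullback.snd B.hom _))
  haveI : IsProper (G.obj B).hom := inferInstanceAs (IsProper (pullback.snd B.hom _))
  haveI : GeometricallyConnected (G.obj B).hom := ⟨fun L _ y Z a b h => by
    haveI := hGI.geometrically_isIntegral y a b h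
    infer_instance⟩
  haveI : IsCommMonObj ((SGA7.genFib R K).obj B) := Groth.Agent.S7785.result (G.obj B)
  haveI := Groth.Agent.NeronComp.isCommMonObj_of_genericFibre (K := K) B
  let c : A ⟶ G.obj B := CartesianMonoidalCategory.toUnit A ≫ η[A] ≫ i.inv
  let t : A ⟶ G.obj B := i.inv * c⁻¹
  haveI : IsMonHom t := Groth.Agent.GrpSchLib.RigidHom.isMonHom_of_one t (by
    show η[A] ≫ (i.inv * (CartesianMonoidalCategory.toUnit A ≫ η[A] ≫ i.inv)⁻¹) = 1
    rw [MonObj.comp_mul, GrpObj.comp_inv, ← Category.assoc η[A] (CartesianMonoidalCategory.toUnit A),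
      CartesianMonoidalCategory.toUnit_unique (η[A] ≫ CartesianMonoidalCategory.toUnit A) (𝟙 _), Category.id_comp,
      mul_inv_cancel])
  have hinj : ∀ {T : Over (Spec (CommRingCat.of K))} (a b : T ⟶ A), a ≫ t = b ≫ t → a = b := by
    intro T a b h
    have hc : ∀ a : T ⟶ A, a ≫ c = CartesianMonoidalCategory.toUnit T ≫ η[A] ≫ i.inv := fun a => by
      show a ≫ CartesianMonoidalCategory.toUnit A ≫ _ = _
      rw [← Category.assoc, CartesianMonoidalCategory.toUnit_unique (a ≫ CartesianMonoidalCategory.toUnit A)]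
    simp only [t, MonObj.comp_mul, GrpObj.comp_inv, hc, mul_left_inj] at h
    exact (cancel_mono i.inv).1 h
  have hpow : ∀ n : ℕ, (x ≫ t) ^ n = (x ^ n) ≫ t := fun n => (map_pow
    ({ toFun := fun a => a ≫ t, map_one' := MonObj.one_comp t, map_mul' := fun a b => MonObj.mul_comp a b t } :
      (SGA7.Pts Ω A) →* (SGA7.Pts Ω (G.obj B))) x n).symm
  have hy : (x ≫ t) ^ (ℓ ^ ν) = 1 := by rw [hpow, hx, MonObj.one_comp]
  have hmR : IsUnit ((ℓ ^ ν : ℕ) : R) := IsLocalRing.notMem_maximalIdeal.1 fun h => hℓp (by
    have h' : (((ℓ ^ ν : ℕ) : R)) ∈ IsLocalRing.maximalIdeal R := h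
    rw [Nat.cast_pow] at h'
    rw [← map_natCast (IsLocalRing.residue R)]
    exact Ideal.Quotient.eq_zero_iff_mem.2 ((IsLocalRing.maximalIdeal.isMaximal R).isPrime.mem_of_pow_mem ν h'))
  haveI : Etale (𝟙 B ^ (ℓ ^ ν) : B ⟶ B).left := Groth.Agent.TorsLift.etale_pow B (ℓ ^ ν) fun s h0 => by
    have := hmR.map ((Scheme.ΓSpecIso (CommRingCat.of R)).inv ≫
      (Spec (CommRingCat.of R)).evaluation ⊤ s trivial).hom
    rw [map_natCast, h0] at this
    exact not_isUnit_zero this
  obtain ⟨g, hg, hgR⟩ := Groth.Agent.NeronComp.exists_extend_of_isProper W hW B (x ≫ t)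
  refine hinj _ _ ?_
  show (SGA7.specAut σ ≫ x) ≫ t = _
  rw [Category.assoc]
  exact Groth.Agent.NeronComp.galAct_eq_of_extend W B hW (ℓ ^ ν) (x ≫ t) hy g hg hgR σ hσ

end Groth.Agent.S3210
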