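import Groth.Statements.S3211
import Groth.Agent.NeronComp.GoodRed
import Groth.Agent.S18483
import Groth.Agent.S11098
-- import your own Groth.Agent.* helpers here

set_option autoImplicit false
set_option backward.isDefEq.respectTransparency false
set_option backward.isDefEq.respectTransparency.types false
universe u
open CategoryTheory CategoryTheory.Limits AlgebraicGeometry MonObj
open SGA7


namespace Groth.Agent.S3211

/-- (i) ⟺ (iv): let R be a discrete valuation ring with fraction field K, A an abelian variety over K (a
proper, geometrically integral group scheme) and N a Néron model of A over Spec R. Then A extends to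
an abelian scheme over R (a proper smooth group scheme with connected geometric fibres and generic
fibre K-isomorphic to A) if and only if N is proper over Spec R. -/
theorem result (R : Type u) [CommRing R] [IsDomain R] [IsDiscreteValuationRing R]
    (A : Over (Spec (CommRingCat.of (FractionRing R)))) [GrpObj A] [IsProper A.hom] [GeometricallyIntegral A.hom]
    (N : Over (Spec (CommRingCat.of R))) (e : (Neron.genericFibre R).obj N ≅ A) (hN : Neron.IsNeronModelOf R N A e) :
    (∃ (B : Over (Spec (CommRingCat.of R))) (_ : GrpObj B), IsProper B.hom ∧ Smooth B.hom ∧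
        (∀ (k' : Type u) [Field k'] (t : Spec (CommRingCat.of k') ⟶ Spec (CommRingCat.of R)), ConnectedSpace ↑(pullback B.hom t)) ∧
        Nonempty ((Over.pullback (Spec.map (CommRingCat.ofHom (algebraMap R (FractionRing R))))).obj B ≅ A)) ↔ IsProper N.hom := by
  constructor
  · rintro ⟨B, hBg, hBp, hBs, -, ⟨i⟩⟩
    letI := hBg
    haveI := hBp
    haveI := hBs
    have hB : Neron.IsNeronModelOf R B A i := by
      obtain ⟨a, b, c, d, hb⟩ := Groth.Agent.S18483.result R B
      refine ⟨a, b, c, d, fun Y hY => ?_⟩
      have h1 := (hb Y hY)
      simp only [Iso.refl_hom, Category.comp_id] at h1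
      exact (Groth.Agent.NeronComp.postcomp_bijective i).comp h1
    obtain ⟨⟨ψ, hψ, -⟩, hiso⟩ := Groth.Agent.S11098.result R A N B e i hN hB
    haveI := hiso ψ hψ
    haveI : IsIso ψ.left := inferInstanceAs (IsIso ((Over.forget _).map ψ))
    rw [← Over.w ψ]
    infer_instance
  · intro hp
    haveI := hN.1
    have hbij : ∀ Y : Over (Spec (CommRingCat.of R)), Smooth Y.hom →
        Function.Bijective (fun g : Y ⟶ N => (Neron.genericFibre R).map g) := fun Y hY => by
      have h1 := hN.2.2.2.2 Y hY
      exact (Function.Bijective.of_comp_iff' (Groth.Agent.NeronComp.postcomp_bijective e) _).1 h1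
    letI : GrpObj ((Neron.genericFibre R).obj N) := GrpObj.ofIso e.symm
    obtain ⟨gN⟩ := Groth.Agent.NeronComp.nonempty_grpObj (Neron.genPt R) N hbij
    haveI := Groth.Agent.NeronComp.geometricallyConnected_of_genericFibre R N e
    exact ⟨N, gN, hp, hN.1, fun k' _ t => GeometricallyConnected.geometrically_connectedSpace (f := N.hom) _ _ _
      (IsPullback.of_hasPullback N.hom t), ⟨e⟩⟩

end Groth.Agent.S3211
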