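import Groth.Statements.S3215
import Groth.Agent.QEtSplit.Basic
-- import your own Groth.Agent.* helpers here

set_option autoImplicit false
universe u
open SGA7II


namespace Groth.Agent.S3215

/-- Let A be a commutative ring and Q(x) = sum over pairs i <= j of a_{ij} x_i x_j a quadratic form in
2m variables on the free module A^{2m} (the source allows a locally free module, which is free
Zariski-locally; the variables indexed by two copies of Fin m, ordered first copy then second),
whose polar bilinear form (matrix entries 2a_{ii} on the diagonal, a_{ij} for i < j) has invertible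
determinant (Q is ordinary). Then there are finitely many etale A-algebras B_t whose spectra jointly
cover Spec A and, over each B_t, an invertible matrix g with Q(g x) = sum_j x_j x_{m+j}, the split
form. -/
theorem result (A : Type u) [CommRing A] (m : ℕ)
    (a : (Fin m ⊕ Fin m) → (Fin m ⊕ Fin m) → A) :
    let rk : Fin m ⊕ Fin m → ℕ := Sum.elim Fin.val (fun k => m + k.val)
    let QB : ∀ (B : Type u) [CommRing B] [Algebra A B], ((Fin m ⊕ Fin m) → B) → B :=
      fun B _ _ x => ∑ i, ∑ j, if rk i ≤ rk j then algebraMap A B (a i j) * x i * x j else 0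
    IsUnit (Matrix.det (Matrix.of fun i j : Fin m ⊕ Fin m =>
      if i = j then a i i + a i i else if rk i ≤ rk j then a i j else a j i)) →
    ∃ (n : ℕ) (B : Fin n → Type u) (_ : ∀ t, CommRing (B t)) (_ : ∀ t, Algebra A (B t)),
      (∀ t, Algebra.Etale A (B t)) ∧
      (∀ p : PrimeSpectrum A, ∃ (t : Fin n) (q : PrimeSpectrum (B t)),
        q.asIdeal.comap (algebraMap A (B t)) = p.asIdeal) ∧
      ∀ t, ∃ g : Matrix (Fin m ⊕ Fin m) (Fin m ⊕ Fin m) (B t), IsUnit g.det ∧
        ∀ x : Fin m ⊕ Fin m → B t, QB (B t) (g.mulVec x) = ∑ j : Fin m, x (Sum.inl j) * x (Sum.inr j) := by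
  intro rk QB hdet
  classical
  let B0 : Matrix (Fin m ⊕ Fin m) (Fin m ⊕ Fin m) A := Matrix.of fun i j => if rk i ≤ rk j then a i j else 0
  have hrk : Function.Injective rk := by
    rintro (i | i) (j | j) h <;> simp [rk] at h <;> first | (subst h; rfl) | (exact congrArg _ (Fin.ext h)) | omega
  have hS : IsUnit (B0 + B0.transpose).det := by
    convert hdet using 3
    ext i j
    by_cases hij : i = j
    · subst hij; simp [B0]
    have : rk i ≠ rk j := fun e => hij (hrk e)
    rcases lt_or_gt_of_ne this with h | h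
    · simp [B0, hij, h.le, not_le.2 h]
    · simp [B0, hij, h.le, not_le.2 h]
  have key : ∀ p : PrimeSpectrum A, ∃ (C : Type u) (_ : CommRing C) (_ : Algebra A C) (Q : PrimeSpectrum C),
      Algebra.Etale A C ∧ Q.asIdeal.comap (algebraMap A C) = p.asIdeal ∧
      ∃ g : Matrix (Fin m ⊕ Fin m) (Fin m ⊕ Fin m) C, IsUnit g.det ∧
        ∀ x, QB C (g.mulVec x) = ∑ j : Fin m, x (Sum.inl j) * x (Sum.inr j) := by
    intro p
    obtain ⟨C, _, _, L, _, ψ, j, g, h, het, hψ, hgh, -, hg⟩ := Groth.Agent.QEtSplit.exists_split_at m A _ B0 hS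
      (by simp) p.asIdeal.ResidueField (algebraMap A p.asIdeal.ResidueField)
    refine ⟨C, inferInstance, inferInstance, ⟨RingHom.ker ψ, RingHom.ker_isPrime ψ⟩, het, ?_, g,
      Matrix.isUnit_det_of_right_inverse hgh, fun x => ?_⟩
    · rw [RingHom.comap_ker, hψ, RingHom.ker_comp_of_injective _ j.injective, Ideal.ker_algebraMap_residueField]
    · rw [← hg x]
      generalize g.mulVec x = y
      simp only [QB, Groth.Agent.QEtSplit.q, dotProduct, Matrix.mulVec, Finset.mul_sum]
      refine Finset.sum_congr rfl fun i _ => Finset.sum_congr rfl fun k _ => ?_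
      simp only [B0, Matrix.map_apply, Matrix.of_apply]
      split_ifs
      · ring
      · rw [map_zero]; ring
  choose C hC hA Q het hQ hg using key
  have hop : ∀ p, IsOpen (Set.range (PrimeSpectrum.comap (algebraMap A (C p)))) := fun p => by
    haveI := het p
    exact (PrimeSpectrum.isOpenMap_comap_of_hasGoingDown_of_finitePresentation).isOpen_range
  obtain ⟨t, ht⟩ := isCompact_univ.elim_finite_subcover _ hop fun p _ =>
    Set.mem_iUnion.2 ⟨p, Q p, PrimeSpectrum.ext (hQ p)⟩
  refine ⟨t.card, fun i => C (t.equivFin.symm i).1, fun i => hC _, fun i => hA _, fun i => het _, fun p => ?_,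
    fun i => hg _⟩
  obtain ⟨p', hp', q, hq⟩ := Set.mem_iUnion₂.1 (ht (Set.mem_univ p))
  obtain ⟨i, hi⟩ := t.equivFin.symm.surjective ⟨p', hp'⟩
  obtain rfl : (t.equivFin.symm i).1 = p' := congrArg Subtype.val hi
  exact ⟨i, q, congrArg PrimeSpectrum.asIdeal hq⟩

end Groth.Agent.S3215
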