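import Groth.Statements.S3241
import Groth.Agent.GmDiv.Filtration
import Groth.Agent.AcycFin.SkyTorsion

set_option autoImplicit false
set_option linter.style.haveILetI false
set_option backward.isDefEq.respectTransparency false
set_option backward.isDefEq.respectTransparency.types false
universe u
open CategoryTheory CategoryTheory.Limits AlgebraicGeometry Opposite Abelian
open Dix

namespace Groth.Agent.S3241

open Groth.Agent.GmDiv Groth.Agent.EtLC12 Groth.Agent.AcycFin

attribute [local instance] Abelian.hasFiniteBiproducts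

variable {X : Scheme.{u}}

theorem torsion_of_comp_zero {S : ShortComplex (EtCoh.Ab X)} (hS : S.ShortExact) {n : ℕ}
    (hA : IsAddTorsion (EtCoh.H X S.X₁ n)) (hC : IsAddTorsion (EtCoh.H X S.X₃ n)) :
    IsAddTorsion (EtCoh.H X S.X₂ n) := fun x => by
  obtain ⟨N, hN, hNx⟩ := isOfFinAddOrder_iff_nsmul_eq_zero.1 (hC (x.comp (Ext.mk₀ S.g) (add_zero n)))
  obtain ⟨y, hy⟩ := Ext.covariant_sequence_exact₂ _ hS (N • x) ((SkyTorsion.nsmul_ext (add_zero n) N x S.g).trans hNx)
  have h2 : IsOfFinAddOrder (N • x) := hy ▸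
    AddMonoidHom.isOfFinAddOrder (((Ext.bilinearComp (H9Transfer.Zs X) S.X₁ S.X₂ n 0 n (add_zero n))).flip (Ext.mk₀ S.f)) (hA y)
  obtain ⟨M, hM, hMx⟩ := isOfFinAddOrder_iff_nsmul_eq_zero.1 h2
  exact isOfFinAddOrder_iff_nsmul_eq_zero.2 ⟨M * N, Nat.mul_pos hM hN, by rw [mul_smul]; exact hMx⟩

theorem torsion_left {S : ShortComplex (EtCoh.Ab X)} (hS : S.ShortExact) {n : ℕ}
    (hB : IsAddTorsion (EtCoh.H X S.X₂ (n + 1))) (hC : IsAddTorsion (EtCoh.H X S.X₃ n)) :
    IsAddTorsion (EtCoh.H X S.X₁ (n + 1)) := fun x => by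
  obtain ⟨N, hN, hNx⟩ := isOfFinAddOrder_iff_nsmul_eq_zero.1 (hB (x.comp (Ext.mk₀ S.f) (add_zero (n + 1))))
  obtain ⟨y, hy⟩ := Ext.covariant_sequence_exact₁ _ hS (N • x)
    ((SkyTorsion.nsmul_ext (add_zero (n + 1)) N x S.f).trans hNx) rfl
  have h2 : IsOfFinAddOrder (N • x) := hy ▸
    AddMonoidHom.isOfFinAddOrder (((Ext.bilinearComp (H9Transfer.Zs X) S.X₃ S.X₁ n 1 (n + 1) rfl)).flip hS.extClass) (hC y)
  obtain ⟨M, hM, hMx⟩ := isOfFinAddOrder_iff_nsmul_eq_zero.1 h2
  exact isOfFinAddOrder_iff_nsmul_eq_zero.2 ⟨M * N, Nat.mul_pos hM hN, by rw [mul_smul]; exact hMx⟩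

theorem torsion_biproduct {ι : Type u} [Fintype ι] (f : ι → EtCoh.Ab X) {n : ℕ}
    (h : ∀ i, IsAddTorsion (EtCoh.H X (f i) n)) : IsAddTorsion (EtCoh.H X (⨁ f) n) := fun x => by
  classical
  have ht : (∑ i, biproduct.π f i ≫ biproduct.ι f i) = 𝟙 (⨁ f) := by
    refine biproduct.hom_ext _ _ fun k => ?_
    simp [Preadditive.sum_comp, biproduct.ι_π, comp_dite]
  let Φ : ((⨁ f) ⟶ ⨁ f) →+ EtCoh.H X (⨁ f) n := AddMonoidHom.mk'
    (fun r => x.comp (Ext.mk₀ r) (add_zero n)) (fun a b => by rw [Ext.mk₀_add, Ext.comp_add])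
  have hx : x = ∑ i, Φ (biproduct.π f i ≫ biproduct.ι f i) := by
    rw [← map_sum, ht]
    exact (Ext.comp_mk₀_id x).symm
  refine hx.symm ▸ (AddCommGroup.torsion _).sum_mem fun i _ => ?_
  show IsOfFinAddOrder (x.comp (Ext.mk₀ (biproduct.π f i ≫ biproduct.ι f i)) (add_zero n))
  rw [← Ext.mk₀_comp_mk₀, ← Ext.comp_assoc_of_second_deg_zero]
  exact AddMonoidHom.isOfFinAddOrder
    (((Ext.bilinearComp (H9Transfer.Zs X) (f i) (⨁ f) n 0 n (add_zero n))).flip (Ext.mk₀ (biproduct.ι f i)))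
    (h i _)

/-- Let X be a noetherian scheme such that for every X' étale over X all local rings of X' are
factorial. Then the groups H^q(X_ét, G_m) are torsion for every q ≥ 2; in particular the
cohomological Brauer group H²(X_ét, G_m) is torsion. -/
theorem result (X : Scheme.{u}) [IsNoetherian X] (hfact : ∀ (U : X.Etale) (u : U.left), IsDomain (U.left.presheaf.stalk u) ∧ UniqueFactorizationMonoid (U.left.presheaf.stalk u)) (q : ℕ) (hq : 2 ≤ q) : IsAddTorsion (EtCoh.H X (EtCoh.Gm X) q) := by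
  classical
  haveI : ∀ x : X, IsDomain (X.presheaf.stalk x) := fun x => (hfact (EtCoh.top X) x).1
  haveI := finite_gen X
  haveI := Fintype.ofFinite (Gen X)
  have hdom := fun U u => (hfact U u).1
  haveI := mono_gmToJ hdom
  have hqc : ∀ x : X, QuasiCompact (ptI x) := fun x => inferInstance
  obtain ⟨p, rfl⟩ : ∃ p, q = p + 1 + 1 := ⟨q - 2, by omega⟩
  let S : ShortComplex (EtCoh.Ab X) := ShortComplex.mk (gmToJ (X := X)) toD (cokernel.condition _)
  have hS : S.ShortExact :=
    { exact := ShortComplex.exact_of_g_is_cokernel S (cokernelIsCokernel _)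
      mono_f := ‹Mono gmToJ›
      epi_g := inferInstanceAs (Epi toD) }
  refine torsion_left hS ?_ ?_
  · exact torsion_biproduct (X := X) _ fun η => by
      haveI := hqc η.1
      exact SkyTorsion.isAddTorsion_H (ptI η.1) (p + 1) _
  haveI : IsFiltered (ULift.{u + 1} (Finset (H1 X))) := inferInstance
  haveI := isIso_suppDesc hfact
  haveI := QcqsAcyclic.preservesColimitsOfShape_HF X (p + 1) (ULift.{u + 1} (Finset (H1 X)))
  intro x
  let hc := isColimitOfPreserves (EtCoh.HF X (p + 1)) (colimit.isColimit (suppFunctor (X := X)))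
  obtain ⟨F, y, hy⟩ := Concrete.isColimit_exists_rep _ hc
    (((EtCoh.HF X (p + 1)).map (inv (colimit.desc (suppFunctor (X := X)) suppCocone))).hom x)
  have hF : IsAddTorsion (EtCoh.H X (Supp F.down) (p + 1)) := by
    haveI := mono_toPts hfact F.down
    let T : ShortComplex (EtCoh.Ab X) :=
      ShortComplex.mk (toPts F.down) (cokernel.π (toPts F.down)) (cokernel.condition _)
    have hT : T.ShortExact :=
      { exact := ShortComplex.exact_of_g_is_cokernel T (cokernelIsCokernel _)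
        mono_f := ‹Mono (toPts F.down)›
        epi_g := inferInstanceAs (Epi (cokernel.π (toPts F.down))) }
    refine torsion_left hT ?_ (TorsionColim.isAddTorsion_H _ (isTorsion_cokernel_toPts hfact F.down) p)
    exact torsion_biproduct (X := X) _ fun i => by
      haveI := hqc i.1.1
      exact SkyTorsion.isAddTorsion_H (ptI i.1.1) p _
  have h2 := congrArg (Sheaf.H.map (colimit.desc (suppFunctor (X := X)) suppCocone) (p + 1)) hy
  change Sheaf.H.map (colimit.desc (suppFunctor (X := X)) suppCocone) (p + 1)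
    (Sheaf.H.map (colimit.ι (suppFunctor (X := X)) F) (p + 1) y) =
    Sheaf.H.map (colimit.desc (suppFunctor (X := X)) suppCocone) (p + 1)
    (Sheaf.H.map (inv (colimit.desc (suppFunctor (X := X)) suppCocone)) (p + 1) x) at h2
  rw [← Sheaf.H.map_comp_apply, ← Sheaf.H.map_comp_apply, colimit.ι_desc, IsIso.inv_hom_id] at h2
  exact ((Sheaf.H.map_id_apply x).symm.trans h2.symm) ▸ AddMonoidHom.isOfFinAddOrder _ (hF y)

end Groth.Agent.S3241
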