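import Groth.Statements.S3242
import Groth.Agent.GmDiv.DimOne
import Groth.Agent.S3241

set_option autoImplicit false
set_option linter.style.haveILetI false
set_option backward.isDefEq.respectTransparency false
set_option backward.isDefEq.respectTransparency.types false
universe u
open CategoryTheory CategoryTheory.Limits AlgebraicGeometry Opposite Abelian
open Dix

namespace Groth.Agent.S3242

open Groth.Agent.GmDiv Groth.Agent.EtLC12 Groth.Agent.AcycFin

attribute [local instance] Abelian.hasFiniteBiproducts

/-- Let X be a reduced noetherian scheme of dimension ≤ 1. Then H^q(X_ét, G_m) is a torsion group for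
every q ≥ 2 (the reducedness hypothesis is the standing assumption of the published statement, made
explicit here). -/
theorem result (X : Scheme.{u}) [IsNoetherian X] [IsReduced X] (hdim : topologicalKrullDim X ≤ 1) (q : ℕ) (hq : 2 ≤ q) : IsAddTorsion (EtCoh.H X (EtCoh.Gm X) q) := by
  classical
  haveI : ∀ η : Gen X, IsDomain (X.presheaf.stalk η.1) := fun η => isDomain_stalk_of_maximal η.2
  haveI := finite_gen X
  haveI := Fintype.ofFinite (Gen X)
  haveI := mono_gmToJ_of_reduced (X := X)
  have hqc : ∀ x : X, QuasiCompact (ptI x) := fun x => inferInstance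
  obtain ⟨p, rfl⟩ : ∃ p, q = p + 1 + 1 := ⟨q - 2, by omega⟩
  let S : ShortComplex (EtCoh.Ab X) := ShortComplex.mk (gmToJ (X := X)) toD (cokernel.condition _)
  have hS : S.ShortExact :=
    { exact := ShortComplex.exact_of_g_is_cokernel S (cokernelIsCokernel _)
      mono_f := ‹Mono gmToJ›
      epi_g := inferInstanceAs (Epi toD) }
  refine S3241.torsion_left hS ?_ ?_
  · exact S3241.torsion_biproduct (X := X) _ fun η => by
      haveI := hqc η.1
      exact SkyTorsion.isAddTorsion_H (ptI η.1) (p + 1) _
  haveI := isIso_suppDesc_of_dim (X := X) hdim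
  haveI := QcqsAcyclic.preservesColimitsOfShape_HF X (p + 1) (ULift.{u + 1} (Finset (H1 X)))
  intro x
  let hc := isColimitOfPreserves (EtCoh.HF X (p + 1)) (colimit.isColimit (suppFunctor (X := X)))
  obtain ⟨F, y, hy⟩ := Concrete.isColimit_exists_rep _ hc
    (((EtCoh.HF X (p + 1)).map (inv (colimit.desc (suppFunctor (X := X)) suppCocone))).hom x)
  have hF : IsAddTorsion (EtCoh.H X (Supp F.down) (p + 1)) := by
    haveI := isIso_toPts_of_dim (X := X) hdim F.down
    have hP : IsAddTorsion (EtCoh.H X (Pts F.down) (p + 1)) :=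
      S3241.torsion_biproduct (X := X) _ fun i => by
        haveI := hqc i.1.1
        exact SkyTorsion.isAddTorsion_H (ptI i.1.1) p _
    intro z
    have hz : z = Sheaf.H.map (inv (toPts F.down)) (p + 1) (Sheaf.H.map (toPts F.down) (p + 1) z) := by
      rw [← Sheaf.H.map_comp_apply, IsIso.hom_inv_id, Sheaf.H.map_id_apply]
    exact hz.symm ▸ AddMonoidHom.isOfFinAddOrder _ (hP _)
  have h2 := congrArg (Sheaf.H.map (colimit.desc (suppFunctor (X := X)) suppCocone) (p + 1)) hy
  change Sheaf.H.map (colimit.desc (suppFunctor (X := X)) suppCocone) (p + 1)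
    (Sheaf.H.map (colimit.ι (suppFunctor (X := X)) F) (p + 1) y) =
    Sheaf.H.map (colimit.desc (suppFunctor (X := X)) suppCocone) (p + 1)
    (Sheaf.H.map (inv (colimit.desc (suppFunctor (X := X)) suppCocone)) (p + 1) x) at h2
  rw [← Sheaf.H.map_comp_apply, ← Sheaf.H.map_comp_apply, colimit.ι_desc, IsIso.inv_hom_id] at h2
  exact ((Sheaf.H.map_id_apply x).symm.trans h2.symm) ▸ AddMonoidHom.isOfFinAddOrder _ (hF y)

end Groth.Agent.S3242
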