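import Groth.Statements.S3244
import Groth.Agent.H9Transfer.Kill
import Groth.Agent.S0108

set_option linter.style.haveILetI false
set_option backward.isDefEq.respectTransparency false
set_option backward.isDefEq.respectTransparency.types false


set_option autoImplicit false
universe u
open CategoryTheory AlgebraicGeometry
open Dix

namespace Groth.Agent.S3244

/-- Kummer theory at finite level: let n > 0 be an integer invertible on the scheme X (nonzero in every
residue field). Then for every i ≥ 1 the image of H^i(X_ét, μ_n) → H^i(X_ét, G_m), induced by the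
inclusion μ_n → G_m, is exactly the subgroup of elements of H^i(X_ét, G_m) killed by n; in
particular H²(X_ét, μ_n) maps onto the n-torsion of the cohomological Brauer group H²(X_ét, G_m).
(The published statement gives exact sequences obtained as the colimit of these over the powers n =
ℓ^m of a prime ℓ.) -/
theorem result (X : Scheme.{u}) (n : ℕ) (hn : 0 < n) (hX : Dix.InvertibleOn X n) (i : ℕ) (hi : 1 ≤ i) : Set.range ⇑((EtCoh.HF X i).map (EtCoh.muι X n)) = {ξ : (EtCoh.HF X i).obj (EtCoh.Gm X) | n • ξ = 0} := by
  haveI : Epi (EtCoh.powMap X n) := Groth.Agent.S0108.result X n (Groth.Agent.H9Transfer.isUnit_natCast_of_invertible hX)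
  refine Set.ext fun ξ => ⟨?_, fun hξ => ?_⟩
  · rintro ⟨y, rfl⟩
    show n • (y.comp (Abelian.Ext.mk₀ (EtCoh.muι X n)) (add_zero i)) = 0
    rw [← Groth.Agent.H9Transfer.comp_nsmul_id, Abelian.Ext.comp_assoc_of_third_deg_zero, Abelian.Ext.mk₀_comp_mk₀]
    show Abelian.Ext.comp y (Abelian.Ext.mk₀ (Limits.kernel.ι (EtCoh.powMap X n) ≫ EtCoh.powMap X n)) _ = 0
    rw [Limits.kernel.condition, Abelian.Ext.mk₀_zero, Abelian.Ext.comp_zero]
  · exact Groth.Agent.H9Transfer.range_H_kernel (EtCoh.powMap X n) i ξ
      ((Groth.Agent.H9Transfer.comp_nsmul_id ξ n).trans hξ)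
end Groth.Agent.S3244
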