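import Groth.Statements.S3246
import Groth.Agent.H9Transfer.Kill
import Groth.Agent.S0108

set_option linter.style.haveILetI false
set_option backward.isDefEq.respectTransparency false
set_option backward.isDefEq.respectTransparency.types false


set_option autoImplicit false
universe u
open CategoryTheory AlgebraicGeometry
open Dix

namespace Groth.Agent.S3246

/-- Let X be a scheme, ℓ a prime and n an integer with cd_ℓ(X) ≤ n (étale cohomology of ℓ-primary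
torsion sheaves vanishes above degree n). Then the ℓ-primary torsion of H^i(X_ét, G_m) is zero for i
> n + 1; if moreover ℓ is invertible on X, it is zero for i > n. -/
theorem result (X : Scheme.{u}) (ℓ : ℕ) (hℓ : ℓ.Prime) (n : ℕ) (hcd : Dix.CohDimLEAt X ℓ n) : (∀ i : ℕ, n + 1 < i → ∀ ξ : EtCoh.H X (EtCoh.Gm X) i, (∃ k : ℕ, ℓ ^ k • ξ = 0) → ξ = 0) ∧ (Dix.InvertibleOn X ℓ → ∀ i : ℕ, n < i → ∀ ξ : EtCoh.H X (EtCoh.Gm X) i, (∃ k : ℕ, ℓ ^ k • ξ = 0) → ξ = 0) := by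
  have tors : ∀ (G : EtCoh.Ab X) (k : ℕ), (ℓ ^ k) • 𝟙 G = 0 → Dix.IsPrimaryTorsion ℓ G := fun G k hG U s x =>
    ⟨U, 𝟙 U, ⟨x, rfl⟩, k, Groth.Agent.H9Transfer.nsmul_sect_eq_zero hG U _⟩
  refine ⟨fun i hi ξ ⟨k, hk⟩ => ?_, fun hinv i hi ξ ⟨k, hk⟩ => ?_⟩
  · obtain ⟨q, rfl⟩ : ∃ q, i = q + 1 := ⟨i - 1, by omega⟩
    exact Groth.Agent.H9Transfer.eq_zero_of_nsmul ξ hk
      (fun y => (hcd _ (tors _ k (Groth.Agent.H9Transfer.kernel_nsmul_killed _ _)) _ (by omega)).elim _ _)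
      (fun z => (hcd _ (tors _ k (Groth.Agent.H9Transfer.cokernel_nsmul_killed _ _)) _ (by omega)).elim _ _)
  · have hu : IsUnit ((ℓ ^ k : ℕ) : Γ(X, ⊤)) := by
      rw [Nat.cast_pow]
      exact (Groth.Agent.H9Transfer.isUnit_natCast_of_invertible hinv).pow k
    haveI : Epi (EtCoh.powMap X (ℓ ^ k)) := Groth.Agent.S0108.result X _ hu
    obtain ⟨y, hy⟩ := Groth.Agent.H9Transfer.range_H_kernel (EtCoh.powMap X (ℓ ^ k)) i ξ
      ((Groth.Agent.H9Transfer.comp_nsmul_id ξ _).trans hk)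
    rw [← hy, (hcd _ (tors _ k (Groth.Agent.H9Transfer.kernel_nsmul_killed _ _)) i hi).elim y 0,
      Abelian.Ext.zero_comp]
end Groth.Agent.S3246
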