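import Groth.Statements.S3257
import Groth.Agent.ResolveX.IrredBlow
import Groth.Agent.AmpleX.EmbedOverApps

set_option linter.style.haveILetI false
set_option backward.isDefEq.respectTransparency false
set_option backward.isDefEq.respectTransparency.types false
set_option maxHeartbeats 1000000

set_option autoImplicit false
universe u
open AlgebraicGeometry CategoryTheory CategoryTheory.Limits
open ArSurf

open Groth.Agent Groth.Agent.ResolveX

namespace Groth.Agent.S3257

/-- Let R be a Dedekind domain, X and Y arithmetic surfaces over Spec R, f : X -> Y an R-morphism and y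
a closed point of Y such that f restricts to an isomorphism over Y minus y while the fibre of f over
y is irreducible and has more than one point (so the exceptional locus of the birational morphism f
is irreducible). Then f is the blowing-up of Y at y: it has the universal property of the blow-up
along the ideal of the reduced closed point y (BlowUp.IsBlowUp). (The factorization result of the
source says more generally that every birational morphism of regular fibered surfaces is a finite
sequence of blow-ups of closed points.) -/
theorem result {R : Type u} [CommRing R] [IsDedekindDomain R]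
    (X Y : Over (Spec (CommRingCat.of R))) (hX : ArSurf.IsArithSurface R X) (hY : ArSurf.IsArithSurface R Y)
    (f : X ⟶ Y) (y : Y.left) (hy : IsClosed ({y} : Set Y.left))
    (hiso : IsIso (f.left ∣_ (⟨{y}ᶜ, hy.isOpen_compl⟩ : Y.left.Opens)))
    (hirr : IsPreirreducible (f.left.base ⁻¹' {y}))
    (hbig : ∃ x x' : X.left, x ≠ x' ∧ f.left.base x = y ∧ f.left.base x' = y) :
    BlowUp.IsBlowUp f.left (Scheme.IdealSheafData.vanishingIdeal ⟨{y}, hy⟩) := by
  haveI := hX.2.1; haveI := hY.2.1
  obtain ⟨n, i, hi, ei⟩ := hX.2.2.2.2
  obtain ⟨m, j, hj, ej⟩ := hY.2.2.2.2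
  haveI := AmpleX.isProper_toBase' n (Spec (CommRingCat.of R))
  haveI := AmpleX.isProper_toBase' m (Spec (CommRingCat.of R))
  haveI : IsProper X.hom := by rw [← ei]; infer_instance
  haveI : IsProper Y.hom := by rw [← ej]; infer_instance
  haveI : IsLocallyNoetherian X.left := LocallyOfFiniteType.isLocallyNoetherian X.hom
  haveI : IsLocallyNoetherian Y.left := LocallyOfFiniteType.isLocallyNoetherian Y.hom
  haveI : IsProper f.left := by
    haveI : IsProper (f.left ≫ Y.hom) := by rw [Over.w f]; infer_instance
    exact IsProper.of_comp f.left Y.hom
  haveI := hY.1 y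
  have hle : ringKrullDim (Y.left.presheaf.stalk y) ≤ 2 := by
    rw [ringKrullDim_stalk_eq_coheight]
    refine (Order.coheight_le_krullDim y).trans ?_
    rw [← Order.krullDim_eq_of_orderIso (irreducibleSetEquivPoints (α := Y.left))]
    exact hY.2.2.1.le
  haveI : IsNoetherian X.left :=
    { toIsLocallyNoetherian := inferInstance
      toCompactSpace := QuasiCompact.compactSpace_of_compactSpace X.hom }
  have hU : ((⟨{y}ᶜ, hy.isOpen_compl⟩ : Y.left.Opens) : Set Y.left).Nonempty := by
    by_contra h
    rw [Set.not_nonempty_iff_eq_empty] at h
    have hsub : Subsingleton Y.left := ⟨fun a b => by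
      have hy' : ∀ c : Y.left, c = y := fun c => not_not.1 fun hc => (h.le hc : c ∈ (∅ : Set Y.left)).elim
      rw [hy' a, hy' b]⟩
    have h0 : topologicalKrullDim Y.left ≤ 0 := topologicalKrullDim_zero_of_discreteTopology _
    rw [hY.2.2.1] at h0
    exact absurd h0 (by norm_num)
  exact isBlowUp_of_irreducible_fibre f.left y hy hY.1
    (le_antisymm hle (two_le_dim f.left _ hU hiso y hbig)) hX.1 hX.2.2.1.le hiso hirr hbig

end Groth.Agent.S3257
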