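import Groth.Statements.S3258
import Groth.Agent.ArInt.SmoothRelMin
import Groth.Agent.AmpleX.EmbedOverApps

set_option linter.style.haveILetI false
set_option backward.isDefEq.respectTransparency false
set_option backward.isDefEq.respectTransparency.types false
set_option maxHeartbeats 1000000

set_option autoImplicit false
universe u
open AlgebraicGeometry CategoryTheory CategoryTheory.Limits
open ArSurf

namespace Groth.Agent.S3258

/-- Let R be a Dedekind domain and X an arithmetic surface over Spec R (a regular, integral scheme of
dimension 2, flat and projective over Spec R) which is smooth over Spec R. Then X is relatively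
minimal: every R-morphism from X to a regular, projective, flat R-scheme that is an isomorphism on
generic fibres is an isomorphism. -/
theorem result {R : Type u} [CommRing R] [IsDedekindDomain R]
    (X : Over (Spec (CommRingCat.of R))) (hX : ArSurf.IsArithSurface R X) [Smooth X.hom] :
    Neron.IsRelMinimalRegularModel R X := by
  obtain ⟨hreg, hint, hdim, hflat, n, i, hi, hiw⟩ := hX
  haveI := hint
  haveI := hflat
  haveI := AmpleX.isProper_toBase' n (Spec (CommRingCat.of R))
  haveI : IsProper X.hom := by rw [← hiw]; infer_instance
  refine ⟨hreg, ⟨n, i, hi, hiw⟩, hflat, fun Y hY ⟨m, j, hj, hjw⟩ hYf g hg => ?_⟩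
  haveI := hYf
  haveI := AmpleX.isProper_toBase' m (Spec (CommRingCat.of R))
  haveI : IsProper Y.hom := by rw [← hjw]; infer_instance
  let e := ((Neron.genericFibre R).map g).left
  have he : e ≫ pullback.fst Y.hom (ArInt.SmoothRelMin.jK R) = pullback.fst X.hom (ArInt.SmoothRelMin.jK R) ≫ g.left := by
    simp [e]
  haveI : IsIso e := inferInstanceAs (IsIso ((Over.forget _).map ((Neron.genericFibre R).map g)))
  haveI : IsIntegral Y.left := ArInt.SmoothRelMin.isIntegral_Y X.hom Y.hom g.left e he fun y => by
    haveI := hY y
    exact (S2821.result _).1
  haveI : IsIso g.left := ArInt.SmoothRelMin.isIso X.hom Y.hom g.left (Over.w g) e he hdim hY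
  haveI : IsIso ((Over.forget _).map g) := ‹IsIso g.left›
  exact isIso_of_reflects_iso g (Over.forget _)

end Groth.Agent.S3258
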