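import Groth.Statements.S3259
import Groth.Agent.Triage.SchDense
import Groth.Agent.S2155
import Groth.Agent.PnCoh.Chow.Proper

set_option linter.style.haveILetI false
set_option backward.isDefEq.respectTransparency false
set_option backward.isDefEq.respectTransparency.types false
set_option maxHeartbeats 1000000

set_option autoImplicit false
universe u
open AlgebraicGeometry CategoryTheory CategoryTheory.Limits
open ArSurf

namespace Groth.Agent.S3259

/-- Let R be a Dedekind domain with fraction field K and C a smooth projective curve over K (smooth,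
proper, of dimension 1, admitting a closed immersion into some P^n_K). Then there are a non-empty
open subscheme U of Spec R containing the generic point and a smooth proper morphism 𝒞 -> U whose
fibre over the generic point is K-isomorphic to C. In particular C has good reduction at every
closed point of U, that is, at all but finitely many closed points. (Stated in the form the
published proof gives.) -/
theorem result {R : Type u} [CommRing R] [IsDedekindDomain R]
    (C : Over (Spec (CommRingCat.of (FractionRing R)))) [Smooth C.hom] [IsProper C.hom]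
    (hdim : topologicalKrullDim C.left = 1) (hproj : Neron.IsProjectiveOver (FractionRing R) C) :
    ∃ (U : (Spec (CommRingCat.of R)).Opens) (ξ : Spec (CommRingCat.of (FractionRing R)) ⟶ (U : Scheme.{u}))
      (𝒞 : Scheme.{u}) (π : 𝒞 ⟶ (U : Scheme.{u})),
      ξ ≫ U.ι = Neron.genPt R ∧ Smooth π ∧ IsProper π ∧
      Nonempty (Over.mk (pullback.snd π ξ) ≅ C) := by
  obtain ⟨N, i, hi, hiC⟩ := hproj
  let K := FractionRing R
  let S := Spec (CommRingCat.of R)
  let j : Spec (CommRingCat.of K) ⟶ S := Neron.genPt R
  haveI : Flat j := HasRingHomProperty.Spec_iff.mpr (RingHom.flat_algebraMap_iff.mpr (IsLocalization.flat K (nonZeroDivisors R)))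
  haveI : Mono j := by
    haveI : Epi (CommRingCat.ofHom (algebraMap R K)) := by
      refine ⟨fun {Z} a b hab => CommRingCat.hom_ext (IsLocalization.ringHom_ext (nonZeroDivisors R) ?_)⟩
      exact congrArg CommRingCat.Hom.hom hab
    exact inferInstanceAs (Mono (Scheme.Spec.map (CommRingCat.ofHom (algebraMap R K)).op))
  haveI : QuasiCompact j := inferInstance
  let pZ := CohB1.ProjSpace.toSpec N (ULift.{u} ℤ)
  haveI : IsProper pZ := PnCoh.Chow.isProper_toSpec N (ULift.{u} ℤ)
  let P := CohB1.ProjSpaceOver N S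
  let tP : P ⟶ S := CohB1.ProjSpaceOver.toBase N S
  let PK := CohB1.ProjSpaceOver N (Spec (CommRingCat.of K))
  let tK : PK ⟶ Spec (CommRingCat.of K) := CohB1.ProjSpaceOver.toBase N (Spec (CommRingCat.of K))
  haveI : IsProper tP := MorphismProperty.pullback_snd pZ _ inferInstance
  let q : PK ⟶ P := pullback.lift (pullback.fst _ _) (tK ≫ j) (specULiftZIsTerminal.hom_ext _ _)
  have hq : IsPullback q tK tP j := IsPullback.of_right
    (by
      rw [show q ≫ pullback.fst pZ (specULiftZIsTerminal.from S) = pullback.fst _ _ from pullback.lift_fst _ _ _,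
        show j ≫ specULiftZIsTerminal.from S = specULiftZIsTerminal.from _ from specULiftZIsTerminal.hom_ext _ _]
      exact IsPullback.of_hasPullback _ _)
    (pullback.lift_snd _ _ _) (IsPullback.of_hasPullback pZ (specULiftZIsTerminal.from S))
  haveI : Mono q := hq.mono_fst_of_mono
  haveI : Flat q := MorphismProperty.of_isPullback hq.flip ‹Flat j›
  haveI : QuasiCompact q := MorphismProperty.of_isPullback hq.flip ‹QuasiCompact j›
  -- the closure of the curve in projective space over `R`
  haveI := hi
  haveI : QuasiCompact i := inferInstance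
  let t := (i ≫ q).toImage
  let ι := (i ≫ q).imageι
  have htι : t ≫ ι = i ≫ q := (i ≫ q).toImage_imageι
  haveI : QuasiCompact t := by
    haveI : QuasiCompact (t ≫ ι) := by rw [htι]; infer_instance
    exact QuasiCompact.of_comp t ι
  haveI : IsSchemeTheoreticallyDominant t := Groth.Agent.Triage.SchDense.isSchemeTheoreticallyDominant_toImage (i ≫ q)
  let π : (i ≫ q).image ⟶ S := ι ≫ tP
  let W := pullback ι q
  let ℓ : C.left ⟶ W := pullback.lift t i htι
  haveI : Mono q := ‹Mono q›
  have hℓ : IsPullback ℓ (𝟙 _) (pullback.fst ι q) t := by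
    refine ⟨⟨by simp [ℓ]⟩, ⟨PullbackCone.IsLimit.mk _ (fun s => s.snd) (fun s => ?_) (fun s => Category.comp_id _) (fun s m _ hm => ?_)⟩⟩
    · haveI : Mono (pullback.fst ι q) := pullback.fst_of_mono
      rw [← cancel_mono (pullback.fst ι q), Category.assoc, pullback.lift_fst]
      exact s.condition.symm
    · simpa using hm
  haveI : Flat (pullback.fst ι q) := MorphismProperty.pullback_fst ι q ‹Flat q›
  haveI : IsSchemeTheoreticallyDominant ℓ := IsSchemeTheoreticallyDominant.of_isPullback hℓ.flip
  haveI : IsClosedImmersion (ℓ ≫ pullback.snd ι q) := by rw [pullback.lift_snd]; exact hi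
  haveI : IsClosedImmersion ℓ := IsClosedImmersion.of_comp ℓ (pullback.snd ι q)
  haveI : IsIso ℓ := by
    have h1 : ℓ.ker = ⊥ := ℓ.ker_eq_bot
    haveI : IsIso ℓ.ker.subschemeι := by rw [h1]; infer_instance
    have h2 := ℓ.toImage_imageι
    haveI : IsIso ℓ.toImage := inferInstance
    rw [← h2]
    exact IsIso.comp_isIso' ‹IsIso ℓ.toImage› ‹IsIso ℓ.ker.subschemeι›
  have hWsq : IsPullback (pullback.fst ι q) (pullback.snd ι q ≫ tK) π j :=
    (IsPullback.of_hasPullback ι q).paste_vert hq
  have hCsq : IsPullback t C.hom π j := by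
    refine hWsq.of_iso (asIso ℓ).symm (Iso.refl _) (Iso.refl _) (Iso.refl _) ?_ ?_ (by simp) (by simp)
    · simp [ℓ]
    · simp [ℓ, ← hiC]; rfl
  haveI : IsProper π := inferInstance
  haveI : IsNoetherianRing (CommRingCat.of R) := inferInstanceAs (IsNoetherianRing R)
  haveI : LocallyOfFinitePresentation π := inferInstance
  have hsm : t ⁻¹ᵁ π.smoothLocus = ⊤ := by
    rw [← Groth.Agent.S2155.result π j C.hom t hCsq (Or.inr inferInstance)]
    exact C.hom.smoothLocus_eq_top
  let Z : Set S := π '' (π.smoothLocus : Set (i ≫ q).image)ᶜ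
  have hZ : IsClosed Z := π.isClosedMap _ π.smoothLocus.2.isClosed_compl
  let U : S.Opens := ⟨Zᶜ, hZ.isOpen_compl⟩
  have hjU : Set.range j ⊆ Set.range U.ι := by
    rw [Scheme.Opens.range_ι]
    rintro _ ⟨z, rfl⟩ ⟨w, hw, hwz⟩
    obtain ⟨c', hc, -⟩ := Scheme.Pullback.exists_preimage_pullback w z hwz
    obtain ⟨c, rfl⟩ : ∃ c : C.left, t c = w := ⟨hCsq.isoPullback.inv c', by
      rw [← Scheme.Hom.comp_apply, hCsq.isoPullback_inv_fst]; exact hc⟩
    exact hw (show t c ∈ π.smoothLocus from hsm.ge (Set.mem_univ c))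
  let ξ := IsOpenImmersion.lift U.ι j hjU
  have hξ : ξ ≫ U.ι = j := IsOpenImmersion.lift_fac _ _ _
  have hres := isPullback_morphismRestrict π U
  have hUsm : Smooth (π ∣_ U) := by
    rw [← Scheme.Hom.smoothLocus_eq_top_iff,
      Groth.Agent.S2155.result π U.ι (π ∣_ U) (π ⁻¹ᵁ U).ι hres.flip (Or.inr inferInstance), eq_top_iff]
    rintro ⟨w, hw⟩ -
    by_contra hns
    exact hw ⟨w, hns, rfl⟩
  refine ⟨U, ξ, _, π ∣_ U, hξ, hUsm, MorphismProperty.of_isPullback hres.flip ‹IsProper π›, ?_⟩
  let lift : C.left ⟶ (π ⁻¹ᵁ U).toScheme := hres.flip.lift t (C.hom ≫ ξ) (by rw [hCsq.w, Category.assoc, hξ])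
  have hsq : IsPullback lift C.hom (π ∣_ U) ξ :=
    IsPullback.of_right (by simpa [lift, hξ] using hCsq) (by simp [lift]) hres.flip
  exact ⟨(Over.isoMk hsq.isoPullback hsq.isoPullback_hom_snd).symm⟩

end Groth.Agent.S3259
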