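import Groth.Statements.S3315
import Groth.Agent.ArInt.VertPic

set_option linter.style.haveILetI false
set_option backward.isDefEq.respectTransparency false
set_option backward.isDefEq.respectTransparency.types false
set_option maxHeartbeats 1000000

set_option autoImplicit false
universe u
open CategoryTheory CategoryTheory.Limits AlgebraicGeometry
open Models

open Groth.Agent
open Groth.Agent.H23.PicMul

namespace Groth.Agent.S3315

/-- Let R be a discrete valuation ring with fraction field K, C a smooth proper curve over K with H^0(C,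
O_C) = K, X a regular proper model of C with generic-fibre inclusion g : C → X, Γ_1, …, Γ_n the
irreducible components of the closed fibre and L_i ⊗ I(Γ_i) ≅ O_X. If M is an invertible O_X-module
whose pullback to C is trivial, then there are natural numbers a_i, b_i with M ⊗ L_1^{a_1} ⊗ ⋯ ⊗
L_n^{a_n} ≅ L_1^{b_1} ⊗ ⋯ ⊗ L_n^{b_n}, i.e. M ≅ O_X(Σ (b_i - a_i) Γ_i). -/
theorem result (R : Type u) [CommRing R] [IsDomain R] [IsDiscreteValuationRing R]
    (C X : Scheme.{u}) (f : C ⟶ Spec (CommRingCat.of (FractionRing R))) (p : X ⟶ Spec (CommRingCat.of R))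
    (hC : Curve.IsSmoothProperCurve (FractionRing R) C f) (hH0 : IsIso f.appTop)
    (hX : Models.IsRegularProperModel R X p C f)
    {n : ℕ} (Γ : Fin n → ArSurf.VertComp R (Over.mk p)) (hΓ : Models.IsComponentList R (Over.mk p) Γ)
    (g : C ⟶ X) (hg : IsPullback g f p (Spec.map (CommRingCat.ofHom (algebraMap R (FractionRing R)))))
    (L : Fin n → X.Modules) (hL : ∀ i, ClSub.IsInverseOf (L i) (ClSub.idealMod (Γ i).ι.ker)) (M : X.Modules) (hM : PicF.IsInvertible M)
    (htriv : Nonempty ((Scheme.Modules.pullback g).obj M ≅ Coh.structureModule C)) :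
    ∃ a b : Fin n → ℕ, Nonempty (CohB1.tensorMod M (FGA.multiTwist L a) ≅ FGA.multiTwist L b) := by
  haveI := (ArInt.model_facts hC hX.1).1
  haveI := ArInt.isSurf hC hX Γ hΓ
  haveI : Flat (Over.mk p).hom := hX.1.1
  obtain ⟨e, he⟩ := ArInt.exists_divOf_of_trivial Γ (ArInt.cover _ Γ hΓ) g f hg hM htriv
  refine ⟨fun _ => 0, e, ?_⟩
  let L' : Fin n → (Over.mk p).left.Modules := L
  let M' : (Over.mk p).left.Modules := M
  suffices key : PicF.cl (CohB1.tensorMod M' (FGA.multiTwist L' fun _ => 0)) = PicF.cl (FGA.multiTwist L' e) from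
    H23.PicMul.cl_eq_iff.1 key
  rw [H23.PicMul.cl_tensor, ArInt.cl_multiTwist L', ArInt.cl_multiTwist L']
  simp only [pow_zero, Finset.prod_const_one, mul_one]
  rw [ArInt.cl_divOf Γ e] at he
  have h1 : (∏ j, PicF.cl (ClSub.idealMod (Γ j).ι.ker) ^ e j) * ∏ j, PicF.cl (L' j) ^ e j = 1 := by
    rw [← Finset.prod_mul_distrib]
    refine Finset.prod_eq_one fun j _ => ?_
    rw [← mul_pow, show PicF.cl (ClSub.idealMod (Γ j).ι.ker) * PicF.cl (L' j) = 1 by
      rw [mul_comm, ← H23.PicMul.cl_tensor, H23.PicMul.one_def]; exact H23.PicMul.cl_eq_iff.2 (hL j), one_pow]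
  exact left_inv_eq_right_inv he h1

end Groth.Agent.S3315
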