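import Groth.Statements.S3320
import Groth.Agent.ArInt.ModelLib
import Groth.Agent.S2209

set_option linter.style.haveILetI false
set_option backward.isDefEq.respectTransparency false
set_option backward.isDefEq.respectTransparency.types false
set_option maxHeartbeats 1000000

set_option autoImplicit false
universe u
open CategoryTheory CategoryTheory.Limits AlgebraicGeometry
open Models

namespace Groth.Agent.S3320

/-- In the following situation (R a discrete valuation ring, C a smooth proper curve over its fraction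
field with H^0(C, O_C) = K, X a regular proper model, Γ_1, …, Γ_n the irreducible components of the
closed fibre with multiplicities m_i, L_j ⊗ I(Γ_j) ≅ O_X), for every integer vector a one has
Σ_{i,j} a_i a_j (Γ_i · Γ_j) ≤ 0, with equality if and only if a is a rational multiple of (m_1, …,
m_n). -/
theorem result (R : Type u) [CommRing R] [IsDomain R] [IsDiscreteValuationRing R]
    (C X : Scheme.{u}) (f : C ⟶ Spec (CommRingCat.of (FractionRing R))) (p : X ⟶ Spec (CommRingCat.of R))
    (hC : Curve.IsSmoothProperCurve (FractionRing R) C f) (hH0 : IsIso f.appTop)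
    (hX : Models.IsRegularProperModel R X p C f)
    {n : ℕ} (Γ : Fin n → ArSurf.VertComp R (Over.mk p)) (hΓ : Models.IsComponentList R (Over.mk p) Γ)
    (L : Fin n → X.Modules) (hL : ∀ i, ClSub.IsInverseOf (L i) (ClSub.idealMod (Γ i).ι.ker)) (a : Fin n → ℤ) :
    (∑ q : Fin n × Fin n, a q.1 * a q.2 * ArSurf.inter R (Over.mk p) (L q.2) (Γ q.1)) ≤ 0 ∧
      ((∑ q : Fin n × Fin n, a q.1 * a q.2 * ArSurf.inter R (Over.mk p) (L q.2) (Γ q.1)) = 0 ↔
        ∃ c : ℚ, ∀ i, (a i : ℚ) = c * (Models.mult R (Over.mk p) (Γ i) : ℚ)) := by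
  haveI := (ArInt.model_facts hC hX.1).1
  haveI := ArInt.isSurf hC hX Γ hΓ
  haveI : Flat (Over.mk p).hom := hX.1.1
  haveI : ConnectedSpace ↥(Limits.pullback p (Spec.map (CommRingCat.ofHom (algebraMap R (IsLocalRing.ResidueField R))))) :=
    Groth.Agent.S2209.result R C X f p hC hH0 hX
  have hconn : _root_.IsConnected (Models.specialFibreSet R (Over.mk p)) := by
    have h : Models.specialFibreSet R (Over.mk p) = Set.range (Limits.pullback.fst p
        (Spec.map (CommRingCat.ofHom (algebraMap R (IsLocalRing.ResidueField R))))) := by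
      rw [Scheme.Pullback.range_fst]
      refine congrArg (p ⁻¹' ·) (Set.ext fun t => ⟨fun ht => ⟨IsLocalRing.closedPoint _, ?_⟩, ?_⟩)
      · rw [Set.mem_singleton_iff] at ht
        rw [ht]
        exact IsLocalRing.comap_closedPoint (IsLocalRing.residue R)
      · rintro ⟨w, rfl⟩
        rw [Set.mem_singleton_iff, Subsingleton.elim w (IsLocalRing.closedPoint (IsLocalRing.ResidueField R))]
        exact IsLocalRing.comap_closedPoint (IsLocalRing.residue R)
    rw [h]
    exact isConnected_range (Limits.pullback.fst p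
        (Spec.map (CommRingCat.ofHom (algebraMap R (IsLocalRing.ResidueField R))))).continuous
  have hs : (∑ q : Fin n × Fin n, a q.1 * a q.2 * ArSurf.inter R (Over.mk p) (L q.2) (Γ q.1)) =
      ∑ i, ∑ j, a i * a j * ArSurf.inter R (Over.mk p) (L j) (Γ i) :=
    Fintype.sum_prod_type _
  rw [hs]
  refine ⟨(ArInt.form_nonpos Γ L hL hΓ.1 a).1, fun h0 => ?_, fun ⟨c, hc⟩ => ?_⟩
  · exact ArInt.exists_mult_of_form_eq_zero Γ L hL hΓ.1 (ArInt.cover _ Γ hΓ) hconn a h0
  · have hk := (ArInt.kernel_iff Γ L hL hΓ.1 (ArInt.cover _ Γ hΓ) hconn a).2 ⟨c, hc⟩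
    refine Finset.sum_eq_zero fun i _ => ?_
    rw [show ∑ j, a i * a j * ArSurf.inter R (Over.mk p) (L j) (Γ i) =
      a i * ∑ j, a j * ArSurf.inter R (Over.mk p) (L j) (Γ i) by
        rw [Finset.mul_sum]; exact Finset.sum_congr rfl fun j _ => by ring, hk i, mul_zero]

end Groth.Agent.S3320
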