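import Groth.Statements.S3324
import Groth.Agent.ArInt.EulerChi
import Groth.Agent.S3323

set_option linter.style.haveILetI false
set_option backward.isDefEq.respectTransparency false
set_option backward.isDefEq.respectTransparency.types false
set_option maxHeartbeats 1000000

set_option autoImplicit false
universe u
open CategoryTheory CategoryTheory.Limits AlgebraicGeometry
open Models

open Groth.Agent

namespace Groth.Agent.S3324

/-- In the following situation (R a discrete valuation ring with residue field k, C a smooth proper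
curve over its fraction field K with H^0(C, O_C) = K, X a regular proper model, Γ_1, …, Γ_n the
irreducible components of the closed fibre with multiplicities m_i) let d = gcd(m_1, …, m_n) and let
D be the closed subscheme Σ (m_i/d) Γ_i, with ideal sheaf Π I(Γ_i)^{m_i/d}. Then κ = H^0(D, O_D) is
a field and 1 - g_C = d [κ : k] (1 - g_D), where g_C = dim_K H^1(C, O_C) and g_D = dim_κ H^1(D,
O_D). Here the right hand side is written as d (dim_k H^0(D, O_D) - dim_k H^1(D, O_D)), the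
k-dimensions being computed as R-lengths of the cohomology groups of O_D on X. -/
theorem result (R : Type u) [CommRing R] [IsDomain R] [IsDiscreteValuationRing R]
    (C X : Scheme.{u}) (f : C ⟶ Spec (CommRingCat.of (FractionRing R))) (p : X ⟶ Spec (CommRingCat.of R))
    (hC : Curve.IsSmoothProperCurve (FractionRing R) C f) (hH0 : IsIso f.appTop)
    (hX : Models.IsRegularProperModel R X p C f)
    {n : ℕ} (Γ : Fin n → ArSurf.VertComp R (Over.mk p)) (hΓ : Models.IsComponentList R (Over.mk p) Γ) :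
    IsField ↑(Γ((∏ i, (Γ i).ι.ker ^ (Models.mult R (Over.mk p) (Γ i) / Models.multGcd R (Over.mk p) Γ)).subscheme, ⊤)) ∧
      (1 : ℤ) - (Models.curveGenus (FractionRing R) C f : ℤ) =
        (Models.multGcd R (Over.mk p) Γ : ℤ) * ((Models.lengthH R (Over.mk p) (ClSub.quotMod (∏ i, (Γ i).ι.ker ^ (Models.mult R (Over.mk p) (Γ i) / Models.multGcd R (Over.mk p) Γ))) 0 : ℤ) -
          (Models.lengthH R (Over.mk p) (ClSub.quotMod (∏ i, (Γ i).ι.ker ^ (Models.mult R (Over.mk p) (Γ i) / Models.multGcd R (Over.mk p) Γ))) 1 : ℤ)) := by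
  classical
  haveI := (ArInt.model_facts hC hX.1).1
  haveI := ArInt.isSurf hC hX Γ hΓ
  haveI : Flat (Over.mk p).hom := hX.1.1
  obtain ⟨s, a, -, hlast, -, hF⟩ := S3323.result R C X f p hC hH0 hX Γ hΓ
  let d := Models.multGcd R (Over.mk p) Γ
  let μ : Fin n → ℕ := fun i => Models.mult R (Over.mk p) (Γ i) / d
  refine ⟨?_, ?_⟩
  · have h := (hF (Fin.last s)).1
    rw [hlast] at h
    exact h
  choose L₀ hL₀ using fun i => H23.PicInv.exists_inverse (Big.isInvertible_ideal (ArInt.isEffCartier_ker (Γ i)))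
  have hL : ∀ i, ClSub.IsInverseOf (L₀ i) (ClSub.idealMod (Γ i).ι.ker) := fun i =>
    ⟨(H23.PicMul.comm _ _).some ≪≫ (hL₀ i).2.some⟩
  let m : Fin n → ℕ := fun i => Models.mult R (Over.mk p) (Γ i)
  have hmd : ∀ i, (m i : ℤ) = (d : ℤ) * μ i := fun i => by
    exact_mod_cast (Nat.mul_div_cancel' (Finset.gcd_dvd (Finset.mem_univ i) : d ∣ m i)).symm
  have hm := ArInt.two_chi Γ L₀ hL hΓ.1 m
  have hμ := ArInt.two_chi Γ L₀ hL hΓ.1 μ
  rw [ArInt.chi_fibre_eq_genus hC hH0 hX Γ hΓ] at hm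
  have hrow : ∀ i, (d : ℤ) * ∑ j, (μ j : ℤ) * ArSurf.inter R (Over.mk p) (L₀ j) (Γ i) = 0 := fun i => by
    rw [Finset.mul_sum, ← (ArInt.sum_mult_inter Γ hΓ.1 L₀ hL i).2 (ArInt.cover _ Γ hΓ)]
    exact Finset.sum_congr rfl fun j _ => by rw [← mul_assoc, ← hmd j]
  have hQm : ∑ i, ∑ j, (m i : ℤ) * m j * ArSurf.inter R (Over.mk p) (L₀ j) (Γ i) = 0 :=
    Finset.sum_eq_zero fun i _ => by
      simp only [mul_assoc, ← Finset.mul_sum]
      rw [(ArInt.sum_mult_inter Γ hΓ.1 L₀ hL i).2 (ArInt.cover _ Γ hΓ), mul_zero]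
  have hQμ : (d : ℤ) * ∑ i, ∑ j, (μ i : ℤ) * μ j * ArSurf.inter R (Over.mk p) (L₀ j) (Γ i) = 0 := by
    rw [Finset.mul_sum]
    refine Finset.sum_eq_zero fun i _ => ?_
    simp only [mul_assoc, ← Finset.mul_sum]
    rw [mul_left_comm, hrow i, mul_zero]
  have hlin : ∑ i, (m i : ℤ) * (2 * ArInt.χ₀ Γ i + ArSurf.inter R (Over.mk p) (L₀ i) (Γ i)) =
      (d : ℤ) * ∑ i, (μ i : ℤ) * (2 * ArInt.χ₀ Γ i + ArSurf.inter R (Over.mk p) (L₀ i) (Γ i)) := by
    rw [Finset.mul_sum]
    exact Finset.sum_congr rfl fun i _ => by rw [hmd i, mul_assoc]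
  rw [hQm, hlin, sub_zero] at hm
  have key : 2 * ((1 : ℤ) - (Models.curveGenus (FractionRing R) C f : ℤ)) =
      2 * ((d : ℤ) * ArInt.chiM (Over.mk p) (ClSub.quotMod (ArInt.divOf Γ μ))) := by
    rw [hm, mul_left_comm, hμ, mul_sub, hQμ, sub_zero]
  exact mul_left_cancel₀ (two_ne_zero) key

end Groth.Agent.S3324
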