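import Groth.Statements.S3330
import Groth.Agent.ResolveX.ModelsMin

set_option linter.style.haveILetI false
set_option backward.isDefEq.respectTransparency false
set_option backward.isDefEq.respectTransparency.types false
set_option maxHeartbeats 1000000

set_option autoImplicit false
universe u
open CategoryTheory CategoryTheory.Limits AlgebraicGeometry
open Models

open Groth.Agent Groth.Agent.ResolveX

namespace Groth.Agent.S3330

/-- Let R be a discrete valuation ring with fraction field K and C a smooth proper curve over K with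
H^0(C, O_C) = K and positive genus dim_K H^1(C, O_C) > 0. If X₁ and X₂ are minimal models of C with
generic-fibre inclusions g₁, g₂, then there is a unique isomorphism X₁ ≅ X₂ of models (over R,
carrying g₁ to g₂). -/
theorem result (R : Type u) [CommRing R] [IsDomain R] [IsDiscreteValuationRing R]
    (C X₁ X₂ : Scheme.{u}) (f : C ⟶ Spec (CommRingCat.of (FractionRing R)))
    (p₁ : X₁ ⟶ Spec (CommRingCat.of R)) (p₂ : X₂ ⟶ Spec (CommRingCat.of R))
    (hC : Curve.IsSmoothProperCurve (FractionRing R) C f) (hH0 : IsIso f.appTop)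
    (hg : 0 < Models.curveGenus (FractionRing R) C f)
    (h₁ : Models.IsMinimalModel R X₁ p₁ C f) (h₂ : Models.IsMinimalModel R X₂ p₂ C f)
    (g₁ : C ⟶ X₁) (hg₁ : IsPullback g₁ f p₁ (Spec.map (CommRingCat.ofHom (algebraMap R (FractionRing R)))))
    (g₂ : C ⟶ X₂) (hg₂ : IsPullback g₂ f p₂ (Spec.map (CommRingCat.ofHom (algebraMap R (FractionRing R))))) :
    ∃! e : X₁ ≅ X₂, e.hom ≫ p₂ = p₁ ∧ g₁ ≫ e.hom = g₂ := by
  obtain ⟨⟨a, ⟨hap, hag⟩, -⟩, -⟩ := exists_unique_to_minimal hC hH0 hg h₂ h₁.1 g₂ hg₂ g₁ hg₁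
  obtain ⟨⟨b, ⟨hbp, hbg⟩, -⟩, -⟩ := exists_unique_to_minimal hC hH0 hg h₁ h₂.1 g₁ hg₁ g₂ hg₂
  obtain ⟨⟨i₁, -, hi₁⟩, -⟩ := exists_unique_to_minimal hC hH0 hg h₁ h₁.1 g₁ hg₁ g₁ hg₁
  obtain ⟨⟨i₂, -, hi₂⟩, -⟩ := exists_unique_to_minimal hC hH0 hg h₂ h₂.1 g₂ hg₂ g₂ hg₂
  obtain ⟨⟨_, -, huniq⟩, -⟩ := exists_unique_to_minimal hC hH0 hg h₂ h₁.1 g₂ hg₂ g₁ hg₁
  refine ⟨⟨a, b, ?_, ?_⟩, ⟨hap, hag⟩, fun e he => Iso.ext ((huniq e.hom he).trans (huniq a ⟨hap, hag⟩).symm)⟩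
  · exact (hi₁ _ ⟨by rw [Category.assoc, hbp, hap], by rw [reassoc_of% hag, hbg]⟩).trans
      (hi₁ (𝟙 _) ⟨Category.id_comp _, Category.comp_id _⟩).symm
  · exact (hi₂ _ ⟨by rw [Category.assoc, hap, hbp], by rw [reassoc_of% hbg, hag]⟩).trans
      (hi₂ (𝟙 _) ⟨Category.id_comp _, Category.comp_id _⟩).symm

end Groth.Agent.S3330
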