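import Groth.Statements.S3340
import Groth.Agent.ArInt.PicDeg
import Groth.Agent.ArInt.RedFibre

set_option linter.style.haveILetI false
set_option backward.isDefEq.respectTransparency false
set_option backward.isDefEq.respectTransparency.types false
set_option maxHeartbeats 1000000

set_option autoImplicit false
universe u
open CategoryTheory CategoryTheory.Limits AlgebraicGeometry
open Models

open Groth.Agent
open Groth.Agent.H23.PicMul

namespace Groth.Agent.S3340

/-- In the following situation (R a discrete valuation ring, C a smooth proper curve over its fraction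
field K with H^0(C, O_C) = K, X a regular proper model with generic-fibre inclusion g, Γ_1, …, Γ_n
the irreducible components of the closed fibre with multiplicities m_i) let d = gcd(m_1, …, m_n). If
M is an invertible O_X-module whose pullback to C is trivial and whose degree on each Γ_i is zero,
then the d-th tensor power of M is trivial. -/
theorem result (R : Type u) [CommRing R] [IsDomain R] [IsDiscreteValuationRing R]
    (C X : Scheme.{u}) (f : C ⟶ Spec (CommRingCat.of (FractionRing R))) (p : X ⟶ Spec (CommRingCat.of R))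
    (hC : Curve.IsSmoothProperCurve (FractionRing R) C f) (hH0 : IsIso f.appTop)
    (hX : Models.IsRegularProperModel R X p C f)
    {n : ℕ} (Γ : Fin n → ArSurf.VertComp R (Over.mk p)) (hΓ : Models.IsComponentList R (Over.mk p) Γ)
    (g : C ⟶ X) (hg : IsPullback g f p (Spec.map (CommRingCat.ofHom (algebraMap R (FractionRing R))))) (M : X.Modules) (hM : PicF.IsInvertible M)
    (htriv : Nonempty ((Scheme.Modules.pullback g).obj M ≅ Coh.structureModule C))
    (hdeg : ∀ i, ArSurf.inter R (Over.mk p) M (Γ i) = 0) :
    Nonempty (CohB1.tensorPow M (Models.multGcd R (Over.mk p) Γ) ≅ Coh.structureModule X) := by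
  classical
  haveI := (ArInt.model_facts hC hX.1).1
  haveI := ArInt.isSurf hC hX Γ hΓ
  haveI : Flat (Over.mk p).hom := hX.1.1
  let M' : (Over.mk p).left.Modules := M
  obtain ⟨e, he⟩ := ArInt.exists_divOf_of_trivial Γ (ArInt.cover _ Γ hΓ) g f hg (M := M') hM htriv
  choose L₀ hL₀ using fun i => H23.PicInv.exists_inverse (Big.isInvertible_ideal (ArInt.isEffCartier_ker (Γ i)))
  have hL : ∀ i, ClSub.IsInverseOf (L₀ i) (ClSub.idealMod (Γ i).ι.ker) := fun i =>
    ⟨(H23.PicMul.comm _ _).some ≪≫ (hL₀ i).2.some⟩
  obtain ⟨q, hq⟩ := ArInt.dvd_of_degree_zero Γ L₀ hL hΓ (ArInt.isConnected_fibre hC hH0 hX) e fun i => by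
    rw [← ArInt.inter_of_cl_mul Γ L₀ hL e he (Γ i)]; exact hdeg i
  suffices key : PicF.cl M' ^ Models.multGcd R (Over.mk p) Γ = 1 from
    H23.PicMul.cl_eq_iff.1 ((H23.PicMul.cl_tensorPow _ _).trans (key.trans H23.PicMul.one_def))
  have h1 : PicF.cl (ClSub.idealMod (ArInt.divOf Γ e)) ^ Models.multGcd R (Over.mk p) Γ = 1 := by
    have h3 := ArInt.cl_divOf_mult Γ hΓ.1 (ArInt.cover _ Γ hΓ)
    rw [ArInt.cl_divOf Γ] at h3 ⊢
    rw [← Finset.prod_pow]
    simp only [← pow_mul]
    rw [Finset.prod_congr rfl fun j _ => by rw [mul_comm (e j), hq j, mul_comm, pow_mul], Finset.prod_pow, h3, one_pow]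
  have h2 : (PicF.cl M' * PicF.cl (ClSub.idealMod (ArInt.divOf Γ e))) ^ Models.multGcd R (Over.mk p) Γ = 1 := by
    rw [he, one_pow]
  rwa [mul_pow, h1, mul_one] at h2

end Groth.Agent.S3340
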