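import Groth.Statements.S3341
import Groth.Agent.ArInt.VertPic

set_option linter.style.haveILetI false
set_option backward.isDefEq.respectTransparency false
set_option backward.isDefEq.respectTransparency.types false
set_option maxHeartbeats 1000000

set_option autoImplicit false
universe u
open CategoryTheory CategoryTheory.Limits AlgebraicGeometry
open Models

open Groth.Agent
open Groth.Agent.H23.PicMul

namespace Groth.Agent.S3341

/-- In the following situation (R a discrete valuation ring, C a smooth proper curve over its fraction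
field K with H^0(C, O_C) = K, X a regular proper model with generic-fibre inclusion g, Γ_1, …, Γ_n
the irreducible components of the closed fibre with multiplicities m_i) let d = gcd(m_1, …, m_n) and
let h ≥ 1 be prime to d. If M is an invertible O_X-module with M^{⊗h} ≅ O_X whose pullback to C is
trivial, then M ≅ O_X: the map Pic(X)[h] → Pic(C)[h] is injective. -/
theorem result (R : Type u) [CommRing R] [IsDomain R] [IsDiscreteValuationRing R]
    (C X : Scheme.{u}) (f : C ⟶ Spec (CommRingCat.of (FractionRing R))) (p : X ⟶ Spec (CommRingCat.of R))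
    (hC : Curve.IsSmoothProperCurve (FractionRing R) C f) (hH0 : IsIso f.appTop)
    (hX : Models.IsRegularProperModel R X p C f)
    {n : ℕ} (Γ : Fin n → ArSurf.VertComp R (Over.mk p)) (hΓ : Models.IsComponentList R (Over.mk p) Γ)
    (g : C ⟶ X) (hg : IsPullback g f p (Spec.map (CommRingCat.ofHom (algebraMap R (FractionRing R))))) (h : ℕ) (hh : 0 < h) (hcop : Nat.Coprime h (Models.multGcd R (Over.mk p) Γ))
    (M : X.Modules) (hM : PicF.IsInvertible M)
    (htors : Nonempty (CohB1.tensorPow M h ≅ Coh.structureModule X))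
    (htriv : Nonempty ((Scheme.Modules.pullback g).obj M ≅ Coh.structureModule C)) :
    Nonempty (M ≅ Coh.structureModule X) := by
  haveI := (ArInt.model_facts hC hX.1).1
  haveI := ArInt.isSurf hC hX Γ hΓ
  haveI : Flat (Over.mk p).hom := hX.1.1
  let M' : (Over.mk p).left.Modules := M
  obtain ⟨e, he⟩ := ArInt.exists_divOf_of_trivial Γ (ArInt.cover _ Γ hΓ) g f hg (M := M') hM htriv
  suffices key : PicF.cl M' = 1 from H23.PicMul.cl_eq_iff.1 (key.trans H23.PicMul.one_def)
  have hMh : PicF.cl M' ^ h = 1 := by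
    rw [← H23.PicMul.cl_tensorPow, H23.PicMul.one_def]; exact H23.PicMul.cl_eq_iff.2 htors
  have hDh : PicF.cl (ClSub.idealMod (ArInt.divOf Γ fun i => e i * h)) = 1 := by
    have h1 : PicF.cl (ClSub.idealMod (ArInt.divOf Γ e)) ^ h = 1 := by
      have h0 : (PicF.cl M' * PicF.cl (ClSub.idealMod (ArInt.divOf Γ e))) ^ h = 1 := by rw [he, one_pow]
      rwa [mul_pow, hMh, one_mul] at h0
    rw [ArInt.cl_divOf Γ] at h1 ⊢
    rw [← Finset.prod_pow] at h1
    simpa only [← pow_mul] using h1
  obtain ⟨v, hv⟩ := ArInt.exists_eq_mult_of_cl_eq_one Γ hΓ.1 (ArInt.bijective_appTop_model C X f p hH0 hX) _ hDh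
  have hdvd : h ∣ v * Models.multGcd R (Over.mk p) Γ := by
    have h2 : h ∣ Finset.univ.gcd fun i => v * Models.mult R (Over.mk p) (Γ i) :=
      Finset.dvd_gcd fun i _ => ⟨e i, by rw [← hv i, mul_comm]⟩
    rw [Finset.gcd_mul_left] at h2
    simpa [Models.multGcd] using h2
  obtain ⟨w, rfl⟩ := hcop.dvd_of_dvd_mul_right hdvd
  have hew : ∀ i, e i = Models.mult R (Over.mk p) (Γ i) * w := fun i =>
    Nat.eq_of_mul_eq_mul_right hh (by rw [hv i]; ring)
  have hone : PicF.cl (ClSub.idealMod (ArInt.divOf Γ e)) = 1 := by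
    have h3 := ArInt.cl_divOf_mult Γ hΓ.1 (ArInt.cover _ Γ hΓ)
    rw [ArInt.cl_divOf Γ] at h3 ⊢
    simp only [hew, pow_mul]
    rw [Finset.prod_pow, h3, one_pow]
  rwa [hone, mul_one] at he

end Groth.Agent.S3341
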