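import Groth.Statements.S3342
import Groth.Agent.ArInt.PicDeg
import Groth.Agent.ArInt.RedFibre
import Groth.Agent.Big.Comap
import Groth.Agent.S3340

set_option linter.style.haveILetI false
set_option backward.isDefEq.respectTransparency false
set_option backward.isDefEq.respectTransparency.types false
set_option maxHeartbeats 1000000

set_option autoImplicit false
universe u
open CategoryTheory CategoryTheory.Limits AlgebraicGeometry
open Models

open Groth.Agent
open Groth.Agent.H23.PicMul

namespace Groth.Agent.S3342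

/-- In the following situation (R a discrete valuation ring with residue field k, C a smooth proper
curve over its fraction field K with H^0(C, O_C) = K, X a regular proper model with generic-fibre
inclusion g, Γ_1, …, Γ_n the irreducible components of the closed fibre with multiplicities m_i, L_j
⊗ I(Γ_j) ≅ O_X, a_ij = deg_k(L_j|Γ_i), w_i = dim_k H^0(Γ_i, O)) let d = gcd(m_i) and h ≥ 1 prime to
d. Let N be an invertible O_C-module with N^{⊗h} ≅ O_C which is the restriction of an invertible
O_X-module M whose degree vector (deg_k(M|Γ_i) / w_i)_i lies in the image of the matrix (a_ij / w_i)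
(that is, the class of N maps to zero in the Picard group of the numerical type). Then N is the
restriction of an invertible O_X-module M' with M'^{⊗h} ≅ O_X. -/
theorem result (R : Type u) [CommRing R] [IsDomain R] [IsDiscreteValuationRing R]
    (C X : Scheme.{u}) (f : C ⟶ Spec (CommRingCat.of (FractionRing R))) (p : X ⟶ Spec (CommRingCat.of R))
    (hC : Curve.IsSmoothProperCurve (FractionRing R) C f) (hH0 : IsIso f.appTop)
    (hX : Models.IsRegularProperModel R X p C f)
    {n : ℕ} (Γ : Fin n → ArSurf.VertComp R (Over.mk p)) (hΓ : Models.IsComponentList R (Over.mk p) Γ)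
    (g : C ⟶ X) (hg : IsPullback g f p (Spec.map (CommRingCat.ofHom (algebraMap R (FractionRing R))))) (L : Fin n → X.Modules) (hL : ∀ i, ClSub.IsInverseOf (L i) (ClSub.idealMod (Γ i).ι.ker))
    (h : ℕ) (hh : 0 < h) (hcop : Nat.Coprime h (Models.multGcd R (Over.mk p) Γ))
    (N : C.Modules) (hN : PicF.IsInvertible N) (hNt : Nonempty (CohB1.tensorPow N h ≅ Coh.structureModule C))
    (M : X.Modules) (hM : PicF.IsInvertible M) (hMN : Nonempty ((Scheme.Modules.pullback g).obj M ≅ N))
    (v : Fin n → ℤ)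
    (hv : ∀ i, ArSurf.inter R (Over.mk p) M (Γ i) = ∑ j, ArSurf.inter R (Over.mk p) (L j) (Γ i) * v j) :
    ∃ M' : X.Modules, PicF.IsInvertible M' ∧ Nonempty (CohB1.tensorPow M' h ≅ Coh.structureModule X) ∧
      Nonempty ((Scheme.Modules.pullback g).obj M' ≅ N) := by
  classical
  haveI := (ArInt.model_facts hC hX.1).1
  haveI := ArInt.isSurf hC hX Γ hΓ
  haveI : Flat (Over.mk p).hom := hX.1.1
  let M₁ : (Over.mk p).left.Modules := M
  let g' : C ⟶ (Over.mk p).left := g
  let L' : Fin n → (Over.mk p).left.Modules := L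
  let a : Fin n → ℕ := fun j => (-v j).toNat
  let b : Fin n → ℕ := fun j => (v j).toNat
  let A := FGA.multiTwist L' a
  let B := ClSub.idealMod (ArInt.divOf Γ b)
  have hBi : PicF.IsInvertible B := Big.isInvertible_ideal (ArInt.isEffCartier_divOf Γ b)
  have hLI : ∀ j, PicF.cl (L' j) * PicF.cl (ClSub.idealMod (Γ j).ι.ker) = 1 := fun j => by
    rw [← H23.PicMul.cl_tensor, H23.PicMul.one_def]; exact H23.PicMul.cl_eq_iff.2 (hL j)
  have hA : PicF.cl A * PicF.cl (ClSub.idealMod (ArInt.divOf Γ a)) = 1 := by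
    rw [ArInt.cl_multiTwist L', ArInt.cl_divOf Γ, ← Finset.prod_mul_distrib]
    exact Finset.prod_eq_one fun j _ => by rw [← mul_pow, hLI j, one_pow]
  have hAi : PicF.IsInvertible A := ArInt.isInvertible_of_inverse (Big.isInvertible_ideal (ArInt.isEffCartier_divOf Γ a))
    (H23.PicMul.cl_eq_iff.1 (by rw [H23.PicMul.cl_tensor, hA, H23.PicMul.one_def]))
  let M₀ := CohB1.tensorMod (CohB1.tensorMod M₁ A) B
  have hM₀ : PicF.IsInvertible M₀ := H23.PicMul.isInvertible_tensor (H23.PicMul.isInvertible_tensor hM hAi) hBi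
  have hdeg₀ : ∀ i, ArSurf.inter R (Over.mk p) M₀ (Γ i) = 0 := fun i => by
    rw [ArInt.inter_tensor (Γ i) (H23.PicMul.isInvertible_tensor hM hAi) hBi, ArInt.inter_tensor (Γ i) (L := M₁) hM hAi,
      ArInt.inter_of_cl_mul Γ L' hL a hA (Γ i)]
    show ArSurf.inter R (Over.mk p) M (Γ i) + _ + ArInt.φ (Γ i) (ArInt.divOf Γ b) = 0
    rw [ArInt.φ_divOf Γ L' hL, hv i, ← Finset.sum_neg_distrib, ← Finset.sum_add_distrib, ← Finset.sum_add_distrib]
    refine Finset.sum_eq_zero fun j _ => ?_
    have hab : (b j : ℤ) - (a j : ℤ) = v j := by simp only [a, b]; omega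
    show ArSurf.inter R (Over.mk p) (L' j) (Γ i) * v j + _ + _ = 0
    rw [← hab]; ring
  -- vertical modules are trivial on the generic fibre
  have hgI : ∀ j, PicF.pullCl g' (PicF.cl (ClSub.idealMod (Γ j).ι.ker)) = 1 := fun j => by
    have hempty : (Γ j).ι.ker.comap g' = ⊤ := by
      rw [← Scheme.IdealSheafData.support_eq_bot_iff]
      refine TopologicalSpace.Closeds.ext ?_
      rw [Scheme.IdealSheafData.support_comap]
      refine Set.eq_empty_iff_forall_notMem.2 fun z hz => ?_
      have hz' : g' z ∈ ((Γ j).ι.ker.support : Set (Over.mk p).left) := hz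
      rw [ArInt.support_ker] at hz'
      obtain ⟨c, hc⟩ := hz'
      have h1 : (p (g z) : Spec (CommRingCat.of R)) = IsLocalRing.closedPoint R := by
        have := ArInt.mem_specialFibre (Γ j) c
        rw [hc] at this
        exact this
      rw [← Scheme.Hom.comp_apply, hg.w, Scheme.Hom.comp_apply] at h1
      have h2 := congrArg PrimeSpectrum.asIdeal h1
      refine IsDiscreteValuationRing.not_a_field R (h2.symm.trans ?_)
      show Ideal.comap (algebraMap R (FractionRing R)) _ = ⊥
      rw [(Ideal.eq_bot_or_top (PrimeSpectrum.asIdeal (f z))).resolve_right (PrimeSpectrum.isPrime _).ne_top,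
        ← RingHom.ker_eq_comap_bot,
        (RingHom.injective_iff_ker_eq_bot _).1 (IsFractionRing.injective R (FractionRing R))]
    show PicF.cl ((Scheme.Modules.pullback g').obj _) = 1
    rw [Big.cl_idealMod_comap g' (I := (Γ j).ι.ker) (ArInt.isEffCartier_ker _) (by rw [hempty]; exact ArInt.isEffCartier_top _),
      hempty, ArInt.cl_idealMod_top]
  have hgL : ∀ j, PicF.pullCl g' (PicF.cl (L' j)) = 1 := fun j => by
    have := congrArg (PicF.pullCl g') (hLI j)
    rwa [H23.PicMul.pullCl_mul, H23.PicMul.pullCl_one, hgI j, mul_one] at this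
  have hprod : ∀ (F : Fin n → PicF.Cl (Over.mk p).left), (∀ j, PicF.pullCl g' (F j) = 1) →
      ∀ e : Fin n → ℕ, PicF.pullCl g' (∏ j, F j ^ e j) = 1 := fun F hF e => by
    induction (Finset.univ : Finset (Fin n)) using Finset.induction with
    | empty => rw [Finset.prod_empty, H23.PicMul.pullCl_one]
    | insert j t hj ih => rw [Finset.prod_insert hj, H23.PicMul.pullCl_mul, H23.PicMul.pullCl_pow, hF j, one_pow, one_mul, ih]
  have hMN' : PicF.pullCl g' (PicF.cl M₀) = PicF.cl N := by
    rw [H23.PicMul.cl_tensor, H23.PicMul.cl_tensor, H23.PicMul.pullCl_mul, H23.PicMul.pullCl_mul,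
      show PicF.pullCl g' (PicF.cl A) = 1 by rw [ArInt.cl_multiTwist L']; exact hprod _ hgL a,
      show PicF.pullCl g' (PicF.cl B) = 1 by rw [ArInt.cl_divOf Γ]; exact hprod _ hgI b, mul_one, mul_one]
    exact H23.PicMul.cl_eq_iff.2 hMN
  have hNh : PicF.cl N ^ h = 1 := by
    rw [← H23.PicMul.cl_tensorPow, H23.PicMul.one_def]; exact H23.PicMul.cl_eq_iff.2 hNt
  let d := Models.multGcd R (Over.mk p) Γ
  have hkill : PicF.cl M₀ ^ (h * d) = 1 := by
    have ht : Nonempty ((Scheme.Modules.pullback g').obj (CohB1.tensorPow M₀ h) ≅ Coh.structureModule C) :=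
      H23.PicMul.cl_eq_iff.1 (by
        show PicF.pullCl g' (PicF.cl (CohB1.tensorPow M₀ h)) = _
        rw [H23.PicMul.cl_tensorPow, H23.PicMul.pullCl_pow, hMN', hNh, H23.PicMul.one_def])
    have hdegh : ∀ i, ArSurf.inter R (Over.mk p) (CohB1.tensorPow M₀ h) (Γ i) = 0 := fun i => by
      have hpow : ∀ q : ℕ, ArSurf.inter R (Over.mk p) (CohB1.tensorPow M₀ q) (Γ i) = 0 := fun q => by
        induction q with
        | zero => exact ArInt.inter_structureModule (Γ i)
        | succ q ih =>
          show ArSurf.inter R (Over.mk p) (CohB1.tensorMod (CohB1.tensorPow M₀ q) M₀) (Γ i) = 0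
          rw [ArInt.inter_tensor (Γ i) (H23.PicMul.isInvertible_tensorPow hM₀ q) hM₀, ih, hdeg₀ i, add_zero]
      exact hpow h
    obtain ⟨φ⟩ := S3340.result R C X f p hC hH0 hX Γ hΓ g hg (CohB1.tensorPow M₀ h)
      (H23.PicMul.isInvertible_tensorPow hM₀ h) ht hdegh
    rw [pow_mul, ← H23.PicMul.cl_tensorPow, ← H23.PicMul.cl_tensorPow, H23.PicMul.one_def]
    exact H23.PicMul.cl_eq_iff.2 ⟨φ⟩
  obtain ⟨u, hu⟩ : ∃ u : ℕ, ∃ w : ℕ, u * d = 1 + w * h := by
    rcases Nat.lt_or_ge 1 h with h1 | h1
    · obtain ⟨u, hu⟩ := Nat.exists_mul_mod_eq_one_of_coprime (hcop.symm : Nat.Coprime d h) h1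
      exact ⟨u, d * u / h, by have := Nat.div_add_mod (d * u) h; rw [hu.2] at this; rw [mul_comm u d, mul_comm _ h]; omega⟩
    · exact ⟨1, d - 1, by
        have hh1 : h = 1 := by omega
        have hd : 0 < d := by
          rcases Nat.eq_zero_or_pos d with h0 | h0
          · exfalso
            rcases isEmpty_or_nonempty (Fin n) with hn | ⟨⟨i⟩⟩
            · have hne := (ArInt.isConnected_fibre hC hH0 hX).nonempty
              obtain ⟨z, hz⟩ := hne
              obtain ⟨i, -⟩ := Set.mem_iUnion.1 (ArInt.cover _ Γ hΓ hz)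
              exact hn.elim i
            · obtain ⟨dd, G, -, hGs, hFib⟩ := ArInt.exists_split_curves Γ (ArInt.fibreIdeal (Over.mk p)) (ArInt.isEffCartier_fibreIdeal (Over.mk p))
              have h1 := (ArInt.mult_eq Γ hGs hFib hΓ.1 i)
              have h2 : Models.mult R (Over.mk p) (Γ i) = 0 :=
                Nat.eq_zero_of_zero_dvd (h0 ▸ Finset.gcd_dvd (Finset.mem_univ i))
              omega
          · exact h0
        rw [hh1]; omega⟩
  obtain ⟨w, hw⟩ := hu
  refine ⟨CohB1.tensorPow M₀ (u * d), H23.PicMul.isInvertible_tensorPow hM₀ _, H23.PicMul.cl_eq_iff.1 ?_,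
    H23.PicMul.cl_eq_iff.1 ?_⟩
  · show PicF.cl (CohB1.tensorPow (CohB1.tensorPow M₀ (u * d)) h) = PicF.cl (Coh.structureModule (Over.mk p).left)
    rw [H23.PicMul.cl_tensorPow, H23.PicMul.cl_tensorPow, ← pow_mul, show u * d * h = h * d * u by ring, pow_mul,
      hkill, one_pow, H23.PicMul.one_def]
  · show PicF.pullCl g' (PicF.cl (CohB1.tensorPow M₀ (u * d))) = _
    rw [H23.PicMul.cl_tensorPow, H23.PicMul.pullCl_pow, hMN', hw, pow_add, pow_one, mul_comm w, pow_mul, hNh, one_pow, mul_one]

end Groth.Agent.S3342
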