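import Groth.Statements.S3344
import Groth.Agent.ArInt.RedFibre
import Groth.Agent.ArInt.RatPoint

set_option linter.style.haveILetI false
set_option backward.isDefEq.respectTransparency false
set_option backward.isDefEq.respectTransparency.types false
set_option maxHeartbeats 1000000

set_option autoImplicit false
universe u
open CategoryTheory CategoryTheory.Limits AlgebraicGeometry
open Models

open Groth.Agent

namespace Groth.Agent.S3344

/-- In the following situation (R a discrete valuation ring with residue field k, C a smooth proper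
curve over its fraction field K with H^0(C, O_C) = K, X a regular proper model, Γ_1, …, Γ_n the
irreducible components of the closed fibre X_k with multiplicities m_i) assume C has a K-rational
point. Then (1) some closed point x of X on the closed fibre has residue field k (R → κ(x)
surjective) and the local ring of X_k at x, namely O_{X,x}/𝔪_R O_{X,x}, is regular (x is a smooth
point of X_k over k); (2) the component Γ_i through x has H^0(Γ_i, O) = k and m_i = 1; (3) H^0(X_k,
O_{X_k}) = k and dim_k H^1(X_k, O_{X_k}) = dim_K H^1(C, O_C) (k-dimensions as R-lengths of the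
cohomology of O_{X_k} on X). -/
theorem result (R : Type u) [CommRing R] [IsDomain R] [IsDiscreteValuationRing R]
    (C X : Scheme.{u}) (f : C ⟶ Spec (CommRingCat.of (FractionRing R))) (p : X ⟶ Spec (CommRingCat.of R))
    (hC : Curve.IsSmoothProperCurve (FractionRing R) C f) (hH0 : IsIso f.appTop)
    (hX : Models.IsRegularProperModel R X p C f)
    {n : ℕ} (Γ : Fin n → ArSurf.VertComp R (Over.mk p)) (hΓ : Models.IsComponentList R (Over.mk p) Γ)
    (s : Spec (CommRingCat.of (FractionRing R)) ⟶ C) (hs : s ≫ f = 𝟙 _) :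
    (∃ (i : Fin n) (x : X), x ∈ Set.range ((Γ i).ι.base : (Γ i).curve.left → X) ∧ IsClosed ({x} : Set X) ∧
        Function.Surjective ((X.residue x).hom.comp (Models.stalkHom R (Over.mk p) x)) ∧
        IsRegularLocalRing (X.presheaf.stalk x ⧸
          Ideal.map (Models.stalkHom R (Over.mk p) x) (IsLocalRing.maximalIdeal R)) ∧
        Models.wdeg R (Over.mk p) (Γ i) = 1 ∧ Models.mult R (Over.mk p) (Γ i) = 1) ∧
      Models.lengthH R (Over.mk p) (ClSub.quotMod (Models.specialFibreIdeal R (Over.mk p))) 0 = 1 ∧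
      Models.lengthH R (Over.mk p) (ClSub.quotMod (Models.specialFibreIdeal R (Over.mk p))) 1 =
        Models.curveGenus (FractionRing R) C f := by
  classical
  haveI := (ArInt.model_facts hC hX.1).1
  haveI := ArInt.isSurf hC hX Γ hΓ
  haveI : Flat (Over.mk p).hom := hX.1.1
  haveI : IsProper p := hX.2.1
  haveI : IsSeparated (Over.mk p).hom := inferInstanceAs (IsSeparated p)
  obtain ⟨-, -, -, g, hg⟩ := hX.1
  obtain ⟨σ, hσ⟩ := ArInt.exists_section_model p (s ≫ g) (by rw [Category.assoc, hg.w, ← Category.assoc, hs, Category.id_comp])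
  let σ' : Spec (CommRingCat.of R) ⟶ (Over.mk p).left := σ
  replace hσ : σ' ≫ (Over.mk p).hom = 𝟙 _ := hσ
  obtain ⟨i, hi⟩ := Set.mem_iUnion.1 (ArInt.cover _ Γ hΓ (ArInt.secPt_mem σ' hσ))
  let x : X := ArInt.secPt σ'
  haveI := ArInt.IsSurf.regular (X := Over.mk p) (ArInt.secPt σ')
  obtain ⟨hreg, hprime, hne⟩ := ArInt.regular_quot_secPt σ' hσ
  have hw := ArInt.wdeg_eq_one σ' hσ (Γ i) hi
  have hm : Models.mult R (Over.mk p) (Γ i) = 1 := by
    obtain ⟨dd, G, -, hGs, hFib⟩ := ArInt.exists_split_curves Γ (ArInt.fibreIdeal (Over.mk p)) (ArInt.isEffCartier_fibreIdeal (Over.mk p))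
    have hpos : 0 < Models.mult R (Over.mk p) (Γ i) := by
      rw [(ArInt.mult_eq Γ hGs hFib hΓ.1 i).1]; exact (ArInt.mult_eq Γ hGs hFib hΓ.1 i).2
    by_contra h1
    obtain ⟨q, hq⟩ : ∃ q, Models.mult R (Over.mk p) (Γ i) = q + 2 := ⟨Models.mult R (Over.mk p) (Γ i) - 2, by omega⟩
    let I := Div21Lib.stI (Γ i).ι.ker (ArInt.secPt σ')
    let J := I ^ (q + 1) * ∏ j ∈ Finset.univ.erase i,
      Div21Lib.stI (Γ j).ι.ker (ArInt.secPt σ') ^ Models.mult R (Over.mk p) (Γ j)
    have hIJ : (IsLocalRing.maximalIdeal R).map (Models.stalkHom R (Over.mk p) (ArInt.secPt σ')) = I * J := by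
      rw [← ArInt.stI_fibreIdeal, ArInt.fibreIdeal_eq_prod Γ hΓ.1 (fun j => ArInt.dim_gen (Γ j)) (ArInt.cover _ Γ hΓ),
        ArInt.stI_prod, ← Finset.mul_prod_erase _ _ (Finset.mem_univ i), ArInt.stI_pow, hq, pow_succ', mul_assoc]
      simp only [ArInt.stI_pow]
      rfl
    have hI : I ≠ ⊤ := fun h => by
      refine (ArInt.stI_eq_top_iff _ _).1 h ?_
      rw [← SetLike.mem_coe, ArInt.support_ker]
      exact hi
    have hJ : J ≠ ⊤ := fun h => hI (top_le_iff.1 (h.ge.trans (Ideal.mul_le_left.trans (Ideal.pow_le_self (Nat.succ_ne_zero q)))))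
    exact ArInt.not_isPrime_mul hI hJ (hIJ ▸ hne) (hIJ ▸ hprime)
  refine ⟨⟨i, x, hi, ArInt.isClosed_secPt σ' hσ, ArInt.residue_surjective_secPt σ' hσ, hreg, hw, hm⟩, ?_⟩
  have hgcd : Models.multGcd R (Over.mk p) Γ = 1 := by
    have h := Finset.gcd_dvd (f := fun j => Models.mult R (Over.mk p) (Γ j)) (Finset.mem_univ i)
    simp only [hm] at h
    exact Nat.dvd_one.1 h
  have hconnF := ArInt.isConnected_fibre hC hH0 hX
  have hF := ArInt.isFieldFinite_fibreIdeal Γ hΓ hconnF hgcd
  have h0 : Models.lengthH R (Over.mk p) (ClSub.quotMod (ArInt.fibreIdeal (Over.mk p))) 0 = 1 := by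
    unfold Models.lengthH
    rw [ArInt.lengthH_zero_eq, ArInt.length_eq_one_of_section σ' hσ hF]
    rfl
  rw [ArInt.specialFibreIdeal_eq]
  refine ⟨h0, ?_⟩
  have hχ := ArInt.chi_fibre_eq_genus hC hH0 hX Γ hΓ
  rw [ArInt.divOf, ← ArInt.fibreIdeal_eq_prod Γ hΓ.1 (fun j => ArInt.dim_gen (Γ j)) (ArInt.cover _ Γ hΓ)] at hχ
  simp only [ArInt.chiM, h0] at hχ
  omega

end Groth.Agent.S3344
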