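import Groth.Statements.S3345
import Groth.Agent.ArInt.RedFibre
import Groth.Agent.ArInt.ExcCurve

set_option linter.style.haveILetI false
set_option backward.isDefEq.respectTransparency false
set_option backward.isDefEq.respectTransparency.types false
set_option maxHeartbeats 1000000

set_option autoImplicit false
universe u
open CategoryTheory CategoryTheory.Limits AlgebraicGeometry
open Models

open Groth.Agent

namespace Groth.Agent.S3345

/-- In the following situation (R a discrete valuation ring with residue field k, C a smooth proper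
curve over its fraction field K with H^0(C, O_C) = K, X a regular proper model, Γ_1, …, Γ_n the
irreducible components of the closed fibre with multiplicities m_i) assume X is a minimal model,
gcd(m_1, …, m_n) = 1 and H^0((X_k)_red, O) = k. Then dim_k H^1((X_k)_red, O) ≤ dim_k H^1(X_k, O),
and the inequality is strict when X_k is not reduced (k-dimensions computed as R-lengths of the
cohomology on X of the structure sheaves of the two closed subschemes). The published statement is
the stronger one that H^1(X_k, O_{X_k}) → H^1((X_k)_red, O) is surjective, with non-zero kernel when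
X_k is not reduced; this is its form in terms of dimensions. -/
theorem result (R : Type u) [CommRing R] [IsDomain R] [IsDiscreteValuationRing R]
    (C X : Scheme.{u}) (f : C ⟶ Spec (CommRingCat.of (FractionRing R))) (p : X ⟶ Spec (CommRingCat.of R))
    (hC : Curve.IsSmoothProperCurve (FractionRing R) C f) (hH0 : IsIso f.appTop)
    (hX : Models.IsRegularProperModel R X p C f)
    {n : ℕ} (Γ : Fin n → ArSurf.VertComp R (Over.mk p)) (hΓ : Models.IsComponentList R (Over.mk p) Γ)
    (hmin : Models.IsMinimalModel R X p C f) (hgcd : Models.multGcd R (Over.mk p) Γ = 1)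
    (hH0k : Models.lengthH R (Over.mk p) (ClSub.quotMod (Models.redFibreIdeal R (Over.mk p))) 0 = 1) :
    Models.lengthH R (Over.mk p) (ClSub.quotMod (Models.redFibreIdeal R (Over.mk p))) 1 ≤
        Models.lengthH R (Over.mk p) (ClSub.quotMod (Models.specialFibreIdeal R (Over.mk p))) 1 ∧
      (Models.specialFibreIdeal R (Over.mk p) ≠ Models.redFibreIdeal R (Over.mk p) →
        Models.lengthH R (Over.mk p) (ClSub.quotMod (Models.redFibreIdeal R (Over.mk p))) 1 <
          Models.lengthH R (Over.mk p) (ClSub.quotMod (Models.specialFibreIdeal R (Over.mk p))) 1) := by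
  classical
  haveI := (ArInt.model_facts hC hX.1).1
  haveI := ArInt.isSurf hC hX Γ hΓ
  haveI : Flat (Over.mk p).hom := hX.1.1
  choose L₀ hL₀ using fun i => H23.PicInv.exists_inverse (Big.isInvertible_ideal (ArInt.isEffCartier_ker (Γ i)))
  have hL : ∀ i, ClSub.IsInverseOf (L₀ i) (ClSub.idealMod (Γ i).ι.ker) := fun i =>
    ⟨(H23.PicMul.comm _ _).some ≪≫ (hL₀ i).2.some⟩
  have hconnF := ArInt.isConnected_fibre hC hH0 hX
  obtain ⟨hle, hlt⟩ := ArInt.chi_le Γ L₀ hL hΓ hconnF hgcd fun i h =>
    hmin.2 (Γ i) (ArInt.isExcCurve_of_numbers (Γ i) (hL i) h.1 h.2)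
  have hfib : ArInt.divOf Γ (fun i => Models.mult R (Over.mk p) (Γ i)) = ArInt.fibreIdeal (Over.mk p) :=
    (ArInt.fibreIdeal_eq_prod Γ hΓ.1 (fun i => ArInt.dim_gen (Γ i)) (ArInt.cover _ Γ hΓ)).symm
  rw [hfib, ← ArInt.redFibreIdeal_eq Γ hΓ.1 (ArInt.cover _ Γ hΓ)] at hle hlt
  have h0 : Models.lengthH R (Over.mk p) (ClSub.quotMod (ArInt.fibreIdeal (Over.mk p))) 0 = 1 :=
    ArInt.lengthH_zero_eq_one_of_le (ArInt.fibreIdeal_le_red (Over.mk p)) (ArInt.isFieldFinite_fibreIdeal Γ hΓ hconnF hgcd) hH0k
  simp only [ArInt.chiM, h0, hH0k] at hle hlt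
  rw [ArInt.specialFibreIdeal_eq]
  refine ⟨by omega, fun hne => ?_⟩
  have h2 : ∃ i, 2 ≤ Models.mult R (Over.mk p) (Γ i) := by
    by_contra h
    push Not at h
    obtain ⟨dd, G, -, hGs, hFib⟩ := ArInt.exists_split_curves Γ (ArInt.fibreIdeal (Over.mk p)) (ArInt.isEffCartier_fibreIdeal (Over.mk p))
    refine hne ?_
    rw [← hfib, ArInt.redFibreIdeal_eq Γ hΓ.1 (ArInt.cover _ Γ hΓ)]
    refine congrArg _ (funext fun i => ?_)
    have h1 := (ArInt.mult_eq Γ hGs hFib hΓ.1 i)
    have h2 : Models.mult R (Over.mk p) (Γ i) < 2 := h i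
    omega
  have h3 := hlt h2
  omega

end Groth.Agent.S3345
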