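import Groth.Statements.S3348
import Groth.Agent.ArInt.Twist

set_option linter.style.haveILetI false
set_option backward.isDefEq.respectTransparency false
set_option backward.isDefEq.respectTransparency.types false
set_option maxHeartbeats 1000000

set_option autoImplicit false
universe u
open CategoryTheory CategoryTheory.Limits AlgebraicGeometry
open Models

open Groth.Agent
open Groth.Agent.H23.PicMul

namespace Groth.Agent.S3348

/-- In the following situation (R a discrete valuation ring with residue field k, C a smooth proper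
curve over its fraction field K with H^0(C, O_C) = K, X a regular proper model with generic-fibre
inclusion g, Γ_1, …, Γ_n the irreducible components of the closed fibre, L_j ⊗ I(Γ_j) ≅ O_X, a_ij =
deg_k(L_j|Γ_i), w_i = dim_k H^0(Γ_i, O)) let N be an invertible O_C-module and M an invertible
O_X-module restricting to N. Then the degree vector (deg_k(M|Γ_i))_i is of the form (Σ_j a_ij v_j)_i
for an integer vector v (the class (deg_k(M|Γ_i)/w_i)_i vanishes in the Picard group of the
numerical type, which does not depend on the choice of M) if and only if N is the restriction of an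
invertible O_X-module M' with deg_k(M'|Γ_i) = 0 for all i. -/
theorem result (R : Type u) [CommRing R] [IsDomain R] [IsDiscreteValuationRing R]
    (C X : Scheme.{u}) (f : C ⟶ Spec (CommRingCat.of (FractionRing R))) (p : X ⟶ Spec (CommRingCat.of R))
    (hC : Curve.IsSmoothProperCurve (FractionRing R) C f) (hH0 : IsIso f.appTop)
    (hX : Models.IsRegularProperModel R X p C f)
    {n : ℕ} (Γ : Fin n → ArSurf.VertComp R (Over.mk p)) (hΓ : Models.IsComponentList R (Over.mk p) Γ)
    (g : C ⟶ X) (hg : IsPullback g f p (Spec.map (CommRingCat.ofHom (algebraMap R (FractionRing R))))) (L : Fin n → X.Modules) (hL : ∀ i, ClSub.IsInverseOf (L i) (ClSub.idealMod (Γ i).ι.ker))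
    (N : C.Modules) (hN : PicF.IsInvertible N)
    (M : X.Modules) (hM : PicF.IsInvertible M) (hMN : Nonempty ((Scheme.Modules.pullback g).obj M ≅ N)) :
    (∃ v : Fin n → ℤ, ∀ i, ArSurf.inter R (Over.mk p) M (Γ i) = ∑ j, ArSurf.inter R (Over.mk p) (L j) (Γ i) * v j) ↔
      ∃ M' : X.Modules, PicF.IsInvertible M' ∧ Nonempty ((Scheme.Modules.pullback g).obj M' ≅ N) ∧
        ∀ i, ArSurf.inter R (Over.mk p) M' (Γ i) = 0 := by
  classical
  haveI := (ArInt.model_facts hC hX.1).1
  haveI := ArInt.isSurf hC hX Γ hΓ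
  haveI : Flat (Over.mk p).hom := hX.1.1
  let M₁ : (Over.mk p).left.Modules := M
  let g' : C ⟶ (Over.mk p).left := g
  let L' : Fin n → (Over.mk p).left.Modules := L
  have hcov := ArInt.cover _ Γ hΓ
  have hMN' : PicF.pullCl g' (PicF.cl M₁) = PicF.cl N := H23.PicMul.cl_eq_iff.2 hMN
  constructor
  · rintro ⟨v, hv⟩
    let K := ∑ i, (v i).natAbs
    let e : Fin n → ℕ := fun i => ((K : ℤ) * Models.mult R (Over.mk p) (Γ i) - v i).toNat
    have he : ∀ i, (e i : ℤ) = (K : ℤ) * Models.mult R (Over.mk p) (Γ i) - v i := fun i => by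
      refine Int.toNat_of_nonneg ?_
      have h1 : (v i).natAbs ≤ K := Finset.single_le_sum (fun j _ => Nat.zero_le ((v j).natAbs)) (Finset.mem_univ i)
      have h2 := ArInt.mult_pos Γ hΓ.1 i
      have h3 : v i ≤ (K : ℤ) := by omega
      nlinarith
    refine ⟨CohB1.tensorMod M₁ (FGA.multiTwist L' e),
      H23.PicMul.isInvertible_tensor hM (ArInt.isInvertible_multiTwist Γ L' hL e), H23.PicMul.cl_eq_iff.1 ?_, fun i => ?_⟩
    · show PicF.pullCl g' (PicF.cl (CohB1.tensorMod M₁ (FGA.multiTwist L' e))) = _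
      rw [H23.PicMul.cl_tensor, H23.PicMul.pullCl_mul, hMN', ArInt.cl_twist,
        ArInt.pullCl_twistCl Γ L' hL g' f hg e, mul_one]
    · rw [ArInt.inter_twist Γ L' hL (M := M₁) hM e (Γ i)]
      show ArSurf.inter R (Over.mk p) M (Γ i) + _ = 0
      simp only [hv i, he, sub_mul, mul_assoc, Finset.sum_sub_distrib, ← Finset.mul_sum,
        (ArInt.sum_mult_inter Γ hΓ.1 L' hL i).2 hcov, mul_zero]
      rw [zero_sub, ← sub_eq_add_neg, sub_eq_zero]
      exact Finset.sum_congr rfl fun j _ => mul_comm _ _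
  · rintro ⟨M', hM', hM'N, h0⟩
    let M₂ : (Over.mk p).left.Modules := M'
    obtain ⟨e, he⟩ := ArInt.exists_twist_of_iso Γ L' hL hcov g' f hg (M := M₂) (M' := M₁) hM' hM
      ((H23.PicMul.cl_eq_iff.2 hM'N).trans hMN'.symm)
    rw [← ArInt.cl_twist, ← H23.PicMul.cl_tensor] at he
    obtain ⟨φ⟩ := H23.PicMul.cl_eq_iff.1 he
    refine ⟨fun j => (e j : ℤ), fun i => ?_⟩
    show ArSurf.inter R (Over.mk p) M₁ (Γ i) = _
    rw [ArInt.inter_congr (Γ i) (L := M₁) hM (H23.PicMul.isInvertible_tensor hM' (ArInt.isInvertible_multiTwist Γ L' hL e)) (H23.PicMul.cl_eq_iff.2 ⟨φ⟩), ArInt.inter_twist Γ L' hL (M := M₂) hM' e (Γ i)]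
    show ArSurf.inter R (Over.mk p) M' (Γ i) + _ = _
    rw [h0 i, zero_add]
    exact Finset.sum_congr rfl fun j _ => mul_comm _ _

end Groth.Agent.S3348
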