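import Groth.Statements.S3374
import Groth.Agent.LefAlgz.GrLef
import Groth.Agent.LefAlgz.ModLocal
set_option backward.isDefEq.respectTransparency false
set_option backward.isDefEq.respectTransparency.types false
set_option linter.style.haveILetI false

set_option autoImplicit false
set_option linter.style.haveILetI false
universe u
open CategoryTheory CategoryTheory.Limits AlgebraicGeometry
open LefX

namespace Groth.Agent.S3374

/-- Let A be a Noetherian local ring, J a proper ideal such that (i) A/J has depth ≥ 3, (ii) every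
J^n/J^(n+1) is a free A/J-module (gr_J(A) is free over A/J), (iii) A is separated and complete for
the J-adic topology. Let U be the punctured spectrum of A, U_0 = U ∩ V(J) and Û the completion of U
along U_0. Then (a) for every finite locally free O_U-module D the map Hom(D, O_U) → lim_n Hom(D,
O_U/J^(n+1)O_U) is bijective (the completion functor is fully faithful on finite locally free
modules), and (b) every levelwise finite locally free system of coherent modules on Û is isomorphic
to the completion of a coherent (not necessarily locally free) O_U-module. -/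
theorem result (A : Type u) [CommRing A] [IsLocalRing A] [IsNoetherianRing A] (J : Ideal A) (hJ : J ≠ ⊤) [IsLocalRing (A ⧸ J)] (hd : (3 : ℕ∞) ≤ LocCoh.depth (A ⧸ J) (A ⧸ J)) (hgr : ∀ n : ℕ, Module.Free (A ⧸ J) (↥(J ^ n) ⧸ (J • (⊤ : Submodule A ↥(J ^ n))))) [IsAdicComplete J A] : (∀ D : (↑(FEt.puncturedSpec A) : Scheme.{u}).Modules, FlatMod.IsFinLocFree D → Lef.HomToFormalBijective ((Spec.map (CommRingCat.ofHom (Ideal.Quotient.mk J))).ker.comap (FEt.puncturedSpec A).ι) D) ∧ (∀ 𝔐 : FSch.ModSys (FSch.completionAlong (↑(FEt.puncturedSpec A) : Scheme.{u}) ((Spec.map (CommRingCat.ofHom (Ideal.Quotient.mk J))).ker.comap (FEt.puncturedSpec A).ι)), LefX.LevelwiseFinLocFree 𝔐 → ∃ F : (↑(FEt.puncturedSpec A) : Scheme.{u}).Modules, Coh.IsCoh F ∧ Nonempty (FSch.completionMod ((Spec.map (CommRingCat.ofHom (Ideal.Quotient.mk J))).ker.comap (FEt.puncturedSpec A).ι) F ≅ 𝔐)) := by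
  have key : ∀ (O : (Spec (CommRingCat.of A)).Opens), O = LefAlgz.PU (IsLocalRing.maximalIdeal A) →
      (∀ D : (O : Scheme.{u}).Modules, FlatMod.IsFinLocFree D →
        Lef.HomToFormalBijective ((Spec.map (CommRingCat.ofHom (Ideal.Quotient.mk J))).ker.comap O.ι) D) ∧
      (∀ 𝔐 : FSch.ModSys (FSch.completionAlong (O : Scheme.{u})
          ((Spec.map (CommRingCat.ofHom (Ideal.Quotient.mk J))).ker.comap O.ι)), LefX.LevelwiseFinLocFree 𝔐 →
        ∃ F : (O : Scheme.{u}).Modules, Coh.IsCoh F ∧ Nonempty (FSch.completionMod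
          ((Spec.map (CommRingCat.ofHom (Ideal.Quotient.mk J))).ker.comap O.ι) F ≅ 𝔐)) := by
    rintro O rfl
    have hfl : ∀ n, Module.Flat (A ⧸ J) (LefAlgz.GrGeom.grP J n) := fun n => by
      haveI := hgr n
      infer_instance
    have hd' : ((3 : ℕ) : ℕ∞) ≤ LocCoh.depth A (A ⧸ J) :=
      hd.trans_eq (Alg6.depth_eq_of_semilinear (Ideal.Quotient.mk J) Ideal.Quotient.mk_surjective
        (AddEquiv.refl (A ⧸ J)) fun r z => (Algebra.smul_def r z).trans (by rfl)).symm
    have h3 : ((3 : ℕ) : ℕ∞) ≤ LocCoh.idealDepth (IsLocalRing.maximalIdeal A) (A ⧸ J) := hd'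
    exact ⟨LefAlgz.homToFormalBijective_of_normallyFlat _ hfl ((by norm_num : (2 : ℕ∞) ≤ ((3 : ℕ) : ℕ∞)).trans h3),
      LefAlgz.algebraize_modSys _ hfl (LefAlgz.finH_of_le_idealDepth _ _ h3 (by omega))
        (LefAlgz.finH_of_le_idealDepth _ _ h3 (by omega))⟩
  exact key _ (LefAlgz.puncturedSpec_eq A)

end Groth.Agent.S3374
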