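import Groth.Statements.S3413
import Groth.Agent.QFCount.Disjoint

set_option autoImplicit false
open CategoryTheory AlgebraicGeometry
universe u
open EGA43

namespace Groth.Agent.S3413

/-- Let Y be locally Noetherian with all local rings geometrically unibranch, f : X ⟶ Y separated,
quasi-finite and universally open, and n(z) the geometric number of points of the fibre over z. If n
is locally constant on Y, then the irreducible components of X are pairwise disjoint. -/
theorem result {X Y : Scheme.{u}} [IsLocallyNoetherian Y]
    (hY : ∀ y : Y, CAlg2.IsGeomUnibranch (Y.presheaf.stalk y)) (f : X ⟶ Y)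
    [IsSeparated f] [LocallyQuasiFinite f] [LocallyOfFiniteType f] [QuasiCompact f] [UniversallyOpen f]
    (hn : IsLocallyConstant (fun z : Y => MoreMor.nGeomConnComp f z)) :
    ∀ Z ∈ irreducibleComponents (X : Type u), ∀ Z' ∈ irreducibleComponents (X : Type u), Z ≠ Z' → Disjoint Z Z' := by
  intro Z hZ Z' hZ' hne
  rw [Set.disjoint_left]
  intro x hxZ hxZ'
  obtain ⟨a, ha⟩ := QuasiSober.sober hZ.1 (isClosed_of_mem_irreducibleComponents Z hZ)
  obtain ⟨b, hb⟩ := QuasiSober.sober hZ'.1 (isClosed_of_mem_irreducibleComponents Z' hZ')
  have hmax : ∀ (C : Set X), C ∈ irreducibleComponents (X : Type u) → ∀ c, IsGenericPoint c C → ∀ t, t ⤳ c → t = c := by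
    intro C hC c hc t ht
    have h1 : C ⊆ closure {t} := fun v hv => specializes_iff_mem_closure.1 (ht.trans (hc.specializes hv))
    have h2 : closure {t} ⊆ C := hC.2 isIrreducible_singleton.closure h1
    exact (ht.antisymm (hc.specializes (h2 (subset_closure rfl)))).eq
  refine QFCount.false_of_two_components f (ha.specializes hxZ) (hb.specializes hxZ') (hmax Z hZ a ha)
    (hmax Z' hZ' b hb) (fun e => hne (ha.def.symm.trans ((congrArg (fun p => closure {p}) e).trans hb.def))) (hY _) ?_
  obtain ⟨V, hV, hyV, hVc⟩ := hn.exists_open (f x)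
  exact hVc _ (((ha.specializes hxZ).map f.continuous).mem_open hV hyV)

end Groth.Agent.S3413
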