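import Groth.Statements.S3420
import Groth.Agent.GeomLoci.SectNhd
-- import your own Groth.Agent.* helpers here

set_option autoImplicit false
open CategoryTheory AlgebraicGeometry
universe u
open EGA43

namespace Groth.Agent.S3420

/-- Let Y be locally Noetherian, f : X ⟶ Y locally of finite type, g a section of f, X⁰_y the connected
component of f⁻¹(y) containing g(y) and X⁰ the union of the X⁰_y. If y is a point such that the
fibre over y is geometrically reduced at every point of X⁰_y and f is universally open at every
point of X⁰_y, then X⁰ is a neighbourhood of X⁰_y in X. In particular, if f is universally open and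
every fibre is geometrically reduced at the points of X⁰, then X⁰ is open in X. -/
theorem result {X Y : Scheme.{u}} [IsLocallyNoetherian Y] (f : X ⟶ Y)
    [LocallyOfFiniteType f] (g : Y ⟶ X) (hg : g ≫ f = 𝟙 Y) :
    (∀ y : Y, (∀ x ∈ connectedComponentIn (f.base ⁻¹' {y}) (g.base y), EGA43.IsUnivOpenAt f x ∧
        FBase.IsGeomReducedAt (f.fiberToSpecResidueField (f.base x)) (f.asFiber x)) →
      connectedComponentIn (f.base ⁻¹' {y}) (g.base y) ⊆ interior (MoreMor.sectionComponents f g)) ∧
    (UniversallyOpen f → (∀ x ∈ MoreMor.sectionComponents f g,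
        FBase.IsGeomReducedAt (f.fiberToSpecResidueField (f.base x)) (f.asFiber x)) →
      IsOpen (MoreMor.sectionComponents f g)) := by
  refine ⟨fun y h => GeomLoci.subset_interior_sectionComponents f g hg
    fun x hx => GeomLoci.goodAt_of f (h x hx).1 (h x hx).2, fun hu hred => ?_⟩
  rw [← interior_eq_iff_isOpen]
  refine interior_subset.antisymm fun x hx => ?_
  refine GeomLoci.subset_interior_sectionComponents f g hg (y := f x) (fun v hv => ?_) hx
  have hv' : v ∈ MoreMor.sectionComponents f g := by
    show v ∈ connectedComponentIn (f ⁻¹' {f v}) (g (f v))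
    rw [show f v = f x from connectedComponentIn_subset (f.base ⁻¹' {f x}) (g.base (f x)) hv]
    exact hv
  refine GeomLoci.goodAt_of f (fun T τ w _ U hU => ?_) (hred v hv')
  exact (AlgebraicGeometry.Scheme.Hom.isOpenMap (CategoryTheory.Limits.pullback.snd f τ)).image_mem_nhds hU

end Groth.Agent.S3420
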