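import Groth.Statements.S3430
import Groth.Agent.H4DimAffine.Basic
import Groth.Agent.GenNhd.Basic

set_option backward.isDefEq.respectTransparency false
set_option backward.isDefEq.respectTransparency.types false
-- import your own Groth.Agent.* helpers here

set_option autoImplicit false
open CategoryTheory AlgebraicGeometry
universe u
open EGA42

namespace Groth.Agent.S3430

open AlgebraicGeometry CategoryTheory TopologicalSpace

theorem mem_of_dense {Y : Scheme.{u}} [NoetherianSpace Y] {O : Y.Opens} (hd : Dense (O : Set Y))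
    {x : Y} (hx : x ∈ genericPoints Y) : x ∈ O := by
  have hG : (genericPoints Y \ {x}).Finite :=
    (genericPoints.finite NoetherianSpace.finite_irreducibleComponents).subset Set.sdiff_subset
  let W : Set Y := (⋃ y ∈ genericPoints Y \ {x}, closure {y})ᶜ
  have hW : IsOpen W := (hG.isClosed_biUnion fun _ _ => isClosed_closure).isOpen_compl
  have hxW : x ∈ W := fun hm => by
    obtain ⟨y, hy, hm⟩ := Set.mem_iUnion₂.1 hm
    have hle : closure ({x} : Set Y) ⊆ closure {y} :=
      closure_minimal (Set.singleton_subset_iff.2 hm) isClosed_closure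
    have heq : closure ({x} : Set Y) = closure {y} :=
      subset_antisymm hle (hx.2 isIrreducible_singleton.closure hle)
    exact hy.2 (inseparable_iff_closure_eq.2 heq.symm).eq
  obtain ⟨z, hzW, hzO⟩ := hd.inter_open_nonempty W hW ⟨x, hxW⟩
  let y := genericPoints.ofComponent ⟨_, irreducibleComponent_mem_irreducibleComponents z⟩
  have hyz : (y : Y) ⤳ z := by
    refine (genericPoints.isGenericPoint y).specializes ?_
    rw [genericPoints.component_ofComponent]
    exact mem_irreducibleComponent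
  have : (y : Y) = x := by
    by_contra hne
    exact hzW (Set.mem_iUnion₂.2 ⟨y, ⟨y.2, hne⟩, specializes_iff_mem_closure.1 hyz⟩)
  exact this ▸ hyz.mem_open O.isOpen hzO

theorem topologicalKrullDim_le_of_dense {k : Type u} [Field k] {Y : Scheme.{u}} (g : Y ⟶ Spec (CommRingCat.of k))
    [LocallyOfFiniteType g] [NoetherianSpace Y] (U : Y.Opens) (hU : Dense (U : Set Y)) :
    topologicalKrullDim Y ≤ topologicalKrullDim (U : Scheme) := by
  rw [VarDim.topologicalKrullDim_eq_iSup_deg g, VarDim.topologicalKrullDim_eq_iSup_deg (U.ι ≫ g)]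
  refine iSup_le fun z => ?_
  let η := genericPoints.ofComponent ⟨_, irreducibleComponent_mem_irreducibleComponents z⟩
  have hspec : (η : Y) ⤳ z := by
    refine (genericPoints.isGenericPoint η).specializes ?_
    rw [genericPoints.component_ofComponent]
    exact mem_irreducibleComponent
  have hηU : (η : Y) ∈ U := mem_of_dense hU η.2
  have h1 := VarDim.deg_le_of_specializes g hspec
  rw [show (η : Y) = U.ι ⟨η, hηU⟩ from rfl, ← VarDim.deg_comp g U.ι ⟨η, hηU⟩] at h1
  exact le_iSup_of_le ⟨η, hηU⟩ (by exact_mod_cast h1)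

theorem exists_dense_affine (X : Scheme.{u}) [IsNoetherian X] [QuasiSeparatedSpace X] :
    ∃ U : X.Opens, IsAffineOpen U ∧ Dense (U : Set X) := by
  rcases isEmpty_or_nonempty X with hX | ⟨⟨x₀⟩⟩
  · exact ⟨⊥, isAffineOpen_bot X, fun x => (hX.false x).elim⟩
  have hfin := TopologicalSpace.NoetherianSpace.finite_irreducibleComponents (α := X)
  haveI := hfin.to_subtype
  obtain ⟨n, ⟨e⟩⟩ := Finite.exists_equiv_fin (irreducibleComponents (X : Type u))
  have hgen : ∀ i : Fin n, ∃ gp : X, closure ({gp} : Set X) = (e.symm i : Set X) := fun i =>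
    QuasiSober.sober (e.symm i).2.1 (isClosed_of_mem_irreducibleComponents _ (e.symm i).2)
  choose gp hgp using hgen
  obtain ⟨U, hU, -, hgpU⟩ := GenNhd.exists_affine_containing gp (fun i => (hgp i).symm ▸ (e.symm i).2) x₀
  refine ⟨U, hU, fun x => ?_⟩
  let i := e ⟨irreducibleComponent x, irreducibleComponent_mem_irreducibleComponents x⟩
  have hx : x ∈ closure ({gp i} : Set X) := by
    rw [hgp i, Equiv.symm_apply_apply]
    exact mem_irreducibleComponent
  exact closure_mono (Set.singleton_subset_iff.2 (hgpU i)) hx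

variable (k : Type u) [Field k] {X : Scheme.{u}} (f : X ⟶ Spec (CommRingCat.of k)) (n : ℕ)

/-- The affine space. -/
noncomputable abbrev An : Scheme.{u} := 𝔸(ULift.{u} (Fin n); Spec (CommRingCat.of k))

theorem dim_An : topologicalKrullDim (An k n) = n := by
  rw [IsHomeomorph.topologicalKrullDim_eq _
    (AffineSpace.SpecIso (ULift.{u} (Fin n)) (CommRingCat.of k)).hom.homeomorph.isHomeomorph]
  refine (PrimeSpectrum.topologicalKrullDim_eq_ringKrullDim
    (R := MvPolynomial (ULift.{u} (Fin n)) k)).trans ?_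
  rw [H4DimAffine.ringKrullDim_mvPoly]
  simp

theorem lft_An : LocallyOfFiniteType (An k n ↘ Spec (CommRingCat.of k)) := by
  have h : (An k n ↘ Spec (CommRingCat.of k)) = (AffineSpace.SpecIso (ULift.{u} (Fin n)) (CommRingCat.of k)).hom ≫
      Spec.map (CommRingCat.ofHom MvPolynomial.C) := by
    rw [← AffineSpace.SpecIso_inv_over, Iso.hom_inv_id_assoc]
  haveI : LocallyOfFiniteType (Spec.map (CommRingCat.ofHom
      (MvPolynomial.C : k →+* MvPolynomial (ULift.{u} (Fin n)) k))) := by
    rw [HasRingHomProperty.Spec_iff (P := @LocallyOfFiniteType)]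
    exact RingHom.finiteType_algebraMap.2 (inferInstance : Algebra.FiniteType k (MvPolynomial (ULift.{u} (Fin n)) k))
  rw [h]
  infer_instance

theorem ge_of_surjective [LocallyOfFiniteType f] [QuasiCompact f] {U : X.Opens} (hU : Dense (U : Set X))
    (g : (U : Scheme.{u}) ⟶ An k n) (hg : g ≫ (An k n ↘ Spec (CommRingCat.of k)) = U.ι ≫ f)
    (hs : Function.Surjective g.base) : (n : WithBot ℕ∞) ≤ topologicalKrullDim (X : Type u) := by
  haveI := lft_An k n
  refine le_trans ?_ (U.ι.isEmbedding.isInducing.topologicalKrullDim_le)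
  rw [← dim_An k n, VarDim.topologicalKrullDim_eq_iSup_deg (An k n ↘ Spec (CommRingCat.of k)),
    VarDim.topologicalKrullDim_eq_iSup_deg (U.ι ≫ f)]
  refine iSup_le fun a => ?_
  obtain ⟨x, rfl⟩ := hs a
  exact le_iSup_of_le x (by exact_mod_cast VarDim.deg_map_le g _ hg x)

theorem le_of_finite [LocallyOfFiniteType f] [QuasiCompact f] {U : X.Opens} (hU : Dense (U : Set X))
    (g : (U : Scheme.{u}) ⟶ An k n) [IsFinite g] : topologicalKrullDim (X : Type u) ≤ n := by
  haveI : CompactSpace X := QuasiCompact.compactSpace_of_compactSpace f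
  haveI : IsLocallyNoetherian X := LocallyOfFiniteType.isLocallyNoetherian f
  haveI : IsNoetherian X := ⟨⟩
  refine (topologicalKrullDim_le_of_dense f U hU).trans ?_
  haveI : IsAffine (U : Scheme) := isAffine_of_isAffineHom g
  let A := (AffineSpace.SpecIso (ULift.{u} (Fin n)) (CommRingCat.of k))
  let g' := (U : Scheme).isoSpec.inv ≫ g ≫ A.hom
  haveI : IsFinite g' := inferInstance
  obtain ⟨φ, hφ⟩ : ∃ φ, Spec.map φ = g' := ⟨Spec.preimage g', Spec.map_preimage g'⟩
  have hfin : φ.hom.Finite := by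
    rw [← IsFinite.SpecMap_iff, hφ]
    infer_instance
  rw [IsHomeomorph.topologicalKrullDim_eq _ (U : Scheme).isoSpec.hom.homeomorph.isHomeomorph]
  refine (PrimeSpectrum.topologicalKrullDim_eq_ringKrullDim (R := Γ((U : Scheme), ⊤))).trans_le ?_
  letI := φ.hom.toAlgebra
  haveI : Module.Finite (MvPolynomial (ULift.{u} (Fin n)) k) Γ((U : Scheme), ⊤) := hfin
  haveI : Algebra.IsIntegral (MvPolynomial (ULift.{u} (Fin n)) k) Γ((U : Scheme), ⊤) := Algebra.IsIntegral.of_finite _ _
  refine (Order.krullDim_le_of_strictMono _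
    (VarDim.strictMono_comap_of_isIntegral (R := MvPolynomial (ULift.{u} (Fin n)) k) (S := Γ((U : Scheme), ⊤)))).trans ?_
  refine (H4DimAffine.ringKrullDim_mvPoly (k := k) (ULift.{u} (Fin n))).trans_le ?_
  simp

theorem exists_map [LocallyOfFiniteType f] [QuasiCompact f] :
    ((n : WithBot ℕ∞) ≤ topologicalKrullDim (X : Type u) →
      ∃ (U : X.Opens) (g : (U : Scheme.{u}) ⟶ An k n), Dense (U : Set X) ∧
        g ≫ (An k n ↘ Spec (CommRingCat.of k)) = U.ι ≫ f ∧ Function.Surjective g.base ∧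
          (topologicalKrullDim (X : Type u) = n → IsFinite g)) ∧
    (topologicalKrullDim (X : Type u) ≤ n →
      ∃ (U : X.Opens) (g : (U : Scheme.{u}) ⟶ An k n), Dense (U : Set X) ∧
        g ≫ (An k n ↘ Spec (CommRingCat.of k)) = U.ι ≫ f ∧ IsFinite g) := by
  haveI : CompactSpace X := QuasiCompact.compactSpace_of_compactSpace f
  haveI : IsLocallyNoetherian X := LocallyOfFiniteType.isLocallyNoetherian f
  haveI : IsNoetherian X := ⟨⟩
  obtain ⟨U, hU, hUd⟩ := exists_dense_affine X
  obtain ⟨ψ, hψ⟩ : ∃ ψ, Spec.map ψ = hU.isoSpec.inv ≫ U.ι ≫ f := ⟨Spec.preimage _, Spec.map_preimage _⟩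
  letI : Algebra k Γ(X, U) := ψ.hom.toAlgebra
  haveI : Algebra.FiniteType k Γ(X, U) := by
    rw [← RingHom.finiteType_algebraMap]
    have h : LocallyOfFiniteType (Spec.map ψ) := by rw [hψ]; infer_instance
    rw [HasRingHomProperty.Spec_iff (P := @LocallyOfFiniteType)] at h
    exact h
  have hdim : topologicalKrullDim (X : Type u) = ringKrullDim Γ(X, U) := by
    refine le_antisymm ((topologicalKrullDim_le_of_dense f U hUd).trans ?_) (le_trans ?_
      U.ι.isEmbedding.isInducing.topologicalKrullDim_le)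
    · rw [IsHomeomorph.topologicalKrullDim_eq _ hU.isoSpec.hom.homeomorph.isHomeomorph]
      exact (PrimeSpectrum.topologicalKrullDim_eq_ringKrullDim (R := Γ(X, U))).le
    · rw [IsHomeomorph.topologicalKrullDim_eq _ hU.isoSpec.hom.homeomorph.isHomeomorph]
      exact (PrimeSpectrum.topologicalKrullDim_eq_ringKrullDim (R := Γ(X, U))).ge
  let G : (MvPolynomial (ULift.{u} (Fin n)) k →ₐ[k] Γ(X, U)) → ((U : Scheme.{u}) ⟶ An k n) := fun φ =>
    hU.isoSpec.hom ≫ Spec.map (CommRingCat.ofHom φ.toRingHom) ≫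
      (AffineSpace.SpecIso (ULift.{u} (Fin n)) (CommRingCat.of k)).inv
  have hG : ∀ φ, G φ ≫ (An k n ↘ Spec (CommRingCat.of k)) = U.ι ≫ f := fun φ => by
    have e : CommRingCat.ofHom MvPolynomial.C ≫ CommRingCat.ofHom φ.toRingHom = ψ :=
      CommRingCat.hom_ext (RingHom.ext φ.commutes)
    simp only [G, Category.assoc, AffineSpace.SpecIso_inv_over, ← Spec.map_comp, e, hψ, Iso.hom_inv_id_assoc]
  refine ⟨fun h => ?_, fun h => ?_⟩
  · rw [hdim] at h
    obtain ⟨φ, hs, hfin⟩ := H4DimAffine.exists_surjective_of_le (k := k) (σ := ULift.{u} (Fin n)) h (by simp)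
    refine ⟨U, G φ, hUd, hG φ, fun a => ?_, fun hn => ?_⟩
    · let A := AffineSpace.SpecIso (ULift.{u} (Fin n)) (CommRingCat.of k)
      obtain ⟨b, hb⟩ := hs (A.hom a)
      refine ⟨hU.isoSpec.inv b, ?_⟩
      show (hU.isoSpec.inv ≫ G φ) b = a
      rw [show hU.isoSpec.inv ≫ G φ = Spec.map (CommRingCat.ofHom φ.toRingHom) ≫ A.inv from
        Iso.inv_hom_id_assoc _ _, Scheme.Hom.comp_apply]
      refine (congrArg A.inv hb).trans ?_
      rw [← Scheme.Hom.comp_apply, Iso.hom_inv_id]
      rfl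
    · haveI : IsFinite (Spec.map (CommRingCat.ofHom φ.toRingHom)) :=
        (IsFinite.SpecMap_iff _).2 (hfin (hdim.symm.trans hn))
      exact inferInstanceAs (IsFinite (_ ≫ _ ≫ _))
  · rw [hdim] at h
    obtain ⟨φ, hfin⟩ := H4DimAffine.exists_finite_of_le (k := k) (σ := ULift.{u} (Fin n)) h (by simp)
    haveI : IsFinite (Spec.map (CommRingCat.ofHom φ.toRingHom)) := (IsFinite.SpecMap_iff _).2 hfin
    exact ⟨U, G φ, hUd, hG φ, inferInstanceAs (IsFinite (_ ≫ _ ≫ _))⟩

/-- Let X be a scheme of finite type over a field k and n a natural number. Then: dim X ≥ n if and only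
if there are a dense open subscheme U of X and a surjective k-morphism from U to affine n-space over
k; dim X ≤ n if and only if there are such U and g with g finite; dim X = n if and only if there are
such U and g with g finite and surjective. -/
theorem result (k : Type u) [Field k] {X : Scheme.{u}}
    (f : X ⟶ Spec (CommRingCat.of k)) [LocallyOfFiniteType f] [QuasiCompact f] (n : ℕ) :
    ((n : WithBot ℕ∞) ≤ topologicalKrullDim (X : Type u) ↔
      ∃ (U : X.Opens) (g : (U : Scheme.{u}) ⟶ 𝔸(ULift.{u} (Fin n); Spec (CommRingCat.of k))),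
        Dense (U : Set X) ∧ g ≫ (𝔸(ULift.{u} (Fin n); Spec (CommRingCat.of k)) ↘ Spec (CommRingCat.of k)) = U.ι ≫ f ∧ Function.Surjective g.base) ∧
    (topologicalKrullDim (X : Type u) ≤ n ↔
      ∃ (U : X.Opens) (g : (U : Scheme.{u}) ⟶ 𝔸(ULift.{u} (Fin n); Spec (CommRingCat.of k))),
        Dense (U : Set X) ∧ g ≫ (𝔸(ULift.{u} (Fin n); Spec (CommRingCat.of k)) ↘ Spec (CommRingCat.of k)) = U.ι ≫ f ∧ IsFinite g) ∧
    (topologicalKrullDim (X : Type u) = n ↔
      ∃ (U : X.Opens) (g : (U : Scheme.{u}) ⟶ 𝔸(ULift.{u} (Fin n); Spec (CommRingCat.of k))),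
        Dense (U : Set X) ∧ g ≫ (𝔸(ULift.{u} (Fin n); Spec (CommRingCat.of k)) ↘ Spec (CommRingCat.of k)) = U.ι ≫ f ∧ IsFinite g ∧ Function.Surjective g.base) := by
  obtain ⟨h1, h2⟩ := exists_map k f n
  refine ⟨⟨fun h => ?_, ?_⟩, ⟨h2, ?_⟩, ⟨fun h => ?_, ?_⟩⟩
  · obtain ⟨U, g, a, b, c, -⟩ := h1 h
    exact ⟨U, g, a, b, c⟩
  · rintro ⟨U, g, a, b, c⟩
    exact ge_of_surjective k f n a g b c
  · rintro ⟨U, g, a, b, c⟩
    exact le_of_finite k f n a g
  · obtain ⟨U, g, a, b, c, d⟩ := h1 h.ge
    exact ⟨U, g, a, b, d h, c⟩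
  · rintro ⟨U, g, a, b, c, d⟩
    exact le_antisymm (le_of_finite k f n a g) (ge_of_surjective k f n a g b d)

end Groth.Agent.S3430
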