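import Groth.Statements.S3434
import Groth.Agent.ValLib.DvrRat
import Groth.Agent.GeomRedFlat5.DvrStep

set_option autoImplicit false
set_option backward.isDefEq.respectTransparency false
set_option backward.isDefEq.respectTransparency.types false
open CategoryTheory AlgebraicGeometry
universe u
open EGA43

namespace Groth.Agent.S3434

open IsLocalRing in
theorem exists_fromSpecStalk_eq {R : Type u} [CommRing R] [IsLocalRing R] {X : Scheme.{u}}
    (g : Spec (CommRingCat.of R) ⟶ X) (y : X) (hg : g (closedPoint R) = y) :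
    ∃ ψ : X.presheaf.stalk y ⟶ CommRingCat.of R, IsLocalHom ψ.hom ∧ g = Spec.map ψ ≫ X.fromSpecStalk y := by
  subst hg
  exact ⟨Scheme.stalkClosedPointTo g, inferInstance, (Scheme.Spec_stalkClosedPointTo_fromSpecStalk g).symm⟩

theorem fromSpecStalk_injective {R : CommRingCat.{u}} {X : Scheme.{u}} {y : X}
    {a b : X.presheaf.stalk y ⟶ R} (h : Spec.map a ≫ X.fromSpecStalk y = Spec.map b ≫ X.fromSpecStalk y) :
    a = b :=
  Spec.map_inj.1 ((cancel_mono _).1 h)

theorem extAt_generic {X Y : Scheme.{u}} [IsIntegral X]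
    (f : X ⟶ Y) (y : Y) (hξ : f.base (genericPoint X) ⤳ y)
    (h : ∀ A : ValuationSubring X.functionField, IsDiscreteValuationRing A →
        (∀ r : Y.presheaf.stalk y, A.valuation ((Y.presheaf.stalkSpecializes hξ ≫ f.stalkMap (genericPoint X)) r) ≤ 1) →
        (∀ r ∈ IsLocalRing.maximalIdeal (Y.presheaf.stalk y),
            A.valuation ((Y.presheaf.stalkSpecializes hξ ≫ f.stalkMap (genericPoint X)) r) < 1) →
        ∃ x : X, f.base x = y ∧
          (∀ r : X.presheaf.stalk x, A.valuation (X.presheaf.stalkSpecializes (genericPoint_specializes x) r) ≤ 1) ∧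
          (∀ r ∈ IsLocalRing.maximalIdeal (X.presheaf.stalk x),
            A.valuation (X.presheaf.stalkSpecializes (genericPoint_specializes x) r) < 1)) :
    ValLib.ExtAt f y (genericPoint X) := by
  intro R _ _ _ g hg σ hσξ hσ
  obtain ⟨φ, -, hφ⟩ := exists_fromSpecStalk_eq σ _ hσξ
  obtain ⟨ψ, hψloc, hψ⟩ := exists_fromSpecStalk_eq g y hg
  let alg := CommRingCat.ofHom (algebraMap R (FractionRing R))
  let ιy := Y.presheaf.stalkSpecializes hξ ≫ f.stalkMap (genericPoint X)
  have hcomp : ιy ≫ φ = ψ ≫ alg := fromSpecStalk_injective (by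
    rw [Spec.map_comp, Spec.map_comp, Spec.map_comp, Category.assoc, Category.assoc, Category.assoc, ← hψ,
      Scheme.SpecMap_stalkSpecializes_fromSpecStalk, Scheme.SpecMap_stalkMap_fromSpecStalk,
      ← Category.assoc, ← hφ]
    exact hσ)
  have hcomp' : ∀ r, φ (ιy r) = algebraMap R (FractionRing R) (ψ r) := fun r => ConcreteCategory.congr_hom hcomp r
  let V : ValuationSubring (FractionRing R) :=
    { (algebraMap R (FractionRing R)).range with
      mem_or_inv_mem' := fun a => by
        rcases ValuationRing.isInteger_or_isInteger R a with ha | ha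
        · exact Or.inl ha
        · exact Or.inr ha }
  have hinj : Function.Injective (algebraMap R (FractionRing R)) := IsFractionRing.injective _ _
  let e : R ≃+* V := RingEquiv.ofBijective
    ({ toFun := fun r => ⟨algebraMap R (FractionRing R) r, ⟨r, rfl⟩⟩
       map_one' := Subtype.ext (map_one _)
       map_mul' := fun a b => Subtype.ext (map_mul _ a b)
       map_zero' := Subtype.ext (map_zero _)
       map_add' := fun a b => Subtype.ext (map_add _ a b) } : R →+* V)
    ⟨fun a b hab => hinj (congrArg Subtype.val hab), fun v => by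
      obtain ⟨r, hr⟩ := v.2; exact ⟨r, Subtype.ext hr⟩⟩
  haveI : IsDiscreteValuationRing V := IsDiscreteValuationRing.RingEquivClass.isDiscreteValuationRing e
  let B := V.comap φ.hom
  -- a point of `X` over `y` whose local ring maps compatibly into `R`
  suffices key : ∃ (x : X) (_ : f x = y) (ψx : X.presheaf.stalk x ⟶ CommRingCat.of R),
      X.presheaf.stalkSpecializes (genericPoint_specializes x) ≫ φ = ψx ≫ alg by
    obtain ⟨x, rfl, ψx, hx⟩ := key
    have h1 : ValLib.genIncl R ≫ Spec.map ψx ≫ X.fromSpecStalk x = σ := by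
      rw [← Category.assoc, ← Spec.map_comp, ← hx, Spec.map_comp, Category.assoc,
        Scheme.SpecMap_stalkSpecializes_fromSpecStalk, ← hφ]
    refine ⟨Spec.map ψx ≫ X.fromSpecStalk x, ?_, h1⟩
    have h2 : f.stalkMap x ≫ ψx = ψ := by
      refine CommRingCat.hom_ext (RingHom.ext fun r => hinj ?_)
      have e1 := ConcreteCategory.congr_hom hx (f.stalkMap x r)
      refine e1.symm.trans (Eq.trans ?_ (hcomp' r))
      exact congrArg φ (ConcreteCategory.congr_hom
        (Scheme.Hom.stalkSpecializes_stalkMap f _ _ (genericPoint_specializes x)) r).symm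
    rw [hψ, Category.assoc, ← Scheme.SpecMap_stalkMap_fromSpecStalk, ← Category.assoc, ← Spec.map_comp, h2]
  -- transfer from a map into `B`
  have hlift : ∀ (x : X), (∀ r : X.presheaf.stalk x, φ (X.presheaf.stalkSpecializes (genericPoint_specializes x) r) ∈ V) →
      ∃ ψx : X.presheaf.stalk x ⟶ CommRingCat.of R,
      X.presheaf.stalkSpecializes (genericPoint_specializes x) ≫ φ = ψx ≫ alg := by
    intro x hmem
    refine ⟨CommRingCat.ofHom (e.symm.toRingHom.comp
      (((X.presheaf.stalkSpecializes (genericPoint_specializes x) ≫ φ).hom).codRestrict V hmem)), ?_⟩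
    refine CommRingCat.hom_ext (RingHom.ext fun r => ?_)
    exact (congrArg Subtype.val (e.apply_symm_apply ⟨_, hmem r⟩)).symm
  have hle : ∀ r, φ (ιy r) ∈ V := fun r => ⟨ψ r, (hcomp' r).symm⟩
  have hunit : ∀ r ∈ IsLocalRing.maximalIdeal (Y.presheaf.stalk y), ¬ IsUnit (⟨φ (ιy r), hle r⟩ : V) := by
    intro r hr hu
    have h0 : e (ψ r) = (⟨φ (ιy r), hle r⟩ : V) := Subtype.ext (hcomp' r).symm
    rw [← h0, MulEquiv.isUnit_map] at hu
    exact hr (IsUnit.of_map ψ.hom r hu)
  by_cases hc : ∃ (c : X.functionField) (hc : φ c ∈ V), ¬ IsUnit (⟨φ c, hc⟩ : V) ∧ c ≠ 0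
  · obtain ⟨c, hc, hnu, hc0⟩ := hc
    have hB : IsDiscreteValuationRing B := GeomRedFlat5.isDiscreteValuationRing_comap φ.hom V hc hnu hc0
    obtain ⟨x, hx, hxle, -⟩ := h B hB (fun r => (B.valuation_le_one_iff _).2 (hle r)) fun r hr => by
      refine (B.valuation_lt_one_iff ⟨ιy r, hle r⟩).1 ?_
      rw [IsLocalRing.mem_maximalIdeal, mem_nonunits_iff]
      intro hu
      obtain ⟨w, hw⟩ := isUnit_iff_exists_inv.1 hu
      exact hunit r hr (isUnit_iff_exists_inv.2 ⟨⟨φ w.1, w.2⟩, Subtype.ext (by
        show φ (ιy r) * φ w.1 = 1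
        rw [← map_mul, show ιy r * w.1 = 1 from congrArg Subtype.val hw, map_one])⟩)
    exact ⟨x, hx, hlift x fun r => (B.valuation_le_one_iff _).1 (hxle r)⟩
  · push_neg at hc
    have hall : ∀ c : X.functionField, φ c ∈ V := fun c => by
      rcases V.mem_or_inv_mem (φ c) with h1 | h1
      · exact h1
      · by_cases hc0 : c = 0
        · rw [hc0, map_zero]; exact V.zero_mem
        have h2 : φ c⁻¹ ∈ V := by rwa [map_inv₀]
        obtain ⟨w, hw⟩ := isUnit_iff_exists_inv.1 (by_contra fun hn => inv_ne_zero hc0 (hc c⁻¹ h2 hn))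
        have h3 : φ c⁻¹ * w.1 = 1 := congrArg Subtype.val hw
        rw [map_inv₀] at h3
        have : φ c = w.1 := by
          calc φ c = φ c * ((φ c)⁻¹ * w.1) := by rw [h3, mul_one]
            _ = w.1 := by rw [← mul_assoc, mul_inv_cancel₀ ((map_ne_zero φ.hom).2 hc0), one_mul]
        rw [this]; exact w.2
    refine ⟨genericPoint X, ?_, hlift _ fun r => hall _⟩
    haveI : IsLocalHom ιy.hom := ⟨fun r hr => by
      by_contra hn
      exact hr.ne_zero (hc _ (hle r) (hunit r hn))⟩
    have h1 : Spec.map ιy ≫ Y.fromSpecStalk y = X.fromSpecStalk (genericPoint X) ≫ f := by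
      rw [Spec.map_comp, Category.assoc, Scheme.SpecMap_stalkSpecializes_fromSpecStalk,
        Scheme.SpecMap_stalkMap_fromSpecStalk]
    have h2 := congrArg (fun k : Spec (X.presheaf.stalk (genericPoint X)) ⟶ Y => k (IsLocalRing.closedPoint _)) h1
    simp only [Scheme.Hom.comp_apply, Scheme.fromSpecStalk_closedPoint] at h2
    refine h2.symm.trans ?_
    rw [show Spec.map ιy (IsLocalRing.closedPoint _) = IsLocalRing.closedPoint _ from IsLocalRing.comap_closedPoint ιy.hom,
      Scheme.fromSpecStalk_closedPoint]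

/-- Let Y be an integral locally Noetherian scheme, X an integral scheme, f : X ⟶ Y separated, dominant
and of finite type, and y a point of Y; write K for the function field of X (the local ring at its
generic point ξ), into which O_{Y,y} maps through O_{Y,f ξ}. Then f is proper over some open
neighbourhood of y if and only if every discrete valuation ring of K which dominates (the image of)
O_{Y,y} dominates (the image of) O_{X,x} for some point x of X; such an x lies over y. -/
theorem result {X Y : Scheme.{u}} [IsIntegral X] [IsIntegral Y] [IsLocallyNoetherian Y]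
    (f : X ⟶ Y) [IsSeparated f] [IsDominant f] [LocallyOfFiniteType f] [QuasiCompact f] (y : Y)
    (hξ : f.base (genericPoint X) ⤳ y) :
    (∃ U : Y.Opens, y ∈ U ∧ IsProper (f ∣_ U)) ↔
      ∀ A : ValuationSubring X.functionField, IsDiscreteValuationRing A →
        (∀ r : Y.presheaf.stalk y, A.valuation ((Y.presheaf.stalkSpecializes hξ ≫ f.stalkMap (genericPoint X)) r) ≤ 1) →
        (∀ r ∈ IsLocalRing.maximalIdeal (Y.presheaf.stalk y),
            A.valuation ((Y.presheaf.stalkSpecializes hξ ≫ f.stalkMap (genericPoint X)) r) < 1) →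
        ∃ x : X, f.base x = y ∧
          (∀ r : X.presheaf.stalk x, A.valuation (X.presheaf.stalkSpecializes (genericPoint_specializes x) r) ≤ 1) ∧
          (∀ r ∈ IsLocalRing.maximalIdeal (X.presheaf.stalk x),
            A.valuation (X.presheaf.stalkSpecializes (genericPoint_specializes x) r) < 1) := by
  constructor
  · rintro ⟨U, hyU, hP⟩ A hA hle hlt
    haveI : LocallyOfFiniteType (f ∣_ U) := inferInstance
    haveI : IsProper (𝟙 (f ⁻¹ᵁ U).toScheme ≫ (f ∣_ U)) := by rw [Category.id_comp]; exact hP
    have hPO : ClSub.IsProperOver (f ∣_ U) ((f ⁻¹ᵁ U).ι ⁻¹' Set.univ) :=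
      QCoh.isProperOver_of_subset (𝟙 _) (by simp) (by simp)
    let ιy := Y.presheaf.stalkSpecializes hξ ≫ f.stalkMap (genericPoint X)
    let φ₀ : Y.presheaf.stalk y ⟶ CommRingCat.of A :=
      CommRingCat.ofHom (ιy.hom.codRestrict A fun r => (A.valuation_le_one_iff _).1 (hle r))
    haveI : IsLocalHom φ₀.hom := ⟨fun r hr => by
      by_contra hn
      exact ((A.valuation_lt_one_iff _).2 (hlt r hn)) hr⟩
    let e := IsLocalization.algEquiv (nonZeroDivisors A) X.functionField (FractionRing A)
    let g := Spec.map φ₀ ≫ Y.fromSpecStalk y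
    let σ := Spec.map (CommRingCat.ofHom e.toRingHom) ≫ X.fromSpecStalk (genericPoint X)
    have hg : g (IsLocalRing.closedPoint A) = y := by
      rw [Scheme.Hom.comp_apply]
      exact (congrArg (Y.fromSpecStalk y) (IsLocalRing.comap_closedPoint φ₀.hom)).trans
        Scheme.fromSpecStalk_closedPoint
    obtain ⟨s, hs₁, hs₂⟩ := ValLib.exists_lift_of_isProperOver f y U hyU hPO g hg σ trivial (by
      rw [Category.assoc, ← Scheme.SpecMap_stalkMap_fromSpecStalk,
        ← Scheme.SpecMap_stalkSpecializes_fromSpecStalk hξ, ← Spec.map_comp_assoc, ← Spec.map_comp_assoc,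
        ← Spec.map_comp_assoc]
      refine congrArg (· ≫ Y.fromSpecStalk y) (congrArg Spec.map (CommRingCat.hom_ext (RingHom.ext fun r => ?_)))
      exact e.commutes (φ₀ r))
    obtain ⟨ψ, hψloc, hψ⟩ := exists_fromSpecStalk_eq s _ rfl
    have hx : f.base (s (IsLocalRing.closedPoint A)) = y := by
      rw [← Scheme.Hom.comp_apply, hs₁]; exact hg
    refine ⟨s (IsLocalRing.closedPoint A), hx, ?_⟩
    have hcomp : X.presheaf.stalkSpecializes (genericPoint_specializes _) ≫ CommRingCat.ofHom e.toRingHom =
        ψ ≫ CommRingCat.ofHom (algebraMap A (FractionRing A)) := fromSpecStalk_injective (by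
      rw [Spec.map_comp, Category.assoc, Scheme.SpecMap_stalkSpecializes_fromSpecStalk, Spec.map_comp,
        Category.assoc, ← hψ]
      exact hs₂.symm)
    have hval : ∀ r, X.presheaf.stalkSpecializes (genericPoint_specializes (s (IsLocalRing.closedPoint A))) r =
        algebraMap A X.functionField (ψ r) := fun r =>
      e.injective ((ConcreteCategory.congr_hom hcomp r).trans (e.commutes (ψ r)).symm)
    refine ⟨fun r => ?_, fun r hr => ?_⟩
    · rw [hval]; exact (A.valuation_le_one_iff _).2 (ψ r).2
    · rw [hval]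
      exact (A.valuation_lt_one_iff _).1 fun hu => hr (IsUnit.of_map ψ.hom r hu)
  · intro h
    obtain ⟨U, hyU, hP⟩ := ValLib.exists_isProperOver_of_extAt f Set.univ isClosed_univ y (fun ξ _ hmax => by
      rw [show ξ = genericPoint X from (hmax _ trivial (specializes_iff_mem_closure.1 (genericPoint_specializes ξ))).symm]
      exact extAt_generic f y hξ h)
    refine ⟨U, hyU, ?_⟩
    haveI : LocallyOfFiniteType (f ∣_ U) := inferInstance
    simpa using QCoh.isProper_comp_of_isProperOver (f := f ∣_ U) (𝟙 _) hP (by simp)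

end Groth.Agent.S3434
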