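import Groth.Statements.S3440
import Groth.Agent.S2082
import Groth.Agent.DimFormula.Open
import Groth.Agent.DimFormula.Criteria
import Groth.Agent.Triage.CMMor
import Groth.Agent.CMClosed.Basic
import Groth.Agent.FlatLocus.Basic
import Groth.Agent.GeomRedFlat5.Nhd
import Groth.Agent.UnibFibre.SmoothApp

set_option autoImplicit false
open CategoryTheory AlgebraicGeometry
universe u
open EGA43

namespace Groth.Agent.S3440

theorem isOpenAt_opens {X Y : Scheme.{u}} (f : X ⟶ Y) (U : X.Opens) [UniversallyOpen (U.ι ≫ f)] {z : X}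
    (hz : z ∈ U) : EGA43.IsOpenAt f.base z := by
  intro s hs
  obtain ⟨u, hu, hu', hzu⟩ := mem_nhds_iff.1 hs
  have ho : IsOpen ((U.ι ≫ f) '' (U.ι ⁻¹' u)) := (U.ι ≫ f).isOpenMap _ (hu'.preimage U.ι.continuous)
  refine Filter.mem_of_superset (ho.mem_nhds ⟨⟨z, hz⟩, hzu, rfl⟩) ?_
  rintro _ ⟨a, ha, rfl⟩
  exact ⟨U.ι a, hu ha, rfl⟩


/-- Let Y be locally Noetherian, f : X ⟶ Y locally of finite type, x a point of X and y = f x; suppose
O_{Y,y} is regular and O_{X,x} is Cohen–Macaulay. The following are equivalent: a) O_{Y,y} ⟶ O_{X,x}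
is flat and the local ring of X_y at x is Cohen–Macaulay; b) O_{Y,y} ⟶ O_{X,x} is flat; c) the
restriction of f to some open neighbourhood of x is universally open; d) f is open at the generic
point of every irreducible component of X_y through x; e') dim O_{X,x} = dim O_{Y,y} + dim
O_{X_y,x}. -/
theorem result {X Y : Scheme.{u}} [IsLocallyNoetherian Y] (f : X ⟶ Y)
    [LocallyOfFiniteType f] (x : X) (hreg : IsRegularLocalRing (Y.presheaf.stalk (f.base x)))
    (hCM : LocCoh.IsCohenMacaulayLocalRing (X.presheaf.stalk x)) :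
    List.TFAE [
      (f.stalkMap x).hom.Flat ∧ LocCoh.IsCohenMacaulayLocalRing ((f.fiber (f.base x)).presheaf.stalk (f.asFiber x)),
      (f.stalkMap x).hom.Flat,
      ∃ U : X.Opens, x ∈ U ∧ UniversallyOpen (U.ι ≫ f),
      (∀ z : ↥(f.fiber (f.base x)), f.asFiber x ∈ closure {z} →
          (∀ z' : ↥(f.fiber (f.base x)), z ∈ closure {z'} → z' = z) →
          EGA43.IsOpenAt f.base ((f.fiberι (f.base x)).base z)),
      ringKrullDim (X.presheaf.stalk x) =
        ringKrullDim (Y.presheaf.stalk (f.base x)) + ringKrullDim ((f.fiber (f.base x)).presheaf.stalk (f.asFiber x)) ] := by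
  haveI : IsLocallyNoetherian X := LocallyOfFiniteType.isLocallyNoetherian f
  haveI := hreg
  haveI := hCM
  letI : Algebra (Y.presheaf.stalk (f.base x)) (X.presheaf.stalk x) := (f.stalkMap x).hom.toAlgebra
  haveI : IsLocalHom (algebraMap (Y.presheaf.stalk (f.base x)) (X.presheaf.stalk x)) :=
    inferInstanceAs (IsLocalHom (f.stalkMap x).hom)
  obtain ⟨eq⟩ := Triage.CMMor.exists_equiv_fibre_stalk f x
  tfae_have 1 → 2 := fun h => h.1
  tfae_have 2 → 1 := fun h => by
    haveI : Module.Flat (Y.presheaf.stalk (f.base x)) (X.presheaf.stalk x) := h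
    have h2 := ((Triage.CMMor.isCM_iff (Y.presheaf.stalk (f.base x)) (X.presheaf.stalk x)).1 hCM).2
    exact ⟨h, @CMClosed.of_ringEquiv _ _ _ _ eq h2⟩
  tfae_have 2 → 3 := fun h => by
    haveI := GeomRedFlat5.lfp_of_noetherian f
    let U : X.Opens := ⟨_, FlatLocus.isOpen_flat_locus f⟩
    haveI : Flat (U.ι ≫ f) := GeomRedFlat5.flat_of_range_subset f U.ι fun z => z.2
    exact ⟨U, h, inferInstance⟩
  tfae_have 3 → 4 := by
    rintro ⟨U, hxU, hU⟩ z hz -
    have hzx : (f.fiberι (f.base x)).base z ⤳ x := by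
      simpa [Scheme.Hom.fiberι_asFiber] using
        (specializes_iff_mem_closure.2 hz).map (f.fiberι (f.base x)).continuous
    exact isOpenAt_opens f U (hzx.mem_open U.isOpen hxU)
  tfae_have 4 → 5 := fun h => by
    refine (DimFormula.formula_iff f x).2 (le_antisymm (DimFormula.codim_le_add f x) ?_)
    obtain ⟨z, hzx, hfz, hmax, hcd, -⟩ := DimFormula.exists_fibMax_top f x
    obtain ⟨v, rfl⟩ : z ∈ Set.range (f.fiberι (f.base x)) := by
      rw [Scheme.Hom.range_fiberι]; exact hfz
    have ho := h v (specializes_iff_mem_closure.1 ((f.fiberι (f.base x)).isEmbedding.isInducing.specializes_iff.1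
      (by rw [Scheme.Hom.fiberι_asFiber]; exact hzx))) ((FibDim.fibMax_fiberι_iff' f v).1 hmax)
    have h1 := DimFormula.codim_le_of_isOpenAt f hmax ho
    have h2 := DimFormula.codim_mono_add hzx
    rw [hfz] at h1
    omega
  tfae_have 5 → 2 := fun h => by
    refine S2082.result (R := Y.presheaf.stalk (f.base x)) (S := X.presheaf.stalk x) ?_
    exact h.trans (congrArg (_ + ·) (ringKrullDim_eq_of_ringEquiv eq).symm)
  tfae_finish

end Groth.Agent.S3440
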