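import Groth.Statements.S3459
import Groth.Agent.RedFibComp.Main

set_option autoImplicit false
open CategoryTheory AlgebraicGeometry
universe u
open EGA43

namespace Groth.Agent.S3459

open Groth.Agent.GeomRedFlat5 Groth.Agent.RedFibComp

theorem E_fiberι_iff {X Y : Scheme.{u}} (f : X ⟶ Y) {y : Y} (v : ↥(f.fiber y)) :
    E f ((f.fiberι y).base v) ↔ FBase.IsGeomReducedAt (f.fiberToSpecResidueField y) v := by
  suffices h : ∀ x : X, f.base x = y → (f.fiberι y).base v = x →
      (E f x ↔ FBase.IsGeomReducedAt (f.fiberToSpecResidueField y) v) from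
    h _ (FibDim.fiber_apply_fiberι f v) rfl
  rintro x rfl hv
  have : v = f.asFiber x :=
    (f.fiberι (f.base x)).isEmbedding.injective (hv.trans (Scheme.Hom.fiberι_asFiber f x).symm)
  subst this
  exact Iff.rfl


/-- Let Y be an irreducible locally Noetherian scheme with generic point η, f : X ⟶ Y locally of finite
type, x a point of X and y = f x. Suppose (1) x lies on exactly one irreducible component Z of the
fibre X_y, and (2) X_y is geometrically reduced at the generic point of Z. Call an irreducible
component X' of X containing x admissible when the local dimension at x of X' ∩ f⁻¹(y) equals that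
of f⁻¹(y) and the restriction of f to X' (with its reduced structure) is universally open at the
generic points of the irreducible components of X' ∩ f⁻¹(y) containing x. Then there is at most one
admissible X'; and if X' is admissible, the fibre X_η is geometrically reduced at the generic point
of X'. -/
theorem result {X Y : Scheme.{u}} [IrreducibleSpace Y]
    [IsLocallyNoetherian Y] (f : X ⟶ Y) [LocallyOfFiniteType f] (x : X)
    (h1 : ∃! Zc : Set ↥(f.fiber (f.base x)), Zc ∈ irreducibleComponents (↥(f.fiber (f.base x)) : Type u) ∧ f.asFiber x ∈ Zc)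
    (h2 : ∀ z : ↥(f.fiber (f.base x)), f.asFiber x ∈ closure {z} →
      (∀ z' : ↥(f.fiber (f.base x)), z ∈ closure {z'} → z' = z) →
      FBase.IsGeomReducedAt (f.fiberToSpecResidueField (f.base x)) z) :
    letI adm : TopologicalSpace.Closeds X → Prop := fun X' =>
      (X' : Set X) ∈ irreducibleComponents (X : Type u) ∧ ∃ hx : x ∈ X',
        FlatMor.localDim ↥((X' : Set X) ∩ f.base ⁻¹' {f.base x}) ⟨x, ⟨hx, Set.mem_singleton (f.base x)⟩⟩ =
          FlatMor.fibreDimAt f x ∧
        ∀ w : ↥(Scheme.IdealSheafData.vanishingIdeal X').subscheme,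
          f.base ((Scheme.IdealSheafData.vanishingIdeal X').subschemeι.base w) = f.base x →
          x ∈ closure {(Scheme.IdealSheafData.vanishingIdeal X').subschemeι.base w} →
          (∀ t : X, t ∈ (X' : Set X) → f.base t = f.base x →
              (Scheme.IdealSheafData.vanishingIdeal X').subschemeι.base w ∈ closure {t} →
              t = (Scheme.IdealSheafData.vanishingIdeal X').subschemeι.base w) →
          EGA43.IsUnivOpenAt ((Scheme.IdealSheafData.vanishingIdeal X').subschemeι ≫ f) w
    {X' : TopologicalSpace.Closeds X | adm X'}.Subsingleton ∧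
      ∀ X' : TopologicalSpace.Closeds X, adm X' →
        ∀ ζ : ↥(f.fiber (genericPoint Y)), closure {(f.fiberι (genericPoint Y)).base ζ} = (X' : Set X) →
          FBase.IsGeomReducedAt (f.fiberToSpecResidueField (genericPoint Y)) ζ := by
  
  obtain ⟨z, hzx, hfz, hzmax, hdim⟩ := FibDim.exists_fibMax_generization f x
  have hemb := (f.fiberι (f.base x)).isEmbedding
  have mem_range : ∀ t : X, f.base t = f.base x → t ∈ Set.range (f.fiberι (f.base x)) := fun t ht => by
    rw [Scheme.Hom.range_fiberι]; exact ht
  have comp : ∀ v : ↥(f.fiber (f.base x)), FibDim.FibMax f ((f.fiberι (f.base x)).base v) →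
      (f.fiberι (f.base x)).base v ⤳ x →
      closure {v} ∈ irreducibleComponents (↥(f.fiber (f.base x)) : Type u) ∧ f.asFiber x ∈ closure {v} := by
    intro v hv hvx
    refine ⟨⟨isIrreducible_singleton.closure, fun C hC hle => ?_⟩, specializes_iff_mem_closure.1
      (hemb.isInducing.specializes_iff.1 (by rw [Scheme.Hom.fiberι_asFiber]; exact hvx))⟩
    intro c hc
    have hg : hC.genericPoint ⤳ v := hC.isGenericPoint_genericPoint_closure.specializes
      (subset_closure (hle (subset_closure rfl)))
    have hg' := (FibDim.fibMax_fiberι_iff f v).1 hv _ hg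
    have := hC.isGenericPoint_genericPoint_closure.def.ge (subset_closure hc)
    rwa [hg'] at this
  have uniq : ∀ t : X, t ⤳ x → f.base t = f.base x → FibDim.FibMax f t → t = z := by
    intro t htx hft htmax
    obtain ⟨v, rfl⟩ := mem_range t hft
    obtain ⟨v', rfl⟩ := mem_range z hfz
    have he := h1.unique (comp v htmax htx) (comp v' hzmax hzx)
    exact congrArg _ ((inseparable_iff_closure_eq.2 he).eq)
  have hEz : E f z := by
    obtain ⟨v, rfl⟩ := mem_range z hfz
    refine (E_fiberι_iff f v).2 (h2 v (comp v hzmax hzx).2 ((FibDim.fibMax_fiberι_iff' f v).1 hzmax))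
  have key : ∀ X' : TopologicalSpace.Closeds X, (X' : Set X) ∈ irreducibleComponents (X : Type u) →
      (∃ hx : x ∈ X',
        FlatMor.localDim ↥((X' : Set X) ∩ f.base ⁻¹' {f.base x}) ⟨x, ⟨hx, Set.mem_singleton (f.base x)⟩⟩ =
          FlatMor.fibreDimAt f x ∧
        ∀ w : ↥(Scheme.IdealSheafData.vanishingIdeal X').subscheme,
          f.base ((Scheme.IdealSheafData.vanishingIdeal X').subschemeι.base w) = f.base x →
          x ∈ closure {(Scheme.IdealSheafData.vanishingIdeal X').subschemeι.base w} →
          (∀ t : X, t ∈ (X' : Set X) → f.base t = f.base x →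
              (Scheme.IdealSheafData.vanishingIdeal X').subschemeι.base w ∈ closure {t} →
              t = (Scheme.IdealSheafData.vanishingIdeal X').subschemeι.base w) →
          EGA43.IsUnivOpenAt ((Scheme.IdealSheafData.vanishingIdeal X').subschemeι ≫ f) w) →
      z ∈ X' ∧ (∀ t : X, t ⤳ z → t ∈ X') ∧ ∀ t : X, t ∈ X' → t ⤳ z → E f t := by
    intro X' hc
    rintro ⟨hx, hd, hopen⟩
    obtain ⟨z', hz', hz'x, hfz', hd', -⟩ := FibDim.exists_localDim_inter_eq f X'.isClosed x hx
    obtain ⟨z'', h1z, h2z, h3z, -⟩ := FibDim.exists_fibMax_generization f z'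
    have hz'' : z'' = z := uniq z'' (h1z.trans hz'x) (h2z.trans hfz') h3z
    subst hz''
    have hzz : z'' = z' := by
      by_contra hne
      have h := FibDim.rd_lt f h1z hne h2z
      have h' : FibDim.rd f z' = FibDim.rd f z'' := by
        have := hd'.symm.trans (hd.trans hdim)
        exact_mod_cast this
      omega
    subst hzz
    let i := (Scheme.IdealSheafData.vanishingIdeal X').subschemeι
    have hrange : Set.range i = (X' : Set X) := DimFormula.range_vanishingIdeal X'
    obtain ⟨w, hw⟩ : z'' ∈ Set.range i := hrange.ge hz'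
    haveI : IrreducibleSpace (Scheme.IdealSheafData.vanishingIdeal X').subscheme := by
      haveI hS : IrreducibleSpace ↥(Set.range i) := by
        rw [hrange]; exact Subtype.irreducibleSpace hc.1
      exact i.isEmbedding.toHomeomorph.symm.surjective.irreducibleSpace i.isEmbedding.toHomeomorph.symm.continuous
    haveI : IsReduced (Scheme.IdealSheafData.vanishingIdeal X').subscheme := inferInstance
    haveI : IsIntegral (Scheme.IdealSheafData.vanishingIdeal X').subscheme :=
      isIntegral_of_irreducibleSpace_of_isReduced _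
    subst hw
    have ho := hopen w hfz' (specializes_iff_mem_closure.1 hzx)
      (fun t _ ht htw => hzmax t (specializes_iff_mem_closure.2 htw) (ht.trans hfz'.symm))
    obtain ⟨m1, m2⟩ := RedFibComp.main f i w hzmax hEz ho
    refine ⟨hz', fun t ht => hrange.le (m1 t ht), fun t ht htz => ?_⟩
    obtain ⟨a, rfl⟩ := hrange.ge ht
    exact m2 a (i.isEmbedding.isInducing.specializes_iff.1 htz)
  refine ⟨fun X₁ ⟨c1, a1⟩ X₂ ⟨c2, a2⟩ => ?_, fun X' ⟨c, a⟩ ζ hζ => ?_⟩
  · obtain ⟨-, g1, -⟩ := key X₁ c1 a1
    obtain ⟨hz2, -, -⟩ := key X₂ c2 a2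
    have hgen := c2.1.isGenericPoint_genericPoint X₂.isClosed
    have hmem : c2.1.genericPoint ∈ X₁ := g1 _ (hgen.specializes hz2)
    have hle : (X₂ : Set X) ⊆ (X₁ : Set X) := by
      rw [← hgen.def]; exact X₁.isClosed.closure_subset_iff.2 (Set.singleton_subset_iff.2 hmem)
    exact SetLike.coe_injective (le_antisymm (c2.2 c1.1 hle) hle)
  · obtain ⟨hz, -, g⟩ := key X' c a
    refine (E_fiberι_iff f ζ).1 (g _ ?_ (specializes_iff_mem_closure.2 (hζ.ge hz)))
    exact hζ.le (subset_closure rfl)

end Groth.Agent.S3459
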