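import Groth.Statements.S3460
-- import your own Groth.Agent.* helpers here

set_option autoImplicit false
open CategoryTheory AlgebraicGeometry
universe u
open EGA43

set_option backward.isDefEq.respectTransparency false
set_option backward.isDefEq.respectTransparency.types false

namespace Groth.Agent.S3460

/-- Let Y be locally Noetherian and f : X ⟶ Y of finite type. Then there exist a scheme Z, a proper
morphism g : X ⟶ Z and an immersion h : Z ⟶ Y with f = g ≫ h if and only if f is proper at every
point of f(X), i.e. every point of f(X) has an open neighbourhood U in Y over which the restriction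
of f is proper. -/
theorem result {X Y : Scheme.{u}} [IsLocallyNoetherian Y]
    (f : X ⟶ Y) [LocallyOfFiniteType f] [QuasiCompact f] :
    (∃ (Z : Scheme.{u}) (g : X ⟶ Z) (h : Z ⟶ Y), IsProper g ∧ IsImmersion h ∧ g ≫ h = f) ↔
      ∀ x : X, ∃ U : Y.Opens, f.base x ∈ U ∧ IsProper (f ∣_ U) := by
  constructor
  · rintro ⟨Z, g, h, hg, hh, rfl⟩ x
    haveI := hg; haveI := hh
    let U : Y.Opens := h.coborderRange
    refine ⟨U, subset_coborder ⟨g x, rfl⟩, ?_⟩
    have hr : h ⁻¹ᵁ U = ⊤ := eq_top_iff.2 fun z _ => subset_coborder ⟨z, rfl⟩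
    haveI : IsClosedImmersion (h ∣_ U) := by
      refine IsClosedImmersion.of_isPreimmersion _ ?_
      have e : Set.range (h ∣_ U) = Subtype.val ⁻¹' Set.range h := by
        ext ⟨y, hy⟩
        constructor
        · rintro ⟨⟨z, hz⟩, hzy⟩
          exact ⟨z, (morphismRestrict_base_coe h U ⟨z, hz⟩).symm.trans (congrArg Subtype.val hzy)⟩
        · rintro ⟨z, hz⟩
          exact ⟨⟨z, hr.ge trivial⟩, Subtype.ext ((morphismRestrict_base_coe h U _).trans hz)⟩
      rw [e]
      exact isClosed_preimage_val_coborder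
    haveI : IsProper (g ∣_ (h ⁻¹ᵁ U)) :=
      MorphismProperty.of_isPullback (isPullback_morphismRestrict g _).flip inferInstance
    rw [morphismRestrict_comp]
    infer_instance
  · intro hp
    choose U hU hUp using hp
    let V : Y.Opens := ⨆ x, U x
    have hV : f ⁻¹ᵁ V = ⊤ := eq_top_iff.2 fun x _ => TopologicalSpace.Opens.mem_iSup.2 ⟨x, hU x⟩
    haveI : IsProper (f ∣_ V) := by
      let W := fun x => V.ι ⁻¹ᵁ U x
      refine IsZariskiLocalAtTarget.of_iSup_eq_top W ?_ fun x => ?_
      · refine eq_top_iff.2 fun z _ => ?_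
        obtain ⟨x, hx⟩ := TopologicalSpace.Opens.mem_iSup.1 z.2
        exact TopologicalSpace.Opens.mem_iSup.2 ⟨x, hx⟩
      · refine (MorphismProperty.arrow_mk_iso_iff @IsProper (morphismRestrictRestrict f _ _)).2 ?_
        have e : V.ι ''ᵁ W x = U x := by
          rw [Scheme.Hom.image_preimage_eq_opensRange_inf, Scheme.Opens.opensRange_ι]
          exact inf_eq_right.2 (le_iSup U x)
        rw [e]
        exact hUp x
    haveI : IsIso (f ⁻¹ᵁ V).ι := by
      rw [hV]
      exact inferInstanceAs (IsIso (Scheme.topIso X).hom)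
    refine ⟨V.toScheme, CategoryTheory.inv (f ⁻¹ᵁ V).ι ≫ (f ∣_ V), V.ι, inferInstance, inferInstance, ?_⟩
    rw [Category.assoc, morphismRestrict_ι, IsIso.inv_hom_id_assoc]

end Groth.Agent.S3460
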