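import Groth.Statements.S3462
import Groth.Agent.PBCThm.DerBC

set_option autoImplicit false
universe u
open CategoryTheory CategoryTheory.Limits AlgebraicGeometry Opposite
attribute [local instance] HasDerivedCategory.standard
open EtBC

namespace Groth.Agent.S3462

/-- Let X' = X ×_S S' be a cartesian square of schemes with f : X → S proper, projections f' : X' → S'
and g' : X' → X over g : S' → S, and let F be a torsion abelian sheaf on the small etale site of X.
Then the base change morphism g⁻¹ Rf_* F → Rf'_* g'⁻¹ F in the derived category of abelian etale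
sheaves on S' (F in degree zero; the morphism is the transpose, under an adjunction g⁻¹ ⊣ Rg_* of
the derived functors, of Rf_* F → Rg_* Rf'_* g'⁻¹ F) is an isomorphism; on cohomology sheaves this
says that g⁻¹ R^q f_* F → R^q f'_* g'⁻¹ F is bijective for every q. -/
theorem result {X S X' S' : Scheme.{u}} (f : X ⟶ S) (g : S' ⟶ S)
    (f' : X' ⟶ S') (g' : X' ⟶ X) (h : IsPullback g' f' f g) [IsProper f]
    [PreservesFiniteLimits (EtCoh.pull g)] [PreservesFiniteLimits (EtCoh.pull g')]
    [DCoh.HasRpushEt X f] [DCoh.HasRpushEt X' f'] [DCoh.HasRpushEt S' g]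
    (adj : EtBC.pullD g ⊣ DCoh.RpushEt S' g) (F : EtCoh.Ab X) (hF : EtCoh.IsTorsion F) :
    IsIso (EtBC.bcMap f g f' g' h.w adj (EtBC.single X F)) := by
  refine Groth.Agent.PBCThm.isIso_bcMap h adj _ 0 fun i => ?_
  refine Groth.Agent.PBCThm.isTorsion_of_iso ((DerivedCategory.homologyFunctor (EtCoh.Ab X) i).mapIso
    ((DerivedCategory.singleFunctorIsoCompQ _ 0).app F) ≪≫
    (DerivedCategory.homologyFunctorFactors (EtCoh.Ab X) i).app _).symm ?_
  by_cases hi : i = 0
  · subst hi
    exact Groth.Agent.PBCThm.isTorsion_of_iso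
      (HomologicalComplex.singleObjHomologySelfIso (ComplexShape.up ℤ) 0 F).symm hF
  · refine Groth.Agent.PBCThm.isTorsion_of_isZero ?_
    exact HomologicalComplex.isZero_single_obj_homology _ _ _ _ hi

end Groth.Agent.S3462
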