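import Groth.Statements.S3464
import Groth.Agent.H0PBC.BaseChange

set_option backward.isDefEq.respectTransparency false
set_option backward.isDefEq.respectTransparency.types false

set_option autoImplicit false
universe u
open CategoryTheory CategoryTheory.Limits AlgebraicGeometry Opposite
open EtBC

attribute [-instance] CategoryTheory.catToReflQuiver

namespace Groth.Agent.S3464

/-- Let X' = X ×_S S' be a cartesian square of schemes with f : X → S proper, projections f' : X' → S'
and g' : X' → X over g : S' → S, and let F be a sheaf of sets on the small etale site of X. Then the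
base change morphism g^* f_* F → f'_* g'^* F is an isomorphism. -/
theorem result {X S X' S' : Scheme.{u}} (f : X ⟶ S) (g : S' ⟶ S)
    (f' : X' ⟶ S') (g' : X' ⟶ X) (h : IsPullback g' f' f g) [IsProper f] (F : EtDesc.Sh X) :
    IsIso (EtBC.baseChange0Sh f g f' g' h.w F) := by
  refine Groth.Agent.H0PBC.isIso_baseChange_of_proper (A := Type (u + 1)) h F _ fun V => ?_
  have hu := ((EtDesc.adjSh g).homEquiv _ _).apply_symm_apply
    ((EtDesc.pushSh f).map ((EtDesc.adjSh g').unit.app F) ≫ (EtDesc.pushCompSh f g').hom.app _ ≫
      (EtBC.pushCongrSh h.w).hom.app _ ≫ (EtDesc.pushCompSh g f').inv.app _)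
  rw [Adjunction.homEquiv_unit] at hu
  refine (congr(($hu).hom.app (op V))).trans ?_
  simp [EtFound.bcSquare, EtDesc.pushCompSh, EtBC.pushCongrSh]

end Groth.Agent.S3464
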