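import Groth.Statements.S3468
import Groth.Agent.H0FBC.GeomRedCov

set_option backward.isDefEq.respectTransparency false
set_option backward.isDefEq.respectTransparency.types false

set_option autoImplicit false
universe u
open CategoryTheory CategoryTheory.Limits AlgebraicGeometry Opposite
open EtBC

attribute [-instance] CategoryTheory.catToReflQuiver
namespace Groth.Agent.S3468

/-- Let X' = X ×_Y Y' be a cartesian square of schemes with f : X → Y quasi-compact and quasi-separated
and g : Y' → Y smooth, projections f' : X' → Y' and g' : X' → X. Then for every sheaf of sets F on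
the small etale site of X the base change morphism g^* f_* F → f'_* g'^* F is an isomorphism. -/
theorem result {X Y X' Y' : Scheme.{u}} (f : X ⟶ Y) (g : Y' ⟶ Y)
    (f' : X' ⟶ Y') (g' : X' ⟶ X) (h : IsPullback g' f' f g) [QuasiCompact f] [QuasiSeparated f] [Smooth g]
    (F : EtDesc.Sh X) : IsIso (EtBC.baseChange0Sh f g f' g' h.w F) := by
  haveI : GeometricallyReduced g := GrpSchLib.IsogenyFibre.geometricallyReduced_of_smooth' g
  refine H0FBC.isIso_baseChange_of_covers (A := Type (u + 1)) h
    (fun U x => H0FBC.exists_factorization g U x) F _ fun V => ?_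
  have hu := ((EtDesc.adjSh g).homEquiv _ _).apply_symm_apply
    ((EtDesc.pushSh f).map ((EtDesc.adjSh g').unit.app F) ≫ (EtDesc.pushCompSh f g').hom.app _ ≫
      (EtBC.pushCongrSh h.w).hom.app _ ≫ (EtDesc.pushCompSh g f').inv.app _)
  rw [Adjunction.homEquiv_unit] at hu
  refine (congr(($hu).hom.app (op V))).trans ?_
  simp [EtFound.bcSquare, EtDesc.pushCompSh, EtBC.pushCongrSh]

end Groth.Agent.S3468
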