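import Groth.Statements.S3514
import Groth.Agent.EtAcycLib.Compose
import Groth.Agent.EtAcycLib.StrictFactor

set_option autoImplicit false
universe u
open CategoryTheory CategoryTheory.Limits AlgebraicGeometry Opposite
open EtAcyc

namespace Groth.Agent.S3514

open IsLocalRing in
/-- locally acyclic morphisms can be cancelled in composites -/
theorem onStrict_comp_iff {X Y Z : Scheme.{u}} (g : X ⟶ Y) (h : Y ⟶ Z) (hg : Function.Surjective g.base)
    (P : ∀ ⦃X' Y' : Scheme.{u}⦄, (X' ⟶ Y') → Prop)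
    (hP : ∀ ⦃A B C : Scheme.{u}⦄ (a : A ⟶ B) (b : B ⟶ C), P a → (P b ↔ P (a ≫ b)))
    (hgP : EtAcyc.OnStrictLocalizations g P) :
    EtAcyc.OnStrictLocalizations h P ↔ EtAcyc.OnStrictLocalizations (g ≫ h) P := by
  constructor
  · intro H x RZ RX _ _ _ _ _ _ _ _ _ _ _ _ e
    let RY := Groth.Agent.Hensel.StrictHenz (Y.presheaf.stalk (g.base x))
    haveI : HenselianLocalRing RX := _root_.Hensel.IsStrictHenselization.henselian (X.presheaf.stalk x)
    haveI : IsSepClosed (ResidueField RX) :=
      (_root_.Hensel.IsStrictHenselization.isSepClosure (R := X.presheaf.stalk x) (S := RX)).sep_closed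
    let j : Y.presheaf.stalk (g.base x) →+* RX := (algebraMap (X.presheaf.stalk x) RX).comp (g.stalkMap x).hom
    haveI : IsLocalHom j := RingHom.isLocalHom_comp _ _
    obtain ⟨k, hkl, hk⟩ := EtAcycLib.exists_strict_lift (S := RY) j
    haveI := hkl
    haveI : IsLocalHom (h.stalkMap (g x)).hom := inferInstanceAs (IsLocalHom (h.toLRSHom.stalkMap (g x)).hom)
    letI : Algebra (Z.presheaf.stalk (h.base (g.base x))) RZ := ‹Algebra (Z.presheaf.stalk ((g ≫ h).base x)) RZ›
    haveI : IsLocalHom (algebraMap (Z.presheaf.stalk (h.base (g.base x))) RZ) :=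
      ‹IsLocalHom (algebraMap (Z.presheaf.stalk ((g ≫ h).base x)) RZ)›
    haveI : _root_.Hensel.IsStrictHenselization (Z.presheaf.stalk (h.base (g.base x))) RZ :=
      ‹_root_.Hensel.IsStrictHenselization (Z.presheaf.stalk ((g ≫ h).base x)) RZ›
    obtain ⟨ρ, hρl, hρ, hkρ⟩ := EtAcycLib.exists_strict_factor (R := Z.presheaf.stalk (h.base (g.base x))) (S := RZ)
      (S' := RY) (h.stalkMap (g.base x)).hom j (algebraMap RZ RX) k
      (e.trans (congrArg (fun c => (algebraMap (X.presheaf.stalk x) RX).comp (CommRingCat.Hom.hom c))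
        (Scheme.Hom.stalkMap_comp g h x))) hk
    letI : Algebra RZ RY := ρ.toAlgebra
    haveI : IsLocalHom (algebraMap RZ RY) := hρl
    letI : Algebra RY RX := k.toAlgebra
    haveI : IsLocalHom (algebraMap RY RX) := hkl
    have e' : Spec.map (CommRingCat.ofHom (algebraMap RZ RX)) =
        Spec.map (CommRingCat.ofHom (algebraMap RY RX)) ≫ Spec.map (CommRingCat.ofHom (algebraMap RZ RY)) := by
      rw [← Spec.map_comp, ← CommRingCat.ofHom_comp]
      exact congrArg (fun c => Spec.map (CommRingCat.ofHom c)) hkρ.symm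
    rw [e']
    exact (hP _ _ (hgP x RY RX hk)).1 (H (g.base x) RZ RY hρ)
  · intro H y RZ RY _ _ _ _ _ _ _ _ _ _ _ _ e
    obtain ⟨x, rfl⟩ := hg y
    let RX := Groth.Agent.Hensel.StrictHenz (X.presheaf.stalk x)
    haveI : IsSepClosed (ResidueField RX) :=
      (_root_.Hensel.IsStrictHenselization.isSepClosure (R := X.presheaf.stalk x) (S := RX)).sep_closed
    let j : Y.presheaf.stalk (g.base x) →+* RX := (algebraMap (X.presheaf.stalk x) RX).comp (g.stalkMap x).hom
    haveI : IsLocalHom j := RingHom.isLocalHom_comp _ _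
    obtain ⟨k, hkl, hk⟩ := EtAcycLib.exists_strict_lift (S := RY) j
    letI : Algebra RY RX := k.toAlgebra
    haveI : IsLocalHom (algebraMap RY RX) := hkl
    letI : Algebra RZ RX := (k.comp (algebraMap RZ RY)).toAlgebra
    haveI : IsLocalHom (algebraMap RZ RX) := RingHom.isLocalHom_comp k (algebraMap RZ RY)
    refine (hP _ _ (hgP x RY RX hk)).2 ?_
    rw [← Spec.map_comp, ← CommRingCat.ofHom_comp]
    letI : Algebra (Z.presheaf.stalk ((g ≫ h).base x)) RZ := ‹Algebra (Z.presheaf.stalk (h.base (g.base x))) RZ›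
    haveI : IsLocalHom (algebraMap (Z.presheaf.stalk ((g ≫ h).base x)) RZ) :=
      ‹IsLocalHom (algebraMap (Z.presheaf.stalk (h.base (g.base x))) RZ)›
    haveI : _root_.Hensel.IsStrictHenselization (Z.presheaf.stalk ((g ≫ h).base x)) RZ :=
      ‹_root_.Hensel.IsStrictHenselization (Z.presheaf.stalk (h.base (g.base x))) RZ›
    refine H x RZ RX ?_
    show (k.comp (algebraMap RZ RY)).comp _ = _
    rw [RingHom.comp_assoc]
    refine (congrArg (fun c => k.comp c) e).trans ?_
    rw [← RingHom.comp_assoc, hk]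
    exact congrArg (fun c => (algebraMap (X.presheaf.stalk x) RX).comp (CommRingCat.Hom.hom c))
      (Scheme.Hom.stalkMap_comp g h x).symm

/-- Let g : X → Y and h : Y → Z be morphisms of schemes with g surjective, L a set of primes and n a
natural number. If g is locally n-acyclic for L, then h is locally n-acyclic for L if and only if g
≫ h is; if g is locally 0-acyclic, then h is locally 0-acyclic if and only if g ≫ h is. -/
theorem result {X Y Z : Scheme.{u}} (g : X ⟶ Y) (h : Y ⟶ Z)
    (hg : Function.Surjective g.base) (L : Set ℕ) (n : ℕ) :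
    (EtAcyc.IsLocAcyclicN g L n → (EtAcyc.IsLocAcyclicN h L n ↔ EtAcyc.IsLocAcyclicN (g ≫ h) L n)) ∧
      (EtAcyc.IsLocZeroAcyclic g → (EtAcyc.IsLocZeroAcyclic h ↔ EtAcyc.IsLocZeroAcyclic (g ≫ h))) := by
  exact ⟨fun H => onStrict_comp_iff g h hg (fun _ _ k => EtAcyc.IsAcyclicN k L n)
      (fun _ _ _ a b ha => EtAcycLib.isAcyclicN_comp_iff a b ha) H,
    fun H => onStrict_comp_iff g h hg (fun _ _ k => EtAcyc.IsZeroAcyclic k)
      (fun _ _ _ a b ha => EtAcycLib.isZeroAcyclic_comp_iff a b ha) H⟩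

end Groth.Agent.S3514
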