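import Groth.Statements.S3473
import Groth.Agent.H0FBC.Descent

set_option backward.isDefEq.respectTransparency false
set_option backward.isDefEq.respectTransparency.types false
set_option linter.style.haveILetI false

set_option autoImplicit false
universe u
open CategoryTheory CategoryTheory.Limits AlgebraicGeometry Opposite
open EtAcyc

attribute [-instance] CategoryTheory.catToReflQuiver
namespace Groth.Agent.S3473

open H0PBC EtFound

/-- a point not in the image of a quasi-compact morphism has a neighbourhood in which its closure misses the image -/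
theorem exists_nhd {X Y : Scheme.{u}} (g : X ⟶ Y) [QuasiCompact g] (y : Y) (hy : y ∉ Set.range g) :
    ∃ O : Y.Opens, y ∈ O ∧ ∀ x : X, g x ∈ O → ¬ y ⤳ g x := by
  obtain ⟨V, hV, hyV, -⟩ := exists_isAffineOpen_mem_and_subset (U := (⊤ : Y.Opens)) (x := y) trivial
  obtain ⟨R, f, hf⟩ := isCompact_iff_exists.1 (g.isCompact_preimage hV.isCompact)
  have hfg : Set.range (f ≫ g) ⊆ Set.range hV.fromSpec := by
    rw [hV.range_fromSpec]
    rintro _ ⟨q, rfl⟩
    rw [Scheme.Hom.comp_apply]
    exact (hf.le ⟨q, rfl⟩ : f q ∈ (g ⁻¹ᵁ V : Set X))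
  obtain ⟨φ, hφ⟩ := Spec.map_surjective (IsOpenImmersion.lift hV.fromSpec (f ≫ g) hfg)
  have hfac : Spec.map φ ≫ hV.fromSpec = f ≫ g := by rw [hφ, IsOpenImmersion.lift_fac]
  let p := hV.primeIdealOf ⟨y, hyV⟩
  have hp : hV.fromSpec p = y := hV.fromSpec_primeIdealOf ⟨y, hyV⟩
  obtain ⟨r, hr, hrp⟩ : ∃ r, φ.hom r ∈ Ideal.map φ.hom p.asIdeal ∧ r ∉ p.asIdeal := by
    by_contra hne
    push Not at hne
    obtain ⟨q, hq, hle, hdis⟩ := Ideal.exists_le_prime_disjoint (I := Ideal.map φ.hom p.asIdeal)
      (p.asIdeal.primeCompl.map φ.hom.toMonoidHom) (Set.disjoint_left.2 (by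
        rintro _ ha ⟨r, hr, rfl⟩
        exact hr (hne r ha)))
    refine hy ⟨f ⟨q, hq⟩, ?_⟩
    rw [← Scheme.Hom.comp_apply, ← hfac, Scheme.Hom.comp_apply, ← hp]
    refine congrArg hV.fromSpec (PrimeSpectrum.ext (le_antisymm (fun r hr => ?_)
      (Ideal.map_le_iff_le_comap.1 hle)))
    by_contra hrp
    exact Set.disjoint_left.1 hdis (hr : φ.hom r ∈ q) ⟨r, hrp, rfl⟩
  refine ⟨hV.fromSpec ''ᵁ PrimeSpectrum.basicOpen r, ⟨p, hrp, hp⟩, fun x hxO hyx => ?_⟩
  obtain ⟨P, hP, hPx⟩ := hxO
  have hxV : x ∈ g ⁻¹ᵁ V := by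
    show g x ∈ (V : Set Y)
    rw [← hV.range_fromSpec]
    exact ⟨P, hPx⟩
  obtain ⟨q, rfl⟩ : x ∈ Set.range f := hf.ge hxV
  have hqP : Spec.map φ q = P := hV.fromSpec.isOpenEmbedding.injective (by
    rw [← Scheme.Hom.comp_apply, hfac, Scheme.Hom.comp_apply]; exact hPx.symm)
  have hpP : p.asIdeal ≤ P.asIdeal := (PrimeSpectrum.le_iff_specializes p P).2
    (hV.fromSpec.isOpenEmbedding.toIsEmbedding.toIsInducing.specializes_iff.1 (by rw [hp]; exact hPx.symm ▸ hyx))
  have : φ.hom r ∈ q.asIdeal := by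
    refine (Ideal.map_le_iff_le_comap.2 ?_) hr
    rw [← hqP] at hpP
    exact hpP
  exact hP (hqP ▸ this : r ∈ P.asIdeal)

/-- the sheaf of closed sieves on the small etale site -/
noncomputable def sieveSheaf (T : Scheme.{u}) : EtDesc.Sh T :=
  ⟨(Functor.closedSieves T.smallEtaleTopology).toFunctor,
    (isSheaf_iff_isSheaf_of_type _ _).2 (classifier_isSheaf _)⟩

/-- the morphisms to `W` landing in an open subset -/
def openSieve {T : Scheme.{u}} {W : T.Etale} (O : W.left.Opens) : Sieve W where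
  arrows _ f := ∀ z, f.left z ∈ O
  downward_closed := fun {_ _} f hf k z => hf (k.left z)

theorem openSieve_isClosed {T : Scheme.{u}} {W : T.Etale} (O : W.left.Opens) :
    T.smallEtaleTopology.IsClosed (openSieve O) := fun Z f hf z => by
  obtain ⟨U, k, u, hk, rfl⟩ := (EtFound.mem_topology_iff _).1 hf z
  exact hk u

/-- Let g : X → Y be a morphism of schemes. If g is surjective then g is (-1)-acyclic (for every etale V
→ Y and every sheaf of sets F on V, F → g'_* g'^* F is a monomorphism, g' the projection X ×_Y V →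
V); conversely, if g is quasi-compact, quasi-separated and (-1)-acyclic then g is surjective. -/
theorem result {X Y : Scheme.{u}} (g : X ⟶ Y) :
    (Function.Surjective g.base → EtAcyc.IsMinusOneAcyclic g) ∧
      (∀ [QuasiCompact g] [QuasiSeparated g], EtAcyc.IsMinusOneAcyclic g → Function.Surjective g.base) := by
  refine ⟨fun hg V F => ?_, fun {_ _} hg => ?_⟩
  · haveI : Surjective g := ⟨hg⟩
    refine @Functor.mono_of_mono_map _ _ _ _ (sheafToPresheaf _ _) _ _ _ _
      (@NatTrans.mono_of_mono_app _ _ _ _ _ _ _ fun U => ?_)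
    rw [CategoryTheory.mono_iff_injective]
    intro s t hst
    exact H0FBC.eq_of_pullSect_eq (EtAcyc.prj g V) F (W := (EtCoh.bc (EtAcyc.prj g V)).obj U.unop)
      (pullback.fst U.unop.hom (EtAcyc.prj g V)) pullback.condition s t
      (congrArg (fun x => ((pullA (Type (u + 1)) (EtAcyc.prj g V)).obj F).obj.map
        (H0FBC.toBC (EtAcyc.prj g V) (W := (EtCoh.bc (EtAcyc.prj g V)).obj U.unop)
          (pullback.fst U.unop.hom (EtAcyc.prj g V)) pullback.condition).op x) hst)
  · by_contra hns
    simp only [Function.Surjective, not_forall, not_exists] at hns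
    obtain ⟨y, hy⟩ := hns
    obtain ⟨O, hyO, hO⟩ := exists_nhd g y (fun ⟨x, hx⟩ => hy x hx)
    let V : Y.Etale := Scheme.Etale.mk O.ι
    let O' : (EtCoh.top V.left).left.Opens := ⟨(O.ι ⁻¹' closure {y})ᶜ,
      (isClosed_closure.preimage O.ι.continuous).isOpen_compl⟩
    let e := EtAcyc.prj g V
    have hmem : ∀ z, e z ∈ O' := fun z hz => by
      obtain ⟨x, hx⟩ : e z ∈ V.hom ⁻¹' Set.range g := by
        exact (Scheme.Pullback.range_fst (f := V.hom) (g := g)).le ⟨z, rfl⟩
      refine hO x ?_ (hx ▸ specializes_iff_mem_closure.2 hz)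
      rw [hx]; exact (e z).2
    let F := sieveSheaf V.left
    let s : EtDesc.sect F (EtCoh.top V.left) := ⟨(⊤ : Sieve (EtCoh.top V.left)), fun _ _ _ => trivial⟩
    let t : EtDesc.sect F (EtCoh.top V.left) := ⟨openSieve O', openSieve_isClosed O'⟩
    have hmono : Mono ((((EtDesc.adjSh e).unit.app F).hom).app (op (EtCoh.top V.left))) := by
      haveI := hg V F
      haveI : Mono (((EtDesc.adjSh e).unit.app F).hom) := inferInstanceAs
        (Mono ((sheafToPresheaf _ _).map ((EtDesc.adjSh e).unit.app F)))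
      infer_instance
    have hst : s = t := by
      refine (CategoryTheory.mono_iff_injective _).1 hmono ?_
      refine section_ext ((pullA (Type (u + 1)) e).obj F) (pullSect e F s) (pullSect e F t)
        fun Ω _ _ ζ c hc => ?_
      rw [germ_pullSect e F ζ (ζ ≫ e) rfl s c hc (c ≫ pullback.fst (EtCoh.top V.left).hom e)
          (by rw [← hc, Category.assoc, Category.assoc, pullback.condition]; rfl) rfl,
        germ_pullSect e F ζ (ζ ≫ e) rfl t c hc (c ≫ pullback.fst (EtCoh.top V.left).hom e)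
          (by rw [← hc, Category.assoc, Category.assoc, pullback.condition]; rfl) rfl]
      refine congrArg _ ((mem_eqLocus_iff F s t _ _ _).1 ?_)
      have hm : (c ≫ pullback.fst (EtCoh.top V.left).hom e) default ∈ O' := by
        have : (c ≫ pullback.fst (EtCoh.top V.left).hom e) = ζ ≫ e := by
          rw [← hc, Category.assoc]
          exact congrArg (c ≫ ·) ((Category.comp_id _).symm.trans pullback.condition)
        rw [this, Scheme.Hom.comp_apply]
        exact hmem _
      refine Set.mem_iUnion.2 ⟨restrictEtale _ O', Set.mem_iUnion.2 ⟨restrictEtaleHom _ O',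
        Set.mem_iUnion.2 ⟨Subtype.ext (Sieve.ext fun Z k => ?_), ?_⟩⟩⟩
      · refine iff_of_true (trivial : (⊤ : Sieve (EtCoh.top V.left)) (k ≫ restrictEtaleHom _ O')) fun z => ?_
        show O'.ι (k.left z) ∈ O'
        exact (k.left z).2
      · exact ⟨⟨_, hm⟩, rfl⟩
    have htop : openSieve O' (𝟙 (EtCoh.top V.left)) :=
      (congrArg (fun w : EtDesc.sect F (EtCoh.top V.left) =>
        (Sieve.arrows (X := EtCoh.top V.left) w.1) (𝟙 (EtCoh.top V.left))) hst).mp trivial
    exact htop ⟨y, hyO⟩ (subset_closure rfl)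

end Groth.Agent.S3473
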