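import Groth.Statements.S3476
import Groth.Agent.AcycFin.FibreCrit
import Groth.Agent.AcycFin.GeomFibres
import Groth.Agent.AcycFin.LocalRange
import Groth.Agent.S3511
-- import your own Groth.Agent.* helpers here

set_option autoImplicit false
universe u
open CategoryTheory CategoryTheory.Limits AlgebraicGeometry Opposite
open EtAcyc

namespace Groth.Agent.S3476

set_option backward.isDefEq.respectTransparency false
set_option linter.style.haveILetI false
set_option linter.unusedSectionVars false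
set_option backward.isDefEq.respectTransparency.types false

open Groth.Agent.AcycFin Groth.Agent.EtLim8 Abelian

attribute [local instance] EtFound.pull_preservesFiniteLimits

variable {X Y : Scheme.{u}} (g : X ⟶ Y) (F : EtCoh.Ab Y) {q : ℕ} (ξ : EtCoh.H X ((EtCoh.pull g).obj F) q)

/-- Vanishing after the base change to `T` puts the class in the range there. -/
theorem inR_of_zero {T XT : Scheme.{u}} {a : T ⟶ Y} {gT : XT ⟶ T} {pT : XT ⟶ X} (c : IsPullback gT pT a g)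
    (h : EtCore.Hpull pT ((EtCoh.pull g).obj F) q ξ = 0) : InR g F ξ a := by
  refine InRange.inR g F ξ c ⟨0, ?_⟩
  rw [map_zero, via_eq_comp, h, Ext.zero_comp]

/-- A class in the range on a geometric point of positive degree vanishes there. -/
theorem zero_of_inRange_point {T XT : Scheme.{u}} {a : T ⟶ Y} {gT : XT ⟶ T} {pT : XT ⟶ X} (w : gT ≫ a = pT ≫ g)
    (h : InRange g F ξ a gT pT w) [Subsingleton (EtCoh.H T ((EtCoh.pull a).obj F) q)] :
    EtCore.Hpull pT ((EtCoh.pull g).obj F) q ξ = 0 := by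
  obtain ⟨x, hx⟩ := h
  refine (EtAcycLib.bijective_comp_mk₀ (pullCmp g pT (pT ≫ g) rfl F)).1 ?_
  refine (via_eq_comp pT g (pT ≫ g) rfl F q ξ).symm.trans ?_
  rw [← hx, Subsingleton.elim x 0, map_zero]
  simp only [Ext.zero_comp]

/-- Killing the witness kills the class. -/
theorem zero_of_kill {T XT : Scheme.{u}} {a : T ⟶ Y} {gT : XT ⟶ T} {pT : XT ⟶ X} {w : gT ≫ a = pT ≫ g}
    {x : EtCoh.H T ((EtCoh.pull a).obj F) q}
    (hx : EtCore.HpullVia gT a (pT ≫ g) w F q x = EtCore.HpullVia pT g (pT ≫ g) rfl F q ξ)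
    {T' XT' : Scheme.{u}} (b : T' ⟶ T) (hb : EtCore.Hpull b ((EtCoh.pull a).obj F) q x = 0)
    (gT' : XT' ⟶ T') (k : XT' ⟶ XT) (pT' : XT' ⟶ X) (hk : k ≫ pT = pT') (hs : k ≫ gT = gT' ≫ b) :
    EtCore.Hpull pT' ((EtCoh.pull g).obj F) q ξ = 0 := by
  refine (EtAcycLib.bijective_comp_mk₀ (pullCmp g pT' (pT' ≫ g) rfl F)).1 ?_
  refine (via_eq_comp pT' g (pT' ≫ g) rfl F q ξ).symm.trans ?_
  simp only [Ext.zero_comp]
  have h4 : k ≫ pT ≫ g = pT' ≫ g := by rw [← Category.assoc, hk]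
  have h3 : (gT' ≫ b) ≫ a = pT' ≫ g := by rw [← hs, Category.assoc, w, h4]
  rw [← via_via pT (pT ≫ g) k pT' (pT' ≫ g) rfl hk rfl h4 F q ξ, ← hx,
    via_via gT (pT ≫ g) k (gT' ≫ b) (pT' ≫ g) w hs h3 h4 F q x,
    ← via_via b (b ≫ a) gT' (gT' ≫ b) (pT' ≫ g) rfl rfl h3 ((Category.assoc _ _ _).symm.trans h3) F q x,
    via_eq_comp b a (b ≫ a) rfl F q x, hb, Ext.zero_comp, map_zero]

/-- The vanishing on a geometric fibre seen from an open subscheme. -/
theorem inR_open_fibre (U : Y.Opens) (v : U.toScheme) (Ω : Type u) [Field Ω] [IsSepClosed Ω]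
    [Algebra (U.toScheme.residueField v) Ω] [Algebra.IsAlgebraic (U.toScheme.residueField v) Ω]
    (h : ∀ (y : Y) (Ω : Type u) [Field Ω] [IsSepClosed Ω] [Algebra (Y.residueField y) Ω]
      [Algebra.IsAlgebraic (Y.residueField y) Ω],
      EtCore.Hpull (pullback.fst g (EtAcyc.geomPt Y y Ω)) ((EtCoh.pull g).obj F) q ξ = 0) :
    InR g F ξ (EtAcyc.geomPt U.toScheme v Ω ≫ U.ι) := by
  letI : Algebra (Y.residueField (U.ι v)) Ω :=
    ((algebraMap (U.toScheme.residueField v) Ω).comp (U.ι.residueFieldMap v).hom).toAlgebra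
  haveI := isAlgebraic_residue U.ι v Ω (RingHom.algebraMap_toAlgebra _)
  rw [← geomPt_factor U.ι v Ω (RingHom.algebraMap_toAlgebra _)]
  exact inR_of_zero g F ξ (IsPullback.of_hasPullback g (EtAcyc.geomPt Y (U.ι v) Ω)).flip (h (U.ι v) Ω)

/-- The range over a base change, seen as a morphism on its own. -/
theorem inR_pulled {T XT : Scheme.{u}} {a : T ⟶ Y} {gT : XT ⟶ T} {pT : XT ⟶ X} (c : IsPullback gT pT a g)
    {z : EtCoh.H XT ((EtCoh.pull gT).obj ((EtCoh.pull a).obj F)) q}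
    (hz : z.comp (Ext.mk₀ (pullCmp a gT (pT ≫ g) c.w F).hom) (add_zero q) = EtCore.HpullVia pT g (pT ≫ g) rfl F q ξ)
    {T' : Scheme.{u}} (b : T' ⟶ T) (h : InR g F ξ (b ≫ a)) : InR gT ((EtCoh.pull a).obj F) z b := by
  let gT' := pullback.fst b gT
  let k := pullback.snd b gT
  have hw : gT' ≫ b ≫ a = (k ≫ pT) ≫ g := by
    rw [pullback.condition_assoc, c.w, Category.assoc]
  obtain ⟨x', hx'⟩ := h.inRange g F ξ hw
  have h3 : (k ≫ gT) ≫ a = (k ≫ pT) ≫ g := by rw [Category.assoc, c.w, Category.assoc]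
  obtain ⟨x, hx⟩ := (EtAcycLib.bijective_comp_mk₀ (pullCmp a b (b ≫ a) rfl F)).2 x'
  refine ⟨x, (EtAcycLib.bijective_comp_mk₀ (pullCmp a (k ≫ gT) ((k ≫ pT) ≫ g) h3 F)).1 ?_⟩
  dsimp only at hx hz ⊢
  rw [via_comp_pullCmp b (b ≫ a) gT' (k ≫ gT) ((k ≫ pT) ≫ g) rfl pullback.condition h3 hw F q x, hx, hx',
    via_comp_pullCmp gT (pT ≫ g) k (k ≫ gT) ((k ≫ pT) ≫ g) c.w rfl h3 (Category.assoc _ _ _).symm F q z, hz,
    via_via pT (pT ≫ g) k (k ≫ pT) ((k ≫ pT) ≫ g) rfl rfl rfl (Category.assoc _ _ _).symm F q ξ]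

/-- A class vanishing on the geometric fibres is locally zero on the base. -/
theorem exists_local_zero [QuasiCompact g] [QuasiSeparated g] [Surjective g] (L : Set ℕ) (m : ℕ)
    (hglob : EtAcyc.IsAcyclicN g L m) (hloc : EtAcyc.IsLocAcyclicN g L m) (hF : EtAcyc.IsLTorsion L F)
    (hq : q = m + 1)
    (h : ∀ (y : Y) (Ω : Type u) [Field Ω] [IsSepClosed Ω] [Algebra (Y.residueField y) Ω]
      [Algebra.IsAlgebraic (Y.residueField y) Ω],
      EtCore.Hpull (pullback.fst g (EtAcyc.geomPt Y y Ω)) ((EtCoh.pull g).obj F) q ξ = 0) (y : Y) :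
    ∃ V : Y.Etale, y ∈ Set.range V.hom.base ∧
      EtCore.Hpull (pullback.snd V.hom g) ((EtCoh.pull g).obj F) q ξ = 0 := by
  subst hq
  obtain ⟨U, hU, hy, -⟩ := exists_isAffineOpen_mem_and_subset (U := (⊤ : Y.Opens)) (x := y) trivial
  haveI : IsAffine U.toScheme := hU
  have c : IsPullback (pullback.snd g U.ι) (pullback.fst g U.ι) U.ι g := (IsPullback.of_hasPullback g U.ι).flip
  haveI : Surjective (pullback.snd g U.ι) := MorphismProperty.pullback_snd g U.ι ‹_›
  obtain ⟨z, hz⟩ := (EtAcycLib.bijective_comp_mk₀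
    (pullCmp U.ι (pullback.snd g U.ι) (pullback.fst g U.ι ≫ g) c.w F)).2
      (EtCore.HpullVia (pullback.fst g U.ι) g (pullback.fst g U.ι ≫ g) rfl F (m + 1) ξ)
  have hr := mem_range_of_fibres (pullback.snd g U.ι) L m (isLocAcyclicN_baseChange g U.ι hloc) (q := m + 1) le_rfl
    (fun k hk => by
      obtain rfl : k = m := by omega
      exact compN_of_isAcyclicN (isAcyclicN_baseChange c hglob))
    _ (EtAcycLib.isLTorsion_pull U.ι hF) z
    fun v Ω _ _ _ _ => inR_pulled g F ξ c hz _ (inR_open_fibre g F ξ U v Ω h)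
  obtain ⟨x, hx⟩ := hr
  have hx' : EtCore.HpullVia (pullback.snd g U.ι) U.ι (pullback.fst g U.ι ≫ g) c.w F (m + 1) x =
      EtCore.HpullVia (pullback.fst g U.ι) g (pullback.fst g U.ι ≫ g) rfl F (m + 1) ξ := by
    rw [via_eq_comp, hx]
    exact hz
  obtain ⟨W, ⟨w, hw⟩, hW⟩ := exists_etale_kill m _ x ⟨y, hy⟩
  haveI : AlgebraicGeometry.Etale W.hom := W.prop
  let V : Y.Etale := Scheme.Etale.mk (W.hom ≫ U.ι)
  refine ⟨V, ⟨w, ?_⟩, ?_⟩
  · show U.ι.base (W.hom.base w) = y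
    rw [hw]
    rfl
  · have hcond : pullback.snd (W.hom ≫ U.ι) g ≫ g = (pullback.fst (W.hom ≫ U.ι) g ≫ W.hom) ≫ U.ι := by
      rw [Category.assoc]
      exact pullback.condition.symm
    exact zero_of_kill g F ξ hx' W.hom hW (pullback.fst (W.hom ≫ U.ι) g)
      (pullback.lift (pullback.snd (W.hom ≫ U.ι) g) (pullback.fst (W.hom ≫ U.ι) g ≫ W.hom) hcond)
      (pullback.snd V.hom g) (pullback.lift_fst _ _ _) (pullback.lift_snd _ _ _)

/-- The range from local vanishing. -/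
theorem mem_range_of_local {P : Scheme.{u}} (e : P ⟶ X) [IsIso e] (p : P ⟶ Y) (he : e ≫ g = p) (m : ℕ) (hq : q = m + 1)
    (hu : IsIso ((EtCoh.pullPushAdj p).unit.app F))
    (hvan : ∀ j, j < m → IsZero ((EtCoh.Rpush p (j + 1)).obj ((EtCoh.pull p).obj F)))
    (hl : ∀ y : Y, ∃ V : Y.Etale, y ∈ Set.range V.hom.base ∧
      EtCore.Hpull (pullback.snd V.hom g) ((EtCoh.pull g).obj F) q ξ = 0) :
    ξ ∈ Set.range (EtCore.Hpull g F q) := by
  subst hq
  let θ := pullCmp g e p he F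
  obtain ⟨y, hy⟩ := mem_range_HofPush_of_local p m ((EtCoh.pull p).obj F) hvan
    ((EtCore.Hpull e _ (m + 1) ξ).comp (Ext.mk₀ θ.hom) (add_zero _)) fun y => by
      obtain ⟨V, hyV, hV⟩ := hl y
      refine ⟨V, hyV, ?_⟩
      let pV := pullback.snd V.hom p
      have hcond : pullback.fst V.hom p ≫ V.hom = (pV ≫ e) ≫ g := by rw [Category.assoc, he]; exact pullback.condition
      have h0 : EtCore.Hpull (pV ≫ e) ((EtCoh.pull g).obj F) (m + 1) ξ = 0 := by
        rw [← EtAcycLib.Hpull_comp (pullback.lift (pullback.fst V.hom p) (pV ≫ e) hcond) (pullback.snd V.hom g) (pV ≫ e)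
          (pullback.lift_snd _ _ _), hV, map_zero, Ext.zero_comp]
      refine (S8536.Hpull_comp_mk₀ pV θ.hom (m + 1) _).trans ?_
      refine (congrArg (fun r => Ext.comp r (Ext.mk₀ ((EtCoh.pull pV).map θ.hom)) (add_zero (m + 1)))
        (EtFound.ConstAcyclic.restrict_eq_zero pV e (pV ≫ e) rfl h0)).trans ?_
      simp only [Ext.zero_comp]
  obtain ⟨x, hx⟩ := (EtAcycLib.bijective_comp_mk₀ (asIso ((EtCoh.pullPushAdj p).unit.app F))).2 y
  refine ⟨x, (EtAcycLib.bijective_Hpull_of_isIso e _ _).1 ((EtAcycLib.bijective_comp_mk₀ θ).1 ?_)⟩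
  refine (via_eq_comp e g p he F _ _).symm.trans ((via_Hpull e p he F _ x).trans ?_)
  refine (EtAcycLib.UnitRpush.Hpull_eq_HofPush p F (m + 1) x).trans ?_
  exact (congrArg (EtLim.HofPush p ((EtCoh.pull p).obj F) (m + 1)) hx).trans hy

/-- Abelian case, n ≥ 1: let g : X → Y be quasi-compact and quasi-separated, L a set of primes (assumed
here to contain a prime, a harmless addition: for L empty F = 0), n ≥ 1, and suppose g is both
(n-1)-acyclic for L and locally (n-1)-acyclic for L. Let F be an abelian L-torsion sheaf on Y and ξ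
∈ H^n(X, g⁻¹F). Then ξ lies in the image of H^n(Y, F) → H^n(X, g⁻¹F) if and only if for every point
y of Y and every separably closed field Ω algebraic over κ(y), the image of ξ in H^n(X ×_Y Spec Ω,
g⁻¹F restricted) vanishes. -/
theorem result {X Y : Scheme.{u}} (g : X ⟶ Y) [QuasiCompact g] [QuasiSeparated g]
    (L : Set ℕ) (hL : ∃ ℓ ∈ L, ℓ.Prime) (n : ℕ) (hn : 1 ≤ n)
    (hglob : EtAcyc.IsAcyclicN g L (n - 1)) (hloc : EtAcyc.IsLocAcyclicN g L (n - 1))
    [PreservesFiniteLimits (EtCoh.pull g)] (F : EtCoh.Ab Y) (hF : EtAcyc.IsLTorsion L F)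
    (ξ : EtCoh.H X ((EtCoh.pull g).obj F) n) :
    ξ ∈ Set.range (EtCore.Hpull g F n) ↔
      ∀ (y : Y) (Ω : Type u) [Field Ω] [IsSepClosed Ω] [Algebra (Y.residueField y) Ω]
        [Algebra.IsAlgebraic (Y.residueField y) Ω]
        [PreservesFiniteLimits (EtCoh.pull (pullback.fst g (EtAcyc.geomPt Y y Ω)))],
        EtCore.Hpull (pullback.fst g (EtAcyc.geomPt Y y Ω)) ((EtCoh.pull g).obj F) n ξ = 0 := by
  refine ⟨fun h y Ω _ _ _ _ _ => ?_, fun h => ?_⟩
  · haveI := subsingleton_H_sepClosed Ω ((EtCoh.pull (EtAcyc.geomPt Y y Ω)).obj F) n hn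
    exact zero_of_inRange_point g F ξ (pullback.condition (f := g) (g := EtAcyc.geomPt Y y Ω)).symm
      (inRange_of_mem_range g F ξ (EtAcyc.geomPt Y y Ω) (pullback.snd g (EtAcyc.geomPt Y y Ω))
        (pullback.fst g (EtAcyc.geomPt Y y Ω)) _ h)
  · obtain ⟨m, rfl⟩ := Nat.exists_eq_add_of_le' hn
    haveI : Surjective g := ⟨S3511.surjective_of_isAcyclicN g L hL _ hglob⟩
    obtain ⟨hu, hv⟩ := (S3510.result g L _).1 hglob (EtCoh.top Y) F hF
    haveI : IsIso (pullback.snd (EtCoh.top Y).hom g) := by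
      show IsIso (pullback.snd (𝟙 Y) g)
      infer_instance
    refine mem_range_of_local g F ξ (pullback.snd (EtCoh.top Y).hom g) (EtAcyc.prj g (EtCoh.top Y))
      (pullback.condition.symm.trans (Category.comp_id _)) m rfl hu (fun j hj => hv (j + 1) (by omega) (by omega)) ?_
    exact exists_local_zero g F ξ L m hglob hloc hF rfl fun y Ω _ _ _ _ => h y Ω

end Groth.Agent.S3476
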