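import Groth.Statements.S6668
import Groth.Agent.BcQCalc.EtaleBC
import Groth.Agent.EtAcycLib.Compose

set_option autoImplicit false
universe u
open CategoryTheory CategoryTheory.Limits AlgebraicGeometry Opposite
open EtBC

namespace Groth.Agent.S6668

open Groth.Agent.BcQCalc

attribute [local instance] Groth.Agent.EtFound.pull_preservesFiniteLimits

set_option backward.isDefEq.respectTransparency.types false

theorem isIso_bcQ_congr {X S X' S' : Scheme.{u}} {f : X ⟶ S} {g₁ g₂ : S' ⟶ S} {f' : X' ⟶ S'}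
    {k₁ k₂ : X' ⟶ X} (hg : g₁ = g₂) (hk : k₁ = k₂) (w₁ : k₁ ≫ f = f' ≫ g₁) (w₂ : k₂ ≫ f = f' ≫ g₂)
    [PreservesFiniteLimits (EtCoh.pull k₁)] [PreservesFiniteLimits (EtCoh.pull k₂)] (F : EtCoh.Ab X) (q : ℕ)
    (hi : IsIso (EtBC.bcQ f g₁ f' k₁ w₁ q F)) : IsIso (EtBC.bcQ f g₂ f' k₂ w₂ q F) := by
  subst hg hk
  exact hi

theorem isIso_of_covers {X : Scheme.{u}} {A B : EtCoh.Ab X} (m : A ⟶ B) {ι : Type u} (U : ι → X.Etale)
    (hU : EtCoh.Covers U) (h : ∀ i, IsIso ((EtCoh.pull (U i).hom).map m)) : IsIso m := by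
  refine (EtFound.isIso_iff_stalks m).2 fun Ω _ _ η => ?_
  obtain ⟨i, x, hx⟩ := hU (η default)
  haveI : AlgebraicGeometry.Etale (U i).hom := (U i).prop
  obtain ⟨η', rfl, -⟩ := Scheme.exists_fac_of_etale_of_isSepClosed (U i).hom η x hx
  haveI := h i
  exact (NatIso.isIso_map_iff (EtFound.stalkPullIso (U i).hom η') m).1
    (inferInstanceAs (IsIso ((EtCoh.stalk η').map ((EtCoh.pull (U i).hom).map m))))

theorem key {X S Y T : Scheme.{u}} (f : X ⟶ S) (g : T ⟶ S) (h : Y ⟶ X) (e : Y ⟶ T)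
    (c : IsPullback e h g f) [PreservesFiniteLimits (EtCoh.pull e)] (F : EtCoh.Ab T) (q : ℕ)
    {ι : Type u} (U : ι → X.Etale) (hU : EtCoh.Covers U) (V : ι → S.Etale)
    (a : ∀ i, (U i).left ⟶ (V i).left) (ha : ∀ i, a i ≫ (V i).hom = (U i).hom ≫ f)
    (Ti Yi : ι → Scheme.{u}) (gi : ∀ i, Ti i ⟶ (V i).left) (ti : ∀ i, Ti i ⟶ T)
    (cT : ∀ i, IsPullback (ti i) (gi i) g (V i).hom)
    (hi : ∀ i, Yi i ⟶ (U i).left) (ei : ∀ i, Yi i ⟶ Ti i) (cY : ∀ i, IsPullback (ei i) (hi i) (gi i) (a i))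
    [∀ i, PreservesFiniteLimits (EtCoh.pull (ei i))]
    (hloc : ∀ i, IsIso (EtBC.bcQ (gi i) (a i) (hi i) (ei i) (cY i).w q ((EtCoh.pull (ti i)).obj F))) :
    IsIso (EtBC.bcQ g f h e c.w q F) := by
  refine isIso_of_covers _ U hU fun i => ?_
  haveI : AlgebraicGeometry.Etale (U i).hom := (U i).prop
  haveI : AlgebraicGeometry.Etale (V i).hom := (V i).prop
  haveI := hloc i
  have c₁ : IsPullback (ei i ≫ ti i) (hi i) g (a i ≫ (V i).hom) := (cY i).paste_horiz (cT i)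
  let u := (U i).hom
  let k : Yi i ⟶ Y := c.lift (ei i ≫ ti i) (hi i ≫ u) (by
    rw [c₁.w, ha i, Category.assoc])
  have hk1 : k ≫ e = ei i ≫ ti i := c.lift_fst _ _ _
  have hk2 : k ≫ h = hi i ≫ u := c.lift_snd _ _ _
  have ck : IsPullback k (hi i) h u := by
    have big : IsPullback (k ≫ e) (hi i) g (u ≫ f) := by
      rw [hk1]; exact c₁.of_iso (Iso.refl _) (Iso.refl _) (Iso.refl _) (Iso.refl _) (by simp) (by simp) (by simp)
        (by simp [u, ha i])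
    exact IsPullback.of_right big hk2 c
  haveI : IsIso (EtBC.bcQ g (V i).hom (gi i) (ti i) (cT i).w q F) :=
    isIso_bcQ_of_etale (V i).hom g (gi i) (ti i) (cT i) F q
  haveI : IsIso (EtBC.bcQ h u (hi i) k ck.w q ((EtCoh.pull e).obj F)) :=
    isIso_bcQ_of_etale u h (hi i) k ck ((EtCoh.pull e).obj F) q
  have hV : IsIso (EtBC.bcQ g (a i ≫ (V i).hom) (hi i) (ei i ≫ ti i) c₁.w q F) := by
    rw [bcQ_vcomp g (V i).hom (gi i) (ti i) (cT i).w (a i) (hi i) (ei i) (cY i).w c₁.w F q]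
    infer_instance
  have w' : (k ≫ e) ≫ g = hi i ≫ u ≫ f := by rw [hk1, c₁.w, ha i]
  have hU' : IsIso (EtBC.bcQ g (u ≫ f) (hi i) (k ≫ e) w' q F) :=
    isIso_bcQ_congr (ha i) hk1.symm c₁.w w' F q hV
  rw [bcQ_vcomp g f h e c.w u (hi i) k ck.w w' F q] at hU'
  haveI h2 := @IsIso.of_isIso_comp_left _ _ _ _ _ _ _ inferInstance hU'
  exact @IsIso.of_isIso_comp_right _ _ _ _ _ _ _ inferInstance h2



/-- Let Y = X ×_S T be a cartesian square of schemes with f : X → S, g : T → S, h : Y → X, e : Y → T,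
let F be an abelian sheaf on the small etale site of T and q ≥ 0. Let (U_i → X) be a jointly
surjective family of etale X-schemes such that every U_i → S factors as a_i : U_i → V_i followed by
an etale V_i → S, and let T_i = V_i ×_S T (projections g_i : T_i → V_i, t_i : T_i → T) and Y_i = U_i
×_{V_i} T_i (projections h_i : Y_i → U_i, e_i : Y_i → T_i). If for every i the degree-q base change
map a_i⁻¹ R^q g_i,_* (t_i⁻¹ F) → R^q h_i,_* e_i⁻¹ (t_i⁻¹ F) is an isomorphism, then the degree-q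
base change map f⁻¹ R^q g_* F → R^q h_* e⁻¹ F is an isomorphism. -/
theorem result {X S Y T : Scheme.{u}} (f : X ⟶ S) (g : T ⟶ S) (h : Y ⟶ X) (e : Y ⟶ T)
    (c : IsPullback e h g f) [PreservesFiniteLimits (EtCoh.pull e)] (F : EtCoh.Ab T) (q : ℕ)
    {ι : Type u} (U : ι → X.Etale) (hU : EtCoh.Covers U) (V : ι → S.Etale)
    (a : ∀ i, (U i).left ⟶ (V i).left) (ha : ∀ i, a i ≫ (V i).hom = (U i).hom ≫ f)
    (Ti Yi : ι → Scheme.{u}) (gi : ∀ i, Ti i ⟶ (V i).left) (ti : ∀ i, Ti i ⟶ T)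
    (cT : ∀ i, IsPullback (ti i) (gi i) g (V i).hom)
    (hi : ∀ i, Yi i ⟶ (U i).left) (ei : ∀ i, Yi i ⟶ Ti i) (cY : ∀ i, IsPullback (ei i) (hi i) (gi i) (a i))
    [∀ i, PreservesFiniteLimits (EtCoh.pull (ei i))]
    (hloc : ∀ i, IsIso (EtBC.bcQ (gi i) (a i) (hi i) (ei i) (cY i).w q ((EtCoh.pull (ti i)).obj F))) :
    IsIso (EtBC.bcQ g f h e c.w q F) := by
  refine Groth.Agent.S6668.key f g h e c F q U hU V a ha Ti Yi gi ti cT hi ei cY hloc

end Groth.Agent.S6668
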