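import Groth.Statements.S3481
import Groth.Agent.AcycFin.NormalBC
import Groth.Agent.AcycFin.ConstLocal
import Groth.Agent.S6668
-- import your own Groth.Agent.* helpers here

set_option autoImplicit false
universe u
open CategoryTheory CategoryTheory.Limits AlgebraicGeometry Opposite
open EtAcyc

namespace Groth.Agent.S3481

set_option backward.isDefEq.respectTransparency false
set_option linter.style.haveILetI false
set_option backward.isDefEq.respectTransparency.types false

open Groth.Agent.AcycFin CategoryTheory.Abelian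

attribute [local instance] EtFound.pull_preservesFiniteLimits

theorem isZero_of_covers {X : Scheme.{u}} {A : EtCoh.Ab X} {ι : Type u} (U : ι → X.Etale)
    (hU : ∀ x : X, ∃ i, x ∈ Set.range (U i).hom.base) (h : ∀ i, Nonempty (U i).left → IsZero ((EtCoh.pull (U i).hom).obj A)) :
    IsZero A := by
  refine (EtFound.isZero_iff_stalks A).2 fun Ω _ _ η => ?_
  obtain ⟨i, x, hx⟩ := hU (η default)
  haveI : AlgebraicGeometry.Etale (U i).hom := (U i).prop
  obtain ⟨η', rfl, -⟩ := Scheme.exists_fac_of_etale_of_isSepClosed (U i).hom η x hx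
  exact ((EtFound.isZero_iff_stalks _).1 (h i ⟨x⟩) Ω η').of_iso ((EtFound.stalkPullIso (U i).hom η').app A).symm

theorem isZero_of_no_prime {X : Scheme.{u}} {F : EtCoh.Ab X} {L : Set ℕ} (hL : ¬ ∃ ℓ ∈ L, ℓ.Prime)
    (hF : EtAcyc.IsLTorsion L F) : IsZero F := by
  refine (EtFound.isZero_iff_stalks F).2 fun Ω _ _ η => ?_
  rw [S8525.result] at hF
  haveI : Subsingleton ((EtCoh.stalk η).obj F) := subsingleton_of_forall_eq 0 fun t => by
    obtain ⟨m, ⟨-, hm⟩, h0⟩ := hF Ω η t
    have h1 : m = 1 := by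
      by_contra h
      obtain ⟨p, hp, hd⟩ := Nat.exists_prime_and_dvd h
      exact hL ⟨p, hm p hp hd, hp⟩
    rw [h1, one_smul] at h0
    exact h0
  exact AddCommGrpCat.isZero_of_subsingleton _

/-- On the étale scheme `a`, the restriction of a locally constant torsion sheaf comes from the generic fibre. -/
theorem unit_Rpush_local {X Y : Scheme.{u}} [IsIntegral Y] (hY : Pi1.IsNormalScheme Y)
    [IsSepClosed (Y.residueField (genericPoint Y))] (f : X ⟶ Y) (L : Set ℕ) (hL : ∃ ℓ ∈ L, ℓ.Prime) (n : ℕ)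
    (hf : EtAcyc.IsLocAcyclicN f L n) (F : EtCoh.Ab X) (hF : EtAcyc.IsLTorsion L F) (U : X.Etale) [Nonempty U.left]
    (M : Type (u + 1)) [AddCommGroup M] (eM : EtCoh.restr F U ≅
      (constantSheaf (X.smallEtaleTopology.over U) AddCommGrpCat.{u + 1}).obj (AddCommGrpCat.of M))
    {P : Scheme.{u}} (h : P ⟶ X) (e : P ⟶ Spec (Y.residueField (genericPoint Y)))
    (c : IsPullback e h (Y.fromSpecResidueField (genericPoint Y)) f) :
    IsIso ((EtCoh.pull U.hom).map ((EtCoh.pullPushAdj h).unit.app F)) ∧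
      ∀ q : ℕ, 1 ≤ q → q ≤ n →
        IsZero ((EtCoh.pull U.hom).obj ((EtCoh.Rpush h q).obj ((EtCoh.pull h).obj F))) := by
  let a := U.hom
  haveI : AlgebraicGeometry.Etale a := U.prop
  haveI : Nonempty ↥((𝟭 Scheme.{u}).obj U.left) := ‹Nonempty U.left›
  let h' := pullback.fst a h
  let g' := pullback.snd a h
  have c' : IsPullback g' h' h a := (IsPullback.of_hasPullback a h).flip
  have hM : EtAcyc.IsLTorsion L ((constantSheaf Y.smallEtaleTopology AddCommGrpCat.{u + 1}).obj (AddCommGrpCat.of M)) := by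
    obtain ⟨iC⟩ := nonempty_pull_iso_const eM
    exact isLTorsion_const_of_primesIn Y _ (primesIn_of_isLTorsion_const _
      (S8536.isLTorsion_of_epi L iC.inv (EtAcycLib.isLTorsion_pull a hF)))
  have hfa : EtAcyc.IsLocAcyclicN (a ≫ f) L n :=
    onStrict_of_weaklyEtale f (a ≫ f) a (𝟙 Y) (Category.comp_id _).symm hf
  obtain ⟨h1, h2⟩ := unit_Rpush_const_generic hY (a ≫ f) L hL n hfa h' (g' ≫ e) (c'.paste_horiz c) _ hM
  obtain ⟨iC⟩ := nonempty_pull_iso_const eM
  let θ : (EtCoh.pull (a ≫ f)).obj ((constantSheaf Y.smallEtaleTopology AddCommGrpCat.{u + 1}).obj (AddCommGrpCat.of M)) ≅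
      (EtCoh.pull a).obj F := (EtCore.pullConstIso (a ≫ f)).app (AddCommGrpCat.of M) ≪≫ iC
  refine ⟨(isIso_map_unit_iff h a h' g' c'.w F (BcQCalc.isIso_baseChange0_of_etale a h h' g' c' _)).2 ?_,
    fun q hq1 hqn => ?_⟩
  · exact (NatTrans.isIso_app_iff_of_iso (EtCoh.pullPushAdj h').unit θ).1 h1
  · exact (isZero_map_Rpush_iff h a h' g' c'.w F q (BcQCalc.isIso_bcQ_of_etale a h h' g' c' _ q)).2
      ((h2 q hq1 hqn).of_iso ((EtCoh.Rpush h' q).mapIso ((EtCoh.pull h').mapIso θ)).symm)

/-- Abelian case: let Y be a normal integral scheme whose generic point y₁ has separably closed residue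
field, f : X → Y a morphism locally n-acyclic for the set of primes L, X₁ = X ×_Y Spec κ(y₁) the
generic fibre with projection g₁ : X₁ → X, and F a locally constant abelian L-torsion sheaf on the
small étale site of X. Then H^q(X, F) → H^q(X₁, g₁⁻¹F) is bijective for q ≤ n and injective for q =
n + 1. (The published text says bijective for q = n; bijectivity holds for every q ≤ n, which is
what is stated. Exactness of the inverse image along g₁ is carried as an instance hypothesis.) -/
theorem result {X Y : Scheme.{u}} [IsIntegral Y]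
    (hY : Pi1.IsNormalScheme Y) [IsSepClosed (Y.residueField (genericPoint Y))]
    (f : X ⟶ Y) (L : Set ℕ) (n : ℕ) (hf : EtAcyc.IsLocAcyclicN f L n)
    (F : EtCoh.Ab X) (hF : EtAcyc.IsLTorsion L F) (hlc : EtRest.IsLocallyConstant F)
    [PreservesFiniteLimits (EtCoh.pull (pullback.fst f (Y.fromSpecResidueField (genericPoint Y))))] :
    (∀ q : ℕ, q ≤ n →
      Function.Bijective (EtCore.Hpull (pullback.fst f (Y.fromSpecResidueField (genericPoint Y))) F q)) ∧
    Function.Injective (EtCore.Hpull (pullback.fst f (Y.fromSpecResidueField (genericPoint Y))) F (n + 1)) := by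
  let η := Y.fromSpecResidueField (genericPoint Y)
  let h := pullback.fst f η
  let e := pullback.snd f η
  have c : IsPullback e h η f := (IsPullback.of_hasPullback f η).flip
  by_cases hL : ∃ ℓ ∈ L, ℓ.Prime
  · obtain ⟨ι, U, hU, hM⟩ := hlc
    have hloc : ∀ i, Nonempty (U i).left → IsIso ((EtCoh.pull (U i).hom).map ((EtCoh.pullPushAdj h).unit.app F)) ∧
        ∀ q : ℕ, 1 ≤ q → q ≤ n →
          IsZero ((EtCoh.pull (U i).hom).obj ((EtCoh.Rpush h q).obj ((EtCoh.pull h).obj F))) := fun i hne => by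
      haveI := hne
      obtain ⟨M, _, ⟨eM⟩⟩ := hM i
      exact unit_Rpush_local hY f L hL n hf F hF (U i) M eM h e c
    let U' : {i // Nonempty (U i).left} → X.Etale := fun i => U i.1
    have hU' : EtCoh.Covers U' := fun x => by
      obtain ⟨i, z, hz⟩ := hU x
      exact ⟨⟨i, ⟨z⟩⟩, z, hz⟩
    haveI hu : IsIso ((EtCoh.pullPushAdj h).unit.app F) := S6668.isIso_of_covers _ U' hU' fun i => (hloc i.1 i.2).1
    have hR : ∀ j, j < n → IsZero ((EtCoh.Rpush h (j + 1)).obj ((EtCoh.pull h).obj F)) := fun j hj =>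
      isZero_of_covers U hU fun i hne => (hloc i hne).2 (j + 1) (by omega) (by omega)
    have hc : ∀ q : ℕ, Function.Bijective (fun x : EtCoh.H X F q =>
        x.comp (Ext.mk₀ ((EtCoh.pullPushAdj h).unit.app F)) (add_zero q)) :=
      fun q => EtAcycLib.bijective_comp_mk₀ (asIso ((EtCoh.pullPushAdj h).unit.app F))
    constructor
    · intro q hq
      rw [show ⇑(EtCore.Hpull h F q) = EtLim.HofPush h _ q ∘
        (fun x : EtCoh.H X F q => x.comp (Ext.mk₀ ((EtCoh.pullPushAdj h).unit.app F)) (add_zero q)) from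
          funext (EtAcycLib.UnitRpush.Hpull_eq_HofPush _ F q)]
      exact (EtAcycLib.UnitRpush.HofPush_bijective _ q _ fun j hj => hR j (by omega)).comp (hc q)
    · rw [show ⇑(EtCore.Hpull h F (n + 1)) = EtLim.HofPush h _ (n + 1) ∘
        (fun x : EtCoh.H X F (n + 1) => x.comp (Ext.mk₀ ((EtCoh.pullPushAdj h).unit.app F)) (add_zero (n + 1))) from
          funext (EtAcycLib.UnitRpush.Hpull_eq_HofPush _ F (n + 1))]
      exact (BcQCalc.HofPush_injective_succ _ n _ hR).comp (hc (n + 1)).1
  · have hz := isZero_of_no_prime hL hF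
    haveI : (EtCoh.pull h).IsLeftAdjoint := (EtCoh.pullPushAdj h).isLeftAdjoint
    have hs : ∀ {Z : Scheme.{u}} {G : EtCoh.Ab Z} (_ : IsZero G) (q : ℕ), Subsingleton (EtCoh.H Z G q) :=
      fun {Z G} hG q => ⟨fun x y => by
        rw [← Ext.comp_mk₀_id x, ← Ext.comp_mk₀_id y, (IsZero.iff_id_eq_zero _).1 hG, Ext.mk₀_zero, Ext.comp_zero,
          Ext.comp_zero]⟩
    have h1 := fun q => hs hz q
    have h2 := fun q => hs ((EtCoh.pull h).map_isZero hz) q
    exact ⟨fun q _ => ⟨fun x y _ => (h1 q).elim x y, fun z => ⟨0, (h2 q).elim _ _⟩⟩,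
      fun x y _ => (h1 (n + 1)).elim x y⟩

end Groth.Agent.S3481
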