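import Groth.Statements.S3483
import Groth.Agent.SerreCd.Poly
import Groth.Agent.SerreCd.Orderable
-- import your own Groth.Agent.* helpers here

set_option autoImplicit false
universe u
open CategoryTheory CategoryTheory.Limits AlgebraicGeometry Opposite
open EtCd


namespace Groth.Agent.S3483

/-- Let k'/k be a finitely generated field extension of transcendence degree t and ℓ a prime different
from the characteristic of k. If cd_ℓ(k') < cd_ℓ(k) + t, that is, if for some d the cohomology of
ℓ-primary torsion sheaves on Spec k' vanishes above degree d while either d < t or cd_ℓ(k) ≤ d - t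
fails, then ℓ = 2, k admits an ordering making it an ordered field, and k' admits none. -/
theorem result (k k' : Type u) [Field k] [Field k'] [Algebra k k']
    (hfg : ∃ s : Finset k', IntermediateField.adjoin k (s : Set k') = ⊤) (ℓ : ℕ) (hℓ : ℓ.Prime) (hℓk : (ℓ : k) ≠ 0)
    (t : ℕ) (ht : Algebra.trdeg k k' = t)
    (hlt : ∃ d : ℕ, Dix.CohDimLEAt (Spec (CommRingCat.of k')) ℓ d ∧
      (d < t ∨ ¬ Dix.CohDimLEAt (Spec (CommRingCat.of k)) ℓ (d - t))) :
    ℓ = 2 ∧ (∃ _ : LinearOrder k, IsStrictOrderedRing k) ∧ ¬ (∃ _ : LinearOrder k', IsStrictOrderedRing k') := by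
  obtain ⟨d, hd, hlt⟩ := hlt
  have hVd := FieldCd.vanAbove_of_cohDimLEAt hd
  have hno : ¬ SerreCd.Hord ℓ k := fun hord => by
    obtain ⟨h1, h2⟩ := SerreCd.vd_lower_fg k k' hfg hℓ hℓk hord t ht hVd
    exact hlt.elim (fun h => not_lt.2 h1 h) (fun h => h (FieldCd.cohDimLEAt_of_vanAbove hℓ h2))
  have hl2 : ℓ = 2 := by
    by_contra h
    exact hno fun h' => absurd h' h
  have hk : ¬ IsSumSq (-1 : k) := fun h => hno fun _ F _ f => by
    have := SerreCd.isSumSq_map f h
    rwa [map_neg, map_one] at this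
  refine ⟨hl2, SerreCd.exists_linearOrder hk, fun ⟨o, ho⟩ => ?_⟩
  letI := o
  haveI := ho
  exact SerreCd.not_vd_of_semireal k' d (hl2 ▸ hVd)

end Groth.Agent.S3483
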