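import Groth.Statements.S3485
import Groth.Agent.H9Elkik.FEtEquiv
import Groth.Agent.H9Elkik.Completion
import Groth.Agent.S0549
import Groth.Agent.GenIsoRed.Main
-- import your own Groth.Agent.* helpers here

set_option autoImplicit false
universe u
open CategoryTheory CategoryTheory.Limits AlgebraicGeometry Opposite
open EtCd


namespace Groth.Agent.S3485

/-- Let R be a henselian discrete valuation ring with fraction field K, let R^ be its completion (adic
completion at the maximal ideal) and K^ the fraction field of R^. Then base change along Spec K^ →
Spec K is an equivalence from the category of finite etale schemes over Spec K to that over Spec K^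
(equivalently the absolute Galois groups agree). -/
theorem result (R K Khat : Type u) [CommRing R] [IsDomain R]
    [IsDiscreteValuationRing R] [HenselianLocalRing R] [Field K] [Algebra R K] [IsFractionRing R K]
    [Field Khat] [Algebra (AdicCompletion (IsLocalRing.maximalIdeal R) R) Khat]
    [IsFractionRing (AdicCompletion (IsLocalRing.maximalIdeal R) R) Khat]
    [Algebra R Khat] [IsScalarTower R (AdicCompletion (IsLocalRing.maximalIdeal R) R) Khat]
    [Algebra K Khat] [IsScalarTower R K Khat] :
    (FEt.restrict (Spec.map (CommRingCat.ofHom (algebraMap K Khat)))).IsEquivalence := by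
  obtain ⟨hdom, hdvr⟩ := (Groth.Agent.S0549.result R).mp ⟨inferInstance, inferInstance⟩
  obtain ⟨t, ht⟩ := IsDiscreteValuationRing.exists_irreducible R
  have hm := (IsDiscreteValuationRing.irreducible_iff_uniformizer t).mp ht
  let t' : AdicCompletion (IsLocalRing.maximalIdeal R) R := algebraMap R _ t
  have hmax : IsLocalRing.maximalIdeal (AdicCompletion (IsLocalRing.maximalIdeal R) R) = Ideal.span {t'} := by
    refine AdicCompletion.maximalIdeal_eq_map.trans ((congrArg (Ideal.map (algebraMap R _)) hm).trans ?_)
    rw [Ideal.map_span, Set.image_singleton]
  have ht' : Irreducible t' := (IsDiscreteValuationRing.irreducible_iff_uniformizer t').mpr hmax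
  haveI : HenselianRing R (Ideal.span {t}) := by
    have h : HenselianRing R (IsLocalRing.maximalIdeal R) := inferInstance
    rwa [hm] at h
  haveI : HenselianRing (AdicCompletion (IsLocalRing.maximalIdeal R) R) (Ideal.span {t'}) := by
    have h : HenselianRing (AdicCompletion (IsLocalRing.maximalIdeal R) R)
        (IsLocalRing.maximalIdeal (AdicCompletion (IsLocalRing.maximalIdeal R) R)) := inferInstance
    rwa [hmax] at h
  haveI : IsLocalization.Away t K := by
    haveI := Groth.Agent.GenIsoRed.isAway t ht
    exact IsLocalization.isLocalization_of_algEquiv (Submonoid.powers t)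
      (FractionRing.algEquiv R K)
  haveI : IsLocalization.Away t' Khat := by
    haveI := Groth.Agent.GenIsoRed.isAway t' ht'
    exact IsLocalization.isLocalization_of_algEquiv (Submonoid.powers t')
      (FractionRing.algEquiv (AdicCompletion (IsLocalRing.maximalIdeal R) R) Khat)
  refine Groth.Agent.H9Elkik.isEquivalence_fet (A := R) (A' := AdicCompletion (IsLocalRing.maximalIdeal R) R)
    (At := K) (A't := Khat) (t := t) ?_
  have key : ∀ (I : Ideal R), I = Ideal.span {t} →
      Groth.Agent.H9Elkik.Approx t (algebraMap R (AdicCompletion I R)) := by
    rintro I rfl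
    exact ⟨Groth.Agent.H9Elkik.completion_inj R t, Groth.Agent.H9Elkik.completion_surj R t⟩
  exact key _ hm

end Groth.Agent.S3485
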