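import Groth.Statements.S3486
import Groth.Agent.SerreCd.Normalization
-- import your own Groth.Agent.* helpers here

set_option autoImplicit false
universe u
open CategoryTheory CategoryTheory.Limits AlgebraicGeometry Opposite
open EtCd


namespace Groth.Agent.S3486

/-- Let A be a Noetherian henselian local ring of dimension 1 with residue field k, and ℓ a prime
invertible in A. The ring of rational functions of Spec A is the product of the local rings at the
minimal primes P, whose ℓ-cohomological dimension is that of the fields Frac(A/P); the result: for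
every minimal prime P, cd_ℓ(Frac(A/P)) ≤ cd_ℓ(k) + 1, and if ℓ ≠ 2 or k is not orderable then
cd_ℓ(Frac(A/P)) = cd_ℓ(k) + 1 exactly. -/
theorem result (A : Type u) [CommRing A] [IsNoetherianRing A] [HenselianLocalRing A]
    (hdim : ringKrullDim A = 1) (ℓ : ℕ) (hℓ : ℓ.Prime) (hℓA : IsUnit (ℓ : A))
    (P : Ideal A) (hP : P ∈ minimalPrimes A) :
    (∀ d : ℕ, Dix.CohDimLEAt (Spec (CommRingCat.of (IsLocalRing.ResidueField A))) ℓ d →
        Dix.CohDimLEAt (Spec (CommRingCat.of (FractionRing (A ⧸ P)))) ℓ (d + 1)) ∧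
    ((ℓ ≠ 2 ∨ ¬ ∃ _ : LinearOrder (IsLocalRing.ResidueField A), IsStrictOrderedRing (IsLocalRing.ResidueField A)) →
      (∀ d : ℕ, Dix.CohDimLEAt (Spec (CommRingCat.of (IsLocalRing.ResidueField A))) ℓ d ↔
          Dix.CohDimLEAt (Spec (CommRingCat.of (FractionRing (A ⧸ P)))) ℓ (d + 1)) ∧
        ¬ Dix.CohDimLEAt (Spec (CommRingCat.of (FractionRing (A ⧸ P)))) ℓ 0) := by
  refine ⟨fun d h => ?_, fun hord => ?_⟩
  · haveI := hP.1.1
    exact FieldCd.cohDimLEAt_of_vanAbove hℓ (EtDvrCd.vd_fraction_upper A hdim.le hℓ hℓA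
      (FieldCd.vanAbove_of_cohDimLEAt h) P)
  haveI := hP.1.1
  haveI : HenselianLocalRing (A ⧸ P) :=
    AnLocal.henselianLocalRing_of_surjective' (Ideal.Quotient.mk P) Ideal.Quotient.mk_surjective
  haveI : IsLocalHom (Ideal.Quotient.mk P) := IsLocalHom.of_surjective _ Ideal.Quotient.mk_surjective
  let ε : IsLocalRing.ResidueField A ≃+* IsLocalRing.ResidueField (A ⧸ P) :=
    RingEquiv.ofBijective (IsLocalRing.ResidueField.map (Ideal.Quotient.mk P))
      ⟨RingHom.injective _, fun z => by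
        obtain ⟨a, rfl⟩ := IsLocalRing.residue_surjective z
        obtain ⟨b, rfl⟩ := Ideal.Quotient.mk_surjective a
        exact ⟨IsLocalRing.residue A b, IsLocalRing.ResidueField.map_residue _ b⟩⟩
  have hB := SerreCd.ringKrullDim_quotient_minimal hdim hP
  have hℓB : IsUnit (ℓ : A ⧸ P) := by simpa using hℓA.map (Ideal.Quotient.mk P)
  have hord' : ℓ ≠ 2 ∨ ¬ ∃ _ : LinearOrder (IsLocalRing.ResidueField (A ⧸ P)),
      IsStrictOrderedRing (IsLocalRing.ResidueField (A ⧸ P)) := hord.imp id fun hno ⟨o, ho⟩ => hno <| by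
    letI := o
    haveI := ho
    letI : LinearOrder (IsLocalRing.ResidueField A) := LinearOrder.lift' ε ε.injective
    exact ⟨inferInstance, Function.Injective.isStrictOrderedRing ε (map_zero _) (map_one _) (map_add _) (map_mul _)
      Iff.rfl Iff.rfl⟩
  have hℓK : (ℓ : FractionRing (A ⧸ P)) ≠ 0 := by
    simpa using (hℓB.map (algebraMap (A ⧸ P) (FractionRing (A ⧸ P)))).ne_zero
  refine ⟨fun d => ⟨fun h => FieldCd.cohDimLEAt_of_vanAbove hℓ (EtDvrCd.vd_fraction_upper A hdim.le hℓ hℓA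
      (FieldCd.vanAbove_of_cohDimLEAt h) P), fun h => ?_⟩,
    fun h => SerreCd.not_vd_zero_frac (A ⧸ P) (FractionRing (A ⧸ P)) hB hℓ hℓK (FieldCd.vanAbove_of_cohDimLEAt h)⟩
  letI : Algebra (IsLocalRing.ResidueField (A ⧸ P)) (IsLocalRing.ResidueField A) := ε.symm.toRingHom.toAlgebra
  exact FieldCd.cohDimLEAt_of_vanAbove hℓ (FieldCd.vd_of_ringEquiv ε.symm
    (SerreCd.vd_residue_of_frac (A ⧸ P) (FractionRing (A ⧸ P)) hB hℓ hℓB hord' (FieldCd.vanAbove_of_cohDimLEAt h)))

end Groth.Agent.S3486
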