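import Groth.Statements.S3488
import Groth.Agent.SerreCd.Dim
-- import your own Groth.Agent.* helpers here

set_option autoImplicit false
universe u
open CategoryTheory CategoryTheory.Limits AlgebraicGeometry Opposite
open EtCd


namespace Groth.Agent.S3488

/-- Let X be a Noetherian scheme and ℓ a prime invertible on X. Then cd_ℓ(R(X)) ≥ dim X, where R(X) is
the ring of rational functions (the product of the local rings at the maximal points): if for some d
the cohomology of ℓ-primary torsion sheaves on Spec κ(x) vanishes above degree d for every maximal
point x of X (generic point of an irreducible component), then dim X ≤ d. -/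
theorem result (X : Scheme.{u}) [IsNoetherian X] (ℓ : ℕ) (hℓ : ℓ.Prime)
    (hℓX : Dix.InvertibleOn X ℓ) (d : ℕ)
    (hd : ∀ x : X, closure {x} ∈ irreducibleComponents (X : Type u) →
      Dix.CohDimLEAt (Spec (X.residueField x)) ℓ d) :
    topologicalKrullDim X ≤ d := by
  refine SerreCd.topologicalKrullDim_le X hℓ (fun y => ?_) fun x hx => FieldCd.vanAbove_of_cohDimLEAt (hd x hx)
  refine (IsLocalRing.residue_ne_zero_iff_isUnit _).1 ?_
  rw [map_natCast]
  exact hℓX y

end Groth.Agent.S3488
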