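import Groth.Statements.S3489
import Groth.Agent.SerreCd.Dim
import Groth.Agent.FieldCd.FiniteType
import Groth.Agent.S0540
import Groth.Agent.S0541
import Groth.Agent.VarDim.Local
-- import your own Groth.Agent.* helpers here

set_option autoImplicit false
universe u
open CategoryTheory CategoryTheory.Limits AlgebraicGeometry Opposite
open EtCd


namespace Groth.Agent.S3489

/-- Let X be a scheme of finite type over a field k, ℓ a prime nonzero in k, x a point of X and A a
strict henselization of the local ring of X at x. Then cd_ℓ(R(A)) = dim A, where R(A) is the product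
of the local rings of A at its minimal primes: for every d, the cohomology of ℓ-primary torsion
sheaves on Spec Frac(A/P) vanishes above degree d for all minimal primes P of A if and only if dim A
≤ d. -/
theorem result (k : Type u) [Field k] (X : Scheme.{u})
    (f : X ⟶ Spec (CommRingCat.of k)) [LocallyOfFiniteType f] [QuasiCompact f] (ℓ : ℕ) (hℓ : ℓ.Prime) (hℓk : (ℓ : k) ≠ 0)
    (x : X) (R : Type u) [CommRing R] [IsLocalRing R] [Algebra (X.presheaf.stalk x) R]
      [IsLocalHom (algebraMap (X.presheaf.stalk x) R)] [Hensel.IsStrictHenselization (X.presheaf.stalk x) R] (d : ℕ) :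
    (∀ P ∈ minimalPrimes R, Dix.CohDimLEAt (Spec (CommRingCat.of (FractionRing (R ⧸ P)))) ℓ d) ↔
      ringKrullDim R ≤ d := by
  haveI : IsLocallyNoetherian X := LocallyOfFiniteType.isLocallyNoetherian f
  let O := X.presheaf.stalk x
  haveI : IsNoetherianRing R := (Groth.Agent.S0540.result O R).1 inferInstance
  have hℓO : IsUnit (ℓ : O) := by
    let kO : k →+* O := (X.presheaf.germ ⊤ x trivial).hom.comp (VarDim.baseMap f)
    simpa using (IsUnit.mk0 _ hℓk).map kO
  have hℓR : IsUnit (ℓ : R) := by simpa using hℓO.map (algebraMap O R)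
  constructor
  · intro h
    obtain ⟨b, hb, -, -⟩ := VarDim.exists_deg_add_stalk f x
    have hR : ringKrullDim R = b := (Groth.Agent.S0541.result O R).trans hb
    obtain ⟨s, hs⟩ := Order.le_krullDim_iff.1 (show (b : WithBot ℕ∞) ≤ Order.krullDim (PrimeSpectrum R) from hR.ge)
    obtain ⟨P, hP, hPle⟩ := Ideal.exists_minimalPrimes_le (I := (⊥ : Ideal R)) (J := (s.head).asIdeal) bot_le
    haveI := hP.1.1
    haveI : IsLocalRing (R ⧸ P) := .of_surjective' (Ideal.Quotient.mk P) Ideal.Quotient.mk_surjective
    have hle : ∀ i, P ≤ (s i).asIdeal := fun i => hPle.trans (s.head_le i)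
    let t : LTSeries (PrimeSpectrum (R ⧸ P)) := LTSeries.mk s.length
      (fun i => ⟨(s i).asIdeal.map (Ideal.Quotient.mk P),
        Ideal.map_isPrime_of_surjective Ideal.Quotient.mk_surjective (by rw [Ideal.mk_ker]; exact hle i)⟩)
      (fun i j hij => by
        have hlt := (PrimeSpectrum.asIdeal_lt_asIdeal _ _).2 (s.strictMono hij)
        refine lt_of_le_of_ne (Ideal.map_mono hlt.le) fun he => hlt.ne ?_
        have he' := congrArg (Ideal.comap (Ideal.Quotient.mk P)) (congrArg PrimeSpectrum.asIdeal he)
        simpa [Ideal.comap_map_of_surjective _ Ideal.Quotient.mk_surjective, ← RingHom.ker_eq_comap_bot,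
          Ideal.mk_ker, sup_eq_left.2 (hle i), sup_eq_left.2 (hle j)] using he')
    have hdim : (b : WithBot ℕ∞) ≤ ringKrullDim (R ⧸ P) := by
      rw [← hs]
      exact Order.LTSeries.length_le_krullDim t
    have := SerreCd.dim_le_domain (R ⧸ P) hℓ (by simpa using hℓR.map (Ideal.Quotient.mk P)) b hdim
      (FieldCd.vanAbove_of_cohDimLEAt (h P hP))
    rw [hR]
    exact_mod_cast this
  · intro h P hP
    haveI := hP.1.1
    refine FieldCd.cohDimLEAt_of_vanAbove hℓ ?_
    let Q : PrimeSpectrum O := ⟨P.comap (algebraMap O R), inferInstance⟩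
    let z := X.fromSpecStalk x Q
    have hzx : z ⤳ x := CDiv6.fromSpecStalk_specializes Q
    have hker : RingHom.ker (Cyc.specMap x z hzx) = P.comap (algebraMap O R) := by
      rw [CycLib.ker_specMap]
      exact congrArg PrimeSpectrum.asIdeal (CDiv6.primeOf_fromSpecStalk Q)
    have hP' : P ∈ ((RingHom.ker (Cyc.specMap x z hzx)).map (algebraMap O R)).minimalPrimes := by
      rw [hker]
      exact ⟨⟨hP.1.1, Ideal.map_comap_le⟩, fun J hJ hJP => hP.2 ⟨hJ.1, bot_le⟩ hJP⟩
    obtain ⟨b, hb, -, hdeg⟩ := VarDim.exists_deg_add_stalk f x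
    have hR : ringKrullDim R = b := (Groth.Agent.S0541.result O R).trans hb
    rw [hR] at h
    have hbd : b ≤ d := by exact_mod_cast h
    have := hdeg z hzx
    exact FieldCd.vd_mono (by omega) (FieldCd.vd_frac_trdeg f hℓ hzx R P hP')

end Groth.Agent.S3489
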