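import Groth.Statements.S3490
import Groth.Agent.SerreCd.StrictLocBase
import Groth.Agent.FlatLoc6.RegCM
-- import your own Groth.Agent.* helpers here

set_option autoImplicit false
universe u
open CategoryTheory CategoryTheory.Limits AlgebraicGeometry Opposite
open EtCd


namespace Groth.Agent.S3490

/-- Case of a discrete valuation ring as base: let V be a discrete valuation ring, X a scheme of finite
type over Spec V, ℓ a prime invertible in V, x a point of X and A a strict henselization of the
local ring of X at x. Then cd_ℓ(R(A)) = dim A in the sense of the field case: for every d, the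
cohomology of ℓ-primary torsion sheaves on Spec Frac(A/P) vanishes above degree d for all minimal
primes P of A if and only if dim A ≤ d. -/
theorem result (V : Type u) [CommRing V] [IsDomain V] [IsDiscreteValuationRing V]
    (X : Scheme.{u}) (f : X ⟶ Spec (CommRingCat.of V)) [LocallyOfFiniteType f] [QuasiCompact f]
    (ℓ : ℕ) (hℓ : ℓ.Prime) (hℓV : IsUnit (ℓ : V))
    (x : X) (R : Type u) [CommRing R] [IsLocalRing R] [Algebra (X.presheaf.stalk x) R]
      [IsLocalHom (algebraMap (X.presheaf.stalk x) R)] [Hensel.IsStrictHenselization (X.presheaf.stalk x) R] (d : ℕ) :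
    (∀ P ∈ minimalPrimes R, Dix.CohDimLEAt (Spec (CommRingCat.of (FractionRing (R ⧸ P)))) ℓ d) ↔
      ringKrullDim R ≤ d := by
  let y := f x
  letI : Algebra V ((Spec (CommRingCat.of V)).presheaf.stalk y) := StructureSheaf.stalkAlgebra V y
  haveI : IsLocalization.AtPrime ((Spec (CommRingCat.of V)).presheaf.stalk y) y.asIdeal :=
    StructureSheaf.IsLocalization.to_stalk V y
  haveI : IsPrincipalIdealRing ((Spec (CommRingCat.of V)).presheaf.stalk y) := ⟨fun J => by
    obtain ⟨a, ha⟩ := Submodule.IsPrincipal.principal (S := J.comap (algebraMap V ((Spec (CommRingCat.of V)).presheaf.stalk y)))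
    refine ⟨⟨algebraMap V ((Spec (CommRingCat.of V)).presheaf.stalk y) a, ?_⟩⟩
    refine (IsLocalization.map_comap y.asIdeal.primeCompl ((Spec (CommRingCat.of V)).presheaf.stalk y) J).symm.trans ?_
    refine (congrArg (Ideal.map (algebraMap V ((Spec (CommRingCat.of V)).presheaf.stalk y))) ha).trans ?_
    rw [Ideal.submodule_span_eq, Ideal.map_span, Set.image_singleton]⟩
  haveI : IsRegularRing V := inferInstance
  haveI := FlatLoc6.isCM_of_isRegularRing V
  have hcat : CAlg.IsUniversallyCatenary ((Spec (CommRingCat.of V)).presheaf.stalk y) :=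
    DimFormula.isUniversallyCatenary_localization (Groth.Agent.S0603.result V) y.asIdeal.primeCompl _
  have hdim : ringKrullDim ((Spec (CommRingCat.of V)).presheaf.stalk y) ≤ 1 := by
    rw [IsLocalization.AtPrime.ringKrullDim_eq_height y.asIdeal ((Spec (CommRingCat.of V)).presheaf.stalk y)]
    refine (Ideal.height_le_ringKrullDim_of_ne_top y.isPrime.ne_top).trans ?_
    exact le_of_eq (IsPrincipalIdealRing.ringKrullDim_eq_one V (IsDiscreteValuationRing.not_isField V))
  exact SerreCd.cd_strictLocalization f x hcat hdim hℓ
    (by simpa using hℓV.map (algebraMap V ((Spec (CommRingCat.of V)).presheaf.stalk y))) R d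

end Groth.Agent.S3490
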