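import Groth.Statements.S3507
import Groth.Agent.SmoothLA.Henselized
import Groth.Agent.Hensel.HenselizationProps
import Groth.Agent.WLocalLib.WEtale
import Groth.Agent.S12236

set_option autoImplicit false
universe u
open CategoryTheory CategoryTheory.Limits AlgebraicGeometry Opposite
open EtAcyc

namespace Groth.Agent.S3507

/-- Let A be a henselian local ring with residue characteristic p, let P be the ideal of A[t] generated
by the maximal ideal of A and t, and let B = A{t} be a henselization of the local ring A[t]_P. Then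
every geometric fibre of Spec A{t} → Spec A (at any separably closed field over a residue field of
Spec A) is an n-acyclic scheme for every n and for the set L of primes different from p: it is
nonempty, connected, and H^q(-, Z/ℓ) = 0 for all ℓ ∈ L and q ≥ 1. -/
theorem result (A : Type u) [CommRing A] [HenselianLocalRing A]
    (P : Ideal (Polynomial A)) (hP : P = (IsLocalRing.maximalIdeal A).map Polynomial.C ⊔ Ideal.span {Polynomial.X})
    [P.IsPrime] (B : Type u) [CommRing B] [IsLocalRing B] [Algebra (Localization.AtPrime P) B]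
    [IsLocalHom (algebraMap (Localization.AtPrime P) B)] [Hensel.IsHenselization (Localization.AtPrime P) B]
    (φ : A →+* B) (hφ : φ = (algebraMap (Localization.AtPrime P) B).comp
      ((algebraMap (Polynomial A) (Localization.AtPrime P)).comp Polynomial.C)) (n : ℕ)
    (y : Spec (CommRingCat.of A)) (Ω : Type u) [Field Ω] [IsSepClosed Ω]
    [Algebra ((Spec (CommRingCat.of A)).residueField y) Ω] :
    EtAcyc.IsAcyclicSchemeN {ℓ | ℓ.Prime ∧ (ℓ : IsLocalRing.ResidueField A) ≠ 0} n
      (pullback (Spec.map (CommRingCat.ofHom φ)) (EtAcyc.geomPt (Spec (CommRingCat.of A)) y Ω)) := by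
  subst hφ
  haveI : HenselianLocalRing B := Hensel.IsHenselization.henselian (R := Localization.AtPrime P)
  let L := Localization.AtPrime P
  letI : Algebra (Polynomial A) B := ((algebraMap L B).comp (algebraMap (Polynomial A) L)).toAlgebra
  letI : Algebra A B := ((algebraMap L B).comp ((algebraMap (Polynomial A) L).comp Polynomial.C)).toAlgebra
  haveI : IsScalarTower A (Polynomial A) B := .of_algebraMap_eq' (RingHom.comp_assoc _ _ _).symm
  haveI : IsScalarTower (Polynomial A) L B := .of_algebraMap_eq' rfl
  haveI : Algebra.WeaklyEtale (Polynomial A) L := WLocalLib.weaklyEtale_localization P.primeCompl L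
  haveI : Algebra.WeaklyEtale L B := S0736.result _ _ (S12236.result L B)
  haveI : Algebra.WeaklyEtale (Polynomial A) B := Algebra.WeaklyEtale.trans (Polynomial A) L B
  have hXP : Polynomial.X ∈ P := hP.ge (Ideal.mem_sup_right (Ideal.subset_span rfl))
  have hmP : ∀ a ∈ IsLocalRing.maximalIdeal A, Polynomial.C a ∈ P := fun a ha =>
    hP.ge (Ideal.mem_sup_left (Ideal.mem_map_of_mem _ ha))
  have hPmem : ∀ f : Polynomial A, f ∈ P ↔ f.coeff 0 ∈ IsLocalRing.maximalIdeal A := fun f => by
    have hf : f = Polynomial.C (f.coeff 0) + Polynomial.X * f.divX := by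
      rw [add_comm, Polynomial.X_mul_divX_add]
    refine ⟨fun hfP => ?_, fun hf0 => ?_⟩
    · by_contra hu
      have hC : Polynomial.C (f.coeff 0) ∈ P := by
        have := sub_mem hfP (P.mul_mem_right f.divX hXP)
        rwa [eq_sub_of_add_eq hf.symm]
      exact ‹P.IsPrime›.ne_top (Ideal.eq_top_of_isUnit_mem _ hC
        ((IsLocalRing.notMem_maximalIdeal.1 hu).map Polynomial.C))
    · rw [hf]
      exact add_mem (hmP _ hf0) (P.mul_mem_right _ hXP)
  haveI : IsLocalHom (algebraMap A B) := ⟨fun a ha => by
    by_contra hn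
    have hu : IsUnit (algebraMap (Polynomial A) L (Polynomial.C a)) := (isUnit_map_iff (algebraMap L B) _).1 ha
    exact (IsLocalization.AtPrime.isUnit_to_map_iff L P _).1 hu (hmP a hn)⟩
  have hres : ∀ b : B, ∃ a : A, b - algebraMap A B a ∈ IsLocalRing.maximalIdeal B := fun b => by
    obtain ⟨z, hz⟩ := (Hensel.bijective_residueFieldMap_of_isHenselization L B).2 (IsLocalRing.residue B b)
    obtain ⟨z, rfl⟩ := IsLocalRing.residue_surjective z
    rw [IsLocalRing.ResidueField.map_residue, eq_comm, ← sub_eq_zero, ← map_sub,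
      IsLocalRing.residue_eq_zero_iff] at hz
    obtain ⟨f, s, rfl⟩ := IsLocalization.exists_mk'_eq P.primeCompl z
    obtain ⟨w, hw⟩ := IsLocalRing.notMem_maximalIdeal.1 fun h => s.2 ((hPmem _).2 h)
    refine ⟨f.coeff 0 * ↑w⁻¹, ?_⟩
    have hmem : f - Polynomial.C (f.coeff 0 * ↑w⁻¹) * (s : Polynomial A) ∈ P := by
      rw [hPmem, Polynomial.coeff_sub, Polynomial.coeff_C_mul, ← hw, Units.inv_mul_cancel_right, sub_self]
      exact zero_mem _
    have h1 : IsLocalization.mk' L f s - algebraMap (Polynomial A) L (Polynomial.C (f.coeff 0 * ↑w⁻¹)) ∈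
        IsLocalRing.maximalIdeal L := by
      have e : IsLocalization.mk' L f s - algebraMap (Polynomial A) L (Polynomial.C (f.coeff 0 * ↑w⁻¹)) =
          IsLocalization.mk' L (f - Polynomial.C (f.coeff 0 * ↑w⁻¹) * (s : Polynomial A)) s := by
        rw [eq_comm, IsLocalization.mk'_eq_iff_eq_mul, sub_mul, IsLocalization.mk'_spec, map_sub, map_mul]
      rw [e, IsLocalization.AtPrime.mk'_mem_maximal_iff L P]
      exact hmem
    have h2 : algebraMap L B (IsLocalization.mk' L f s -
        algebraMap (Polynomial A) L (Polynomial.C (f.coeff 0 * ↑w⁻¹))) ∈ IsLocalRing.maximalIdeal B :=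
      fun hu => h1 ((isUnit_map_iff (algebraMap L B) _).1 hu)
    rw [map_sub] at h2
    have := add_mem hz h2
    rwa [sub_add_sub_cancel] at this
  exact SmoothLA.isAcyclicScheme_fibre_henselized A B hres _
    (fun ℓ hℓ _ => (IsLocalRing.residue_ne_zero_iff_isUnit _).1 (by rw [map_natCast]; exact hℓ.2)) n Ω
    (EtAcyc.geomPt (Spec (CommRingCat.of A)) y Ω)

end Groth.Agent.S3507
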