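import Groth.Statements.S3509
import Groth.Agent.SerreCd.GenericBound
-- import your own Groth.Agent.* helpers here

set_option autoImplicit false
universe u
open CategoryTheory CategoryTheory.Limits AlgebraicGeometry Opposite
open EtCd


namespace Groth.Agent.S3509

/-- Let X be a Noetherian scheme of dimension at most m and ℓ a prime invertible on X; assume that for
all points x, y with y in the closure of x, every strict henselization R of the local ring at y and
every prime P of R minimal over p_x R one has cd_ℓ(Frac(R/P)) ≤ dim(R/p_x R), and that ℓ ≠ 2 or no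
residue field of X is orderable. Then cd_ℓ(X) ≤ cd_ℓ(R(X)) + dim X: if cd_ℓ(κ(η)) ≤ c for every
maximal point η of X, then the etale cohomology of every ℓ-primary torsion abelian sheaf on X
vanishes above degree c + m. -/
theorem result (X : Scheme.{u}) [IsNoetherian X] (m : ℕ) (hm : topologicalKrullDim X ≤ m)
    (ℓ : ℕ) (hℓ : ℓ.Prime) (hℓX : Dix.InvertibleOn X ℓ)
    (h2 : ∀ (x y : X) (hxy : x ⤳ y), ∀ (R : Type u) [CommRing R] [IsLocalRing R] [Algebra (X.presheaf.stalk y) R]
    [IsLocalHom (algebraMap (X.presheaf.stalk y) R)] [Hensel.IsStrictHenselization (X.presheaf.stalk y) R],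
      ∀ P ∈ ((RingHom.ker (Cyc.specMap y x hxy)).map (algebraMap (X.presheaf.stalk y) R)).minimalPrimes,
        ∀ e : ℕ, ringKrullDim (R ⧸ (RingHom.ker (Cyc.specMap y x hxy)).map (algebraMap (X.presheaf.stalk y) R)) = e →
          Dix.CohDimLEAt (Spec (CommRingCat.of (FractionRing (R ⧸ P)))) ℓ e)
    (hord : ℓ ≠ 2 ∨ ∀ x : X, ¬ ∃ _ : LinearOrder (X.residueField x), IsStrictOrderedRing (X.residueField x))
    (c : ℕ) (hc : ∀ x : X, closure {x} ∈ irreducibleComponents (X : Type u) →
      Dix.CohDimLEAt (Spec (X.residueField x)) ℓ c) :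
    Dix.CohDimLEAt X ℓ (c + m) := by
  classical
  have hℓy : ∀ y : X, IsUnit (ℓ : X.presheaf.stalk y) := fun y => by
    refine (IsLocalRing.residue_ne_zero_iff_isUnit _).1 ?_
    rw [map_natCast]
    exact hℓX y
  choose h hh using fun y : X => EtCdFun.exists_dim_stalk y
  have hb := fun x : X => SerreCd.vd_residueField_bound X hℓ hℓy (SerreCd.hord_stalk X hord)
    (fun x hx => FieldCd.vanAbove_of_cohDimLEAt (hc x hx)) x (hh x)
  have hhm : ∀ x : X, h x ≤ m := fun x => SerreCd.dim_stalk_le X hm (hh x)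
  intro F hF q hq
  refine EtCdFun.main ℓ hℓ (fun x => c + m - 2 * h x) (fun x => ?_) ?_ (c + m + 1) F hF (fun x _ => ?_) q (fun x _ => ?_)
  · refine FieldCd.cohDimLEAt_of_vanAbove hℓ (FieldCd.vd_mono ?_ (hb x).2)
    have := (hb x).1
    have := hhm x
    omega
  · intro x y hxy hne R _ _ _ _ _ P hP
    obtain ⟨e, he, hle⟩ := EtCdFun.exists_dim_quot hxy hne (hh x) (hh y) R
    refine ⟨e, ?_, h2 x y hxy R P hP e he⟩
    show e + 1 + (c + m - 2 * h y) ≤ c + m - 2 * h x
    have := (hb y).1
    have := hhm y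
    omega
  · omega
  · omega

end Groth.Agent.S3509
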