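import Groth.Statements.S3540
import Groth.Agent.CechSSFilt.Top
import Mathlib.Algebra.Homology.DerivedCategory.DerivabilityStructureInjectives
-- import your own Groth.Agent.* helpers here

set_option autoImplicit false
universe u
open CechTot

namespace Groth.Agent.S3540

open CategoryTheory CategoryTheory.Limits TopologicalSpace in
/-- For abelian sheaves and a complex bounded below (the biregular case), stated through the finite
filtration the spectral sequence induces on its abutment and its edge (the source's graded pieces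
are the E∞ terms, which is stronger). Let U = (U_i) be an open cover of X and K a complex of abelian
sheaves with K^i = 0 for i < a. For q ∈ ℤ let h^q(K) be the presheaf V ↦ H^q(V, K) of
hypercohomology groups and Ȟ^p(U, h^q(K)) its Čech cohomology for the cover. Then for every n the
group H^n(X, K) carries a decreasing sequence of subgroups G_0 ≥ G_1 ≥ … with G_0 everything, G_1
the kernel of the restriction map H^n(X, K) → ∏_i H^n(U_i, K), and G_N = 0 for some N, such that
every quotient G_p/G_{p+1} is isomorphic to a subquotient of Ȟ^p(U, h^{n-p}(K)). -/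
theorem result {X : TopCat.{u}}
    [HasDerivedCategory.{u} (CohTop.Ab X)] {ι : Type u} (U : ι → Opens X) (hcov : iSup U = ⊤)
    (K : CochainComplex (CohTop.Ab X) ℤ) (a : ℤ) (ha : ∀ i : ℤ, i < a → IsZero (K.X i)) (n : ℤ) :
    ∃ (N : ℕ) (G : ℕ → Submodule ℤ (CohCx.HDU (DerivedCategory.Q.obj K) n (⊤ : Opens X))),
      Antitone G ∧ G 0 = ⊤ ∧ G N = ⊥ ∧
      G 1 = ⨅ i, AddSubgroup.toIntSubmodule
        (CohCx.HDUres (DerivedCategory.Q.obj K) n (homOfLE le_top : U i ⟶ (⊤ : Opens X))).ker ∧
      ∀ p : ℕ, HTor.IsSubquotient ℤ (HTor.grDesc G p)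
        (CohB1.cechHTop U (CohCx.HDUPresheaf (DerivedCategory.Q.obj K) (n - p)) p) := by
    have : K.IsStrictlyGE a := (CochainComplex.isStrictlyGE_iff K a).2 ha
    obtain ⟨M, hM, i, hi⟩ := CochainComplex.Plus.exists_quasiIso_injective (C := CohTop.Ab X) ⟨K, a, inferInstance⟩ a
    let L : CochainComplex (CohTop.Ab X) ℤ := ((InjectiveObject.ι (CohTop.Ab X)).mapHomologicalComplex (ComplexShape.up ℤ)).obj M.obj
    have : L.IsKInjective := inferInstanceAs (CochainComplex.IsKInjective
      (((InjectiveObject.ι (CohTop.Ab X)).mapHomologicalComplex (ComplexShape.up ℤ)).obj M.obj))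
    have hinj : ∀ q, Injective (L.X q) := fun q => inferInstanceAs (Injective ((InjectiveObject.ι _).obj (M.obj.X q)))
    have hL : L.IsStrictlyGE a := (CochainComplex.isStrictlyGE_mapHomologicalComplex_obj_iff _ (InjectiveObject.ι _) a).2 hM
    have hiQ : QuasiIso i.hom := hi
    let f : K ⟶ L := i.hom
    haveI : QuasiIso f := hiQ
    have hiso : IsIso (DerivedCategory.Q.map f) := inferInstance
    let e : DerivedCategory.Q.obj K ≅ DerivedCategory.Q.obj L := asIso (DerivedCategory.Q.map f)
    let w : ∀ q : ℤ, CohCx.HDUPresheaf (DerivedCategory.Q.obj L) q ≅ CohCx.HDUPresheaf (DerivedCategory.Q.obj K) q :=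
      fun q => Functor.isoWhiskerLeft _ (preadditiveYoneda.mapIso ((shiftFunctor _ q).mapIso e.symm))
    refine Groth.Agent.CechSSFilt.main U L (fun q => Groth.Agent.KInjSections.cycleMap L q ≫ (w q).hom) (fun q V => ?_)
      (fun q V z => ?_) a (fun q hq => CochainComplex.isZero_of_isStrictlyGE L a q hq) hcov n
    · exact (ConcreteCategory.bijective_of_isIso ((w q).hom.app (Opposite.op V))).2.comp
        (Groth.Agent.KInjSections.cycleMap_surjective L q V)
    · refine Iff.trans ?_ (Groth.Agent.KInjSections.cycleMap_eq_zero_iff L q V z)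
      exact ⟨fun h => (ConcreteCategory.bijective_of_isIso ((w q).hom.app (Opposite.op V))).1 (h.trans (map_zero _).symm),
        fun h => (congrArg ((w q).hom.app (Opposite.op V)).hom h).trans (map_zero _)⟩

end Groth.Agent.S3540
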