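import Groth.Statements.S3544
import Groth.Agent.H9Misc.EulerUp

set_option autoImplicit false
universe u
open HomAlg3

namespace Groth.Agent.S3544

open CategoryTheory CategoryTheory.Limits in
/-- Let E be a cohomological spectral sequence of modules over a ring A, starting at page 2, such that
the E₂ terms have finite length and only finitely many of them (all inside the finite set s of
bidegrees) are nonzero. Then for every r ≥ 2 the Euler–Poincaré characteristic of page r, the
alternating sum over s of (-1)^{p+q} times the length of E_r^{pq}, equals that of page 2. -/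
theorem result {A : Type u} [Ring A]
    (E : E₂CohomologicalSpectralSequence (ModuleCat.{u} A)) (s : Finset (ℤ × ℤ))
    (hs : ∀ pq : ℤ × ℤ, pq ∉ s → IsZero ((E.page 2).X pq))
    (hfl : ∀ pq : ℤ × ℤ, IsFiniteLength A ((E.page 2).X pq)) (r : ℤ) (hr : 2 ≤ r) :
    (s.sum fun pq => (((pq.1 + pq.2).negOnePow : ℤˣ) : ℤ) * ((Module.length A ((E.page r hr).X pq)).toNat : ℤ)) =
      s.sum fun pq => (((pq.1 + pq.2).negOnePow : ℤˣ) : ℤ) * ((Module.length A ((E.page 2).X pq)).toNat : ℤ) := by
  suffices H : ∀ (n : ℕ) (r : ℤ) (hr : 2 ≤ r), r = 2 + n →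
      (∀ pq : ℤ × ℤ, pq ∉ s → IsZero ((E.page r hr).X pq)) ∧
      (∀ pq : ℤ × ℤ, IsFiniteLength A ((E.page r hr).X pq)) ∧
      (s.sum fun pq => (((pq.1 + pq.2).negOnePow : ℤˣ) : ℤ) * ((Module.length A ((E.page r hr).X pq)).toNat : ℤ)) =
      s.sum fun pq => (((pq.1 + pq.2).negOnePow : ℤˣ) : ℤ) * ((Module.length A ((E.page 2).X pq)).toNat : ℤ) from
    (H (r - 2).toNat r hr (by omega)).2.2
  intro n
  induction n with
  | zero =>
    intro r hr e
    obtain rfl : r = 2 := by omega
    exact ⟨hs, hfl, rfl⟩
  | succ n ih =>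
    intro r' hr' e
    obtain ⟨hz, hf, hsum⟩ := ih (2 + n) (by omega) rfl
    have hr2 : (2 : ℤ) ≤ 2 + n := by omega
    let K := E.page (2 + (n : ℤ)) hr2
    let ei := fun pq => E.iso (2 + (n : ℤ)) r' pq (by omega) hr2
    have hadd : ∀ S : ShortComplex (ModuleCat.{u} A), S.ShortExact → IsFiniteLength A S.X₂ →
        ((Module.length A S.X₂).toNat : ℤ) = (Module.length A S.X₁).toNat + (Module.length A S.X₃).toNat ∧
          IsFiniteLength A S.X₁ ∧ IsFiniteLength A S.X₃ := by
      intro S hS h2
      have hl := Module.length_eq_add_of_exact S.f.hom S.g.hom hS.moduleCat_injective_f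
        hS.moduleCat_surjective_g ((ShortComplex.ShortExact.moduleCat_exact_iff_function_exact _).1 hS.exact)
      have hne := Module.length_ne_top_iff.2 h2
      rw [hl] at hne
      obtain ⟨n1, n3⟩ := WithTop.add_ne_top.1 hne
      refine ⟨?_, Module.length_ne_top_iff.1 n1, Module.length_ne_top_iff.1 n3⟩
      rw [hl, ENat.toNat_add n1 n3]
      push_cast
      rfl
    have hzH : ∀ pq, pq ∉ s → IsZero (K.homology pq) := fun pq hpq =>
      ShortComplex.isZero_homology_of_isZero_X₂ _ (hz pq hpq)
    have hfH : ∀ pq, IsFiniteLength A (K.homology pq) := fun pq => by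
      have hc : IsFiniteLength A (K.cycles pq) :=
        Module.length_ne_top_iff.1 (ne_top_of_le_ne_top (Module.length_ne_top_iff.2 (hf pq))
          (Module.length_le_of_injective (K.iCycles pq).hom
            ((ModuleCat.mono_iff_injective (K.iCycles pq)).1 inferInstance)))
      exact Module.length_ne_top_iff.1 (ne_top_of_le_ne_top (Module.length_ne_top_iff.2 hc)
        (Module.length_le_of_surjective (K.homologyπ pq).hom
          ((ModuleCat.epi_iff_surjective (K.homologyπ pq)).1 inferInstance)))
    have hlen : ∀ pq, Module.length A ((E.page r' hr').X pq) = Module.length A (K.homology pq) :=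
      fun pq => (ei pq).toLinearEquiv.length_eq.symm
    refine ⟨fun pq hpq => (hzH pq hpq).of_iso (ei pq).symm,
      fun pq => Module.length_ne_top_iff.1 (by rw [hlen]; exact Module.length_ne_top_iff.2 (hfH pq)), ?_⟩
    rw [← hsum]
    have key := Groth.Agent.H9Misc.EulerUp.euler ((2 + (n : ℤ), 1 - (2 + (n : ℤ))) : ℤ × ℤ)
      (fun X : ModuleCat.{u} A => ((Module.length A X).toNat : ℤ)) (fun X => IsFiniteLength A X) hadd
      (fun X hX => by
        have : Subsingleton X := ModuleCat.subsingleton_of_isZero hX
        simp [Module.length_eq_zero]) K hf s hz (fun pq => (((pq.1 + pq.2).negOnePow : ℤˣ) : ℤ)) (fun pq => by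
          have h : pq.1 + (2 + (n : ℤ)) + (pq.2 + (1 - (2 + (n : ℤ)))) = pq.1 + pq.2 + 1 := by ring
          simp only [Prod.fst_add, Prod.snd_add, h, Int.negOnePow_succ, Units.val_neg])
    simp only [smul_eq_mul] at key
    simp only [hlen]
    exact key.symm

end Groth.Agent.S3544
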