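import Groth.Statements.S3551
import Groth.Agent.GammaStar.Finite

set_option autoImplicit false
universe u
open CategoryTheory CategoryTheory.Limits AlgebraicGeometry
open EGA2

namespace Groth.Agent.S3551

/-- Let S be a graded ring whose irrelevant ideal S_+ is generated by finitely many elements of degree
one, and X = Proj S. Then every quasi-coherent O_X-module of finite type is isomorphic to N~ for
some finitely generated graded S-module N (graded in nonnegative degrees). -/
theorem result {R A : Type u} [CommRing R] [CommRing A] [Algebra R A] (𝒜 : ℕ → Submodule R A) [GradedAlgebra 𝒜]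
    (s : Finset A) (hs1 : ∀ f ∈ s, f ∈ 𝒜 1)
    (hs : (HomogeneousIdeal.irrelevant 𝒜).toIdeal = Ideal.span (s : Set A))
    (F : (Proj 𝒜).Modules) (hF : Coh.IsQCoh F) (hFT : CohB1.IsFT F) :
    ∃ (N : Type u) (_ : AddCommGroup N) (_ : Module R N) (_ : Module A N) (_ : IsScalarTower R A N)
      (𝒩 : ℕ → Submodule R N) (_ : DirectSum.Decomposition 𝒩) (_ : SetLike.GradedSMul 𝒜 𝒩),
      Module.Finite A N ∧ Nonempty (GrTilde.tilde 𝒜 𝒩 0 ≅ F) := by
  classical
  let C : GammaStar.Charts 𝒜 :=
    { ι := {f // f ∈ s}
      fintype := inferInstance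
      f := Subtype.val
      hf := fun i => hs1 _ i.2
      cover := fun y => by
        by_contra h
        push Not at h
        exact y.not_irrelevant_le ((show (HomogeneousIdeal.irrelevant 𝒜).toIdeal ≤ y.asHomogeneousIdeal.toIdeal by
          rw [hs, Ideal.span_le]; exact fun f hf => h ⟨f, hf⟩)) }
  obtain ⟨G⟩ := GammaStar.exists_gen (C := C) hF hFT
  exact ⟨G.N, inferInstance, inferInstance, inferInstance, inferInstance, G.grade, inferInstance, inferInstance,
    G.finite, ⟨@asIso _ _ _ _ G.incl G.isIso_incl ≪≫ @asIso _ _ _ _ (GammaStar.toF C F) (GammaStar.isIso_toF hF)⟩⟩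

end Groth.Agent.S3551
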