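import Groth.Statements.S3576
import Groth.Agent.Proj16.ConeRetract
import Groth.Agent.Proj16.ConeFibre
-- import your own Groth.Agent.* helpers here

set_option autoImplicit false
universe u
open CategoryTheory CategoryTheory.Limits AlgebraicGeometry
open EGA2

namespace Groth.Agent.S3576

/-- Over an affine base Spec R: let S be a graded R-algebra whose irrelevant ideal is generated by its
degree-one elements, E the pointed affine cone of S and π : E → X = Proj S the canonical retraction
(the morphism restricting on each chart D(f), f homogeneous of positive degree, to Spec S_f → Spec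
S_(f) → Proj S). Then π is of finite type, and for every point x of X the fibre of π at x is
isomorphic over the residue field κ(x) to Spec κ(x)[T, T⁻¹]. -/
theorem result {R A : Type u} [CommRing R] [CommRing A] [Algebra R A] (𝒜 : ℕ → Submodule R A) [GradedAlgebra 𝒜]
    (hgen : (HomogeneousIdeal.irrelevant 𝒜).toIdeal = Ideal.span (𝒜 1 : Set A))
    (π : (Cone.pointed 𝒜 : Scheme.{u}) ⟶ Proj 𝒜)
    (hπ : ∀ (d : ℕ) (f : A) (hd : 0 < d) (hf : f ∈ 𝒜 d),
        Cone.chart hf hd ≫ π =
          Spec.map (CommRingCat.ofHom (algebraMap (HomogeneousLocalization.Away 𝒜 f) (Localization.Away f))) ≫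
            Proj.awayι 𝒜 f hf hd)
    (x : Proj 𝒜) :
    LocallyOfFiniteType π ∧ QuasiCompact π ∧
      ∃ e : pullback π ((Proj 𝒜).fromSpecResidueField x) ≅
          Spec (CommRingCat.of (LaurentPolynomial ((Proj 𝒜).residueField x))),
        e.hom ≫ Spec.map (CommRingCat.ofHom (algebraMap ((Proj 𝒜).residueField x)
          (LaurentPolynomial ((Proj 𝒜).residueField x)))) = pullback.snd π ((Proj 𝒜).fromSpecResidueField x) := by
    classical
    let D := Groth.Agent.Proj16.coneData 𝒜
    have hπD : π = D.map := D.eq_map hπ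
    let e : ∀ f : 𝒜 1, CommRingCat.of (LaurentPolynomial (HomogeneousLocalization.Away 𝒜 (f : A))) ≅
        CommRingCat.of (Localization.Away (f : A)) := fun f =>
      (RingEquiv.ofBijective _ (Groth.Agent.Proj16.laurentAway_bijective (𝒜 := 𝒜) f.2)).toCommRingCatIso
    refine And.imp id (And.imp id fun h => h x) (Groth.Agent.Proj16.fibres_of_charts π
      (fun C => CommRingCat.of (LaurentPolynomial C))
      (fun C => CommRingCat.ofHom LaurentPolynomial.C)
      (fun χ => CommRingCat.ofHom (Groth.Agent.Proj16.laurentMap χ.hom))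
      Groth.Agent.Proj16.isPushout_laurent Groth.Agent.Proj16.finiteType_laurent
      (fun f : 𝒜 1 => CommRingCat.of (HomogeneousLocalization.Away 𝒜 (f : A)))
      (fun f => Proj.awayι 𝒜 (f : A) f.2 one_pos) (fun y => ?_)
      (fun f => CommRingCat.of (Localization.Away (f : A)))
      (fun f => Cone.chart f.2 one_pos)
      (fun f => CommRingCat.ofHom (algebraMap (HomogeneousLocalization.Away 𝒜 (f : A)) (Localization.Away (f : A))))
      (fun f => ?_) e (fun f => ?_))
    · obtain ⟨f, hf, hfy⟩ : ∃ f ∈ (𝒜 1 : Set A), f ∉ y.asHomogeneousIdeal := by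
        by_contra! H
        exact y.not_irrelevant_le (by
          show (HomogeneousIdeal.irrelevant 𝒜).toIdeal ≤ y.asHomogeneousIdeal.toIdeal
          rw [hgen, Ideal.span_le]
          exact H)
      refine ⟨⟨f, hf⟩, ?_⟩
      have : y ∈ Proj.basicOpen 𝒜 f := hfy
      rwa [← Proj.opensRange_awayι 𝒜 f hf one_pos] at this
    · haveI : IsOpenImmersion (Cone.chart f.2 one_pos) := D.isOpenImmersion f.2 one_pos
      refine (IsOpenImmersion.isPullback
        (Spec.map (CommRingCat.ofHom (algebraMap (HomogeneousLocalization.Away 𝒜 (f : A)) (Localization.Away (f : A)))))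
        (Cone.chart f.2 one_pos) (Proj.awayι 𝒜 (f : A) f.2 one_pos) π (hπ 1 f one_pos f.2) ?_).flip
      rw [Proj.opensRange_awayι, hπD, Groth.Agent.Proj16.coneData_preimage 𝒜 f.2 one_pos]
      rfl
    · exact CommRingCat.hom_ext (Groth.Agent.Proj16.laurentAway_comp_C (f := (f : A)))

end Groth.Agent.S3576
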