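import Groth.Statements.S3585
import Groth.Agent.Proj16.ClosedSub
import Groth.Agent.AmpleX.EmbedOverApps
import Groth.Agent.PicGlue.ProjSpaceBC
import Groth.Agent.SegreX.Coord
import Groth.Agent.AmpleX.Rel
-- import your own Groth.Agent.* helpers here

set_option autoImplicit false
universe u
open CategoryTheory CategoryTheory.Limits AlgebraicGeometry
open EGA2

namespace Groth.Agent.S3585

/-- Let A be a ring and f : X → Spec A a proper morphism, and suppose X carries an invertible O_X-module
which is ample relative to f (so f is quasi-projective). Then f is projective: X is isomorphic over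
Spec A to Proj S for some graded A-algebra S whose degree-zero part is the image of A and whose
irrelevant ideal is generated by finitely many elements of degree one. -/
theorem result {A : Type u} [CommRing A] {X : Scheme.{u}}
    (f : X ⟶ Spec (CommRingCat.of A)) [IsProper f]
    (L : X.Modules) (hL : PicF.IsInvertible L) (hamp : RelAmple.IsRelAmple f L) :
    ∃ (S : Type u) (_ : CommRing S) (_ : Algebra A S) (𝒮 : ℕ → Submodule A S) (_ : GradedAlgebra 𝒮) (s : Finset S),
      Function.Surjective (algebraMap A (𝒮 0)) ∧ (∀ g ∈ s, g ∈ 𝒮 1) ∧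
      (HomogeneousIdeal.irrelevant 𝒮).toIdeal = Ideal.span (s : Set S) ∧
      ∃ e : X ≅ Proj 𝒮, e.hom ≫ Proj.toSpecZero 𝒮 ≫ Spec.map (CommRingCat.ofHom (algebraMap A (𝒮 0))) = f := by
  open Groth.Agent in
  classical
  have hA : CohB1.IsAmple L := by
    exact (AmpleX.isRelAmple_iff_isAmple f L).1 hamp
  obtain ⟨n, i, hi, hif⟩ := AmpleX.exists_closedImmersion_projSpaceOver f hA
  obtain ⟨e₀, he₀⟩ := PicGlue.exists_projSpace_iso n A
  haveI := hi
  let i' : X ⟶ Proj (CohB1.polyGrading n A) := i ≫ e₀.inv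
  have hi' : i' ≫ CohB1.ProjSpace.toSpec n A = f := by
    rw [← he₀]
    exact (Category.assoc i e₀.inv _).trans ((congrArg (i ≫ ·) (e₀.inv_hom_id_assoc _)).trans hif)
  haveI : IsClosedImmersion i' := by
    show IsClosedImmersion (i ≫ e₀.inv)
    infer_instance
  let s₀ : Finset (MvPolynomial (Fin (n + 1)) A) := Finset.univ.image MvPolynomial.X
  have hs1 : ∀ g ∈ s₀, g ∈ CohB1.polyGrading n A 1 := fun g hg => by
    obtain ⟨j, -, rfl⟩ := Finset.mem_image.1 hg
    exact MvPolynomial.isHomogeneous_X _ j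
  have hs : (HomogeneousIdeal.irrelevant (CohB1.polyGrading n A)).toIdeal = Ideal.span (s₀ : Set (MvPolynomial (Fin (n + 1)) A)) := by
    rw [show (s₀ : Set (MvPolynomial (Fin (n + 1)) A)) = Set.range MvPolynomial.X by simp [s₀]]
    refine le_antisymm (SegreX.irrelevant_le_span n A) (Ideal.span_le.2 ?_)
    rintro _ ⟨j, rfl⟩
    exact HomogeneousIdeal.mem_irrelevant_of_mem _ one_pos (MvPolynomial.isHomogeneous_X _ j)
  obtain ⟨B, hB, hAB, ℬ, hℬ, φ, hsurj, hφ, e, he, halg⟩ :=
    Proj16.exists_proj_quotient_alg (CohB1.polyGrading n A) i' s₀ hs1 hs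
  refine ⟨B, hB, hAB, ℬ, hℬ, s₀.image φ, ?_, ?_, ?_, e, ?_⟩
  · rintro ⟨b, hb⟩
    obtain ⟨a, rfl⟩ := hsurj b
    refine ⟨MvPolynomial.coeff 0 a, Subtype.ext ?_⟩
    show algebraMap A B _ = φ a
    have h1 := GradedRingHom.map_directSumDecompose (CohB1.polyGrading n A) ℬ φ (x := a) (i := 0)
    rw [DirectSum.decompose_of_mem_same ℬ hb] at h1
    rw [← h1, ← halg]
    congr 1
    rw [MvPolynomial.algebraMap_eq, ← MvPolynomial.homogeneousComponent_zero]
    exact (MvPolynomial.decomposition.decompose'_apply a 0).symm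
  · intro g hg
    obtain ⟨g', hg', rfl⟩ := Finset.mem_image.1 hg
    exact φ.2 (hs1 g' hg')
  · rw [Finset.coe_image, ← Ideal.map_span, ← hs]
    refine le_antisymm (fun x hx => hφ hx) (Ideal.map_le_iff_le_comap.2 fun x hx => ?_)
    refine (HomogeneousIdeal.mem_irrelevant_iff ℬ _).2 ?_
    have h0 := (HomogeneousIdeal.mem_irrelevant_iff (CohB1.polyGrading n A) x).1 hx
    rw [GradedRing.proj_apply] at h0 ⊢
    rw [← GradedRingHom.map_directSumDecompose (CohB1.polyGrading n A) ℬ φ (x := x) (i := 0), h0, map_zero]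
  · rw [← hi', ← he]
    refine Eq.trans ?_ (Category.assoc e.hom (Proj.map φ hφ) (Proj.toSpecZero (CohB1.polyGrading n A) ≫ _)).symm
    congr 1
    refine (Proj.mapAffineOpenCover φ hφ).openCover.hom_ext _ _ fun j => ?_
    obtain ⟨⟨d, hd⟩, ⟨t, ht⟩⟩ := j
    have ht' : t ∈ CohB1.polyGrading n A d := ht
    show Proj.awayι ℬ (φ t) (φ.2 ht') hd ≫ _ = Proj.awayι ℬ (φ t) (φ.2 ht') hd ≫ _
    refine Eq.trans ?_ ((congrArg (· ≫ (Proj.toSpecZero (CohB1.polyGrading n A) ≫ Spec.map (CommRingCat.ofHom (algebraMap A (CohB1.polyGrading n A 0))))) (Proj.awayι_comp_map φ hφ hd _ ht').symm).trans (Category.assoc _ _ _))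
    refine (Proj.awayι_toSpecZero_assoc ℬ (φ t) (φ.2 ht') hd _).trans
      (Eq.trans ?_ (((congrArg (Spec.map _ ≫ ·) (Proj.awayι_toSpecZero_assoc (CohB1.polyGrading n A) t ht' hd _).symm)).trans (Category.assoc _ _ _).symm))
    rw [← Spec.map_comp, ← Spec.map_comp, ← Spec.map_comp]
    congr 1
    refine CommRingCat.hom_ext (RingHom.ext fun c => ?_)
    show HomogeneousLocalization.fromZeroRingHom ℬ (Submonoid.powers (φ t)) (algebraMap A (ℬ 0) c) =
      HomogeneousLocalization.Away.map φ t (HomogeneousLocalization.fromZeroRingHom (CohB1.polyGrading n A) (Submonoid.powers t) (algebraMap A (CohB1.polyGrading n A 0) c))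
    apply HomogeneousLocalization.val_injective
    show Localization.mk (algebraMap A B c) _ = Localization.mk (φ (algebraMap A (MvPolynomial (Fin (n + 1)) A) c)) _
    congr 1
    · exact (halg c).symm
    · exact Subtype.ext (map_one φ).symm

end Groth.Agent.S3585
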