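import Groth.Statements.S3594
-- import your own Groth.Agent.* helpers here

set_option autoImplicit false
set_option backward.isDefEq.respectTransparency false
set_option backward.isDefEq.respectTransparency.types false
set_option maxHeartbeats 1000000
universe u
open CategoryTheory CategoryTheory.Limits AlgebraicGeometry
open EGA2

namespace Groth.Agent.S3594

/-- The closed immersion at infinity of a projective cone: let S be a graded R-algebra and Ŝ a graded
R-algebra over S such that the structure map φ : S → Ŝ is a graded homomorphism and Ŝ = S[z] is the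
polynomial algebra on an element z of degree one (evaluation at z is a bijection S[T] → Ŝ); let ψ :
Ŝ → S be a graded homomorphism retracting φ and killing z, with S₊ contained in the ideal generated
by ψ(Ŝ₊) so that j = Proj(ψ) : X = Proj S → Ĉ = Proj Ŝ is defined (it is the canonical closed
immersion). Then the image of j is exactly the complement of the open subset D₊(z) of Proj Ŝ (which
is the affine cone C = Spec S). -/
theorem result {R A : Type u} [CommRing R] [CommRing A] [Algebra R A] (𝒜 : ℕ → Submodule R A) [GradedAlgebra 𝒜]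
    {B : Type u} [CommRing B] [Algebra R B] (ℬ : ℕ → Submodule R B) [GradedAlgebra ℬ]
    [Algebra A B] [IsScalarTower R A B] (φ : 𝒜 →+*ᵍ ℬ) (hφ : ∀ a : A, φ a = algebraMap A B a)
    (z : B) (hz : z ∈ ℬ 1) (hhat : Function.Bijective (Polynomial.aeval (R := A) z))
    (ψ : ℬ →+*ᵍ 𝒜) (hψφ : ∀ a : A, ψ (φ a) = a) (hψz : ψ z = 0)
    (hψ : HomogeneousIdeal.irrelevant 𝒜 ≤ (HomogeneousIdeal.irrelevant ℬ).map ψ) :
    Set.range (Proj.map ψ hψ).base = ((Proj.basicOpen ℬ z : Set (Proj ℬ)))ᶜ := by
  have hker : ∀ b : B, b - φ (ψ b) ∈ Ideal.span {z} := fun b => by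
    obtain ⟨p, rfl⟩ := hhat.2 b
    induction p using Polynomial.induction_on with
    | C a => simp [← hφ, hψφ]
    | add p q hp hq =>
      rw [map_add, map_add, map_add, add_sub_add_comm]
      exact add_mem hp hq
    | monomial n a _ =>
      simp only [map_mul, map_pow, Polynomial.aeval_C, Polynomial.aeval_X, ← hφ, hψφ, hψz, map_zero, zero_pow n.succ_ne_zero, mul_zero, sub_zero]
      refine Ideal.mul_mem_left _ _ ?_
      rw [pow_succ]
      exact Ideal.mul_mem_left _ _ (Ideal.mem_span_singleton_self z)
  ext P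
  refine ⟨?_, fun hP => ?_⟩
  · rintro ⟨q, rfl⟩ hzq
    exact hzq (show ψ z ∈ q.asHomogeneousIdeal.toIdeal by rw [hψz]; exact Ideal.zero_mem _)
  · have hzP : z ∈ P.asHomogeneousIdeal.toIdeal := by_contra hP
    have hmem : ∀ b : B, φ (ψ b) ∈ P.asHomogeneousIdeal.toIdeal ↔ b ∈ P.asHomogeneousIdeal.toIdeal := fun b => by
      have := Ideal.span_le.2 (Set.singleton_subset_iff.2 hzP) (hker b)
      exact ⟨fun h => by simpa using add_mem this h, fun h => by simpa using sub_mem h this⟩
    let q : HomogeneousIdeal 𝒜 := P.asHomogeneousIdeal.comap φ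
    have hq : ¬ HomogeneousIdeal.irrelevant 𝒜 ≤ q := fun h => P.not_irrelevant_le fun b hb => (hmem b).1 (by
      have : φ (ψ b) ∈ P.asHomogeneousIdeal.toIdeal := h (show ψ b ∈ HomogeneousIdeal.irrelevant 𝒜 by
        rw [HomogeneousIdeal.mem_irrelevant_iff] at hb ⊢
        rw [GradedRing.proj_apply] at hb ⊢
        rw [← ψ.map_directSumDecompose, hb, map_zero])
      exact this)
    refine ⟨⟨q, Ideal.IsPrime.comap _, hq⟩, ?_⟩
    refine ProjectiveSpectrum.ext (HomogeneousIdeal.ext (Ideal.ext fun b => ?_))
    exact hmem b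

end Groth.Agent.S3594
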