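import Groth.Statements.S3597
import Groth.Agent.Proj16.ConeData
-- import your own Groth.Agent.* helpers here

set_option autoImplicit false
universe u
open CategoryTheory CategoryTheory.Limits AlgebraicGeometry
open EGA2

namespace Groth.Agent.S3597

/-- Let S be a graded algebra over a ring and Ŝ = S[z] the graded S-algebra obtained by adjoining a
variable z in degree 1 (an S-algebra with an element z of degree 1 such that S[T] → Ŝ, T ↦ z, is
bijective), with φ : S → Ŝ the graded structure map and ψ : Ŝ → S the graded retraction with ψ ∘ φ =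
id and ψ(z) = 0 (the irrelevant-ideal containment needed to define Proj(ψ) on all of X = Proj S
carried as a hypothesis). Let Ê ⊆ Ĉ = Proj Ŝ be the pointed projective cone, the open union of the
D_+(φ f) for f ∈ S homogeneous of positive degree, and p : Ê → X a morphism which on each chart
D_+(φ f) = Spec Ŝ_{(φ f)} is induced by S_{(f)} → Ŝ_{(φ f)} (the canonical retraction). Then p is
surjective, and the closed immersion j = Proj(ψ) : X → Ĉ factors through Ê with p ∘ j = id_X. -/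
theorem result {R A : Type u} [CommRing R] [CommRing A] [Algebra R A] (𝒜 : ℕ → Submodule R A) [GradedAlgebra 𝒜]
    {B : Type u} [CommRing B] [Algebra R B] (ℬ : ℕ → Submodule R B) [GradedAlgebra ℬ]
    [Algebra A B] [IsScalarTower R A B] (φ : 𝒜 →+*ᵍ ℬ) (hφ : ∀ a : A, φ a = algebraMap A B a)
    (z : B) (hz : z ∈ ℬ 1) (hhat : Function.Bijective (Polynomial.aeval (R := A) z))
    (ψ : ℬ →+*ᵍ 𝒜) (hψφ : ∀ a : A, ψ (φ a) = a) (hψz : ψ z = 0)
    (hψ : HomogeneousIdeal.irrelevant 𝒜 ≤ (HomogeneousIdeal.irrelevant ℬ).map ψ)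
    (p : (PCone.dom φ : Scheme.{u}) ⟶ Proj 𝒜) (hp : ∀ (d : ℕ) (f : A) (hd : 0 < d) (hf : f ∈ 𝒜 d),
        PCone.chart φ hf hd ≫ p =
          Spec.map (CommRingCat.ofHom (HomogeneousLocalization.Away.map φ f)) ≫ Proj.awayι 𝒜 f hf hd) :
    Surjective p ∧ ∃ j : Proj 𝒜 ⟶ (PCone.dom φ : Scheme.{u}), j ≫ (PCone.dom φ).ι = Proj.map ψ hψ ∧ j ≫ p = 𝟙 (Proj 𝒜) := by
    classical
    have key : ∀ {d : ℕ} {f g : A} (hf : f ∈ 𝒜 d) (hg : g ∈ 𝒜 d) (hd : 0 < d) (_ : g = f)
        (c : HomogeneousLocalization.Away 𝒜 f →+* HomogeneousLocalization.Away 𝒜 g),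
        (∀ (n : ℕ) (a : A) (ha : a ∈ 𝒜 (n • d)), c (HomogeneousLocalization.Away.mk 𝒜 hf n a ha) =
          HomogeneousLocalization.Away.mk 𝒜 hg n a ha) →
        Spec.map (CommRingCat.ofHom c) ≫ Proj.awayι 𝒜 f hf hd = Proj.awayι 𝒜 g hg hd := by
      intro d f g hf hg hd e c hc
      subst e
      have : c = RingHom.id _ := RingHom.ext fun x => by
        obtain ⟨n, a, ha, rfl⟩ := x.mk_surjective 𝒜 hf
        exact hc n a ha
      subst this
      rw [CommRingCat.ofHom_id, Spec.map_id, Category.id_comp]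
    have hsub : Set.range (Proj.map ψ hψ) ⊆ Set.range (PCone.dom φ).ι := by
      rintro _ ⟨x, rfl⟩
      rw [Scheme.Opens.range_ι]
      obtain ⟨d, f, hd, hf, hfx⟩ := Groth.Agent.Proj16.exists_homogeneous_notMem 𝒜
        (I := x.asHomogeneousIdeal.toIdeal) x.not_irrelevant_le
      refine TopologicalSpace.Opens.mem_iSup.2 ⟨⟨f, d, hd, hf⟩, ?_⟩
      show x ∈ Proj.map ψ hψ ⁻¹ᵁ Proj.basicOpen ℬ (φ f)
      rw [Proj.map_preimage_basicOpen, hψφ]
      exact hfx
    let j := IsOpenImmersion.lift (PCone.dom φ).ι (Proj.map ψ hψ) hsub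
    have hj : j ≫ (PCone.dom φ).ι = Proj.map ψ hψ := IsOpenImmersion.lift_fac _ _ _
    have hjp : j ≫ p = 𝟙 (Proj 𝒜) := by
      refine (Proj.affineOpenCover 𝒜).openCover.hom_ext _ _ fun s => ?_
      obtain ⟨d', f, hf⟩ := s
      obtain ⟨d, hd⟩ := d'
      change f ∈ 𝒜 d at hf
      show Proj.awayι 𝒜 f hf hd ≫ j ≫ p = Proj.awayι 𝒜 f hf hd ≫ 𝟙 _
      suffices H : ∀ (g : A) (hg : g ∈ 𝒜 d), g = ψ (φ f) →
          Proj.awayι 𝒜 g hg hd ≫ j ≫ p = Proj.awayι 𝒜 g hg hd by
        rw [Category.comp_id]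
        exact H f hf (hψφ f).symm
      rintro g hg rfl
      have h1 : Proj.awayι 𝒜 (ψ (φ f)) hg hd ≫ j =
          Spec.map (CommRingCat.ofHom (HomogeneousLocalization.Away.map ψ (φ f))) ≫ PCone.chart φ hf hd := by
        rw [← cancel_mono (PCone.dom φ).ι, Category.assoc, hj, Category.assoc,
          show PCone.chart φ hf hd ≫ (PCone.dom φ).ι = Proj.awayι ℬ (φ f) (φ.2 hf) hd from
            IsOpenImmersion.lift_fac _ _ _]
        exact Proj.awayι_comp_map ψ hψ hd (φ f) (φ.2 hf)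
      rw [← Category.assoc, h1, Category.assoc]
      erw [hp d f hd hf]
      rw [← Category.assoc, ← Spec.map_comp, ← CommRingCat.ofHom_comp]
      refine key hf hg hd (hψφ f) _ fun n a ha => ?_
      rw [RingHom.comp_apply, HomogeneousLocalization.Away.map_mk, HomogeneousLocalization.Away.map_mk]
      simp only [hψφ]
    exact ⟨⟨fun x => ⟨j x, by rw [← Scheme.Hom.comp_apply, hjp]; rfl⟩⟩, j, hj, hjp⟩

end Groth.Agent.S3597
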