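import Groth.Statements.S3598
import Groth.Agent.Proj16.ConeData
import Groth.Agent.Proj16.ConeFibre
-- import your own Groth.Agent.* helpers here

set_option autoImplicit false
universe u
open CategoryTheory CategoryTheory.Limits AlgebraicGeometry
open EGA2

namespace Groth.Agent.S3598

/-- Let S be a graded algebra over a ring (an affine base) whose irrelevant ideal is generated by its
degree-one elements, and let Ŝ = S[z] be the graded S-algebra obtained by adjoining a variable z of
degree 1 (given as a graded S-algebra together with z of degree 1 such that S[T] → Ŝ, T ↦ z, is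
bijective). Let Ê be the pointed projective cone, covered by the charts Spec Ŝ_(f) for f ∈ S
homogeneous of positive degree, and p : Ê → X = Proj S the canonical retraction, i.e. the morphism
which on each chart Spec Ŝ_(f) is induced by S_(f) → Ŝ_(f). Then p is of finite type (locally of
finite type and quasi-compact) and its fibre at every point x of X is isomorphic over k(x) to the
affine line Spec k(x)[T]. -/
theorem result {R A : Type u} [CommRing R] [CommRing A] [Algebra R A] (𝒜 : ℕ → Submodule R A) [GradedAlgebra 𝒜]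
    {B : Type u} [CommRing B] [Algebra R B] (ℬ : ℕ → Submodule R B) [GradedAlgebra ℬ]
    [Algebra A B] [IsScalarTower R A B] (φ : 𝒜 →+*ᵍ ℬ) (hφ : ∀ a : A, φ a = algebraMap A B a)
    (z : B) (hz : z ∈ ℬ 1) (hhat : Function.Bijective (Polynomial.aeval (R := A) z))
    (hgen : (HomogeneousIdeal.irrelevant 𝒜).toIdeal = Ideal.span (𝒜 1 : Set A))
    (p : (PCone.dom φ : Scheme.{u}) ⟶ Proj 𝒜) (hp : ∀ (d : ℕ) (f : A) (hd : 0 < d) (hf : f ∈ 𝒜 d),
        PCone.chart φ hf hd ≫ p =
          Spec.map (CommRingCat.ofHom (HomogeneousLocalization.Away.map φ f)) ≫ Proj.awayι 𝒜 f hf hd) (x : Proj 𝒜) :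
    LocallyOfFiniteType p ∧ QuasiCompact p ∧
      ∃ e : pullback p ((Proj 𝒜).fromSpecResidueField x) ≅
          Spec (CommRingCat.of (Polynomial ((Proj 𝒜).residueField x))),
        e.hom ≫ Spec.map (CommRingCat.ofHom (algebraMap ((Proj 𝒜).residueField x)
          (Polynomial ((Proj 𝒜).residueField x)))) = pullback.snd p ((Proj 𝒜).fromSpecResidueField x) := by
    classical
    let D := Groth.Agent.Proj16.pconeData 𝒜 ℬ φ
    have hpD : p = D.map := D.eq_map hp
    have hbij : Function.Bijective (Polynomial.eval₂RingHom (φ : A →+* B) z) := by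
      have e : Polynomial.eval₂RingHom (φ : A →+* B) z = (Polynomial.aeval (R := A) z).toRingHom :=
        Polynomial.ringHom_ext (fun a => by simp [hφ]) (by simp)
      rw [e]; exact hhat
    let e : ∀ f : 𝒜 1, CommRingCat.of (Polynomial (HomogeneousLocalization.Away 𝒜 (f : A))) ≅
        CommRingCat.of (HomogeneousLocalization.Away ℬ (φ (f : A))) := fun f =>
      (RingEquiv.ofBijective _ (Groth.Agent.Proj16.polyAway_bijective φ z hz hbij f.2)).toCommRingCatIso
    refine And.imp id (And.imp id fun h => h x) (Groth.Agent.Proj16.fibres_of_charts p (fun C => CommRingCat.of (Polynomial C))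
      (fun C => CommRingCat.ofHom Polynomial.C) (fun χ => CommRingCat.ofHom (Polynomial.mapRingHom χ.hom))
      Groth.Agent.Proj16.isPushout_polynomial Groth.Agent.Proj16.finiteType_polynomial
      (fun f : 𝒜 1 => CommRingCat.of (HomogeneousLocalization.Away 𝒜 (f : A)))
      (fun f => Proj.awayι 𝒜 (f : A) f.2 one_pos) (fun y => ?_)
      (fun f => CommRingCat.of (HomogeneousLocalization.Away ℬ (φ (f : A))))
      (fun f => PCone.chart φ f.2 one_pos)
      (fun f => CommRingCat.ofHom (HomogeneousLocalization.Away.map φ (f : A))) (fun f => ?_) e (fun f => ?_))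
    · obtain ⟨f, hf, hfy⟩ : ∃ f ∈ (𝒜 1 : Set A), f ∉ y.asHomogeneousIdeal := by
        by_contra! H
        exact y.not_irrelevant_le (by
          show (HomogeneousIdeal.irrelevant 𝒜).toIdeal ≤ y.asHomogeneousIdeal.toIdeal
          rw [hgen, Ideal.span_le]
          exact H)
      refine ⟨⟨f, hf⟩, ?_⟩
      have : y ∈ Proj.basicOpen 𝒜 f := hfy
      rwa [← Proj.opensRange_awayι 𝒜 f hf one_pos] at this
    · haveI : IsOpenImmersion (PCone.chart φ f.2 one_pos) := D.isOpenImmersion f.2 one_pos
      refine (IsOpenImmersion.isPullback (Spec.map (CommRingCat.ofHom (HomogeneousLocalization.Away.map φ (f : A))))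
        (PCone.chart φ f.2 one_pos) (Proj.awayι 𝒜 (f : A) f.2 one_pos) p (hp 1 f one_pos f.2) ?_).flip
      rw [Proj.opensRange_awayι, hpD, Groth.Agent.Proj16.pconeData_preimage 𝒜 ℬ φ f.2 one_pos]
      rfl
    · exact CommRingCat.hom_ext (Groth.Agent.Proj16.polyAway_comp_C φ z hz f.2)

end Groth.Agent.S3598
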