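import Groth.Statements.S3602
import Groth.Agent.RBC.Apps

set_option autoImplicit false
universe u
open CategoryTheory CategoryTheory.Limits AlgebraicGeometry
attribute [local instance] HasDerivedCategory.standard
open Dual3

namespace Groth.Agent.S3602

/-- In the cases g flat or f flat (both are Tor independent squares). Consider a cartesian square of
quasi-compact quasi-separated schemes X' = Y' ×_Y X with maps f : X → Y, g : Y' → Y, f' : X' → Y',
g' : X' → X. Let the derived direct images on D_QCoh of all four maps be given (assumed to exist and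
to preserve quasi-coherence of cohomology), with right adjoints a of Rf_* and a' of Rf'_*. Then
there is an identification e : Rf_* ∘ Rg'_* ≅ Rg_* ∘ Rf'_* of the two composite derived direct
images for which the induced transformation ξ : Rg'_* ∘ a' → a ∘ Rg_* (adjoint to Rf_* Rg'_* a' ≅
Rg_* Rf'_* a' → Rg_*) is an isomorphism on every object. -/
theorem result (X Y X' Y' : Scheme.{u}) [CompactSpace X] [QuasiSeparatedSpace X] [CompactSpace Y] [QuasiSeparatedSpace Y] [CompactSpace X'] [QuasiSeparatedSpace X'] [CompactSpace Y'] [QuasiSeparatedSpace Y'] (f : X ⟶ Y) (g : Y' ⟶ Y) (f' : X' ⟶ Y') (g' : X' ⟶ X) (hsq : IsPullback g' f' f g) (hflat : Flat f ∨ Flat g) [DCoh.HasRpush f] [DCoh.HasRpush f'] [DCoh.HasRpush g] [DCoh.HasRpush g'] (hf : DCoh.RpushPreservesQCoh f) (hf' : DCoh.RpushPreservesQCoh f') (hg : DCoh.RpushPreservesQCoh g) (hg' : DCoh.RpushPreservesQCoh g') (a : DCoh.DQCoh Y ⥤ DCoh.DQCoh X) (a' : DCoh.DQCoh Y' ⥤ DCoh.DQCoh X') (adj : DCoh.RpushQ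 f hf ⊣ a) (adj' : DCoh.RpushQ f' hf' ⊣ a') : ∃ e : (DCoh.RpushQ g' hg' ⋙ DCoh.RpushQ f hf ≅ DCoh.RpushQ f' hf' ⋙ DCoh.RpushQ g hg), ∀ M : DCoh.DQCoh Y', IsIso (Dual3.xi adj adj' e M) := by
  haveI := Groth.Agent.KFlatLib.hasLpull g
  haveI := Groth.Agent.KFlatLib.hasLpull g'
  obtain ⟨adg⟩ := Groth.Agent.KFlatLib.nonempty_lpull_rpush_adj g
  obtain ⟨adg'⟩ := Groth.Agent.KFlatLib.nonempty_lpull_rpush_adj g'
  haveI : QuasiCompact f := quasiCompact_of_compactSpace f
  obtain ⟨e, he⟩ := Groth.Agent.RBC.exists_baseChangeApp adg adg' hsq.w fun E hE => by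
    rcases hflat with h | h
    · haveI := h
      exact Groth.Agent.RBC.bc_of_flat_left hsq E hE
    · haveI := h
      exact Groth.Agent.RBC.bc_of_flat_right hsq E hE
  let eQ : DCoh.RpushQ g' hg' ⋙ DCoh.RpushQ f hf ≅ DCoh.RpushQ f' hf' ⋙ DCoh.RpushQ g hg :=
    ((DCoh.IsQCohD (X := Y)).fullyFaithfulι.whiskeringRight _).preimageIso
      (Functor.isoWhiskerLeft (ObjectProperty.ι _) e)
  refine ⟨eQ, fun M => isIso_of_yoneda_map_bijective _ fun T => ?_⟩
  have hT : DCoh.IsQCohD ((DCoh.Lpull g').obj T.obj) := Groth.Agent.KFlatLib.isQCohD_lpull g' T.property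
  let LT : DCoh.DQCoh X' := ⟨_, hT⟩
  haveI : IsIso (DCoh.baseChangeApp adg adg' e T.obj) := he T.obj T.property
  let ιX := (DCoh.IsQCohD (X := X)).fullyFaithfulι
  let ιY := (DCoh.IsQCohD (X := Y)).fullyFaithfulι
  let ιX' := (DCoh.IsQCohD (X := X')).fullyFaithfulι
  let ιY' := (DCoh.IsQCohD (X := Y')).fullyFaithfulι
  let Ψ : (T ⟶ (DCoh.RpushQ g' hg').obj (a'.obj M)) ≃ (T ⟶ a.obj ((DCoh.RpushQ g hg).obj M)) :=
    ιX.homEquiv.trans <| (adg'.homEquiv _ _).symm.trans <|
      (ιX'.homEquiv (X := LT) (Y := a'.obj M)).symm.trans <| (adj'.homEquiv LT M).symm.trans <|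
      ιY'.homEquiv.trans <| (Iso.homFromEquiv (asIso (DCoh.baseChangeApp adg adg' e T.obj))).symm.trans <|
      (adg.homEquiv _ _).trans <|
      (ιY.homEquiv (X := (DCoh.RpushQ f hf).obj T) (Y := (DCoh.RpushQ g hg).obj M)).symm.trans <|
      adj.homEquiv _ _
  convert Ψ.bijective using 1
  funext x
  let y : LT ⟶ a'.obj M := ObjectProperty.homMk ((adg'.homEquiv _ _).symm x.hom)
  change x ≫ adj.homEquiv _ _ _ = adj.homEquiv _ _ (ObjectProperty.homMk (X := (DCoh.RpushQ f hf).obj T) (Y := (DCoh.RpushQ g hg).obj M) (adg.homEquiv _ _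
    (DCoh.baseChangeApp adg adg' e T.obj ≫ ((adj'.homEquiv LT M).symm y).hom)))
  rw [← adj.homEquiv_naturality_left]
  congr 1
  apply ObjectProperty.hom_ext
  change (DCoh.Rpush f).map x.hom ≫ e.hom.app (a'.obj M).obj ≫ (DCoh.Rpush g).map (adj'.counit.app M).hom =
    adg.homEquiv _ _ (DCoh.baseChangeApp adg adg' e T.obj ≫ ((adj'.homEquiv LT M).symm y).hom)
  rw [Adjunction.homEquiv_naturality_right, DCoh.baseChangeApp, Equiv.apply_symm_apply]
  have hy : x.hom = adg'.unit.app T.obj ≫ (DCoh.Rpush g').map y.hom :=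
    ((adg'.homEquiv _ _).apply_symm_apply x.hom).symm.trans (adg'.homEquiv_unit _ _ _)
  have hn : e.hom.app LT.obj ≫ (DCoh.Rpush g).map ((DCoh.Rpush f').map y.hom) =
      (DCoh.Rpush f).map ((DCoh.Rpush g').map y.hom) ≫ e.hom.app (a'.obj M).obj :=
    (e.hom.naturality y.hom).symm
  have h2 : ((adj'.homEquiv LT M).symm y).hom = (DCoh.Rpush f').map y.hom ≫ (adj'.counit.app M).hom := by
    rw [Adjunction.homEquiv_counit]; rfl
  rw [h2, hy, Functor.map_comp, Functor.map_comp]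
  simp only [Category.assoc]
  erw [reassoc_of% hn]

end Groth.Agent.S3602
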