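import Groth.Statements.S3634
import Groth.Agent.DualTwist.ClosedImm

set_option autoImplicit false
universe u
open CategoryTheory CategoryTheory.Limits AlgebraicGeometry
attribute [local instance] HasDerivedCategory.standard
open Dual3

namespace Groth.Agent.S3634

/-- Let X be a Noetherian scheme and i : Z → X a closed immersion. Assume the derived direct image Ri_*
exists and preserves quasi-coherence of cohomology sheaves (both known results), so that it
restricts to a functor D_QCoh(O_Z) → D_QCoh(O_X), and let a : D_QCoh(O_X) → D_QCoh(O_Z) be a right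
adjoint of this restricted functor. Assume further that i_* on O-modules has a right adjoint
Hom(O_Z, −) (the sections killed by the ideal of Z, viewed as an O_Z-module; this holds for a closed
immersion and is carried as a binder) and that the category of O_X-modules has enough injectives,
and let R Hom(O_Z, −) : D^+(O_X) → D^+(O_Z) be the right derived functor of Hom(O_Z, −). Then a and
R Hom(O_Z, −) are isomorphic as functors D^+_QCoh(O_X) → D(O_Z). (Stated for X Noetherian; the
published statement is more general.) -/
theorem result (Z X : Scheme.{u}) [IsNoetherian X] (i : Z ⟶ X) [IsClosedImmersion i] [Dual3.HasHomO i] [EnoughInjectives X.Modules] [DCoh.HasRpush i] (hf : DCoh.RpushPreservesQCoh i) (a : DCoh.DQCoh X ⥤ DCoh.DQCoh Z) (adj : DCoh.RpushQ i hf ⊣ a) : Nonempty (Dual3.bddι X ⋙ a ⋙ ObjectProperty.ι _ ≅ Dual3.bddToPlus X ⋙ Dual3.RHomOPlus i ⋙ (DerivedCategory.Plus.ι : DerivedCategory.Plus Z.Modules ⥤ DCoh.D Z)) := by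
  refine Groth.Agent.DualTwist.nonempty_closed_duality i (fun m => ?_) hf a adj
  haveI : IsLocallyNoetherian Z := LocallyOfFiniteType.isLocallyNoetherian i
  let M := (Scheme.Modules.pushforward i).obj (Coh.structureModule Z)
  have hM : Coh.IsCoh M :=
    Groth.Agent.QCoh.isCoh_pushforward_finite i Groth.Agent.PushAmp.isCoh_structure
  have hz : ∀ k : ℤ, k ≠ 0 → IsZero ((DerivedCategory.homologyFunctor X.Modules k).obj (DCoh.inD X M)) :=
    fun k hk =>
    (HomologicalComplex.isZero_single_obj_homology (ComplexShape.up ℤ) 0 _ k hk).of_iso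
      ((DerivedCategory.homologyFunctor X.Modules k).mapIso
        ((DerivedCategory.singleFunctorIsoCompQ X.Modules 0).app _) ≪≫
        (DerivedCategory.homologyFunctorFactors X.Modules k).app _)
  have hEc : ∀ k, Coh.IsCoh (DCoh.HD (DCoh.inD X M) k) := fun k => by
    by_cases hk : k = 0
    · subst hk
      exact Groth.Agent.KFlatLib.isCoh_of_iso
        ((DerivedCategory.singleFunctorCompHomologyFunctorIso X.Modules 0).app _).symm hM
    · exact Groth.Agent.KFlatLib.isCoh_of_isZero (hz k hk)
  exact (Groth.Agent.KFlatLib.isPseudoCoherentD_iff _ _).2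
    (Groth.Agent.KFlatLib.locPC_of_coh (fun k => (hEc k).1) (fun k _ => hEc k) 0 fun k hk =>
      hz k (by omega))

end Groth.Agent.S3634
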