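import Groth.Statements.S3665
import Groth.Agent.QCoh.SubCompare
import Groth.Agent.QCoh.Support

set_option autoImplicit false
set_option backward.isDefEq.respectTransparency false
universe u
open CategoryTheory CategoryTheory.Limits AlgebraicGeometry
attribute [local instance] HasDerivedCategory.standard
open Dual3

namespace Groth.Agent.S3665

/-- Let X be proper over a field k, I a quasi-coherent ideal with vanishing locus Z and F a coherent
O_X-module, so that H^0_c(X ∖ Z, F) = lim_n H^0(X, I^n F) = ⋂_n Γ(X, I^n F) inside Γ(X, F). Then a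
global section s of F lies in the image of Γ(X, I^n F) for every n if and only if s restricts to
zero on some open neighbourhood of Z. -/
theorem result (k : Type u) [Field k] (X : Scheme.{u}) (f : X ⟶ Spec (CommRingCat.of k)) [IsProper f] (I : X.IdealSheafData) (F : X.Modules) (hF : Coh.IsCoh F) (s : F.val.obj (Opposite.op ⊤)) : (∀ n : ℕ, ∃ t : ((Dual3.idealMul (I ^ n)).obj F).val.obj (Opposite.op ⊤), (Dual3.idealMulι (I ^ n) F).val.app (Opposite.op ⊤) t = s) ↔ ∃ V : X.Opens, I.supportSet ⊆ (V : Set X) ∧ F.val.map (homOfLE le_top : V ⟶ ⊤).op s = 0 := by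
  haveI : IsLocallyNoetherian X := LocallyOfFiniteType.isLocallyNoetherian f
  constructor
  · intro h
    obtain ⟨hq, hfin⟩ := Groth.Agent.QCoh.isCoh_iff.1 hF
    have hz : ∀ z ∈ I.supportSet, ∃ W : X.Opens, z ∈ W ∧ F.val.map (homOfLE le_top : W ⟶ ⊤).op s = 0 := by
      intro z hzI
      obtain ⟨U, hU, hzU, -⟩ := TopologicalSpace.Opens.isBasis_iff_nbhd.1 X.isBasis_affineOpens
        (TopologicalSpace.Opens.mem_top z)
      let x : Γ(F, U) := F.presheaf.map (homOfLE le_top : U ⟶ ⊤).op s
      haveI : Module.Finite Γ(X, U) Γ(F, U) := hfin ⟨U, hU⟩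
      haveI : IsNoetherianRing Γ(X, U) := IsLocallyNoetherian.component_noetherian ⟨U, hU⟩
      have hmem : x ∈ (⨅ n : ℕ, I.ideal ⟨U, hU⟩ ^ n • ⊤ : Submodule Γ(X, U) Γ(F, U)) := by
        refine Submodule.mem_iInf _ |>.2 fun n => ?_
        obtain ⟨t, ht⟩ := h n
        have hr := Groth.Agent.QCoh.range_idealMul (I ^ n) hq hU
        rw [Scheme.IdealSheafData.ideal_pow, Pi.pow_apply] at hr
        rw [← hr]
        exact ⟨((Dual3.idealMul (I ^ n)).obj F).presheaf.map (homOfLE le_top : U ⟶ ⊤).op t,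
          (Groth.Agent.QCoh.map_app_comm (Dual3.idealMulι (I ^ n) F) (homOfLE le_top : U ⟶ ⊤) t).trans
            (congrArg (fun y => F.presheaf.map (homOfLE le_top : U ⟶ ⊤).op y) ht)⟩
      obtain ⟨⟨r, hrI⟩, hr⟩ := (Ideal.mem_iInf_smul_pow_eq_bot_iff (I.ideal ⟨U, hU⟩) x).1 hmem
      refine ⟨X.basicOpen (1 - r), ?_, ?_⟩
      · have h0 : z ∉ X.basicOpen r := fun hc =>
          Scheme.mem_zeroLocus_iff _ _ _ |>.1 (I.supportSet_subset_zeroLocus ⟨U, hU⟩ hzI) r hrI hc
        rw [Scheme.mem_basicOpen _ _ z hzU] at h0 ⊢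
        rw [map_sub, map_one]
        exact (IsLocalRing.isUnit_or_isUnit_of_add_one (a := X.presheaf.germ U z hzU r)
          (b := 1 - X.presheaf.germ U z hzU r) (by ring)).resolve_left h0
      · have hle : X.basicOpen (1 - r) ≤ U := X.basicOpen_le _
        have h1 : (1 - r) • x = 0 := by rw [sub_smul, one_smul, hr, sub_self]
        have h2 := congrArg (F.presheaf.map (homOfLE hle).op) h1
        rw [Scheme.Modules.map_smul, map_zero] at h2
        have hu : IsUnit (X.presheaf.map (homOfLE hle).op (1 - r)) :=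
          RingedSpace.isUnit_res_basicOpen X.toRingedSpace (1 - r)
        rw [hu.smul_eq_zero] at h2
        refine Eq.trans ?_ h2
        exact (Groth.Agent.QCoh.map_map (homOfLE hle) (homOfLE le_top : U ⟶ ⊤) s).symm
    choose W hzW hW using hz
    refine ⟨⨆ z : I.supportSet, W z.1 z.2, fun z hz' =>
      TopologicalSpace.Opens.mem_iSup.2 ⟨⟨z, hz'⟩, hzW z hz'⟩, ?_⟩
    refine (TopCat.Sheaf.eq_of_locally_eq' (⟨F.presheaf, F.isSheaf⟩ : TopCat.Sheaf Ab.{u} X)
      (fun z : I.supportSet => W z.1 z.2) (⨆ z : I.supportSet, W z.1 z.2)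
      (fun z => homOfLE (le_iSup (fun z : I.supportSet => W z.1 z.2) z)) le_rfl _ _ fun z => ?_)
    refine (Groth.Agent.QCoh.map_map (homOfLE (le_iSup (fun z : I.supportSet => W z.1 z.2) z))
      (homOfLE le_top) s).trans ((hW z.1 z.2).trans ?_)
    exact (map_zero (F.presheaf.map (homOfLE (le_iSup (fun z : I.supportSet => W z.1 z.2) z)).op).hom).symm
  · rintro ⟨V, hV, hs⟩ n
    let ι := (I ^ n).subschemeι
    let η := (Scheme.Modules.pullbackPushforwardAdjunction ι).unit.app F
    have hpre : ι ⁻¹ᵁ ⊤ ≤ ι ⁻¹ᵁ V := fun p _ => hV <| by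
      have hp : ι.base p ∈ ((I ^ n).support : Set X) := by
        rw [← Scheme.IdealSheafData.range_subschemeι]
        exact ⟨p, rfl⟩
      cases n with
      | zero => exact absurd hp (by simp)
      | succ m => rwa [Scheme.IdealSheafData.support_pow_succ] at hp
    have hy := Groth.Agent.QCoh.map_app_comm η (homOfLE le_top : V ⟶ ⊤) s
    have hs' : η.app V (F.presheaf.map (homOfLE le_top : V ⟶ ⊤).op s) = 0 :=
      (congrArg (η.app V) hs).trans (map_zero (η.app V).hom)
    replace hy := hy.symm.trans hs'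
    refine Groth.Agent.QCoh.exists_kernel_lift η ⊤ s ?_
    have hback := congrArg (((Scheme.Modules.pullback ι).obj F).presheaf.map (homOfLE hpre).op) hy
    rw [map_zero] at hback
    refine Eq.trans ?_ hback
    refine Eq.trans ?_ (Groth.Agent.QCoh.map_map (homOfLE hpre)
      (homOfLE (ι.preimage_mono le_top) : ι ⁻¹ᵁ V ⟶ ι ⁻¹ᵁ ⊤) (η.app ⊤ s)).symm
    exact (Groth.Agent.QCoh.map_id' (M := (Scheme.Modules.pullback ι).obj F)
      (homOfLE hpre ≫ homOfLE (ι.preimage_mono le_top)) (η.app ⊤ s)).symm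

end Groth.Agent.S3665
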