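import Groth.Statements.S3669
import Groth.Agent.HomOLib.Killed
set_option backward.isDefEq.respectTransparency false
set_option backward.isDefEq.respectTransparency.types false
set_option linter.style.haveILetI false
open CategoryTheory AlgebraicGeometry

set_option autoImplicit false
universe u
open CategoryTheory CategoryTheory.Limits AlgebraicGeometry
attribute [local instance] HasDerivedCategory.standard
open Dual3

namespace Groth.Agent.S3669

/-- Let i : Z → X be a closed immersion of schemes with ideal sheaf I, Hom(O_Z, -) a right adjoint of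
i_* on modules (it exists; here the chosen one) with counit i_* Hom(O_Z, F) → F. Then for every
O_X-module F and every affine open U ⊆ X, the counit on sections over U, Γ(i⁻¹U, Hom(O_Z, F)) → Γ(U,
F), is injective with image exactly the sections s of F over U with I(U) · s = 0. -/
theorem result (Z X : Scheme.{u}) (i : Z ⟶ X) [IsClosedImmersion i] [Dual3.HasHomO i] (F : X.Modules) (U : X.affineOpens) : Function.Injective ⇑(ConcreteCategory.hom (((Dual3.homOAdj i).counit.app F).val.app (Opposite.op U.1))) ∧ Set.range ⇑(ConcreteCategory.hom (((Dual3.homOAdj i).counit.app F).val.app (Opposite.op U.1))) = ((LocCoh.torsionBy (i.ker.ideal U) (F.val.obj (Opposite.op U.1)) : Submodule Γ(X, U.1) (F.val.obj (Opposite.op U.1))) : Set (F.val.obj (Opposite.op U.1))) := by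
  haveI := Groth.Agent.HomOLib.mono_counit i F
  refine ⟨fun a b e => Groth.Agent.QCoh.app_injective ((Dual3.homOAdj i).counit.app F) U.1 e, ?_⟩
  refine Set.ext fun s => ⟨?_, fun hs => Groth.Agent.HomOLib.mem_range_counit i F fun a ha =>
    (Submodule.mem_torsionBySet_iff _ _).1 hs ⟨a, ha⟩⟩
  rintro ⟨t, rfl⟩
  refine (Submodule.mem_torsionBySet_iff _ _).2 fun ⟨a, ha⟩ => ?_
  show a • ((Dual3.homOAdj i).counit.app F).app U.1 t = 0
  rw [← Scheme.Modules.Hom.app_smul, Groth.Agent.HomOLib.killed_push i _ U a ha t, map_zero]

end Groth.Agent.S3669
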