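import Groth.Statements.S3675
import Groth.Agent.S1809

set_option autoImplicit false
universe u
open CategoryTheory CategoryTheory.Limits AlgebraicGeometry
attribute [local instance] HasDerivedCategory.standard
open Dual3

namespace Groth.Agent.S3675

lemma exists_nontrivial {A : Type u} [CommRing A] [IsNoetherianRing A] {ω : Dual.D A} (hω : Dual.IsDualizing A ω)
    (q : PrimeSpectrum A) :
    ∃ i : ℤ, Nontrivial (LocalizedModule q.asIdeal.primeCompl (Dual.HD A ω i)) := by
  have e : ∀ i : ℤ, q ∈ Module.support A (Dual.inD A A ⟶ ω⟦i⟧) ↔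
      Nontrivial (LocalizedModule q.asIdeal.primeCompl (Dual.HD A ω i)) := fun i => by
    obtain ⟨l⟩ := Groth.Agent.KFlatLib.exists_homRingLEquiv ω i
    rw [l.support_eq, Module.mem_support_iff]
  have hsub : ¬ Subsingleton (LocalizedModule q.asIdeal.primeCompl A) :=
    not_subsingleton (Localization.AtPrime q.asIdeal)
  have hq : q ∈ Module.support A A := Module.mem_support_iff.2 (not_subsingleton_iff_nontrivial.1 hsub)
  obtain ⟨n, hn, -⟩ := Groth.Agent.KFlatLib.exists_extDegree hω
  obtain ⟨δ, d, hδ, -, -⟩ := Groth.Agent.RGammaI.exists_depth_dim A q hq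
  obtain ⟨-, hnt⟩ := Groth.Agent.RGammaI.localized_ext_of_depth hω hn A q δ hδ hq
  exact ⟨_, (e _).1 (Module.mem_support_iff.2 hnt)⟩

/-- Let X be a locally Noetherian scheme (exactness instances as in the definition of dualizing
complexes) and ω a coherent O_X-module such that ω[0] is a dualizing complex on X. Then X is
Cohen–Macaulay: every local ring O_{X,x} is a Cohen–Macaulay local ring. -/
theorem result (X : Scheme.{u}) [IsLocallyNoetherian X] [∀ (U V : Scheme.{u}) (j : U ⟶ V) [IsOpenImmersion j], PreservesFiniteLimits (Scheme.Modules.restrictFunctor j)] [∀ (R : CommRingCat.{u}), PreservesFiniteLimits (tilde.functor R)] (ω : X.Modules) (hω : Coh.IsCoh ω) (hD : Dual2.IsDualizingSch X (DCoh.inD X ω)) (x : X) : LocCoh.IsCohenMacaulayLocalRing (X.presheaf.stalk x) := by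
  obtain ⟨_, ⟨U, hU, rfl⟩, hx, -⟩ := X.isBasis_affineOpens.exists_subset_of_mem_open (Set.mem_univ x) isOpen_univ
  haveI : IsNoetherianRing Γ(X, U) := IsLocallyNoetherian.component_noetherian ⟨U, hU⟩
  obtain ⟨p, rfl⟩ : x ∈ Set.range hU.fromSpec.base := by rw [IsAffineOpen.range_fromSpec hU]; exact hx
  obtain ⟨ωA, hωA, ⟨e⟩⟩ := hD Γ(X, U) hU.fromSpec
  have h2 := (Groth.Agent.S1809.point_aux X Γ(X, U) hU.fromSpec (DCoh.inD X ω) e p).2
  have h0 : ∀ i : ℤ, i ≠ 0 → ¬ Nontrivial ((DCoh.HD (DCoh.inD X ω) i).presheaf.stalk (hU.fromSpec.base p)) := fun i hi hn => by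
    have hz : IsZero (DCoh.HD (DCoh.inD X ω) i) := by
      haveI : (DCoh.inD X ω).IsLE 0 := by unfold DCoh.inD; infer_instance
      haveI : (DCoh.inD X ω).IsGE 0 := by unfold DCoh.inD; infer_instance
      rcases lt_or_gt_of_ne hi with h | h
      · exact (DCoh.inD X ω).isZero_of_isGE 0 i h
      · exact (DCoh.inD X ω).isZero_of_isLE 0 i h
    have := (DerSch.stalkFunctor X (hU.fromSpec.base p)).map_isZero hz
    exact not_subsingleton_iff_nontrivial.2 hn (ModuleCat.subsingleton_of_isZero this)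
  obtain ⟨i, hi⟩ := exists_nontrivial hωA p
  exact ((Groth.Agent.S1809.result X (DCoh.inD X ω) hD).1 _).2
    ⟨i, (h2 i).2 hi, fun j hj => (not_not.1 fun h => h0 j h hj).trans (not_not.1 fun h => h0 i h ((h2 i).2 hi)).symm⟩

end Groth.Agent.S3675
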