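import Groth.Statements.S3678
import Groth.Agent.H9PiOne.ClopenFibre
import Groth.Agent.Pi1X.FEtFull
import Groth.Agent.H0FBC.GeomRedCov
import Groth.Agent.H0FBC.GeomRed
import Groth.Agent.FBaseLib.Basic

set_option linter.style.haveILetI false
set_option backward.isDefEq.respectTransparency false
set_option backward.isDefEq.respectTransparency.types false
-- import your own Groth.Agent.* helpers here

set_option autoImplicit false
universe u
open Pi1
attribute [-instance] CategoryTheory.catToReflQuiver

namespace Groth.Agent.S3678

open AlgebraicGeometry CategoryTheory CategoryTheory.Limits in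
/-- Let A be a strictly henselian local ring (a henselian local ring with separably closed residue
field), f : X → Spec A a morphism which is proper, flat and of finite presentation and all of whose
geometric fibres are connected and reduced, and t : Spec Ω → Spec A a geometric point, with Ω an
algebraically closed field. Then the functor restricting finite étale covers of X to the geometric
fibre X_t = X ×_{Spec A} Spec Ω is fully faithful; equivalently, the specialisation homomorphism
from the fundamental group of X_t to that of X is surjective. (The published statement is the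
surjectivity of this homomorphism; it is stated here as full faithfulness of the restriction
functor.) -/
theorem result (A : Type u) [CommRing A] [HenselianLocalRing A]
    [IsSepClosed (IsLocalRing.ResidueField A)] {X : Scheme.{u}} (f : X ⟶ Spec (CommRingCat.of A))
    [IsProper f] [Flat f] [LocallyOfFinitePresentation f]
    (hfib : ∀ (Ω : Type u) [Field Ω] [IsAlgClosed Ω] (s : Spec (CommRingCat.of Ω) ⟶ Spec (CommRingCat.of A)),
      ConnectedSpace ↥(pullback f s) ∧ IsReduced (pullback f s))
    (Ω : Type u) [Field Ω] [IsAlgClosed Ω] (t : Spec (CommRingCat.of Ω) ⟶ Spec (CommRingCat.of A)) :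
    (FEt.restrict (pullback.fst f t)).Full ∧ (FEt.restrict (pullback.fst f t)).Faithful := by
  haveI : GeometricallyReduced f := H0FBC.geometricallyReduced_of_forall f fun s K _ k _ => by
    let j : Spec (CommRingCat.of (AlgebraicClosure K)) ⟶ Spec (CommRingCat.of K) :=
      Spec.map (CommRingCat.ofHom (algebraMap K (AlgebraicClosure K)))
    haveI : Surjective j := ⟨fun y => ⟨IsLocalRing.closedPoint _, @Subsingleton.elim _ (inferInstanceAs (Subsingleton (PrimeSpectrum K))) _ _⟩⟩
    haveI : Flat j := (HasRingHomProperty.Spec_iff (P := @Flat)).2 (RingHom.flat_algebraMap_iff.2 inferInstance)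
    haveI : IsReduced (pullback f (j ≫ k)) := (hfib (AlgebraicClosure K) (j ≫ k)).2
    haveI : IsReduced (pullback (pullback.snd f k) j) :=
      isReduced_of_isOpenImmersion (pullbackLeftPullbackSndIso f k j).hom
    exact FBaseLib.isReduced_of_flat_surjective (pullback.fst (pullback.snd f k) j)
  haveI : PreconnectedSpace ↥(Spec (CommRingCat.of A)) := H9PiOne.preconnectedSpace_spec_local A
  have hmeet : ∀ C : Set X, IsClopen C → C.Nonempty → (C ∩ Set.range (pullback.fst f t).base).Nonempty := by
    intro C hC hne
    have h : IsClopen (f '' C) := ⟨f.isClosedMap _ hC.1, f.isOpenMap _ hC.2⟩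
    obtain ⟨x, hx, he⟩ : t (IsLocalRing.closedPoint Ω) ∈ f '' C := by
      rw [h.eq_univ (hne.image _)]; trivial
    refine ⟨x, hx, ?_⟩
    rw [Scheme.Pullback.range_fst]
    exact ⟨_, he.symm⟩
  refine ⟨Pi1X.restrict_full _ hmeet fun W C hC => ?_, Pi1X.restrict_faithful _ hmeet⟩
  haveI : IsFinite W.hom := W.prop.1
  haveI : Etale W.hom := W.prop.2
  haveI : GeometricallyReduced (W.hom ≫ f) := H0FBC.geometricallyReduced_etale_comp W.hom f
  let e := pullbackRightPullbackFstIso f t W.hom
  obtain ⟨G, hG, hGC⟩ := H9PiOne.exists_clopen_of_geomFibre (W.hom ≫ f) t (e.inv ⁻¹' C) (hC.preimage e.inv.continuous)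
  refine ⟨G, hG, Set.ext fun x => ?_⟩
  have h1 : pullback.fst W.hom (pullback.fst f t) x = pullback.fst (W.hom ≫ f) t (e.hom x) := by
    rw [← Scheme.Hom.comp_apply, pullbackRightPullbackFstIso_hom_fst]
  have h2 : e.inv (e.hom x) = x := by
    rw [← Scheme.Hom.comp_apply, e.hom_inv_id]; rfl
  show pullback.fst W.hom (pullback.fst f t) x ∈ G ↔ x ∈ C
  rw [h1, ← Set.mem_preimage (f := pullback.fst (W.hom ≫ f) t), hGC, Set.mem_preimage, h2]

end Groth.Agent.S3678
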