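import Groth.Statements.S3681
import Groth.Agent.H9PiOne.ProductCover
import Groth.Agent.H9PiOne.ClopenGlue

set_option linter.style.haveILetI false
set_option backward.isDefEq.respectTransparency false
set_option backward.isDefEq.respectTransparency.types false
-- import your own Groth.Agent.* helpers here

set_option autoImplicit false
universe u
open Pi1
attribute [-instance] CategoryTheory.catToReflQuiver

namespace Groth.Agent.S3681

open AlgebraicGeometry CategoryTheory CategoryTheory.Limits in
/-- Let k be an algebraically closed field, X and Y locally Noetherian k-schemes with Y connected and X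
or Y proper over k, and Z' a finite etale cover of the product of X and Y over k. For a k-rational
point y of Y write j_y : X -> X x_k Y for the induced morphism. Then for any two k-rational points
y, y' of Y the finite etale covers of X obtained by pulling Z' back along j_y and j_{y'} are
isomorphic. -/
theorem result (k : Type u) [Field k] [IsAlgClosed k] {X Y : Scheme.{u}}
    (pX : X ⟶ Spec (CommRingCat.of k)) (pY : Y ⟶ Spec (CommRingCat.of k))
    [IsLocallyNoetherian X] [IsLocallyNoetherian Y] [ConnectedSpace Y] (hprop : IsProper pX ∨ IsProper pY)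
    (Z' : FEt.Cat (pullback pX pY))
    (y y' : Spec (CommRingCat.of k) ⟶ Y) (hy : 𝟙 X ≫ pX = (pX ≫ y) ≫ pY) (hy' : 𝟙 X ≫ pX = (pX ≫ y') ≫ pY) :
    Nonempty ((FEt.restrict (pullback.lift (𝟙 X) (pX ≫ y) hy)).obj Z' ≅
      (FEt.restrict (pullback.lift (𝟙 X) (pX ≫ y') hy')).obj Z') := by
  rcases isEmpty_or_nonempty X with hX | hX
  · let A := (FEt.restrict (pullback.lift (𝟙 X) (pX ≫ y) hy)).obj Z'
    let B := (FEt.restrict (pullback.lift (𝟙 X) (pX ≫ y') hy')).obj Z'
    let a : A.left ⟶ X := A.hom
    let b : B.left ⟶ X := B.hom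
    haveI : IsEmpty A.left := Function.isEmpty a
    haveI : IsEmpty B.left := Function.isEmpty b
    exact ⟨MorphismProperty.Over.isoMk (isInitialOfIsEmpty.uniqueUpToIso isInitialOfIsEmpty)
      (isInitialOfIsEmpty.hom_ext _ _)⟩
  have hpt : ∀ z : Spec (CommRingCat.of k) ⟶ Y, 𝟙 X ≫ pX = (pX ≫ z) ≫ pY → z ≫ pY = 𝟙 _ := fun z hz => by
    obtain ⟨x⟩ := hX
    let j := X.fromSpecResidueField x ≫ pX
    have h1 : j = j ≫ z ≫ pY := by
      show X.fromSpecResidueField x ≫ pX = _
      rw [← Category.id_comp pX, hz]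
      simp [j]
    obtain ⟨ρ, hρ⟩ := Spec.map_surjective j
    obtain ⟨σ, hσ⟩ := Spec.map_surjective (z ≫ pY)
    rw [← hρ, ← hσ, ← Spec.map_comp] at h1
    have h2 := Spec.map_injective h1
    rw [← hσ, show σ = 𝟙 _ from CommRingCat.hom_ext (RingHom.ext fun a => by
      have := congrArg (fun f => f.hom a) h2
      exact ρ.hom.injective this.symm), Spec.map_id]
  have hys := hpt y hy
  have hys' := hpt y' hy'
  rcases hprop with hp | hp
  · haveI := hp
    exact Groth.Agent.H9PiOne.nonempty_iso_sections pX pY Z' y y' hy hy' hys hys'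
  · haveI := hp
    refine Groth.Agent.H9PiOne.nonempty_iso_of_components _ _ fun U hU => ?_
    haveI : ConnectedSpace (U : Scheme.{u}) := isConnected_iff_connectedSpace.mp hU
    let q := U.ι ≫ pX
    let m : pullback pY q ⟶ pullback pX pY :=
      pullback.lift (pullback.snd pY q ≫ U.ι) (pullback.fst pY q)
        (by rw [Category.assoc]; exact pullback.condition.symm)
    obtain ⟨i⟩ := Groth.Agent.H9PiOne.nonempty_iso_parameter pY q ((FEt.restrict m).obj Z')
      (fun A hA => Groth.Agent.H9PiOne.exists_point_cover pY A hA)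
      (fun A hA z => Groth.Agent.H9PiOne.exists_lift_point A hA z) y y' hys hys'
    have hm : ∀ (z : Spec (CommRingCat.of k) ⟶ Y) (hz : 𝟙 X ≫ pX = (pX ≫ z) ≫ pY) (hzs : z ≫ pY = 𝟙 _),
        U.ι ≫ pullback.lift (𝟙 X) (pX ≫ z) hz = Groth.Agent.H9PiOne.ptSection pY q z hzs ≫ m := by
      intro z hz hzs
      apply pullback.hom_ext <;> simp [m, q, Groth.Agent.H9PiOne.ptSection]
      exact (Category.id_comp _).symm
    exact ⟨Groth.Agent.Pi1Ext.Spread.restrictSquare _ _ _ _ (hm y hy hys) Z' ≪≫ i ≪≫
      (Groth.Agent.Pi1Ext.Spread.restrictSquare _ _ _ _ (hm y' hy' hys') Z').symm⟩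

end Groth.Agent.S3681
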