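import Groth.Statements.S3683
import Groth.Agent.H9PiOne.ProductCover

set_option linter.style.haveILetI false
set_option backward.isDefEq.respectTransparency false
set_option backward.isDefEq.respectTransparency.types false
-- import your own Groth.Agent.* helpers here

set_option autoImplicit false
universe u
open Pi1
attribute [-instance] CategoryTheory.catToReflQuiver

namespace Groth.Agent.S3683

open AlgebraicGeometry CategoryTheory CategoryTheory.Limits in
/-- The part saying that the homomorphism from the fundamental group of X x_k Y to the product of the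
fundamental groups is injective, in terms of covers (so that, with the surjectivity part, it is an
isomorphism). Let k be algebraically closed, X proper and connected over k, Y locally Noetherian and
connected over k. Then every connected finite etale cover W of the product of X and Y admits, for
some finite etale cover X' of X and some finite etale cover Y' of Y, a surjective morphism over the
product from the product of X' and Y'. -/
theorem result (k : Type u) [Field k] [IsAlgClosed k] {X Y : Scheme.{u}}
    (pX : X ⟶ Spec (CommRingCat.of k)) (pY : Y ⟶ Spec (CommRingCat.of k)) [IsProper pX] [ConnectedSpace X]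
    [IsLocallyNoetherian Y] [ConnectedSpace Y]
    (W : FEt.Cat (pullback pX pY)) [ConnectedSpace W.left] :
    ∃ (X' : FEt.Cat X) (Y' : FEt.Cat Y) (φ : pullback (X'.hom ≫ pX) (Y'.hom ≫ pY) ⟶ W.left),
      φ ≫ W.hom = pullback.map (X'.hom ≫ pX) (Y'.hom ≫ pY) pX pY X'.hom Y'.hom (𝟙 _)
        (Category.comp_id _) (Category.comp_id _) ∧ Surjective φ := by
  haveI : Nonempty Y := inferInstance
  obtain ⟨A, hA, hAs, Y', ⟨e⟩⟩ := Groth.Agent.H9PiOne.exists_iso_pullback pX pY W
    (fun A hA => Groth.Agent.H9PiOne.exists_point_cover pX A hA)
  let m := pullback.map (A.hom ≫ pX) pY pX pY A.hom (𝟙 _) (𝟙 _) (Category.comp_id _) (by simp)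
  let el := Groth.Agent.Pi1Ext.Spread.leftIso e
  let l : pullback (A.hom ≫ pX) (Y'.hom ≫ pY) ⟶ pullback Y'.hom (pullback.snd (A.hom ≫ pX) pY) :=
    pullback.lift (pullback.snd _ _) (pullback.lift (pullback.fst _ _) (pullback.snd _ _ ≫ Y'.hom)
      (by rw [Category.assoc]; exact pullback.condition)) (pullback.lift_snd _ _ _).symm
  let r : pullback Y'.hom (pullback.snd (A.hom ≫ pX) pY) ⟶ pullback (A.hom ≫ pX) (Y'.hom ≫ pY) :=
    pullback.lift (pullback.snd _ _ ≫ pullback.fst _ _) (pullback.fst _ _) (by
      rw [Category.assoc, pullback.condition (f := A.hom ≫ pX), ← Category.assoc, ← pullback.condition,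
        Category.assoc])
  have hrl : r ≫ l = 𝟙 _ := by
    apply pullback.hom_ext
    · simp [r, l]
    · apply pullback.hom_ext
      · simp [r, l]
      · simp [r, l, pullback.condition]
  haveI : Surjective l := ⟨fun z => ⟨r z, by
    rw [← Scheme.Hom.comp_apply, hrl]; rfl⟩⟩
  haveI : Surjective A.hom := hAs
  haveI : Surjective m := by
    have hm : IsPullback m (pullback.fst (A.hom ≫ pX) pY) (pullback.fst pX pY) A.hom := by
      refine IsPullback.of_right ?_ (pullback.lift_fst _ _ _) (IsPullback.of_hasPullback pX pY).flip
      rw [pullback.lift_snd, Category.comp_id]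
      exact (IsPullback.of_hasPullback (A.hom ≫ pX) pY).flip
    exact MorphismProperty.of_isPullback (P := @Surjective) hm.flip inferInstance
  haveI : Surjective (pullback.fst W.hom m) := MorphismProperty.pullback_fst (P := @Surjective) _ _ ‹_›
  haveI : Surjective el.hom := inferInstance
  refine ⟨A, Y', l ≫ el.hom ≫ pullback.fst W.hom m, ?_, ?_⟩
  · have hel : el.hom ≫ pullback.snd W.hom m = pullback.snd Y'.hom (pullback.snd (A.hom ≫ pX) pY) :=
      Groth.Agent.Pi1Ext.Spread.leftIso_w e
    rw [Category.assoc, Category.assoc, pullback.condition, ← Category.assoc el.hom, hel]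
    apply pullback.hom_ext <;> simp [l, m]
  · exact inferInstanceAs (Surjective (l ≫ el.hom ≫ pullback.fst W.hom m))

end Groth.Agent.S3683
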