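import Groth.Statements.S3697
import Groth.Agent.H9PiOne.SteinStage
import Groth.Agent.Pi1X.GeomConnFF

set_option linter.style.haveILetI false
set_option backward.isDefEq.respectTransparency false
set_option backward.isDefEq.respectTransparency.types false
-- import your own Groth.Agent.* helpers here

set_option autoImplicit false
universe u
open SGA1
attribute [-instance] CategoryTheory.catToReflQuiver

namespace Groth.Agent.S3697

open AlgebraicGeometry CategoryTheory CategoryTheory.Limits in
/-- The sufficiency (the necessity of the conditions is immediate). Let f : X -> S be proper, surjective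
and of finite presentation with geometrically connected fibres, and g : X' -> X proper of finite
presentation. Let s be a point of S and C a connected open and closed part of the fibre X'_s (a
connected component). Suppose that g is etale at the points of X' under C, and that C, mapped to the
fibre X_s, is a finite etale cover which splits completely after base change to an algebraic closure
of the residue field of s. Then some open neighbourhood of C in X' is X-isomorphic to X x_S S_1 for
a scheme S_1 etale over S. -/
theorem result {X X' S : Scheme.{u}} (f : X ⟶ S) [IsProper f] [Surjective f]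
    [LocallyOfFinitePresentation f]
    (hconn : ∀ (Ω : Type u) [Field Ω] [IsAlgClosed Ω] (σ : Spec (CommRingCat.of Ω) ⟶ S), ConnectedSpace ↥(pullback f σ))
    (g : X' ⟶ X) [IsProper g] [LocallyOfFinitePresentation g] (s : S)
    (C : (pullback (g ≫ f) (S.fromSpecResidueField s)).Opens) (hCcl : IsClosed (C : Set ↥(pullback (g ≫ f) (S.fromSpecResidueField s))))
    [ConnectedSpace ↥C]
    (het : ∀ c : C, (pullback.fst (g ≫ f) (S.fromSpecResidueField s)).base c.1 ∈ Pi1X.etaleLocus g)
    [hF : IsFinite (C.ι ≫ pullback.map (g ≫ f) (S.fromSpecResidueField s) f (S.fromSpecResidueField s) g (𝟙 _) (𝟙 S)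
      (Category.comp_id _) ((Category.comp_id _).trans (Category.id_comp _).symm))]
    [hE : Etale (C.ι ≫ pullback.map (g ≫ f) (S.fromSpecResidueField s) f (S.fromSpecResidueField s) g (𝟙 _) (𝟙 S)
      (Category.comp_id _) ((Category.comp_id _).trans (Category.id_comp _).symm))]
    (hsplit : Pi1.IsSplit ((FEt.restrict (pullback.fst (pullback.snd f (S.fromSpecResidueField s))
        (Spec.map (CommRingCat.ofHom (algebraMap (S.residueField s) (AlgebraicClosure (S.residueField s))))))).obj
      (MorphismProperty.Over.mk ⊤ (C.ι ≫ pullback.map (g ≫ f) (S.fromSpecResidueField s) f (S.fromSpecResidueField s) g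
        (𝟙 _) (𝟙 S) (Category.comp_id _) ((Category.comp_id _).trans (Category.id_comp _).symm)) ⟨hF, hE⟩))) :
    ∃ W : X'.Opens, (∀ c : C, (pullback.fst (g ≫ f) (S.fromSpecResidueField s)).base c.1 ∈ W) ∧
      ∃ (S₁ : Scheme.{u}) (e : S₁ ⟶ S) (_ : Etale e) (φ : (W : Scheme.{u}) ≅ pullback f e),
        φ.hom ≫ pullback.fst f e = W.ι ≫ g := by
  haveI : GeometricallyConnected f := Pi1X.geometricallyConnected_of_isAlgClosed f fun K _ _ ξ => hconn K ξ
  haveI := H9PiOne.etale_etaleLocus g
  generalize hm : pullback.map (g ≫ f) (S.fromSpecResidueField s) f (S.fromSpecResidueField s) g (𝟙 _) (𝟙 S)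
    (Category.comp_id _) ((Category.comp_id _).trans (Category.id_comp _).symm) = m at hF hE hsplit
  have e : m = H9PiOne.bcOver f g (S.fromSpecResidueField s) := by
    rw [← hm]
    refine pullback.hom_ext ?_ ?_
    · simp [H9PiOne.bcOver]
    · simp [H9PiOne.bcOver]
  subst e
  exact H9PiOne.exists_etale_stage f g (Pi1X.etaleLocus g) s C het ⟨hF, hE⟩ (H9PiOne.hasSplitting_of_isSplit hsplit)

end Groth.Agent.S3697
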