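import Groth.Statements.S3698
import Groth.Agent.H9PiOne.CoverGrpObj

set_option linter.style.haveILetI false
set_option backward.isDefEq.respectTransparency false
set_option backward.isDefEq.respectTransparency.types false
-- import your own Groth.Agent.* helpers here

set_option autoImplicit false
universe u
open CategoryTheory MonoidalCategory CartesianMonoidalCategory MonObj GrpObj AlgebraicGeometry
open Pi1
attribute [-instance] CategoryTheory.catToReflQuiver

namespace Groth.Agent.S3698

/-- The fundamental group of an abelian variety, in the form underlying its computation: let k be an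
algebraically closed field and A an abelian variety over k (a proper, geometrically integral group
scheme over k). Then every connected finite étale cover Z → A is dominated by a multiplication map:
for some integer d ≥ 1 there is a morphism A → Z over A, where A is viewed as a scheme over A
through multiplication by d. (Multiplication by d is the d-th power of the identity in the group
Hom(A, A); consequently the fundamental group of A is the inverse limit of the groups of k-points of
the kernels of these multiplications.) -/
theorem result (k : Type u) [Field k] [IsAlgClosed k]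
    (A : Over (Spec (CommRingCat.of k))) [GrpObj A] [IsProper A.hom] [GeometricallyIntegral A.hom]
    (Z : FEt.Cat A.left) [ConnectedSpace Z.left] :
    ∃ d : ℕ, 1 ≤ d ∧ ∃ ψ : A.left ⟶ Z.left, ψ ≫ Z.hom = ((𝟙 A) ^ (d : ℤ)).left := by
  haveI : IsIntegral A.left := GeometricallyIntegral.isIntegral_of_subsingleton A.hom
  let z : Z.left ⟶ A.left := Z.hom
  haveI : IsFinite z := Z.prop.1
  haveI : Etale z := Z.prop.2
  let Y : Over (Spec (CommRingCat.of k)) := Over.mk (z ≫ A.hom)
  let φ : Y ⟶ A := Over.homMk z rfl
  haveI : ConnectedSpace ↥Y.left := ‹ConnectedSpace Z.left›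
  haveI : IsFinite φ.left := ‹IsFinite z›
  haveI : Etale φ.left := ‹Etale z›
  haveI : Surjective φ.left := ⟨Set.range_eq_univ.1
    (IsClopen.eq_univ ⟨φ.left.isClosedMap.isClosed_range, φ.left.isOpenMap.isOpen_range⟩ (Set.range_nonempty _))⟩
  obtain ⟨inst, hφ⟩ := H9PiOne.exists_grpObj_cover φ
  letI := inst
  haveI := hφ
  let e : Spec (CommRingCat.of k) ⟶ A.left := (η[A] : 𝟙_ _ ⟶ A).left
  let q : Limits.pullback φ.left e ⟶ Spec (CommRingCat.of k) := Limits.pullback.snd φ.left e
  haveI : IsFinite q := MorphismProperty.pullback_snd (P := @IsFinite) _ _ ‹_›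
  haveI : Etale q := MorphismProperty.pullback_snd (P := @Etale) _ _ ‹_›
  haveI : Surjective q := MorphismProperty.pullback_snd (P := @Surjective) _ _ ‹_›
  obtain ⟨ψ, -, hψ⟩ := H9PiOne.exists_dual φ (Nat.card ↥(Limits.pullback φ.left e)) dvd_rfl
  refine ⟨Nat.card ↥(Limits.pullback φ.left e), ?_, ψ.left, (congrArg CommaMorphism.left hψ).trans ?_⟩
  · rw [AVTorsLib.natCard_eq_finrank q]
    exact (Scheme.Hom.one_le_finrank_iff_surjective q).2 ‹_› _
  · rw [zpow_natCast]

end Groth.Agent.S3698
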