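import Groth.Statements.S3708
import Groth.Agent.H9CurveLift.Curve
import Groth.Agent.H9CurveLift.Smooth
import Groth.Agent.S11778
import Groth.Agent.H9Existence.Algebraize
import Groth.Agent.PicGlue.AmpleDimOne
import Groth.Agent.Snapper.DimVanish
import Groth.Agent.AmpleX.RelAffine

set_option linter.style.haveILetI false
set_option backward.isDefEq.respectTransparency false
set_option backward.isDefEq.respectTransparency.types false
-- import your own Groth.Agent.* helpers here

set_option autoImplicit false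
universe u
open SGA1

namespace Groth.Agent.S3708

open AlgebraicGeometry CategoryTheory CategoryTheory.Limits in
/-- Let A be a Noetherian local ring that is complete, with residue field k, and let X₀ be a smooth
proper k-scheme of dimension one. Then there exist a smooth proper A-scheme X and an isomorphism of
k-schemes between X₀ and the closed fibre X ×_A k. -/
theorem result (A : Type u) [CommRing A] [IsLocalRing A] [IsNoetherianRing A]
    [IsAdicComplete (IsLocalRing.maximalIdeal A) A] {X₀ : Scheme.{u}}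
    (f₀ : X₀ ⟶ Spec (CommRingCat.of (IsLocalRing.ResidueField A))) [Smooth f₀] [IsProper f₀]
    (hdim : topologicalKrullDim X₀ = 1) :
    ∃ (X : Scheme.{u}) (f : X ⟶ Spec (CommRingCat.of A)) (_ : Smooth f) (_ : IsProper f)
      (e : X₀ ≅ pullback f (Spec.map (CommRingCat.ofHom (IsLocalRing.residue A)))),
      e.hom ≫ pullback.snd f _ = f₀ := by
  let 𝔪 := IsLocalRing.maximalIdeal A
  haveI : IsLocallyNoetherian X₀ := LocallyOfFiniteType.isLocallyNoetherian f₀
  haveI : CompactSpace X₀ := QuasiCompact.compactSpace_of_compactSpace f₀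
  haveI : AlgebraicGeometry.IsNoetherian X₀ := { }
  obtain ⟨P, -⟩ := Groth.Agent.H9CurveLift.exists_smSys_of_dim_one f₀ hdim
  let S := P.S
  let R := Spec.map (CommRingCat.ofHom (IsLocalRing.residue A))
  haveI : IsClosedImmersion R := IsClosedImmersion.spec_of_surjective _ IsLocalRing.residue_surjective
  haveI hp : IsProper (S.p 0) := by
    haveI : IsProper (S.p 0 ≫ CohB1.specQuot 𝔪 0) := by
      rw [show S.p 0 ≫ CohB1.specQuot 𝔪 0 = P.e.inv ≫ f₀ ≫ R from (Iso.eq_inv_comp _).2 P.e_str]
      infer_instance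
    exact IsProper.of_comp (S.p 0) (CohB1.specQuot 𝔪 0)
  haveI : X₀.IsSeparated := ⟨by
    rw [show terminal.from X₀ = f₀ ≫ terminal.from _ from Subsingleton.elim _ _]; infer_instance⟩
  haveI : (S.X 0).IsSeparated := ⟨by
    rw [show terminal.from (S.X 0) = P.e.inv ≫ terminal.from X₀ from Subsingleton.elim _ _]; infer_instance⟩
  haveI : CompactSpace (S.X 0) := QuasiCompact.compactSpace_of_compactSpace (S.p 0)
  haveI : IsLocallyNoetherian (S.X 0) := S.isLocallyNoetherian hp 0
  haveI : AlgebraicGeometry.IsNoetherian (S.X 0) := { }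
  have hd : topologicalKrullDim (S.X 0) ≤ ((1 : ℕ) : WithBot ℕ∞) := by
    rw [← IsHomeomorph.topologicalKrullDim_eq _ P.e.hom.homeomorph.isHomeomorph]
    exact_mod_cast hdim.le
  obtain ⟨L₀, hL₀⟩ := Groth.Agent.PicGlue.exists_isAmple_of_dim_le_one (X := S.X 0) (by exact_mod_cast hd)
  have h2 : Subsingleton (Coh.HH (S.X 0) (Coh.structureModule (S.X 0)) 2) :=
    Groth.Agent.Snapper.subsingleton_HH_of_dim_le (d := 1) hd
      (Groth.Agent.ProjUPX.isQCoh_of_isInvertible Groth.Agent.InvX.isInvertible_structureModule) one_lt_two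
  obtain ⟨L, hL, ⟨e0⟩, he⟩ := Groth.Agent.S11778.result A S.X S.p S.i S.cart
    (fun n => haveI := P.smooth n; inferInstance) h2 L₀ hL₀.1
  obtain ⟨Y, g, N, e, hg, -, -, hsq, -, -⟩ := Groth.Agent.H9Existence.exists_algebraization S hp L hL he
    (Groth.Agent.AmpleX.isAmple_of_iso e0.symm hL₀)
  haveI := hg
  have hsm := Groth.Agent.H9CurveLift.smooth_of_system S P.smooth g e hsq
  have hle : 𝔪 ^ (0 + 1) = 𝔪 := by rw [zero_add, pow_one]
  let τ : Spec (CommRingCat.of (IsLocalRing.ResidueField A)) ≅ Spec (CommRingCat.of (A ⧸ 𝔪 ^ (0 + 1))) :=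
    Scheme.Spec.mapIso (Ideal.quotEquivOfEq hle).toCommRingCatIso.op
  have hτ : τ.hom ≫ CohB1.specQuot 𝔪 0 = R := by
    show Spec.map _ ≫ Spec.map _ = _
    rw [← Spec.map_comp]
    rfl
  have h : IsPullback (P.e.hom ≫ e 0) f₀ g R := by
    refine (hsq 0).of_iso P.e.symm (Iso.refl _) τ.symm (Iso.refl _) (by simp) ?_ (by simp) ?_
    · rw [← cancel_mono R]
      show (S.p 0 ≫ τ.inv) ≫ R = (P.e.inv ≫ f₀) ≫ R
      rw [← hτ, Category.assoc, Iso.inv_hom_id_assoc, hτ, Category.assoc]
      exact (Iso.eq_inv_comp _).2 P.e_str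
    · simp only [Iso.refl_hom, Category.comp_id, Iso.symm_hom]
      rw [← hτ, Iso.inv_hom_id_assoc]
  exact ⟨Y, g, hsm, hg, h.isoPullback, h.isoPullback_hom_snd⟩

end Groth.Agent.S3708
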