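import Groth.Statements.S3719
import Groth.Agent.Big.HyperConn
import Groth.Agent.Pi1X.NormalCover

set_option autoImplicit false
universe u
open Pi1

attribute [-instance] CategoryTheory.catToReflQuiver

namespace Groth.Agent.S3719

open Groth.Agent Groth.Agent.H23.PicMul

open AlgebraicGeometry CategoryTheory CategoryTheory.Limits in
theorem connected_preimage (k : Type u) [Field k] {X : Scheme.{u}} [X.Over (Spec (CommRingCat.of k))]
    [IsProper (X ↘ Spec (CommRingCat.of k))] [IsIntegral X] (hN : Pi1.IsNormalScheme X) {r : ℕ}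
    (g : X ⟶ CohB1.ProjSpace r k) (hg : g ≫ CohB1.ProjSpace.toSpec r k = X ↘ Spec (CommRingCat.of k))
    (hdim : (2 : WithBot ℕ∞) ≤ topologicalKrullDim ↥(closure (Set.range g)))
    (ℓ : MvPolynomial (Fin (r + 1)) k) (hℓ : ℓ ∈ CohB1.polyGrading r k 1) {W : Scheme.{u}} (c : W ⟶ X)
    [IsFinite c] [Etale c] [ConnectedSpace W] :
    _root_.IsConnected (((c ≫ g) ⁻¹ᵁ Proj.basicOpen (CohB1.polyGrading r k) ℓ : W.Opens) : Set W)ᶜ := by
  haveI := Groth.Agent.Pi1X.isIntegral_of_connected hN c
  letI : W.Over (Spec (CommRingCat.of k)) := ⟨c ≫ (X ↘ Spec (CommRingCat.of k))⟩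
  haveI : IsProper (W ↘ Spec (CommRingCat.of k)) := inferInstanceAs (IsProper (c ≫ (X ↘ Spec (CommRingCat.of k))))
  have hsurj : Function.Surjective c := fun x =>
    (IsClopen.eq_univ (s := Set.range c) ⟨c.isClosedMap.isClosed_range, c.isOpenMap.isOpen_range⟩
      (Set.range_nonempty _)).ge (Set.mem_univ x)
  refine Groth.Agent.Big.isConnected_preimage_hyperplane k (c ≫ g) ?_ ?_ ℓ hℓ
  · rw [Category.assoc, hg]; rfl
  · rwa [show Set.range (c ≫ g) = Set.range g from
      (congrArg Set.range (funext fun v => Scheme.Hom.comp_apply c g v)).trans (hsurj.range_comp g)]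

open AlgebraicGeometry CategoryTheory CategoryTheory.Limits in
/-- Let k be algebraically closed, X a proper, irreducible, normal k-scheme, g : X -> P^r_k a k-morphism
whose image has closure of dimension at least 2, H the hyperplane where a nonzero linear form ℓ
vanishes, and X' a connected finite etale cover of X. Then the inverse image of H in X' is
connected. (For X' = X this is the connectedness of the hyperplane section Y = g⁻¹(H), and the
general case is the surjectivity of the fundamental group of Y onto that of X.) -/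
theorem result (k : Type u) [Field k] [IsAlgClosed k] (X : Scheme.{u})
    [X.Over (Spec (CommRingCat.of k))] [IsProper (X ↘ Spec (CommRingCat.of k))] [IrreducibleSpace X]
    (hN : Pi1.IsNormalScheme X) (r : ℕ) (g : X ⟶ CohB1.ProjSpace r k)
    (hg : g ≫ CohB1.ProjSpace.toSpec r k = X ↘ Spec (CommRingCat.of k))
    (hdim : 2 ≤ topologicalKrullDim ↥(closure (Set.range g.base)))
    (ℓ : MvPolynomial (Fin (r + 1)) k) (hℓ : ℓ ∈ CohB1.polyGrading r k 1) (hℓ0 : ℓ ≠ 0)
    (X' : FEt.Cat X) [ConnectedSpace X'.left] :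
    IsConnected (((X'.hom ≫ g).base ⁻¹' (Proj.basicOpen (CohB1.polyGrading r k) ℓ).carrier)ᶜ) := by
  haveI : ∀ x : X, _root_.IsReduced (X.presheaf.stalk x) := fun x => by
    haveI := (hN x).1
    infer_instance
  haveI : IsReduced X := isReduced_of_isReduced_stalk X
  haveI : IsIntegral X := isIntegral_of_irreducibleSpace_of_isReduced X
  exact @connected_preimage k _ X _ _ _ hN r g hg hdim ℓ hℓ X'.left X'.hom X'.prop.1 X'.prop.2 ‹_›

end Groth.Agent.S3719
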