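import Groth.Statements.S3720
import Groth.Agent.GalCover.Scheme
import Groth.Agent.GalCover.Kummer
import Mathlib.RingTheory.RootsOfUnity.PrimitiveRoots
import Mathlib.Algebra.MvPolynomial.Equiv

set_option linter.style.haveILetI false
set_option backward.isDefEq.respectTransparency false
set_option backward.isDefEq.respectTransparency.types false


set_option autoImplicit false
open CategoryTheory CategoryTheory.Limits AlgebraicGeometry
universe u
open SGA1t


namespace Groth.Agent.S3720

/-- Kummer theory over a local ring: let A be a local ring, n ≥ 1 an integer invertible in A, and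
suppose A contains a primitive n-th root of unity (so that the group μ_n(A) of n-th roots of unity
in A is cyclic of order n). Then every principal μ_n(A)-cover P of Spec A is isomorphic over Spec A
to a Kummer cover Spec A[T]/(Tⁿ − a) for some unit a of A, compatibly with the actions: the given
action of a root of unity ζ on P corresponds to the automorphism of A[T]/(Tⁿ − a) induced by T ↦ ζT. -/
theorem result (A : Type u) [CommRing A] [IsLocalRing A] (n : ℕ) (hn1 : 1 ≤ n)
    (hn : IsUnit ((n : ℕ) : A)) (ζ₀ : A) (hζ₀ : IsPrimitiveRoot ζ₀ n)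
    (P : FEt.Cat (Spec (CommRingCat.of A))) (ρ : ↥(rootsOfUnity n A) →* Aut P)
    (hP : SGA1t.IsPrincipal ↥(rootsOfUnity n A) P ρ) :
    ∃ (a : Aˣ) (e : P.left ≅ Spec (CommRingCat.of (SGA1t.kummer A (fun _ : Unit => (a : A)) (fun _ => n)))),
      e.hom ≫ Spec.map (CommRingCat.ofHom (algebraMap A (SGA1t.kummer A (fun _ : Unit => (a : A)) (fun _ => n)))) = P.hom ∧
      ∀ ζ : ↥(rootsOfUnity n A), (ρ ζ).hom.left ≫ e.hom =
        e.hom ≫ Spec.map (CommRingCat.ofHom (SGA1t.kummerTwist A (fun _ : Unit => (a : A)) (fun _ => n) (fun _ => ζ))) := by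
  classical
  haveI : NeZero n := ⟨by omega⟩
  haveI : Nontrivial A := IsLocalRing.toNontrivial
  let k := IsLocalRing.ResidueField A
  let r := IsLocalRing.residue A
  let G := ↥(rootsOfUnity n A)
  let ι : G → A := fun ζ => ((ζ : Aˣ) : A)
  have hιpow : ∀ ζ : G, ι ζ ^ n = 1 := fun ζ => by
    have := congrArg Units.val ((mem_rootsOfUnity n (ζ : Aˣ)).1 ζ.2)
    simpa [ι] using this
  let toK : G → rootsOfUnity n k := fun ζ => ⟨Units.map (r : A →* k) (ζ : Aˣ), by
    rw [mem_rootsOfUnity, ← map_pow, (mem_rootsOfUnity n (ζ : Aˣ)).1 ζ.2, map_one]⟩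
  have hres : ∀ ζ ζ' : G, r (ι ζ) = r (ι ζ') → ζ = ζ' := by
    intro ζ ζ' h
    let u : A := ι (ζ * ζ'⁻¹)
    have hmul : u * ι ζ' = ι ζ := by
      show ((((ζ * ζ'⁻¹ : G) : Aˣ) : A)) * ((ζ' : Aˣ) : A) = _
      rw [← Units.val_mul, ← Subgroup.coe_mul, inv_mul_cancel_right]
    have hu : r u = 1 := by
      have h0 : r (ι ζ') ≠ 0 := (((ζ' : Aˣ).isUnit.map r)).ne_zero
      refine mul_right_cancel₀ h0 ?_
      rw [one_mul, ← map_mul, hmul, h]
    have hsum : IsUnit (∑ i ∈ Finset.range n, u ^ i) := by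
      rw [← IsLocalRing.residue_ne_zero_iff_isUnit]
      show r _ ≠ 0
      rw [map_sum]
      simp only [map_pow, hu, one_pow, Finset.sum_const, Finset.card_range, nsmul_one]
      rw [← map_natCast r]
      exact ((hn.map r)).ne_zero
    have h2 := geom_sum_mul u n
    rw [hιpow, sub_self] at h2
    have hu1 : u = 1 := sub_eq_zero.1 ((hsum.mul_right_eq_zero).1 h2)
    apply Subtype.ext
    apply Units.ext
    show ι ζ = ι ζ'
    rw [← hmul, hu1, one_mul]
  have htoK : Function.Injective toK := fun ζ ζ' h =>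
    hres ζ ζ' (congrArg (fun x : rootsOfUnity n k => ((x : kˣ) : k)) h)
  haveI : Finite G := Finite.of_injective toK htoK
  haveI : Fintype G := Fintype.ofFinite G
  have hcard : Fintype.card G = n := by
    refine le_antisymm ?_ ?_
    · rw [Fintype.card_eq_nat_card]
      exact (Nat.card_le_card_of_injective toK htoK).trans (card_rootsOfUnity k n)
    let g₀ : G := hζ₀.toRootsOfUnity
    have hg₀ : orderOf g₀ = n := by
      rw [← Subgroup.orderOf_coe, ← orderOf_units]
      exact hζ₀.eq_orderOf.symm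
    calc n = orderOf g₀ := hg₀.symm
      _ ≤ Fintype.card G := orderOf_le_card_univ
  have hbase : (Polynomial.X ^ n - 1 : Polynomial A) = ∏ g : G, (Polynomial.X - Polynomial.C (ι g)) := by
    have hm : (Polynomial.X ^ n - 1 : Polynomial A).Monic := Polynomial.monic_X_pow_sub_C 1 (by omega)
    refine Polynomial.eq_of_monic_of_dvd_of_natDegree_le
      (Polynomial.monic_prod_of_monic _ _ fun g _ => Polynomial.monic_X_sub_C _) hm ?_ ?_
    · refine Fintype.prod_dvd_of_coprime ?_ fun g => ?_
      · intro g g' hgg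
        refine Polynomial.isCoprime_X_sub_C_of_isUnit_sub ?_
        rw [← IsLocalRing.residue_ne_zero_iff_isUnit]
        show r _ ≠ 0
        rw [map_sub, sub_ne_zero]
        exact fun h => hgg (hres _ _ h)
      · rw [Polynomial.dvd_iff_isRoot]
        simp [hιpow]
    · rw [Polynomial.natDegree_prod_of_monic _ _ fun g _ => Polynomial.monic_X_sub_C _]
      simp only [Polynomial.natDegree_X_sub_C, Finset.sum_const, Finset.card_univ, smul_eq_mul, mul_one, hcard]
      rw [show (1 : Polynomial A) = Polynomial.C 1 from Polynomial.C_1.symm, Polynomial.natDegree_X_pow_sub_C]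
  obtain ⟨B, _, _, _, _, hB, e, he, hact⟩ := Groth.Agent.GalCover.exists_model A G P ρ hP
  let ιh : G →* A := (Units.coeHom A).comp (rootsOfUnity n A).subtype
  obtain ⟨a, θ, hθ, hkerev, hsurj⟩ := Groth.Agent.GalCover.exists_kummer_gen hB n hn1 hn ιh hcard hιpow hbase
  let f : Polynomial A := Polynomial.X ^ n - Polynomial.C (a : A)
  let eP : MvPolynomial Unit A ≃ₐ[A] Polynomial A := MvPolynomial.pUnitAlgEquiv A
  have heX : eP (MvPolynomial.X ()) = Polynomial.X := by simp [eP]
  have hgen : eP ((MvPolynomial.X () : MvPolynomial Unit A) ^ n - MvPolynomial.C (a : A)) =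
      Polynomial.X ^ n - Polynomial.C (a : A) := by
    rw [map_sub, map_pow, heX, ← MvPolynomial.algebraMap_eq, AlgEquiv.commutes]
    rfl
  let ev : MvPolynomial Unit A →ₐ[A] B := (Polynomial.aeval θ).comp eP.toAlgHom
  let φ : SGA1t.kummer A (fun _ : Unit => (a : A)) (fun _ => n) →ₐ[A] B :=
    Ideal.Quotient.liftₐ _ ev fun H hH => by
      refine Submodule.span_induction ?_ ?_ ?_ ?_ hH
      · rintro _ ⟨⟨⟩, rfl⟩
        show Polynomial.aeval θ (eP _) = 0
        rw [hgen]
        exact (hkerev f).2 dvd_rfl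
      · exact map_zero ev
      · intro x y _ _ hx hy; rw [map_add, hx, hy, add_zero]
      · intro x y _ hy; rw [smul_eq_mul, map_mul, hy, mul_zero]
  have hφ : Function.Bijective φ := by
    refine ⟨(injective_iff_map_eq_zero φ).2 fun z hz => ?_, fun s => ?_⟩
    · obtain ⟨H, rfl⟩ := Ideal.Quotient.mk_surjective z
      obtain ⟨T, hT⟩ := (hkerev (eP H)).1 hz
      refine Ideal.Quotient.eq_zero_iff_mem.2 ?_
      rw [← eP.symm_apply_apply H, hT, map_mul, ← hgen, AlgEquiv.symm_apply_apply]
      exact Ideal.mul_mem_right _ _ (Ideal.subset_span ⟨(), rfl⟩)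
    · obtain ⟨H, hH⟩ := hsurj s
      refine ⟨Ideal.Quotient.mk _ (eP.symm H), ?_⟩
      show Polynomial.aeval θ (eP (eP.symm H)) = s
      rw [AlgEquiv.apply_symm_apply]
      exact hH
  let E := AlgEquiv.ofBijective φ hφ
  let eS : Spec (CommRingCat.of B) ≅ Spec (CommRingCat.of (SGA1t.kummer A (fun _ : Unit => (a : A)) (fun _ => n))) :=
    Scheme.Spec.mapIso E.toRingEquiv.toCommRingCatIso.op
  refine ⟨a, e ≪≫ eS, ?_, fun ζ => ?_⟩
  · rw [Iso.trans_hom, Category.assoc, ← he]
    congr 1
    show Spec.map _ ≫ Spec.map _ = _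
    rw [← Spec.map_comp]
    exact congrArg Spec.map (CommRingCat.hom_ext (RingHom.ext fun x => E.commutes x))
  · rw [Iso.trans_hom, ← Category.assoc, hact, Category.assoc, Category.assoc]
    congr 1
    show Spec.map _ ≫ Spec.map _ = Spec.map _ ≫ Spec.map _
    rw [← Spec.map_comp, ← Spec.map_comp]
    refine congrArg Spec.map (CommRingCat.hom_ext (Ideal.Quotient.ringHom_ext (MvPolynomial.ringHom_ext
      (fun x => ?_) (fun i => ?_))))
    · show (MulSemiringAction.toRingHom G B ζ⁻¹) (φ (Ideal.Quotient.mk _ (MvPolynomial.C x))) =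
        φ (SGA1t.kummerTwist A _ _ (fun _ => ζ) (Ideal.Quotient.mk _ (MvPolynomial.C x)))
      simp [φ, ev, SGA1t.kummerTwist, eP, smul_algebraMap]
    · show (MulSemiringAction.toRingHom G B ζ⁻¹) (φ (Ideal.Quotient.mk _ (MvPolynomial.X i))) =
        φ (SGA1t.kummerTwist A _ _ (fun _ => ζ) (Ideal.Quotient.mk _ (MvPolynomial.X i)))
      simp [φ, ev, SGA1t.kummerTwist, eP, hθ, ιh]
      rw [Subgroup.subtype_apply, Subgroup.coe_inv, inv_inv]
end Groth.Agent.S3720
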