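import Groth.Statements.S3721
import Groth.Agent.GalCover.Scheme
import Mathlib.FieldTheory.Finite.Basic

set_option linter.style.haveILetI false
set_option backward.isDefEq.respectTransparency false
set_option backward.isDefEq.respectTransparency.types false


set_option autoImplicit false
open CategoryTheory CategoryTheory.Limits AlgebraicGeometry
universe u
open SGA1t


namespace Groth.Agent.S3721

/-- Let p be a prime and A a commutative ring of characteristic p. Then every principal ℤ/p-cover P of
Spec A (a finite étale cover with an action of ℤ/p making it a torsor) is isomorphic over Spec A to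
an Artin–Schreier cover Spec A[T]/(T^p − T − a) for some a ∈ A, compatibly with the actions: under
the isomorphism the given action of j ∈ ℤ/p on P corresponds to the automorphism of the
Artin–Schreier cover induced by T ↦ T + j. The published statement is for any base S of
characteristic p on which Frobenius fixes no nonzero element of H¹(S, O_S); it is stated here for S
= Spec A affine. -/
theorem result (A : Type u) [CommRing A] (p : ℕ) [Fact p.Prime] [CharP A p]
    (P : FEt.Cat (Spec (CommRingCat.of A))) (ρ : Multiplicative (ZMod p) →* Aut P)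
    (hP : SGA1t.IsPrincipal (Multiplicative (ZMod p)) P ρ) :
    ∃ (a : A) (e : P.left ≅ Spec (CommRingCat.of (SGA1t.artinSchreier A p a))),
      e.hom ≫ Spec.map (CommRingCat.ofHom (algebraMap A (SGA1t.artinSchreier A p a))) = P.hom ∧
      ∀ j : ZMod p, (ρ (Multiplicative.ofAdd j)).hom.left ≫ e.hom =
        e.hom ≫ Spec.map (CommRingCat.ofHom (SGA1t.artinSchreierShift A p a j)) := by
  classical
  obtain ⟨B, _, _, _, _, hB, e, he, hact⟩ := Groth.Agent.GalCover.exists_model A _ P ρ hP
  haveI : Fact (1 < p) := ⟨(Fact.out : p.Prime).one_lt⟩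
  obtain ⟨b₀, hb₀⟩ := Groth.Agent.GalCover.exists_sum_smul_eq_one hB
  have hinj := Groth.Agent.GalCover.algebraMap_injective hB
  haveI : CharP B p := charP_of_injective_algebraMap hinj p
  let F : ZMod p →+* B := (algebraMap A B).comp (ZMod.castHom (dvd_refl p) A)
  have hF : ∀ (g : Multiplicative (ZMod p)) (j : ZMod p), g • F j = F j := fun g j => smul_algebraMap g _
  let θ : B := ∑ g : Multiplicative (ZMod p), F g.toAdd * g • b₀
  have hθ : ∀ g : Multiplicative (ZMod p), g • θ = θ - F g.toAdd := by
    intro g
    rw [Finset.smul_sum, ← mul_one (F g.toAdd), ← hb₀, Finset.mul_sum]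
    have h1 : ∀ k : Multiplicative (ZMod p), g • (F k.toAdd * k • b₀) =
        F (g * k).toAdd * (g * k) • b₀ - F g.toAdd * (g * k) • b₀ := by
      intro k
      rw [smul_mul', hF, ← mul_smul, toAdd_mul, map_add]
      ring
    rw [Finset.sum_congr rfl fun k _ => h1 k, Finset.sum_sub_distrib,
      Fintype.sum_equiv (Equiv.mulLeft g) (fun k => F (g * k).toAdd * (g * k) • b₀)
        (fun k => F k.toAdd * k • b₀) (fun k => rfl),
      Fintype.sum_equiv (Equiv.mulLeft g) (fun k => F g.toAdd * (g * k) • b₀)
        (fun k => F g.toAdd * k • b₀) (fun k => rfl)]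
  have hFp : ∀ j, F j ^ p = F j := fun j => by rw [← map_pow, ZMod.pow_card]
  obtain ⟨a, ha⟩ := Groth.Agent.GalCover.exists_algebraMap_eq hB (z := θ ^ p - θ) fun g => by
    rw [smul_sub, smul_pow', hθ, sub_pow_char, hFp]
    ring
  let f : Polynomial A := Polynomial.X ^ p - Polynomial.X - Polynomial.C a
  have hp1 : 1 < p := Fact.out
  have hfm : f.Monic := by
    rw [show f = Polynomial.X ^ p - (Polynomial.X + Polynomial.C a) from sub_sub _ _ _]
    haveI : Nontrivial A := CharP.nontrivial_of_char_ne_one (R := A) (v := p) (by omega)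
    exact Polynomial.monic_X_pow_sub (by rw [Polynomial.degree_X_add_C]; exact_mod_cast hp1)
  have hbase : (Polynomial.X ^ p - Polynomial.X : Polynomial (ZMod p)) =
      ∏ j : ZMod p, (Polynomial.X - Polynomial.C j) := by
    have hsplit : (Polynomial.X ^ Fintype.card (ZMod p) - Polynomial.X : Polynomial (ZMod p)).roots =
        Finset.univ.val := FiniteField.roots_X_pow_card_sub_X (ZMod p)
    rw [ZMod.card] at hsplit
    have hm : (Polynomial.X ^ p - Polynomial.X : Polynomial (ZMod p)).Monic :=
      Polynomial.monic_X_pow_sub (by rw [Polynomial.degree_X]; exact_mod_cast hp1)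
    have h2 := Polynomial.prod_multiset_X_sub_C_of_monic_of_roots_card_eq hm (by
      rw [hsplit, FiniteField.X_pow_card_sub_X_natDegree_eq (ZMod p) hp1]
      simp)
    rw [hsplit] at h2
    exact h2.symm
  have hprod : f.map (algebraMap A B) =
      ∏ g : Multiplicative (ZMod p), (Polynomial.X - Polynomial.C (g • θ)) := by
    have h1 := congrArg (fun q => (q.map F).comp (Polynomial.X - Polynomial.C θ)) hbase
    simp only [Polynomial.map_sub, Polynomial.map_pow, Polynomial.map_X, Polynomial.map_prod,
      Polynomial.map_C, Polynomial.sub_comp, Polynomial.pow_comp, Polynomial.X_comp, Polynomial.prod_comp,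
      Polynomial.C_comp] at h1
    rw [sub_pow_char, ← Polynomial.C_pow] at h1
    have h2 : f.map (algebraMap A B) = Polynomial.X ^ p - Polynomial.C (θ ^ p) - (Polynomial.X - Polynomial.C θ) := by
      simp only [f, Polynomial.map_sub, Polynomial.map_pow, Polynomial.map_X, Polynomial.map_C, ha, map_sub]
      ring
    rw [h2, h1]
    refine Fintype.prod_equiv ((Equiv.neg (ZMod p)).trans Multiplicative.ofAdd) _ _ fun j => ?_
    rw [hθ]
    simp only [Equiv.trans_apply, Equiv.neg_apply, toAdd_ofAdd, map_sub, map_neg]
    ring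
  have hder : Polynomial.derivative f = -1 := by
    simp [f, Polynomial.derivative_X_pow, CharP.cast_eq_zero]
  obtain ⟨hker, hsurj⟩ := Groth.Agent.GalCover.bijective_aeval hB θ f hfm hprod
    (by rw [hder]; simp) (fun H hH => by rw [hder] at hH; simpa using hH)
  let φ : SGA1t.artinSchreier A p a →ₐ[A] B :=
    Ideal.Quotient.liftₐ _ (Polynomial.aeval θ) fun H hH => (hker H).2 (Ideal.mem_span_singleton.1 hH)
  have hφ : Function.Bijective φ := by
    refine ⟨(injective_iff_map_eq_zero φ).2 fun z hz => ?_, fun s => ?_⟩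
    · obtain ⟨H, rfl⟩ := Ideal.Quotient.mk_surjective z
      exact Ideal.Quotient.eq_zero_iff_mem.2 (Ideal.mem_span_singleton.2 ((hker H).1 hz))
    · obtain ⟨H, hH⟩ := hsurj s
      exact ⟨Ideal.Quotient.mk _ H, hH⟩
  let E : SGA1t.artinSchreier A p a ≃ₐ[A] B := AlgEquiv.ofBijective φ hφ
  let eS : Spec (CommRingCat.of B) ≅ Spec (CommRingCat.of (SGA1t.artinSchreier A p a)) :=
    Scheme.Spec.mapIso E.toRingEquiv.toCommRingCatIso.op
  refine ⟨a, e ≪≫ eS, ?_, fun j => ?_⟩
  · rw [Iso.trans_hom, Category.assoc, ← he]
    congr 1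
    show Spec.map _ ≫ Spec.map _ = _
    rw [← Spec.map_comp]
    exact congrArg Spec.map (CommRingCat.hom_ext (RingHom.ext fun x => E.commutes x))
  · rw [Iso.trans_hom, ← Category.assoc, hact, Category.assoc, Category.assoc]
    congr 1
    show Spec.map _ ≫ Spec.map _ = Spec.map _ ≫ Spec.map _
    rw [← Spec.map_comp, ← Spec.map_comp]
    refine congrArg Spec.map (CommRingCat.hom_ext (Ideal.Quotient.ringHom_ext (Polynomial.ringHom_ext
      (fun x => ?_) ?_)))
    · show (Multiplicative.ofAdd j)⁻¹ • φ (Ideal.Quotient.mk _ (Polynomial.C x)) =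
        φ (SGA1t.artinSchreierShift A p a j (Ideal.Quotient.mk _ (Polynomial.C x)))
      simp [φ, SGA1t.artinSchreierShift, smul_algebraMap]
    · show (Multiplicative.ofAdd j)⁻¹ • φ (Ideal.Quotient.mk _ Polynomial.X) =
        φ (SGA1t.artinSchreierShift A p a j (Ideal.Quotient.mk _ Polynomial.X))
      simp [φ, SGA1t.artinSchreierShift, hθ, F]
end Groth.Agent.S3721
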