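import Groth.Statements.S3776
import Groth.Agent.KRRReg.GammaPush
import Groth.Agent.ExtPowSh.Twist
import Groth.Agent.ProjUPX.Affine

set_option linter.style.haveILetI false
set_option backward.isDefEq.respectTransparency false
set_option backward.isDefEq.respectTransparency.types false
set_option maxHeartbeats 1000000
set_option autoImplicit false
universe v u
open CategoryTheory CategoryTheory.Limits AlgebraicGeometry
attribute [local instance] HasDerivedCategory.standard
open KRR

namespace Groth.Agent.S3776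

/-- For the trivial bundle of rank n+1: let Y be a connected Noetherian scheme and p : P^n_Y ⟶ Y. With
models and p_K the push-forward: p_K(F^k K(P^n_Y)) ⊆ F^{k-n} K(Y) for all k (γ-filtrations; F^m = K
for m ≤ 0). No tensoring with ℚ is needed here. -/
theorem result (n : ℕ) (Y : Scheme.{u}) [IsNoetherian Y] [ConnectedSpace ↥Y]
    (KP : Type v) [CommRing KP] [LambdaRing.LambdaOps KP] (PP : LambdaRing.PosStructure KP) (φP : SGA6.Kvb (KRR.PY n Y) →+ KP) (hKP : KRR.IsModel (KRR.PY n Y) KP PP φP)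
    (KY : Type v) [CommRing KY] [LambdaRing.LambdaOps KY] (PY : LambdaRing.PosStructure KY) (φY : SGA6.Kvb Y →+ KY) (hKY : KRR.IsModel Y KY PY φY)
    (g : KP →+ KY) (hg : KRR.IsPushPr n Y φP φY g) (k : ℕ) (x : KP) (hx : x ∈ LambdaRing.gammaFiltration PP k) :
    g x ∈ LambdaRing.gammaFiltration PY (k - n) := by
  refine Groth.Agent.KRRReg.push_gamma_mem hKP hKY hg (fun E m j hE => ?_) k hx
  rw [← Groth.Agent.KRRReg.phi_Ot_pow hKP]
  have hinv : PicF.IsInvertible (Groth.Agent.KRRReg.Ot n Y (m : ℤ)) :=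
    Groth.Agent.H23.PicMul.isInvertible_of_iso (Groth.Agent.KRRReg.twF_structure_iso Y (m : ℤ)).some.symm
      (Groth.Agent.PicClLib.isInvertible_pullback _ (Groth.Agent.TwistFlat.isInvertible_twistProjSpace n m))
  have hpow : ∀ i : ℕ, φP (KRR.cl _ (CohB1.tensorPow (Groth.Agent.KRRReg.Ot n Y (m : ℤ)) i)) =
      φP (KRR.cl _ (Groth.Agent.KRRReg.Ot n Y (m : ℤ))) ^ i := fun i => by
    induction i with
    | zero => rw [pow_zero]; exact hKP.map_one
    | succ i ih =>
      rw [pow_succ, ← ih, hKP.map_mul _ _ (Groth.Agent.KRRReg.isFinLocFree_tensorPow hinv i)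
        (Groth.Agent.H23.PullPush.isFinLocFree_of_isInvertible hinv)]
      rfl
  have hLf := Groth.Agent.H23.PullPush.isFinLocFree_of_isInvertible hinv
  have hP : FlatMod.IsFinLocFree ((Scheme.Modules.pullback (KRR.pr n Y)).obj E) :=
    Groth.Agent.KFlatLib.isFinLocFree_pullback _ hE
  have hPq := Groth.Agent.QCoh.isQCoh_of_isFinLocFree hP
  have hT := Groth.Agent.KFlatLib.isFinLocFree_tensor hP hLf
  obtain ⟨b⟩ := Groth.Agent.ExtPowSh.nonempty_twist_iso _ j hPq hinv
  rw [hKP.map_mul _ _ hP hLf, hKP.map_lam j _ _ hT (Groth.Agent.ExtPowSh.isFinLocFree hT)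
      (Groth.Agent.ExtPowSh.isExtPow _ j (Groth.Agent.QCoh.isQCoh_of_isFinLocFree hT)),
    hKP.map_lam j _ _ hP (Groth.Agent.ExtPowSh.isFinLocFree hP) (Groth.Agent.ExtPowSh.isExtPow _ j hPq),
    ← hpow, hKP.map_mul _ _ (Groth.Agent.ExtPowSh.isFinLocFree hP)
      (Groth.Agent.KRRReg.isFinLocFree_tensorPow hinv j)]
  exact congrArg φP (Groth.Agent.KRRReg.cl_iso b (Groth.Agent.ExtPowSh.isFinLocFree hT))

end Groth.Agent.S3776
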