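import Groth.Statements.S3783
import Groth.Agent.KRRReg.LamPull
import Groth.Agent.S3572
import Groth.Agent.CurveEmbed.Conic

set_option linter.style.haveILetI false
set_option backward.isDefEq.respectTransparency false
set_option backward.isDefEq.respectTransparency.types false
set_option autoImplicit false
universe v u
open CategoryTheory CategoryTheory.Limits AlgebraicGeometry
attribute [local instance] HasDerivedCategory.standard
open KRR

namespace Groth.Agent.S3783

/-- For P = P^n_Y: let Y be a connected Noetherian scheme, p : P^n_Y ⟶ Y, with models of K(P), K(Y)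
having the splitting property and q = p^K the pull-back. Then for every k, an element y ∈ K(Y) lies
in F^k K(Y) if and only if p^K y lies in F^k K(P) (γ-filtrations). -/
theorem result (n : ℕ) (Y : Scheme.{u}) [IsNoetherian Y] [ConnectedSpace ↥Y]
    (KP : Type v) [CommRing KP] [LambdaRing.LambdaOps KP] (PP : LambdaRing.PosStructure KP) (φP : SGA6.Kvb (KRR.PY n Y) →+ KP) (hKP : KRR.IsModel (KRR.PY n Y) KP PP φP) (hsP : LambdaRing.HasSplitting KP PP)
    (KY : Type v) [CommRing KY] [LambdaRing.LambdaOps KY] (PY : LambdaRing.PosStructure KY) (φY : SGA6.Kvb Y →+ KY) (hKY : KRR.IsModel Y KY PY φY) (hsY : LambdaRing.HasSplitting KY PY)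
    (q : KY →+ KP) (hq : KRR.IsPull (KRR.pr n Y) φY φP q) (k : ℕ) :
    (LambdaRing.gammaFiltration PP k).comap q = LambdaRing.gammaFiltration PY k := by
  open Groth.Agent in
  obtain ⟨r, hr, -⟩ := S3572.result n (R := ULift.{u} ℤ) (𝟙 (Spec (CommRingCat.of (ULift.{u} ℤ)))) (Coh.structureModule _)
    InvX.isInvertible_structureModule (fun _ => (1 : Γ(Spec (CommRingCat.of (ULift.{u} ℤ)), ⊤)))
    (AVAmple.generatedBy_of_locus _ fun x => ⟨0,
      (H23.TrivBasic.locus_eq_top_iff.2 (InvX.isFrame_one ⊤)).ge trivial⟩)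
  let s : Y ⟶ KRR.PY n Y := pullback.lift (specULiftZIsTerminal.from Y ≫ r) (𝟙 Y)
    (by rw [Category.assoc, hr, Category.comp_id, Category.id_comp])
  have hs : s ≫ KRR.pr n Y = 𝟙 Y := pullback.lift_snd _ _ _
  obtain ⟨x₀⟩ := (inferInstance : Nonempty ↥Y)
  haveI : Nonempty ↥(KRR.PY n Y) := ⟨s x₀⟩
  obtain ⟨t, ht, -⟩ := Groth.Agent.KRRReg.existsUnique_isPull s φY hKP.bijective
  have htq : ∀ y, t (q y) = y := fun y => by
    refine DFunLike.congr_fun (Groth.Agent.KRRReg.hom_ext_model hKY (a := t.comp q) (b := AddMonoidHom.id KY)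
      fun E hE => ?_) y
    show t (q (φY (KRR.cl Y E))) = φY (KRR.cl Y E)
    rw [hq E hE, ht _ (Groth.Agent.KFlatLib.isFinLocFree_pullback _ hE)]
    exact congrArg φY (Groth.Agent.KRRReg.cl_iso ((Scheme.Modules.pullbackComp s (KRR.pr n Y)).app E ≪≫
      (Scheme.Modules.pullbackCongr hs).app E ≪≫ (Scheme.Modules.pullbackId Y).app E)
      (Groth.Agent.KFlatLib.isFinLocFree_pullback _ (Groth.Agent.KFlatLib.isFinLocFree_pullback _ hE)))
  ext y
  refine ⟨fun hy => ?_, fun hy => ?_⟩
  · have h := Groth.Agent.KRRReg.map_gammaFiltration (Groth.Agent.KRRReg.pullRingHom hKY hKP ht)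
      (Groth.Agent.KRRReg.pull_lam hKY hKP ht) (Groth.Agent.KRRReg.pull_aug hKY hKP ht) k hy
    rwa [show Groth.Agent.KRRReg.pullRingHom hKY hKP ht (q y) = y from htq y] at h
  · exact Groth.Agent.KRRReg.map_gammaFiltration (Groth.Agent.KRRReg.pullRingHom hKP hKY hq)
      (Groth.Agent.KRRReg.pull_lam hKP hKY hq) (Groth.Agent.KRRReg.pull_aug hKP hKY hq) k hy

end Groth.Agent.S3783
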