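import Groth.Statements.S3822
import Groth.Agent.PPLib.SmoothBaseChange
import Groth.Agent.AzumayaX.Descent
import Mathlib

set_option autoImplicit false
universe u
open scoped TensorProduct
open PP16

namespace Groth.Agent.S3822

/-- Let B be an A-algebra, A → A' a faithfully flat ring map and B' = B ⊗_A A'. If B' is differentially
smooth over A' and its module of differentials is finitely generated, then B is differentially
smooth over A and its module of differentials is finitely generated. -/
theorem result (A B A' B' : Type u) [CommRing A] [CommRing B] [Algebra A B]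
    [CommRing A'] [CommRing B'] [Algebra A' B'] [Algebra A A'] [Algebra B B'] [Algebra A B']
    [IsScalarTower A A' B'] [IsScalarTower A B B'] [Algebra.IsPushout A B A' B'] [Module.FaithfullyFlat A A']
    (h : PP16.IsDiffSmooth A' B') (hfin : Module.Finite B' (KaehlerDifferential A' B')) :
    PP16.IsDiffSmooth A B ∧ Module.Finite B (KaehlerDifferential A B) := by
  classical
  haveI : Module.FaithfullyFlat B B' :=
    Module.FaithfullyFlat.of_linearEquiv B (B ⊗[A] A') (Algebra.IsPushout.equiv A B A' B').symm.toLinearEquiv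
  haveI : Algebra.IsPushout A A' B B' := Algebra.IsPushout.symm inferInstance
  let e := KaehlerDifferential.tensorKaehlerEquiv A A' B B'
  haveI := h.1
  haveI : Module.Finite B' (B' ⊗[B] KaehlerDifferential A B) := Module.Finite.equiv e.symm
  haveI : Module.Projective B' (B' ⊗[B] KaehlerDifferential A B) := Module.Projective.of_equiv e.symm
  haveI hF : Module.Finite B (KaehlerDifferential A B) := Module.Finite.of_finite_tensorProduct_of_faithfullyFlat B'
  haveI hP : Module.Projective B (KaehlerDifferential A B) := AzumayaX.projective_descent B' _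
  refine ⟨⟨hP, fun ι _ => ⟨PPLib.phi A B, PPLib.phi_tprod_D A B, ?_, PPLib.phi_surjective A B⟩⟩, hF⟩
  obtain ⟨s, hs⟩ := Module.projective_def'.1 hP
  let σ := KaehlerDifferential A B
  let eσ : B' ⊗[B] (σ →₀ B) ≃ₗ[B'] (σ →₀ B') := TensorProduct.finsuppScalarRight B B' B' σ
  let j' : KaehlerDifferential A' B' →ₗ[B'] σ →₀ B' := eσ.toLinearMap ∘ₗ s.baseChange B' ∘ₗ e.symm.toLinearMap
  have hj' : ∀ b : B, j' (KaehlerDifferential.D A' B' (algebraMap B B' b)) =
      (s (KaehlerDifferential.D A B b)).mapRange (algebraMap B B') (map_zero _) := by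
    intro b
    have he : e ((1 : B') ⊗ₜ[B] KaehlerDifferential.D A B b) =
        KaehlerDifferential.D A' B' (algebraMap B B' b) := by simp [e]
    rw [← he]
    simp only [j', LinearMap.comp_apply, LinearEquiv.coe_coe, LinearEquiv.symm_apply_apply,
      LinearMap.baseChange_tmul]
    ext i
    simp [eσ, Algebra.smul_def]
  let φe := LinearEquiv.ofBijective _ (PPLib.phi_bijective_of_isDiffSmooth A' B' h ι)
  let χ : grI A' B' (Fintype.card ι) →ₗ[B'] MvPolynomial σ B' :=
    PPLib.symPoly ∘ₗ PPLib.symMap j' ∘ₗ φe.symm.toLinearMap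
  have hpow : ∀ k, ∀ x ∈ KaehlerDifferential.ideal A B ^ k,
      tensorMap A B A' B' x ∈ KaehlerDifferential.ideal A' B' ^ k := fun k x hx => by
    have h1 := Ideal.mem_map_of_mem (tensorMap A B A' B') hx
    rw [Ideal.map_pow] at h1
    exact Ideal.pow_right_mono (ideal_map_tensorMap_le A B A' B') k h1
  let W : ↥((KaehlerDifferential.ideal A B ^ Fintype.card ι).restrictScalars B) →ₗ[B] MvPolynomial σ B' :=
    { toFun := fun x => χ (PPLib.cls A' B' _ (hpow _ _ x.2))
      map_add' := fun x y => by
        rw [← map_add χ]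
        refine congrArg χ ?_
        simp only [PPLib.cls, ← Submodule.Quotient.mk_add, Submodule.Quotient.eq, Submodule.mem_comap,
          Submodule.restrictScalars_mem, Submodule.subtype_apply, Submodule.coe_sub, Submodule.coe_add, map_add,
          sub_self, zero_mem]
      map_smul' := fun b x => by
        rw [RingHom.id_apply, ← algebraMap_smul B' b (χ _), ← map_smul χ]
        refine congrArg χ ?_
        simp only [PPLib.cls, ← Submodule.Quotient.mk_smul, Submodule.Quotient.eq, Submodule.mem_comap,
          Submodule.restrictScalars_mem, Submodule.subtype_apply, Submodule.coe_sub, Submodule.coe_smul]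
        rw [Algebra.smul_def, Algebra.smul_def, map_mul, Algebra.TensorProduct.algebraMap_apply,
          Algebra.TensorProduct.algebraMap_apply, tensorMap_tmul, map_one]
        simp }
  let g : grI A B (Fintype.card ι) →ₗ[B] MvPolynomial σ B' := Submodule.liftQ _ W fun x hx => by
    refine LinearMap.mem_ker.2 ((congrArg χ ?_).trans (map_zero χ))
    refine (Submodule.Quotient.mk_eq_zero _).2 ?_
    exact (hpow (Fintype.card ι + 1) x.1 hx :)
  let m : MvPolynomial σ B →ₗ[B] MvPolynomial σ B' := (MvPolynomial.mapAlgHom (Algebra.ofId B B')).toLinearMap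
  have hm : Function.Injective m :=
    MvPolynomial.map_injective (algebraMap B B') (FaithfulSMul.algebraMap_injective B B')
  suffices hh : g ∘ₗ PPLib.phi A B = m ∘ₗ PPLib.symPoly ∘ₗ PPLib.symMap s by
    refine Function.Injective.of_comp (f := g) ?_
    rw [← LinearMap.coe_comp, hh, LinearMap.coe_comp]
    exact hm.comp (PPLib.symPoly_symMap_injective s (Finsupp.linearCombination B id) hs)
  refine PPLib.sym_ext_span (fun b : B => KaehlerDifferential.D A B b)
    (KaehlerDifferential.span_range_derivation A B) fun c => ?_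
  simp only [LinearMap.comp_apply, PPLib.phi_tprod_D, PPLib.symMap_tprod, PPLib.symPoly_tprod]
  show χ (PPLib.cls A' B' (tensorMap A B A' B' (∏ i, ((1 : B) ⊗ₜ[A] c i - c i ⊗ₜ[A] (1 : B)))) _) = _
  have hz : φe (SymmetricPower.tprod B' fun i => KaehlerDifferential.D A' B' (algebraMap B B' (c i))) =
      zetaProd A' B' fun i => algebraMap B B' (c i) := PPLib.phi_tprod_D A' B' _
  rw [show PPLib.cls A' B' (tensorMap A B A' B' (∏ i, ((1 : B) ⊗ₜ[A] c i - c i ⊗ₜ[A] (1 : B)))) (hpow _ _ (by
      simpa using prod_mem_pow _ Finset.univ (fun i => (1 : B) ⊗ₜ[A] c i - c i ⊗ₜ[A] (1 : B))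
        fun i _ => KaehlerDifferential.one_smul_sub_smul_one_mem_ideal A (c i))) =
      zetaProd A' B' fun i => algebraMap B B' (c i) from
    PPLib.cls_eq A' B' (by
      rw [map_prod, Finset.prod_congr rfl fun i _ => show tensorMap A B A' B' ((1 : B) ⊗ₜ[A] c i - c i ⊗ₜ[A] (1 : B)) =
        (1 : B') ⊗ₜ[A'] algebraMap B B' (c i) - algebraMap B B' (c i) ⊗ₜ[A'] (1 : B') by
          rw [map_sub, tensorMap_tmul, tensorMap_tmul, map_one], sub_self]
      exact zero_mem _), ← hz]
  simp only [χ, LinearMap.comp_apply, LinearEquiv.coe_coe, LinearEquiv.symm_apply_apply, PPLib.symMap_tprod,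
    PPLib.symPoly_tprod, hj', PPLib.map_linForm_mapRange]
  show _ = MvPolynomial.mapAlgHom (Algebra.ofId B B') _
  rw [map_prod]
  rfl

end Groth.Agent.S3822
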