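import Groth.Statements.S3826
import Groth.Agent.AdicFS4.Graded
import Groth.Agent.LinType.QReg
import Groth.Agent.FittX.PdOne
import Groth.Agent.PPLib.SymPow
import Mathlib

set_option autoImplicit false
universe u
open scoped TensorProduct
open QReg16

namespace Groth.Agent.S3826

open MvPolynomial

variable {R : Type u} [CommRing R] {J : Ideal R}

theorem exists_mult_eq {r : ℕ} {ι : Type u} [Fintype ι] (d : Fin r →₀ ℕ) (hd : d.degree = Fintype.card ι) :
    ∃ c : ι → Fin r, PPLib.mult c = d := by
  classical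
  let l := (Finsupp.toMultiset d).toList
  have hl : l.length = Fintype.card ι := by
    rw [Multiset.length_toList, Finsupp.card_toMultiset, ← hd, Finsupp.degree_apply]
    rfl
  let e : ι ≃ Fin l.length := (Fintype.equivFin ι).trans (finCongr hl.symm)
  refine ⟨fun i => l[e i], ?_⟩
  rw [PPLib.mult, e.sum_comp (fun j => Finsupp.single l[j] 1)]
  apply (Finsupp.orderIsoMultiset (ι := Fin r)).injective
  show Finsupp.toMultiset _ = Finsupp.toMultiset _
  simp only [map_sum, Finsupp.toMultiset_single, one_nsmul]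
  conv_rhs => rw [← Multiset.coe_toList (Finsupp.toMultiset d)]
  rw [Finset.sum_eq_multiset_sum]
  simp only [Fin.univ_val_map, Multiset.sum_coe]
  change (List.ofFn fun j : Fin l.length => ({l[j]} : Multiset (Fin r))).sum = (l : Multiset (Fin r))
  rw [show (List.ofFn fun j : Fin l.length => ({l[j]} : Multiset (Fin r))) = l.map fun a => ({a} : Multiset (Fin r)) from
    List.ext_getElem (by simp) (fun i h1 h2 => by simp), ← Multiset.sum_coe, ← Multiset.map_coe,
    Multiset.sum_map_singleton]

/-- The map from homogeneous polynomials to the symmetric power. -/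
theorem exists_psi {r : ℕ} (x : Fin r → J.Cotangent) (ι : Type u) [Fintype ι] :
    ∃ Ψ : MvPolynomial (Fin r) R →ₗ[R] SymmetricPower R ι J.Cotangent, ∀ (c : ι → Fin r) (a : R),
      Ψ (monomial (PPLib.mult c) a) = a • SymmetricPower.tprod R fun i => x (c i) := by
  classical
  let pick : (Fin r →₀ ℕ) → SymmetricPower R ι J.Cotangent := fun d =>
    if h : ∃ c : ι → Fin r, PPLib.mult c = d then SymmetricPower.tprod R (fun i => x (h.choose i)) else 0
  refine ⟨(basisMonomials (Fin r) R).constr R pick, fun c a => ?_⟩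
  have hc : ∃ c' : ι → Fin r, PPLib.mult c' = PPLib.mult c := ⟨c, rfl⟩
  have hb : monomial (PPLib.mult c) a = a • basisMonomials (Fin r) R (PPLib.mult c) := by
    rw [coe_basisMonomials, smul_monomial, smul_eq_mul, mul_one]
  rw [hb, map_smul, Module.Basis.constr_basis]
  congr 1
  simp only [pick, dif_pos hc]
  obtain ⟨e, he⟩ := PPLib.exists_perm_of_mult_eq hc.choose_spec
  conv_lhs => rw [he]
  exact SymmetricPower.tprod_equiv e fun i => x (c i)

theorem degree_eq {r n : ℕ} {P : MvPolynomial (Fin r) R} (hP : P.IsHomogeneous n) {d : Fin r →₀ ℕ}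
    (hd : d ∈ P.support) : d.degree = n := by
  have := hP (mem_support_iff.1 hd)
  rw [Finsupp.degree_eq_weight_one]
  exact this

theorem phi_psi {r : ℕ} (f : Fin r → R) (hf : ∀ l, f l ∈ J) {ι : Type u} [Fintype ι]
    (φ : SymmetricPower R ι J.Cotangent →ₗ[R] PP16.grJ R J (Fintype.card ι))
    (hφ : ∀ x : ι → ↥J, φ (SymmetricPower.tprod R (fun i => J.toCotangent (x i))) = PP16.zetaJ R J x)
    (Ψ : MvPolynomial (Fin r) R →ₗ[R] SymmetricPower R ι J.Cotangent)
    (hΨ : ∀ (c : ι → Fin r) (a : R),
      Ψ (monomial (PPLib.mult c) a) = a • SymmetricPower.tprod R fun i => J.toCotangent ⟨f (c i), hf _⟩)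
    (P : MvPolynomial (Fin r) R) (hP : P.IsHomogeneous (Fintype.card ι))
    (hmem : eval f P ∈ J ^ Fintype.card ι) : φ (Ψ P) = Submodule.Quotient.mk ⟨eval f P, hmem⟩ := by
  classical
  suffices h : ∀ s ⊆ P.support, ∃ hs : ∑ d ∈ s, eval f (monomial d (P.coeff d)) ∈ J ^ Fintype.card ι,
      φ (Ψ (∑ d ∈ s, monomial d (P.coeff d))) = Submodule.Quotient.mk ⟨_, hs⟩ by
    obtain ⟨hs, h1⟩ := h _ subset_rfl
    rw [← P.as_sum] at h1
    rw [h1]
    congr 1
    refine Subtype.ext ?_
    show ∑ d ∈ P.support, eval f (monomial d (P.coeff d)) = eval f P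
    rw [← map_sum, ← P.as_sum]
  intro s hs
  induction s using Finset.induction_on with
  | empty =>
    refine ⟨by rw [Finset.sum_empty]; exact zero_mem _, ?_⟩
    rw [Finset.sum_empty, map_zero, map_zero]
    rfl
  | insert d s hds ih =>
    rw [Finset.insert_subset_iff] at hs
    obtain ⟨hs', ih⟩ := ih hs.2
    obtain ⟨c, rfl⟩ := exists_mult_eq (ι := ι) d (degree_eq hP hs.1)
    have he : eval f (monomial (PPLib.mult c) (P.coeff (PPLib.mult c))) =
        P.coeff (PPLib.mult c) * ∏ i, f (c i) := by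
      rw [← mul_one (P.coeff (PPLib.mult c)), ← C_mul_monomial, ← PPLib.prod_X_eq_monomial]
      simp
    have hm : (∏ i, f (c i)) ∈ J ^ Fintype.card ι := by
      simpa using PP16.prod_mem_pow J Finset.univ (fun i => f (c i)) fun i _ => hf _
    refine ⟨by rw [Finset.sum_insert hds, he]; exact add_mem (Ideal.mul_mem_left _ _ hm) hs', ?_⟩
    rw [Finset.sum_insert hds, map_add, map_add, ih, hΨ, map_smul, hφ, PP16.zetaJ, ← Submodule.Quotient.mk_smul,
      ← Submodule.Quotient.mk_add]
    congr 1
    exact Subtype.ext (by simp [Finset.sum_insert hds, he])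

/-- Locally near a prime a quasi-regular ideal has generators in it without relations in the graded ring. -/
theorem exists_local_data (h : PP16.IsLocallyQuasiRegular R J) (P : Ideal R) [P.IsPrime] (hJP : J ≤ P) :
    ∃ g : R, g ∉ P ∧ ∃ (r : ℕ) (f : Fin r → R), (∀ l, f l ∈ J) ∧
      (∀ x ∈ J, ∃ k : ℕ, g ^ k * x ∈ Ideal.span (Set.range f)) ∧
      ∀ (n : ℕ) (Q : MvPolynomial (Fin r) R), Q.IsHomogeneous n → eval f Q ∈ J ^ (n + 1) →
        ∀ d, ∃ m : ℕ, g ^ m * Q.coeff d ∈ J := by
  obtain ⟨g, hg, r, e, he, heJ⟩ := h P hJP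
  refine ⟨g, hg, r, ?_⟩
  let T := Localization.Away g
  let a := algebraMap R T
  have h1 : ∀ l, ∃ (f : R) (s : Submonoid.powers g), f ∈ J ∧ e l * a s = a f := fun l => by
    obtain ⟨⟨⟨f, hf⟩, s⟩, h⟩ := (IsLocalization.mem_map_algebraMap_iff (Submonoid.powers g) T).1
      (heJ ▸ Ideal.subset_span ⟨l, rfl⟩ : e l ∈ J.map a)
    exact ⟨f, s, hf, h⟩
  choose f s hf hfs using h1
  have hspan : Ideal.span (Set.range fun l => a (f l)) = J.map a := by
    refine le_antisymm (Ideal.span_le.2 (Set.range_subset_iff.2 fun l => Ideal.mem_map_of_mem _ (hf l))) ?_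
    rw [← heJ, Ideal.span_le]
    rintro _ ⟨l, rfl⟩
    refine (Ideal.mul_unit_mem_iff_mem _ (IsLocalization.map_units T (s l))).1 ?_
    rw [hfs]
    exact Ideal.subset_span ⟨l, rfl⟩
  have hqr : CAlgX.IsQuasiRegular fun l => a (f l) :=
    LinType.isQuasiRegular_of_span_eq e _ he (hspan.trans heJ.symm)
  have hspan' : (Ideal.span (Set.range f)).map a = J.map a := by
    rw [Ideal.map_span, ← Set.range_comp]
    exact hspan
  refine ⟨f, hf, fun x hx => ?_, fun n Q hQ hev d => ?_⟩
  · have hx' : a x ∈ (Ideal.span (Set.range f)).map a := hspan' ▸ Ideal.mem_map_of_mem _ hx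
    obtain ⟨_, ⟨k, rfl⟩, hk⟩ := (IsLocalization.algebraMap_mem_map_algebraMap_iff (Submonoid.powers g) T _ _).1 hx'
    exact ⟨k, hk⟩
  · have h2 := hqr n _ (hQ.map a) (by
      rw [hspan, ← Ideal.map_pow, eval_map,
        show eval₂ a (fun l => a (f l)) Q = a (eval f Q) from (eval₂_comp _ _ _).symm]
      exact Ideal.mem_map_of_mem _ hev) d
    rw [hspan, coeff_map, IsLocalization.algebraMap_mem_map_algebraMap_iff (Submonoid.powers g)] at h2
    obtain ⟨_, ⟨k, rfl⟩, hk⟩ := h2
    exact ⟨k, hk⟩

theorem projective_of_locally (h : PP16.IsLocallyQuasiRegular R J) (hfg : J.FG) :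
    Module.Projective (R ⧸ J) J.Cotangent := by
  classical
  haveI : Module.Finite R J := Module.Finite.iff_fg.2 hfg
  haveI : Module.Finite R J.Cotangent := Module.Finite.of_surjective J.toCotangent J.toCotangent_surjective
  haveI : Module.Finite (R ⧸ J) J.Cotangent := Module.Finite.of_restrictScalars_finite R _ _
  refine FittX.projective_of_free_away fun p hp => ?_
  let q := Ideal.Quotient.mk J
  obtain ⟨g, hg, r, f, hf, hs, hq⟩ := exists_local_data h (p.comap q) (fun a ha => by
    show q a ∈ p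
    rw [Ideal.Quotient.eq_zero_iff_mem.2 ha]
    exact zero_mem _)
  refine ⟨q g, hg, ?_⟩
  have hs' : ∀ y : J.Cotangent, ∃ j : ℕ, q g ^ j • y ∈
      Submodule.span (R ⧸ J) (Set.range fun l => J.toCotangent ⟨f l, hf l⟩) := by
    intro y
    obtain ⟨⟨x, hx⟩, rfl⟩ := J.toCotangent_surjective y
    obtain ⟨k, hk⟩ := hs x hx
    obtain ⟨c, hc⟩ := Ideal.mem_span_range_iff_exists_fun.1 hk
    refine ⟨k, (Submodule.mem_span_range_iff_exists_fun _).2 ⟨fun l => q (c l), ?_⟩⟩
    have h1 : ∑ l, c l • (⟨f l, hf l⟩ : J) = g ^ k • ⟨x, hx⟩ := Subtype.ext (by simp [hc])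
    have h2 := congrArg J.toCotangent h1
    rw [map_sum, map_smul] at h2
    simp only [map_smul] at h2
    rw [← map_pow]
    exact h2
  have hi' : ∀ v : Fin r → R ⧸ J, ∑ l, v l • J.toCotangent ⟨f l, hf l⟩ = 0 → ∀ l, ∃ j : ℕ, q g ^ j * v l = 0 := by
    intro v hv l
    choose b hb using fun l => Ideal.Quotient.mk_surjective (v l)
    have h1 : J.toCotangent (∑ l, b l • (⟨f l, hf l⟩ : J)) = 0 := by
      rw [map_sum]
      refine Eq.trans (Finset.sum_congr rfl fun l _ => ?_) hv
      rw [← hb l, map_smul]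
      rfl
    rw [Ideal.toCotangent_eq_zero] at h1
    have h2 := hq 1 (∑ l, C (b l) * X l) (IsHomogeneous.sum _ _ _ fun j _ => (isHomogeneous_X R j).C_mul _)
      (by simpa using h1) (Finsupp.single l 1)
    obtain ⟨m, hm⟩ := h2
    refine ⟨m, ?_⟩
    simp only [coeff_sum, coeff_C_mul, coeff_X', Finsupp.single_left_inj one_ne_zero, mul_ite, mul_one,
      mul_zero, Finset.sum_ite_eq', Finset.mem_univ, if_true] at hm
    rw [← hb l, ← map_pow, ← map_mul, Ideal.Quotient.eq_zero_iff_mem]
    exact hm
  obtain ⟨b⟩ := FittX.exists_basis_away _ (q g) hs' hi'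
  exact Module.Free.of_basis b

theorem symGr_of_locally (h : PP16.IsLocallyQuasiRegular R J) : PP16.SymGrBijective R J := by
  classical
  intro ι _ _
  obtain ⟨φ, hφ, hsur⟩ := AdicFS4.exists_gr_map J ι
  refine ⟨φ, hφ, (injective_iff_map_eq_zero φ).2 fun y hy => ?_, hsur⟩
  let Ann := LinearMap.ker (LinearMap.toSpanSingleton R (SymmetricPower R ι J.Cotangent) y)
  suffices hA : Ann = ⊤ by
    have : (1 : R) ∈ Ann := hA ▸ Submodule.mem_top
    simpa [Ann] using this
  by_contra hne
  obtain ⟨P, hP, hle⟩ := Ideal.exists_le_maximal _ hne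
  haveI := hP.isPrime
  by_cases hJP : J ≤ P
  swap
  · obtain ⟨a, haJ, haP⟩ := SetLike.not_le_iff_exists.1 hJP
    exact haP (hle (show a • y = 0 from AdicFS4.smul_tprod_eq_zero haJ y))
  obtain ⟨g, hg, r, f, hf, hs, hq⟩ := exists_local_data h P hJP
  let x : Fin r → J.Cotangent := fun l => J.toCotangent ⟨f l, hf l⟩
  obtain ⟨Ψ, hΨ⟩ := exists_psi x ι
  let H : Submodule R (SymmetricPower R ι J.Cotangent) :=
    (homogeneousSubmodule (Fin r) R (Fintype.card ι)).map Ψ
  have hH : ∀ w, ∃ k : ℕ, g ^ k • w ∈ H := by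
    intro w
    have hw : w ∈ Submodule.span R (Set.range (SymmetricPower.tprod R (ι := ι) (M := J.Cotangent))) :=
      SymmetricPower.span_tprod_eq_top R ι J.Cotangent ▸ Submodule.mem_top
    induction hw using Submodule.span_induction with
    | mem w hw =>
      obtain ⟨v, rfl⟩ := hw
      choose z hz using fun i => J.toCotangent_surjective (v i)
      choose k hk using fun i => hs (z i) (z i).2
      let K := Finset.univ.sup k
      have hK : ∀ i, ∃ a : Fin r → R, ∑ l, a l • x l = g ^ K • v i := fun i => by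
        have hKi : g ^ K * (z i : R) ∈ Ideal.span (Set.range f) := by
          rw [← Nat.sub_add_cancel (show k i ≤ K from Finset.le_sup (f := k) (Finset.mem_univ i)), pow_add, mul_assoc]
          exact Ideal.mul_mem_left _ _ (hk i)
        obtain ⟨c, hc⟩ := Ideal.mem_span_range_iff_exists_fun.1 hKi
        refine ⟨c, ?_⟩
        have h1 : ∑ l, c l • (⟨f l, hf l⟩ : J) = g ^ K • z i := Subtype.ext (by simp [hc, K])
        have h2 := congrArg J.toCotangent h1
        rw [map_sum, map_smul, hz] at h2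
        simp only [map_smul] at h2
        exact h2
      choose a ha using hK
      refine ⟨K * Fintype.card ι, ?_⟩
      have h3 : (g ^ (K * Fintype.card ι)) • SymmetricPower.tprod R v =
          SymmetricPower.tprod R fun i => g ^ K • v i := by
        rw [MultilinearMap.map_smul_univ, Finset.prod_const, Finset.card_univ, ← pow_mul]
      rw [h3, ← funext ha, MultilinearMap.map_sum]
      refine Submodule.sum_mem _ fun c _ => ?_
      rw [MultilinearMap.map_smul_univ]
      refine Submodule.smul_mem _ _ ⟨monomial (PPLib.mult c) 1, ?_, by rw [hΨ, one_smul]⟩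
      rw [← PPLib.prod_X_eq_monomial]
      have h4 := IsHomogeneous.prod Finset.univ (fun i => (X (c i) : MvPolynomial (Fin r) R)) (fun _ => 1)
        fun i _ => isHomogeneous_X R (c i)
      simpa using h4
    | zero => exact ⟨0, by simp⟩
    | add u v _ _ hu hv =>
      obtain ⟨k, hk⟩ := hu
      obtain ⟨l, hl⟩ := hv
      refine ⟨k + l, ?_⟩
      rw [smul_add]
      exact add_mem (by rw [pow_add, mul_comm, mul_smul]; exact Submodule.smul_mem _ _ hk)
        (by rw [pow_add, mul_smul]; exact Submodule.smul_mem _ _ hl)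
    | smul c u _ hu =>
      obtain ⟨k, hk⟩ := hu
      exact ⟨k, by rw [smul_comm]; exact Submodule.smul_mem _ _ hk⟩
  obtain ⟨k, Q, hQ, hQy⟩ := hH y
  have hmem : eval f Q ∈ J ^ Fintype.card ι :=
    Ideal.pow_right_mono (Ideal.span_le.2 (Set.range_subset_iff.2 hf)) _ (LinType.eval_mem_pow f hQ)
  have h5 := phi_psi f hf φ hφ Ψ hΨ Q hQ hmem
  rw [hQy, map_smul, hy, smul_zero] at h5
  have h6 : eval f Q ∈ J ^ (Fintype.card ι + 1) :=
    (Submodule.Quotient.mk_eq_zero (Submodule.comap (J ^ Fintype.card ι).subtype (J ^ (Fintype.card ι + 1)))).1 h5.symm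
  choose m hm using hq _ Q hQ h6
  let M := Q.support.sup m
  have h7 : g ^ M • Ψ Q = 0 := by
    rw [← map_smul, Q.as_sum, Finset.smul_sum, map_sum]
    refine Finset.sum_eq_zero fun d hd => ?_
    obtain ⟨c, rfl⟩ := exists_mult_eq (ι := ι) d (degree_eq hQ hd)
    rw [smul_monomial, hΨ, smul_eq_mul]
    refine AdicFS4.smul_tprod_eq_zero ?_ _
    rw [← Nat.sub_add_cancel (show m _ ≤ M from Finset.le_sup (f := m) hd), pow_add, mul_assoc]
    exact Ideal.mul_mem_left _ _ (hm _)
  rw [hQy, ← mul_smul, ← pow_add] at h7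
  exact hg (hP.isPrime.mem_of_pow_mem _ (hle h7))

theorem locally_of_symGr (hfg : J.FG) (hproj : Module.Projective (R ⧸ J) J.Cotangent)
    (hsym : PP16.SymGrBijective R J) : PP16.IsLocallyQuasiRegular R J := by
  classical
  intro P _ hJP
  let Gen : ℕ → Prop := fun r => ∃ f : Fin r → R, (∀ l, f l ∈ J) ∧
    ∀ x ∈ J, ∃ s : R, s ∉ P ∧ s * x ∈ Ideal.span (Set.range f)
  obtain ⟨N, a, ha⟩ := Submodule.fg_iff_exists_fin_generating_family.1 hfg
  have hex : ∃ r, Gen r := ⟨N, a, fun l => ha ▸ Submodule.subset_span ⟨l, rfl⟩, fun x hx =>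
    ⟨1, fun h => Ideal.IsPrime.ne_top ‹_› ((Ideal.eq_top_iff_one _).2 h), by rw [one_mul]; exact (show x ∈ Submodule.span R (Set.range a) by rw [ha]; exact hx)⟩⟩
  obtain ⟨r, ⟨f, hf, hgen⟩, hmin⟩ : ∃ r, Gen r ∧ ∀ r' < r, ¬ Gen r' :=
    ⟨_, Nat.find_spec hex, fun r' h => Nat.find_min hex h⟩
  have haJ : ∀ l, a l ∈ J := fun l => ha ▸ Submodule.subset_span ⟨l, rfl⟩
  choose s hs hsa using fun l => hgen (a l) (haJ l)
  let g := ∏ l, s l
  have hg : g ∉ P := fun h => by
    obtain ⟨l, -, hl⟩ := (Ideal.IsPrime.prod_mem_iff).1 h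
    exact hs l hl
  have hgJ : ∀ x ∈ J, g * x ∈ Ideal.span (Set.range f) := by
    intro x hx
    rw [← ha] at hx
    induction hx using Submodule.span_induction with
    | mem x hx =>
      obtain ⟨l, rfl⟩ := hx
      obtain ⟨t, ht⟩ := Finset.dvd_prod_of_mem s (Finset.mem_univ l)
      show (∏ l, s l) * a l ∈ _
      rw [ht, mul_comm (s l), mul_assoc]
      exact Ideal.mul_mem_left _ _ (hsa l)
    | zero => rw [mul_zero]; exact zero_mem _
    | add u v _ _ hu hv => rw [mul_add]; exact add_mem hu hv
    | smul c u _ hu => rw [smul_eq_mul, mul_left_comm]; exact Ideal.mul_mem_left _ _ hu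
  have hind : ∀ c : Fin r → R, ∑ l, c l * f l ∈ P * J → ∀ l, c l ∈ P := by
    intro c hc l
    by_contra hl
    have hPJ : ∀ z ∈ P * J, g * z ∈ P * Ideal.span (Set.range f) := fun z hz =>
      Submodule.mul_induction_on hz (fun p hp x hx => by rw [mul_left_comm]; exact Ideal.mul_mem_mul hp (hgJ x hx))
        fun u v hu hv => by rw [mul_add]; exact add_mem hu hv
    have h1 := hPJ _ hc
    rw [← smul_eq_mul P, Submodule.mem_ideal_smul_span_iff_exists_sum] at h1
    obtain ⟨p, hp, hsum⟩ := h1
    rw [Finsupp.sum_fintype _ _ (fun i => zero_smul R (f i))] at hsum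
    simp only [smul_eq_mul] at hsum
    have hrel : ∑ i, (g * c i - p i) * f i = 0 := by
      simp only [sub_mul, Finset.sum_sub_distrib, hsum, mul_assoc, ← Finset.mul_sum, sub_self]
    have hu : g * c l - p l ∉ P := fun h => (Ideal.IsPrime.mem_or_mem ‹_›
      (by simpa using add_mem h (hp l) : g * c l ∈ P)).elim hg hl
    have hr0 : 0 < r := l.pos
    obtain ⟨r', rfl⟩ : ∃ r', r = r' + 1 := ⟨r - 1, by omega⟩
    refine hmin r' (by omega) ⟨fun i => f (l.succAbove i), fun i => hf _, fun x hx => ?_⟩
    obtain ⟨t, ht, htx⟩ := hgen x hx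
    obtain ⟨b, hb⟩ := Ideal.mem_span_range_iff_exists_fun.1 htx
    refine ⟨(g * c l - p l) * t, fun h => (Ideal.IsPrime.mem_or_mem ‹_› h).elim hu ht, ?_⟩
    rw [mul_assoc, ← hb, Fin.sum_univ_succAbove _ l, mul_add]
    refine add_mem ?_ (Ideal.mul_mem_left _ _ (Ideal.sum_mem _ fun i _ =>
      Ideal.mul_mem_left _ _ (Ideal.subset_span ⟨i, rfl⟩)))
    rw [Fin.sum_univ_succAbove _ l, add_eq_zero_iff_eq_neg] at hrel
    rw [mul_left_comm, hrel, mul_neg]
    exact neg_mem (Ideal.mul_mem_left _ _ (Ideal.sum_mem _ fun i _ =>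
      Ideal.mul_mem_left _ _ (Ideal.subset_span ⟨i, rfl⟩)))
  let x : Fin r → J.Cotangent := fun l => J.toCotangent ⟨f l, hf l⟩
  -- functionals dual to the classes, up to a unit at `P`
  haveI : Module.Finite R J := Module.Finite.iff_fg.2 hfg
  haveI : Module.Finite R J.Cotangent := Module.Finite.of_surjective J.toCotangent J.toCotangent_surjective
  haveI : Module.Finite (R ⧸ J) J.Cotangent := Module.Finite.of_restrictScalars_finite R _ _
  obtain ⟨K, π, hπ⟩ := Module.Finite.exists_fin' (R ⧸ J) J.Cotangent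
  obtain ⟨sec, hsec⟩ := Module.projective_lifting_property π LinearMap.id hπ
  let q : R →+* R ⧸ J := Ideal.Quotient.mk J
  choose V hV using fun l i => Ideal.Quotient.mk_surjective (sec (x l) i)
  let κ := algebraMap R P.ResidueField
  have hκ : ∀ a, κ a = 0 ↔ a ∈ P := fun a => Ideal.algebraMap_residueField_eq_zero
  have hliV : LinearIndependent P.ResidueField fun l (i : Fin K) => κ (V l i) := by
    rw [Fintype.linearIndependent_iff]
    intro c hc l
    let W := Localization.AtPrime P
    choose u hu using fun l => IsLocalRing.residue_surjective (R := W) (c l)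
    obtain ⟨⟨t, ht⟩, hint⟩ := IsLocalization.exist_integer_multiples_of_finite P.primeCompl u
    choose b hb using hint
    have hcb : ∀ l, κ (b l) = κ t * c l := fun l => by
      rw [← hu l]
      show algebraMap R P.ResidueField (b l) = _
      rw [IsScalarTower.algebraMap_apply R W P.ResidueField, hb l, Algebra.smul_def, map_mul,
        ← IsScalarTower.algebraMap_apply]
      rfl
    have hz : ∀ i, (∑ l, b l * V l i) ∈ P := fun i => by
      rw [← hκ, map_sum]
      simp only [map_mul, hcb, mul_assoc, ← Finset.mul_sum]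
      have := congrFun hc i
      simp only [Finset.sum_apply, Pi.smul_apply, smul_eq_mul] at this
      rw [this, Pi.zero_apply, mul_zero]
    have hsz : ∀ i, sec (∑ l, q (b l) • x l) i = q (∑ l, b l * V l i) := fun i => by
      simp only [map_sum, map_smul, Finset.sum_apply, Pi.smul_apply, smul_eq_mul, map_mul]
      exact Finset.sum_congr rfl fun l _ => by rw [← hV l i]
    have hzP : J.toCotangent (∑ l, b l • (⟨f l, hf l⟩ : J)) ∈ P • (⊤ : Submodule R J.Cotangent) := by
      have e1 : J.toCotangent (∑ l, b l • (⟨f l, hf l⟩ : J)) = ∑ l, q (b l) • x l := by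
        simp only [map_sum, map_smul]
        rfl
      rw [e1, ← LinearMap.id_apply (R := R ⧸ J) (∑ l, q (b l) • x l), ← hsec, LinearMap.comp_apply,
        pi_eq_sum_univ (sec _), map_sum]
      refine Submodule.sum_mem _ fun i _ => ?_
      rw [map_smul, hsz i]
      exact Submodule.smul_mem_smul (hz i) (Submodule.mem_top (x := π _))
    rw [← LinearMap.range_eq_top.2 J.toCotangent_surjective, ← Submodule.map_top, ← Submodule.map_smul''] at hzP
    obtain ⟨w, hw, hwz⟩ := hzP
    have h8 : ∑ l, b l * f l ∈ P * J := by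
      have h9 : (∑ l, b l * f l) - (w : R) ∈ J ^ 2 := by
        have := (J.toCotangent_eq).1 hwz.symm
        simpa using this
      have h10 : (w : R) ∈ P * J := by
        refine Submodule.smul_induction_on hw (fun p hp y _ => ?_) fun u v hu hv => add_mem hu hv
        exact Ideal.mul_mem_mul hp y.2
      have h11 := add_mem ((Ideal.mul_mono_left hJP) (pow_two J ▸ h9)) h10
      simpa using h11
    have := (hκ _).2 (hind b h8 l)
    rw [hcb] at this
    exact (mul_eq_zero.1 this).resolve_left (fun h => ht ((hκ t).1 h))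
  obtain ⟨Lin, hLin⟩ := LinearMap.exists_leftInverse_of_injective
    (Fintype.linearCombination P.ResidueField fun l (i : Fin K) => κ (V l i)) (LinearMap.ker_eq_bot.2
      hliV.fintypeLinearCombination_injective)
  let W := Localization.AtPrime P
  choose Lu hLu using fun i l => IsLocalRing.residue_surjective (R := W) (Lin (Pi.single i 1) l)
  obtain ⟨⟨t₀, ht₀⟩, hint₀⟩ := IsLocalization.exist_integer_multiples_of_finite P.primeCompl
    (fun il : Fin K × Fin r => Lu il.1 il.2)
  choose Λ hΛ using hint₀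
  let D : Matrix (Fin r) (Fin r) R := Matrix.of fun j l => ∑ i, V j i * Λ (i, l)
  have hD : D.map κ = κ t₀ • (1 : Matrix (Fin r) (Fin r) P.ResidueField) := by
    ext j l
    have h1 : ∀ i, κ (Λ (i, l)) = κ t₀ * Lin (Pi.single i 1) l := fun i => by
      rw [← hLu i l]
      show algebraMap R P.ResidueField (Λ (i, l)) = _
      rw [IsScalarTower.algebraMap_apply R W P.ResidueField, hΛ (i, l), Algebra.smul_def, map_mul,
        ← IsScalarTower.algebraMap_apply]
      rfl
    simp only [D, Matrix.map_apply, Matrix.of_apply, map_sum, map_mul, h1, Matrix.smul_apply, smul_eq_mul]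
    have h2 : Lin (fun i => κ (V j i)) = Pi.single j 1 := by
      have := LinearMap.congr_fun hLin (Pi.single j 1)
      simpa [Fintype.linearCombination_apply_single] using this
    rw [pi_eq_sum_univ (fun i => κ (V j i)), map_sum] at h2
    have h3 := congrFun h2 l
    simp only [map_smul, Finset.sum_apply, Pi.smul_apply, smul_eq_mul] at h3
    rw [show (1 : Matrix (Fin r) (Fin r) P.ResidueField) j l = (Pi.single j 1 : Fin r → P.ResidueField) l by
      rw [Matrix.one_apply, Pi.single_apply]; simp [eq_comm], ← h3, Finset.mul_sum]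
    refine Finset.sum_congr rfl fun i _ => ?_
    have h4 : (fun a : Fin K => if i = a then (1 : P.ResidueField) else 0) = Pi.single i 1 := by
      funext a
      simp [Pi.single_apply, eq_comm]
    rw [h4]
    ring
  have hdet : D.det ∉ P := fun h => by
    have h' := congrArg Matrix.det hD
    rw [← RingHom.mapMatrix_apply, ← RingHom.map_det, (hκ _).2 h, Matrix.det_smul, Matrix.det_one, mul_one] at h'
    exact ht₀ ((hκ t₀).1 (eq_zero_of_pow_eq_zero h'.symm))
  let θ₀ : J.Cotangent →ₗ[R ⧸ J] (Fin r → R ⧸ J) :=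
    (Matrix.vecMulLinear (Matrix.of fun i l => q (Λ (i, l)))).comp sec
  let θ : J.Cotangent →ₗ[R ⧸ J] (Fin r → R ⧸ J) := (Matrix.vecMulLinear (D.adjugate.map q)).comp θ₀
  have hθ : ∀ j, θ (x j) = Pi.single j (q D.det) := fun j => by
    have e0 : θ₀ (x j) = (D.map q) j := by
      funext l
      simp only [θ₀, LinearMap.comp_apply, Matrix.vecMulLinear_apply, Matrix.vecMul, dotProduct, Matrix.of_apply,
        Matrix.map_apply, D, map_sum, map_mul, q, hV]
    show Matrix.vecMul (θ₀ (x j)) _ = _
    rw [e0]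
    funext l
    have h5 := congrFun (congrFun (congrArg (fun X : Matrix (Fin r) (Fin r) R => X.map q) D.mul_adjugate) j) l
    rw [Matrix.map_mul] at h5
    exact h5.trans (by
      rcases eq_or_ne j l with rfl | hne
      · simp
      · simp [hne, Ne.symm hne])
  let L : J.Cotangent →ₗ[R] MvPolynomial (Fin r) (R ⧸ J) :=
    ((Fintype.linearCombination (R ⧸ J) (fun l => (X l : MvPolynomial (Fin r) (R ⧸ J)))).comp θ).restrictScalars R
  have hL : ∀ j, L (x j) = C (q D.det) * X j := fun j => by
    show Fintype.linearCombination (R ⧸ J) _ (θ (x j)) = _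
    rw [hθ, Fintype.linearCombination_apply_single, smul_eq_C_mul]
  -- injectivity of the graded map bounds the coefficients
  have key : ∀ (n : ℕ) (Q : MvPolynomial (Fin r) R), Q.IsHomogeneous n → eval f Q ∈ J ^ (n + 1) →
      ∀ d, D.det ^ n * Q.coeff d ∈ J := by
    intro n Q hQ hev d
    rcases Nat.eq_zero_or_pos n with rfl | hn
    · by_cases hd : d ∈ Q.support
      swap
      · rw [notMem_support_iff.1 hd, mul_zero]
        exact zero_mem _
      have hQ0 : Q = C (Q.coeff 0) := by
        refine MvPolynomial.ext _ _ fun e => ?_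
        rw [coeff_C]
        split_ifs with he
        · rw [he]
        · by_contra hne
          exact he (Eq.symm ((Finsupp.degree_eq_zero_iff e).1 (degree_eq hQ (mem_support_iff.2 hne))))
      rw [(Finsupp.degree_eq_zero_iff d).1 (degree_eq hQ hd), pow_zero, one_mul]
      rw [hQ0, eval_C, zero_add, pow_one] at hev
      exact hev
    let ι := ULift.{u} (Fin n)
    haveI : Nonempty ι := ⟨⟨⟨0, hn⟩⟩⟩
    have hcard : n = Fintype.card ι := by simp [ι]
    rw [hcard] at hQ hev ⊢
    obtain ⟨φ, hφ, hinj, -⟩ := hsym ι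
    obtain ⟨Ψ, hΨ⟩ := exists_psi x ι
    have hmem : eval f Q ∈ J ^ Fintype.card ι := Ideal.pow_le_pow_right (Nat.le_succ _) hev
    have h0 : Ψ Q = 0 := hinj (by
      rw [phi_psi f hf φ hφ Ψ hΨ Q hQ hmem, map_zero]
      exact (Submodule.Quotient.mk_eq_zero _).2 hev)
    let p : SymmetricPower R ι J.Cotangent →ₗ[R] MvPolynomial (Fin r) (R ⧸ J) :=
      PPLib.symLift ((MultilinearMap.mkPiAlgebra R ι _).compLinearMap fun _ => L) fun e v => by
        simp only [MultilinearMap.compLinearMap_apply, MultilinearMap.mkPiAlgebra_apply]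
        exact Equiv.prod_comp e fun i => L (v i)
    have hp : ∀ d ∈ Q.support, p (Ψ (monomial d (Q.coeff d))) =
        monomial d (q (D.det ^ Fintype.card ι * Q.coeff d)) := by
      intro d hd
      obtain ⟨c, rfl⟩ := exists_mult_eq (ι := ι) d (degree_eq hQ hd)
      rw [hΨ, map_smul]
      simp only [p, PPLib.symLift_tprod, MultilinearMap.compLinearMap_apply, MultilinearMap.mkPiAlgebra_apply]
      rw [Finset.prod_congr rfl fun i _ => hL (c i), Finset.prod_mul_distrib, Finset.prod_const, Finset.card_univ,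
        PPLib.prod_X_eq_monomial, ← map_pow, C_mul_monomial, mul_one, smul_monomial, Algebra.smul_def,
        ← map_pow, Ideal.Quotient.algebraMap_eq, ← map_mul, mul_comm]
    have h1 : ∑ d ∈ Q.support, monomial d (q (D.det ^ Fintype.card ι * Q.coeff d)) = 0 := by
      rw [← Finset.sum_congr rfl hp, ← map_sum, ← map_sum, ← Q.as_sum, h0, map_zero]
    by_cases hd : d ∈ Q.support
    · have h2 := congrArg (coeff d) h1
      rw [coeff_sum, Finset.sum_eq_single d (fun e _ he => by rw [coeff_monomial, if_neg he])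
        (fun h => absurd hd h), coeff_monomial, if_pos rfl, coeff_zero] at h2
      exact Ideal.Quotient.eq_zero_iff_mem.1 h2
    · rw [notMem_support_iff.1 hd, mul_zero]
      exact zero_mem _
  refine ⟨g * D.det, fun h => (Ideal.IsPrime.mem_or_mem ‹_› h).elim hg hdet, r, ?_⟩
  let T := Localization.Away (g * D.det)
  let α := algebraMap R T
  have hunit : IsUnit (α (g * D.det)) := IsLocalization.Away.algebraMap_isUnit _
  rw [map_mul, IsUnit.mul_iff] at hunit
  have hspan : Ideal.span (Set.range fun l => α (f l)) = J.map α := by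
    refine le_antisymm (Ideal.span_le.2 (Set.range_subset_iff.2 fun l => Ideal.mem_map_of_mem _ (hf l))) ?_
    refine Ideal.map_le_iff_le_comap.2 fun y hy => ?_
    have h1 : α (g * y) ∈ (Ideal.span (Set.range f)).map α := Ideal.mem_map_of_mem _ (hgJ y hy)
    rw [Ideal.map_span, ← Set.range_comp, map_mul, Ideal.unit_mul_mem_iff_mem _ hunit.1] at h1
    exact h1
  refine ⟨fun l => α (f l), fun n Q hQ hev d => ?_, hspan⟩
  rw [hspan] at hev ⊢
  obtain ⟨⟨w, hw⟩, hint⟩ := IsLocalization.exist_integer_multiples (Submonoid.powers (g * D.det)) Q.support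
    fun e => Q.coeff e
  choose! b hb using hint
  let Q' : MvPolynomial (Fin r) R := ∑ e ∈ Q.support, monomial e (b e)
  have hQ' : Q'.IsHomogeneous n := IsHomogeneous.sum _ _ _ fun e he => isHomogeneous_monomial _ (degree_eq hQ he)
  have hmap : MvPolynomial.map α Q' = C (α w) * Q := by
    conv_rhs => rw [Q.as_sum]
    simp only [Q', map_sum, map_monomial, Finset.mul_sum, C_mul_monomial]
    refine Finset.sum_congr rfl fun e he => congrArg _ ?_
    exact (hb e he).trans (Algebra.smul_def _ _)
  have hev' : α (eval f Q') ∈ (J ^ (n + 1)).map α := by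
    rw [show α (eval f Q') = eval₂ α (fun l => α (f l)) Q' from eval₂_comp _ _ _, ← eval_map, hmap, map_mul,
      Ideal.map_pow]
    exact Ideal.mul_mem_left _ _ hev
  obtain ⟨_, ⟨k, rfl⟩, hk⟩ := (IsLocalization.algebraMap_mem_map_algebraMap_iff (Submonoid.powers (g * D.det)) T _ _).1 hev'
  have h3 := key n (C ((g * D.det) ^ k) * Q') (hQ'.C_mul _) (by rw [map_mul, eval_C]; exact hk) d
  have h4 := Ideal.mem_map_of_mem α h3
  rw [coeff_C_mul, map_mul, map_mul, map_pow, map_pow, Ideal.unit_mul_mem_iff_mem _ (hunit.2.pow n),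
    Ideal.unit_mul_mem_iff_mem _ ((IsLocalization.Away.algebraMap_isUnit _).pow k),
    ← coeff_map, hmap, coeff_C_mul,
    Ideal.unit_mul_mem_iff_mem _ (IsLocalization.map_units T (⟨w, hw⟩ : Submonoid.powers (g * D.det)))] at h4
  exact h4

/-- A locally quasi-regular ideal is finitely generated. -/
theorem fg_of_locally (h : PP16.IsLocallyQuasiRegular R J) : J.FG := by
  let t : Set R := {g | (J.map (algebraMap R (Localization.Away g))).FG}
  refine Ideal.fg_of_localizationSpan t ?_ fun g => g.2
  by_contra hne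
  obtain ⟨m, hm, hle⟩ := Ideal.exists_le_maximal _ hne
  haveI := hm.isPrime
  by_cases hIm : J ≤ m
  · obtain ⟨g, hg, r, f, -, hI⟩ := h m hIm
    refine hg (hle (Ideal.subset_span ?_))
    show (J.map _).FG
    rw [← hI]
    exact Submodule.fg_span (Set.finite_range f)
  · obtain ⟨g, hgI, hgm⟩ := SetLike.not_le_iff_exists.1 hIm
    refine hgm (hle (Ideal.subset_span ?_))
    show (J.map (algebraMap R (Localization.Away g))).FG
    rw [Ideal.eq_top_of_isUnit_mem _ (Ideal.mem_map_of_mem _ hgI) (IsLocalization.Away.algebraMap_isUnit g)]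
    exact ⟨{1}, by simp⟩

open scoped TensorProduct in
/-- Affine form, X = Spec R: an ideal J of a ring R is quasi-regular (locally on Spec R generated by a
quasi-regular sequence) if and only if (i) J is finitely generated, (ii) J/J² is a locally free
R/J-module of finite type, here: finitely generated projective, and (iii) the canonical surjections
Sym^n(J/J²) → J^n/J^(n+1) are bijective for every n. -/
theorem result (R : Type u) [CommRing R] (J : Ideal R) :
    PP16.IsLocallyQuasiRegular R J ↔
      J.FG ∧ Module.Projective (R ⧸ J) J.Cotangent ∧ PP16.SymGrBijective R J := ⟨fun h => ⟨fg_of_locally h, projective_of_locally h (fg_of_locally h), symGr_of_locally h⟩,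
    fun ⟨h1, h2, h3⟩ => locally_of_symGr h1 h2 h3⟩

end Groth.Agent.S3826
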