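import Groth.Statements.S3823
import Groth.Agent.S3826
import Groth.Agent.PPLib.SmoothBaseChange
import Mathlib

set_option autoImplicit false
universe u
open scoped TensorProduct
open PP16

namespace Groth.Agent.S3823

variable {A B : Type u} [CommRing A] [CommRing B] [Algebra A B]

local notation "II" => KaehlerDifferential.ideal A B
local notation "CC" => B ⊗[A] B
local notation "MM" => Ideal.Cotangent (KaehlerDifferential.ideal A B)

/-- An element of the cotangent module seen as a differential. -/
def toΩ (t : MM) : KaehlerDifferential A B := t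

/-- A differential seen in the cotangent module. -/
def ofΩ (t : KaehlerDifferential A B) : MM := t

theorem sub_mem (c : CC) : c - algebraMap B CC (Algebra.TensorProduct.lmul' A c) ∈ II := by
  simp [KaehlerDifferential.ideal, RingHom.mem_ker, Algebra.TensorProduct.algebraMap_apply]

theorem smul_eq (c : CC) (t : MM) : c • t = algebraMap B CC (Algebra.TensorProduct.lmul' A c) • t := by
  rw [← sub_eq_zero, ← sub_smul]
  exact Ideal.Cotangent.smul_eq_zero_of_mem (sub_mem c) t

theorem toΩ_smul (b : B) (t : MM) : toΩ (algebraMap B CC b • t) = b • toΩ t :=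
  algebraMap_smul (R := B) (B ⊗[A] B) b (toΩ t)

theorem ofΩ_smul (b : B) (t : KaehlerDifferential A B) : ofΩ (b • t) = algebraMap B CC b • ofΩ t :=
  (algebraMap_smul (R := B) (B ⊗[A] B) b t).symm

theorem toCotangent_rep (ω : KaehlerDifferential A B) :
    Ideal.toCotangent II ⟨PPLib.rep A B ω, PPLib.rep_mem A B ω⟩ = ofΩ ω :=
  (KaehlerDifferential.fromIdeal_surjective A B ω).choose_spec

theorem projective_iff :
    Module.Projective B (KaehlerDifferential A B) ↔ Module.Projective (CC ⧸ II) MM := by
  let σ : CC ⧸ II →+* B := Ideal.Quotient.lift II (Algebra.TensorProduct.lmul' A).toRingHom fun a ha => ha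
  let σ' : B →+* CC ⧸ II := (Ideal.Quotient.mk II).comp (algebraMap B CC)
  haveI h1 : RingHomInvPair σ σ' :=
    ⟨Ideal.Quotient.ringHom_ext (RingHom.ext fun c => (Ideal.Quotient.eq.2 (sub_mem c)).symm),
      RingHom.ext fun b => show Algebra.TensorProduct.lmul' A (algebraMap B CC b) = b by
        simp [Algebra.TensorProduct.algebraMap_apply]⟩
  haveI h2 : RingHomInvPair σ' σ := ⟨h1.comp_eq₂, h1.comp_eq⟩
  let e : MM ≃ₛₗ[σ] KaehlerDifferential A B :=
    { toFun := toΩ
      invFun := ofΩ
      map_add' := fun _ _ => rfl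
      map_smul' := fun c t => by
        obtain ⟨c, rfl⟩ := Ideal.Quotient.mk_surjective c
        refine (congrArg toΩ ((show Ideal.Quotient.mk II c • t = c • t from rfl).trans (smul_eq c t))).trans ?_
        exact toΩ_smul _ t
      left_inv := fun _ => rfl
      right_inv := fun _ => rfl }
  exact ⟨fun h => Module.Projective.of_equiv e.symm, fun h => Module.Projective.of_equiv e⟩

variable {ι : Type u} [Fintype ι]

theorem exists_common_symC (φ : SymmetricPower CC ι MM →ₗ[CC] grJ CC II (Fintype.card ι))
    (hφ : ∀ x : ι → ↥II, φ (SymmetricPower.tprod CC (fun i => Ideal.toCotangent II (x i))) = zetaJ CC II x)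
    [Nonempty ι] :
    ∃ Θ : SymmetricPower CC ι MM →+ SymmetricPower B ι (KaehlerDifferential A B), Function.Surjective Θ ∧
      ∀ z, ∃ (w : CC) (hw : w ∈ II ^ Fintype.card ι),
        φ z = Submodule.Quotient.mk ⟨w, hw⟩ ∧ PPLib.phi A B (Θ z) = PPLib.cls A B w hw := by
  classical
  letI : Module CC (SymmetricPower B ι (KaehlerDifferential A B)) :=
    Module.compHom _ (Algebra.TensorProduct.lmul' A : CC →ₐ[A] B).toRingHom
  have hsmul : ∀ (c : CC) (y : SymmetricPower B ι (KaehlerDifferential A B)),
      c • y = Algebra.TensorProduct.lmul' A c • y := fun _ _ => rfl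
  let f : MultilinearMap CC (fun _ : ι => MM) (SymmetricPower B ι (KaehlerDifferential A B)) :=
    { toFun := fun v => SymmetricPower.tprod B fun i => toΩ (v i)
      map_update_add' := by
        intro _ v i a b
        simp only [Function.apply_update (fun _ (z : MM) => toΩ z)]
        exact (SymmetricPower.tprod B (ι := ι) (M := KaehlerDifferential A B)).map_update_add _ i (toΩ a) (toΩ b)
      map_update_smul' := by
        intro _ v i c a
        rw [smul_eq c a, hsmul]
        simp only [Function.apply_update (fun _ (z : MM) => toΩ z), toΩ_smul]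
        exact (SymmetricPower.tprod B (ι := ι) (M := KaehlerDifferential A B)).map_update_smul _ i _ _ }
  have hperm : ∀ (e : Equiv.Perm ι) (v : ι → MM), f (v ∘ e) = f v := fun e v =>
    SymmetricPower.tprod_equiv e fun i => toΩ (v i)
  let Θ := PPLib.symLift f hperm
  refine ⟨Θ.toAddMonoidHom, fun y => ?_, fun z => ?_⟩
  · have hy : y ∈ Submodule.span B (Set.range (SymmetricPower.tprod B (ι := ι) (M := KaehlerDifferential A B))) :=
      SymmetricPower.span_tprod_eq_top B ι (KaehlerDifferential A B) ▸ Submodule.mem_top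
    induction hy using Submodule.span_induction with
    | mem y hy =>
      obtain ⟨v, rfl⟩ := hy
      exact ⟨SymmetricPower.tprod CC fun i => ofΩ (v i), PPLib.symLift_tprod f hperm _⟩
    | zero => exact ⟨0, map_zero _⟩
    | add a b _ _ ha hb =>
      obtain ⟨a', rfl⟩ := ha
      obtain ⟨b', rfl⟩ := hb
      exact ⟨a' + b', map_add _ _ _⟩
    | smul b a _ ha =>
      obtain ⟨a', rfl⟩ := ha
      refine ⟨algebraMap B CC b • a', (map_smul Θ _ a').trans ?_⟩
      rw [hsmul]
      simp [Algebra.TensorProduct.algebraMap_apply]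
  · have hz : z ∈ Submodule.span CC (Set.range (SymmetricPower.tprod CC (ι := ι) (M := MM))) :=
      SymmetricPower.span_tprod_eq_top CC ι MM ▸ Submodule.mem_top
    induction hz using Submodule.span_induction with
    | mem z hz =>
      obtain ⟨v, rfl⟩ := hz
      refine ⟨_, PPLib.prod_rep_mem A B fun i => toΩ (v i), ?_, ?_⟩
      · exact (congrArg (fun w => φ (SymmetricPower.tprod CC w)) (funext fun i => (toCotangent_rep (toΩ (v i))).symm)).trans
          (hφ fun i => ⟨PPLib.rep A B (toΩ (v i)), PPLib.rep_mem A B _⟩)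
      · exact (congrArg (PPLib.phi A B) (PPLib.symLift_tprod f hperm v)).trans (PPLib.phi_tprod A B _)
    | zero => exact ⟨0, zero_mem _, map_zero φ, by rw [map_zero, map_zero]; rfl⟩
    | add a b _ _ ha hb =>
      obtain ⟨w, hw, h1, h2⟩ := ha
      obtain ⟨w', hw', h1', h2'⟩ := hb
      exact ⟨w + w', add_mem hw hw', by rw [map_add, h1, h1']; rfl, by rw [map_add, map_add, h2, h2']; rfl⟩
    | smul c a _ ha =>
      obtain ⟨w, hw, h1, h2⟩ := ha
      refine ⟨c * w, Ideal.mul_mem_left _ _ hw, by rw [map_smul, h1]; rfl, ?_⟩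
      have h3 : Θ.toAddMonoidHom (c • a) = Algebra.TensorProduct.lmul' A c • Θ.toAddMonoidHom a :=
        (map_smul Θ c a).trans (hsmul _ _)
      rw [h3, map_smul, h2]
      refine (Submodule.Quotient.eq _).2 ?_
      show Algebra.TensorProduct.lmul' A c • w - c * w ∈ II ^ (Fintype.card ι + 1)
      rw [Algebra.smul_def, ← sub_mul, ← neg_sub, neg_mul, pow_succ']
      exact neg_mem (Ideal.mul_mem_mul (sub_mem c) hw)

theorem exists_common_symB (φ : SymmetricPower CC ι MM →ₗ[CC] grJ CC II (Fintype.card ι))
    (hφ : ∀ x : ι → ↥II, φ (SymmetricPower.tprod CC (fun i => Ideal.toCotangent II (x i))) = zetaJ CC II x)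
    [Nonempty ι] :
    ∃ Ψ : SymmetricPower B ι (KaehlerDifferential A B) →+ SymmetricPower CC ι MM, Function.Surjective Ψ ∧
      ∀ y, ∃ (w : CC) (hw : w ∈ II ^ Fintype.card ι),
        φ (Ψ y) = Submodule.Quotient.mk ⟨w, hw⟩ ∧ PPLib.phi A B y = PPLib.cls A B w hw := by
  classical
  letI : Module B (SymmetricPower CC ι MM) := Module.compHom _ (algebraMap B CC)
  have hsmul : ∀ (b : B) (z : SymmetricPower CC ι MM), b • z = algebraMap B CC b • z := fun _ _ => rfl
  let f : MultilinearMap B (fun _ : ι => KaehlerDifferential A B) (SymmetricPower CC ι MM) :=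
    { toFun := fun v => SymmetricPower.tprod CC fun i => ofΩ (v i)
      map_update_add' := by
        intro _ v i a b
        simp only [Function.apply_update (fun _ (z : KaehlerDifferential A B) => ofΩ z)]
        exact (SymmetricPower.tprod CC (ι := ι) (M := MM)).map_update_add _ i (ofΩ a) (ofΩ b)
      map_update_smul' := by
        intro _ v i c a
        rw [hsmul]
        simp only [Function.apply_update (fun _ (z : KaehlerDifferential A B) => ofΩ z), ofΩ_smul]
        exact (SymmetricPower.tprod CC (ι := ι) (M := MM)).map_update_smul _ i _ _ }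
  have hperm : ∀ (e : Equiv.Perm ι) (v : ι → KaehlerDifferential A B), f (v ∘ e) = f v := fun e v =>
    SymmetricPower.tprod_equiv e fun i => ofΩ (v i)
  let Ψ := PPLib.symLift f hperm
  refine ⟨Ψ.toAddMonoidHom, fun z => ?_, fun y => ?_⟩
  · have hz : z ∈ Submodule.span CC (Set.range (SymmetricPower.tprod CC (ι := ι) (M := MM))) :=
      SymmetricPower.span_tprod_eq_top CC ι MM ▸ Submodule.mem_top
    induction hz using Submodule.span_induction with
    | mem z hz =>
      obtain ⟨v, rfl⟩ := hz
      exact ⟨SymmetricPower.tprod B fun i => toΩ (v i), PPLib.symLift_tprod f hperm _⟩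
    | zero => exact ⟨0, map_zero _⟩
    | add a b _ _ ha hb =>
      obtain ⟨a', rfl⟩ := ha
      obtain ⟨b', rfl⟩ := hb
      exact ⟨a' + b', map_add _ _ _⟩
    | smul c a _ ha =>
      obtain ⟨a', ha'⟩ := ha
      refine ⟨Algebra.TensorProduct.lmul' A c • a', (map_smul Ψ _ a').trans ?_⟩
      rw [hsmul, show Ψ a' = a from ha', eq_comm, ← sub_eq_zero, ← sub_smul]
      exact AdicFS4.smul_tprod_eq_zero (sub_mem c) a
  · have hy : y ∈ Submodule.span B (Set.range (SymmetricPower.tprod B (ι := ι) (M := KaehlerDifferential A B))) :=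
      SymmetricPower.span_tprod_eq_top B ι (KaehlerDifferential A B) ▸ Submodule.mem_top
    induction hy using Submodule.span_induction with
    | mem y hy =>
      obtain ⟨v, rfl⟩ := hy
      refine ⟨_, PPLib.prod_rep_mem A B v, ?_, PPLib.phi_tprod A B _⟩
      refine (congrArg φ (PPLib.symLift_tprod f hperm v)).trans ?_
      exact (congrArg (fun w => φ (SymmetricPower.tprod CC w)) (funext fun i => (toCotangent_rep (v i)).symm)).trans
          (hφ fun i => ⟨PPLib.rep A B (v i), PPLib.rep_mem A B _⟩)
    | zero => exact ⟨0, zero_mem _, by rw [map_zero, map_zero]; rfl, map_zero _⟩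
    | add a b _ _ ha hb =>
      obtain ⟨w, hw, h1, h2⟩ := ha
      obtain ⟨w', hw', h1', h2'⟩ := hb
      exact ⟨w + w', add_mem hw hw', by rw [map_add, map_add, h1, h1']; rfl, by rw [map_add, h2, h2']; rfl⟩
    | smul c a _ ha =>
      obtain ⟨w, hw, h1, h2⟩ := ha
      refine ⟨algebraMap B CC c * w, Ideal.mul_mem_left _ _ hw, ?_, ?_⟩
      · rw [show Ψ.toAddMonoidHom (c • a) = algebraMap B CC c • Ψ.toAddMonoidHom a from
          (map_smul Ψ c a).trans (hsmul _ _), map_smul, h1]
        rfl
      · rw [map_smul, h2]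
        refine (Submodule.Quotient.eq _).2 ?_
        show c • w - algebraMap B CC c * w ∈ II ^ (Fintype.card ι + 1)
        rw [Algebra.smul_def, sub_self]
        exact zero_mem _

theorem cls_eq_zero_iff (w : CC) (hw : w ∈ II ^ Fintype.card ι) :
    PPLib.cls A B w hw = 0 ↔ (Submodule.Quotient.mk ⟨w, hw⟩ : grJ CC II (Fintype.card ι)) = 0 :=
  (Submodule.Quotient.mk_eq_zero _).trans
    (Submodule.Quotient.mk_eq_zero (Submodule.comap (II ^ Fintype.card ι).subtype (II ^ (Fintype.card ι + 1)))
      (x := ⟨w, hw⟩)).symm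

theorem isDiffSmooth_iff :
    IsDiffSmooth A B ↔ Module.Projective (CC ⧸ II) MM ∧ SymGrBijective CC II := by
  constructor
  · intro h
    refine ⟨projective_iff.1 h.1, fun ι _ _ => ?_⟩
    obtain ⟨φ, hφ, hsur⟩ := AdicFS4.exists_gr_map II ι
    refine ⟨φ, hφ, (injective_iff_map_eq_zero φ).2 fun z hz => ?_, hsur⟩
    obtain ⟨Ψ, hΨ, hw⟩ := exists_common_symB φ hφ
    obtain ⟨y, rfl⟩ := hΨ z
    obtain ⟨w, hm, h1, h2⟩ := hw y
    rw [h1] at hz
    rw [← cls_eq_zero_iff, ← h2] at hz
    rw [(injective_iff_map_eq_zero _).1 (PPLib.phi_bijective_of_isDiffSmooth A B h ι).1 y hz, map_zero]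
  · rintro ⟨hP, hS⟩
    refine ⟨projective_iff.2 hP, fun ι _ => ⟨PPLib.phi A B, PPLib.phi_tprod_D A B,
      (injective_iff_map_eq_zero _).2 fun y hy => ?_, PPLib.phi_surjective A B⟩⟩
    rcases isEmpty_or_nonempty ι with hι | hι
    · let v₀ : ι → KaehlerDifferential A B := fun _ => 0
      have hy0 : y ∈ Submodule.span B {SymmetricPower.tprod B v₀} := by
        have hr : Set.range (SymmetricPower.tprod B (ι := ι) (M := KaehlerDifferential A B)) =
            {SymmetricPower.tprod B v₀} := by
          ext t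
          exact ⟨fun ⟨v, hv⟩ => hv ▸ congrArg _ (Subsingleton.elim v v₀), fun ht => ⟨v₀, ht.symm⟩⟩
        rw [← hr, SymmetricPower.span_tprod_eq_top]
        trivial
      obtain ⟨b, rfl⟩ := Submodule.mem_span_singleton.1 hy0
      rw [map_smul, PPLib.phi_tprod] at hy
      rw [PPLib.cls, ← Submodule.Quotient.mk_smul, Submodule.Quotient.mk_eq_zero] at hy
      have h1 : b • ∏ i, PPLib.rep A B (v₀ i) ∈ II ^ (Fintype.card ι + 1) := hy
      simp only [Fintype.card_eq_zero, zero_add, pow_one, Finset.univ_eq_empty, Finset.prod_empty] at h1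
      have h2 : Algebra.TensorProduct.lmul' A (b • (1 : CC)) = b := by
        simp [Algebra.smul_def, Algebra.TensorProduct.algebraMap_apply]
      rw [show b = 0 from h2.symm.trans h1, zero_smul]
    · obtain ⟨φ, hφ, hbij⟩ := hS ι
      obtain ⟨Θ, hΘ, hw⟩ := exists_common_symC φ hφ
      obtain ⟨z, rfl⟩ := hΘ y
      obtain ⟨w, hm, h1, h2⟩ := hw z
      rw [h2, cls_eq_zero_iff, ← h1] at hy
      rw [(injective_iff_map_eq_zero φ).1 hbij.1 z hy, map_zero]

/-- Let B be an A-algebra of finite type. Then B is differentially smooth over A if and only if the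
diagonal immersion is quasi-regular, that is, the kernel I of B ⊗_A B → B is a quasi-regular ideal:
every prime of B ⊗_A B containing I has a basic open neighbourhood on which I is generated by a
quasi-regular sequence. -/
theorem result (A B : Type u) [CommRing A] [CommRing B] [Algebra A B]
    [Algebra.FiniteType A B] :
    PP16.IsDiffSmooth A B ↔ PP16.IsLocallyQuasiRegular (B ⊗[A] B) (KaehlerDifferential.ideal A B) := by
  rw [S3826.result, isDiffSmooth_iff]
  exact ⟨fun h => ⟨KaehlerDifferential.ideal_fg A B, h.1, h.2⟩, fun h => h.2⟩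

end Groth.Agent.S3823
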