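import Groth.Statements.S3825
import Groth.Agent.LinType.QReg
import Mathlib

set_option autoImplicit false
universe u
open QReg16

namespace Groth.Agent.S3825

theorem basis_of_qreg {A : Type u} [CommRing A] (I : Ideal A) {c : ℕ} (g : Fin c → I)
    (hq : CAlgX.IsQuasiRegular (fun i => (g i : A))) (hsp : Ideal.span (Set.range fun i => (g i : A)) = I) :
    LinearIndependent (A ⧸ I) (fun i => I.toCotangent (g i)) ∧
      Submodule.span (A ⧸ I) (Set.range fun i => I.toCotangent (g i)) = ⊤ := by
  classical
  constructor
  · rw [Fintype.linearIndependent_iff]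
    intro a ha l
    choose b hb using fun i => Ideal.Quotient.mk_surjective (a i)
    have h1 : I.toCotangent (∑ i, b i • g i) = 0 := by
      rw [map_sum]
      refine Eq.trans (Finset.sum_congr rfl fun i _ => ?_) ha
      rw [← hb i, map_smul]
      rfl
    rw [Ideal.toCotangent_eq_zero] at h1
    let P : MvPolynomial (Fin c) A := ∑ i, MvPolynomial.C (b i) * MvPolynomial.X i
    have hP : P.IsHomogeneous 1 :=
      MvPolynomial.IsHomogeneous.sum _ _ _ fun j _ => (MvPolynomial.isHomogeneous_X A j).C_mul _
    have hev : MvPolynomial.eval (fun i => (g i : A)) P = ((∑ i, b i • g i : I) : A) := by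
      simp [P]
    have h2 := hq 1 P hP (by rw [hev, hsp]; exact h1) (Finsupp.single l 1)
    rw [hsp] at h2
    simp only [P, MvPolynomial.coeff_sum, MvPolynomial.coeff_C_mul, MvPolynomial.coeff_X',
      Finsupp.single_left_inj one_ne_zero, mul_ite, mul_one,
      mul_zero, Finset.sum_ite_eq', Finset.mem_univ, if_true] at h2
    rw [← hb l, Ideal.Quotient.eq_zero_iff_mem.mpr h2]
  · rw [eq_top_iff]
    rintro x -
    obtain ⟨y, rfl⟩ := I.toCotangent_surjective x
    have hy : (y : A) ∈ Ideal.span (Set.range fun i => (g i : A)) := hsp.symm ▸ y.2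
    obtain ⟨a, ha⟩ := Ideal.mem_span_range_iff_exists_fun.mp hy
    have hy' : y = ∑ i, a i • g i := Subtype.ext (by rw [← ha]; simp)
    rw [hy', map_sum]
    refine Submodule.sum_mem _ fun i _ => ?_
    rw [map_smul]
    exact Submodule.smul_mem _ (Ideal.Quotient.mk I (a i)) (Submodule.subset_span (Set.mem_range_self (f := fun i => I.toCotangent (g i)) i))

/-- a) iff c) (affine local form): let A be a local ring and I a proper ideal generated by some
quasi-regular sequence. For a finite family (f_i) of elements of I, the following are equivalent: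
(a) (f_i) is a quasi-regular sequence generating I; (c) the classes of the f_i form a basis of the
A/I-module I/I² (equivalently, b): (f_i) is a minimal system of generators of I). -/
theorem result {A : Type u} [CommRing A] [IsLocalRing A]
    (I : Ideal A) (hI : I ≤ IsLocalRing.maximalIdeal A)
    (hq : ∃ (r : ℕ) (g : Fin r → A), CAlgX.IsQuasiRegular g ∧ Ideal.span (Set.range g) = I)
    {m : ℕ} (f : Fin m → I) :
    (CAlgX.IsQuasiRegular (fun i => (f i : A)) ∧ Ideal.span (Set.range fun i => (f i : A)) = I) ↔
      (LinearIndependent (A ⧸ I) (fun i => I.toCotangent (f i)) ∧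
        Submodule.span (A ⧸ I) (Set.range fun i => I.toCotangent (f i)) = ⊤) := by
  obtain ⟨r, g, hg, hgI⟩ := hq
  let g' : Fin r → I := fun i => ⟨g i, hgI.le (Ideal.subset_span ⟨i, rfl⟩)⟩
  constructor
  · exact fun h => basis_of_qreg I f h.1 h.2
  · rintro ⟨hli, hsp⟩
    obtain ⟨gli, gsp⟩ := basis_of_qreg I g' hg hgI
    haveI : Nontrivial (A ⧸ I) := Ideal.Quotient.nontrivial_iff.mpr (fun h => by
      exact (IsLocalRing.maximalIdeal.isMaximal A).ne_top (top_le_iff.mp (h ▸ hI)))
    let bf := Module.Basis.mk hli hsp.ge
    let bg := Module.Basis.mk gli gsp.ge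
    have hmr : m = r := by simpa using Fintype.card_congr (bf.indexEquiv bg)
    subst hmr
    have hfg : I.FG := by rw [← hgI]; exact Submodule.fg_span (Set.finite_range g)
    have hle : Ideal.span (Set.range fun i => (f i : A)) ≤ I :=
      Ideal.span_le.mpr (by rintro _ ⟨i, rfl⟩; exact (f i).2)
    have heq : Ideal.span (Set.range fun i => (f i : A)) = I := by
      refine le_antisymm hle ?_
      refine Submodule.le_of_le_smul_of_le_jacobson_bot hfg (hI.trans (IsLocalRing.maximalIdeal_le_jacobson ⊥)) ?_
      intro x hx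
      have hx' : I.toCotangent ⟨x, hx⟩ ∈ Submodule.span (A ⧸ I) (Set.range fun i => I.toCotangent (f i)) :=
        hsp ▸ Submodule.mem_top
      obtain ⟨a, ha⟩ := (Submodule.mem_span_range_iff_exists_fun _).mp hx'
      choose b hb using fun i => Ideal.Quotient.mk_surjective (a i)
      have h1 : I.toCotangent (∑ i, b i • f i) = I.toCotangent ⟨x, hx⟩ := by
        rw [map_sum, ← ha]
        refine Finset.sum_congr rfl fun i _ => ?_
        rw [← hb i, map_smul]
        rfl
      rw [Ideal.toCotangent_eq] at h1
      rw [show x = ((∑ i, b i • f i : I) : A) - (((∑ i, b i • f i : I) : A) - x) by ring]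
      refine sub_mem (Submodule.mem_sup_left ?_) (Submodule.mem_sup_right ?_)
      · rw [AddSubmonoidClass.coe_finset_sum]
        exact Ideal.sum_mem _ fun i _ => Ideal.mul_mem_left _ _ (Ideal.subset_span ⟨i, rfl⟩)
      · rw [smul_eq_mul, ← pow_two]; exact h1
    exact ⟨LinType.isQuasiRegular_of_span_eq g (fun i => (f i : A)) hg (heq.trans hgI.symm), heq⟩

end Groth.Agent.S3825
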