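import Groth.Statements.S5054
import Groth.Agent.CplKaehler4.Sop
import Groth.Agent.CplKaehler4.Domain
import Groth.Agent.S5080
-- import your own Groth.Agent.* helpers here

set_option autoImplicit false
universe u
open EGA418

namespace Groth.Agent.S5054

/-- Let k be a field, A a complete Noetherian local k-algebra whose residue field is a finite extension
of k, p a prime ideal of A distinct from the maximal ideal and containing a minimal prime q with dim
A/q = dim A, Ω̂ the completion (for the topology of the maximal ideal) of the module of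
differentials of A over k, and m a natural number. Then the A_p-module Ω̂_p is generated by m
elements if and only if there is a local k-algebra homomorphism from the power series ring k[[T_1,
…, T_m]] to A making A a finite algebra over it which is unramified at p. -/
theorem result (k A : Type u) [Field k] [CommRing A]
    [IsLocalRing A] [IsNoetherianRing A] [Algebra k A] [IsAdicComplete (IsLocalRing.maximalIdeal A) A]
    [Module.Finite k (IsLocalRing.ResidueField A)]
    (p : Ideal A) [p.IsPrime] (hp : p ≠ IsLocalRing.maximalIdeal A)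
    (hq : ∃ q ∈ minimalPrimes A, q ≤ p ∧ ringKrullDim (A ⧸ q) = ringKrullDim A) (m : ℕ) :
    (∃ s : Fin m → (LocalizedModule p.primeCompl (AdicCompletion (IsLocalRing.maximalIdeal A) (KaehlerDifferential k A))), Submodule.span (Localization.AtPrime p) (Set.range s) = ⊤) ↔
      ∃ (_ : Algebra (MvPowerSeries (Fin m) k) A) (_ : IsScalarTower k (MvPowerSeries (Fin m) k) A),
        IsLocalHom (algebraMap (MvPowerSeries (Fin m) k) A) ∧ Module.Finite (MvPowerSeries (Fin m) k) A ∧
          Algebra.IsUnramifiedAt (MvPowerSeries (Fin m) k) p := by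
  classical
  obtain ⟨q, hqm, hqp, hdim⟩ := hq
  haveI : q.IsPrime := hqm.1.1
  let Om := AdicCompletion (IsLocalRing.maximalIdeal A) (KaehlerDifferential k A)
  constructor
  · rintro ⟨s, hs⟩
    have hex : ∃ M : ℕ, ∃ s : Fin M → LocalizedModule p.primeCompl Om,
        Submodule.span (Localization.AtPrime p) (Set.range s) = ⊤ := ⟨m, s, hs⟩
    obtain ⟨s₀, hs₀⟩ := Groth.Agent.CplKaehler4.exists_genAt_of_localized p ⟨s, hs⟩
    have hm : ringKrullDim A ≤ m := hdim ▸ Groth.Agent.CplKaehler4.dim_quot_le_of_genAt k A p q hqp s₀ hs₀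
    obtain ⟨x, hx, hrad⟩ := Groth.Agent.CplKaehler4.exists_sop_avoid p hp m hm
    have hMm : Nat.find hex ≤ m := Nat.find_min' hex ⟨s, hs⟩
    obtain ⟨u, hu⟩ := Groth.Agent.S5080.result k A p hp (Nat.find hex) (Nat.find_spec hex) (fun t ht => by
      refine Nat.find_min' hex ⟨fun i => (t.equivFin.symm i : LocalizedModule p.primeCompl Om), ?_⟩
      rw [← ht]
      congr 1
      ext z
      exact ⟨fun ⟨i, hi⟩ => hi ▸ (t.equivFin.symm i).2, fun hz => ⟨t.equivFin ⟨z, hz⟩, by simp⟩⟩)
      (fun i => x (Fin.castLE hMm i)) (fun i => hx _)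
    let v : Fin m → Aˣ := fun i => if h : (i : ℕ) < Nat.find hex then u ⟨i, h⟩ else 1
    let y : Fin m → A := fun i => (v i : A) * x i
    obtain ⟨ψ, hψ, hfin, hloc⟩ := Groth.Agent.CplKaehler4.exists_algHom_finite k y
      (fun i => Ideal.mul_mem_left _ _ (hx i).1) (hrad.trans (Ideal.radical_mono (Ideal.span_le.2 (by
        rintro _ ⟨i, rfl⟩
        have h1 : ((v i)⁻¹ : Aˣ) * y i = x i := Units.inv_mul_cancel_left (v i) (x i)
        rw [SetLike.mem_coe, ← h1]
        exact Ideal.mul_mem_left _ _ (Ideal.subset_span ⟨i, rfl⟩)))))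
    letI : Algebra (MvPowerSeries (Fin m) k) A := ψ.toRingHom.toAlgebra
    haveI : IsScalarTower k (MvPowerSeries (Fin m) k) A := IsScalarTower.of_algebraMap_eq fun c => (ψ.commutes c).symm
    haveI : Module.Finite (MvPowerSeries (Fin m) k) A := hfin
    refine ⟨inferInstance, inferInstance, hloc, hfin, ?_⟩
    rw [← Groth.Agent.CplKaehler4.genAt_iff_unramifiedAt, Groth.Agent.CplKaehler4.genAt_iff_localized, eq_top_iff, ← hu]
    refine Submodule.span_mono ?_
    rintro _ ⟨i, rfl⟩
    refine ⟨Fin.castLE hMm i, ?_⟩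
    show LocalizedModule.mkLinearMap p.primeCompl Om (AdicCompletion.of _ _ (KaehlerDifferential.D k A (ψ (MvPowerSeries.X (Fin.castLE hMm i))))) = _
    rw [hψ]
    simp only [y, v]
    rw [dif_pos (show ((Fin.castLE hMm i : Fin m) : ℕ) < Nat.find hex from i.2)]
    rfl
  · rintro ⟨_, _, _, _, hU⟩
    exact ⟨_, (Groth.Agent.CplKaehler4.genAt_iff_localized p _).1 ((Groth.Agent.CplKaehler4.genAt_iff_unramifiedAt p).2 hU)⟩

end Groth.Agent.S5054
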