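import Groth.Statements.S3951
import Groth.Agent.SplitGrp.Full

set_option autoImplicit false
open CategoryTheory MonoidalCategory CartesianMonoidalCategory MonObj GrpObj AlgebraicGeometry
universe u
open RedSub

namespace Groth.Agent.S3951

/-- Let G be a split reductive S-group (splitting D) and b a system of simple roots of its root datum,
with positive roots R_+ and negative roots R_-. For enumerations e⁻ of R_- and e⁺ of R_+ in any
order, the morphism G_a^{R_-} x_S T x_S G_a^{R_+} ⟶ G given by the ordered product of the root
homomorphisms and the torus is an open immersion, and its image (the big cell) does not depend on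
the chosen orderings. -/
theorem result {S : Scheme.{u}} {G : Over S} [GrpObj G] (D : Red.SplitRed G) (b : D.P.Base)
    {n m : ℕ} (eneg : Fin n → D.idx) (epos : Fin m → D.idx)
    (hneg : RedSub.Enumerates (RedSub.negRoots D.P b) eneg) (hpos : RedSub.Enumerates (RedSub.posRoots D.P b) epos) :
    IsOpenImmersion (RedSub.cellMap D eneg epos).left ∧
      ∀ (eneg' : Fin n → D.idx) (epos' : Fin m → D.idx), RedSub.Enumerates (RedSub.negRoots D.P b) eneg' →
        RedSub.Enumerates (RedSub.posRoots D.P b) epos' →
        Set.range (RedSub.cellMap D eneg' epos').left.base = Set.range (RedSub.cellMap D eneg epos).left.base := by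
  obtain ⟨lam, hlam⟩ := SplitGrp.exists_isFull_of_base D b
  have hf := hlam n m eneg epos hneg hpos
  refine ⟨?_, fun eneg' epos' hneg' hpos' => ?_⟩
  · haveI := hf.isOpenImmersion
    haveI : IsIso (SplitGrp.cellIso D n m).hom.left := ((Over.forget S).mapIso (SplitGrp.cellIso D n m)).isIso_hom
    rw [SplitGrp.cellMap_eq, Over.comp_left]
    infer_instance
  · have hf' := hlam n m eneg' epos' hneg' hpos'
    show Set.range (RedSub.cellMap D eneg' epos').left = Set.range (RedSub.cellMap D eneg epos).left
    rw [SplitGrp.range_cellMap, SplitGrp.range_cellMap]
    exact Set.Subset.antisymm (SplitGrp.range_cell_subset hf' hf) (SplitGrp.range_cell_subset hf hf')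

end Groth.Agent.S3951
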