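import Groth.Statements.S3952
import Groth.Agent.SplitGrp.BorelFibre
import Groth.Agent.SplitGrp.Reduced

set_option autoImplicit false
open CategoryTheory MonoidalCategory CartesianMonoidalCategory MonObj GrpObj AlgebraicGeometry
universe u
open RedSub

namespace Groth.Agent.S3952
attribute [local instance] CategoryTheory.Hom.monoid CategoryTheory.Hom.group

/-- Let G be a split reductive S-group (splitting D), b a system of simple roots and e an enumeration of
the positive roots in any order. Then the morphism T x_S G_a^{R_+} ⟶ G, (t, x) ↦ i(t) u_{e 0}(x_0) ⋯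
u_{e (m-1)}(x_{m-1}), is a closed immersion, and its image is a Borel subgroup of G: there are a
Borel subgroup B ⟶ G (closed, smooth, with Borel geometric fibres) and an isomorphism of T x_S
G_a^{R_+} with B over G. -/
theorem result {S : Scheme.{u}} {G : Over S} [GrpObj G] (D : Red.SplitRed G)
    (b : D.P.Base) {m : ℕ} (epos : Fin m → D.idx) (hpos : RedSub.Enumerates (RedSub.posRoots D.P b) epos) :
    IsClosedImmersion (RedSub.borelMap D epos).left ∧
      ∃ (B : Over S) (_ : GrpObj B) (i : B ⟶ G) (e : D.T ⊗ RedSub.pow (Red.Ga S) m ≅ B),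
        Red.IsBorel i ∧ e.hom ≫ i = RedSub.borelMap D epos := by
  classical
  have hcl : ∀ a c d : D.idx, a ∈ RedSub.posRoots D.P b → c ∈ RedSub.posRoots D.P b →
      D.P.root a + D.P.root c = D.P.root d → d ∈ RedSub.posRoots D.P b := fun a c d ha hc h => by
    show D.P.root d ∈ AddSubmonoid.closure (D.P.root '' (b.support : Set D.idx))
    rw [← h]
    exact add_mem ha hc
  obtain ⟨lam, hp, hn, hall⟩ := SplitGrp.exists_separating D.P b
  have h0 : ∀ a, lam (D.P.root a) ≠ 0 := fun a => by
    rcases hall a with h | h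
    · exact (hp a h).ne'
    · exact (hn a h).ne
  obtain ⟨n, q, e, b', h⟩ := SplitGrp.exists_closedPos D hcl lam h0 hp epos hpos
  have hB : Red.IsBorel h.bincl := h.isBorel
    (fun d hd => by
      rcases hall d with hd' | hd'
      · exact hpos.2.ge hd'
      · exact absurd hd (not_lt.2 (hn d hd').le))
    (fun i j m m' hm hh => SplitGrp.eq_or_eq_neg_of_smul D.P b hm hh)
    (fun d => ⟨SplitGrp.corootFn D.P d, (SplitGrp.corootFn_root D.P d d).trans (D.P.pairing_same d)⟩)
  let ew : D.T ⊗ RedSub.pow (Red.Ga S) m ≅ SplitGrp.BObj h :=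
    whiskerRightIso ((Grp.forget _).mapIso D.split) (RedSub.pow (Red.Ga S) m)
  have he : ew.hom ≫ h.bincl = RedSub.borelMap D epos := by
    show (D.split.hom.hom.hom ▷ _) ≫ SplitGrp.bmap (SplitGrp.ofSplit D) epos = _
    refine (MonObj.comp_mul _ _ _).trans ?_
    unfold RedSub.borelMap
    refine congrArg₂ (· * ·) ?_ ?_
    · exact (whiskerRight_fst_assoc D.split.hom.hom.hom _ _).trans (congrArg (fst _ _ ≫ ·) (by
        simpa using SplitGrp.split_comp_j D (𝟙 D.T)))
    · exact whiskerRight_snd_assoc D.split.hom.hom.hom _ _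
  haveI := hB.2.1
  haveI : IsIso ew.hom.left := ((Over.forget S).mapIso ew).isIso_hom
  refine ⟨?_, SplitGrp.BObj h, inferInstance, h.bincl, ew, hB, he⟩
  rw [← he, Over.comp_left]
  infer_instance

end Groth.Agent.S3952
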