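import Groth.Statements.S4058
import Groth.Agent.Compactify.FlatNear
-- import your own Groth.Agent.* helpers here

set_option autoImplicit false
universe u
open CategoryTheory CategoryTheory.Limits AlgebraicGeometry MonObj
open SGA7


namespace Groth.Agent.S4058

/-- (iii) ⇒ (iv): let R be a discrete valuation ring with fraction field K and residue field k, and N a
group scheme over Spec R which is a Néron model of its generic fibre, an abelian variety over K. If
the special fibre N ×_R k is proper over k, then N is proper over Spec R. (In (iii) as published the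
special fibre is an abelian variety; connectedness of the special fibre is not assumed here.) -/
theorem result (R K : Type u) [CommRing R] [IsDomain R] [IsDiscreteValuationRing R] [Field K]
    [Algebra R K] [IsFractionRing R K]
    (N : Over (Spec (CommRingCat.of R))) [GrpObj N] (hN : SGA7.IsNeron R K N)
    [IsProper ((SGA7.genFib R K).obj N).hom] [GeometricallyIntegral ((SGA7.genFib R K).obj N).hom]
    [IsProper (Red.bc (Spec.map (CommRingCat.ofHom (IsLocalRing.residue R))) N).hom] :
    IsProper N.hom := by
  haveI := hN.1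
  haveI := hN.2.1
  haveI := hN.2.2.1
  haveI : Flat N.hom := inferInstance
  -- factorisation of the residue field maps
  have bc_of : ∀ {P : MorphismProperty Scheme.{u}} [P.IsStableUnderBaseChange] {L : Type u} [Field L]
      (ψ : R →+* L) (s : Spec (CommRingCat.of R))
      (τ : Spec ((Spec (CommRingCat.of R)).residueField s) ⟶ Spec (CommRingCat.of L)),
      τ ≫ Spec.map (CommRingCat.ofHom ψ) = (Spec (CommRingCat.of R)).fromSpecResidueField s →
      P (pullback.snd N.hom (Spec.map (CommRingCat.ofHom ψ))) → P (N.hom.fiberToSpecResidueField s) := by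
    intro P _ L _ ψ s τ hτ hP
    have h1 : P (pullback.snd (pullback.snd N.hom (Spec.map (CommRingCat.ofHom ψ))) τ) :=
      MorphismProperty.pullback_snd _ _ hP
    have h2 := (IsPullback.of_hasPullback (pullback.snd N.hom (Spec.map (CommRingCat.ofHom ψ))) τ).paste_horiz
      (IsPullback.of_hasPullback N.hom (Spec.map (CommRingCat.ofHom ψ)))
    rw [hτ] at h2
    exact Groth.Agent.MorLib.Desc.of_two P h2 (IsPullback.of_hasPullback N.hom _) h1
  have key : ∀ {L : Type u} [Field L] (g : R →+* L), Function.Injective g →
      ∃ l : K →+* L, l.comp (algebraMap R K) = g :=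
    fun g hg => ⟨IsFractionRing.lift hg, RingHom.ext (IsFractionRing.lift_algebraMap hg)⟩
  let S := Spec (CommRingCat.of R)
  obtain ⟨φ, hφ⟩ : ∃ φ : ∀ s : S, CommRingCat.of R ⟶ S.residueField s,
      ∀ s, Spec.map (φ s) = S.fromSpecResidueField s :=
    ⟨fun s => Spec.preimage _, fun s => Spec.map_preimage _⟩
  have hker : ∀ s : S, RingHom.ker (φ s).hom = s.asIdeal := by
    intro s
    let pt : Spec (S.residueField s) := IsLocalRing.closedPoint (S.residueField s)
    have h1 : (S.fromSpecResidueField s) pt = s := Scheme.fromSpecResidueField_apply _ _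
    rw [← hφ s] at h1
    have h2 : s.asIdeal = Ideal.comap (φ s).hom (IsLocalRing.maximalIdeal (S.residueField s)) :=
      (congrArg PrimeSpectrum.asIdeal h1).symm
    rw [h2, IsLocalRing.maximalIdeal_eq_bot]
    rfl
  -- the closed point
  let s : S := IsLocalRing.closedPoint R
  have hs : IsProper (N.hom.fiberToSpecResidueField s) := by
    let l : IsLocalRing.ResidueField R →+* S.residueField s :=
      Ideal.Quotient.lift _ (φ s).hom (fun r hr => by
        have : r ∈ RingHom.ker (φ s).hom := by rw [hker s]; exact hr
        exact this)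
    refine bc_of (IsLocalRing.residue R) s (Spec.map (CommRingCat.ofHom l)) ?_ ‹_›
    rw [← Spec.map_comp, ← hφ s]
    congr 1
  haveI : Nonempty ↥(N.hom.fiber s) := by
    let e := MonObj.one (X := N)
    have hu : N.hom (e.left s) = s := by
      rw [← Scheme.Hom.comp_apply, Over.w]; rfl
    have hmem : e.left s ∈ Set.range (N.hom.fiberι s) := by
      rw [Scheme.Hom.range_fiberι]; exact hu
    exact ⟨hmem.choose⟩
  obtain ⟨U, hsU, hU⟩ := Groth.Agent.Compactify.exists_nhd_isProper_of_flat N.hom (by
    intro gp hgp _
    have hgp0 : gp = (⟨⊥, Ideal.isPrime_bot⟩ : PrimeSpectrum R) :=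
      (hgp _ ((PrimeSpectrum.le_iff_specializes _ _).1 bot_le)).symm
    have hinj : Function.Injective (φ gp).hom := by
      rw [RingHom.injective_iff_ker_eq_bot, hker gp, hgp0]
    obtain ⟨l, hl⟩ : ∃ l : K →+* S.residueField gp, l.comp (algebraMap R K) = (φ gp).hom :=
      key (φ gp).hom hinj
    refine bc_of (algebraMap R K) gp (Spec.map (CommRingCat.ofHom l)) ?_ ?_
    · rw [← Spec.map_comp, ← hφ gp]
      exact congrArg Spec.map (CommRingCat.hom_ext hl)
    · have hI : GeometricallyIntegral (pullback.snd N.hom (Spec.map (CommRingCat.ofHom (algebraMap R K)))) := ‹_›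
      exact ⟨fun L _ x Z a b h => by
        haveI := hI.geometrically_isIntegral x a b h
        infer_instance⟩) s hs
  have hUtop : U = ⊤ := eq_top_iff.2 fun x _ => (IsLocalRing.specializes_closedPoint x).mem_open U.2 hsU
  subst hUtop
  haveI := hU
  haveI : IsIso ((N.hom ⁻¹ᵁ ⊤).ι) := (Scheme.topIso _).isIso_hom
  haveI : IsIso ((⊤ : (Spec (CommRingCat.of R)).Opens).ι) := (Scheme.topIso _).isIso_hom
  rw [show N.hom = inv ((N.hom ⁻¹ᵁ ⊤).ι) ≫ (N.hom ∣_ ⊤) ≫ (⊤ : (Spec (CommRingCat.of R)).Opens).ι by
    rw [IsIso.eq_inv_comp, morphismRestrict_ι]]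
  infer_instance

end Groth.Agent.S4058
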