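import Groth.Statements.S4059
import Groth.Agent.NeronComp.PowFlat
-- import your own Groth.Agent.* helpers here

set_option autoImplicit false
universe u
open CategoryTheory CategoryTheory.Limits AlgebraicGeometry MonObj
open SGA7


namespace Groth.Agent.S4059

/-- The four equivalent conditions, for a group scheme with the properties of the identity component of
a Néron model: let R be a discrete valuation ring with fraction field K and G a smooth separated
group scheme of finite type over Spec R with connected fibres whose generic fibre is an abelian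
variety over K (proper and geometrically integral); let m > 0 and write [m] : G -> G for the m-th
power morphism. The following are equivalent: (i) [m] is flat; (ii) [m] is surjective; (iii) [m] is
locally quasi-finite; (iv) m is invertible in the residue field of R, or the geometric special fibre
of G contains no copy of the additive group. -/
theorem result (R K : Type u) [CommRing R] [IsDomain R] [IsDiscreteValuationRing R] [Field K]
    [Algebra R K] [IsFractionRing R K]
    (G : Over (Spec (CommRingCat.of R))) [GrpObj G] [Smooth G.hom] [IsSeparated G.hom] [QuasiCompact G.hom]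
    (hconn : ∀ s : ↥(Spec (CommRingCat.of R)), ConnectedSpace ↥(Red.bc ((Spec (CommRingCat.of R)).fromSpecResidueField s) G).left)
    [IsProper ((SGA7.genFib R K).obj G).hom] [GeometricallyIntegral ((SGA7.genFib R K).obj G).hom]
    (m : ℕ) (hm : 0 < m) :
    [Flat ((𝟙 G : G ⟶ G) ^ m).left, Surjective ((𝟙 G : G ⟶ G) ^ m).left,
      LocallyQuasiFinite ((𝟙 G : G ⟶ G) ^ m).left,
      (m : IsLocalRing.ResidueField R) ≠ 0 ∨
        SGA7.FibreUnipotentRankZero (IsLocalRing.closedPoint R) G].TFAE := by
  haveI : IsCommMonObj ((SGA7.genFib R K).obj G) :=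
    isCommMonObj_of_isProper_of_geometricallyIntegral _
  haveI : IsCommMonObj G := NeronComp.isCommMonObj_of_genericFibre (R := R) (K := K) G
  let u : G ⟶ G := (𝟙 G : G ⟶ G) ^ m
  haveI : IsMonHom u := WittEndoLib.isMonHom_of_mul _ fun Y x y => by
    simp only [u, MonObj.comp_pow, Category.comp_id, mul_pow]
  haveI : LocallyOfFinitePresentation G.hom := inferInstance
  haveI : LocallyOfFiniteType (u.left ≫ G.hom) := by rw [Over.w u]; infer_instance
  haveI : LocallyOfFiniteType u.left := locallyOfFiniteType_of_comp u.left G.hom
  let S := Spec (CommRingCat.of R)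
  haveI hsm : ∀ s : S, Smooth (Red.bc (S.fromSpecResidueField s) G).hom := fun s =>
    inferInstanceAs (Smooth (pullback.snd G.hom (S.fromSpecResidueField s)))
  haveI := hconn
  haveI hmon : ∀ s : S, IsMonHom (GrpSchLib.HomFibre.fib u s) := fun s =>
    inferInstanceAs (IsMonHom ((Over.pullback (S.fromSpecResidueField s)).map u))
  have hendo := fun s : S =>
    NeronComp.FibreEndo.endo_props (k := S.residueField s) (Red.bc (S.fromSpecResidueField s) G)
      (GrpSchLib.HomFibre.fib u s)
  tfae_have 1 → 2 := fun h => NeronComp.PowFlat.surjective_of_fibres u fun s => (hendo s).2.2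
    (MorphismProperty.of_isPullback (P := @Flat)
      (GrpSchLib.HomFibre.map_isPullback u (S.fromSpecResidueField s)) h)
  tfae_have 2 → 3 := fun h => (NeronComp.PowFlat.lqf_iff_fibres u).mpr fun s => (hendo s).1
    (MorphismProperty.of_isPullback (P := @Surjective)
      (GrpSchLib.HomFibre.map_isPullback u (S.fromSpecResidueField s)) h)
  tfae_have 3 → 1 := fun h => NeronComp.PowFlat.flat_of_fibres u fun s =>
    ((hendo s).2.1 ((NeronComp.PowFlat.lqf_iff_fibres u).mp h s)).1
  tfae_have 3 → 4 := fun h => by
    by_cases hm0 : (m : IsLocalRing.ResidueField R) = 0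
    · exact Or.inr (NeronComp.FibreEndo.noGa_of_lqf _
        ((NeronComp.PowFlat.natCast_residueField_closedPoint R m).mpr hm0)
        ((NeronComp.PowFlat.lqf_iff_fibres u).mp h _))
    · exact Or.inl hm0
  tfae_have 4 → 3 := fun h => (NeronComp.PowFlat.lqf_iff_fibres u).mpr fun s => by
    refine NeronComp.FibreEndo.lqf_fib_pow s hm ?_
    rcases NeronComp.PowFlat.eq_closedPoint_or_eq R K s with rfl | rfl
    · rcases h with h | h
      · exact Or.inl fun e => h ((NeronComp.PowFlat.natCast_residueField_closedPoint R m).mp e)
      · exact Or.inr (Or.inl h)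
    · exact Or.inr (Or.inr (NeronComp.FibreEndo.isProper_fibre G.hom
        (Spec.map (CommRingCat.ofHom (algebraMap R K))) ‹IsProper ((SGA7.genFib R K).obj G).hom›))
  tfae_finish

end Groth.Agent.S4059
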