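import Groth.Statements.S4075
import Groth.Agent.NeronComp.InertiaFix
import Groth.Agent.NeronComp.InertiaSpec
-- import your own Groth.Agent.* helpers here

set_option autoImplicit false
set_option backward.isDefEq.respectTransparency false
set_option backward.isDefEq.respectTransparency.types false
universe u
open CategoryTheory CategoryTheory.Limits AlgebraicGeometry MonObj
open SGA7


namespace Groth.Agent.S4075

/-- Let R be a henselian discrete valuation ring with fraction field K, Ω a separable closure of K, W a
valuation subring of Ω lying over R, N a group scheme over Spec R which is a Néron model of its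
generic fibre A = N_K, an abelian variety, and m an integer invertible in the residue field. For an
m-torsion Ω-point x of A, the inertia group at W fixes x if and only if the point of N underlying x
specialises to a point of the special fibre of N (x factors through the finite part of the m-torsion
of N): the fixed part of the m-torsion is the inertia invariants. -/
theorem result (R K Ω : Type u) [CommRing R] [IsDomain R]
    [IsDiscreteValuationRing R] [HenselianLocalRing R] [Field K] [Algebra R K] [IsFractionRing R K]
    [Field Ω] [Algebra K Ω] [IsSepClosure K Ω] (W : ValuationSubring Ω) (hW : SGA7.LiesOver K R W)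
    (N : Over (Spec (CommRingCat.of R))) [GrpObj N] (hN : SGA7.IsNeron R K N)
    [IsProper ((SGA7.genFib R K).obj N).hom] [GeometricallyIntegral ((SGA7.genFib R K).obj N).hom]
    (m : ℕ) (hm : (m : IsLocalRing.ResidueField R) ≠ 0)
    (x : SGA7.Pts Ω ((SGA7.genFib R K).obj N)) (hx : x ^ m = 1) :
    (∀ σ : Ω ≃ₐ[K] Ω, SGA7.IsInertia W σ → SGA7.galAct σ x = x) ↔
      ∃ z ∈ SGA7.specialFibreSet R N,
        (x.left ≫ pullback.fst N.hom (Spec.map (CommRingCat.ofHom (algebraMap R K)))).base
          (IsLocalRing.closedPoint Ω) ⤳ z := by
  haveI := Groth.Agent.NeronComp.isCommMonObj_of_neron R K N hN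
  haveI := hN.1
  haveI := hN.2.1
  haveI := hN.2.2.1
  letI : Algebra R Ω := ((algebraMap K Ω).comp (algebraMap R K)).toAlgebra
  haveI : IsScalarTower R K Ω := IsScalarTower.of_algebraMap_eq fun r => rfl
  haveI : IsGalois K Ω := inferInstance
  constructor
  · intro h
    exact Groth.Agent.NeronComp.exists_specializes W hW N hN.2.2.2 x h
  · rintro ⟨z, hz, hq⟩ σ hσ
    have hmR : IsUnit (m : R) := IsLocalRing.notMem_maximalIdeal.1 fun h => hm (by
      rw [← map_natCast (IsLocalRing.residue R)]
      exact Ideal.Quotient.eq_zero_iff_mem.2 h)
    haveI : Etale (𝟙 N ^ m : N ⟶ N).left := Groth.Agent.TorsLift.etale_pow N m fun s h0 => by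
      have := hmR.map ((Scheme.ΓSpecIso (CommRingCat.of R)).inv ≫
        (Spec (CommRingCat.of R)).evaluation ⊤ s trivial).hom
      rw [map_natCast, h0] at this
      exact not_isUnit_zero this
    exact Groth.Agent.NeronComp.galAct_eq_of_specializes W N hW m x hx hq hz σ hσ

end Groth.Agent.S4075
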