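import Groth.Statements.S4077
import Groth.Agent.NeronComp.NeronOpen
-- import your own Groth.Agent.* helpers here

set_option autoImplicit false
universe u
open CategoryTheory CategoryTheory.Limits AlgebraicGeometry MonObj
open SGA7


namespace Groth.Agent.S4077

/-- Let R be a Dedekind domain with fraction field K and N a group scheme over Spec R which is a Néron
model of its generic fibre A = N_K, an abelian variety (proper and geometrically integral over K).
Then A has semistable reduction over R (it extends to a smooth separated group scheme of finite type
over Spec R whose geometric fibres contain no copy of the additive group) if and only if the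
geometric fibres of N contain no copy of the additive group (that is, the identity components of the
fibres of N are extensions of abelian varieties by tori). -/
theorem result (R K : Type u) [CommRing R] [IsDedekindDomain R] [Field K] [Algebra R K] [IsFractionRing R K]
    (N : Over (Spec (CommRingCat.of R))) [GrpObj N] (hN : SGA7.IsNeron R K N)
    [IsProper ((SGA7.genFib R K).obj N).hom] [GeometricallyIntegral ((SGA7.genFib R K).obj N).hom] :
    SGA7.HasSemistableReduction R K ((SGA7.genFib R K).obj N) ↔ SGA7.FibresUnipotentRankZero N := by
  haveI := hN.1; haveI := hN.2.1; haveI := hN.2.2.1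
  constructor
  · rintro ⟨G, iG, e, he, hGs, hGp, hGq, hG⟩
    letI := iG
    haveI := he; haveI := hGs; haveI := hGp; haveI := hGq
    obtain ⟨u, hu⟩ := (hN.2.2.2 G hGs).2 e.hom
    have hu' : (SGA7.genFib R K).map u = e.hom := hu
    haveI : IsMonHom ((SGA7.genFib R K).map u) := by rw [hu']; exact he
    haveI : IsIso ((SGA7.genFib R K).map u) := by rw [hu']; infer_instance
    haveI : IsMonHom u := Groth.Agent.NeronComp.NeronOpen.isMonHom_to_neron R K hN u
    haveI : IsCommMonObj ((SGA7.genFib R K).obj N) := isCommMonObj_of_isProper_of_geometricallyIntegral _
    haveI : IsCommMonObj G := Groth.Agent.NeronComp.NeronOpen.isCommMonObj_source R K G N u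
    haveI := Groth.Agent.NeronComp.NeronOpen.isOpenImmersion_of_genFib R K G N hG u
    exact Groth.Agent.NeronComp.NeronOpen.fibresUnipotentRankZero_of_open u hG
  · intro h
    exact ⟨N, inferInstance, Iso.refl _, inferInstanceAs (IsMonHom (𝟙 _)), hN.1, hN.2.1, hN.2.2.1, h⟩

end Groth.Agent.S4077
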