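import Groth.Statements.S4078
import Groth.Agent.NeronComp.EndFiniteOrder
-- import your own Groth.Agent.* helpers here

set_option autoImplicit false
universe u
open CategoryTheory CategoryTheory.Limits AlgebraicGeometry MonObj
open SGA7


namespace Groth.Agent.S4078

/-- Let k be a field, G a smooth connected commutative group scheme over k whose geometric fibre
contains no copy of the additive group (an extension of an abelian variety by a torus), n ≥ 2 an
integer and u an automorphism of the group scheme G of finite order (some positive power of u under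
composition is the identity) which induces the identity on the n-torsion: for every k-scheme T and
every T-point x of G with x^n = 1 one has u(x) = x. Then u is the identity if n ≥ 3, and u composed
with itself is the identity if n = 2. -/
theorem result (k : Type u) [Field k] (G : Over (Spec (CommRingCat.of k))) [GrpObj G]
    [IsCommMonObj G] [Smooth G.hom] [ConnectedSpace ↥G.left] (hG : SGA7.FibresUnipotentRankZero G)
    (n : ℕ) (hn : 2 ≤ n) (u : Aut G) [IsMonHom u.hom] (N : ℕ) (hN : 0 < N) (huN : u ^ N = 1)
    (hu : ∀ (T : Over (Spec (CommRingCat.of k))) (x : T ⟶ G), x ^ n = 1 → x ≫ u.hom = x) :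
    (3 ≤ n → u = 1) ∧ (n = 2 → u * u = 1) := by
  have hpow : ∀ m : ℕ, ((EndAV.End.of u.hom) ^ m).toHom = (u ^ m).hom := by
    intro m
    induction m with
    | zero => rfl
    | succ m ih =>
      rw [pow_succ, pow_succ]
      show (EndAV.End.of u.hom).toHom ≫ ((EndAV.End.of u.hom) ^ m).toHom = u.hom ≫ (u ^ m).hom
      rw [ih, EndAV.End.toHom_of]
  obtain ⟨h3, h2⟩ := NeronComp.EndFiniteOrder.aut_finite_order G hG hn u.hom hN
    (EndAV.End.ext (by rw [hpow, huN]; rfl)) hu
  exact ⟨fun h => Iso.ext (h3 h), fun h => Iso.ext (h2 h)⟩

end Groth.Agent.S4078
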