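import Groth.Statements.S4099
import Groth.Agent.Deform.Neutral.ReducedBase

set_option autoImplicit false
universe u
open CategoryTheory MonoidalCategory CartesianMonoidalCategory MonObj GrpObj AlgebraicGeometry CategoryTheory.Limits
open SGA3

namespace Groth.Agent.S4099
attribute [local instance] CategoryTheory.Hom.monoid CategoryTheory.Hom.group
set_option linter.style.haveILetI false
/-- (ii) ⟹ (iv): let S be a reduced scheme and G an S-group scheme locally of finite presentation over S
such that every fibre G_s is smooth over κ(s) and s ↦ dim G_s is locally constant on S. Then G⁰ (the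
union of the neutral components of the fibres) is open, underlies an open subgroup scheme smooth
over S, and G is smooth over S at every point of the unit section. (Without 'S reduced' the last two
conclusions fail.) -/
theorem result (S : Scheme.{u}) [IsReduced S] (G : Over S) [GrpObj G]
    [LocallyOfFinitePresentation G.hom]
    (hfib : ∀ s : S, Smooth (pullback.snd G.hom (S.fromSpecResidueField s)))
    (hdim : IsLocallyConstant (fun s : S => topologicalKrullDim ↥(G.hom.base ⁻¹' {s}))) :
    IsOpen (SGA3x.neutralSet G) ∧
    (∃ (G0 : Over S) (_ : GrpObj G0) (i : G0 ⟶ G), IsMonHom i ∧ IsOpenImmersion i.left ∧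
      Set.range i.left.base = SGA3x.neutralSet G ∧ Smooth G0.hom) ∧
    ∃ U : G.left.Opens, Smooth (U.ι ≫ G.hom) ∧ ∀ p : ↥(𝟙_ (Over S)).left, η[G].left.base p ∈ U := by
  obtain ⟨U, hU, he⟩ := Deform.Neutral.exists_smooth_open_unit hfib hdim
  have ho := Deform.Neutral.isOpen_neutralSet U hU he
  let N : G.left.Opens := ⟨SGA3x.neutralSet G, ho⟩
  obtain ⟨inst, hi⟩ := Deform.Neutral.exists_openSubgroup N rfl
  exact ⟨ho, ⟨Over.mk (N.ι ≫ G.hom), inst, Over.homMk N.ι rfl, hi, inferInstanceAs (IsOpenImmersion N.ι),
    Scheme.Opens.range_ι N, Deform.Neutral.smooth_neutral U hU he N rfl⟩, U, hU, fun p => he p⟩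

end Groth.Agent.S4099
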