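import Groth.Statements.S4105
import Groth.Agent.Deform.HopfNormal


set_option autoImplicit false
universe u
open CategoryTheory MonoidalCategory CartesianMonoidalCategory MonObj GrpObj AlgebraicGeometry CategoryTheory.Limits
open scoped TensorProduct
open SGA3

namespace Groth.Agent.S4105

/-- Let A be a commutative Hopf algebra over a field k, B a sub-Hopf-algebra of A and J a normal Hopf
ideal of A (a normal closed subgroup N of G = Spec A). Then J is the ideal generated by the
augmentation ideal of B (N is the kernel of G → Spec B) if and only if B consists exactly of the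
elements x with Δ(x) - x ⊗ 1 in the image of A ⊗ J (B is the ring of functions on G/N). This
expresses that N ↦ O(G/N) and B ↦ Spec (A/AB₊) are inverse bijections. -/
theorem result (k : Type u) [Field k] (A : Type u) [CommRing A] [HopfAlgebra k A]
    (B : Subalgebra k A) (hB : SGA3.IsHopfSubalgebra k A B) (J : Ideal A) [J.IsHopfIdeal k]
    (hJ : SGA3.IsNormalHopfIdeal k A J) :
    J = SGA3.augIdealSpan k A B ↔
      (B : Set A) = {x : A | CoalgebraStruct.comul (R := k) (A := A) x - x ⊗ₜ[k] (1 : A) ∈
        LinearMap.range (LinearMap.lTensor A (J.restrictScalars k).subtype)} := by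
  constructor
  · rintro rfl
    exact Set.ext fun x => ⟨Deform.HopfNormal.coinv_of_mem hB, Deform.HopfNormal.mem_of_coinv hB⟩
  · intro h
    refine le_antisymm ?_ (Ideal.span_le.mpr fun b hb => ?_)
    · obtain ⟨B', hB', rfl⟩ := Deform.HopfNormal.exists_augIdealSpan J hJ
      exact Ideal.span_mono fun b hb => ⟨h.ge (Deform.HopfNormal.coinv_of_mem hB' hb.1), hb.2⟩
    · obtain ⟨z, hz⟩ := h.le hb.1
      let F := (TensorProduct.lid k A).toLinearMap.comp
        (LinearMap.rTensor A (Coalgebra.counit (R := k) (A := A)))
      have hF : ∀ z, F (LinearMap.lTensor A (J.restrictScalars k).subtype z) ∈ J := by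
        intro z
        induction z using TensorProduct.induction_on with
        | zero => rw [map_zero, map_zero]; exact J.zero_mem
        | tmul p q => simpa [F, Algebra.smul_def] using J.mul_mem_left (algebraMap k A (Coalgebra.counit (R := k) p)) q.2
        | add p q hp hq => rw [map_add, map_add]; exact J.add_mem hp hq
      have hx := hF z
      rw [hz] at hx
      simp only [F, LinearMap.comp_apply, map_sub, LinearMap.rTensor_tmul, Coalgebra.rTensor_counit_comul, hb.2] at hx
      simpa using hx

end Groth.Agent.S4105
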