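import Groth.Statements.S4115
import Groth.Agent.Deform.MaxTori.Rep


set_option autoImplicit false
universe u
open CategoryTheory MonoidalCategory CartesianMonoidalCategory MonObj GrpObj AlgebraicGeometry CategoryTheory.Limits
open SGA3x

namespace Groth.Agent.S4115

/-- Let G be an S-group scheme which is affine and smooth over S. The following are equivalent: (i) the
reductive rank of the geometric fibres of G is a locally constant function on S; (ii) G acquires a
maximal torus after an etale surjective base change. -/
theorem result (S : Scheme.{u}) (G : Over S) [GrpObj G]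
    [IsAffineHom G.hom] [Smooth G.hom] :
    SGA3x.RedRankLocallyConstant G ↔ SGA3x.HasMaxTorusEtaleLocally G := by
  refine ⟨fun hr => ?_, Deform.MaxTori.redRankLocallyConstant_of_etale⟩
  obtain ⟨X, u, hsm, hu⟩ := Deform.MaxTori.exists_rep_smooth G
  obtain ⟨S', v, hv, hvs, hmax⟩ := Deform.MaxTori.exists_etale_maxFam hr u hu
  obtain ⟨iK, hmon, -⟩ := Deform.SubMT.exists_grp (Deform.SubMT.Fam.pull v u).2.2
  letI := iK
  haveI := hmon
  exact ⟨S', v ≫ u.1, hv, hvs, _, iK, _,
    Deform.MaxTori.isMaximalTorus_of_inLoc (Deform.SubMT.Fam.pull v u) hmax⟩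

end Groth.Agent.S4115
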