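import Groth.Statements.S4118
import Groth.Agent.Deform.Luna.MaxTorusFactor
import Groth.Agent.Deform.Borel.CentBase

set_option autoImplicit false
universe u
open CategoryTheory MonoidalCategory CartesianMonoidalCategory MonObj GrpObj AlgebraicGeometry CategoryTheory.Limits
open SGA3x

namespace Groth.Agent.S4118
attribute [local instance] CategoryTheory.Hom.monoid CategoryTheory.Hom.group
/-- Let G be an S-group scheme, smooth, separated and of finite type over S, and i : T → G a maximal
torus. Then the centralizer of T is represented by a closed subgroup scheme c : C → G which is a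
Cartan subgroup of G (smooth over S with Cartan geometric fibres); T factors through C as a maximal
torus of C, and every maximal torus of C coincides with T (as a subgroup of C). -/
theorem result (S : Scheme.{u}) (G : Over S) [GrpObj G]
    [Smooth G.hom] [IsSeparated G.hom] [QuasiCompact G.hom]
    (T : Over S) [GrpObj T] (i : T ⟶ G) (hT : Red.IsMaximalTorus i) :
    ∃ (C : Over S) (_ : GrpObj C) (c : C ⟶ G), Red.IsCentralizerOf i c ∧ IsClosedImmersion c.left ∧ SGA3x.IsCartan c ∧
      ∃ i' : T ⟶ C, i' ≫ c = i ∧ Red.IsMaximalTorus i' ∧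
        ∀ (T' : Over S) [GrpObj T'] (j : T' ⟶ C), Red.IsMaximalTorus j → ∃ φ : T' ≅ T, φ.hom ≫ i' = j := by
  obtain ⟨him, himo, hTt, hmax⟩ := id hT
  haveI := him; haveI := himo
  obtain ⟨C, gC, c, hc, hcc, hCs⟩ :=
    Deform.exists_centralizer (Deform.isMultType_of_ft (Deform.isMultTypeFT_of_isTorus hTt)) i
  haveI := hcc; haveI := hCs; haveI := hc.1; haveI := hc.2.1
  haveI : QuasiCompact C.hom := by rw [← Over.w c]; infer_instance
  haveI : IsSeparated C.hom := by rw [← Over.w c]; infer_instance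
  refine ⟨C, gC, c, hc, hcc, ⟨hc.1, hc.2.1, hCs, fun s => ?_⟩, ?_⟩
  · obtain ⟨hcm, hcmo, -⟩ := Deform.Borel.isCentralizerOf_bc (Red.geomPt s) hc
    exact ⟨hcm, hcmo, Red.bc (Red.geomPt s) T, inferInstance, (Over.pullback (Red.geomPt s)).map i,
      Deform.Borel.isMaximalTorus_of_isMaxTorus (Deform.Borel.isMaxTorus_geom hT s),
      Deform.Borel.isCentralizerOf_bc (Red.geomPt s) hc⟩
  obtain ⟨i', hi'⟩ := (hc.2.2 T i).mpr fun X x h => by
    rw [← MonObj.mul_comp, ← MonObj.mul_comp,
      GrpSchLib.MultTypeComm.points_comm (Deform.isMultTypeFT_of_isTorus hTt) x h]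
  haveI : Mono (i' ≫ c) := by rw [hi']; exact himo
  haveI : Mono i' := mono_of_mono i' c
  haveI : IsMonHom i' := Deform.isMonHom_of_comp i' c (i := i) hi'
  have hmax' : Red.IsMaximalTorus i' := ⟨inferInstance, inferInstance, hTt, fun s T' _ j _ _ f hT' hf => by
    haveI : Mono ((Over.pullback (Red.geomPt s)).map c) := inferInstance
    haveI : Mono (j ≫ (Over.pullback (Red.geomPt s)).map c) := mono_comp _ _
    exact hmax s T' (j ≫ (Over.pullback (Red.geomPt s)).map c) f hT' (by
      rw [← Category.assoc, hf, ← Functor.map_comp, hi'])⟩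
  refine ⟨i', hi', hmax', fun T' _ j hj => ?_⟩
  haveI := hj.1; haveI := hj.2.1
  have hcomm : ∀ (X : Over S) (t : X ⟶ T) (r : X ⟶ T'), (t ≫ i') * (r ≫ j) = (r ≫ j) * (t ≫ i') := fun X t r => by
    rw [← cancel_mono c, MonObj.mul_comp, MonObj.mul_comp, Category.assoc t, hi', Category.assoc r]
    have h := (hc.2.2 X (r ≫ j ≫ c)).mp ⟨r ≫ j, Category.assoc _ _ _⟩ X (𝟙 X) t
    rw [Category.id_comp] at h
    exact h.symm
  obtain ⟨φ, hφ⟩ := Deform.Luna.exists_factor_maxTorus hmax' hj.2.2.1 j hcomm
  obtain ⟨ψ, hψ⟩ := Deform.Luna.exists_factor_maxTorus hj hTt i' fun X r t => (hcomm X t r).symm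
  exact ⟨⟨φ, ψ, by rw [← cancel_mono j, Category.assoc, hψ, hφ, Category.id_comp],
    by rw [← cancel_mono i', Category.assoc, hφ, hψ, Category.id_comp]⟩, hφ⟩

end Groth.Agent.S4118
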