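import Groth.Statements.S4129
import Groth.Agent.MultByUnip.Core
import Groth.Agent.UnipConst.Basic
import Groth.Agent.S7951
import Groth.Agent.GrpSchLib.HopfQuotEtale
import Mathlib.FieldTheory.Galois.Infinite
import Mathlib.FieldTheory.IsAlgClosed.AlgebraicClosure


set_option autoImplicit false
universe u
open TensorProduct
open SGA3

namespace Groth.Agent.S4129

/-- In Hopf-algebra form: let k be a perfect field, A a finitely generated commutative Hopf algebra over
k (an algebraic group E) and ψ : C → A an injective bialgebra map from a finitely generated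
commutative Hopf algebra C which is formally smooth over k and unipotent in the fixed-vector sense
(a smooth unipotent quotient U = Spec C of E). Let J be the Hopf ideal of A generated by the image
of the augmentation ideal of C and suppose the kernel H = Spec (A/J) is of multiplicative type
(diagonalizable after a faithfully flat extension of k). Suppose moreover that U is connected (C has
no idempotents other than 0 and 1). Then the extension 1 → H → E → U → 1 is trivial with a unique
lifting: there is exactly one bialgebra map r : A → C with r ∘ ψ = id. (The published statement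
omits the connectedness of U; it is added here, for existence as well as uniqueness, as its
published proof assumes it.) -/
theorem result (k : Type u) [Field k] [PerfectField k]
    (A C : Type u) [CommRing A] [HopfAlgebra k A] [Algebra.FiniteType k A] [CommRing C] [HopfAlgebra k C]
    [Algebra.FiniteType k C] [Algebra.FormallySmooth k C] (hC : HopfRep.IsUnipotent k C)
    (ψ : C →ₐc[k] A) (hψ : Function.Injective ψ)
    (J : Ideal A) [J.IsHopfIdeal k] (hJ : J = Ideal.map (ψ : C →+* A) (RingHom.ker (Bialgebra.counitAlgHom k C)))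
    (hH : SGA3b.IsMultTypeConst k (A ⧸ J))
    (hU : ∀ e : C, IsIdempotentElem e → e = 0 ∨ e = 1) :
    ∃! r : A →ₐc[k] C, r.comp ψ = BialgHom.id k C := by
  classical
  let K := AlgebraicClosure k
  let T := K ⊗[k] C
  let εK : T →ₐ[k] K := (Bialgebra.counitAlgHom K T).restrictScalars k
  -- algebra sections with the same value at the origin agree
  have huniq : ∀ f f' : A →ₐ[k] T, (∀ c, f (ψ c) = f' (ψ c)) → εK.comp f = εK.comp f' → f = f' := by
    intro f f' hψf hεf
    let d : WithConv (A →ₐ[k] T) := WithConv.toConv f * WithConv.toConv (f'.comp (HopfAlgebra.antipodeAlgHom k A))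
    have hdψ : WithConv.toConv (d.ofConv.comp (ψ : C →ₐ[k] A)) = (1 : WithConv (C →ₐ[k] T)) := by
      show WithConv.toConv ((WithConv.toConv f * WithConv.toConv (f'.comp (HopfAlgebra.antipodeAlgHom k A))).ofConv.comp
        (ψ : C →ₐ[k] A)) = _
      rw [AlgHom.convMul_comp_bialgHom_distrib]
      simp only [WithConv.ofConv_toConv, AlgHom.comp_assoc]
      rw [show (HopfAlgebra.antipodeAlgHom k A).comp (ψ : C →ₐ[k] A) =
          (ψ : C →ₐ[k] A).comp (HopfAlgebra.antipodeAlgHom k C) from AlgHom.ext fun c =>
            Groth.Agent.GrpSchLib.HopfGalois.antipode_bialgHom ψ c, ← AlgHom.comp_assoc,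
        show f'.comp (ψ : C →ₐ[k] A) = f.comp (ψ : C →ₐ[k] A) from AlgHom.ext fun c => (hψf c).symm]
      exact Groth.Agent.GrpSchLib.HopfQuot.self_convMul_inv _
    have hJd : ∀ a ∈ J, d.ofConv a = 0 := by
      intro a ha
      rw [hJ] at ha
      refine (Ideal.map_le_iff_le_comap.mpr fun c hc => ?_ : _ ≤ RingHom.ker d.ofConv.toRingHom) ha
      show d.ofConv (ψ c) = 0
      rw [show d.ofConv (ψ c) = algebraMap k T (Coalgebra.counit (R := k) c) from
        DFunLike.congr_fun (congrArg WithConv.ofConv hdψ) c, show Coalgebra.counit (R := k) c = 0 from hc, map_zero]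
    let D : K ⊗[k] (A ⧸ J) →ₐ[K] T := Algebra.TensorProduct.lift (Algebra.ofId K T)
      (Ideal.Quotient.liftₐ J d.ofConv hJd) fun _ _ => Commute.all _ _
    have hDc : ∀ y, D y = algebraMap K T (Bialgebra.counitAlgHom K T (D y)) := by
      intro y
      have hy : y ∈ Submodule.span K {g : K ⊗[k] (A ⧸ J) | IsGroupLikeElem K g} :=
        (Groth.Agent.UnipExt.span_groupLike_algClosure hH) ▸ Submodule.mem_top
      induction hy using Submodule.span_induction with
      | mem g hg => exact Groth.Agent.UnipConst.unit_baseChange_const K hU hC (hg.isUnit.map D).unit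
      | zero => simp
      | add p q _ _ hp hq => rw [map_add, map_add, map_add, ← hp, ← hq]
      | smul c p _ hp => rw [map_smul, map_smul, smul_eq_mul, map_mul, ← hp, Algebra.smul_def]
    have hd1 : d = 1 := by
      refine WithConv.ext (AlgHom.ext fun a => ?_)
      have h1 : d.ofConv a = D ((1 : K) ⊗ₜ[k] Ideal.Quotient.mk J a) :=
        ((Algebra.TensorProduct.lift_tmul (Algebra.ofId K T) (Ideal.Quotient.liftₐ J d.ofConv hJd)
          (fun _ _ => Commute.all _ _) (1 : K) (Ideal.Quotient.mk J a)).trans (by rw [map_one, one_mul]; rfl)).symm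
      have h2 : WithConv.toConv (εK.comp d.ofConv) = (1 : WithConv (A →ₐ[k] K)) := by
        show WithConv.toConv (εK.comp (WithConv.toConv f * WithConv.toConv (f'.comp (HopfAlgebra.antipodeAlgHom k A))).ofConv) = _
        rw [AlgHom.comp_convMul_distrib]
        simp only [WithConv.ofConv_toConv, ← AlgHom.comp_assoc, ← hεf]
        exact Groth.Agent.GrpSchLib.HopfQuot.self_convMul_inv _
      rw [h1, hDc, ← h1, show Bialgebra.counitAlgHom K T (d.ofConv a) = algebraMap k K (Coalgebra.counit (R := k) a) from
        DFunLike.congr_fun (congrArg WithConv.ofConv h2) a, ← IsScalarTower.algebraMap_apply]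
      rfl
    have h3 : WithConv.toConv f = d * WithConv.toConv f' := by
      show _ = WithConv.toConv f * WithConv.toConv (f'.comp (HopfAlgebra.antipodeAlgHom k A)) * WithConv.toConv f'
      rw [mul_assoc (WithConv.toConv f), Groth.Agent.GrpSchLib.HopfQuot.inv_convMul_self, mul_one]
    rw [hd1, one_mul] at h3
    exact congrArg WithConv.ofConv h3
  -- the splitting over the algebraic closure
  haveI : IsDomain T := Groth.Agent.UnipConst.isDomain_baseChange hU K
  let ψK : T →ₐc[K] K ⊗[k] A := Bialgebra.TensorProduct.map (BialgHom.id K K) ψ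
  have hψK : Function.Injective ψK := Module.Flat.lTensor_preserves_injective_linearMap (M := K)
    (ψ : C →ₐ[k] A).toLinearMap hψ
  let qc : K ⊗[k] A →ₐc[K] K ⊗[k] (A ⧸ J) :=
    Bialgebra.TensorProduct.map (BialgHom.id K K) (Bialgebra.Quotient.mkBialgHom J : A →ₐc[k] A ⧸ J)
  have hqc : Function.Surjective qc := Algebra.TensorProduct.map_surjective (AlgHom.id K K) (Ideal.Quotient.mkₐ k J)
    Function.surjective_id Ideal.Quotient.mk_surjective
  have hker : ∀ x, qc x = 0 →
      x ∈ Ideal.map (ψK : T →+* K ⊗[k] A) (RingHom.ker (Bialgebra.counitAlgHom K T)) := by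
    intro x hx
    have hx' : x ∈ RingHom.ker (Algebra.TensorProduct.map (AlgHom.id k K) (Ideal.Quotient.mkₐ k J)) := hx
    rw [Algebra.TensorProduct.lTensor_ker (A := K) (Ideal.Quotient.mkₐ k J) Ideal.Quotient.mk_surjective,
      show RingHom.ker (Ideal.Quotient.mkₐ k J) = J from Ideal.Quotient.mkₐ_ker k J, hJ] at hx'
    refine (Ideal.map_le_iff_le_comap.mpr (Ideal.map_le_iff_le_comap.mpr fun b hb => ?_)) hx'
    refine Ideal.mem_map_of_mem (ψK : T →+* K ⊗[k] A) (x := (1 : K) ⊗ₜ[k] b) ?_
    show Coalgebra.counit (R := K) ((1 : K) ⊗ₜ[k] b) = 0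
    rw [TensorProduct.counit_tmul, show Coalgebra.counit (R := k) b = (0 : k) from hb, zero_smul]
  obtain ⟨rK, hrK⟩ := Groth.Agent.MultByUnip.exists_retraction ((Groth.Agent.S7951.result k K C).mp hC)
    (Groth.Agent.UnipExt.span_groupLike_algClosure hH) ψK hψK qc hqc hker
  let f : A →ₐ[k] T := ((rK : K ⊗[k] A →ₐ[K] T).restrictScalars k).comp Algebra.TensorProduct.includeRight
  have hfψ : ∀ c, f (ψ c) = (1 : K) ⊗ₜ[k] c := fun c => hrK ((1 : K) ⊗ₜ[k] c)
  have hεf : ∀ a, εK (f a) = algebraMap k K (Coalgebra.counit (R := k) a) := fun a => by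
    show Coalgebra.counit (R := K) (rK ((1 : K) ⊗ₜ[k] a)) = _
    rw [CoalgHomClass.counit_comp_apply rK, TensorProduct.counit_tmul]
    simp [Algebra.algebraMap_eq_smul_one]
  -- descent
  let b := Module.Free.chooseBasis k C
  let bK := Algebra.TensorProduct.basis K b
  have hinv : ∀ (σ : K ≃ₐ[k] K) a, Algebra.TensorProduct.map σ.toAlgHom (AlgHom.id k C) (f a) = f a := by
    intro σ a
    refine (AlgHom.congr_fun (huniq ((Algebra.TensorProduct.map σ.toAlgHom (AlgHom.id k C)).comp f) f (fun c => ?_) ?_) a)
    · show Algebra.TensorProduct.map σ.toAlgHom (AlgHom.id k C) (f (ψ c)) = f (ψ c)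
      rw [hfψ, Algebra.TensorProduct.map_tmul, map_one, AlgHom.id_apply]
    · refine AlgHom.ext fun a => ?_
      show εK (Algebra.TensorProduct.map σ.toAlgHom (AlgHom.id k C) (f a)) = εK (f a)
      have hσ : ∀ t : T, εK (Algebra.TensorProduct.map σ.toAlgHom (AlgHom.id k C) t) = σ (εK t) := by
        intro t
        induction t using TensorProduct.induction_on with
        | zero => simp
        | tmul x c =>
          show Coalgebra.counit (R := K) (σ x ⊗ₜ[k] c) = σ (Coalgebra.counit (R := K) (x ⊗ₜ[k] c))
          simp [TensorProduct.counit_tmul]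
        | add p q hp hq => simp only [map_add, hp, hq]
      rw [hσ, hεf, AlgEquiv.commutes]
  have hrange : ∀ a, f a ∈ (Algebra.TensorProduct.includeRight : C →ₐ[k] T).range := by
    intro a
    have hrep : ∀ (σ : K ≃ₐ[k] K) (t : T) i, bK.repr (Algebra.TensorProduct.map σ.toAlgHom (AlgHom.id k C) t) i = σ (bK.repr t i) := by
      intro σ t i
      induction t using TensorProduct.induction_on with
      | zero => simp
      | tmul x c => simp [bK, Algebra.TensorProduct.basis_repr_tmul, Algebra.smul_def]
      | add p q hp hq => simp only [map_add, Finsupp.add_apply, hp, hq]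
    rw [← bK.linearCombination_repr (f a), Finsupp.linearCombination_apply]
    refine Subalgebra.sum_mem _ fun i _ => ?_
    obtain ⟨r, hr⟩ := (InfiniteGalois.mem_range_algebraMap_iff_fixed (k := k) (bK.repr (f a) i)).mpr fun σ => by
      rw [← hrep, hinv]
    show bK.repr (f a) i • bK i ∈ _
    rw [← hr, algebraMap_smul, show bK i = (1 : K) ⊗ₜ[k] b i from Algebra.TensorProduct.basis_apply b i]
    exact Subalgebra.smul_mem _ ((Algebra.TensorProduct.includeRight : C →ₐ[k] T).mem_range_self (b i)) r
  have hincl : Function.Injective (Algebra.TensorProduct.includeRight : C →ₐ[k] T) :=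
    Algebra.TensorProduct.includeRight_injective (algebraMap k K).injective
  let e := AlgEquiv.ofInjective (Algebra.TensorProduct.includeRight : C →ₐ[k] T) hincl
  let r₀ : A →ₐ[k] C := e.symm.toAlgHom.comp (f.codRestrict _ hrange)
  have hr₀ : ∀ a, (1 : K) ⊗ₜ[k] r₀ a = f a := fun a => congrArg Subtype.val (e.apply_symm_apply ⟨f a, hrange a⟩)
  have hr₀ψ : ∀ c, r₀ (ψ c) = c := fun c => hincl ((hr₀ (ψ c)).trans (hfψ c))
  let r : A →ₐc[k] C := BialgHom.ofAlgHom r₀
    (AlgHom.ext fun a => (algebraMap k K).injective (by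
      have h := hεf a
      rw [← hr₀] at h
      change Coalgebra.counit (R := K) ((1 : K) ⊗ₜ[k] r₀ a) = _ at h
      rw [TensorProduct.counit_tmul] at h
      simpa [Algebra.algebraMap_eq_smul_one] using h))
    (AlgHom.ext fun a => by
      apply Algebra.TensorProduct.includeRight_injective (R := k) (A := K) (algebraMap k K).injective
      apply (AlgebraTensorModule.distribBaseChange k K C C).injective
      have h := CoalgHomClass.map_comp_comul_apply rK ((1 : K) ⊗ₜ[k] a)
      rw [show rK ((1 : K) ⊗ₜ[k] a) = (1 : K) ⊗ₜ[k] r₀ a from (hr₀ a).symm,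
        Groth.Agent.ComodLib.PrimDiag.comul_one_tmul, Groth.Agent.ComodLib.PrimDiag.comul_one_tmul] at h
      refine Eq.trans ?_ h
      show AlgebraTensorModule.distribBaseChange k K C C ((1 : K) ⊗ₜ[k]
        Algebra.TensorProduct.map r₀ r₀ (Coalgebra.comul (R := k) a)) = _
      induction Coalgebra.comul (R := k) a using TensorProduct.induction_on with
      | zero => simp
      | tmul x y =>
        simp [AlgebraTensorModule.distribBaseChange]
        rw [hr₀, hr₀]
        rfl
      | add x y hx hy => simp only [map_add, TensorProduct.tmul_add, hx, hy])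
  refine ⟨r, DFunLike.ext _ _ hr₀ψ, fun r' hr' => DFunLike.ext _ _ fun a => hincl ?_⟩
  have h := huniq ((Algebra.TensorProduct.includeRight : C →ₐ[k] T).comp (r' : A →ₐ[k] C)) f (fun c => ?_)
    (AlgHom.ext fun a => ?_)
  · exact (AlgHom.congr_fun h a).trans (hr₀ a).symm
  · show (1 : K) ⊗ₜ[k] r' (ψ c) = _
    rw [show r' (ψ c) = c from DFunLike.congr_fun hr' c, hfψ]
  · show Coalgebra.counit (R := K) ((1 : K) ⊗ₜ[k] r' a) = εK (f a)
    rw [hεf, TensorProduct.counit_tmul, CoalgHomClass.counit_comp_apply]
    simp [Algebra.algebraMap_eq_smul_one]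

end Groth.Agent.S4129
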