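import Groth.Statements.S4136
import Groth.Agent.Deform.MaxTori.Rep


set_option autoImplicit false
universe u
open CategoryTheory MonoidalCategory CartesianMonoidalCategory MonObj GrpObj AlgebraicGeometry CategoryTheory.Limits
open SGA3x

namespace Groth.Agent.S4136

/-- First assertion: let G be an S-group scheme which is affine and smooth over S. Then the reductive
rank of the geometric fibres (the dimension of their maximal tori) is a lower semicontinuous
function on S: for every n the set of points whose geometric fibre has a maximal torus of dimension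
≥ n is open. (The source also proves that the nilpotent rank is upper semicontinuous.) -/
theorem result (S : Scheme.{u}) (G : Over S) [GrpObj G] [IsAffineHom G.hom] [Smooth G.hom] (n : ℕ) :
    IsOpen {s : S | ∃ r : WithBot ℕ∞, SGA3x.HasRedRank G s r ∧ (n : WithBot ℕ∞) ≤ r} := by
  convert Deform.MaxTori.isOpen_gRank_ge (G := G) n using 1
  ext s
  constructor
  · rintro ⟨d, hd, hn⟩
    obtain ⟨r, rfl, hr⟩ := (Deform.MaxTori.hasRedRank_iff s d).mp hd
    have h : ((n : ℕ∞) : WithBot ℕ∞) ≤ ((r : ℕ∞) : WithBot ℕ∞) := hn
    exact ⟨r, hr, by exact_mod_cast h⟩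
  · rintro ⟨r, hr, hn⟩
    exact ⟨(r : WithBot ℕ∞), (Deform.MaxTori.hasRedRank_iff s _).mpr ⟨r, rfl, hr⟩, by
      show ((n : ℕ∞) : WithBot ℕ∞) ≤ ((r : ℕ∞) : WithBot ℕ∞)
      exact_mod_cast hn⟩

end Groth.Agent.S4136
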