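import Groth.Statements.S4137
import Groth.Agent.Deform.GenTrans.Main


set_option autoImplicit false
universe u
open CategoryTheory MonoidalCategory CartesianMonoidalCategory MonObj GrpObj AlgebraicGeometry CategoryTheory.Limits
open SGA3

namespace Groth.Agent.S4137
open CategoryTheory.Limits
attribute [local instance] CategoryTheory.Hom.monoid CategoryTheory.Hom.group
set_option linter.style.haveILetI false
set_option backward.isDefEq.respectTransparency.types false
open Groth.Agent.Deform
/-- Let S be an integral scheme, G and H S-group schemes of finite presentation over S and i : H → G a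
homomorphism which is a quasi-compact monomorphism. Then there is a non-empty open U of S over which
i becomes a closed immersion and the centralizer and the normalizer of H_U in G_U are representable
by closed subgroup schemes of G_U of finite presentation over U. -/
theorem result (S : Scheme.{u}) [IsIntegral S] (G H : Over S)
    [GrpObj G] [GrpObj H] [LocallyOfFinitePresentation G.hom] [QuasiCompact G.hom] [QuasiSeparated G.hom]
    [LocallyOfFinitePresentation H.hom] [QuasiCompact H.hom] [QuasiSeparated H.hom]
    (i : H ⟶ G) [IsMonHom i] [Mono i] [QuasiCompact i.left] :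
    ∃ U : S.Opens, (U : Set S).Nonempty ∧ IsClosedImmersion ((Over.pullback U.ι).map i).left ∧
      ∃ (C N : Over (U : Scheme.{u})) (_ : GrpObj C) (_ : GrpObj N) (c : C ⟶ Red.bc U.ι G) (n : N ⟶ Red.bc U.ι G),
        Red.IsCentralizerOf ((Over.pullback U.ι).map i) c ∧ IsClosedImmersion c.left ∧
          LocallyOfFinitePresentation C.hom ∧ QuasiCompact C.hom ∧
        Red.IsNormalizerOf ((Over.pullback U.ι).map i) n ∧ IsClosedImmersion n.left ∧
          LocallyOfFinitePresentation N.hom ∧ QuasiCompact N.hom := by
  obtain ⟨W₁, -, hne₁, hW₁⟩ := GenTrans.exists_open_isSeparated G ⊤ ⟨genericPoint S, trivial⟩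
  obtain ⟨W₂, hW₂₁, hne₂, hW₂⟩ := GenTrans.exists_open_isClosedImmersion_grp G H i W₁ hne₁
  obtain ⟨U, hUW, hne, hU, hess⟩ := GenTrans.exists_open_essFree H W₂ hne₂
  haveI := hW₁ U (hUW.trans hW₂₁)
  haveI hic := hW₂ U hUW
  haveI : LocallyOfFinitePresentation (Red.bc U.ι G).hom :=
    MorphismProperty.pullback_snd (P := @LocallyOfFinitePresentation) G.hom U.ι inferInstance
  haveI : QuasiCompact (Red.bc U.ι G).hom := MorphismProperty.pullback_snd (P := @QuasiCompact) G.hom U.ι inferInstance
  haveI : QuasiCompact (Red.bc U.ι H).hom := MorphismProperty.pullback_snd (P := @QuasiCompact) H.hom U.ι inferInstance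
  haveI : LocallyOfFinitePresentation (Red.bc U.ι H).hom :=
    MorphismProperty.pullback_snd (P := @LocallyOfFinitePresentation) H.hom U.ι inferInstance
  let iU : Red.bc U.ι H ⟶ Red.bc U.ι G := (Over.pullback U.ι).map i
  haveI : IsClosedImmersion iU.left := hic
  haveI : LocallyOfFinitePresentation (iU.left ≫ (Red.bc U.ι G).hom) := by rw [Over.w iU]; infer_instance
  haveI : LocallyOfFinitePresentation iU.left :=
    AlgSpPts.locallyOfFinitePresentation_of_comp iU.left (Red.bc U.ι G).hom
  obtain ⟨C, gC, c, hc, hcc, hcf⟩ := GenTrans.exists_centralizer_essFree hess iU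
  obtain ⟨N, gN, n, hn, hnc, hnf⟩ := GenTrans.exists_normalizer_essFree hess iU
  haveI := hcc
  haveI := hcf
  haveI := hnc
  haveI := hnf
  exact ⟨U, hne, hic, C, N, gC, gN, c, n, hc, hcc, by rw [← Over.w c]; infer_instance, by rw [← Over.w c]; infer_instance,
    hn, hnc, by rw [← Over.w n]; infer_instance, by rw [← Over.w n]; infer_instance⟩

end Groth.Agent.S4137
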