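import Groth.Statements.S4140
import Groth.Agent.S5334


set_option autoImplicit false
universe u
open CategoryTheory MonoidalCategory CartesianMonoidalCategory MonObj GrpObj AlgebraicGeometry CategoryTheory.Limits
open SGA3

namespace Groth.Agent.S4140
open Groth.Agent

/-- Let G be an S-group scheme locally of finite presentation over S such that s ↦ dim G_s is locally
constant, and σ, τ two S-points of G with values in the neutral component G⁰ (their images lie in
the union of the neutral components of the fibres). Then the subscheme of coincidences of σ and τ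
(the pullback of the diagonal of G along (σ, τ)) is a closed subscheme of S. -/
theorem result (S : Scheme.{u}) (G : Over S) [GrpObj G]
    [LocallyOfFinitePresentation G.hom]
    (hdim : IsLocallyConstant (fun s : S => topologicalKrullDim ↥(G.hom.base ⁻¹' {s})))
    (σ τ : 𝟙_ (Over S) ⟶ G) (hσ : Set.range σ.left.base ⊆ SGA3x.neutralSet G)
    (hτ : Set.range τ.left.base ⊆ SGA3x.neutralSet G) :
    IsClosedImmersion (pullback.fst (lift σ τ) (lift (𝟙 G) (𝟙 G))).left := by
  classical
  let a : AlgGrp.Action G G :=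
    { act := μ[G]
      one_act := MonObj.one_mul G
      mul_act := MonObj.mul_assoc G }
  let E := pullback (lift σ τ) (lift (𝟙 G) (𝟙 G))
  let ε : E.left ⟶ (𝟙_ (Over S)).left := (pullback.fst (lift σ τ) (lift (𝟙 G) (𝟙 G))).left
  have hsq : IsPullback ε (pullback.snd (lift σ τ) (lift (𝟙 G) (𝟙 G))).left (lift σ τ).left (lift (𝟙 G) (𝟙 G)).left :=
    (IsPullback.of_hasPullback (lift σ τ) (lift (𝟙 G) (𝟙 G))).map (Over.forget S)
  have hdiag : (lift (𝟙 G) (𝟙 G)).left = pullback.diagonal G.hom := rfl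
  haveI : IsImmersion (lift (𝟙 G) (𝟙 G)).left := by rw [hdiag]; infer_instance
  haveI : IsImmersion ε := MorphismProperty.of_isPullback hsq.flip inferInstance
  have hrange : Set.range ε.base = (lift σ τ).left.base ⁻¹' Set.range (lift (𝟙 G) (𝟙 G)).left.base := by
    rw [← hsq.isoPullback_hom_fst]
    show Set.range ((pullback.fst (lift σ τ).left (lift (𝟙 G) (𝟙 G)).left).base ∘ hsq.isoPullback.hom.base) = _
    rw [Set.range_comp, Set.range_eq_univ.2 hsq.isoPullback.hom.surjective, Set.image_univ]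
    exact Scheme.Pullback.range_fst _ _
  refine IsClosedImmersion.of_isPreimmersion ε ?_
  rw [hrange]
  refine isClosed_iff_forall_filter.2 fun p l hl hle hp => ?_
  obtain ⟨U, hU, hxU, -⟩ := exists_isAffineOpen_mem_and_subset (x := η[G].left.base p) (U := ⊤) trivial
  haveI : IsAffine (U : Scheme.{u}) := hU
  haveI : IsSeparated ((U.ι ≫ G.hom) ≫ terminal.from S) := by
    rw [terminalIsTerminal.hom_ext (_ ≫ terminal.from S) (terminal.from _)]
    infer_instance
  haveI : IsSeparated (U.ι ≫ G.hom) := IsSeparated.of_comp _ (terminal.from S)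
  obtain ⟨V, hV, hVs⟩ := S5334.result S G G hdim a U inferInstance
  let W : Set ↥(𝟙_ (Over S)).left := η[G].left.base ⁻¹' U
  have hWo : IsOpen W := U.isOpen.preimage η[G].left.base.hom.continuous
  let z : G ⟶ G ⊗ G := lift (𝟙 G) (toUnit G ≫ η[G])
  have hz : z ≫ μ[G] = 𝟙 G := by
    show lift (𝟙 G) (toUnit G ≫ η[G]) ≫ μ[G] = _
    rw [← Hom.mul_def, ← Hom.one_def, _root_.mul_one]
  have hmem : ∀ g ∈ SGA3x.neutralSet G, (toUnit G).left.base g ∈ W → g ∈ V := by
    intro g hg hgW
    rw [← SetLike.mem_coe, hV]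
    refine ⟨z.left.base g, ⟨?_, ?_⟩, ?_⟩
    · have : (z ≫ fst G G).left.base g = g := by rw [lift_fst]; rfl
      show (z ≫ fst G G).left.base g ∈ _
      rw [this]; exact hg
    · show (z ≫ snd G G).left.base g ∈ _
      rw [lift_snd]
      exact hgW
    · show (z ≫ μ[G]).left.base g = g
      rw [hz]; rfl
  have hσV : ∀ q ∈ W, σ.left.base q ∈ V := fun q hq => hmem _ (hσ ⟨q, rfl⟩) (by
    show (σ ≫ toUnit G).left.base q ∈ W
    rw [show σ ≫ toUnit G = 𝟙 _ from toUnit_unique _ _]; exact hq)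
  have hτV : ∀ q ∈ W, τ.left.base q ∈ V := fun q hq => hmem _ (hτ ⟨q, rfl⟩) (by
    show (τ ≫ toUnit G).left.base q ∈ W
    rw [show τ ≫ toUnit G = 𝟙 _ from toUnit_unique _ _]; exact hq)
  let O : TopologicalSpace.Opens ↥(G ⊗ G).left :=
    ((fst G G).left ⁻¹ᵁ V) ⊓ ((snd G G).left ⁻¹ᵁ V)
  let J : pullback (V.ι ≫ G.hom) (V.ι ≫ G.hom) ⟶ (G ⊗ G).left :=
    pullback.map (V.ι ≫ G.hom) (V.ι ≫ G.hom) G.hom G.hom V.ι V.ι (𝟙 S) (by simp) (by simp)
  have hJr : Set.range J.base = (O : Set ↥(G ⊗ G).left) := by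
    refine (Scheme.Pullback.range_map _ _ _ _ V.ι V.ι (𝟙 S) _ _).trans ?_
    rw [Scheme.Opens.range_ι]
    rfl
  haveI : IsOpenImmersion J := by dsimp [J]; infer_instance
  have hcl : IsClosed (J.base ⁻¹' Set.range (lift (𝟙 G) (𝟙 G)).left.base) := by
    have e : J.base ⁻¹' Set.range (lift (𝟙 G) (𝟙 G)).left.base = Set.range (pullback.diagonal (V.ι ≫ G.hom)).base := by
      have hcomm : pullback.diagonal (V.ι ≫ G.hom) ≫ J = V.ι ≫ pullback.diagonal G.hom := by
        apply pullback.hom_ext <;> simp only [J, pullback.map, Category.assoc, pullback.lift_fst, pullback.lift_snd, pullback.diagonal_fst_assoc, pullback.diagonal_snd_assoc, pullback.diagonal_fst, pullback.diagonal_snd, Category.comp_id]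
      apply Set.Subset.antisymm
      · rintro w ⟨g, hg⟩
        have hgV : g ∈ V := by
          have h1 : J.base w ∈ (O : Set ↥(G ⊗ G).left) := hJr ▸ ⟨w, rfl⟩
          rw [← hg] at h1
          have h2 : (lift (𝟙 G) (𝟙 G) ≫ fst G G).left.base g ∈ V := h1.1
          rw [lift_fst] at h2
          exact h2
        refine ⟨⟨g, hgV⟩, J.isOpenEmbedding.injective ?_⟩
        show (pullback.diagonal (V.ι ≫ G.hom) ≫ J).base ⟨g, hgV⟩ = _
        rw [hcomm]
        exact hg
      · rintro _ ⟨v, rfl⟩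
        exact ⟨V.ι.base v, by
          show (V.ι ≫ pullback.diagonal G.hom).base v = _
          rw [← hcomm]; rfl⟩
    rw [e]
    haveI : IsClosedImmersion (pullback.diagonal (V.ι ≫ G.hom)) := inferInstance
    exact (pullback.diagonal (V.ι ≫ G.hom)).isClosedEmbedding.isClosed_range
  by_contra hpn
  have hpW : p ∈ W := hxU
  have hlp : (lift σ τ).left.base p ∈ Set.range J.base := by
    rw [hJr]
    exact ⟨show (lift σ τ ≫ fst G G).left.base p ∈ V by rw [lift_fst]; exact hσV p hpW,
      show (lift σ τ ≫ snd G G).left.base p ∈ V by rw [lift_snd]; exact hτV p hpW⟩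
  obtain ⟨w, hw⟩ := hlp
  have hopen : IsOpen (J.base '' (J.base ⁻¹' Set.range (lift (𝟙 G) (𝟙 G)).left.base)ᶜ) :=
    J.isOpenEmbedding.isOpenMap _ hcl.isOpen_compl
  have hn : (lift σ τ).left.base ⁻¹' (J.base '' (J.base ⁻¹' Set.range (lift (𝟙 G) (𝟙 G)).left.base)ᶜ) ∈ nhds p :=
    (hopen.preimage (lift σ τ).left.base.hom.continuous).mem_nhds ⟨w, fun hw' => hpn (by
      show (lift σ τ).left.base p ∈ Set.range (lift (𝟙 G) (𝟙 G)).left.base
      rw [← hw]; exact hw'), hw⟩
  have hbad := Filter.inter_mem (hp hn) (Filter.le_principal_iff.1 hle)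
  obtain ⟨q, ⟨w', hw', hqw⟩, hq⟩ := Filter.nonempty_of_mem (f := l) hbad
  exact hw' (show J.base w' ∈ Set.range (lift (𝟙 G) (𝟙 G)).left.base by rw [hqw]; exact hq)

end Groth.Agent.S4140
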