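import Groth.Statements.S4141
import Groth.Agent.Deform.Chev.PerfectCor

set_option autoImplicit false
universe u
open CategoryTheory MonoidalCategory CartesianMonoidalCategory MonObj GrpObj AlgebraicGeometry CategoryTheory.Limits
open SGA3

namespace Groth.Agent.S4141

/-- Let k be a perfect field and G a smooth connected algebraic group over k. Then there is an affine,
smooth, connected closed subgroup scheme L of G, normal in G, such that the quotient G/L is an
abelian variety: there is a surjective flat homomorphism q : G → Q with kernel L onto a proper,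
smooth, connected k-group scheme Q. Moreover L is unique: any affine smooth connected normal closed
subgroup with proper smooth connected quotient coincides with L. -/
theorem result (k : Type u) [Field k] [PerfectField k]
    (G : Over (Spec (CommRingCat.of k))) [GrpObj G] [Smooth G.hom] [QuasiCompact G.hom] [ConnectedSpace ↥G.left] :
    ∃ (L : Over (Spec (CommRingCat.of k))) (_ : GrpObj L) (l : L ⟶ G) (Q : Over (Spec (CommRingCat.of k))) (_ : GrpObj Q)
      (q : G ⟶ Q), IsMonHom l ∧ IsClosedImmersion l.left ∧ IsAffine L.left ∧ Smooth L.hom ∧ ConnectedSpace ↥L.left ∧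
      AlgGrp.IsNormalHom l ∧ IsMonHom q ∧ Surjective q.left ∧ Flat q.left ∧ AlgGrp.IsKernel l q ∧
      IsProper Q.hom ∧ Smooth Q.hom ∧ ConnectedSpace ↥Q.left ∧
      ∀ (L' : Over (Spec (CommRingCat.of k))) [GrpObj L'] (l' : L' ⟶ G) (Q' : Over (Spec (CommRingCat.of k))) [GrpObj Q']
        (q' : G ⟶ Q'), IsMonHom l' → IsClosedImmersion l'.left → IsAffine L'.left → Smooth L'.hom → ConnectedSpace ↥L'.left →
        AlgGrp.IsNormalHom l' → IsMonHom q' → Surjective q'.left → Flat q'.left → AlgGrp.IsKernel l' q' →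
        IsProper Q'.hom → Smooth Q'.hom → ConnectedSpace ↥Q'.left → ∃ φ : L' ≅ L, φ.hom ≫ l = l' := by
  obtain ⟨L, iL, l, Q, iQ, q, hl, hlc, hLs, hLq, hLc, hLa, hn, hq, hqf, hqs, hk, hQ, hQs, hQc⟩ :=
    Deform.Chev.Perfect.exists_decomp G
  refine ⟨L, iL, l, Q, iQ, q, hl, hlc, hLa, hLs, hLc, hn, hq, hqs, hqf, hk, hQ, hQs, hQc, ?_⟩
  intro L' iL' l' Q' iQ' q' hl' hlc' hLa' hLs' hLc' _ hq' _ _ hk' hQ' _ _
  letI := iL
  letI := iQ
  haveI := hl; haveI := hlc; haveI := hLa; haveI := hLs; haveI := hLc; haveI := hq; haveI := hQ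
  haveI := hl'; haveI := hlc'; haveI := hLa'; haveI := hLs'; haveI := hLc'; haveI := hq'; haveI := hQ'
  exact Deform.Chev.Perfect.decomp_unique l q hk l' q' hk'

end Groth.Agent.S4141
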