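import Groth.Statements.S4147
import Groth.Agent.Deform.Luna.TorusImageBase
import Groth.Agent.Deform.Luna.TorusImageField

set_option autoImplicit false
universe u
open CategoryTheory MonoidalCategory CartesianMonoidalCategory MonObj GrpObj AlgebraicGeometry CategoryTheory.Limits
open SGA3x

namespace Groth.Agent.S4147
attribute [local instance] CategoryTheory.Hom.monoid CategoryTheory.Hom.group
open CategoryTheory.Limits
set_option linter.style.haveILetI false

/-- Let G and G' be S-group schemes, smooth, separated and of finite type over S, G acquiring a maximal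
torus after an fpqc covering base change, and u : G → G' a homomorphism which is surjective on every
geometric fibre. Then for every maximal torus i : T → G there is a maximal torus i' : T' → G' of G'
and a surjective flat homomorphism v : T → T' with v ≫ i' = i ≫ u (T' is the image u(T)). -/
theorem result (S : Scheme.{u}) (G G' : Over S) [GrpObj G] [GrpObj G']
    [Smooth G.hom] [IsSeparated G.hom] [QuasiCompact G.hom] [Smooth G'.hom] [IsSeparated G'.hom] [QuasiCompact G'.hom]
    (hG : SGA3x.HasMaxTorusFpqcLocally G) (u : G ⟶ G') [IsMonHom u]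
    (hu : ∀ s : S, Surjective ((Over.pullback (Red.geomPt s)).map u).left)
    (T : Over S) [GrpObj T] (i : T ⟶ G) (hT : Red.IsMaximalTorus i) :
    ∃ (T' : Over S) (_ : GrpObj T') (i' : T' ⟶ G') (v : T ⟶ T'), Red.IsMaximalTorus i' ∧ IsMonHom v ∧
      v ≫ i' = i ≫ u ∧ Surjective v.left ∧ Flat v.left := by
  obtain ⟨hi, him, hTt, hmax⟩ := id hT
  haveI := hi; haveI := him
  obtain ⟨P, gP, j, p, hj, hjc, hp, hpj, hpf, hps, hPt⟩ := Deform.Luna.exists_image_torus_base hTt (i ≫ u)
  haveI := hj; haveI := hjc; haveI := hp; haveI := hps
  haveI : Mono j := (Over.forget S).mono_of_mono_map (inferInstanceAs (Mono j.left))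
  refine ⟨P, gP, j, p, ⟨hj, inferInstance, hPt, fun s => ?_⟩, hp, hpj, hps, hpf⟩
  let β := Red.geomPt s
  let F := Over.pullback β
  haveI : Smooth (Red.geomFibre s G).hom := inferInstanceAs (Smooth (pullback.snd G.hom β))
  haveI : QuasiCompact (Red.geomFibre s G).hom := inferInstanceAs (QuasiCompact (pullback.snd G.hom β))
  haveI : Smooth (Red.geomFibre s G').hom := inferInstanceAs (Smooth (pullback.snd G'.hom β))
  haveI : QuasiCompact (Red.geomFibre s G').hom := inferInstanceAs (QuasiCompact (pullback.snd G'.hom β))
  haveI : IsMonHom (F.map u) := inferInstanceAs (IsMonHom ((Over.pullback β).map u))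
  haveI : Surjective (F.map u).left := hu s
  haveI : IsMonHom (F.map i) := inferInstanceAs (IsMonHom ((Over.pullback β).map i))
  haveI : Mono (F.map i) := inferInstanceAs (Mono ((Over.pullback β).map i))
  have hmaxs : AGF.IsMaxTorus (F.map i) := ⟨inferInstance, inferInstance, Deform.isTorus_bc β hTt, hmax s⟩
  haveI : IsMonHom (F.map j) := inferInstanceAs (IsMonHom ((Over.pullback β).map j))
  haveI : IsClosedImmersion (F.map j).left :=
    MorphismProperty.overPullbackMap (P := @IsClosedImmersion) β j hjc
  haveI : Surjective (F.map p).left := MorphismProperty.overPullbackMap (P := @Surjective) β p hps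
  exact (Deform.Luna.isMaxTorus_image_gen (F.map u) hmaxs (F.map j) (Deform.isTorus_bc β hPt) (F.map p)
    (by rw [← Functor.map_comp, ← Functor.map_comp, hpj])).2.2.2

end Groth.Agent.S4147
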