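import Groth.Statements.S4150
import Groth.Agent.S5352
import Groth.Agent.Deform.QuotGroup

set_option autoImplicit false
universe u
open CategoryTheory MonoidalCategory CartesianMonoidalCategory MonObj GrpObj AlgebraicGeometry CategoryTheory.Limits
open SGA3

namespace Groth.Agent.S4150

/-- Let k be a field. The category of commutative algebraic k-groups (commutative group objects in
k-schemes whose underlying scheme is of finite type over k, as a full subcategory of commutative
group objects over Spec k) is an abelian category. -/
theorem result (k : Type u) [Field k] :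
    Nonempty (Abelian (ObjectProperty.FullSubcategory
      (fun G : CommGrp (Over (Spec (CommRingCat.of k))) => LocallyOfFiniteType G.X.hom ∧ QuasiCompact G.X.hom))) := by
  refine Deform.AbelianCat.nonempty_abelian ⟨fun G h => h.1, fun G h => h.2, ⟨inferInstanceAs (LocallyOfFiniteType (𝟙 _)),
    inferInstanceAs (QuasiCompact (𝟙 _))⟩, ?_, ?_, ?_⟩
  · rintro G H ⟨_, _⟩ ⟨_, _⟩
    refine ⟨?_, ?_⟩
    · show LocallyOfFiniteType (Limits.pullback.fst G.X.hom H.X.hom ≫ G.X.hom)
      infer_instance
    · show QuasiCompact (Limits.pullback.fst G.X.hom H.X.hom ≫ G.X.hom)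
      infer_instance
  · rintro G H i _ _ ⟨_, _⟩
    refine ⟨?_, ?_⟩
    · rw [← Over.w i]; infer_instance
    · rw [← Over.w i]; infer_instance
  · rintro N G i _ _ ⟨_, _⟩
    haveI : LocallyOfFiniteType N.X.hom := by rw [← Over.w i]; infer_instance
    haveI : Mono i := (Over.forget _).mono_of_mono_map (inferInstanceAs (Mono i.left))
    have hN : AlgGrp.IsNormalHom i := fun T g n => ⟨n, by
      letI : CommGroup (T ⟶ G.X) := Hom.commGroup
      rw [mul_comm g, mul_inv_cancel_right]⟩
    obtain ⟨Q, p, hpf, hps, hpl, sq, hsep, hQ⟩ := Deform.QuotField.exists_quot i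
    haveI := hpf; haveI := hps; haveI := hpl; haveI := hQ
    obtain ⟨gQ, hp, hk⟩ := Deform.QuotGroup.exists_grpObj i p sq hN
    haveI := hp
    haveI : QuasiCompact p.left := Deform.AbelianCat.quasiCompact_hom p
    haveI : IsCommMonObj Q := S5352.isCommMonObj_of_ff p
    haveI : QuasiCompact Q.hom := by
      haveI : CompactSpace G.X.left := QuasiCompact.compactSpace_of_compactSpace G.X.hom
      haveI : CompactSpace Q.left := p.left.surjective.compactSpace p.left.continuous
      infer_instance
    exact ⟨{ X := Q }, p, ⟨inferInstance, inferInstance⟩, hp, hpf, hps, hk⟩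

end Groth.Agent.S4150
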