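import Groth.Statements.S4255
import Groth.Agent.EtModLib.FlatSum
-- import your own Groth.Agent.* helpers here

set_option autoImplicit false
universe u
open CategoryTheory CategoryTheory.Limits AlgebraicGeometry Opposite
open SGA4h


namespace Groth.Agent.S4255

/-- Let X be a Noetherian scheme, Λ a commutative Noetherian ring, and v : A → B an epimorphism of etale
sheaves of Λ-modules on X with B constructible. Then there exist a constructible sheaf of Λ-modules
K whose stalks at all geometric points are flat Λ-modules, and a morphism u : K → A such that u ≫ v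
is an epimorphism. -/
theorem result {X : Scheme.{u}} [IsNoetherian X]
    (Λ : Type (u + 1)) [CommRing Λ] [IsNoetherianRing Λ] {A B : EtModW.Mod Λ X} (v : A ⟶ B) [Epi v]
    (hB : EtModW.IsConstructible Λ B) :
    ∃ (K : EtModW.Mod Λ X) (w : K ⟶ A), EtModW.IsConstructible Λ K ∧
      (∀ (Ω : Type u) [Field Ω] [IsSepClosed Ω] (ξ : Spec (CommRingCat.of Ω) ⟶ X), Module.Flat Λ ((EtModW.stalk Λ ξ).obj K)) ∧
      Epi (w ≫ v) := by
  obtain ⟨m, U, j, hj, hU, he⟩ := Groth.Agent.EtModLib.exists_sum_extZero_lift v hB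
  haveI : ∀ k, EtShriek.JCont (j k) := fun k => Groth.Agent.EtFound.jCont (j k)
  obtain ⟨ψ, hψ⟩ := he
  have hs : Groth.Agent.S6700.IsSum Λ (∐ fun k => (EtSix.extZeroMod Λ (j k)).obj (EtSix.constΛ Λ (U k))) :=
    ⟨m, U, j, hj, hU, fun {_} => ⟨Iso.refl _⟩⟩
  exact ⟨_, ψ, hs.isConstructible, fun Ω _ _ ξ => Groth.Agent.EtModLib.FlatSum.flat_stalk_isSum hs ξ, hψ⟩

end Groth.Agent.S4255
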