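import Groth.Statements.S4265
import Groth.Agent.ProjPush.Bound
import Groth.Agent.KFlatLib.Scheme.RpushUnbounded
import Groth.Agent.KFlatLib.Scheme.PCQCoh
import Groth.Agent.PnCoh.Chow.Proper

set_option autoImplicit false
universe u
open CategoryTheory CategoryTheory.Limits AlgebraicGeometry
attribute [local instance] HasDerivedCategory.standard
open KSix

namespace Groth.Agent.S4265

/-- Let Y be an affine scheme, X = P^r_Y with projection f : X ⟶ Y, and E an object of D(O_X) which is
pseudo-coherent with bounded cohomology, acyclic in degrees > a. Assuming the total derived functor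
Rf_* exists, Rf_*E is acyclic in degrees > a + r. -/
theorem result (Y : Scheme.{u}) [IsAffine Y] (r : ℕ)
    [DCoh.HasRpush (CohB1.ProjSpaceOver.toBase r Y)]
    (E : DCoh.D (CohB1.ProjSpaceOver r Y)) (hE : ∀ m : ℤ, DCoh.IsPseudoCoherentD m E)
    (a b : ℤ) [E.IsGE b] [E.IsLE a] :
    ((DCoh.Rpush (CohB1.ProjSpaceOver.toBase r Y)).obj E).IsLE (a + r) := by
  haveI := Groth.Agent.KFlatLib.hasInjectiveResolutions_modules (X := CohB1.ProjSpaceOver r Y)
  let f := CohB1.ProjSpaceOver.toBase r Y
  haveI := Groth.Agent.PnCoh.Chow.isProper_toSpec r (ULift.{u} ℤ)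
  haveI : IsSeparated f := MorphismProperty.pullback_snd _ _ inferInstance
  haveI : QuasiCompact f := MorphismProperty.pullback_snd _ _ inferInstance
  haveI : (CohB1.ProjSpaceOver r Y).IsSeparated := ⟨by
    rw [← terminal.comp_from f]; infer_instance⟩
  have hq : DCoh.IsQCohD E := fun i =>
    Groth.Agent.KFlatLib.isQCoh_HD_of_pseudoCoherent (hE (i - 1)) i (by omega)
  obtain ⟨U, hU, hcov⟩ := Groth.Agent.ProjPush.exists_affine_cover_projSpaceOver r Y
  rw [DerivedCategory.isLE_iff]
  intro i hi
  refine Groth.Agent.KFlatLib.isZero_of_isZero_restrict _ fun y => ⟨⊤, trivial, ?_⟩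
  refine Groth.Agent.KFlatLib.isZero_restrict_hd_rpush f hq a ⊤ (r + 1) ?_ i (by omega)
  intro M hM p hp
  exact (Scheme.Modules.restrictFunctor (⊤ : Y.Opens).ι).map_isZero
    (Groth.Agent.ProjPush.isZero_Rpush_of_cover f (r + 1) U hU hcov M hM p hp (by omega))

end Groth.Agent.S4265
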