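import Groth.Statements.S4268
import Groth.Agent.ProjPush.PushPCGen
import Groth.Agent.ProjPush.PerfRel

set_option autoImplicit false
universe u
open CategoryTheory CategoryTheory.Limits AlgebraicGeometry
attribute [local instance] HasDerivedCategory.standard
open KSix

namespace Groth.Agent.S4268

/-- In the case where f is projective, over an arbitrary base: let Y be a scheme, i : X ⟶ P^r_Y a closed
immersion and f : X ⟶ Y the composite with the projection; suppose f is a perfect morphism and let E
be a bounded below perfect object of D(O_X). Assuming Rf_* exists, Rf_*E is perfect on Y. (The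
source allows a closed immersion into any P(F) with F quasi-coherent of finite type on Y.) -/
theorem result {X Y : Scheme.{u}} (r : ℕ)
    (i : X ⟶ CohB1.ProjSpaceOver r Y) [IsClosedImmersion i]
    (hf : MoreMor.IsPerfectMor (i ≫ CohB1.ProjSpaceOver.toBase r Y)) [DCoh.HasRpush (i ≫ CohB1.ProjSpaceOver.toBase r Y)]
    (E : DCoh.D X) (b : ℤ) [E.IsGE b] (hE : DCoh.IsPerfect E) :
    DCoh.IsPerfect ((DCoh.Rpush (i ≫ CohB1.ProjSpaceOver.toBase r Y)).obj E) := by
  open Groth.Agent Groth.Agent.KFlatLib in
  haveI := hasRpush_scheme (CohB1.ProjSpaceOver.toBase r Y)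
  haveI := hasRpush_scheme i
  haveI := ProjPush.smooth_toBase' r Y
  obtain ⟨ec⟩ := nonempty_rpush_comp i (CohB1.ProjSpaceOver.toBase r Y)
  exact DQGen.isPerfect_of_iso (ec.app E) (ProjPush.isPerfect_rpush_projSpaceOver' r Y _
    (ProjPush.isPerfect_rpush_closed (CohB1.ProjSpaceOver.toBase r Y) i hf hE))

end Groth.Agent.S4268
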