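import Groth.Statements.S4270
import Groth.Agent.AmpleFamGen.Basic
import Groth.Agent.S1499


set_option autoImplicit false
universe u
open CategoryTheory CategoryTheory.Limits AlgebraicGeometry
attribute [local instance] HasDerivedCategory.standard
open KSix

set_option backward.isDefEq.respectTransparency false
set_option backward.isDefEq.respectTransparency.types false
attribute [local instance] CategoryTheory.Abelian.hasFiniteBiproducts

namespace Groth.Agent.S4270

/-- A scheme admitting an ample family of invertible modules has the resolution property: every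
quasi-coherent module of finite type is a quotient of a finite locally free module. -/
theorem result (X : Scheme.{u}) (hX : MoreMor.HasAmpleFamily X) :
    PerfAux.HasResolutionProperty X := by
  haveI := hX.1
  haveI := S1499.quasiSeparatedSpace_of_ampleFamily hX
  intro F hF hft
  choose L n s hL hn hxs hsa using hX.2
  obtain ⟨r, N, π, hπ, hN⟩ := AmpleFamGen.exists_epi_negPowers L hL (fun x => by
    obtain ⟨m, hm⟩ := Nat.exists_eq_add_of_le' (hn x)
    have key : ∀ (a : ℕ) (t : Coh.structureModule X ⟶ CohB1.tensorPow (L x) a), a = m + 1 →
        x ∈ CohB1.genLocus _ t → IsAffineOpen (CohB1.genLocus _ t) →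
        ∃ (k : X) (m : ℕ) (t : Coh.structureModule X ⟶ CohB1.tensorPow (L k) (m + 1)),
          x ∈ CohB1.genLocus _ t ∧ IsAffineOpen (CohB1.genLocus _ t) := by
      rintro _ t rfl h1 h2
      exact ⟨x, m, t, h1, h2⟩
    exact key _ (s x) hm (hxs x) (hsa x)) hF hft
  exact ⟨⨁ N, π, AmpleFamGen.isFinLocFree_biproduct N fun j => (hN j).1, hπ⟩

end Groth.Agent.S4270
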