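import Groth.Statements.S4272
import Groth.Statements.S4272
import Groth.Agent.AmpleFamGen.Divisorial

set_option backward.isDefEq.respectTransparency false

set_option autoImplicit false
universe u
open CategoryTheory CategoryTheory.Limits AlgebraicGeometry
attribute [local instance] HasDerivedCategory.standard
open KSix

namespace Groth.Agent.S4272

/-- A separated Noetherian scheme whose local rings are factorial (unique factorisation domains) is
divisorial, i.e. admits an ample family of invertible modules. -/
theorem result (X : Scheme.{u}) [IsNoetherian X] [X.IsSeparated]
    (hfact : ∀ x : X, ∃ _ : IsDomain (X.presheaf.stalk x), UniqueFactorizationMonoid (X.presheaf.stalk x)) :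
    MoreMor.HasAmpleFamily X := by
  exact AmpleFamGen.hasAmpleFamily_of_factorial X (fun V W hV hW => hV.inf hW)
    fun x => let ⟨h, h'⟩ := hfact x; ⟨h, h'⟩

end Groth.Agent.S4272
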