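import Groth.Statements.S4276
import Groth.Agent.TauNum.Euler
import Groth.Agent.Nakai.KleimanDeg
-- import your own Groth.Agent.* helpers here

set_option autoImplicit false
universe u
open CategoryTheory CategoryTheory.Limits AlgebraicGeometry
open Pic13
open scoped Groth.Agent.H23.PicMul

set_option backward.isDefEq.respectTransparency false
set_option backward.isDefEq.respectTransparency.types false
set_option synthInstance.maxHeartbeats 400000
set_option maxHeartbeats 1000000
set_option linter.style.haveILetI false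
attribute [-instance] CategoryTheory.catToReflQuiver

namespace Groth.Agent.S4276

/-- Let k be an algebraically closed field, X a proper k-scheme of dimension ≤ d and L an invertible
O_X-module which is τ-equivalent to zero (some positive power of L is algebraically equivalent to
zero). Then χ(F ⊗ L) = χ(F) for every coherent O_X-module F (Euler characteristics computed in
degrees ≤ d). -/
theorem result (k : Type u) [Field k] [IsAlgClosed k] (X : Scheme.{u}) [X.Over (Spec (CommRingCat.of k))]
    [IsProper (X ↘ Spec (CommRingCat.of k))] (d : ℕ) (hd : topologicalKrullDim X ≤ d)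
    (L : X.Modules) (hL : PicF.IsInvertible L) (hτ : Pic13.IsTauEquivZero k X L) (F : X.Modules) (hF : Coh.IsCoh F) :
    FGA.eulerCharLE k X (CohB1.tensorMod F L) d = FGA.eulerCharLE k X F d := by
  obtain ⟨n, hn, halg⟩ := hτ
  open Groth.Agent in
  haveI := CurveCohLib.isNoetherian_of_proper (k := k) (X := X)
  obtain ⟨R, -, hR⟩ : ∃ R : Polynomial ℚ, R.degree < ((d + 1 : ℕ) : WithBot ℕ) ∧
      ∀ m : ℕ, Groth.Agent.Snapper.χ k L F m = R.eval (m : ℚ) :=
    Groth.Agent.Snapper.isPolyLt_of_dim_lt k hL (d + 1) ⊤ (lt_of_le_of_lt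
      (le_trans (Topology.IsInducing.subtypeVal.topologicalKrullDim_le) hd)
      (by exact_mod_cast Nat.lt_succ_self d)) F hF (Set.subset_univ _)
  have hper : ∀ m : ℕ, R.eval ((m + n : ℕ) : ℚ) = R.eval (m : ℚ) := fun m => by
    open Groth.Agent in
    have hG : Coh.IsCoh (CohB1.tensorMod F (CohB1.tensorPow L m)) :=
      AmpleVan.isCoh_tensor hF (CurveDeg.isCoh_of_isInvertible (H23.PicMul.isInvertible_tensorPow hL m))
    open Groth.Agent in
    have h := TauNum.eulerCharLE_tensor_eq_of_algEquiv (k := k) hd hG halg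
    open Groth.Agent in
    rw [Nakai.eulerCharLE_eq_euler k hd (AmpleVan.isCoh_tensor hG
      (CurveDeg.isCoh_of_isInvertible (H23.PicMul.isInvertible_tensorPow hL n))).1,
      Nakai.eulerCharLE_eq_euler k hd hG.1] at h
    open Groth.Agent in
    rw [← hR, ← hR]
    refine Eq.trans ?_ (congrArg Int.cast h)
    open Groth.Agent in
    exact congrArg Int.cast (CurveCohLib.euler_congr (k := k) (H23.PicMul.cl_eq_iff.1 (by
      rw [ShStab.twist, H23.PicMul.cl_tensor, H23.PicMul.cl_tensor, H23.PicMul.cl_tensor, H23.PicMul.cl_tensorPow,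
        H23.PicMul.cl_tensorPow, H23.PicMul.cl_tensorPow, pow_add, mul_assoc])).some)
  have hc : ∀ j : ℕ, R.eval ((j * n : ℕ) : ℚ) = R.eval 0 := fun j => by
    induction j with
    | zero => simp
    | succ j ih => rw [Nat.succ_mul, hper, ih]
  have hconst : R = Polynomial.C (R.eval 0) := by
    have hinf : (Set.range fun j : ℕ => ((j * n : ℕ) : ℚ)).Infinite :=
      Set.infinite_range_of_injective fun a b hab => Nat.eq_of_mul_eq_mul_right hn (Nat.cast_injective hab)
    refine sub_eq_zero.1 (Polynomial.eq_zero_of_infinite_isRoot _ (hinf.mono ?_))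
    rintro _ ⟨j, rfl⟩
    simp only [Set.mem_setOf_eq, Polynomial.IsRoot, Polynomial.eval_sub, Polynomial.eval_C, hc, sub_self]
  have h10 : R.eval ((1 : ℕ) : ℚ) = R.eval ((0 : ℕ) : ℚ) := by rw [hconst]; simp
  rw [← hR, ← hR] at h10
  open Groth.Agent in
  rw [Nakai.eulerCharLE_eq_euler k hd (AmpleVan.isCoh_tensor hF (CurveDeg.isCoh_of_isInvertible hL)).1,
    Nakai.eulerCharLE_eq_euler k hd hF.1]
  open Groth.Agent in
  have e1 : Curv2.euler k X (ShStab.twist X L F 1) = Curv2.euler k X (CohB1.tensorMod F L) :=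
    CurveCohLib.euler_congr (k := k) (H23.PicMul.cl_eq_iff.1 (by
      rw [ShStab.twist, H23.PicMul.cl_tensor, H23.PicMul.cl_tensor, H23.PicMul.cl_tensorPow, pow_one])).some
  open Groth.Agent in
  have e0 : Curv2.euler k X (ShStab.twist X L F 0) = Curv2.euler k X F :=
    CurveCohLib.euler_congr (k := k) (H23.PicMul.cl_eq_iff.1 (by
      rw [ShStab.twist, H23.PicMul.cl_tensor, H23.PicMul.cl_tensorPow, pow_zero, mul_one])).some
  have h3 : (Curv2.euler k X (ShStab.twist X L F 1) : ℚ) = (Curv2.euler k X (ShStab.twist X L F 0) : ℚ) := h10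
  rw [← e1, ← e0]
  exact_mod_cast h3


end Groth.Agent.S4276
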