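import Groth.Statements.S4280
import Groth.Agent.S4278
import Groth.Agent.Nakai.KleimanDeg
-- import your own Groth.Agent.* helpers here

set_option autoImplicit false
universe u
open CategoryTheory CategoryTheory.Limits AlgebraicGeometry
open Pic13
open scoped Groth.Agent.H23.PicMul

set_option backward.isDefEq.respectTransparency false
set_option backward.isDefEq.respectTransparency.types false
set_option synthInstance.maxHeartbeats 400000
set_option maxHeartbeats 1000000
set_option linter.style.haveILetI false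
attribute [-instance] CategoryTheory.catToReflQuiver

namespace Groth.Agent.S4280

/-- Let k be an algebraically closed field, X a proper k-scheme carrying an ample invertible module H,
and L an invertible O_X-module, with inverse L', which is τ-equivalent to zero. Then L^{⊗ m} ⊗ H and
L'^{⊗ m} ⊗ H are ample for every m ≥ 0. -/
theorem result (k : Type u) [Field k] [IsAlgClosed k] (X : Scheme.{u}) [X.Over (Spec (CommRingCat.of k))]
    [IsProper (X ↘ Spec (CommRingCat.of k))]
    (H : X.Modules) (hH : CohB1.IsAmple H) (L L' : X.Modules) (hL : PicF.IsInvertible L)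
    (hLL' : Nonempty (CohB1.tensorMod L L' ≅ Coh.structureModule X)) (hτ : Pic13.IsTauEquivZero k X L) (m : ℕ) :
    CohB1.IsAmple (CohB1.tensorMod (CohB1.tensorPow L m) H) ∧ CohB1.IsAmple (CohB1.tensorMod (CohB1.tensorPow L' m) H) := by
  have hnum := Groth.Agent.S4278.result k X L hL hτ
  open Groth.Agent in
  have hL' : PicF.IsInvertible L' := by
    obtain ⟨D, hD, he⟩ := H23.PicInv.exists_inverse hL
    have h1 : PicF.cl L * PicF.cl L' = 1 := H23.PicMul.cl_eq_iff.2 hLL'
    have h2 : PicF.cl L * PicF.cl D = 1 := H23.PicMul.cl_eq_iff.2 he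
    obtain ⟨i⟩ := H23.PicMul.cl_eq_iff.1 ((H23.PicMul.isUnit_cl hL).mul_left_cancel (h2.trans h1.symm))
    exact H23.PicMul.isInvertible_of_iso i hD
  have hn : Groth.Agent.Nakai.Nef k L := (Groth.Agent.Nakai.nef_iff_curveDeg k hL).2
    fun Z i _ hZ hdim => (hnum Z i hZ hdim).ge
  have hn' : Groth.Agent.Nakai.Nef k L' := (Groth.Agent.Nakai.nef_iff_deg k hL').2 fun Z i hi hZ hdim => by
    haveI := hi
    haveI := hZ
    letI : Z.Over (Spec (CommRingCat.of k)) := ⟨i ≫ (X ↘ Spec (CommRingCat.of k))⟩
    haveI : IsProper (Z ↘ Spec (CommRingCat.of k)) :=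
      inferInstanceAs (IsProper (i ≫ (X ↘ Spec (CommRingCat.of k))))
    have h0 := hnum Z i hZ hdim
    open Groth.Agent in
    rw [Nakai.curveDeg_eq_deg k _ hdim (PicClLib.isInvertible_pullback i hL)] at h0
    open Groth.Agent in
    obtain ⟨e⟩ : Nonempty (CohB1.tensorMod ((Scheme.Modules.pullback i).obj L) ((Scheme.Modules.pullback i).obj L') ≅
        Coh.structureModule Z) := H23.PicMul.cl_eq_iff.1 (by
      rw [H23.PicMul.cl_tensor]
      show PicF.pullCl i (PicF.cl L) * PicF.pullCl i (PicF.cl L') = _
      rw [← H23.PicMul.pullCl_mul, ← H23.PicMul.cl_tensor, H23.PicMul.cl_eq_iff.2 hLL']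
      exact H23.PicMul.pullCl_one i)
    open Groth.Agent in
    have h1 := CurveRR.deg_tensor k hdim (PicClLib.isInvertible_pullback i hL) (PicClLib.isInvertible_pullback i hL')
    open Groth.Agent in
    have h2 : Curv2.deg k Z (CohB1.tensorMod ((Scheme.Modules.pullback i).obj L) ((Scheme.Modules.pullback i).obj L')) 1 = 0 := by
      exact (CurveRR.deg_congr k e 1).trans (CurveDeg.deg_structureModule k)
    open Groth.Agent in
    have h3 : (0 : ℤ) = Curv2.deg k Z ((Scheme.Modules.pullback i).obj L) 1 +
        Curv2.deg k Z ((Scheme.Modules.pullback i).obj L') 1 := h2.symm.trans h1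
    show 0 ≤ Curv2.deg k Z ((Scheme.Modules.pullback i).obj L') 1
    change Curv2.deg k Z ((Scheme.Modules.pullback i).obj L) 1 = 0 at h0
    omega
  exact ⟨Groth.Agent.Nakai.isAmple_tensor_of_nef k hL hn hH m, Groth.Agent.Nakai.isAmple_tensor_of_nef k hL' hn' hH m⟩


end Groth.Agent.S4280
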