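import Groth.Statements.S4304
import Groth.Agent.Pencil.Classes
import Groth.Agent.ThmA.Cor
-- import your own Groth.Agent.* helpers here

set_option autoImplicit false
universe u
open CategoryTheory CategoryTheory.Limits AlgebraicGeometry
open Pic13

set_option backward.isDefEq.respectTransparency false
set_option backward.isDefEq.respectTransparency.types false
set_option synthInstance.maxHeartbeats 400000
set_option maxHeartbeats 1000000
set_option linter.style.haveILetI false
attribute [-instance] CategoryTheory.catToReflQuiver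

namespace Groth.Agent.S4304

/-- (iii) implies (i), over S = Spec k with k algebraically closed: let X be a proper integral k-scheme
of dimension r = s + 2 ≥ 2 carrying an ample invertible module H with inverse H', and P a family of
invertible O_X-modules. Condition (iii): as L runs through P (with inverse L'), the degree
(c₁(L)·c₁(H)^{r-1}) stays bounded and (c₁(L)²·c₁(H)^{r-2}) stays bounded below; condition (i): P is
bounded. Intersection numbers are those of FGA.intNum, taking the inverse modules as arguments. -/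
theorem result (k : Type u) [Field k] [IsAlgClosed k] (X : Scheme.{u})
    [X.Over (Spec (CommRingCat.of k))] [IsProper (X ↘ Spec (CommRingCat.of k))] [IsIntegral X] (s : ℕ)
    (hdim : topologicalKrullDim X = (s + 2 : ℕ)) (H H' : X.Modules) (hH : CohB1.IsAmple H)
    (hHH' : Nonempty (CohB1.tensorMod H H' ≅ Coh.structureModule X))
    (P : X.Modules → Prop) (hP : ∀ L, P L → PicF.IsInvertible L)
    (hiii : ∃ B : ℤ, ∀ L L' : X.Modules, P L → Nonempty (CohB1.tensorMod L L' ≅ Coh.structureModule X) →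
      |FGA.intNum k X (s + 2) (Matrix.vecCons L' (fun _ : Fin (s + 1) => H')) (Coh.structureModule X)| ≤ B ∧
      -B ≤ FGA.intNum k X (s + 2) (Matrix.vecCons L' (Matrix.vecCons L' (fun _ : Fin s => H'))) (Coh.structureModule X)) :
    Pic13.IsBounded k X P := by
  open Groth.Agent Groth.Agent.H23.PicMul in
  haveI := Groth.Agent.CurveCohLib.isNoetherian_of_proper (k := k) (X := X)
  obtain ⟨B, hB⟩ := hiii
  obtain ⟨H₁, hH₁, ⟨ε⟩⟩ := Groth.Agent.H23.PicInv.exists_inverse hH.1
  have hH1 : PicF.cl H * PicF.cl H' = 1 := Groth.Agent.NumTau.cl_mul_one_of_iso hHH'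
  have hH' : PicF.IsInvertible H' := by
    have h1 : PicF.cl H * PicF.cl H₁ = 1 := Groth.Agent.NumTau.cl_mul_one_of_iso ⟨ε⟩
    have e : PicF.cl H₁ = PicF.cl H' := by
      calc PicF.cl H₁ = PicF.cl H₁ * (PicF.cl H * PicF.cl H') := by rw [hH1, mul_one]
        _ = PicF.cl H * PicF.cl H₁ * PicF.cl H' := by ac_rfl
        _ = _ := by rw [h1, one_mul]
    exact Groth.Agent.H23.PicMul.isInvertible_of_iso (Groth.Agent.H23.PicMul.cl_eq_iff.1 e).some hH₁
  obtain ⟨q, R, hR, hrep⟩ := Groth.Agent.Pencil.exists_reps s k X hdim H H' hH hH' hH1 B.natAbs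
  choose R' hR' hRR' using fun j => Groth.Agent.H23.PicInv.exists_inverse (hR j)
  refine Groth.Agent.ThmA.isBounded_of_num hP fun X' _ _ p hp A _ =>
    ⟨q, fun j => (Scheme.Modules.pullback p).obj (R' j), fun j => Groth.Agent.PicClLib.isInvertible_pullback p (hR' j), fun L hL => ?_⟩
  obtain ⟨L', hL', ⟨δ⟩⟩ := Groth.Agent.H23.PicInv.exists_inverse (hP L hL)
  obtain ⟨b1, b2⟩ := hB L L' hL ⟨δ⟩
  have hBn : B ≤ (B.natAbs : ℤ) := Int.le_natAbs
  have c1 := b1.trans hBn
  have c2 := (neg_le_neg hBn).trans b2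
  rw [← Int.cast_le (R := ℚ), Int.cast_abs, Int.cast_natCast, Groth.Agent.Pencil.intNum_deg_eq k hdim.le hH' hL'] at c1
  rw [← Int.cast_le (R := ℚ), Int.cast_neg, Int.cast_natCast, Groth.Agent.Pencil.intNum_sq_eq k hdim.le hH' hL'] at c2
  obtain ⟨j, D, hD, hLD⟩ := hrep L' ⟨hL', c1, c2⟩
  obtain ⟨D', hD', hDD'⟩ := hD.inv
  refine ⟨j, _, hD'.pullback p hp, ?_⟩
  rw [← cl_tensor, ← Groth.Agent.Big.cl_pull_tensor]
  refine congrArg (PicF.pullCl p) (show PicF.cl L = PicF.cl (CohB1.tensorMod (R' j) D') from ?_)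
  have h1 : PicF.cl L * PicF.cl L' = 1 := Groth.Agent.NumTau.cl_mul_one_of_iso ⟨δ⟩
  have h2 : PicF.cl (R j) * PicF.cl (R' j) = 1 := Groth.Agent.NumTau.cl_mul_one_of_iso (hRR' j)
  calc PicF.cl L = PicF.cl L * (PicF.cl (R j) * PicF.cl (R' j)) * (PicF.cl D * PicF.cl D') := by rw [h2, hDD', mul_one, mul_one]
    _ = PicF.cl L * (PicF.cl (R j) * PicF.cl D) * (PicF.cl (R' j) * PicF.cl D') := by ac_rfl
    _ = _ := by rw [← hLD, h1, one_mul, cl_tensor]


end Groth.Agent.S4304
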