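import Groth.Statements.S4287
import Groth.Agent.Pencil.Twists
import Groth.Agent.S4304
-- import your own Groth.Agent.* helpers here

set_option autoImplicit false
universe u
open CategoryTheory CategoryTheory.Limits AlgebraicGeometry
open Pic13

set_option backward.isDefEq.respectTransparency false
set_option backward.isDefEq.respectTransparency.types false
set_option synthInstance.maxHeartbeats 400000
set_option maxHeartbeats 1000000
set_option linter.style.haveILetI false
attribute [-instance] CategoryTheory.catToReflQuiver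

namespace Groth.Agent.S4287

/-- (i) if and only if (iv), over the base S = Spec k with k algebraically closed: let X be a proper
integral k-scheme carrying an ample invertible module H, and P a family of invertible O_X-modules.
Then P is bounded if and only if there is an integer N such that H^{⊗ N} ⊗ L and H^{⊗ N} ⊗ L' are
ample for every member L of P and every inverse L' of L (L ⊗ L' ≅ O_X). (The source: X projective
over a Noetherian S with integral geometric fibres of dimension r, H relatively ample.) -/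
theorem result (k : Type u) [Field k] [IsAlgClosed k] (X : Scheme.{u}) [X.Over (Spec (CommRingCat.of k))]
    [IsProper (X ↘ Spec (CommRingCat.of k))] [IsIntegral X]
    (H : X.Modules) (hH : CohB1.IsAmple H) (P : X.Modules → Prop) (hP : ∀ L, P L → PicF.IsInvertible L) :
    Pic13.IsBounded k X P ↔ ∃ N : ℕ, ∀ L L' : X.Modules, P L → Nonempty (CohB1.tensorMod L L' ≅ Coh.structureModule X) →
      CohB1.IsAmple (CohB1.tensorMod (CohB1.tensorPow H N) L) ∧ CohB1.IsAmple (CohB1.tensorMod (CohB1.tensorPow H N) L') := by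
  open Groth.Agent Groth.Agent.H23.PicMul in
  haveI := Groth.Agent.CurveCohLib.isNoetherian_of_proper (k := k) (X := X)
  haveI : X.IsSeparated := Groth.Agent.AmpleVan.isSeparated_of_proper (X := X) (A := k)
  have hone : ∀ {L L' : X.Modules}, Nonempty (CohB1.tensorMod L L' ≅ Coh.structureModule X) → PicF.cl L * PicF.cl L' = 1 :=
    fun h => Groth.Agent.NumTau.cl_mul_one_of_iso h
  constructor
  · intro hb
    obtain ⟨q, R, hR, hrep⟩ := Groth.Agent.Pencil.exists_num_reps k hH hP hb
    choose R' hR' hRR' using fun j => Groth.Agent.H23.PicInv.exists_inverse (hR j)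
    choose n hn0 hn using fun j => Groth.Agent.AmpleX.eventually_ample_tensor hH (hR j)
    choose n' hn0' hn' using fun j => Groth.Agent.AmpleX.eventually_ample_tensor hH (hR' j)
    refine ⟨Finset.univ.sup n + Finset.univ.sup n', fun L L' hL hLL' => ?_⟩
    obtain ⟨j, D, hD, hLD⟩ := hrep L hL
    obtain ⟨D', hD', hDD'⟩ := hD.inv
    have h1 := (hn j (Finset.univ.sup n + Finset.univ.sup n')
      ((Finset.le_sup (Finset.mem_univ j)).trans (Nat.le_add_right _ _))).1
    have h2 := (hn' j (Finset.univ.sup n + Finset.univ.sup n')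
      ((Finset.le_sup (Finset.mem_univ j)).trans (Nat.le_add_left _ _))).1
    refine ⟨Groth.Agent.AmpleX.isAmple_of_iso (cl_eq_iff.1 ?_).some
      (Groth.Agent.Nakai.isAmple_tensor_of_nef k hD.1 hD.2.1 h1 1),
      Groth.Agent.AmpleX.isAmple_of_iso (cl_eq_iff.1 ?_).some
      (Groth.Agent.Nakai.isAmple_tensor_of_nef k hD'.1 hD'.2.1 h2 1)⟩
    · rw [cl_tensor, cl_tensor, cl_tensor, cl_tensorPow D, pow_one, hLD]
      ac_rfl
    · rw [cl_tensor, cl_tensor, cl_tensor, cl_tensorPow D', pow_one]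
      calc PicF.cl D' * (PicF.cl (CohB1.tensorPow H (Finset.univ.sup n + Finset.univ.sup n')) * PicF.cl (R' j))
          = PicF.cl (CohB1.tensorPow H (Finset.univ.sup n + Finset.univ.sup n')) * (PicF.cl (R' j) * PicF.cl D') *
            (PicF.cl L * PicF.cl L') := by rw [hone hLL', mul_one]; ac_rfl
        _ = PicF.cl (CohB1.tensorPow H (Finset.univ.sup n + Finset.univ.sup n')) * PicF.cl L' *
            (PicF.cl (R j) * PicF.cl (R' j)) * (PicF.cl D * PicF.cl D') := by rw [hLD]; ac_rfl
        _ = _ := by rw [hone (hRR' j), hDD', mul_one, mul_one]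
  rintro ⟨N, hN⟩
  obtain ⟨d, hd⟩ := Groth.Agent.ShStabLib.exists_dim_le_proper k X
  obtain ⟨e, -, he⟩ := Groth.Agent.Big.dim_nat_of_le (X := X) (d := d)
    ((Homeomorph.Set.univ X).isHomeomorph.topologicalKrullDim_eq.symm.le.trans (hd Set.univ))
  rcases Nat.lt_or_ge e 2 with h2 | h2
  · obtain ⟨q, R, hR, hrep⟩ := Groth.Agent.Pencil.exists_reps_low k he (Nat.le_of_lt_succ h2) hH hP N
      fun L L' hL _ hLL' => hN L L' hL (cl_eq_iff.1 (by rw [cl_tensor, hLL', ← Groth.Agent.H23.PicMul.one_def]))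
    refine Groth.Agent.ThmA.isBounded_of_num hP fun X' _ _ p hp A _ =>
      ⟨q, fun j => (Scheme.Modules.pullback p).obj (R j), fun j => Groth.Agent.PicClLib.isInvertible_pullback p (hR j), fun L hL => ?_⟩
    obtain ⟨j, D, hD, hLD⟩ := hrep L hL
    refine ⟨j, _, hD.pullback p hp, ?_⟩
    rw [← cl_tensor, ← Groth.Agent.Big.cl_pull_tensor]
    exact congrArg (PicF.pullCl p) (hLD.trans (cl_tensor _ _).symm)
  obtain ⟨s, rfl⟩ : ∃ s, e = s + 2 := Nat.exists_eq_add_of_le' h2
  obtain ⟨H', hH', ⟨ε⟩⟩ := Groth.Agent.H23.PicInv.exists_inverse hH.1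
  obtain ⟨B, hB⟩ := exists_nat_gt ((N : ℚ) * Groth.Agent.Pencil.qpair k H' s H' H' +
    |3 * (N : ℚ) ^ 2 * Groth.Agent.Pencil.qpair k H' s H' H'| + |(N : ℚ) * Groth.Agent.Pencil.qpair k H' s H' H'|)
  refine Groth.Agent.S4304.result k X s he H H' hH ⟨ε⟩ P hP ⟨(B : ℤ), fun L L' hL hLL' => ?_⟩
  have hL' : PicF.IsInvertible L' := by
    obtain ⟨M, hM, ⟨μ⟩⟩ := Groth.Agent.H23.PicInv.exists_inverse (hP L hL)
    have e : PicF.cl M = PicF.cl L' := by
      calc PicF.cl M = PicF.cl M * (PicF.cl L * PicF.cl L') := by rw [hone hLL', mul_one]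
        _ = PicF.cl L * PicF.cl M * PicF.cl L' := by ac_rfl
        _ = _ := by rw [hone ⟨μ⟩, one_mul]
    exact Groth.Agent.H23.PicMul.isInvertible_of_iso (cl_eq_iff.1 e).some hM
  obtain ⟨h1, h2⟩ := Groth.Agent.Pencil.bounds_of_twists k he hH hH' (hone ⟨ε⟩) hL' (hP L hL)
    (by rw [mul_comm]; exact hone hLL') N (hN L L' hL hLL').1 (hN L L' hL hLL').2
  rw [← Int.cast_le (R := ℚ), ← Int.cast_le (R := ℚ), Int.cast_abs, Int.cast_neg, Int.cast_natCast,
    Groth.Agent.Pencil.intNum_deg_eq k he.le hH' hL', Groth.Agent.Pencil.intNum_sq_eq k he.le hH' hL']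
  change |Groth.Agent.Pencil.qpair k H' s L' H'| ≤ (B : ℚ) ∧ -(B : ℚ) ≤ Groth.Agent.Pencil.qpair k H' s L' L'
  have b1 := abs_nonneg (Groth.Agent.Pencil.qpair k H' s L' H')
  have b2 := le_abs_self (3 * (N : ℚ) ^ 2 * Groth.Agent.Pencil.qpair k H' s H' H')
  have b3 := abs_nonneg (3 * (N : ℚ) ^ 2 * Groth.Agent.Pencil.qpair k H' s H' H')
  have b4 := abs_nonneg ((N : ℚ) * Groth.Agent.Pencil.qpair k H' s H' H')
  have b5 := neg_abs_le ((N : ℚ) * Groth.Agent.Pencil.qpair k H' s H' H')
  exact ⟨by linarith, by linarith⟩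


end Groth.Agent.S4287
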