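import Groth.Statements.S4288
import Groth.Agent.ProjPush.SerreVan
import Groth.Agent.ProjPush.PushPCGen
import Groth.Agent.ProjPush.TensorClosed

set_option autoImplicit false
universe u
open CategoryTheory CategoryTheory.Limits AlgebraicGeometry
attribute [local instance] HasDerivedCategory.standard
open KSix

namespace Groth.Agent.S4288

/-- Let Y be an affine scheme, i : X ⟶ P^r_Y a closed immersion, f : X ⟶ Y the composite with the
projection, L = i^* O(1), and E a bounded below object of D(O_X), acyclic in degrees > a, which is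
pseudo-coherent relative to Y (i.e. Ri_*E is pseudo-coherent on P^r_Y). Assuming the derived
functors exist, there is an integer N such that for every n ≥ N the complex Rf_*(E ⊗^L L^{⊗ n}) is
pseudo-coherent on Y and acyclic in degrees > a. (The published statement allows any quasi-compact
base S, Y of finite type over S and a closed immersion into P(F) with F quasi-coherent of finite
type.) -/
theorem result {X Y : Scheme.{u}} [IsAffine Y] (r : ℕ)
    (i : X ⟶ CohB1.ProjSpaceOver r Y) [IsClosedImmersion i]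
    [DCoh.HasRpush i] [DCoh.HasRpush (i ≫ CohB1.ProjSpaceOver.toBase r Y)]
    [∀ n : ℤ, DCoh.HasLTensorMod ((Scheme.Modules.pullback i).obj (Twist.twistOver r Y n))]
    (E : DCoh.D X) (a b : ℤ) [E.IsGE b] [E.IsLE a]
    (hE : ∀ m : ℤ, DCoh.IsPseudoCoherentD m ((DCoh.Rpush i).obj E)) :
    ∃ N : ℤ, ∀ n : ℤ, N ≤ n →
      (∀ m : ℤ, DCoh.IsPseudoCoherentD m ((DCoh.Rpush (i ≫ CohB1.ProjSpaceOver.toBase r Y)).obj
        ((DCoh.LTensorMod ((Scheme.Modules.pullback i).obj (Twist.twistOver r Y n))).obj E))) ∧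
      ((DCoh.Rpush (i ≫ CohB1.ProjSpaceOver.toBase r Y)).obj
        ((DCoh.LTensorMod ((Scheme.Modules.pullback i).obj (Twist.twistOver r Y n))).obj E)).IsLE a := by
  open Groth.Agent Groth.Agent.KFlatLib Groth.Agent.ProjPush in
  let π := CohB1.ProjSpaceOver.toBase r Y
  let g : CohB1.ProjSpaceOver r Y ⟶ CohB1.ProjSpace r (ULift.{u} ℤ) :=
    pullback.fst (CohB1.ProjSpace.toSpec r (ULift.{u} ℤ)) (specULiftZIsTerminal.from Y)
  haveI : IsAffineHom (specULiftZIsTerminal.from Y) := isAffineHom_of_isAffine _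
  haveI : IsAffineHom g := MorphismProperty.pullback_fst _ _ ‹_›
  haveI := quasiCompact_toBase r Y
  haveI := quasiSeparated_toBase r Y
  haveI := quasiSeparatedSpace_projSpaceOver r Y
  haveI := hasRpush_scheme π
  haveI := hasInjectiveResolutions_modules (X := CohB1.ProjSpaceOver r Y)
  obtain ⟨ec⟩ := nonempty_rpush_comp i π
  let E' := (DCoh.Rpush i).obj E
  have hpc : ∀ m, LocPC m E' := fun m => (isPseudoCoherentD_iff m _).1 (hE m)
  haveI : E'.IsLE a := isLE_rpush_closed i E a
  have hvan : VanTw g π := fun e j he hj => by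
    obtain ⟨q, rfl⟩ := Int.eq_ofNat_of_zero_le hj.le
    obtain ⟨e₀⟩ := nonempty_hd_rpush_single π (Twist.twistOver r Y e) q
    exact (isZero_Rpush_twistOver r Y e q (by omega)).of_iso e₀
  obtain ⟨N, hN⟩ := evLE_of_locPC g π hvan (r + 1)
    (fun K hK b hb j hj => haveI := hb; isZero_hd_rpush_projSpaceOver r Y hK b j (by push_cast at hj; omega))
    a hpc
  refine ⟨N, fun n hn => ?_⟩
  haveI := hasLTensorMod (Twist.twistOver r Y n)
  haveI := hasLTensorMod (Tw g n)
  have hT : FlatMod.IsFinLocFree (Twist.twistOver r Y n) :=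
    H23.PullPush.isFinLocFree_of_isInvertible (isInvertible_Tw g n)
  obtain ⟨p⟩ := nonempty_rpush_ltensorMod_closed i (Twist.twistOver r Y n) hT E
  let eF := (ec.app ((DCoh.LTensorMod ((Scheme.Modules.pullback i).obj (Twist.twistOver r Y n))).obj E)).symm ≪≫
    (DCoh.Rpush π).mapIso p.symm
  refine ⟨fun m => ?_, (DerivedCategory.isLE_iff _ a).2 fun j hj => ?_⟩
  · rw [isPseudoCoherentD_iff]
    exact (locPC_rpush_projSpaceOver r Y _ (fun m' => locPC_ltensorMod _ hT E' hpc m') m).of_iso eF.symm
  · obtain ⟨w⟩ := nonempty_ltensorMod_tw (Tw g n) E'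
    exact (hN n hn j hj).of_iso ((DerivedCategory.homologyFunctor Y.Modules j).mapIso
      (eF ≪≫ (DCoh.Rpush π).mapIso w))

end Groth.Agent.S4288
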