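import Groth.Statements.S4290
import Groth.Agent.Pencil.Irred
import Groth.Agent.NumTau.Bounded
-- import your own Groth.Agent.* helpers here

set_option autoImplicit false
universe u
open CategoryTheory CategoryTheory.Limits AlgebraicGeometry
open Pic13

set_option backward.isDefEq.respectTransparency false
set_option backward.isDefEq.respectTransparency.types false
set_option synthInstance.maxHeartbeats 400000
set_option maxHeartbeats 1000000
set_option linter.style.haveILetI false
attribute [-instance] CategoryTheory.catToReflQuiver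

namespace Groth.Agent.S4290

/-- Let k be an algebraically closed field, X an irreducible proper k-scheme of dimension r = s + 2 ≥ 2
carrying an ample invertible module H, and L an invertible module with (c₁(L)·c₁(H)^{r-1}) = 0 and
(c₁(L)²·c₁(H)^{r-2}) ≥ 0. Then L is numerically equivalent to zero. Intersection numbers are those
of FGA.intNum, which takes inverses H', L' of H, L as arguments. -/
theorem result (k : Type u) [Field k] [IsAlgClosed k] (X : Scheme.{u}) [X.Over (Spec (CommRingCat.of k))]
    [IsProper (X ↘ Spec (CommRingCat.of k))] [IrreducibleSpace X] (s : ℕ) (hdim : topologicalKrullDim X = (s + 2 : ℕ))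
    (H H' L L' : X.Modules) (hH : CohB1.IsAmple H) (hL : PicF.IsInvertible L)
    (hHH' : Nonempty (CohB1.tensorMod H H' ≅ Coh.structureModule X)) (hLL' : Nonempty (CohB1.tensorMod L L' ≅ Coh.structureModule X))
    (horth : FGA.intNum k X (s + 2) (Matrix.vecCons L' (fun _ : Fin (s + 1) => H')) (Coh.structureModule X) = 0)
    (hsq : 0 ≤ FGA.intNum k X (s + 2) (Matrix.vecCons L' (Matrix.vecCons L' (fun _ : Fin s => H'))) (Coh.structureModule X)) :
    Pic13.IsNumEquivZero k X L := by
  open Groth.Agent in
  haveI := CurveCohLib.isNoetherian_of_proper (k := k) (X := X)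
  have hH' : PicF.IsInvertible H' :=
    Groth.Agent.NumTau.isInvertible_of_cl_mul_eq_one (X := X) hH.1 (Groth.Agent.NumTau.cl_mul_one_of_iso hHH')
  have hL' : PicF.IsInvertible L' :=
    Groth.Agent.NumTau.isInvertible_of_cl_mul_eq_one (X := X) hL (Groth.Agent.NumTau.cl_mul_one_of_iso hLL')
  have h0 : Groth.Agent.Pencil.qsym k H' s L' H' (Coh.structureModule X) = 0 := by
    rw [← Groth.Agent.Pencil.intNum_deg_eq k hdim.le hH' hL', horth, Int.cast_zero]
  have hnn : 0 ≤ Groth.Agent.Pencil.qsym k H' s L' L' (Coh.structureModule X) := by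
    rw [← Groth.Agent.Pencil.intNum_sq_eq k hdim.le hH' hL']
    exact_mod_cast hsq
  have h := Groth.Agent.Pencil.index_irreducible k hdim hH hH'
    (Groth.Agent.NumTau.cl_mul_one_of_iso hHH') hL' h0 hnn
  refine Groth.Agent.Pencil.isNumEquivZero_of_numTriv hL fun Y ι _ hY hd => ?_
  have hneg := Groth.Agent.Big.cdeg_inverse k ι (hd.trans Nat.cast_one.symm).le hL hL'
    (Groth.Agent.NumTau.cl_mul_one_of_iso hLL')
  rw [h Y ι hY hd] at hneg
  linarith


end Groth.Agent.S4290
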