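import Groth.Statements.S4293
import Groth.Agent.Pencil.Restrict
import Groth.Agent.ThmA.Cor
-- import your own Groth.Agent.* helpers here

set_option autoImplicit false
universe u
open CategoryTheory CategoryTheory.Limits AlgebraicGeometry
open Pic13

set_option backward.isDefEq.respectTransparency false
set_option backward.isDefEq.respectTransparency.types false
set_option synthInstance.maxHeartbeats 400000
set_option maxHeartbeats 1000000
set_option linter.style.haveILetI false
attribute [-instance] CategoryTheory.catToReflQuiver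

namespace Groth.Agent.S4293

/-- First assertion: over S = Spec k with k algebraically closed: let Y be a proper k-scheme with an
ample invertible module H, φ a global section of H, and i : X ⟶ Y the inclusion of the zero scheme
of φ. Assume that for every irreducible component Z of Y, every irreducible component of Z ∩ X has
dimension ≥ 2. Then for every bounded family P of O_X-modules, the family of invertible O_Y-modules
whose restriction to X is isomorphic to a member of P is bounded. -/
theorem result (k : Type u) [Field k] [IsAlgClosed k] (Y : Scheme.{u}) [Y.Over (Spec (CommRingCat.of k))]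
    [IsProper (Y ↘ Spec (CommRingCat.of k))] (H : Y.Modules) (hH : CohB1.IsAmple H) (φ : Coh.structureModule Y ⟶ H)
    (hdim : ∀ Z ∈ irreducibleComponents (Y : Type u),
      ∀ W ∈ irreducibleComponents ↥(Z ∩ Set.range (PicF2.zeroScheme H φ).subschemeι.base), 2 ≤ topologicalKrullDim ↥W)
    (P : ((PicF2.zeroScheme H φ).subscheme).Modules → Prop)
    (hP : @Pic13.IsBounded k _ (PicF2.zeroScheme H φ).subscheme ⟨(PicF2.zeroScheme H φ).subschemeι ≫ (Y ↘ Spec (CommRingCat.of k))⟩ P) :
    Pic13.IsBounded k Y (fun M : Y.Modules => PicF.IsInvertible M ∧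
      ∃ L, P L ∧ Nonempty ((Scheme.Modules.pullback (PicF2.zeroScheme H φ).subschemeι).obj M ≅ L)) := by
  open Groth.Agent in
  set ι := (PicF2.zeroScheme H φ).subschemeι
  letI : (PicF2.zeroScheme H φ).subscheme.Over (Spec (CommRingCat.of k)) := ⟨ι ≫ (Y ↘ Spec (CommRingCat.of k))⟩
  haveI : IsProper ((PicF2.zeroScheme H φ).subscheme ↘ Spec (CommRingCat.of k)) :=
    inferInstanceAs (IsProper (ι ≫ (Y ↘ Spec (CommRingCat.of k))))
  obtain ⟨T, q, h1, h2, F, hF, h⟩ := hP
  have hP' : Pic13.IsBounded k (PicF2.zeroScheme H φ).subscheme (fun L => P L ∧ PicF.IsInvertible L) :=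
    ⟨T, q, h1, h2, F, hF, fun L hL => h L hL.1⟩
  obtain ⟨m, R, hR, hrep⟩ := Groth.Agent.NumTau.exists_num_reps (k := k)
    (Groth.Agent.AmpleDev.isAmple_pullback_finite k ι hH) (fun _ hL => hL.2) hP'
  obtain ⟨q', R', hR', hrep'⟩ := Groth.Agent.ThmA.exists_reps_of_reflect (k := k) (X := Y)
    (Y := (PicF2.zeroScheme H φ).subscheme)
    (Q := fun M => PicF.IsInvertible M ∧ ∃ L, P L ∧ Nonempty ((Scheme.Modules.pullback ι).obj M ≅ L))
    (fun _ hM => hM.1) (fun M => (Scheme.Modules.pullback ι).obj M)
    (fun A B => (Groth.Agent.Big.cl_pull_tensor ι A B).trans (Groth.Agent.H23.PicMul.cl_tensor _ _))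
    (fun A B hAB => congrArg (PicF.pullCl ι) hAB) (fun A hA => Groth.Agent.PicClLib.isInvertible_pullback ι hA)
    (fun E hE hnt => Groth.Agent.NumTau.nt_of_numEquivZero hE (Groth.Agent.Pencil.isNumEquivZero_of_numTriv hE
      (Groth.Agent.Pencil.numTriv_of_zeroScheme k hH φ hdim hE fun C j _ hC hd hr => by
        haveI := hC
        exact Groth.Agent.Pencil.cdeg_eq_zero_of_numTriv ι rfl hE (Groth.Agent.NumTau.numTriv_of_nt k hnt) j hd hr)))
    R (fun M ⟨hM, L, hL, ⟨e⟩⟩ => by
      obtain ⟨j, D, hD, hLD⟩ := hrep L ⟨hL, Groth.Agent.H23.PicMul.isInvertible_of_iso e (Groth.Agent.PicClLib.isInvertible_pullback ι hM)⟩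
      exact ⟨j, D, hD, (Groth.Agent.H23.PicMul.cl_eq_iff.2 ⟨e⟩).trans hLD⟩)
  refine Groth.Agent.ThmA.isBounded_of_num (fun _ hM => hM.1) fun X' _ _ p hp A _ =>
    ⟨q', fun j => (Scheme.Modules.pullback p).obj (R' j), fun j => Groth.Agent.PicClLib.isInvertible_pullback p (hR' j), fun M hM => ?_⟩
  obtain ⟨j, D, hD, hMD⟩ := hrep' M hM
  refine ⟨j, _, hD.pullback p hp, ?_⟩
  rw [← Groth.Agent.H23.PicMul.cl_tensor, ← Groth.Agent.Big.cl_pull_tensor]
  exact congrArg (PicF.pullCl p) (hMD.trans (Groth.Agent.H23.PicMul.cl_tensor _ _).symm)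


end Groth.Agent.S4293
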