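import Groth.Statements.S4301
import Groth.Agent.PicRig.TauLocus
import Groth.Agent.KFlatLib.Scheme.RpushQCoh
-- import your own Groth.Agent.* helpers here

set_option autoImplicit false
universe u
open CategoryTheory CategoryTheory.Limits AlgebraicGeometry
open Pic13

set_option backward.isDefEq.respectTransparency false
set_option backward.isDefEq.respectTransparency.types false
set_option synthInstance.maxHeartbeats 400000
set_option maxHeartbeats 1000000
set_option linter.style.haveILetI false
attribute [-instance] CategoryTheory.catToReflQuiver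

namespace Groth.Agent.S4301

/-- Let S be a Noetherian scheme, i : X ⟶ P^n_S a closed immersion with f : X ⟶ S the composite with the
projection, f flat with integral geometric fibres, and L an invertible O_X-module. Then the set of
points s of S such that L is τ-equivalent to zero on the geometric fibre at s is closed (it is also
open, but only closedness is asserted here). (The published statement is that Pic^τ_{X/S} ⟶
Pic_{X/S} is representable by an open and closed immersion; this is the form reached in its proof.) -/
theorem result {X S : Scheme.{u}} [IsNoetherian S] (n : ℕ)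
    (i : X ⟶ CohB1.ProjSpaceOver n S) [IsClosedImmersion i] [Flat (i ≫ CohB1.ProjSpaceOver.toBase n S)]
    (hint : ∀ (Ω : Type u) [Field Ω] [IsAlgClosed Ω] (σ : Spec (CommRingCat.of Ω) ⟶ S), IsIntegral (pullback (i ≫ CohB1.ProjSpaceOver.toBase n S) σ))
    (L : X.Modules) (hL : PicF.IsInvertible L) :
    IsClosed {s : S | Pic13.IsTauTrivialAt (i ≫ CohB1.ProjSpaceOver.toBase n S) L s} := by
  open Groth.Agent Groth.Agent.H23.PicMul in
  let f := i ≫ CohB1.ProjSpaceOver.toBase n S
  haveI : IsProper f := QuotRep.isProper_comp i
  haveI : LocallyOfFinitePresentation f := QuotRep.lfp_comp i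
  haveI : IsLocallyNoetherian X := LocallyOfFiniteType.isLocallyNoetherian f
  haveI := KFlatLib.hasInjectiveResolutions_modules (X := X)
  have hHi := QuotRep.isInvertible_O1 i
  obtain ⟨H', hH', hHH'⟩ := H23.PicInv.exists_inverse hHi
  have hset : {s : S | Pic13.IsTauTrivialAt f L s} = ⋂ (a : ℕ) (b : ℕ), {s : S |
      FamEuler.fibreEuler f (CohB1.tensorMod (CohB1.tensorPow L a) (CohB1.tensorPow H' b)) s =
        FamEuler.fibreEuler f (CohB1.tensorPow H' b) s} := by
    ext s
    simp only [Set.mem_setOf_eq, Set.mem_iInter]
    exact PicRig.tau_iff f (QuotRep.isRelAmple_O1 i) hHi hH' (Big.cl_mul_eq_one hHH') hL hint s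
  rw [show (i ≫ CohB1.ProjSpaceOver.toBase n S) = f from rfl, hset]
  refine isClosed_iInter fun a => isClosed_iInter fun b => ?_
  have hI := InvX.isInvertible_tensorMod (InvX.isInvertible_tensorPow hL a) (InvX.isInvertible_tensorPow hH' b)
  have hJ := InvX.isInvertible_tensorPow hH' b
  have h1 := FamEuler.isLocallyConstant_fibreEuler f _ (AmpleVan.isCoh_invertible hI)
    (H23.Seesaw.isFlatOver_of_isInvertible f hI)
  have h2 := FamEuler.isLocallyConstant_fibreEuler f _ (AmpleVan.isCoh_invertible hJ)
    (H23.Seesaw.isFlatOver_of_isInvertible f hJ)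
  have h := (IsLocallyConstant.iff_isOpen_fiber.1 (h1.comp₂ h2 (fun x y => decide (x = y)))) false
  rw [← isOpen_compl_iff]
  convert h using 1
  ext s
  simp


end Groth.Agent.S4301
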