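import Groth.Statements.S4302
import Groth.Agent.ProjPush.Amp
import Groth.Agent.ProjPush.PushPCGen
import Groth.Agent.S4275
import Groth.Agent.DQGen.Basic

set_option autoImplicit false
universe u
open CategoryTheory CategoryTheory.Limits AlgebraicGeometry
attribute [local instance] HasDerivedCategory.standard
open KSix

namespace Groth.Agent.S4302

/-- Over an affine base Y, through the embedding criterion for perfect amplitude: let i : X ⟶ P^r_Y be a
closed immersion with Y affine, f : X ⟶ Y the composite with the projection, and E a bounded object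
of D(O_X) such that Ri_*E has perfect amplitude in [a, b] on P^r_Y. Assuming the derived functors
exist, Rf_*E has perfect amplitude in [a, b + r] on Y (r bounds the cohomological dimension of f on
quasi-coherent modules). -/
theorem result {X Y : Scheme.{u}} [IsAffine Y] (r : ℕ)
    (i : X ⟶ CohB1.ProjSpaceOver r Y) [IsClosedImmersion i]
    [DCoh.HasRpush i] [DCoh.HasRpush (i ≫ CohB1.ProjSpaceOver.toBase r Y)]
    (E : DCoh.D X) (a₀ b₀ : ℤ) [E.IsGE a₀] [E.IsLE b₀] (a b : ℤ)
    (hE : KSix.HasPerfectAmplitudeIn a b ((DCoh.Rpush i).obj E)) :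
    KSix.HasPerfectAmplitudeIn a (b + r) ((DCoh.Rpush (i ≫ CohB1.ProjSpaceOver.toBase r Y)).obj E) := by
  open Groth.Agent Pretriangulated KFlatLib ZeroObject in
  haveI := hasRpush_scheme (CohB1.ProjSpaceOver.toBase r Y)
  obtain ⟨ec⟩ := nonempty_rpush_comp i (CohB1.ProjSpaceOver.toBase r Y)
  let E' := (DCoh.Rpush i).obj E
  let P := (DCoh.Rpush (CohB1.ProjSpaceOver.toBase r Y)).obj E'
  suffices h : KSix.HasPerfectAmplitudeIn a (b + r) P by
    intro x
    obtain ⟨V, hx, hV⟩ := h x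
    exact ⟨V, hx, fun F ⟨eF⟩ => hV F ⟨eF ≪≫ (ec.app E).symm⟩⟩
  haveI := ProjPush.quasiCompact_toBase r Y
  haveI := ProjPush.quasiSeparated_toBase r Y
  haveI := ProjPush.flat_toBase r Y
  have hsp : LocSP E' := fun x => by
    obtain ⟨V, hx, hV⟩ := hE x
    obtain ⟨Q, hv, hf, ⟨e⟩⟩ := hV (DerivedCategory.Q.objPreimage E') ⟨repIso E'⟩
    exact ⟨_, V.ι, inferInstance, ⟨⟨x, hx⟩, rfl⟩, Q, ⟨⟨a, b, hv⟩, hf⟩,
      ⟨e.symm ≪≫ ((rhoQ V.ι).app _).symm ≪≫ (rho V.ι).mapIso (repIso E')⟩⟩
  have hP : DCoh.IsPerfect P :=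
    ProjPush.isPerfect_rpush_projSpaceOver r Y E' ((isPerfect_iff _).2 hsp)
  by_cases hab : a ≤ b
  · let G := DerivedCategory.Q.objPreimage E'
    let eG : DCoh.toD _ G ≅ E' := repIso E'
    obtain ⟨F, hv, hf, ⟨eF⟩⟩ := ((S4275.result _ E' a b hab).1 hE).2
    have ht := PushAmp.torAmp_of_flatAmp (CohB1.ProjSpaceOver.toBase r Y) (a := a) (b := b) G
      ⟨F, hv, hf, ⟨eF ≪≫ eG.symm⟩⟩
    have h := ProjPush.torAmplitude_rpush_of_bound (CohB1.ProjSpaceOver.toBase r Y) (r + 1)
      (fun K hK b hb i hi => haveI := hb; ProjPush.isZero_hd_rpush_projSpaceOver r Y hK b i (by push_cast at hi; omega))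
      G (isQCohD_of_iso eG.symm (DQGen.isQCohD_of_isPerfect ((isPerfect_iff _).2 hsp))) a b (b + r)
      (by push_cast; omega) ht
    refine (S4275.result Y P a (b + r) (by omega)).2
      ⟨(isPseudoCoherentD_iff _ _).2 (((isPerfect_iff _).1 hP).locPC _), ?_⟩
    obtain ⟨F', hv', hf', ⟨eF'⟩⟩ :=
      flatAmplitude_of_torAmplitude (fun G => hasLTensorMod G) (show a ≤ b + r by omega) h
    exact ⟨F', hv', hf', ⟨eF' ≪≫ (DCoh.Rpush (CohB1.ProjSpaceOver.toBase r Y)).mapIso eG⟩⟩
  · have hz : IsZero E' := by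
      refine DQGen.isZero_of_isZero_rho_top _ ((DQGen.isZero_rho_iff_support _ _).2 fun k x hx _ => hx ?_)
      obtain ⟨V, hxV, hV⟩ := hE x
      obtain ⟨Q, hv, -, ⟨e⟩⟩ := hV (DerivedCategory.Q.objPreimage E') ⟨repIso E'⟩
      have hz₁ : IsZero ((rho V.ι).obj E') := by
        refine IsZero.of_iso ?_ ((rho V.ι).mapIso (repIso E').symm ≪≫ (rhoQ V.ι).app _ ≪≫ e)
        exact Functor.map_isZero _ ((IsZero.iff_id_eq_zero Q).2 (HomologicalComplex.hom_ext _ _ fun j =>
          (hv j (by omega)).eq_of_src _ _))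
      exact not_not.1 fun hne => ((DQGen.isZero_rho_iff_support V E').1 hz₁ k hne) hxV
    intro x
    refine ⟨⊤, trivial, fun F ⟨eF⟩ => ⟨0, fun j _ => ?_, fun j => ?_, ⟨?_⟩⟩⟩
    · exact (Functor.map_isZero (HomologicalComplex.eval _ _ j) (isZero_zero _))
    · exact isFinLocFree_of_isZero (Functor.map_isZero (HomologicalComplex.eval _ _ j) (isZero_zero _))
    · refine IsZero.iso ?_ (Functor.map_isZero _ (isZero_zero _))
      have hzP : IsZero P := by
        have hge : ∀ c : ℤ, P.IsGE c := fun c => by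
          haveI : E'.IsGE c := (DerivedCategory.isGE_iff E' c).2 fun k _ => Functor.map_isZero _ hz
          exact isGE_rpush _ E' c
        obtain ⟨e₀⟩ := ProjPush.nonempty_iso_inD (K := P) ⟨Iso.refl _⟩ fun k _ =>
          haveI := hge (k + 1); DerivedCategory.isZero_of_isGE _ (k + 1) k (by omega)
        haveI := hge 1
        exact (Functor.map_isZero _ (DerivedCategory.isZero_of_isGE _ 1 0 (by omega))).of_iso e₀
      exact (Functor.map_isZero (rho (⊤ : Y.Opens).ι) hzP).of_iso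
        (((rhoQ (⊤ : Y.Opens).ι).app F).symm ≪≫ (rho _).mapIso eF)

end Groth.Agent.S4302
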