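import Groth.Statements.S4305
import Groth.Agent.NumTau.Cor
import Groth.Agent.S4278
-- import your own Groth.Agent.* helpers here

set_option autoImplicit false
universe u
open CategoryTheory CategoryTheory.Limits AlgebraicGeometry
open Pic13

set_option backward.isDefEq.respectTransparency false
set_option backward.isDefEq.respectTransparency.types false
set_option synthInstance.maxHeartbeats 400000
set_option maxHeartbeats 1000000
set_option linter.style.haveILetI false
attribute [-instance] CategoryTheory.catToReflQuiver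

open scoped Groth.Agent.H23.PicMul

namespace Groth.Agent.S4305

/-- Let k be an algebraically closed field, X an irreducible proper k-scheme of dimension ≤ d carrying
an ample invertible module H with inverse H', and L an invertible module with inverse L'. Condition
(v): χ(L^{⊗ m} ⊗ H^{⊗ n}) = χ(H^{⊗ n}) for all integers m, n — written with natural exponents on L,
L', H, H' to cover all signs, Euler characteristics in degrees ≤ d; condition (i): L is τ-equivalent
to zero. -/
theorem result (k : Type u) [Field k] [IsAlgClosed k] (X : Scheme.{u})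
    [X.Over (Spec (CommRingCat.of k))] [IsProper (X ↘ Spec (CommRingCat.of k))] [IrreducibleSpace X]
    (d : ℕ) (hd : topologicalKrullDim X ≤ d) (H H' L L' : X.Modules) (hH : CohB1.IsAmple H) (hL : PicF.IsInvertible L)
    (hHH' : Nonempty (CohB1.tensorMod H H' ≅ Coh.structureModule X)) (hLL' : Nonempty (CohB1.tensorMod L L' ≅ Coh.structureModule X))
    (hτ : Pic13.IsTauEquivZero k X L) :
    ∀ m n : ℕ,
      FGA.eulerCharLE k X (CohB1.tensorMod (CohB1.tensorPow L m) (CohB1.tensorPow H n)) d = FGA.eulerCharLE k X (CohB1.tensorPow H n) d ∧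
      FGA.eulerCharLE k X (CohB1.tensorMod (CohB1.tensorPow L m) (CohB1.tensorPow H' n)) d = FGA.eulerCharLE k X (CohB1.tensorPow H' n) d ∧
      FGA.eulerCharLE k X (CohB1.tensorMod (CohB1.tensorPow L' m) (CohB1.tensorPow H n)) d = FGA.eulerCharLE k X (CohB1.tensorPow H n) d ∧
      FGA.eulerCharLE k X (CohB1.tensorMod (CohB1.tensorPow L' m) (CohB1.tensorPow H' n)) d = FGA.eulerCharLE k X (CohB1.tensorPow H' n) d := by
  open Groth.Agent in
  have hnt : NumTau.NT k L := NumTau.nt_of_numEquivZero hL (S4278.result k X L hL hτ)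
  open Groth.Agent in
  have hL' := NumTau.isInvertible_of_cl_mul_eq_one (X := X) hL (NumTau.cl_mul_one_of_iso hLL')
  open Groth.Agent in
  obtain ⟨L'', hL'', hcl⟩ := hnt.inv
  open Groth.Agent in
  have hnt' : NumTau.NT k L' := by
    have e : PicF.cl L'' = PicF.cl L' := (H23.PicMul.isUnit_cl hL).mul_left_cancel
      (hcl.trans (NumTau.cl_mul_one_of_iso hLL').symm)
    obtain ⟨a, na, b, hb, nb, eb⟩ := hL''
    exact ⟨hL', Big.nef_of_cl k e na, b, hb, nb, e ▸ eb⟩
  open Groth.Agent in
  have hH' := NumTau.isInvertible_of_cl_mul_eq_one (X := X) hH.1 (NumTau.cl_mul_one_of_iso hHH')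
  open Groth.Agent in
  have key : ∀ (M G : X.Modules), NumTau.NT k M → PicF.IsInvertible G →
      FGA.eulerCharLE k X (CohB1.tensorMod M G) d = FGA.eulerCharLE k X G d := by
    intro M G hM hG
    haveI := CurveCohLib.isNoetherian_of_proper (k := k) (X := X)
    rw [Nakai.eulerCharLE_eq_euler k hd (ProjUPX.isQCoh_of_isInvertible (InvX.isInvertible_tensorMod hM.1 hG)),
      Nakai.eulerCharLE_eq_euler k hd (ProjUPX.isQCoh_of_isInvertible hG)]
    refine (NumTau.euler_cl k ?_).trans (NumTau.euler_eq hH (AmpleVan.isCoh_invertible hG) hM)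
    rw [H23.PicMul.cl_tensor, H23.PicMul.cl_tensor, mul_comm]
  intro m n
  open Groth.Agent in
  exact ⟨key _ _ (hnt.pow m) (InvX.isInvertible_tensorPow hH.1 n), key _ _ (hnt.pow m) (InvX.isInvertible_tensorPow hH' n),
    key _ _ (hnt'.pow m) (InvX.isInvertible_tensorPow hH.1 n), key _ _ (hnt'.pow m) (InvX.isInvertible_tensorPow hH' n)⟩


end Groth.Agent.S4305
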