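import Groth.Statements.S4306
import Groth.Agent.Pencil.ChiCond
import Groth.Agent.ThmA.Cor
-- import your own Groth.Agent.* helpers here

set_option autoImplicit false
universe u
open CategoryTheory CategoryTheory.Limits AlgebraicGeometry
open Pic13

set_option backward.isDefEq.respectTransparency false
set_option backward.isDefEq.respectTransparency.types false
set_option synthInstance.maxHeartbeats 400000
set_option maxHeartbeats 1000000
set_option linter.style.haveILetI false
attribute [-instance] CategoryTheory.catToReflQuiver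

namespace Groth.Agent.S4306

/-- Let k be an algebraically closed field, X an irreducible proper k-scheme of dimension ≤ d carrying
an ample invertible module H with inverse H', and L an invertible module with inverse L'. Condition
(v): χ(L^{⊗ m} ⊗ H^{⊗ n}) = χ(H^{⊗ n}) for all integers m, n — written with natural exponents on L,
L', H, H' to cover all signs, Euler characteristics in degrees ≤ d; condition (i): L is τ-equivalent
to zero. -/
theorem result (k : Type u) [Field k] [IsAlgClosed k] (X : Scheme.{u})
    [X.Over (Spec (CommRingCat.of k))] [IsProper (X ↘ Spec (CommRingCat.of k))] [IrreducibleSpace X]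
    (d : ℕ) (hd : topologicalKrullDim X ≤ d) (H H' L L' : X.Modules) (hH : CohB1.IsAmple H) (hL : PicF.IsInvertible L)
    (hHH' : Nonempty (CohB1.tensorMod H H' ≅ Coh.structureModule X)) (hLL' : Nonempty (CohB1.tensorMod L L' ≅ Coh.structureModule X))
    (hv : ∀ m n : ℕ,
      FGA.eulerCharLE k X (CohB1.tensorMod (CohB1.tensorPow L m) (CohB1.tensorPow H n)) d = FGA.eulerCharLE k X (CohB1.tensorPow H n) d ∧
      FGA.eulerCharLE k X (CohB1.tensorMod (CohB1.tensorPow L m) (CohB1.tensorPow H' n)) d = FGA.eulerCharLE k X (CohB1.tensorPow H' n) d ∧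
      FGA.eulerCharLE k X (CohB1.tensorMod (CohB1.tensorPow L' m) (CohB1.tensorPow H n)) d = FGA.eulerCharLE k X (CohB1.tensorPow H n) d ∧
      FGA.eulerCharLE k X (CohB1.tensorMod (CohB1.tensorPow L' m) (CohB1.tensorPow H' n)) d = FGA.eulerCharLE k X (CohB1.tensorPow H' n) d) :
    Pic13.IsTauEquivZero k X L := by
  open Groth.Agent in
  haveI := CurveCohLib.isNoetherian_of_proper (k := k) (X := X)
  have hH' : PicF.IsInvertible H' :=
    Groth.Agent.NumTau.isInvertible_of_cl_mul_eq_one (X := X) hH.1 (Groth.Agent.NumTau.cl_mul_one_of_iso hHH')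
  have hL' : PicF.IsInvertible L' :=
    Groth.Agent.NumTau.isInvertible_of_cl_mul_eq_one (X := X) hL (Groth.Agent.NumTau.cl_mul_one_of_iso hLL')
  obtain ⟨r, hr⟩ : ∃ r : ℕ, topologicalKrullDim X = (r : ℕ) := by
    haveI : Nonempty (TopologicalSpace.IrreducibleCloseds X) :=
      ⟨⟨Set.univ, IrreducibleSpace.isIrreducible_univ X, isClosed_univ⟩⟩
    have h0 : (0 : WithBot ℕ∞) ≤ topologicalKrullDim X := Order.krullDim_nonneg
    revert hd h0
    generalize topologicalKrullDim X = v
    intro hd h0
    cases v with
    | bot => exact absurd h0 (not_le.2 (WithBot.bot_lt_coe _))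
    | coe v =>
      cases v with
      | top => exact absurd (WithBot.coe_le_coe.1 hd) (not_le.2 (ENat.natCast_lt_top d))
      | coe v => exact ⟨v, rfl⟩
  have hχ : ∀ a b : ℕ, Curv2.euler k X (CohB1.tensorMod (CohB1.tensorPow L' a) (CohB1.tensorPow H' b)) =
      Curv2.euler k X (CohB1.tensorPow H' b) := fun a b => by
    have h := (hv a b).2.2.2
    rw [Groth.Agent.Nakai.eulerCharLE_eq_euler k hd (Groth.Agent.ProjUPX.isQCoh_of_isInvertible
        (Groth.Agent.InvX.isInvertible_tensorMod (Groth.Agent.InvX.isInvertible_tensorPow hL' a)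
          (Groth.Agent.InvX.isInvertible_tensorPow hH' b))),
      Groth.Agent.Nakai.eulerCharLE_eq_euler k hd (Groth.Agent.ProjUPX.isQCoh_of_isInvertible
        (Groth.Agent.InvX.isInvertible_tensorPow hH' b))] at h
    exact h
  have h := Groth.Agent.Pencil.numTriv_of_euler k hH hH' (Groth.Agent.NumTau.cl_mul_one_of_iso hHH') hL' hr hχ
  refine Groth.Agent.ThmA.isTauEquivZero_of_nt_proper (Groth.Agent.NumTau.nt_of_numEquivZero hL
    (Groth.Agent.Pencil.isNumEquivZero_of_numTriv hL fun Y ι _ hY hYd => ?_))
  have hneg := Groth.Agent.Big.cdeg_inverse k ι (hYd.trans Nat.cast_one.symm).le hL hL'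
    (Groth.Agent.NumTau.cl_mul_one_of_iso hLL')
  rw [h Y ι hY hYd] at hneg
  linarith


end Groth.Agent.S4306
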