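import Groth.Statements.S4334
import Groth.Agent.CurveKummer.Dim
import Groth.Agent.CurveCd.CurveGm
-- import your own Groth.Agent.* helpers here

set_option autoImplicit false
set_option backward.isDefEq.respectTransparency false
set_option backward.isDefEq.respectTransparency.types false
universe u
open CategoryTheory CategoryTheory.Limits AlgebraicGeometry Opposite
open EtSix


namespace Groth.Agent.S4334

/-- The degree-two step in canonical form: let X be a smooth projective curve over an algebraically
closed field k (here: X integral, with a proper morphism X -> Spec k that is smooth of relative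
dimension 1), and n an integer that is nonzero in k, so that the n-th power map on G_m is an
epimorphism of sheaves on the small etale site (taken as the hypothesis h). Then the boundary map
H^1(X, G_m) -> H^2(X, μ_n) of the Kummer sequence is surjective, and its kernel is the image of
multiplication by n on H^1(X, G_m). -/
theorem result (k : Type u) [Field k] [IsAlgClosed k] {X : Scheme.{u}} [IsIntegral X]
    (f : X ⟶ Spec (CommRingCat.of k)) [IsProper f] [SmoothOfRelativeDimension 1 f]
    (n : ℕ) (hn : (n : k) ≠ 0) (h : Epi (EtCoh.powMap X n)) :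
    Function.Surjective (EtSix.kummerBoundary h 1) ∧
      (EtSix.kummerBoundary h 1).ker = (n • AddMonoidHom.id (EtCoh.H X (EtCoh.Gm X) 1)).range := by
  haveI : QuasiCompact f := inferInstance
  have h2 : Subsingleton (EtCoh.H X (EtCoh.Gm X) 2) := by
    haveI : LocallyOfFiniteType f := inferInstance
    exact Groth.Agent.CurveCd.subsingleton_H_Gm_curve k X f (Groth.Agent.CurveKummer.topologicalKrullDim_le_one f) 2 le_rfl
  have hpow : ∀ y : EtCoh.H X (EtCoh.Gm X) 1,
      y.comp (Abelian.Ext.mk₀ (EtCoh.powMap X n)) (add_zero 1) = n • y := fun y => by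
    clear h h2 hn
    rw [EtCoh.powMap]
    induction n with
    | zero => simp
    | succ n ih => rw [succ_nsmul, succ_nsmul, Abelian.Ext.mk₀_add, Abelian.Ext.comp_add, ih, Abelian.Ext.comp_mk₀_id]
  refine ⟨fun x => ?_, ?_⟩
  · obtain ⟨z, hz⟩ := Abelian.Ext.covariant_sequence_exact₁ _ (EtSix.kummerShortExact h) x (h2.elim _ _) (rfl : 1 + 1 = 2)
    exact ⟨z, hz⟩
  · ext y
    constructor
    · intro hy
      obtain ⟨z, hz⟩ := Abelian.Ext.covariant_sequence_exact₃ _ (EtSix.kummerShortExact h) y (rfl : 1 + 1 = 2) hy
      exact ⟨z, (hpow z).symm.trans hz⟩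
    · rintro ⟨z, rfl⟩
      show ((n • AddMonoidHom.id (EtCoh.H X (EtCoh.Gm X) 1)) z).comp (EtSix.kummerShortExact h).extClass rfl = 0
      rw [show (n • AddMonoidHom.id (EtCoh.H X (EtCoh.Gm X) 1)) z = n • z from rfl, ← hpow z]
      exact (Abelian.Ext.comp_assoc_of_second_deg_zero _ _ _ _).trans
        ((congrArg (fun w => z.comp w _) ((EtSix.kummerShortExact h).comp_extClass)).trans (Abelian.Ext.comp_zero _ _ _ _ _))

end Groth.Agent.S4334
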