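import Groth.Statements.S4376
import Groth.Agent.QCoh.VanIdeal
import Groth.Agent.QCoh.Support
import Groth.Agent.QCoh.DevissageIdeal
import Groth.Agent.VeryAmpleX.DegOne

set_option autoImplicit false
universe u
open CategoryTheory CategoryTheory.Limits AlgebraicGeometry
open EGA2

set_option backward.isDefEq.respectTransparency false
set_option backward.isDefEq.respectTransparency.types false
set_option linter.style.haveILetI false

namespace Groth.Agent.S4376

open Groth.Agent TopologicalSpace Opposite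

theorem isAffineOpen_of_exact {X Y : Scheme.{u}} (f : X ⟶ Y) [IsSeparated f] [QuasiCompact f]
    (h : ∀ (F F'' : X.Modules) (p : F ⟶ F''), Coh.IsQCoh F → Coh.IsQCoh F'' → Epi p → Epi ((Coh.push f).map p))
    {V : Y.Opens} (hV : IsAffineOpen V) : IsAffineOpen (f ⁻¹ᵁ V) := by
  let W := f ⁻¹ᵁ V
  obtain ⟨S, hS, hW⟩ := isCompact_iff_finite_and_eq_biUnion_affineOpens.mp
    (show IsCompact ((f ⁻¹ᵁ V : X.Opens) : Set X) from QuasiCompact.isCompact_preimage (f := f) _ V.2 hV.isCompact)
  have := hS.fintype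
  let G : S → X.Modules := fun i => (QCoh.vanIdeal ((i.1.1 : Set X)ᶜ)).toModules
  let φ : (⨁ G) ⟶ Coh.structureModule X := biproduct.desc fun i => (QCoh.vanIdeal _).ι
  have hP : Coh.IsQCoh (⨁ G) := QCoh.isQCoh_biproduct _ fun i => QCoh.isQCoh_vanIdeal _
  let I := kernel (cokernel.π φ)
  have hI : Coh.IsQCoh I := QCoh.isQCoh_kernel QCoh.isQCoh_structureModule
    (QCoh.isQCoh_cokernel hP QCoh.isQCoh_structureModule φ) _
  let p : (⨁ G) ⟶ I := Abelian.factorThruImage φ
  let one : Γ(Coh.structureModule X, W) := (1 : Γ(X, W))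
  have hone : (cokernel.π φ).app W one = 0 := by
    refine QCoh.eq_zero_of_locally _ _ fun x hx => ?_
    obtain ⟨U, hUS, hxU⟩ : ∃ U ∈ S, x ∈ (U.1 : X.Opens) := by
      have hx' : x ∈ ((f ⁻¹ᵁ V : X.Opens) : Set X) := hx
      rw [hW] at hx'
      simpa using hx'
    have hUW : U.1 ≤ W := fun y hy => by
      show y ∈ ((f ⁻¹ᵁ V : X.Opens) : Set X)
      rw [hW]
      simpa using ⟨U.1, ⟨U.2, hUS⟩, hy⟩
    refine ⟨U.1, homOfLE hUW, hxU, ?_⟩
    rw [← QCoh.map_app_comm]
    obtain ⟨t, ht⟩ := (QCoh.vanIdeal ((U.1 : Set X)ᶜ)).exists_app_eq (U := U.1)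
      (s := (Coh.structureModule X).presheaf.map (homOfLE hUW).op one)
      (fun z hz hzb => hz (X.basicOpen_le _ hzb))
    rw [← ht]
    have e : biproduct.ι G ⟨U, hUS⟩ ≫ φ ≫ cokernel.π φ = 0 := by rw [cokernel.condition, comp_zero]
    rw [← Category.assoc, biproduct.ι_desc] at e
    exact congrArg (fun χ : G ⟨U, hUS⟩ ⟶ cokernel φ => χ.app U.1 t) e
  obtain ⟨b, hb⟩ := VeryAmpleX.exists_app_kernel_ι (cokernel.π φ) W one hone
  have hep : Epi ((Coh.push f).map p) := h _ _ p hP hI inferInstance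
  obtain ⟨a, ha⟩ := QCoh.app_surjective_of_epi (QCoh.isQCoh_pushforward f hP) (QCoh.isQCoh_pushforward f hI)
    ((Coh.push f).map p) hV b
  let g : S → Γ(X, W) := fun i => QCoh.toFn ((QCoh.vanIdeal ((i.1.1 : Set X)ᶜ)).ι.app W
    ((biproduct.π G i).app W a))
  have hsum : ∑ i, g i = 1 := by
    have e : φ = ∑ i, biproduct.π G i ≫ (QCoh.vanIdeal _).ι     := biproduct.hom_ext' _ _ fun j => by
      rw [biproduct.ι_desc, Preadditive.comp_sum, Finset.sum_eq_single j]
      · rw [biproduct.ι_π_self_assoc]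
      · exact fun k _ hk => by rw [biproduct.ι_π_ne_assoc _ (Ne.symm hk), zero_comp]
      · exact fun hj => absurd (Finset.mem_univ j) hj
    let ev : ((⨁ G) ⟶ Coh.structureModule X) →+ Γ(Coh.structureModule X, W) :=
      AddMonoidHom.mk' (fun χ => χ.app W a) fun _ _ => rfl
    have h1 : ev φ = one := by
      rw [← hb, ← ha]
      exact (congrArg (fun χ : (⨁ G) ⟶ Coh.structureModule X => χ.app W a) (Abelian.image.fac φ)).symm
    rw [e, map_sum] at h1
    exact h1
  refine isAffineOpen_of_isAffineOpen_basicOpen W (Set.range g) ?_ ?_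
  · rw [Ideal.eq_top_iff_one, ← hsum]
    exact Ideal.sum_mem _ fun i _ => Ideal.subset_span ⟨i, rfl⟩
  · rintro _ ⟨i, rfl⟩
    have hle : X.basicOpen (g i) ≤ i.1.1 := fun z hz => by
      by_contra hzi
      exact (QCoh.vanIdeal ((i.1.1 : Set X)ᶜ)).ι_app_mem W _ z hzi hz
    have hiW : i.1.1 ≤ W := fun y hy => by
      show y ∈ ((f ⁻¹ᵁ V : X.Opens) : Set X)
      rw [hW]
      simpa using ⟨i.1.1, ⟨i.1.2, i.2⟩, hy⟩
    have e : X.basicOpen (g i) = X.basicOpen (X.presheaf.map (homOfLE hiW).op (g i)) := by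
      rw [Scheme.basicOpen_res]
      exact (inf_eq_right.2 hle).symm
    rw [e]
    exact i.1.2.basicOpen _

/-- (b) ⇒ (a): let f : X → Y be a separated quasi-compact morphism such that the direct image functor
f_* is exact on quasi-coherent O_X-modules, i.e. for every epimorphism p : F → F'' of quasi-coherent
O_X-modules the morphism f_*(p) is again an epimorphism. Then f is an affine morphism. -/
theorem result {X Y : Scheme.{u}} (f : X ⟶ Y) [IsSeparated f] [QuasiCompact f]
    (h : ∀ (F F'' : X.Modules) (p : F ⟶ F''), Coh.IsQCoh F → Coh.IsQCoh F'' → Epi p → Epi ((Coh.push f).map p)) :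
    IsAffineHom f :=
  ⟨fun _ hV => isAffineOpen_of_exact f h hV⟩

end Groth.Agent.S4376
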