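import Groth.Statements.S4382
import Groth.Agent.AmpleX.CounitAmple
import Groth.Agent.AmpleX.CounitEpi

set_option autoImplicit false
universe u
open CategoryTheory CategoryTheory.Limits AlgebraicGeometry
open EGA2

namespace Groth.Agent.S4382

/-- Let X be a quasi-compact separated scheme, f : X → Y a separated quasi-compact morphism and L an
invertible O_X-module. Then L is ample relative to f if and only if for every quasi-coherent
O_X-module F of finite type there is n₀ > 0 such that for every n ≥ n₀ the canonical morphism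
f^*(f_*(F ⊗ L^{⊗n})) → F ⊗ L^{⊗n} (the counit of the adjunction between f^* and f_*) is an
epimorphism. (The published statement also allows X to be a scheme whose underlying space is
Noetherian; this row assumes X quasi-compact and separated.) -/
theorem result {X Y : Scheme.{u}} [CompactSpace X] [X.IsSeparated] (f : X ⟶ Y)
    [IsSeparated f] [QuasiCompact f] (L : X.Modules) (hL : PicF.IsInvertible L) :
    RelAmple.IsRelAmple f L ↔ ∀ F : X.Modules, Coh.IsQCoh F → CohB1.IsFT F →
      ∃ n₀ : ℕ, 0 < n₀ ∧ ∀ n : ℕ, n₀ ≤ n →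
        Epi ((Scheme.Modules.pullbackPushforwardAdjunction f).counit.app (CohB1.tensorMod F (CohB1.tensorPow L n))) := by
  refine ⟨fun h F hF hft => ?_, fun h => AmpleX.isRelAmple_of_epi_counit_ideals f hL fun J i _ hJ hJft => ?_⟩
  · obtain ⟨n₀, hn₀⟩ := AmpleX.eventually_epi_counit h hF hft
    exact ⟨n₀ + 1, Nat.succ_pos _, fun n hn => hn₀ n (le_trans (Nat.le_succ _) hn)⟩
  · obtain ⟨n₀, hpos, hn₀⟩ := h J hJ hJft
    exact ⟨n₀, hpos, hn₀ n₀ le_rfl⟩

end Groth.Agent.S4382
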