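import Groth.Statements.S4409
import Groth.Agent.AmpleX.QAGenerated
import Groth.Agent.AmpleX.Separated
import Groth.Agent.VeryAmpleX.DegOne

set_option autoImplicit false
universe u
open CategoryTheory CategoryTheory.Limits AlgebraicGeometry
open EGA2

set_option backward.isDefEq.respectTransparency false
set_option backward.isDefEq.respectTransparency.types false
set_option linter.style.haveILetI false

namespace Groth.Agent.S4409

open Groth.Agent TopologicalSpace Opposite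

theorem eq_zero_of_top {X : Scheme.{u}} [X.IsQuasiAffine] {F Z : X.Modules} (hF : Coh.IsQCoh F) (χ : F ⟶ Z)
    (h : ∀ s, χ.app ⊤ s = 0) : χ = 0 := by
  obtain ⟨σ, p, hp⟩ := AmpleX.isGloballyGenerated_of_isQuasiAffine hF
  rw [← cancel_epi p, comp_zero]
  refine Limits.Sigma.hom_ext _ _ fun k => ?_
  rw [comp_zero]
  exact AmpleX.eq_zero_of_one_eq_zero _ (h (InvX.one (SheafOfModules.ιFree k ≫ p)))

theorem eq_zero_of_preimage {X Y : Scheme.{u}} {f : X ⟶ Y} (hf : Mor2.IsQuasiAffine f) {F Z : X.Modules}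
    (hF : Coh.IsQCoh F) (χ : F ⟶ Z) (h : ∀ (V : Y.Opens) s, χ.app (f ⁻¹ᵁ V) s = 0) : χ = 0 := by
  refine Scheme.Modules.hom_ext _ _ fun O => ?_
  ext s
  refine QCoh.eq_zero_of_locally O _ fun x hx => ?_
  obtain ⟨V, hV, hxV, -⟩ := exists_isAffineOpen_mem_and_subset (x := f x) (U := ⊤) trivial
  let W : X.Opens := f ⁻¹ᵁ V
  haveI := hf.2 V hV
  have e := eq_zero_of_top (QCoh.isQCoh_restrict W.ι hF) ((Scheme.Modules.restrictFunctor W.ι).map χ) (by
    have hW : W.ι ''ᵁ (⊤ : W.toScheme.Opens) = W := by simp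
    show ∀ t, χ.app (W.ι ''ᵁ ⊤) t = 0
    rw [hW]
    exact h V)
  have hle : W.ι ''ᵁ (W.ι ⁻¹ᵁ O) ≤ O := by
    rw [Scheme.Hom.image_preimage_eq_opensRange_inf]
    exact inf_le_right
  refine ⟨_, homOfLE hle, ⟨⟨x, hxV⟩, hx, rfl⟩, ?_⟩
  rw [← QCoh.map_app_comm]
  exact congrArg (fun t : F.restrict W.ι ⟶ Z.restrict W.ι =>
    t.app (W.ι ⁻¹ᵁ O) (F.presheaf.map (homOfLE hle).op s)) e

theorem isSeparated_of_isQuasiAffine {X Y : Scheme.{u}} {f : X ⟶ Y} (hf : Mor2.IsQuasiAffine f) : IsSeparated f := by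
  refine IsZariskiLocalAtTarget.of_iSup_eq_top (P := @IsSeparated) (fun V : Y.affineOpens => V.1)
    (iSup_affineOpens_eq_top Y) fun V => ?_
  haveI := hf.2 V.1 V.2
  haveI : IsSeparated ((f ∣_ V.1) ≫ terminal.from V.1.toScheme) := by
    rw [terminal.comp_from]
    exact Scheme.IsSeparated.isSeparated_terminal_from
  exact IsSeparated.of_comp (f ∣_ V.1) (terminal.from V.1.toScheme)

theorem isQuasiAffine_of_epi {X Y : Scheme.{u}} (f : X ⟶ Y) [QuasiCompact f] [IsSeparated f]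
    (h : ∀ F : X.Modules, Coh.IsQCoh F → Epi ((Scheme.Modules.pullbackPushforwardAdjunction f).counit.app F))
    {V : Y.Opens} (hV : IsAffineOpen V) : Scheme.IsQuasiAffine (f ⁻¹ᵁ V : Scheme.{u}) := by
  let W : X.Opens := f ⁻¹ᵁ V
  have hWc : IsCompact (W : Set X) := QuasiCompact.isCompact_preimage (f := f) _ V.2 hV.isCompact
  haveI : CompactSpace W.toScheme := isCompact_iff_compactSpace.1 hWc
  refine Scheme.IsQuasiAffine.of_forall_exists_mem_basicOpen _ fun x => ?_
  obtain ⟨U, hU, hxU, hUW⟩ := exists_isAffineOpen_mem_and_subset (x := x.1) (U := W) x.2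
  let Z : Set X := (U : Set X)ᶜ
  let G := (QCoh.vanIdeal Z).toModules
  have hG : Coh.IsQCoh G := QCoh.isQCoh_vanIdeal Z
  obtain ⟨T, hT⟩ : ∃ T : Γ(G, W), x.1 ∈ X.basicOpen (QCoh.toFn ((QCoh.vanIdeal Z).ι.app W T)) := by
    by_contra hno
    push Not at hno
    have key : ∀ (V' : Y.Opens) (s : Γ(G, f ⁻¹ᵁ V')), (QCoh.vanIdeal Z).ι.app _ s ∈
        (QCoh.vanIdeal (Z ∪ {x.1})).mem (f ⁻¹ᵁ V') := by
      rintro V' s z (hz | rfl) hzb
      · exact (QCoh.vanIdeal Z).ι_app_mem _ s z hz hzb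
      obtain ⟨a, ha, hxa⟩ := hV.exists_basicOpen_le
        (⟨f x.1, X.basicOpen_le _ hzb⟩ : V') x.2
      let r : Γ(X, W) := (f.app V).hom a
      have hD : X.basicOpen r = f ⁻¹ᵁ Y.basicOpen a := (Scheme.preimage_basicOpen f a).symm
      have hle : X.basicOpen r ≤ f ⁻¹ᵁ V' := hD.le.trans (f.preimage_mono ha)
      obtain ⟨n, T, hT⟩ := QCoh.exists_pow_smul_eq_map_of_isQuasiSeparated hG hWc
        (f.isQuasiSeparated_preimage hV.isQuasiSeparated) r (G.presheaf.map (homOfLE hle).op s)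
      refine hno T ?_
      have h1 := congrArg ((QCoh.vanIdeal Z).ι.app (X.basicOpen r)) hT
      rw [Scheme.Modules.Hom.app_smul, QCoh.map_app_comm, QCoh.map_app_comm] at h1
      have h2 : x.1 ∈ X.basicOpen (QCoh.toFn ((Coh.structureModule X).presheaf.map
          (homOfLE (X.basicOpen_le r)).op ((QCoh.vanIdeal Z).ι.app W T))) := by
        have hxD : x.1 ∈ X.basicOpen r := hD.ge hxa
        rw [h1, QCoh.toFn_smul, Scheme.basicOpen_mul, QCoh.toFn_map, Scheme.basicOpen_res]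
        refine ⟨?_, hxD, hzb⟩
        rw [Scheme.basicOpen_of_isUnit]
        · exact hxD
        · exact ((RingedSpace.isUnit_res_basicOpen X.toRingedSpace r)).pow n
      rw [QCoh.toFn_map, Scheme.basicOpen_res] at h2
      exact h2.2
    let C := ShortComplex.mk (QCoh.vanIdeal (Z ∪ {x.1})).ι (cokernel.π (QCoh.vanIdeal (Z ∪ {x.1})).ι)
      (cokernel.condition _)
    have hC : C.ShortExact :=
      { exact := ShortComplex.exact_cokernel _, mono_f := QCoh.SubMod.mono_ι _, epi_g := inferInstance }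
    let ψ : G ⟶ cokernel (QCoh.vanIdeal (Z ∪ {x.1})).ι := (QCoh.vanIdeal Z).ι ≫ cokernel.π _
    have hpush : (Scheme.Modules.pushforward f).map ψ = 0 := by
      refine Scheme.Modules.hom_ext _ _ fun V' => ?_
      ext s
      obtain ⟨t, ht⟩ := (QCoh.vanIdeal (Z ∪ {x.1})).exists_app_eq (key V' s)
      show (cokernel.π (QCoh.vanIdeal (Z ∪ {x.1})).ι).app _ ((QCoh.vanIdeal Z).ι.app _ s) = 0
      rw [← ht]
      exact congrArg (fun χ : _ ⟶ cokernel (QCoh.vanIdeal (Z ∪ {x.1})).ι => χ.app (f ⁻¹ᵁ V') t)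
        (cokernel.condition (QCoh.vanIdeal (Z ∪ {x.1})).ι)
    have hψ : ψ = 0 := by
      haveI := h G hG
      rw [← cancel_epi ((Scheme.Modules.pullbackPushforwardAdjunction f).counit.app G), comp_zero]
      refine ((Scheme.Modules.pullbackPushforwardAdjunction f).homEquiv _ _).injective ?_
      rw [Adjunction.homEquiv_unit, Adjunction.homEquiv_unit, Functor.map_comp, hpush, comp_zero, comp_zero,
        Functor.map_zero, comp_zero]
    obtain ⟨e, he⟩ := (QCoh.vanIdeal Z).exists_app_eq (U := U)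
      (s := (show Γ(Coh.structureModule X, U) from (1 : Γ(X, U))))
      (fun z hz hzb => hz (X.basicOpen_le _ hzb))
    obtain ⟨t, ht⟩ := QCoh.exists_app_f_eq hC U ((QCoh.vanIdeal Z).ι.app U e)
      (congrArg (fun χ : G ⟶ cokernel (QCoh.vanIdeal (Z ∪ {x.1})).ι => χ.app U e) hψ)
    refine (QCoh.vanIdeal (Z ∪ {x.1})).ι_app_mem U t x.1 (Or.inr rfl) ?_
    rw [show (QCoh.vanIdeal (Z ∪ {x.1})).ι.app U t = _ from ht, he]
    show x.1 ∈ X.basicOpen (1 : Γ(X, U))
    rw [Scheme.basicOpen_of_isUnit _ isUnit_one]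
    exact hxU
  let g : Γ(X, W) := QCoh.toFn ((QCoh.vanIdeal Z).ι.app W T)
  have hle : X.basicOpen g ≤ U := fun z hz => by
    by_contra hzU
    exact (QCoh.vanIdeal Z).ι_app_mem W T z hzU hz
  have hb : W.ι ''ᵁ (W.toScheme.basicOpen (W.topIso.inv g)) = X.basicOpen g := by
    rw [Scheme.image_basicOpen]
    simp [Scheme.Opens.toScheme_presheaf_obj]
  refine ⟨W.topIso.inv g, ?_, ?_⟩
  · rw [← W.ι.isAffineOpen_iff_of_isOpenImmersion, hb]
    have e : X.basicOpen g = X.basicOpen (X.presheaf.map (homOfLE (fun y hy => hUW hy)).op g : Γ(X, U)) := by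
      rw [Scheme.basicOpen_res]
      exact (inf_eq_right.2 hle).symm
    rw [e]
    exact hU.basicOpen _
  · have hx : x.1 ∈ W.ι ''ᵁ (W.toScheme.basicOpen (W.topIso.inv g)) := hb ▸ hT
    exact (W.ι.apply_mem_image_iff).1 hx

/-- (a) ⇔ (d): let f : X → Y be a quasi-compact morphism. Then f is quasi-affine (the preimage of every
affine open of Y is a quasi-affine scheme) if and only if f is separated and, for every
quasi-coherent O_X-module F, the canonical morphism f^*(f_*(F)) → F (counit of the adjunction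
between f^* and f_*) is an epimorphism. -/
theorem result {X Y : Scheme.{u}} (f : X ⟶ Y) [QuasiCompact f] :
    Mor2.IsQuasiAffine f ↔ (IsSeparated f ∧ ∀ F : X.Modules, Coh.IsQCoh F →
      Epi ((Scheme.Modules.pullbackPushforwardAdjunction f).counit.app F)) := by
  refine ⟨fun hf => ⟨isSeparated_of_isQuasiAffine hf, fun F hF => ⟨fun {Z} φ ψ he => ?_⟩⟩, fun ⟨_, h⟩ =>
    ⟨inferInstance, fun V hV => isQuasiAffine_of_epi f h hV⟩⟩
  let adj := Scheme.Modules.pullbackPushforwardAdjunction f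
  have hpush : ∀ χ : F ⟶ Z, adj.unit.app _ ≫ (Scheme.Modules.pushforward f).map (adj.counit.app F ≫ χ) =
      (Scheme.Modules.pushforward f).map χ := fun χ => by
    rw [(Scheme.Modules.pushforward f).map_comp]
    exact adj.right_triangle_components_assoc F _
  have heq : (Scheme.Modules.pushforward f).map φ = (Scheme.Modules.pushforward f).map ψ := by
    rw [← hpush φ, ← hpush ψ]
    exact congrArg (fun χ => adj.unit.app _ ≫ (Scheme.Modules.pushforward f).map χ) he
  refine sub_eq_zero.1 (eq_zero_of_preimage hf hF (φ - ψ) fun V s => ?_)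
  show φ.app (f ⁻¹ᵁ V) s - ψ.app (f ⁻¹ᵁ V) s = 0
  rw [sub_eq_zero]
  exact congr(($heq).app V s)

end Groth.Agent.S4409
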