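import Groth.Statements.S4416
import Groth.Agent.ChowGen.Projective
import Groth.Agent.ProjLoc.Basic

set_option autoImplicit false
universe u
open CategoryTheory CategoryTheory.Limits AlgebraicGeometry
open EGA2

namespace Groth.Agent.S4416

/-- Let r : X → S be separated of finite type, and assume either S Noetherian, or S quasi-compact and
separated with X having finitely many irreducible components. Then r is proper if and only if there
are a scheme X' and a surjective morphism f : X' → X with f ≫ r projective. Moreover, when r is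
proper, f can be chosen so that in addition there is a dense open U of X with f⁻¹(U) dense in X'
over which f is an isomorphism, and with X' irreducible (resp. reduced) if X is. (The published
statement also remarks that f is then projective; that is not stated here.) -/
theorem result {X S : Scheme.{u}} (r : X ⟶ S) [IsSeparated r] [LocallyOfFiniteType r] [QuasiCompact r]
    (h : IsNoetherian S ∨ (CompactSpace S ∧ S.IsSeparated ∧ (irreducibleComponents X).Finite)) :
    (IsProper r ↔ ∃ (X' : Scheme.{u}) (f : X' ⟶ X), Surjective f ∧ RelProj.IsProjective (f ≫ r)) ∧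
    (IsProper r → ∃ (X' : Scheme.{u}) (f : X' ⟶ X), Surjective f ∧ RelProj.IsProjective (f ≫ r) ∧
        (∃ U : X.Opens, Dense (U : Set X) ∧ Dense ((f ⁻¹ᵁ U : X'.Opens) : Set X') ∧ IsIso (f ∣_ U)) ∧
        (IrreducibleSpace X → IrreducibleSpace X') ∧ (IsReduced X → IsReduced X')) := by
  have hyp : CompactSpace S ∧ QuasiSeparatedSpace S ∧ (irreducibleComponents X).Finite := by
    rcases h with h | ⟨h1, h2, h3⟩
    · haveI := h
      haveI : IsLocallyNoetherian X := LocallyOfFiniteType.isLocallyNoetherian r
      haveI : CompactSpace X := QuasiCompact.compactSpace_of_compactSpace r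
      haveI : IsNoetherian X := {}
      exact ⟨inferInstance, inferInstance, TopologicalSpace.NoetherianSpace.finite_irreducibleComponents⟩
    · haveI := h2
      exact ⟨h1, inferInstance, h3⟩
  obtain ⟨h1, h2, h3⟩ := hyp
  haveI := h1
  haveI := h2
  have main : IsProper r → ∃ (X' : Scheme.{u}) (f : X' ⟶ X), Surjective f ∧ RelProj.IsProjective (f ≫ r) ∧
      (∃ U : X.Opens, Dense (U : Set X) ∧ Dense ((f ⁻¹ᵁ U : X'.Opens) : Set X') ∧ IsIso (f ∣_ U)) ∧
      (IrreducibleSpace X → IrreducibleSpace X') ∧ (IsReduced X → IsReduced X') := by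
    intro hr
    obtain ⟨n, X', π, j, hj, hjf, hπ, hs, ⟨U, hU, hU', hi⟩, hred⟩ := Groth.Agent.ChowGen.exists_chow_dense r h3
    haveI := hr
    haveI := hπ
    haveI := hj
    haveI := TwistFlat.isProper_toBase n (Y := S)
    haveI : IsProper (j ≫ CohB1.ProjSpaceOver.toBase n S) := by rw [hjf]; infer_instance
    haveI : IsClosedImmersion j := (IsClosedImmersion.iff_isProper_and_mono _).2
      ⟨IsProper.of_comp j (CohB1.ProjSpaceOver.toBase n S), inferInstance⟩
    refine ⟨X', π, hs, Groth.Agent.HProj.isProjective_of_isHProjective ⟨n, j, inferInstance, hjf⟩,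
      ⟨U, hU, hU', hi⟩, fun hX => ?_, hred⟩
    exact Groth.Agent.ChowGen.irreducibleSpace_of_dense π hU hU' hi hX
  refine ⟨⟨fun hr => ?_, ?_⟩, main⟩
  · obtain ⟨X', f, h4, h5, -⟩ := main hr
    exact ⟨X', f, h4, h5⟩
  · rintro ⟨X', f, hf, hp⟩
    haveI := Groth.Agent.ProjLoc.isProper_of_isProjective hp
    haveI := hf
    haveI : UniversallyClosed r := UniversallyClosed.of_comp_surjective f r
    exact {}

end Groth.Agent.S4416
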