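import Groth.Statements.S4432
import Mathlib
-- import your own Groth.Agent.* helpers here

set_option autoImplicit false
set_option linter.style.haveILetI false
set_option maxHeartbeats 1000000
universe u
open EGA2

namespace Groth.Agent.S4432

open Polynomial TensorProduct

variable (A K E : Type u) [CommRing A] [IsNoetherianRing A] [CommRing K] [Algebra A K] [AddCommGroup E] [Module A E]

theorem expand {R M P ι κ : Type*} [CommSemiring R] [AddCommMonoid M] [Module R M] [AddCommMonoid P] [Module R P]
    [Fintype ι] [DecidableEq ι] [Fintype κ] (D : MultilinearMap R (fun _ : ι => M) P) (g : κ → M) (a : ι → κ → R) :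
    D (fun i => ∑ k, a i k • g k) = ∑ f : ι → κ, (∏ i, a i (f i)) • D (fun i => g (f i)) := by
  rw [D.map_sum]
  exact Finset.sum_congr rfl fun f _ => D.map_smul_univ _ _

theorem fg_adjoin [Module.Finite A E] [Module.Free K (K ⊗[A] E)] :
    (Algebra.adjoin A {c : K | ∃ (v : E →ₗ[A] E) (j : ℕ), c = ((v.baseChange K).charpoly).coeff j}).toSubmodule.FG := by
  classical
  rcases subsingleton_or_nontrivial K with hK | hK
  · exact IsNoetherian.noetherian (R := A) (M := K) _
  let ι := Module.Free.ChooseBasisIndex K (K ⊗[A] E)
  let b := Module.Free.chooseBasis K (K ⊗[A] E)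
  let φ : E →ₗ[A] (ι → K) := (b.equivFun.toLinearMap.restrictScalars A).comp (TensorProduct.mk A K E 1)
  obtain ⟨s, g, hg⟩ := Module.Finite.exists_fin (R := A) (M := E)
  let D : MultilinearMap A (fun _ : ι => ι → K) K :=
    (Matrix.detRowAlternating (n := ι) (R := K)).toMultilinearMap.restrictScalars A
  let N : Submodule A K := Submodule.span A (Set.range fun f : ι → Fin s => D fun i => φ (g (f i)))
  have hN : ∀ x : ι → E, D (fun i => φ (x i)) ∈ N := by
    intro x
    choose a ha using fun i => (Submodule.mem_span_range_iff_exists_fun A).1 (hg.ge (Submodule.mem_top (x := x i)))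
    rw [show (fun i => φ (x i)) = fun i => ∑ k, a i k • φ (g k) from funext fun i => by rw [← ha i]; simp,
      expand]
    exact sum_mem fun f _ => N.smul_mem _ (Submodule.subset_span ⟨f, rfl⟩)
  have hcoeff : ∀ (v : E →ₗ[A] E) (j : ℕ), ∀ y ∈ N, ((v.baseChange K).charpoly).coeff j * y ∈ N := by
    intro v j y hy
    induction hy using Submodule.span_induction with
    | zero => simp
    | add a b _ _ ha hb => rw [mul_add]; exact N.add_mem ha hb
    | smul r a _ ha => rw [mul_smul_comm]; exact N.smul_mem r ha
    | mem y hy =>
      obtain ⟨f, rfl⟩ := hy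
      let V := LinearMap.toMatrix b b (v.baseChange K)
      let x : ι → E := fun i => g (f i)
      let M : Matrix ι ι K := Matrix.of fun i => φ (x i)
      have hrow : M * V.transpose = Matrix.of fun i => φ (v (x i)) := by
        ext i k
        have h1 := congrFun (LinearMap.toMatrix_mulVec_repr b b (v.baseChange K) (1 ⊗ₜ x i)) k
        simp only [LinearMap.baseChange_tmul] at h1
        simp only [Matrix.mul_apply, Matrix.transpose_apply, M, Matrix.of_apply]
        refine Eq.trans (Finset.sum_congr rfl fun l _ => mul_comm _ _) h1
      have hdet : ((v.baseChange K).charpoly) * C M.det =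
          (M.map C * (Matrix.scalar ι (X : K[X]) - V.transpose.map C)).det := by
        rw [Matrix.det_mul, ← LinearMap.charpoly_toMatrix (v.baseChange K) b, ← Matrix.charpoly_transpose, mul_comm]
        congr 1
        exact (RingHom.map_det C M).symm ▸ rfl
      let D' := Matrix.detRowAlternating (n := ι) (R := K[X])
      have hexp : (M.map C * (Matrix.scalar ι (X : K[X]) - V.transpose.map C)).det =
          ∑ S : Finset ι, X ^ S.card *
            C (D fun i => φ (S.piecewise x (fun i => -v (x i)) i)) := by
        have e1 : M.map C * (Matrix.scalar ι (X : K[X]) - V.transpose.map C) =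
            Matrix.of (fun i => (X : K[X]) • M.map C i) + Matrix.map (Matrix.of fun i => φ (-v (x i))) C := by
          rw [mul_sub, ← Matrix.map_mul, hrow]
          ext i k
          simp only [Matrix.sub_apply, Matrix.add_apply, Matrix.of_apply, Matrix.map_apply, Pi.smul_apply, map_neg, Pi.neg_apply, Matrix.scalar_apply, Matrix.mul_diagonal, smul_eq_mul, C_neg]
          ring
        show D' _ = _
        rw [e1]
        erw [AlternatingMap.map_add_univ]
        refine Finset.sum_congr rfl fun S _ => ?_
        have e2 := D'.toMultilinearMap.map_piecewise_smul (fun _ => (X : K[X]))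
          (S.piecewise (M.map C) (Matrix.map (Matrix.of fun i => φ (-v (x i))) C)) S
        simp only [Finset.prod_const, AlternatingMap.coe_multilinearMap] at e2
        have e3 : S.piecewise (Matrix.of fun i => (X : K[X]) • M.map C i) (Matrix.map (Matrix.of fun i => φ (-v (x i))) C) =
            S.piecewise (fun i => (X : K[X]) • S.piecewise (M.map C) (Matrix.map (Matrix.of fun i => φ (-v (x i))) C) i)
              (S.piecewise (M.map C) (Matrix.map (Matrix.of fun i => φ (-v (x i))) C)) := by
          funext i k
          simp only [Finset.piecewise, Pi.smul_apply]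
          by_cases h : i ∈ S <;> simp only [h, if_true, if_false, Matrix.of_apply, Pi.smul_apply]
        rw [e3, e2, smul_eq_mul]
        congr 1
        show Matrix.det _ = C (Matrix.det _)
        refine Eq.trans ?_ (RingHom.map_det C _).symm
        congr 1
        funext i k
        show S.piecewise (M.map C) (Matrix.map (Matrix.of fun i => φ (-v (x i))) C) i k =
          C (φ (S.piecewise x (fun i => -v (x i)) i) k)
        simp only [Finset.piecewise]
        by_cases h : i ∈ S <;> simp only [h, if_true, if_false, M, Matrix.map_apply, Matrix.of_apply]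
      have hc : ((v.baseChange K).charpoly).coeff j * M.det =
          ∑ S ∈ Finset.univ.filter (fun S : Finset ι => S.card = j),
            D fun i => φ (S.piecewise x (fun i => -v (x i)) i) := by
        rw [← coeff_mul_C, hdet, hexp, finsetSum_coeff, Finset.sum_filter]
        refine Finset.sum_congr rfl fun S _ => ?_
        rw [coeff_X_pow_mul']
        rcases lt_trichotomy S.card j with h | h | h
        · simp [h.le, h.ne, coeff_C, Nat.sub_ne_zero_of_lt h]
        · simp [h]
        · simp [h.not_ge, h.ne']
      show ((v.baseChange K).charpoly).coeff j * M.det ∈ N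
      rw [hc]
      exact sum_mem fun S _ => hN _
  let St : Subalgebra A K :=
    { carrier := {c | ∀ y ∈ N, c * y ∈ N}
      mul_mem' := fun ha hb y hy => by rw [mul_assoc]; exact ha _ (hb y hy)
      add_mem' := fun ha hb y hy => by rw [add_mul]; exact N.add_mem (ha y hy) (hb y hy)
      algebraMap_mem' := fun r y hy => by rw [← Algebra.smul_def]; exact N.smul_mem r hy }
  have hle : Algebra.adjoin A {c : K | ∃ (v : E →ₗ[A] E) (j : ℕ), c = ((v.baseChange K).charpoly).coeff j} ≤ St :=
    Algebra.adjoin_le (by rintro c ⟨v, j, rfl⟩; exact hcoeff v j)
  have hNfg : N.FG := Submodule.fg_span (Set.finite_range _)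
  haveI : Module.Finite A N := Module.Finite.iff_fg.2 hNfg
  let Φ : St.toSubmodule →ₗ[A] (N →ₗ[A] N) :=
    { toFun := fun c =>
        { toFun := fun y => ⟨c.1 * y.1, c.2 y.1 y.2⟩
          map_add' := fun y z => Subtype.ext (mul_add _ _ _)
          map_smul' := fun r y => Subtype.ext (mul_smul_comm _ _ _) }
      map_add' := fun c d => LinearMap.ext fun y => Subtype.ext (add_mul _ _ _)
      map_smul' := fun r c => LinearMap.ext fun y => Subtype.ext (smul_mul_assoc _ _ _) }
  have hΦ : Function.Injective Φ := by
    rw [injective_iff_map_eq_zero]
    intro c hc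
    refine Subtype.ext ?_
    have hz : ∀ f : ι → Fin s, c.1 * D (fun i => φ (g (f i))) = 0 := fun f =>
      congrArg Subtype.val (LinearMap.congr_fun hc ⟨_, Submodule.subset_span ⟨f, rfl⟩⟩)
    have hsp : Submodule.span K (Set.range fun k => φ (g k)) = ⊤ := by
      have h1 : Submodule.span K (Set.range (TensorProduct.mk A K E 1 ∘ g)) = ⊤ := by
        rw [Set.range_comp, ← Submodule.span_span_of_tower A K ((TensorProduct.mk A K E 1) '' Set.range g),
          Submodule.span_image, hg, Submodule.map_top, LinearMap.coe_range]
        rw [Submodule.eq_top_iff']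
        intro z
        induction z with
        | zero => exact Submodule.zero_mem _
        | tmul c e =>
          rw [show c ⊗ₜ[A] e = c • ((1 : K) ⊗ₜ[A] e) by rw [TensorProduct.smul_tmul', smul_eq_mul, mul_one]]
          exact Submodule.smul_mem _ c (Submodule.subset_span ⟨e, rfl⟩)
        | add a b ha hb => exact Submodule.add_mem _ ha hb
      have h2 := congrArg (Submodule.map b.equivFun.toLinearMap) h1
      rw [Submodule.map_top, LinearEquiv.range, Submodule.map_span, ← Set.range_comp] at h2
      exact h2
    choose a ha using fun i => (Submodule.mem_span_range_iff_exists_fun K).1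
      (hsp.ge (Submodule.mem_top (x := (1 : Matrix ι ι K) i)))
    have h1 : (1 : Matrix ι ι K) = Matrix.of fun i => ∑ k, a i k • φ (g k) := by
      funext i; exact (ha i).symm
    calc c.1 = c.1 * (1 : Matrix ι ι K).det := by rw [Matrix.det_one, mul_one]
      _ = 0 := by
        conv_lhs => rw [h1]
        show c.1 * (Matrix.detRowAlternating (n := ι) (R := K)).toMultilinearMap (fun i => ∑ k, a i k • φ (g k)) = 0
        rw [expand, Finset.mul_sum]
        refine Finset.sum_eq_zero fun f _ => ?_
        rw [smul_eq_mul, mul_left_comm]
        exact mul_eq_zero_of_right _ (hz f)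
  haveI : Module.Finite A St.toSubmodule := Module.Finite.of_injective Φ hΦ
  haveI : IsNoetherian A St.toSubmodule := isNoetherian_of_isNoetherianRing_of_finite A _
  haveI := isNoetherian_of_le (show Subalgebra.toSubmodule (Algebra.adjoin A _) ≤ St.toSubmodule from fun c hc => hle hc)
  exact Module.Finite.iff_fg.1 inferInstance

/-- Let A be a reduced Noetherian ring, K its total ring of fractions, and E a finitely generated
A-module with K ⊗_A E free over K. The A-subalgebra of K generated by the coefficients of the
characteristic polynomials of v ⊗ 1 (v running through all endomorphisms of E), i.e. by all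
elementary symmetric functions of all endomorphisms of E, is a finitely generated A-module. -/
theorem result (A : Type u) [CommRing A] [IsNoetherianRing A] [IsReduced A]
    (E : Type u) [AddCommGroup E] [Module A E] [Module.Finite A E]
    [Module.Free (FractionRing A) (TensorProduct A (FractionRing A) E)] :
    (Algebra.adjoin A {c : FractionRing A | ∃ (v : E →ₗ[A] E) (j : ℕ),
        c = ((v.baseChange (FractionRing A)).charpoly).coeff j}).toSubmodule.FG := by
  exact Groth.Agent.S4432.fg_adjoin A (FractionRing A) E

end Groth.Agent.S4432
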