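import Groth.Statements.S4445
import Groth.Agent.H23.RatExtend
import Groth.Agent.Proj16.Centre
import Mathlib.RingTheory.DiscreteValuationRing.TFAE
-- import your own Groth.Agent.* helpers here

set_option autoImplicit false
universe u
open CategoryTheory CategoryTheory.Limits AlgebraicGeometry
attribute [local instance] Curv2.stalkAlgebra
open EGA2

namespace Groth.Agent.S4445

/-- Let X be a normal irreducible algebraic curve over a field k with field of rational functions K, and
Y an integral complete (proper over k) algebraic curve with field of rational functions L. Dominant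
k-morphisms X ⟶ Y correspond bijectively to k-embeddings L → K: for every k-algebra homomorphism φ :
L → K there is exactly one k-morphism u : X ⟶ Y mapping the generic point of X to the generic point
of Y and inducing φ on the stalks at the generic points. -/
theorem result (k : Type u) [Field k] (X Y : Scheme.{u})
    [X.Over (Spec (CommRingCat.of k))] [LocallyOfFiniteType (X ↘ (Spec (CommRingCat.of k)))]
    [QuasiCompact (X ↘ (Spec (CommRingCat.of k)))] [IsSeparated (X ↘ (Spec (CommRingCat.of k)))] [IsIntegral X]
    (hX : ∀ x : X, IsClosed ({x} : Set X) → ringKrullDim (X.presheaf.stalk x) = 1) (hnorm : Pi1.IsNormalScheme X)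
    [Y.Over (Spec (CommRingCat.of k))] [IsProper (Y ↘ (Spec (CommRingCat.of k)))] [IsIntegral Y]
    (hY : ∀ y : Y, IsClosed ({y} : Set Y) → ringKrullDim (Y.presheaf.stalk y) = 1)
    (φ : Y.functionField →ₐ[k] X.functionField) :
    ∃! u : X ⟶ Y, u ≫ (Y ↘ (Spec (CommRingCat.of k))) = X ↘ (Spec (CommRingCat.of k)) ∧
      ∃ hu : u.base (genericPoint X) = genericPoint Y,
        (Y.presheaf.stalkSpecializes (specializes_of_eq hu) ≫ u.stalkMap (genericPoint X)).hom = (φ : Y.functionField →+* X.functionField) := by
  open IsLocalRing Groth.Agent.H23.RatExtend in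
  classical
  let sX := X ↘ Spec (CommRingCat.of k)
  let sY := Y ↘ Spec (CommRingCat.of k)
  haveI : Y.IsSeparated := ⟨(Limits.terminal.comp_from sY) ▸ inferInstance⟩
  haveI : CompactSpace X := QuasiCompact.compactSpace_of_compactSpace sX
  haveI : IsLocallyNoetherian X := LocallyOfFiniteType.isLocallyNoetherian sX
  have hstr : ∀ (Z : Scheme.{u}) [Z.Over (Spec (CommRingCat.of k))] (z : Z),
      Z.fromSpecStalk z ≫ (Z ↘ Spec (CommRingCat.of k)) = Spec.map (CommRingCat.ofHom (Curv2.stalkMap k Z z)) := by
    intro Z _ z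
    rw [← cancel_mono (Spec (CommRingCat.of k)).toSpecΓ, Category.assoc, Scheme.toSpecΓ_naturality,
      ← Category.assoc, Scheme.fromSpecStalk_toSpecΓ, ← Spec.map_comp, ← SpecMap_ΓSpecIso_hom, ← Spec.map_comp]
    congr 1
    refine CommRingCat.hom_ext (RingHom.ext fun c => ?_)
    simp [Curv2.stalkMap, Coh.toGlobal]
  let ψ : Y.functionField ⟶ X.functionField := CommRingCat.ofHom (φ : Y.functionField →+* X.functionField)
  let φ₀ : Spec (X.presheaf.stalk (genericPoint X)) ⟶ Y := Spec.map ψ ≫ Y.fromSpecStalk (genericPoint Y)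
  have h₀ : φ₀ ≫ sY = X.fromSpecStalk (genericPoint X) ≫ sX := by
    show (Spec.map ψ ≫ Y.fromSpecStalk (genericPoint Y)) ≫ sY = _
    rw [Category.assoc, hstr Y, hstr X, ← Spec.map_comp]
    congr 1
    exact CommRingCat.hom_ext (RingHom.ext fun c => φ.commutes c)
  have hv : ∀ p : X, ValuationRing (X.presheaf.stalk p) := by
    intro p
    haveI : IsDomain (X.presheaf.stalk p) := (hnorm p).1
    obtain ⟨z, hzx, hz⟩ := (isClosed_closure (s := ({p} : Set X))).exists_closed_singleton ⟨p, subset_closure rfl⟩
    have hsp : p ⤳ z := specializes_iff_mem_closure.2 hzx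
    obtain ⟨q, hq⟩ := (X.range_fromSpecStalk (x := z)).ge hsp
    haveI : IsDomain (X.presheaf.stalk z) := (hnorm z).1
    haveI : (⊥ : Ideal (X.presheaf.stalk z)).IsPrime := Ideal.bot_prime
    have h1 : Ring.KrullDimLE 1 (X.presheaf.stalk z) := Ring.krullDimLE_iff.2 (hX z hz).le
    by_cases hq0 : q.asIdeal = ⊥
    · obtain ⟨q', hq'⟩ := (X.range_fromSpecStalk (x := z)).ge ((genericPoint_spec X).specializes (Set.mem_univ z))
      have h2 : p ⤳ genericPoint X := by
        rw [← hq, ← hq']
        exact (((PrimeSpectrum.le_iff_specializes q q').1 (show q.asIdeal ≤ q'.asIdeal from hq0.le.trans bot_le)).map (X.fromSpecStalk z).continuous)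
      obtain rfl : p = genericPoint X := (h2.antisymm ((genericPoint_spec X).specializes (Set.mem_univ p))).eq
      exact (inferInstance : ValuationRing X.functionField)
    · have hm := Ring.krullDimLE_one_iff_of_isPrime_bot.1 h1 q.asIdeal hq0 q.2
      have : q = closedPoint (X.presheaf.stalk z) := PrimeSpectrum.ext (IsLocalRing.eq_maximalIdeal hm)
      rw [this, Scheme.fromSpecStalk_closedPoint] at hq
      subst hq
      have hd := hX z hz
      have hnf : ¬ IsField (X.presheaf.stalk z) := fun hf => by
        rw [ringKrullDim_eq_zero_of_isField hf] at hd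
        exact zero_ne_one hd
      haveI : IsDiscreteValuationRing (X.presheaf.stalk z) := by
        refine ((IsDiscreteValuationRing.TFAE _ hnf).out 0 3 rfl rfl).mpr
          ⟨(hnorm z).2, maximalIdeal _, ⟨fun h => hnf (IsLocalRing.isField_iff_maximalIdeal_eq.2 h), inferInstance⟩, ?_⟩
        rintro P ⟨hP0, hP⟩
        exact IsLocalRing.eq_maximalIdeal (Ring.krullDimLE_one_iff_of_isPrime_bot.1 h1 P hP0 hP)
      infer_instance
  obtain ⟨W, hg, H, hT, hH, hH₀⟩ := extend sX sY φ₀ h₀ Set.univ (fun p _ => exists_lift sX sY φ₀ h₀ p (hv p))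
  obtain rfl : W = ⊤ := top_le_iff.1 (fun p _ => hT (Set.mem_univ p))
  let u : X ⟶ Y := X.topIso.inv ≫ H
  have hu0 : X.fromSpecStalk (genericPoint X) ≫ u = φ₀ := by
    rw [← hH₀, show u = X.topIso.inv ≫ H from rfl, ← Category.assoc]
    congr 1
    rw [← cancel_mono (Scheme.Opens.ι (⊤ : X.Opens)), Category.assoc, Scheme.Opens.fromSpecStalkOfMem_ι, ← Scheme.topIso_hom,
      Iso.inv_hom_id, Category.comp_id]
  have hgen : ∀ v : X ⟶ Y, (∃ hv : v.base (genericPoint X) = genericPoint Y,
      (Y.presheaf.stalkSpecializes (specializes_of_eq hv) ≫ v.stalkMap (genericPoint X)).hom = (φ : Y.functionField →+* X.functionField)) ↔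
      X.fromSpecStalk (genericPoint X) ≫ v = φ₀ := by
    intro v
    constructor
    · rintro ⟨hv, e⟩
      refine (Groth.Agent.Proj16.specMap_toFunctionField v (specializes_of_eq hv)).symm.trans ?_
      show Spec.map _ ≫ _ = Spec.map ψ ≫ _
      rw [show Groth.Agent.Proj16.toFunctionField v (specializes_of_eq hv) = ψ from CommRingCat.hom_ext e]
    · intro hv
      have hpt : v.base (genericPoint X) = genericPoint Y := by
        have h1 : (X.fromSpecStalk (genericPoint X) ≫ v).base (closedPoint _) = φ₀.base (closedPoint _) := by rw [hv]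
        erw [Scheme.Hom.comp_apply, Scheme.fromSpecStalk_closedPoint] at h1
        rw [h1]
        show (Y.fromSpecStalk (genericPoint Y)).base ((Spec.map ψ).base (closedPoint _)) = _
        haveI : Subsingleton (Spec Y.functionField) := inferInstanceAs (Subsingleton (PrimeSpectrum Y.functionField))
        rw [Subsingleton.elim ((Spec.map ψ).base (closedPoint _)) (closedPoint Y.functionField)]
        exact Scheme.fromSpecStalk_closedPoint
      refine ⟨hpt, congrArg CommRingCat.Hom.hom (Spec.map_injective ((cancel_mono (Y.fromSpecStalk (genericPoint Y))).1 ?_))⟩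
      exact (Groth.Agent.Proj16.specMap_toFunctionField v (specializes_of_eq hpt)).trans hv
  refine ⟨u, ⟨?_, (hgen u).2 hu0⟩, fun v hv => ?_⟩
  · show (X.topIso.inv ≫ H) ≫ sY = sX
    rw [Category.assoc, hH, ← Scheme.topIso_hom, Iso.inv_hom_id_assoc]
  · haveI := isDominant_fromSpecStalk (X := X)
    exact ext_of_isDominant (X.fromSpecStalk (genericPoint X)) (((hgen v).1 hv.2).trans hu0.symm)

end Groth.Agent.S4445
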