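import Groth.Statements.S4451
import Groth.Agent.Proj16.Centre
import Mathlib.RingTheory.DiscreteValuationRing.TFAE
-- import your own Groth.Agent.* helpers here

set_option autoImplicit false
universe u
open CategoryTheory CategoryTheory.Limits AlgebraicGeometry
attribute [local instance] Curv2.stalkAlgebra
open EGA2

namespace Groth.Agent.S4451

/-- Let X be a normal, complete, irreducible algebraic curve over a field k with field of rational
functions K. The set of local rings of X, as subrings of K, consists of K itself (at the generic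
point) and of the valuation rings of K containing k (and distinct from K): every non-generic point
has such a valuation ring as local ring, and every such valuation ring is the local ring of exactly
one point. -/
theorem result (k : Type u) [Field k] (X : Scheme.{u})
    [X.Over (Spec (CommRingCat.of k))] [IsProper (X ↘ (Spec (CommRingCat.of k)))] [IsIntegral X]
    (hX : ∀ x : X, IsClosed ({x} : Set X) → ringKrullDim (X.presheaf.stalk x) = 1) (hnorm : Pi1.IsNormalScheme X) :
    (∀ x : X, x ≠ genericPoint X → ∃ R : ValuationSubring X.functionField, R ≠ ⊤ ∧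
        (R : Set X.functionField) = Set.range (algebraMap (X.presheaf.stalk x) X.functionField)) ∧
      ∀ R : ValuationSubring X.functionField, R ≠ ⊤ → (∀ c : k, algebraMap k X.functionField c ∈ R) →
        ∃! x : X, (R : Set X.functionField) = Set.range (algebraMap (X.presheaf.stalk x) X.functionField) := by
  open IsLocalRing in
  classical
  haveI : IsLocallyNoetherian X := LocallyOfFiniteType.isLocallyNoetherian (X ↘ Spec (CommRingCat.of k))
  haveI : CompactSpace X := QuasiCompact.compactSpace_of_compactSpace (X ↘ Spec (CommRingCat.of k))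
  haveI : X.IsSeparated := ⟨(Limits.terminal.comp_from (X ↘ Spec (CommRingCat.of k))) ▸ inferInstance⟩
  have hclosed : ∀ x : X, x ≠ genericPoint X → IsClosed ({x} : Set X) := by
    intro x hx
    obtain ⟨z, hzx, hz⟩ := (isClosed_closure (s := ({x} : Set X))).exists_closed_singleton ⟨x, subset_closure rfl⟩
    have hsp : x ⤳ z := specializes_iff_mem_closure.2 hzx
    obtain ⟨q, hq⟩ := (X.range_fromSpecStalk (x := z)).ge hsp
    haveI : IsDomain (X.presheaf.stalk z) := (hnorm z).1
    haveI : (⊥ : Ideal (X.presheaf.stalk z)).IsPrime := Ideal.bot_prime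
    have h1 : Ring.KrullDimLE 1 (X.presheaf.stalk z) := Ring.krullDimLE_iff.2 (hX z hz).le
    by_cases hq0 : q.asIdeal = ⊥
    · refine absurd ?_ hx
      obtain ⟨q', hq'⟩ := (X.range_fromSpecStalk (x := z)).ge ((genericPoint_spec X).specializes (Set.mem_univ z))
      have h2 : x ⤳ genericPoint X := by
        rw [← hq, ← hq']
        exact (((PrimeSpectrum.le_iff_specializes q q').1 (show q.asIdeal ≤ q'.asIdeal from hq0.le.trans bot_le)).map (X.fromSpecStalk z).continuous)
      exact (h2.antisymm ((genericPoint_spec X).specializes (Set.mem_univ x))).eq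
    · have hm := Ring.krullDimLE_one_iff_of_isPrime_bot.1 h1 q.asIdeal hq0 q.2
      have : q = closedPoint (X.presheaf.stalk z) := PrimeSpectrum.ext (IsLocalRing.eq_maximalIdeal hm)
      rw [this, Scheme.fromSpecStalk_closedPoint] at hq
      exact hq ▸ hz
  have hdvr : ∀ x : X, x ≠ genericPoint X → ∃ _ : IsDomain (X.presheaf.stalk x),
      IsDiscreteValuationRing (X.presheaf.stalk x) := by
    intro x hx
    haveI : IsDomain (X.presheaf.stalk x) := (hnorm x).1
    haveI : (⊥ : Ideal (X.presheaf.stalk x)).IsPrime := Ideal.bot_prime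
    have hd := hX x (hclosed x hx)
    have hnf : ¬ IsField (X.presheaf.stalk x) := fun hf => by
      rw [ringKrullDim_eq_zero_of_isField hf] at hd
      exact zero_ne_one hd
    refine ⟨inferInstance, ((IsDiscreteValuationRing.TFAE _ hnf).out 0 3 rfl rfl).mpr
      ⟨(hnorm x).2, maximalIdeal _, ⟨fun h => hnf (IsLocalRing.isField_iff_maximalIdeal_eq.2 h), inferInstance⟩, ?_⟩⟩
    rintro P ⟨hP0, hP⟩
    exact IsLocalRing.eq_maximalIdeal (Ring.krullDimLE_one_iff_of_isPrime_bot.1 (Ring.krullDimLE_iff.2 hd.le) P hP0 hP)
  constructor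
  · intro x hx
    obtain ⟨_, _⟩ := hdvr x hx
    let R : ValuationSubring X.functionField :=
      { (algebraMap (X.presheaf.stalk x) X.functionField).range with
        mem_or_inv_mem' := fun z => by
          rcases ValuationRing.isInteger_or_isInteger (X.presheaf.stalk x) z with ⟨a, ha⟩ | ⟨a, ha⟩
          · exact Or.inl ⟨a, ha⟩
          · exact Or.inr ⟨a, ha⟩ }
    refine ⟨R, fun h => ?_, rfl⟩
    obtain ⟨ϖ, hϖ⟩ := IsDiscreteValuationRing.exists_irreducible (X.presheaf.stalk x)
    have hmem : (algebraMap (X.presheaf.stalk x) X.functionField ϖ)⁻¹ ∈ R := h ▸ ValuationSubring.mem_top _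
    obtain ⟨b, hb⟩ := hmem
    have hinj := IsFractionRing.injective (X.presheaf.stalk x) X.functionField
    have hne : algebraMap (X.presheaf.stalk x) X.functionField ϖ ≠ 0 :=
      fun h0 => hϖ.ne_zero (hinj (h0.trans (map_zero _).symm))
    exact hϖ.not_isUnit (IsUnit.of_mul_eq_one b (hinj (by rw [map_mul, hb, mul_inv_cancel₀ hne, map_one])))
  · intro R hR hkR
    let f := X ↘ Spec (CommRingCat.of k)
    let y := f.base (genericPoint X)
    let c₀ : k → (Spec (CommRingCat.of k)).presheaf.stalk y := fun c =>
      (Spec (CommRingCat.of k)).presheaf.germ ⊤ y trivial ((Scheme.ΓSpecIso (CommRingCat.of k)).inv c)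
    have hc₀ : Function.Surjective c₀ := fun a => by
      obtain ⟨V, hV, b, rfl⟩ := (Spec (CommRingCat.of k)).presheaf.exists_germ_eq a
      obtain rfl : V = ⊤ := top_le_iff.1 fun p _ => by
        haveI : Subsingleton (Spec (CommRingCat.of k)) := inferInstanceAs (Subsingleton (PrimeSpectrum k))
        exact Subsingleton.elim y p ▸ hV
      exact ⟨(Scheme.ΓSpecIso (CommRingCat.of k)).hom b, by simp only [c₀, Iso.hom_inv_id_apply]⟩
    have hy : f.base (genericPoint X) ⤳ y := specializes_rfl
    have himg : ∀ c : k, ((Spec (CommRingCat.of k)).presheaf.stalkSpecializes hy ≫ f.stalkMap (genericPoint X)).hom (c₀ c) =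
        algebraMap k X.functionField c := fun c => by
      rw [TopCat.Presheaf.stalkSpecializes_refl, Category.id_comp]
      exact Scheme.Hom.germ_stalkMap_apply f ⊤ (genericPoint X) trivial _
    obtain ⟨x, hx1, hx2⟩ := Groth.Agent.Proj16.hasCentres_of_universallyClosed f R y hy
      ⟨fun a => by obtain ⟨c, rfl⟩ := hc₀ a; exact himg c ▸ hkR c, fun a ha => by
        obtain ⟨c, rfl⟩ := hc₀ a
        rcases eq_or_ne c 0 with rfl | hc
        · rw [show c₀ 0 = 0 by simp [c₀], map_zero, map_zero]
          exact zero_lt_one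
        · exact absurd ((((isUnit_iff_ne_zero.2 hc).map (Scheme.ΓSpecIso (CommRingCat.of k)).inv.hom).map
            ((Spec (CommRingCat.of k)).presheaf.germ ⊤ y trivial).hom)) ha⟩
    have hxξ : x ≠ genericPoint X := by
      rintro rfl
      refine hR ?_
      ext z
      exact ⟨fun _ => ValuationSubring.mem_top z, fun _ => by
        have e : (X.presheaf.stalkSpecializes ((genericPoint_spec X).specializes (Set.mem_univ (genericPoint X)))).hom z = z :=
          congrArg (fun φ => φ.hom z) (TopCat.Presheaf.stalkSpecializes_refl X.presheaf (genericPoint X))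
        exact Eq.mp (congrArg (· ∈ R) e) (hx1 z)⟩
    obtain ⟨_, _⟩ := hdvr x hxξ
    have hRx : (R : Set X.functionField) = Set.range (algebraMap (X.presheaf.stalk x) X.functionField) := by
      refine Set.Subset.antisymm (fun z hz => ?_) (by rintro _ ⟨a, rfl⟩; exact hx1 a)
      rcases ValuationRing.isInteger_or_isInteger (X.presheaf.stalk x) z with ⟨a, ha⟩ | ⟨a, ha⟩
      · exact ⟨a, ha⟩
      · by_cases hu : IsUnit a
        · obtain ⟨v, rfl⟩ := hu
          exact ⟨v⁻¹.val, by rw [map_units_inv, ha, inv_inv]⟩
        · rcases eq_or_ne z 0 with rfl | hz0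
          · exact ⟨0, map_zero _⟩
          have h1 := hx2 a hu
          rw [ha, map_inv₀] at h1
          have h2 : R.valuation z ≤ 1 := (R.valuation_le_one_iff z).2 hz
          exact absurd h1 (not_lt.2 ((one_le_inv₀ (zero_lt_iff.2 (fun h => hz0 ((map_eq_zero R.valuation).1 h)))).2 h2))
    refine ⟨x, hRx, fun x' hx' => ?_⟩
    have hcen : ∀ x : X, (R : Set X.functionField) = Set.range (algebraMap (X.presheaf.stalk x) X.functionField) →
        (∀ a, algebraMap (X.presheaf.stalk x) X.functionField a ∈ R) ∧
        ∀ a ∈ maximalIdeal (X.presheaf.stalk x), algebraMap (X.presheaf.stalk x) X.functionField a ∈ R.nonunits := by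
      intro x h
      refine ⟨fun a => h.ge ⟨a, rfl⟩, fun a ha => ?_⟩
      rw [ValuationSubring.mem_nonunits_iff_exists_mem_maximalIdeal]
      refine ⟨h.ge ⟨a, rfl⟩, fun hu => ha ?_⟩
      obtain ⟨v, hv⟩ := hu.exists_right_inv
      obtain ⟨b, hb⟩ := h.le v.2
      refine IsUnit.of_mul_eq_one b (IsFractionRing.injective (X.presheaf.stalk x) X.functionField ?_)
      rw [map_mul, map_one, hb]
      exact congrArg Subtype.val hv
    exact Groth.Agent.Proj16.eq_of_dominated R (CommRingCat.ofHom (algebraMap (X.presheaf.stalk x') X.functionField))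
      (CommRingCat.ofHom (algebraMap (X.presheaf.stalk x) X.functionField))
      ((Groth.Agent.Proj16.specMap_algebraMap_stalk x').trans (Groth.Agent.Proj16.specMap_algebraMap_stalk x).symm)
      (hcen x' hx').1 (hcen x hRx).1 (hcen x' hx').2 (hcen x hRx).2

end Groth.Agent.S4451
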