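import Groth.Statements.S4453
import Groth.Agent.RelQuot.Projective
import Groth.Agent.RelTwistX.Projective
import Groth.Agent.NormX.FreeAmple

set_option autoImplicit false
universe u
open CategoryTheory CategoryTheory.Limits AlgebraicGeometry
open EGA2

namespace Groth.Agent.S4453

/-- Let Y be a quasi-compact separated scheme or a scheme whose underlying space is Noetherian, f : X ⟶
Y a morphism of finite type and g : X' ⟶ X a finite surjective morphism such that the direct image
of O_{X'} is a finite locally free O_X-module. Then f is projective if and only if f ∘ g is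
projective. (The companion assertion, on quasi-projectivity, is the
existence-of-a-relatively-ample-module equivalence stated separately.) -/
theorem result {X X' Y : Scheme.{u}} (f : X ⟶ Y) [LocallyOfFiniteType f]
    [QuasiCompact f] (g : X' ⟶ X) [IsFinite g] [Surjective g]
    (hfree : FlatMod.IsFinLocFree ((Coh.push g).obj (Coh.structureModule X')))
    (hY : (CompactSpace Y ∧ Y.IsSeparated) ∨ TopologicalSpace.NoetherianSpace Y) :
    RelProj.IsProjective f ↔ RelProj.IsProjective (g ≫ f) := by
  haveI : CompactSpace Y := by
    rcases hY with ⟨h, -⟩ | h
    · exact h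
    · infer_instance
  haveI : QuasiSeparatedSpace Y := by
    rcases hY with ⟨-, h⟩ | h <;> infer_instance
  constructor
  · intro h
    haveI : IsProper f := ProjLoc.isProper_of_isProjective h
    obtain ⟨-, -, L, hL⟩ := RelTwistX.isQuasiProjective_of_isProjective h
    exact RelQuot.isProjective_of_isQuasiProjective ⟨inferInstance, inferInstance, _,
      AmpleX.isRelAmple_pullback_quasiAffine f g (NormX.mor2_isQuasiAffine_of_isFinite g) hL⟩
  · intro h
    haveI : IsProper (g ≫ f) := ProjLoc.isProper_of_isProjective h
    obtain ⟨-, -, L', hL'⟩ := RelTwistX.isQuasiProjective_of_isProjective h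
    obtain ⟨L, -, hL⟩ := (NormX.exists_relAmple_iff_of_free f g hfree).2
      ⟨L', AmpleX.isInvertible_of_isRelAmple hL', hL'⟩
    haveI : IsSeparated f := AmpleX.isSeparated_of_ampleOn fun x => AmpleX.ampleOn_of_isRelAmple hL (f x)
    haveI : UniversallyClosed f := UniversallyClosed.of_comp_surjective g f
    haveI : IsProper f := { }
    exact RelQuot.isProjective_of_isQuasiProjective ⟨inferInstance, inferInstance, L, hL⟩

end Groth.Agent.S4453
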