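import Groth.Statements.S4465
import Groth.Agent.S0055
import Groth.Agent.S0796
import Groth.Agent.QCoh.RpushClosed
import Groth.Agent.KFlatLib.Scheme.ProjModule
import Groth.Agent.Lib.CurveTensor
import Groth.Agent.QCoh.OpenSub
import Groth.Agent.AmpleX.Comp
-- import your own Groth.Agent.* helpers here

set_option autoImplicit false
universe u
open Coherent

namespace Groth.Agent.S4465

open AlgebraicGeometry CategoryTheory CategoryTheory.Limits in
/-- Let Y be a Noetherian scheme, f : X → Y a morphism of finite type, L an invertible O_X-module ample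
relative to f and F → G → H a sequence of coherent O_X-modules which is exact at G, such that the
supports of F and of H are proper over Y. Then there is N such that for every n ≥ N the induced
sequence f_*(F(n)) → f_*(G(n)) → f_*(H(n)) of O_Y-modules is exact, where M(n) = M ⊗ L^{⊗ n}. -/
theorem result {X Y : Scheme.{u}} (f : X ⟶ Y)
    [IsNoetherian Y] [LocallyOfFiniteType f] [QuasiCompact f] (L : X.Modules) (hL : PicF.IsInvertible L)
    (hamp : RelAmple.IsRelAmple f L) (C : ShortComplex X.Modules) (hC : C.Exact)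
    (h1 : Coh.IsCoh C.X₁) (h2 : Coh.IsCoh C.X₂) (h3 : Coh.IsCoh C.X₃)
    (hs1 : ClSub.IsProperOver f (CohB1.support C.X₁)) (hs3 : ClSub.IsProperOver f (CohB1.support C.X₃)) :
    ∃ N : ℕ, ∀ n : ℕ, N ≤ n →
      (C.map (DCoh.tensorRightMod (CohB1.tensorPow L n) ⋙ Coh.push f)).Exact := by
  open Groth.Agent Groth.Agent.H23.PicMul CategoryTheory.Limits in
  classical
  haveI : IsLocallyNoetherian X := LocallyOfFiniteType.isLocallyNoetherian f
  haveI : QuasiSeparated f := inferInstance
  let I := kernel C.g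
  let p : C.X₁ ⟶ I := kernel.lift C.g C.f C.zero
  haveI : Epi p := (ShortComplex.exact_iff_epi_kernel_lift C).1 hC
  have hI : Coh.IsCoh I := QCoh.isCoh_kernel h2 h3 C.g
  let K := kernel p
  have hK : Coh.IsCoh K := QCoh.isCoh_kernel h1 hI p
  let S1 := ShortComplex.mk (kernel.ι p) p (kernel.condition p)
  have hS1 : S1.ShortExact := ShortComplex.ShortExact.mk' (ShortComplex.exact_of_f_is_kernel _ (kernelIsKernel p)) inferInstance inferInstance
  have hKs := ((Groth.Agent.S0796.result f S1 hS1 hK h1 hI).1 hs1).1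
  obtain ⟨Z, i, G, hi, hr, hGq, hGft, ⟨e⟩⟩ := QCoh.exists_closed_model hK.1 hK.2
  haveI := hi
  rw [← hr] at hKs
  haveI : IsProper (i ≫ f) := (QCoh.isProperOver_iff i).1 hKs
  have hLi : RelAmple.IsRelAmple (i ≫ f) ((Scheme.Modules.pullback i).obj L) :=
    AmpleX.isRelAmple_pullback_embedding f i i.isClosedEmbedding.isEmbedding hamp
  obtain ⟨N, hN⟩ := Groth.Agent.S0055.result (i ≫ f) _ (PicClLib.isInvertible_pullback i hL)
    (fun W hW => hLi.2 ⟨W, hW⟩) G ⟨hGq, hGft⟩
  refine ⟨N, fun n hn => ?_⟩
  let P := CohB1.tensorPow L n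
  have hP : PicF.IsInvertible P := InvX.isInvertible_tensorPow hL n
  have hPq : Coh.IsQCoh P := ProjUPX.isQCoh_of_isInvertible hP
  let eF : DCoh.tensorBi.obj P ≅ DCoh.tensorRightMod P := ((KFlatLib.tensorBiFlipIso X).app P).symm
  let F := DCoh.tensorRightMod P
  have hlf : FlatMod.IsFinLocFree P := H23.PullPush.isFinLocFree_of_isInvertible hP
  have hFse : ∀ T : ShortComplex X.Modules, T.ShortExact → (T.map F).ShortExact := fun T hT =>
    ShortComplex.shortExact_of_iso (T.mapNatIso eF) (CurveTensor.shortExact_tensor hlf T.f T.g T.zero hT)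
  haveI : F.PreservesHomology := ((Functor.exact_tfae F).out 0 2 rfl rfl).1 hFse
  have hvan : IsZero ((Coh.RpushAb f 1).obj (Coh.toAb (F.obj K))) := by
    haveI := KFlatLib.isIso_projMod_of_isClosedImmersion i G P
    let e1 : F.obj K ≅ (Scheme.Modules.pushforward i).obj (CohB1.tensorMod G ((Scheme.Modules.pullback i).obj P)) :=
      F.mapIso e.symm ≪≫ @asIso _ _ _ _ (KFlatLib.projMod i G P) (KFlatLib.isIso_projMod_of_isClosedImmersion i G P)
    have hq' : Coh.IsQCoh (CohB1.tensorMod G ((Scheme.Modules.pullback i).obj P)) :=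
      KFlatLib.isQCoh_tensor hGq (QCoh.isQCoh_pullback i hPq)
    obtain ⟨e2⟩ := QCoh.nonempty_RpushAb_affine_push i f hq' 1
    obtain ⟨e3⟩ := cl_eq_iff.1 (show PicF.cl (CohB1.tensorMod G ((Scheme.Modules.pullback i).obj P)) =
        PicF.cl (CohB1.tensorMod G (CohB1.tensorPow ((Scheme.Modules.pullback i).obj L) n)) by
      rw [cl_tensor, cl_tensor, cl_tensorPow]
      congr 1
      show PicF.pullCl i (PicF.cl P) = PicF.pullCl i (PicF.cl L) ^ n
      rw [cl_tensorPow, pullCl_pow])
    exact IsZero.of_iso (hN n hn 1 one_pos) ((Coh.RpushAb f 1).mapIso ((SheafOfModules.toSheaf _).mapIso e1) ≪≫ e2 ≪≫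
      (Coh.RpushAb (i ≫ f) 1).mapIso ((SheafOfModules.toSheaf _).mapIso e3))
  have hT := hFse S1 hS1
  haveI : Epi ((Coh.push f).map (F.map p)) := by
    have hT' := QCoh.Ab.push_shortExact_of_isZero (j := f.base)
      (hT.map_of_exact (KFlatLib.toAb X)) hvan
    haveI : Epi ((SheafOfModules.toSheaf Y.ringCatSheaf).map ((Coh.push f).map (F.map p))) := hT'.epi_g
    exact (SheafOfModules.toSheaf Y.ringCatSheaf).epi_of_epi_map ‹_›
  haveI : PreservesFiniteLimits (Coh.push f) := by
    haveI := (Scheme.Modules.pullbackPushforwardAdjunction f).rightAdjoint_preservesLimits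
    exact (inferInstance : PreservesFiniteLimits (Scheme.Modules.pushforward f))
  haveI : PreservesFiniteLimits F := Functor.preservesFiniteLimits_of_preservesHomology F
  let H := F ⋙ Coh.push f
  haveI : PreservesFiniteLimits H := comp_preservesFiniteLimits F (Coh.push f)
  have hlim : IsLimit (KernelFork.ofι (H.map (kernel.ι C.g)) (f := H.map C.g) (by rw [← H.map_comp, kernel.condition, H.map_zero])) :=
    KernelFork.mapIsLimit _ (kernelIsKernel C.g) H
  haveI : Epi (H.map p) := ‹Epi ((Coh.push f).map (F.map p))›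
  refine (ShortComplex.exact_iff_epi_kernel_lift _).2 ?_
  let φ := hlim.conePointUniqueUpToIso (kernelIsKernel (H.map C.g))
  have key : kernel.lift (H.map C.g) (H.map C.f) (by rw [← H.map_comp, C.zero, H.map_zero]) = H.map p ≫ φ.hom := by
    refine equalizer.hom_ext ?_
    rw [kernel.lift_ι, Category.assoc]
    have h5 : φ.hom ≫ kernel.ι (H.map C.g) = H.map (kernel.ι C.g) :=
      IsLimit.conePointUniqueUpToIso_hom_comp hlim (kernelIsKernel (H.map C.g)) WalkingParallelPair.zero
    exact (congrArg H.map (kernel.lift_ι C.g C.f C.zero).symm).trans ((H.map_comp _ _).trans (congrArg (H.map p ≫ ·) h5.symm))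
  show Epi (kernel.lift (H.map C.g) (H.map C.f) _)
  rw [key]
  exact epi_comp _ _

end Groth.Agent.S4465
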