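import Groth.Statements.S4472
import Groth.Agent.SteinBound.Main
import Groth.Agent.BlowUpLib.Glue
import Groth.Agent.S2348
import Groth.Agent.FormCat.UnibranchCpl
-- import your own Groth.Agent.* helpers here

set_option autoImplicit false
set_option linter.style.haveILetI false
set_option linter.unusedVariables false
set_option backward.isDefEq.respectTransparency false
set_option backward.isDefEq.respectTransparency.types false
universe u
open Coherent

namespace Groth.Agent.S4472

open AlgebraicGeometry CategoryTheory in
theorem ofIdealTop_bot {X : Scheme.{u}} [IsAffine X] :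
    Scheme.IdealSheafData.ofIdealTop (⊥ : Ideal Γ(X, ⊤)) = ⊥ :=
  Scheme.IdealSheafData.ext_of_isAffine (by simp)

open AlgebraicGeometry CategoryTheory in
theorem isIso_residue_generic (X : Scheme.{u}) [IsIntegral X] : IsIso (X.residue (genericPoint X)) := by
  refine (ConcreteCategory.isIso_iff_bijective _).2 ⟨?_, X.residue_surjective _⟩
  letI : Field (X.presheaf.stalk (genericPoint X)) := inferInstanceAs (Field X.functionField)
  exact (X.residue (genericPoint X)).hom.injective

theorem isUnibranch_of_ringEquiv {A B : Type u} [CommRing A] [CommRing B] [IsLocalRing A] [IsLocalRing B]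
    [IsDomain A] (e : A ≃+* B) (h : CAlg2.IsUnibranch A) : CAlg2.IsUnibranch B := by
  haveI : IsDomain B := e.symm.toMulEquiv.isDomain
  letI : Algebra A (FractionRing B) := ((algebraMap B (FractionRing B)).comp e.toRingHom).toAlgebra
  haveI : IsFractionRing A (FractionRing B) := IsLocalization.of_ringEquiv_left e (M₁ := nonZeroDivisors B) (by
    ext x
    simp only [Submonoid.mem_map, mem_nonZeroDivisors_iff_ne_zero]
    exact ⟨fun ⟨a, ha, hax⟩ => hax ▸ (map_ne_zero_iff _ e.injective).2 ha,
      fun hx => ⟨e.symm x, (map_ne_zero_iff _ e.symm.injective).2 hx, e.apply_symm_apply x⟩⟩) fun _ => rfl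
  haveI := Groth.Agent.SteinBound.isLocalRing_integralClosure (F := FractionRing B) h
  let E : integralClosure A (FractionRing B) ≃+* integralClosure B (FractionRing B) :=
    { toFun := fun z => ⟨z.1, by
        obtain ⟨P, hP, h0⟩ := z.2
        exact ⟨P.map e.toRingHom, hP.map _, by rw [Polynomial.eval₂_map]; exact h0⟩⟩
      invFun := fun z => ⟨z.1, by
        obtain ⟨P, hP, h0⟩ := z.2
        refine ⟨P.map e.symm.toRingHom, hP.map _, ?_⟩
        rw [Polynomial.eval₂_map]
        convert h0 using 2
        ext b
        exact congrArg (algebraMap B (FractionRing B)) (e.apply_symm_apply b)⟩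
      left_inv := fun _ => rfl
      right_inv := fun _ => rfl
      map_mul' := fun _ _ => rfl
      map_add' := fun _ _ => rfl }
  exact (Groth.Agent.FormCat.isUnibranch_iff B).2 ⟨inferInstance, E.isLocalRing⟩

open AlgebraicGeometry CategoryTheory in
/-- Let A be a unibranch Noetherian local domain (a local domain whose integral closure is a local ring)
with maximal ideal m, let 𝔞 be an ideal of definition of A (𝔞 ⊆ m and m^p ⊆ 𝔞 for some p), and let b
: X → Spec A be a blowing up of Spec A in the ideal sheaf defined by 𝔞. Then the fibre of b over the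
closed point is preconnected. Its underlying space is that of Proj of the associated graded ring ⊕
𝔞^i/𝔞^(i+1), so this says that Proj is connected (possibly empty). -/
theorem result (A : Type u) [CommRing A] [IsDomain A]
    [IsNoetherianRing A] [IsLocalRing A] (hA : CAlg2.IsUnibranch A) (𝔞 : Ideal A)
    (hle : 𝔞 ≤ IsLocalRing.maximalIdeal A)
    (hpow : ∃ p : ℕ, IsLocalRing.maximalIdeal A ^ p ≤ 𝔞) {X : Scheme.{u}}
    (b : X ⟶ Spec (CommRingCat.of A))
    (hb : BlowUp.IsBlowUp b
      (Scheme.IdealSheafData.ofIdealTop (𝔞.map (Scheme.ΓSpecIso (CommRingCat.of A)).inv.hom))) :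
    PreconnectedSpace ↥(b.fiber (IsLocalRing.closedPoint A)) := by
  have hfin : BlowUp.IsFiniteTypeIdeal (Scheme.IdealSheafData.ofIdealTop (𝔞.map (Scheme.ΓSpecIso (CommRingCat.of A)).inv.hom)) :=
    fun U => by
      haveI := IsLocallyNoetherian.component_noetherian (X := Spec (CommRingCat.of A)) U
      exact IsNoetherian.noetherian _
  haveI := Groth.Agent.BlowUpLib.isProper_of_isBlowUp _ hb hfin
  by_cases h0 : 𝔞 = ⊥
  · obtain ⟨hE, -⟩ := hb
    subst h0
    haveI : IsEmpty X := by
      rw [Ideal.map_bot] at hE
      refine ⟨fun x => ?_⟩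
      obtain ⟨W, hxW, g, hg, hW⟩ := hE x
      rw [Groth.Agent.S4472.ofIdealTop_bot, (Scheme.IdealSheafData.map_gc b).l_bot,
        Scheme.IdealSheafData.ideal_bot, Pi.bot_apply, eq_comm, Ideal.span_singleton_eq_bot] at hW
      subst hW
      haveI : Subsingleton Γ(X, W.1) := subsingleton_of_zero_eq_one
        ((mem_nonZeroDivisors_iff.1 hg).1 1 (zero_mul _)).symm
      have := congrArg (X.presheaf.germ W.1 x hxW).hom (Subsingleton.elim (0 : Γ(X, W.1)) 1)
      rw [map_zero, map_one] at this
      exact zero_ne_one this
    haveI : IsEmpty ↥(b.fiber (IsLocalRing.closedPoint A)) := ⟨fun z => IsEmpty.false (b.fiberι _ z)⟩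
    exact inferInstance
  obtain ⟨hXi, hgen, hbij⟩ := Groth.Agent.S2348.result _ (by
    intro h
    apply h0
    have h1 : 𝔞.map (Scheme.ΓSpecIso (CommRingCat.of A)).inv.hom = ⊥ :=
      (Scheme.IdealSheafData.equivOfIsAffine (X := Spec (CommRingCat.of A))).symm.injective
        (h.trans Groth.Agent.S4472.ofIdealTop_bot.symm)
    exact (Ideal.map_eq_bot_iff_of_injective
      (Scheme.ΓSpecIso (CommRingCat.of A)).commRingCatIsoToRingEquiv.symm.injective).1 h1) b hb
  haveI := hXi
  have hdom : b.base (genericPoint X) ⤳ genericPoint ↥(Spec (CommRingCat.of A)) := specializes_of_eq hgen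
  refine (Groth.Agent.SteinBound.connectedSpace_fiber b hdom (fun x _ => ?_) (IsLocalRing.closedPoint A) ?_).toPreconnectedSpace
  · obtain ⟨v, hv⟩ := hbij.2 (X.residue (genericPoint X) x)
    obtain ⟨w, rfl⟩ := (Spec (CommRingCat.of A)).residue_surjective _ v
    refine ⟨0, (Spec (CommRingCat.of A)).presheaf.stalkSpecializes (specializes_of_eq hgen.symm) w, ?_⟩
    haveI : IsIso (X.residue (genericPoint X)) := Groth.Agent.S4472.isIso_residue_generic X
    refine (X.residue (genericPoint X)).hom.injective ?_
    rw [pow_zero, pow_one, ← hv]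
    show X.residue _ (b.stalkMap _ ((Spec _).presheaf.stalkSpecializes hdom ((Spec _).presheaf.stalkSpecializes _ w))) = _
    erw [← CommRingCat.comp_apply ((Spec _).presheaf.stalkSpecializes _) ((Spec _).presheaf.stalkSpecializes hdom),
      TopCat.Presheaf.stalkSpecializes_comp, TopCat.Presheaf.stalkSpecializes_refl]
    exact congr($((Scheme.residue_residueFieldMap b (genericPoint X)).symm) w)
  · exact Groth.Agent.S4472.isUnibranch_of_ringEquiv (stalkClosedPointIso (CommRingCat.of A)).commRingCatIsoToRingEquiv.symm hA

end Groth.Agent.S4472
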