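import Groth.Statements.S4475
import Groth.Agent.Koszul15.Basic
import Groth.Agent.KCLib.RingIso
import Groth.Agent.RegImmLib.SmoothReg
import Groth.Agent.EGA41Lib.RegSeqPow
import Mathlib

set_option autoImplicit false
universe u
open Koszul3

namespace Groth.Agent.S4475

open CategoryTheory CategoryTheory.Limits
open CochainComplex (mappingCone)

set_option backward.isDefEq.respectTransparency false

section Top

variable {R : Type u} [CommRing R] (M : ModuleCat.{u} R)

/-- The coordinate of the degree zero term. -/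
noncomputable def coord : ∀ fs : List R, (CohIII.koszulCx M fs).X 0 →ₗ[R] M
  | [] => (HomologicalComplex.singleObjXSelf (ComplexShape.up ℤ) 0 M).toLinearEquiv.toLinearMap
  | f :: fs => coord fs ∘ₗ
      ((CochainComplex.mappingCone.snd (f • 𝟙 (CohIII.koszulCx M fs))).v 0 0 (add_zero 0)).hom

theorem coord_bijective : ∀ fs : List R, Function.Bijective (coord M fs)
  | [] => (HomologicalComplex.singleObjXSelf (ComplexShape.up ℤ) 0 M).toLinearEquiv.bijective
  | f :: fs => by
    let φ := f • 𝟙 (CohIII.koszulCx M fs)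
    show Function.Bijective (coord M fs ∘ fun z : (CohIII.koszulCx M (f :: fs)).X 0 =>
      ((CochainComplex.mappingCone.snd φ).v 0 0 (add_zero 0)) z)
    refine Function.Bijective.comp (coord_bijective fs) ⟨fun z z' h => ?_, fun y => ?_⟩
    · exact Koszul15.cone_ext f fs
        ((ModuleCat.subsingleton_of_isZero (Koszul15.isZero_X M fs (0 + 1) (by omega))).elim _ _) h
    · exact ⟨(CochainComplex.mappingCone.inr φ).f 0 y,
        ConcreteCategory.congr_hom (CochainComplex.mappingCone.inr_f_snd_v φ 0) y⟩

theorem coord_spec : ∀ fs : List R,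
    LinearMap.ker ((Ideal.ofList fs • (⊤ : Submodule R M)).mkQ ∘ₗ coord M fs) =
      LinearMap.range ((CohIII.koszulCx M fs).d (-1) 0).hom := by
  intro fs
  induction fs with
  | nil =>
    have h0 : (CohIII.koszulCx M ([] : List R)).d (-1) 0 = 0 :=
      (Koszul15.isZero_X M [] (-1) (by simp)).eq_of_src _ _
    rw [h0, LinearMap.ker_comp, Submodule.ker_mkQ, Ideal.ofList_nil, Submodule.bot_smul]
    refine le_antisymm (fun x hx => ?_) (by simp)
    rw [show x = 0 from (coord_bijective M []).1 (((Submodule.mem_bot R).1 hx).trans (map_zero _).symm)]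
    exact zero_mem _
  | cons f fs ih =>
    let φ := f • 𝟙 (CohIII.koszulCx M fs)
    let s : (CohIII.koszulCx M (f :: fs)).X 0 →ₗ[R] (CohIII.koszulCx M fs).X 0 :=
      ((CochainComplex.mappingCone.snd φ).v 0 0 (add_zero 0)).hom
    have hd : ∀ w : (CohIII.koszulCx M (f :: fs)).X (-1), s ((CohIII.koszulCx M (f :: fs)).d (-1) 0 w) =
        f • (CochainComplex.mappingCone.fst φ).1.v (-1) 0 (by norm_num) w +
          (CohIII.koszulCx M fs).d (-1) 0 ((CochainComplex.mappingCone.snd φ).v (-1) (-1) (add_zero _) w) :=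
      fun w => ConcreteCategory.congr_hom (CochainComplex.mappingCone.d_snd_v φ (-1) 0 (by norm_num)) w
    have hk : ∀ y, coord M fs y ∈ Ideal.ofList fs • (⊤ : Submodule R M) ↔
        ∃ v, (CohIII.koszulCx M fs).d (-1) 0 v = y := fun y => by
      rw [← Submodule.Quotient.mk_eq_zero]
      exact SetLike.ext_iff.1 ih y
    ext z
    rw [LinearMap.mem_ker, LinearMap.comp_apply, Submodule.mkQ_apply, Submodule.Quotient.mk_eq_zero,
      LinearMap.mem_range, Ideal.ofList_cons, Submodule.sup_smul]
    show coord M fs (s z) ∈ _ ↔ _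
    constructor
    · intro hz
      obtain ⟨a, ha, b, hb, hab⟩ := Submodule.mem_sup.1 hz
      rw [Submodule.ideal_span_singleton_smul] at ha
      obtain ⟨a', -, rfl⟩ := Submodule.mem_map.1 ha
      obtain ⟨y, rfl⟩ := (coord_bijective M fs).2 a'
      obtain ⟨v, hv⟩ := (hk (s z - f • y)).1 (by
        rw [map_sub, map_smul, ← hab]
        simpa using hb)
      refine ⟨(CochainComplex.mappingCone.inl φ).v 0 (-1) (by norm_num) y +
        (CochainComplex.mappingCone.inr φ).f (-1) v, Koszul15.cone_ext f fs ?_ ?_⟩
      · exact (ModuleCat.subsingleton_of_isZero (Koszul15.isZero_X M fs (0 + 1) (by omega))).elim _ _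
      · refine (hd _).trans ?_
        rw [map_add, map_add]
        erw [ConcreteCategory.congr_hom (CochainComplex.mappingCone.inl_v_fst_v φ 0 (-1) (by norm_num)) y,
          ConcreteCategory.congr_hom (CochainComplex.mappingCone.inr_f_fst_v φ (-1) 0 (by norm_num)) v,
          ConcreteCategory.congr_hom (CochainComplex.mappingCone.inl_v_snd_v φ 0 (-1) (by norm_num)) y,
          ConcreteCategory.congr_hom (CochainComplex.mappingCone.inr_f_snd_v φ (-1)) v]
        simp [hv]
        rfl
    · rintro ⟨w, rfl⟩
      rw [hd, map_add, map_smul]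
      refine add_mem (Submodule.mem_sup_left ?_) (Submodule.mem_sup_right ((hk _).2 ⟨_, rfl⟩))
      exact Submodule.smul_mem_smul (Ideal.mem_span_singleton_self f) trivial

theorem coord_trans (n m : ℕ) (h : n ≤ m) : ∀ (fs : List R) (y : (CohIII.koszulCx M (fs.map (· ^ n))).X 0),
    coord M (fs.map (· ^ m)) ((CohIII.koszulTrans M n m h fs).f 0 y) =
      fs.prod ^ (m - n) • coord M (fs.map (· ^ n)) y := by
  intro fs
  induction fs with
  | nil => intro y; simp only [List.prod_nil, one_pow, one_smul]; rfl
  | cons f fs ih =>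
    intro y
    let φn := f ^ n • 𝟙 (CohIII.koszulCx M (fs.map (· ^ n)))
    let φm := f ^ m • 𝟙 (CohIII.koszulCx M (fs.map (· ^ m)))
    have hs : (CohIII.koszulTrans M n m h (f :: fs)).f 0 ≫ (CochainComplex.mappingCone.snd φm).v 0 0 (add_zero 0) =
        (CochainComplex.mappingCone.snd φn).v 0 0 (add_zero 0) ≫ (f ^ (m - n) • CohIII.koszulTrans M n m h fs).f 0 := by
      refine CochainComplex.mappingCone.ext_from φn 1 0 (zero_add 1) ?_ ?_
      · simp [CohIII.koszulTrans, CochainComplex.mappingCone.map, φn, φm]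
      · simp [CohIII.koszulTrans, CochainComplex.mappingCone.map, φn, φm]
    show coord M (fs.map (· ^ m)) (((CochainComplex.mappingCone.snd φm).v 0 0 (add_zero 0))
      ((CohIII.koszulTrans M n m h (f :: fs)).f 0 y)) = _
    refine (congrArg (coord M (fs.map (· ^ m))) (ConcreteCategory.congr_hom hs y)).trans ?_
    show coord M (fs.map (· ^ m)) (f ^ (m - n) • (CohIII.koszulTrans M n m h fs).f 0
      ((CochainComplex.mappingCone.snd φn).v 0 0 (add_zero 0) y)) = _
    rw [map_smul, ih, smul_smul, List.prod_cons, mul_pow]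
    rfl

/-- The top Koszul cohomology of the powers, as a system of quotients of `M`. -/
theorem exists_top_system (fs : List R) (q : ℤ) (hq : q = 0) :
    ∃ P : ∀ n : ℕ, M →ₗ[R] (CohIII.koszulCx M (fs.map (· ^ n))).homology q,
      (∀ n, Function.Surjective (P n)) ∧
      (∀ n a, P n a = 0 ↔ a ∈ Ideal.ofList (fs.map (· ^ n)) • (⊤ : Submodule R M)) ∧
      ∀ n m (h : n ≤ m) a, (HomologicalComplex.homologyMap (CohIII.koszulTrans M n m h fs) q).hom (P n a) =
        P m (fs.prod ^ (m - n) • a) := by
  subst hq
  let K := fun n : ℕ => CohIII.koszulCx M (fs.map (· ^ n))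
  have hd : ∀ n, (K n).d 0 1 = 0 := fun n => (Koszul15.isZero_X M _ 1 (by omega)).eq_of_tgt _ _
  let c : ∀ n, (K n).X 0 ⟶ (K n).homology 0 := fun n =>
    (K n).liftCycles (𝟙 _) 1 (by simp) (by rw [hd, comp_zero]) ≫ (K n).homologyπ 0
  let e : ∀ n, (K n).X 0 ≃ₗ[R] M := fun n => LinearEquiv.ofBijective _ (coord_bijective M (fs.map (· ^ n)))
  have hlift : ∀ n, Function.Bijective ((K n).liftCycles (𝟙 ((K n).X 0)) 1 (by simp) (by rw [hd, comp_zero])).hom := by
    intro n
    have h1 : ∀ y, (K n).iCycles 0 (((K n).liftCycles (𝟙 ((K n).X 0)) 1 (by simp) (by rw [hd, comp_zero])) y) = y :=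
      fun y => ConcreteCategory.congr_hom ((K n).liftCycles_i (𝟙 ((K n).X 0)) 1 (by simp) (by rw [hd, comp_zero])) y
    refine ⟨fun a b hab => ?_, fun z => ⟨(K n).iCycles 0 z, ?_⟩⟩
    · rw [← h1 a, ← h1 b]
      exact congrArg _ hab
    · exact (ModuleCat.mono_iff_injective _).1 (inferInstance : Mono ((K n).iCycles 0)) (h1 _)
  have hπ : ∀ n (z : (K n).cycles 0), (K n).homologyπ 0 z = 0 ↔ ∃ y, (K n).toCycles (-1) 0 y = z := by
    intro n z
    have hex := (ShortComplex.ShortExact.moduleCat_exact_iff_function_exact _).1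
      (ShortComplex.exact_of_g_is_cokernel (ShortComplex.mk _ _ ((K n).toCycles_comp_homologyπ (-1) 0))
        ((K n).homologyIsCokernel (-1) 0 (by simp)))
    exact hex z
  refine ⟨fun n => (c n).hom ∘ₗ (e n).symm.toLinearMap, fun n => ?_, fun n a => ?_, fun n m h a => ?_⟩
  · exact (((ModuleCat.epi_iff_surjective ((K n).homologyπ 0)).1 inferInstance).comp (hlift n).2).comp
      (e n).symm.surjective
  · obtain ⟨y, rfl⟩ := (e n).surjective a
    show (c n) ((e n).symm (e n y)) = 0 ↔ coord M _ y ∈ _
    rw [LinearEquiv.symm_apply_apply, ← Submodule.Quotient.mk_eq_zero]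
    refine Iff.trans ?_ (SetLike.ext_iff.1 (coord_spec M (fs.map (· ^ n))) y).symm
    refine (hπ n _).trans (exists_congr fun w => ?_)
    have h1 := ConcreteCategory.congr_hom ((K n).liftCycles_i (𝟙 ((K n).X 0)) 1 (by simp) (by rw [hd, comp_zero])) y
    have h2 := ConcreteCategory.congr_hom ((K n).toCycles_i (-1) 0) w
    constructor
    · intro hw
      exact h2.symm.trans ((congrArg _ hw).trans h1)
    · intro hw
      exact (ModuleCat.mono_iff_injective _).1 (inferInstance : Mono ((K n).iCycles 0))
        (h2.trans (hw.trans h1.symm))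
  · obtain ⟨y, rfl⟩ := (e n).surjective a
    have hy : (e m).symm (fs.prod ^ (m - n) • e n y) = (CohIII.koszulTrans M n m h fs).f 0 y := by
      apply (e m).injective
      rw [LinearEquiv.apply_symm_apply]
      exact (coord_trans M n m h fs y).symm
    show (HomologicalComplex.homologyMap (CohIII.koszulTrans M n m h fs) 0).hom (c n ((e n).symm (e n y))) =
      c m ((e m).symm (fs.prod ^ (m - n) • e n y))
    rw [LinearEquiv.symm_apply_apply, hy]
    refine ConcreteCategory.congr_hom (?_ : c n ≫ HomologicalComplex.homologyMap (CohIII.koszulTrans M n m h fs) 0 =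
      (CohIII.koszulTrans M n m h fs).f 0 ≫ c m) y
    simp only [c, Category.assoc, HomologicalComplex.homologyπ_naturality]
    rw [← Category.assoc, HomologicalComplex.liftCycles_comp_cyclesMap, ← Category.assoc,
      HomologicalComplex.comp_liftCycles]
    congr 2

end Top

section Mono

variable {A : Type u} [CommRing A] {r : ℕ}

/-- The constant exponent. -/
noncomputable def κc (n : ℕ) : Fin (r + 1) →₀ ℕ := Finsupp.equivFunOnFinite.symm fun _ => n

@[simp] theorem κc_apply (n : ℕ) (i : Fin (r + 1)) : κc (r := r) n i = n := rfl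

theorem prod_X_pow (k : ℕ) :
    ((List.ofFn fun j : Fin (r + 1) => (MvPolynomial.X j : MvPolynomial (Fin (r + 1)) A)).prod) ^ k =
      MvPolynomial.monomial (κc k) 1 := by
  rw [List.prod_ofFn, ← Finset.prod_pow, MvPolynomial.monomial_eq, map_one, one_mul,
    Finsupp.prod_fintype _ _ (fun i => pow_zero _)]
  rfl

theorem mem_powIdeal (n : ℕ) (a : MvPolynomial (Fin (r + 1)) A) :
    a ∈ Ideal.ofList ((List.ofFn fun j : Fin (r + 1) => (MvPolynomial.X j : MvPolynomial (Fin (r + 1)) A)).map (· ^ n)) •
        (⊤ : Submodule (MvPolynomial (Fin (r + 1)) A) (MvPolynomial (Fin (r + 1)) A)) ↔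
      ∀ d ∈ a.support, ∃ i, n ≤ d i := by
  have h : Ideal.ofList ((List.ofFn fun j : Fin (r + 1) => (MvPolynomial.X j : MvPolynomial (Fin (r + 1)) A)).map (· ^ n)) =
      Ideal.span ((fun s => MvPolynomial.monomial s (1 : A)) '' Set.range fun i => Finsupp.single i n) := by
    rw [Ideal.ofList, ← Set.range_comp]
    congr 1
    ext b
    constructor
    · intro hb
      obtain ⟨x, hx, rfl⟩ := List.mem_map.1 hb
      obtain ⟨i, rfl⟩ := List.mem_ofFn.1 hx
      exact ⟨i, MvPolynomial.X_pow_eq_monomial.symm⟩
    · rintro ⟨i, rfl⟩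
      exact List.mem_map.2 ⟨MvPolynomial.X i, List.mem_ofFn.2 ⟨i, rfl⟩, MvPolynomial.X_pow_eq_monomial⟩
  rw [smul_eq_mul, Ideal.mul_top, h, MvPolynomial.mem_ideal_span_monomial_image]
  refine forall_congr' fun d => imp_congr_right fun _ => ?_
  constructor
  · rintro ⟨_, ⟨i, rfl⟩, hi⟩
    exact ⟨i, by simpa using hi i⟩
  · rintro ⟨i, hi⟩
    exact ⟨_, ⟨i, rfl⟩, Finsupp.single_le_iff.2 hi⟩

end Mono


open CategoryTheory CategoryTheory.Limits in
/-- Let A be a ring, S = A[T_0, …, T_r] the polynomial ring and T = (T_0, …, T_r). Then the direct-limit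
Koszul cohomology H^i((T), S), the colimit over n of the Koszul cohomologies H^i(T^n, S), vanishes
for every i ≠ r + 1, and H^(r+1)((T), S) is a free A-module (the source gives an explicit basis
indexed by the monomials with all exponents positive). -/
theorem result (A : Type u) [CommRing A] (r : ℕ) :
    (∀ i : ℕ, i ≠ r + 1 →
      Subsingleton (CohIII.koszulHLim (List.ofFn (fun j : Fin (r + 1) => (MvPolynomial.X j : MvPolynomial (Fin (r + 1)) A)))
        (ModuleCat.of (MvPolynomial (Fin (r + 1)) A) (MvPolynomial (Fin (r + 1)) A)) i)) ∧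
    Module.Free A (RestrictScalars A (MvPolynomial (Fin (r + 1)) A)
      (CohIII.koszulHLim (List.ofFn (fun j : Fin (r + 1) => (MvPolynomial.X j : MvPolynomial (Fin (r + 1)) A)))
        (ModuleCat.of (MvPolynomial (Fin (r + 1)) A) (MvPolynomial (Fin (r + 1)) A)) (r + 1))) := by
  classical
  let S := MvPolynomial (Fin (r + 1)) A
  let fs : List S := List.ofFn (fun j : Fin (r + 1) => (MvPolynomial.X j : S))
  let M : ModuleCat.{u} S := ModuleCat.of S S
  have hlen : fs.length = r + 1 := List.length_ofFn
  refine ⟨fun i hi => ?_, ?_⟩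
  · have hz : ∀ n, IsZero (CohIII.koszulHPow fs M i n) := by
      intro n
      rcases Nat.eq_zero_or_pos n with rfl | hn
      · refine Koszul15.isZero_homology_of_span_eq_top _ ?_ M _
        rw [Ideal.eq_top_iff_one]
        exact Ideal.subset_span (List.mem_map.2 ⟨MvPolynomial.X 0, List.mem_ofFn.2 ⟨0, rfl⟩, pow_zero _⟩)
      · refine Koszul15.isZero_homology_of_isWeaklyRegular _ M ?_ _ (by rw [hlen]; omega)
        have h := RegImmLib.isWeaklyRegular_X_sub (fun _ : Fin (r + 1) => (0 : A))
        simp only [map_zero, sub_zero] at h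
        rw [List.map_ofFn]
        exact EGA41Lib.isWeaklyRegular_pow (r + 1) _ (fun _ => n) (fun _ => hn) h
    show Subsingleton (Module.DirectLimit (fun n : ℕ => (CohIII.koszulHPow fs M i n : Type u)) _)
    refine ⟨fun a b => ?_⟩
    obtain ⟨n, a, rfl⟩ := Module.DirectLimit.exists_of a
    obtain ⟨m, b, rfl⟩ := Module.DirectLimit.exists_of b
    haveI := ModuleCat.subsingleton_of_isZero (hz n)
    haveI := ModuleCat.subsingleton_of_isZero (hz m)
    rw [Subsingleton.elim a 0, Subsingleton.elim b 0, map_zero, map_zero]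
  · let q : ℤ := ((r + 1 : ℕ) : ℤ) - fs.length
    obtain ⟨P, hPs, hP0, hPt⟩ := exists_top_system M fs q (by simp only [q, hlen, sub_self])
    let G : ℕ → Type u := fun n => ((CohIII.koszulCx M (fs.map (· ^ n))).homology q : Type u)
    let t : ∀ n m, n ≤ m → G n →ₗ[S] G m := fun n m h =>
      (HomologicalComplex.homologyMap (CohIII.koszulTrans M n m h fs) q).hom
    haveI : DirectedSystem G fun n m h => t n m h :=
      { map_self := fun n x => by
          show (HomologicalComplex.homologyMap (CohIII.koszulTrans M n n _ fs) q).hom x = x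
          rw [KCLib.koszulTrans_self, HomologicalComplex.homologyMap_id]
          rfl
        map_map := fun l m n h h' x => by
          show (HomologicalComplex.homologyMap (CohIII.koszulTrans M n m h fs) q ≫
            HomologicalComplex.homologyMap (CohIII.koszulTrans M m l h' fs) q).hom x = _
          rw [← HomologicalComplex.homologyMap_comp, KCLib.koszulTrans_comp] }
    show Module.Free A (RestrictScalars A S (Module.DirectLimit G t))
    let L := Module.DirectLimit G t
    let RS := RestrictScalars A S L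
    let ρ : L ≃+ RS := (RestrictScalars.addEquiv A S L).symm
    have hρ : ∀ (c : A) (x : L), c • ρ x = ρ (algebraMap A S c • x) := fun c x => rfl
    let π : ∀ n : ℕ, S → L := fun n a => Module.DirectLimit.of S ℕ G t n (P n a)
    have hπadd : ∀ n a b, π n (a + b) = π n a + π n b := fun n a b => by simp only [π, map_add]
    have hπsum : ∀ n (s : Finset (Fin (r + 1) →₀ ℕ)) (g : (Fin (r + 1) →₀ ℕ) → S),
        π n (∑ d ∈ s, g d) = ∑ d ∈ s, π n (g d) := fun n s g => by simp only [π, map_sum]
    have hπsmul : ∀ n (c : A) (d : Fin (r + 1) →₀ ℕ),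
        c • ρ (π n (MvPolynomial.monomial d 1)) = ρ (π n (MvPolynomial.monomial d c)) := fun n c d => by
      rw [hρ]
      congr 1
      show algebraMap A S c • Module.DirectLimit.of S ℕ G t n (P n (MvPolynomial.monomial d 1)) = _
      rw [← map_smul, ← map_smul, smul_eq_mul, MvPolynomial.algebraMap_eq, MvPolynomial.C_mul_monomial, mul_one]
    have hπt : ∀ n m, n ≤ m → ∀ (d : Fin (r + 1) →₀ ℕ) (c : A),
        π m (MvPolynomial.monomial (κc (m - n) + d) c) = π n (MvPolynomial.monomial d c) := fun n m h d c => by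
      show Module.DirectLimit.of S ℕ G t m (P m _) = Module.DirectLimit.of S ℕ G t n (P n _)
      refine Eq.trans ?_ (Module.DirectLimit.of_f (R := S) (ι := ℕ) (G := G) (f := t) (hij := h) (x := P n (MvPolynomial.monomial d c)))
      congr 1
      refine Eq.trans ?_ (hPt n m h _).symm
      rw [prod_X_pow, smul_eq_mul, MvPolynomial.monomial_mul, one_mul]
    have hπzero : ∀ n a, π n a = 0 → ∃ m, n ≤ m ∧ ∀ d ∈ ((fs.prod ^ (m - n)) * a : S).support, ∃ i, m ≤ d i :=
      fun n a h => by
        obtain ⟨m, hm, h1⟩ := Module.DirectLimit.of.zero_exact h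
        exact ⟨m, hm, (mem_powIdeal m _).1 ((hP0 m _).1 ((hPt n m hm a).symm.trans h1))⟩
    let deg : (Fin (r + 1) →₀ ℕ) → ℕ := fun e => (∑ i, e i) + 1
    let b : (Fin (r + 1) →₀ ℕ) → RS := fun e => ρ (π (deg e) (MvPolynomial.monomial (κc (deg e - 1) - e) 1))
    have hb : ∀ n (e : Fin (r + 1) →₀ ℕ), deg e ≤ n → b e = ρ (π n (MvPolynomial.monomial (κc (n - 1) - e) 1)) := by
      intro n e hn
      show ρ _ = _
      rw [← hπt (deg e) n hn]
      congr 4
      ext i
      simp only [deg] at hn
      have : e i ≤ ∑ j, e j := Finset.single_le_sum (fun j _ => Nat.zero_le _) (Finset.mem_univ i)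
      simp only [Finsupp.add_apply, Finsupp.tsub_apply, κc_apply, deg]
      omega
    have hli : LinearIndependent A b := by
      rw [linearIndependent_iff']
      intro s g hg e he
      let n := s.sup deg
      have hn : ∀ e ∈ s, deg e ≤ n := fun e he => Finset.le_sup he
      have hsum : π n (∑ e ∈ s, MvPolynomial.monomial (κc (n - 1) - e) (g e)) = 0 := by
        apply ρ.injective
        rw [map_zero, hπsum, map_sum, ← hg]
        exact Finset.sum_congr rfl fun e he => by rw [hb n e (hn e he), hπsmul]
      obtain ⟨m, hm, hsupp⟩ := hπzero _ _ hsum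
      have heq : (fs.prod ^ (m - n) * ∑ e ∈ s, MvPolynomial.monomial (κc (n - 1) - e) (g e) : S) =
          ∑ e ∈ s, MvPolynomial.monomial (κc (m - n) + (κc (n - 1) - e)) (g e) := by
        rw [prod_X_pow, Finset.mul_sum]
        exact Finset.sum_congr rfl fun e _ => MvPolynomial.monomial_mul.trans (by rw [one_mul])
      rw [heq] at hsupp
      by_contra hne
      obtain ⟨i, hi⟩ := hsupp (κc (m - n) + (κc (n - 1) - e)) (by
        rw [MvPolynomial.mem_support_iff, MvPolynomial.coeff_sum, Finset.sum_eq_single e]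
        · simpa using hne
        · intro e' he' hne'
          rw [MvPolynomial.coeff_monomial, if_neg]
          intro hEq
          refine hne' (Finsupp.ext fun j => ?_)
          have hj := DFunLike.congr_fun hEq j
          have h1 : e j ≤ ∑ i, e i := Finset.single_le_sum (fun j _ => Nat.zero_le _) (Finset.mem_univ j)
          have h2 : e' j ≤ ∑ i, e' i := Finset.single_le_sum (fun j _ => Nat.zero_le _) (Finset.mem_univ j)
          have h3 := hn e he
          have h4 := hn e' he'
          simp only [Finsupp.add_apply, Finsupp.tsub_apply, κc_apply, deg] at hj h3 h4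
          omega
        · exact fun h => absurd he h)
      have h3 := hn e he
      simp only [Finsupp.add_apply, Finsupp.tsub_apply, κc_apply, deg] at hi h3
      omega
    refine Module.Free.of_basis (Module.Basis.mk hli ?_)
    rintro z -
    obtain ⟨x, rfl⟩ := ρ.surjective z
    obtain ⟨n, x, rfl⟩ := Module.DirectLimit.exists_of x
    obtain ⟨a, rfl⟩ := hPs n x
    show ρ (π n a) ∈ _
    rw [a.as_sum, hπsum, map_sum]
    refine Submodule.sum_mem _ fun d _ => ?_
    by_cases hd : ∃ i, n ≤ d i
    · have h0 : π n (MvPolynomial.monomial d (MvPolynomial.coeff d a)) = 0 := by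
        show Module.DirectLimit.of S ℕ G t n (P n _) = 0
        rw [(hP0 n _).2 ((mem_powIdeal n _).2 fun d' hd' => ?_), map_zero]
        rw [Finset.mem_singleton.1 (MvPolynomial.support_monomial_subset hd')]
        exact hd
      rw [h0, map_zero]
      exact zero_mem _
    · push Not at hd
      let e := κc (n - 1) - d
      let N := max n (deg e)
      have h1 : ρ (π n (MvPolynomial.monomial d (MvPolynomial.coeff d a))) = MvPolynomial.coeff d a • b e := by
        rw [hb N e (le_max_right _ _), hπsmul, ← hπt n N (le_max_left _ _)]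
        congr 4
        ext i
        have h2 := hd i
        have h3 : n ≤ N := le_max_left _ _
        simp only [e, Finsupp.add_apply, Finsupp.tsub_apply, κc_apply]
        omega
      rw [h1]
      exact Submodule.smul_mem _ _ (Submodule.subset_span (Set.mem_range_self e))

end Groth.Agent.S4475
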