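import Groth.Statements.S4482
import Groth.Agent.GrModX.EventualBij
import Groth.Agent.GrModX.HHZero
import Groth.Agent.GrModX.GenDegOne
import Groth.Agent.GrModX.Finite
import Groth.Agent.GrModX.QCohTilde
import Groth.Agent.ProjSerre.Vanish
import Groth.Agent.S4400
-- import your own Groth.Agent.* helpers here

set_option autoImplicit false
universe u
open Coherent

namespace Groth.Agent.S4482

open AlgebraicGeometry CategoryTheory in
/-- Let A be an Artinian local ring, S a graded A-algebra with S_0 the image of A, generated by r+1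
elements of degree one spanning S_1, M a finitely generated graded S-module (graded in nonnegative
degrees) and X = Proj S. Then there is N such that for every n ≥ N the Euler characteristic of the
module M(n)~, namely the alternating sum over 0 ≤ j ≤ r of the lengths of the A-modules H^j(X,
M(n)~), equals the length of the A-module M_n. -/
theorem result {A S : Type u} [CommRing A] [IsArtinianRing A]
    [IsLocalRing A] [CommRing S] [Algebra A S] (𝒜 : ℕ → Submodule A S) [GradedAlgebra 𝒜]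
    (h0 : ∀ s ∈ 𝒜 0, s ∈ Set.range (algebraMap A S)) (r : ℕ) (g : Fin (r + 1) → S)
    (hg1 : ∀ i, g i ∈ 𝒜 1) (hspan : Submodule.span A (Set.range g) = 𝒜 1)
    (hgen : Algebra.adjoin A (Set.range g) = ⊤) {M : Type u} [AddCommGroup M] [Module A M] [Module S M]
    [IsScalarTower A S M] [Module.Finite S M] (ℳ : ℕ → Submodule A M) [DirectSum.Decomposition ℳ]
    [SetLike.GradedSMul 𝒜 ℳ] :
    ∃ N : ℕ, ∀ n : ℕ, N ≤ n →
      ((Finset.range (r + 1)).sum fun j => (-1 : ℤ) ^ j *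
          ((Module.length A (Coh.HH (Proj 𝒜) (GrTilde.tilde 𝒜 ℳ (n : ℤ)) j)).toNat : ℤ)) =
        ((Module.length A ↥(ℳ n)).toNat : ℤ) := by
  classical
  haveI : Algebra.FiniteType A S := ⟨⟨Finset.univ.image g, by rw [Finset.coe_image, Finset.coe_univ, Set.image_univ]; exact hgen⟩⟩
  haveI : IsNoetherianRing S := Algebra.FiniteType.isNoetherianRing A S
  have hk : (Submodule.span S (⋃ i ∈ Set.Ici 0, (ℳ i : Set M))).FG := IsNoetherian.noetherian _
  have hirr := Groth.Agent.GrModX.irrelevant_eq_span_of_adjoin 𝒜 g hg1 hgen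
  have hfg := Groth.Agent.ProjSerre.irrelevant_fg 𝒜
  haveI := Groth.Agent.ProjSerre.isNoetherianRing_zero 𝒜
  haveI := (Groth.Agent.Proj16.irrelevant_fg_iff 𝒜).mp hfg
  haveI : IsLocallyNoetherian (Proj 𝒜) := LocallyOfFiniteType.isLocallyNoetherian (Proj.toSpecZero 𝒜)
  have hcoh : Coh.IsCoh (GrTilde.tilde 𝒜 ℳ 0) :=
    ⟨Groth.Agent.GrModX.isQCoh_tilde 𝒜 ℳ 0, Groth.Agent.GrModX.isFT_tilde 𝒜 ℳ hfg 0 hk⟩
  obtain ⟨d₀, hd₀⟩ := Groth.Agent.ProjSerre.exists_vanishing_twistBy (𝒜 := 𝒜) hcoh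
  obtain ⟨N, hN⟩ := Groth.Agent.GrModX.EventualBij.exists_bijective_alpha 𝒜 ℳ hk
  refine ⟨N + d₀.toNat, fun n hn => ?_⟩
  obtain ⟨e⟩ := Groth.Agent.S4400.result 𝒜 hirr ℳ (n : ℤ)
  obtain ⟨e0⟩ := Groth.Agent.GrModX.HHZero.nonempty_equiv 𝒜 ℳ n (hN n (by omega))
  rw [Finset.sum_range_succ', Finset.sum_eq_zero fun j hj => ?_]
  · rw [zero_add, pow_zero, one_mul]
    exact congrArg (fun x : ℕ∞ => (x.toNat : ℤ)) e0.length_eq
  · haveI := hd₀ (n : ℤ) (by omega) j
    haveI : Subsingleton (Coh.HH (Proj 𝒜) (GrTilde.tilde 𝒜 ℳ (n : ℤ)) (j + 1)) :=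
      (Groth.Agent.QCoh.HHcongr (Coh.toGlobal (Proj 𝒜 ↘ Spec (CommRingCat.of A))) e (j + 1)).toEquiv.subsingleton
    rw [Module.length_eq_zero]
    simp

end Groth.Agent.S4482
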