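import Groth.Statements.S4483
import Groth.Agent.H6KB.Vanish

set_option linter.style.haveILetI false
set_option backward.isDefEq.respectTransparency false
set_option backward.isDefEq.respectTransparency.types false
open CategoryTheory CategoryTheory.Limits AlgebraicGeometry TopologicalSpace Opposite
open Groth.Agent Groth.Agent.H23.PicMul

set_option autoImplicit false
universe u
open Coherent

namespace Groth.Agent.S4483

open AlgebraicGeometry CategoryTheory in
/-- Let Y be a scheme, E a locally free O_Y-module of rank r+1, and (π : P → Y, O(1), q : π^*E → O(1)) a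
projective bundle P(E) of E, characterised by its universal property; let L be an O_P-module with L
⊗ O(1) ≅ O_P, playing the role of O(-1). Then the higher direct images R^i π_* O(n) vanish except
possibly for i = 0, n ≥ 0 and for i = r, n ≤ -(r+1): precisely, R^i π_*(O(1)^{⊗ n}) = 0 for all n ≥
0 and i ≠ 0, and R^i π_*(L^{⊗ m}) = 0 for all m ≥ 1 and all i unless i = r and m ≥ r + 1 (higher
direct images of the underlying abelian sheaves). -/
theorem result {Y P : Scheme.{u}} (π : P ⟶ Y) (r : ℕ)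
    (E : Y.Modules) (hE : FlatMod.IsFinLocFreeOfRank (r + 1) E) (O1 : P.Modules)
    (q : (Scheme.Modules.pullback π).obj E ⟶ O1) (hP : KRR.IsProjBundle π E O1 q)
    (L : P.Modules) (hL : ClSub.IsInverseOf L O1) :
    (∀ (n i : ℕ), i ≠ 0 → Limits.IsZero ((Coh.RpushAb π i).obj (Coh.toAb (CohB1.tensorPow O1 n)))) ∧
    (∀ (m i : ℕ), 1 ≤ m → ¬ (i = r ∧ r + 1 ≤ m) →
      Limits.IsZero ((Coh.RpushAb π i).obj (Coh.toAb (CohB1.tensorPow L m)))) := by
  have hc := H6KB.hasTriv_of_isProjBundle hP hE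
  haveI := H6KB.isProper_of_hasTriv hc
  choose τ hτ using hc
  have hI : PicF.IsInvertible O1 := BertiniSec.isInvertible_of_rank_one hP.invertible
  have hLi : PicF.IsInvertible L := by
    obtain ⟨D, hD, hd⟩ := H23.PicInv.exists_inverse hI
    have h₁ : PicF.cl L * PicF.cl O1 = 1 := cl_eq_iff.2 hL
    have h₂ : PicF.cl O1 * PicF.cl D = 1 := cl_eq_iff.2 hd
    obtain ⟨e⟩ := cl_eq_iff.1 (left_inv_eq_right_inv h₁ h₂).symm
    exact H23.PicMul.isInvertible_of_iso e hD
  have key : ∀ (F : P.Modules), Coh.IsQCoh F → ∀ (d : ℤ),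
      (∀ y, PicF.pullCl (τ y).f (PicF.cl F) = PicF.cl (KRRReg.O (KRRReg.gfst r (τ y).V.toScheme) d)) →
      ∀ i : ℕ, ¬ ((i = 0 ∧ 0 ≤ d) ∨ (i = r ∧ d ≤ -((r : ℤ) + 1))) →
        Limits.IsZero ((Coh.RpushAb π i).obj (Coh.toAb F)) := fun F hF d hd i hi => by
    cases i with
    | succ q =>
      exact CohBasic.isZero_RpushAb_of_HH π hF q (fun y => (τ y).V) (fun y => (τ y).aff) (fun y => ⟨y, hτ y⟩)
        fun y => H6KB.subsingleton_HH_chart (τ y) hF d (hd y) _ hi
    | zero =>
      obtain ⟨e⟩ := QCoh.nonempty_RpushAb_zero_iso π F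
      refine IsZero.of_iso ((QCoh.toAbFunctor Y).map_isZero ?_) e
      refine QCoh.isZero_of_cover (QCoh.isQCoh_pushforward π hF) (fun y => (τ y).V) (fun y => (τ y).aff)
        (fun y => ⟨y, hτ y⟩) fun y => ?_
      let W := π ⁻¹ᵁ (τ y).V
      have h : Subsingleton Γ(F.restrict W.ι, ⊤) := @Equiv.subsingleton _ _
        (Sheaf.H.equiv₀ (Coh.toAb (F.restrict W.ι)) isTerminalTop).toEquiv.symm
        (H6KB.subsingleton_HH_chart (τ y) hF d (hd y) 0 hi)
      have hW : W.ι ''ᵁ (⊤ : W.toScheme.Opens) = W := by simp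
      have h3 : Subsingleton Γ(F, W.ι ''ᵁ ⊤) := h
      show Subsingleton Γ(F, W)
      rwa [hW] at h3
  refine ⟨fun n i hi => key _ (QCoh.isQCoh_of_isFinLocFree (KRRReg.isFinLocFree_tensorPow hI n)) n
      (fun y => H6KB.cl_res_pos (τ y) n) i (by rintro (⟨h, -⟩ | ⟨-, h⟩) <;> omega),
    fun m i hm hi => key _ (QCoh.isQCoh_of_isFinLocFree (KRRReg.isFinLocFree_tensorPow hLi m)) (-(m : ℤ))
      (fun y => H6KB.cl_res_neg (τ y) hL m) i (by rintro (⟨-, h⟩ | ⟨h, h'⟩); · omega
                                                  · exact hi ⟨h, by omega⟩)⟩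

end Groth.Agent.S4483
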