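import Groth.Statements.S4487
import Groth.Agent.FlatCxLib.GenericExact
import Groth.Agent.FlatCxLib.FiniteBC
import Groth.Agent.S4485
import Mathlib.RingTheory.Ideal.MinimalPrime.Noetherian

set_option autoImplicit false
universe u
open FlatCx

namespace Groth.Agent.S4487

open CategoryTheory CategoryTheory.Limits TensorProduct in
lemma dRank_comp {A B : Type u} [CommRing A] [CommRing B] (φ : A →+* B)
    (P : ChainComplex (ModuleCat.{u} A) ℤ) (q : ℤ) (y : PrimeSpectrum B) :
    CohIII.dRank (CohIII.bcCx φ P) q y = CohIII.dRank P q (PrimeSpectrum.comap φ y) :=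
  Groth.Agent.FlatCxLib.finrank_homology_bcCx_comp
    (Ideal.ResidueField.map (PrimeSpectrum.comap φ y).asIdeal y.asIdeal φ rfl) P φ
    (algebraMap B y.asIdeal.ResidueField)
    (algebraMap A (PrimeSpectrum.comap φ y).asIdeal.ResidueField)
    (RingHom.ext fun a => (Ideal.ResidueField.map_algebraMap _ _ φ rfl a).symm) q

open CategoryTheory CategoryTheory.Limits TensorProduct in
lemma finite_aux {A C : Type u} [CommRing A] [CommRing C] (φ : A →+* C)
    (P : ChainComplex (ModuleCat.{u} A) ℤ) (q : ℤ) [Module.Finite A (P.homology q)] (inst : Algebra A C)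
    (hinst : inst = φ.toAlgebra) (hflat : Module.Flat A C) :
    Module.Finite C ((CohIII.bcCx φ P).homology q) := by
  subst hinst
  let := φ.toAlgebra
  have : Module.Finite C ((ModuleCat.extendScalars φ).obj (P.homology q)) :=
    Module.Finite.base_change A C (P.homology q)
  exact Module.Finite.equiv
    (Groth.Agent.FlatCxLib.homologyExtendScalarsIso φ hflat P q).toLinearEquiv.symm

open CategoryTheory CategoryTheory.Limits TensorProduct in
/-- Over a Noetherian domain, `dRank` is constant on a nonempty basic open, uniformly up to `N`. -/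
lemma exists_constant {A : Type u} [CommRing A] [IsNoetherianRing A] [IsDomain A]
    (P : ChainComplex (ModuleCat.{u} A) ℤ) (hP : ∀ i, Module.Flat A (P.X i)) (i₀ : ℤ)
    (hb : ∀ i < i₀, IsZero (P.X i)) (hfin : ∀ n : ℤ, Module.Finite A (P.homology n)) (N : ℤ) :
    ∃ f : A, f ≠ 0 ∧ ∀ p ≤ N, ∀ x : PrimeSpectrum A, f ∉ x.asIdeal →
      CohIII.dRank P p x = CohIII.dRank P p ⊥ := by
  have hfp : ∀ n : ℤ, Module.FinitePresentation A (P.homology n) :=
    fun n => Module.finitePresentation_of_finite A _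
  obtain ⟨f, hf, h⟩ := Groth.Agent.FlatCxLib.exists_away_flat_coker hP i₀ hb hfp N
  refine ⟨f, hf, fun p hp x hx => ?_⟩
  let C := Localization.Away f
  let K := CohIII.bcCx (algebraMap A C) P
  have hK : ∀ i, Module.Flat C (K.X i) := Groth.Agent.FlatCxLib.flat_bcCx_X P hP
  have hm : (CohIII.TFun K p).PreservesMonomorphisms :=
    (Groth.Agent.FlatCxLib.preservesMono_bcCx_iff P hP (q := p) rfl).2 (h p hp)
  have he : (CohIII.TFun K p).PreservesEpimorphisms := by
    refine (Groth.Agent.FlatCxLib.preservesEpi_bcCx_iff P hP (q := p - 1) (by lia)).2 ?_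
    have h' := h (p - 1) (by lia)
    rwa [show p - 1 + 1 = p by lia] at h'
  have : IsNoetherianRing C := IsLocalization.isNoetherianRing (Submonoid.powers f) C inferInstance
  have hC : Module.Finite C (K.homology p) :=
    have := hfin p
    finite_aux (algebraMap A C) P p inferInstance (Algebra.algebra_ext _ _ fun _ => rfl)
      (IsLocalization.flat C (Submonoid.powers f))
  have hfpC : Module.FinitePresentation C (CohIII.T K p (ModuleCat.of C C)) :=
    have := Module.finitePresentation_of_finite C (K.homology p)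
    Module.FinitePresentation.of_equiv (Groth.Agent.FlatCxLib.tUnitIso p).toLinearEquiv.symm
  have hlc := Groth.Agent.S4485.result K hK p ⟨hm, he⟩ hfpC
  have : IsDomain C := IsLocalization.isDomain_localization
    (powers_le_nonZeroDivisors_of_noZeroDivisors hf)
  have hrange : ∀ z : PrimeSpectrum A, f ∉ z.asIdeal →
      ∃ y : PrimeSpectrum C, PrimeSpectrum.comap (algebraMap A C) y = z := fun z hz =>
    (Set.ext_iff.1 (PrimeSpectrum.localization_away_comap_range C f) z).2 hz
  obtain ⟨y, rfl⟩ := hrange x hx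
  obtain ⟨y₀, hy₀⟩ := hrange ⊥ (by simpa using hf)
  rw [← hy₀, ← dRank_comp, ← dRank_comp]
  exact hlc.apply_eq_of_preconnectedSpace y y₀

open CategoryTheory CategoryTheory.Limits in
/-- The case of the homological functor T_p(M) = H_p(P ⊗_A M) of a chain complex P of flat modules over
a commutative ring A. Let A be Noetherian and suppose P_i = 0 for i < i₀ and that every T_n(A) is a
finitely generated A-module. Then for every integer N there is a dense open subset U of Spec A such
that, for every p ≤ N, the function x ↦ dim_{k(x)} H_p(P ⊗_A k(x)) is locally constant on U. (The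
published statement says constant on U; over the product of two fields, with P the projective module
supported on one factor placed in degree 0, the only dense open set is the whole two-point spectrum
and the ranks there are 1 and 0, so locally constant on U is what holds; the argument produces U as
a disjoint union of opens, one dense in each irreducible component, on each of which the functions
are constant.) -/
theorem result {A : Type u} [CommRing A] [IsNoetherianRing A]
    (P : ChainComplex (ModuleCat.{u} A) ℤ) (hP : ∀ i, Module.Flat A (P.X i)) (i₀ : ℤ)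
    (hb : ∀ i < i₀, IsZero (P.X i))
    (hfg : ∀ n : ℤ, Module.Finite A (CohIII.T P n (ModuleCat.of A A))) (N : ℤ) :
    ∃ U : Set (PrimeSpectrum A), IsOpen U ∧ Dense U ∧
      ∀ p ≤ N, IsLocallyConstant (fun x : U => CohIII.dRank P p x) := by
  classical
  have key : ∀ 𝔭 : minimalPrimes A, ∃ V : Set (PrimeSpectrum A), IsOpen V ∧
      (⟨𝔭.1, Ideal.minimalPrimes_isPrime 𝔭.2⟩ : PrimeSpectrum A) ∈ V ∧
      ∀ p ≤ N, ∀ x ∈ V, CohIII.dRank P p x =
        CohIII.dRank P p ⟨𝔭.1, Ideal.minimalPrimes_isPrime 𝔭.2⟩ := by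
    rintro ⟨𝔭, h𝔭⟩
    have := Ideal.minimalPrimes_isPrime h𝔭
    let φ := Ideal.Quotient.mk 𝔭
    have hφ : φ.Finite := RingHom.Finite.of_surjective _ Ideal.Quotient.mk_surjective
    obtain ⟨f, hf, hconst⟩ := exists_constant (CohIII.bcCx φ P)
      (Groth.Agent.FlatCxLib.flat_bcCx_X (B := A ⧸ 𝔭) P hP) i₀
      (fun i hi => (ModuleCat.extendScalars φ).map_isZero (hb i hi))
      (Groth.Agent.FlatCxLib.finite_homology_bcCx φ P hφ hP i₀ hb hfg) N
    obtain ⟨a, rfl⟩ := Ideal.Quotient.mk_surjective f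
    have ha : a ∉ 𝔭 := fun h => hf (Ideal.Quotient.eq_zero_iff_mem.2 h)
    -- points near `𝔭` specialise from `𝔭`
    have hfinite : (minimalPrimes A).Finite := minimalPrimes.finite_of_isNoetherianRing A
    let Z : Set (PrimeSpectrum A) := ⋃ 𝔮 ∈ minimalPrimes A \ {𝔭}, PrimeSpectrum.zeroLocus (𝔮 : Set A)
    have hZ : IsClosed Z :=
      (hfinite.subset Set.sdiff_subset).isClosed_biUnion fun _ _ => PrimeSpectrum.isClosed_zeroLocus _
    refine ⟨(PrimeSpectrum.basicOpen a : Set (PrimeSpectrum A)) ∩ Zᶜ,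
      PrimeSpectrum.isOpen_basicOpen.inter hZ.isOpen_compl, ⟨ha, ?_⟩, ?_⟩
    · simp only [Z, Set.mem_compl_iff, Set.mem_iUnion, not_exists]
      intro 𝔮 h𝔮 hle
      exact h𝔮.2 (le_antisymm hle (h𝔭.2 ⟨Ideal.minimalPrimes_isPrime h𝔮.1, bot_le⟩ hle))
    · rintro p hp x ⟨hxa, hxZ⟩
      obtain ⟨𝔮, h𝔮, hle⟩ := Ideal.exists_minimalPrimes_le (bot_le : (⊥ : Ideal A) ≤ x.asIdeal)
      have h𝔮eq : 𝔮 = 𝔭 := by
        by_contra hne
        exact hxZ (Set.mem_biUnion ⟨h𝔮, hne⟩ hle)
      subst h𝔮eq
      obtain ⟨y, hy⟩ : ∃ y : PrimeSpectrum (A ⧸ 𝔮), PrimeSpectrum.comap φ y = x := by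
        rw [← Set.mem_range, range_comap_of_surjective _ φ Ideal.Quotient.mk_surjective]
        simpa [φ, Ideal.mk_ker] using hle
      have h0 : PrimeSpectrum.comap φ ⊥ = (⟨𝔮, this⟩ : PrimeSpectrum A) :=
        PrimeSpectrum.ext (by
          show Ideal.comap φ ⊥ = 𝔮
          exact Ideal.mk_ker)
      rw [← hy, ← h0, ← dRank_comp, ← dRank_comp]
      exact hconst p hp y fun h => hxa (by rw [← hy]; exact h)
  choose V hVo hVmem hV using key
  refine ⟨⋃ 𝔭, V 𝔭, isOpen_iUnion hVo, ?_, fun p hp => ?_⟩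
  · rw [dense_iff_inter_open]
    rintro W hW ⟨x, hx⟩
    obtain ⟨𝔭, h𝔭, hle⟩ := Ideal.exists_minimalPrimes_le (bot_le : (⊥ : Ideal A) ≤ x.asIdeal)
    have := Ideal.minimalPrimes_isPrime h𝔭
    exact ⟨⟨𝔭, this⟩, ((PrimeSpectrum.le_iff_specializes ⟨𝔭, this⟩ x).1 hle).mem_open hW hx,
      Set.mem_iUnion.2 ⟨⟨𝔭, h𝔭⟩, hVmem ⟨𝔭, h𝔭⟩⟩⟩
  · refine (IsLocallyConstant.iff_exists_open _).2 fun x => ?_
    obtain ⟨𝔭, h𝔭⟩ := Set.mem_iUnion.1 x.2
    exact ⟨Subtype.val ⁻¹' V 𝔭, (hVo 𝔭).preimage continuous_subtype_val, h𝔭,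
      fun y hy => (hV 𝔭 p hp y hy).trans (hV 𝔭 p hp x h𝔭).symm⟩

end Groth.Agent.S4487
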