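import Groth.Statements.S4488
import Groth.Agent.FlatCxLib.HomologyBC
import Groth.Agent.FlatCxLib.Local
import Groth.Agent.FlatCxLib.Reduced
import Groth.Agent.S4485

set_option autoImplicit false
universe u
open FlatCx

namespace Groth.Agent.S4488

open CategoryTheory CategoryTheory.Limits in
/-- For the homological functor T_q(M) = H_q(P ⊗_A M) of a chain complex P of flat modules over a
commutative local ring A with residue field k. Suppose P_i = 0 for i < i₀ and that every T_n(A) is a
finitely presented A-module, and let p be an integer. If T_q takes injections to injections and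
surjections to surjections for every q ≤ p, then dim_{k(x)} T_q(k(x)) = dim_k T_q(k) for every point
x of Spec A and every q ≤ p. Conversely, if A is reduced and this equality holds at the generic
point of every irreducible component of Spec A (every minimal prime) for every q ≤ p, then T_q takes
injections to injections and surjections to surjections for every q ≤ p. No Noetherian hypothesis on
A. -/
theorem result {A : Type u} [CommRing A] [IsLocalRing A]
    (P : ChainComplex (ModuleCat.{u} A) ℤ) (hP : ∀ i, Module.Flat A (P.X i)) (i₀ : ℤ)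
    (hb : ∀ i < i₀, IsZero (P.X i))
    (hfp : ∀ n : ℤ, Module.FinitePresentation A (CohIII.T P n (ModuleCat.of A A))) (p : ℤ) :
    ((∀ q ≤ p, (CohIII.TFun P q).PreservesMonomorphisms ∧ (CohIII.TFun P q).PreservesEpimorphisms) →
        ∀ (x : PrimeSpectrum A), ∀ q ≤ p, CohIII.dRank P q x = CohIII.dRank P q (IsLocalRing.closedPoint A)) ∧
      (IsReduced A →
        (∀ x : PrimeSpectrum A, x.asIdeal ∈ minimalPrimes A →
          ∀ q ≤ p, CohIII.dRank P q x = CohIII.dRank P q (IsLocalRing.closedPoint A)) →
        ∀ q ≤ p, (CohIII.TFun P q).PreservesMonomorphisms ∧ (CohIII.TFun P q).PreservesEpimorphisms) := by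
  refine ⟨fun h x q hq => ?_, fun _ hd => ?_⟩
  · have hlc := Groth.Agent.S4485.result P hP q (h q hq) (hfp q)
    exact (IsLocalRing.specializes_closedPoint x).mem_open (hlc.isOpen_fiber _) (Set.mem_singleton _)
  have hq1 : ∀ q : ℤ, q + 1 = q + 1 := fun _ => rfl
  have hq0 : ∀ q : ℤ, q - 1 + 1 = q := fun q => by lia
  have hflat : ∀ q ≤ p, (CohIII.TFun P q).PreservesEpimorphisms →
      Module.Flat A (CohIII.T P q (ModuleCat.of A A)) := by
    intro q hq he
    have := (Groth.Agent.FlatCxLib.preservesEpi_iff hP (hq0 q)).1 he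
    let e := Groth.Agent.FlatCxLib.hom'EquivT (P := P) (hq1 q) (hq0 q)
    haveI : Module.FinitePresentation A (Groth.Agent.FlatCxLib.Hom' P (q + 1) q (q - 1)) :=
      have := hfp q; Module.FinitePresentation.of_equiv e.symm
    haveI : Module.Free A (Groth.Agent.FlatCxLib.Hom' P (q + 1) q (q - 1)) :=
      Groth.Agent.FlatCxLib.free_of_fibreRank_eq _ fun x hx => by
        rw [← Groth.Agent.FlatCxLib.dRank_eq_fibreRank P hP (hq1 q) (hq0 q) x,
          ← Groth.Agent.FlatCxLib.dRank_eq_fibreRank P hP (hq1 q) (hq0 q)]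
        exact hd x hx q hq
    exact Module.Flat.of_linearEquiv e.symm
  have main : ∀ n : ℕ, i₀ - 1 + n ≤ p + 1 → (CohIII.TFun P (i₀ - 1 + n)).PreservesEpimorphisms := by
    intro n
    induction n with
    | zero =>
      intro _
      refine ⟨fun {M M'} g _ => ?_⟩
      have hz : IsZero ((CohIII.TFun P (i₀ - 1 + (0 : ℕ))).obj M') := by
        refine (HomologicalComplex.exactAt_iff_isZero_homology _ _).1
          (HomologicalComplex.ExactAt.of_isZero ?_)
        exact (MonoidalCategory.tensorRight M').map_isZero (hb _ (by lia))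
      exact ⟨fun a b _ => hz.eq_of_src a b⟩
    | succ n ih =>
      intro hn
      push_cast at hn
      have he := ih (by lia)
      have hex := (Groth.Agent.FlatCxLib.exact_iff hP (hq1 (i₀ - 1 + n)) (hq0 _)).2
        ⟨he, hflat _ (by lia) he⟩
      exact (Groth.Agent.FlatCxLib.preservesEpi_iff_preservesMono hP
        (show (i₀ - 1 + n) + 1 = i₀ - 1 + (n + 1 : ℕ) by push_cast; ring)).2 hex.1
  intro q hq
  by_cases hlt : q < i₀
  · have hz : ∀ M, IsZero ((CohIII.TFun P q).obj M) := fun M =>
      (HomologicalComplex.exactAt_iff_isZero_homology _ _).1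
        (HomologicalComplex.ExactAt.of_isZero ((MonoidalCategory.tensorRight M).map_isZero (hb _ hlt)))
    exact ⟨⟨fun {M M'} g _ => ⟨fun a b _ => (hz M).eq_of_tgt a b⟩⟩,
      ⟨fun {M M'} g _ => ⟨fun a b _ => (hz M').eq_of_src a b⟩⟩⟩
  · obtain ⟨n, rfl⟩ : ∃ n : ℕ, q = i₀ - 1 + n := ⟨(q - i₀ + 1).toNat, by lia⟩
    have he := main n (by lia)
    exact (Groth.Agent.FlatCxLib.exact_iff hP (hq1 _) (hq0 _)).2 ⟨he, hflat _ hq he⟩

end Groth.Agent.S4488
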