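import Groth.Statements.S4489
import Groth.Agent.S2375
import Groth.Agent.S2406
import Mathlib.RingTheory.Flat.TorsionFree

set_option autoImplicit false
universe u
open FlatCx

namespace Groth.Agent.S4489

open CategoryTheory in
/-- Over a Dedekind domain the opcycles of a complex of flat modules are flat iff the homology is. -/
theorem flat_opcycles_iff {A : Type u} [CommRing A] [IsDedekindDomain A]
    (P : ChainComplex (ModuleCat.{u} A) ℤ) (hP : ∀ i, Module.Flat A (P.X i)) (p : ℤ) :
    Module.Flat A (P.opcycles p) ↔ Module.Flat A (P.homology p) := by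
  have hι : Function.Injective (P.homologyι p).hom :=
    (ModuleCat.mono_iff_injective (P.homologyι p)).1 inferInstance
  simp only [IsDedekindDomain.flat_iff_torsion_eq_bot, Submodule.eq_bot_iff,
    Submodule.mem_torsion_iff]
  constructor
  · intro h x hx
    obtain ⟨a, ha⟩ := hx
    refine hι ((h _ ⟨a, ?_⟩).trans (map_zero _).symm)
    exact ((P.homologyι p).hom.map_smul (a : A) x).symm.trans ((congrArg _ ha).trans (map_zero _))
  · intro h x hx
    obtain ⟨a, ha⟩ := hx
    have hj : (ComplexShape.down ℤ).next p = p - 1 := (ComplexShape.down ℤ).next_eq' (by simp)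
    have h0 : (P.fromOpcycles p (p - 1)).hom x = 0 := by
      have := (IsDedekindDomain.flat_iff_torsion_eq_bot (M := P.X (p - 1))).1 (hP _)
      refine (Submodule.eq_bot_iff _).1 this _ ((Submodule.mem_torsion_iff _).2 ⟨a, ?_⟩)
      exact ((P.fromOpcycles p (p - 1)).hom.map_smul (a : A) x).symm.trans ((congrArg _ ha).trans (map_zero _))
    have hex := ShortComplex.exact_of_f_is_kernel (ShortComplex.mk (P.homologyι p) (P.fromOpcycles p (p - 1))
      (P.homologyι_comp_fromOpcycles p (p - 1))) (P.homologyIsKernel p (p - 1) hj)
    obtain ⟨y, rfl⟩ := (ShortComplex.moduleCat_exact_iff _).1 hex x h0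
    rw [h y ⟨a, hι (((P.homologyι p).hom.map_smul (a : A) y).trans (ha.trans (map_zero _).symm))⟩, map_zero]


open CategoryTheory CategoryTheory.Limits in
/-- For the homological functor T_p(M) = H_p(P ⊗_A M) of a chain complex P of flat modules, stated over
a Dedekind domain A. (The published statement allows A to be a finite product of Dedekind domains,
that is, a Noetherian regular ring of dimension at most 1; this row takes A a Dedekind domain.) Then
T_p takes injections to injections if and only if H_p(P) is a flat A-module; and, with q + 1 = p,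
T_p takes injections to injections and surjections to surjections if and only if H_p(P) and H_q(P)
are both flat. -/
theorem result {A : Type u} [CommRing A] [IsDedekindDomain A]
    (P : ChainComplex (ModuleCat.{u} A) ℤ) (hP : ∀ i, Module.Flat A (P.X i)) (p q : ℤ) (hpq : q + 1 = p) :
    ((CohIII.TFun P p).PreservesMonomorphisms ↔ Module.Flat A (P.homology p)) ∧
      (((CohIII.TFun P p).PreservesMonomorphisms ∧ (CohIII.TFun P p).PreservesEpimorphisms) ↔
        (Module.Flat A (P.homology p) ∧ Module.Flat A (P.homology q))) := by
  rw [Groth.Agent.S2406.result P hP p q hpq, Groth.Agent.S2375.result P hP p, Groth.Agent.S2375.result P hP q,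
    flat_opcycles_iff P hP p, flat_opcycles_iff P hP q]
  exact ⟨Iff.rfl, Iff.rfl⟩

end Groth.Agent.S4489
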