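import Groth.Statements.S4499
import Groth.Agent.TFCurvLib.TorTorsion
import Mathlib

set_option autoImplicit false
universe u
attribute [local instance] HasDerivedCategory.standard
open FlatCx

namespace Groth.Agent.S4499

open CategoryTheory MonoidalCategory Groth.Agent.TorBridge

/-- Cycles modulo boundaries of a composite with surjective first map. -/
theorem quot_ker_equiv {R W X Y Z : Type u} [CommRing R] [AddCommGroup W] [Module R W] [AddCommGroup X]
    [Module R X] [AddCommGroup Y] [Module R Y] [AddCommGroup Z] [Module R Z] (a : W →ₗ[R] X)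
    (f : X →ₗ[R] Y) (g : Y →ₗ[R] Z) (h : X →ₗ[R] Z) (hh : h = g ∘ₗ f) (hf : Function.Surjective f)
    (ha : Function.Exact a f) :
    Nonempty ((↥(LinearMap.ker h) ⧸ Submodule.comap (LinearMap.ker h).subtype (LinearMap.range a))
      ≃ₗ[R] ↥(LinearMap.ker g)) := by
  subst hh
  let ψ : ↥(LinearMap.ker (g ∘ₗ f)) →ₗ[R] ↥(LinearMap.ker g) := f.restrict fun x hx => hx
  have hψ : Function.Surjective ψ := by
    rintro ⟨y, hy⟩
    obtain ⟨x, rfl⟩ := hf y
    exact ⟨⟨x, hy⟩, rfl⟩
  have hker : LinearMap.ker ψ = Submodule.comap (LinearMap.ker (g ∘ₗ f)).subtype (LinearMap.range a) := by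
    ext x
    rw [LinearMap.mem_ker, Submodule.mem_comap, LinearMap.mem_range, ← Subtype.coe_inj]
    exact ha x.1
  exact ⟨(Submodule.quotEquivOfEq _ _ hker.symm).trans (LinearMap.quotKerEquivOfSurjective ψ hψ)⟩

/-- Dimension shifting along a flat middle term. -/
theorem tor_shift {R : Type u} [CommRing R] {S : ShortComplex (ModuleCat.{u} R)} (hS : S.ShortExact)
    [Module.Flat R S.X₂] (Y : ModuleCat.{u} R) :
    Nonempty ((((Tor (ModuleCat.{u} R) 2).obj S.X₃).obj Y : ModuleCat.{u} R) ≃ₗ[R]
      (((Tor (ModuleCat.{u} R) 1).obj S.X₁).obj Y : ModuleCat.{u} R)) := by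
  let Q := projectiveResolution Y
  have hz : ∀ j : ℕ, Limits.IsZero ((KerNat.seq S Q).X₂.homology (j + 1)) := fun j => by
    show Limits.IsZero (((((tensoringLeft (ModuleCat.{u} R)).obj S.X₂)).mapHomologicalComplex _).obj Q.complex |>.homology (j + 1))
    rw [← HomologicalComplex.exactAt_iff_isZero_homology,
      HomologicalComplex.exactAt_iff' _ (j + 2) (j + 1) j (by simp) (by simp),
      ShortComplex.ShortExact.moduleCat_exact_iff_function_exact]
    exact Module.Flat.lTensor_exact S.X₂
      ((ShortComplex.ShortExact.moduleCat_exact_iff_function_exact _).1 (Q.exact_succ j))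
  exact ⟨((Q.isoLeftDerivedObj ((tensoringLeft (ModuleCat.{u} R)).obj S.X₃) 2) ≪≫
    (KerNat.seq_shortExact hS Q).δIso 2 1 rfl (hz 1) (hz 0) ≪≫
    (Q.isoLeftDerivedObj ((tensoringLeft (ModuleCat.{u} R)).obj S.X₁) 1).symm).toLinearEquiv⟩


/-- Let A be a Noetherian local ring with residue field k, and d : P₁ → P₀ an A-linear map between flat
A-modules, viewed as a two-term chain complex, so that H₁ = Ker d, H₀ = Coker d and H₁ of the
complex tensored with k is Ker(d ⊗ 1_k). Let α : (Ker d) ⊗_A k → P₁ ⊗_A k be the map induced by the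
inclusion Ker d → P₁; its image lies in Ker(d ⊗ 1_k). Then there is an exact sequence 0 →
Tor₂^A(Coker d, k) → (Ker d) ⊗_A k → Ker(d ⊗ 1_k) → Tor₁^A(Coker d, k) → 0 with middle map α, stated
here as: Ker α is isomorphic to Tor₂^A(Coker d, k), and the quotient of Ker(d ⊗ 1_k) by the image of
α is isomorphic to Tor₁^A(Coker d, k) (existence of A-linear isomorphisms only; Tor is Mathlib's,
left derived in the second variable). (In the published statement the cokernel is printed without
its prime, as the module of 0-cycles; the proof is about the cokernel of d.) -/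
theorem result {A : Type u} [CommRing A] [IsNoetherianRing A]
    [IsLocalRing A] {P₁ P₀ : Type u} [AddCommGroup P₁] [Module A P₁] [AddCommGroup P₀] [Module A P₀]
    [Module.Flat A P₁] [Module.Flat A P₀] (d : P₁ →ₗ[A] P₀) :
    Nonempty (LinearMap.ker ((LinearMap.ker d).subtype.rTensor (IsLocalRing.ResidueField A)) ≃ₗ[A]
        DRing.Tor A 2 (P₀ ⧸ LinearMap.range d) (IsLocalRing.ResidueField A)) ∧
      LinearMap.range ((LinearMap.ker d).subtype.rTensor (IsLocalRing.ResidueField A)) ≤
        LinearMap.ker (d.rTensor (IsLocalRing.ResidueField A)) ∧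
      Nonempty ((↥(LinearMap.ker (d.rTensor (IsLocalRing.ResidueField A))) ⧸
          Submodule.comap (LinearMap.ker (d.rTensor (IsLocalRing.ResidueField A))).subtype
            (LinearMap.range ((LinearMap.ker d).subtype.rTensor (IsLocalRing.ResidueField A)))) ≃ₗ[A]
        DRing.Tor A 1 (P₀ ⧸ LinearMap.range d) (IsLocalRing.ResidueField A)) := by
  let k := IsLocalRing.ResidueField A
  let R := LinearMap.range d
  let ι : ↥R →ₗ[A] P₀ := R.subtype
  let d' : P₁ →ₗ[A] ↥R := d.rangeRestrict
  let α := (LinearMap.ker d).subtype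
  have hd' : Function.Surjective d' := d.surjective_rangeRestrict
  have hex' : Function.Exact α d' := LinearMap.exact_iff.mpr (by simp [α, d'])
  have hexC : Function.Exact ι R.mkQ := LinearMap.exact_subtype_mkQ R
  obtain ⟨e1⟩ := TFCurvLib.TorTorsion.nonempty_tor_equiv_ker ι R.mkQ R.subtype_injective R.mkQ_surjective hexC k
  obtain ⟨eR⟩ := TFCurvLib.TorTorsion.nonempty_tor_equiv_ker α d' (LinearMap.ker d).subtype_injective hd' hex' k
  let S : ShortComplex (ModuleCat.{u} A) := ShortComplex.mk (ModuleCat.ofHom ι) (ModuleCat.ofHom R.mkQ)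
    (ModuleCat.hom_ext (LinearMap.ext fun x => hexC.apply_apply_eq_zero x))
  have hS : S.ShortExact :=
    { exact := (ShortComplex.ShortExact.moduleCat_exact_iff_function_exact _).2 hexC
      mono_f := (ModuleCat.mono_iff_injective _).2 R.subtype_injective
      epi_g := (ModuleCat.epi_iff_surjective _).2 R.mkQ_surjective }
  haveI : Module.Flat A S.X₂ := ‹Module.Flat A P₀›
  obtain ⟨e2⟩ := tor_shift hS (ModuleCat.of A k)
  have hcomp : d.rTensor k = (ι.rTensor k) ∘ₗ (d'.rTensor k) := by
    rw [← LinearMap.rTensor_comp]; rfl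
  refine ⟨⟨eR.symm.trans e2.symm⟩, ?_, ?_⟩
  · rintro _ ⟨x, rfl⟩
    rw [LinearMap.mem_ker, ← LinearMap.comp_apply, ← LinearMap.rTensor_comp,
      show d ∘ₗ (LinearMap.ker d).subtype = 0 from LinearMap.ext fun y => y.2,
      LinearMap.rTensor_zero, LinearMap.zero_apply]
  · obtain ⟨E3⟩ := quot_ker_equiv (α.rTensor k) (d'.rTensor k) (ι.rTensor k) (d.rTensor k) hcomp
      (LinearMap.rTensor_surjective k hd') (rTensor_exact k hex' hd')
    exact ⟨E3.trans e1.symm⟩

end Groth.Agent.S4499
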