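import Groth.Statements.S4507
import Mathlib

set_option autoImplicit false
universe u
open FlatCx

set_option backward.isDefEq.respectTransparency false

namespace Groth.Agent.S4507

open CategoryTheory CategoryTheory.Limits

/-- The category of denominators. -/
structure Den {A : Type u} [CommRing A] (S : Submonoid A) : Type u where
  val : S

namespace Den
variable {A : Type u} [CommRing A] (S : Submonoid A)

instance : SmallCategory (Den S) where
  Hom s t := {a : S // a * s.val = t.val}
  id s := ⟨1, one_mul _⟩
  comp {s t r} f g := ⟨g.1 * f.1, by rw [mul_assoc, f.2, g.2]⟩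
  id_comp f := Subtype.ext (mul_one _)
  comp_id f := Subtype.ext (one_mul _)
  assoc f g h := Subtype.ext (mul_assoc _ _ _).symm

instance : IsFiltered (Den S) where
  nonempty := ⟨⟨1⟩⟩
  cocone_objs s t := ⟨⟨t.val * s.val⟩, ⟨t.val, rfl⟩, ⟨s.val, mul_comm _ _⟩, trivial⟩
  cocone_maps {s t} f g := ⟨⟨s.val * t.val⟩, ⟨s.val, rfl⟩, Subtype.ext (by
    show s.val * f.1 = s.val * g.1
    rw [mul_comm, f.2, mul_comm, g.2])⟩

variable (M : ModuleCat.{u} A)

def diag : Den S ⥤ ModuleCat.{u} A where
  obj _ := M
  map f := ((f.1 : A)) • 𝟙 M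
  map_id s := one_smul _ _
  map_comp f g := by
    show ((g.1 * f.1 : S) : A) • 𝟙 M = _
    rw [Linear.smul_comp, Linear.comp_smul, Category.id_comp, smul_smul, Submonoid.coe_mul, mul_comm]

noncomputable def cocone : Cocone (diag S M) where
  pt := ModuleCat.of A (LocalizedModule S M)
  ι :=
    { app := fun s => ModuleCat.ofHom
        { toFun := fun m => LocalizedModule.mk (m : M) s.val
          map_add' := fun x y => by
            rw [LocalizedModule.mk_add_mk, ← smul_add]
            exact (LocalizedModule.mk_cancel_common_left _ _ _).symm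
          map_smul' := fun a x => (LocalizedModule.smul'_mk a (x : M) s.val).symm }
      naturality := fun s t f => by
        ext m
        show LocalizedModule.mk ((f.1 : A) • m) t.val = LocalizedModule.mk m s.val
        exact (congrArg (LocalizedModule.mk _) f.2.symm).trans (LocalizedModule.mk_cancel_common_left _ _ _) }

noncomputable def isColimit : IsColimit (cocone S M) := by
  haveI : ReflectsColimit (diag S M) (forget (ModuleCat.{u} A)) := reflectsColimit_of_reflectsIsomorphisms _ _
  refine isColimitOfReflects (forget (ModuleCat.{u} A)) (Types.FilteredColimit.isColimitOf _ _ ?_ ?_)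
  · intro (x : LocalizedModule S M)
    induction x using LocalizedModule.induction_on with
    | _ m s => exact ⟨⟨s⟩, m, rfl⟩
  · intro i j (xi : M) (xj : M) (h : LocalizedModule.mk xi i.val = LocalizedModule.mk xj j.val)
    obtain ⟨u, hu⟩ := LocalizedModule.mk_eq.mp h
    refine ⟨⟨u * (i.val * j.val)⟩, ⟨u * j.val, by rw [mul_assoc, mul_comm j.val]⟩, ⟨u * i.val, by rw [mul_assoc]⟩, ?_⟩
    show ((u * j.val : S) : A) • xi = ((u * i.val : S) : A) • xj
    rw [Submonoid.coe_mul, Submonoid.coe_mul, mul_smul, mul_smul]
    exact hu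

end Den

open CategoryTheory CategoryTheory.Limits in
/-- The isomorphism T(S⁻¹M) ≅ S⁻¹T(M). Let A be a commutative ring, T an additive A-linear endofunctor
of the category of A-modules which preserves filtered colimits, S a multiplicative subset of A and M
an A-module. Then the A-linear map T(M) → T(S⁻¹M), image under T of the localization map M → S⁻¹M,
is a localization of T(M) at S (so T(S⁻¹M) is canonically S⁻¹T(M), as an S⁻¹A-module). -/
theorem result {A : Type u} [CommRing A]
    (T : ModuleCat.{u} A ⥤ ModuleCat.{u} A) [T.Additive] [T.Linear A]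
    (hT : ∀ (J : Type u) [SmallCategory J] [IsFiltered J], PreservesColimitsOfShape J T)
    (S : Submonoid A) (M : ModuleCat.{u} A) :
    IsLocalizedModule S (T.map (ModuleCat.ofHom (LocalizedModule.mkLinearMap S M) :
      M ⟶ ModuleCat.of A (LocalizedModule S M))).hom := by
  haveI : PreservesColimitsOfShape (Den S) T := hT (Den S)
  let hc : IsColimit (T.mapCocone (Den.cocone S M)) := isColimitOfPreserves T (Den.isColimit S M)
  let hc' := isColimitOfPreserves (forget (ModuleCat.{u} A)) hc
  set l : M ⟶ ModuleCat.of A (LocalizedModule S M) := ModuleCat.ofHom (LocalizedModule.mkLinearMap S M)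
  have hTsmul : ∀ (a : A) (P : ModuleCat.{u} A) (x : T.obj P), (T.map (a • 𝟙 P)).hom x = a • x := by
    intro a P x
    rw [T.map_smul, CategoryTheory.Functor.map_id]
    rfl
  refine ⟨fun s => ?_, fun z => ?_, fun {x y} h => ?_⟩
  · rw [Module.End.isUnit_iff]
    haveI : IsIso ((s : A) • 𝟙 (ModuleCat.of A (LocalizedModule S M))) := by
      rw [ConcreteCategory.isIso_iff_bijective]
      exact (Module.End.isUnit_iff _).mp (IsLocalizedModule.map_units (LocalizedModule.mkLinearMap S M) s)
    have hb := (ConcreteCategory.isIso_iff_bijective (T.map ((s : A) • 𝟙 (ModuleCat.of A (LocalizedModule S M))))).mp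
      inferInstance
    exact ⟨fun a b hab => hb.1 (((hTsmul _ _ a).trans hab).trans (hTsmul _ _ b).symm),
      fun b => (hb.2 b).imp fun a ha => (hTsmul _ _ a).symm.trans ha⟩
  · obtain ⟨⟨s⟩, w, hw⟩ := Types.jointly_surjective _ hc' z
    refine ⟨⟨w, s⟩, ?_⟩
    show (s : A) • z = _
    rw [← hw]
    show (s : A) • (T.map ((Den.cocone S M).ι.app ⟨s⟩)).hom w = (T.map l).hom w
    rw [show l = (s : A) • (Den.cocone S M).ι.app ⟨s⟩ from ?_, T.map_smul]
    · rfl
    · ext m
      show LocalizedModule.mk (m : M) (1 : S) = (s : A) • LocalizedModule.mk (m : M) s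
      rw [LocalizedModule.smul'_mk]
      exact (LocalizedModule.mk_cancel (S := S) s (m : M)).symm
  · have hl : (Den.cocone S M).ι.app ⟨1⟩ = l := by ext m; rfl
    have h' : (T.map ((Den.cocone S M).ι.app ⟨1⟩)).hom x = (T.map ((Den.cocone S M).ι.app ⟨1⟩)).hom y := by
      rw [hl]; exact h
    obtain ⟨k, f, hf⟩ := (Types.FilteredColimit.isColimit_eq_iff' hc' (i := ⟨1⟩) x y).mp h'
    refine ⟨f.1, ?_⟩
    have h2 : (T.map ((f.1 : A) • 𝟙 M)).hom x = (T.map ((f.1 : A) • 𝟙 M)).hom y := hf
    rwa [hTsmul, hTsmul] at h2

end Groth.Agent.S4507
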