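import Groth.Statements.S4523
import Groth.Agent.S2117
import Mathlib.RingTheory.Localization.Rat
import Mathlib.RingTheory.Unramified.Basic
import Mathlib.LinearAlgebra.Basis.VectorSpace

set_option autoImplicit false
universe u
open EGA41

namespace Groth.Agent.S4523

open scoped TensorProduct

/-- Let k ⊆ K be fields. Then K is a separable extension of k if and only if the imperfection module
Υ_{K/k} vanishes, i.e. the canonical map Ω_{k/ℤ} ⊗_k K → Ω_{K/ℤ} is injective, and if and only if
every derivation of k into K extends to a derivation of K into itself. (No hypothesis on the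
characteristic.) -/
theorem result {k K : Type u} [Field k] [Field K] [Algebra k K] :
    (Algebra.IsGeometricallyReduced k K ↔ EGA41.imperfection ℤ k K = ⊥) ∧
    (Algebra.IsGeometricallyReduced k K ↔
      ∀ D : Derivation ℤ k K, ∃ D' : Derivation ℤ K K, ∀ a : k, D' (algebraMap k K a) = D a) := by
  have hinj : Algebra.IsGeometricallyReduced k K ↔ Function.Injective (KaehlerDifferential.mapBaseChange ℤ k K) := by
    rcases CharP.exists k with ⟨q, hq⟩
    rcases CharP.char_is_prime_or_zero k q with hp | rfl
    · haveI := Fact.mk hp
      exact S2117.result q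
    · haveI : CharZero k := CharP.charP_to_charZero k
      let P : Subfield k := (algebraMap ℚ k).fieldRange
      haveI : CharZero P := charZero_of_injective_algebraMap (algebraMap ℚ P).injective
      haveI : PerfectField P := PerfectField.ofCharZero
      haveI h1 : Algebra.FormallyUnramified ℤ ℚ := Algebra.FormallyUnramified.of_isLocalization (nonZeroDivisors ℤ)
      haveI : Algebra.FormallyUnramified ℤ P := Algebra.FormallyUnramified.of_surjective (R := ℤ) (A := ℚ)
        (algebraMap ℚ P).toIntAlgHom fun x => by
          obtain ⟨c, hc⟩ := (algebraMap ℚ k).rangeRestrictField_bijective.surjective x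
          exact ⟨c, by rw [← hc]; exact DFunLike.congr_fun (Subsingleton.elim (algebraMap ℚ P) ((algebraMap ℚ k).rangeRestrictField)) c⟩
      exact S2117.injective_iff_of_perfect P k K
  constructor
  · rw [hinj, EGA41.imperfection, LinearMap.ker_eq_bot]
  rw [hinj]
  constructor
  · intro h D
    obtain ⟨g, hg⟩ := LinearMap.exists_leftInverse_of_injective (KaehlerDifferential.mapBaseChange ℤ k K) (LinearMap.ker_eq_bot.2 h)
    let Dk : Derivation ℤ k K :=
      Derivation.mk' D.toLinearMap fun a b => D.leibniz a b
    let φ : K ⊗[k] Ω[k⁄ℤ] →ₗ[K] K := Dk.liftKaehlerDifferential.liftBaseChange K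
    refine ⟨(φ.comp g).compDer (KaehlerDifferential.D ℤ K), fun a => ?_⟩
    show φ (g (KaehlerDifferential.D ℤ K (algebraMap k K a))) = D a
    have : KaehlerDifferential.D ℤ K (algebraMap k K a) =
        KaehlerDifferential.mapBaseChange ℤ k K ((1 : K) ⊗ₜ KaehlerDifferential.D ℤ k a) := by simp
    rw [this, show g (KaehlerDifferential.mapBaseChange ℤ k K ((1 : K) ⊗ₜ KaehlerDifferential.D ℤ k a)) = (1 : K) ⊗ₜ KaehlerDifferential.D ℤ k a
      from LinearMap.congr_fun hg _]
    simp [φ, Dk, Derivation.liftKaehlerDifferential_comp_D]
  · intro h
    rw [← LinearMap.ker_eq_bot, Submodule.eq_bot_iff]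
    intro z hz
    refine (Module.forall_dual_apply_eq_zero_iff K z).1 fun φ => ?_
    let D : Derivation ℤ k K := ((φ.restrictScalars k).comp (TensorProduct.mk k K Ω[k⁄ℤ] 1)).compDer (KaehlerDifferential.D ℤ k)
    obtain ⟨D', hD'⟩ := h D
    have hφ : φ = D'.liftKaehlerDifferential.comp (KaehlerDifferential.mapBaseChange ℤ k K) := by
      refine LinearMap.ext fun x => ?_
      induction x with
      | zero => simp
      | add x y hx hy => rw [map_add, map_add, hx, hy]
      | tmul a w =>
        have hw : w ∈ Submodule.span k (Set.range (KaehlerDifferential.D ℤ k)) := by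
          rw [KaehlerDifferential.span_range_derivation]; trivial
        induction hw using Submodule.span_induction generalizing a with
        | mem x hx =>
          obtain ⟨c, rfl⟩ := hx
          rw [show a ⊗ₜ[k] KaehlerDifferential.D ℤ k c = a • ((1 : K) ⊗ₜ[k] KaehlerDifferential.D ℤ k c) by
            rw [TensorProduct.smul_tmul', smul_eq_mul, mul_one], map_smul, map_smul]
          congr 1
          rw [LinearMap.comp_apply, KaehlerDifferential.mapBaseChange_tmul, one_smul, KaehlerDifferential.map_D,
            Derivation.liftKaehlerDifferential_comp_D, hD']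
          rfl
        | zero => simp
        | add x y _ _ hx hy => rw [TensorProduct.tmul_add, map_add, map_add, hx, hy]
        | smul r x _ hx => rw [TensorProduct.tmul_smul, TensorProduct.smul_tmul']; exact hx (r • a)
    rw [hφ, LinearMap.comp_apply, LinearMap.mem_ker.1 hz, map_zero]

end Groth.Agent.S4523
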