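import Groth.Statements.S4533
import Mathlib
import Groth.Agent.RegFS6.PSRegSeq

set_option autoImplicit false
universe u
open EGA41

namespace Groth.Agent.S4533

/-- Let A carry the 𝔞-adic topology and let B = A[[T_1, …, T_n]] carry the product topology, i.e. the
adic topology of the ideal 𝔞B + (T_1, …, T_n) (the kernel of the constant-coefficient map added to
the extension of 𝔞). Then B is a formally smooth A-algebra for these topologies. (The published
statement allows any linearly topologized base ring and any set of indeterminates with the product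
topology; this row takes an adic base and finitely many indeterminates, where the product topology
is adic.) -/
theorem result (A : Type u) [CommRing A] (𝔞 : Ideal A) (n : ℕ) :
    EGA41.IsFormallySmoothAdic A 𝔞 (MvPowerSeries (Fin n) A)
      (𝔞.map (MvPowerSeries.C : A →+* MvPowerSeries (Fin n) A) ⊔
        RingHom.ker (MvPowerSeries.constantCoeff : MvPowerSeries (Fin n) A →+* A)) := by
  classical
  intro C _ _ J hJ _ u ⟨k, hu⟩
  obtain ⟨l, hl⟩ := hJ
  choose y hy using fun i : Fin n => Ideal.Quotient.mk_surjective (u (MvPowerSeries.X i))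
  have hker : RingHom.ker (MvPowerSeries.constantCoeff : MvPowerSeries (Fin n) A →+* A) =
      Ideal.span (Set.range (MvPowerSeries.X : Fin n → MvPowerSeries (Fin n) A)) := by
    refine le_antisymm (fun f hf => ?_) (Ideal.span_le.mpr ?_)
    · have := Groth.Agent.RegFS6.mem_span_X_of_coeff (Finset.univ : Finset (Fin n)) f fun d hd => by
        rw [show d = 0 from Finsupp.ext fun i => hd i (Finset.mem_univ i)]
        exact (MvPowerSeries.coeff_zero_eq_constantCoeff_apply f).trans hf
      simpa using this
    · rintro _ ⟨i, rfl⟩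
      exact MvPowerSeries.constantCoeff_X i
  let Y : Ideal C := Ideal.span (Set.range y)
  obtain ⟨N, hkN, hYN⟩ : ∃ N, k ≤ N ∧ Y ^ N = ⊥ := by
    have hy' : ∀ i, IsNilpotent (y i) := fun i => by
      refine ⟨k * l, ?_⟩
      have h1 : y i ^ k ∈ J := by
        rw [← Ideal.Quotient.eq_zero_iff_mem, map_pow, hy, ← map_pow]
        exact hu _ (Ideal.pow_mem_pow (Ideal.mem_sup_right (MvPowerSeries.constantCoeff_X i)) k)
      rw [pow_mul]
      have := Ideal.pow_mem_pow h1 l
      rw [hl] at this
      exact this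
    have hY : Y ≤ nilradical C := Ideal.span_le.mpr (by rintro _ ⟨i, rfl⟩; exact mem_nilradical.mpr (hy' i))
    obtain ⟨M, hM⟩ := Ideal.exists_pow_le_of_le_radical_of_fg (I := Y) (J := ⊥) hY
      (Submodule.fg_span (Set.finite_range y))
    exact ⟨k + M, by omega, le_bot_iff.mp ((Ideal.pow_le_pow_right (by omega)).trans hM)⟩
  let e : MvPolynomial (Fin n) A →ₐ[A] C := MvPolynomial.aeval y
  have heY : (MvPolynomial.idealOfVars (Fin n) A).map e ≤ Y := by
    rw [MvPolynomial.idealOfVars, Ideal.map_span]
    exact Ideal.span_mono (by rintro _ ⟨_, ⟨i, rfl⟩, rfl⟩; exact ⟨i, (MvPolynomial.aeval_X y i).symm⟩)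
  have he : ∀ q ∈ MvPolynomial.idealOfVars (Fin n) A ^ N, e q = 0 := fun q hq => by
    have := Ideal.mem_map_of_mem e hq
    rw [Ideal.map_pow] at this
    have h2 := Ideal.pow_right_mono heY N this
    rw [hYN] at h2
    exact h2
  let v : MvPowerSeries (Fin n) A →ₐ[A] C :=
    (Ideal.Quotient.liftₐ _ e he).comp ((MvPowerSeries.truncTotalAlgHom (Fin n) A N).restrictScalars A)
  have hvX : ∀ i, v (MvPowerSeries.X i) = y i := by
    intro i
    have h1 : MvPowerSeries.truncTotalAlgHom (Fin n) A N (MvPowerSeries.X i) =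
        Ideal.Quotient.mk _ (MvPolynomial.X i) := by
      rw [← MvPolynomial.coe_X]
      exact (MvPowerSeries.truncTotalAlgHom (Fin n) A N).commutes (MvPolynomial.X i)
    show Ideal.Quotient.liftₐ _ e he (MvPowerSeries.truncTotalAlgHom (Fin n) A N (MvPowerSeries.X i)) = y i
    rw [h1, Ideal.Quotient.liftₐ_apply, Ideal.Quotient.lift_mk]
    exact MvPolynomial.aeval_X y i
  refine ⟨v, ?_⟩
  have hw : ∀ f ∈ RingHom.ker (MvPowerSeries.constantCoeff : MvPowerSeries (Fin n) A →+* A) ^ N,
      v f = 0 ∧ u f = 0 := by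
    intro f hf
    refine ⟨?_, hu f (Ideal.pow_right_mono le_sup_right k (Ideal.pow_le_pow_right hkN hf))⟩
    have h1 := Ideal.mem_map_of_mem v hf
    rw [Ideal.map_pow, hker, Ideal.map_span, ← Set.range_comp, show v ∘ MvPowerSeries.X = y from funext hvX, hYN] at h1
    exact h1
  have hall : ∀ (j : ℕ) (f : MvPowerSeries (Fin n) A), ∃ g : MvPowerSeries (Fin n) A,
      g ∈ RingHom.ker (MvPowerSeries.constantCoeff : MvPowerSeries (Fin n) A →+* A) ^ j ∧
      f - g ∈ Algebra.adjoin A (Set.range (MvPowerSeries.X : Fin n → MvPowerSeries (Fin n) A)) := by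
    intro j
    induction j with
    | zero => exact fun f => ⟨f, by simp, by simp⟩
    | succ j ih =>
      intro f
      have h0 : f - algebraMap A _ (MvPowerSeries.constantCoeff f) ∈
          Ideal.span (Set.range (MvPowerSeries.X : Fin n → MvPowerSeries (Fin n) A)) := by
        rw [← hker, RingHom.mem_ker, map_sub, sub_eq_zero]
        exact (MvPowerSeries.constantCoeff_C _).symm
      obtain ⟨c, hc⟩ := (Ideal.mem_span_range_iff_exists_fun).mp h0
      choose g hg hg' using fun i => ih (c i)
      refine ⟨∑ i, g i * MvPowerSeries.X i, Ideal.sum_mem _ fun i _ => ?_, ?_⟩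
      · rw [pow_succ]; exact Ideal.mul_mem_mul (hg i) (MvPowerSeries.constantCoeff_X i)
      · rw [show f = algebraMap A _ (MvPowerSeries.constantCoeff f) + ∑ i, c i * MvPowerSeries.X i by rw [hc]; ring,
          add_sub_assoc, ← Finset.sum_sub_distrib]
        refine add_mem (Subalgebra.algebraMap_mem _ _) (sum_mem fun i _ => ?_)
        rw [← sub_mul]
        exact mul_mem (hg' i) (Algebra.subset_adjoin ⟨i, rfl⟩)
  refine AlgHom.ext fun f => ?_
  obtain ⟨g, hg, hg'⟩ := hall N f
  have heq : Algebra.adjoin A (Set.range (MvPowerSeries.X : Fin n → MvPowerSeries (Fin n) A)) ≤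
      AlgHom.equalizer ((Ideal.Quotient.mkₐ A J).comp v) u :=
    Algebra.adjoin_le (by rintro _ ⟨i, rfl⟩; exact (congrArg (Ideal.Quotient.mk J) (hvX i)).trans (hy i))
  have h2 : Ideal.Quotient.mkₐ A J (v (f - g)) = u (f - g) := heq hg'
  rw [map_sub u, map_sub v, (hw g hg).1, (hw g hg).2, sub_zero, sub_zero] at h2
  exact h2

end Groth.Agent.S4533
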