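import Groth.Statements.S4548
-- import your own Groth.Agent.* helpers here
import Groth.Agent.H4NagJac.Subrings

set_option autoImplicit false
set_option linter.style.haveILetI false
universe u
open EGA41

namespace Groth.Agent.S4548

/-- Let k be a field of characteristic p > 0, A = k[[T_1, …, T_r]] and K its field of fractions. Then
there is a decreasing filtered family (A_α) of Noetherian subrings of A (rendered: a nonempty
family, directed downwards for inclusion) such that A is a free A_α-module of finite type for every
α and, K_α denoting the subfield of K generated by A_α (its field of fractions inside K), ⋂_α K_α =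
K^p. -/
theorem result (p : ℕ) [Fact p.Prime] (k : Type u) [Field k] [CharP k p]
    (r : ℕ) :
    ∃ (ι : Type u) (_ : Nonempty ι) (S : ι → Subring (MvPowerSeries (Fin r) k)),
      (∀ a b : ι, ∃ c, S c ≤ S a ⊓ S b) ∧
      (∀ i, IsNoetherianRing (S i) ∧ Module.Free (S i) (MvPowerSeries (Fin r) k) ∧ Module.Finite (S i) (MvPowerSeries (Fin r) k)) ∧
      ((⨅ i, Subfield.closure (algebraMap (MvPowerSeries (Fin r) k) (FractionRing (MvPowerSeries (Fin r) k)) '' (S i)) :
          Set (FractionRing (MvPowerSeries (Fin r) k)))) =
        Set.range fun x : FractionRing (MvPowerSeries (Fin r) k) => x ^ p := by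
  classical
  let P := ULift.{u} (ZMod p)
  letI : Algebra P k := ((ZMod.castHom dvd_rfl k).comp (ULift.ringEquiv (R := ZMod p)).toRingHom).toAlgebra
  obtain ⟨B, -, -, hB⟩ := Groth.Agent.PBasisLib.exists_isPBasis p P (Set.empty_subset (Set.univ : Set k))
    (fun t ht => absurd ht (Set.notMem_empty t))
    (eq_top_iff.mpr fun y _ => Groth.Agent.PBasisLib.subset_Fp p P _ (Set.mem_univ y))
  let M := FractionRing (MvPowerSeries (Fin r) k)
  haveI : CharP M p := charP_of_injective_algebraMap
    (((algebraMap (MvPowerSeries (Fin r) k) M).comp MvPowerSeries.C).injective : Function.Injective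
      ((algebraMap (MvPowerSeries (Fin r) k) M).comp (MvPowerSeries.C : k →+* MvPowerSeries (Fin r) k))) p
  have hpow : ∀ c : P, c ^ p = c := fun c => by
    obtain ⟨c⟩ := c
    exact ULift.ext _ _ (ZMod.pow_card c)
  refine ⟨Finset B, ⟨∅⟩, fun S => Groth.Agent.H4NagJac.subS (s := r) p M B hB S, fun a b => ⟨a ∪ b, ?_⟩, fun S => ?_, ?_⟩
  · intro f hf
    exact ⟨Groth.Agent.H4NagJac.kS_antitone (s := r) p M B hB Finset.subset_union_left hf,
      Groth.Agent.H4NagJac.kS_antitone (s := r) p M B hB Finset.subset_union_right hf⟩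
  · exact ⟨Groth.Agent.H4NagJac.isNoetherianRing_subS p M B hB S,
      Groth.Agent.H4NagJac.free_finite_subS p M B hB S⟩
  · exact Groth.Agent.H4NagJac.iInf_closure_subS p M B hB (fun _ : Fin 1 => (1 : P))
      (fun c => ⟨fun _ => c, by rw [Fin.sum_univ_one, mul_one, hpow]⟩)
      (fun c => ⟨algebraMap P M c, by rw [← map_pow, hpow]⟩)

end Groth.Agent.S4548
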