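import Groth.Statements.S4550
import Mathlib


set_option autoImplicit false
universe u
open EGA41

namespace Groth.Agent.S4550

/-- Power series with coefficients in a subring. -/
theorem exists_subring {k : Type u} [Field k] (F : Subfield k) (r : ℕ) :
    ∃ R : Subring (MvPowerSeries (Fin r) k), (R : Set (MvPowerSeries (Fin r) k)) = {f | ∀ n, MvPowerSeries.coeff n f ∈ F} := by
  refine ⟨(MvPowerSeries.map (σ := Fin r) F.subtype).range, Set.ext fun f => ⟨?_, fun h => ?_⟩⟩
  · rintro ⟨g, rfl⟩ n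
    rw [MvPowerSeries.coeff_map]
    exact (MvPowerSeries.coeff n g).2
  · refine ⟨fun n => ⟨MvPowerSeries.coeff n f, h n⟩, ?_⟩
    ext n
    rw [MvPowerSeries.coeff_map]
    rfl

theorem mem_closure {k : Type u} [Field k] (F : Subfield k) (r : ℕ)
    {z : FractionRing (MvPowerSeries (Fin r) k)}
    (hz : z ∈ Subfield.closure (algebraMap (MvPowerSeries (Fin r) k) (FractionRing (MvPowerSeries (Fin r) k)) ''
      {f | ∀ n, MvPowerSeries.coeff n f ∈ F})) :
    ∃ a b : MvPowerSeries (Fin r) k, (∀ n, MvPowerSeries.coeff n a ∈ F) ∧ (∀ n, MvPowerSeries.coeff n b ∈ F) ∧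
      z = algebraMap _ _ a / algebraMap _ _ b := by
  obtain ⟨R, hR⟩ := exists_subring F r
  rw [← hR, ← Subring.coe_map] at hz
  obtain ⟨y, hy, w, hw, rfl⟩ := Subfield.mem_closure_iff.1 hz
  rw [Subring.closure_eq] at hy hw
  obtain ⟨a, ha, rfl⟩ := hy
  obtain ⟨b, hb, rfl⟩ := hw
  exact ⟨a, b, hR.le ha, hR.le hb, rfl⟩

/-- Coefficients of a quotient which is a power series lie in the field of coefficients. -/
theorem coeff_mem {k : Type u} [Field k] (F : Subfield k) (r : ℕ) (h b : MvPowerSeries (Fin r) k) (hb0 : b ≠ 0)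
    (hb : ∀ n, MvPowerSeries.coeff n b ∈ F) (ha : ∀ n, MvPowerSeries.coeff n (h * b) ∈ F) (n : Fin r →₀ ℕ) :
    MvPowerSeries.coeff n h ∈ F := by
  classical
  obtain ⟨ρ, hρ⟩ := (Algebra.linearMap F k).exists_leftInverse_of_injective
    (LinearMap.ker_eq_bot.2 (algebraMap F k).injective)
  let π : k → k := fun x => (ρ x : k)
  have hπ : ∀ x ∈ F, π x = x := fun x hx => congrArg Subtype.val (LinearMap.congr_fun hρ ⟨x, hx⟩)
  have hπmul : ∀ x, ∀ c ∈ F, π (x * c) = π x * c := fun x c hc => by
    have h1 := ρ.map_smul (⟨c, hc⟩ : F) x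
    have h2 := congrArg Subtype.val h1
    show (ρ (x * c) : k) = (ρ x : k) * c
    rw [mul_comm x, mul_comm _ c]
    exact h2
  let h' : MvPowerSeries (Fin r) k := fun m => π (MvPowerSeries.coeff m h)
  have hcoeff : ∀ m, MvPowerSeries.coeff m h' = π (MvPowerSeries.coeff m h) := fun m => rfl
  have heq : h' * b = h * b := by
    ext m
    rw [← hπ _ (ha m), MvPowerSeries.coeff_mul, MvPowerSeries.coeff_mul]
    have hsum : ∀ (s : Finset ((Fin r →₀ ℕ) × (Fin r →₀ ℕ))) (f : (Fin r →₀ ℕ) × (Fin r →₀ ℕ) → k),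
        π (∑ p ∈ s, f p) = ∑ p ∈ s, π (f p) := fun s f => by
      show (ρ _ : k) = ∑ p ∈ s, (ρ (f p) : k)
      rw [map_sum]
      exact map_sum F.subtype _ _
    rw [hsum]
    exact Finset.sum_congr rfl fun p _ => by rw [hcoeff, hπmul _ _ (hb _)]
  have := mul_right_cancel₀ hb0 heq
  rw [← this, hcoeff]
  exact (ρ _).2

end Groth.Agent.S4550

namespace Groth.Agent.S4550

/-- Let k be a field, (k_α) a decreasing filtered family of subfields of k with intersection k₀, and
suppose there is a power q of the characteristic exponent of k with k^q ⊆ k₀. Then, inside k((T_1,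
…, T_r)), one has ⋂_α k_α((T_1, …, T_r)) = k₀((T_1, …, T_r)); here F((T)) is the subfield of the
fraction field of k[[T]] generated by the power series with all coefficients in F. -/
theorem result {k : Type u} [Field k] {ι : Type u} [Nonempty ι] (F : ι → Subfield k)
    (hdir : ∀ a b : ι, ∃ c, F c ≤ F a ⊓ F b) (e : ℕ) (hq : ∀ x : k, x ^ ringExpChar k ^ e ∈ ⨅ i, F i) (r : ℕ) :
    (⨅ i, Subfield.closure (algebraMap (MvPowerSeries (Fin r) k) (FractionRing (MvPowerSeries (Fin r) k)) ''
        {f | ∀ n, MvPowerSeries.coeff n f ∈ F i})) =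
      Subfield.closure (algebraMap (MvPowerSeries (Fin r) k) (FractionRing (MvPowerSeries (Fin r) k)) ''
        {f | ∀ n, MvPowerSeries.coeff n f ∈ ⨅ i, F i}) := by
  refine le_antisymm (fun z hz => ?_) (le_iInf fun i => Subfield.closure_mono (Set.image_mono fun f hf n =>
    Subfield.mem_iInf.1 (hf n) i))
  rw [Subfield.mem_iInf] at hz
  obtain ⟨f, g, hg, rfl⟩ := IsFractionRing.div_surjective (A := MvPowerSeries (Fin r) k) z
  have hg0 : g ≠ 0 := nonZeroDivisors.ne_zero hg
  let q := ringExpChar k ^ e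
  obtain ⟨q', hq'⟩ : ∃ q', q = q' + 1 :=
    ⟨q - 1, (Nat.sub_add_cancel (Nat.one_le_pow _ _ (expChar_pos k (ringExpChar k)))).symm⟩
  haveI : ExpChar (MvPowerSeries (Fin r) k) (ringExpChar k) :=
    expChar_of_injective_ringHom (f := MvPowerSeries.C) MvPowerSeries.C_injective _
  let D := g ^ q
  have hD : ∀ n, MvPowerSeries.coeff n D ∈ ⨅ i, F i := fun n => by
    obtain ⟨R, hR⟩ := exists_subring (⨅ i, F i) r
    have key : D = MvPowerSeries.expand q (by omega) (MvPowerSeries.map (iterateFrobenius k (ringExpChar k) e) g) := by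
      rw [← MvPowerSeries.map_expand]
      exact (MvPowerSeries.map_iterateFrobenius_expand (ringExpChar k) (expChar_ne_zero k _) g e).symm
    rw [key]
    by_cases hn : ∀ i, q ∣ n i
    · choose m hm using hn
      have : n = q • Finsupp.equivFunOnFinite.symm m := Finsupp.ext fun i => by simp [hm i]
      rw [this, MvPowerSeries.coeff_expand_smul, MvPowerSeries.coeff_map, iterateFrobenius_def]
      exact hq _
    · push Not at hn
      obtain ⟨i, hi⟩ := hn
      rw [MvPowerSeries.coeff_expand_of_not_dvd q (by omega) _ hi]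
      exact zero_mem _
  have hz' : algebraMap (MvPowerSeries (Fin r) k) (FractionRing (MvPowerSeries (Fin r) k)) f / algebraMap _ _ g =
      algebraMap _ _ (f * g ^ q') / algebraMap _ _ D := by
    rw [show D = g * g ^ q' by rw [← pow_succ', ← hq'], map_mul, map_mul, mul_div_mul_right]
    rw [Ne, map_eq_zero_iff _ (IsFractionRing.injective _ _)]
    exact pow_ne_zero _ hg0
  rw [hz'] at hz ⊢
  have hD0 : D ≠ 0 := pow_ne_zero _ hg0
  have hN : ∀ n, MvPowerSeries.coeff n (f * g ^ q') ∈ ⨅ i, F i := fun n => Subfield.mem_iInf.2 fun i => by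
    obtain ⟨R, hR⟩ := exists_subring (F i) r
    obtain ⟨a, b, ha, hb, hab⟩ := mem_closure (F i) r (hz i)
    by_cases hb0 : b = 0
    · rw [hb0, map_zero, div_zero, div_eq_zero_iff, map_eq_zero_iff _ (IsFractionRing.injective _ _),
        map_eq_zero_iff _ (IsFractionRing.injective _ _)] at hab
      rw [hab.resolve_right hD0, map_zero]
      exact zero_mem _
    · rw [div_eq_div_iff (by rwa [Ne, map_eq_zero_iff _ (IsFractionRing.injective _ _)])
        (by rwa [Ne, map_eq_zero_iff _ (IsFractionRing.injective _ _)]), ← map_mul, ← map_mul] at hab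
      refine coeff_mem (F i) r _ b hb0 hb ?_ n
      rw [IsFractionRing.injective _ _ hab]
      exact hR.le (R.mul_mem (hR.ge ha) (hR.ge fun m => Subfield.mem_iInf.1 (hD m) i))
  exact div_mem (Subfield.subset_closure ⟨_, hN, rfl⟩) (Subfield.subset_closure ⟨_, hD, rfl⟩)

end Groth.Agent.S4550
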