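import Groth.Statements.S4555
import Mathlib
import Groth.Agent.RegFS6.PSRegSeq

set_option autoImplicit false
universe u
open EGA41

namespace Groth.Agent.S4555

/-- Let A carry the 𝔞-adic topology, B = A[[T_1, …, T_n]] the product topology (the adic topology of 𝔞B
+ (T_1, …, T_n)), and let E be a discrete topological A-algebra (a power of 𝔞 kills E). (i) If f : B
→ E is a continuous A-algebra homomorphism then each f(T_i) is nilpotent. (ii) Conversely, for every
family (z_i) of nilpotent elements of E there is one and only one continuous A-algebra homomorphism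
g : B → E with g(T_i) = z_i for all i. -/
theorem result (A : Type u) [CommRing A] (𝔞 : Ideal A) (n : ℕ) (E : Type u) [CommRing E]
    [Algebra A E] (hE : ∃ k : ℕ, (𝔞 ^ k).map (algebraMap A E) = ⊥) :
    (∀ f : MvPowerSeries (Fin n) A →ₐ[A] E,
      (∃ m : ℕ, ∀ x ∈ (𝔞.map (MvPowerSeries.C : A →+* MvPowerSeries (Fin n) A) ⊔
        RingHom.ker (MvPowerSeries.constantCoeff : MvPowerSeries (Fin n) A →+* A)) ^ m, f x = 0) →
      ∀ i, IsNilpotent (f (MvPowerSeries.X i))) ∧
    ∀ z : Fin n → E, (∀ i, IsNilpotent (z i)) →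
      ∃! g : MvPowerSeries (Fin n) A →ₐ[A] E,
        (∃ m : ℕ, ∀ x ∈ (𝔞.map (MvPowerSeries.C : A →+* MvPowerSeries (Fin n) A) ⊔
          RingHom.ker (MvPowerSeries.constantCoeff : MvPowerSeries (Fin n) A →+* A)) ^ m, g x = 0) ∧
        ∀ i, g (MvPowerSeries.X i) = z i := by
  classical
  have hker : RingHom.ker (MvPowerSeries.constantCoeff : MvPowerSeries (Fin n) A →+* A) =
      Ideal.span (Set.range (MvPowerSeries.X : Fin n → MvPowerSeries (Fin n) A)) := by
    refine le_antisymm (fun f hf => ?_) (Ideal.span_le.mpr ?_)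
    · have := Groth.Agent.RegFS6.mem_span_X_of_coeff (Finset.univ : Finset (Fin n)) f fun d hd => by
        rw [show d = 0 from Finsupp.ext fun i => hd i (Finset.mem_univ i)]
        exact (MvPowerSeries.coeff_zero_eq_constantCoeff_apply f).trans hf
      simpa using this
    · rintro _ ⟨i, rfl⟩
      exact MvPowerSeries.constantCoeff_X i
  have hall : ∀ (j : ℕ) (f : MvPowerSeries (Fin n) A), ∃ g : MvPowerSeries (Fin n) A,
      g ∈ RingHom.ker (MvPowerSeries.constantCoeff : MvPowerSeries (Fin n) A →+* A) ^ j ∧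
      f - g ∈ Algebra.adjoin A (Set.range (MvPowerSeries.X : Fin n → MvPowerSeries (Fin n) A)) := by
    intro j
    induction j with
    | zero => exact fun f => ⟨f, by simp, by simp⟩
    | succ j ih =>
      intro f
      have h0 : f - algebraMap A _ (MvPowerSeries.constantCoeff f) ∈
          Ideal.span (Set.range (MvPowerSeries.X : Fin n → MvPowerSeries (Fin n) A)) := by
        rw [← hker, RingHom.mem_ker, map_sub, sub_eq_zero]
        exact (MvPowerSeries.constantCoeff_C _).symm
      obtain ⟨c, hc⟩ := (Ideal.mem_span_range_iff_exists_fun).mp h0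
      choose g hg hg' using fun i => ih (c i)
      refine ⟨∑ i, g i * MvPowerSeries.X i, Ideal.sum_mem _ fun i _ => ?_, ?_⟩
      · rw [pow_succ]; exact Ideal.mul_mem_mul (hg i) (MvPowerSeries.constantCoeff_X i)
      · rw [show f = algebraMap A _ (MvPowerSeries.constantCoeff f) + ∑ i, c i * MvPowerSeries.X i by rw [hc]; ring,
          add_sub_assoc, ← Finset.sum_sub_distrib]
        refine add_mem (Subalgebra.algebraMap_mem _ _) (sum_mem fun i _ => ?_)
        rw [← sub_mul]
        exact mul_mem (hg' i) (Algebra.subset_adjoin ⟨i, rfl⟩)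
  refine ⟨fun f ⟨m, hm⟩ i => ⟨m, ?_⟩, fun z hz => ?_⟩
  · rw [← map_pow]
    exact hm _ (Ideal.pow_mem_pow (Ideal.mem_sup_right (MvPowerSeries.constantCoeff_X i)) m)
  obtain ⟨k, hk⟩ := hE
  let y := z
  let Y : Ideal E := Ideal.span (Set.range y)
  obtain ⟨N, hYN⟩ : ∃ N, Y ^ N = ⊥ := by
    obtain ⟨M, hM⟩ := Ideal.exists_pow_le_of_le_radical_of_fg (I := Y) (J := ⊥)
      (Ideal.span_le.mpr (by rintro _ ⟨i, rfl⟩; exact mem_nilradical.mpr (hz i)))
      (Submodule.fg_span (Set.finite_range y))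
    exact ⟨M, le_bot_iff.mp hM⟩
  let e : MvPolynomial (Fin n) A →ₐ[A] E := MvPolynomial.aeval y
  have heY : (MvPolynomial.idealOfVars (Fin n) A).map e ≤ Y := by
    rw [MvPolynomial.idealOfVars, Ideal.map_span]
    exact Ideal.span_mono (by rintro _ ⟨_, ⟨i, rfl⟩, rfl⟩; exact ⟨i, (MvPolynomial.aeval_X y i).symm⟩)
  have he : ∀ q ∈ MvPolynomial.idealOfVars (Fin n) A ^ N, e q = 0 := fun q hq => by
    have := Ideal.mem_map_of_mem e hq
    rw [Ideal.map_pow] at this
    have h2 := Ideal.pow_right_mono heY N this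
    rw [hYN] at h2
    exact h2
  let v : MvPowerSeries (Fin n) A →ₐ[A] E :=
    (Ideal.Quotient.liftₐ _ e he).comp ((MvPowerSeries.truncTotalAlgHom (Fin n) A N).restrictScalars A)
  have hvX : ∀ i, v (MvPowerSeries.X i) = y i := by
    intro i
    have h1 : MvPowerSeries.truncTotalAlgHom (Fin n) A N (MvPowerSeries.X i) =
        Ideal.Quotient.mk _ (MvPolynomial.X i) := by
      rw [← MvPolynomial.coe_X]
      exact (MvPowerSeries.truncTotalAlgHom (Fin n) A N).commutes (MvPolynomial.X i)
    show Ideal.Quotient.liftₐ _ e he (MvPowerSeries.truncTotalAlgHom (Fin n) A N (MvPowerSeries.X i)) = y i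
    rw [h1, Ideal.Quotient.liftₐ_apply, Ideal.Quotient.lift_mk]
    exact MvPolynomial.aeval_X y i
  have hkill : ∀ f ∈ (𝔞.map (MvPowerSeries.C : A →+* MvPowerSeries (Fin n) A) ⊔
      RingHom.ker (MvPowerSeries.constantCoeff : MvPowerSeries (Fin n) A →+* A)) ^ (k + N), v f = 0 := by
    intro f hf
    have h1 := Ideal.mem_map_of_mem v.toRingHom hf
    have hC : v.toRingHom.comp (MvPowerSeries.C : A →+* MvPowerSeries (Fin n) A) = algebraMap A E :=
      RingHom.ext fun a => v.commutes a
    have hX : (RingHom.ker (MvPowerSeries.constantCoeff : MvPowerSeries (Fin n) A →+* A)).map v.toRingHom = Y := by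
      rw [hker, Ideal.map_span, ← Set.range_comp, show (v.toRingHom : _ → E) ∘ MvPowerSeries.X = y from funext hvX]
    rw [Ideal.map_pow, Ideal.map_sup, Ideal.map_map, hC, hX] at h1
    have h2 := Ideal.sup_pow_add_le_pow_sup_pow h1
    rw [← Ideal.map_pow, hk, hYN, bot_sup_eq] at h2
    exact h2
  refine ⟨v, ⟨⟨k + N, hkill⟩, hvX⟩, ?_⟩
  rintro g' ⟨⟨m, hm⟩, hg'X⟩
  refine AlgHom.ext fun f => ?_
  obtain ⟨g, hg, hgf⟩ := hall (m + (k + N)) f
  have heq : Algebra.adjoin A (Set.range (MvPowerSeries.X : Fin n → MvPowerSeries (Fin n) A)) ≤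
      AlgHom.equalizer g' v :=
    Algebra.adjoin_le (by rintro _ ⟨i, rfl⟩; exact (hg'X i).trans (hvX i).symm)
  have h2 : g' (f - g) = v (f - g) := heq hgf
  have hgb : g ∈ (𝔞.map (MvPowerSeries.C : A →+* MvPowerSeries (Fin n) A) ⊔
      RingHom.ker (MvPowerSeries.constantCoeff : MvPowerSeries (Fin n) A →+* A)) ^ (m + (k + N)) :=
    Ideal.pow_right_mono le_sup_right _ hg
  rw [map_sub g', map_sub v, hm g (Ideal.pow_le_pow_right (by omega) hgb),
    hkill g (Ideal.pow_le_pow_right (by omega) hgb), sub_zero, sub_zero] at h2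
  exact h2

end Groth.Agent.S4555
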