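import Groth.Statements.S4579
import Groth.Agent.S4577
import Groth.Agent.S4578
import Groth.Agent.SmoothingLib.GeomRegDiff
import Groth.Agent.RegFS6.Field
-- import your own Groth.Agent.* helpers here

set_option autoImplicit false
universe u
open EGA41

namespace Groth.Agent.S4579

open scoped TensorProduct

theorem isRegularLocalRing_of_localization {R S : Type u} [CommRing R] [CommRing S] [Algebra R S]
    (M : Submonoid R) [IsLocalization M S] (n : Ideal R) [n.IsPrime] (hd : Disjoint (M : Set R) n)
    [(n.map (algebraMap R S)).IsPrime] (h : IsRegularLocalRing (Localization.AtPrime (n.map (algebraMap R S)))) :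
    IsRegularLocalRing (Localization.AtPrime n) := by
  have hq : (n.map (algebraMap R S)).comap (algebraMap R S) = n :=
    IsLocalization.comap_map_of_isPrime_disjoint M S ‹n.IsPrime› hd
  haveI := h
  haveI := IsLocalization.isLocalization_isLocalization_atPrime_isLocalization M (Localization.AtPrime (n.map (algebraMap R S))) (n.map (algebraMap R S))
  let e := (IsLocalization.algEquiv ((n.map (algebraMap R S)).comap (algebraMap R S)).primeCompl
    (Localization.AtPrime (n.map (algebraMap R S)))
    (Localization.AtPrime ((n.map (algebraMap R S)).comap (algebraMap R S)))).toRingEquiv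
  have h' : IsRegularLocalRing (Localization.AtPrime ((n.map (algebraMap R S)).comap (algebraMap R S))) :=
    IsRegularLocalRing.of_ringEquiv e
  have key : ∀ (q' : Ideal R) [q'.IsPrime], q' = n → IsRegularLocalRing (Localization.AtPrime q') →
      IsRegularLocalRing (Localization.AtPrime n) := by rintro q' _ rfl h; exact h
  exact key _ hq h'

/-- Let k₀ be a field, k a separable (formally smooth) extension field of k₀ and C a k-algebra of finite
type. The following are equivalent: C is formally smooth over k₀ (discrete topologies); every C_p, p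
prime, is formally smooth over k₀; every C_m, m maximal, is; C is geometrically regular over k₀.
(Geometric regularity is tested on finite extensions of k₀. The published statement quantifies the
last condition over all extensions k' of k₀; for infinite ones the base change need not be
Noetherian, so it need not be regular in the Noetherian sense, and the printed proof passes through
the local rings as here.) -/
theorem result {k₀ k C : Type u} [Field k₀] [Field k] [Algebra k₀ k]
    [Algebra.FormallySmooth k₀ k] [CommRing C] [Algebra k C] [Algebra k₀ C] [IsScalarTower k₀ k C]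
    [Algebra.FiniteType k C] :
    [Algebra.FormallySmooth k₀ C,
     ∀ (p : Ideal C) [p.IsPrime], Algebra.FormallySmooth k₀ (Localization.AtPrime p),
     ∀ (m : Ideal C) [m.IsMaximal], Algebra.FormallySmooth k₀ (Localization.AtPrime m),
     CAlg.IsGeometricallyRegular k₀ C].TFAE := by
  haveI : IsNoetherianRing C := Algebra.FiniteType.isNoetherianRing k C
  tfae_have 1 → 2 := fun h p _ => by
    haveI := h
    haveI : Algebra.FormallySmooth C (Localization.AtPrime p) := Algebra.FormallySmooth.of_isLocalization p.primeCompl
    exact Algebra.FormallySmooth.comp k₀ C _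
  tfae_have 2 → 3 := fun h m _ => h m
  tfae_have 3 → 1 := fun h => by
    obtain ⟨n, π, hπ⟩ := Algebra.FiniteType.iff_quotient_mvPolynomial''.mp ‹Algebra.FiniteType k C›
    haveI : Algebra.FormallySmooth k₀ (MvPolynomial (Fin n) k) := Algebra.FormallySmooth.comp k₀ k _
    letI := π.toRingHom.toAlgebra
    haveI : IsScalarTower k₀ (MvPolynomial (Fin n) k) C :=
      IsScalarTower.of_algebraMap_eq fun a => ((π.restrictScalars k₀).commutes a).symm
    haveI : Module.Finite (MvPolynomial (Fin n) k) (RingHom.ker (algebraMap (MvPolynomial (Fin n) k) C)) :=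
      Module.Finite.iff_fg.2 (IsNoetherian.noetherian _)
    haveI : Module.Finite (MvPolynomial (Fin n) k) (RingHom.ker (algebraMap (MvPolynomial (Fin n) k) C)).Cotangent :=
      Module.Finite.of_surjective _ (RingHom.ker (algebraMap (MvPolynomial (Fin n) k) C)).toCotangent_surjective
    exact (S4577.result (B := MvPolynomial (Fin n) k) hπ).2 h
  tfae_have 4 → 2 := fun h p _ => by
    haveI : IsNoetherianRing (Localization.AtPrime p) := IsLocalization.isNoetherianRing p.primeCompl _ inferInstance
    exact ((S4578.result (k₀ := k₀) (k := k) p).out 0 3).2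
      (SmoothingLib.GeomDiff.isGeometricallyRegular_of_isLocalization h p.primeCompl _)
  tfae_have 2 → 4 := fun h k' _ _ hf => by
    haveI := hf
    haveI : IsNoetherianRing (k' ⊗[k₀] C) :=
      haveI := GeomReg.isNoetherianRing_tensor k₀ k' C
      isNoetherianRing_of_ringEquiv (C ⊗[k₀] k') (Algebra.TensorProduct.comm k₀ C k').toRingEquiv
    refine RegFS6.isRegularRing_of_maximal _ fun n _ => ?_
    let p := n.comap (Algebra.TensorProduct.includeRight : C →ₐ[k₀] k' ⊗[k₀] C).toRingHom
    haveI : p.IsPrime := Ideal.comap_isPrime _ _
    let L := Localization.AtPrime p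
    have hg : CAlg.IsGeometricallyRegular k₀ L := ((S4578.result (k₀ := k₀) (k := k) p).out 0 3).1 (h p)
    have hreg : IsRegularRing (k' ⊗[k₀] L) := hg k' hf
    haveI := hreg
    letI : Algebra (k' ⊗[k₀] C) (k' ⊗[k₀] L) :=
      (Algebra.TensorProduct.map (AlgHom.id k' k') (IsScalarTower.toAlgHom k₀ C L)).toRingHom.toAlgebra
    haveI : IsScalarTower k' (k' ⊗[k₀] C) (k' ⊗[k₀] L) := IsScalarTower.of_algebraMap_eq fun c => by
      show _ = Algebra.TensorProduct.map (AlgHom.id k' k') (IsScalarTower.toAlgHom k₀ C L) (c ⊗ₜ 1)
      rw [Algebra.TensorProduct.map_tmul, map_one]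
      rfl
    haveI hloc := IsLocalization.tensorProduct_tensorProduct_right (A := C) k₀ k' p.primeCompl L
      (RingHom.ext fun x => by
        show Algebra.TensorProduct.map (AlgHom.id k' k') (IsScalarTower.toAlgHom k₀ C L) (1 ⊗ₜ x) = _
        simp)
    let M := p.primeCompl.map (Algebra.TensorProduct.includeRight (R := k₀) (A := k'))
    have hd : Disjoint (M : Set (k' ⊗[k₀] C)) n := Set.disjoint_left.2 fun x hx hxn => by
      obtain ⟨c, hc, rfl⟩ := hx
      exact hc hxn
    haveI : (n.map (algebraMap (k' ⊗[k₀] C) (k' ⊗[k₀] L))).IsPrime :=
      IsLocalization.isPrime_of_isPrime_disjoint M _ _ inferInstance hd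
    exact isRegularLocalRing_of_localization M n hd
      (IsRegularRing.isRegularLocalRing_localization (n.map (algebraMap (k' ⊗[k₀] C) (k' ⊗[k₀] L))))
  tfae_finish

end Groth.Agent.S4579
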