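import Groth.Statements.S4581
import Mathlib

set_option autoImplicit false
universe u
open EGA41

namespace Groth.Agent.S4581

open TensorProduct

variable {A₀ A : Type u} [CommRing A₀] [CommRing A] [Algebra A₀ A]

theorem map_jacobson_le [Module.Finite A₀ A] :
    (Ideal.jacobson (⊥ : Ideal A₀)).map (algebraMap A₀ A) ≤ Ideal.jacobson (⊥ : Ideal A) := by
  refine le_sInf fun M hM => ?_
  haveI := hM.2
  refine Ideal.map_le_iff_le_comap.2 (sInf_le ⟨bot_le, ?_⟩)
  exact Ideal.isMaximal_comap_of_isIntegral_of_isMaximal M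

theorem exists_pow_jacobson_le [IsNoetherianRing A₀] [Finite (MaximalSpectrum A₀)] [Module.Finite A₀ A] :
    ∃ N : ℕ, 0 < N ∧ Ideal.jacobson (⊥ : Ideal A) ^ N ≤ (Ideal.jacobson (⊥ : Ideal A₀)).map (algebraMap A₀ A) := by
  haveI : IsNoetherianRing A := IsNoetherianRing.of_finite A₀ A
  have hrad : Ideal.jacobson (⊥ : Ideal A) ≤ ((Ideal.jacobson (⊥ : Ideal A₀)).map (algebraMap A₀ A)).radical := by
    rw [Ideal.radical_eq_sInf]
    refine le_sInf fun P hP => sInf_le ⟨bot_le, ?_⟩
    obtain ⟨hle, hPp⟩ := hP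
    haveI := hPp
    haveI := Fintype.ofFinite (MaximalSpectrum A₀)
    have h1 : (Finset.univ : Finset (MaximalSpectrum A₀)).inf MaximalSpectrum.asIdeal ≤ P.comap (algebraMap A₀ A) := by
      refine le_trans ?_ (Ideal.map_le_iff_le_comap.1 hle)
      exact le_sInf fun M hM => Finset.inf_le (f := MaximalSpectrum.asIdeal) (Finset.mem_univ (⟨M, hM.2⟩ : MaximalSpectrum A₀))
    obtain ⟨M, -, hM⟩ := (Ideal.IsPrime.inf_le' (Ideal.IsPrime.comap (algebraMap A₀ A))).1 h1
    have h2 : (P.comap (algebraMap A₀ A)).IsMaximal :=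
      M.isMaximal.eq_of_le (Ideal.IsPrime.comap (algebraMap A₀ A)).ne_top hM ▸ M.isMaximal
    exact Ideal.isMaximal_of_isIntegral_of_isMaximal_comap P h2
  obtain ⟨N, hN⟩ := Ideal.exists_pow_le_of_le_radical_of_fg hrad (IsNoetherian.noetherian _)
  exact ⟨N + 1, N.succ_pos, (Ideal.pow_le_pow_right (Nat.le_succ N)).trans hN⟩

theorem exists_comparison [IsNoetherianRing A₀] [Module.Finite A₀ A] (I₀ : Ideal A₀) (I : Ideal A)
    (hle : I₀.map (algebraMap A₀ A) ≤ I) (N : ℕ) (hN0 : 0 < N) (hN : I ^ N ≤ I₀.map (algebraMap A₀ A)) :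
    ∃ Θ : A ⊗[A₀] AdicCompletion I₀ A₀ →ₐ[A] AdicCompletion I A, Function.Bijective Θ := by
  have hpow : ∀ n, (I₀ ^ n).map (algebraMap A₀ A) ≤ I ^ n := fun n => by
    rw [Ideal.map_pow]
    exact Ideal.pow_right_mono hle n
  let f : ∀ n, AdicCompletion I₀ A₀ →+* A ⧸ I ^ n := fun n =>
    (Ideal.quotientMap (I ^ n) (algebraMap A₀ A) (Ideal.map_le_iff_le_comap.1 (hpow n))).comp
      (AdicCompletion.evalₐ I₀ n).toRingHom
  have hf : ∀ {m n : ℕ} (h : m ≤ n), (Ideal.Quotient.factorPow I h).comp (f n) = f m := fun {m n} h => by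
    refine RingHom.ext fun x => ?_
    induction x using AdicCompletion.induction_on with
    | _ s =>
      simp only [f, RingHom.coe_comp, Function.comp_apply, AlgHom.toRingHom_eq_coe, RingHom.coe_coe,
        AdicCompletion.evalₐ_mk, Ideal.quotientMap_mk]
      rw [Ideal.Quotient.factorPow, Ideal.Quotient.factor_mk, eq_comm, ← sub_eq_zero, ← map_sub,
        Ideal.Quotient.eq_zero_iff_mem, ← map_sub]
      refine hpow m (Ideal.mem_map_of_mem _ ?_)
      have := SModEq.sub_mem.1 (s.2 h)
      rwa [smul_eq_mul, Ideal.mul_top] at this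
  have hι : ∀ n x, AdicCompletion.evalₐ I n (AdicCompletion.liftRingHom I f hf x) = f n x := fun n x =>
    AdicCompletion.evalₐ_liftRingHom I f hf n x
  let ι : AdicCompletion I₀ A₀ →ₐ[A₀] AdicCompletion I A :=
    { AdicCompletion.liftRingHom I f hf with
      commutes' := fun r => AdicCompletion.ext_evalₐ fun n => by
        refine (hι n _).trans ?_
        rw [IsScalarTower.algebraMap_apply A₀ A (AdicCompletion I A), AlgHom.commutes]
        simp only [f, RingHom.coe_comp, Function.comp_apply, AlgHom.toRingHom_eq_coe, RingHom.coe_coe, AlgHom.commutes]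
        rfl }
  let Θ : A ⊗[A₀] AdicCompletion I₀ A₀ →ₐ[A] AdicCompletion I A :=
    Algebra.TensorProduct.lift (Algebra.ofId A _) ι fun _ _ => Commute.all _ _
  let T := AdicCompletion.ofTensorProduct I₀ A
  let c := TensorProduct.comm A₀ A (AdicCompletion I₀ A₀)
  have key : ∀ w n, ∃ a : A, AdicCompletion.eval I₀ A n (T (c w)) = Submodule.Quotient.mk a ∧
      AdicCompletion.evalₐ I n (Θ w) = Ideal.Quotient.mk _ a := by
    intro w n
    induction w using TensorProduct.induction_on with
    | zero => exact ⟨0, by simp, by simp⟩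
    | add u v hu hv =>
      obtain ⟨a, ha, ha'⟩ := hu
      obtain ⟨b, hb, hb'⟩ := hv
      exact ⟨a + b, by rw [map_add, map_add, map_add, ha, hb]; rfl, by rw [map_add, map_add, ha', hb', map_add]⟩
    | tmul a x =>
      induction x using AdicCompletion.induction_on with
      | _ s =>
        refine ⟨s.1 n • a, ?_, ?_⟩
        · simp only [T, c, TensorProduct.comm_tmul, AdicCompletion.ofTensorProduct_tmul]
          rfl
        · have h1 : AdicCompletion.evalₐ I n (ι (AdicCompletion.mk I₀ A₀ s)) =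
              Ideal.Quotient.mk _ (algebraMap A₀ A (s.1 n)) := (hι n _).trans (by
            simp only [f, RingHom.coe_comp, Function.comp_apply, AlgHom.toRingHom_eq_coe, RingHom.coe_coe,
              AdicCompletion.evalₐ_mk, Ideal.quotientMap_mk])
          rw [show Θ (a ⊗ₜ[A₀] AdicCompletion.mk I₀ A₀ s) = algebraMap A _ a * ι (AdicCompletion.mk I₀ A₀ s) from
            Algebra.TensorProduct.lift_tmul _ _ _ a _, map_mul, AlgHom.commutes, h1, Ideal.Quotient.algebraMap_eq,
            ← map_mul, Algebra.smul_def, mul_comm]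
  have hTb : Function.Bijective T := AdicCompletion.ofTensorProduct_bijective_of_finite_of_isNoetherian I₀ A
  have hNn : ∀ n : ℕ, n ≤ N * n := fun n => Nat.le_mul_of_pos_left n hN0
  have hback : ∀ (n : ℕ) (a : A), a ∈ I ^ (N * n) → a ∈ (I₀ ^ n • ⊤ : Submodule A₀ A) := fun n a ha => by
    rw [Ideal.smul_top_eq_map, Submodule.restrictScalars_mem, Ideal.map_pow]
    rw [pow_mul] at ha
    exact Ideal.pow_right_mono hN n ha
  refine ⟨Θ, (injective_iff_map_eq_zero Θ).2 fun w hw => ?_, fun y => ?_⟩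
  · apply c.injective
    apply hTb.1
    rw [map_zero, map_zero]
    refine AdicCompletion.ext fun n => ?_
    obtain ⟨a, ha, ha'⟩ := key w (N * n)
    rw [hw, map_zero, eq_comm, Ideal.Quotient.eq_zero_iff_mem] at ha'
    show AdicCompletion.eval I₀ A n (T (c w)) = 0
    rw [show AdicCompletion.eval I₀ A n (T (c w)) = Submodule.Quotient.mk a from
      ((T (c w)).2 (hNn n)).symm.trans (congrArg (AdicCompletion.transitionMap I₀ A (hNn n)) ha),
      Submodule.Quotient.mk_eq_zero]
    exact hback n a ha'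
  · choose a ha using fun n => Ideal.Quotient.mk_surjective (AdicCompletion.evalₐ I n y)
    have hcomp : ∀ {m n : ℕ}, m ≤ n → a m - a n ∈ I ^ m := fun {m n} h => by
      induction y using AdicCompletion.induction_on with
      | _ s =>
        have h1 := ha m
        have h2 := ha n
        rw [AdicCompletion.evalₐ_mk, Ideal.Quotient.eq] at h1 h2
        have h3 := SModEq.sub_mem.1 (s.2 h)
        rw [smul_eq_mul, Ideal.mul_top] at h3
        rw [show a m - a n = (a m - s.1 m) + (s.1 m - s.1 n) - (a n - s.1 n) by ring]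
        exact sub_mem (add_mem h1 h3) (Ideal.pow_le_pow_right h h2)
    let z : AdicCompletion.AdicCauchySequence I₀ A :=
      ⟨fun n => a (N * n), fun {m n} h => SModEq.sub_mem.2 (hback m _ (hcomp (Nat.mul_le_mul_left N h)))⟩
    obtain ⟨t, ht⟩ := hTb.2 (AdicCompletion.mk I₀ A z)
    refine ⟨c.symm t, AdicCompletion.ext_evalₐ fun n => ?_⟩
    obtain ⟨b, hb, hb'⟩ := key (c.symm t) n
    rw [c.apply_symm_apply, ht] at hb
    have h2 : a (N * n) - b ∈ I ^ n := by
      have := (Submodule.Quotient.eq _).1 (show (Submodule.Quotient.mk (a (N * n)) : A ⧸ (I₀ ^ n • ⊤ : Submodule A₀ A))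
        = Submodule.Quotient.mk b from hb)
      rw [Ideal.smul_top_eq_map, Submodule.restrictScalars_mem] at this
      exact hpow n this
    rw [hb', ← ha n, Ideal.Quotient.eq]
    have h3 := hcomp (hNn n)
    rw [show b - a n = -(a (N * n) - b) - (a n - a (N * n)) by ring]
    exact sub_mem (neg_mem h2) h3

/-- Let A₀ be a semi-local Noetherian ring, A a module-finite A₀-algebra and Â the completion of A for
the adic topology of its Jacobson radical. For the discrete topologies, Â is a formally smooth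
A-algebra relative to A₀. -/
theorem result {A₀ A : Type u} [CommRing A₀]
    [IsNoetherianRing A₀] [Finite (MaximalSpectrum A₀)] [CommRing A] [Algebra A₀ A] [Module.Finite A₀ A] :
    EGA41.IsFormallySmoothRel A₀ A (AdicCompletion (Ideal.jacobson (⊥ : Ideal A)) A) := by
  obtain ⟨N, hN0, hN⟩ := exists_pow_jacobson_le (A₀ := A₀) (A := A)
  obtain ⟨Θ, hΘ⟩ := exists_comparison (Ideal.jacobson (⊥ : Ideal A₀)) (Ideal.jacobson (⊥ : Ideal A))
    map_jacobson_le N hN0 hN
  let e := AlgEquiv.ofBijective Θ hΘ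
  intro C _ _ _ _ J _ u₀ hu
  obtain ⟨u, hu⟩ := hu
  let j : AdicCompletion (Ideal.jacobson (⊥ : Ideal A₀)) A₀ →ₐ[A₀] C :=
    u.comp ((Θ.restrictScalars A₀).comp Algebra.TensorProduct.includeRight)
  refine ⟨(Algebra.TensorProduct.lift (Algebra.ofId A C) j fun _ _ => Commute.all _ _).comp e.symm.toAlgHom, ?_⟩
  refine AlgHom.ext fun y => ?_
  obtain ⟨w, rfl⟩ := e.surjective y
  show Ideal.Quotient.mk J (Algebra.TensorProduct.lift (Algebra.ofId A C) j (fun _ _ => Commute.all _ _) (e.symm (e w))) = u₀ (e w)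
  rw [e.symm_apply_apply]
  induction w using TensorProduct.induction_on with
  | zero => simp
  | add v w hv hw => simp only [map_add, hv, hw]
  | tmul a x =>
    rw [Algebra.TensorProduct.lift_tmul, map_mul,
      show a ⊗ₜ[A₀] x = a • ((1 : A) ⊗ₜ[A₀] x) by rw [TensorProduct.smul_tmul', smul_eq_mul, mul_one],
      map_smul, map_smul, Algebra.smul_def]
    congr 1
    exact AlgHom.congr_fun hu (Θ ((1 : A) ⊗ₜ[A₀] x))

end Groth.Agent.S4581
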