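import Groth.Statements.S4601
import Mathlib

set_option autoImplicit false
universe u
open TensorProduct
open CAlg

namespace Groth.Agent.S4601

/-- Let A be a domain with fraction field K, B a Noetherian A-algebra which is flat over A, K' an
extension field of K, B₁ = B_red and R its total ring of fractions. For every sub-A-algebra A' of
K', the map (A' ⊗_A B)_red → (K' ⊗_A R)_red is injective, i.e. an element of A' ⊗_A B with nilpotent
image in K' ⊗_A R is nilpotent. -/
theorem result {A B K' R : Type u} [CommRing A]
    [IsDomain A] [CommRing B] [Algebra A B] [IsNoetherianRing B] [Module.Flat A B]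
    [Field K'] [Algebra A K'] [Algebra (FractionRing A) K'] [IsScalarTower A (FractionRing A) K']
    [CommRing R] [Algebra (B ⧸ nilradical B) R] [IsFractionRing (B ⧸ nilradical B) R]
    [Algebra B R] [IsScalarTower B (B ⧸ nilradical B) R] [Algebra A R] [IsScalarTower A B R]
    (A' : Subalgebra A K') (x : ↥A' ⊗[A] B)
    (hx : IsNilpotent (Algebra.TensorProduct.map A'.val (IsScalarTower.toAlgHom A B R) x)) :
    IsNilpotent x := by
  haveI : Module.Flat A (FractionRing A) := IsLocalization.flat _ (nonZeroDivisors A)
  haveI : Module.Flat A K' := Module.Flat.trans A (FractionRing A) K'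
  let q : B →ₐ[A] B ⧸ nilradical B := Ideal.Quotient.mkₐ A (nilradical B)
  let j : (B ⧸ nilradical B) →ₐ[A] R :=
    AlgHom.mk' (algebraMap (B ⧸ nilradical B) R) fun a y => by
      rw [Algebra.smul_def, map_mul, Algebra.smul_def, IsScalarTower.algebraMap_apply A B R,
        IsScalarTower.algebraMap_apply B (B ⧸ nilradical B) R, ← IsScalarTower.algebraMap_apply A B (B ⧸ nilradical B)]
  have hjq : j.comp q = IsScalarTower.toAlgHom A B R :=
    AlgHom.ext fun b => (IsScalarTower.algebraMap_apply B (B ⧸ nilradical B) R b).symm
  -- step 1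
  have h1 : Function.Injective (Algebra.TensorProduct.map A'.val (AlgHom.id A B)) :=
    Module.Flat.rTensor_preserves_injective_linearMap (M := B) A'.val.toLinearMap Subtype.val_injective
  have h2 : Function.Injective (Algebra.TensorProduct.map (AlgHom.id A K') j) :=
    Module.Flat.lTensor_preserves_injective_linearMap (M := K') j.toLinearMap (IsFractionRing.injective _ R)
  let y := Algebra.TensorProduct.map A'.val (AlgHom.id A B) x
  have hy : Algebra.TensorProduct.map A'.val (IsScalarTower.toAlgHom A B R) x =
      Algebra.TensorProduct.map (AlgHom.id A K') j (Algebra.TensorProduct.map (AlgHom.id A K') q y) := by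
    rw [← hjq]
    simp only [y, ← AlgHom.comp_apply, ← Algebra.TensorProduct.map_comp, AlgHom.id_comp, AlgHom.comp_id]
  rw [hy, IsNilpotent.map_iff h2] at hx
  obtain ⟨n, hn⟩ := hx
  rw [← map_pow, ← RingHom.mem_ker, Algebra.TensorProduct.lTensor_ker q Ideal.Quotient.mk_surjective] at hn
  have hle : (RingHom.ker q).map (Algebra.TensorProduct.includeRight : B →ₐ[A] K' ⊗[A] B) ≤ nilradical (K' ⊗[A] B) := by
    rw [Ideal.map_le_iff_le_comap]
    intro b hb
    have hb' : b ∈ nilradical B := Ideal.Quotient.eq_zero_iff_mem.mp hb
    exact (mem_nilradical.mp hb').map Algebra.TensorProduct.includeRight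
  exact (IsNilpotent.map_iff h1).mp (IsNilpotent.of_pow (mem_nilradical.mp (hle hn)))

end Groth.Agent.S4601
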