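import Groth.Statements.S4610
import Mathlib
-- import your own Groth.Agent.* helpers here

set_option autoImplicit false
universe u
open EGA41

namespace Groth.Agent.S4610

open scoped TensorProduct

set_option backward.isDefEq.respectTransparency false
set_option linter.style.haveILetI false

noncomputable section

variable {A : Type u} [CommRing A]

noncomputable abbrev rels {r : ℕ} (F : Fin r → Polynomial A) : Ideal (MvPolynomial (Fin r) A) :=
  Ideal.span (Set.range fun i => Polynomial.aeval (MvPolynomial.X i : MvPolynomial (Fin r) A) (F i))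

def Q {r : ℕ} (F : Fin r → Polynomial A) : Type u := MvPolynomial (Fin r) A ⧸ rels F

instance {r : ℕ} (F : Fin r → Polynomial A) : CommRing (Q F) := inferInstanceAs (CommRing (MvPolynomial (Fin r) A ⧸ rels F))

instance {r : ℕ} (F : Fin r → Polynomial A) : Algebra A (Q F) := inferInstanceAs (Algebra A (MvPolynomial (Fin r) A ⧸ rels F))

/-- The projection. -/
def proj {r : ℕ} (F : Fin r → Polynomial A) : MvPolynomial (Fin r) A →ₐ[A] Q F := Ideal.Quotient.mkₐ A (rels F)

/-- The class of the `i`-th variable. -/
noncomputable def gen {r : ℕ} (F : Fin r → Polynomial A) (i : Fin r) : Q F :=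
  proj F (MvPolynomial.X i)

theorem aeval_gen {r : ℕ} (F : Fin r → Polynomial A) (i : Fin r) : Polynomial.aeval (gen F i) (F i) = 0 := by
  refine (Polynomial.aeval_algHom_apply (proj F) _ (F i)).trans ?_
  exact Ideal.Quotient.eq_zero_iff_mem.2 (Ideal.subset_span ⟨i, rfl⟩)

/-- The universal property. -/
noncomputable def lift {r : ℕ} (F : Fin r → Polynomial A) {B : Type u} [CommRing B] [Algebra A B] (b : Fin r → B)
    (hb : ∀ i, Polynomial.aeval (b i) (F i) = 0) : Q F →ₐ[A] B :=
  Ideal.Quotient.liftₐ _ (MvPolynomial.aeval b) fun a ha => by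
    have : rels F ≤ RingHom.ker (MvPolynomial.aeval b) := Ideal.span_le.2 (by
      rintro _ ⟨i, rfl⟩
      rw [SetLike.mem_coe, RingHom.mem_ker, ← Polynomial.aeval_algHom_apply, MvPolynomial.aeval_X]
      exact hb i)
    exact this ha

@[simp] theorem lift_gen {r : ℕ} (F : Fin r → Polynomial A) {B : Type u} [CommRing B] [Algebra A B] (b : Fin r → B)
    (hb : ∀ i, Polynomial.aeval (b i) (F i) = 0) (i : Fin r) : lift F b hb (gen F i) = b i :=
  MvPolynomial.aeval_X b i

theorem hom_ext {r : ℕ} {F : Fin r → Polynomial A} {B : Type u} [CommRing B] [Algebra A B] {φ ψ : Q F →ₐ[A] B}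
    (h : ∀ i, φ (gen F i) = ψ (gen F i)) : φ = ψ :=
  Ideal.Quotient.algHom_ext A (MvPolynomial.algHom_ext h)

/-- Peeling off the first variable. -/
noncomputable def split {r : ℕ} (F : Fin (r + 1) → Polynomial A) :
    Q F ≃ₐ[A] AdjoinRoot (F 0) ⊗[A] Q (fun i : Fin r => F i.succ) :=
  AlgEquiv.ofAlgHom
    (lift F (Fin.cons (AdjoinRoot.root (F 0) ⊗ₜ 1) fun i => 1 ⊗ₜ gen (fun i : Fin r => F i.succ) i) fun i => by
      induction i using Fin.cases with
      | zero =>
        rw [Fin.cons_zero]
        refine (Polynomial.aeval_algHom_apply (Algebra.TensorProduct.includeLeft : AdjoinRoot (F 0) →ₐ[A] _)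
          (AdjoinRoot.root (F 0)) (F 0)).trans ?_
        rw [AdjoinRoot.aeval_eq, AdjoinRoot.mk_self]
        exact map_zero _
      | succ i =>
        rw [Fin.cons_succ]
        refine (Polynomial.aeval_algHom_apply (Algebra.TensorProduct.includeRight : _ →ₐ[A] AdjoinRoot (F 0) ⊗[A] _)
          (gen (fun i : Fin r => F i.succ) i) (F i.succ)).trans ?_
        rw [aeval_gen (fun i : Fin r => F i.succ) i]
        exact map_zero _)
    (Algebra.TensorProduct.lift (AdjoinRoot.liftAlgHom (F 0) (Algebra.ofId A _) (gen F 0) (aeval_gen F 0))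
      (lift (fun i : Fin r => F i.succ) (fun i => gen F i.succ) fun i => aeval_gen F i.succ)
      fun _ _ => .all _ _)
    (by
      refine Algebra.TensorProduct.ext ?_ ?_
      · refine AdjoinRoot.algHom_ext ?_
        simp
      · refine hom_ext fun i => ?_
        simp)
    (by
      refine hom_ext fun i => ?_
      induction i using Fin.cases <;> simp)

theorem main [Nontrivial A] : ∀ {r : ℕ} (F : Fin r → Polynomial A), (∀ i, (F i).Monic) →
    Module.Free A (Q F) ∧ Module.Finite A (Q F) ∧ Module.finrank A (Q F) = ∏ i, (F i).natDegree := by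
  intro r
  induction r with
  | zero =>
    intro F _
    let e : Q F ≃ₐ[A] A := AlgEquiv.ofAlgHom (lift F Fin.elim0 fun i => i.elim0) (Algebra.ofId A _)
      (by ext) (hom_ext fun i => i.elim0)
    exact ⟨.of_equiv e.symm.toLinearEquiv, .equiv e.symm.toLinearEquiv, by
      rw [e.toLinearEquiv.finrank_eq, Module.finrank_self, Finset.univ_eq_empty, Finset.prod_empty]⟩
  | succ r ih =>
    intro F hF
    obtain ⟨h1, h2, h3⟩ := ih (fun i => F i.succ) fun i => hF i.succ
    haveI := (hF 0).free_adjoinRoot
    haveI := (hF 0).finite_adjoinRoot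
    exact ⟨.of_equiv (split F).symm.toLinearEquiv, .equiv (split F).symm.toLinearEquiv, by
      rw [(split F).toLinearEquiv.finrank_eq, Module.finrank_tensorProduct, h3, Fin.prod_univ_succ,
        (AdjoinRoot.powerBasis' (hF 0)).finrank, AdjoinRoot.powerBasis'_dim]⟩

end

/-- Let A be a nonzero ring and F_1, …, F_r monic one-variable polynomials of degrees d_1, …, d_r; then
A[T_1, …, T_r]/(F_1(T_1), …, F_r(T_r)) is a free A-module of rank ∏ d_i. (The published statement
assumes A local with maximal ideal of square zero and A' local, which this assertion does not use;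
its bound [K' : K] ≤ d and part (ii) are not stated.) -/
theorem result {A : Type u} [CommRing A] [Nontrivial A]
    {r : ℕ} (F : Fin r → Polynomial A) (hF : ∀ i, (F i).Monic) :
    Module.Free A (MvPolynomial (Fin r) A ⧸ Ideal.span (Set.range fun i => Polynomial.aeval (MvPolynomial.X i : MvPolynomial (Fin r) A) (F i))) ∧
      Module.finrank A (MvPolynomial (Fin r) A ⧸ Ideal.span (Set.range fun i => Polynomial.aeval (MvPolynomial.X i : MvPolynomial (Fin r) A) (F i))) =
        Finset.univ.prod fun i => (F i).natDegree := by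
  exact ⟨(main F hF).1, (main F hF).2.2⟩

end Groth.Agent.S4610
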