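import Groth.Statements.S4612
-- import your own Groth.Agent.* helpers here
import Groth.Agent.H4NagJac.Main
import Groth.Agent.H4NagJac.Residue
import Groth.Agent.RegFS6.Field

set_option autoImplicit false
set_option linter.style.haveILetI false
universe u
open IsLocalRing
open EGA41

namespace Groth.Agent.S4612

/-- Nagata's Jacobian criterion for quotients of power series rings: let k be a field, A = k[[T_1, …,
T_r]], q ⊆ p ideals of A with p prime, B = A/q. Suppose A/p contains a sub-k-algebra isomorphic to a
power series algebra k[[X_1, …, X_s]] over which A/p is finite and such that the fraction field L of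
A/p is a separable extension of the fraction field L' of k[[X_1, …, X_s]]; here this is given as an
injective k-algebra map k[[X_1, …, X_s]] → A/p making A/p a finite module, with fraction fields L',
L and a compatible L'-algebra structure on L. Then the following are equivalent: B_p is formally
smooth over k for the adic topology of its maximal ideal; there are k-derivations D_1, …, D_m of A
into itself and f_1, …, f_m ∈ q generating qA_p with det(D_i f_j) ∉ p; B_p is a regular local ring.
(The published statement remarks that the hypothesis on A/p always holds when k has characteristic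
zero.) -/
theorem result {k : Type u} [Field k] (r : ℕ)
    (q p : Ideal (MvPowerSeries (Fin r) k)) [p.IsPrime] (hqp : q ≤ p) [(p.map (Ideal.Quotient.mk q)).IsPrime]
    (s : ℕ) [Algebra (MvPowerSeries (Fin s) k) (MvPowerSeries (Fin r) k ⧸ p)]
    [IsScalarTower k (MvPowerSeries (Fin s) k) (MvPowerSeries (Fin r) k ⧸ p)]
    [Module.Finite (MvPowerSeries (Fin s) k) (MvPowerSeries (Fin r) k ⧸ p)]
    (hinj : Function.Injective (algebraMap (MvPowerSeries (Fin s) k) (MvPowerSeries (Fin r) k ⧸ p)))
    {L' L : Type u} [Field L'] [Field L]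
    [Algebra (MvPowerSeries (Fin s) k) L'] [IsFractionRing (MvPowerSeries (Fin s) k) L']
    [Algebra (MvPowerSeries (Fin r) k ⧸ p) L] [IsFractionRing (MvPowerSeries (Fin r) k ⧸ p) L]
    [Algebra L' L] [Algebra (MvPowerSeries (Fin s) k) L]
    [IsScalarTower (MvPowerSeries (Fin s) k) (MvPowerSeries (Fin r) k ⧸ p) L]
    [IsScalarTower (MvPowerSeries (Fin s) k) L' L] [Algebra.IsSeparable L' L] :
    [CAlgX.IsAdicFormallySmooth k (Localization.AtPrime (p.map (Ideal.Quotient.mk q)))
        (maximalIdeal (Localization.AtPrime (p.map (Ideal.Quotient.mk q)))),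
     ∃ (m : ℕ) (D : Fin m → Derivation k (MvPowerSeries (Fin r) k) (MvPowerSeries (Fin r) k))
        (f : Fin m → MvPowerSeries (Fin r) k), (∀ i, f i ∈ q) ∧
        q.map (algebraMap (MvPowerSeries (Fin r) k) (Localization.AtPrime p)) =
          Ideal.span (Set.range fun i => algebraMap (MvPowerSeries (Fin r) k) (Localization.AtPrime p) (f i)) ∧
        Matrix.det (Matrix.of fun i j => D i (f j)) ∉ p,
     IsRegularLocalRing (Localization.AtPrime (p.map (Ideal.Quotient.mk q)))].TFAE := by
  classical
  letI : Algebra k L := ((algebraMap (MvPowerSeries (Fin r) k ⧸ p) L).comp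
    (algebraMap k (MvPowerSeries (Fin r) k ⧸ p))).toAlgebra
  haveI hkBL : IsScalarTower k (MvPowerSeries (Fin r) k ⧸ p) L :=
    (IsScalarTower.of_algebraMap_eq (R := k) (S := MvPowerSeries (Fin r) k ⧸ p) (A := L) fun _ => rfl :)
  letI : Algebra k L' := ((algebraMap (MvPowerSeries (Fin s) k) L').comp
    (algebraMap k (MvPowerSeries (Fin s) k))).toAlgebra
  haveI : IsScalarTower k (MvPowerSeries (Fin s) k) L' := IsScalarTower.of_algebraMap_eq fun _ => rfl
  haveI : IsScalarTower k L' L := IsScalarTower.of_algebraMap_eq fun x => by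
    show algebraMap (MvPowerSeries (Fin r) k ⧸ p) L (algebraMap k _ x) = algebraMap L' L (algebraMap _ L' _)
    rw [IsScalarTower.algebraMap_apply k (MvPowerSeries (Fin s) k) (MvPowerSeries (Fin r) k ⧸ p),
      ← IsScalarTower.algebraMap_apply (MvPowerSeries (Fin s) k) (MvPowerSeries (Fin r) k ⧸ p) L]
    exact IsScalarTower.algebraMap_apply (MvPowerSeries (Fin s) k) L' L _
  haveI := Groth.Agent.H4NagJac.isGeometricallyReduced_of_separable_over_powerSeries (k := k) s L' L
  haveI : FaithfulSMul (MvPowerSeries (Fin r) k ⧸ p) L :=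
    (faithfulSMul_iff_algebraMap_injective _ _).mpr (IsFractionRing.injective _ _)
  have hcomap : (p.map (Ideal.Quotient.mk q)).comap (Ideal.Quotient.mk q) = p := by
    rw [Ideal.comap_map_of_surjective _ Ideal.Quotient.mk_surjective, ← RingHom.ker_eq_comap_bot, Ideal.mk_ker,
      sup_eq_left.mpr hqp]
  haveI : Algebra.IsGeometricallyReduced k
      (IsLocalRing.ResidueField (Localization.AtPrime (p.map (Ideal.Quotient.mk q)))) := by
    refine Groth.Agent.H4NagJac.isGeometricallyReduced_residueField (L := L) _
      ((IsScalarTower.toAlgHom k (MvPowerSeries (Fin r) k ⧸ p) L).comp (Ideal.Quotient.factorₐ k hqp)) ?_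
    ext z
    obtain ⟨x, rfl⟩ := Ideal.Quotient.mk_surjective z
    rw [← Ideal.mem_comap (f := Ideal.Quotient.mk q), ← Ideal.mem_comap (f := Ideal.Quotient.mk q), hcomap,
      Ideal.mem_comap, RingHom.mem_ker]
    show algebraMap (MvPowerSeries (Fin r) k ⧸ p) L (Ideal.Quotient.mk p x) = 0 ↔ x ∈ p
    rw [map_eq_zero_iff _ (IsFractionRing.injective _ _), Ideal.Quotient.eq_zero_iff_mem]
  obtain ⟨e⟩ := Groth.Agent.RegLoc6.exists_quotLocalEquiv q p (p.map (Ideal.Quotient.mk q)) hcomap
  haveI : IsRegularRing (MvPowerSeries (Fin r) k) := Groth.Agent.S5784.result k r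
  haveI : IsRegularLocalRing (Localization.AtPrime p) := isRegularRing_iff.mp inferInstance p
  tfae_have 1 → 3 := fun h => by
    haveI := Groth.Agent.FlatLoc6.isRegularRing_of_geometricallyRegular
      (Groth.Agent.RegFS6.geometricallyRegular_of_fs h)
    exact IsRegularLocalRing.of_isRegularRing_of_isLocalRing _
  tfae_have 3 → 1 := fun h => by
    haveI := h
    exact Groth.Agent.RegFS6.fs_of_regular_of_separable_residue
  tfae_have 3 → 2 := fun h => by
    haveI := h
    haveI : IsRegularLocalRing (Localization.AtPrime p ⧸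
        q.map (algebraMap (MvPowerSeries (Fin r) k) (Localization.AtPrime p))) :=
      IsRegularLocalRing.of_ringEquiv (R := Localization.AtPrime (p.map (Ideal.Quotient.mk q)))
        (R' := Localization.AtPrime p ⧸ q.map (algebraMap (MvPowerSeries (Fin r) k) (Localization.AtPrime p))) e.symm
    have hI : q.map (algebraMap (MvPowerSeries (Fin r) k) (Localization.AtPrime p)) ≤
        maximalIdeal (Localization.AtPrime p) := by
      rw [← Localization.AtPrime.map_eq_maximalIdeal]
      exact Ideal.map_mono hqp
    obtain ⟨m, f, hfG, hli, hspan⟩ := Groth.Agent.H4NagJac.exists_indep_span_eq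
      (q.map (algebraMap (MvPowerSeries (Fin r) k) (Localization.AtPrime p)))
      (algebraMap (MvPowerSeries (Fin r) k) (Localization.AtPrime p) '' (q : Set (MvPowerSeries (Fin r) k))) rfl hI
    choose g hgq hg using hfG
    obtain ⟨σ, hσ⟩ := Groth.Agent.H4NagJac.exists_minor (s := s) (L' := L') (L := L)
      (Ideal.Quotient.mkₐ k p) Ideal.Quotient.mk_surjective p (fun x => Ideal.Quotient.eq_zero_iff_mem.symm)
      hinj g (fun i => hqp (hgq i)) (by
        convert hli using 1
        funext i
        exact congrArg _ (Subtype.ext (hg i)))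
    refine ⟨m, fun i => MvPowerSeries.pderiv k (σ i), g, hgq, ?_, hσ⟩
    rw [hspan]
    simp only [hg]
  tfae_have 2 → 3 := fun ⟨m, D, f, hfq, hspan, hdet⟩ => by
    have hfm : ∀ i, algebraMap (MvPowerSeries (Fin r) k) (Localization.AtPrime p) (f i) ∈
        maximalIdeal (Localization.AtPrime p) := fun i => by
      rw [← Localization.AtPrime.map_eq_maximalIdeal]
      exact Ideal.mem_map_of_mem _ (hqp (hfq i))
    haveI := (RegDeriv.regular_of_indep m (Localization.AtPrime p)
      (fun i => algebraMap (MvPowerSeries (Fin r) k) (Localization.AtPrime p) (f i)) hfm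
      (fun c hc => Groth.Agent.H4NagJac.indep_localization_of_det p f (fun i => hqp (hfq i)) (fun i => D i)
        (fun i => map_add (D i)) (fun i x y => by rw [Derivation.leibniz, smul_eq_mul, smul_eq_mul]) hdet c hc)).1
    exact IsRegularLocalRing.of_ringEquiv (R := Localization.AtPrime p ⧸ Ideal.span (Set.range fun i =>
        algebraMap (MvPowerSeries (Fin r) k) (Localization.AtPrime p) (f i)))
      (R' := Localization.AtPrime (p.map (Ideal.Quotient.mk q))) ((Ideal.quotEquivOfEq hspan.symm).trans e)
  tfae_finish
end Groth.Agent.S4612
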