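import Groth.Statements.S4649
import Groth.Agent.PtInt.Basic

set_option autoImplicit false
set_option linter.style.haveILetI false
set_option backward.isDefEq.respectTransparency false
set_option backward.isDefEq.respectTransparency.types false
open CategoryTheory AlgebraicGeometry
universe u
open FBase

attribute [-instance] CategoryTheory.catToReflQuiver

namespace Groth.Agent.S4649

/-- Let X be a scheme of finite type over a field k and Ω an algebraically closed extension field of k.
Then X is geometrically pointwise integral over k (every local ring of every X ⊗_k K is a domain) if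
and only if X is geometrically reduced over k and the number of irreducible components of X ⊗_k Ω
equals the number of connected components of X ⊗_k Ω (the geometric numbers of irreducible and of
connected components agree). -/
theorem result {k Ω : Type u} [Field k] [Field Ω] [Algebra k Ω] [IsAlgClosed Ω]
    {X : Scheme.{u}} (f : X ⟶ Spec (CommRingCat.of k)) [LocallyOfFiniteType f] [QuasiCompact f] :
    (∀ x : X, FBase.IsGeomPtIntegralAt f x) ↔
      (GeometricallyReduced f ∧
        Nat.card ↥(irreducibleComponents ↥(FBase.bc f Ω)) = Nat.card (_root_.ConnectedComponents ↥(FBase.bc f Ω))) := by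
  open CategoryTheory.Limits in
  rw [Groth.Agent.PtInt.forall_isGeomPtIntegralAt_iff_counts (Ω := Ω) f]
  haveI : LocallyOfFiniteType (FBase.bcStr f Ω) := MorphismProperty.pullback_snd _ _ inferInstance
  haveI : QuasiCompact (FBase.bcStr f Ω) := MorphismProperty.pullback_snd _ _ inferInstance
  haveI : IsLocallyNoetherian (FBase.bc f Ω) := LocallyOfFiniteType.isLocallyNoetherian (FBase.bcStr f Ω)
  haveI : CompactSpace ↥(FBase.bc f Ω) := QuasiCompact.compactSpace_of_compactSpace (FBase.bcStr f Ω)
  haveI : IsNoetherian (FBase.bc f Ω) := { }
  haveI : Finite ↥(irreducibleComponents ↥(FBase.bc f Ω)) :=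
    TopologicalSpace.NoetherianSpace.finite_irreducibleComponents.to_subtype
  haveI : Finite (_root_.ConnectedComponents ↥(FBase.bc f Ω)) :=
    Finite.of_surjective (fun C : irreducibleComponents ↥(FBase.bc f Ω) => (C.2.1.nonempty.some : _root_.ConnectedComponents ↥(FBase.bc f Ω))) fun c => by
      obtain ⟨x, rfl⟩ := ConnectedComponents.surjective_coe c
      exact ⟨⟨irreducibleComponent x, irreducibleComponent_mem_irreducibleComponents x⟩,
        ConnectedComponents.coe_eq_coe'.2 (isIrreducible_irreducibleComponent.isConnected.subset_connectedComponent
          mem_irreducibleComponent (isIrreducible_irreducibleComponent.nonempty.some_mem))⟩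
  refine and_congr_right' ?_
  rw [Set.encard, ENat.card_eq_coe_natCard, ENat.card_eq_coe_natCard, Nat.cast_inj, eq_comm]

end Groth.Agent.S4649
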