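import Groth.Statements.S4653
import Groth.Agent.FDescent.QuasiFlat
import Groth.Agent.S2286

set_option backward.isDefEq.respectTransparency false
set_option backward.isDefEq.respectTransparency.types false
-- import your own Groth.Agent.* helpers here

set_option autoImplicit false
open CategoryTheory AlgebraicGeometry
universe u
open FDesc

namespace Groth.Agent.S4653

open AlgebraicGeometry CategoryTheory

/-- A finite module, flat and nonzero over a local ring map, has support surjecting to the base. -/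
theorem exists_mem_support {A B : Type u} [CommRing A] [CommRing B] [IsLocalRing A] [IsLocalRing B]
    [Algebra A B] [IsLocalHom (algebraMap A B)] (N : Type u) [AddCommGroup N] [Module B N] [Module A N]
    [IsScalarTower A B N] [Module.Finite B N] [Module.Flat A N] [Nontrivial N] (p : PrimeSpectrum A) :
    ∃ q ∈ Module.support B N, PrimeSpectrum.comap (algebraMap A B) q = p := by
  let J := Module.annihilator B N
  have hJ : J ≤ IsLocalRing.maximalIdeal B := IsLocalRing.le_maximalIdeal fun h => by
    have : Subsingleton N := Module.annihilator_eq_top_iff.mp h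
    exact false_of_nontrivial_of_subsingleton N
  haveI : Nontrivial (B ⧸ J) := Ideal.Quotient.nontrivial_iff.2 fun h =>
    (IsLocalRing.maximalIdeal.isMaximal B).ne_top (top_le_iff.1 (h ▸ hJ))
  haveI : IsLocalRing (B ⧸ J) := IsLocalRing.of_surjective' (Ideal.Quotient.mk J) Ideal.Quotient.mk_surjective
  haveI : IsLocalHom (algebraMap A (B ⧸ J)) := by
    haveI : IsLocalHom (Ideal.Quotient.mk J) := IsLocalHom.of_surjective _ Ideal.Quotient.mk_surjective
    exact RingHom.isLocalHom_comp (Ideal.Quotient.mk J) (algebraMap A B)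
  letI : Module (B ⧸ J) N := (Module.isTorsionBySet_annihilator B N).module
  haveI : IsScalarTower B (B ⧸ J) N := (Module.isTorsionBySet_annihilator B N).isScalarTower
  haveI : IsScalarTower A (B ⧸ J) N := IsScalarTower.of_algebraMap_smul fun a n =>
    (IsScalarTower.algebraMap_smul (B ⧸ J) (algebraMap A B a) n).trans (IsScalarTower.algebraMap_smul B a n)
  haveI : Module.Finite (B ⧸ J) N := Module.Finite.of_restrictScalars_finite B _ _
  obtain ⟨q, hq⟩ := Groth.Agent.FDescent.comap_surjective_of_flat_module (A := A) (B := B ⧸ J) N p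
  refine ⟨PrimeSpectrum.comap (Ideal.Quotient.mk J) q, ?_, ?_⟩
  · rw [Module.support_eq_zeroLocus]
    exact (PrimeSpectrum.mem_zeroLocus _ _).2 fun a ha => by
      show Ideal.Quotient.mk J a ∈ q.asIdeal
      rw [Ideal.Quotient.eq_zero_iff_mem.2 ha]
      exact zero_mem _
  · rw [← hq]
    rfl

theorem mem_support_fromSpecStalk {X : Scheme.{u}} (F : X.Modules) (hF : Coh.IsQCoh F) (x : X)
    (q : PrimeSpectrum (X.presheaf.stalk x)) (hq : q ∈ Module.support (X.presheaf.stalk x) (F.presheaf.stalk x)) :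
    (X.fromSpecStalk x).base q ∈ CohB1.support F := by
  obtain ⟨_, ⟨W, hW, rfl⟩, hx, -⟩ :=
    X.isBasis_affineOpens.exists_subset_of_mem_open (Set.mem_univ x) isOpen_univ
  have hzx : (X.fromSpecStalk x).base q ⤳ x := by
    have : (X.fromSpecStalk x).base q ∈ Set.range (X.fromSpecStalk x).base := ⟨q, rfl⟩
    rwa [Scheme.range_fromSpecStalk] at this
  have hzW : (X.fromSpecStalk x).base q ∈ W := hzx.mem_open W.2 hx
  refine (QCoh.mem_moduleSupport_iff hF hW hzW).1 ?_
  have hp : hW.primeIdealOf ⟨_, hzW⟩ = PrimeSpectrum.comap (X.presheaf.germ W x hx).hom q := by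
    refine hW.fromSpec.isOpenEmbedding.injective ?_
    rw [hW.fromSpec_primeIdealOf]
    show (X.fromSpecStalk x).base q = _
    rw [← hW.fromSpecStalk_eq_fromSpecStalk hx]
    rfl
  rw [hp, Module.mem_support_iff']
  letI := QCoh.stalkModule F hx
  haveI := QCoh.isLocalizedModule_germLin hF hW hx
  obtain ⟨m, hm⟩ := Module.mem_support_iff'.1 hq
  obtain ⟨⟨n, t⟩, hn⟩ := IsLocalizedModule.surj (hW.primeIdealOf ⟨x, hx⟩).asIdeal.primeCompl
    (QCoh.germLin F hx) m
  refine ⟨n, fun g hg hgn => ?_⟩
  have h1 : X.presheaf.germ W x hx (g * t.1) • m = 0 := by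
    have h2 : (X.presheaf.germ W x hx t.1) • m = F.presheaf.germ W x hx n := hn
    rw [map_mul, mul_smul, h2, ← QCoh.germ_smul', hgn, map_zero]
  refine hm _ ?_ h1
  rw [map_mul]
  refine fun h => (q.isPrime.mem_or_mem h).elim hg fun h' => q.isPrime.ne_top (Ideal.eq_top_of_isUnit_mem _ h' ?_)
  letI := QCoh.stalkAlg (X := X) hx
  haveI := QCoh.isLocalization_stalk' hW hx
  exact IsLocalization.map_units (X.presheaf.stalk x) t

theorem going_down {X Y : Scheme.{u}} (f : X ⟶ Y) (F : X.Modules) (hF : Coh.IsCoh F)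
    (hfl : FlatMod.IsFlatOver f F) {x : X} (hx : x ∈ CohB1.support F) {w : Y} (hw : w ⤳ f x) :
    ∃ z ∈ CohB1.support F, z ⤳ x ∧ f z = w := by
  have hy' : w ∈ Set.range (Y.fromSpecStalk (f x)).base := by
    rw [Scheme.range_fromSpecStalk]
    exact hw
  obtain ⟨p, rfl⟩ := hy'
  letI := (f.stalkMap x).hom.toAlgebra
  letI := FlatMod.moduleStalkOver f F x
  haveI : IsScalarTower (Y.presheaf.stalk (f x)) (X.presheaf.stalk x) (F.presheaf.stalk x) :=
    IsScalarTower.of_algebraMap_smul fun _ _ => rfl
  haveI : Module.Finite (X.presheaf.stalk x) (F.presheaf.stalk x) := QCoh.finite_stalk_of_isFT hF.1 hF.2 x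
  haveI : Module.Flat (Y.presheaf.stalk (f x)) (F.presheaf.stalk x) := hfl x
  haveI : Nontrivial (F.presheaf.stalk x) := not_subsingleton_iff_nontrivial.1 hx
  haveI : IsLocalHom (algebraMap (Y.presheaf.stalk (f x)) (X.presheaf.stalk x)) :=
    inferInstanceAs (IsLocalHom (f.stalkMap x).hom)
  obtain ⟨q, hq, hqp⟩ := exists_mem_support (A := Y.presheaf.stalk (f x)) (B := X.presheaf.stalk x)
    (F.presheaf.stalk x) p
  subst hqp
  refine ⟨(X.fromSpecStalk x).base q, mem_support_fromSpecStalk F hF.1 x q hq, ?_, ?_⟩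
  · have : (X.fromSpecStalk x).base q ∈ Set.range (X.fromSpecStalk x).base := ⟨q, rfl⟩
    rwa [Scheme.range_fromSpecStalk] at this
  · rw [← Scheme.Hom.comp_apply, ← Scheme.SpecMap_stalkMap_fromSpecStalk]
    rfl

/-- Let f : X → Y be a morphism of schemes, F a quasi-coherent O_X-module of finite type which is flat
over Y, E a quasi-coherent O_Y-module of finite type, and x a point of X with image y. Then x is a
maximal point of the support of f^*E ⊗ F (a point of the support admitting no proper generization in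
it) if and only if y is a maximal point of Supp E and x, viewed in the fibre f⁻¹(y), is a maximal
point of the support of the restriction of F to that fibre. -/
theorem result {X Y : Scheme.{u}} (f : X ⟶ Y) (F : X.Modules) (hF : Coh.IsCoh F)
    (hfl : FlatMod.IsFlatOver f F) (E : Y.Modules) (hE : Coh.IsCoh E) (x : X) :
    (x ∈ CohB1.support (CohB1.tensorMod ((Scheme.Modules.pullback f).obj E) F) ∧
        ∀ z ∈ CohB1.support (CohB1.tensorMod ((Scheme.Modules.pullback f).obj E) F), z ⤳ x → z = x) ↔
      ((f x ∈ CohB1.support E ∧ ∀ w ∈ CohB1.support E, w ⤳ f x → w = f x) ∧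
        (f.asFiber x ∈ CohB1.support ((Scheme.Modules.pullback (f.fiberι (f x))).obj F) ∧
          ∀ z ∈ CohB1.support ((Scheme.Modules.pullback (f.fiberι (f x))).obj F), z ⤳ f.asFiber x → z = f.asFiber x)) := by
  rw [S2286.tensorMod_eq, S2286.support_tensor _ _ (QCoh.isQCoh_pullback _ hE.1)
    (QCoh.isFT_pullback _ hE.1 hE.2) hF.1 hF.2, QCoh.support_pullback f hE.1 hE.2,
    QCoh.support_pullback (f.fiberι (f x)) hF.1 hF.2]
  have hι : f.fiberι (f x) (f.asFiber x) = x := f.fiberι_asFiber x
  constructor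
  · rintro ⟨⟨hxE, hxF⟩, hmax⟩
    refine ⟨⟨hxE, fun w hw hwx => ?_⟩, ?_, fun z hz hzx => ?_⟩
    · obtain ⟨z, hz, hzx, rfl⟩ := going_down f F hF hfl hxF hwx
      rw [hmax z ⟨hw, hz⟩ hzx]
    · show f.fiberι (f x) (f.asFiber x) ∈ CohB1.support F
      rw [hι]
      exact hxF
    · refine (f.fiberι (f x)).isEmbedding.injective ?_
      have hfz : f (f.fiberι (f x) z) = f x := by
        have : f.fiberι (f x) z ∈ Set.range (f.fiberι (f x)) := ⟨z, rfl⟩
        rwa [Scheme.Hom.range_fiberι] at this
      have h := hzx.map (f.fiberι (f x)).continuous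
      rw [hι] at h
      exact (hmax _ ⟨Set.mem_preimage.2 (hfz.symm ▸ Set.mem_preimage.1 hxE), hz⟩ h).trans hι.symm
  · rintro ⟨⟨hxE, hE'⟩, hxF, hF'⟩
    rw [Set.mem_preimage, hι] at hxF
    refine ⟨⟨hxE, hxF⟩, fun z ⟨hzE, hzF⟩ hzx => ?_⟩
    have hfz : f z = f x := hE' _ hzE (hzx.map f.continuous)
    obtain ⟨z', rfl⟩ : z ∈ Set.range (f.fiberι (f x)) := by
      rw [Scheme.Hom.range_fiberι]
      exact hfz
    have h : z' ⤳ f.asFiber x := by
      rw [← (f.fiberι (f x)).isEmbedding.isInducing.specializes_iff]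
      convert hzx using 1
    rw [hF' z' hzF h, hι]

end Groth.Agent.S4653
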