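import Groth.Statements.S4677
import Groth.Agent.FlatLoc6.GeomExt
import Groth.Agent.EGA41Lib.FieldFS
-- import your own Groth.Agent.* helpers here

set_option autoImplicit false
open scoped TensorProduct
universe u
open FBase

namespace Groth.Agent.S4677

/-- Let K be a finitely generated extension field of a field k. Then there exists a finite purely
inseparable extension k' of k such that, for every maximal ideal m of the ring k' ⊗_k K, the residue
field (k' ⊗_k K)/m is geometrically reduced over k' (a separable, not necessarily algebraic,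
extension of k'). -/
theorem result {k K : Type u} [Field k] [Field K] [Algebra k K]
    [Algebra.EssFiniteType k K] :
    ∃ (k' : Type u) (_ : Field k') (_ : Algebra k k'), FiniteDimensional k k' ∧ IsPurelyInseparable k k' ∧
      ∀ (m : Ideal (k' ⊗[k] K)), m.IsMaximal → Algebra.IsGeometricallyReduced k' ((k' ⊗[k] K) ⧸ m) := by
  obtain ⟨k', _, _, F, _, _, _, _, K', _, _, _, _, _, _, _, _, hfin, hpi, ⟨ι, hι, ⟨eF⟩⟩, hFK, hsep⟩ :=
    Groth.Agent.FlatLoc6.exists_insep_model k K
  refine ⟨k', inferInstance, inferInstance, hfin, hpi, fun m hm => ?_⟩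
  haveI : Algebra.FormallySmooth k' (FractionRing (MvPolynomial ι k')) :=
    haveI : Algebra.FormallySmooth (MvPolynomial ι k') (FractionRing (MvPolynomial ι k')) :=
      Algebra.FormallySmooth.of_isLocalization (nonZeroDivisors (MvPolynomial ι k'))
    Algebra.FormallySmooth.comp k' (MvPolynomial ι k') _
  haveI : Algebra.FormallySmooth k' F := Algebra.FormallySmooth.of_equiv eF
  haveI : Algebra.FormallyEtale F K' := Algebra.FormallyEtale.of_isSeparable F K'
  haveI : Algebra.FormallySmooth k' K' := Algebra.FormallySmooth.comp k' F K'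
  haveI : Algebra.IsGeometricallyReduced k' K' :=
    Groth.Agent.EGA41Lib.FieldFS.isGeometricallyReduced_of_formallySmooth k' K'
  let φ : k' ⊗[k] K →ₐ[k'] K' :=
    Algebra.TensorProduct.lift (Algebra.ofId k' K') (IsScalarTower.toAlgHom k K K') (fun _ _ => Commute.all _ _)
  have hp : (RingHom.ker φ).IsPrime := RingHom.ker_isPrime φ.toRingHom
  haveI := hm.isPrime
  haveI : Subsingleton (PrimeSpectrum (k' ⊗[k] K)) := by
    let e := PrimeSpectrum.homeomorphOfRingEquiv (Algebra.TensorProduct.comm k k' K).toRingEquiv
    haveI : Subsingleton (PrimeSpectrum (K ⊗[k] k')) :=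
      (PrimeSpectrum.isHomeomorph_comap_of_isPurelyInseparable k k' K).injective.subsingleton
    exact e.injective.subsingleton
  have hmk : m = RingHom.ker φ :=
    congrArg PrimeSpectrum.asIdeal (Subsingleton.elim (⟨m, hm.isPrime⟩ : PrimeSpectrum (k' ⊗[k] K)) ⟨RingHom.ker φ, hp⟩)
  subst hmk
  exact Algebra.IsGeometricallyReduced.of_injective (Ideal.kerLiftAlg φ) (Ideal.kerLiftAlg_injective φ)

end Groth.Agent.S4677
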