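import Groth.Statements.S4684
import Groth.Agent.H4GenFib.Main

set_option backward.isDefEq.respectTransparency false
set_option backward.isDefEq.respectTransparency.types false
-- import your own Groth.Agent.* helpers here

set_option autoImplicit false
open CategoryTheory AlgebraicGeometry
universe u
open FDesc

namespace Groth.Agent.S4684

/-- Let Y be an integral locally Noetherian scheme all of whose local rings are regular of dimension at
most one, with generic point η; let f : X → Y be a morphism, i : X_η → X the inclusion of the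
generic fibre, F a quasi-coherent O_X-module and π : i^*F → G' a quotient of its restriction to the
generic fibre, with G' quasi-coherent. Then there exist a quasi-coherent quotient ρ : F → G of F
which is flat over Y and an isomorphism i^*G ≅ G' carrying i^*ρ to π; and any two such quotients are
isomorphic under F. (The published statement takes Y of dimension exactly one and constructs G as
the image of F in i_*G'.) -/
theorem result {X Y : Scheme.{u}} [IsIntegral Y] [IsLocallyNoetherian Y]
    (hY : ∀ y : Y, IsRegularLocalRing (Y.presheaf.stalk y) ∧ ringKrullDim (Y.presheaf.stalk y) ≤ 1)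
    (f : X ⟶ Y) (F : X.Modules) (hF : Coh.IsQCoh F) (G' : (f.fiber (genericPoint Y)).Modules) (hG' : Coh.IsQCoh G')
    (π : (Scheme.Modules.pullback (f.fiberι (genericPoint Y))).obj F ⟶ G') [Epi π] :
    (∃ (G : X.Modules) (ρ : F ⟶ G) (e : (Scheme.Modules.pullback (f.fiberι (genericPoint Y))).obj G ≅ G'),
        Epi ρ ∧ Coh.IsQCoh G ∧ FlatMod.IsFlatOver f G ∧
          (Scheme.Modules.pullback (f.fiberι (genericPoint Y))).map ρ ≫ e.hom = π) ∧
      ∀ (G₁ G₂ : X.Modules) (ρ₁ : F ⟶ G₁) (ρ₂ : F ⟶ G₂)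
        (e₁ : (Scheme.Modules.pullback (f.fiberι (genericPoint Y))).obj G₁ ≅ G')
        (e₂ : (Scheme.Modules.pullback (f.fiberι (genericPoint Y))).obj G₂ ≅ G'),
        Epi ρ₁ → Epi ρ₂ → Coh.IsQCoh G₁ → Coh.IsQCoh G₂ → FlatMod.IsFlatOver f G₁ → FlatMod.IsFlatOver f G₂ →
        (Scheme.Modules.pullback (f.fiberι (genericPoint Y))).map ρ₁ ≫ e₁.hom = π →
        (Scheme.Modules.pullback (f.fiberι (genericPoint Y))).map ρ₂ ≫ e₂.hom = π →
        ∃ e : G₁ ≅ G₂, ρ₁ ≫ e.hom = ρ₂ := by
  let ι := f.fiberι (genericPoint Y)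
  haveI : IsAffineHom ι := H4GenFib.isAffineHom_fiberι f
  haveI : Flat ι := H4GenFib.flat_fiberι f
  haveI := LimMod.preservesHomology_pullback ι
  haveI := Functor.preservesFiniteLimits_of_preservesHomology (Scheme.Modules.pullback ι)
  let adj := Scheme.Modules.pullbackPushforwardAdjunction ι
  haveI : IsIso (adj.counit.app G') :=
    H4GenFib.isIso_counit ι ι.isEmbedding.isInducing ι.stalkMap_surjective G'
  let φ := adj.homEquiv F G' π
  refine ⟨?_, ?_⟩
  · let G := Abelian.image φ
    let ρ := Abelian.factorThruImage φ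
    let m := Abelian.image.ι φ
    have hP : Coh.IsQCoh ((Scheme.Modules.pushforward ι).obj G') := QCoh.isQCoh_pushforward ι hG'
    have hG : Coh.IsQCoh G := QCoh.isQCoh_kernel hP (QCoh.isQCoh_cokernel hF hP φ) _
    let e := (adj.homEquiv G G').symm m
    have hfac : (Scheme.Modules.pullback ι).map ρ ≫ e = π := by
      rw [← adj.homEquiv_naturality_left_symm, Abelian.image.fac]
      exact (adj.homEquiv F G').symm_apply_apply π
    haveI : Mono e := by
      rw [show e = (Scheme.Modules.pullback ι).map m ≫ adj.counit.app G' from adj.homEquiv_counit G G' m]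
      infer_instance
    haveI : Epi e := epi_of_epi_fac hfac
    haveI : IsIso e := isIso_of_mono_of_epi e
    exact ⟨G, ρ, asIso e, inferInstance, hG, H4GenFib.flat_of_mono f hY m, hfac⟩
  · intro G₁ G₂ ρ₁ ρ₂ e₁ e₂ hρ₁ hρ₂ h₁ h₂ hf₁ hf₂ he₁ he₂
    haveI := H4GenFib.mono_unit f h₁ hf₁
    haveI := H4GenFib.mono_unit f h₂ hf₂
    let m₁ := adj.homEquiv G₁ G' e₁.hom
    let m₂ := adj.homEquiv G₂ G' e₂.hom
    haveI : Mono m₁ := by
      rw [show m₁ = adj.unit.app G₁ ≫ (Scheme.Modules.pushforward ι).map e₁.hom from adj.homEquiv_unit G₁ G' e₁.hom]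
      exact @mono_comp _ _ _ _ _ _ ‹_› _ inferInstance
    haveI : Mono m₂ := by
      rw [show m₂ = adj.unit.app G₂ ≫ (Scheme.Modules.pushforward ι).map e₂.hom from adj.homEquiv_unit G₂ G' e₂.hom]
      exact @mono_comp _ _ _ _ _ _ ‹_› _ inferInstance
    have c₁ : ρ₁ ≫ m₁ = φ := by
      rw [← adj.homEquiv_naturality_left, he₁]
    have c₂ : ρ₂ ≫ m₂ = φ := by
      rw [← adj.homEquiv_naturality_left, he₂]
    haveI : StrongEpi ρ₁ := strongEpi_of_epi ρ₁
    haveI : StrongEpi ρ₂ := strongEpi_of_epi ρ₂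
    have sq₁ : CommSq ρ₂ ρ₁ m₂ m₁ := ⟨c₂.trans c₁.symm⟩
    have sq₂ : CommSq ρ₁ ρ₂ m₁ m₂ := ⟨c₁.trans c₂.symm⟩
    exact ⟨⟨sq₁.lift, sq₂.lift,
      by rw [← cancel_mono m₁, Category.assoc, sq₂.fac_right, sq₁.fac_right, Category.id_comp],
      by rw [← cancel_mono m₂, Category.assoc, sq₁.fac_right, sq₂.fac_right, Category.id_comp]⟩, sq₁.fac_left⟩

end Groth.Agent.S4684
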