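import Groth.Statements.S4690
import Groth.Agent.DimFormula.DimAdd

set_option autoImplicit false
universe u
open EGA4

namespace Groth.Agent.S4690

theorem withBot_add_cancel {a b : WithBot ℕ∞} {e : ℕ}
    (h : b + ((e : ℕ∞) : WithBot ℕ∞) = a + ((e : ℕ∞) : WithBot ℕ∞)) : b = a := by
  induction b with
  | bot => induction a with
    | bot => rfl
    | coe a => exact absurd ((WithBot.bot_add _).symm.trans (h.trans (WithBot.coe_add _ _).symm)) WithBot.bot_ne_coe
  | coe b => induction a with
    | bot => exact absurd (((WithBot.coe_add _ _).trans h).trans (WithBot.bot_add _)) WithBot.coe_ne_bot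
    | coe a =>
      rw [← WithBot.coe_add, ← WithBot.coe_add, WithBot.coe_inj] at h
      exact congrArg _ ((WithTop.add_right_inj (ENat.coe_ne_top e)).1 h)

open AlgebraicGeometry CategoryTheory in
/-- Let Y be an irreducible locally Noetherian scheme, X an irreducible scheme and f : X → Y a dominant
morphism locally of finite type; let e be the dimension of the generic fibre of f. Then dim X ≤ dim
Y + e. If moreover every local ring of Y is universally catenary, the two sides are equal if and
only if dim Y equals the supremum of the dimensions of the local rings of Y at the points of f(X). -/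
theorem result {X Y : Scheme.{u}} (f : X ⟶ Y) [IsLocallyNoetherian Y]
    [LocallyOfFiniteType f] [IrreducibleSpace X] [IrreducibleSpace Y] (hf : DenseRange f.base) :
    topologicalKrullDim X ≤ topologicalKrullDim Y + topologicalKrullDim (f.fiber (genericPoint Y)) ∧
      ((∀ y : Y, CAlg.IsUniversallyCatenary (Y.presheaf.stalk y)) →
        (topologicalKrullDim X = topologicalKrullDim Y + topologicalKrullDim (f.fiber (genericPoint Y)) ↔
          topologicalKrullDim Y = ⨆ y ∈ Set.range f.base, ringKrullDim (Y.presheaf.stalk y))) := by
  haveI : IsDominant f := ⟨hf⟩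
  haveI := LocallyOfFiniteType.isLocallyNoetherian f
  obtain ⟨-, he⟩ := Groth.Agent.DimFormula.generic_fibre_dim f
  rw [he]
  refine ⟨Groth.Agent.DimFormula.dim_le_of_codim fun x => ?_, fun hY => ?_⟩
  · refine le_trans ?_ (add_le_add (Groth.Agent.DimFormula.codim_le_dim (f x)) le_rfl)
    have := (Groth.Agent.DimFormula.codim_formula f x).1
    exact_mod_cast (show Groth.Agent.DimFormula.codim x ≤
      Groth.Agent.DimFormula.codim (f x) + Groth.Agent.FibDim.rd f (genericPoint X) by omega)
  · have e : (⨆ y ∈ Set.range f.base, ringKrullDim (Y.presheaf.stalk y)) =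
        ⨆ y ∈ Set.range f, (((Groth.Agent.DimFormula.codim y : ℕ) : ℕ∞) : WithBot ℕ∞) := by
      simp only [Groth.Agent.DimFormula.ringKrullDim_stalk]
      rfl
    rw [Groth.Agent.DimFormula.dim_eq_add f hY, e]
    refine ⟨fun h => ?_, fun h => by rw [h]⟩
    revert h
    generalize topologicalKrullDim ↥Y = a
    generalize (⨆ y ∈ Set.range f, (((Groth.Agent.DimFormula.codim y : ℕ) : ℕ∞) : WithBot ℕ∞)) = b
    intro h
    exact ((withBot_add_cancel h).symm)

end Groth.Agent.S4690
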