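import Groth.Statements.S4691
import Groth.Agent.DimFormula.DimAdd

set_option autoImplicit false
universe u
open EGA4

namespace Groth.Agent.S4691

open AlgebraicGeometry CategoryTheory in
/-- Let Y be a locally Noetherian scheme, f : X → Y a morphism locally of finite type and n a natural
number such that every fibre of f has dimension at most n. Then dim X ≤ dim Y + n. -/
theorem result {X Y : Scheme.{u}} (f : X ⟶ Y) [IsLocallyNoetherian Y]
    [LocallyOfFiniteType f] (n : ℕ) (h : ∀ y : Y, topologicalKrullDim (f.fiber y) ≤ n) :
    topologicalKrullDim X ≤ topologicalKrullDim Y + n := by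
  haveI := LocallyOfFiniteType.isLocallyNoetherian f
  refine Groth.Agent.DimFormula.dim_le_of_codim fun x => ?_
  refine le_trans ?_ (add_le_add (Groth.Agent.DimFormula.codim_le_dim (f x))
    ((Groth.Agent.DimFormula.fb_le_dim_fiber f x).trans le_rfl) |>.trans (add_le_add le_rfl (h (f x))))
  exact_mod_cast Groth.Agent.DimFormula.codim_le_add f x

end Groth.Agent.S4691
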