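import Groth.Statements.S4692
import Groth.Agent.DimFormula.DimAdd
import Groth.Agent.S4691

set_option autoImplicit false
universe u
open EGA4

namespace Groth.Agent.S4692

open AlgebraicGeometry CategoryTheory in
/-- Let Y be a locally Noetherian scheme all of whose local rings are universally catenary, X an
irreducible scheme, f : X → Y a morphism locally of finite type and n a natural number. If every
fibre of f has dimension at least n then dim X ≥ dim Y + n; if every fibre has dimension exactly n
then dim X = dim Y + n. (The empty scheme has dimension ⊥, so either hypothesis forces f to be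
surjective.) -/
theorem result {X Y : Scheme.{u}} (f : X ⟶ Y) [IsLocallyNoetherian Y]
    [LocallyOfFiniteType f] [IrreducibleSpace X] (hY : ∀ y : Y, CAlg.IsUniversallyCatenary (Y.presheaf.stalk y))
    (n : ℕ) :
    ((∀ y : Y, (n : WithBot ℕ∞) ≤ topologicalKrullDim (f.fiber y)) →
        topologicalKrullDim Y + n ≤ topologicalKrullDim X) ∧
      ((∀ y : Y, topologicalKrullDim (f.fiber y) = n) →
        topologicalKrullDim X = topologicalKrullDim Y + n) := by
  haveI := LocallyOfFiniteType.isLocallyNoetherian f
  have key : (∀ y : Y, (n : WithBot ℕ∞) ≤ topologicalKrullDim (f.fiber y)) →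
      topologicalKrullDim Y + n ≤ topologicalKrullDim X := by
    intro h
    have hsurj : ∀ y : Y, y ∈ Set.range f := fun y => by
      by_contra hy
      haveI : IsEmpty ↥(f.fiber y) := ⟨fun z => hy ⟨f.fiberι y z, Groth.Agent.FibDim.fiber_apply_fiberι f z⟩⟩
      have := h y
      rw [Groth.Agent.DimFormula.topDim_eq_krullDim, Order.krullDim_eq_bot] at this
      exact (WithBot.natCast_ne_bot n) (le_bot_iff.1 this)
    haveI : IrreducibleSpace Y := by
      rw [irreducibleSpace_def, show (⊤ : Set Y) = f '' Set.univ by
        rw [Set.image_univ, Set.range_eq_univ.2 (show Function.Surjective f from hsurj)]; rfl]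
      exact (irreducibleSpace_def X |>.1 inferInstance).image f f.continuous.continuousOn
    haveI : IsDominant f := ⟨(show Function.Surjective f from hsurj).denseRange⟩
    obtain ⟨-, he⟩ := Groth.Agent.DimFormula.generic_fibre_dim f
    rw [Groth.Agent.DimFormula.dim_eq_add f hY]
    refine add_le_add (Groth.Agent.DimFormula.dim_le_of_codim fun y => le_iSup₂_of_le y (hsurj y) le_rfl) ?_
    exact (h _).trans he.le
  exact ⟨key, fun h => le_antisymm
    (Groth.Agent.S4691.result f n fun y => (h y).le) (key fun y => (h y).ge)⟩

end Groth.Agent.S4692
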