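import Groth.Statements.S4693
import Groth.Agent.FlatLoc6.DimEq
import Groth.Agent.FlatLoc6.Supp

set_option autoImplicit false
universe u
open EGA4
open scoped TensorProduct

namespace Groth.Agent.S4693

/-- Let A → B be a local homomorphism of Noetherian local rings such that the closed fibre ring B/m_A B
has Krull dimension 0 (that is, m_A B is an ideal of definition of B). Then dim B ≤ dim A. If
moreover some finite B-module which is flat over A has support equal to all of Spec B (for instance
if B is flat over A), then dim B = dim A. -/
theorem result (A B : Type u) [CommRing A] [CommRing B] [IsNoetherianRing A]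
    [IsNoetherianRing B] [IsLocalRing A] [IsLocalRing B] [Algebra A B] [IsLocalHom (algebraMap A B)]
    (h0 : ringKrullDim (EGA4.FibRing A B) = 0) :
    ringKrullDim B ≤ ringKrullDim A ∧
      (∀ (N : Type u) [AddCommGroup N] [Module B N] [Module A N] [IsScalarTower A B N] [Module.Finite B N]
          [Module.Flat A N], Module.support B N = Set.univ → ringKrullDim B = ringKrullDim A) := by
  refine ⟨?_, ?_⟩
  · have := Groth.Agent.FlatLoc6.ringKrullDim_le_add_fibre (A := A) (B := B)
    rwa [h0, add_zero] at this
  intro N _ _ _ _ _ _ hsupp
  haveI : Nontrivial N := by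
    by_contra h
    rw [not_nontrivial_iff_subsingleton] at h
    rw [Module.support_eq_empty] at hsupp
    exact (Set.empty_ne_univ hsupp).elim
  have h1 := Groth.Agent.FlatLoc6.supportDim_tensor (A := A) (B := B) (N := N) (M := A)
  have h2 : Module.supportDim B (N ⊗[A] A) = ringKrullDim B := by
    rw [Module.supportDim_eq_of_equiv (TensorProduct.AlgebraTensorModule.rid A B N)]
    show Order.krullDim (Module.support B N) = _
    rw [hsupp]
    exact Order.krullDim_eq_of_orderIso (OrderIso.Set.univ)
  have h3 : Module.supportDim A A = ringKrullDim A := Module.supportDim_self_eq_ringKrullDim A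
  rw [h2, h3, ← Groth.Agent.FlatLoc6.supportDim_fibMod (A := A) (B := B) (N := N)] at h1
  have h4 : Module.supportDim (EGA4.FibRing A B) (EGA4.FibMod A B N) ≤ 0 :=
    h0 ▸ Module.supportDim_le_ringKrullDim _ _
  haveI : Nontrivial (EGA4.FibMod A B N) := by
    refine Submodule.Quotient.nontrivial_iff.mpr fun h => ?_
    have := Submodule.eq_bot_of_le_smul_of_le_jacobson_bot (EGA4.mB A B) (⊤ : Submodule B N)
      Module.Finite.fg_top h.ge ((IsLocalRing.map_maximalIdeal_le (algebraMap A B)).trans
        (IsLocalRing.maximalIdeal_le_jacobson _))
    exact not_subsingleton N (Submodule.subsingleton_iff B |>.mp (subsingleton_of_bot_eq_top this.symm))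
  haveI : Nonempty (Module.support (EGA4.FibRing A B) (EGA4.FibMod A B N)) :=
    Set.nonempty_coe_sort.mpr (Module.nonempty_support_iff.mpr inferInstance)
  have h5 : 0 ≤ Module.supportDim (EGA4.FibRing A B) (EGA4.FibMod A B N) :=
    Order.krullDim_nonneg
  rw [le_antisymm h4 h5, add_zero] at h1
  exact h1

end Groth.Agent.S4693
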