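import Groth.Statements.S4694
import Groth.Agent.FlatLoc6.Depth
import Groth.Agent.LC.ExtDim
import Mathlib.RingTheory.FiniteLength

set_option autoImplicit false
universe u
open EGA4

namespace Groth.Agent.S4694

open TensorProduct in
/-- Let A → B be a local homomorphism of Noetherian local rings, M a finite A-module and N a nonzero
finite B-module, flat over A, whose closed-fibre module N/m_A N has finite length. Then the depth of
the B-module N ⊗_A M equals the depth of the A-module M. (The companion equality of codepths in the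
published item is not restated.) -/
theorem result {A B M N : Type u} [CommRing A] [CommRing B]
    [IsNoetherianRing A] [IsNoetherianRing B] [IsLocalRing A] [IsLocalRing B] [Algebra A B]
    [IsLocalHom (algebraMap A B)] [AddCommGroup M] [Module A M] [Module.Finite A M]
    [AddCommGroup N] [Module B N] [Module A N] [IsScalarTower A B N] [Module.Finite B N] [Nontrivial N]
    [Module.Flat A N] (hN : IsFiniteLength B (EGA4.FibMod A B N)) :
    LocCoh.depth B (N ⊗[A] M) = LocCoh.depth A M := by
  rcases subsingleton_or_nontrivial M with hM | hM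
  · have h1 : LocCoh.depth A M = ⊤ := by
      rw [LocCoh.depth, LocCoh.idealDepth, if_pos (Subsingleton.elim _ _)]
    have h2 : LocCoh.depth B (N ⊗[A] M) = ⊤ := by
      rw [LocCoh.depth, LocCoh.idealDepth, if_pos (Subsingleton.elim _ _)]
    rw [h1, h2]
  haveI hn : Nontrivial (N ⧸ FlatLoc6.mN A B N) := FlatLoc6.nontrivial_quot_mN (A := A) (B := B) N
  have h0 : LocCoh.depth B (N ⧸ FlatLoc6.mN A B N) = 0 := by
    have hfl : IsFiniteLength B (N ⧸ FlatLoc6.mN A B N) := hN
    obtain ⟨p, hp⟩ := associatedPrimes.nonempty B (N ⧸ FlatLoc6.mN A B N)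
    obtain ⟨hpp, x, hx⟩ := Alg6.mem_ass_iff.1 hp
    haveI : p.IsPrime := hpp
    have hl : IsFiniteLength B (B ⧸ p) := by
      refine IsFiniteLength.of_injective hfl (f := Submodule.liftQ p (LinearMap.toSpanSingleton B _ x) ?_) ?_
      · exact fun a ha => LinearMap.mem_ker.2 ((hx a).1 ha)
      · rw [← LinearMap.ker_eq_bot, Submodule.ker_liftQ_eq_bot]
        exact fun a ha => (hx a).2 (LinearMap.mem_ker.1 ha)
    haveI := (isFiniteLength_iff_isNoetherian_isArtinian.1 hl).2
    haveI : IsArtinianRing (B ⧸ p) := isArtinian_of_tower B ‹IsArtinian B (B ⧸ p)›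
    haveI : p.IsMaximal := Ideal.Quotient.maximal_of_isField p (IsArtinianRing.isField_of_isDomain (B ⧸ p))
    refine le_antisymm ((LC.depth_le_coheight_of_ass _ (p := ⟨p, inferInstance⟩) hp).trans ?_) bot_le
    rw [Order.coheight_eq_zero.2]
    exact PrimeSpectrum.isMax_iff.2 ‹_›
  rw [FlatLoc6.depth_tensor, FlatLoc6.depth_fibMod, h0, add_zero]

end Groth.Agent.S4694
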