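import Groth.Statements.S4699
import Groth.Agent.H4Sk.Generic

set_option autoImplicit false
set_option backward.isDefEq.respectTransparency false
set_option backward.isDefEq.respectTransparency.types false
universe u
open EGA4

namespace Groth.Agent.S4699

/-- Let A be a Noetherian ring, M a finite A-module and I an ideal of A whose radical p is a prime ideal
lying in the support of M (so V(I) is an irreducible closed subset whose generic point is in Supp
M). Then there is an element f outside p such that, for every prime q containing I with f outside q,
the dimension of M_q is the dimension of M_p plus the dimension of (A/I)_q, and the depth of M_q is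
the depth of M_p plus the depth of (A/I)_q (the module (A/I)_q = A_q / I A_q being regarded over
A_q). -/
theorem result (A : Type u) [CommRing A] [IsNoetherianRing A]
    (M : Type u) [AddCommGroup M] [Module A M] [Module.Finite A M] (I : Ideal A) [I.radical.IsPrime]
    (hp : (⟨I.radical, inferInstance⟩ : PrimeSpectrum A) ∈ Module.support A M) :
    ∃ f : A, f ∉ I.radical ∧ ∀ (q : Ideal A) [q.IsPrime], I ≤ q → f ∉ q →
      Module.supportDim (Localization.AtPrime q) (LocalizedModule q.primeCompl M) =
          Module.supportDim (Localization.AtPrime I.radical) (LocalizedModule I.radical.primeCompl M) +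
            Module.supportDim (Localization.AtPrime q)
              (Localization.AtPrime q ⧸ I.map (algebraMap A (Localization.AtPrime q))) ∧
        LocCoh.depth (Localization.AtPrime q) (LocalizedModule q.primeCompl M) =
          LocCoh.depth (Localization.AtPrime I.radical) (LocalizedModule I.radical.primeCompl M) +
            LocCoh.depth (Localization.AtPrime q)
              (Localization.AtPrime q ⧸ I.map (algebraMap A (Localization.AtPrime q))) := by
  classical
  obtain ⟨f₁, hf₁, h₁⟩ := H4Sk.exists_add I.radical M hp
  have hann : Module.annihilator A (A ⧸ I) = I := Ideal.annihilator_quotient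
  have hsupp : (⟨I.radical, inferInstance⟩ : PrimeSpectrum A) ∈ Module.support A (A ⧸ I) :=
    Module.mem_support_iff_of_finite.2 (hann.trans_le I.le_radical)
  obtain ⟨f₂, hf₂, h₂⟩ := H4Sk.exists_add I.radical (A ⧸ I) hsupp
  have hmin : I.radical ∈ (Module.annihilator A (A ⧸ I)).minimalPrimes := by
    rw [hann, ← Ideal.radical_minimalPrimes, Ideal.minimalPrimes_eq_subsingleton_self]; rfl
  have hass : I.radical ∈ associatedPrimes A (A ⧸ I) :=
    Module.associatedPrimes.minimalPrimes_annihilator_subset_associatedPrimes A _ hmin
  have h0 : LocCoh.depth (Localization.AtPrime I.radical) (LocalizedModule I.radical.primeCompl (A ⧸ I)) = 0 := by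
    by_contra h
    exact (Alg6.one_le_depth_atPrime_iff I.radical).1 (Order.one_le_iff_ne_zero.2 h) hass
  refine ⟨f₁ * f₂, I.radical.primeCompl.mul_mem hf₁ hf₂, fun q hq hIq hfq => ?_⟩
  have hpq : I.radical ≤ q := hq.radical_le_iff.2 hIq
  have hd1 := h₁ q hpq fun h => hfq (q.mul_mem_right _ h)
  have hd2 := h₂ q hpq fun h => hfq (q.mul_mem_left _ h)
  let J := I.map (algebraMap A (Localization.AtPrime q))
  let P := I.radical.map (algebraMap A (Localization.AtPrime q))
  refine ⟨?_, ?_⟩
  · rw [hd1.1, Module.supportDim_quotient_eq_ringKrullDim, Module.supportDim_quotient_eq_ringKrullDim,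
      ringKrullDim_quotient, ringKrullDim_quotient]
    have hrad : PrimeSpectrum.zeroLocus (J : Set (Localization.AtPrime q)) = PrimeSpectrum.zeroLocus (P : Set (Localization.AtPrime q)) :=
      subset_antisymm
        (fun x hx => (Ideal.map_radical_le _).trans (x.isPrime.radical_le_iff.2 hx))
        (PrimeSpectrum.zeroLocus_anti_mono_ideal (Ideal.map_mono I.le_radical))
    rw [hrad]
  · rw [hd1.2, H4Sk.depth_localized_quot_ring q I, hd2.2, h0, zero_add]

end Groth.Agent.S4699
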