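import Groth.Statements.S4702
import Groth.Agent.DimFormula.FlatFibres

set_option autoImplicit false
universe u
open EGA4

namespace Groth.Agent.S4702

open AlgebraicGeometry CategoryTheory in
/-- Let Y be an irreducible locally Noetherian scheme of dimension 1, X an irreducible scheme and f : X
→ Y a dominant morphism of finite type. Then for every point y in the image of f, every irreducible
component of the fibre of f at y has dimension equal to the dimension of the generic fibre. -/
theorem result {X Y : Scheme.{u}} (f : X ⟶ Y) [IsLocallyNoetherian Y]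
    [IrreducibleSpace Y] [IrreducibleSpace X] (hY : topologicalKrullDim Y = 1) [LocallyOfFiniteType f]
    [QuasiCompact f] (hf : DenseRange f.base) (y : Y) (hy : y ∈ Set.range f.base)
    (Z : Set ↥(f.fiber y)) (hZ : Z ∈ irreducibleComponents ↥(f.fiber y)) :
    topologicalKrullDim Z = topologicalKrullDim ↥(f.fiber (genericPoint Y)) := by
  haveI : IsDominant f := ⟨hf⟩
  haveI := LocallyOfFiniteType.isLocallyNoetherian f
  obtain ⟨hgen, he⟩ := Groth.Agent.DimFormula.generic_fibre_dim f
  obtain ⟨z, -, hz, hdim⟩ := Groth.Agent.DimFormula.dim_component_fiber f hZ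
  rw [hdim, he]
  suffices h : Groth.Agent.FibDim.rd f z = Groth.Agent.FibDim.rd f (genericPoint X) by rw [h]
  refine le_antisymm ?_ ?_
  · have h1 := (Groth.Agent.DimFormula.codim_formula f z).1
    have h2 := Groth.Agent.DimFormula.codim_le_dim (f z)
    rw [hY] at h2
    have h2' : Groth.Agent.DimFormula.codim (f z) ≤ 1 := by exact_mod_cast h2
    by_cases h0 : Groth.Agent.DimFormula.codim z = 0
    · rw [Groth.Agent.DimFormula.maximal_eq_genericPoint (Groth.Agent.DimFormula.codim_eq_zero_iff.1 h0)]
    · omega
  · have := Groth.Agent.DimFormula.rd_le_of_specializes' f (genericPoint_specializes z)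
    rwa [(Groth.Agent.DimFormula.fb_eq_zero_iff f z).2 hz, add_zero] at this

end Groth.Agent.S4702
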