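import Groth.Statements.S4712
import Mathlib
-- import your own Groth.Agent.* helpers here

set_option autoImplicit false
universe u
open EGA4

namespace Groth.Agent.S4712

open AlgebraicGeometry CategoryTheory

set_option backward.isDefEq.respectTransparency.types false
set_option linter.style.haveILetI false

/-- In a Noetherian domain whose generic point is open there is no chain of two nonzero primes. -/
theorem no_chain {B : Type u} [CommRing B] [IsDomain B] [IsNoetherianRing B] (f : B) (hf : f ≠ 0)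
    (hall : ∀ P : Ideal B, P.IsPrime → P ≠ ⊥ → f ∈ P) (q r : Ideal B) [q.IsPrime] [r.IsPrime]
    (hq : q ≠ ⊥) (hqr : q < r) : False := by
  classical
  have hfq : f ∈ q := hall q inferInstance hq
  have hS : (Ideal.span {f}).minimalPrimes.Finite := (Ideal.span {f}).finite_minimalPrimes_of_isNoetherianRing
  have hne : ∀ P ∈ (Ideal.span {f}).minimalPrimes, ¬ r ≤ P := by
    intro P hP hle
    haveI : P.IsPrime := hP.1.1
    have := hP.2 ⟨‹q.IsPrime›, (Ideal.span_singleton_le_iff_mem _).2 hfq⟩ (hqr.le.trans hle)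
    exact hqr.not_ge (hle.trans this)
  obtain ⟨g, hgr, hg⟩ : ∃ g ∈ r, ∀ P ∈ (Ideal.span {f}).minimalPrimes, g ∉ P := by
    by_contra h
    push Not at h
    have hsub : (r : Set B) ⊆ ⋃ P ∈ (hS.toFinset : Set (Ideal B)), (P : Set B) := fun g hg => by
      obtain ⟨P, hP, hgP⟩ := h g hg
      exact Set.mem_biUnion (hS.mem_toFinset.2 hP) hgP
    obtain ⟨P, hP, hle⟩ := (Ideal.subset_union_prime (s := hS.toFinset) (f := id) ⊥ ⊥
      (fun P hP _ _ => (hS.mem_toFinset.1 hP).1.1)).1 hsub
    exact hne P (hS.mem_toFinset.1 hP) hle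
  obtain ⟨P₀, hP₀, hP₀q⟩ := Ideal.exists_minimalPrimes_le ((Ideal.span_singleton_le_iff_mem _).2 hfq)
  have hg0 : g ≠ 0 := fun h => hg P₀ hP₀ (h ▸ P₀.zero_mem)
  obtain ⟨P, hP, hPr⟩ := Ideal.exists_minimalPrimes_le ((Ideal.span_singleton_le_iff_mem _).2 hgr)
  haveI : P.IsPrime := hP.1.1
  have hgP : g ∈ P := hP.1.2 (Ideal.mem_span_singleton_self g)
  have hPbot : P ≠ ⊥ := fun h => hg0 (by rw [h] at hgP; exact hgP)
  obtain ⟨P₁, hP₁, hle⟩ := Ideal.exists_minimalPrimes_le
    ((Ideal.span_singleton_le_iff_mem _).2 (hall P inferInstance hPbot))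
  haveI : P₁.IsPrime := hP₁.1.1
  have hP₁bot : P₁ ≠ ⊥ := fun h => hf (by
    have := hP₁.1.2 (Ideal.mem_span_singleton_self f); rw [h] at this; exact this)
  have hlt : P₁ < P := lt_of_le_of_ne hle fun h => hg P₁ hP₁ (h ▸ hgP)
  have h1 := Ideal.height_le_one_of_isPrincipal_of_mem_minimalPrimes (Ideal.span {g}) P hP
  have a1 := Ideal.height_add_one_le_of_lt_of_isPrime (I := (⊥ : Ideal B)) (J := P₁) (bot_lt_iff_ne_bot.2 hP₁bot)
  have a2 := Ideal.height_add_one_le_of_lt_of_isPrime hlt
  rw [Ideal.height_bot, zero_add] at a1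
  have h2 : (1 : ℕ∞) + 1 ≤ P.height := le_trans (add_le_add a1 le_rfl) a2
  exact absurd (h2.trans h1) (by norm_num)

open AlgebraicGeometry in
/-- Let X be a locally Noetherian scheme and x a point such that {x} is locally closed in X. Then the
closure of {x} has dimension at most 1, and every point of that closure other than x is a closed
point of X. -/
theorem result (X : Scheme.{u}) [IsLocallyNoetherian X] (x : X)
    (hx : IsLocallyClosed ({x} : Set X)) :
    topologicalKrullDim (closure ({x} : Set X)) ≤ 1 ∧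
      ∀ y ∈ closure ({x} : Set X), y ≠ x → IsClosed ({y} : Set X) := by
  have key : ∀ y z : X, x ⤳ y → y ⤳ z → y ≠ x → y ≠ z → False := by
    intro y z hxy hyz hyx hyz'
    obtain ⟨_, ⟨U, hU, rfl⟩, hzU, -⟩ := X.isBasis_affineOpens.exists_subset_of_mem_open (Set.mem_univ z) isOpen_univ
    haveI : IsNoetherianRing Γ(X, U) := IsLocallyNoetherian.component_noetherian ⟨U, hU⟩
    have hyU : y ∈ U := hyz.mem_open U.2 hzU
    have hxU : x ∈ U := hxy.mem_open U.2 hyU
    obtain ⟨a, ha⟩ := hU.range_fromSpec.ge hxU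
    obtain ⟨b, hb⟩ := hU.range_fromSpec.ge hyU
    obtain ⟨c, hc⟩ := hU.range_fromSpec.ge hzU
    have hlc : IsLocallyClosed ({a} : Set (Spec Γ(X, U))) := by
      have := hx.preimage hU.fromSpec.continuous
      rwa [show hU.fromSpec ⁻¹' {x} = {a} by
        ext w
        exact ⟨fun h => hU.fromSpec.isOpenEmbedding.injective (h.trans ha.symm), fun h => h ▸ ha⟩] at this
    obtain ⟨O, Z, hO, hZ, hOZ⟩ := hlc
    have haOZ : a ∈ O ∩ Z := hOZ ▸ rfl
    obtain ⟨_, ⟨f, rfl⟩, haf, hfO⟩ :=
      PrimeSpectrum.isTopologicalBasis_basic_opens.exists_subset_of_mem_open haOZ.1 hO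
    let B := Γ(X, U) ⧸ a.asIdeal
    haveI : IsDomain B := Ideal.Quotient.isDomain a.asIdeal
    have hle : ∀ {v w : Spec Γ(X, U)}, hU.fromSpec v ⤳ hU.fromSpec w → v.asIdeal ≤ w.asIdeal := fun h =>
      (PrimeSpectrum.le_iff_specializes _ _).2 (hU.fromSpec.isOpenEmbedding.isEmbedding.specializes_iff.1 h)
    have hab : a.asIdeal ≤ b.asIdeal := hle (by rwa [ha, hb])
    have hbc : b.asIdeal ≤ c.asIdeal := hle (by rwa [hb, hc])
    have hne1 : a.asIdeal ≠ b.asIdeal := fun h => hyx (by rw [← ha, ← hb, PrimeSpectrum.ext h])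
    have hne2 : b.asIdeal ≠ c.asIdeal := fun h => hyz' (by rw [← hb, ← hc, PrimeSpectrum.ext h])
    have hmk : ∀ I : Ideal Γ(X, U), a.asIdeal ≤ I → (I.map (Ideal.Quotient.mk a.asIdeal)).comap (Ideal.Quotient.mk a.asIdeal) = I :=
      fun I h => Ideal.comap_map_mk h
    haveI := Ideal.map_isPrime_of_surjective (f := Ideal.Quotient.mk a.asIdeal) (I := b.asIdeal)
      Ideal.Quotient.mk_surjective (by rwa [Ideal.mk_ker])
    haveI := Ideal.map_isPrime_of_surjective (f := Ideal.Quotient.mk a.asIdeal) (I := c.asIdeal)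
      Ideal.Quotient.mk_surjective (by rw [Ideal.mk_ker]; exact hab.trans hbc)
    refine no_chain (Ideal.Quotient.mk a.asIdeal f) (fun h => haf (Ideal.Quotient.eq_zero_iff_mem.1 h)) ?_
      (b.asIdeal.map (Ideal.Quotient.mk a.asIdeal)) (c.asIdeal.map (Ideal.Quotient.mk a.asIdeal)) ?_ ?_
    · intro P hP hP0
      by_contra hfP
      haveI := hP
      let w : Spec Γ(X, U) := ⟨P.comap (Ideal.Quotient.mk a.asIdeal), Ideal.comap_isPrime _ _⟩
      have haw : a.asIdeal ≤ w.asIdeal := Ideal.mk_ker.symm.le.trans (Ideal.ker_le_comap _)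
      have hwZ : w ∈ Z := ((PrimeSpectrum.le_iff_specializes a w).1 haw).mem_closed hZ haOZ.2
      have : w = a := by
        have hm : w ∈ O ∩ Z := ⟨hfO hfP, hwZ⟩
        rw [← hOZ] at hm
        exact hm
      apply hP0
      rw [← Ideal.map_comap_of_surjective _ Ideal.Quotient.mk_surjective P,
        show P.comap (Ideal.Quotient.mk a.asIdeal) = a.asIdeal from congrArg PrimeSpectrum.asIdeal this,
        Ideal.map_quotient_self]
    · intro h
      refine hne1 (le_antisymm hab ?_)
      have := hmk _ hab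
      rw [h, ← RingHom.ker_eq_comap_bot, Ideal.mk_ker] at this
      exact this.ge
    · refine lt_of_le_of_ne (Ideal.map_mono hbc) fun h => hne2 ?_
      have := congrArg (Ideal.comap (Ideal.Quotient.mk a.asIdeal)) h
      rwa [hmk _ hab, hmk _ (hab.trans hbc)] at this
  refine ⟨?_, fun y hy hne => isClosed_of_closure_subset fun z hz => ?_⟩
  · haveI : QuasiSober (closure ({x} : Set X)) := (isClosed_closure (s := ({x} : Set X))).isClosedEmbedding_subtypeVal.quasiSober
    refine iSup_le fun l => ?_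
    by_contra hl
    push Not at hl
    have hlen : 2 ≤ l.length := by
      have : (1 : WithBot ℕ∞) < (l.length : WithBot ℕ∞) := hl
      have : (1 : ℕ) < l.length := by exact_mod_cast this
      omega
    let C : Fin 3 → TopologicalSpace.IrreducibleCloseds (closure ({x} : Set X)) := fun i => l ⟨i.1, by omega⟩
    have hC : ∀ i j, i < j → C i < C j := fun i j h => l.strictMono h
    choose g hg using fun i => QuasiSober.sober (C i).2 (C i).3
    have hgs : ∀ i j, i < j → (g j).1 ⤳ (g i).1 ∧ (g j).1 ≠ (g i).1 := fun i j h => by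
      refine ⟨((hg j).specializes ((hC i j h).le (hg i).mem)).map continuous_subtype_val, fun e => (hC i j h).ne ?_⟩
      exact TopologicalSpace.IrreducibleCloseds.ext ((hg i).def.symm.trans ((congrArg (fun w => closure {w}) (Subtype.ext e.symm)).trans (hg j).def))
    have hxg : ∀ i, x ⤳ (g i).1 := fun i => specializes_iff_mem_closure.2 (g i).2
    refine key (g 1).1 (g 0).1 (hxg 1) (hgs 0 1 (by decide)).1 ?_ (hgs 0 1 (by decide)).2
    intro e
    have h1 := (hgs 1 2 (by decide)).1
    rw [e] at h1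
    exact (hgs 1 2 (by decide)).2 ((h1.antisymm (hxg 2)).eq.trans e.symm)
  · by_contra hne'
    exact key y z (specializes_iff_mem_closure.2 hy) (specializes_iff_mem_closure.2 hz) hne (Ne.symm hne')

end Groth.Agent.S4712
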