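import Groth.Statements.S4715
-- import your own Groth.Agent.* helpers here
import Mathlib

set_option autoImplicit false
universe u
open EGA4

namespace Groth.Agent.S4715

open AlgebraicGeometry CategoryTheory Topology TopologicalSpace in
/-- Discrete fibres make the induced map on irreducible closed subsets strictly monotone. -/
theorem dim_le_closure_range {X Y : Scheme.{u}} (f : X ⟶ Y) [LocallyQuasiFinite f] :
    topologicalKrullDim X ≤ topologicalKrullDim (closure (Set.range f.base)) := by
  classical
  let g : X → closure (Set.range f.base) := fun x =>
    ⟨f.base x, subset_closure (Set.mem_range_self x)⟩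
  have hg : Continuous g := f.continuous.subtype_mk _
  let F : IrreducibleCloseds X → IrreducibleCloseds (closure (Set.range f.base)) := fun Z =>
    ⟨closure {g Z.2.genericPoint}, isIrreducible_singleton.closure, isClosed_closure⟩
  refine Order.krullDim_le_of_strictMono F ?_
  intro Z Z' hlt
  have hsub : (Z : Set X) ⊆ Z' := hlt.le
  have hgenZ := Z.2.isGenericPoint_genericPoint Z.3
  have hgenZ' := Z'.2.isGenericPoint_genericPoint Z'.3
  set z := Z.2.genericPoint
  set z' := Z'.2.genericPoint
  have hsp : z' ⤳ z := hgenZ'.specializes (hsub hgenZ.mem)
  have hsp' : g z' ⤳ g z := hsp.map hg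
  refine lt_of_le_of_ne ?_ ?_
  · show closure {g z} ⊆ closure {g z'}
    exact specializes_iff_closure_subset.mp hsp'
  · intro heq
    have hc : closure {g z} = closure {g z'} := congrArg IrreducibleCloseds.carrier heq
    have hrev : g z ⤳ g z' := specializes_iff_closure_subset.mpr hc.ge
    have hfz : f.base z = f.base z' := by
      have h1 : f.base z ⤳ f.base z' := hrev.map continuous_subtype_val
      have h2 : f.base z' ⤳ f.base z := hsp.map f.continuous
      exact (h1.antisymm h2).eq
    have hd : _root_.IsDiscrete (f.base ⁻¹' {f.base z}) := f.isDiscrete_preimage_singleton _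
    have := hd.to_subtype
    have hzz : z = z' := by
      have hs : (⟨z', by simp [hfz]⟩ : (f.base ⁻¹' {f.base z} : Set X)) ⤳ ⟨z, by simp⟩ :=
        (subtype_specializes_iff _ _).mpr hsp
      exact (congrArg Subtype.val hs.eq).symm
    have hZ : (Z : Set X) = Z' := by
      exact hgenZ.def.symm.trans ((congrArg (fun w => closure {w}) hzz).trans hgenZ'.def)
    exact hlt.ne (IrreducibleCloseds.ext hZ)

open AlgebraicGeometry CategoryTheory in
/-- Let f : X → Y be a quasi-finite morphism (of finite type with discrete fibres) of locally Noetherian
schemes. Then dim X is at most the dimension of the closure of f(X), which is at most dim Y. -/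
theorem result {X Y : Scheme.{u}} (f : X ⟶ Y) [IsLocallyNoetherian X] [IsLocallyNoetherian Y]
    [LocallyQuasiFinite f] [LocallyOfFiniteType f] [QuasiCompact f] :
    topologicalKrullDim X ≤ topologicalKrullDim (closure (Set.range f.base)) ∧
      topologicalKrullDim (closure (Set.range f.base)) ≤ topologicalKrullDim Y := by
  exact ⟨dim_le_closure_range f, topologicalKrullDim_subspace_le _ _⟩

end Groth.Agent.S4715
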