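import Groth.Statements.S4718
import Groth.Agent.S2669
import Groth.Agent.FlatLoc6.Sk
import Groth.Agent.LC.ExtDim

set_option autoImplicit false
universe u
open EGA4

namespace Groth.Agent.S4718

/-- Let A be a Noetherian local ring, B a Noetherian ring, A → B a ring homomorphism and M a nonzero
B-module which is finite as an A-module. Then M is a Cohen–Macaulay A-module if and only if, for all
primes q of B lying over the maximal ideal of A and belonging to the support of M, the B_q-module
M_q is Cohen–Macaulay and all these modules M_q have the same dimension. -/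
theorem result (A B : Type u) [CommRing A] [CommRing B]
    [IsNoetherianRing A] [IsLocalRing A] [IsNoetherianRing B] [Algebra A B]
    (M : Type u) [AddCommGroup M] [Module B M] [Module A M] [IsScalarTower A B M] [Module.Finite A M]
    [Nontrivial M] :
    LocCoh.IsCohenMacaulayModule A M ↔
      (∀ q ∈ {q : PrimeSpectrum B | q.asIdeal.comap (algebraMap A B) = IsLocalRing.maximalIdeal A ∧
          q ∈ Module.support B M},
        LocCoh.IsCohenMacaulayModule (Localization.AtPrime q.asIdeal) (LocalizedModule q.asIdeal.primeCompl M)) ∧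
      (∀ q ∈ {q : PrimeSpectrum B | q.asIdeal.comap (algebraMap A B) = IsLocalRing.maximalIdeal A ∧
          q ∈ Module.support B M},
        ∀ q' ∈ {q : PrimeSpectrum B | q.asIdeal.comap (algebraMap A B) = IsLocalRing.maximalIdeal A ∧
          q ∈ Module.support B M},
          Module.supportDim (Localization.AtPrime q.asIdeal) (LocalizedModule q.asIdeal.primeCompl M) =
            Module.supportDim (Localization.AtPrime q'.asIdeal) (LocalizedModule q'.asIdeal.primeCompl M)) := by
  obtain ⟨h1, h2⟩ := S2669.result A B M (IsLocalRing.maximalIdeal A)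
  rw [FlatLoc6.supportDim_loc_maximal] at h1
  rw [FlatLoc6.depth_loc_maximal] at h2
  have hle : ∀ q ∈ {q : PrimeSpectrum B | q.asIdeal.comap (algebraMap A B) = IsLocalRing.maximalIdeal A ∧
      q ∈ Module.support B M},
      Module.supportDim (Localization.AtPrime q.asIdeal) (LocalizedModule q.asIdeal.primeCompl M) ≤
          Module.supportDim A M ∧
        LocCoh.depth A M ≤ LocCoh.depth (Localization.AtPrime q.asIdeal) (LocalizedModule q.asIdeal.primeCompl M) ∧
        ((LocCoh.depth (Localization.AtPrime q.asIdeal) (LocalizedModule q.asIdeal.primeCompl M) : ℕ∞) : WithBot ℕ∞) ≤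
          Module.supportDim (Localization.AtPrime q.asIdeal) (LocalizedModule q.asIdeal.primeCompl M) := by
    intro q hq
    haveI : Nontrivial (LocalizedModule q.asIdeal.primeCompl M) := Module.mem_support_iff.1 hq.2
    haveI : Module.Finite B M := Module.Finite.of_restrictScalars_finite A B M
    haveI : Module.Finite (Localization.AtPrime q.asIdeal) (LocalizedModule q.asIdeal.primeCompl M) :=
      Module.Finite.of_isLocalizedModule q.asIdeal.primeCompl (LocalizedModule.mkLinearMap _ M)
    exact ⟨h1 ▸ le_iSup₂_of_le q hq le_rfl, h2 ▸ iInf₂_le q hq, LC.depth_le_supportDim _⟩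
  constructor
  · intro hcm
    have heq : ∀ q ∈ {q : PrimeSpectrum B | q.asIdeal.comap (algebraMap A B) = IsLocalRing.maximalIdeal A ∧
        q ∈ Module.support B M},
        Module.supportDim (Localization.AtPrime q.asIdeal) (LocalizedModule q.asIdeal.primeCompl M) =
            Module.supportDim A M ∧
          ((LocCoh.depth (Localization.AtPrime q.asIdeal) (LocalizedModule q.asIdeal.primeCompl M) : ℕ∞) : WithBot ℕ∞) =
            Module.supportDim A M := fun q hq => by
      obtain ⟨ha, hb, hc⟩ := hle q hq
      have hb' : Module.supportDim A M ≤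
          ((LocCoh.depth (Localization.AtPrime q.asIdeal) (LocalizedModule q.asIdeal.primeCompl M) : ℕ∞) : WithBot ℕ∞) :=
        hcm.le.trans (WithBot.coe_le_coe.2 hb)
      exact ⟨le_antisymm ha (hb'.trans hc), le_antisymm (hc.trans ha) hb'⟩
    exact ⟨fun q hq => (heq q hq).1.trans (heq q hq).2.symm, fun q hq q' hq' => (heq q hq).1.trans (heq q' hq').1.symm⟩
  · rintro ⟨hcm, hdim⟩
    obtain ⟨q₀, hq₀⟩ : ∃ q : PrimeSpectrum B, q.asIdeal.comap (algebraMap A B) = IsLocalRing.maximalIdeal A ∧
        q ∈ Module.support B M := by
      by_contra hne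
      refine (Module.supportDim_ne_bot_iff_nontrivial A M).2 inferInstance (h1.trans (le_bot_iff.1 ?_))
      exact iSup₂_le fun q hq => absurd ⟨q, hq⟩ hne
    have hD : Module.supportDim A M =
        Module.supportDim (Localization.AtPrime q₀.asIdeal) (LocalizedModule q₀.asIdeal.primeCompl M) :=
      le_antisymm (h1.le.trans (iSup₂_le fun q hq => (hdim q hq q₀ hq₀).le)) (hle q₀ hq₀).1
    have he : LocCoh.depth A M =
        LocCoh.depth (Localization.AtPrime q₀.asIdeal) (LocalizedModule q₀.asIdeal.primeCompl M) :=
      le_antisymm (hle q₀ hq₀).2.1 (le_of_le_of_eq (le_iInf₂ fun q hq => le_of_eq (WithBot.coe_inj.1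
        ((hcm q₀ hq₀).symm.trans ((hdim q₀ hq₀ q hq).trans (hcm q hq))))) h2.symm)
    exact hD.trans ((hcm q₀ hq₀).trans (by rw [he]))

end Groth.Agent.S4718
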