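import Groth.Statements.S4719
import Groth.Agent.S2669

set_option autoImplicit false
universe u
open EGA4

namespace Groth.Agent.S4719

/-- Let A → B be a homomorphism of Noetherian rings and M a B-module which is finite as an A-module. (i)
If M satisfies (S_k) as an A-module, it satisfies (S_k) as a B-module. (ii) If for every two primes
q, q' of B in the support of M having the same contraction to A the modules M_q and M_{q'} have the
same dimension, then (S_k) for M as a B-module implies (S_k) for M as an A-module. (The published
statement asks the equal-dimension condition for all pairs of primes of B with the same contraction;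
this row asks it only for primes in the support of M, which is all its proof uses.) -/
theorem result (k : ℕ) (A B : Type u) [CommRing A] [CommRing B] [IsNoetherianRing A]
    [IsNoetherianRing B] [Algebra A B] (M : Type u) [AddCommGroup M] [Module B M] [Module A M]
    [IsScalarTower A B M] [Module.Finite A M] :
    (LocCoh.HasSk k A M → LocCoh.HasSk k B M) ∧
      ((∀ q ∈ Module.support B M, ∀ q' ∈ Module.support B M,
          q.asIdeal.comap (algebraMap A B) = q'.asIdeal.comap (algebraMap A B) →
            Module.supportDim (Localization.AtPrime q.asIdeal) (LocalizedModule q.asIdeal.primeCompl M) =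
              Module.supportDim (Localization.AtPrime q'.asIdeal) (LocalizedModule q'.asIdeal.primeCompl M)) →
        LocCoh.HasSk k B M → LocCoh.HasSk k A M) := by
  refine ⟨fun h q _ => ?_, fun heq h p _ => ?_⟩
  · by_cases hq : (⟨q, inferInstance⟩ : PrimeSpectrum B) ∈ Module.support B M
    · obtain ⟨h1, h2⟩ := S2669.result A B M (q.comap (algebraMap A B))
      have hp := h (q.comap (algebraMap A B))
      rw [h1, h2] at hp
      have hqs : (⟨q, inferInstance⟩ : PrimeSpectrum B) ∈
          {q' : PrimeSpectrum B | q'.asIdeal.comap (algebraMap A B) = q.comap (algebraMap A B) ∧ q' ∈ Module.support B M} :=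
        ⟨rfl, hq⟩
      have hdim : Module.supportDim (Localization.AtPrime q) (LocalizedModule q.primeCompl M) ≤
          ⨆ q' ∈ {q' : PrimeSpectrum B | q'.asIdeal.comap (algebraMap A B) = q.comap (algebraMap A B) ∧ q' ∈ Module.support B M},
            Module.supportDim (Localization.AtPrime q'.asIdeal) (LocalizedModule q'.asIdeal.primeCompl M) :=
        le_iSup₂ (f := fun (q' : PrimeSpectrum B) (_ : q' ∈ {q' : PrimeSpectrum B | q'.asIdeal.comap (algebraMap A B) = q.comap (algebraMap A B) ∧ q' ∈ Module.support B M}) =>
          Module.supportDim (Localization.AtPrime q'.asIdeal) (LocalizedModule q'.asIdeal.primeCompl M)) _ hqs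
      exact (min_le_min le_rfl hdim).trans (hp.trans (WithBot.coe_le_coe.2 (iInf₂_le
        (f := fun (q' : PrimeSpectrum B) (_ : q' ∈ {q' : PrimeSpectrum B | q'.asIdeal.comap (algebraMap A B) = q.comap (algebraMap A B) ∧ q' ∈ Module.support B M}) =>
          LocCoh.depth (Localization.AtPrime q'.asIdeal) (LocalizedModule q'.asIdeal.primeCompl M)) _ hqs)))
    · haveI := Module.notMem_support_iff.1 hq
      rw [Module.supportDim_eq_bot_of_subsingleton]
      exact (min_le_right _ _).trans bot_le
  · obtain ⟨h1, h2⟩ := S2669.result A B M p
    rw [h1, h2]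
    by_cases hne : ∃ q : PrimeSpectrum B, q.asIdeal.comap (algebraMap A B) = p ∧ q ∈ Module.support B M
    · obtain ⟨q₀, hq₀⟩ := hne
      have hsup : (⨆ q ∈ {q : PrimeSpectrum B | q.asIdeal.comap (algebraMap A B) = p ∧ q ∈ Module.support B M},
          Module.supportDim (Localization.AtPrime q.asIdeal) (LocalizedModule q.asIdeal.primeCompl M)) =
          Module.supportDim (Localization.AtPrime q₀.asIdeal) (LocalizedModule q₀.asIdeal.primeCompl M) :=
        le_antisymm (iSup₂_le fun q hq => (heq q hq.2 q₀ hq₀.2 (hq.1.trans hq₀.1.symm)).le)
          (le_iSup₂_of_le q₀ hq₀ le_rfl)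
      rw [hsup]
      have key : ∀ q ∈ {q : PrimeSpectrum B | q.asIdeal.comap (algebraMap A B) = p ∧ q ∈ Module.support B M},
          min (k : WithBot ℕ∞) (Module.supportDim (Localization.AtPrime q₀.asIdeal) (LocalizedModule q₀.asIdeal.primeCompl M)) ≤
            ((LocCoh.depth (Localization.AtPrime q.asIdeal) (LocalizedModule q.asIdeal.primeCompl M) : ℕ∞) : WithBot ℕ∞) :=
        fun q hq => by rw [← heq q hq.2 q₀ hq₀.2 (hq.1.trans hq₀.1.symm)]; exact h q.asIdeal
      generalize min (k : WithBot ℕ∞) _ = a at key ⊢
      induction a using WithBot.recBotCoe with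
      | bot => exact bot_le
      | coe a => exact WithBot.coe_le_coe.2 (le_iInf₂ fun q hq => WithBot.coe_le_coe.1 (key q hq))
    · refine (min_le_right _ _).trans (iSup₂_le fun q hq => absurd ⟨q, hq⟩ hne)

end Groth.Agent.S4719
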