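import Groth.Statements.S4721
import Groth.Agent.S2663

set_option autoImplicit false
universe u
open EGA4

namespace Groth.Agent.S4721

/-- Let A be a Noetherian ring whose spectrum is connected and d a natural number such that for every
prime p of height at least d the local ring A_p has depth at least 2. Then for any two distinct
minimal primes p', p'' of A there is a finite chain of minimal primes starting at p' and ending at
p'' such that any two consecutive members are both contained in a prime ideal of height at most d −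
1 (the spectrum is connected in codimension at most d − 1). -/
theorem result (A : Type u) [CommRing A] [IsNoetherianRing A]
    [ConnectedSpace (PrimeSpectrum A)] (d : ℕ)
    (h : ∀ (p : Ideal A) [p.IsPrime], (d : ℕ∞) ≤ p.height →
      (2 : ℕ∞) ≤ LocCoh.depth (Localization.AtPrime p) (Localization.AtPrime p))
    (p' p'' : Ideal A) (hp' : p' ∈ minimalPrimes A) (hp'' : p'' ∈ minimalPrimes A) (hne : p' ≠ p'') :
    ∃ (n : ℕ) (c : Fin (n + 1) → Ideal A), c 0 = p' ∧ c (Fin.last n) = p'' ∧ (∀ i, c i ∈ minimalPrimes A) ∧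
      ∀ i : Fin n, ∃ (q : Ideal A) (_ : q.IsPrime),
        c i.castSucc ≤ q ∧ c i.succ ≤ q ∧ q.height + 1 ≤ (d : ℕ∞) := by
  classical
  let R : Ideal A → Ideal A → Prop := fun a b =>
    b ∈ minimalPrimes A ∧ ∃ (q : Ideal A) (_ : q.IsPrime), a ≤ q ∧ b ≤ q ∧ q.height + 1 ≤ (d : ℕ∞)
  by_contra hcon
  let C : Set (Ideal A) := {b | Relation.ReflTransGen R p' b}
  have hC : ∀ b ∈ C, ∃ (n : ℕ) (c : Fin (n + 1) → Ideal A), c 0 = p' ∧ c (Fin.last n) = b ∧
      (∀ i, c i ∈ minimalPrimes A) ∧ ∀ i : Fin n, ∃ (q : Ideal A) (_ : q.IsPrime),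
        c i.castSucc ≤ q ∧ c i.succ ≤ q ∧ q.height + 1 ≤ (d : ℕ∞) := by
    intro b hb
    induction hb with
    | refl => exact ⟨0, fun _ => p', rfl, rfl, fun _ => hp', fun i => i.elim0⟩
    | @tail a b _ hab ih =>
      obtain ⟨n, c, hc0, hcn, hmin, hstep⟩ := ih
      refine ⟨n + 1, Fin.snoc c b, ?_, Fin.snoc_last _ _, fun i => ?_, fun i => ?_⟩
      · rw [← Fin.castSucc_zero, Fin.snoc_castSucc]; exact hc0
      · refine Fin.lastCases ?_ (fun i => ?_) i
        · rw [Fin.snoc_last]; exact hab.1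
        · rw [Fin.snoc_castSucc]; exact hmin i
      · refine Fin.lastCases ?_ (fun i => ?_) i
        · rw [Fin.snoc_castSucc, hcn, Fin.succ_last, Fin.snoc_last]; exact hab.2
        · rw [Fin.snoc_castSucc, Fin.succ_castSucc, Fin.snoc_castSucc]; exact hstep i
  have hp''C : p'' ∉ C := fun hh => hcon (hC _ hh)
  have hfin := minimalPrimes.finite_of_isNoetherianRing A
  let FC := hfin.toFinset.filter (· ∈ C)
  let FD := hfin.toFinset.filter (· ∉ C)
  let IC : Ideal A := FC.inf id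
  let ID : Ideal A := FD.inf id
  have hmem : ∀ (F : Finset (Ideal A)) (P : PrimeSpectrum A), F.inf id ≤ P.asIdeal ↔ ∃ c ∈ F, c ≤ P.asIdeal :=
    fun F P => P.2.inf_le'
  have hI : ∀ (P : Ideal A) [P.IsPrime], IC ⊔ ID ≤ P →
      (2 : ℕ∞) ≤ LocCoh.depth (Localization.AtPrime P) (Localization.AtPrime P) := by
    intro P hP hle
    obtain ⟨c, hc, hcP⟩ := (hmem FC ⟨P, hP⟩).1 (le_sup_left.trans hle)
    obtain ⟨e, he, heP⟩ := (hmem FD ⟨P, hP⟩).1 (le_sup_right.trans hle)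
    simp only [FC, FD, Finset.mem_filter, Set.Finite.mem_toFinset] at hc he
    refine h P ?_
    by_contra hlt
    exact he.2 (hc.2.tail ⟨he.1, P, hP, hcP, heP, Order.add_one_le_of_lt (not_le.1 hlt)⟩)
  have hpre := Groth.Agent.S2663.result A (IC ⊔ ID) hI
  have hcov : ∀ P : PrimeSpectrum A,
      P ∈ PrimeSpectrum.zeroLocus (IC : Set A) ∪ PrimeSpectrum.zeroLocus (ID : Set A) := fun P => by
    obtain ⟨m, hm, hmP⟩ := Ideal.exists_minimalPrimes_le (J := P.asIdeal) (I := (⊥ : Ideal A)) bot_le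
    by_cases hmC : m ∈ C
    · exact Or.inl ((hmem FC P).2 ⟨m, Finset.mem_filter.2 ⟨hfin.mem_toFinset.2 hm, hmC⟩, hmP⟩)
    · exact Or.inr ((hmem FD P).2 ⟨m, Finset.mem_filter.2 ⟨hfin.mem_toFinset.2 hm, hmC⟩, hmP⟩)
  have hout : ∀ (m : Ideal A) (hm : m ∈ minimalPrimes A),
      (⟨m, hm.1.1⟩ : PrimeSpectrum A) ∈ (PrimeSpectrum.zeroLocus ((IC ⊔ ID : Ideal A) : Set A))ᶜ := fun m hm hle => by
    obtain ⟨c, hc, hcm⟩ := (hmem FC ⟨m, hm.1.1⟩).1 (le_sup_left.trans hle)
    obtain ⟨e, he, hem⟩ := (hmem FD ⟨m, hm.1.1⟩).1 (le_sup_right.trans hle)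
    simp only [FC, FD, Finset.mem_filter, Set.Finite.mem_toFinset] at hc he
    have e1 : c = m := le_antisymm hcm (hm.2 hc.1.1 hcm)
    have e2 : e = m := le_antisymm hem (hm.2 he.1.1 hem)
    exact he.2 (e2.trans e1.symm ▸ hc.2)
  obtain ⟨P, hP, hP1, hP2⟩ := isPreconnected_closed_iff.1 hpre (PrimeSpectrum.zeroLocus (IC : Set A))
    (PrimeSpectrum.zeroLocus (ID : Set A)) (PrimeSpectrum.isClosed_zeroLocus _) (PrimeSpectrum.isClosed_zeroLocus _)
    (fun P _ => hcov P)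
    ⟨⟨p', hp'.1.1⟩, hout p' hp', (hmem FC ⟨p', hp'.1.1⟩).2
      ⟨p', Finset.mem_filter.2 ⟨hfin.mem_toFinset.2 hp', Relation.ReflTransGen.refl⟩, le_rfl⟩⟩
    ⟨⟨p'', hp''.1.1⟩, hout p'' hp'', (hmem FD ⟨p'', hp''.1.1⟩).2
      ⟨p'', Finset.mem_filter.2 ⟨hfin.mem_toFinset.2 hp'', hp''C⟩, le_rfl⟩⟩
  exact hP (show IC ⊔ ID ≤ P.asIdeal from sup_le hP1 hP2)

end Groth.Agent.S4721
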