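import Groth.Statements.S4726
-- import your own Groth.Agent.* helpers here

set_option autoImplicit false
universe u
open EGA4

namespace Groth.Agent.S4726

open TensorProduct in
/-- Let (A_i) be a directed system of commutative rings with direct limit A and M a finitely presented
A-module. Then there exist an index i and a finitely presented A_i-module M_i such that M is
isomorphic, as an A-module, to A ⊗_{A_i} M_i (A being an A_i-algebra through the canonical map). -/
theorem result (ι : Type u) [Preorder ι] [Nonempty ι] [IsDirectedOrder ι]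
    (G : ι → Type u) [∀ i, CommRing (G i)] (f : ∀ i j, i ≤ j → G i →+* G j)
    [DirectedSystem G (fun i j h ↦ f i j h)] (M : Type u) [AddCommGroup M]
    [Module (Ring.DirectLimit G (fun i j h ↦ f i j h)) M]
    [Module.FinitePresentation (Ring.DirectLimit G (fun i j h ↦ f i j h)) M] :
    ∃ (i : ι) (Mi : Type u) (_ : AddCommGroup Mi) (_ : Module (G i) Mi), Module.FinitePresentation (G i) Mi ∧
      letI : Algebra (G i) (Ring.DirectLimit G (fun i j h ↦ f i j h)) :=
        (Ring.DirectLimit.of G (fun i j h ↦ f i j h) i).toAlgebra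
      Nonempty (M ≃ₗ[Ring.DirectLimit G (fun i j h ↦ f i j h)] (Ring.DirectLimit G (fun i j h ↦ f i j h)) ⊗[G i] Mi) := by
  classical
  obtain ⟨n, m, ψ, φ, hψ, hφψ⟩ := Module.FinitePresentation.exists_fin' (Ring.DirectLimit G (fun i j h ↦ f i j h)) M
  have hpick : ∀ x : Fin n × Fin m, ∃ i, ∀ j, i ≤ j → ∃ a : G j,
      Ring.DirectLimit.of G (fun i j h ↦ f i j h) j a = φ (Pi.single x.2 1) x.1 := by
    intro x
    obtain ⟨i, a, ha⟩ := Ring.DirectLimit.exists_of (φ (Pi.single x.2 1) x.1)
    exact ⟨i, fun j hij => ⟨f i j hij a, by rw [← ha]; exact Ring.DirectLimit.of_f (f := fun i j h ↦ f i j h) hij a⟩⟩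
  choose idx hidx using hpick
  obtain ⟨i, hi⟩ := Finite.exists_le idx
  choose a ha using fun x => hidx x i (hi x)
  letI : Algebra (G i) (Ring.DirectLimit G (fun i j h ↦ f i j h)) :=
    (Ring.DirectLimit.of G (fun i j h ↦ f i j h) i).toAlgebra
  let φi : (Fin m → G i) →ₗ[G i] (Fin n → G i) := Matrix.mulVecLin (Matrix.of fun r c => a (r, c))
  refine ⟨i, (Fin n → G i) ⧸ LinearMap.range φi, inferInstance, inferInstance,
    Module.finitePresentation_of_surjective (LinearMap.range φi).mkQ (Submodule.mkQ_surjective _)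
      (by rw [Submodule.ker_mkQ]; exact Submodule.fg_range φi), ?_⟩
  let A := Ring.DirectLimit G (fun i j h ↦ f i j h)
  let en := TensorProduct.piScalarRight (G i) A A (Fin n)
  let em := TensorProduct.piScalarRight (G i) A A (Fin m)
  have hsq : ∀ z, en (φi.baseChange A z) = φ (em z) := by
    refine LinearMap.congr_fun (f := en.toLinearMap ∘ₗ φi.baseChange A) (g := φ ∘ₗ em.toLinearMap) ?_
    ext c r
    simp only [TensorProduct.AlgebraTensorModule.curry_apply, TensorProduct.curry_apply, LinearMap.coe_restrictScalars,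
      LinearMap.coe_comp, LinearEquiv.coe_coe, Function.comp_apply, LinearMap.baseChange_tmul,
      LinearMap.coe_single]
    have h1 : φi (Pi.single c 1) r = a (r, c) := by simp [φi]
    have h2 : em ((1 : A) ⊗ₜ[G i] (Pi.single c (1 : G i))) = Pi.single c 1 := by
      ext k
      simp [em, Pi.single_apply, Algebra.smul_def, apply_ite (algebraMap (G i) A)]
    rw [h2, ← ha (r, c), ← h1]
    simp [en, Algebra.smul_def]
    rfl
  have h1 : Function.Exact (φi.baseChange A) ((LinearMap.range φi).mkQ.baseChange A) :=
    lTensor_exact A (LinearMap.exact_map_mkQ_range φi) (Submodule.mkQ_surjective _)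
  have h2 : Function.Exact (φi.baseChange A) (ψ ∘ₗ en.toLinearMap) := by
    intro z
    constructor
    · intro hz
      obtain ⟨w, hw⟩ := (hφψ (en z)).1 hz
      refine ⟨em.symm w, en.injective ?_⟩
      rw [hsq, LinearEquiv.apply_symm_apply, hw]
    · rintro ⟨w, rfl⟩
      show ψ (en (φi.baseChange A w)) = 0
      rw [hsq]
      exact hφψ.apply_apply_eq_zero _
  refine ⟨(h2.linearEquivOfSurjective (hψ.comp en.surjective)).symm ≪≫ₗ
    h1.linearEquivOfSurjective (LinearMap.lTensor_surjective A (Submodule.mkQ_surjective _))⟩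

end Groth.Agent.S4726
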