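import Groth.Statements.S4728
import Groth.Agent.FlatLoc6.NormalFibre
import Groth.Agent.FormCat.Unibranch
import Mathlib

set_option autoImplicit false
universe u
open EGA4

open scoped TensorProduct

namespace Groth.Agent.S4728

/-- Let A be a Noetherian local domain of dimension 1 with maximal ideal m, A' a Noetherian local ring
and A → A' a local homomorphism which is normal (flat, with geometrically normal fibres). Then the
ideal m A' of A' is prime and the local ring of A' at m A' has dimension 1. (The remaining clauses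
of the published item, describing A' inside its total ring of fractions, are not restated.) -/
theorem result (A A' : Type u) [CommRing A] [CommRing A']
    [IsNoetherianRing A] [IsNoetherianRing A'] [IsLocalRing A] [IsLocalRing A'] [IsDomain A]
    (hA : ringKrullDim A = 1) [Algebra A A'] [IsLocalHom (algebraMap A A')] (h : EGA4.IsNormalHom A A') :
    ((IsLocalRing.maximalIdeal A).map (algebraMap A A')).IsPrime ∧
      ((IsLocalRing.maximalIdeal A).map (algebraMap A A')).height = 1 := by
  obtain ⟨hflat, hfib⟩ := h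
  let m := IsLocalRing.maximalIdeal A
  let mA' : Ideal A' := m.map (algebraMap A A')
  have hle : mA' ≤ IsLocalRing.maximalIdeal A' :=
    Ideal.map_le_iff_le_comap.2 fun a ha hu => ha (isUnit_of_map_unit (algebraMap A A') a hu)
  haveI : Nontrivial (A' ⧸ mA') :=
    Ideal.Quotient.nontrivial_iff.mpr fun h => (IsLocalRing.maximalIdeal.isMaximal A').ne_top (top_le_iff.1 (h.ge.trans hle))
  haveI : IsLocalRing (A' ⧸ mA') := IsLocalRing.of_surjective' _ Ideal.Quotient.mk_surjective
  let ek : (A ⧸ m) ≃ₐ[A] m.ResidueField :=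
    AlgEquiv.ofBijective (IsScalarTower.toAlgHom A (A ⧸ m) m.ResidueField) (Ideal.bijective_algebraMap_quotient_residueField m)
  let e1 : (m.ResidueField ⊗[m.ResidueField] m.Fiber A') ≃+* m.Fiber A' :=
    (Algebra.TensorProduct.lid m.ResidueField (m.Fiber A')).toRingEquiv
  let e2 : m.Fiber A' ≃+* (A ⧸ m) ⊗[A] A' :=
    (Algebra.TensorProduct.congr ek.symm (AlgEquiv.refl : A' ≃ₐ[A] A')).toRingEquiv
  let e3 : (A ⧸ m) ⊗[A] A' ≃+* A' ⧸ mA' :=
    (Algebra.TensorProduct.comm A (A ⧸ m) A').toRingEquiv.trans (Algebra.TensorProduct.quotIdealMapEquivTensorQuot A' m).toRingEquiv.symm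
  have hn : EGA4.IsNormalRing (A' ⧸ mA') := Groth.Agent.FlatLoc6.isNormalRing_of_ringEquiv (e1.trans (e2.trans e3))
    (hfib m m.ResidueField inferInstance)
  haveI : IsDomain (A' ⧸ mA') := Groth.Agent.FormCat.isDomain_of_isNormalRing_local _ hn
  haveI hP : mA'.IsPrime := (Ideal.Quotient.isDomain_iff_prime mA').1 inferInstance
  refine ⟨hP, ?_⟩
  haveI : mA'.LiesOver m := ⟨(IsLocalRing.maximalIdeal.isMaximal A).eq_of_le
    (fun h => hP.ne_top (by rw [Ideal.under_def] at h; exact (Ideal.comap_eq_top_iff.1 h))) Ideal.le_comap_map⟩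
  rw [Ideal.height_eq_height_add_of_liesOver_of_hasGoingDown m mA']
  have h0 : (mA'.map (Ideal.Quotient.mk (m.map (algebraMap A A')))).height = 0 := by
    rw [show mA'.map (Ideal.Quotient.mk (m.map (algebraMap A A'))) = ⊥ from Ideal.map_quotient_self mA']
    exact Ideal.height_bot
  have h1 : (m.height : WithBot ℕ∞) = 1 := by rw [IsLocalRing.maximalIdeal_height_eq_ringKrullDim, hA]
  rw [h0, add_zero]
  exact_mod_cast h1

end Groth.Agent.S4728
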