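import Groth.Statements.S4730
import Groth.Agent.DimFormula.Trdeg
import Mathlib
-- import your own Groth.Agent.* helpers here

set_option autoImplicit false
universe u
open EGA4

namespace Groth.Agent.S4730

open Polynomial in
/-- Let A be a Noetherian ring, p a prime ideal of A and q a prime ideal of the polynomial ring A[T]
lying over p. Then ht(p) + 1 = ht(q) + deg.tr_{κ(p)} κ(q), the transcendence degree being that of
the domain A[T]/q over the domain A/p. -/
theorem result (A : Type u) [CommRing A] [IsNoetherianRing A]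
    (p : Ideal A) [p.IsPrime] (q : Ideal A[X]) [q.IsPrime] [q.LiesOver p] :
    (p.height : Cardinal.{u}) + 1 = (q.height : Cardinal.{u}) + Algebra.trdeg (A ⧸ p) (A[X] ⧸ q) := by
  classical
  let e : MvPolynomial (Fin 1) A ≃ₐ[A] A[X] := MvPolynomial.uniqueAlgEquiv A (Fin 1)
  let φ : MvPolynomial (Fin 1) A →ₐ[A] A[X] ⧸ q := (Ideal.Quotient.mkₐ A q).comp e.toAlgHom
  let P : PrimeSpectrum (MvPolynomial (Fin 1) A) := ⟨q.comap e.toAlgHom.toRingHom, Ideal.comap_isPrime _ _⟩
  have hp : P.asIdeal.under A = p := by
    rw [Ideal.LiesOver.over (p := p) (P := q)]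
    ext a
    show e (algebraMap A _ a) ∈ q ↔ algebraMap A A[X] a ∈ q
    rw [e.commutes]
  have hker : RingHom.ker φ.toRingHom = P.asIdeal := by
    ext a
    exact Ideal.Quotient.eq_zero_iff_mem
  have h1 := Groth.Agent.DimFormula.fd_eq_trdeg A p φ (Ideal.Quotient.mk_surjective.comp e.surjective) P.asIdeal hker hp
  have h2 := Groth.Agent.DimFormula.height_add_fd_mvPolynomial A P
  have hP : Order.height P = q.height := by
    rw [← PrimeSpectrum.height_eq_orderHeight]
    exact RingEquiv.height_comap e.toRingEquiv q
  have hpp : Order.height (PrimeSpectrum.comap (algebraMap A (MvPolynomial (Fin 1) A)) P) = p.height := by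
    rw [← PrimeSpectrum.height_eq_orderHeight]
    exact congrArg Ideal.height hp
  rw [hP, hpp] at h2
  rw [← h1]
  have h3 := congrArg Cardinal.ofENat.{u} h2
  simpa [Cardinal.ofENat_add] using h3.symm

end Groth.Agent.S4730
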