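import Groth.Statements.S4731
import Mathlib.RingTheory.Noetherian.Basic
import Mathlib.RingTheory.Finiteness.Ideal
import Mathlib.RingTheory.Ideal.Quotient.Operations

set_option autoImplicit false
universe u
open EGA4

namespace Groth.Agent.S4731

/-- Let S → R be an injective homomorphism of commutative rings making R a finite S-module, with R
Noetherian; let c be the conductor of S in R, the ideal of those s in S with s R contained in (the
image of) S. If S/c is Noetherian, then every increasing sequence of ideals of S contained in c is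
eventually constant. -/
theorem result (S R : Type u) [CommRing S] [CommRing R] [Algebra S R]
    [FaithfulSMul S R] [IsNoetherianRing R] [Module.Finite S R] (c : Ideal S)
    (hc : ∀ s : S, s ∈ c ↔ ∀ r : R, ∃ s' : S, algebraMap S R s' = algebraMap S R s * r)
    [IsNoetherianRing (S ⧸ c)] (a : ℕ →o Ideal S) (ha : ∀ n, a n ≤ c) :
    ∃ N : ℕ, ∀ n, N ≤ n → a n = a N := by
  classical
  let ι := algebraMap S R
  have hι : Function.Injective ι := FaithfulSMul.algebraMap_injective S R
  let b : ℕ →o Ideal R := ⟨fun n => (a n).map ι, fun i j h => Ideal.map_mono (a.mono h)⟩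
  obtain ⟨N, hN⟩ := monotone_stabilizes_iff_noetherian.mpr (inferInstance : IsNoetherian R R) b
  have hrange : ∀ (I : Ideal S), I ≤ c → ∀ y ∈ I.map ι, ∃ s, ι s = y := by
    intro I hI y hy
    induction hy using Submodule.span_induction with
    | mem x hx => obtain ⟨s, -, rfl⟩ := hx; exact ⟨s, rfl⟩
    | zero => exact ⟨0, map_zero _⟩
    | add x y _ _ hx hy => obtain ⟨s, rfl⟩ := hx; obtain ⟨t, rfl⟩ := hy; exact ⟨s + t, map_add _ _ _⟩
    | smul r x hx _ =>
      clear * - hI hc hx
      induction hx using Submodule.span_induction generalizing r with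
      | mem x hx =>
        obtain ⟨s, hs, rfl⟩ := hx
        obtain ⟨s', hs'⟩ := (hc s).1 (hI hs) r
        exact ⟨s', by rw [smul_eq_mul, mul_comm]; exact hs'⟩
      | zero => exact ⟨0, by simp⟩
      | add x y _ _ hx hy =>
        obtain ⟨s, hs⟩ := hx r; obtain ⟨t, ht⟩ := hy r
        exact ⟨s + t, by rw [map_add, hs, ht, smul_add]⟩
      | smul r' x _ hx => obtain ⟨s, hs⟩ := hx (r * r'); exact ⟨s, by rw [hs, mul_smul]⟩
  let J : Ideal S := ((a N).map ι).comap ι
  have hJfg : J.FG := by
    refine Submodule.fg_of_fg_map_injective (Algebra.linearMap S R) hι ?_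
    have : Submodule.map (Algebra.linearMap S R) J = ((a N).map ι).restrictScalars S := by
      ext y
      constructor
      · rintro ⟨s, hs, rfl⟩; exact hs
      · intro hy
        obtain ⟨s, rfl⟩ := hrange (a N) (ha N) y hy
        exact ⟨s, hy, rfl⟩
    rw [this]
    exact Submodule.FG.restrictScalars (IsNoetherian.noetherian _)
  have hle : ∀ n, N ≤ n → a n ≤ J := fun n hn x hx => by
    show ι x ∈ (a N).map ι
    rw [show (a N).map ι = (a n).map ι from hN n hn]
    exact Ideal.mem_map_of_mem ι hx
  have hcJ : ∀ n, N ≤ n → c * J ≤ a n := fun n hn => Ideal.mul_le.2 fun s hs j hj => by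
    have hj' : ι j ∈ (a n).map ι := by
      rw [← show (a N).map ι = (a n).map ι from hN n hn]; exact hj
    have key : ∀ y ∈ (a n).map ι, ∀ r : R, ∃ z ∈ a n, ι z = ι s * r * y := by
      intro y hy
      induction hy using Submodule.span_induction with
      | mem x hx =>
        intro r
        obtain ⟨x, hx, rfl⟩ := hx
        obtain ⟨s', hs'⟩ := (hc s).1 hs r
        exact ⟨s' * x, (a n).mul_mem_left _ hx, by rw [map_mul, hs']⟩
      | zero => intro r; exact ⟨0, zero_mem _, by simp⟩
      | add x y _ _ hx hy =>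
        intro r
        obtain ⟨z, hz, hz'⟩ := hx r; obtain ⟨w, hw, hw'⟩ := hy r
        exact ⟨z + w, add_mem hz hw, by rw [map_add, hz', hw']; ring⟩
      | smul t x _ hx =>
        intro r
        obtain ⟨z, hz, hz'⟩ := hx (r * t)
        exact ⟨z, hz, by rw [hz', smul_eq_mul]; ring⟩
    obtain ⟨z, hz, hz'⟩ := key _ hj' 1
    have : z = s * j := hι (by rw [hz', mul_one, map_mul])
    exact this ▸ hz
  haveI : Module.Finite S J := Module.Finite.iff_fg.2 hJfg
  let Q := ↥J ⧸ c • (⊤ : Submodule S J)
  haveI : Module.Finite (S ⧸ c) Q := Module.Finite.of_restrictScalars_finite S _ _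
  haveI hnQ : IsNoetherian S Q := by
    haveI : IsNoetherian (S ⧸ c) Q := isNoetherian_of_isNoetherianRing_of_finite _ _
    let f : Submodule S Q → Submodule (S ⧸ c) Q := fun P =>
      { toAddSubmonoid := P.toAddSubmonoid
        smul_mem' := fun r x hx => by
          obtain ⟨r, rfl⟩ := Ideal.Quotient.mk_surjective r
          exact P.smul_mem r hx }
    have hf : StrictMono f := fun P P' h => lt_iff_le_and_ne.2
      ⟨fun x hx => h.le hx, fun he => h.ne (SetLike.ext fun x => by
        have := SetLike.ext_iff.1 he x; exact this)⟩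
    haveI : WellFoundedGT (Submodule (S ⧸ c) Q) := isNoetherian_iff'.1 this
    exact isNoetherian_iff'.2 hf.wellFoundedGT
  let d : ℕ →o Submodule S Q := ⟨fun k => (Submodule.comap J.subtype (a (N + k))).map (Submodule.mkQ _),
    fun i j h => Submodule.map_mono (Submodule.comap_mono (a.mono (Nat.add_le_add_left h N)))⟩
  obtain ⟨M, hM⟩ := monotone_stabilizes_iff_noetherian.mpr hnQ d
  refine ⟨N + M, fun n hn => le_antisymm (fun x hx => ?_) (a.mono hn)⟩
  obtain ⟨k, rfl⟩ : ∃ k, n = N + k := ⟨n - N, by omega⟩
  have hxJ : x ∈ J := hle _ (Nat.le_add_right _ _) hx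
  have hmem : Submodule.Quotient.mk (p := c • (⊤ : Submodule S J)) (⟨x, hxJ⟩ : J) ∈ d M := by
    rw [hM k (by omega)]; exact ⟨⟨x, hxJ⟩, hx, rfl⟩
  obtain ⟨⟨y, hyJ⟩, hy, hyx⟩ := hmem
  have hd := (Submodule.Quotient.eq _).1 hyx
  rw [Submodule.mem_smul_top_iff] at hd
  have : y - x ∈ a (N + M) := hcJ _ (Nat.le_add_right _ _) hd
  simpa using sub_mem (show y ∈ a (N + M) from hy) this

end Groth.Agent.S4731
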