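import Groth.Statements.S4732
-- import your own Groth.Agent.* helpers here
import Groth.Agent.GrpSchLib.SmoothRegular
import Mathlib.AlgebraicGeometry.Morphisms.Smooth

set_option linter.style.haveILetI false

set_option autoImplicit false
universe u
open EGA4

namespace Groth.Agent.S4732

open AlgebraicGeometry CategoryTheory in
/-- Let k be a field, X a scheme locally of finite type over k and x a point of X. Then there are an
open neighbourhood U of x, a k-scheme Y all of whose local rings are regular, and an immersion U → Y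
compatible with the structure morphisms to Spec k. -/
theorem result (k : Type u) [Field k] {X : Scheme.{u}}
    (f : X ⟶ Spec (CommRingCat.of k)) [LocallyOfFiniteType f] (x : X) :
    ∃ (U : X.Opens) (_ : x ∈ U) (Y : Scheme.{u}) (g : Y ⟶ Spec (CommRingCat.of k)) (i : (U : Scheme.{u}) ⟶ Y),
      IsImmersion i ∧ i ≫ g = U.ι ≫ f ∧ ∀ y : Y, IsRegularLocalRing (Y.presheaf.stalk y) := by
  obtain ⟨U, hU, hxU, -⟩ := exists_isAffineOpen_mem_and_subset (x := x) (U := ⊤) trivial
  haveI : IsAffine U.toScheme := hU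
  let ψ := Spec.preimage (hU.isoSpec.inv ≫ U.ι ≫ f)
  letI : Algebra k Γ(X, U) := ψ.hom.toAlgebra
  have hψ : hU.isoSpec.inv ≫ U.ι ≫ f = Spec.map (CommRingCat.ofHom (algebraMap k Γ(X, U))) :=
    (Spec.map_preimage _).symm
  haveI : Algebra.FiniteType k Γ(X, U) := by
    have h1 : LocallyOfFiniteType (Spec.map (CommRingCat.ofHom (algebraMap k Γ(X, U)))) := by
      rw [← hψ]; infer_instance
    exact RingHom.finiteType_algebraMap.1 (HasRingHomProperty.Spec_iff.1 h1)
  obtain ⟨n, φ, hφ⟩ := Algebra.FiniteType.iff_quotient_mvPolynomial''.1 ‹Algebra.FiniteType k Γ(X, U)›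
  let g : Spec (CommRingCat.of (MvPolynomial (Fin n) k)) ⟶ Spec (CommRingCat.of k) :=
    Spec.map (CommRingCat.ofHom (algebraMap k _))
  haveI : Smooth g := (HasRingHomProperty.Spec_iff (P := @Smooth)).2
    ((RingHom.smooth_algebraMap (R := k)).2 ⟨inferInstance, inferInstance⟩)
  haveI : IsClosedImmersion (Spec.map (CommRingCat.ofHom φ.toRingHom)) := IsClosedImmersion.spec_of_surjective _ hφ
  refine ⟨U, hxU, _, g, hU.isoSpec.hom ≫ Spec.map (CommRingCat.ofHom φ.toRingHom), inferInstance, ?_,
    fun y => Groth.Agent.GrpSchLib.isRegularLocalRing_stalk_of_smooth g y⟩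
  rw [Category.assoc, ← Spec.map_comp, show CommRingCat.ofHom (algebraMap k _) ≫ CommRingCat.ofHom φ.toRingHom =
    CommRingCat.ofHom (algebraMap k Γ(X, U)) from CommRingCat.hom_ext φ.comp_algebraMap, ← hψ, Iso.hom_inv_id_assoc]

end Groth.Agent.S4732
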