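import Groth.Statements.S4739
import Groth.Agent.CplBC.Basic
-- import your own Groth.Agent.* helpers here

set_option autoImplicit false
universe u
open EGA4

open IsLocalRing

namespace Groth.Agent.S4739

theorem mul_sub_mk' {T L : Type*} [CommRing T] [CommRing L] [Algebra T L] {M : Submonoid T} [IsLocalization M L]
    (s : M) (c x : T) :
    algebraMap T L s * (algebraMap T L c - IsLocalization.mk' L x s) = algebraMap T L (s * c - x) := by
  rw [mul_sub, IsLocalization.mk'_spec', ← map_mul, ← map_sub]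

open TensorProduct in
/-- Let A → B be a local homomorphism of Noetherian local rings and Â the completion of A, and suppose
B' = B ⊗_A Â is Noetherian. Then for every prime ideal n' of B' lying over the maximal ideal of B
and containing the image of the maximal ideal of A through Â (that is, lying over the maximal ideal
m_A Â of Â), the completion of B and the completion of the local ring B'_{n'} are isomorphic
(existence of a ring isomorphism only). -/
theorem result (A B : Type u) [CommRing A] [CommRing B] [IsNoetherianRing A]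
    [IsNoetherianRing B] [IsLocalRing A] [IsLocalRing B] [Algebra A B] [IsLocalHom (algebraMap A B)]
    [IsNoetherianRing (B ⊗[A] EGA4.Cpl A)] (n' : Ideal (B ⊗[A] EGA4.Cpl A)) [n'.IsPrime]
    (h1 : n'.comap (algebraMap B (B ⊗[A] EGA4.Cpl A)) = IsLocalRing.maximalIdeal B)
    (h2 : (IsLocalRing.maximalIdeal A).map
        ((Algebra.TensorProduct.includeRight.toRingHom : EGA4.Cpl A →+* B ⊗[A] EGA4.Cpl A).comp
          (algebraMap A (EGA4.Cpl A))) ≤ n') :
    Nonempty (EGA4.Cpl B ≃+* EGA4.Cpl (Localization.AtPrime n')) := by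
  let mB := maximalIdeal B
  have hA : ∀ k, (maximalIdeal A ^ k).map (algebraMap A B) ≤ mB ^ k := fun k => by
    rw [Ideal.map_pow]
    exact Ideal.pow_right_mono (((local_hom_TFAE (algebraMap A B)).out 0 2).1 ‹IsLocalHom (algebraMap A B)›) k
  have happ : ∀ k, ∀ x : (B ⊗[A] EGA4.Cpl A), ∃ b : B, x - algebraMap B (B ⊗[A] EGA4.Cpl A) b ∈ (mB ^ k).map (algebraMap B (B ⊗[A] EGA4.Cpl A)) := by
    intro k x
    induction x using TensorProduct.induction_on with
    | zero => exact ⟨0, by simp⟩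
    | add x y hx hy =>
      obtain ⟨b, hb⟩ := hx
      obtain ⟨c, hc⟩ := hy
      refine ⟨b + c, ?_⟩
      have e : x + y - algebraMap B (B ⊗[A] EGA4.Cpl A) (b + c) = (x - algebraMap B (B ⊗[A] EGA4.Cpl A) b) + (y - algebraMap B (B ⊗[A] EGA4.Cpl A) c) := by
        rw [map_add]; ring
      exact e ▸ add_mem hb hc
    | tmul b c =>
      obtain ⟨a, ha⟩ := CplFib6.exists_sub_mem_pow A k c
      have h3 := Ideal.mem_map_of_mem (Algebra.TensorProduct.includeRight : EGA4.Cpl A →ₐ[A] (B ⊗[A] EGA4.Cpl A)).toRingHom ha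
      rw [Ideal.map_map, AlgHom.toRingHom_eq_coe, AlgHom.comp_algebraMap,
        IsScalarTower.algebraMap_eq A B (B ⊗[A] EGA4.Cpl A), ← Ideal.map_map] at h3
      refine ⟨b * algebraMap A B a, ?_⟩
      have e : b ⊗ₜ[A] c - algebraMap B (B ⊗[A] EGA4.Cpl A) (b * algebraMap A B a) =
          algebraMap B (B ⊗[A] EGA4.Cpl A) b * (Algebra.TensorProduct.includeRight (c - algebraMap A (EGA4.Cpl A) a)) := by
        rw [map_sub, AlgHom.commutes, mul_sub, map_mul, ← IsScalarTower.algebraMap_apply A B (B ⊗[A] EGA4.Cpl A)]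
        congr 1
        simp [Algebra.TensorProduct.algebraMap_apply]
      rw [e]
      exact Ideal.mul_mem_left _ _ (Ideal.map_mono (hA k) h3)
  let ψ : ∀ k, (B ⊗[A] EGA4.Cpl A) →ₐ[A] B ⧸ mB ^ k := fun k =>
    Algebra.TensorProduct.lift (Ideal.Quotient.mkₐ A (mB ^ k))
      ((Ideal.quotientMapₐ (mB ^ k) (Algebra.ofId A B) (Ideal.map_le_iff_le_comap.1 (hA k))).comp
        (AdicCompletion.evalₐ (maximalIdeal A) k))
      fun _ _ => Commute.all _ _
  have hψ : ∀ k b, ψ k (algebraMap B (B ⊗[A] EGA4.Cpl A) b) = Ideal.Quotient.mk _ b := fun k b => by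
    simp [ψ, Algebra.TensorProduct.algebraMap_apply]
  have hψ0 : ∀ k, ∀ x ∈ (mB ^ k).map (algebraMap B (B ⊗[A] EGA4.Cpl A)), ψ k x = 0 := fun k x hx => by
    have : (mB ^ k).map (algebraMap B (B ⊗[A] EGA4.Cpl A)) ≤ RingHom.ker (ψ k).toRingHom := by
      rw [Ideal.map_le_iff_le_comap]
      intro b hb
      show ψ k _ = 0
      rw [hψ]
      exact Ideal.Quotient.eq_zero_iff_mem.2 hb
    exact this hx
  have hn' : mB.map (algebraMap B (B ⊗[A] EGA4.Cpl A)) = n' := by
    refine le_antisymm (Ideal.map_le_iff_le_comap.2 h1.ge) fun x hx => ?_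
    obtain ⟨b, hb⟩ := happ 1 x
    rw [pow_one] at hb
    have hbm : b ∈ mB := by
      show b ∈ maximalIdeal B
      rw [← h1, Ideal.mem_comap]
      have := sub_mem hx (Ideal.map_le_iff_le_comap.2 h1.ge hb)
      rwa [sub_sub_cancel] at this
    exact (sub_add_cancel x (algebraMap B (B ⊗[A] EGA4.Cpl A) b)) ▸ add_mem hb (Ideal.mem_map_of_mem _ hbm)
  have hunit : ∀ k b, ∀ s : n'.primeCompl, (s : (B ⊗[A] EGA4.Cpl A)) - algebraMap B (B ⊗[A] EGA4.Cpl A) b ∈ (mB ^ (k + 1)).map (algebraMap B (B ⊗[A] EGA4.Cpl A)) → IsUnit b := by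
    intro k b s hb
    by_contra hu
    refine s.2 (hn'.le ?_)
    rw [← sub_add_cancel (s : (B ⊗[A] EGA4.Cpl A)) (algebraMap B (B ⊗[A] EGA4.Cpl A) b)]
    exact add_mem (Ideal.map_mono (Ideal.pow_le_self k.succ_ne_zero) hb) (Ideal.mem_map_of_mem _ hu)
  let f : B →+* (Localization.AtPrime n') := (algebraMap (B ⊗[A] EGA4.Cpl A) (Localization.AtPrime n')).comp (algebraMap B (B ⊗[A] EGA4.Cpl A))
  have hmax : maximalIdeal (Localization.AtPrime n') = mB.map f := by
    rw [← Ideal.map_map, hn', Localization.AtPrime.map_eq_maximalIdeal]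
  have hle : ∀ k, mB ^ k ≤ (maximalIdeal (Localization.AtPrime n') ^ k).comap f := fun k => by
    rw [hmax, ← Ideal.map_pow]; exact Ideal.le_comap_map
  refine CplBC.nonempty_equiv_of_hom f hle fun k => ?_
  rcases k with _ | k
  · refine ⟨fun x y _ => ?_, fun y => ⟨0, ?_⟩⟩
    · obtain ⟨x, rfl⟩ := Ideal.Quotient.mk_surjective x
      obtain ⟨y, rfl⟩ := Ideal.Quotient.mk_surjective y
      exact Ideal.Quotient.eq.2 (by simp)
    · obtain ⟨y, rfl⟩ := Ideal.Quotient.mk_surjective y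
      rw [map_zero, eq_comm, Ideal.Quotient.eq_zero_iff_mem]
      simp
  have hpow : maximalIdeal (Localization.AtPrime n') ^ (k + 1) = ((mB ^ (k + 1)).map (algebraMap B (B ⊗[A] EGA4.Cpl A))).map (algebraMap (B ⊗[A] EGA4.Cpl A) (Localization.AtPrime n')) := by
    rw [hmax, ← Ideal.map_pow, ← Ideal.map_map]
  refine ⟨?_, fun y => ?_⟩
  · rw [injective_iff_map_eq_zero]
    intro x hx
    obtain ⟨b, rfl⟩ := Ideal.Quotient.mk_surjective x
    rw [Ideal.quotientMap_mk, Ideal.Quotient.eq_zero_iff_mem, hpow, RingHom.comp_apply,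
      IsLocalization.algebraMap_mem_map_algebraMap_iff n'.primeCompl] at hx
    obtain ⟨s, hs, hsb⟩ := hx
    obtain ⟨c, hc⟩ := happ (k + 1) s
    have h := hψ0 (k + 1) _ hsb
    have hs' := hψ0 (k + 1) _ hc
    rw [map_sub, hψ, sub_eq_zero] at hs'
    rw [map_mul, hψ, hs', ((hunit k c ⟨s, hs⟩ hc).map (Ideal.Quotient.mk _)).mul_right_eq_zero] at h
    exact h
  · obtain ⟨y, rfl⟩ := Ideal.Quotient.mk_surjective y
    obtain ⟨x, s, rfl⟩ := IsLocalization.exists_mk'_eq n'.primeCompl y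
    obtain ⟨bx, hbx⟩ := happ (k + 1) x
    obtain ⟨bs, hbs⟩ := happ (k + 1) (s : (B ⊗[A] EGA4.Cpl A))
    obtain ⟨u, hu⟩ := hunit k bs s hbs
    refine ⟨Ideal.Quotient.mk _ (bx * (u⁻¹ : Bˣ)), ?_⟩
    rw [Ideal.quotientMap_mk, Ideal.Quotient.eq, hpow]
    have hsu : IsUnit (algebraMap (B ⊗[A] EGA4.Cpl A) (Localization.AtPrime n') (s : (B ⊗[A] EGA4.Cpl A))) := IsLocalization.map_units (Localization.AtPrime n') s
    rw [← Ideal.unit_mul_mem_iff_mem _ hsu]
    have e1 := mul_sub_mk' (L := Localization.AtPrime n') s (algebraMap B (B ⊗[A] EGA4.Cpl A) (bx * (u⁻¹ : Bˣ))) x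
    refine (congrArg (· ∈ _) e1).mpr (Ideal.mem_map_of_mem _ ?_)
    have hb' : algebraMap B (B ⊗[A] EGA4.Cpl A) bs * algebraMap B (B ⊗[A] EGA4.Cpl A) (bx * (u⁻¹ : Bˣ)) = algebraMap B (B ⊗[A] EGA4.Cpl A) bx := by
      rw [← map_mul, ← hu, mul_left_comm, Units.mul_inv, mul_one]
    have e : (s : (B ⊗[A] EGA4.Cpl A)) * algebraMap B (B ⊗[A] EGA4.Cpl A) (bx * (u⁻¹ : Bˣ)) - x =
        ((s : (B ⊗[A] EGA4.Cpl A)) - algebraMap B (B ⊗[A] EGA4.Cpl A) bs) * algebraMap B (B ⊗[A] EGA4.Cpl A) (bx * (u⁻¹ : Bˣ)) - (x - algebraMap B (B ⊗[A] EGA4.Cpl A) bx) := by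
      rw [sub_mul, hb']; ring
    exact e ▸ sub_mem (Ideal.mul_mem_right _ _ hbs) hbx

end Groth.Agent.S4739
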