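import Groth.Statements.S4777
import Groth.Agent.PopescuLib.FPColim
import Mathlib

set_option autoImplicit false
set_option backward.isDefEq.respectTransparency false
universe u
open CategoryTheory
open Lim8

namespace Groth.Agent.S4777

theorem fp_of_retract {A X B : Type u} [CommRing A] [CommRing X] [Algebra A X] [CommRing B] [Algebra A B]
    [Algebra.FinitePresentation A X] (π : X →ₐ[A] B) (s : B →ₐ[A] X) (hs : ∀ b, π (s b) = b) :
    Algebra.FinitePresentation A B := by
  classical
  have hsurj : Function.Surjective π := fun b => ⟨s b, hs b⟩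
  obtain ⟨T, hT⟩ := Algebra.FiniteType.out (R := A) (A := X)
  let K : Ideal X := Ideal.span ((T.image fun t => t - s (π t) : Finset X) : Set X)
  refine Algebra.FinitePresentation.of_surjective hsurj ?_
  have hle : K ≤ RingHom.ker π.toRingHom := Ideal.span_le.2 fun t ht => by
    obtain ⟨t, -, rfl⟩ := Finset.mem_image.1 (Finset.mem_coe.1 ht)
    rw [SetLike.mem_coe, RingHom.mem_ker]
    show π (t - s (π t)) = 0
    rw [map_sub, hs, sub_self]
  have hge : RingHom.ker π.toRingHom ≤ K := by
    intro z hz
    have hz' : π z = 0 := hz
    have hext : (Ideal.Quotient.mkₐ A K).comp (s.comp π) = Ideal.Quotient.mkₐ A K := by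
      refine AlgHom.ext_of_adjoin_eq_top hT fun t ht => ?_
      have hmem : t - s (π t) ∈ K := Ideal.subset_span (Finset.mem_coe.2
        (Finset.mem_image_of_mem (fun t => t - s (π t)) (Finset.mem_coe.1 ht)))
      show Ideal.Quotient.mk K (s (π t)) = Ideal.Quotient.mk K t
      exact ((Ideal.Quotient.mk_eq_mk_iff_sub_mem t (s (π t))).2 hmem).symm
    have h1 := AlgHom.congr_fun hext z
    rw [AlgHom.comp_apply, AlgHom.comp_apply, hz', map_zero, map_zero, Ideal.Quotient.mkₐ_eq_mk] at h1
    exact Ideal.Quotient.eq_zero_iff_mem.1 h1.symm
  rw [le_antisymm hge hle]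
  exact ⟨_, rfl⟩

/-- Let B be an algebra over a commutative ring A. If, for every inductive system (C_λ) of A-algebras
indexed by a nonempty directed preordered set, the canonical map colim Hom_A(B, C_λ) → Hom_A(B,
colim C_λ) is bijective (that is, Hom_A(B, -) preserves the colimit of the system), then B is an
A-algebra of finite presentation. (This is the necessity half of the characterization of algebras of
finite presentation by this property; the converse is standard.) -/
theorem result {A B : CommRingCat.{u}} (f : A ⟶ B)
    (h : ∀ (J : Type u) [Preorder J] [IsDirected J (· ≤ ·)] [Nonempty J] (F : J ⥤ Under A),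
      Limits.PreservesColimit F (coyoneda.obj (Opposite.op (Under.mk f)))) :
    f.hom.FinitePresentation := by
  classical
  letI : Algebra A B := f.hom.toAlgebra
  show Algebra.FinitePresentation A B
  obtain ⟨J, _, _, _, F, _⟩ := IsFiltered.exists_directed (PopescuLib.FPModel (A : Type u) (B : Type u))
  let D : J ⥤ Under A := F ⋙ PopescuLib.fpDiagram (A : Type u) (B : Type u)
  let hcol : Limits.IsColimit ((PopescuLib.fpCocone (A : Type u) (B : Type u)).whisker F) :=
    (Functor.Final.isColimitWhiskerEquiv F _).symm (PopescuLib.fpIsColimit (A : Type u) (B : Type u))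
  haveI := h J D
  let G : Under A ⥤ Type u := coyoneda.obj (Opposite.op (Under.mk f))
  obtain ⟨j, σ, hσ⟩ := Limits.Types.jointly_surjective_of_isColimit (Limits.isColimitOfPreserves G hcol)
    (show G.obj _ from 𝟙 (Under.mk f))
  let X := F.obj j
  let s : (B : Type u) →ₐ[(A : Type u)] X.Alg :=
    { σ.right.hom with commutes' := fun a => congr($(Under.w σ) a) }
  have hs : ∀ b, X.toB (s b) = b := fun b => congr(($hσ).right b)
  exact fp_of_retract X.toB s hs

end Groth.Agent.S4777
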