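import Groth.Statements.S4778
import Mathlib.AlgebraicGeometry.AffineTransitionLimit
import Mathlib.AlgebraicGeometry.Morphisms.FinitePresentation
import Mathlib.RingTheory.FinitePresentation
import Mathlib.CategoryTheory.Limits.Connected

set_option autoImplicit false
set_option backward.isDefEq.respectTransparency false
universe u
open CategoryTheory AlgebraicGeometry
open Lim8

namespace Groth.Agent.S4778

open CategoryTheory.Limits

/-- Recognizing directed colimits of rings. -/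
theorem nonempty_isColimit_of {J : Type u} [Preorder J] [IsDirectedOrder J] [Nonempty J] (D : J ⥤ CommRingCat.{u})
    (c : Cocone D) (hs : ∀ a : c.pt, ∃ j x, a = (c.ι.app j).hom x)
    (he : ∀ j x y, (c.ι.app j).hom x = (c.ι.app j).hom y → ∃ (k : J) (m : j ⟶ k), (D.map m).hom x = (D.map m).hom y) :
    Nonempty (IsColimit c) := by
  haveI : ReflectsColimitsOfShape J (forget CommRingCat.{u}) := reflectsColimitsOfShape_of_reflectsIsomorphisms
  exact ⟨isColimitOfReflects (forget CommRingCat.{u})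
    (Types.FilteredColimit.isColimitOf' _ _ hs he)⟩

/-- The lifting property for a system of rings with colimit the sections over an affine open. -/
theorem exists_section_stage {X S : Scheme.{u}} (f : X ⟶ S)
    (h : ∀ (U : S.Opens), IsAffineOpen U →
      ∀ (J : Type u) [Preorder J] [IsDirected J (· ≤ ·)] [Nonempty J] (Z : Jᵒᵖ ⥤ Over (U : Scheme.{u})),
      (∀ j, IsAffine (Z.obj j).left) →
      Limits.PreservesColimit (Z ⋙ Over.map U.ι).op (yoneda.obj (Over.mk f)))
    {U : S.Opens} (hU : IsAffineOpen U) {V : X.Opens} (hV : IsAffineOpen V) (e : V ≤ f ⁻¹ᵁ U)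
    {J : Type u} [Preorder J] [IsDirectedOrder J] [Nonempty J] (D : J ⥤ CommRingCat.{u})
    (ι : D ⟶ (Functor.const J).obj Γ(X, V)) (hc : IsColimit (Cocone.mk _ ι))
    (φ : ∀ j, Γ(S, U) ⟶ D.obj j) (hφ : ∀ {i j} (m : i ⟶ j), φ i ≫ D.map m = φ j)
    (hι : ∀ j, φ j ≫ ι.app j = f.appLE U V e) :
    ∃ (j : J) (σ : Γ(X, V) ⟶ D.obj j), f.appLE U V e ≫ σ = φ j ∧ σ ≫ ι.app j = 𝟙 _ := by
  let G : Jᵒᵖ ⥤ Scheme.{u} := D.op ⋙ Scheme.Spec
  have hw : ∀ {i j : Jᵒᵖ} (m : i ⟶ j), G.map m ≫ (Spec.map (φ j.unop) ≫ hU.isoSpec.inv) =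
      Spec.map (φ i.unop) ≫ hU.isoSpec.inv := fun {i j} m => by
    show Spec.map (D.map m.unop) ≫ Spec.map (φ j.unop) ≫ _ = _
    rw [← Spec.map_comp_assoc, hφ]
  let Z : Jᵒᵖ ⥤ Over (U : Scheme.{u}) := G.toOver _ (fun j => Spec.map (φ j.unop) ≫ hU.isoSpec.inv) hw
  haveI := h U hU J Z (fun j => inferInstanceAs (IsAffine (Spec (D.obj j.unop))))
  let c : Cone (Z ⋙ Over.map U.ι) :=
    { pt := Over.mk (hV.fromSpec ≫ f)
      π :=
        { app := fun j => Over.homMk (Spec.map (ι.app j.unop)) (by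
            show Spec.map _ ≫ (Spec.map _ ≫ hU.isoSpec.inv) ≫ U.ι = hV.fromSpec ≫ f
            rw [Category.assoc, hU.isoSpec_inv_ι, ← Spec.map_comp_assoc, hι, IsAffineOpen.SpecMap_appLE_fromSpec])
          naturality := fun i j m => by
            apply Over.OverMorphism.ext
            show 𝟙 _ ≫ Spec.map (ι.app j.unop) = Spec.map (ι.app i.unop) ≫ Spec.map (D.map m.unop)
            rw [Category.id_comp, ← Spec.map_comp, ι.naturality]
            simp } }
  haveI : IsConnected Jᵒᵖ := IsCofiltered.isConnected _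
  let cs : Cone G := Scheme.Spec.mapCone (Cocone.mk _ ι).op
  have hcs : IsLimit cs := isLimitOfPreserves Scheme.Spec hc.op
  have hlim : IsLimit c := isLimitOfReflects (Over.forget S) (show IsLimit ((Over.forget S).mapCone c) from hcs)
  obtain ⟨⟨j⟩, x, hx⟩ := Types.jointly_surjective _
    (isColimitOfPreserves (yoneda.obj (Over.mk f)) hlim.op) (Over.homMk hV.fromSpec rfl : c.pt ⟶ Over.mk f)
  obtain ⟨x₀, rfl⟩ : ∃ x₀ : (Z ⋙ Over.map U.ι).obj j ⟶ Over.mk f, x₀ = x := ⟨x, rfl⟩
  let x' : Spec (D.obj j.unop) ⟶ X := x₀.left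
  have hx' : Spec.map (ι.app j.unop) ≫ x' = hV.fromSpec := congrArg (fun z => CommaMorphism.left z) hx
  haveI : ∀ {a b : Jᵒᵖ} (m : a ⟶ b), IsAffineHom (G.map m) := fun m => by
    show IsAffineHom (Spec.map _); infer_instance
  haveI : ∀ a, CompactSpace (G.obj a) := fun a => inferInstanceAs (CompactSpace (Spec (D.obj a.unop)))
  obtain ⟨k, m, hm⟩ := exists_map_eq_top G cs hcs (i := j) (x' ⁻¹ᵁ V) (by
    show Spec.map (ι.app j.unop) ⁻¹ᵁ x' ⁻¹ᵁ V = ⊤
    rw [← Scheme.Hom.comp_preimage, hx', hV.fromSpec_preimage_self])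
  let y : Spec (D.obj k.unop) ⟶ X := Spec.map (D.map m.unop) ≫ x'
  have hy : Set.range y ⊆ Set.range hV.fromSpec := by
    rw [hV.range_fromSpec]
    rintro _ ⟨z, rfl⟩
    exact hm.ge (Set.mem_univ z)
  obtain ⟨σ, hσ⟩ := Spec.map_surjective (IsOpenImmersion.lift hV.fromSpec y hy)
  have hσ' : Spec.map σ ≫ hV.fromSpec = y := by rw [hσ, IsOpenImmersion.lift_fac]
  refine ⟨k.unop, σ, Spec.map_injective ?_, Spec.map_injective ?_⟩
  · have hxw : x' ≫ f = (Spec.map (φ j.unop) ≫ hU.isoSpec.inv) ≫ U.ι := Over.w x₀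
    rw [Spec.map_comp, ← cancel_mono hU.fromSpec, Category.assoc, IsAffineOpen.SpecMap_appLE_fromSpec _ hU hV,
      ← Category.assoc, hσ']
    show (Spec.map (D.map m.unop) ≫ x') ≫ f = _
    rw [Category.assoc, hxw, Category.assoc, hU.isoSpec_inv_ι, ← Spec.map_comp_assoc, hφ]
  · rw [Spec.map_comp, Spec.map_id, ← cancel_mono hV.fromSpec, Category.assoc, hσ']
    refine Eq.trans ?_ (Category.id_comp _).symm
    show Spec.map (ι.app k.unop) ≫ Spec.map (D.map m.unop) ≫ x' = _
    rw [← Spec.map_comp_assoc, ι.naturality]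
    simpa using hx'

/-- Let f : X ⟶ S be a morphism of schemes. Suppose that for every affine open U of S and every
projective system (Z_λ) of U-schemes indexed by a nonempty directed preordered set, with every Z_λ
an affine scheme, the functor Hom_S(-, X) takes the limit of the system to the colimit of the
Hom_S(Z_λ, X) (the canonical map from the colimit is bijective). Then f is locally of finite
presentation. -/
theorem result {X S : Scheme.{u}} (f : X ⟶ S)
    (h : ∀ (U : S.Opens), IsAffineOpen U →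
      ∀ (J : Type u) [Preorder J] [IsDirected J (· ≤ ·)] [Nonempty J] (Z : Jᵒᵖ ⥤ Over (U : Scheme.{u})),
      (∀ j, IsAffine (Z.obj j).left) →
      Limits.PreservesColimit (Z ⋙ Over.map U.ι).op (yoneda.obj (Over.mk f))) :
    LocallyOfFinitePresentation f := by
  rw [locallyOfFinitePresentation_iff]
  intro U hU V hV e
  algebraize [(f.appLE U V e).hom]
  classical
  haveI hft : Algebra.FiniteType Γ(S, U) Γ(X, V) := by
    let J := {T : Subalgebra Γ(S, U) Γ(X, V) // T.FG}
    haveI : Nonempty J := ⟨⟨⊥, Subalgebra.fg_bot⟩⟩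
    haveI : IsDirectedOrder J := ⟨fun a b => ⟨⟨a.1 ⊔ b.1, a.2.sup b.2⟩, show a.1 ≤ a.1 ⊔ b.1 from le_sup_left, show b.1 ≤ a.1 ⊔ b.1 from le_sup_right⟩⟩
    let D : J ⥤ CommRingCat.{u} :=
      { obj := fun T => CommRingCat.of T.1
        map := fun m => CommRingCat.ofHom (Subalgebra.inclusion (leOfHom m)).toRingHom }
    let ι : D ⟶ (Functor.const J).obj Γ(X, V) := { app := fun T => CommRingCat.ofHom T.1.val.toRingHom }
    obtain ⟨hc⟩ := nonempty_isColimit_of D (Cocone.mk _ ι)
      (fun a => ⟨⟨Algebra.adjoin _ {a}, Subalgebra.fg_adjoin_finset {a} |> fun h => by simpa using h⟩,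
        ⟨a, Algebra.self_mem_adjoin_singleton _ a⟩, rfl⟩)
      (fun j x y hxy => ⟨j, 𝟙 j, congrArg _ (Subtype.ext hxy)⟩)
    obtain ⟨T, σ, -, hσ⟩ := exists_section_stage f h hU hV e D ι hc
      (fun T => CommRingCat.ofHom (algebraMap Γ(S, U) T.1)) (fun m => rfl) (fun T => rfl)
    refine ⟨?_⟩
    convert T.2
    refine eq_comm.1 (Algebra.eq_top_iff.2 fun a => ?_)
    have := congr(($hσ).hom a)
    have h2 : ((σ.hom a : T.1) : Γ(X, V)) = a := this
    exact h2 ▸ (σ.hom a : T.1).2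
  obtain ⟨n, π, hπ⟩ := Algebra.FiniteType.iff_quotient_mvPolynomial''.1 hft
  let J := {I : Ideal (MvPolynomial (Fin n) Γ(S, U)) // I.FG ∧ I ≤ RingHom.ker π}
  haveI : Nonempty J := ⟨⟨⊥, Submodule.fg_bot, bot_le⟩⟩
  haveI : IsDirectedOrder J := ⟨fun a b => ⟨⟨a.1 ⊔ b.1, Submodule.FG.sup a.2.1 b.2.1, sup_le a.2.2 b.2.2⟩, show a.1 ≤ a.1 ⊔ b.1 from le_sup_left, show b.1 ≤ a.1 ⊔ b.1 from le_sup_right⟩⟩
  let D : J ⥤ CommRingCat.{u} :=
    { obj := fun I => CommRingCat.of (MvPolynomial (Fin n) Γ(S, U) ⧸ I.1)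
      map := fun m => CommRingCat.ofHom (Ideal.Quotient.factor (leOfHom m))
      map_id := fun I => CommRingCat.hom_ext (Ideal.Quotient.ringHom_ext rfl)
      map_comp := fun m m' => CommRingCat.hom_ext (Ideal.Quotient.ringHom_ext rfl) }
  let ι : D ⟶ (Functor.const J).obj Γ(X, V) :=
    { app := fun I => CommRingCat.ofHom (Ideal.Quotient.lift I.1 π.toRingHom fun a ha => I.2.2 ha)
      naturality := fun I I' m => CommRingCat.hom_ext (Ideal.Quotient.ringHom_ext rfl) }
  obtain ⟨hc⟩ := nonempty_isColimit_of D (Cocone.mk _ ι)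
    (fun a => by
      obtain ⟨p, hp⟩ := hπ a
      exact ⟨⟨⊥, Submodule.fg_bot, bot_le⟩, Ideal.Quotient.mk _ p, hp.symm⟩)
    (fun I x y hxy => by
      obtain ⟨x, rfl⟩ := Ideal.Quotient.mk_surjective x
      obtain ⟨y, rfl⟩ := Ideal.Quotient.mk_surjective y
      refine ⟨⟨I.1 ⊔ Ideal.span {x - y}, Submodule.FG.sup I.2.1 ⟨{x - y}, by simp⟩, sup_le I.2.2 ?_⟩, homOfLE (show I.1 ≤ I.1 ⊔ Ideal.span {x - y} from le_sup_left), ?_⟩
      · rw [Ideal.span_singleton_le_iff_mem, RingHom.mem_ker, map_sub, sub_eq_zero]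
        exact hxy
      · exact (Ideal.Quotient.eq).2 (Ideal.mem_sup_right (Ideal.mem_span_singleton_self _)))
  obtain ⟨I, σ, hσ₁, hσ⟩ := exists_section_stage f h hU hV e D ι hc
    (fun I => CommRingCat.ofHom (algebraMap Γ(S, U) (MvPolynomial (Fin n) Γ(S, U) ⧸ I.1)))
    (fun m => CommRingCat.hom_ext (RingHom.ext fun _ => rfl))
    (fun I => CommRingCat.hom_ext (RingHom.ext fun r => π.commutes r))
  choose r hr using fun i : Fin n => Ideal.Quotient.mk_surjective (σ.hom (π (MvPolynomial.X i)))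
  refine Algebra.FinitePresentation.of_surjective hπ
    (?_ : (RingHom.ker π.toRingHom).FG)
  suffices e' : RingHom.ker π.toRingHom = I.1 ⊔ Ideal.span (Set.range fun i => MvPolynomial.X i - r i) by
    rw [e']; exact Submodule.FG.sup I.2.1 (Submodule.fg_span (Set.finite_range _))
  refine le_antisymm (fun a ha => ?_) (sup_le I.2.2 (Ideal.span_le.2 ?_))
  · have key : Ideal.Quotient.mk (I.1 ⊔ Ideal.span (Set.range fun i => MvPolynomial.X i - r i)) =
        (Ideal.Quotient.factor le_sup_left).comp (σ.hom.comp π.toRingHom) := by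
      refine MvPolynomial.ringHom_ext (fun c => ?_) fun i => ?_
      · have h1 : σ.hom (π (MvPolynomial.C c)) = Ideal.Quotient.mk I.1 (MvPolynomial.C c) := by
          rw [← MvPolynomial.algebraMap_eq, π.commutes]
          exact congr(($hσ₁).hom c)
        show _ = Ideal.Quotient.factor le_sup_left (σ.hom (π (MvPolynomial.C c)))
        exact (congrArg (Ideal.Quotient.factor le_sup_left) h1).symm
      · show _ = Ideal.Quotient.factor le_sup_left (σ.hom (π (MvPolynomial.X i)))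
        rw [← congrArg (Ideal.Quotient.factor le_sup_left) (hr i)]
        exact Ideal.Quotient.eq.2 (Ideal.mem_sup_right (Ideal.subset_span ⟨i, rfl⟩))
    rw [← Ideal.Quotient.eq_zero_iff_mem, key]
    show Ideal.Quotient.factor le_sup_left (σ.hom (π a)) = 0
    rw [show π a = 0 from ha, map_zero, map_zero]
  · rintro _ ⟨i, rfl⟩
    have := congr(($hσ).hom (π (MvPolynomial.X i)))
    rw [CommRingCat.comp_apply, ← hr] at this
    show π (MvPolynomial.X i - r i) = 0
    rw [map_sub, sub_eq_zero]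
    exact this.symm

end Groth.Agent.S4778
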