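import Groth.Statements.S4807
-- import your own Groth.Agent.* helpers here
import Groth.Agent.AcycFin.IntegralLim
import Groth.Agent.AlgSpDec.LimImmersion

set_option autoImplicit false
set_option linter.style.haveILetI false
universe u
open CategoryTheory AlgebraicGeometry
open Lim8

set_option backward.isDefEq.respectTransparency false
set_option backward.isDefEq.respectTransparency.types false

namespace Groth.Agent.S4807

open TopologicalSpace CategoryTheory.Limits

theorem isImmersion_resLE_iff {X Y : Scheme.{u}} (f : X ⟶ Y) (U : Y.Opens) (V : X.Opens)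
    (e : V ≤ f ⁻¹ᵁ U) (hV : V = f ⁻¹ᵁ U) : IsImmersion (f.resLE U V e) ↔ IsImmersion (f ∣_ U) := by
  subst hV
  rw [Scheme.Hom.resLE_eq_morphismRestrict]

theorem exists_immersion {I : Type u} [SmallCategory I] [IsCofiltered I] {Y : Scheme.{u}} [CompactSpace Y]
    (D : I ⥤ Scheme.{u}) (c : Cone D) (hc : IsLimit c) (t : D ⟶ (Functor.const I).obj Y)
    (ht : ∀ i, IsAffineHom (t.app i)) {X : Scheme.{u}} (h : X ⟶ c.pt) [IsImmersion h] (q : c.pt ⟶ Y)
    (hq : ∀ i, c.π.app i ≫ t.app i = q) [QuasiCompact (h ≫ q)] [LocallyOfFiniteType (h ≫ q)] :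
    ∃ i : I, IsImmersion (h ≫ c.π.app i) := by
  classical
  haveI := IsCofiltered.isConnected I
  obtain ⟨i₁⟩ : Nonempty I := IsCofiltered.nonempty
  have htp : ∀ {i j : I} (f : i ⟶ j), D.map f ≫ t.app j = t.app i := fun {i j} f => by
    rw [t.naturality f]
    exact Category.comp_id _
  have key : ∀ V : Y.affineOpens, ∃ j : I, ∀ (k : I) (_ : k ⟶ j),
      IsImmersion ((h ≫ c.π.app k) ∣_ (t.app k ⁻¹ᵁ V.1)) := by
    intro V
    let U : (D.obj i₁).Opens := t.app i₁ ⁻¹ᵁ V.1
    let W := opensDiagram D i₁ U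
    have hU : ∀ k : Over i₁, D.map k.hom ⁻¹ᵁ U = t.app k.left ⁻¹ᵁ V.1 := fun k => by
      show D.map k.hom ⁻¹ᵁ (t.app i₁ ⁻¹ᵁ V.1) = _
      rw [← htp k.hom]
      rfl
    let Wo : Over i₁ ⥤ Over (V.1 : Scheme.{u}) :=
      { obj := fun k => Over.mk ((t.app k.left).resLE V.1 (D.map k.hom ⁻¹ᵁ U) (hU k).le)
        map := fun {j k} f => Over.homMk (W.map f) (by
          show (D.map f.left).resLE _ _ _ ≫ (t.app k.left).resLE _ _ _ = (t.app j.left).resLE _ _ _
          rw [Scheme.Hom.resLE_comp_resLE]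
          simp [htp f.left])
        map_id := fun j => Over.OverMorphism.ext (W.map_id j)
        map_comp := fun f g => Over.OverMorphism.ext (W.map_comp f g) }
    let Ω : c.pt.Opens := c.π.app i₁ ⁻¹ᵁ U
    have hΩ : Ω = q ⁻¹ᵁ V.1 := by
      show c.π.app i₁ ⁻¹ᵁ (t.app i₁ ⁻¹ᵁ V.1) = _
      rw [← hq i₁]
      rfl
    let co : Cone Wo :=
      { pt := Over.mk (q.resLE V.1 Ω hΩ.le)
        π :=
          { app := fun k => Over.homMk ((opensCone D c i₁ U).π.app k) (by
              show (c.π.app k.left).resLE _ _ _ ≫ (t.app k.left).resLE _ _ _ = q.resLE _ _ _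
              rw [Scheme.Hom.resLE_comp_resLE]
              simp [hq k.left])
            naturality := fun j k f => Over.OverMorphism.ext ((opensCone D c i₁ U).π.naturality f) } }
    have hco : IsLimit ((Over.forget (V.1 : Scheme.{u})).mapCone co) := isLimitOpensCone D c hc i₁ U
    haveI := IsCofiltered.isConnected (Over i₁)
    have hco' : IsLimit co := isLimitOfReflects (Over.forget (V.1 : Scheme.{u})) hco
    have hWA : ∀ k : Over i₁, IsAffine (Wo.obj k).left := fun k => by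
      show IsAffineOpen (D.map k.hom ⁻¹ᵁ U)
      rw [hU k]
      haveI := ht k.left
      exact V.2.preimage _
    let l : ((h ⁻¹ᵁ Ω : X.Opens) : Scheme.{u}) ⟶ co.pt.left := h ∣_ Ω
    haveI : IsImmersion l := IsZariskiLocalAtTarget.restrict (P := @IsImmersion) ‹_› Ω
    haveI : CompactSpace ((h ⁻¹ᵁ Ω : X.Opens) : Scheme.{u}) := by
      refine isCompact_iff_compactSpace.mp ?_
      rw [hΩ]
      exact QuasiCompact.isCompact_preimage (f := h ≫ q) _ V.1.2 V.2.isCompact
    haveI : LocallyOfFiniteType (l ≫ co.pt.hom) := by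
      show LocallyOfFiniteType ((h ∣_ Ω) ≫ q.resLE V.1 Ω hΩ.le)
      rw [← Scheme.Hom.resLE_eq_morphismRestrict, Scheme.Hom.resLE_comp_resLE, Scheme.Hom.resLE]
      infer_instance
    obtain ⟨j, hj⟩ := Groth.Agent.AlgSpDec.LimImmersion.exists_immersion_stage _ Wo hWA co hco' l
    refine ⟨j.left, fun k f => ?_⟩
    let k' : Over i₁ := Over.mk (f ≫ j.hom)
    have hi := hj k' (Over.homMk f rfl)
    change IsImmersion ((h ∣_ Ω) ≫ (c.π.app k).resLE (D.map (f ≫ j.hom) ⁻¹ᵁ U) Ω _) at hi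
    rw [← Scheme.Hom.resLE_eq_morphismRestrict, Scheme.Hom.resLE_comp_resLE,
      isImmersion_resLE_iff _ _ _ _ (by
        show h ⁻¹ᵁ (c.π.app i₁ ⁻¹ᵁ U) = h ⁻¹ᵁ (c.π.app k ⁻¹ᵁ (D.map (f ≫ j.hom) ⁻¹ᵁ U))
        exact congrArg (fun g => h ⁻¹ᵁ (g ⁻¹ᵁ U)) (c.w (f ≫ j.hom)).symm)] at hi
    exact hU k' ▸ hi
  choose j hj using key
  obtain ⟨s, hs⟩ := isCompact_univ.elim_finite_subcover (fun V : Y.affineOpens => (V.1 : Set Y))
    (fun V => V.1.2) (fun x _ => by
      obtain ⟨O, hO, hx, -⟩ := exists_isAffineOpen_mem_and_subset (U := (⊤ : Y.Opens)) (x := x) trivial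
      exact Set.mem_iUnion.2 ⟨⟨O, hO⟩, hx⟩)
  obtain ⟨k, hk⟩ := IsCofiltered.inf_objs_exists (s.image j)
  refine ⟨k, (IsZariskiLocalAtTarget.iff_of_iSup_eq_top (P := @IsImmersion)
    (fun V : s => t.app k ⁻¹ᵁ V.1.1) ?_).2 fun V => ?_⟩
  · refine top_le_iff.1 fun x _ => ?_
    obtain ⟨V, hV, hx⟩ := Set.mem_iUnion₂.1 (hs (Set.mem_univ ((t.app k).base x)))
    exact Opens.mem_iSup.2 ⟨⟨V, hV⟩, hx⟩
  · obtain ⟨f⟩ := hk (Finset.mem_image_of_mem j V.2)
    exact hj V.1 k f

/-- Let Y be a quasi-compact quasi-separated scheme and f : X ⟶ Y a separated morphism of finite type.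
Let X' be the relative normalization of Y in X, the spectrum of the integral closure of O_Y in
f_*O_X, with its canonical morphism g : X ⟶ X'. Then f admits a factorization X ⟶ Y' ⟶ Y into an
immersion followed by a finite morphism if and only if g is an immersion. -/
theorem result {X Y : Scheme.{u}} (f : X ⟶ Y)
    [CompactSpace Y] [QuasiSeparatedSpace Y] [IsSeparated f] [LocallyOfFiniteType f] [QuasiCompact f] :
    (∃ (Y' : Scheme.{u}) (f' : X ⟶ Y') (u : Y' ⟶ Y), IsImmersion f' ∧ IsFinite u ∧ f' ≫ u = f) ↔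
      IsImmersion f.toNormalization := by
  constructor
  · rintro ⟨Y', f', u, hf', hu, rfl⟩
    haveI : IsImmersion ((f' ≫ u).toNormalization ≫ (f' ≫ u).normalizationDesc f' u rfl) := by
      rw [Scheme.Hom.toNormalization_normalizationDesc]
      exact hf'
    exact IsImmersion.of_comp (f' ≫ u).toNormalization ((f' ≫ u).normalizationDesc f' u rfl)
  · intro hg
    obtain ⟨ι, _, _, _, Xs, c, hc, e, t, ht, hcomp⟩ :=
      Groth.Agent.AcycFin.exists_finite_limit_qcqs f.fromNormalization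
    have hf : (f.toNormalization ≫ e.inv) ≫ e.hom ≫ f.fromNormalization = f := by simp
    haveI : QuasiCompact ((f.toNormalization ≫ e.inv) ≫ e.hom ≫ f.fromNormalization) := hf.symm ▸ ‹_›
    haveI : LocallyOfFiniteType ((f.toNormalization ≫ e.inv) ≫ e.hom ≫ f.fromNormalization) := hf.symm ▸ ‹_›
    obtain ⟨a, ha⟩ := exists_immersion Xs c hc t (fun a => by haveI := ht a; infer_instance)
      (f.toNormalization ≫ e.inv) _ hcomp
    exact ⟨Xs.obj a, _, t.app a, ha, ht a, by rw [Category.assoc, hcomp]; exact hf⟩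

end Groth.Agent.S4807
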