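import Groth.Statements.S4833
import Groth.Agent.FibFlatMod.Morph
import Groth.Agent.ConsPropLib.FibreFinite

set_option linter.style.haveILetI false
set_option backward.isDefEq.respectTransparency false
set_option backward.isDefEq.respectTransparency.types false

set_option autoImplicit false
open CategoryTheory AlgebraicGeometry
universe u
open Cons9

namespace Groth.Agent.S4833
open Groth.Agent.FibFlatMod

open CategoryTheory.Limits in
/-- Let S be an integral Noetherian scheme with generic point η, let g : X ⟶ Y be an S-morphism between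
schemes of finite type over S (structure morphisms h : Y ⟶ S and g ≫ h), and let F be a coherent
O_X-module. For s in S write g_s : X_s ⟶ Y_s for the morphism induced on the fibres over s and F_s
for the pullback of F to X_s. If F_η is not flat relative to g_η (not flat over O_{Y_η, g_η(x)} at
some point x of X_η), then there is an open neighbourhood U of η such that for every s in U the
module F_s is not flat relative to g_s. -/
theorem result {X Y S : Scheme.{u}} [IsIntegral S] [IsNoetherian S]
    (g : X ⟶ Y) (h : Y ⟶ S) [LocallyOfFiniteType h] [QuasiCompact h]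
    [LocallyOfFiniteType (g ≫ h)] [QuasiCompact (g ≫ h)]
    (F : X.Modules) [Coh.IsQCoh F] (hF : CohB1.IsFP F)
    (hη : ¬ FlatMod.IsFlatOver
      (pullback.lift (pullback.fst (g ≫ h) (S.fromSpecResidueField (genericPoint S)) ≫ g)
          (pullback.snd (g ≫ h) (S.fromSpecResidueField (genericPoint S)))
          ((Category.assoc _ _ _).trans pullback.condition) :
        pullback (g ≫ h) (S.fromSpecResidueField (genericPoint S)) ⟶ pullback h (S.fromSpecResidueField (genericPoint S)))
      ((Scheme.Modules.pullback (pullback.fst (g ≫ h) (S.fromSpecResidueField (genericPoint S)))).obj F)) :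
    ∃ U : S.Opens, genericPoint S ∈ U ∧ ∀ s ∈ U, ¬ FlatMod.IsFlatOver
      (pullback.lift (pullback.fst (g ≫ h) (S.fromSpecResidueField s) ≫ g) (pullback.snd (g ≫ h) (S.fromSpecResidueField s))
          ((Category.assoc _ _ _).trans pullback.condition) :
        pullback (g ≫ h) (S.fromSpecResidueField s) ⟶ pullback h (S.fromSpecResidueField s))
      ((Scheme.Modules.pullback (pullback.fst (g ≫ h) (S.fromSpecResidueField s))).obj F) := by
  haveI : LocallyOfFinitePresentation h := FibreLoc5.lfp_of_noetherian' h
  haveI : LocallyOfFinitePresentation (g ≫ h) := FibreLoc5.lfp_of_noetherian' (g ≫ h)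
  haveI : IsLocallyNoetherian Y := LocallyOfFiniteType.isLocallyNoetherian h
  haveI : IsLocallyNoetherian X := LocallyOfFiniteType.isLocallyNoetherian (g ≫ h)
  haveI : QuasiSeparated (g ≫ h) := inferInstance
  have key : ∀ s : S, FlatMod.IsFlatOver (MoreMor.fiberMap g h s)
      ((Scheme.Modules.pullback ((g ≫ h).fiberι s)).obj F) ↔ ∀ x, (g ≫ h) x = s → QF g h F x := by
    intro s
    refine ⟨fun H x hx => ?_, fun H w => (qf_iff_fiberMap g h F s w).1 (H _ ?_)⟩
    · subst hx
      rw [← (g ≫ h).fiberι_asFiber x]
      exact (qf_iff_fiberMap g h F _ _).2 (H _)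
    · have : (g ≫ h).fiberι s w ∈ Set.range ((g ≫ h).fiberι s) := ⟨w, rfl⟩
      rwa [Scheme.Hom.range_fiberι] at this
  let E : Set S := {s | ∀ x, (g ≫ h) x = s → QF g h F x}
  have hE : Topology.IsConstructible Eᶜ :=
    (isLocallyConstructible_forall (g ≫ h) (isLocallyConstructible_qf g h F hF)).isConstructible.compl
  have hηE : genericPoint S ∈ Eᶜ := fun h' => hη ((key _).2 h')
  obtain ⟨v, hv⟩ := ConsPropLib.nhd_generic hE hηE
  exact ⟨⟨interior Eᶜ, isOpen_interior⟩, (genericPoint_specializes v).mem_open isOpen_interior hv,
    fun s hs h' => interior_subset hs ((key s).1 h')⟩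

end Groth.Agent.S4833
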