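import Groth.Statements.S4855
import Groth.Agent.S4854
import Groth.Agent.FibFlatMod.Morph

set_option autoImplicit false
set_option backward.isDefEq.respectTransparency false
set_option backward.isDefEq.respectTransparency.types false
universe u
open CategoryTheory AlgebraicGeometry
open EGA43

namespace Groth.Agent.S4855

open CategoryTheory.Limits in
/-- Let f : X ⟶ Y be a proper morphism of finite presentation such that the map O_Y → f_* O_X is
injective (on sections over every open subset of Y). Then f is flat if and only if the first
projection X ×_Y X ⟶ X is flat. -/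
theorem result {X Y : Scheme.{u}} (f : X ⟶ Y)
    [IsProper f] [LocallyOfFinitePresentation f] (hinj : ∀ V : Y.Opens, Function.Injective (f.app V)) :
    Flat f ↔ Flat (pullback.fst f f) := by
  refine ⟨fun h => inferInstance, fun h => ?_⟩
  rw [Flat.iff_flat_stalkMap]
  intro x
  rw [← FibFlatMod.isFlatOverAt_structure_iff]
  haveI : Coh.IsQCoh (Coh.structureModule X) := QCoh.isQCoh_structureModule
  refine S4854.result f (Coh.structureModule X) AssDimLoci.isFP_structureModule x f
    (fun V s hV hs => ⟨V, hV, le_rfl, ?_⟩) fun x' _ => ?_
  · rw [(hinj V) (hs.trans (map_zero _).symm), map_zero]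
  haveI : IsIso (SheafOfModules.pullbackObjUnitToUnit (pullback.fst f f).toRingCatSheafHom) :=
    inferInstance
  let θ : (Scheme.Modules.pullback (pullback.fst f f)).obj (Coh.structureModule X) ≅ Coh.structureModule _ :=
    asIso (SheafOfModules.pullbackObjUnitToUnit (pullback.fst f f).toRingCatSheafHom)
  refine GrFlat5.isFlatOverAt_of_iso _ θ.symm x' ?_
  rw [FibFlatMod.isFlatOverAt_structure_iff]
  have : Flat (pullback.snd f f) := by
    rw [← pullbackSymmetry_hom_comp_fst f f]
    infer_instance
  exact (Flat.iff_flat_stalkMap _).1 this x'

end Groth.Agent.S4855
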