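import Groth.Statements.S4864
import Groth.Agent.S4863
import Groth.Agent.ProConsLib.Image

set_option autoImplicit false
universe u
open EGA43

namespace Groth.Agent.S4864
open Groth.Agent

open AlgebraicGeometry CategoryTheory Limits in
/-- Let f : X ⟶ Y and g : Y ⟶ Z be morphisms of finite presentation and F a quasi-coherent O_X-module of
finite presentation. Then the set U of points y of Y such that, for every generization y' of y, F is
(f ≫ g)-flat at every point of X above y', is open in Y. -/
theorem result {X Y Z : Scheme.{u}} (f : X ⟶ Y) (g : Y ⟶ Z)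
    [LocallyOfFinitePresentation f] [QuasiCompact f] [QuasiSeparated f]
    [LocallyOfFinitePresentation g] [QuasiCompact g] [QuasiSeparated g]
    (F : X.Modules) [Coh.IsQCoh F] (hF : CohB1.IsFP F) :
    IsOpen {y : Y | ∀ y' : Y, y' ⤳ y → ∀ x : X, f x = y' → FlatMod.IsFlatOverAt (f ≫ g) F x} := by
  let W : X.Opens := ⟨_, S4863.result (f ≫ g) F hF⟩
  have hpc := ProConsLib.isProConstructible_of_isLocallyClosed W.isOpen.isClosed_compl.isLocallyClosed
    fun V hV => hV.isCompact.inter_left W.isOpen.isClosed_compl
  refine (congrArg IsOpen ?_).mpr (isClosed_closure (s := f '' (W : Set X)ᶜ)).isOpen_compl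
  ext y
  constructor
  · intro h hy
    obtain ⟨x, hx, hxy⟩ := ProConsLib.exists_specializes_of_mem_closure_image_scheme hpc f hy
    exact hx (h _ hxy x rfl)
  · intro h y' hy' x hx
    by_contra hW
    exact h (hy'.mem_closed isClosed_closure (subset_closure ⟨x, hW, hx⟩))

end Groth.Agent.S4864
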