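import Groth.Statements.S4886
import Groth.Agent.ZetaLib.SchemeCount
import Mathlib.AlgebraicGeometry.Morphisms.Finite
import Mathlib.Algebra.Field.ULift

set_option autoImplicit false
universe u
open CategoryTheory AlgebraicGeometry
open EGA43

namespace Groth.Agent.S4886

/-- Let Y be a scheme of finite type over ℤ. (i) A point y of Y is closed if and only if the residue
field k(y) is finite. (ii) For every prime number p and every integer d ≥ 1, the set of points y of
Y such that k(y) is an extension of 𝔽_p of degree dividing d, i.e. admits a ring homomorphism into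
the field with p^d elements, is finite. -/
theorem result (Y : Scheme.{u}) [CompactSpace Y]
    [LocallyOfFiniteType (Limits.IsTerminal.from specULiftZIsTerminal Y)] :
    (∀ y : Y, IsClosed ({y} : Set Y) ↔ Finite ↑(Y.residueField y)) ∧
    ∀ (p d : ℕ) [Fact p.Prime], 0 < d →
      {y : Y | Nonempty (↑(Y.residueField y) →+* GaloisField p d)}.Finite := by
  let f := Limits.IsTerminal.from specULiftZIsTerminal Y
  haveI hJ : JacobsonSpace ↥(Spec (CommRingCat.of (ULift.{u} ℤ))) := by
    haveI := Groth.Agent.ZetaLib.isJacobsonRing_int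
    haveI : IsJacobsonRing (ULift.{u} ℤ) :=
      isJacobsonRing_of_surjective ⟨(ULift.ringEquiv (R := ℤ)).symm.toRingHom, (ULift.ringEquiv (R := ℤ)).symm.surjective⟩
    exact PrimeSpectrum.isJacobsonRing_iff_jacobsonSpace.1 inferInstance
  haveI : JacobsonSpace Y := LocallyOfFiniteType.jacobsonSpace f
  haveI : QuasiCompact f := HasAffineProperty.iff_of_isAffine.mpr (inferInstance : CompactSpace Y)
  refine ⟨fun y => ⟨fun h => Groth.Agent.ZetaLib.finite_residueField f h, fun h => ?_⟩, fun p d _ hd => ?_⟩
  · rw [isClosed_singleton_iff_locallyOfFiniteType]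
    haveI : LocallyOfFiniteType (Y.fromSpecResidueField y ≫ f) := by
      rw [← Spec.map_preimage (Y.fromSpecResidueField y ≫ f), HasRingHomProperty.Spec_iff (P := @LocallyOfFiniteType)]
      haveI : Finite ↑(Y.residueField y) := h
      exact Groth.Agent.ZetaLib.finiteType_of_finite _
    exact locallyOfFiniteType_of_comp _ f
  · obtain ⟨n, A, j, hj, hft, -, hcov⟩ := Groth.Agent.ZetaLib.exists_affine_cover f
    let F := ULift.{u} (GaloisField p d)
    have hfin : Finite (Spec (CommRingCat.of F) ⟶ Y) :=
      (Groth.Agent.ZetaLib.card_points_le j hcov F fun i => Groth.Agent.ZetaLib.finite_ringHom F).1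
    refine (Set.finite_range fun g : Spec (CommRingCat.of F) ⟶ Y => g (IsLocalRing.closedPoint F)).subset ?_
    rintro y ⟨φ⟩
    refine ⟨Spec.map (CommRingCat.ofHom ((ULift.ringEquiv (R := GaloisField p d)).symm.toRingHom.comp φ)) ≫
      Y.fromSpecResidueField y, ?_⟩
    change Y.fromSpecResidueField y _ = y
    exact Scheme.fromSpecResidueField_apply _ _

end Groth.Agent.S4886
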