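import Groth.Statements.S4950
import Groth.Agent.QFCount.Dvr

set_option autoImplicit false
set_option linter.style.haveILetI false
set_option backward.isDefEq.respectTransparency false
set_option backward.isDefEq.respectTransparency.types false
open CategoryTheory AlgebraicGeometry
universe u v w
open EGA43

namespace Groth.Agent.S4950

open CategoryTheory.Limits in
/-- Let Y be a locally Noetherian scheme, f : X ⟶ Y a separated quasi-finite morphism, y a point of Y
and y' a generization of y distinct from y; write n(z) for the geometric number of points of the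
fibre X_z. Then there are a discrete valuation ring A and a morphism g : Spec A ⟶ Y mapping the
closed point to y and the generic point to y', such that n(y) is the number of points of the fibre
of X ×_Y Spec A ⟶ Spec A over the closed point and n(y') is the number of points of its fibre over
the generic point. -/
theorem result {X Y : Scheme.{u}} [IsLocallyNoetherian Y] (f : X ⟶ Y)
    [IsSeparated f] [LocallyQuasiFinite f] [LocallyOfFiniteType f] [QuasiCompact f] (y y' : Y) (hne : y' ≠ y)
    (hgen : y' ⤳ y) :
    ∃ (A : Type u) (_ : CommRing A) (_ : IsDomain A) (_ : IsDiscreteValuationRing A) (g : Spec (CommRingCat.of A) ⟶ Y),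
      g.base (IsLocalRing.closedPoint A) = y ∧ g.base (genericPoint (Spec (CommRingCat.of A))) = y' ∧
      MoreMor.nGeomConnComp f y = ENat.card ↥((pullback.snd f g).fiber (IsLocalRing.closedPoint A)) ∧
      MoreMor.nGeomConnComp f y' = ENat.card ↥((pullback.snd f g).fiber (genericPoint (Spec (CommRingCat.of A)))) := by
  obtain ⟨A, _, _, _, _, _, τ, hc, hη⟩ := QFCount.exists_dvr_complete hgen hne.symm
  let f₁ := Limits.pullback.snd f τ
  haveI : LocallyQuasiFinite f₁ := MorphismProperty.pullback_snd _ _ inferInstance
  obtain ⟨B, _, _, _, π, hπc, hπη, hsplit, hcl⟩ := GeomLoci.exists_dvr_splitting f₁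
  haveI := hcl inferInstance
  let g := π ≫ τ
  let q := Limits.pullback.snd f g
  haveI : LocallyQuasiFinite q := MorphismProperty.pullback_snd _ _ inferInstance
  let p := Limits.pullback.snd f₁ π
  have sq : IsPullback (Limits.pullback.fst f₁ π ≫ Limits.pullback.fst f τ) p f g :=
    (IsPullback.of_hasPullback f₁ π).paste_horiz (IsPullback.of_hasPullback f τ)
  haveI : LocallyQuasiFinite p := MorphismProperty.pullback_snd _ _ inferInstance
  have hgc : g (IsLocalRing.closedPoint B) = y := by rw [Scheme.Hom.comp_apply, hπc, hc]
  have hgen' : genericPoint (Spec (CommRingCat.of B)) = GeomLoci.genPt B :=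
    genericPoint_eq_bot_of_affine (CommRingCat.of B)
  have hgη : g (GeomLoci.genPt B) = y' := by rw [Scheme.Hom.comp_apply, hπη, hη]
  refine ⟨B, inferInstance, inferInstance, inferInstance, g, hgc, (congrArg g hgen').trans hgη, ?_, ?_⟩
  · rw [← hgc, ← (Triage.GeomCount.nGeom_baseChange f q _ g (IsPullback.of_hasPullback f g) _).2,
      QFCount.nGeom_closed]
    exact ENat.card_congr (q.fiberHomeo _).toEquiv.symm
  · rw [hgen', ← hη, ← (Triage.GeomCount.nGeom_baseChange f f₁ _ τ (IsPullback.of_hasPullback f τ) _).2, ← hsplit]
    haveI := QFCount.discrete_fibre p (GeomLoci.genPt B)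
    rw [QFCount.card_connectedComponents_of_discrete]
    let e := sq.isoPullback
    have he : ∀ a, q (e.hom a) = p a := fun a => by
      rw [← Scheme.Hom.comp_apply, IsPullback.isoPullback_hom_snd]
    refine (ENat.card_congr (Equiv.subtypeEquiv e.hom.homeomorph.toEquiv fun a => ?_)).trans
      (ENat.card_congr (q.fiberHomeo _).toEquiv.symm)
    show p a = GeomLoci.genPt B ↔ q (e.hom a) = GeomLoci.genPt B
    rw [he]

end Groth.Agent.S4950
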