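import Groth.Statements.S4951
import Mathlib.Topology.Sober
import Mathlib.Topology.NoetherianSpace

set_option autoImplicit false
universe u
open EGA43

namespace Groth.Agent.S4951

/-- A point adherent to an open subset of a locally Noetherian sober space has a generization in it. -/
theorem exists_specializes_mem {X : Type u} [TopologicalSpace X] [QuasiSober X]
    (hloc : ∀ x : X, ∃ U ∈ nhds x, TopologicalSpace.NoetherianSpace ↥U) {U : Set X} (hU : IsOpen U) {x : X}
    (hx : x ∈ closure U) : ∃ u ∈ U, u ⤳ x := by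
  obtain ⟨N, hN, hNn⟩ := hloc x
  obtain ⟨W, hWN, hW, hxW⟩ := mem_nhds_iff.1 hN
  have hxUW : x ∈ closure (U ∩ W) := by
    rw [mem_closure_iff_nhds] at hx ⊢
    intro t ht
    obtain ⟨y, ⟨hy₁, hy₂⟩, hy₃⟩ := hx _ (Filter.inter_mem ht (hW.mem_nhds hxW))
    exact ⟨y, hy₁, hy₃, hy₂⟩
  have : TopologicalSpace.NoetherianSpace ↥(U ∩ W) :=
    (Topology.IsEmbedding.inclusion (Set.inter_subset_right.trans hWN)).isInducing.noetherianSpace
  have hfin := TopologicalSpace.NoetherianSpace.finite_irreducibleComponents (α := ↥(U ∩ W))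
  have h1 : U ∩ W ⊆ ⋃ T ∈ irreducibleComponents ↥(U ∩ W), closure (Subtype.val '' T) := fun y hy => by
    refine Set.mem_biUnion (irreducibleComponent_mem_irreducibleComponents (⟨y, hy⟩ : ↥(U ∩ W))) ?_
    exact subset_closure ⟨⟨y, hy⟩, mem_irreducibleComponent, rfl⟩
  have h2 := closure_minimal h1 (hfin.isClosed_biUnion fun _ _ => isClosed_closure) hxUW
  obtain ⟨T, hT, hxT⟩ := Set.mem_iUnion₂.1 h2
  have hTi : IsIrreducible (closure (Subtype.val '' T)) :=
    (hT.1.image Subtype.val continuous_subtype_val.continuousOn).closure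
  obtain ⟨u, hu⟩ := QuasiSober.sober hTi isClosed_closure
  obtain ⟨t, ht⟩ := hT.1.nonempty
  refine ⟨u, (hu.specializes (subset_closure ⟨t, ht, rfl⟩)).mem_open hU t.2.1, hu.specializes hxT⟩

/-- Let X be a locally Noetherian topological space in which every irreducible closed subset has a
unique generic point (X quasi-sober and T₀), and Z a closed nowhere dense subset of X such that for
every point x of Z the set of generizations of x distinct from x is connected (possibly empty). If X
is connected, then X − Z is connected. (Uniqueness of generic points, automatic for the underlying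
space of a scheme, is needed: in the four-point space {u, v, z₁, z₂} whose open sets are ∅, {u},
{v}, {u, v} and the whole space, the closed nowhere dense set Z = {z₁, z₂} satisfies the hypothesis,
since z₂ is a generization of z₁ and conversely, yet X − Z = {u, v} is not connected.) -/
theorem result {X : Type u} [TopologicalSpace X]
    [QuasiSober X] [T0Space X] (hloc : ∀ x : X, ∃ U ∈ nhds x, TopologicalSpace.NoetherianSpace ↥U) [ConnectedSpace X]
    (Z : Set X) (hZ : IsClosed Z) (hZn : IsNowhereDense Z)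
    (hgen : ∀ x ∈ Z, IsPreconnected ({x' : X | x' ⤳ x} \ {x})) :
    IsConnected Zᶜ := by
  refine ⟨?_, fun U V hU hV hcov hUne hVne => ?_⟩
  · obtain ⟨x⟩ := (inferInstance : Nonempty X)
    by_contra h
    rw [Set.not_nonempty_iff_eq_empty, Set.compl_empty_iff] at h
    rw [h, IsNowhereDense, closure_univ, interior_univ] at hZn
    exact Set.notMem_empty x (hZn ▸ Set.mem_univ x)
  by_contra hdis
  rw [Set.not_nonempty_iff_eq_empty] at hdis
  have hd : ∀ y ∈ Zᶜ, y ∈ U → y ∈ V → False := fun y h₁ h₂ h₃ => by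
    have : y ∈ Zᶜ ∩ (U ∩ V) := ⟨h₁, h₂, h₃⟩
    rw [hdis] at this; exact this
  have hU' : IsOpen (Zᶜ ∩ U) := hZ.isOpen_compl.inter hU
  have hV' : IsOpen (Zᶜ ∩ V) := hZ.isOpen_compl.inter hV
  have hdense : Dense Zᶜ := interior_eq_empty_iff_dense_compl.1 (by
    rw [← hZ.closure_eq]; exact hZn)
  have hall : ∀ y, y ∈ closure (Zᶜ ∩ U) ∪ closure (Zᶜ ∩ V) := fun y => by
    rw [← closure_union, ← Set.inter_union_distrib_left, Set.inter_eq_left.2 hcov]
    exact hdense y
  obtain ⟨c, -, hc⟩ := isPreconnected_closed_iff.1 (PreconnectedSpace.isPreconnected_univ (α := X))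
    (closure (Zᶜ ∩ U)) (closure (Zᶜ ∩ V)) isClosed_closure isClosed_closure (fun y _ => hall y)
    (by rw [Set.univ_inter]; exact hUne.closure) (by rw [Set.univ_inter]; exact hVne.closure)
  -- a generic point of a component of the intersection
  let C := closure (Zᶜ ∩ U) ∩ closure (Zᶜ ∩ V)
  have hC : IsClosed C := isClosed_closure.inter isClosed_closure
  obtain ⟨T, hTc, hTmax⟩ := exists_preirreducible ({⟨c, hc⟩} : Set C) isPreirreducible_singleton
  obtain ⟨hcT, hTmax⟩ := hTmax
  have hTi : IsIrreducible (Subtype.val '' T : Set X) :=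
    IsIrreducible.image ⟨⟨_, hcT rfl⟩, hTc⟩ Subtype.val continuous_subtype_val.continuousOn
  obtain ⟨x, hx⟩ := QuasiSober.sober hTi.closure isClosed_closure
  have hxC : x ∈ C := closure_minimal (Subtype.coe_image_subset C T) hC hx.mem
  have hmax : ∀ y ∈ C, y ⤳ x → y = x := fun y hy hyx => by
    have h1 : T ⊆ Subtype.val ⁻¹' closure {y} := fun t ht => by
      have h2 : (t : X) ∈ closure {x} := by rw [hx.def]; exact subset_closure ⟨t, ht, rfl⟩
      exact closure_minimal (Set.singleton_subset_iff.2 hyx.mem_closure) isClosed_closure h2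
    have h3 : Subtype.val ⁻¹' closure {y} = closure ({⟨y, hy⟩} : Set C) := by
      ext z; rw [Set.mem_preimage, closure_subtype, Set.image_singleton]
    have h4 := hTmax _ (h3 ▸ (isPreirreducible_singleton.closure)) h1
    have h5 : (⟨y, hy⟩ : C) ∈ T := h4 ▸ (subset_closure rfl : y ∈ closure {y})
    have h6 : y ∈ closure {x} := by rw [hx.def]; exact subset_closure ⟨_, h5, rfl⟩
    exact (hyx.antisymm (specializes_iff_mem_closure.2 h6)).eq
  have hxU : x ∉ Zᶜ ∩ U := fun h => by
    obtain ⟨v, hv⟩ := mem_closure_iff.1 hxC.2 _ hU' h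
    exact hd v hv.1.1 hv.1.2 hv.2.2
  have hxV : x ∉ Zᶜ ∩ V := fun h => by
    obtain ⟨v, hv⟩ := mem_closure_iff.1 hxC.1 _ hV' h
    exact hd v hv.1.1 hv.2.2 hv.1.2
  have hxZ : x ∈ Z := by_contra fun h => (hcov h).elim (fun h' => hxU ⟨h, h'⟩) (fun h' => hxV ⟨h, h'⟩)
  obtain ⟨u, hu, hux⟩ := exists_specializes_mem hloc hU' hxC.1
  obtain ⟨v, hv, hvx⟩ := exists_specializes_mem hloc hV' hxC.2
  obtain ⟨y, ⟨hy₁, hy₂⟩, hy₃⟩ := isPreconnected_closed_iff.1 (hgen x hxZ) (closure (Zᶜ ∩ U)) (closure (Zᶜ ∩ V))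
    isClosed_closure isClosed_closure (fun z _ => hall z)
    ⟨u, ⟨hux, fun h => hxU (h ▸ hu)⟩, subset_closure hu⟩ ⟨v, ⟨hvx, fun h => hxV (h ▸ hv)⟩, subset_closure hv⟩
  exact hy₂ (hmax y hy₃ hy₁)

end Groth.Agent.S4951
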