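import Groth.Statements.S4957
import Groth.Agent.Compactify.SectProper
import Groth.Agent.Compactify.ProperDim

set_option autoImplicit false
open CategoryTheory AlgebraicGeometry
universe u v w
open EGA43

attribute [-instance] CategoryTheory.catToReflQuiver
set_option backward.isDefEq.respectTransparency false
set_option backward.isDefEq.respectTransparency.types false

namespace Groth.Agent.S4957

/-- Let f : X ⟶ Y be a separated morphism of finite presentation with a section g : Y ⟶ X, and X_z^0 the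
connected component of f⁻¹(z) containing g z. Let y be a point such that X_y^0, as an open subscheme
of the fibre X_y, is proper over κ(y). Then for every generization y' of y one has dim X_{y'}^0 ≤
dim X_y^0. -/
theorem result {X Y : Scheme.{u}} (f : X ⟶ Y) [IsSeparated f]
    [LocallyOfFinitePresentation f] [QuasiCompact f] [QuasiSeparated f] (g : Y ⟶ X) (hg : g ≫ f = 𝟙 Y) (y : Y)
    (hop : IsOpen ((f.fiberι y).base ⁻¹' connectedComponentIn (f.base ⁻¹' {y}) (g.base y)))
    (hprop : IsProper (Scheme.Opens.ι (⟨(f.fiberι y).base ⁻¹' connectedComponentIn (f.base ⁻¹' {y}) (g.base y), hop⟩ : (f.fiber y).Opens) ≫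
      f.fiberToSpecResidueField y))
    (y' : Y) (hy' : y' ⤳ y) :
    topologicalKrullDim ↥(connectedComponentIn (f.base ⁻¹' {y'}) (g.base y')) ≤ topologicalKrullDim ↥(connectedComponentIn (f.base ⁻¹' {y}) (g.base y)) := by
  obtain ⟨U, hyU, hC, hp⟩ := Compactify.exists_nhd_sectionComponents_proper f g hg y hop hprop
  let J := Scheme.IdealSheafData.vanishingIdeal (X := (f ⁻¹ᵁ U).toScheme)
    (⟨_, hC⟩ : TopologicalSpace.Closeds ↥(f ⁻¹ᵁ U))
  let p := J.subschemeι ≫ (f ∣_ U)
  haveI : IsProper p := hp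
  have key : ∀ v : U.toScheme, topologicalKrullDim ↥(connectedComponentIn (f.base ⁻¹' {v.1}) (g.base v.1)) =
      topologicalKrullDim ↥(p.fiber v) := by
    intro v
    have hval : ∀ j, f ((f ⁻¹ᵁ U).ι (J.subschemeι j)) = (p j).1 := fun j => by
      show f ((f ⁻¹ᵁ U).ι (J.subschemeι j)) = U.ι ((f ∣_ U) (J.subschemeι j))
      exact (congr($(morphismRestrict_ι f U) (J.subschemeι j))).symm
    have hemb : Topology.IsEmbedding (p.fiberι v ≫ J.subschemeι ≫ (f ⁻¹ᵁ U).ι) :=
      (p.fiberι v ≫ J.subschemeι ≫ (f ⁻¹ᵁ U).ι).isEmbedding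
    have hr : Set.range (p.fiberι v ≫ J.subschemeι ≫ (f ⁻¹ᵁ U).ι) =
        connectedComponentIn (f.base ⁻¹' {v.1}) (g.base v.1) := by
      rw [Scheme.Hom.comp_base, TopCat.coe_comp, Set.range_comp, Scheme.Hom.range_fiberι]
      refine Set.Subset.antisymm ?_ fun x hx => ?_
      · rintro _ ⟨j, hj, rfl⟩
        have h1 : (f ⁻¹ᵁ U).ι (J.subschemeι j) ∈ MoreMor.sectionComponents f g := by
          have := Set.mem_range_self (f := J.subschemeι) j
          rw [Scheme.IdealSheafData.range_subschemeι] at this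
          simpa [J] using this
        have h2 : f ((f ⁻¹ᵁ U).ι (J.subschemeι j)) = v.1 := by rw [hval, show p j = v from hj]
        have h3 : (f ⁻¹ᵁ U).ι (J.subschemeι j) ∈ connectedComponentIn (f ⁻¹' {v.1}) (g v.1) := by
          rw [← h2]; exact h1
        exact h3
      · have hfx : f x = v.1 := connectedComponentIn_subset (f ⁻¹' {v.1}) _ hx
        have hxS : x ∈ MoreMor.sectionComponents f g := by
          show x ∈ connectedComponentIn (f ⁻¹' {f x}) (g (f x))
          rw [hfx]; exact hx
        obtain ⟨j, hj⟩ : (⟨x, show f x ∈ U from hfx ▸ v.2⟩ : ↥(f ⁻¹ᵁ U)) ∈ Set.range J.subschemeι := by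
          rw [Scheme.IdealSheafData.range_subschemeι]
          simpa [J] using hxS
        have hjx : (f ⁻¹ᵁ U).ι (J.subschemeι j) = x := by rw [hj]; rfl
        exact ⟨j, Subtype.ext ((hval j).symm.trans ((congrArg _ hjx).trans hfx)), hjx⟩
    rw [(hemb.toHomeomorph.trans (Homeomorph.setCongr hr)).isHomeomorph.topologicalKrullDim_eq]
  have hy'U : y' ∈ U := hy'.mem_open U.2 hyU
  rw [key ⟨y, hyU⟩, key ⟨y', hy'U⟩]
  exact Compactify.dim_fiber_le_of_specializes p ((subtype_specializes_iff _ _).2 hy')

end Groth.Agent.S4957
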