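import Groth.Statements.S4973
import Mathlib.AlgebraicGeometry.Morphisms.ClosedImmersion
import Mathlib.AlgebraicGeometry.PullbackCarrier
import Mathlib.AlgebraicGeometry.IdealSheaf.Functorial

set_option autoImplicit false
open CategoryTheory AlgebraicGeometry
universe u v w
open EGA43

namespace Groth.Agent.S4973

open CategoryTheory.Limits in
/-- Let Y₀ and Y be integral schemes, g : Y ⟶ Y₀ a dominant morphism, f₀ : X₀ ⟶ Y₀ a dominant morphism
whose fibre over the generic point of Y₀ is irreducible, and X'₀ an irreducible component of X₀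
meeting that generic fibre (it is unique), regarded as a reduced closed subscheme of X₀. If X = X₀
×_{Y₀} Y is an integral scheme, then the morphism X'₀ ×_{Y₀} Y ⟶ X induced by the inclusion of X'₀
is an isomorphism. -/
theorem result {X₀ Y₀ Y : Scheme.{u}} [IsIntegral Y₀] [IsIntegral Y]
    (g : Y ⟶ Y₀) [IsDominant g] (f₀ : X₀ ⟶ Y₀) [IsDominant f₀]
    (hirr : IsIrreducible (f₀.base ⁻¹' {genericPoint Y₀}))
    (C : TopologicalSpace.Closeds X₀) (hC : (C : Set X₀) ∈ irreducibleComponents (X₀ : Type u))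
    (hCη : ((C : Set X₀) ∩ f₀.base ⁻¹' {genericPoint Y₀}).Nonempty) [IsIntegral (pullback f₀ g)]
    (e₁ : ((Scheme.IdealSheafData.vanishingIdeal C).subschemeι ≫ f₀) ≫ 𝟙 Y₀ =
      (Scheme.IdealSheafData.vanishingIdeal C).subschemeι ≫ f₀) (e₂ : g ≫ 𝟙 Y₀ = 𝟙 Y ≫ g) :
    IsIso (pullback.map ((Scheme.IdealSheafData.vanishingIdeal C).subschemeι ≫ f₀) g f₀ g
      (Scheme.IdealSheafData.vanishingIdeal C).subschemeι (𝟙 Y) (𝟙 Y₀) e₁ e₂) := by
  set ι := (Scheme.IdealSheafData.vanishingIdeal C).subschemeι with hι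
  set m := pullback.map (ι ≫ f₀) g f₀ g ι (𝟙 Y) (𝟙 Y₀) e₁ e₂ with hm
  haveI : IsClosedImmersion m := MorphismProperty.pullbackMap (P := @IsClosedImmersion)
    (inferInstanceAs (IsClosedImmersion ι)) (inferInstanceAs (IsClosedImmersion (𝟙 Y))) rfl
      (Category.id_comp g).symm
  have hgη : g.base (genericPoint Y) = genericPoint Y₀ :=
    ((genericPoint_spec Y).image g.base.hom.continuous).eq (by
      rw [Set.image_univ, g.denseRange.closure_range]
      exact genericPoint_spec Y₀)
  obtain ⟨y, hyC, hyη⟩ := hCη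
  have hyη' : f₀.base y = genericPoint Y₀ := hyη
  obtain ⟨z, -, hz2⟩ := Scheme.Pullback.exists_preimage_pullback (f := f₀) (g := g) y (genericPoint Y)
    (hyη'.trans hgη.symm)
  set ξ := genericPoint (pullback f₀ g : Scheme.{u}) with hξdef
  have hξ2 : (pullback.snd f₀ g).base ξ = genericPoint Y := by
    have h1 : (pullback.snd f₀ g).base ξ ⤳ genericPoint Y :=
      hz2 ▸ ((genericPoint_spec (pullback f₀ g : Scheme.{u})).specializes trivial).map (pullback.snd f₀ g).base.hom.continuous
    exact (((genericPoint_spec Y).specializes (Set.mem_univ _)).antisymm h1).eq.symm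
  have hξ0 : f₀.base ((pullback.fst f₀ g).base ξ) = genericPoint Y₀ := by
    have h := congrArg (fun φ : pullback f₀ g ⟶ Y₀ => φ.base ξ) (pullback.condition (f := f₀) (g := g))
    have h' : f₀.base ((pullback.fst f₀ g).base ξ) = g.base ((pullback.snd f₀ g).base ξ) := h
    rw [h', hξ2, hgη]
  -- the component is the closure of the generic fibre
  have hCirr : IsIrreducible (C : Set X₀) := hC.1
  obtain ⟨c, hc⟩ := QuasiSober.sober hCirr C.isClosed
  have hcη : f₀.base c = genericPoint Y₀ := by
    have h1 : f₀.base c ⤳ f₀.base y := (hc.specializes hyC).map f₀.base.hom.continuous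
    rw [hyη'] at h1
    exact (((genericPoint_spec Y₀).specializes (Set.mem_univ _)).antisymm h1).eq.symm
  have hsub : (C : Set X₀) ⊆ closure (f₀.base ⁻¹' {genericPoint Y₀}) := by
    rw [← hc.def]
    exact closure_mono (Set.singleton_subset_iff.mpr hcη)
  have hCeq : closure (f₀.base ⁻¹' {genericPoint Y₀}) ⊆ (C : Set X₀) := hC.2 hirr.closure hsub
  have hξC : (pullback.fst f₀ g).base ξ ∈ Set.range ι.base := by
    have h := Scheme.IdealSheafData.range_subschemeι (Scheme.IdealSheafData.vanishingIdeal C)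
    rw [Scheme.IdealSheafData.coe_support_vanishingIdeal] at h
    exact h.symm ▸ hCeq (subset_closure hξ0)
  haveI : Surjective m := by
    refine ⟨fun x => ?_⟩
    have hmem : ξ ∈ Set.range m.base := by
      have h := Scheme.Pullback.range_map (ι ≫ f₀) g f₀ g ι (𝟙 Y) (𝟙 Y₀) e₁ e₂
      exact h.ge ⟨hξC, ⟨_, rfl⟩⟩
    exact (genericPoint_spec (pullback f₀ g : Scheme.{u})).specializes (Set.mem_univ x) |>.mem_closed m.isClosedEmbedding.isClosed_range hmem
  haveI : IsReduced (pullback f₀ g) := inferInstance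
  exact isIso_of_isClosedImmersion_of_surjective m

end Groth.Agent.S4973
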