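import Groth.Statements.S4975
import Groth.Agent.GeomLoci.SectNhd
import Groth.Agent.S5927
-- import your own Groth.Agent.* helpers here

set_option autoImplicit false
open CategoryTheory AlgebraicGeometry
universe u v w
open EGA43

namespace Groth.Agent.S4975

/-- Let f : X ⟶ Y be a morphism locally of finite type with Y locally Noetherian, g : Y ⟶ X a section of
f, X_y^0 the connected component of f⁻¹(y) containing g y, and X^0 ⊆ X their union. Suppose every
X_y^0 is geometrically integral over κ(y) (its preimage in X_y ⊗ K is irreducible and has reduced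
local rings, for every field extension K of κ(y)). Then y ↦ dim X_y^0 is locally constant on Y if
and only if f is universally open at every point of X^0; and when this holds, X^0 is open in X. (The
published statement also lists, as a further equivalent condition, flatness of the base change of f
to the reduced closed subscheme Y_red at the points of X^0; that condition is not stated here.) -/
theorem result {X Y : Scheme.{u}}
    [IsLocallyNoetherian Y] (f : X ⟶ Y) [LocallyOfFiniteType f] (g : Y ⟶ X) (hg : g ≫ f = 𝟙 Y)
    (hint : ∀ y : Y, (∀ (K : Type u) [Field K] [Algebra (IsLocalRing.ResidueField (Y.presheaf.stalk y)) K],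
        IsIrreducible ((FBase.bcπ (f.fiberToSpecResidueField y) K ≫ f.fiberι y).base ⁻¹' connectedComponentIn (f.base ⁻¹' {y}) (g.base y)) ∧
        ∀ x' : ↥(FBase.bc (f.fiberToSpecResidueField y) K),
          (FBase.bcπ (f.fiberToSpecResidueField y) K ≫ f.fiberι y).base x' ∈ connectedComponentIn (f.base ⁻¹' {y}) (g.base y) →
          _root_.IsReduced ((FBase.bc (f.fiberToSpecResidueField y) K).presheaf.stalk x'))) :
    (IsLocallyConstant (fun y : Y => topologicalKrullDim ↥(connectedComponentIn (f.base ⁻¹' {y}) (g.base y))) ↔ ∀ x ∈ MoreMor.sectionComponents f g, EGA43.IsUnivOpenAt f x) ∧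
      (IsLocallyConstant (fun y : Y => topologicalKrullDim ↥(connectedComponentIn (f.base ⁻¹' {y}) (g.base y))) → IsOpen (MoreMor.sectionComponents f g)) := by
  have hred : ∀ x ∈ MoreMor.sectionComponents f g,
      FBase.IsGeomReducedAt (f.fiberToSpecResidueField (f.base x)) (f.asFiber x) := by
    intro x hx K _ _ x' hx'
    refine (hint (f x) K).2 x' ?_
    rw [Scheme.Hom.comp_base, TopCat.comp_app, hx', Scheme.Hom.fiberι_asFiber]
    exact hx
  have hmem : ∀ y, ∀ v ∈ connectedComponentIn (f.base ⁻¹' {y}) (g.base y), v ∈ MoreMor.sectionComponents f g := by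
    intro y v hv
    show v ∈ connectedComponentIn (f ⁻¹' {f v}) (g (f v))
    rw [show f v = y from connectedComponentIn_subset (f.base ⁻¹' {y}) (g.base y) hv]
    exact hv
  have hgy : ∀ y, f (g y) = y := fun y => by rw [← Scheme.Hom.comp_apply, hg]; rfl
  have huo : IsLocallyConstant (fun y : Y => topologicalKrullDim ↥(connectedComponentIn (f.base ⁻¹' {y}) (g.base y))) →
      ∀ x ∈ MoreMor.sectionComponents f g, EGA43.IsUnivOpenAt f x := by
    intro hc x hx
    refine UnivOpen.isUnivOpenAt_sectionComponent f hg (fun y K _ _ => (hint y K).1) (y := f x) (fun y' hy' => ?_) hx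
    have h2 : y' ∈ {z : Y | topologicalKrullDim ↥(connectedComponentIn (f.base ⁻¹' {z}) (g.base z)) =
        topologicalKrullDim ↥(connectedComponentIn (f.base ⁻¹' {f x}) (g.base (f x)))} :=
      hy'.mem_open (hc.isOpen_fiber _) rfl
    exact le_of_eq h2.symm
  refine ⟨⟨huo, fun h => (IsLocallyConstant.iff_eventually_eq _).2 fun y₀ => ?_⟩, fun hc => ?_⟩
  · obtain ⟨V, hV, hVc⟩ := S5927.result f g hg (fun y K _ _ => (hint y K).1) y₀
      (fun ξ hξ _ => h ξ (hmem y₀ ξ hξ))
      (Or.inl (hred _ (hmem y₀ (g y₀) (mem_connectedComponentIn (hgy y₀)))))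
    exact Filter.mem_of_superset hV fun z hz => hVc z hz
  · rw [← interior_eq_iff_isOpen]
    refine interior_subset.antisymm fun x hx => ?_
    exact GeomLoci.subset_interior_sectionComponents f g hg (y := f x)
      (fun v hv => GeomLoci.goodAt_of f (huo hc v (hmem _ v hv)) (hred v (hmem _ v hv))) hx

end Groth.Agent.S4975
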