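import Groth.Statements.S4978
import Groth.Agent.ValLib.DvrRat

set_option autoImplicit false
set_option backward.isDefEq.respectTransparency false
set_option backward.isDefEq.respectTransparency.types false
open CategoryTheory AlgebraicGeometry
universe u v w
open EGA43

namespace Groth.Agent.S4978

open CategoryTheory.Limits in
/-- Let Y be a Noetherian scheme, f : X ⟶ Y a separated morphism of finite type, Z a subset of X such
that every maximal point of the closure of Z belongs to Z, and y a point of Y. Then the closure of Z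
is proper over Y at y (for some open U ∋ y, its trace on f⁻¹(U) is proper over U with the reduced
structure) if and only if: for every discrete valuation ring A' and every morphism g : Spec A' ⟶ Y
mapping the closed point to y, every point x' of X' = X ×_Y Spec A' which projects into Z, lies over
the generic point η' of Spec A' and is rational over κ(η') is in the image of some section of X' ⟶
Spec A'. -/
theorem result {X Y : Scheme.{u}} [IsNoetherian Y] (f : X ⟶ Y) [IsSeparated f]
    [LocallyOfFiniteType f] [QuasiCompact f] (Z : Set X)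
    (hZ : ∀ z ∈ closure Z, (∀ z' ∈ closure Z, z ∈ closure {z'} → z' = z) → z ∈ Z) (y : Y) :
    (∃ U : Y.Opens, y ∈ U ∧ ∃ hC : IsClosed ((f ⁻¹ᵁ U).ι.base ⁻¹' closure Z),
      IsProper ((Scheme.IdealSheafData.vanishingIdeal
        (⟨(f ⁻¹ᵁ U).ι.base ⁻¹' closure Z, hC⟩ : TopologicalSpace.Closeds ↥(f ⁻¹ᵁ U))).subschemeι ≫ (f ∣_ U))) ↔
      ∀ (A' : Type u) [CommRing A'] [IsDomain A'] [IsDiscreteValuationRing A'] (g : Spec (CommRingCat.of A') ⟶ Y),
        g.base (IsLocalRing.closedPoint A') = y →
        ∀ x' : ↥(pullback f g), (pullback.fst f g).base x' ∈ Z →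
          (pullback.snd f g).base x' = genericPoint (Spec (CommRingCat.of A')) →
          Function.Bijective ((pullback.snd f g).residueFieldMap x').hom →
          ∃ s : Spec (CommRingCat.of A') ⟶ pullback f g, s ≫ pullback.snd f g = 𝟙 _ ∧ x' ∈ Set.range s.base := by
  constructor
  · rintro ⟨U, hyU, hC, hP⟩ A' _ _ _ g hg x' hx'Z hx'η hb
    obtain ⟨σ', hσ'x, hσ'⟩ := ValLib.exists_section_of_bijective (pullback.snd f g) x' hx'η hb
    obtain ⟨s, hs₁, hs₂⟩ := ValLib.exists_lift_of_isProperOver f y U hyU (C := closure Z) ⟨hC, hP⟩ g hg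
      (σ' ≫ pullback.fst f g) (by rw [Scheme.Hom.comp_apply, hσ'x]; exact subset_closure hx'Z)
      (by rw [Category.assoc, pullback.condition, ← Category.assoc, hσ'])
    let s' := pullback.lift s (𝟙 _) (by rw [hs₁, Category.id_comp]) (f := f) (g := g)
    refine ⟨s', pullback.lift_snd _ _ _,
      ValLib.genIncl A' (IsLocalRing.closedPoint (FractionRing A')), ?_⟩
    have he : ValLib.genIncl A' ≫ s' = σ' := by
      refine pullback.hom_ext ?_ ?_
      · rw [Category.assoc, pullback.lift_fst, hs₂]
      · rw [Category.assoc, pullback.lift_snd, Category.comp_id, hσ']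
    rw [← Scheme.Hom.comp_apply, he, hσ'x]
  · intro h
    obtain ⟨U, hyU, hC, hP⟩ := ValLib.exists_isProperOver_of_extAt f (closure Z) isClosed_closure y (by
      intro ξ hξ hmax R _ _ _ g hg σ hσξ hσ
      let σ' := pullback.lift σ (ValLib.genIncl R) hσ
      have h1 : σ' ≫ pullback.snd f g = ValLib.genIncl R := pullback.lift_snd _ _ _
      obtain ⟨s, hs, hmem⟩ := h R g hg (σ' (IsLocalRing.closedPoint _)) (by
          rw [← Scheme.Hom.comp_apply, pullback.lift_fst, hσξ]
          exact hZ ξ hξ fun z' hz' hc => hmax z' hz' hc)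
        (by rw [← Scheme.Hom.comp_apply, h1]; exact ValLib.genIncl_apply R)
        (ValLib.bijective_residueFieldMap_of_section _ σ' h1)
      have he := ValLib.section_comp_genIncl (pullback.snd f g) h1 hs hmem
      refine ⟨s ≫ pullback.fst f g, ?_, ?_⟩
      · rw [Category.assoc, pullback.condition, reassoc_of% hs]
      · rw [← Category.assoc]
        exact (congrArg (· ≫ pullback.fst f g) he).trans (pullback.lift_fst _ _ _))
    exact ⟨U, hyU, hC, hP⟩

end Groth.Agent.S4978
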