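import Groth.Statements.S4979
import Groth.Agent.RelAmpleDesc.Basic
import Groth.Agent.Lib.CurveDualPrep
-- import your own Groth.Agent.* helpers here

set_option backward.isDefEq.respectTransparency false
set_option backward.isDefEq.respectTransparency.types false

set_option autoImplicit false
open CategoryTheory AlgebraicGeometry
universe u v w
open EGA43

namespace Groth.Agent.S4979

open CategoryTheory.Limits in
/-- Let Y be a locally Noetherian scheme, f : X ⟶ Y a morphism locally of finite type, g : Y' ⟶ Y a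
morphism locally of finite type which is universally open and surjective, f' : X ×_Y Y' ⟶ Y' the
base change of f, L an invertible O_X-module and L' its pullback to X ×_Y Y'. Suppose there is a
closed subset Z of X which, with its reduced subscheme structure, is proper over Y, and such that
the local rings of X at the points outside Z are integrally closed domains. Then L is ample relative
to f if and only if L' is ample relative to f'. -/
theorem result {X Y Y' : Scheme.{u}}
    [IsLocallyNoetherian Y] (f : X ⟶ Y) [LocallyOfFiniteType f] (g : Y' ⟶ Y) [LocallyOfFiniteType g]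
    [UniversallyOpen g] [Surjective g] (L : X.Modules) (hL : FlatMod.IsFinLocFreeOfRank 1 L)
    (Z : TopologicalSpace.Closeds X) (hZ : IsProper ((Scheme.IdealSheafData.vanishingIdeal Z).subschemeι ≫ f))
    (hnor : ∀ x : X, x ∉ (Z : Set X) → IsDomain (X.presheaf.stalk x) ∧ IsIntegrallyClosed (X.presheaf.stalk x)) :
    RelAmple.IsRelAmple f L ↔
      RelAmple.IsRelAmple (pullback.snd f g) ((Scheme.Modules.pullback (pullback.fst f g)).obj L) := by
  have hLi : PicF.IsInvertible L := Groth.Agent.CurveDuality.isInvertible_of_rank_one hL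
  refine ⟨fun h => ?_, fun h => ?_⟩
  · haveI := h.1
    exact Groth.Agent.AmpleX.isRelAmple_baseChange f g h
  haveI := h.1
  haveI : QuasiCompact f := Groth.Agent.RelAmpleDesc.quasiCompact_of_baseChange f g
  refine Groth.Agent.AmpleX.isRelAmple_of_ampleOn fun x => ?_
  obtain ⟨V, hV, hxV, -⟩ := exists_isAffineOpen_mem_and_subset (x := f x) (U := (⊤ : Y.Opens)) trivial
  haveI : IsAffine (V : Scheme.{u}) := hV
  haveI : IsNoetherian (V : Scheme.{u}) := {}
  haveI : LocallyOfFiniteType (g ∣_ V) := IsZariskiLocalAtTarget.restrict ‹_› _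
  haveI : UniversallyOpen (g ∣_ V) := IsZariskiLocalAtTarget.restrict ‹_› _
  haveI : Surjective (g ∣_ V) := IsZariskiLocalAtTarget.restrict ‹_› _
  haveI : QuasiCompact (f ∣_ V) := IsZariskiLocalAtTarget.restrict ‹_› _
  obtain ⟨Y'', π, hfin, hsurj, hsec⟩ := Groth.Agent.FinSection.exists_cover (g ∣_ V)
  haveI := hfin
  haveI := hsurj
  have hsec' : Groth.Agent.FinSection.LocSec g (π ≫ V.ι) := fun y => by
    obtain ⟨U, hU, t, ht⟩ := hsec y
    refine ⟨U, hU, t ≫ (g ⁻¹ᵁ V).ι, ?_⟩
    rw [Category.assoc, ← morphismRestrict_ι, ← Category.assoc, ht, Category.assoc]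
  have hX := Groth.Agent.RelAmpleDesc.isRelAmple_of_locSec f g (π ≫ V.ι) hsec' h
  let U : X.Opens := f ⁻¹ᵁ V
  let fst' := Limits.pullback.fst f (π ≫ V.ι)
  let snd' := Limits.pullback.snd f (π ≫ V.ι)
  let p := Limits.pullback.fst (f ∣_ V) π
  let q := Limits.pullback.snd (f ∣_ V) π
  haveI : IsFinite p := MorphismProperty.pullback_fst _ _ hfin
  haveI : Surjective p := MorphismProperty.pullback_fst _ _ hsurj
  have big : IsPullback (p ≫ U.ι) q f (π ≫ V.ι) :=
    (IsPullback.of_hasPullback (f ∣_ V) π).paste_horiz (isPullback_morphismRestrict f V).flip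
  let φ := big.isoPullback
  have hcomp : RelAmple.IsRelAmple (p ≫ (f ∣_ V)) ((Scheme.Modules.pullback p).obj (L.restrict U.ι)) := by
    have h1 := Groth.Agent.RelAmpleDesc.isRelAmple_comp_affine π hX
    have h2 := Groth.Agent.AmpleX.isRelAmple_pullback_quasiAffine (snd' ≫ π) φ.hom
      (Groth.Agent.NormX.mor2_isQuasiAffine_of_isFinite φ.hom) h1
    rw [show φ.hom ≫ snd' ≫ π = p ≫ (f ∣_ V) by
      rw [← Category.assoc, big.isoPullback_hom_snd, Limits.pullback.condition]] at h2
    refine Groth.Agent.VeryAmpleX.isRelAmple_of_iso _ (Groth.Agent.H23.PicMul.cl_eq_iff.1 ?_).some h2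
    show PicF.pullCl φ.hom (PicF.pullCl fst' (PicF.cl L)) = PicF.pullCl p (PicF.cl (L.restrict U.ι))
    rw [Groth.Agent.AmpleX.cl_restrict, Groth.Agent.PicClLib.pullCl_comp, Groth.Agent.PicClLib.pullCl_comp,
      big.isoPullback_hom_fst]
  have hZV : ClSub.IsProperOver (f ∣_ V) (U.ι ⁻¹' (Z : Set X)) :=
    Groth.Agent.RelAmpleDesc.isProperOver_restrict f V Z hZ
  have hLU : PicF.IsInvertible (L.restrict U.ι) := Groth.Agent.AmpleX.isInvertible_restrict _ hLi
  have hV' := Groth.Agent.NormExt.isRelAmple_of_pullback (f ∣_ V) p hLU hZV (fun z hz => by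
    obtain ⟨hd, hn⟩ := hnor (U.ι z) hz
    let e := (asIso (U.ι.stalkMap z)).commRingCatIsoToRingEquiv
    haveI := hn
    exact Or.inl ⟨e.symm.toMulEquiv.isDomain_iff.2 hd, IsIntegrallyClosed.of_equiv e⟩) hcomp
  obtain ⟨O, W, j, hj, hxO, hle, hA⟩ := Groth.Agent.AmpleX.ampleOn_of_isRelAmple hV' ⟨f x, hxV⟩
  refine ⟨V.ι ''ᵁ O, W, j ≫ U.ι, inferInstance, ⟨_, hxO, rfl⟩, ?_,
    Groth.Agent.AmpleX.isAmple_of_iso (Groth.Agent.QCoh.restrictRestrict L _ _) hA⟩
  rintro z ⟨o, ho, ho'⟩
  have hzU : z ∈ U := show f z ∈ V by rw [← ho']; exact o.2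
  obtain ⟨w, hw⟩ := hle (show (⟨z, hzU⟩ : U.toScheme) ∈ (f ∣_ V) ⁻¹ᵁ O by
    show (f ∣_ V) ⟨z, hzU⟩ ∈ O
    have e : (f ∣_ V) ⟨z, hzU⟩ = o := V.ι.isEmbedding.injective (by
      rw [← Scheme.Hom.comp_apply, morphismRestrict_ι]
      exact ho'.symm)
    rw [e]
    exact ho)
  exact ⟨w, by rw [Scheme.Hom.comp_apply, hw]; rfl⟩

end Groth.Agent.S4979
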