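import Groth.Statements.S4999
-- import your own Groth.Agent.* helpers here
import Groth.Agent.S2063
import Groth.Agent.EGA41Lib.FieldFS
import Groth.Agent.QRepLib.Naive
import Groth.Agent.GeomField.Algebra
import Groth.Agent.SmoothReg.Omega

set_option autoImplicit false
universe u
open Unram17
open TensorProduct

namespace Groth.Agent.S4999

/-- Let A be an algebra of finite type over a field k. Then A is smooth over k if and only if the module
of differentials of A over k is projective (locally free) and, at every minimal prime p of A, the
local ring A_p is geometrically reduced over k, which for this Artinian local ring says that A_p is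
a field and a separable (not necessarily algebraic) extension of k. -/
theorem result (k A : Type u) [Field k] [CommRing A]
    [Algebra k A] [Algebra.FiniteType k A] :
    Algebra.Smooth k A ↔
      Module.Projective A (KaehlerDifferential k A) ∧
        ∀ (p : Ideal A) [p.IsPrime], p ∈ minimalPrimes A →
          Algebra.IsGeometricallyReduced k (Localization.AtPrime p) := by
  haveI : Module.Finite A Ω[A⁄k] := inferInstance
  constructor
  · intro h
    haveI := h
    refine ⟨inferInstance, fun p _ _ => ?_⟩
    haveI : Algebra.IsGeometricallyReduced k A := by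
      rw [Algebra.isGeometricallyReduced_field_iff]
      exact Groth.Agent.QRepLib.isReduced_of_smooth_algebra (AlgebraicClosure k) _
    exact Groth.Agent.GeomField.gr_localization (A := A) (Localization.AtPrime p) p.primeCompl
  · rintro ⟨hproj, hred⟩
    haveI := hproj
    haveI : Algebra.FinitePresentation k A := (Algebra.FinitePresentation.of_finiteType (R := k) (A := A)).1 inferInstance
    refine Groth.Agent.CotTLib.smooth_of_isSmoothAt_maximal fun q _ => ?_
    obtain ⟨p, hp, hpq⟩ := Ideal.exists_minimalPrimes_le (I := (⊥ : Ideal A)) (J := q) bot_le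
    haveI := hp.1.1
    haveI := hred p hp
    haveI : IsReduced (Localization.AtPrime p) := Algebra.isReduced_of_isGeometricallyReduced (k := k)
    haveI : Ring.KrullDimLE 0 (Localization.AtPrime p) := .of_isLocalization p hp _
    letI : Field (Localization.AtPrime p) := Ring.KrullDimLE.isField_of_isReduced.toField
    haveI hsm : Algebra.IsSmoothAt k p :=
      Groth.Agent.EGA41Lib.FieldFS.formallySmooth_of_isGeometricallyReduced k (Localization.AtPrime p)
    have h1 := (Groth.Agent.S2063.result (k := k) p).1 hsm
    refine (Groth.Agent.S2063.result (k := k) q).2 ?_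
    have hr : ∀ (r : Ideal A) [r.IsPrime], Module.finrank r.ResidueField (r.ResidueField ⊗[A] Ω[A⁄k]) =
        Module.rankAtStalk Ω[A⁄k] ⟨r, inferInstance⟩ := fun r _ => r.finrank_fiber_eq_rankAtStalk
    rw [hr] at h1 ⊢
    have hpq' : (⟨p, inferInstance⟩ : PrimeSpectrum A) ≤ ⟨q, inferInstance⟩ := hpq
    rw [← Module.rankAtStalk_eq_of_le_of_finite_of_flat (R := A) (M := Ω[A⁄k]) hpq']
    refine h1.trans (le_iInf fun U => ?_)
    exact iInf_le (fun U : {U : TopologicalSpace.Opens (PrimeSpectrum A) // (⟨p, inferInstance⟩ : PrimeSpectrum A) ∈ U} =>
        topologicalKrullDim (U.1 : Set (PrimeSpectrum A)))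
      ⟨U.1, ((PrimeSpectrum.le_iff_specializes _ _).1 hpq').mem_open U.1.isOpen U.2⟩

end Groth.Agent.S4999
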