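import Groth.Statements.S5001
import Groth.Agent.S2790
import Mathlib

set_option autoImplicit false
universe u
open Unram17

namespace Groth.Agent.S5001

/-- Let k be a field, A a k-algebra of finite type equipped with a k-algebra map from the polynomial
ring in n variables, with images g_i of the variables, and p a prime of A such that Spec A has local
dimension n at p, the residue field of p is a finite separable extension of k, and every g_i lies in
p. Then A is etale over the polynomial ring at p if and only if the images of the g_i generate the
maximal ideal of the local ring A_p. -/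
theorem result (k A : Type u) [Field k] [CommRing A] [Algebra k A]
    [Algebra.FiniteType k A] (n : ℕ) [Algebra (MvPolynomial (Fin n) k) A]
    [IsScalarTower k (MvPolynomial (Fin n) k) A] (p : Ideal A) [p.IsPrime]
    (hn : FlatMor.localDim (PrimeSpectrum A) ⟨p, inferInstance⟩ = (n : WithBot ℕ∞))
    [Module.Finite k p.ResidueField] [Algebra.IsSeparable k p.ResidueField]
    (hg : ∀ i : Fin n, algebraMap (MvPolynomial (Fin n) k) A (MvPolynomial.X i) ∈ p) :
    Algebra.IsEtaleAt (MvPolynomial (Fin n) k) p ↔
      Ideal.span (Set.range fun i : Fin n =>
        algebraMap A (Localization.AtPrime p) (algebraMap (MvPolynomial (Fin n) k) A (MvPolynomial.X i))) =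
        IsLocalRing.maximalIdeal (Localization.AtPrime p) := by
  let P := MvPolynomial (Fin n) k
  haveI : IsNoetherianRing A := Algebra.FiniteType.isNoetherianRing k A
  haveI : Algebra.FiniteType P A := Algebra.FiniteType.of_restrictScalars_finiteType k P A
  let M : Ideal P := Ideal.span (Set.range MvPolynomial.X)
  have hdec : ∀ f : P, f - MvPolynomial.C (MvPolynomial.constantCoeff f) ∈ M := fun f => by
    induction f using MvPolynomial.induction_on with
    | C a => simp
    | add a b ha hb =>
      rw [map_add, map_add, add_sub_add_comm]
      exact add_mem ha hb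
    | mul_X a i _ =>
      rw [map_mul, MvPolynomial.constantCoeff_X, mul_zero, map_zero, sub_zero]
      exact Ideal.mul_mem_left _ _ (Ideal.subset_span ⟨i, rfl⟩)
  have hMker : M = RingHom.ker (MvPolynomial.constantCoeff (σ := Fin n) (R := k)) := by
    refine le_antisymm (Ideal.span_le.2 (by rintro _ ⟨i, rfl⟩; exact MvPolynomial.constantCoeff_X (R := k) i))
      fun f hf => ?_
    have := hdec f
    rwa [RingHom.mem_ker.1 hf, map_zero, sub_zero] at this
  haveI hMmax : M.IsMaximal := hMker ▸ RingHom.ker_isMaximal_of_surjective _
    (fun a => ⟨MvPolynomial.C a, MvPolynomial.constantCoeff_C _ a⟩)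
  haveI hover : p.LiesOver M := by
    refine ⟨hMmax.eq_of_le (Ideal.IsPrime.ne_top inferInstance) ?_⟩
    rw [Ideal.span_le]
    rintro _ ⟨i, rfl⟩
    exact hg i
  letI := Localization.AtPrime.algebraOfLiesOver M p
  have hmap : M.map (algebraMap P (Localization.AtPrime p)) =
      Ideal.span (Set.range fun i : Fin n =>
        algebraMap A (Localization.AtPrime p) (algebraMap P A (MvPolynomial.X i))) := by
    rw [Ideal.map_span, ← Set.range_comp]
    congr 2
  have hsep : Algebra.IsSeparable M.ResidueField p.ResidueField :=
    Algebra.isSeparable_tower_top_of_isSeparable k M.ResidueField p.ResidueField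
  constructor
  · intro h
    haveI : Algebra.IsEtaleAt P p := h
    haveI : Algebra.IsUnramifiedAt P p := by
      haveI : Algebra.FormallyEtale P (Localization.AtPrime p) := h
      exact inferInstanceAs (Algebra.FormallyUnramified P (Localization.AtPrime p))
    exact hmap.symm.trans ((Algebra.isUnramifiedAt_iff_map_eq P M p).1 ‹_›).2
  · intro h
    haveI : Algebra.IsUnramifiedAt P p :=
      (Algebra.isUnramifiedAt_iff_map_eq P M p).2 ⟨hsep, hmap.trans h⟩
    obtain ⟨q, hq, hqp, hdim⟩ := S2790.exists_component p n hn.ge
    exact EtaleCrit.isEtaleAt_of_component k n A p q hqp hdim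

end Groth.Agent.S5001
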