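import Groth.Statements.S5012
import Groth.Agent.S9442
import Groth.Agent.EGA41Lib.FieldFS
import Mathlib.RingTheory.Smooth.Locus
import Mathlib.RingTheory.Nilpotent.GeometricallyReduced

set_option autoImplicit false
universe u
open Unram17

namespace Groth.Agent.S5012

open Groth.Agent

/-- Let A be an algebra of finite type over a field k. Then Spec A has a dense open subset consisting of
points at which A is smooth over k if and only if, for every minimal prime p of A, the local ring
A_p is geometrically reduced over k (that is, A_p is a field and a separable extension of k). -/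
theorem result (k A : Type u) [Field k] [CommRing A] [Algebra k A]
    [Algebra.FiniteType k A] :
    (∃ U : TopologicalSpace.Opens (PrimeSpectrum A), Dense (U : Set (PrimeSpectrum A)) ∧
        ∀ p ∈ U, Algebra.IsSmoothAt k p.asIdeal) ↔
      ∀ (p : Ideal A) [p.IsPrime], p ∈ minimalPrimes A →
        Algebra.IsGeometricallyReduced k (Localization.AtPrime p) := by
  haveI : IsNoetherianRing A := Algebra.FiniteType.isNoetherianRing k A
  haveI : Algebra.FinitePresentation k A := Algebra.FinitePresentation.of_finiteType.1 inferInstance
  constructor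
  · rintro ⟨U, hU, hs⟩ p _ hp
    classical
    let R : Set (PrimeSpectrum A) := ⋃ p' ∈ {p' ∈ minimalPrimes A | p' ≠ p}, PrimeSpectrum.zeroLocus (p' : Set A)
    have hR : IsClosed R := ((minimalPrimes.finite_of_isNoetherianRing A).subset fun _ h => h.1).isClosed_biUnion
      fun _ _ => PrimeSpectrum.isClosed_zeroLocus _
    have hne : (Rᶜ).Nonempty := ⟨⟨p, ‹_›⟩, fun h => by
      simp only [R, Set.mem_iUnion] at h
      obtain ⟨p', ⟨hp', hne⟩, hle⟩ := h
      exact hne (le_antisymm hle (hp.2 hp'.1 hle))⟩
    obtain ⟨q, hq, hqR⟩ := hU.inter_open_nonempty _ hR.isOpen_compl hne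
    obtain ⟨p', hp', hle⟩ := Ideal.exists_minimalPrimes_le (bot_le : (⊥ : Ideal A) ≤ q.asIdeal)
    obtain rfl : p' = p := by
      by_contra h
      exact hq (Set.mem_iUnion₂.2 ⟨p', ⟨hp', h⟩, hle⟩)
    have hpU : (⟨p', hp.1.1⟩ : PrimeSpectrum A) ∈ U :=
      ((PrimeSpectrum.le_iff_specializes ⟨p', hp.1.1⟩ q).1 hle).mem_open U.2 hqR
    haveI : Algebra.IsSmoothAt k p' := hs _ hpU
    haveI : Algebra.FormallySmooth k (Localization.AtPrime p') := this
    haveI : IsNoetherianRing (Localization.AtPrime p') := IsLocalization.isNoetherianRing p'.primeCompl _ inferInstance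
    haveI : Ring.KrullDimLE 0 (Localization.AtPrime p') := Ring.KrullDimLE.of_isLocalization p' hp (Localization.AtPrime p')
    haveI : IsRegularLocalRing (Localization.AtPrime p') := CotTLib.isRegularLocalRing_of_isSmoothAt (k := k) p'
    have hf : IsField (Localization.AtPrime p') := by
      rw [IsLocalRing.isField_iff_maximalIdeal_eq]
      refine (Submodule.spanFinrank_eq_zero_iff_eq_bot (IsNoetherian.noetherian _)).1 ?_
      have h1 := (isRegularLocalRing_iff (Localization.AtPrime p')).1 inferInstance
      rw [ringKrullDimZero_iff_ringKrullDim_eq_zero.1 (inferInstance : Ring.KrullDimLE 0 (Localization.AtPrime p'))] at h1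
      exact_mod_cast h1
    letI := hf.toField
    exact EGA41Lib.FieldFS.isGeometricallyReduced_of_formallySmooth k (Localization.AtPrime p')
  · intro h
    refine ⟨⟨Algebra.smoothLocus k A, Algebra.isOpen_smoothLocus⟩, ?_, fun q hq => hq⟩
    have hmin : ∀ (p : Ideal A) (hp : p ∈ minimalPrimes A), (⟨p, hp.1.1⟩ : PrimeSpectrum A) ∈ Algebra.smoothLocus k A := by
      intro p hp
      haveI := hp.1.1
      haveI := h p hp
      haveI : IsReduced (Localization.AtPrime p) := Algebra.isReduced_of_isGeometricallyReduced (k := k)
      haveI : Ring.KrullDimLE 0 (Localization.AtPrime p) := Ring.KrullDimLE.of_isLocalization p hp (Localization.AtPrime p)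
      have hf : IsField (Localization.AtPrime p) := Ring.KrullDimLE.isField_of_isReduced
      have hm : IsLocalRing.maximalIdeal (Localization.AtPrime p) = ⊥ := IsLocalRing.isField_iff_maximalIdeal_eq.1 hf
      haveI : Algebra.IsGeometricallyReduced k p.ResidueField := by
        let e : p.ResidueField ≃ₐ[k] Localization.AtPrime p :=
          (Ideal.quotientEquivAlgOfEq k hm).trans (AlgEquiv.quotientBot k _)
        exact Algebra.IsGeometricallyReduced.of_injective e.toAlgHom e.injective
      refine (S9442.result k A p).2 ?_
      letI := hf.toField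
      infer_instance
    rw [dense_iff_closure_eq, Set.eq_univ_iff_forall]
    intro q
    obtain ⟨p, hp, hle⟩ := Ideal.exists_minimalPrimes_le (bot_le : (⊥ : Ideal A) ≤ q.asIdeal)
    exact ((PrimeSpectrum.le_iff_specializes ⟨p, hp.1.1⟩ q).1 hle).mem_closed isClosed_closure (subset_closure (hmin p hp))

end Groth.Agent.S5012
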