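import Groth.Statements.S5021
-- import your own Groth.Agent.* helpers here
import Groth.Agent.H4NS.KernelLocFree
import Groth.Agent.PPSheaf.GrCoh
import Groth.Agent.GrpOmega.Section
import Groth.Agent.Synt29.ConormalSeq
import Groth.Agent.FibDim.LocDim
import Groth.Agent.KRRReg.LamPull
import Groth.Agent.S5019
import Groth.Agent.S5020
import Groth.Agent.S1488
import Groth.Agent.S9370
import Groth.Agent.S9371
import Groth.Agent.S9372

set_option autoImplicit false
set_option linter.style.haveILetI false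
set_option backward.isDefEq.respectTransparency false
set_option backward.isDefEq.respectTransparency.types false
universe u
open CategoryTheory CategoryTheory.Limits AlgebraicGeometry TopologicalSpace
open Unram17

namespace Groth.Agent.S5021

theorem exists_free_pullback {X Y : Scheme.{u}} (f : X ⟶ Y) {M : Y.Modules} (U : Y.Opens) {r : ℕ}
    (e : M.restrict U.ι ≅ FlatMod.freeMod (↑U) r) :
    Nonempty (((Scheme.Modules.pullback f).obj M).restrict (f ⁻¹ᵁ U).ι ≅ FlatMod.freeMod (↑(f ⁻¹ᵁ U)) r) :=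
  ⟨((H23.PullPush.pullRestrictIso f U).app M).symm ≪≫
    (Scheme.Modules.pullback (f ∣_ U)).mapIso e ≪≫ KFlatLib.pullFreeIso _ r⟩

/-- The case of a quasi-separated structure morphism. -/
theorem aux {X' X Y : Scheme.{u}} (f : X ⟶ Y) [Smooth f] [QuasiSeparated f]
    (j : X' ⟶ X) [IsImmersion j] [QuasiCompact j] [Smooth (j ≫ f)] [QuasiSeparated (j ≫ f)] (x : ↥X') :
    ∃ (U : X'.Opens) (n : ℕ), x ∈ U ∧ Nonempty ((Omega.conormal j).restrict U.ι ≅ FlatMod.freeMod (↑U) n) ∧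
      FlatMor.fibreDimAt f (j.base x) = FlatMor.fibreDimAt (j ≫ f) x + (n : WithBot ℕ∞) := by
  obtain ⟨φ, hφ⟩ := GrpOmega.exists_conormalDiff f j _ (OmegaSh.dOmega f)
  obtain ⟨c, hc, -⟩ := S9370.result f (j ≫ f) j (𝟙 Y) (Category.comp_id _) _ (OmegaSh.dOmega f)
    (OmegaUniv.isUniversal_dOmega f) _ (OmegaSh.dOmega (j ≫ f)) (OmegaUniv.isUniversal_dOmega (j ≫ f))
  have hu := OmegaUniv.isUniversal_dOmega f
  have hv := OmegaUniv.isUniversal_dOmega (j ≫ f)
  haveI : Mono φ := S5020.result j f ((S1488.result (j ≫ f)).1 inferInstance).2 _ _ hu φ hφ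
  haveI : Epi c := Synt29.ConormalSeq.epi_diffCompat f j _ _ hu _ _ hv c hc
  have w := Synt29.ConormalSeq.comp_eq_zero f j _ _ _ _ φ hφ c hc
  have hS : (ShortComplex.mk φ c w).ShortExact :=
    { exact := Synt29.ConormalSeq.exact_conormal_diffCompat f j _ _ hu _ _ hv φ hφ c hc w
      mono_f := inferInstance
      epi_g := inferInstance }
  have hfree : FlatMod.IsFinLocFree (Omega.sheaf f) := fun z => by
    obtain ⟨U, n, h1, h2, -⟩ := S5019.result f _ _ hu z
    exact ⟨U, n, h1, h2⟩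
  have hfree' : FlatMod.IsFinLocFree (Omega.sheaf (j ≫ f)) := fun z => by
    obtain ⟨U, n, h1, h2, -⟩ := S5019.result (j ≫ f) _ _ hv z
    exact ⟨U, n, h1, h2⟩
  obtain ⟨U, n, hjx, ⟨e₂⟩, hn⟩ := S5019.result f _ _ hu (j x)
  obtain ⟨U₃, m, hx₃, ⟨e₃⟩, hm⟩ := S5019.result (j ≫ f) _ _ hv x
  obtain ⟨i₂⟩ := exists_free_pullback j U e₂
  have h₂ : FlatMod.IsFinLocFree ((Scheme.Modules.pullback j).obj (Omega.sheaf f)) := fun z => by
    obtain ⟨V, q, hV, ⟨e⟩⟩ := hfree (j z)
    exact ⟨j ⁻¹ᵁ V, q, hV, exists_free_pullback j V e⟩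
  obtain ⟨V, r, hxV, hr, hV⟩ := H4NS.exists_free_X₁ hS
    (QCoh.isQCoh_pullback j (PPSheaf.GrCoh.isQCoh_idealMod _)) h₂ hfree'
    (show x ∈ j ⁻¹ᵁ U from hjx) hx₃ i₂ e₃
  refine ⟨V, r, hxV, hV, ?_⟩
  rw [hn, hm, ← hr, Nat.cast_add, add_comm]

/-- Let f : X ⟶ Y be smooth and j : X' ⟶ X a quasi-compact immersion such that j ≫ f is smooth. Then for
every point x of X' there are an open neighbourhood U of x and an integer n with the conormal sheaf
of j free of rank n on U, and the local dimension at j(x) of the fibre of f through j(x) equals the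
local dimension at x of the fibre of j ≫ f through x plus n. (The published statement allows any
immersion j; this row assumes j quasi-compact, the case in which the conormal sheaf used here is
known to be the conormal sheaf of j.) -/
theorem result {X' X Y : Scheme.{u}} (f : X ⟶ Y) [Smooth f]
    (j : X' ⟶ X) [IsImmersion j] [QuasiCompact j] [Smooth (j ≫ f)] (x : ↥X') :
    ∃ (U : X'.Opens) (n : ℕ), x ∈ U ∧ Nonempty ((Omega.conormal j).restrict U.ι ≅ FlatMod.freeMod (↑U) n) ∧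
      FlatMor.fibreDimAt f (j.base x) = FlatMor.fibreDimAt (j ≫ f) x + (n : WithBot ℕ∞) := by
  obtain ⟨W, hW, hxW, -⟩ := exists_isAffineOpen_mem_and_subset (x := j x) (U := ⊤) trivial
  haveI : IsAffine (W : Scheme.{u}) := hW
  haveI : IsImmersion (j ∣_ W) :=
    MorphismProperty.of_isPullback (P := @IsImmersion) (isPullback_morphismRestrict j W).flip ‹_›
  haveI : QuasiSeparated ((W.ι ≫ f) ≫ terminal.from Y) :=
    terminal.hom_ext (terminal.from (W : Scheme.{u})) ((W.ι ≫ f) ≫ terminal.from Y) ▸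
      (quasiSeparatedSpace_iff_quasiSeparated _).1 inferInstance
  haveI : QuasiSeparated (W.ι ≫ f) := QuasiSeparated.of_comp _ (terminal.from Y)
  haveI : Smooth ((j ∣_ W) ≫ W.ι ≫ f) := by rw [morphismRestrict_ι_assoc]; infer_instance
  obtain ⟨U, n, hxU, ⟨e⟩, hn⟩ := aux (W.ι ≫ f) (j ∣_ W) ⟨x, hxW⟩
  obtain ⟨φ, hφ, -⟩ := S9371.result (j ∣_ W) j W.ι (j ⁻¹ᵁ W).ι (morphismRestrict_ι j W).symm
  haveI : IsIso φ := (S9372.result (j ∣_ W) j W.ι (j ⁻¹ᵁ W).ι (isPullback_morphismRestrict j W) φ hφ).2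
    inferInstance
  let ψ : (Omega.conormal j).restrict (j ⁻¹ᵁ W).ι ≅ Omega.conormal (j ∣_ W) :=
    (Scheme.Modules.restrictFunctorIsoPullback _).app _ ≪≫ asIso φ
  let g := U.ι ≫ (j ⁻¹ᵁ W).ι
  refine ⟨g.opensRange, n, ⟨⟨⟨x, hxW⟩, hxU⟩, rfl⟩, ⟨?_⟩, ?_⟩
  · exact (Scheme.Modules.restrictFunctorCongr (show g.opensRange.ι =
        (g.isoOpensRange.inv ≫ U.ι) ≫ (j ⁻¹ᵁ W).ι by
        rw [Category.assoc, Scheme.Hom.isoOpensRange_inv_comp])).app _ ≪≫
      (QCoh.restrictRestrict _ _ _).symm ≪≫ (Scheme.Modules.restrictFunctor _).mapIso ψ ≪≫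
      (QCoh.restrictRestrict _ _ _).symm ≪≫
      (Scheme.Modules.restrictFunctor _).mapIso e ≪≫ QCoh.freeModRestrict _ n
  · rw [morphismRestrict_ι_assoc, FibDim.fibreDimAt_openImmersion_comp,
      FibDim.fibreDimAt_openImmersion_comp, ← Scheme.Hom.comp_apply, morphismRestrict_ι,
      Scheme.Hom.comp_apply] at hn
    exact hn

end Groth.Agent.S5021
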