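import Groth.Statements.S5023
import Groth.Agent.H6KO.Exists
import Groth.Agent.CurveHurwitz.Seq
import Groth.Agent.S9386

set_option autoImplicit false
universe u
open CategoryTheory CategoryTheory.Limits AlgebraicGeometry TopologicalSpace
open Nrm16

namespace Groth.Agent.S5023

/-- Let a : X ⟶ S and b : Y ⟶ S be morphisms and Z a fibre product of X and Y over S with projections p,
q and structure morphism h. Given sheaves of differentials (universal derivations) of X, Y and Z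
over S and the canonical compatible maps c₁ : p^*Ω_X ⟶ Ω_Z and c₂ : q^*Ω_Y ⟶ Ω_Z, the induced map
from the coproduct p^*Ω_X ⨿ q^*Ω_Y to Ω_Z is an isomorphism. -/
theorem result {X Y S Z : Scheme.{u}} (a : X ⟶ S) (b : Y ⟶ S)
    (p : Z ⟶ X) (q : Z ⟶ Y) (h : Z ⟶ S) (wp : p ≫ a = h) (wq : q ≫ b = h) (hZ : IsPullback p q a b)
    (ΩX : X.Modules) (dX : OmegaSh.Der a ΩX) (hX : OmegaSh.IsUniversal dX)
    (ΩY : Y.Modules) (dY : OmegaSh.Der b ΩY) (hY : OmegaSh.IsUniversal dY)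
    (ΩZ : Z.Modules) (dZ : OmegaSh.Der h ΩZ) (hZu : OmegaSh.IsUniversal dZ)
    (c₁ : (Scheme.Modules.pullback p).obj ΩX ⟶ ΩZ) (hc₁ : OmegaSh.IsDiffCompat p dX dZ c₁)
    (c₂ : (Scheme.Modules.pullback q).obj ΩY ⟶ ΩZ) (hc₂ : OmegaSh.IsDiffCompat q dY dZ c₂) :
    IsIso (coprod.desc c₁ c₂) := by
  have seq : ∀ {A : Scheme.{u}} (f : Z ⟶ A) (g : A ⟶ S) (_ : f ≫ g = h) (ΩA : A.Modules) (dA : OmegaSh.Der g ΩA)
      (_ : OmegaSh.IsUniversal dA) (ΩR : Z.Modules) (dR : OmegaSh.Der f ΩR) (_ : OmegaSh.IsUniversal dR)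
      (c : (Scheme.Modules.pullback f).obj ΩA ⟶ ΩZ) (_ : OmegaSh.IsDiffCompat f dA dZ c),
      ∃ (π : ΩZ ⟶ ΩR) (w : c ≫ π = 0), Epi π ∧ (ShortComplex.mk c π w).Exact ∧
        ∀ (U : Z.Opens) (s : Γ(Z, U)), π.app U (dZ.app U s) = dR.app U s := by
    intro A f g e ΩA dA hA ΩR dR hR c hc
    subst e
    exact CurveHurwitz.exists_sequence' f g ΩA dA hA ΩZ dZ hZu ΩR dR hR c hc
  obtain ⟨Ω₁, d₁, h₁⟩ := H6KO.exists_universal q
  obtain ⟨Ω₂, d₂, h₂⟩ := H6KO.exists_universal p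
  obtain ⟨π₁, w₁, e₁, ex₁, v₁⟩ := seq q b wq ΩY dY hY Ω₁ d₁ h₁ c₂ hc₂
  obtain ⟨π₂, w₂, e₂, ex₂, v₂⟩ := seq p a wp ΩX dX hX Ω₂ d₂ h₂ c₁ hc₁
  haveI : IsIso (c₁ ≫ π₁) := S9386.result a b p q hZ ΩX dX hX Ω₁ d₁ h₁ _ fun U s =>
    (congrArg (π₁.app _) (hc₁ U s)).trans (v₁ _ _)
  haveI : IsIso (c₂ ≫ π₂) := S9386.result b a q p hZ.flip ΩY dY hY Ω₂ d₂ h₂ _ fun U s =>
    (congrArg (π₂.app _) (hc₂ U s)).trans (v₂ _ _)
  let r : ΩZ ⟶ (Scheme.Modules.pullback p).obj ΩX ⨿ (Scheme.Modules.pullback q).obj ΩY :=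
    π₁ ≫ inv (c₁ ≫ π₁) ≫ coprod.inl + π₂ ≫ inv (c₂ ≫ π₂) ≫ coprod.inr
  haveI : Mono (coprod.desc c₁ c₂) := SplitMono.mono ⟨r, coprod.hom_ext
    (by rw [coprod.inl_desc_assoc, Preadditive.comp_add, reassoc_of% w₂, zero_comp, add_zero, ← Category.assoc c₁,
      IsIso.hom_inv_id_assoc, Category.comp_id])
    (by rw [coprod.inr_desc_assoc, Preadditive.comp_add, reassoc_of% w₁, zero_comp, zero_add, ← Category.assoc c₂,
      IsIso.hom_inv_id_assoc, Category.comp_id])⟩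
  haveI : Epi (coprod.desc c₁ c₂) := Preadditive.epi_of_cancel_zero _ fun {T} z hz => by
    have z₁ : c₁ ≫ z = 0 := by rw [← coprod.inl_desc c₁ c₂, Category.assoc, hz, comp_zero]
    have z₂ : c₂ ≫ z = 0 := by rw [← coprod.inr_desc c₁ c₂, Category.assoc, hz, comp_zero]
    haveI := e₁
    haveI : Epi (ShortComplex.mk c₂ π₁ w₁).g := e₁
    obtain ⟨z', hz'⟩ : ∃ z' : Ω₁ ⟶ T, π₁ ≫ z' = z := ⟨ex₁.desc z z₂, ex₁.g_desc z z₂⟩
    rw [← hz'] at z₁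
    have : z' = 0 := (cancel_epi (c₁ ≫ π₁)).1 (by rw [Category.assoc, z₁, comp_zero])
    rw [← hz', this, comp_zero]
  exact isIso_of_mono_of_epi _

end Groth.Agent.S5023
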