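import Groth.Statements.S5029
-- import your own Groth.Agent.* helpers here
import Groth.Agent.SymSh.Spec
import Groth.Agent.QCoh.LocFree
import Mathlib.LinearAlgebra.SymmetricAlgebra.Basis
import Mathlib.AlgebraicGeometry.Morphisms.Smooth

set_option autoImplicit false
universe u
open CategoryTheory CategoryTheory.Limits AlgebraicGeometry TopologicalSpace
open Unram17

set_option backward.isDefEq.respectTransparency false
set_option backward.isDefEq.respectTransparency.types false

namespace Groth.Agent.S5029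

/-- Let S be a scheme and E a quasi-coherent O_S-module that is finite locally free. If A is a
quasi-coherent O_S-algebra which is the symmetric algebra of E (through j : E ⟶ A), then the
structure morphism of the relative spectrum of A, i.e. of the vector bundle V(E), is smooth. -/
theorem result {S : Scheme.{u}} (E : S.Modules) (hE : Coh.IsQCoh E)
    (hlf : FlatMod.IsFinLocFree E) (A : RelSpec.QCAlg S) (j : E ⟶ A.toModule) (hA : RelSpec.IsSymAlg E A j) :
    Smooth A.π := by
  classical
  have hex : ∀ x : S, ∃ (V : S.Opens) (hV : IsAffineOpen V), x ∈ V ∧ Smooth (A.ι V hV ≫ A.π) := by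
    intro x
    obtain ⟨U, n, hxU, ⟨e⟩⟩ := hlf x
    obtain ⟨_, ⟨V, hV, rfl⟩, hxV, hle⟩ := S.isBasis_affineOpens.exists_subset_of_mem_open hxU U.2
    refine ⟨V, hV, hxV, ?_⟩
    rw [A.ι_π]
    suffices Smooth (Spec.map (A.str.app (Opposite.op V))) from inferInstance
    rw [HasRingHomProperty.Spec_iff (P := @Smooth)]
    obtain ⟨eA, heA, -⟩ := Groth.Agent.SymSh.exists_sec hE hA hV
    obtain ⟨l⟩ := Groth.Agent.QCoh.free_sections hV hle e
    let b : Module.Basis (ULift.{u} (Fin n)) Γ(S, V) (E.val.obj (Opposite.op V)) := Module.Basis.ofRepr l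
    let θ := SymmetricAlgebra.equivMvPolynomial b
    letI : Algebra Γ(S, V) (A.presheaf.obj (Opposite.op V)) := (A.str.app (Opposite.op V)).hom.toAlgebra
    let eA' : A.presheaf.obj (Opposite.op V) ≃ₐ[Γ(S, V)] SymmetricAlgebra Γ(S, V) (E.val.obj (Opposite.op V)) :=
      AlgEquiv.ofRingEquiv (f := eA) heA
    haveI : Algebra.Smooth Γ(S, V) (MvPolynomial (ULift.{u} (Fin n)) Γ(S, V)) := {}
    haveI : Algebra.Smooth Γ(S, V) (A.presheaf.obj (Opposite.op V)) :=
      Algebra.Smooth.of_equiv (θ.symm.trans eA'.symm)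
    exact RingHom.smooth_algebraMap.2 ‹_›
  choose V hV hxV hsm using hex
  have htop : IsOpenCover V := .mk (eq_top_iff.2 fun y _ => Opens.mem_iSup.2 ⟨y, hxV y⟩)
  refine (IsZariskiLocalAtSource.iff_of_openCover (P := @Smooth)
    (A.spec.openCoverOfIsOpenCover (fun x => A.π ⁻¹ᵁ V x) (htop.comap A.π.base.1))).2 fun x => ?_
  show Smooth ((A.π ⁻¹ᵁ V x).ι ≫ A.π)
  have hr : Set.range (A.π ⁻¹ᵁ V x).ι = Set.range (A.ι (V x) (hV x)) := by
    rw [Scheme.Opens.range_ι, A.π_preimage (V x) (hV x)]
    rfl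
  rw [← IsOpenImmersion.isoOfRangeEq_hom_fac (A.π ⁻¹ᵁ V x).ι (A.ι (V x) (hV x)) hr, Category.assoc]
  haveI := hsm x
  infer_instance

end Groth.Agent.S5029
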