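import Groth.Statements.S5036
-- import your own Groth.Agent.* helpers here
import Groth.Agent.LocImmLib.ZMT
import Groth.Agent.H4NS.UnramNormal
import Mathlib

set_option autoImplicit false
open CategoryTheory CategoryTheory.Limits AlgebraicGeometry
universe u
open Hensel

set_option linter.style.haveILetI false
set_option backward.isDefEq.respectTransparency false
set_option backward.isDefEq.respectTransparency.types false

namespace Groth.Agent.S5036

abbrev LiftsClopens {S S₀ : Scheme.{u}} (i : S₀ ⟶ S) : Prop :=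
  ∀ (S' : Scheme.{u}) (g : S' ⟶ S), IsFinite g →
    ∀ V : Set ↥(pullback g i), IsClopen V → ∃! U : Set ↥S', IsClopen U ∧ (pullback.fst g i).base ⁻¹' U = V

/-- Clopen subsets of a finite scheme agreeing over `S₀` are equal. -/
theorem clopen_eq {S S₀ T : Scheme.{u}} {i : S₀ ⟶ S} (ha : LiftsClopens i) (g : T ⟶ S) (hg : IsFinite g)
    {U U' : Set T} (hU : IsClopen U) (hU' : IsClopen U')
    (h : (pullback.fst g i) ⁻¹' U = (pullback.fst g i) ⁻¹' U') : U = U' :=
  (ha T g hg _ (hU.preimage (pullback.fst g i).continuous)).unique ⟨hU, rfl⟩ ⟨hU', h.symm⟩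

/-- A closed subset of a finite scheme with no point over `S₀` is empty. -/
theorem closed_eq_empty {S S₀ T : Scheme.{u}} {i : S₀ ⟶ S} (ha : LiftsClopens i) (g : T ⟶ S) (hg : IsFinite g)
    {C : Set T} (hC : IsClosed C) (h : ∀ c ∈ C, g c ∉ Set.range i) : C = ∅ := by
  let I : T.IdealSheafData := Scheme.IdealSheafData.vanishingIdeal ⟨C, hC⟩
  have hr : Set.range I.subschemeι = C := by
    rw [Scheme.IdealSheafData.range_subschemeι]
    exact Scheme.IdealSheafData.coe_support_vanishingIdeal (Z := ⟨C, hC⟩)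
  haveI := hg
  have hu : (Set.univ : Set I.subscheme) = ∅ := by
    refine clopen_eq ha (I.subschemeι ≫ g) inferInstance isClopen_univ isClopen_empty ?_
    refine Set.ext fun p => iff_of_true trivial ?_
    refine absurd ⟨pullback.snd (I.subschemeι ≫ g) i p, ?_⟩ (h _ (hr.le ⟨pullback.fst (I.subschemeι ≫ g) i p, rfl⟩))
    exact congr($((pullback.condition (f := I.subschemeι ≫ g) (g := i)).symm) p)
  rw [← hr, ← Set.image_univ, hu, Set.image_empty]


/-- a) implies b): let S be a quasi-compact quasi-separated scheme and i : S₀ ⟶ S a closed immersion.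
Suppose that for every finite morphism g : S' ⟶ S, every open-closed subset of S' ×_S S₀ is the
inverse image under the first projection of exactly one open-closed subset of S'. Then for every
étale separated morphism g : S' ⟶ S and every section u₀ of S' ×_S S₀ ⟶ S₀ there is exactly one
section u of g whose restriction to S₀ is u₀ (that is, i ≫ u = u₀ followed by the first projection). -/
theorem result {S S₀ : Scheme.{u}} (i : S₀ ⟶ S) [IsClosedImmersion i]
    [CompactSpace ↥S] [QuasiSeparatedSpace ↥S]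
    (ha : ∀ (S' : Scheme.{u}) (g : S' ⟶ S), IsFinite g →
      ∀ V : Set ↥(pullback g i), IsClopen V → ∃! U : Set ↥S', IsClopen U ∧ (pullback.fst g i).base ⁻¹' U = V)
    {S' : Scheme.{u}} (g : S' ⟶ S) [Etale g] [IsSeparated g]
    (u₀ : S₀ ⟶ pullback g i) (hu₀ : u₀ ≫ pullback.snd g i = 𝟙 S₀) :
    ∃! u : S ⟶ S', u ≫ g = 𝟙 S ∧ i ≫ u = u₀ ≫ pullback.fst g i := by
  classical
  -- uniqueness
  have huniq : ∀ u u' : S ⟶ S', u ≫ g = 𝟙 S → u' ≫ g = 𝟙 S → i ≫ u = i ≫ u' → u = u' := by
    intro u u' hu hu' he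
    let k : S ⟶ pullback g g := pullback.lift u u' (hu.trans hu'.symm)
    have hcl : IsClopen (k ⁻¹' Set.range (pullback.diagonal g)) :=
      (show IsClopen (Set.range (pullback.diagonal g)) from
        ⟨(pullback.diagonal g).isClosedEmbedding.isClosed_range,
          (pullback.diagonal g).isOpenEmbedding.isOpen_range⟩).preimage k.continuous
    have hall := clopen_eq ha (𝟙 S) inferInstance hcl isClopen_univ <| Set.ext fun p => iff_of_true (by
      have e : (pullback.fst (𝟙 S) i) ≫ k = pullback.snd (𝟙 S) i ≫ i ≫ u ≫ pullback.diagonal g := by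
        rw [← Category.comp_id (pullback.fst (𝟙 S) i), pullback.condition, Category.assoc]
        refine congrArg _ (pullback.hom_ext ?_ ?_)
        · simp [k]
        · simp [k, he]
      exact ⟨(i ≫ u) (pullback.snd (𝟙 S) i p), congr($(e.symm) p)⟩) trivial
    have hsub : Set.range k ⊆ Set.range (pullback.diagonal g) := by
      rintro _ ⟨s, rfl⟩
      exact (Set.eq_univ_iff_forall.1 hall) s
    have hl := IsOpenImmersion.lift_fac (pullback.diagonal g) k hsub
    have h1 := congrArg (· ≫ pullback.fst g g) hl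
    have h2 := congrArg (· ≫ pullback.snd g g) hl
    simp only [Category.assoc, pullback.diagonal_fst, pullback.diagonal_snd, Category.comp_id, k, pullback.lift_fst, pullback.lift_snd] at h1 h2
    exact h1.symm.trans h2
  -- existence
  haveI : CompactSpace S₀ := i.isClosedEmbedding.compactSpace
  obtain ⟨Ω, hΩc, hΩo, hΩ⟩ : ∃ Ω : Set S', IsCompact Ω ∧ IsOpen Ω ∧ Set.range (u₀ ≫ pullback.fst g i) ⊆ Ω := by
    choose V hV hxV using fun x : S' => let ⟨_, ⟨V, hV, rfl⟩, hxV, _⟩ :=
      S'.isBasis_affineOpens.exists_subset_of_mem_open (Set.mem_univ x) isOpen_univ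
      (⟨V, hV, hxV⟩ : ∃ V : S'.Opens, IsAffineOpen V ∧ x ∈ V)
    obtain ⟨t, ht⟩ := (isCompact_range (u₀ ≫ pullback.fst g i).continuous).elim_finite_subcover
      (fun x => (V x : Set S')) (fun x => (V x).2) (fun x _ => Set.mem_iUnion.2 ⟨x, hxV x⟩)
    exact ⟨_, t.finite_toSet.isCompact_biUnion fun x _ => (hV x).isCompact,
      isOpen_biUnion fun x _ => (V x).2, ht⟩
  let W : S'.Opens := ⟨Ω, hΩo⟩
  haveI : CompactSpace (W : Scheme.{u}) := isCompact_iff_compactSpace.1 hΩc
  haveI : QuasiCompact (W.ι ≫ g) := quasiCompact_of_compactSpace _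
  haveI : Etale (W.ι ≫ g) := inferInstance
  haveI : LocallyQuasiFinite (W.ι ≫ g) := Groth.Agent.UnibEtale.locallyQuasiFinite_of_formallyUnramified _
  obtain ⟨T, j, π, hj, -, hπ, hjπ⟩ := Groth.Agent.LocImmLib.exists_openImmersion_finite (W.ι ≫ g)
  let w₀ : S₀ ⟶ (W : Scheme.{u}) := IsOpenImmersion.lift W.ι (u₀ ≫ pullback.fst g i) (by
    rw [Scheme.Opens.range_ι]; exact hΩ)
  have hw₀ : w₀ ≫ W.ι = u₀ ≫ pullback.fst g i := IsOpenImmersion.lift_fac _ _ _
  have hw₀g : w₀ ≫ W.ι ≫ g = i := by
    rw [reassoc_of% hw₀, pullback.condition, reassoc_of% hu₀]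
  have ht₀ : (w₀ ≫ j) ≫ π = 𝟙 S₀ ≫ i := by rw [Category.assoc, hjπ, hw₀g, Category.id_comp]
  let σ : S₀ ⟶ pullback π i := pullback.lift (w₀ ≫ j) (𝟙 S₀) ht₀
  have hσ1 : σ ≫ pullback.fst π i = w₀ ≫ j := pullback.lift_fst _ _ _
  have hσ2 : σ ≫ pullback.snd π i = 𝟙 S₀ := pullback.lift_snd _ _ _
  -- `σ` is clopen
  let σW : S₀ ⟶ pullback (W.ι ≫ g) i := pullback.lift w₀ (𝟙 S₀) (by rw [hw₀g, Category.id_comp])
  haveI : IsOpenImmersion σW := by
    haveI : Etale (σW ≫ pullback.snd (W.ι ≫ g) i) := by rw [pullback.lift_snd]; infer_instance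
    haveI : Etale σW := Etale.of_comp σW (pullback.snd (W.ι ≫ g) i)
    haveI : Mono (σW ≫ pullback.snd (W.ι ≫ g) i) := by rw [pullback.lift_snd]; infer_instance
    haveI : Mono σW := mono_of_mono σW (pullback.snd (W.ι ≫ g) i)
    exact IsOpenImmersion.of_flat_of_mono σW
  let m : pullback (W.ι ≫ g) i ⟶ pullback π i :=
    pullback.map (W.ι ≫ g) i π i j (𝟙 _) (𝟙 _) (by rw [Category.comp_id, hjπ]) (by simp)
  have hσm : σ = σW ≫ m := by
    refine pullback.hom_ext ?_ ?_ <;> simp [σ, σW, m]
  haveI : IsOpenImmersion σ := by rw [hσm]; infer_instance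
  haveI : IsClosedImmersion σ := by
    haveI : IsClosedImmersion (σ ≫ pullback.snd π i) := by rw [hσ2]; infer_instance
    exact IsClosedImmersion.of_comp σ (pullback.snd π i)
  obtain ⟨U, ⟨hU, hUσ⟩, -⟩ := ha T π hπ (Set.range σ)
    ⟨σ.isClosedEmbedding.isClosed_range, σ.isOpenEmbedding.isOpen_range⟩
  have hmemU : ∀ p : ↥(pullback π i), pullback.fst π i p ∈ U → p ∈ Set.range σ := fun p hp => hUσ.le hp
  have hUj : U ⊆ Set.range j := by
    have hC : IsClosed (U ∩ (Set.range j)ᶜ) := hU.1.inter j.isOpenEmbedding.isOpen_range.isClosed_compl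
    have h0 := closed_eq_empty ha π hπ hC fun c hc => by
      rintro ⟨s, hs⟩
      obtain ⟨p, hp, -⟩ := Scheme.Pullback.exists_preimage_pullback (f := π) (g := i) c s hs.symm
      obtain ⟨s', rfl⟩ := hmemU p (hp.symm ▸ hc.1)
      exact hc.2 ⟨w₀ s', (congr($(hσ1) s')).symm.trans hp⟩
    intro x hx
    by_contra hxj
    exact (Set.eq_empty_iff_forall_notMem.1 h0) x ⟨hx, hxj⟩
  let Uo : T.Opens := ⟨U, hU.2⟩
  haveI : IsClosedImmersion Uo.ι := IsClosedImmersion.of_isPreimmersion _ (by
    rw [Scheme.Opens.range_ι]; exact hU.1)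
  haveI := hπ
  let h : (Uo : Scheme.{u}) ⟶ S := Uo.ι ≫ π
  haveI : IsFinite h := inferInstanceAs (IsFinite (Uo.ι ≫ π))
  let l : (Uo : Scheme.{u}) ⟶ (W : Scheme.{u}) := IsOpenImmersion.lift j Uo.ι (by
    rw [Scheme.Opens.range_ι]; exact hUj)
  have hl : l ≫ j = Uo.ι := IsOpenImmersion.lift_fac _ _ _
  have hlg : l ≫ W.ι ≫ g = h := by rw [← hjπ, reassoc_of% hl]
  haveI : IsOpenImmersion l := by
    haveI : IsOpenImmersion (l ≫ j) := by rw [hl]; infer_instance
    exact IsOpenImmersion.of_comp l j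
  haveI : Etale h := by rw [← hlg]; infer_instance
  let w : S₀ ⟶ (Uo : Scheme.{u}) := IsOpenImmersion.lift Uo.ι (w₀ ≫ j) (by
    rw [Scheme.Opens.range_ι]
    rintro _ ⟨s, rfl⟩
    show (w₀ ≫ j) s ∈ U
    rw [show (w₀ ≫ j) s = pullback.fst π i (σ s) from (congr($(hσ1) s)).symm]
    exact hUσ.ge ⟨s, rfl⟩)
  have hw : w ≫ Uo.ι = w₀ ≫ j := IsOpenImmersion.lift_fac _ _ _
  have hwh : w ≫ h = i := by
    show w ≫ Uo.ι ≫ π = i
    rw [reassoc_of% hw, hjπ, hw₀g]
  -- `h` is a monomorphism
  haveI : Mono h := by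
    let P := pullback h h
    let pr : P ⟶ S := pullback.fst h h ≫ h
    haveI : IsFinite pr := inferInstanceAs (IsFinite (pullback.fst h h ≫ h))
    have hD : IsClopen (Set.range (pullback.diagonal h)) :=
      ⟨(pullback.diagonal h).isClosedEmbedding.isClosed_range, (pullback.diagonal h).isOpenEmbedding.isOpen_range⟩
    have hkey : ∀ {Z : Scheme.{u}} (a : Z ⟶ Uo) (b : Z ⟶ S₀), a ≫ h = b ≫ i → a = b ≫ w := by
      intro Z a b hab
      let q : Z ⟶ pullback π i := pullback.lift (a ≫ Uo.ι) b (by rw [Category.assoc]; exact hab)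
      have hq : Set.range q ⊆ Set.range σ := by
        rintro _ ⟨z, rfl⟩
        refine hmemU _ ?_
        rw [show pullback.fst π i (q z) = Uo.ι (a z) from congr($(pullback.lift_fst (a ≫ Uo.ι) b _) z)]
        exact (a z).2
      have h1 := IsOpenImmersion.lift_fac σ q hq
      have hb : IsOpenImmersion.lift σ q hq = b := by
        have := congrArg (· ≫ pullback.snd π i) h1
        simp only [Category.assoc, hσ2, Category.comp_id, q, pullback.lift_snd] at this
        exact this
      rw [hb] at h1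
      have := congrArg (· ≫ pullback.fst π i) h1
      simp only [q, Category.assoc, hσ1, pullback.lift_fst] at this
      rw [← hw, ← Category.assoc, cancel_mono] at this
      exact this.symm
    have hall := clopen_eq ha pr inferInstance hD isClopen_univ <| Set.ext fun p => iff_of_true (by
      have e : pullback.fst pr i = (pullback.snd pr i ≫ w) ≫ pullback.diagonal h := by
        refine pullback.hom_ext ?_ ?_
        · rw [Category.assoc, pullback.diagonal_fst, Category.comp_id]
          exact hkey _ _ (by rw [Category.assoc]; exact pullback.condition)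
        · rw [Category.assoc, pullback.diagonal_snd, Category.comp_id]
          exact hkey _ _ (by rw [Category.assoc, ← pullback.condition]; exact pullback.condition)
      exact ⟨w (pullback.snd pr i p), congr($(e.symm) p)⟩) trivial
    haveI : Surjective (pullback.diagonal h) := ⟨fun x => (Set.eq_univ_iff_forall.1 hall) x⟩
    haveI : IsIso (pullback.diagonal h) := (isIso_iff_isOpenImmersion_and_surjective _).2 ⟨inferInstance, inferInstance⟩
    exact (pullback.isIso_diagonal_iff _).1 inferInstance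
  haveI : IsOpenImmersion h := IsOpenImmersion.of_flat_of_mono h
  have hsurj : Set.range h = Set.univ := clopen_eq ha (𝟙 S) inferInstance
    ⟨h.isClosedMap.isClosed_range, h.isOpenEmbedding.isOpen_range⟩ isClopen_univ
    (Set.ext fun p => iff_of_true (by
      refine ⟨w (pullback.snd (𝟙 S) i p), ?_⟩
      rw [show h (w (pullback.snd (𝟙 S) i p)) = i (pullback.snd (𝟙 S) i p) from congr($(hwh) _)]
      exact (congr($(pullback.condition (f := 𝟙 S) (g := i)) p)).symm) trivial)
  haveI : Surjective h := ⟨fun x => (Set.eq_univ_iff_forall.1 hsurj) x⟩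
  haveI : IsIso h := (isIso_iff_isOpenImmersion_and_surjective _).2 ⟨inferInstance, inferInstance⟩
  refine ⟨inv h ≫ l ≫ W.ι, ⟨?_, ?_⟩, fun u' hu' => (huniq _ _ ?_ hu'.1 ?_).symm⟩
  · rw [Category.assoc, Category.assoc, hlg, IsIso.inv_hom_id]
  · have e : i ≫ inv h = w := by rw [IsIso.comp_inv_eq, hwh]
    have e2 : w ≫ l = w₀ := by rw [← cancel_mono j, Category.assoc, hl, hw]
    rw [reassoc_of% e, reassoc_of% e2, hw₀]
  · rw [Category.assoc, Category.assoc, hlg, IsIso.inv_hom_id]
  · have e : i ≫ inv h = w := by rw [IsIso.comp_inv_eq, hwh]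
    have e2 : w ≫ l = w₀ := by rw [← cancel_mono j, Category.assoc, hl, hw]
    rw [reassoc_of% e, reassoc_of% e2, hw₀, hu'.2]

end Groth.Agent.S5036
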