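import Groth.Statements.S5037
-- import your own Groth.Agent.* helpers here
import Groth.Agent.H4NS.ClopenRep

set_option autoImplicit false
open CategoryTheory CategoryTheory.Limits AlgebraicGeometry
universe u
open Hensel

set_option backward.isDefEq.respectTransparency false
set_option backward.isDefEq.respectTransparency.types false

namespace Groth.Agent.S5037

/-- b) implies a'): let i : S₀ ⟶ S be a closed immersion. Suppose that for every étale separated
morphism g : S' ⟶ S and every section u₀ of S' ×_S S₀ ⟶ S₀ there is exactly one section u of g with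
i ≫ u = u₀ followed by the first projection. Then for every finite locally free morphism g : S' ⟶ S
(finite, flat and locally of finite presentation), every open-closed subset of S' ×_S S₀ is the
inverse image under the first projection of exactly one open-closed subset of S'. -/
theorem result {S S₀ : Scheme.{u}} (i : S₀ ⟶ S) [IsClosedImmersion i]
    (hb : ∀ (S' : Scheme.{u}) (g : S' ⟶ S), Etale g → IsSeparated g →
      ∀ u₀ : S₀ ⟶ pullback g i, u₀ ≫ pullback.snd g i = 𝟙 S₀ →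
        ∃! u : S ⟶ S', u ≫ g = 𝟙 S ∧ i ≫ u = u₀ ≫ pullback.fst g i)
    {S' : Scheme.{u}} (g : S' ⟶ S) [IsFinite g] [Flat g] [LocallyOfFinitePresentation g]
    (V : Set ↥(pullback g i)) (hV : IsClopen V) :
    ∃! U : Set ↥S', IsClopen U ∧ (pullback.fst g i).base ⁻¹' U = V := by
  obtain ⟨W, w, η, hW, hη, hu⟩ :=
    Groth.Agent.H4NS.ClopenRep.exists_universal g ⟨inferInstance, inferInstance, inferInstance⟩
  haveI := hW
  haveI het : Etale w := Groth.Agent.H4NS.ClopenRep.etale_of_isUniversal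
    ⟨inferInstance, inferInstance, inferInstance⟩ w hη hu
  let σ := pullbackSymmetry i g
  obtain ⟨a₀, ⟨ha₀, ha₀V⟩, -⟩ := hu S₀ i (σ.hom ⁻¹' V) (hV.preimage σ.hom.continuous)
  obtain ⟨u, ⟨hu₁, hu₂⟩, huu⟩ := hb W w het inferInstance
    (pullback.lift a₀ (𝟙 S₀) (by rw [ha₀, Category.id_comp])) (pullback.lift_snd _ _ _)
  rw [pullback.lift_fst] at hu₂
  let j : S' ⟶ pullback (𝟙 S) g := pullback.lift g (𝟙 S') (by simp)
  refine ⟨(j ≫ Groth.Agent.H4NS.ClopenRep.pm g u hu₁) ⁻¹' η,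
    ⟨hη.preimage (j ≫ Groth.Agent.H4NS.ClopenRep.pm g u hu₁).continuous, ?_⟩, fun U ⟨hU, hUV⟩ => ?_⟩
  · have e : pullback.fst g i ≫ j ≫ Groth.Agent.H4NS.ClopenRep.pm g u hu₁ =
        σ.inv ≫ Groth.Agent.H4NS.ClopenRep.pm g a₀ ha₀ := by
      apply pullback.hom_ext
      · simp [j, σ, Groth.Agent.H4NS.ClopenRep.pm_fst, pullback.condition_assoc, hu₂]
      · simp [j, σ, Groth.Agent.H4NS.ClopenRep.pm_snd]
    show (pullback.fst g i ≫ j ≫ Groth.Agent.H4NS.ClopenRep.pm g u hu₁) ⁻¹' η = V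
    rw [e]
    show σ.inv ⁻¹' (Groth.Agent.H4NS.ClopenRep.pm g a₀ ha₀ ⁻¹' η) = V
    rw [ha₀V]
    refine Set.ext fun p => ?_
    show σ.hom (σ.inv p) ∈ V ↔ p ∈ V
    rw [show σ.hom (σ.inv p) = p from congr($(σ.inv_hom_id) p)]
  · obtain ⟨a, ⟨ha, haU⟩, -⟩ := hu S (𝟙 S) (pullback.snd (𝟙 S) g ⁻¹' U) (hU.preimage (pullback.snd (𝟙 S) g).continuous)
    have hia : i ≫ a = a₀ := by
      refine Groth.Agent.H4NS.ClopenRep.eq_of_isUniversal hη hu (h := i) _ _ (by rw [Category.assoc, ha, Category.comp_id]) ha₀ ?_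
      rw [ha₀V, ← Groth.Agent.H4NS.ClopenRep.pm_comp g a ha i (Category.comp_id i)]
      show Groth.Agent.H4NS.ClopenRep.pm g i _ ⁻¹' (Groth.Agent.H4NS.ClopenRep.pm g a ha ⁻¹' η) = _
      rw [haU, ← hUV]
      refine Set.ext fun p => ?_
      show (Groth.Agent.H4NS.ClopenRep.pm g i _ ≫ pullback.snd (𝟙 S) g) p ∈ U ↔ (σ.hom ≫ pullback.fst g i) p ∈ U
      rw [Groth.Agent.H4NS.ClopenRep.pm_snd, pullbackSymmetry_hom_comp_fst]
    have hau : a = u := huu a ⟨ha, by rw [pullback.lift_fst]; exact hia⟩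
    subst hau
    refine Eq.symm ?_
    show j ⁻¹' (Groth.Agent.H4NS.ClopenRep.pm g a _ ⁻¹' η) = U
    rw [haU]
    refine Set.ext fun z => ?_
    show (j ≫ pullback.snd (𝟙 S) g) z ∈ U ↔ z ∈ U
    rw [pullback.lift_snd]
    rfl

end Groth.Agent.S5037
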