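import Groth.Statements.S5039
-- import your own Groth.Agent.* helpers here
import Groth.Agent.H4HenzNagata.Basic
import Groth.Agent.S0567
import Groth.Agent.S2657

set_option autoImplicit false
universe u
open Hensel

namespace Groth.Agent.S5039

/-- Let R be a Noetherian local ring and S its henselization. Then S is universally Japanese if and only
if R is. -/
theorem result (R S : Type u) [CommRing R] [IsLocalRing R] [IsNoetherianRing R]
    [CommRing S] [IsLocalRing S] [Algebra R S] [IsLocalHom (algebraMap R S)] [Hensel.IsHenselization R S] :
    CAlg.IsUniversallyJapanese S ↔ CAlg.IsUniversallyJapanese R := by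
  have h := Groth.Agent.Hensel.isHenzLike_of_isHenselization R S
  haveI : IsNoetherianRing S := h.isNoetherianRing_iff.1 inferInstance
  have key : ∀ (A : Type u) [CommRing A] [IsLocalRing A] [IsNoetherianRing A],
      CAlg.IsUniversallyJapanese A → EGA4.HasGeomReducedFormalFibres A := fun A _ _ _ hA =>
    CplFib6.hasGeomReducedFormalFibres_of_isN2 A fun p _ => hA (A ⧸ p) inferInstance
  refine ⟨fun hS => ((Groth.Agent.S0567.result R).mp (Groth.Agent.S2657.result R
      (H4HenzNagata.hasGeomReducedFormalFibres_of_isHenzLike R S h (key S hS)))).2,
    fun hR => ((Groth.Agent.S0567.result S).mp (Groth.Agent.S2657.result S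
      (H4HenzNagata.hasGeomReducedFormalFibres_henselization R S (key R hR)))).2⟩

end Groth.Agent.S5039
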