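import Groth.Statements.S5041
import Groth.Agent.FormCat.Descent
import Groth.Agent.FormCat.CM
import Groth.Agent.BrnchLib.Compl
import Groth.Agent.S13598
-- import your own Groth.Agent.* helpers here

set_option autoImplicit false
universe u
open Hensel

namespace Groth.Agent.S5041

open IsLocalRing TensorProduct

/-- For a minimal prime, quotients of the completion inherit strict equidimensionality. -/
theorem isStrictlyEquidim_quotient_map {S' D : Type u} [CommRing S'] [IsNoetherianRing S'] [CommRing D]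
    [Algebra S' D] [Module.FaithfullyFlat S' D] [IsNoetherianRing D] (hD : EGA4.IsStrictlyEquidim D)
    (P : Ideal S') (hP : P ∈ minimalPrimes S') : EGA4.IsStrictlyEquidim (D ⧸ P.map (algebraMap S' D)) := by
  haveI : P.IsPrime := hP.1.1
  have hann : Module.annihilator S' S' = ⊥ := Module.annihilator_eq_bot.2 inferInstance
  have hass : P ∈ associatedPrimes S' S' :=
    Module.associatedPrimes.minimalPrimes_annihilator_subset_associatedPrimes S' S' (by rw [hann]; exact hP)
  obtain ⟨-, x, hx⟩ := Alg6.mem_ass_iff.1 hass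
  let μ : (S' ⧸ P) →ₗ[S'] S' := Submodule.liftQ P (LinearMap.toSpanSingleton S' S' x) fun a ha => (hx a).1 ha
  have hμ : Function.Injective μ := by
    rw [← LinearMap.ker_eq_bot]
    refine Submodule.ker_liftQ_eq_bot _ _ _ fun a ha => (hx a).2 ha
  have hinj := Module.Flat.lTensor_preserves_injective_linearMap (M := D) μ hμ
  let J := P.map (algebraMap S' D)
  have key : ∀ d : D, d * algebraMap S' D x = 0 → d ∈ J := fun d hd => by
    let e := Algebra.TensorProduct.quotIdealMapEquivTensorQuot D P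
    refine Ideal.Quotient.eq_zero_iff_mem.1 (e.injective ?_)
    rw [map_zero]
    refine hinj ?_
    rw [map_zero, Algebra.TensorProduct.quotIdealMapEquivTensorQuot_mk, LinearMap.lTensor_tmul]
    refine (TensorProduct.rid S' D).injective ?_
    rw [map_zero, TensorProduct.rid_tmul]
    show (μ (Submodule.Quotient.mk 1)) • d = 0
    rw [Submodule.liftQ_apply, LinearMap.toSpanSingleton_apply, one_smul, Algebra.smul_def, mul_comm, hd]
  have hJx : ∀ d ∈ J, d * algebraMap S' D x = 0 := fun d hd => by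
    have : J ≤ (⊥ : Ideal D).colon {algebraMap S' D x} := by
      rw [Ideal.map_le_iff_le_comap]
      intro a ha
      rw [Ideal.mem_comap, Submodule.mem_colon_singleton, Submodule.mem_bot, smul_eq_mul, ← map_mul,
        show a * x = 0 from (hx a).1 ha, map_zero]
    have h := this hd
    rwa [Submodule.mem_colon_singleton, Submodule.mem_bot, smul_eq_mul] at h
  have main : ∀ Q ∈ associatedPrimes (D ⧸ J) (D ⧸ J),
      ringKrullDim ((D ⧸ J) ⧸ Q) = ringKrullDim D := by
    intro Q hQ
    obtain ⟨hQp, z, hz⟩ := Alg6.mem_ass_iff.1 hQ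
    haveI := hQp
    obtain ⟨z, rfl⟩ := Ideal.Quotient.mk_surjective z
    have hQ0 : Q.comap (Ideal.Quotient.mk J) ∈ associatedPrimes D D := Alg6.mem_ass_iff.2
      ⟨inferInstance, z * algebraMap S' D x, fun d => by
        rw [Ideal.mem_comap, hz, smul_eq_mul, ← map_mul, Ideal.Quotient.eq_zero_iff_mem, smul_eq_mul, ← mul_assoc]
        exact ⟨hJx _, key _⟩⟩
    have hk : RingHom.ker ((Ideal.Quotient.mk Q).comp (Ideal.Quotient.mk J)) = Q.comap (Ideal.Quotient.mk J) := by
      rw [← RingHom.comap_ker, Ideal.mk_ker]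
    rw [← hD _ hQ0]
    exact (ringKrullDim_eq_of_ringEquiv ((Ideal.quotEquivOfEq hk.symm).trans
      (RingHom.quotientKerEquivOfSurjective (Ideal.Quotient.mk_surjective.comp Ideal.Quotient.mk_surjective)))).symm
  intro Q hQ
  refine le_antisymm (ringKrullDim_quotient_le Q) ?_
  rw [main Q hQ]
  exact ringKrullDim_quotient_le J

/-- Let R be a Noetherian local ring with henselization S. If R is strictly formally catenary (for every
prime ideal p, every associated prime of the completion of R/p has quotient of dimension dim R/p),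
then so is S. -/
theorem result (R S : Type u) [CommRing R] [IsLocalRing R] [IsNoetherianRing R]
    [CommRing S] [IsLocalRing S] [Algebra R S] [IsLocalHom (algebraMap R S)] [Hensel.IsHenselization R S]
    (h : EGA4.IsFormallyStrictlyCatenary R) : EGA4.IsFormallyStrictlyCatenary S := by
  intro P hP
  haveI : IsNoetherianRing S := (Groth.Agent.Hensel.isHenzLike_of_isHenselization R S).isNoetherianRing_iff.1 inferInstance
  let p := P.comap (algebraMap R S)
  let I := p.map (algebraMap R S)
  have hpm : p ≤ maximalIdeal R := IsLocalRing.le_maximalIdeal (Ideal.IsPrime.comap (algebraMap R S)).ne_top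
  have hIP : I ≤ P := Ideal.map_comap_le
  haveI : Nontrivial (R ⧸ p) := Ideal.Quotient.nontrivial_iff.2 (Ideal.IsPrime.comap (algebraMap R S)).ne_top
  haveI : Nontrivial (S ⧸ I) := Ideal.Quotient.nontrivial_iff.2 fun h => hP.ne_top (top_le_iff.1 (h ▸ hIP))
  haveI : IsLocalRing (R ⧸ p) := .of_surjective' _ Ideal.Quotient.mk_surjective
  haveI : IsLocalRing (S ⧸ I) := .of_surjective' _ Ideal.Quotient.mk_surjective
  haveI : IsLocalHom (algebraMap (R ⧸ p) (S ⧸ I)) := ⟨fun x hx => by
    obtain ⟨a, rfl⟩ := Ideal.Quotient.mk_surjective x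
    by_contra ha
    have ha' : a ∈ maximalIdeal R := fun h => ha (h.map _)
    have h1 : algebraMap R S a ∈ maximalIdeal S := map_nonunit (algebraMap R S) a ha'
    haveI := IsLocalHom.of_surjective (Ideal.Quotient.mk I) Ideal.Quotient.mk_surjective
    exact h1 ((isUnit_map_iff (Ideal.Quotient.mk I) _).1 hx)⟩
  haveI := S13598.result (S := S) p hpm
  have hcomp : (algebraMap (R ⧸ p) (S ⧸ I)).comp (Ideal.Quotient.mk p) = (Ideal.Quotient.mk I).comp (algebraMap R S) := rfl
  let P' := P.map (Ideal.Quotient.mk I)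
  haveI : P'.IsPrime := Ideal.map_isPrime_of_surjective Ideal.Quotient.mk_surjective (by rwa [Ideal.mk_ker])
  have hP'P : P'.comap (Ideal.Quotient.mk I) = P := by
    rw [Ideal.comap_map_of_surjective _ Ideal.Quotient.mk_surjective, ← RingHom.ker_eq_comap_bot, Ideal.mk_ker,
      sup_eq_left.2 hIP]
  have hP'0 : P'.comap (algebraMap (R ⧸ p) (S ⧸ I)) = ⊥ := by
    refine Ideal.comap_injective_of_surjective _ Ideal.Quotient.mk_surjective ?_
    rw [Ideal.comap_comap, hcomp, ← Ideal.comap_comap, hP'P, ← RingHom.ker_eq_comap_bot, Ideal.mk_ker]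
  haveI : IsDomain (R ⧸ p) := Ideal.Quotient.isDomain p
  have hmin : P' ∈ minimalPrimes (S ⧸ I) :=
    (BrnchLib.mem_minimalPrimes_iff_comap (Groth.Agent.Hensel.isHenzLike_of_isHenselization (R ⧸ p) (S ⧸ I))).2 (by
      rw [hP'0, IsDomain.minimalPrimes_eq_singleton_bot]; rfl)
  haveI := FlatLoc6.faithfullyFlat_cpl (S ⧸ I)
  haveI := FlatLoc6.isNoetherianRing_cpl (S ⧸ I)
  haveI := FlatLoc6.isNoetherianRing_cpl (R ⧸ p)
  have hD : EGA4.IsStrictlyEquidim (EGA4.Cpl (S ⧸ I)) :=
    FormCat.isStrictlyEquidim_of_ringEquiv (BrnchLib.complEquiv (R ⧸ p) (S ⧸ I)).symm (h p)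
  have hq := isStrictlyEquidim_quotient_map hD P' hmin
  haveI : IsLocalRing (S ⧸ P) := .of_surjective' _ Ideal.Quotient.mk_surjective
  haveI := FlatLoc6.isNoetherianRing_cpl (S ⧸ P)
  let φ : (S ⧸ I) →+* S ⧸ P := Ideal.Quotient.factor hIP
  have hφ : Function.Surjective φ := Ideal.Quotient.factor_surjective hIP
  letI := φ.toAlgebra
  have hk : RingHom.ker φ = P' := Ideal.Quotient.factor_ker hIP
  let e0 : ((S ⧸ I) ⧸ P') ≃ₐ[S ⧸ I] S ⧸ P :=
    (Ideal.quotientEquivAlgOfEq (S ⧸ I) hk.symm).trans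
      (Ideal.quotientKerAlgEquivOfSurjective (f := Algebra.ofId (S ⧸ I) (S ⧸ P)) hφ)
  obtain ⟨e⟩ := FormalFib6.exists_cplQuotEquiv (S ⧸ I) (S ⧸ P) hφ
  exact FormCat.isStrictlyEquidim_of_ringEquiv
    ((((Algebra.TensorProduct.quotIdealMapEquivTensorQuot (EGA4.Cpl (S ⧸ I)) P').toRingEquiv.trans
      (Algebra.TensorProduct.congr (AlgEquiv.refl : EGA4.Cpl (S ⧸ I) ≃ₐ[S ⧸ I] EGA4.Cpl (S ⧸ I)) e0).toRingEquiv).trans
      (Algebra.TensorProduct.comm (S ⧸ I) (EGA4.Cpl (S ⧸ I)) (S ⧸ P)).toRingEquiv).trans e.toRingEquiv) hq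

end Groth.Agent.S5041
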