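import Groth.Statements.S5047
-- import your own Groth.Agent.* helpers here
import Groth.Agent.H4NS.UnramNormal
import Groth.Agent.EtFound.TopInv
import Groth.Agent.ConsPropLib.FibreMono

set_option autoImplicit false
set_option linter.style.haveILetI false
set_option backward.isDefEq.respectTransparency false
set_option backward.isDefEq.respectTransparency.types false
open CategoryTheory AlgebraicGeometry
universe u
open Unram

namespace Groth.Agent.S5047

/-- Consider morphisms g : Y ⟶ S and h : X ⟶ S, both locally of finite presentation, where h is flat and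
every local ring of every fibre of g is a normal domain (this holds, e.g., when g is smooth). Given
an S-morphism f : X ⟶ Y, the morphism f is an open immersion exactly when it is a monomorphism and,
at each point x of X, the local dimension at x of the h-fibre containing x coincides with the local
dimension at f x of the g-fibre containing f x. -/
theorem result {X Y S : Scheme.{u}} (g : Y ⟶ S) (h : X ⟶ S)
    [LocallyOfFinitePresentation g] [LocallyOfFinitePresentation h] [Flat h]
    (hnorm : ∀ y : Y, IsDomain ((g.fiber (g.base y)).presheaf.stalk (g.asFiber y)) ∧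
      IsIntegrallyClosed ((g.fiber (g.base y)).presheaf.stalk (g.asFiber y)))
    (f : X ⟶ Y) (w : f ≫ g = h) :
    IsOpenImmersion f ↔ (Mono f ∧ ∀ x : X, FlatMor.fibreDimAt h x = FlatMor.fibreDimAt g (f.base x)) := by
  subst w
  haveI : LocallyOfFinitePresentation f := AlgSpPts.locallyOfFinitePresentation_of_comp f g
  constructor
  · intro hf
    haveI := hf
    exact ⟨inferInstance, fun x => H4NS.fibreDimAt_eq_of_etale f g (U := ⊤) trivial⟩
  · rintro ⟨hmono, hdim⟩
    obtain ⟨huinj, hunr⟩ := (Groth.Agent.ConsPropLib.mono_iff f).1 hmono
    haveI := hunr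
    haveI := huinj
    have hloc : ∀ x : X, ∃ U : X.Opens, x ∈ U ∧ Etale (U.ι ≫ f) := fun x =>
      H4NS.etale_nhd_of_unramified f g x (Flat.stalkMap (f ≫ g) x) (hnorm (f x)) (U := ⊤) trivial (hdim x)
    choose U hxU hU using hloc
    haveI : Etale f := IsZariskiLocalAtSource.of_iSup_eq_top (P := @Etale) U
      (top_le_iff.1 fun x _ => TopologicalSpace.Opens.mem_iSup.2 ⟨x, hxU x⟩) hU
    exact Groth.Agent.EtFound.isOpenImmersion_of_etale_univInj f

end Groth.Agent.S5047
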