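import Groth.Statements.S5056
-- import your own Groth.Agent.* helpers here
import Groth.Agent.FormCat.HenselDomain

set_option autoImplicit false
set_option linter.style.haveILetI false
universe u
open Hensel

open scoped TensorProduct

namespace Groth.Agent.S5056

/-- The completion stays a domain over every field into which the domain embeds. -/
theorem isDomain_tensor_cpl (A : Type u) [CommRing A] [IsNoetherianRing A] [HenselianLocalRing A] [IsDomain A]
    (hA : EGA4.HasGeomNormalFormalFibres A) (Ω : Type u) [Field Ω] [Algebra A Ω]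
    (hinj : Function.Injective (algebraMap A Ω)) : IsDomain (Ω ⊗[A] EGA4.Cpl A) := by
  let κ := (⊥ : Ideal A).ResidueField
  letI : Algebra κ Ω := (IsFractionRing.lift (A := A) (K := κ) hinj).toAlgebra
  haveI : IsScalarTower A κ Ω := IsScalarTower.of_algebraMap_eq fun x =>
    (IsFractionRing.lift_algebraMap (A := A) (K := κ) hinj x).symm
  haveI := FormCat.isDomain_tensor_of_finite κ (EGA4.formalFibre A (⊥ : Ideal A))
    (fun L _ _ hL => haveI := hL; FormCat.isDomain_formalFibre_finite A hA ⊥ L) Ω
  exact (Algebra.TensorProduct.cancelBaseChange A κ Ω Ω (EGA4.Cpl A)).symm.toRingEquiv.toMulEquiv.isDomain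

/-- The fraction field of the completion stays a domain over every extension of the fraction field. -/
theorem isDomain_tensor_fractionField (A : Type u) [CommRing A] [IsNoetherianRing A] [HenselianLocalRing A]
    [IsDomain A] (hA : EGA4.HasGeomNormalFormalFibres A) [IsDomain (EGA4.Cpl A)]
    (K L : Type u) [Field K] [Field L] [Algebra A K] [IsFractionRing A K]
    [Algebra (EGA4.Cpl A) L] [IsFractionRing (EGA4.Cpl A) L] [Algebra K L] [Algebra A L]
    [IsScalarTower A K L] [IsScalarTower A (EGA4.Cpl A) L] (Ω : Type u) [Field Ω] [Algebra K Ω] :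
    IsDomain (Ω ⊗[K] L) := by
  letI : Algebra A Ω := ((algebraMap K Ω).comp (algebraMap A K)).toAlgebra
  haveI : IsScalarTower A K Ω := IsScalarTower.of_algebraMap_eq fun _ => rfl
  haveI := isDomain_tensor_cpl A hA Ω ((algebraMap K Ω).injective.comp (IsFractionRing.injective A K))
  haveI : Module.Flat A K := IsLocalization.flat K (nonZeroDivisors A)
  haveI : Module.Flat A Ω := Module.Flat.trans A K Ω
  let i : EGA4.Cpl A →ₐ[A] L := IsScalarTower.toAlgHom A (EGA4.Cpl A) L
  let Ψ : Ω ⊗[A] EGA4.Cpl A →ₐ[A] Ω ⊗[A] L := Algebra.TensorProduct.map (AlgHom.id A Ω) i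
  have hΨ : Function.Injective Ψ :=
    Module.Flat.lTensor_preserves_injective_linearMap (M := Ω) i.toLinearMap (IsFractionRing.injective (EGA4.Cpl A) L)
  have hclear : ∀ z : Ω ⊗[A] L, ∃ (s : EGA4.Cpl A) (w : Ω ⊗[A] EGA4.Cpl A), s ≠ 0 ∧
      z * (1 ⊗ₜ i s) = Ψ w := by
    intro z
    induction z using TensorProduct.induction_on with
    | zero => exact ⟨1, 0, one_ne_zero, by simp⟩
    | tmul a x =>
      obtain ⟨c, d, hd, rfl⟩ := IsFractionRing.div_surjective (EGA4.Cpl A) x
      have hd0 : algebraMap (EGA4.Cpl A) L d ≠ 0 := IsFractionRing.to_map_ne_zero_of_mem_nonZeroDivisors hd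
      refine ⟨d, a ⊗ₜ c, nonZeroDivisors.ne_zero hd, ?_⟩
      simp only [Ψ, i, Algebra.TensorProduct.map_tmul, Algebra.TensorProduct.tmul_mul_tmul, mul_one,
        IsScalarTower.coe_toAlgHom', AlgHom.coe_id, id_eq]
      rw [div_mul_cancel₀ _ hd0]
    | add x y hx hy =>
      obtain ⟨s, w, hs, hw⟩ := hx
      obtain ⟨s', w', hs', hw'⟩ := hy
      refine ⟨s * s', w * (1 ⊗ₜ s') + w' * (1 ⊗ₜ s), mul_ne_zero hs hs', ?_⟩
      have e : ∀ s, Ψ (1 ⊗ₜ s) = 1 ⊗ₜ i s := fun s => by simp [Ψ]
      simp only [map_add, map_mul, e]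
      rw [← hw, ← hw',
        show (1 : Ω) ⊗ₜ[A] (i s * i s') = (1 ⊗ₜ i s) * (1 ⊗ₜ i s') by simp]
      ring
  have hu : ∀ s : EGA4.Cpl A, s ≠ 0 → IsUnit ((1 : Ω) ⊗ₜ[A] i s) := fun s hs =>
    (isUnit_iff_ne_zero.2 ((map_ne_zero_iff _ (IsFractionRing.injective (EGA4.Cpl A) L)).2 hs)).map
      (Algebra.TensorProduct.includeRight : L →ₐ[A] Ω ⊗[A] L)
  haveI : Nontrivial (Ω ⊗[A] L) := hΨ.nontrivial
  haveI : NoZeroDivisors (Ω ⊗[A] L) := ⟨fun {x y} hxy => by
    obtain ⟨s, w, hs, hw⟩ := hclear x
    obtain ⟨s', w', hs', hw'⟩ := hclear y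
    have : Ψ (w * w') = 0 := by
      rw [map_mul, ← hw, ← hw', mul_mul_mul_comm, hxy, zero_mul]
    rcases mul_eq_zero.1 (hΨ (this.trans (map_zero Ψ).symm)) with h | h
    · exact Or.inl ((hu s hs).mul_left_eq_zero.1 (by rw [hw, h, map_zero]))
    · exact Or.inr ((hu s' hs').mul_left_eq_zero.1 (by rw [hw', h, map_zero]))⟩
  haveI : IsDomain (Ω ⊗[A] L) := NoZeroDivisors.to_isDomain _
  exact (IsLocalization.algebraTensorEquiv (nonZeroDivisors A) K Ω L).toRingEquiv.toMulEquiv.isDomain

/-- Let A be a Noetherian henselian local domain whose formal fibres are geometrically normal, Â its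
completion (an integral domain), K and L fraction fields of A and Â with L a K-algebra compatibly.
Then L is geometrically reduced over K (a separable extension) and every element of L algebraic over
K lies in K. -/
theorem result (A : Type u) [CommRing A] [IsNoetherianRing A]
    [HenselianLocalRing A] [IsDomain A] (h : EGA4.HasGeomNormalFormalFibres A) [IsDomain (EGA4.Cpl A)]
    (K L : Type u) [Field K] [Field L] [Algebra A K] [IsFractionRing A K]
    [Algebra (EGA4.Cpl A) L] [IsFractionRing (EGA4.Cpl A) L] [Algebra K L] [Algebra A L]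
    [IsScalarTower A K L] [IsScalarTower A (EGA4.Cpl A) L] :
    Algebra.IsGeometricallyReduced K L ∧ ∀ x : L, IsAlgebraic K x → x ∈ Set.range (algebraMap K L) := by
  refine ⟨?_, fun x hx => ?_⟩
  · rw [Algebra.isGeometricallyReduced_field_iff]
    haveI := isDomain_tensor_fractionField A h K L (AlgebraicClosure K)
    infer_instance
  · let F := IntermediateField.adjoin K {x}
    haveI : FiniteDimensional K F := IntermediateField.adjoin.finiteDimensional hx.isIntegral
    haveI := isDomain_tensor_fractionField A h K L F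
    let Φ : F ⊗[K] F →ₐ[K] F ⊗[K] L := Algebra.TensorProduct.map (AlgHom.id K F) F.val
    have hΦ : Function.Injective Φ :=
      Module.Flat.lTensor_preserves_injective_linearMap (M := F) F.val.toLinearMap F.val.injective
    haveI : IsDomain (F ⊗[K] F) := hΦ.isDomain (f := Φ.toRingHom)
    have hfield : IsField (F ⊗[K] F) :=
      isField_of_isIntegral_of_isField' (R := K) (S := F ⊗[K] F) (Field.toIsField K)
    letI := @IsField.toField (F ⊗[K] F) _ hfield
    have hμ : Function.Injective (Algebra.TensorProduct.lmul' (S := F) K) :=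
      (Algebra.TensorProduct.lmul' (S := F) K).toRingHom.injective
    have hle : Module.finrank K (F ⊗[K] F) ≤ Module.finrank K F :=
      LinearMap.finrank_le_finrank_of_injective (f := (Algebra.TensorProduct.lmul' (S := F) K).toLinearMap) hμ
    rw [Module.finrank_tensorProduct] at hle
    have hpos : 0 < Module.finrank K F := Module.finrank_pos
    have h1 : Module.finrank K F = 1 := le_antisymm (by nlinarith) hpos
    have h2 := IntermediateField.finrank_eq_one_iff.1 h1
    exact IntermediateField.mem_bot.1 (h2 ▸ IntermediateField.mem_adjoin_simple_self K x)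

end Groth.Agent.S5056
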