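import Groth.Statements.S5058
import Groth.Agent.ConsPropLib.Approx
import Groth.Agent.ConsPropLib.NoethApprox
import Groth.Agent.S0506
import Groth.Agent.S0507
import Groth.Agent.S0511

set_option autoImplicit false
set_option backward.isDefEq.respectTransparency false
open CategoryTheory CategoryTheory.Limits AlgebraicGeometry
universe u
open Hensel

namespace Groth.Agent.S5058

/-- Let A be a henselian local ring and f : X ⟶ Spec A a morphism of finite presentation. Then there
exist a Noetherian henselian local ring A₀, a local ring homomorphism φ : A₀ → A, a morphism of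
finite type f₀ : X₀ ⟶ Spec A₀ and a cartesian square exhibiting X as the base change of X₀ along
Spec φ. -/
theorem result (A : Type u) [CommRing A] [HenselianLocalRing A]
    {X : Scheme.{u}} (f : X ⟶ Spec (CommRingCat.of A)) [LocallyOfFinitePresentation f] [QuasiCompact f] [QuasiSeparated f] :
    ∃ (A₀ : Type u) (_ : CommRing A₀) (_ : HenselianLocalRing A₀) (_ : IsNoetherianRing A₀) (φ : A₀ →+* A) (_ : IsLocalHom φ)
      (X₀ : Scheme.{u}) (f₀ : X₀ ⟶ Spec (CommRingCat.of A₀)) (g : X ⟶ X₀),
      LocallyOfFiniteType f₀ ∧ QuasiCompact f₀ ∧ IsPullback g f f₀ (Spec.map (CommRingCat.ofHom φ)) := by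
  classical
  let AC := CommRingCat.of A
  let D := Groth.Agent.ConsPropLib.NoethApprox.diagram AC
  let c := Groth.Agent.ConsPropLib.NoethApprox.cone AC
  have hc : IsLimit c := Groth.Agent.ConsPropLib.NoethApprox.isLimit AC
  haveI : ∀ i, IsAffine (D.obj i) := fun i => Groth.Agent.ConsPropLib.NoethApprox.isAffine_obj AC i
  haveI : ∀ {i j} (φ : i ⟶ j), IsAffineHom (D.map φ) := fun φ => isAffineHom_of_isAffine _
  haveI : ∀ (i j : (Finset AC)ᵒᵖ) (φ : i ⟶ j), IsAffineHom (D.map φ) := fun i j φ => isAffineHom_of_isAffine _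
  let f' : X ⟶ c.pt := f
  haveI : LocallyOfFinitePresentation f' := ‹LocallyOfFinitePresentation f›
  haveI : QuasiCompact f' := ‹QuasiCompact f›
  haveI : QuasiSeparated f' := ‹QuasiSeparated f›
  obtain ⟨i, X₁, u₁, g₁, hX₁⟩ := Groth.Agent.ConsPropLib.hasModel hc f'
  haveI := hX₁.lfp; haveI := hX₁.qc
  let R := Algebra.adjoin ℤ ((i.unop : Finset AC) : Set AC)
  let ρ : R →+* A := R.val.toRingHom
  haveI : Algebra.FiniteType ℤ R := Algebra.FiniteType.adjoin_of_finite (Finset.finite_toSet _)
  haveI : IsNoetherianRing R := Algebra.FiniteType.isNoetherianRing ℤ _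
  let p : Ideal R := (IsLocalRing.maximalIdeal A).comap ρ
  haveI : p.IsPrime := Ideal.IsPrime.comap ρ
  let Rp := Localization.AtPrime p
  haveI : IsNoetherianRing Rp := IsLocalization.isNoetherianRing p.primeCompl Rp inferInstance
  have hu : ∀ y : p.primeCompl, IsUnit (ρ y) := fun y => by
    by_contra hy
    exact y.2 ((IsLocalRing.mem_maximalIdeal _).2 hy)
  let ψ : Rp →+* A := IsLocalization.lift (M := p.primeCompl) (g := ρ) hu
  have hψ : ∀ r : R, ψ (algebraMap R Rp r) = ρ r := fun r => IsLocalization.lift_eq hu r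
  haveI : IsLocalHom ψ := by
    refine ((IsLocalRing.local_hom_TFAE ψ).out 0 2 rfl rfl).2 ?_
    rw [← Localization.AtPrime.map_eq_maximalIdeal, Ideal.map_map, IsLocalization.lift_comp]
    exact Ideal.map_comap_le
  obtain ⟨A₀, _, _, _, _, hA₀⟩ := Groth.Agent.S0506.result Rp
  haveI := hA₀.henselian
  haveI : IsNoetherianRing A₀ := (Groth.Agent.S0511.result Rp A₀).1 inferInstance
  obtain ⟨φ, hφ, -⟩ := hA₀.universal A ψ inferInstance
  haveI hφl : IsLocalHom φ := by
    refine ((IsLocalRing.local_hom_TFAE φ).out 0 2 rfl rfl).2 ?_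
    rw [← Groth.Agent.S0507.result Rp A₀, Ideal.map_map, hφ]
    exact ((IsLocalRing.local_hom_TFAE ψ).out 0 2 rfl rfl).1 inferInstance
  let b : Spec (CommRingCat.of A₀) ⟶ D.obj i :=
    Spec.map (CommRingCat.ofHom ((algebraMap Rp A₀).comp (algebraMap R Rp)))
  have hb : Spec.map (CommRingCat.ofHom φ) ≫ b = c.π.app i := by
    show _ ≫ Spec.map _ = Spec.map ((Groth.Agent.ConsPropLib.NoethApprox.cocone AC).ι.app i.unop)
    rw [← Spec.map_comp]
    refine congrArg Spec.map (CommRingCat.hom_ext (RingHom.ext fun r => ?_))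
    show φ (algebraMap Rp A₀ (algebraMap R Rp r)) = ρ r
    rw [← hψ, ← hφ]
    rfl
  have sq : IsPullback g₁ f u₁ (c.π.app i) := hX₁.sq
  let g : X ⟶ pullback u₁ b := pullback.lift g₁ (f ≫ Spec.map (CommRingCat.ofHom φ)) (by
    rw [Category.assoc, hb]; exact sq.w)
  refine ⟨A₀, inferInstance, hA₀.henselian, inferInstance, φ, hφl, pullback u₁ b, pullback.snd u₁ b, g,
    ?_, MorphismProperty.pullback_snd (P := @QuasiCompact) _ _ inferInstance, ?_⟩
  · haveI : LocallyOfFinitePresentation (pullback.snd u₁ b) :=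
      MorphismProperty.pullback_snd (P := @LocallyOfFinitePresentation) _ _ inferInstance
    infer_instance
  · refine IsPullback.of_right ?_ (pullback.lift_snd _ _ _) (IsPullback.of_hasPullback u₁ b)
    rw [pullback.lift_fst, hb]
    exact sq

end Groth.Agent.S5058
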