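import Groth.Statements.S5061
import Groth.Agent.GeomField.Algebra
import Mathlib
-- import your own Groth.Agent.* helpers here

set_option autoImplicit false
open scoped TensorProduct
universe u
open EGA418

namespace Groth.Agent.S5061

set_option linter.style.haveILetI false

theorem exists_map_perfect (p : ℕ) [Fact p.Prime] {k P : Type u} [Field k] [CharP k p] [Field P] [Algebra k P]
    [PerfectRing P p] (k' : Type u) [Field k'] [Algebra k k'] [IsPurelyInseparable k k'] :
    Nonempty (k' →ₐ[k] P) := by
  haveI : CharP P p := charP_of_injective_algebraMap (algebraMap k P).injective p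
  let Ω := AlgebraicClosure P
  haveI : CharP Ω p := charP_of_injective_algebraMap (algebraMap P Ω).injective p
  let g : k' →ₐ[k] Ω := IsAlgClosed.lift
  let f : P →ₐ[k] Ω := IsScalarTower.toAlgHom k P Ω
  haveI : ExpChar k p := ExpChar.prime Fact.out
  haveI : ExpChar Ω p := ExpChar.prime Fact.out
  have hmem : ∀ x, g x ∈ f.range := fun x => by
    obtain ⟨n, c, hc⟩ := IsPurelyInseparable.pow_mem k p x
    obtain ⟨z, hz⟩ := (iterateFrobeniusEquiv P p n).surjective (algebraMap k P c)
    rw [iterateFrobeniusEquiv_def] at hz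
    refine ⟨z, ?_⟩
    refine (iterateFrobenius Ω p n).injective ?_
    rw [iterateFrobenius_def, iterateFrobenius_def, ← map_pow g, ← hc, AlgHom.commutes]
    show f z ^ p ^ n = _
    rw [← map_pow f, hz, AlgHom.commutes]
  exact ⟨(AlgEquiv.ofInjectiveField f).symm.toAlgHom.comp (g.codRestrict f.range hmem)⟩

theorem fg_and_isReduced (p : ℕ) [Fact p.Prime] {k P K k' : Type u} [Field k] [Field P] [Field K] [Field k']
    [Algebra k P] [Algebra k K] [Algebra k k'] [Algebra k' P] [IsScalarTower k k' P]
    [Algebra.IsAlgebraic k' P] [Module.Finite k k']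
    [Algebra.IsGeometricallyReduced k' ((k' ⊗[k] K) ⧸ nilradical (k' ⊗[k] K))] :
    (nilradical (P ⊗[k'] (k' ⊗[k] K))).FG := by
  let R := k' ⊗[k] K
  let J := nilradical R
  haveI : IsArtinianRing R := by
    let e := (Algebra.TensorProduct.comm k k' K).toRingEquiv
    haveI : Module.Finite K (K ⊗[k] k') := Module.Finite.base_change k K k'
    haveI : IsArtinianRing (K ⊗[k] k') := IsArtinianRing.of_finite K (K ⊗[k] k')
    exact e.symm.isArtinianRing
  let π : R →ₐ[k'] R ⧸ J := Ideal.Quotient.mkₐ k' J
  let π' : P ⊗[k'] R →ₐ[k'] P ⊗[k'] (R ⧸ J) := Algebra.TensorProduct.map (AlgHom.id k' P) π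
  have hk : RingHom.ker π' = J.map (Algebra.TensorProduct.includeRight : R →ₐ[k'] P ⊗[k'] R) := by
    rw [Algebra.TensorProduct.lTensor_ker π (Ideal.Quotient.mkₐ_surjective k' J)]
    congr 1
    exact Ideal.mk_ker
  haveI : IsReduced (P ⊗[k'] (R ⧸ J)) :=
    haveI := Groth.Agent.GeomField.isReduced_tensor_field (k := k') (R ⧸ J) P
    isReduced_of_injective (Algebra.TensorProduct.comm k' P (R ⧸ J)) (Algebra.TensorProduct.comm k' P (R ⧸ J)).injective
  have hN : nilradical (P ⊗[k'] R) = RingHom.ker π' := by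
    refine le_antisymm (fun x hx => RingHom.mem_ker.2 ((mem_nilradical.1 hx).map π').eq_zero) ?_
    rw [hk, Ideal.map_le_iff_le_comap]
    exact fun x hx => mem_nilradical.2 ((mem_nilradical.1 hx).map _)
  rw [hN, hk]
  exact Ideal.FG.map (IsNoetherian.noetherian J) _

theorem gr_of_isReduced_perfect {k' P A : Type u} [Field k'] [Field P] [CommRing A] [Algebra k' P] [Algebra k' A]
    [PerfectField P] [Algebra.IsAlgebraic k' P] [IsReduced (P ⊗[k'] A)] : Algebra.IsGeometricallyReduced k' A := by
  rw [Algebra.isGeometricallyReduced_field_iff]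
  let g : P →ₐ[k'] AlgebraicClosure k' := IsAlgClosed.lift
  letI : Algebra P (AlgebraicClosure k') := g.toRingHom.toAlgebra
  haveI : IsScalarTower k' P (AlgebraicClosure k') := IsScalarTower.of_algebraMap_eq fun x => (g.commutes x).symm
  haveI : Algebra.IsAlgebraic P (AlgebraicClosure k') := Algebra.IsAlgebraic.tower_top (K := k') P
  exact Groth.Agent.GeomField.isReduced_tensor_of_separable_tower A P (AlgebraicClosure k')


theorem gr_of_generators {k P K k' : Type u} [Field k] [Field P] [Field K] [Field k']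
    [Algebra k P] [Algebra k K] [Algebra k k'] [Algebra k' P] [IsScalarTower k k' P] [PerfectField P]
    [Algebra.IsAlgebraic k' P] (s : Finset (P ⊗[k] K)) (hs : Submodule.span (P ⊗[k] K) (s : Set (P ⊗[k] K)) = nilradical (P ⊗[k] K))
    (hB : ∀ n ∈ s, n ∈ (Algebra.TensorProduct.map (IsScalarTower.toAlgHom k k' P) (AlgHom.id k K)).range) :
    Algebra.IsGeometricallyReduced k' ((k' ⊗[k] K) ⧸ nilradical (k' ⊗[k] K)) := by
  let e : P ⊗[k'] (k' ⊗[k] K) ≃ₐ[P] P ⊗[k] K := Algebra.TensorProduct.cancelBaseChange k k' P P K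
  have he : ∀ r : (k' ⊗[k] K), e (1 ⊗ₜ r) = Algebra.TensorProduct.map (IsScalarTower.toAlgHom k k' P) (AlgHom.id k K) r := fun r => by
    induction r with
    | zero => simp
    | tmul a b => simp [e, Algebra.smul_def]
    | add a b ha hb => rw [TensorProduct.tmul_add, map_add, map_add, ha, hb]
  have hinj : Function.Injective (Algebra.TensorProduct.map (IsScalarTower.toAlgHom k k' P) (AlgHom.id k K)) :=
    Module.Flat.rTensor_preserves_injective_linearMap (M := K) (IsScalarTower.toAlgHom k k' P).toLinearMap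
      (algebraMap k' P).injective
  let π : (k' ⊗[k] K) →ₐ[k'] (k' ⊗[k] K) ⧸ nilradical (k' ⊗[k] K) := Ideal.Quotient.mkₐ k' _
  let π' : P ⊗[k'] (k' ⊗[k] K) →ₐ[k'] P ⊗[k'] ((k' ⊗[k] K) ⧸ nilradical (k' ⊗[k] K)) := Algebra.TensorProduct.map (AlgHom.id k' P) π
  have hπ : Function.Surjective π' :=
    TensorProduct.map_surjective Function.surjective_id (Ideal.Quotient.mkₐ_surjective k' _)
  have hker : nilradical (P ⊗[k'] (k' ⊗[k] K)) ≤ RingHom.ker π' := by
    intro z hz
    have hz' : e z ∈ nilradical (P ⊗[k] K) := mem_nilradical.2 ((mem_nilradical.1 hz).map e)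
    rw [← hs] at hz'
    suffices Submodule.span (P ⊗[k] K) (s : Set (P ⊗[k] K)) ≤ (RingHom.ker π').comap (e.symm : P ⊗[k] K →+* P ⊗[k'] (k' ⊗[k] K)) by
      have h2 := this hz'
      rw [Ideal.mem_comap, RingHom.coe_coe, AlgEquiv.symm_apply_apply] at h2
      exact h2
    refine Submodule.span_le.2 fun n hn => ?_
    obtain ⟨r, rfl⟩ := hB n hn
    show π' (e.symm (Algebra.TensorProduct.map (IsScalarTower.toAlgHom k k' P) (AlgHom.id k K) r)) = 0
    rw [← he, AlgEquiv.symm_apply_apply]
    have hr : r ∈ nilradical (k' ⊗[k] K) := mem_nilradical.2 ((IsNilpotent.map_iff hinj).1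
      (mem_nilradical.1 (hs ▸ Submodule.subset_span hn)))
    show (1 : P) ⊗ₜ[k'] π r = 0
    rw [show π r = 0 from Ideal.Quotient.eq_zero_iff_mem.2 hr, TensorProduct.tmul_zero]
  haveI : IsReduced (P ⊗[k'] ((k' ⊗[k] K) ⧸ nilradical (k' ⊗[k] K))) := ⟨fun x ⟨n, hn⟩ => by
    obtain ⟨z, rfl⟩ := hπ x
    have hk : RingHom.ker π' ≤ nilradical (P ⊗[k'] (k' ⊗[k] K)) := by
      rw [Algebra.TensorProduct.lTensor_ker π (Ideal.Quotient.mkₐ_surjective k' _), Ideal.map_le_iff_le_comap]
      exact fun y hy => mem_nilradical.2 ((mem_nilradical.1 ((Ideal.mk_ker (I := nilradical (k' ⊗[k] K))).le hy)).map _)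
    rw [← map_pow] at hn
    obtain ⟨m, hm⟩ := mem_nilradical.1 (hk hn)
    exact hker (mem_nilradical.2 ⟨n * m, by rw [pow_mul, hm]⟩)⟩
  exact gr_of_isReduced_perfect (P := P)

/-- a) iff c): let k be a field of characteristic p > 0, P a perfect closure of k (a perfect field
purely inseparable over k) and K an extension field of k. Then the ring K ⊗_k P is Artinian if and
only if there exists a finite purely inseparable extension k' of k such that (k' ⊗_k K) modulo its
nilradical is geometrically reduced over k'. -/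
theorem result (p : ℕ) [Fact p.Prime]
    (k K : Type u) [Field k] [CharP k p] [Field K] [Algebra k K]
    (P : Type u) [Field P] [Algebra k P] [PerfectRing P p] [IsPRadical (algebraMap k P) p] :
    IsArtinianRing (K ⊗[k] P) ↔
      ∃ (k' : Type u) (_ : Field k') (_ : Algebra k k'), Module.Finite k k' ∧ IsPurelyInseparable k k' ∧
        Algebra.IsGeometricallyReduced k' ((k' ⊗[k] K) ⧸ nilradical (k' ⊗[k] K)) := by
  haveI : ExpChar k p := ExpChar.prime Fact.out
  haveI : CharP P p := charP_of_injective_algebraMap (algebraMap k P).injective p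
  haveI : PerfectField P := PerfectRing.toPerfectField P p
  haveI : IsPurelyInseparable k P := IsPRadical.isPurelyInseparable k P p
  let c : P ⊗[k] K ≃+* K ⊗[k] P := (Algebra.TensorProduct.comm k P K).toRingEquiv
  constructor
  · intro hT
    haveI : IsArtinianRing (P ⊗[k] K) := c.symm.isArtinianRing
    obtain ⟨s, hs⟩ := IsNoetherian.noetherian (nilradical (P ⊗[k] K))
    obtain ⟨B, hB⟩ : ∃ B : Finset P, ∀ n ∈ s, n ∈ (Algebra.TensorProduct.map
        (IntermediateField.adjoin k (B : Set P)).val (AlgHom.id k K)).range := by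
      classical
      have hone : ∀ z : P ⊗[k] K, ∃ B : Finset P, z ∈ (Algebra.TensorProduct.map
          (IntermediateField.adjoin k (B : Set P)).val (AlgHom.id k K)).range := by
        have hmono : ∀ B B' : Finset P, B ⊆ B' → (Algebra.TensorProduct.map
            (IntermediateField.adjoin k (B : Set P)).val (AlgHom.id k K)).range ≤ (Algebra.TensorProduct.map
            (IntermediateField.adjoin k (B' : Set P)).val (AlgHom.id k K)).range := by
          rintro B B' h _ ⟨y, rfl⟩
          refine ⟨Algebra.TensorProduct.map (IntermediateField.inclusion (IntermediateField.adjoin.mono k _ _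
            (Finset.coe_subset.2 h))) (AlgHom.id k K) y, ?_⟩
          induction y with
          | zero => simp
          | tmul a b => rfl
          | add a b ha hb => simp only [map_add, ha, hb]
        intro z
        induction z with
        | zero => exact ⟨∅, zero_mem _⟩
        | tmul a b => exact ⟨{a}, ⟨(⟨a, IntermediateField.subset_adjoin k _ (by simp)⟩ : IntermediateField.adjoin k (({a} : Finset P) : Set P)) ⊗ₜ b, rfl⟩⟩
        | add x y hx hy =>
          obtain ⟨B, hB⟩ := hx
          obtain ⟨B', hB'⟩ := hy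
          exact ⟨B ∪ B', add_mem (hmono _ _ Finset.subset_union_left hB) (hmono _ _ Finset.subset_union_right hB')⟩
      choose B hB using hone
      refine ⟨s.biUnion B, fun n hn => ?_⟩
      obtain ⟨y, hy⟩ := hB n
      refine ⟨Algebra.TensorProduct.map (IntermediateField.inclusion (IntermediateField.adjoin.mono k _ _
        (Finset.coe_subset.2 (Finset.subset_biUnion_of_mem B hn)))) (AlgHom.id k K) y, ?_⟩
      refine (?_ : _ = _).trans hy
      clear hy
      induction y with
      | zero => simp
      | tmul a b => rfl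
      | add a b ha hb => simp only [map_add, ha, hb]
    let k' := IntermediateField.adjoin k (B : Set P)
    haveI : Module.Finite k k' := IntermediateField.finiteDimensional_adjoin fun x _ => Algebra.IsIntegral.isIntegral x
    haveI hk' : IsPurelyInseparable k k' := IsPurelyInseparable.tower_bot (K := P) (F := k) (E := k')
    refine ⟨k', inferInstance, inferInstance, inferInstance, hk', ?_⟩
    haveI : Algebra.IsAlgebraic k' P := Algebra.IsAlgebraic.tower_top (K := k) k'
    exact gr_of_generators s hs hB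
  · rintro ⟨k', _, _, _, _, hgr⟩
    obtain ⟨f⟩ := exists_map_perfect p (k := k) (P := P) k'
    letI : Algebra k' P := f.toRingHom.toAlgebra
    haveI : IsScalarTower k k' P := IsScalarTower.of_algebraMap_eq fun x => (f.commutes x).symm
    haveI : Algebra.IsAlgebraic k' P := Algebra.IsAlgebraic.tower_top (K := k) k'
    have hfg := fg_and_isReduced p (k := k) (P := P) (K := K) (k' := k')
    let e : P ⊗[k'] (k' ⊗[k] K) ≃+* K ⊗[k] P :=
      (Algebra.TensorProduct.cancelBaseChange k k' P P K).toRingEquiv.trans c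
    haveI hsub : Subsingleton (PrimeSpectrum (K ⊗[k] P)) :=
      (PrimeSpectrum.isHomeomorph_comap_of_isPurelyInseparable k P K).injective.subsingleton
    haveI : Subsingleton (PrimeSpectrum (P ⊗[k'] (k' ⊗[k] K))) :=
      (PrimeSpectrum.homeomorphOfRingEquiv e).injective.subsingleton
    have hprime : ∀ Q : Ideal (P ⊗[k'] (k' ⊗[k] K)), Q.IsPrime → Q = nilradical _ := fun Q hQ => by
      rw [nilradical_eq_sInf]
      refine le_antisymm (le_sInf fun Q' hQ' => ?_) (sInf_le hQ)
      exact (congrArg PrimeSpectrum.asIdeal (Subsingleton.elim (⟨Q, hQ⟩ : PrimeSpectrum _) ⟨Q', hQ'⟩)).le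
    haveI : IsNoetherianRing (P ⊗[k'] (k' ⊗[k] K)) := IsNoetherianRing.of_prime fun Q hQ => hprime Q hQ ▸ hfg
    haveI : Ring.KrullDimLE 0 (P ⊗[k'] (k' ⊗[k] K)) := Ring.krullDimLE_zero_iff.2 fun Q hQ => by
      obtain ⟨M, hM, hle⟩ := Ideal.exists_le_maximal Q hQ.ne_top
      rwa [(hprime Q hQ).trans (hprime M hM.isPrime).symm]
    haveI := IsNoetherianRing.isArtinianRing_of_krullDimLE_zero (R := P ⊗[k'] (k' ⊗[k] K))
    exact e.isArtinianRing

end Groth.Agent.S5061
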