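import Groth.Statements.S5068
import Groth.Agent.AvramovLib.Two
import Groth.Agent.CILib.Basic
import Groth.Agent.Triage.SliceFlat
import Groth.Agent.Synt29.ArtinLift
-- import your own Groth.Agent.* helpers here

set_option autoImplicit false
universe u
open CInt

namespace Groth.Agent.S5068

open RingTheory.Sequence IsLocalRing TensorProduct Groth.Agent

set_option backward.isDefEq.respectTransparency false

/-- A transversally regular sequence stays weakly regular on the closed fibre. -/
theorem weaklyRegular_fibRing {A C : Type u} [CommRing A] [IsLocalRing A] [CommRing C] [Algebra A C] (rs : List C)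
    (h : RegImm.IsTransRegularSeq A C rs) :
    IsWeaklyRegular (EGA4.FibRing A C) (rs.map (algebraMap C (EGA4.FibRing A C))) := by
  let κ := A ⧸ maximalIdeal A
  letI : Algebra κ (C ⊗[A] κ) := Algebra.TensorProduct.rightAlgebra
  haveI : Algebra.IsPushout A κ C (C ⊗[A] κ) := Algebra.IsPushout.symm inferInstance
  have h1 := Triage.SliceFlat.isWeaklyRegular_baseChange (O := A) κ (T' := C ⊗[A] κ) rs h.1 fun i => by
    by_cases hi : i ≤ rs.length
    · exact h.2 i hi
    · have h2 := h.2 rs.length le_rfl
      rw [List.take_length] at h2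
      rw [List.take_of_length_le (le_of_not_ge hi)]
      exact h2
  rw [isWeaklyRegular_map_algebraMap_iff] at h1 ⊢
  exact ((Algebra.TensorProduct.quotIdealMapEquivTensorQuot C (maximalIdeal A)).toLinearEquiv.isWeaklyRegular_congr rs).2 h1

/-- Suppose A and C are Noetherian local rings joined by a flat local homomorphism A → C whose closed
fibre C/m_A C is a regular local ring, and consider a local ring B obtained as a quotient of C by an
ideal J (encoded as a surjective C-algebra B, with J taken to be the kernel). The ideal J admits a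
generating sequence that is transversally regular relative to A (each term a non-zero-divisor modulo
the previous ones, and every partial quotient C/(f_1, …, f_j) A-flat) exactly when two things hold:
B is A-flat, and B/m_A B is a complete intersection (meaning its completion is a regular local ring
divided by a regular sequence). -/
theorem result (A C B : Type u) [CommRing A] [IsLocalRing A]
    [IsNoetherianRing A] [CommRing C] [IsLocalRing C] [IsNoetherianRing C] [Algebra A C] [IsLocalHom (algebraMap A C)]
    [Module.Flat A C] (hreg : IsRegularLocalRing (EGA4.FibRing A C))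
    [CommRing B] [IsLocalRing B] [Algebra C B] [Algebra A B] [IsScalarTower A C B] [IsLocalHom (algebraMap A B)]
    (hsurj : Function.Surjective (algebraMap C B)) :
    (∃ rs : List C, Ideal.ofList rs = RingHom.ker (algebraMap C B) ∧ RegImm.IsTransRegularSeq A C rs) ↔
      (Module.Flat A B ∧ Pi1.IsCompleteIntersection (EGA4.FibRing A B)) := by
  haveI := hreg
  haveI : IsNoetherianRing B := isNoetherianRing_of_surjective C B (algebraMap C B) hsurj
  let J : Ideal C := RingHom.ker (algebraMap C B)
  have hJm : J ≤ maximalIdeal C := le_maximalIdeal (RingHom.ker_ne_top _)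
  let q := algebraMap C (EGA4.FibRing A C)
  have hle : EGA4.mB A C ≤ (EGA4.mB A B).comap (algebraMap C B) := by
    refine Ideal.map_le_iff_le_comap.2 fun a ha => ?_
    rw [Ideal.mem_comap, Ideal.mem_comap, ← IsScalarTower.algebraMap_apply]
    exact Ideal.mem_map_of_mem _ ha
  let π : EGA4.FibRing A C →+* EGA4.FibRing A B := Ideal.quotientMap _ (algebraMap C B) hle
  have hπ : Function.Surjective π := Ideal.quotientMap_surjective hsurj
  have hmap : (EGA4.mB A C).map (algebraMap C B) = EGA4.mB A B :=
    (Ideal.map_map _ _).trans (congrArg (Ideal.map · _) (IsScalarTower.algebraMap_eq A C B).symm)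
  have hker : RingHom.ker π = J.map q := by
    refine le_antisymm (fun z hz => ?_) (Ideal.map_le_iff_le_comap.2 fun c hc => ?_)
    · obtain ⟨c, rfl⟩ := Ideal.Quotient.mk_surjective z
      have hc : algebraMap C B c ∈ EGA4.mB A B := Ideal.Quotient.eq_zero_iff_mem.1 hz
      rw [← hmap, Ideal.mem_map_iff_of_surjective _ hsurj] at hc
      obtain ⟨m, hm, hmc⟩ := hc
      have : Ideal.Quotient.mk (EGA4.mB A C) (c - m) = Ideal.Quotient.mk (EGA4.mB A C) c := by
        rw [map_sub, Ideal.Quotient.eq_zero_iff_mem.2 hm, sub_zero]
      rw [← this]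
      exact Ideal.mem_map_of_mem q (show c - m ∈ RingHom.ker (algebraMap C B) by
        rw [RingHom.mem_ker, map_sub, hmc, sub_self])
    · show Ideal.Quotient.mk (EGA4.mB A B) (algebraMap C B c) = 0
      rw [show algebraMap C B c = 0 from hc, map_zero]
  haveI : IsLocalRing (EGA4.FibRing A B) := inferInstance
  constructor
  · rintro ⟨rs, hrs, ht⟩
    refine ⟨?_, (CILib.isCI_iff_regular π hπ).2 ⟨rs.map q, ⟨weaklyRegular_fibRing rs ht, ?_⟩, ?_⟩⟩
    · haveI := ht.2 rs.length le_rfl
      rw [List.take_length, hrs] at this
      haveI := this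
      let e : (C ⧸ J) ≃ₗ[A] B := (Ideal.quotientKerAlgEquivOfSurjective
        (f := IsScalarTower.toAlgHom A C B) hsurj).toLinearEquiv
      exact Module.Flat.of_linearEquiv e.symm
    · rw [← Ideal.map_ofList, hrs, smul_eq_mul, Ideal.mul_top, ← hker]
      exact (RingHom.ker_ne_top π).symm
    · rw [hker, ← Ideal.map_ofList, hrs]
  · rintro ⟨hBflat, hci⟩
    obtain ⟨xs, hxs, hxk⟩ := (CILib.isCI_iff_regular π hπ).1 hci
    have hlift : ∃ ys : List C, (∀ y ∈ ys, y ∈ J) ∧ ys.map q = xs := by
      have hmem : ∀ x ∈ xs, x ∈ J.map q := fun x hx => by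
        rw [← hker, hxk]
        exact Ideal.subset_span hx
      clear hxs hxk
      induction xs with
      | nil => exact ⟨[], by simp, rfl⟩
      | cons x xs ih =>
        obtain ⟨y, hy, rfl⟩ := (Ideal.mem_map_iff_of_surjective q Ideal.Quotient.mk_surjective).1
          (hmem x List.mem_cons_self)
        obtain ⟨ys, hys, rfl⟩ := ih (fun a ha => hmem a (List.mem_cons_of_mem _ ha))
        exact ⟨y :: ys, fun a ha => (List.mem_cons.1 ha).elim (fun h => h ▸ hy) (hys a), rfl⟩
    obtain ⟨ys, hys, rfl⟩ := hlift
    have hle' : Ideal.ofList ys ≤ J := Ideal.span_le.2 fun y hy => hys y hy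
    have hw : IsWeaklyRegular (EGA4.FibRing A C) ys :=
      (isWeaklyRegular_map_algebraMap_iff (EGA4.FibRing A C) (EGA4.FibRing A C) ys).1 hxs.1
    have hmN : FlatLoc6.mN A C C = EGA4.mB A C := by
      show EGA4.mB A C • (⊤ : Submodule C C) = _
      rw [Ideal.smul_eq_mul, Ideal.mul_top]
    have hall : ∀ zs : List C, IsWeaklyRegular (EGA4.FibRing A C) zs →
        IsWeaklyRegular C zs ∧ Module.Flat A (C ⧸ Ideal.ofList zs) := by
      intro zs hzs
      obtain ⟨h1, h2⟩ := AvramovLib.regular_of_fibre (A := A) (B := C) zs C
        (((Submodule.quotEquivOfEq _ _ hmN).isWeaklyRegular_congr zs).2 hzs)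
      exact ⟨h1, Module.Flat.of_linearEquiv ((Submodule.quotEquivOfEq (Ideal.ofList zs)
        (Ideal.ofList zs • ⊤) (by rw [smul_eq_mul, Ideal.mul_top])).restrictScalars A)⟩
    refine ⟨ys, le_antisymm hle' ?_, (hall ys hw).1, fun j _ => (hall _ ?_).2⟩
    · haveI : Module.Flat A (C ⧸ J) := Module.Flat.of_linearEquiv
        (Ideal.quotientKerAlgEquivOfSurjective (f := IsScalarTower.toAlgHom A C B) hsurj).toLinearEquiv
      have h1 : J ≤ Ideal.ofList ys ⊔ maximalIdeal C * J := by
        intro c hc
        have h2 : q c ∈ (Ideal.ofList ys).map q := by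
          rw [Ideal.map_ofList, ← hxk, hker]
          exact Ideal.mem_map_of_mem _ hc
        obtain ⟨d, hd, hdc⟩ := (Ideal.mem_map_iff_of_surjective q Ideal.Quotient.mk_surjective).1 h2
        have h3 : c - d ∈ EGA4.mB A C := Ideal.Quotient.eq.1 hdc.symm
        rw [show c = d + (c - d) by ring]
        refine Submodule.add_mem_sup hd (Ideal.mul_mono_left (map_maximalIdeal_le (algebraMap A C)) ?_)
        exact Synt29.ArtinLift.inf_le_mul (maximalIdeal A) J ⟨h3, J.sub_mem hc (hle' hd)⟩
      exact Submodule.le_of_le_smul_of_le_jacobson_bot J.fg_of_isNoetherianRing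
        (maximalIdeal_le_jacobson ⊥) (by rw [smul_eq_mul]; exact h1)
    · have h := hw
      rw [← List.take_append_drop j ys, isWeaklyRegular_append_iff] at h
      exact h.1

end Groth.Agent.S5068
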