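import Groth.Statements.S5070
import Groth.Agent.S2892
import Groth.Agent.H4NFRank.Local
import Groth.Agent.QCoh.Stalk
import Groth.Agent.QCoh.Support

set_option backward.isDefEq.respectTransparency false
set_option backward.isDefEq.respectTransparency.types false
-- import your own Groth.Agent.* helpers here

set_option autoImplicit false
open CategoryTheory AlgebraicGeometry
universe u
open CInt

namespace Groth.Agent.S5070

open AlgebraicGeometry CategoryTheory TopologicalSpace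

theorem ker_stalkMap_eq {X : Scheme.{u}} (𝓘 : X.IdealSheafData) (d : ↥𝓘.subscheme) (U : X.affineOpens)
    (hdU : 𝓘.subschemeι d ∈ U.1) :
    RingHom.ker (𝓘.subschemeι.stalkMap d).hom =
      (𝓘.ideal U).map (X.presheaf.germ U.1 (𝓘.subschemeι d) hdU).hom := by
  let p := (U.2.primeIdealOf ⟨𝓘.subschemeι d, hdU⟩).asIdeal
  let _ := X.presheaf.algebra_section_stalk (⟨𝓘.subschemeι d, hdU⟩ : U.1)
  have : IsLocalization.AtPrime (X.presheaf.stalk (𝓘.subschemeι d)) p :=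
    U.2.isLocalization_stalk ⟨𝓘.subschemeι d, hdU⟩
  have key : ∀ b : Γ(X, U.1), 𝓘.subschemeι.stalkMap d (X.presheaf.germ U.1 _ hdU b) =
      𝓘.subscheme.presheaf.germ (𝓘.subschemeι ⁻¹ᵁ U.1) d hdU (𝓘.subschemeι.app U.1 b) := fun b =>
    Scheme.Hom.germ_stalkMap_apply 𝓘.subschemeι U.1 d hdU b
  have hker : ∀ b, b ∈ 𝓘.ideal U ↔ 𝓘.subschemeι.app U.1 b = 0 := fun b => by
    rw [← 𝓘.ker_subschemeι_app U]; rfl
  refine le_antisymm (fun s hs => ?_) ?_
  · obtain ⟨⟨b, c⟩, hbc⟩ := IsLocalization.surj p.primeCompl s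
    have hb : 𝓘.subscheme.presheaf.germ (𝓘.subschemeι ⁻¹ᵁ U.1) d hdU (𝓘.subschemeι.app U.1 b) = 0 := by
      rw [← key]
      show (𝓘.subschemeι.stalkMap d).hom (algebraMap Γ(X, U.1) _ b) = 0
      rw [← hbc, map_mul, RingHom.mem_ker.1 hs, zero_mul]
    have hV : IsAffineOpen (𝓘.subschemeι ⁻¹ᵁ U.1) := U.2.preimage _
    let q := (hV.primeIdealOf ⟨d, hdU⟩).asIdeal
    let _ := 𝓘.subscheme.presheaf.algebra_section_stalk (⟨d, hdU⟩ : (𝓘.subschemeι ⁻¹ᵁ U.1 : 𝓘.subscheme.Opens))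
    have : IsLocalization.AtPrime (𝓘.subscheme.presheaf.stalk d) q := hV.isLocalization_stalk ⟨d, hdU⟩
    obtain ⟨⟨c', hc'⟩, h0⟩ := (IsLocalization.map_eq_zero_iff q.primeCompl (𝓘.subscheme.presheaf.stalk d)
      (𝓘.subschemeι.app U.1 b)).1 hb
    obtain ⟨e, rfl⟩ := 𝓘.subschemeι_app_surjective U c'
    have he : IsUnit (algebraMap Γ(X, U.1) (X.presheaf.stalk (𝓘.subschemeι d)) e) := by
      refine isUnit_of_map_unit (𝓘.subschemeι.stalkMap d).hom _ ?_
      show IsUnit (𝓘.subschemeι.stalkMap d (X.presheaf.germ U.1 _ hdU e))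
      rw [key]
      exact IsLocalization.map_units (𝓘.subscheme.presheaf.stalk d) (⟨_, hc'⟩ : q.primeCompl)
    have hmem : e * b ∈ 𝓘.ideal U := (hker _).2 (by rw [map_mul]; exact h0)
    have h1 := Ideal.mem_map_of_mem (algebraMap Γ(X, U.1) (X.presheaf.stalk (𝓘.subschemeι d))) hmem
    rw [map_mul, ← hbc, Ideal.unit_mul_mem_iff_mem _ he,
      Ideal.mul_unit_mem_iff_mem _ (IsLocalization.map_units _ c)] at h1
    exact h1
  · refine Ideal.map_le_iff_le_comap.2 fun b hb => ?_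
    show 𝓘.subschemeι.stalkMap d (X.presheaf.germ U.1 _ hdU b) = 0
    rw [key, (hker b).1 hb, map_zero]

/-- The numbers of generators of the pieces of the stalks. -/
noncomputable def Rk {X : Scheme.{u}} (𝓘 : X.IdealSheafData) (F : X.Modules) (n : ℕ) (y : ↥𝓘.subscheme) : ℕ :=
  H4HilbNF.muPc (RingHom.ker (𝓘.subschemeι.stalkMap y).hom) ↑(F.presheaf.stalk (𝓘.subschemeι y)) n

theorem isLocallyConstant_Rk {X : Scheme.{u}} [IsLocallyNoetherian X] (𝓘 : X.IdealSheafData)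
    (F : X.Modules) (hF : Coh.IsCoh F)
    (hnf : ∀ y : ↥𝓘.subscheme, EGA4.IsNormallyFlat (RingHom.ker (𝓘.subschemeι.stalkMap y).hom) ↑(F.presheaf.stalk (𝓘.subschemeι y)))
    (n : ℕ) : IsLocallyConstant (Rk 𝓘 F n) := by
  rw [IsLocallyConstant.iff_exists_open]
  intro y₀
  obtain ⟨_, ⟨U', hU, rfl⟩, hy₀, -⟩ :=
    X.isBasis_affineOpens.exists_subset_of_mem_open (Set.mem_univ (𝓘.subschemeι y₀)) isOpen_univ
  let U : X.affineOpens := ⟨U', hU⟩
  haveI : IsNoetherianRing Γ(X, U.1) := IsLocallyNoetherian.component_noetherian U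
  haveI : Module.Finite Γ(X, U.1) Γ(F, U.1) := QCoh.finite_sections hF U.2
  let I := 𝓘.ideal U
  let V := 𝓘.subschemeι ⁻¹ᵁ U.1
  let P := NFlat6.Pc I Γ(F, U.1) n
  have hmem : ∀ (y : ↥𝓘.subscheme) (hy : 𝓘.subschemeι y ∈ U.1),
      I ≤ (U.2.primeIdealOf ⟨𝓘.subschemeι y, hy⟩).asIdeal := by
    intro y hy
    let _ := X.presheaf.algebra_section_stalk (⟨𝓘.subschemeι y, hy⟩ : U.1)
    have : IsLocalization.AtPrime (X.presheaf.stalk (𝓘.subschemeι y)) (U.2.primeIdealOf ⟨_, hy⟩).asIdeal :=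
      U.2.isLocalization_stalk ⟨𝓘.subschemeι y, hy⟩
    intro a ha
    by_contra hna
    have h1 : algebraMap Γ(X, U.1) (X.presheaf.stalk (𝓘.subschemeι y)) a ∈
        RingHom.ker (𝓘.subschemeι.stalkMap y).hom :=
      (ker_stalkMap_eq 𝓘 y U hy).ge (Ideal.mem_map_of_mem _ ha)
    have h2 := IsLocalization.map_units (X.presheaf.stalk (𝓘.subschemeι y))
      (⟨a, hna⟩ : (U.2.primeIdealOf ⟨_, hy⟩).asIdeal.primeCompl)
    exact RingHom.ker_ne_top (𝓘.subschemeι.stalkMap y).hom (Ideal.eq_top_of_isUnit_mem _ h1 h2)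
  have hloc : ∀ (y : ↥𝓘.subscheme) (hy : 𝓘.subschemeι y ∈ U.1) (Q : Ideal (Γ(X, U.1) ⧸ I)) [Q.IsPrime],
      Q.comap (Ideal.Quotient.mk I) = (U.2.primeIdealOf ⟨𝓘.subschemeι y, hy⟩).asIdeal →
      Module.Flat (Γ(X, U.1) ⧸ I) (LocalizedModule Q.primeCompl P) ∧
        (Module.Flat (Γ(X, U.1) ⧸ I) P →
          Rk 𝓘 F n y = Module.rankAtStalk (R := Γ(X, U.1) ⧸ I) P ⟨Q, inferInstance⟩) := by
    intro y hy Q _ hQ
    letI := QCoh.stalkAlg (X := X) hy
    letI := QCoh.stalkModule F hy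
    haveI := QCoh.isScalarTower_stalk F hy
    haveI := QCoh.isLocalization_stalk' U.2 hy
    haveI := QCoh.isLocalizedModule_germLin hF.1 U.2 hy
    haveI : Module.Finite (X.presheaf.stalk (𝓘.subschemeι y)) (F.presheaf.stalk (𝓘.subschemeι y)) :=
      QCoh.finite_stalk_of_isFT hF.1 hF.2 _
    have hk : RingHom.ker (𝓘.subschemeι.stalkMap y).hom =
        I.map (algebraMap Γ(X, U.1) (X.presheaf.stalk (𝓘.subschemeι y))) := ker_stalkMap_eq 𝓘 y U hy
    have h := H4NFRank.piece_local I Γ(F, U.1) Q (U.2.primeIdealOf ⟨𝓘.subschemeι y, hy⟩).asIdeal hQ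
      (X.presheaf.stalk (𝓘.subschemeι y)) (F.presheaf.stalk (𝓘.subschemeι y)) (QCoh.germLin F hy)
      (hk ▸ hnf y) n
    refine ⟨h.1, fun hfl => ?_⟩
    rw [← h.2 hfl, Rk, hk]
  have hflat : Module.Flat (Γ(X, U.1) ⧸ I) P := by
    refine H4NFRank.flat_piece I Γ(F, U.1) n fun Q _ => ?_
    obtain ⟨x, hx, hxq⟩ := QCoh.exists_point U.2 ⟨Q.comap (Ideal.Quotient.mk I), inferInstance⟩
    have hxI : x ∈ Set.range 𝓘.subschemeι := by
      rw [Scheme.IdealSheafData.range_subschemeι, SetLike.mem_coe,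
        Scheme.IdealSheafData.mem_support_iff_of_mem hx, Scheme.mem_zeroLocus_iff]
      intro a ha hax
      refine (QCoh.mem_basicOpen_iff_notMem U.2 hx a).1 hax ?_
      rw [hxq]
      show Ideal.Quotient.mk I a ∈ Q
      rw [Ideal.Quotient.eq_zero_iff_mem.2 ha]
      exact zero_mem _
    obtain ⟨y, rfl⟩ := hxI
    exact (hloc y hx Q (by rw [hxq])).1
  haveI := hflat
  haveI : Module.Finite Γ(X, U.1) ↥(NFlat6.Pw I Γ(F, U.1) n) := Module.Finite.iff_fg.2 (IsNoetherian.noetherian _)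
  haveI : Module.Finite (Γ(X, U.1) ⧸ I) P := Module.Finite.of_restrictScalars_finite Γ(X, U.1) _ _
  haveI : Module.FinitePresentation (Γ(X, U.1) ⧸ I) P := Module.finitePresentation_of_finite _ _
  let π := Ideal.Quotient.mk I
  have hπ : Function.Surjective π := Ideal.Quotient.mk_surjective
  let q : ↥V → PrimeSpectrum (Γ(X, U.1) ⧸ I) := fun z =>
    ⟨(U.2.primeIdealOf ⟨𝓘.subschemeι z.1, z.2⟩).asIdeal.map π,
      Ideal.map_isPrime_of_surjective hπ (by rw [Ideal.mk_ker]; exact hmem z.1 z.2)⟩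
  have hq : ∀ z : ↥V, PrimeSpectrum.comap π (q z) = U.2.primeIdealOf ⟨𝓘.subschemeι z.1, z.2⟩ := by
    intro z
    refine PrimeSpectrum.ext ?_
    show ((U.2.primeIdealOf ⟨𝓘.subschemeι z.1, z.2⟩).asIdeal.map π).comap π = _
    rw [Ideal.comap_map_of_surjective _ hπ, ← RingHom.ker_eq_comap_bot, Ideal.mk_ker, sup_eq_left]
    exact hmem z.1 z.2
  have hqc : Continuous q := by
    rw [(PrimeSpectrum.isClosedEmbedding_comap_of_surjective _ π hπ).isInducing.continuous_iff]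
    rw [U.2.fromSpec.isOpenEmbedding.isInducing.continuous_iff]
    have : (U.2.fromSpec ∘ (PrimeSpectrum.comap π ∘ q)) = fun z : ↥V => 𝓘.subschemeι z.1 := by
      funext z
      rw [Function.comp_apply, Function.comp_apply, hq z, U.2.fromSpec_primeIdealOf]
    rw [this]
    exact 𝓘.subschemeι.continuous.comp continuous_subtype_val
  have hc : IsLocallyConstant fun z : ↥V => Module.rankAtStalk (R := Γ(X, U.1) ⧸ I) P (q z) :=
    (Module.isLocallyConstant_rankAtStalk (R := Γ(X, U.1) ⧸ I) (M := P)).comp_continuous hqc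
  have hRk : ∀ z : ↥V, Rk 𝓘 F n z.1 = Module.rankAtStalk (R := Γ(X, U.1) ⧸ I) P (q z) := fun z =>
    @hloc z.1 z.2 (q z).asIdeal (q z).isPrime (congrArg PrimeSpectrum.asIdeal (hq z)) |>.2 hflat
  obtain ⟨O, hO, hy, hOc⟩ := hc.exists_open ⟨y₀, hy₀⟩
  refine ⟨Subtype.val '' O, V.2.isOpenMap_subtype_val _ hO, ⟨_, hy, rfl⟩, ?_⟩
  rintro _ ⟨z, hz, rfl⟩
  rw [hRk z, hRk ⟨y₀, hy₀⟩]
  exact hOc z hz

/-- Let X be a locally Noetherian scheme, Y the closed subscheme defined by an ideal sheaf, assumed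
regular and connected, and F a coherent O_X-module which is normally flat along Y (at every point y
of Y, every I_y^h F_y / I_y^(h+1) F_y is flat over O_{Y,y}). Then there is a single sequence of
natural numbers R such that for every y in Y, if n is the dimension of O_{Y,y}, then for all h the
length of m^h F_y / m^(h+1) F_y over the residue field (m the maximal ideal of O_{X,y}) equals the
sum over r ≤ h of C(r+n-1, r) R(h-r): the Poincaré series of gr_m(F_y) is R(T)(1-T)^(-n). -/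
theorem result {X : Scheme.{u}} [IsLocallyNoetherian X]
    (𝓘 : X.IdealSheafData) [ConnectedSpace ↥𝓘.subscheme]
    (hreg : ∀ y : ↥𝓘.subscheme, IsRegularLocalRing ↑(𝓘.subscheme.presheaf.stalk y))
    (F : X.Modules) (hF : Coh.IsCoh F)
    (hnf : ∀ y : ↥𝓘.subscheme, EGA4.IsNormallyFlat (RingHom.ker (𝓘.subschemeι.stalkMap y).hom) ↑(F.presheaf.stalk (𝓘.subschemeι y))) :
    ∃ R : ℕ → ℕ, ∀ (y : ↥𝓘.subscheme) (n : ℕ), ringKrullDim ↑(𝓘.subscheme.presheaf.stalk y) = n →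
      ∀ h : ℕ, Module.finrank (↑(X.presheaf.stalk (𝓘.subschemeι y)) ⧸ IsLocalRing.maximalIdeal ↑(X.presheaf.stalk (𝓘.subschemeι y)))
          (↥(IsLocalRing.maximalIdeal ↑(X.presheaf.stalk (𝓘.subschemeι y)) ^ h • (⊤ : Submodule ↑(X.presheaf.stalk (𝓘.subschemeι y)) ↑(F.presheaf.stalk (𝓘.subschemeι y)))) ⧸
            (IsLocalRing.maximalIdeal ↑(X.presheaf.stalk (𝓘.subschemeι y)) • (⊤ : Submodule ↑(X.presheaf.stalk (𝓘.subschemeι y)) ↥(IsLocalRing.maximalIdeal ↑(X.presheaf.stalk (𝓘.subschemeι y)) ^ h • (⊤ : Submodule ↑(X.presheaf.stalk (𝓘.subschemeι y)) ↑(F.presheaf.stalk (𝓘.subschemeι y))))))) =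
        ∑ r ∈ Finset.range (h + 1), Nat.choose (r + n - 1) r * R (h - r) := by
  obtain ⟨y₀⟩ : Nonempty ↥𝓘.subscheme := inferInstance
  refine ⟨fun n => Rk 𝓘 F n y₀, fun y n hn h => ?_⟩
  let K := RingHom.ker (𝓘.subschemeι.stalkMap y).hom
  haveI : IsNoetherianRing ↑(X.presheaf.stalk (𝓘.subschemeι y)) := inferInstance
  haveI : Module.Finite (X.presheaf.stalk (𝓘.subschemeι y)) (F.presheaf.stalk (𝓘.subschemeι y)) :=
    QCoh.finite_stalk_of_isFT hF.1 hF.2 _
  let e : (↑(X.presheaf.stalk (𝓘.subschemeι y)) ⧸ K) ≃+* ↑(𝓘.subscheme.presheaf.stalk y) :=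
    RingHom.quotientKerEquivOfSurjective (𝓘.subschemeι.stalkMap_surjective y)
  haveI := hreg y
  haveI : IsRegularLocalRing (↑(X.presheaf.stalk (𝓘.subschemeι y)) ⧸ K) := IsRegularLocalRing.of_ringEquiv e.symm
  rw [(S2892.result _ K n ((ringKrullDim_eq_of_ringEquiv e).trans hn) _).1 (hnf y) h]
  refine Finset.sum_congr rfl fun r _ => congrArg _ ?_
  beta_reduce
  rw [← (isLocallyConstant_Rk 𝓘 F hF hnf (h - r)).apply_eq_of_preconnectedSpace y y₀]
  exact (H4HilbNF.mu_eq_finrank _).symm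

end Groth.Agent.S5070
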