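import Groth.Statements.S5074
import Groth.Agent.CplKaehler4.Upper
-- import your own Groth.Agent.* helpers here

set_option autoImplicit false
universe u
open EGA418

namespace Groth.Agent.S5074

/-- Let k be a field of characteristic exponent p such that k is finite over k^p (the Frobenius
endomorphism of k is a finite ring map), A a complete Noetherian local k-algebra whose residue field
is a finite extension of k, and P a prime ideal of A such that A_P is geometrically regular over k.
Then for every minimal prime q of A contained in P (there is exactly one), the A_P-module obtained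
by localising at P the completion of the module of differentials of A over k is free of rank equal
to dim(A/q). -/
theorem result (p : ℕ) (k A : Type u) [Field k] [ExpChar k p]
    (hk : (frobenius k p).Finite) [CommRing A] [IsLocalRing A] [IsNoetherianRing A] [Algebra k A]
    [IsAdicComplete (IsLocalRing.maximalIdeal A) A] [Module.Finite k (IsLocalRing.ResidueField A)]
    (P : Ideal A) [P.IsPrime] (hP : CAlg.IsGeometricallyRegular k (Localization.AtPrime P))
    (q : Ideal A) (hq : q ∈ minimalPrimes A) (hqP : q ≤ P) (n : ℕ) (hn : ringKrullDim (A ⧸ q) = n) :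
    Module.Free (Localization.AtPrime P) (LocalizedModule P.primeCompl (AdicCompletion (IsLocalRing.maximalIdeal A) (KaehlerDifferential k A))) ∧
      Module.finrank (Localization.AtPrime P) (LocalizedModule P.primeCompl (AdicCompletion (IsLocalRing.maximalIdeal A) (KaehlerDifferential k A))) = n := by
  classical
  haveI := hq.1.1
  haveI := Groth.Agent.CplKaehler4.finite_completion k A
  haveI := Groth.Agent.FlatLoc6.isRegularRing_of_geometricallyRegular hP
  haveI : IsRegularLocalRing (Localization.AtPrime P) := IsRegularLocalRing.of_isRegularRing_of_isLocalRing _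
  haveI : IsDomain (Localization.AtPrime P) := Groth.Agent.RegLoc6.isDomain_of_isRegularLocalRing _
  obtain ⟨h, g, hh, hgP, hg⟩ := Groth.Agent.CplKaehler4.exists_generators_at P
  obtain ⟨d, ψ, hd, hψm, hψi, hψf⟩ := Groth.Agent.CplKaehler4.exists_ps_lift (k := k) P
  -- only one minimal prime lies below `P`
  have huniq : ∀ Q : Ideal A, Q.IsPrime → Q ≤ P → q ≤ Q := fun Q hQ hQP => by
    have key : ∀ R : Ideal A, R.IsPrime → R ≤ P → (⊥ : Ideal (Localization.AtPrime P)).comap (algebraMap A (Localization.AtPrime P)) ≤ R :=
      fun R hR hRP x hx => by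
        obtain ⟨c, hc⟩ := (IsLocalization.map_eq_zero_iff P.primeCompl (Localization.AtPrime P) x).1 ((Ideal.mem_bot).1 hx)
        exact (hR.mem_or_mem (hc ▸ R.zero_mem : (c : A) * x ∈ R)).resolve_left fun h => c.2 (hRP h)
    exact (hq.2 ⟨Ideal.comap_isPrime _ _, bot_le⟩ (key q inferInstance hqP)).trans (key Q hQ hQP)
  have hht : P.height ≤ (P.map (Ideal.Quotient.mk q)).height := by
    haveI : (P.map (Ideal.Quotient.mk q)).IsPrime :=
      Ideal.map_isPrime_of_surjective Ideal.Quotient.mk_surjective (by rwa [Ideal.mk_ker])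
    change (⟨P, inferInstance⟩ : PrimeSpectrum A).asIdeal.height ≤ (⟨P.map (Ideal.Quotient.mk q), inferInstance⟩ : PrimeSpectrum (A ⧸ q)).asIdeal.height
    rw [PrimeSpectrum.height_eq_orderHeight, PrimeSpectrum.height_eq_orderHeight]
    refine Order.height_le fun s hs => ?_
    have hmem : ∀ i, q ≤ (s i).asIdeal := fun i => huniq _ (s i).2 (by
      have : s i ≤ s.last := s.monotone (Fin.le_last i)
      rw [hs] at this
      exact this)
    let f : Fin (s.length + 1) → PrimeSpectrum (A ⧸ q) := fun i =>
      ⟨(s i).asIdeal.map (Ideal.Quotient.mk q),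
        Ideal.map_isPrime_of_surjective Ideal.Quotient.mk_surjective (by rw [Ideal.mk_ker]; exact hmem i)⟩
    have hcm : ∀ i, ((f i).asIdeal).comap (Ideal.Quotient.mk q) = (s i).asIdeal := fun i => by
      show ((s i).asIdeal.map (Ideal.Quotient.mk q)).comap (Ideal.Quotient.mk q) = _
      rw [Ideal.comap_map_of_surjective' _ Ideal.Quotient.mk_surjective, Ideal.mk_ker, sup_eq_left]
      exact hmem i
    let s' : LTSeries (PrimeSpectrum (A ⧸ q)) := LTSeries.mk s.length f fun i j hij => by
      refine lt_of_le_of_ne (Ideal.map_mono (s.strictMono hij).le) fun h => (s.strictMono hij).ne (PrimeSpectrum.ext ?_)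
      have h' := congrArg (fun x : PrimeSpectrum (A ⧸ q) => x.asIdeal.comap (Ideal.Quotient.mk q)) h
      simpa only [hcm] using h'
    refine le_trans (le_of_eq (by rfl)) (Order.length_le_height (p := s') ?_)
    show (s.last).asIdeal.map (Ideal.Quotient.mk q) ≤ _
    rw [hs]
  have hle : h + d ≤ n := by
    have e := Groth.Agent.LC.dim_quot_eq_add_height q P hqP
    rw [hn, hd] at e
    rw [IsLocalization.AtPrime.ringKrullDim_eq_height P] at hh
    have h1 : (P.height : WithBot ℕ∞) ≤ ((P.map (Ideal.Quotient.mk q)).height : WithBot ℕ∞) := WithBot.coe_le_coe.2 hht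
    rw [hh] at h1
    have h2 : ((d : WithBot ℕ∞) + h) ≤ n := by rw [e]; gcongr
    have h3 : d + h ≤ n := by exact_mod_cast h2
    omega
  have hfib : Module.finrank P.ResidueField (TensorProduct A P.ResidueField
      (AdicCompletion (IsLocalRing.maximalIdeal A) (KaehlerDifferential k A))) ≤ n := by
    refine le_trans ?_ hle
    rcases ‹ExpChar k p› with _ | hp
    · exact Groth.Agent.CplKaehler4.finrank_fibre_le_charZero g hgP hg ψ hψm hψi hψf
    · haveI := Fact.mk hp
      exact Groth.Agent.CplKaehler4.finrank_fibre_le_charP g hgP hg ψ hψi hψf p hk hP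
  obtain ⟨s, hs⟩ := Groth.Agent.CplKaehler4.exists_genAt P (M := AdicCompletion (IsLocalRing.maximalIdeal A) (KaehlerDifferential k A))
  refine Groth.Agent.CplKaehler4.free_of_genAt P q hq hqP hn
    (fun i : Fin n => if h' : (i : ℕ) < _ then s ⟨i, h'⟩ else 0) fun y => ?_
  obtain ⟨c, hc, hy⟩ := hs y
  refine ⟨c, hc, (Submodule.span_mono ?_) hy⟩
  rintro _ ⟨i, rfl⟩
  exact ⟨⟨i, lt_of_lt_of_le i.2 hfib⟩, dif_pos i.2⟩

end Groth.Agent.S5074
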