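import Groth.Statements.S5082
import Groth.Agent.MeroX.DivSupp
import Groth.Agent.Alg6.LocLoc
import Groth.Agent.MeroX.Basic

set_option autoImplicit false
universe u
open CategoryTheory CategoryTheory.Limits AlgebraicGeometry TopologicalSpace
open Mero

namespace Groth.Agent.S5082

/-- Let A be a Noetherian local ring. Then the group of divisors of Spec A is trivial (every divisor
equals the unit divisor, divisors being written multiplicatively) if and only if A has depth 0, that
is, if and only if every element of the maximal ideal of A is a zero-divisor. -/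
theorem result (A : Type u) [CommRing A] [IsNoetherianRing A] [IsLocalRing A] :
    (∀ D : Mero.Divisor (Spec (CommRingCat.of A)), D = 1) ↔ LocCoh.depth A A = 0 := by
  haveI : IsLocallyNoetherian (Spec (CommRingCat.of A)) := inferInstance
  let x : Spec (CommRingCat.of A) := IsLocalRing.closedPoint A
  let σ := (stalkClosedPointIso (CommRingCat.of A)).commRingCatIsoToRingEquiv
  have hdepth : LocCoh.depth ((Spec (CommRingCat.of A)).presheaf.stalk x)
      ((Spec (CommRingCat.of A)).presheaf.stalk x) = LocCoh.depth A A :=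
    Groth.Agent.Alg6.depth_eq_of_semilinear σ.toRingHom σ.surjective σ.toAddEquiv fun r m => map_mul σ r m
  constructor
  · intro h
    by_contra hd
    have hnot : IsLocalRing.maximalIdeal A ∉ associatedPrimes A A :=
      Groth.Agent.Alg6.one_le_depth_iff.1 (Order.one_le_iff_ne_zero.2 hd)
    obtain ⟨g, hgm, hg⟩ := (Groth.Agent.Alg6.exists_isSMulRegular_mem_iff (M := A)
      (IsLocalRing.maximalIdeal A)).2 fun P hP hle => hnot ((IsLocalRing.maximalIdeal.isMaximal A).eq_of_le
        (hP : IsAssociatedPrime P A).1.ne_top hle ▸ hP)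
    let X := Spec (CommRingCat.of A)
    let t : Γ(X, ⊤) := (Scheme.ΓSpecIso (CommRingCat.of A)).inv g
    have ht : t ∈ Mero.regSub X ⊤ := by
      rw [Groth.Agent.MeroX.regSub_eq_nonZeroDivisors (isAffineOpen_top _)]
      refine mem_nonZeroDivisors_iff_right.2 fun z hz => ?_
      let e := (Scheme.ΓSpecIso (CommRingCat.of A)).commRingCatIsoToRingEquiv
      refine e.injective (hg ?_)
      show g * e z = g * e 0
      have := congrArg e hz
      rw [map_mul, map_zero, show e t = g from e.apply_symm_apply g] at this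
      rw [map_zero, mul_zero, mul_comm, this]
    let f : Γ(Mero.kmod X, ⊤) := Mero.toK X ⊤ t
    let fi : Γ(Mero.kmod X, ⊤) := ⟨fun y => LocalizedModule.mk 1 (Mero.regGerm y ⟨t, ht⟩),
      fun y => ⟨⊤, trivial, 𝟙 _, 1, ⟨t, ht⟩, fun z => by
        show LocalizedModule.mk (1 : X.presheaf.stalk z.1) _ = _
        rw [map_one]
        rfl⟩⟩
    have hfi : f * fi = 1 := Subtype.ext (funext fun y => by
      show (LocalizedModule.mk (X.presheaf.germ ⊤ y.1 y.2 t) 1 : Mero.KStalk X y.1) *
        LocalizedModule.mk 1 (Mero.regGerm y ⟨t, ht⟩) = 1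
      rw [Groth.Agent.MeroX.mk_one_eq_algebraMap, ← Algebra.smul_def, LocalizedModule.smul'_mk, smul_eq_mul,
        mul_one]
      exact Mero.mk_self_eq_one (Mero.regGerm y ⟨t, ht⟩))
    let u : (Γ(Mero.kmod X, ⊤))ˣ := ⟨f, fi, hfi, (mul_comm _ _).trans hfi⟩
    have h1 : (Mero.div u).1 x = 1 := by rw [h (Mero.div u)]; rfl
    obtain ⟨v, hv, he⟩ := (Groth.Agent.MeroX.germ_eq_one_iff u ⟨x, trivial⟩).1 h1
    have e2 : v = X.presheaf.germ ⊤ x trivial t :=
      IsLocalization.injective (Mero.KStalk X x) (Mero.regStalk_le_nonZeroDivisors x) he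
    have hu2 := (e2 ▸ hv).map σ
    have e3 : σ (X.presheaf.germ ⊤ x trivial t) = g :=
      (congr($(germ_stalkClosedPointIso_hom (CommRingCat.of A)) t)).trans
        ((Scheme.ΓSpecIso (CommRingCat.of A)).commRingCatIsoToRingEquiv.apply_symm_apply g)
    rw [e3] at hu2
    exact hgm hu2
  · intro h D
    obtain ⟨W, hxW, hW⟩ := Groth.Agent.MeroX.exists_nhd_eq_one D
      (Groth.Agent.MeroX.eq_one_of_depth_zero D (hdepth.trans h) : D.1 x = 1)
    refine Subtype.ext (funext fun y => hW y ?_)
    exact (IsLocalRing.specializes_closedPoint y).mem_open W.2 hxW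

end Groth.Agent.S5082
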