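import Groth.Statements.S5084
import Groth.Agent.AssPtX.Noeth
import Groth.Agent.QCoh.Sections

set_option autoImplicit false
universe u
open CategoryTheory CategoryTheory.Limits AlgebraicGeometry TopologicalSpace
open Mero

namespace Groth.Agent.S5084

/-- Let X be a locally Noetherian scheme and F a quasi-coherent O_X-module. Then F is torsion-free — the
canonical map from F to its sheaf of meromorphic sections K_X(F), m ↦ m/1, is a monomorphism, i.e.
at every point no germ of a regular function kills a nonzero element of the stalk of F — if and only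
if every associated point of F is an associated point of the structure sheaf (a point x such that
the maximal ideal of O_{X,x} is an associated prime of O_{X,x}). -/
theorem result (X : Scheme.{u}) [IsLocallyNoetherian X]
    (F : X.Modules) (hF : Coh.IsQCoh F) :
    Mono (Mero.toMer F) ↔
      ∀ x : ↥X, Curv2.IsAssPoint F x →
        IsAssociatedPrime (IsLocalRing.maximalIdeal ↑(X.presheaf.stalk x)) ↑(X.presheaf.stalk x) := by
  constructor
  · intro hmono x hx
    by_contra hnot
    -- a non-zero-divisor in the maximal ideal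
    have hsub : ¬ ((IsLocalRing.maximalIdeal (X.presheaf.stalk x) : Set (X.presheaf.stalk x)) ⊆
        ⋃ P ∈ associatedPrimes (X.presheaf.stalk x) (X.presheaf.stalk x), (P : Set (X.presheaf.stalk x))) := by
      intro hsub
      obtain ⟨P, hP, hle⟩ := (Ideal.subset_union_prime_finite (associatedPrimes.finite _ _) 0 0
        fun P hP _ _ => (hP : IsAssociatedPrime _ _).1).1 hsub
      have e := (IsLocalRing.maximalIdeal.isMaximal _).eq_of_le (hP : IsAssociatedPrime _ _).1.ne_top hle
      exact hnot (e ▸ hP)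
    obtain ⟨c, hcm, hc⟩ := Set.not_subset.1 hsub
    rw [biUnion_associatedPrimes_eq_compl_nonZeroDivisors, Set.mem_compl_iff, not_not] at hc
    rw [SetLike.mem_coe, ← Groth.Agent.AssPtX.regStalk_eq x] at hc
    obtain ⟨V, hxV, t, ht, htc⟩ := hc
    obtain ⟨n, hn⟩ := Groth.Agent.AssPtX.isAssPoint_iff.1 hx
    have hn0 : n ≠ 0 := fun h0 => by
      have h1 : (1 : X.presheaf.stalk x) ∈ Ideal.radical
          (LinearMap.ker (LinearMap.toSpanSingleton (X.presheaf.stalk x) (F.presheaf.stalk x) n)) := by
        refine Ideal.le_radical ?_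
        rw [LinearMap.mem_ker, LinearMap.toSpanSingleton_apply, h0, smul_zero]
      rw [hn] at h1
      exact (IsLocalRing.maximalIdeal.isMaximal _).ne_top ((Ideal.eq_top_iff_one _).2 h1)
    obtain ⟨k, hk⟩ := (hn.symm ▸ hcm : c ∈ Ideal.radical
      (LinearMap.ker (LinearMap.toSpanSingleton (X.presheaf.stalk x) (F.presheaf.stalk x) n)))
    rw [LinearMap.mem_ker, LinearMap.toSpanSingleton_apply] at hk
    obtain ⟨U, hxU, s, rfl⟩ := F.presheaf.exists_germ_eq (x := x) n
    let r : Γ(X, U ⊓ V) := X.presheaf.map (homOfLE (inf_le_right : U ⊓ V ≤ V)).op t ^ k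
    let s' : Γ(F, U ⊓ V) := F.presheaf.map (homOfLE (inf_le_left : U ⊓ V ≤ U)).op s
    have h0 : F.presheaf.germ (U ⊓ V) x ⟨hxU, hxV⟩ (r • s') = F.presheaf.germ (U ⊓ V) x ⟨hxU, hxV⟩ 0 := by
      rw [Mero.germ_smul, map_pow, X.presheaf.germ_res_apply, F.presheaf.germ_res_apply, htc, hk, map_zero]
    obtain ⟨W, hxW, i, j, hW⟩ := F.presheaf.germ_eq x _ _ _ _ h0
    rw [map_zero] at hW
    refine hn0 ?_
    rw [← F.presheaf.germ_res_apply (homOfLE (inf_le_left : U ⊓ V ≤ U)) x ⟨hxU, hxV⟩ s]
    show F.presheaf.germ (U ⊓ V) x ⟨hxU, hxV⟩ s' = 0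
    rw [← F.presheaf.germ_res_apply i x hxW s']
    have hz : F.presheaf.map i.op s' = 0 := by
      refine Groth.Agent.QCoh.app_injective (Mero.toMer F) W ?_
      rw [map_zero]
      refine Subtype.ext (funext fun y => ?_)
      show LocalizedModule.mk (F.presheaf.germ W y.1 y.2 (F.presheaf.map i.op s')) 1 = 0
      have hreg : X.presheaf.map i.op r ∈ Mero.regSub X W :=
        Mero.regSub_res i (pow_mem (Mero.regSub_res _ ht) k)
      rw [← LocalizedModule.zero_mk (1 : Mero.regStalk X y.1)]
      refine LocalizedModule.mk_eq.2 ⟨Mero.regGerm y ⟨_, hreg⟩, ?_⟩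
      have h1 := congrArg (F.presheaf.germ W y.1 y.2) hW
      rw [Scheme.Modules.map_smul, Mero.germ_smul, map_zero] at h1
      simp only [smul_zero, one_smul]
      exact h1
    rw [hz, map_zero]
  · intro h
    refine Groth.Agent.QCoh.mono_of_app_injective _ fun U => ?_
    refine (injective_iff_map_eq_zero ((Mero.toMer F).app U).hom).2 fun m hm => ?_
    refine Groth.Agent.AssPtX.eq_zero_of_germ hF m fun y hy hya => ?_
    have hm' : LocalizedModule.mk (F.presheaf.germ U y hy m) (1 : Mero.regStalk X y) = 0 :=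
      congrFun (congrArg Subtype.val hm) ⟨y, hy⟩
    obtain ⟨c, hc⟩ := LocalizedModule.mk_eq.1 (hm'.trans (LocalizedModule.zero_mk 1).symm)
    simp only [smul_zero, one_smul] at hc
    have hu : IsUnit (c : X.presheaf.stalk y) := by
      by_contra hu
      have hass := h y (Groth.Agent.AssPtX.isAssPoint_iff.2 hya)
      have h1 : (c : X.presheaf.stalk y) ∈ ⋃ P ∈ associatedPrimes (X.presheaf.stalk y) (X.presheaf.stalk y),
          (P : Set (X.presheaf.stalk y)) :=
        Set.mem_iUnion₂.2 ⟨_, hass, hu⟩
      rw [biUnion_associatedPrimes_eq_compl_nonZeroDivisors] at h1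
      exact h1 (Mero.regStalk_le_nonZeroDivisors y c.2)
    exact hu.smul_eq_zero.1 hc

end Groth.Agent.S5084
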