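import Groth.Statements.S5088
import Groth.Agent.DivX.RegMeroExist

set_option autoImplicit false
universe u
open CategoryTheory CategoryTheory.Limits AlgebraicGeometry TopologicalSpace
open Mero

namespace Groth.Agent.S5088

/-- Case a): let X be a locally Noetherian scheme such that the set of associated points of O_X (the
points x such that the maximal ideal of O_{X,x} is an associated prime of O_{X,x}) is contained in
an affine open subset of X. Then every invertible O_X-module is isomorphic to O_X(D) for some
divisor D on X; in other words the canonical homomorphism Div(X) → Pic(X) is surjective and Pic(X)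
is the group of divisors modulo linear equivalence. -/
theorem result (X : Scheme.{u}) [IsLocallyNoetherian X]
    (hX : ∃ W : X.Opens, IsAffineOpen W ∧ ∀ x : ↥X,
      IsAssociatedPrime (IsLocalRing.maximalIdeal ↑(X.presheaf.stalk x)) ↑(X.presheaf.stalk x) → x ∈ W)
    (L : X.Modules) (hL : PicF.IsInvertible L) :
    ∃ D : Mero.Divisor X, Nonempty (L ≅ Mero.divMod D) := by
  obtain ⟨W, hW, hWA⟩ := hX
  refine Groth.Agent.DivX.exists_iso_divMod hL (Groth.Agent.DivX.hasRegularMero_of_affine hL hW fun y hy => hWA y ?_)
  open Groth.Agent in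
  obtain ⟨V, hV, hyV, -⟩ := exists_isAffineOpen_mem_and_subset (x := y) (U := ⊤) trivial
  open Groth.Agent in
  letI := QCoh.stalkAlg (X := X) hyV
  open Groth.Agent in
  haveI := QCoh.isLocalization_stalk' hV hyV
  haveI : IsLocalizedModule (hV.primeIdealOf ⟨y, hyV⟩).asIdeal.primeCompl
      (Algebra.linearMap Γ(X, V) (X.presheaf.stalk y)) := inferInstance
  open Groth.Agent in
  have h1 := WeakAss.mem_weakAss_iff_map (hV.primeIdealOf ⟨y, hyV⟩).asIdeal.primeCompl
    (R' := X.presheaf.stalk y) (Algebra.linearMap Γ(X, V) (X.presheaf.stalk y))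
    (p := (hV.primeIdealOf ⟨y, hyV⟩).asIdeal) (Set.disjoint_left.2 fun _ h h' => h h')
  rw [IsLocalization.AtPrime.map_eq_maximalIdeal] at h1
  open Groth.Agent in
  rw [AssPtX.isWeakAssPoint_iff_sections QCoh.isQCoh_structureModule hV hyV] at hy
  open Groth.Agent in
  obtain ⟨m, hm⟩ := WeakAss.mem_weakAss_iff.1 (h1.1 hy)
  open Groth.Agent in
  exact ⟨inferInstance, m, by rw [AssPtX.colon_bot_singleton]; exact ((AssPtX.radical_eq_maximalIdeal_iff _).2 hm).symm⟩

end Groth.Agent.S5088
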