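import Groth.Statements.S5089
import Groth.Agent.DivX.RegMeroExist

set_option autoImplicit false
universe u
open CategoryTheory CategoryTheory.Limits AlgebraicGeometry TopologicalSpace
open Mero

namespace Groth.Agent.S5089

/-- Case b): let X be a reduced scheme whose set of irreducible components is locally finite (every
point has an open neighbourhood meeting only finitely many irreducible components). Then every
invertible O_X-module is isomorphic to O_X(D) for some divisor D on X; in other words the canonical
homomorphism Div(X) → Pic(X) is surjective. -/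
theorem result (X : Scheme.{u}) [IsReduced X]
    (hX : ∀ x : ↥X, ∃ W : X.Opens, x ∈ W ∧
      {Z : Set ↥X | Z ∈ irreducibleComponents ↥X ∧ (Z ∩ (W : Set ↥X)).Nonempty}.Finite)
    (L : X.Modules) (hL : PicF.IsInvertible L) :
    ∃ D : Mero.Divisor X, Nonempty (L ≅ Mero.divMod D) := by
  refine Groth.Agent.DivX.exists_iso_divMod hL (Groth.Agent.DivX.hasRegularMero_of_maximal hL (fun y z hy _ h =>
    (Groth.Agent.AssPtX.isWeakAssPoint_structureModule_iff Groth.Agent.QCoh.isQCoh_structureModule y).1 hy z h)
    fun x => ?_)
  obtain ⟨W, hxW, hfin⟩ := hX x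
  refine ⟨W, hxW, Set.Finite.of_finite_image (f := fun y => closure ({y} : Set X)) (hfin.subset ?_)
    fun a _ b _ hab => IsGenericPoint.eq (S := closure {a}) rfl (Eq.symm hab)⟩
  rintro T ⟨y, ⟨hy, hya⟩, rfl⟩
  refine ⟨⟨isIrreducible_singleton.closure, fun T hT hsub => ?_⟩, y, subset_closure rfl, hy⟩
  have hgp := hT.isGenericPoint_genericPoint_closure
  rw [(Groth.Agent.AssPtX.isWeakAssPoint_structureModule_iff Groth.Agent.QCoh.isQCoh_structureModule y).1 hya _
    (hgp.specializes (subset_closure (hsub (subset_closure rfl))))] at hgp
  exact subset_closure.trans_eq hgp.def.symm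

end Groth.Agent.S5089
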