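import Groth.Statements.S5100
import Groth.Agent.Div21Lib.Uniform

set_option linter.style.haveILetI false
set_option backward.isDefEq.respectTransparency false
set_option backward.isDefEq.respectTransparency.types false


set_option autoImplicit false
universe u
open CategoryTheory CategoryTheory.Limits AlgebraicGeometry TopologicalSpace
open Div21

attribute [-instance] CategoryTheory.catToReflQuiver

namespace Groth.Agent.S5100

/-- Suppose X and Y are locally Noetherian schemes, and consider a morphism f : X → Y that is flat and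
surjective (i.e. faithfully flat) and is either quasi-compact or open. Assume Y is normal, and that
whenever y ∈ Y has a local ring of dimension 1, the fibre X_y has no embedded associated point (if
one associated point of X_y specializes to another, the two coincide). Given an effective Cartier
divisor D' on X, described by its ideal sheaf 𝓙, D' arises as the inverse image of some effective
Cartier divisor on Y exactly when both of the following hold: (1) at each maximal point η of Y,
pulling D' back to the fibre X_η gives zero (the resulting ideal is the unit ideal); and (2) at each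
y ∈ Y with one-dimensional local ring (a discrete valuation ring, because Y is normal) one can find
an integer n ≥ 0 so that, for any uniformizer t of O_{Y,y} and any maximal point x of f⁻¹(y), the
ideal of D' in O_{X,x} (namely the inverse image of 𝓙 on Spec O_{X,x}) is generated by the image of
t raised to the n-th power. -/
theorem result {X Y : Scheme.{u}}
    [IsLocallyNoetherian X] [IsLocallyNoetherian Y] (f : X ⟶ Y) [Flat f] [Surjective f]
    (hf : QuasiCompact f ∨ IsOpenMap f) (hY : Pi1.IsNormalScheme Y)
    (hfib : ∀ y : ↥Y, ringKrullDim ↑(Y.presheaf.stalk y) = 1 → ∀ z z' : ↥(f.fiber y),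
      IsAssociatedPrime (IsLocalRing.maximalIdeal ↑((f.fiber y).presheaf.stalk z)) ↑((f.fiber y).presheaf.stalk z) →
      IsAssociatedPrime (IsLocalRing.maximalIdeal ↑((f.fiber y).presheaf.stalk z')) ↑((f.fiber y).presheaf.stalk z') →
      z' ⤳ z → z' = z)
    (𝓙 : X.IdealSheafData) (hJ : BlowUp.IsEffCartierIdeal 𝓙) :
    (∃ 𝓘 : Y.IdealSheafData, BlowUp.IsEffCartierIdeal 𝓘 ∧ 𝓘.comap f = 𝓙) ↔
      ((∀ η : ↥Y, (∀ z : ↥Y, z ⤳ η → z = η) → 𝓙.comap (f.fiberι η) = ⊤) ∧
        ∀ y : ↥Y, ringKrullDim ↑(Y.presheaf.stalk y) = 1 → ∃ n : ℕ, ∀ t : ↑(Y.presheaf.stalk y),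
          IsLocalRing.maximalIdeal ↑(Y.presheaf.stalk y) = Ideal.span {t} →
          ∀ (x : ↥X) (hx : f x = y), (∀ z : ↥X, f z = y → z ⤳ x → z = x) →
            (𝓙.comap (X.fromSpecStalk x)).ideal ⟨⊤, isAffineOpen_top _⟩ =
              Ideal.span {(Scheme.ΓSpecIso (X.presheaf.stalk x)).inv
                (((f.stalkMap x).hom ((Y.presheaf.stalkCongr (.of_eq hx.symm)).hom t)) ^ n)}) := by
  have e : ∀ (x : ↥X) (y : ↥Y) (hx : f x = y) (t : ↑(Y.presheaf.stalk y)),
      (f.stalkMap x).hom ((Y.presheaf.stalkCongr (.of_eq hx.symm)).hom t) =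
        Div21Lib.gm f (specializes_of_eq hx) t := fun x y hx t => by
    subst hx
    rw [Div21Lib.gm_refl, TopCat.Presheaf.stalkCongr_hom, TopCat.Presheaf.stalkSpecializes_refl]
    rfl
  refine ⟨fun ⟨K, hK, he⟩ => ⟨fun η hη => Div21Lib.comap_fiberι_eq_top f 𝓙 hY hK he η hη, fun y hy => ?_⟩,
    fun ⟨h0, h1⟩ => ?_⟩
  · obtain ⟨n, hn⟩ := Div21Lib.order_of_descended f 𝓙 hY hK he y hy
    refine ⟨n, fun t ht x hx _ => ?_⟩
    rw [Div21Lib.comap_fromSpecStalk_ideal, hn t ht x hx, Ideal.map_span, Set.image_singleton, e x y hx t]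
  · have hall := Div21Lib.desc_all f 𝓙 hJ fun y hy => by
      rcases Div21Lib.dim_le_one_of_depth hY y hy with hd | hd
      · exact Div21Lib.desc_dim_zero f 𝓙 h0 y hd
      · obtain ⟨n, hn⟩ := h1 y hd
        refine Div21Lib.desc_dim_one_of_order f 𝓙 hY hJ h0 y hd (hfib y hd) n fun t ht x hx hmax => ?_
        have h2 := congrArg (Ideal.comap (Scheme.ΓSpecIso (X.presheaf.stalk x)).inv.hom) (hn t ht x hx hmax)
        have hb := ConcreteCategory.bijective_of_isIso (Scheme.ΓSpecIso (X.presheaf.stalk x)).inv
        rw [Div21Lib.comap_fromSpecStalk_ideal, Ideal.comap_map_of_bijective _ hb] at h2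
        refine h2.trans (Eq.trans ?_ (Ideal.comap_map_of_bijective _ hb))
        rw [Ideal.map_span, Set.image_singleton, e x y hx t]
    choose I hI using hall
    exact Div21Lib.exists_descended f 𝓙 I hI hf
end Groth.Agent.S5100
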