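import Groth.Statements.S5104
import Groth.Agent.H23.SpreadFP
import Mathlib.AlgebraicGeometry.Noetherian
import Mathlib.AlgebraicGeometry.Morphisms.Separated

set_option linter.style.haveILetI false
open CategoryTheory.Limits

set_option autoImplicit false
universe u
open CategoryTheory CategoryTheory.Limits AlgebraicGeometry TopologicalSpace
open Rat20

namespace Groth.Agent.S5104
open TopologicalSpace

variable {X Y S : Scheme.{u}}

/-- In a locally Noetherian space or a space with locally finitely many components, `x` has a neighbourhood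
on which a set open in `U`, containing all generalizations of `x` in `U`, is dense (or everything). -/
theorem exists_nhd_noeth [IsLocallyNoetherian X] (x : X) (U A : X.Opens)
    (hA : ∀ p : X, p ∈ U → p ⤳ x → p ∈ A) : ∃ V : X.Opens, x ∈ V ∧ U ⊓ V ≤ A := by
  obtain ⟨W, hW, hxW, -⟩ := exists_isAffineOpen_mem_and_subset (x := x) (U := ⊤) trivial
  haveI : IsNoetherianRing Γ(X, W) := IsLocallyNoetherian.component_noetherian ⟨W, hW⟩
  haveI : NoetherianSpace W := noetherianSpace_of_isAffineOpen W hW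
  let K : Set W := {p | p.1 ∈ U ∧ p.1 ∉ A}
  obtain ⟨T, hTf, hTc, hTi, hT⟩ := NoetherianSpace.exists_finite_set_isClosed_irreducible (isClosed_closure (s := K))
  have hxK : (⟨x, hxW⟩ : W) ∉ closure K := by
    intro hx
    have h1 : closure K ⊆ ⋃ C ∈ T, closure (K ∩ C) := by
      rw [← hTf.closure_biUnion]
      refine closure_mono fun p hp => ?_
      obtain ⟨C, hC, hpC⟩ := (hT ▸ subset_closure hp : p ∈ ⋃₀ T)
      exact Set.mem_biUnion hC ⟨hp, hpC⟩
    obtain ⟨C, hC, hxC⟩ := Set.mem_iUnion₂.1 (h1 hx)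
    obtain ⟨p, hpK, hpC⟩ := closure_nonempty_iff.1 ⟨_, hxC⟩
    have hxC' : (⟨x, hxW⟩ : W) ∈ C := (hTc C hC).closure_subset_iff.2 Set.inter_subset_right hxC
    let g : W := (hTi C hC).genericPoint
    have hg : IsGenericPoint g C := by
      have h0 := (hTi C hC).isGenericPoint_genericPoint_closure
      rw [(hTc C hC).closure_eq] at h0
      exact h0
    have hgx : g.1 ⤳ x := (hg.specializes hxC').map continuous_subtype_val
    have hgU : g.1 ∈ U := ((hg.specializes hpC).map continuous_subtype_val).mem_open U.isOpen hpK.1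
    have hgA : g.1 ∉ A := by
      have h2 : closure K ⊆ {p : W | p.1 ∈ A}ᶜ :=
        closure_minimal (fun p hp => hp.2) (A.isOpen.preimage continuous_subtype_val).isClosed_compl
      exact h2 (hT ▸ ⟨C, hC, hg.mem⟩)
    exact hgA (hA _ hgU hgx)
  let V : X.Opens := ⟨Subtype.val '' (closure K)ᶜ, W.isOpen.isOpenEmbedding_subtypeVal.isOpenMap _ isClosed_closure.isOpen_compl⟩
  refine ⟨V, ⟨_, hxK, rfl⟩, ?_⟩
  rintro p ⟨hpU, q, hq, rfl⟩
  by_contra hp
  exact hq (subset_closure ⟨hpU, hp⟩)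

theorem exists_nhd_locFinite (hX : ∀ x : X, ∃ W : X.Opens, x ∈ W ∧
      {Z : Set X | Z ∈ irreducibleComponents X ∧ (Z ∩ (W : Set X)).Nonempty}.Finite)
    (x : X) (U A : X.Opens) (hA : ∀ p : X, p ∈ U → p ⤳ x → p ∈ A) :
    ∃ V : X.Opens, x ∈ V ∧ ∀ p ∈ U ⊓ V, p ∈ closure ((A : Set X) ∩ ((U ⊓ V : X.Opens) : Set X)) := by
  obtain ⟨W, hxW, hW⟩ := hX x
  let T := {Z : Set X | (Z ∈ irreducibleComponents X ∧ (Z ∩ (W : Set X)).Nonempty) ∧ x ∉ Z}
  have hT : IsClosed (⋃ Z ∈ T, Z) := (hW.subset fun Z hZ => hZ.1).isClosed_biUnion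
    fun Z hZ => isClosed_of_mem_irreducibleComponents Z hZ.1.1
  let V : X.Opens := W ⊓ ⟨(⋃ Z ∈ T, Z)ᶜ, hT.isOpen_compl⟩
  refine ⟨V, ⟨hxW, fun hmem => by obtain ⟨Z, hZ, hx⟩ := Set.mem_iUnion₂.1 hmem; exact hZ.2 hx⟩, fun p hp => ?_⟩
  have hC : irreducibleComponent p ∈ irreducibleComponents X := irreducibleComponent_mem_irreducibleComponents p
  have hxC : x ∈ irreducibleComponent p := by
    by_contra hx
    exact hp.2.2 (Set.mem_biUnion (x := irreducibleComponent p)
      ⟨⟨hC, ⟨p, mem_irreducibleComponent, hp.2.1⟩⟩, hx⟩ mem_irreducibleComponent)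
  let g : X := (isIrreducible_irreducibleComponent (x := p)).genericPoint
  have hg : IsGenericPoint g (irreducibleComponent p) := by
    simpa [(isClosed_irreducibleComponent (x := p)).closure_eq] using
      (isIrreducible_irreducibleComponent (x := p)).isGenericPoint_genericPoint_closure
  have hgU : g ∈ U ⊓ V := (hg.specializes mem_irreducibleComponent).mem_open (U ⊓ V).isOpen hp
  exact (hg.specializes mem_irreducibleComponent).mem_closed isClosed_closure
    (subset_closure ⟨hA g hgU.1 (hg.specializes hxC), hgU⟩)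

theorem isOpenImm_reassoc {U V : X.Opens} (h : U ≤ V) (x : X) (hx : x ∈ U) {T : Scheme.{u}} (g : (V : Scheme.{u}) ⟶ T) :
    U.fromSpecStalkOfMem x hx ≫ X.homOfLE h ≫ g = V.fromSpecStalkOfMem x (h hx) ≫ g := by
  rw [← Category.assoc, H23.SpreadFP.fromSpecStalkOfMem_homOfLE]

theorem exists_extension (pX : X ⟶ S) (pY : Y ⟶ S) [LocallyOfFinitePresentation pY] {x : X}
    (w : Spec (X.presheaf.stalk x) ⟶ Y) (hw : w ≫ pY = X.fromSpecStalk x ≫ pX) :
    ∃ (V : X.Opens) (hxV : x ∈ V) (v : (V : Scheme.{u}) ⟶ Y),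
      w = V.fromSpecStalkOfMem x hxV ≫ v ∧ v ≫ pY = V.ι ≫ pX := by
  let y := w (IsLocalRing.closedPoint _)
  have e : pX x = pY y := by
    have := congr($hw.symm (IsLocalRing.closedPoint (X.presheaf.stalk x)))
    change pX (X.fromSpecStalk x _) = pY y at this
    rw [Scheme.fromSpecStalk_closedPoint] at this
    exact this
  obtain ⟨V, hxV, v, hv, hv'⟩ := H23.SpreadFP.spread_out pX pY e (Scheme.stalkClosedPointTo w) (by
    apply Spec.map_injective
    rw [← cancel_mono (S.fromSpecStalk _)]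
    simp only [Spec.map_comp, Category.assoc, Scheme.SpecMap_stalkMap_fromSpecStalk,
      Scheme.SpecMap_stalkSpecializes_fromSpecStalk]
    rw [← Category.assoc]
    exact (congrArg (· ≫ pY) (Scheme.Spec_stalkClosedPointTo_fromSpecStalk w)).trans hw)
  rw [Scheme.Spec_stalkClosedPointTo_fromSpecStalk] at hv
  exact ⟨V, hxV, v, hv, hv'⟩

/-- Let X be an S-scheme which is locally Noetherian, or reduced with locally finite set of irreducible
components; let Y be separated and locally of finite presentation over S, U a schematically dense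
open subset of X, h : U → Y an S-morphism (a pseudo-S-morphism ω of X into Y) and x a point of X.
Then ω is defined at x — some S-morphism from an open neighbourhood V of x to Y agrees with h on U ∩
V — if and only if the restriction of ω to Spec O_{X,x} is everywhere defined — some S-morphism Spec
O_{X,x} → Y agrees with h after pulling back to Spec O_{X,x} ×_X U. (The published statement does
not assume Y separated over S and compares morphisms only on some schematically dense open; this row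
assumes Y separated over S, where the two readings agree.) -/
theorem result {X Y S : Scheme.{u}} (pX : X ⟶ S) (pY : Y ⟶ S)
    [IsSeparated pY] [LocallyOfFinitePresentation pY]
    (hX : IsLocallyNoetherian X ∨ (IsReduced X ∧ ∀ x : ↥X, ∃ W : X.Opens, x ∈ W ∧
      {Z : Set ↥X | Z ∈ irreducibleComponents ↥X ∧ (Z ∩ (W : Set ↥X)).Nonempty}.Finite))
    (U : X.Opens) (hU : CInt.IsSchematicallyDense U) (h : (U : Scheme.{u}) ⟶ Y) (hh : h ≫ pY = U.ι ≫ pX)
    (x : ↥X) :
    (∃ (V : X.Opens) (v : (V : Scheme.{u}) ⟶ Y), x ∈ V ∧ v ≫ pY = V.ι ≫ pX ∧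
        X.homOfLE (inf_le_right : U ⊓ V ≤ V) ≫ v = X.homOfLE (inf_le_left : U ⊓ V ≤ U) ≫ h) ↔
      ∃ w : Spec (X.presheaf.stalk x) ⟶ Y, w ≫ pY = X.fromSpecStalk x ≫ pX ∧
        pullback.fst (X.fromSpecStalk x) U.ι ≫ w = pullback.snd (X.fromSpecStalk x) U.ι ≫ h := by
  constructor
  · rintro ⟨V, v, hxV, hv, hvh⟩
    refine ⟨V.fromSpecStalkOfMem x hxV ≫ v, by rw [Category.assoc, hv, Scheme.Opens.fromSpecStalkOfMem_ι_assoc], ?_⟩
    let P := pullback (X.fromSpecStalk x) U.ι
    let fs : P ⟶ Spec (X.presheaf.stalk x) := pullback.fst _ _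
    let sn : P ⟶ (U : Scheme.{u}) := pullback.snd _ _
    have hc : fs ≫ X.fromSpecStalk x = sn ≫ U.ι := pullback.condition
    have hr : Set.range (sn ≫ U.ι) ⊆ Set.range (U ⊓ V).ι := by
      rintro _ ⟨p, rfl⟩
      rw [Scheme.Opens.range_ι]
      refine ⟨(sn p).2, ?_⟩
      rw [← hc]
      have : X.fromSpecStalk x (fs p) ∈ Set.range (X.fromSpecStalk x) := ⟨_, rfl⟩
      rw [Scheme.range_fromSpecStalk] at this
      exact this.mem_open V.isOpen hxV
    let q := IsOpenImmersion.lift (U ⊓ V).ι (sn ≫ U.ι) hr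
    have hq : q ≫ (U ⊓ V).ι = sn ≫ U.ι := IsOpenImmersion.lift_fac _ _ _
    have h1 : fs ≫ V.fromSpecStalkOfMem x hxV = q ≫ X.homOfLE inf_le_right := by
      rw [← cancel_mono V.ι, Category.assoc, Category.assoc, Scheme.Opens.fromSpecStalkOfMem_ι,
        Scheme.homOfLE_ι, hq, hc]
    have h2 : q ≫ X.homOfLE inf_le_left = sn := by
      rw [← cancel_mono U.ι, Category.assoc, Scheme.homOfLE_ι, hq]
    show fs ≫ _ ≫ v = sn ≫ h
    rw [reassoc_of% h1, hvh, reassoc_of% h2]
  · rintro ⟨w, hw, hwh⟩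
    obtain ⟨V, hxV, v, hv, hv'⟩ := exists_extension pX pY w hw
    let W : X.Opens := U ⊓ V
    let a : (W : Scheme.{u}) ⟶ Y := X.homOfLE inf_le_right ≫ v
    let b : (W : Scheme.{u}) ⟶ Y := X.homOfLE inf_le_left ≫ h
    have hab : a ≫ pY = b ≫ pY := by
      simp only [a, b, Category.assoc, hv', hh, Scheme.homOfLE_ι_assoc]
    let G : Set (W : Scheme.{u}) := {p | ∃ O : (W : Scheme.{u}).Opens, p ∈ O ∧ O.ι ≫ a = O.ι ≫ b}
    let A : X.Opens := ⟨W.ι '' G, W.ι.isOpenEmbedding.isOpenMap _ (isOpen_iff_forall_mem_open.2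
      fun p ⟨O, hpO, hO⟩ => ⟨O, fun q hq => ⟨O, hq, hO⟩, O.isOpen, hpO⟩)⟩
    have hgen : ∀ p : X, p ∈ W → p ⤳ x → p ∈ A := by
      intro p hp hpx
      obtain ⟨O, hO, hpO, hO'⟩ := H23.SpreadFP.eq_on_nhd pY hp a b hab (by
        have e1 : W.fromSpecStalkOfMem p hp ≫ a = Spec.map (X.presheaf.stalkSpecializes hpx) ≫ w := by
          simp only [a, hv, isOpenImm_reassoc]
          rw [← Category.assoc]
          congr 1
          rw [← cancel_mono V.ι, Category.assoc, Scheme.Opens.fromSpecStalkOfMem_ι,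
            Scheme.Opens.fromSpecStalkOfMem_ι, Scheme.SpecMap_stalkSpecializes_fromSpecStalk]
        have e2 : pullback.lift (Spec.map (X.presheaf.stalkSpecializes hpx)) (U.fromSpecStalkOfMem p hp.1)
            (by rw [Scheme.SpecMap_stalkSpecializes_fromSpecStalk, Scheme.Opens.fromSpecStalkOfMem_ι]) ≫
            pullback.fst (X.fromSpecStalk x) U.ι ≫ w = U.fromSpecStalkOfMem p hp.1 ≫ h := by
          rw [hwh, pullback.lift_snd_assoc]
        rw [pullback.lift_fst_assoc] at e2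
        rw [e1, e2]
        simp only [b, isOpenImm_reassoc])
      refine ⟨⟨p, hp⟩, ⟨W.ι ⁻¹ᵁ O, hpO, ?_⟩, rfl⟩
      have hfac : (W.ι ⁻¹ᵁ O).ι = (W.ι ∣_ O) ≫ X.homOfLE hO := by
        rw [← cancel_mono W.ι, Category.assoc, Scheme.homOfLE_ι]
        exact (morphismRestrict_ι W.ι O).symm
      rw [hfac, Category.assoc, Category.assoc, hO']
    have key : ∃ V' : X.Opens, x ∈ V' ∧ ∃ hV' : V' ≤ V, X.homOfLE (inf_le_inf_left U hV') ≫ a =
        X.homOfLE (inf_le_inf_left U hV') ≫ b := by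
      have hcov : ∀ (O : X.Opens) (hO : O ≤ W), O ≤ A → X.homOfLE hO ≫ a = X.homOfLE hO ≫ b := by
        intro O hO hOA
        refine Scheme.hom_ext_of_forall _ _ fun q => ?_
        obtain ⟨q', ⟨O', hqO, hO'⟩, hq'⟩ := hOA q.2
        refine ⟨X.homOfLE hO ⁻¹ᵁ O', ?_, ?_⟩
        · show X.homOfLE hO q ∈ O'
          rwa [show X.homOfLE hO q = q' from W.ι.isEmbedding.injective (by
            rw [hq', ← Scheme.Hom.comp_apply, Scheme.homOfLE_ι]; rfl)]
        · rw [← morphismRestrict_ι_assoc, ← morphismRestrict_ι_assoc, hO']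
      rcases hX with hN | ⟨hred, hfin⟩
      · obtain ⟨V₁, hxV₁, h₁⟩ := exists_nhd_noeth x W A hgen
        exact ⟨V ⊓ V₁, ⟨hxV, hxV₁⟩, inf_le_left,
          hcov _ _ fun p hp => h₁ ⟨⟨hp.1, hp.2.1⟩, hp.2.2⟩⟩
      · obtain ⟨V₁, hxV₁, h₁⟩ := exists_nhd_locFinite hfin x W A hgen
        let O : X.Opens := U ⊓ (V ⊓ V₁)
        have hO : O ≤ W := inf_le_inf_left U inf_le_left
        refine ⟨V ⊓ V₁, ⟨hxV, hxV₁⟩, inf_le_left, ?_⟩
        haveI : IsDominant (X.homOfLE (inf_le_right : A ⊓ O ≤ O)) := by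
          refine ⟨fun q => ?_⟩
          rw [O.ι.isEmbedding.isInducing.closure_eq_preimage_closure_image]
          show O.ι q ∈ closure _
          have h3 : ((A : Set X) ∩ ((W ⊓ V₁ : X.Opens) : Set X)) ⊆
              O.ι '' Set.range (X.homOfLE (inf_le_right : A ⊓ O ≤ O)) := by
            rintro p ⟨hpA, ⟨hpU, hpV⟩, hp1⟩
            refine ⟨_, ⟨⟨p, hpA, hpU, hpV, hp1⟩, rfl⟩, ?_⟩
            show (X.homOfLE (inf_le_right : A ⊓ O ≤ O) ⟨p, hpA, hpU, hpV, hp1⟩).1 = p
            simp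
          exact closure_mono h3 (h₁ _ ⟨⟨q.2.1, q.2.2.1⟩, q.2.2.2⟩)
        refine ext_of_isDominant_of_isSeparated pY (f := X.homOfLE hO ≫ a) (g := X.homOfLE hO ≫ b)
          ((Category.assoc _ _ _).trans ((congrArg (X.homOfLE hO ≫ ·) hab).trans (Category.assoc _ _ _).symm))
          (X.homOfLE (inf_le_right : A ⊓ O ≤ O)) ?_
        have e2 := hcov (A ⊓ O) (inf_le_right.trans hO) inf_le_left
        exact (Scheme.homOfLE_homOfLE_assoc _ _ _ a).trans (e2.trans (Scheme.homOfLE_homOfLE_assoc _ _ _ b).symm)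
    obtain ⟨V', hxV', hV', hk⟩ := key
    refine ⟨V', X.homOfLE hV' ≫ v, hxV', by rw [Category.assoc, hv', Scheme.homOfLE_ι_assoc], ?_⟩
    simp only [a, b, Scheme.homOfLE_homOfLE_assoc] at hk
    rw [Scheme.homOfLE_homOfLE_assoc]
    exact hk

end Groth.Agent.S5104
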