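import Groth.Statements.S5105
import Groth.Agent.Div21Lib.ClPic

set_option linter.style.haveILetI false
set_option backward.isDefEq.respectTransparency false
set_option backward.isDefEq.respectTransparency.types false


set_option autoImplicit false
universe u
open CategoryTheory CategoryTheory.Limits AlgebraicGeometry TopologicalSpace
open Div21

attribute [-instance] CategoryTheory.catToReflQuiver

namespace Groth.Agent.S5105

/-- For an integral scheme (X is locally factorial exactly when the canonical map Pic(X) → Cl(X) is a
bijection; in the presence of (i), being bijective means that each codimension-1 cycle arises as the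
Weil divisor of some rational section of an invertible module): suppose X is an integral scheme that
is normal and locally Noetherian. Then these two conditions are equivalent: (1) whenever Z is a
function from the points of X to the integers that is zero away from the points of codimension 1
(coheight 1) and whose support is locally finite, one can find an invertible O_X-module L together
with a nonzero rational section s of L (a nonzero element of the generic fibre of L) such that, at
each point of codimension 1, the order of s equals the value Z takes there; (2) each local ring of X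
is a unique factorisation domain. -/
theorem result (X : Scheme.{u}) [IsIntegral X]
    [IsLocallyNoetherian X] (hX : Pi1.IsNormalScheme X) :
    (∀ Z : ↥X → ℤ, (∀ x : ↥X, Order.coheight x ≠ 1 → Z x = 0) →
        (∀ x : ↥X, ∃ W : X.Opens, x ∈ W ∧ {z : ↥X | z ∈ W ∧ Z z ≠ 0}.Finite) →
        ∃ (L : X.Modules) (_ : PicF.IsInvertible L) (s : Cyc.secFibre L (genericPoint ↥X)), s ≠ 0 ∧
          ∀ x : ↥X, Order.coheight x = 1 →
            Cyc.secOrdAt L (genericPoint ↥X) x (genericPoint_specializes x) s = Z x) ↔
      ∀ x : ↥X, UniqueFactorizationMonoid ↑(X.presheaf.stalk x) := by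
  constructor
  · intro h x
    refine Groth.Agent.Div21Lib.ufd_of_invertible hX (fun Z hZ hfin => ?_) x
    obtain ⟨L, hL, s, hs, hord⟩ := h Z hZ hfin
    obtain ⟨s, rfl⟩ := (Groth.Agent.Ref1X.cls_bijective L).2 s
    exact ⟨L, hL, s, Groth.Agent.Ref1X.cls_ne_zero.1 hs, hord⟩
  · intro hU Z hZ hfin
    obtain ⟨L, hL, s, hs, hord⟩ := Groth.Agent.Div21Lib.exists_invertible_of_ufd (D := Z) hX hU (fun V hV => by
      choose W hxW hW using hfin
      obtain ⟨t, ht⟩ := hV.isCompact.elim_finite_subcover (fun x => (W x : Set X)) (fun x => (W x).isOpen)
        (fun x _ => Set.mem_iUnion.2 ⟨x, hxW x⟩)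
      refine (t.finite_toSet.biUnion fun x _ => hW x).subset fun z hz => ?_
      obtain ⟨x, hx, hzx⟩ := Set.mem_iUnion₂.1 (ht hz.1)
      exact Set.mem_biUnion hx ⟨hzx, hz.2⟩) hZ
    exact ⟨L, hL, _, Groth.Agent.Ref1X.cls_ne_zero.2 hs, hord⟩
end Groth.Agent.S5105
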