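import Groth.Statements.S5107
import Groth.Agent.AssPtX.Noeth
import Groth.Agent.MorLib.LimFlat
import Groth.Agent.MorLib.LimMax
import Groth.Agent.LimMod.Stage
import Groth.Agent.QCoh.DevissageP
-- import your own Groth.Agent.* helpers here

set_option autoImplicit false
universe u
open CategoryTheory CategoryTheory.Limits AlgebraicGeometry TopologicalSpace
open Lim8

namespace Groth.Agent.S5107

open CategoryTheory AlgebraicGeometry

/-- A point whose local ring has its maximal ideal associated. -/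
abbrev IsAss (X : Scheme.{u}) (x : X) : Prop :=
  IsAssociatedPrime (IsLocalRing.maximalIdeal (X.presheaf.stalk x)) (X.presheaf.stalk x)

theorem finite_ass (X : Scheme.{u}) [IsNoetherian X] : {x : X | IsAss X x}.Finite := by
  have hO : Coh.IsQCoh (Coh.structureModule X) := QCoh.isQCoh_structureModule
  refine Set.Finite.subset (AssPtX.finite_assPoints (F := Coh.structureModule X) (U := ⊤)
    (QCoh.isCoh_structureModule') isCompact_univ) fun x hx => ?_
  refine ⟨trivial, AssPtX.isAssPoint_iff.2 ?_⟩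
  obtain ⟨V, hV, hxV, -⟩ := exists_isAffineOpen_mem_and_subset (x := x) (U := ⊤) trivial
  letI := QCoh.stalkAlg (X := X) hxV
  haveI := QCoh.isLocalization_stalk' hV hxV
  haveI : IsLocalizedModule (hV.primeIdealOf ⟨x, hxV⟩).asIdeal.primeCompl
      (Algebra.linearMap Γ(X, V) (X.presheaf.stalk x)) := inferInstance
  have h1 := WeakAss.mem_weakAss_iff_map (hV.primeIdealOf ⟨x, hxV⟩).asIdeal.primeCompl
    (R' := X.presheaf.stalk x) (Algebra.linearMap Γ(X, V) (X.presheaf.stalk x))
    (p := (hV.primeIdealOf ⟨x, hxV⟩).asIdeal) (Set.disjoint_left.2 fun _ h h' => h h')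
  rw [IsLocalization.AtPrime.map_eq_maximalIdeal] at h1
  rw [AssPtX.isWeakAssPoint_iff_sections hO hV hxV]
  refine h1.2 (WeakAss.mem_weakAss_iff.2 ?_)
  obtain ⟨-, m, hm⟩ := hx
  exact ⟨m, (AssPtX.radical_eq_maximalIdeal_iff _).1 (by rw [← AssPtX.colon_bot_singleton]; exact hm.symm)⟩

/-- Associated points map to associated points along flat morphisms. -/
theorem isAss_map {X Y : Scheme.{u}} [IsLocallyNoetherian X] [IsLocallyNoetherian Y] (f : X ⟶ Y) [Flat f]
    {x : X} (hx : IsAss X x) : IsAss Y (f x) := by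
  by_contra hne
  letI : Algebra (Y.presheaf.stalk (f x)) (X.presheaf.stalk x) := (f.stalkMap x).hom.toAlgebra
  haveI : Module.Flat (Y.presheaf.stalk (f x)) (X.presheaf.stalk x) := Flat.stalkMap f x
  let m := IsLocalRing.maximalIdeal (Y.presheaf.stalk (f x))
  have hsub : ¬ (m : Set (Y.presheaf.stalk (f x))) ⊆
      {r | ∃ z : Y.presheaf.stalk (f x), z ≠ 0 ∧ r • z = 0} := by
    rw [← biUnion_associatedPrimes_eq_zero_divisors]
    intro h
    have hfin := associatedPrimes.finite (Y.presheaf.stalk (f x)) (Y.presheaf.stalk (f x))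
    obtain ⟨q, hq, hle⟩ := (Ideal.subset_union_prime_finite hfin (f := fun q => q) ⊥ ⊥
      fun q hq _ _ => IsAssociatedPrime.isPrime (AssociatedPrimes.mem_iff.mp hq)).1 h
    have hqp : q.IsPrime := IsAssociatedPrime.isPrime (AssociatedPrimes.mem_iff.mp hq)
    have e : m = q := (IsLocalRing.maximalIdeal.isMaximal _).eq_of_le hqp.ne_top hle
    subst e
    exact hne (AssociatedPrimes.mem_iff.mp hq)
  obtain ⟨a, ha, ha'⟩ := Set.not_subset.1 hsub
  have hreg : IsSMulRegular (Y.presheaf.stalk (f x)) a := by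
    refine isSMulRegular_iff_right_eq_zero_of_smul.2 fun z hz => ?_
    by_contra hz0
    exact ha' ⟨z, hz0, hz⟩
  have hreg' : IsSMulRegular (X.presheaf.stalk x) (algebraMap _ (X.presheaf.stalk x) a) :=
    fun u v h => hreg.of_flat (S := X.presheaf.stalk x) h
  obtain ⟨hpr, z, hz⟩ := isAssociatedPrime_iff.1 hx
  rw [AssPtX.colon_bot_singleton] at hz
  have hmem : algebraMap _ (X.presheaf.stalk x) a ∈ IsLocalRing.maximalIdeal (X.presheaf.stalk x) :=
    map_nonunit (f.stalkMap x).hom a ha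
  have h0 : z = 0 := isSMulRegular_iff_right_eq_zero_of_smul.1 hreg' z (WeakAss.mem_annEl.1 (hz ▸ hmem))
  refine hpr.ne_top (top_unique fun r _ => ?_)
  rw [hz, h0]
  exact WeakAss.mem_annEl.2 (smul_zero r)

theorem stalkMap_stage {X Y Z : Scheme.{u}} (q : X ⟶ Y) (a : Y ⟶ Z) (p : X ⟶ Z) (hw : q ≫ a = p)
    (U : Z.Opens) (W : X.Opens) (hle : W ≤ p ⁻¹ᵁ U) (t : X) (htW : t ∈ W) (h : q t ∈ a ⁻¹ᵁ U) (u : Γ(Z, U)) :
    q.stalkMap t (Y.presheaf.germ (a ⁻¹ᵁ U) (q t) h (a.app U u)) = X.presheaf.germ W t htW (p.appLE U W hle u) := by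
  subst hw
  rw [Scheme.Hom.germ_stalkMap_apply, Scheme.Hom.appLE, CommRingCat.comp_apply, X.presheaf.germ_res_apply,
    Scheme.Hom.comp_app]
  rfl

variable {I : Type u} [SmallCategory I] [IsCofiltered I] {D : I ⥤ Scheme.{u}} {c : Limits.Cone D}

/-- A compatible family of associated points gives an associated point of the limit. -/
theorem isAss_limit (hc : Limits.IsLimit c)
    [∀ (i j : I) (g : i ⟶ j), IsAffineHom (D.map g)] [∀ (i j : I) (g : i ⟶ j), Flat (D.map g)]
    [∀ i : I, IsNoetherian (D.obj i)] [IsNoetherian c.pt] (t : c.pt)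
    (ht : ∀ j, IsAss (D.obj j) (c.π.app j t)) : IsAss c.pt t := by
  classical
  haveI : ∀ {i j : I} (f : i ⟶ j), IsAffineHom (D.map f) := fun f => inferInstance
  haveI : ∀ j, IsNoetherian (((Functor.const I).obj c.pt).obj j) := fun _ => ‹IsNoetherian c.pt›
  obtain ⟨i⟩ := IsCofiltered.nonempty (C := I)
  obtain ⟨V, hV, htV, -⟩ := exists_isAffineOpen_mem_and_subset (x := c.π.app i t) (U := ⊤) trivial
  let W : c.pt.Opens := c.π.app i ⁻¹ᵁ V
  have hW : IsAffineOpen W := LimMod.isAffineOpen_lim D c hc hV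
  have htW : t ∈ W := htV
  haveI : IsNoetherianRing Γ(c.pt, W) := IsLocallyNoetherian.component_noetherian ⟨_, hW⟩
  obtain ⟨S, hS⟩ := IsNoetherian.noetherian (hW.primeIdealOf ⟨t, htW⟩).asIdeal
  have hlift : ∀ s : Γ(c.pt, W), ∃ (j : I) (φ : j ⟶ i) (u : Γ(D.obj j, D.map φ ⁻¹ᵁ V)),
      (c.π.app j).appLE (D.map φ ⁻¹ᵁ V) W (LimMod.lim_le D c φ V) u = s :=
    fun s => LimMod.exists_ring_lift D c hc hV s
  choose J φ u hu using hlift
  obtain ⟨k, hk⟩ := IsCofiltered.inf_objs_exists (S.image J)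
  haveI : Flat (c.π.app k) := MorLib.LimFlat.flat_π hc k (fun j g => inferInstance)
  let ψ := (c.π.app k).stalkMap t
  letI : Algebra ((D.obj k).presheaf.stalk (c.π.app k t)) (c.pt.presheaf.stalk t) := ψ.hom.toAlgebra
  haveI : Module.Flat ((D.obj k).presheaf.stalk (c.π.app k t)) (c.pt.presheaf.stalk t) := Flat.stalkMap _ t
  haveI : IsLocalHom (algebraMap ((D.obj k).presheaf.stalk (c.π.app k t)) (c.pt.presheaf.stalk t)) :=
    inferInstanceAs (IsLocalHom ψ.hom)
  haveI : Module.FaithfullyFlat ((D.obj k).presheaf.stalk (c.π.app k t)) (c.pt.presheaf.stalk t) :=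
    Module.FaithfullyFlat.of_flat_of_isLocalHom
  obtain ⟨hpr, a, ha⟩ := isAssociatedPrime_iff.1 (ht k)
  rw [AssPtX.colon_bot_singleton] at ha
  refine isAssociatedPrime_iff.2 ⟨inferInstance, algebraMap _ (c.pt.presheaf.stalk t) a, ?_⟩
  rw [AssPtX.colon_bot_singleton]
  have hne : algebraMap _ (c.pt.presheaf.stalk t) a ≠ 0 := by
    intro h
    have ha0 : a = 0 := FaithfulSMul.algebraMap_injective _ _ (h.trans (map_zero _).symm)
    refine hpr.ne_top (top_unique fun r _ => ?_)
    rw [ha, ha0]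
    exact WeakAss.mem_annEl.2 (smul_zero r)
  refine le_antisymm ?_ ((IsLocalRing.le_maximalIdeal fun h => hne ?_))
  · letI := QCoh.stalkAlg (X := c.pt) htW
    haveI := QCoh.isLocalization_stalk' hW htW
    rw [← IsLocalization.AtPrime.map_eq_maximalIdeal (hW.primeIdealOf ⟨t, htW⟩).asIdeal, ← hS,
      Ideal.map_span, Ideal.span_le]
    rintro _ ⟨s, hs, rfl⟩
    obtain ⟨g⟩ := hk (Finset.mem_image_of_mem J hs)
    let s' := (D.obj k).presheaf.germ (D.map g ⁻¹ᵁ (D.map (φ s) ⁻¹ᵁ V)) (c.π.app k t) (by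
      show D.map g (c.π.app k t) ∈ D.map (φ s) ⁻¹ᵁ V
      rw [← Scheme.Hom.comp_apply, c.w]
      exact LimMod.lim_le D c (φ s) V htW) ((D.map g).app _ (u s))
    have e : ψ s' = c.pt.presheaf.germ W t htW s := by
      refine Eq.trans ?_ (congrArg (c.pt.presheaf.germ W t htW) (hu s))
      exact stalkMap_stage (c.π.app k) (D.map g) (c.π.app (J s)) (c.w g) _ W _ t htW _ (u s)
    show c.pt.presheaf.germ W t htW s ∈ WeakAss.annEl _ _
    rw [← e, WeakAss.mem_annEl]
    have hs' : s' ∈ IsLocalRing.maximalIdeal _ := by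
      by_contra hu'
      rw [IsLocalRing.mem_maximalIdeal, mem_nonunits_iff, not_not] at hu'
      have h2 : IsUnit (c.pt.presheaf.germ W t htW s) := e ▸ hu'.map ψ.hom
      have h3 : s ∈ (hW.primeIdealOf ⟨t, htW⟩).asIdeal := hS ▸ Submodule.subset_span hs
      exact (QCoh.mem_basicOpen_iff_notMem hW htW s).1 ((c.pt.mem_basicOpen s t htW).2 h2) h3
    rw [ha, WeakAss.mem_annEl] at hs'
    show algebraMap _ _ s' * algebraMap _ _ a = 0
    rw [← map_mul, show s' * a = 0 from hs', map_zero]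
  · have h1 : (1 : c.pt.presheaf.stalk t) ∈ WeakAss.annEl _ (algebraMap _ (c.pt.presheaf.stalk t) a) := by
      rw [h]; trivial
    simpa using WeakAss.mem_annEl.1 h1

theorem main (hc : Limits.IsLimit c)
    [∀ (i j : I) (g : i ⟶ j), IsAffineHom (D.map g)] [∀ (i j : I) (g : i ⟶ j), Flat (D.map g)]
    [∀ i : I, IsNoetherian (D.obj i)] [IsNoetherian c.pt] (i₀ : I) (U₀ : (D.obj i₀).Opens) :
    CInt.IsSchematicallyDense ((c.π.app i₀) ⁻¹ᵁ U₀) ↔
      ∃ (i : I) (g : i ⟶ i₀), CInt.IsSchematicallyDense ((D.map g) ⁻¹ᵁ U₀) := by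
  classical
  haveI : ∀ {i j : I} (f : i ⟶ j), IsAffineHom (D.map f) := fun f => inferInstance
  haveI : ∀ j, IsNoetherian (((Functor.const I).obj c.pt).obj j) := fun _ => ‹IsNoetherian c.pt›
  constructor
  · intro h
    by_contra hne
    push Not at hne
    have hbad : ∀ (k : I) (g : k ⟶ i₀), ∃ x, IsAss (D.obj k) x ∧ D.map g x ∉ U₀ := by
      intro k g
      have := hne k g
      rw [AssPtX.isSchematicallyDense_iff] at this
      push Not at this
      exact this
    let M : ∀ j, Set (D.obj j) := fun j => {x | IsAss (D.obj j) x ∧ ∀ g : j ⟶ i₀, D.map g x ∉ U₀}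
    have hfin : ∀ j, (M j).Finite := fun j => (finite_ass _).subset fun x hx => hx.1
    have hnon : ∀ j, (M j).Nonempty := by
      intro j
      by_contra hemp
      rw [Set.not_nonempty_iff_eq_empty] at hemp
      have hw : ∀ x, IsAss (D.obj j) x → ∃ g : j ⟶ i₀, D.map g x ∈ U₀ := by
        intro x hx
        by_contra hno
        push Not at hno
        exact (hemp ▸ (⟨hx, hno⟩ : x ∈ M j) : x ∈ (∅ : Set (D.obj j)))
      choose g hg using hw
      let k0 := IsCofiltered.min j i₀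
      let A := (finite_ass (D.obj j)).toFinset.attach
      let H : Finset (Σ' (X Y : I) (_ : X ∈ ({k0, j, i₀} : Finset I)) (_ : Y ∈ ({k0, j, i₀} : Finset I)), X ⟶ Y) :=
        (A.image fun x => ⟨j, i₀, by simp, by simp, g x.1 ((finite_ass (D.obj j)).mem_toFinset.1 x.2)⟩) ∪
          {⟨k0, j, by simp, by simp, IsCofiltered.minToLeft j i₀⟩, ⟨k0, i₀, by simp, by simp, IsCofiltered.minToRight j i₀⟩}
      obtain ⟨k, T, hT⟩ := IsCofiltered.inf_exists {k0, j, i₀} H
      obtain ⟨x, hx, hxU⟩ := hbad k (T (X := i₀) (by simp))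
      have hxj : IsAss (D.obj j) (D.map (T (X := j) (by simp)) x) := isAss_map _ hx
      have hA : (⟨j, i₀, by simp, by simp, g (D.map (T (X := j) (by simp)) x) hxj⟩ :
          Σ' (X Y : I) (_ : X ∈ ({k0, j, i₀} : Finset I)) (_ : Y ∈ ({k0, j, i₀} : Finset I)), X ⟶ Y) ∈ H :=
        Finset.mem_union_left _ (Finset.mem_image.2
          ⟨⟨_, (finite_ass (D.obj j)).mem_toFinset.2 hxj⟩, Finset.mem_attach _ _, rfl⟩)
      refine hxU ?_
      rw [← hT _ _ hA, D.map_comp, Scheme.Hom.comp_apply]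
      exact hg _ hxj
    obtain ⟨t, ht⟩ := MorLib.LimMax.exists_point_mem hc M hfin hnon fun {a b} f x hx =>
      ⟨isAss_map _ hx.1, fun g hg => hx.2 (f ≫ g) (by rw [D.map_comp, Scheme.Hom.comp_apply]; exact hg)⟩
    have htA : IsAss c.pt t := isAss_limit hc t fun j => (ht j).1
    have := (AssPtX.isSchematicallyDense_iff _).1 h t htA
    refine (ht i₀).2 (𝟙 i₀) ?_
    rw [D.map_id]
    exact this
  · rintro ⟨i, g, h⟩
    rw [AssPtX.isSchematicallyDense_iff] at h ⊢
    intro x hx
    haveI : Flat (c.π.app i) := MorLib.LimFlat.flat_π hc i (fun j g => inferInstance)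
    have := h _ (isAss_map (c.π.app i) hx)
    show c.π.app i₀ x ∈ U₀
    rw [← c.w g, Scheme.Hom.comp_apply]
    exact this


/-- Let (X_i) be a cofiltered system of Noetherian schemes with affine and flat transition morphisms, X
its limit, assumed Noetherian as well, and U₀ an open subset of X_{i₀}, with inverse images U_i in
X_i (for i over i₀) and U in X. Then U is schematically dense in X if and only if there is an index
i over i₀ such that U_i is schematically dense in X_i (and then, the transition morphisms being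
flat, U_j is schematically dense in X_j for every j over i). -/
theorem result {I : Type u} [SmallCategory I]
    [IsCofiltered I] (D : I ⥤ Scheme.{u}) (c : Limits.Cone D) (hc : Limits.IsLimit c)
    [∀ (i j : I) (g : i ⟶ j), IsAffineHom (D.map g)] [∀ (i j : I) (g : i ⟶ j), Flat (D.map g)]
    [∀ i : I, IsNoetherian (D.obj i)] [IsNoetherian c.pt] (i₀ : I) (U₀ : (D.obj i₀).Opens) :
    CInt.IsSchematicallyDense ((c.π.app i₀) ⁻¹ᵁ U₀) ↔
      ∃ (i : I) (g : i ⟶ i₀), CInt.IsSchematicallyDense ((D.map g) ⁻¹ᵁ U₀) := main hc i₀ U₀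

end Groth.Agent.S5107
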