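import Groth.Statements.S5114
import Groth.Agent.EtRep9.FiniteRefine

set_option linter.style.haveILetI false
set_option backward.isDefEq.respectTransparency false
set_option backward.isDefEq.respectTransparency.types false


set_option autoImplicit false
universe u
open SGA1

namespace Groth.Agent.S5114

open AlgebraicGeometry CategoryTheory CategoryTheory.Limits in
/-- Let A be a complete Noetherian local ring, S = Spec A, and g : S' ⟶ S a surjective morphism of
finite type whose fibre over the closed point s is finite. If every point of S' specialises to some
point of the fibre over s (equivalently: the disjoint union of the spectra of the local rings of S'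
at the points over s maps onto S'), then g is universally submersive. (The published statement
asserts an equivalence and does not mention surjectivity of g; the converse fails: for A a complete
discrete valuation ring with fraction field K, S' = S ⊔ Spec K ⟶ S has a section, hence is
universally submersive, while the isolated point Spec K specialises to no point over s. This row
states the implication the published proof establishes, with the surjectivity it uses.) -/
theorem result (A : Type u) [CommRing A]
    [IsNoetherianRing A] [IsLocalRing A] [IsAdicComplete (IsLocalRing.maximalIdeal A) A]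
    {S' : Scheme.{u}} (g : S' ⟶ Spec (CommRingCat.of A)) [LocallyOfFiniteType g] [QuasiCompact g]
    [Surjective g]
    (hfin : (g.base ⁻¹' {IsLocalRing.closedPoint A}).Finite)
    (hsp : ∀ t : S', ∃ s' : S', g.base s' = IsLocalRing.closedPoint A ∧ t ⤳ s') :
    SGA1.UnivSubmersive g := by
  open Groth.Agent.EtRep9 IsLocalRing in
  exact (by
    haveI : HenselianLocalRing (CommRingCat.of A) := henselian_of_complete A
    haveI : IsNoetherianRing (CommRingCat.of A) := ‹IsNoetherianRing A›
    -- every point is quasi-finite
    have hqf0 : ∀ x : S', g x = closedPoint A → g.QuasiFiniteAt x := by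
      intro x hx
      rw [Scheme.Hom.quasiFiniteAt_iff_isOpen_singleton_asFiber]
      haveI : Finite (g.fiber (g x)) := by
        have h1 : (g ⁻¹' {g x}).Finite := by rw [hx]; exact hfin
        haveI := h1.to_subtype
        exact Finite.of_equiv _ (g.fiberHomeo (g x)).toEquiv.symm
      exact isOpen_discrete _
    haveI : LocallyQuasiFinite g := by
      rw [← Scheme.Hom.quasiFiniteLocus_eq_top_iff, ← top_le_iff]
      rintro t -
      obtain ⟨s', hs', hts⟩ := hsp t
      exact hts.mem_open g.quasiFiniteLocus.2 (hqf0 s' hs')
    obtain ⟨Z, h, hfin', hsurj⟩ := exists_refinement g fun η _ => by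
      obtain ⟨t, ht⟩ := g.surjective η
      obtain ⟨x, hx, htx⟩ := hsp t
      obtain ⟨V, hV, hxV, -⟩ := exists_isAffineOpen_mem_and_subset (x := x) (U := ⊤) trivial
      exact ⟨V, V.ι, hV, inferInstance, inferInstance, ⟨t, htx.mem_open V.2 hxV⟩, ⟨x, hxV⟩, ht, hx,
        V.ι.isOpenEmbedding.isInducing.specializes_iff.1 htx⟩
    have hsub : SGA1.UnivSubmersive (h ≫ g) := univSubmersive_of_closed_surjective (h ≫ g)
    intro X' Y' i₁ i₂ f' sq
    have hq := hsub _ _ _ ((IsPullback.of_hasPullback h i₁).flip.paste_horiz sq)
    exact Topology.IsQuotientMap.of_comp (pullback.snd h i₁).continuous f'.continuous hq)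
end Groth.Agent.S5114
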