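import Groth.Statements.S5116
import Groth.Agent.H9PiOne.GeomCover
import Groth.Agent.H9PiOne.HenselProper

set_option linter.style.haveILetI false
set_option backward.isDefEq.respectTransparency false
set_option backward.isDefEq.respectTransparency.types false
-- import your own Groth.Agent.* helpers here

set_option autoImplicit false
universe u
open Pi1
attribute [-instance] CategoryTheory.catToReflQuiver

namespace Groth.Agent.S5116

open AlgebraicGeometry CategoryTheory CategoryTheory.Limits in
/-- The injectivity of π₁ of the geometric closed fibre into π₁ of the total space, in terms of covers.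
Let A be a complete Noetherian local ring with residue field k, k̄ an algebraic closure of k, ξ :
Spec k̄ ⟶ Spec A the resulting geometric point, X a proper A-scheme with X ×_A Spec k̄ connected.
Then every finite etale cover of X ×_A Spec k̄ admits an open and closed immersion, over X ×_A Spec
k̄, into the base change of some finite etale cover of X. -/
theorem result (A : Type u) [CommRing A]
    [IsNoetherianRing A] [IsLocalRing A] [IsAdicComplete (IsLocalRing.maximalIdeal A) A]
    {X : Scheme.{u}} (f : X ⟶ Spec (CommRingCat.of A)) [IsProper f]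
    (ξ : Spec (CommRingCat.of (AlgebraicClosure (IsLocalRing.ResidueField A))) ⟶ Spec (CommRingCat.of A))
    (hξ : ξ = Spec.map (CommRingCat.ofHom ((algebraMap (IsLocalRing.ResidueField A)
      (AlgebraicClosure (IsLocalRing.ResidueField A))).comp (IsLocalRing.residue A))))
    [ConnectedSpace ↥(pullback f ξ)] (V : FEt.Cat (pullback f ξ)) :
    ∃ (U : FEt.Cat X) (ι : V ⟶ (FEt.restrict (pullback.fst f ξ)).obj U),
      IsOpenImmersion ι.left ∧ IsClosedImmersion ι.left := by
  haveI : HenselianRing A (IsLocalRing.maximalIdeal A) := inferInstance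
  let κ := IsLocalRing.ResidueField A
  let r : Spec (CommRingCat.of κ) ⟶ Spec (CommRingCat.of A) := Spec.map (CommRingCat.ofHom (IsLocalRing.residue A))
  let f₀ : pullback f r ⟶ Spec (CommRingCat.of κ) := pullback.snd f r
  haveI : IsProper f₀ := MorphismProperty.pullback_snd (P := @IsProper) _ _ ‹_›
  let K := AlgebraicClosure κ
  let j : Spec (CommRingCat.of K) ⟶ Spec (CommRingCat.of κ) := Spec.map (CommRingCat.ofHom (algebraMap κ K))
  have hj : j ≫ r = ξ := by rw [hξ, ← Spec.map_comp]; rfl
  let e : H9PiOne.bcA f₀ K ≅ pullback f ξ :=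
    pullbackLeftPullbackSndIso f r j ≪≫ pullback.congrHom rfl hj
  have he : e.inv ≫ H9PiOne.bcA.fst f₀ K ≫ pullback.fst f r = pullback.fst f ξ := by
    rw [Iso.inv_comp_eq]; simp [e, pullback.congrHom]; rfl
  obtain ⟨U₀, ι₀, hι₁, hι₂⟩ := H9PiOne.exists_cover_clopen_piece K f₀ ((FEt.restrict e.hom).obj V)
  haveI := H9PiOne.restrict_inc_isEquivalence (IsLocalRing.maximalIdeal A) f
  let R := FEt.restrict (pullback.fst f r)
  haveI : R.IsEquivalence := H9PiOne.restrict_inc_isEquivalence (IsLocalRing.maximalIdeal A) f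
  let U := R.objPreimage U₀
  let ea : (FEt.restrict e.inv).obj ((FEt.restrict e.hom).obj V) ≅ V :=
    (Pi1Ext.Spread.restrictComp e.inv e.hom (𝟙 _) e.inv_hom_id.symm V).symm ≪≫ Pi1Ext.Spread.restrictId V
  let a := ea.inv
  let d : (FEt.restrict e.inv).obj ((FEt.restrict (H9PiOne.bcA.fst f₀ K)).obj U₀) ≅
      (FEt.restrict (pullback.fst f ξ)).obj U :=
    (Pi1Ext.Spread.restrictComp e.inv (H9PiOne.bcA.fst f₀ K) _ rfl U₀).symm ≪≫
      (FEt.restrict (e.inv ≫ H9PiOne.bcA.fst f₀ K)).mapIso (R.objObjPreimageIso U₀).symm ≪≫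
      (Pi1Ext.Spread.restrictComp (e.inv ≫ H9PiOne.bcA.fst f₀ K) (pullback.fst f r) _
        (by rw [Category.assoc, he]) U).symm
  let m := (FEt.restrict e.inv).map ι₀
  refine ⟨U, a ≫ m ≫ d.hom, ?_⟩
  let F := MorphismProperty.Over.forget FEt.prop ⊤ (pullback f ξ) ⋙ CategoryTheory.Over.forget _
  haveI : IsIso a.left := inferInstanceAs (IsIso (F.map ea.inv))
  haveI : IsIso d.hom.left := inferInstanceAs (IsIso (F.map d.hom))
  have hsq : IsPullback m.left (pullback.fst _ e.inv) (pullback.fst _ e.inv) ι₀.left := by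
    refine IsPullback.of_vert_isIso ⟨?_⟩
    exact pullback.lift_fst _ _ _
  haveI : IsOpenImmersion m.left := MorphismProperty.of_isPullback hsq.flip hι₁
  haveI : IsClosedImmersion m.left := MorphismProperty.of_isPullback hsq.flip hι₂
  show IsOpenImmersion (a.left ≫ m.left ≫ d.hom.left) ∧ IsClosedImmersion (a.left ≫ m.left ≫ d.hom.left)
  exact ⟨inferInstance, inferInstance⟩

end Groth.Agent.S5116
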