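import Groth.Statements.S5122
import Groth.Agent.EtRep9.Fpqc

set_option linter.style.haveILetI false
set_option backward.isDefEq.respectTransparency false
set_option backward.isDefEq.respectTransparency.types false


set_option autoImplicit false
universe u
open SGA1

namespace Groth.Agent.S5122

open AlgebraicGeometry CategoryTheory CategoryTheory.Limits in
/-- Let g : S' ⟶ S be universally submersive, D a descent datum relative to g (functor-of-points form,
for the one-member family g) whose underlying S'-scheme is etale, separated and of finite type over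
S', and p : S₁ ⟶ S faithfully flat and quasi-compact. Then D is effective in the fibred category of
etale separated finite-type schemes (isomorphic to the canonical datum of some etale, separated,
quasi-compact S-scheme) if and only if the descent datum obtained by base change along p, relative
to S' ×_S S₁ ⟶ S₁, is effective in the same sense over S₁. -/
theorem result {S S' S₁ : Scheme.{u}} (g : S' ⟶ S) (hg : SGA1.UnivSubmersive g)
    (D : Desc.SchDDFam (fun _ : PUnit.{1} => g))
    [Etale (D.obj PUnit.unit).hom] [IsSeparated (D.obj PUnit.unit).hom] [QuasiCompact (D.obj PUnit.unit).hom]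
    (p : S₁ ⟶ S) [Flat p] [Surjective p] [QuasiCompact p] :
    (∃ U : Over S, Etale U.hom ∧ IsSeparated U.hom ∧ QuasiCompact U.hom ∧ Nonempty ((Desc.toDDFam (fun _ : PUnit.{1} => g)).obj U ≅ D)) ↔
      (∃ U : Over S₁, Etale U.hom ∧ IsSeparated U.hom ∧ QuasiCompact U.hom ∧
        Nonempty ((Desc.toDDFam (fun _ : PUnit.{1} => pullback.snd g p)).obj U ≅
          (Desc.pullDDFam (f := fun _ : PUnit.{1} => g) (f' := fun _ : PUnit.{1} => pullback.snd g p)
        (α := id) (p := p) (p' := fun _ => pullback.fst g p) (fun _ => pullback.condition)).obj D)) := by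

  open Groth.Agent.EtRep9 Groth.Agent.DescLib in
  haveI : SGA1.UnivSubmersive.{u}.IsStableUnderBaseChange := by
    unfold SGA1.UnivSubmersive; infer_instance
  constructor
  · rintro ⟨U, hU, hsep, hqc, ⟨I⟩⟩
    haveI := hU
    exact ⟨Over.mk (pullback.snd U.hom p),
      (MorphismProperty.pullback_snd _ _ hU : Etale (pullback.snd U.hom p)),
      (MorphismProperty.pullback_snd _ _ hsep : IsSeparated (pullback.snd U.hom p)),
      (MorphismProperty.pullback_snd _ _ hqc : QuasiCompact (pullback.snd U.hom p)),
      iso_of_isRep (isRep_bc (isRep_of_iso I (isRep_canonical hg U)))⟩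
  · rintro ⟨U₁, hU, hsep, hqc, ⟨I⟩⟩
    haveI := hU
    haveI := hsep
    haveI := hqc
    have hg₁ : SGA1.UnivSubmersive (pullback.snd g p) := MorphismProperty.pullback_snd _ _ hg
    obtain ⟨U, h1, h2, h3, h4⟩ := exists_isRep_of_cover (p := p) (isRep_of_iso I (isRep_canonical hg₁ U₁))
    exact ⟨U, h1, h2, h3, iso_of_isRep h4⟩
end Groth.Agent.S5122
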