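import Groth.Statements.S5125
import Groth.Agent.S5123
import Groth.Agent.S5124

set_option linter.style.haveILetI false
set_option backward.isDefEq.respectTransparency false
set_option backward.isDefEq.respectTransparency.types false


set_option autoImplicit false
universe u
open SGA1

namespace Groth.Agent.S5125

open AlgebraicGeometry CategoryTheory CategoryTheory.Limits in
/-- Let g : S' ⟶ S be universally submersive and of finite presentation, and D a descent datum relative
to g (functor-of-points form, for the one-member family g) whose underlying S'-scheme is etale and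
of finite presentation (quasi-compact and quasi-separated) over S'. Then D is the canonical datum of
some etale S-scheme if and only if for every point a of S the descent datum induced over Spec
O_{S,a} is the canonical datum of some etale scheme over Spec O_{S,a}. -/
theorem result {S S' : Scheme.{u}} (g : S' ⟶ S) (hg : SGA1.UnivSubmersive g)
    [LocallyOfFinitePresentation g] [QuasiCompact g] [QuasiSeparated g]
    (D : Desc.SchDDFam (fun _ : PUnit.{1} => g)) [Etale (D.obj PUnit.unit).hom]
    [QuasiCompact (D.obj PUnit.unit).hom] [QuasiSeparated (D.obj PUnit.unit).hom] :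
    (∃ U : Over S, Etale U.hom ∧ Nonempty ((Desc.toDDFam (fun _ : PUnit.{1} => g)).obj U ≅ D)) ↔
      ∀ a : S, (∃ U : Over (Spec (S.presheaf.stalk a)), Etale U.hom ∧
        Nonempty ((Desc.toDDFam (fun _ : PUnit.{1} => pullback.snd g (S.fromSpecStalk a))).obj U ≅
          (Desc.pullDDFam (f := fun _ : PUnit.{1} => g) (f' := fun _ : PUnit.{1} => pullback.snd g (S.fromSpecStalk a))
        (α := id) (p := (S.fromSpecStalk a)) (p' := fun _ => pullback.fst g (S.fromSpecStalk a)) (fun _ => pullback.condition)).obj D)) := by
  open Groth.Agent.EtRep9 in
  exact (by
    constructor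
    · rintro ⟨U, hU, ⟨I⟩⟩ a
      haveI := hU
      have h := isRep_bc (j := S.fromSpecStalk a) (isRep_of_iso I (isRep_canonical hg U))
      exact ⟨_, inferInstanceAs (Etale (pullback.snd U.hom (S.fromSpecStalk a))), iso_of_isRep h⟩
    · intro H
      choose W ha hW using fun a => (Groth.Agent.S5124.result g hg D a).mpr (H a)
      exact (Groth.Agent.S5123.result g hg D W
        (TopologicalSpace.Opens.ext (Set.eq_univ_of_forall fun x =>
          TopologicalSpace.Opens.mem_iSup.mpr ⟨x, ha x⟩))).mpr hW)
end Groth.Agent.S5125
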