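import Groth.Statements.S5129
import Groth.Agent.H9PiOne.ProperFF
import Groth.Agent.H9PiOne.GeomConnField
import Groth.Agent.Pi1X.GeomConnFF
import Groth.Agent.VarGeom.OpenMap
import Groth.Agent.S0239

set_option linter.style.haveILetI false
set_option backward.isDefEq.respectTransparency false
set_option backward.isDefEq.respectTransparency.types false
-- import your own Groth.Agent.* helpers here

set_option autoImplicit false
universe u
open Pi1
attribute [-instance] CategoryTheory.catToReflQuiver

namespace Groth.Agent.S5129

open AlgebraicGeometry CategoryTheory CategoryTheory.Limits in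
/-- Surjectivity of π₁(X) → π₁(Spec A), in terms of covers. Let A be a complete Noetherian local ring
with residue field k, k̄ an algebraic closure of k, ξ : Spec k̄ ⟶ Spec A the resulting geometric
point, and X a proper A-scheme with X ×_A Spec k̄ connected. Then pulling back finite etale covers
along X ⟶ Spec A is fully faithful. -/
theorem result (A : Type u) [CommRing A]
    [IsNoetherianRing A] [IsLocalRing A] [IsAdicComplete (IsLocalRing.maximalIdeal A) A]
    {X : Scheme.{u}} (f : X ⟶ Spec (CommRingCat.of A)) [IsProper f]
    (ξ : Spec (CommRingCat.of (AlgebraicClosure (IsLocalRing.ResidueField A))) ⟶ Spec (CommRingCat.of A))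
    (hξ : ξ = Spec.map (CommRingCat.ofHom ((algebraMap (IsLocalRing.ResidueField A)
      (AlgebraicClosure (IsLocalRing.ResidueField A))).comp (IsLocalRing.residue A))))
    [ConnectedSpace ↥(pullback f ξ)] :
    (FEt.restrict f).Full ∧ (FEt.restrict f).Faithful := by
  haveI : HenselianRing A (IsLocalRing.maximalIdeal A) := inferInstance
  let r : Spec (CommRingCat.of (IsLocalRing.ResidueField A)) ⟶ Spec (CommRingCat.of A) :=
    Spec.map (CommRingCat.ofHom (IsLocalRing.residue A))
  let s : Spec (CommRingCat.of (AlgebraicClosure (IsLocalRing.ResidueField A))) ⟶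
      Spec (CommRingCat.of (IsLocalRing.ResidueField A)) :=
    Spec.map (CommRingCat.ofHom (algebraMap (IsLocalRing.ResidueField A)
      (AlgebraicClosure (IsLocalRing.ResidueField A))))
  have hsr : s ≫ r = ξ := by
    rw [hξ, ← Spec.map_comp, ← CommRingCat.ofHom_comp]
  let f0 := pullback.snd f r
  haveI : GeometricallyConnected f0 := by
    refine Groth.Agent.H9PiOne.geometricallyConnected_of_bc f0
      (AlgebraicClosure (IsLocalRing.ResidueField A)) ?_
    let e := pullbackLeftPullbackSndIso f r s ≪≫ pullback.congrHom rfl hsr
    haveI : ConnectedSpace ↥(pullback f ξ) := inferInstance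
    exact e.inv.homeomorph.surjective.connectedSpace e.inv.homeomorph.continuous
  haveI : UniversallyOpen f0 := Groth.Agent.VarGeom.universallyOpen_of_field f0
  obtain ⟨h0, h0'⟩ := Groth.Agent.Pi1X.restrict_full_faithful_of_geomConnected f0
  haveI := h0
  haveI := h0'
  obtain ⟨hi, hi'⟩ := Groth.Agent.H9PiOne.restrict_inc_full_faithful (IsLocalRing.maximalIdeal A) f
  haveI : (FEt.restrict (pullback.fst f r)).Full := hi
  haveI : (FEt.restrict (pullback.fst f r)).Faithful := hi'
  haveI : (FEt.restrict r).IsEquivalence := Groth.Agent.S0239.result A (IsLocalRing.maximalIdeal A)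
  let e : FEt.restrict f ⋙ FEt.restrict (pullback.fst f r) ≅ FEt.restrict r ⋙ FEt.restrict f0 :=
    (MorphismProperty.Over.pullbackComp (pullback.fst f r) f (pullback.fst f r ≫ f) rfl).symm ≪≫
      MorphismProperty.Over.pullbackComp f0 r (pullback.fst f r ≫ f) pullback.condition
  haveI hF : (FEt.restrict f).Faithful := Functor.Faithful.of_comp_iso e
  exact ⟨Functor.Full.of_comp_faithful_iso e, hF⟩

end Groth.Agent.S5129
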