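import Groth.Statements.S5131
import Groth.Agent.H9PiOne.SteinForward
import Groth.Agent.H9PiOne.SteinDescend
import Groth.Agent.H9PiOne.TrivCover
import Groth.Agent.SteinLib.General

set_option linter.style.haveILetI false
set_option backward.isDefEq.respectTransparency false
set_option backward.isDefEq.respectTransparency.types false
-- import your own Groth.Agent.* helpers here

set_option autoImplicit false
universe u
open SGA1
attribute [-instance] CategoryTheory.catToReflQuiver

namespace Groth.Agent.S5131

open AlgebraicGeometry CategoryTheory CategoryTheory.Limits in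
/-- Let f : X ⟶ S be a proper morphism of locally Noetherian schemes with f_* O_X = O_S (the maps O_S(U)
→ O_X(f⁻¹U) are bijective), X' a scheme proper over X via g, and X' → S' → S the Stein factorisation
of g ≫ f (S' the normalisation of S in X'), with c : X' ⟶ X ×_S S' the canonical morphism. Let s be
a point of S, s' a point of S' over s, and F'₁ the open and closed part of the fibre X'_s consisting
of the points sent to s' (a connected component of X'_s). Then c is an isomorphism over some open
neighbourhood U' of s' with U' etale over S if and only if X' is etale over X at every point of F'₁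
and F'₁ is a finite etale cover of the fibre X_s which splits completely after base change to an
algebraic closure of k(s). -/
theorem result {X X' S : Scheme.{u}} [IsLocallyNoetherian S]
    [IsLocallyNoetherian X] (f : X ⟶ S) [IsProper f] (hO : ∀ U : S.Opens, Function.Bijective (f.app U).hom)
    (g : X' ⟶ X) [IsProper g]
    (c : X' ⟶ pullback f (g ≫ f).fromNormalization)
    (hc1 : c ≫ pullback.fst f (g ≫ f).fromNormalization = g)
    (hc2 : c ≫ pullback.snd f (g ≫ f).fromNormalization = (g ≫ f).toNormalization)
    (s : S) (s' : ↥((g ≫ f).normalization)) (hs' : (g ≫ f).fromNormalization.base s' = s)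
    (C : (pullback (g ≫ f) (S.fromSpecResidueField s)).Opens)
    (hC : ∀ x : ↥(pullback (g ≫ f) (S.fromSpecResidueField s)),
      x ∈ C ↔ (g ≫ f).toNormalization.base ((pullback.fst (g ≫ f) (S.fromSpecResidueField s)).base x) = s') :
    (∃ U' : ((g ≫ f).normalization).Opens, s' ∈ U' ∧ Etale (U'.ι ≫ (g ≫ f).fromNormalization) ∧
        IsIso (c ∣_ ((pullback.snd f (g ≫ f).fromNormalization) ⁻¹ᵁ U'))) ↔
      ((∀ x : C, (pullback.fst (g ≫ f) (S.fromSpecResidueField s)).base x.1 ∈ Pi1X.etaleLocus g) ∧
        ∃ (hF : IsFinite (C.ι ≫ pullback.map (g ≫ f) (S.fromSpecResidueField s) f (S.fromSpecResidueField s) g (𝟙 _) (𝟙 S)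
        (Category.comp_id _) ((Category.comp_id _).trans (Category.id_comp _).symm)))
          (hE : Etale (C.ι ≫ pullback.map (g ≫ f) (S.fromSpecResidueField s) f (S.fromSpecResidueField s) g (𝟙 _) (𝟙 S)
        (Category.comp_id _) ((Category.comp_id _).trans (Category.id_comp _).symm))),
          Pi1.IsSplit ((FEt.restrict (pullback.fst (pullback.snd f (S.fromSpecResidueField s))
            (Spec.map (CommRingCat.ofHom (algebraMap (S.residueField s) (AlgebraicClosure (S.residueField s))))))).obj
            (MorphismProperty.Over.mk ⊤ (C.ι ≫ pullback.map (g ≫ f) (S.fromSpecResidueField s) f (S.fromSpecResidueField s) g (𝟙 _) (𝟙 S)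
        (Category.comp_id _) ((Category.comp_id _).trans (Category.id_comp _).symm)) ⟨hF, hE⟩))) := by
  haveI hO' : ∀ U : S.Opens, IsIso (f.app U) := fun U => (ConcreteCategory.isIso_iff_bijective _).2 (hO U)
  haveI : GeometricallyConnected f := SteinLib.geometricallyConnected_of_isIso_app f hO'
  generalize hm : pullback.map (g ≫ f) (S.fromSpecResidueField s) f (S.fromSpecResidueField s) g (𝟙 _) (𝟙 S)
    (Category.comp_id _) ((Category.comp_id _).trans (Category.id_comp _).symm) = m
  have e : m = H9PiOne.bcOver f g (S.fromSpecResidueField s) := by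
    rw [← hm]
    refine pullback.hom_ext ?_ ?_
    · simp [H9PiOne.bcOver]
    · simp [H9PiOne.bcOver]
  subst e
  constructor
  · rintro ⟨U', hs'U, hU'et, hU'iso⟩
    haveI := hU'et
    haveI := hU'iso
    have hCf := H9PiOne.fet_fibrePart f g c hc1 hc2 s s' C hC U' hs'U
    refine ⟨fun x => ?_, hCf.1, hCf.2, H9PiOne.isSplit_of_hasSplitting
      (H9PiOne.hasSplitting_fibrePart f g c hc1 hc2 s s' C hC U' hs'U _ hCf)⟩
    refine TopologicalSpace.Opens.mem_sSup.2 ⟨_, H9PiOne.preimage_le_etaleLocus f g c hc1 hc2 U', ?_⟩
    show (c ≫ pullback.snd f (g ≫ f).fromNormalization) (pullback.fst (g ≫ f) (S.fromSpecResidueField s) x.1) ∈ U'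
    rw [hc2, (hC x.1).1 x.2]
    exact hs'U
  · rintro ⟨hW, hF, hE, hsp⟩
    haveI := SteinLib.geometricallyConnected_toNormalization_general (g ≫ f)
    obtain ⟨x', hx'⟩ := (g ≫ f).toNormalization.surjective s'
    obtain ⟨z, hz⟩ : x' ∈ Set.range (pullback.fst (g ≫ f) (S.fromSpecResidueField s)) := by
      rw [Scheme.Pullback.range_fst, Set.mem_preimage, Scheme.range_fromSpecResidueField, Set.mem_singleton_iff, ← hs']
      rw [← hx', ← Scheme.Hom.comp_apply, Scheme.Hom.toNormalization_fromNormalization]
    haveI : Nonempty C := ⟨⟨z, (hC z).2 (by rw [← hx', ← hz])⟩⟩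
    haveI := H9PiOne.etale_etaleLocus g
    obtain ⟨V, v, _, _, O, hOcl, -, _, o, ho, c₀, hc₀⟩ := H9PiOne.exists_nbhd_copy f g (Pi1X.etaleLocus g) s C hW
      ⟨hF, hE⟩ (H9PiOne.hasSplitting_of_isSplit hsp)
    obtain ⟨U', hU', het, hiso⟩ := H9PiOne.exists_open_of_copy f g hO' c hc1 hc2 v O hOcl o ho
    refine ⟨U', ?_, het, hiso⟩
    rw [show s' = (g ≫ f).toNormalization (pullback.fst (g ≫ f) v o) by rw [hc₀]; exact ((hC c₀.1).1 c₀.2).symm]
    exact hU'

end Groth.Agent.S5131
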