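import Groth.Statements.S5138
import Groth.Agent.SrcDescent.Scheme

set_option linter.style.haveILetI false
set_option backward.isDefEq.respectTransparency false
set_option backward.isDefEq.respectTransparency.types false


set_option autoImplicit false
open CategoryTheory AlgebraicGeometry
universe u
open SGA1

namespace Groth.Agent.S5138

/-- For X ⟶ X' ⟶ Y locally of finite type over a locally Noetherian Y and a point x of X, if X ⟶ X' and
the composite X ⟶ Y are both etale near x then X' ⟶ Y is etale near the image of x; 'etale near a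
point' is membership in the etale locus, the union of the opens on which the morphism is etale. (The
published statement takes the morphisms of finite type; quasi-compactness plays no role in this
assertion about single points, so only local finiteness is assumed.) -/
theorem result {X X' Y : Scheme.{u}} (f : X ⟶ X') (g : X' ⟶ Y)
    [IsLocallyNoetherian Y] [LocallyOfFiniteType f] [LocallyOfFiniteType g] (x : X)
    (hf : x ∈ Pi1X.etaleLocus f) (hfg : x ∈ Pi1X.etaleLocus (f ≫ g)) : f.base x ∈ Pi1X.etaleLocus g := by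

  obtain ⟨(U₁ : X.Opens), hU₁, hxU₁⟩ := TopologicalSpace.Opens.mem_sSup.mp hf
  obtain ⟨(U₂ : X.Opens), hU₂, hxU₂⟩ := TopologicalSpace.Opens.mem_sSup.mp hfg
  let U : X.Opens := U₁ ⊓ U₂
  have e1 : Etale (U.ι ≫ f) := by
    have : Etale (U₁.ι ≫ f) := hU₁
    rw [← X.homOfLE_ι (inf_le_left : U ≤ U₁), Category.assoc]
    infer_instance
  have e2 : Etale (U.ι ≫ f ≫ g) := by
    have : Etale (U₂.ι ≫ f ≫ g) := hU₂
    rw [← X.homOfLE_ι (inf_le_right : U ≤ U₂), Category.assoc]
    infer_instance
  let h := U.ι ≫ f
  have hopen : IsOpen (Set.range h.base) := h.isOpenMap.isOpen_range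
  let V : X'.Opens := ⟨Set.range h.base, hopen⟩
  have hsub : Set.range h.base ⊆ Set.range V.ι.base := by rw [Scheme.Opens.range_ι]; rfl
  let k : (U : Scheme.{u}) ⟶ (V : Scheme.{u}) := IsOpenImmersion.lift V.ι h hsub
  have hk : k ≫ V.ι = h := IsOpenImmersion.lift_fac _ _ _
  have : Etale (k ≫ V.ι) := by rw [hk]; exact e1
  have hke : Etale k := Etale.of_comp k V.ι
  have hks : Surjective k := ⟨fun y => by
    obtain ⟨z, hz⟩ := y.2
    refine ⟨z, V.ι.isOpenEmbedding.injective ?_⟩
    rw [← Scheme.Hom.comp_apply, hk]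
    exact hz⟩
  have hV : Etale (V.ι ≫ g) := Groth.Agent.SrcDescent.etale_of_etale_comp k (V.ι ≫ g)
    (by rw [reassoc_of% hk]; simpa [h] using e2)
  exact TopologicalSpace.Opens.mem_sSup.mpr ⟨V, hV, ⟨⟨x, hxU₁, hxU₂⟩, rfl⟩⟩
end Groth.Agent.S5138
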