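import Groth.Statements.S5153
import Groth.Agent.RGammaI.DepthTwoConn
import Groth.Agent.H23.LocNoethTop

set_option autoImplicit false
universe u
open AlgebraicGeometry
open LocCoh

namespace Groth.Agent.S5153

section
open IsLocalRing Topology
variable {X : Scheme.{u}} [IsLocallyNoetherian X]

/-- A point is maximal for generization. -/
def IsGen (g : X) : Prop := ∀ y : X, y ⤳ g → y = g

omit [IsLocallyNoetherian X] in
theorem fromSpecStalk_spec (x : X) (p q : Spec (X.presheaf.stalk x)) :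
    X.fromSpecStalk x p ⤳ X.fromSpecStalk x q ↔ p.asIdeal ≤ q.asIdeal :=
  (X.fromSpecStalk x).isEmbedding.toIsInducing.specializes_iff.trans
    (PrimeSpectrum.le_iff_specializes p q).symm

omit [IsLocallyNoetherian X] in
theorem exists_preimage {x y : X} (h : y ⤳ x) : ∃ p, X.fromSpecStalk x p = y := by
  have : y ∈ Set.range (X.fromSpecStalk x) := by rw [Scheme.range_fromSpecStalk]; exact h
  exact this

omit [IsLocallyNoetherian X] in
theorem specializes_base (x : X) (p : Spec (X.presheaf.stalk x)) : X.fromSpecStalk x p ⤳ x := by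
  have h : X.fromSpecStalk x p ∈ Set.range (X.fromSpecStalk x) := ⟨p, rfl⟩
  rw [Scheme.range_fromSpecStalk] at h
  exact h

omit [IsLocallyNoetherian X] in
theorem isGen_of_minimal (x : X) (p : Spec (X.presheaf.stalk x))
    (hp : p.asIdeal ∈ minimalPrimes (X.presheaf.stalk x)) : IsGen (X.fromSpecStalk x p) := by
  intro y hy
  obtain ⟨r, rfl⟩ := exists_preimage (hy.trans (specializes_base x p))
  have hle := (fromSpecStalk_spec x r p).1 hy
  exact congrArg _ (PrimeSpectrum.ext (le_antisymm hle (hp.2 ⟨r.2, bot_le⟩ hle)))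

omit [IsLocallyNoetherian X] in
theorem exists_minimal_le (x : X) (Q : Spec (X.presheaf.stalk x)) :
    ∃ q : Spec (X.presheaf.stalk x), q.asIdeal ∈ minimalPrimes (X.presheaf.stalk x) ∧ q.asIdeal ≤ Q.asIdeal := by
  obtain ⟨q, hq, hle⟩ := Ideal.exists_minimalPrimes_le (I := ⊥) (J := Q.asIdeal) bot_le
  exact ⟨⟨q, hq.1.1⟩, hq, hle⟩

theorem isGen_mem {U : X.Opens}
    (h : ∀ x : X, x ∉ (U : Set X) → (2 : ℕ∞) ≤ LocCoh.depth (X.presheaf.stalk x) (X.presheaf.stalk x))
    {g : X} (hg : IsGen g) : g ∈ (U : Set X) := by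
  by_contra hgU
  let B := X.presheaf.stalk g
  obtain ⟨h1, -⟩ := Groth.Agent.Alg6.two_le_depth_iff'.1 (h g hgU)
  obtain ⟨x₀, hx₀, hreg⟩ := (Groth.Agent.Alg6.exists_isSMulRegular_mem_iff (M := B) (maximalIdeal B)).2
    fun Q hQ hle => h1 ((maximalIdeal.isMaximal B).eq_of_le (Groth.Agent.Alg6.mem_ass_iff.1 hQ).1.ne_top hle ▸ hQ)
  obtain ⟨n, hn⟩ : IsNilpotent x₀ := by
    rw [nilpotent_iff_mem_prime]
    intro Q hQ
    have : X.fromSpecStalk g ⟨Q, hQ⟩ = X.fromSpecStalk g (closedPoint B) :=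
      (hg _ (specializes_base g _)).trans Scheme.fromSpecStalk_closedPoint.symm
    have h2 : (⟨Q, hQ⟩ : Spec B) = closedPoint B := (X.fromSpecStalk g).isEmbedding.injective this
    have h3 : Q = maximalIdeal B := congrArg PrimeSpectrum.asIdeal h2
    exact h3 ▸ hx₀
  exact one_ne_zero (hreg.pow n (show x₀ ^ n • (1 : B) = x₀ ^ n • (0 : B) by
    rw [smul_zero, hn, zero_smul]))

theorem exists_specializes_of_mem_closure {O : Set X} (hO : IsOpen O) {x : X} (hx : x ∈ closure O) :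
    ∃ g ∈ O, IsGen g ∧ g ⤳ x := by
  obtain ⟨_, ⟨V, hV, rfl⟩, hxV, -⟩ := X.isBasis_affineOpens.exists_subset_of_mem_open (Set.mem_univ x) isOpen_univ
  haveI : IsNoetherianRing Γ(X, V) := IsLocallyNoetherian.component_noetherian ⟨V, hV⟩
  let G : Set X := {g | IsGen g ∧ g ∈ O ∧ g ∈ (V : Set X)}
  have hfin : G.Finite := by
    have hm : {p : PrimeSpectrum Γ(X, V) | p.asIdeal ∈ minimalPrimes Γ(X, V)}.Finite :=
      (minimalPrimes.finite_of_isNoetherianRing Γ(X, V)).preimage (fun p _ q _ e => PrimeSpectrum.ext e)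
    refine (hm.image hV.fromSpec).subset ?_
    rintro g ⟨hg, -, hgV⟩
    rw [← hV.range_fromSpec] at hgV
    obtain ⟨p, rfl⟩ := hgV
    obtain ⟨q, hq, hle⟩ := Ideal.exists_minimalPrimes_le (I := ⊥) (J := p.asIdeal) bot_le
    let q' : PrimeSpectrum Γ(X, V) := ⟨q, hq.1.1⟩
    have e : q' = p := hV.fromSpec.isOpenEmbedding.injective
      (hg _ (((PrimeSpectrum.le_iff_specializes q' p).1 hle).map hV.fromSpec.continuous))
    exact ⟨p, show p.asIdeal ∈ minimalPrimes Γ(X, V) from e ▸ hq, rfl⟩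
  have hsub : O ∩ (V : Set X) ⊆ ⋃ g ∈ G, closure {g} := by
    rintro p ⟨hpO, hpV⟩
    obtain ⟨q, hq, hle⟩ := exists_minimal_le p (closedPoint _)
    have hgp : X.fromSpecStalk p q ⤳ p := specializes_base p q
    exact Set.mem_biUnion ⟨isGen_of_minimal p q hq, hgp.mem_open hO hpO, hgp.mem_open V.2 hpV⟩
      (specializes_iff_mem_closure.1 hgp)
  have hcl : IsClosed (⋃ g ∈ G, closure {g}) := hfin.isClosed_biUnion fun _ _ => isClosed_closure
  have hx' : x ∈ closure (O ∩ (V : Set X)) := by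
    refine mem_closure_iff.2 fun o ho hxo => ?_
    obtain ⟨z, hz, hzO⟩ := mem_closure_iff.1 hx (o ∩ (V : Set X)) (ho.inter V.2) ⟨hxo, hxV⟩
    exact ⟨z, hz.1, hzO, hz.2⟩
  obtain ⟨g, hg, hgx⟩ := Set.mem_iUnion₂.1 ((hcl.closure_subset_iff.2 hsub) hx')
  exact ⟨g, hg.2.1, hg.1, specializes_iff_mem_closure.2 hgx⟩

theorem disjoint_closures {U : X.Opens}
    (h : ∀ x : X, x ∉ (U : Set X) → (2 : ℕ∞) ≤ LocCoh.depth (X.presheaf.stalk x) (X.presheaf.stalk x))
    {W W' : Set X} (hW : IsOpen W) (hW' : IsOpen W') (hd : Disjoint W W') (hU : W ∪ W' = (U : Set X)) :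
    Disjoint (closure W) (closure W') := by
  rw [Set.disjoint_left]
  intro z₁ hz hz'
  let F : Set (Spec (X.presheaf.stalk z₁)) :=
    {p | X.fromSpecStalk z₁ p ∈ closure W ∧ X.fromSpecStalk z₁ p ∈ closure W'}
  obtain ⟨p₀, hp₀, hmin⟩ : ∃ p₀ ∈ F, ∀ p ∈ F, p.asIdeal ≤ p₀.asIdeal → p = p₀ := by
    let ht : Spec (X.presheaf.stalk z₁) → ℕ := fun p => p.asIdeal.height.toNat
    have hne : F.Nonempty := ⟨closedPoint _, by
      show X.fromSpecStalk z₁ _ ∈ closure W ∧ X.fromSpecStalk z₁ _ ∈ closure W'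
      rw [Scheme.fromSpecStalk_closedPoint]; exact ⟨hz, hz'⟩⟩
    obtain ⟨p₀, hp₀, hmin⟩ : ∃ p₀ ∈ F, ∀ p ∈ F, ¬ ht p < ht p₀ :=
      ⟨_, Function.argminOn_mem ht F hne, fun p hp => Function.not_lt_argminOn ht F hp⟩
    refine ⟨p₀, hp₀, fun p hp hle => PrimeSpectrum.ext (hle.eq_or_lt.resolve_right fun hlt => hmin p hp ?_)⟩
    have hh := Ideal.height_strict_mono_of_isPrime hlt
    rw [← ENat.natCast_lt_natCast, ENat.coe_toNat (Ideal.height_ne_top p.2.ne_top),
      ENat.coe_toNat (Ideal.height_ne_top p₀.2.ne_top)]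
    exact hh
  let z := X.fromSpecStalk z₁ p₀
  have hzU : z ∉ (U : Set X) := by
    rw [← hU]
    rintro (hzW | hzW)
    · exact (hd.closure_right hW).le_bot ⟨hzW, hp₀.2⟩
    · exact (hd.closure_left hW').le_bot ⟨hp₀.1, hzW⟩
  let B := X.presheaf.stalk z
  let f := X.fromSpecStalk z
  have hnot : ∀ Q : Spec B, f Q ∈ closure W → f Q ∈ closure W' → Q = closedPoint B := by
    intro Q h1 h2
    obtain ⟨p, hp⟩ := exists_preimage ((specializes_base z Q).trans (specializes_base z₁ p₀))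
    have hle : p.asIdeal ≤ p₀.asIdeal := (fromSpecStalk_spec z₁ p p₀).1 (hp ▸ specializes_base z Q)
    have hpF : p ∈ F := by
      show X.fromSpecStalk z₁ p ∈ closure W ∧ X.fromSpecStalk z₁ p ∈ closure W'
      rw [hp]; exact ⟨h1, h2⟩
    exact f.isEmbedding.injective ((hp.symm.trans (congrArg _ (hmin p hpF hle))).trans
      Scheme.fromSpecStalk_closedPoint.symm)
  let S : Set (Ideal B) := {q | ∃ hq : q ∈ minimalPrimes B, f ⟨q, hq.1.1⟩ ∈ W}
  let S' : Set (Ideal B) := {q | ∃ hq : q ∈ minimalPrimes B, f ⟨q, hq.1.1⟩ ∈ W'}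
  obtain ⟨a, ha, ha'⟩ := Groth.Agent.RGammaI.exists_ideal_of_finite_primes S
    ((minimalPrimes.finite_of_isNoetherianRing B).subset fun q hq => hq.1)
  obtain ⟨b, hb, hb'⟩ := Groth.Agent.RGammaI.exists_ideal_of_finite_primes S'
    ((minimalPrimes.finite_of_isNoetherianRing B).subset fun q hq => hq.1)
  have hne : ∀ O : Set X, IsOpen O → z ∈ closure O → ∃ q, ∃ hq : q ∈ minimalPrimes B, f ⟨q, hq.1.1⟩ ∈ O := by
    intro O hO hzO
    obtain ⟨g, hgO, -, hgz⟩ := exists_specializes_of_mem_closure hO hzO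
    obtain ⟨Q, hQ⟩ := exists_preimage hgz
    obtain ⟨q, hq, hle⟩ := exists_minimal_le z Q
    refine ⟨q.asIdeal, hq, ((fromSpecStalk_spec z q Q).2 hle).mem_open hO ?_⟩
    rw [hQ]; exact hgO
  have hsplit : ∀ q ∈ minimalPrimes B, q ∈ S ∨ q ∈ S' := fun q hq => by
    have : f ⟨q, hq.1.1⟩ ∈ W ∪ W' := hU ▸ isGen_mem h (isGen_of_minimal z ⟨q, hq.1.1⟩ hq)
    exact this.imp (fun h => ⟨hq, h⟩) (fun h => ⟨hq, h⟩)
  have hab : a * b ≤ nilradical B := by
    rw [nilradical_eq_sInf]
    refine le_sInf fun Q hQ => ?_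
    obtain ⟨q, hq, hle⟩ := exists_minimal_le z ⟨Q, hQ⟩
    rcases hsplit q.asIdeal hq with h | h
    · exact Ideal.mul_le_left.trans ((ha _ h).trans hle) 
    · exact Ideal.mul_le_right.trans ((hb _ h).trans hle)
  obtain ⟨N, hN⟩ := Ideal.FG.isNilpotent_iff_le_nilradical (IsNoetherian.noetherian (a * b)) |>.2 hab
  obtain ⟨qW, hqW⟩ := hne W hW hp₀.1
  obtain ⟨qW', hqW'⟩ := hne W' hW' hp₀.2
  have hN' : (a * b) ^ (N + 1) = ⊥ := by rw [pow_succ, hN]; simp
  have hmax : a ⊔ b ≤ maximalIdeal B :=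
    sup_le ((ha qW hqW).trans (le_maximalIdeal hqW.choose.1.1.ne_top))
      ((hb qW' hqW').trans (le_maximalIdeal hqW'.choose.1.1.ne_top))
  have hrad : maximalIdeal B ≤ (a ^ (N + 1) ⊔ b ^ (N + 1)).radical := by
    rw [Ideal.radical_eq_sInf]
    refine le_sInf fun Q hQ => ?_
    have hQp : Q.IsPrime := hQ.2
    have ha1 : a ≤ Q := (hQp.pow_le_iff (Nat.succ_ne_zero N)).1 (le_sup_left.trans hQ.1)
    have hb1 : b ≤ Q := (hQp.pow_le_iff (Nat.succ_ne_zero N)).1 (le_sup_right.trans hQ.1)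
    obtain ⟨q, hq, hqQ⟩ := ha' Q hQp ha1
    obtain ⟨q', hq', hqQ'⟩ := hb' Q hQp hb1
    obtain ⟨hq, hqW⟩ := hq
    obtain ⟨hq', hqW'⟩ := hq'
    have := hnot ⟨Q, hQp⟩
      (closure_mono (Set.singleton_subset_iff.2 hqW)
        (specializes_iff_mem_closure.1 ((fromSpecStalk_spec z ⟨q, hq.1.1⟩ ⟨Q, hQp⟩).2 hqQ)))
      (closure_mono (Set.singleton_subset_iff.2 hqW')
        (specializes_iff_mem_closure.1 ((fromSpecStalk_spec z ⟨q', hq'.1.1⟩ ⟨Q, hQp⟩).2 hqQ')))
    exact (congrArg PrimeSpectrum.asIdeal this).ge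
  have key : ∀ (T T' : Set (Ideal B)) (c : Ideal B), (∀ Q : Ideal B, Q.IsPrime → c ≤ Q → ∃ q ∈ T, q ≤ Q) →
      (∀ q ∈ T, q ∈ minimalPrimes B) → ∀ q' ∈ minimalPrimes B, c ^ (N + 1) = ⊥ → q' ∈ T := by
    intro T T' c hc hT q' hq' h0
    obtain ⟨q, hq, hle⟩ := hc q' hq'.1.1 ((hq'.1.1.pow_le_iff (Nat.succ_ne_zero N)).1 (h0 ▸ bot_le))
    exact le_antisymm (hq'.2 ⟨(hT q hq).1.1, bot_le⟩ hle) hle ▸ hq
  rcases Groth.Agent.RGammaI.eq_bot_or_eq_bot_of_two_le_depth (h z hzU) (a ^ (N + 1)) (b ^ (N + 1))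
      (by rw [← mul_pow, hN']) ((sup_le_sup (Ideal.pow_le_self (Nat.succ_ne_zero N))
        (Ideal.pow_le_self (Nat.succ_ne_zero N))).trans hmax) hrad with h0 | h0
  · exact hd.le_bot ⟨(key S S' a ha' (fun q hq => hq.1) qW' hqW'.choose h0).choose_spec, hqW'.choose_spec⟩
  · exact hd.le_bot ⟨hqW.choose_spec, (key S' S b hb' (fun q hq => hq.1) qW hqW.choose h0).choose_spec⟩

end


/-- Let X be a locally Noetherian scheme and Y = X − U a closed subset such that depth O_{X,x} ≥ 2 for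
every x ∈ Y. Then the inclusion U → X induces a bijection on sets of connected components. -/
theorem result (X : Scheme.{u}) [IsLocallyNoetherian X] (U : X.Opens) (h : ∀ x : X, x ∉ (U : Set X) → (2 : ℕ∞) ≤ LocCoh.depth (X.presheaf.stalk x) (X.presheaf.stalk x)) : Function.Bijective (Continuous.connectedComponentsMap (continuous_subtype_val : Continuous (fun x : U => (x : X)))) := by
  haveI hlc : LocallyConnectedSpace U := by
    haveI : IsLocallyNoetherian U.toScheme := isLocallyNoetherian_of_isOpenImmersion U.ι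
    exact Groth.Agent.H23.LocNoethTop.locallyConnectedSpace (X := U.toScheme) fun y => by
      obtain ⟨_, ⟨V, hV, rfl⟩, hyV, -⟩ :=
        U.toScheme.isBasis_affineOpens.exists_subset_of_mem_open (Set.mem_univ y) isOpen_univ
      haveI : IsNoetherianRing Γ(U.toScheme, V) := IsLocallyNoetherian.component_noetherian ⟨V, hV⟩
      exact ⟨V, V.2.mem_nhds hyV, noetherianSpace_of_isAffineOpen V hV⟩
  constructor
  · intro c c'
    obtain ⟨x, rfl⟩ := ConnectedComponents.surjective_coe c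
    obtain ⟨y, rfl⟩ := ConnectedComponents.surjective_coe c'
    intro hxy
    change (ConnectedComponents.mk (x : X)) = ConnectedComponents.mk (y : X) at hxy
    rw [ConnectedComponents.coe_eq_coe] at hxy
    rw [ConnectedComponents.coe_eq_coe']
    let S : Set U := connectedComponent y
    have hS : IsClopen S := ⟨isClosed_connectedComponent, isOpen_connectedComponent⟩
    let W : Set X := Subtype.val '' S
    let W' : Set X := Subtype.val '' Sᶜ
    have hW : IsOpen W := U.2.isOpenMap_subtype_val _ hS.2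
    have hW' : IsOpen W' := U.2.isOpenMap_subtype_val _ hS.1.isOpen_compl
    have hd : Disjoint W W' := Set.disjoint_image_of_injective Subtype.val_injective disjoint_compl_right
    have hU : W ∪ W' = (U : Set X) := by
      ext z
      constructor
      · rintro (⟨w, -, rfl⟩ | ⟨w, -, rfl⟩) <;> exact w.2
      · intro hz
        by_cases hzS : (⟨z, hz⟩ : U) ∈ S
        · exact Or.inl ⟨_, hzS, rfl⟩
        · exact Or.inr ⟨_, hzS, rfl⟩
    have hdisj := disjoint_closures h hW hW' hd hU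
    have hcov : closure W ∪ closure W' = Set.univ := by
      refine Set.eq_univ_of_forall fun z => ?_
      obtain ⟨q, hq, -⟩ := exists_minimal_le z (IsLocalRing.closedPoint _)
      have hz := specializes_base z q
      have hg : X.fromSpecStalk z q ∈ W ∪ W' := hU ▸ isGen_mem h (isGen_of_minimal z q hq)
      exact hg.imp (fun hg => closure_mono (Set.singleton_subset_iff.2 hg) (specializes_iff_mem_closure.1 hz))
        (fun hg => closure_mono (Set.singleton_subset_iff.2 hg) (specializes_iff_mem_closure.1 hz))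
    have hclop : IsClopen (closure W) := by
      refine ⟨isClosed_closure, ?_⟩
      have : closure W = (closure W')ᶜ := by
        ext z
        exact ⟨fun hz => Set.disjoint_left.1 hdisj hz,
          fun hz => (hcov.ge (Set.mem_univ z)).resolve_right hz⟩
      rw [this]; exact isClosed_closure.isOpen_compl
    have hy : (y : X) ∈ closure W := subset_closure ⟨y, mem_connectedComponent, rfl⟩
    have hx : (x : X) ∈ closure W := hclop.connectedComponent_subset hy (hxy ▸ mem_connectedComponent)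
    by_contra hxS
    exact Set.disjoint_left.1 hdisj hx (subset_closure ⟨x, hxS, rfl⟩)
  · intro c
    obtain ⟨z, rfl⟩ := ConnectedComponents.surjective_coe c
    obtain ⟨q, hq, -⟩ := exists_minimal_le z (IsLocalRing.closedPoint _)
    have hz := specializes_base z q
    refine ⟨ConnectedComponents.mk (⟨_, isGen_mem h (isGen_of_minimal z q hq)⟩ : U), ?_⟩
    change ConnectedComponents.mk (X.fromSpecStalk z q) = ConnectedComponents.mk z
    rw [eq_comm, ConnectedComponents.coe_eq_coe']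
    exact closure_minimal (Set.singleton_subset_iff.2 mem_connectedComponent) isClosed_connectedComponent
      (specializes_iff_mem_closure.1 hz)

end Groth.Agent.S5153
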