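import Groth.Statements.S5159
import Groth.Agent.LC.ExtSmallSupport
import Groth.Agent.LC.ExtBridge
import Groth.Agent.LC.Matlis
-- import your own Groth.Agent.* helpers here

set_option autoImplicit false
universe u
open CategoryTheory Opposite
open Dual

namespace Groth.Agent.S5159

/-- Let A be a regular local ring of dimension n and M an A-module of finite length. Then Ext^i_A(M, A)
= 0 for i ≠ n and length Ext^n_A(M, A) = length M (the functor Ext^n_A(−, A) is dualizing). -/
theorem result (A : Type u) [CommRing A] [IsRegularLocalRing A] (n : ℕ) (hn : ringKrullDim A = n) (M : Type u) [AddCommGroup M] [Module A M] (hM : IsFiniteLength A M) : (∀ i : ℕ, i ≠ n → Subsingleton (((Ext A (ModuleCat.{u} A) i).obj (op (ModuleCat.of A M))).obj (ModuleCat.of A A))) ∧ Module.length A (((Ext A (ModuleCat.{u} A) n).obj (op (ModuleCat.of A M))).obj (ModuleCat.of A A)) = Module.length A M := by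
  haveI := Groth.Agent.LC.gorenstein_of_isRegularLocalRing (R := A)
  haveI : IsNoetherianRing A := inferInstance
  obtain ⟨d, hd, hδ, hv⟩ := Groth.Agent.LC.gorenstein_basic (R := A)
  obtain rfl : n = d := by rw [hn] at hd; exact_mod_cast hd
  obtain ⟨hN, hA⟩ := isFiniteLength_iff_isNoetherian_isArtinian.1 hM
  haveI := hN
  haveI := hA
  let m := IsLocalRing.maximalIdeal A
  obtain ⟨k, hk⟩ : ∃ k : ℕ, m ^ k • (⊤ : Submodule A M) = ⊥ := by
    let c : ℕ →o (Submodule A M)ᵒᵈ := ⟨fun k => OrderDual.toDual (m ^ k • (⊤ : Submodule A M)),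
      fun a b hab => Submodule.smul_mono_left (Ideal.pow_le_pow_right hab)⟩
    obtain ⟨k, hk⟩ := IsArtinian.monotone_stabilizes c
    refine ⟨k, Submodule.eq_bot_of_le_smul_of_le_jacobson_bot m _ (IsNoetherian.noetherian _) ?_
      (IsLocalRing.maximalIdeal_le_jacobson _)⟩
    rw [← Submodule.mul_smul, ← pow_succ']
    exact (congrArg OrderDual.ofDual (hk (k + 1) (Nat.le_succ k))).le
  have hkill : ∀ a ∈ m ^ k, ∀ z : M, a • z = 0 := fun a ha z => by
    have := Submodule.smul_mem_smul ha (Submodule.mem_top (x := z))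
    rwa [hk, Submodule.mem_bot] at this
  have hpt : LocCoh.IsPowerTorsion m M := fun z => ⟨k, fun a ha => hkill a ha z⟩
  have hdim : Module.supportDim A M + n ≤ ringKrullDim A := by
    rw [hn]
    have h0 : Module.supportDim A M ≤ 0 := by
      haveI : Subsingleton ↥(Module.support A M) := ⟨fun P Q => Subtype.ext (PrimeSpectrum.ext (by
        have h : ∀ R : ↥(Module.support A M), R.1.asIdeal = m := fun R => by
          have hR := R.2
          simp only [Module.support_eq_zeroLocus, PrimeSpectrum.mem_zeroLocus] at hR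
          have h1 : m ^ k ≤ R.1.asIdeal := fun a ha => hR (Module.mem_annihilator.2 (hkill a ha))
          exact le_antisymm (IsLocalRing.le_maximalIdeal R.1.isPrime.ne_top) (Ideal.IsPrime.le_of_pow_le h1)
        rw [h P, h Q]))⟩
      exact Order.krullDim_nonpos_of_subsingleton
    calc Module.supportDim A M + n ≤ 0 + n := by gcongr
      _ = _ := zero_add _
  have hb : ∀ i, Nonempty ((((Ext A (ModuleCat.{u} A) i).obj (op (ModuleCat.of A M))).obj (ModuleCat.of A A)) ≃ₗ[A]
      Abelian.Ext (ModuleCat.of A M) (ModuleCat.of A A) i) := fun i =>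
    ⟨Groth.Agent.LC.ExtBridge.bridge (CategoryTheory.projectiveResolution (ModuleCat.of A M)) (ModuleCat.of A A) i⟩
  refine ⟨fun i hi => ?_, ?_⟩
  · obtain ⟨b⟩ := hb i
    rcases lt_or_gt_of_ne hi with h | h
    · haveI := Groth.Agent.LC.subsingleton_ext_of_supportDim_add_le A M n hdim i h
      exact b.toEquiv.subsingleton
    · haveI := hv M i h
      exact b.toEquiv.subsingleton
  · obtain ⟨b⟩ := hb n
    obtain ⟨e⟩ := Groth.Agent.LC.nonempty_ext_linearEquiv_hom (Groth.Agent.LC.prevVanish_gorenstein hδ) M hpt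
    obtain ⟨g, hg⟩ := Groth.Agent.LC.isInjectiveHull_H_gorenstein (R := A) hn
    rw [(b.trans e).length_eq]
    exact Groth.Agent.LC.length_dual hg M hM


end Groth.Agent.S5159
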