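import Groth.Statements.S5178
import Groth.Agent.H4Alg.Deficiency
import Groth.Agent.CILib.Basic
import Groth.Agent.CotTLib.CI

set_option linter.style.haveILetI false

set_option autoImplicit false
universe u
open CInt

namespace Groth.Agent.S5178
open IsLocalRing RingTheory.Sequence

/-- Let A be a Noetherian local ring of dimension d, and let the completion of A be presented as B/I
with B a regular local ring of dimension e and I an ideal whose minimal number of generators is q,
so that e − q is the geometric depth of A (this number does not depend on the presentation). Then e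
− q ≤ d, and equality holds if and only if A is a complete intersection, i.e. its completion is a
regular local ring modulo an ideal generated by a regular sequence. -/
theorem result (A : Type u) [CommRing A] [IsLocalRing A] [IsNoetherianRing A] (B : Type u) [CommRing B] [IsRegularLocalRing B] (I : Ideal B) (hpres : Nonempty (AdicCompletion (IsLocalRing.maximalIdeal A) A ≃+* B ⧸ I)) (d e : ℕ) (hd : ringKrullDim A = (d : WithBot ℕ∞)) (he : ringKrullDim B = (e : WithBot ℕ∞)) : (e : ℤ) - (I.spanFinrank : ℤ) ≤ (d : ℤ) ∧ ((e : ℤ) - (I.spanFinrank : ℤ) = (d : ℤ) ↔ Pi1.IsCompleteIntersection A) := by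
  obtain ⟨φ⟩ := hpres
  have hdq : ringKrullDim (B ⧸ I) = (d : WithBot ℕ∞) := by
    rw [← ringKrullDim_eq_of_ringEquiv φ, CILib.ringKrullDim_adicCompletion, hd]
  haveI : Nontrivial (B ⧸ I) := φ.symm.toEquiv.nontrivial
  haveI : IsLocalRing (B ⧸ I) := IsLocalRing.of_surjective' (Ideal.Quotient.mk I) Ideal.Quotient.mk_surjective
  have hIm : I ≤ maximalIdeal B := le_maximalIdeal (Ideal.Quotient.nontrivial_iff.1 inferInstance)
  have hle : e ≤ d + I.spanFinrank := by
    have h := ringKrullDim_le_ringKrullDim_quotient_add_spanFinrank I (hIm.trans_eq (IsLocalRing.ringJacobson_eq_maximalIdeal B).symm)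
    rw [he, hdq] at h
    exact_mod_cast h
  refine ⟨by omega, fun heq => ?_, fun hci => ?_⟩
  · obtain ⟨X, hX⟩ := H4Alg.Deficiency.exists_gens I
    have hI : Ideal.ofList (List.ofFn X) = I := (CAlgGlobalDim.ofList_ofFn X).trans hX
    have hmem : ∀ r ∈ List.ofFn X, r ∈ maximalIdeal B := fun r hr =>
      hIm (hI.le (Ideal.subset_span hr))
    have hw : IsWeaklyRegular B (List.ofFn X) := by
      refine CotTLib.isWeaklyRegular_of_dim _ hmem ?_
      rw [ringKrullDim_eq_of_ringEquiv (Ideal.quotEquivOfEq hI), hdq, he, List.length_ofFn]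
      exact_mod_cast (by omega : I.spanFinrank + d = e)
    refine ⟨B, inferInstance, inferInstance, List.ofFn X, hmem, ⟨hw, ?_⟩, ⟨φ.trans (Ideal.quotEquivOfEq hI.symm)⟩⟩
    rw [smul_eq_mul, Ideal.mul_top, hI]
    exact fun h => (maximalIdeal.isMaximal B).ne_top (top_le_iff.1 (h ▸ hIm))
  · obtain ⟨B', _, _, rs, -, hreg, ⟨ψ⟩⟩ := hci
    obtain ⟨e', he'⟩ : ∃ n : ℕ, ringKrullDim B' = n :=
      ⟨_, ((isRegularLocalRing_iff B').1 inferInstance).symm⟩
    let f' : B' →+* B ⧸ I := (φ.toRingHom.comp ψ.symm.toRingHom).comp (Ideal.Quotient.mk (Ideal.ofList rs))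
    have hf' : Function.Surjective f' := (φ.surjective.comp ψ.symm.surjective).comp Ideal.Quotient.mk_surjective
    have hker : RingHom.ker f' = Ideal.ofList rs := by
      ext z
      simp [f', RingHom.mem_ker, Ideal.Quotient.eq_zero_iff_mem]
    have hdef := H4Alg.Deficiency.deficiency_eq (Ideal.Quotient.mk I) Ideal.Quotient.mk_surjective f' hf'
    rw [Ideal.mk_ker, hker, CAlgGlobalDim.spanFinrank_eq_of_dim B e he,
      CAlgGlobalDim.spanFinrank_eq_of_dim B' e' he'] at hdef
    have h1 : (Ideal.ofList rs).spanFinrank ≤ rs.length := by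
      refine H4Alg.Deficiency.spanFinrank_le_of_range rs.get ?_
      rw [Set.range_list_get]
    have h2 := ringKrullDim_add_length_eq_ringKrullDim_of_isRegular rs hreg
    rw [show ringKrullDim (B' ⧸ Ideal.ofList rs) = (d : WithBot ℕ∞) from
      (ringKrullDim_eq_of_ringEquiv (ψ.symm.trans φ)).trans hdq, he'] at h2
    have h3 : d + rs.length = e' := by exact_mod_cast h2
    omega

end Groth.Agent.S5178
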