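import Groth.Statements.S5183
import Groth.Agent.H9Lef.PurePair
import Groth.Agent.H9Lef.Dualizing
import Groth.Agent.S11179
import Groth.Agent.S0342
import Groth.Agent.KFlatLib.Ring.DualizingFibreRows
import Groth.Agent.LC.TopDim3
import Groth.Agent.LC.ExtDim
import Groth.Agent.LC.Connected
import Groth.Agent.FlatLoc6.SerreNormal
import Groth.Agent.Alg6.AssDepth

set_option linter.style.haveILetI false
set_option backward.isDefEq.respectTransparency false
set_option backward.isDefEq.respectTransparency.types false
-- import your own Groth.Agent.* helpers here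

set_option autoImplicit false
universe u
open CategoryTheory CategoryTheory.Limits AlgebraicGeometry
open Pi1
attribute [-instance] CategoryTheory.catToReflQuiver

namespace Groth.Agent.S5183

/-- Let A be a Noetherian local ring which is a quotient of a regular local ring, t an A-regular element
of the maximal ideal such that A is separated and complete for the (t)-adic topology, and assume
depth A_p ≥ 2 for every prime ideal p with dim A/p = 1. If B = A/tA is pure, i.e. the pair (Spec B,
closed point) is pure: for every open V of Spec B restriction of finite étale covers from V to V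
minus the closed point is an equivalence of categories, then A is pure. -/
theorem result (A : Type u) [CommRing A] [IsLocalRing A] [IsNoetherianRing A] (hq : ∃ (B : Type u) (_ : CommRing B) (_ : IsRegularLocalRing B) (φ : B →+* A), Function.Surjective φ) (t : A) (ht : t ∈ IsLocalRing.maximalIdeal A) (hreg : IsSMulRegular A t) [IsAdicComplete (Ideal.span {t}) A] (hdepth : ∀ p : Ideal A, ∀ _ : p.IsPrime, ringKrullDim (A ⧸ p) = 1 → (2 : ℕ∞) ≤ LocCoh.depth (Localization.AtPrime p) (Localization.AtPrime p)) [IsLocalRing (A ⧸ Ideal.span {t})] (hB : SGA2.IsPurePair (Spec (CommRingCat.of (A ⧸ Ideal.span {t}))) (FEt.puncturedSpec (A ⧸ Ideal.span {t}))) : SGA2.IsPurePair (Spec (CommRingCat.of A)) (FEt.puncturedSpec A) := by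
  obtain ⟨B, _, _, φ, hφ⟩ := hq
  obtain ⟨ω, hω⟩ := KFlatLib.exists_isDualizing_of_surjective φ hφ
    ((S11179.result B).1 (S0342.result B))
  have key : ∀ p : Ideal A, ∀ _ : p.IsPrime, t ∉ p → (2 : WithBot ℕ∞) <
      (LocCoh.depth (Localization.AtPrime p) (Localization.AtPrime p) : WithBot ℕ∞) + ringKrullDim (A ⧸ p) := by
    intro p hp htp
    have hpne : p ≠ ⊤ := hp.ne_top
    obtain ⟨d, hd⟩ := LC.exists_dim_quot (I := p) hpne
    let P : PrimeSpectrum A := ⟨p, hp⟩
    have hdP : (Order.coheight P : WithBot ℕ∞) = d := (LC.coheight_eq_ringKrullDim_quotient P).trans hd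
    rw [hd]
    have hd0 : 0 < d := by
      by_contra hd0
      have h0 : Order.coheight P = 0 := by
        have : d = 0 := by omega
        rw [this] at hdP
        exact_mod_cast hdP
      have hP : P = IsLocalRing.closedPoint A := by
        by_contra hne
        have hlt : P < IsLocalRing.closedPoint A :=
          lt_of_le_of_ne (IsLocalRing.le_maximalIdeal hp.ne_top : P ≤ IsLocalRing.closedPoint A) hne
        exact absurd (Order.coheight_eq_zero.1 h0 hlt.le) (not_le_of_gt hlt)
      have e : p = IsLocalRing.maximalIdeal A := congrArg PrimeSpectrum.asIdeal hP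
      exact htp (e ▸ ht)
    rcases eq_or_ne d 1 with rfl | hd1
    · have := hdepth p hp hd
      calc (2 : WithBot ℕ∞) < ((2 : ℕ∞) : WithBot ℕ∞) + ((1 : ℕ) : WithBot ℕ∞) := by decide
        _ ≤ _ := by gcongr; exact WithBot.coe_le_coe.2 this
    rcases eq_or_ne d 2 with rfl | hd2
    · suffices h1 : (1 : ℕ∞) ≤ LocCoh.depth (Localization.AtPrime p) (Localization.AtPrime p) by
        calc (2 : WithBot ℕ∞) < ((1 : ℕ∞) : WithBot ℕ∞) + ((2 : ℕ) : WithBot ℕ∞) := by decide
          _ ≤ _ := by gcongr; exact WithBot.coe_le_coe.2 h1
      rw [← FlatLoc6.depth_self_atPrime, Alg6.one_le_depth_atPrime_iff]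
      intro hass
      obtain ⟨q, hpq, hq1⟩ := LC.exists_prime_dim_one (I := p) (by rw [hd]; decide)
      have hq2 := hdepth q.asIdeal q.isPrime hq1
      have hPq : P < q := lt_of_le_of_ne hpq fun h => by
        rw [← h] at hq1
        exact absurd (hd.symm.trans hq1) (by decide)
      have hqc : (Order.coheight q : WithBot ℕ∞) = 1 := (LC.coheight_eq_ringKrullDim_quotient q).trans hq1
      have hdisj : Disjoint (q.asIdeal.primeCompl : Set A) p :=
        Set.disjoint_left.2 fun x hx hxp => hx (hpq hxp)
      let R' := Localization.AtPrime q.asIdeal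
      let Q' : PrimeSpectrum R' := ⟨p.map (algebraMap A R'), IsLocalization.isPrime_of_isPrime_disjoint _ R' p hp hdisj⟩
      have hQ'c : Q'.asIdeal.comap (algebraMap A R') = p := IsLocalization.comap_map_of_isPrime_disjoint _ R' hp hdisj
      have hass' : Q'.asIdeal ∈ associatedPrimes R' R' :=
        Module.associatedPrimes.mem_associatedPrimes_of_comap_mem_associatedPrimes_of_isLocalizedModule
          q.asIdeal.primeCompl (Algebra.linearMap A R') Q'.asIdeal (by rw [hQ'c]; exact hass)
      have hle : Order.coheight Q' ≤ 1 := (Order.coheight_le_coe_iff (n := 1)).2 fun y hy => by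
        let r : PrimeSpectrum A := ⟨y.asIdeal.comap (algebraMap A R'), inferInstance⟩
        have hPr : P < r := by
          refine lt_of_le_of_ne (hQ'c.symm.le.trans (Ideal.comap_mono hy.le)) fun h => hy.ne ?_
          refine PrimeSpectrum.ext ?_
          rw [← IsLocalization.map_comap q.asIdeal.primeCompl R' y.asIdeal]
          exact congrArg (Ideal.map (algebraMap A R')) (congrArg PrimeSpectrum.asIdeal h)
        have hrq : r ≤ q := fun x hx => by
          by_contra hxq
          exact y.isPrime.ne_top (Ideal.eq_top_of_isUnit_mem _ hx (IsLocalization.map_units R' (⟨x, hxq⟩ : q.asIdeal.primeCompl)))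
        have hr : r = q := by
          by_contra hne
          have h1 := Order.coheight_add_one_le (lt_of_le_of_ne hrq hne)
          have h2 := Order.coheight_add_one_le hPr
          have e1 : Order.coheight q = 1 := by exact_mod_cast hqc
          have e2 : Order.coheight P = 2 := WithBot.coe_inj.1 hdP
          rw [e1] at h1
          rw [e2] at h2
          have := (add_le_add_left h1 1).trans h2
          exact absurd this (by decide)
        have : Order.coheight y = 0 := Order.coheight_eq_zero.2 fun z hz => by
          show z.asIdeal ≤ y.asIdeal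
          rw [← IsLocalization.map_comap q.asIdeal.primeCompl R' y.asIdeal, show y.asIdeal.under A =
            q.asIdeal from congrArg PrimeSpectrum.asIdeal hr, Localization.AtPrime.map_eq_maximalIdeal]
          exact IsLocalRing.le_maximalIdeal z.isPrime.ne_top
        rw [this]
        exact Nat.cast_lt.2 Nat.one_pos
      exact absurd (hq2.trans ((LC.depth_le_coheight_of_ass R' hass').trans hle)) (by decide)
    · calc (2 : WithBot ℕ∞) < (0 : WithBot ℕ∞) + ((d : ℕ) : WithBot ℕ∞) := by
            rw [zero_add]; exact_mod_cast (show 2 < d by omega)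
        _ ≤ _ := by gcongr; exact WithBot.coe_le_coe.2 zero_le
  have h2 : H9Lef.KilledH (IsLocalRing.maximalIdeal A) t 2 A :=
    H9Lef.killedH_of_dualizing hω fun p hp h => key p hp h
  have h1 : H9Lef.KilledH (IsLocalRing.maximalIdeal A) t 1 A :=
    H9Lef.killedH_of_dualizing hω fun p hp h => lt_trans (by decide) (key p hp h)
  exact H9Lef.isPurePair_of_quotient A t ht h1 h2 hB

end Groth.Agent.S5183
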