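import Groth.Statements.S5186
import Groth.Agent.S0036
import Groth.Agent.KFlatLib.Scheme.CohD
import Groth.Agent.KFlatLib.Scheme.RpushQCoh
import Groth.Agent.KFlatLib.Scheme.RpushTriangle
import Groth.Agent.KFlatLib.Scheme.Adjoint
import Groth.Agent.KFlatLib.Scheme.ProjLocFree

set_option autoImplicit false
universe u
open CategoryTheory AlgebraicGeometry
open Coherent

namespace Groth.Agent.S5186

set_option backward.isDefEq.respectTransparency false
set_option linter.style.haveILetI false
open Groth.Agent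
attribute [local instance] HasDerivedCategory.standard

section Aux

open Pretriangulated Groth.Agent.KFlatLib

variable {X S : Scheme.{u}} (f : X ⟶ S) [IsProper f] [IsLocallyNoetherian S]

/-- The derived direct image along a proper morphism of a coherent object in finitely many degrees
is coherent. -/
lemma isCohD_rpush_finite [DCoh.HasRpush f] : ∀ (m : ℕ) (a : ℤ) (K : DCoh.D X), K.IsGE a → K.IsLE (a + m) →
    DCoh.IsCohD K → DCoh.IsCohD ((DCoh.Rpush f).obj K) := by
  haveI : IsLocallyNoetherian X := LocallyOfFiniteType.isLocallyNoetherian f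
  haveI : HasInjectiveResolutions X.Modules := KFlatLib.hasInjectiveResolutions_modules
  intro m
  induction m with
  | zero =>
    intro a K hge hle hq
    haveI := hge
    haveI : K.IsLE a := by simpa using hle
    obtain ⟨M, ⟨e⟩⟩ := DerivedCategory.exists_iso_singleFunctor_obj_of_isGE_of_isLE K a
    let es : K ≅ (DCoh.inD X M)⟦(-a : ℤ)⟧ :=
      e ≪≫ (((DerivedCategory.singleFunctors X.Modules).shiftIso (-a) a 0 (by omega)).app M).symm
    obtain ⟨eS⟩ := nonempty_rpush_shift f (DCoh.inD X M) (-a)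
    have hM : Coh.IsCoh M := KFlatLib.isCoh_of_iso
      ((DerivedCategory.homologyFunctor X.Modules a).mapIso e ≪≫
        (DerivedCategory.singleFunctorCompHomologyFunctorIso X.Modules a).app M) (hq a)
    refine isCohD_of_iso ((DCoh.Rpush f).mapIso es ≪≫ eS).symm (isCohD_shift (fun i => ?_) _)
    rcases lt_or_ge i 0 with h | h
    · exact KFlatLib.isCoh_of_isZero (isZero_hd_rpush_of_lt f _ 0 _ h)
    · obtain ⟨n, hn⟩ := Int.eq_ofNat_of_zero_le h
      rw [hn]
      exact KFlatLib.isCoh_of_iso (nonempty_hd_rpush_single f M n).some.symm (Groth.Agent.S0036.result f M hM n)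
  | succ m ih =>
    intro a K hge hle hq
    haveI := hge
    haveI := hle
    let t : Triangulated.TStructure (DCoh.D X) := DerivedCategory.TStructure.t
    let T := (t.triangleLTGE (a + 1)).obj K
    have hT : T ∈ distTriang _ := t.triangleLTGE_distinguished _ K
    haveI h₁le : T.obj₁.IsLE a := t.isLE_truncLT_obj K _ _ (by omega)
    haveI h₃ge : T.obj₃.IsGE (a + 1) := t.isGE_truncGE_obj K _ _ le_rfl
    haveI h₁ge : T.obj₁.IsGE a := by
      rw [DerivedCategory.isGE_iff]
      intro i hi
      exact (DerivedCategory.HomologySequence.exact₁ T hT (i - 1) i (by omega)).isZero_X₂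
        ((DerivedCategory.isZero_of_isGE T.obj₃ (a + 1) (i - 1) (by omega)).eq_of_src _ _)
        ((DerivedCategory.isZero_of_isGE K a i hi).eq_of_tgt _ _)
    haveI h₃le : T.obj₃.IsLE (a + 1 + m) := by
      rw [DerivedCategory.isLE_iff]
      intro i hi
      exact (DerivedCategory.HomologySequence.exact₃ T hT i (i + 1) rfl).isZero_X₂
        ((DerivedCategory.isZero_of_isLE K (a + (m + 1 : ℕ)) i (by omega)).eq_of_src _ _)
        ((DerivedCategory.isZero_of_isLE T.obj₁ a (i + 1) (by omega)).eq_of_tgt _ _)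
    have hq₃ : ∀ i, Coh.IsCoh (DCoh.HD T.obj₃ i) := fun i => by
      by_cases hi : a + 1 ≤ i
      · haveI : Mono ((DerivedCategory.homologyFunctor X.Modules i).map T.mor₂) :=
          (DerivedCategory.HomologySequence.exact₂ T hT i).mono_g
            ((DerivedCategory.isZero_of_isLE T.obj₁ a i (by omega)).eq_of_src _ _)
        haveI : Epi ((DerivedCategory.homologyFunctor X.Modules i).map T.mor₂) :=
          (DerivedCategory.HomologySequence.exact₃ T hT i (i + 1) rfl).epi_f
            ((DerivedCategory.isZero_of_isLE T.obj₁ a (i + 1) (by omega)).eq_of_tgt _ _)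
        haveI := isIso_of_mono_of_epi ((DerivedCategory.homologyFunctor X.Modules i).map T.mor₂)
        exact KFlatLib.isCoh_of_iso (asIso ((DerivedCategory.homologyFunctor X.Modules i).map T.mor₂)) (hq i)
      · exact KFlatLib.isCoh_of_isZero (DerivedCategory.isZero_of_isGE T.obj₃ (a + 1) i (by omega))
    have hq₁ : ∀ i, Coh.IsCoh (DCoh.HD T.obj₁ i) := fun i => by
      by_cases hi : i ≤ a
      · haveI : Epi ((DerivedCategory.homologyFunctor X.Modules i).map T.mor₁) :=
          (DerivedCategory.HomologySequence.exact₂ T hT i).epi_f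
            ((DerivedCategory.isZero_of_isGE T.obj₃ (a + 1) i (by omega)).eq_of_tgt _ _)
        haveI : Mono ((DerivedCategory.homologyFunctor X.Modules i).map T.mor₁) :=
          (DerivedCategory.HomologySequence.exact₁ T hT (i - 1) i (by omega)).mono_g
            ((DerivedCategory.isZero_of_isGE T.obj₃ (a + 1) (i - 1) (by omega)).eq_of_src _ _)
        haveI := isIso_of_mono_of_epi ((DerivedCategory.homologyFunctor X.Modules i).map T.mor₁)
        exact KFlatLib.isCoh_of_iso (asIso ((DerivedCategory.homologyFunctor X.Modules i).map T.mor₁)).symm (hq i)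
      · exact KFlatLib.isCoh_of_isZero (DerivedCategory.isZero_of_isLE T.obj₁ a i (by omega))
    obtain ⟨c, hc⟩ := exists_rpush_triangle f T hT
    exact isCohD_obj₂ hc (ih a T.obj₁ h₁ge (DerivedCategory.TStructure.t.isLE_of_le _ a _ (by omega)) hq₁)
      (ih (a + 1) T.obj₃ h₃ge h₃le hq₃)

/-- Coherence up to degree `n` is kept by the derived direct image along a proper morphism. -/
lemma isCoh_hd_rpush [DCoh.HasRpush f] (K : DCoh.D X) [K.IsGE 0] (n : ℕ)
    (hK : ∀ j : ℤ, j ≤ n → Coh.IsCoh (DCoh.HD K j)) : Coh.IsCoh (DCoh.HD ((DCoh.Rpush f).obj K) n) := by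
  haveI : IsLocallyNoetherian X := LocallyOfFiniteType.isLocallyNoetherian f
  let t : Triangulated.TStructure (DCoh.D X) := DerivedCategory.TStructure.t
  let T := (t.triangleLTGE ((n : ℤ) + 1)).obj K
  have hT : T ∈ distTriang _ := t.triangleLTGE_distinguished _ K
  haveI h₁le : T.obj₁.IsLE (n : ℤ) := t.isLE_truncLT_obj K _ _ (by omega)
  haveI h₃ge : T.obj₃.IsGE ((n : ℤ) + 1) := t.isGE_truncGE_obj K _ _ le_rfl
  haveI h₁ge : T.obj₁.IsGE 0 := by
    rw [DerivedCategory.isGE_iff]
    intro i hi
    exact (DerivedCategory.HomologySequence.exact₁ T hT (i - 1) i (by omega)).isZero_X₂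
      ((DerivedCategory.isZero_of_isGE T.obj₃ ((n : ℤ) + 1) (i - 1) (by omega)).eq_of_src _ _)
      ((DerivedCategory.isZero_of_isGE K 0 i hi).eq_of_tgt _ _)
  have hq₁ : DCoh.IsCohD T.obj₁ := fun j => by
    by_cases hj : j ≤ (n : ℤ)
    · haveI : Epi ((DerivedCategory.homologyFunctor X.Modules j).map T.mor₁) :=
        (DerivedCategory.HomologySequence.exact₂ T hT j).epi_f
          ((DerivedCategory.isZero_of_isGE T.obj₃ ((n : ℤ) + 1) j (by omega)).eq_of_tgt _ _)
      haveI : Mono ((DerivedCategory.homologyFunctor X.Modules j).map T.mor₁) :=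
        (DerivedCategory.HomologySequence.exact₁ T hT (j - 1) j (by omega)).mono_g
          ((DerivedCategory.isZero_of_isGE T.obj₃ ((n : ℤ) + 1) (j - 1) (by omega)).eq_of_src _ _)
      haveI := isIso_of_mono_of_epi ((DerivedCategory.homologyFunctor X.Modules j).map T.mor₁)
      exact KFlatLib.isCoh_of_iso (asIso ((DerivedCategory.homologyFunctor X.Modules j).map T.mor₁)).symm (hK j hj)
    · exact KFlatLib.isCoh_of_isZero (DerivedCategory.isZero_of_isLE T.obj₁ (n : ℤ) j (by omega))
  have r₁ := isCohD_rpush_finite f n 0 T.obj₁ h₁ge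
    (DerivedCategory.TStructure.t.isLE_of_le _ (n : ℤ) _ (by omega)) hq₁
  obtain ⟨c, hc⟩ := exists_rpush_triangle f T hT
  let Tc := Triangle.mk ((DCoh.Rpush f).map T.mor₁) ((DCoh.Rpush f).map T.mor₂) c
  haveI : Mono ((DerivedCategory.homologyFunctor S.Modules (n : ℤ)).map Tc.mor₁) :=
    (DerivedCategory.HomologySequence.exact₁ Tc hc ((n : ℤ) - 1) n (by omega)).mono_g
      ((isZero_hd_rpush_of_lt f T.obj₃ ((n : ℤ) + 1) ((n : ℤ) - 1) (by omega)).eq_of_src _ _)
  haveI : Epi ((DerivedCategory.homologyFunctor S.Modules (n : ℤ)).map Tc.mor₁) :=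
    (DerivedCategory.HomologySequence.exact₂ Tc hc n).epi_f
      ((isZero_hd_rpush_of_lt f T.obj₃ ((n : ℤ) + 1) n (by omega)).eq_of_tgt _ _)
  haveI := isIso_of_mono_of_epi ((DerivedCategory.homologyFunctor S.Modules (n : ℤ)).map Tc.mor₁)
  exact KFlatLib.isCoh_of_iso (asIso ((DerivedCategory.homologyFunctor S.Modules (n : ℤ)).map Tc.mor₁)) (r₁ n)

end Aux


/-- Let f : X → S be a proper morphism of schemes with S locally Noetherian, U an open subset of X with
inclusion g : U → X, h = f ∘ g : U → S, F an O_U-module and n ≥ 0. If the higher direct images R^i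
g_*(F) are coherent O_X-modules for all i ≤ n, then the higher direct images R^i h_*(F) are coherent
O_S-modules for all i ≤ n. (The existence of injective resolutions in the module categories is
carried as instance arguments.) -/
theorem result {X S : Scheme.{u}} (f : X ⟶ S) [IsProper f] [IsLocallyNoetherian S] (U : X.Opens) [HasInjectiveResolutions (U : Scheme.{u}).Modules] [HasInjectiveResolutions X.Modules] (F : (U : Scheme.{u}).Modules) (n : ℕ) (hg : ∀ i : ℕ, i ≤ n → Coh.IsCoh ((Coh.Rpush U.ι i).obj F)) (i : ℕ) (hi : i ≤ n) : Coh.IsCoh ((Coh.Rpush (U.ι ≫ f) i).obj F) := by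
  haveI : IsLocallyNoetherian X := LocallyOfFiniteType.isLocallyNoetherian f
  haveI := KFlatLib.hasRpush_scheme U.ι
  haveI := KFlatLib.hasRpush_scheme f
  haveI := KFlatLib.hasRpush_scheme (U.ι ≫ f)
  let K := (DCoh.Rpush U.ι).obj (DCoh.inD (U : Scheme.{u}) F)
  haveI : K.IsGE 0 := KFlatLib.isGE_rpush U.ι _ 0
  have hK : ∀ j : ℤ, j ≤ (i : ℕ) → Coh.IsCoh (DCoh.HD K j) := fun j hj => by
    rcases lt_or_ge j 0 with h | h
    · exact KFlatLib.isCoh_of_isZero (KFlatLib.isZero_hd_rpush_of_lt U.ι _ 0 j h)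
    · obtain ⟨m, rfl⟩ := Int.eq_ofNat_of_zero_le h
      exact KFlatLib.isCoh_of_iso (KFlatLib.nonempty_hd_rpush_single U.ι F m).some.symm (hg m (by omega))
  have h := isCoh_hd_rpush f K i hK
  obtain ⟨e⟩ := KFlatLib.nonempty_rpush_comp U.ι f
  obtain ⟨e'⟩ := KFlatLib.nonempty_hd_rpush_single (U.ι ≫ f) F i
  exact KFlatLib.isCoh_of_iso ((DerivedCategory.homologyFunctor S.Modules (i : ℤ)).mapIso (e.app _) ≪≫ e') h

end Groth.Agent.S5186
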