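import Groth.Statements.S5234
import Groth.Agent.AlgSpLib.Descends
import Mathlib.AlgebraicGeometry.Morphisms.LocalFlatDescent
import Mathlib.AlgebraicGeometry.Morphisms.FlatDescent

set_option autoImplicit false
open CategoryTheory CategoryTheory.Limits AlgebraicGeometry MonoidalCategory
universe u
open RedSub

namespace Groth.Agent.S5234

open CartesianMonoidalCategory SemiCartesianMonoidalCategory in
/-- (ii) ⇔ (iii), for schemes with the fppf topology: let `G` be an `S`-group scheme which is faithfully
flat and locally of finite presentation over `S`, acting on `X` so that `X` is formally principal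
homogeneous. Then `X` is a torsor (its structure map is faithfully flat and locally of finite
presentation) if and only if `X` has a point over some faithfully flat, locally finitely presented
`S' ⟶ S`. -/
theorem result {S : Scheme.{u}} {G X : Over S} [GrpObj G]
    (a : AlgGrp.Action G X)
    [Flat G.hom] [Surjective G.hom] [LocallyOfFinitePresentation G.hom]
    (hX : IsIso (lift a.act (snd G X))) :
    RedSub.IsTorsor a ↔
      ∃ S' : Over S, Surjective S'.hom ∧ Flat S'.hom ∧ LocallyOfFinitePresentation S'.hom ∧
        Nonempty (S' ⟶ X) := by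
  constructor
  · rintro ⟨h1, h2, h3, -⟩
    exact ⟨X, h1, h2, h3, ⟨𝟙 X⟩⟩
  · rintro ⟨S', h1, h2, h3, ⟨p⟩⟩
    let L := lift a.act (snd G X)
    let φ : G ⊗ S' ⟶ X ⊗ S' := lift (lift (fst G S') (snd G S' ≫ p) ≫ a.act) (snd G S')
    let ψ : X ⊗ S' ⟶ G ⊗ S' := lift ((X ◁ p) ≫ inv L ≫ fst G X) (snd X S')
    have hsnd : inv L ≫ snd G X = snd X X := by rw [IsIso.inv_comp_eq, lift_snd]
    have hact : inv L ≫ a.act = fst X X := by rw [IsIso.inv_comp_eq, lift_fst]
    have h1' : φ ≫ (X ◁ p) = (G ◁ p) ≫ L := by
      have hG : lift (fst G S') (snd G S' ≫ p) = G ◁ p := by apply hom_ext <;> simp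
      apply hom_ext <;> simp [φ, L, hG]
    have hφψ : φ ≫ ψ = 𝟙 _ := by
      apply hom_ext
      · simp only [ψ, Category.assoc, lift_fst, Category.id_comp, reassoc_of% h1', IsIso.hom_inv_id_assoc]
        simp
      · simp [φ, ψ]
    have hψφ : ψ ≫ φ = 𝟙 _ := by
      apply hom_ext
      · have e : ψ ≫ lift (fst G S') (snd G S' ≫ p) = (X ◁ p) ≫ inv L := by
          apply hom_ext <;> simp [ψ, hsnd]
        rw [Category.assoc, lift_fst, reassoc_of% e, hact]
        simp
      · simp [φ, ψ]
    let e : X ⊗ S' ≅ G ⊗ S' := ⟨ψ, φ, hψφ, hφψ⟩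
    have hsq : e.hom.left ≫ pullback.snd G.hom S'.hom = pullback.snd X.hom S'.hom := by
      have := congrArg CommaMorphism.left (show e.hom ≫ snd G S' = snd X S' from lift_snd _ _)
      simpa using this
    haveI : IsIso e.hom.left := ((Over.forget S).mapIso e).isIso_hom
    have transfer : ∀ (P : MorphismProperty Scheme.{u}) [P.IsStableUnderBaseChange]
        [P.DescendsAlong (@Surjective ⊓ @Flat ⊓ @LocallyOfFinitePresentation)], P G.hom → P X.hom := by
      intro P _ _ hP
      refine MorphismProperty.of_isPullback_of_descendsAlong (Q := @Surjective ⊓ @Flat ⊓ @LocallyOfFinitePresentation)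
        (IsPullback.of_hasPullback X.hom S'.hom).flip ⟨⟨h1, h2⟩, h3⟩ ?_
      rw [← hsq]
      exact (MorphismProperty.cancel_left_of_respectsIso P _ _).mpr (MorphismProperty.pullback_snd _ _ hP)
    refine ⟨?_, transfer @Flat ‹_›, transfer @LocallyOfFinitePresentation ‹_›, hX⟩
    have : Surjective (p.left ≫ X.hom) := by rw [Over.w p]; exact h1
    exact Surjective.of_comp p.left X.hom

end Groth.Agent.S5234
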