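import Groth.Statements.S5238
-- import your own Groth.Agent.* helpers here
import Mathlib
import Groth.Agent.S9432

set_option autoImplicit false
open CategoryTheory AlgebraicGeometry
universe w u
open GrpQ

namespace Groth.Agent.S5238

/-- A presheaf of sets on schemes is a sheaf for the fppf topology (the topology generated by jointly
surjective families of flat morphisms locally of finite presentation) if and only if it is a Zariski
sheaf and satisfies the sheaf condition for every single morphism of affine schemes `T ⟶ S` which is
flat, surjective, locally of finite presentation and locally quasi-finite. (Between affine schemes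
such a morphism is faithfully flat, of finite presentation and quasi-finite; that these quasi-finite
covers suffice rests on the existence of quasi-finite flat quasi-sections of flat surjective
morphisms locally of finite presentation.) -/
theorem result (F : Scheme.{u}ᵒᵖ ⥤ Type w) :
    Presheaf.IsSheaf Scheme.fppfTopology F ↔
      Presheaf.IsSheaf Scheme.zariskiTopology F ∧
        ∀ (T S : Scheme.{u}) [IsAffine T] [IsAffine S] (f : T ⟶ S)
          [Flat f] [Surjective f] [LocallyOfFinitePresentation f] [LocallyQuasiFinite f],
          Presieve.IsSheafFor F (Presieve.singleton f) := by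
  rw [isSheaf_iff_isSheaf_of_type, isSheaf_iff_isSheaf_of_type]
  have heq : Scheme.fppfPrecoverage.{u} = Scheme.propQCPrecoverage (@Flat ⊓ @LocallyOfFinitePresentation) :=
    le_antisymm (le_inf (Scheme.precoverage_le_qcPrecoverage_of_isOpenMap fun X Y f ⟨_, _⟩ ↦ f.isOpenMap) le_rfl)
      inf_le_right
  have htop : Scheme.fppfTopology.{u} = Scheme.propQCTopology (@Flat ⊓ @LocallyOfFinitePresentation) := by
    show Scheme.fppfPrecoverage.toGrothendieck = _
    rw [heq]
  constructor
  · intro hF
    refine ⟨Presieve.isSheaf_of_le _ (Precoverage.toGrothendieck_mono Scheme.zariskiPrecoverage_le_fppfPrecoverage) hF,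
      fun T S _ _ f _ _ _ _ => ?_⟩
    exact hF.isSheafFor _ (Precoverage.generate_mem_toGrothendieck (Scheme.Hom.singleton_mem_fppfPrecoverage f))
  · rintro ⟨hzar, haff⟩
    haveI : (@Flat ⊓ @LocallyOfFinitePresentation : MorphismProperty Scheme.{u}).IsMultiplicative :=
      { id_mem := fun X => ⟨inferInstance, inferInstance⟩
        comp_mem := fun f g ⟨_, _⟩ ⟨_, _⟩ => ⟨inferInstance, inferInstance⟩ }
    rw [htop, isSheaf_type_propQCTopology_iff]
    refine ⟨hzar, fun {R S} φ hφ hsurj => ?_⟩
    obtain ⟨hflat, hfp⟩ := hφ
    letI : Algebra R S := φ.hom.toAlgebra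
    haveI : Module.FaithfullyFlat R S :=
      RingHom.faithfullyFlat_algebraMap_iff.1 ((flat_and_surjective_SpecMap_iff φ).1 ⟨hflat, hsurj⟩)
    haveI : Algebra.FinitePresentation R S :=
      RingHom.finitePresentation_algebraMap.1 ((HasRingHomProperty.Spec_iff (P := @LocallyOfFinitePresentation)).1 hfp)
    obtain ⟨S', _, _, hqf, hft, hff, hfp', ⟨σ⟩⟩ := Groth.Agent.S9432.result R S
    let g : Spec (CommRingCat.of S') ⟶ Spec R := Spec.map (CommRingCat.ofHom (algebraMap R S'))
    obtain ⟨h1, h2⟩ := (flat_and_surjective_SpecMap_iff (CommRingCat.ofHom (algebraMap R S'))).2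
      (RingHom.faithfullyFlat_algebraMap_iff.2 hff)
    haveI : Flat g := h1
    haveI : Surjective g := h2
    haveI : LocallyOfFinitePresentation g :=
      (HasRingHomProperty.Spec_iff (P := @LocallyOfFinitePresentation)).2 (RingHom.finitePresentation_algebraMap.2 hfp')
    haveI : LocallyQuasiFinite g :=
      (HasRingHomProperty.Spec_iff (P := @LocallyQuasiFinite)).2 (RingHom.quasiFinite_algebraMap.2 hqf)
    have hσ : Spec.map (CommRingCat.ofHom σ.toRingHom) ≫ Spec.map φ = g := by
      rw [← Spec.map_comp]
      refine congrArg Spec.map (CommRingCat.hom_ext (RingHom.ext fun r => ?_))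
      exact σ.commutes r
    rw [Presieve.isSheafFor_singleton]
    intro x hx
    obtain ⟨y, hy, huniq⟩ := Presieve.isSheafFor_singleton.1 (haff _ _ g)
      (F.map (Spec.map (CommRingCat.ofHom σ.toRingHom)).op x) fun p₁ p₂ hp => by
        simp only [← FunctorToTypes.map_comp_apply, ← op_comp]
        exact hx _ _ (by rw [Category.assoc, Category.assoc, hσ, hp])
    refine ⟨y, ?_, fun y' hy' => huniq y' ?_⟩
    · refine (Presieve.isSheafFor_singleton.1 (haff _ _ (Limits.pullback.fst (Spec.map φ) g))
        (F.map (Limits.pullback.fst (Spec.map φ) g).op x) fun p₁ p₂ hp => by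
          simp only [← FunctorToTypes.map_comp_apply, ← op_comp, hp]).unique ?_ rfl
      simp only [← FunctorToTypes.map_comp_apply, ← op_comp]
      rw [Limits.pullback.condition, op_comp, FunctorToTypes.map_comp_apply, hy, ← FunctorToTypes.map_comp_apply,
        ← op_comp]
      exact hx _ _ (by rw [Category.assoc, hσ, Limits.pullback.condition])
    · rw [← hy', ← FunctorToTypes.map_comp_apply, ← op_comp, hσ]

end Groth.Agent.S5238
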