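import Groth.Statements.S5263
import Groth.Agent.HomScheme.FinEtale
import Groth.Agent.MultTypeFlat.Basic
import Groth.Agent.EtFound.Descent
import Mathlib.AlgebraicGeometry.Morphisms.LocalFlatDescent

set_option autoImplicit false
open CategoryTheory MonoidalCategory CartesianMonoidalCategory MonObj GrpObj AlgebraicGeometry
universe u
open SGA3x CategoryTheory.Limits

namespace Groth.Agent.S5263

/-- Let G and H be S-groups of multiplicative type which are finite over S. Then the functor of group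
homomorphisms from G to H is representable by an S-scheme which is finite and etale over S (with its
universal family of homomorphisms). -/
theorem result {S : Scheme.{u}} (G H : Over S) [GrpObj G] [GrpObj H]
    (hG : SGA3x.IsMultTypeFT G) [IsFinite G.hom] (hH : SGA3x.IsMultTypeFT H) [IsFinite H.hom] :
    ∃ (A : Over S) (υ : G ⊗ A ⟶ H), AutFam.RepresentsHom G H A υ ∧ IsFinite A.hom ∧ Etale A.hom := by
  haveI := MultTypeFlat.flat hG
  haveI := MultTypeFlat.lfp hG
  obtain ⟨A, υ, hυ, haff, hlft, -⟩ := HomScheme.exists_homGrpScheme G H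
  haveI := haff
  haveI : LocallyOfFiniteType A.hom := hlft inferInstance
  obtain ⟨SG, fG, hGflat, hGsurj, hGqc, hGloc⟩ := hG
  obtain ⟨SH, fH, hHflat, hHsurj, hHqc, hHloc⟩ := hH
  have hcG : FpqcDescLib.Covers fG :=
    FpqcDescLib.covers_of_hcov fG ⟨SG, fG, 𝟙 _, Category.id_comp _, hGsurj, hGflat, hGqc⟩
  have hcH : FpqcDescLib.Covers fH :=
    FpqcDescLib.covers_of_hcov fH ⟨SH, fH, 𝟙 _, Category.id_comp _, hHsurj, hHflat, hHqc⟩
  let f : pullback fG fH ⟶ S := pullback.fst fG fH ≫ fG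
  have hcf : FpqcDescLib.Covers f :=
    (hcH.pullback fG _ (pullback.snd fG fH) (IsPullback.of_hasPullback fG fH)).comp hcG
  have hpiece : ∀ z : ↥(pullback fG fH), ∃ (W : (pullback fG fH).Opens) (hW : IsAffineOpen W), z ∈ W ∧
      IsFinite (pullback.snd A.hom (hW.fromSpec ≫ f)) ∧ Etale (pullback.snd A.hom (hW.fromSpec ≫ f)) := by
    intro z
    obtain ⟨UG, hzG, MG, iMG, -, ⟨eG⟩⟩ := hGloc (pullback.fst fG fH z)
    obtain ⟨UH, hzH, MH, iMH, hfg, ⟨eH⟩⟩ := hHloc (pullback.snd fG fH z)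
    obtain ⟨W, hW, hzW, hWle⟩ := exists_isAffineOpen_mem_and_subset
      (show z ∈ pullback.fst fG fH ⁻¹ᵁ UG ⊓ pullback.snd fG fH ⁻¹ᵁ UH from ⟨hzG, hzH⟩)
    have hmem : ∀ r, hW.fromSpec r ∈ W := fun r => by rw [← SetLike.mem_coe, ← hW.range_fromSpec]; exact ⟨r, rfl⟩
    have hrG : Set.range (hW.fromSpec ≫ pullback.fst fG fH) ⊆ Set.range UG.ι := by
      rintro _ ⟨r, rfl⟩
      rw [Scheme.Opens.range_ι]
      exact (hWle (hmem r)).1
    have hrH : Set.range (hW.fromSpec ≫ pullback.snd fG fH) ⊆ Set.range UH.ι := by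
      rintro _ ⟨r, rfl⟩
      rw [Scheme.Opens.range_ι]
      exact (hWle (hmem r)).2
    obtain ⟨χG, hGnat, hGmul, hGbij⟩ := GrpSchLib.SubgroupFactor.exists_char (β := hW.fromSpec ≫ f) (UG.ι ≫ fG) eG
      (IsOpenImmersion.lift UG.ι _ hrG) (by rw [IsOpenImmersion.lift_fac_assoc, Category.assoc])
    obtain ⟨χH, hHnat, hHmul, hHbij⟩ := GrpSchLib.SubgroupFactor.exists_char (β := hW.fromSpec ≫ f) (UH.ι ≫ fH) eH
      (IsOpenImmersion.lift UH.ι _ hrH) (by
        rw [IsOpenImmersion.lift_fac_assoc, Category.assoc]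
        exact congrArg (hW.fromSpec ≫ ·) pullback.condition.symm)
    exact ⟨W, hW, hzW, HomScheme.finite_etale_piece hυ χG hGnat hGmul hGbij χH hHnat hHmul hHbij⟩
  choose W hW hzW hfin het using hpiece
  let 𝒰 : (pullback fG fH).OpenCover := Scheme.Cover.mkOfCovers _ _ (fun z => (hW z).fromSpec) (fun z => by
    have := hzW z
    rw [← SetLike.mem_coe, ← (hW z).range_fromSpec] at this
    obtain ⟨y, hy⟩ := this
    exact ⟨z, y, hy⟩)
  have key : ∀ (P : MorphismProperty Scheme.{u}) [P.IsStableUnderBaseChange] [IsZariskiLocalAtTarget P]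
      [P.DescendsAlong (@Surjective ⊓ @Flat ⊓ @QuasiCompact)],
      (∀ z, P (pullback.snd A.hom ((hW z).fromSpec ≫ f))) → P A.hom := by
    intro P _ _ _ h
    refine hcf.descends P A.hom (pullback.snd A.hom f) (pullback.fst A.hom f) (IsPullback.of_hasPullback A.hom f).flip
      (IsZariskiLocalAtTarget.of_openCover (P := P) 𝒰 fun z => ?_)
    show P (pullback.snd (pullback.snd A.hom f) (hW z).fromSpec)
    rw [← MorphismProperty.cancel_left_of_respectsIso P (pullbackLeftPullbackSndIso A.hom f ((hW z).fromSpec)).inv,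
      pullbackLeftPullbackSndIso_inv_snd_snd]
    exact h z
  haveI := EtFound.fpqc_isFinite.{u}
  exact ⟨A, υ, hυ, key @IsFinite hfin, key @Etale het⟩

end Groth.Agent.S5263
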