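import Groth.Statements.S5269
import Groth.Agent.TwDescend.Const
import Groth.Agent.TwDescend.Nbhd

set_option autoImplicit false
open CategoryTheory MonoidalCategory CartesianMonoidalCategory MonObj GrpObj AlgebraicGeometry
universe u
open SGA3x
open TensorProduct

namespace Groth.Agent.S5269

/-- Let S be a locally Noetherian scheme and X an S-scheme which is a twisted constant scheme locally
trivial for the fppf topology (every point of S is in the image of a flat, locally finitely
presented S' ⟶ S over which X becomes a constant scheme). Then X is quasi-isotrivial: it becomes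
constant etale-locally on S. -/
theorem result {S : Scheme.{u}} [IsLocallyNoetherian S] (X : Over S)
    (hX : TwC.IsTwConst TwC.Topology.fppf X) : TwC.IsTwConst TwC.Topology.etale X := by
  intro s
  obtain ⟨S', f, hf, hfp, ⟨s', hs'⟩, I, ⟨e⟩⟩ := hX s
  obtain ⟨U, hU, hsU, -⟩ := exists_isAffineOpen_mem_and_subset (show s ∈ (⊤ : S.Opens) from trivial)
  obtain ⟨U', hU', hs'U', hle⟩ := exists_isAffineOpen_mem_and_subset
    (show s' ∈ f ⁻¹ᵁ U from show f s' ∈ U by rw [hs']; exact hsU)
  haveI : IsNoetherianRing Γ(S, U) := IsLocallyNoetherian.component_noetherian ⟨U, hU⟩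
  algebraize [(f.appLE U U' hle).hom]
  haveI : Module.Flat Γ(S, U) Γ(S', U') :=
    RingHom.flat_algebraMap_iff.mp (f.flat_appLE hU hU' hle)
  haveI : Algebra.FinitePresentation Γ(S, U) Γ(S', U') :=
    RingHom.finitePresentation_algebraMap.mp (f.finitePresentation_appLE hU hU' hle)
  let q : PrimeSpectrum Γ(S', U') := hU'.primeIdealOf ⟨s', hs'U'⟩
  obtain ⟨C, _, _, _, P, T, _, _, j, hP, _, _, _, hconn, hj⟩ :=
    TwDescend.exists_etale_connected_selfProduct (B := Γ(S, U)) q
  let φ : Γ(S, U) ⟶ CommRingCat.of C := CommRingCat.ofHom (algebraMap Γ(S, U) C)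
  let ψ : CommRingCat.of C ⟶ CommRingCat.of T := CommRingCat.ofHom (algebraMap C T)
  let χ : Γ(S', U') ⟶ CommRingCat.of T := CommRingCat.ofHom j
  haveI : Etale (Spec.map φ) := HasRingHomProperty.Spec_iff.mpr (RingHom.etale_algebraMap.mpr inferInstance)
  let f'' : Spec (CommRingCat.of C) ⟶ S := Spec.map φ ≫ hU.fromSpec
  let p : Spec (CommRingCat.of T) ⟶ Spec (CommRingCat.of C) := Spec.map ψ
  let g : Spec (CommRingCat.of T) ⟶ S' := Spec.map χ ≫ hU'.fromSpec
  have hq : Spec.map (f.appLE U U' hle) ≫ hU.fromSpec = hU'.fromSpec ≫ f :=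
    IsAffineOpen.SpecMap_appLE_fromSpec f hU hU' hle
  have hw : g ≫ f = p ≫ f'' := by
    simp only [g, p, f'', Category.assoc, ← hq, ← Spec.map_comp_assoc]
    congr 2
    exact CommRingCat.hom_ext hj
  haveI : Flat p := (HasRingHomProperty.Spec_iff (P := @Flat)).mpr
    (RingHom.flat_algebraMap_iff.mpr inferInstance)
  haveI : Surjective p := ⟨fun x => PrimeSpectrum.comap_surjective_of_faithfullyFlat (A := C) (B := T) x⟩
  haveI : Nonempty ↥(Spec (CommRingCat.of T)) := inferInstanceAs (Nonempty (PrimeSpectrum T))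
  haveI : PreconnectedSpace ↥(Limits.pullback p p) := by
    haveI : PreconnectedSpace ↥(Spec (CommRingCat.of (T ⊗[C] T))) := hconn
    refine ⟨?_⟩
    have h := (PreconnectedSpace.isPreconnected_univ (α := ↥(Spec (CommRingCat.of (T ⊗[C] T))))).image
      (pullbackSpecIso C T T).inv (pullbackSpecIso C T T).inv.continuous.continuousOn
    rw [Set.image_univ] at h
    rwa [show Set.range ⇑(pullbackSpecIso C T T).inv = Set.univ from (pullbackSpecIso C T T).inv.homeomorph.surjective.range_eq] at h
  refine ⟨Spec (CommRingCat.of C), f'', inferInstance, ⟨P, ?_⟩, I,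
    TwDescend.nonempty_iso_const (Red.bc f'' X) p I ?_⟩
  · show hU.fromSpec (Spec.map φ P) = s
    have h1 : Spec.map φ P = Spec.map (f.appLE U U' hle) q := hP
    have h2 : hU'.fromSpec q = s' := hU'.fromSpec_primeIdealOf ⟨s', hs'U'⟩
    rw [h1, ← Scheme.Hom.comp_apply, hq, Scheme.Hom.comp_apply, h2, hs']
  · exact ActBC.bcCompIso p f'' X rfl ≪≫ (ActBC.bcCompIso g f X hw).symm ≪≫
      (Over.pullback g).mapIso e ≪≫ TwDescend.constBC g I

end Groth.Agent.S5269
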