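import Groth.Statements.S5283
import Groth.Agent.Deform.InfNbhd.Group

set_option autoImplicit false
open CategoryTheory MonoidalCategory CartesianMonoidalCategory MonObj GrpObj AlgebraicGeometry
universe u
open SGA3x

namespace Groth.Agent.S5283

/-- Let X be an S-group which is smooth and of finite presentation over S with connected fibres, Y an
S-group of finite presentation over S and i : Y ⟶ X a homomorphism which is a monomorphism. Then the
functor on S-schemes whose value at S' ⟶ S is a point when X ×_S S' ⟶ X factors through Y and empty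
otherwise is representable by a closed subscheme of S whose immersion is of finite presentation. -/
theorem result {S : Scheme.{u}} (X Y : Over S) [GrpObj X] [GrpObj Y]
    [Smooth X.hom] [QuasiCompact X.hom] [QuasiSeparated X.hom]
    (hconn : ∀ s : S, ConnectedSpace ↥(Limits.pullback X.hom (S.fromSpecResidueField s)))
    [LocallyOfFinitePresentation Y.hom] [QuasiCompact Y.hom] [QuasiSeparated Y.hom]
    (i : Y ⟶ X) [IsMonHom i] [Mono i] :
    ∃ (T : Scheme.{u}) (t : T ⟶ S), IsClosedImmersion t ∧ LocallyOfFinitePresentation t ∧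
      ∀ (S' : Scheme.{u}) (g : S' ⟶ S), (∃ g' : S' ⟶ T, g' ≫ t = g) ↔
        ∃ l : Limits.pullback X.hom g ⟶ Y.left, l ≫ i.left = Limits.pullback.fst X.hom g := by
  have hconn' : ∀ s : S, _root_.IsConnected (X.hom.base ⁻¹' {s}) := fun s => by
    haveI := hconn s
    have := isConnected_range (Limits.pullback.fst X.hom (S.fromSpecResidueField s)).continuous
    rwa [show Set.range (Limits.pullback.fst X.hom (S.fromSpecResidueField s)) = X.hom.base ⁻¹' {s} from
      Scheme.Hom.range_fiberι X.hom s] at this
  obtain ⟨T, t, ht, htf, hu⟩ := Deform.InfNbhd.exists_weilRestriction_subgroup X Y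
    (Deform.InfNbhd.neutralSet_eq_univ X hconn') i
  refine ⟨T, t, ht, htf, fun S' g => (hu S' g).trans ⟨?_, ?_⟩⟩
  · rintro ⟨l, hl⟩
    exact ⟨(Limits.pullbackSymmetry X.hom g).hom ≫ l, by rw [Category.assoc, hl, Limits.pullbackSymmetry_hom_comp_snd]⟩
  · rintro ⟨l, hl⟩
    exact ⟨(Limits.pullbackSymmetry X.hom g).inv ≫ l, by rw [Category.assoc, hl, Limits.pullbackSymmetry_inv_comp_fst]⟩

end Groth.Agent.S5283
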