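import Groth.Statements.S5293
import Groth.Agent.Dual.Etale

set_option autoImplicit false
open CategoryTheory MonoidalCategory CartesianMonoidalCategory MonObj GrpObj AlgebraicGeometry
universe u
open SGA3x CategoryTheory.Limits

namespace Groth.Agent.S5293

/-- Let H be a quasi-isotrivial S-group of multiplicative type (etale-locally on S isomorphic, as a
group, to diagonalisable groups D(M), M allowed to vary and taken in Type 0). Then the functor
D_S(H) = Hom_{S-gr}(H, G_m) is representable: there is an S-group D with a universal family of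
characters H ×_S D ⟶ G_{m,S}, multiplicative in the D-variable as well (the group law of D is the
pointwise product of characters), and D is a quasi-isotrivial twisted constant S-group
(etale-locally on S a constant group). -/
theorem result {S : Scheme.{u}} (H : Over S) [GrpObj H]
    (hH : TwC.Locally S TwC.Topology.etale (fun S' f => ∃ (M : Type) (_ : AddCommGroup M), Nonempty (Grp.mk (Red.bc f H) ≅ Grp.mk (Red.DS S' M)))) :
    ∃ (D : Over S) (_ : GrpObj D) (υ : H ⊗ D ⟶ Red.Gm S), AutFam.RepresentsHom H (Red.Gm S) D υ ∧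
      (∀ (X : Over S) (h : X ⟶ H) (a b : X ⟶ D), lift h (a * b) ≫ υ = (lift h a ≫ υ) * (lift h b ≫ υ)) ∧
      TwC.IsTwConstGrp TwC.Topology.etale D := by
  have hmem : ∀ s : S, ∃ (P : Scheme.{u}) (f : P ⟶ S) (M : Type) (_ : AddCommGroup M),
      Etale f ∧ s ∈ Set.range f ∧ Nonempty (Grp.mk (Red.bc f H) ≅ Grp.mk (Red.DS P M)) := by
    intro s
    obtain ⟨SH, fH, hfH, hy, M, iM, he⟩ := hH s
    exact ⟨SH, fH, M, iM, hfH, hy, he⟩
  choose P f M iM hf hs heH using hmem
  haveI := hf
  have heG : ∀ s, Nonempty (Grp.mk (Red.bc (f s) (Red.Gm S)) ≅ Grp.mk (Red.DS (P s) ℤ)) := fun s =>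
    GrpSchLib.MultTypeBC.bc_DS (f s) ℤ
  obtain ⟨D, w, hD, he⟩ := Dual.exists_homs f (fun s => ⟨s, hs s⟩) M (fun _ => ℤ) (fun _ => inferInstance)
    (fun s => (heH s).some) (fun s => (heG s).some)
  haveI : IsCommMonObj (Red.Gm S) := GrpSchLib.RankOne.isCommMonObj_bc (Limits.IsTerminal.from specULiftZIsTerminal S) (Red.diag (ULift.{u} ℤ) ℤ)
  obtain ⟨inst, hmul⟩ := RepDesc.exists_grpObj hD
  letI := inst
  refine ⟨D, inst, w, hD, hmul, fun s => ⟨P s, f s, hf s, hs s, ?_⟩⟩
  obtain ⟨e, hept⟩ := he s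
  let I := Dual.Idx.{u} (M s) ℤ
  letI iI : Group I := (Equiv.ulift.trans Multiplicative.ofAdd).group
  refine ⟨I, iI, e, fun m n => ?_⟩
  let T := (Over.map (f s)).obj (𝟙_ (Over (P s)))
  let j : Over.mk (f s) ⟶ T := Over.homMk (𝟙 _) (by
    show 𝟙 _ ≫ 𝟙 _ ≫ f s = f s
    rw [Category.id_comp, Category.id_comp])
  haveI : IsIso j := by
    haveI : IsIso ((Over.forget S).map j) := inferInstanceAs (IsIso (𝟙 _))
    exact isIso_of_reflects_iso _ (Over.forget S)
  let a : I → (Over.mk (f s) ⟶ D) := fun m => j ≫ DSPtsLib.theta (f s) (TwC.pt (P s) I m ≫ e.inv)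
  have ha : ∀ m, (H ◁ a m) ≫ w = Dual.psi (heH s).some (heG s).some m.down := fun m => by
    refine hept m (a m) ?_
    show (j ≫ DSPtsLib.theta (f s) _).left = _
    rw [Over.comp_left, DSPtsLib.theta_left]
    exact Category.id_comp _
  refine (DSPtsLib.theta_bijective (f s)).1 ((cancel_epi j).mp ?_)
  rw [DSPtsLib.theta_mul, MonObj.comp_mul]
  refine (hD.2 _ _ (Dual.psi_hom (heH s).some (heG s).some (m * n).down)).unique ?_ (ha (m * n))
  show (H ◁ (a m * a n)) ≫ w = _
  rw [Dual.whisker_eq_lift, MonObj.comp_mul, hmul, ← Dual.whisker_eq_lift, ← Dual.whisker_eq_lift, ha, ha, Dual.psi_add]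
  rfl

end Groth.Agent.S5293
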