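import Groth.Statements.S5300
import Groth.Agent.MultTypeLib.TorsionPoints
import Groth.Agent.MultTypeLib.Sub
import Groth.Agent.TorsDense.Core
import Mathlib.RingTheory.Localization.Ideal


set_option autoImplicit false
universe u
open TensorProduct SGA3b
open SGA3b

namespace Groth.Agent.S5300
open WithConv Groth.Agent.MultTypeLib
attribute [local instance 2000] algConvGroup

/-- The affine form of schematic density. Let k be a field and H = Spec C a commutative k-group of
finite type (C cocommutative, of finite type over k) which has an open subgroup G of multiplicative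
type: an idempotent e of C such that the ideal (e) is a Hopf ideal and G = Spec (C/(e)) is of
multiplicative type. Then the family of kernels ₙH, n > 0, of the n-th power maps is schematically
dense in H: for every a ∈ C, the intersection over n > 0 of the extensions to C[1/a] of the ideals
Jₙ of the ₙH is zero. (Affine group schemes over an affine base are taken in Hopf-algebra form; base
change is the tensor product; a homomorphism of groups Spec A ⟶ Spec C is a bialgebra map C → A.) -/
theorem result (k : Type u) [Field k] (C : Type u) [CommRing C] [HopfAlgebra k C]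
    [Coalgebra.IsCocomm k C] (hft : Algebra.FiniteType k C)
    (e : C) (he : IsIdempotentElem e) [(Ideal.span {e}).IsHopfIdeal k] (hG : IsMultType k (C ⧸ Ideal.span {e})) :
    ∀ a : C, ⨅ n : {n : ℕ // 0 < n}, Ideal.map (algebraMap C (Localization.Away a)) (torsionIdeal k C n.1) = ⊥ := by
  classical
  intro a
  rw [eq_bot_iff]
  intro x₀ hx
  obtain ⟨f, s, rfl⟩ := IsLocalization.exists_mk'_eq (Submonoid.powers a) x₀
  rw [Ideal.mem_bot, IsLocalization.mk'_eq_zero_iff]
  rw [Ideal.mem_iInf] at hx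
  have hN : ∀ n : ℕ, 0 < n → ∃ N : ℕ, a ^ N * f ∈ torsionIdeal k C n := by
    intro n hn
    obtain ⟨t, ⟨N, rfl⟩, ht⟩ := (IsLocalization.mk'_mem_map_algebraMap_iff (Submonoid.powers a) (Localization.Away a) _ f s).mp (hx ⟨n, hn⟩)
    exact ⟨N, ht⟩
  -- an algebraically closed splitting field
  let D := C ⧸ Ideal.span {e}
  haveI : Algebra.FiniteType k C := hft
  haveI : Algebra.FiniteType k D := inferInstance
  let π : C →ₐc[k] D := Bialgebra.Quotient.mkBialgHom _
  obtain ⟨P₀, hP₀⟩ := Groth.Agent.MultTypeLib.exists_ff_split hG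
  haveI : Nontrivial P₀.S := not_subsingleton_iff_nontrivial.mp fun hs => hP₀.submodule_ne_top (Ideal.bot_isMaximal (K := k)) (Subsingleton.elim _ _)
  obtain ⟨𝔪, h𝔪⟩ := Ideal.exists_maximal P₀.S
  letI := Ideal.Quotient.field 𝔪
  let Ω := AlgebraicClosure (P₀.S ⧸ 𝔪)
  let e₀ : Ω ⊗[k] D ≃ₐ[Ω] MonoidAlgebra Ω P₀.M :=
    AlgEquiv.ofBijective (P₀.homOver Ω).extend (P₀.extend_homOver_bijective Ω)
  let P : Groth.Agent.MultTypeLib.Split k D :=
    { S := Ω, M := P₀.M, hom := P₀.homOver Ω, equiv := e₀,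
      equiv_tmul := fun d => ((P₀.homOver Ω).extend_tmul 1 d).trans (one_smul _ _) }
  let M := P₀.M
  haveI : Algebra.FiniteType Ω (MonoidAlgebra Ω M) :=
    (inferInstance : Algebra.FiniteType Ω (Ω ⊗[k] D)).equiv e₀
  haveI : Monoid.FG M := MonoidAlgebra.fg_of_finiteType (R := Ω)
  haveI : Group.FG M := Group.fg_iff_monoid_fg.mpr inferInstance
  -- the idempotents of the translates of the open subgroup
  let F := Ω ⊗[k] C
  haveI : IsNoetherianRing F := Algebra.FiniteType.isNoetherianRing Ω F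
  haveI : IsJacobsonRing F := isJacobsonRing_of_finiteType (A := Ω) (B := F)
  let iL : Ω →ₐ[k] F := Algebra.TensorProduct.includeLeft
  let iR : WithConv (C →ₐ[k] F) := toConv Algebra.TensorProduct.includeRight
  let idem : WithConv (C →ₐ[k] Ω) → F := fun g => (convMap iL g⁻¹ * iR).ofConv e
  have hfin : ((fun g => idem g) '' {g : WithConv (C →ₐ[k] Ω) | ∃ d : ℕ, 0 < d ∧ g ^ d = 1}).Finite :=
    (finite_idempotents F).subset (by
      rintro _ ⟨g, -, rfl⟩
      exact he.map (convMap iL g⁻¹ * iR).ofConv)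
  choose rep hrep hrep' using fun z : hfin.toFinset => (hfin.mem_toFinset.mp z.2)
  -- the coordinates on a coset
  let φ : WithConv (C →ₐ[k] MonoidAlgebra Ω M) := toConv (P.hom.toAlgHom.comp (π : C →ₐ[k] D))
  let ιΩ : Ω →ₐ[k] MonoidAlgebra Ω M := IsScalarTower.toAlgHom k Ω _
  let τ : WithConv (C →ₐ[k] Ω) → (C →ₐ[k] MonoidAlgebra Ω M) := fun g => (convMap ιΩ g * φ).ofConv
  have hτ : ∀ g : WithConv (C →ₐ[k] Ω), (∃ d : ℕ, 0 < d ∧ g ^ d = 1) → ∃ E : ℕ, τ g (a ^ E * f) = 0 := by
    rintro g ⟨d, hd, hgd⟩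
    obtain ⟨E, hE⟩ := Groth.Agent.TorsDense.exists_pow_mul_eq_zero (τ g a) (τ g f) fun n hn => by
      obtain ⟨N, hN⟩ := hN (d * n) (Nat.mul_pos hd hn)
      refine ⟨N, ?_⟩
      let pr : MonoidAlgebra Ω M →ₐ[k] MonoidAlgebra Ω (M ⧸ (powMonoidHom (α := M) n).range) :=
        { (Groth.Agent.TorsDense.proj Ω M n) with
          commutes' := fun r => by
            simp [Groth.Agent.TorsDense.proj, MonoidAlgebra.mapDomainRingHom, MonoidAlgebra.coe_algebraMap] }
      let y : WithConv (C →ₐ[k] MonoidAlgebra Ω (M ⧸ (powMonoidHom (α := M) n).range)) := convMap pr (convMap ιΩ g * φ)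
      have hφ : (convMap pr φ) ^ (d * n) = 1 := by
        have h1 : φ ^ (d * n) = toConv ((φ.ofConv).comp (powConv k C (d * n))) :=
          (congrArg (fun t => t ^ (d * n)) (WithConv.ext (AlgHom.ext fun c => rfl) : φ = convMap φ.ofConv (toConv (AlgHom.id k C)))).trans
            (map_pow (convMap φ.ofConv) (toConv (AlgHom.id k C)) (d * n)).symm
        let φD : WithConv (D →ₐ[k] MonoidAlgebra Ω M) := toConv P.hom.toAlgHom
        have h2 : φ ^ (d * n) = toConv ((φD ^ (d * n)).ofConv.comp (π : C →ₐ[k] D)) := by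
          clear h1
          induction (d * n) with
          | zero =>
            refine WithConv.ext (AlgHom.ext fun c => ?_)
            show algebraMap k _ (Coalgebra.counit c) = algebraMap k _ (Coalgebra.counit (π c))
            rw [CoalgHomClass.counit_comp_apply]
          | succ m ih =>
            rw [pow_succ, pow_succ, ih]
            exact congrArg toConv (AlgHom.convMul_comp_bialgHom_distrib (φD ^ m) φD π).symm
        have h3 : φD ^ (d * n) = toConv (P.hom.toAlgHom.comp (powConv k D (d * n))) :=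
          (congrArg (fun t => t ^ (d * n)) (WithConv.ext (AlgHom.ext fun c => rfl) : φD = convMap P.hom.toAlgHom (toConv (AlgHom.id k D)))).trans
            (map_pow (convMap P.hom.toAlgHom) (toConv (AlgHom.id k D)) (d * n)).symm
        rw [← map_pow, h2, h3]
        refine WithConv.ext (AlgHom.ext fun c => ?_)
        show Groth.Agent.TorsDense.proj Ω M n (P.hom.toAlgHom (powConv k D (d * n) (π c))) = algebraMap k _ (Coalgebra.counit c)
        rw [P.hom_powConv, ← CoalgHomClass.counit_comp_apply π c, IsScalarTower.algebraMap_apply k Ω, ← P.hom.counit_comp]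
        generalize P.hom.toAlgHom (π c) = w
        induction w using MonoidAlgebra.induction_linear with
        | zero => simp
        | add y z hy hz => simp only [MonoidAlgebra.mapDomain_add, map_add, hy, hz]
        | single m r =>
          have h4 : QuotientGroup.mk' (powMonoidHom (α := M) n).range (m ^ (d * n)) = 1 :=
            (QuotientGroup.eq_one_iff _).mpr ⟨m ^ d, (pow_mul m d n).symm⟩
          rw [map_pow, QuotientGroup.mk'_apply] at h4
          simp [Groth.Agent.TorsDense.proj, MonoidAlgebra.mapDomainRingHom, h4]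
      have hy : y ^ (d * n) = 1 := by
        simp only [y, map_mul, mul_pow, hφ, mul_one, ← map_pow, pow_mul g, hgd, one_pow, map_one]
      rw [← map_pow, ← map_mul]
      suffices hle : torsionIdeal k C (d * n) ≤ RingHom.ker y.ofConv.toRingHom from hle hN
      rw [torsionIdeal, Ideal.map_le_iff_le_comap]
      intro b hb
      show y.ofConv (powConv k C (d * n) b) = 0
      have h5 : y ^ (d * n) = toConv (y.ofConv.comp (powConv k C (d * n))) :=
        (congrArg (fun t => t ^ (d * n)) (WithConv.ext (AlgHom.ext fun c => rfl) : y = convMap y.ofConv (toConv (AlgHom.id k C)))).trans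
          (map_pow (convMap y.ofConv) (toConv (AlgHom.id k C)) (d * n)).symm
      rw [hy] at h5
      refine (congrArg (fun t : WithConv (C →ₐ[k] MonoidAlgebra Ω (M ⧸ (powMonoidHom (α := M) n).range)) => t.ofConv b) h5).symm.trans ?_
      show algebraMap k _ (Coalgebra.counit b) = 0
      rw [show Coalgebra.counit (R := k) b = 0 from hb, map_zero]
    exact ⟨E, by rwa [map_mul, map_pow]⟩
  choose E hE using fun z => hτ (rep z) (hrep z)
  obtain ⟨E₀, hE₀⟩ : ∃ E₀, ∀ z, τ (rep z) (a ^ E₀ * f) = 0 := ⟨Finset.univ.sup E, fun z => by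
    obtain ⟨d, hd⟩ := Nat.exists_eq_add_of_le (Finset.le_sup (f := E) (Finset.mem_univ z))
    rw [hd, pow_add, mul_comm (a ^ E z), mul_assoc, map_mul, hE z, mul_zero]⟩
  refine ⟨⟨a ^ E₀, _, rfl⟩, ?_⟩
  show a ^ E₀ * f = 0
  refine Algebra.TensorProduct.includeRight_injective (R := k) (A := Ω) (B := C) (algebraMap k Ω).injective ?_
  rw [map_zero]
  by_contra hne
  set w : F := Algebra.TensorProduct.includeRight (a ^ E₀ * f) with hw
  obtain ⟨𝔫, h𝔫, hle⟩ := Ideal.exists_le_maximal (LinearMap.ker (LinearMap.toSpanSingleton F F w)) (fun h => hne (by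
    have : (1 : F) ∈ LinearMap.ker (LinearMap.toSpanSingleton F F w) := h ▸ Submodule.mem_top
    simpa using this))
  letI := Ideal.Quotient.field 𝔫
  haveI : Algebra.IsIntegral Ω (F ⧸ 𝔫) := by
    haveI := finite_of_finite_type_of_isJacobsonRing Ω (F ⧸ 𝔫)
    infer_instance
  let eM := AlgEquiv.ofBijective (Algebra.ofId Ω (F ⧸ 𝔫))
    (IsAlgClosed.algebraMap_bijective_of_isIntegral (k := Ω) (K := F ⧸ 𝔫))
  let ev : F →ₐ[Ω] Ω := eM.symm.toAlgHom.comp (Ideal.Quotient.mkₐ Ω 𝔫)
  have hev : ∀ z, ev z = 0 → z ∈ 𝔫 := fun z hz =>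
    Ideal.Quotient.eq_zero_iff_mem.mp (eM.symm.injective (hz.trans (map_zero _).symm))
  let x : WithConv (C →ₐ[k] Ω) := convMap (ev.restrictScalars k) iR
  have hxL : ∀ g : WithConv (C →ₐ[k] Ω), convMap (ev.restrictScalars k) (convMap iL g) = g := fun g =>
    WithConv.ext (AlgHom.ext fun c => ev.commutes (g.ofConv c))
  have hπe : π e = 0 := Ideal.Quotient.eq_zero_iff_mem.mpr (Ideal.mem_span_singleton_self e)
  have hce : Coalgebra.counit (R := k) e = 0 := by
    rw [← CoalgHomClass.counit_comp_apply π e, hπe, map_zero]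
  -- a power of the point lies in the open subgroup
  obtain ⟨m, hm, hxm⟩ : ∃ m : ℕ, 0 < m ∧ (x ^ m).ofConv e = 0 := by
    let fn : ℕ → {z : F | IsIdempotentElem z} := fun i => ⟨idem (x ^ i), he.map (convMap iL (x ^ i)⁻¹ * iR).ofConv⟩
    haveI : Finite {z : F | IsIdempotentElem z} := (finite_idempotents F).to_subtype
    obtain ⟨i, j, hij, hfn⟩ : ∃ i j, i < j ∧ fn i = fn j := by
      obtain ⟨i, j, hij, hfn⟩ := Finite.exists_ne_map_eq_of_infinite fn
      rcases lt_or_gt_of_ne hij with h | h
      · exact ⟨i, j, h, hfn⟩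
      · exact ⟨j, i, h, hfn.symm⟩
    refine ⟨j - i, Nat.sub_pos_of_lt hij, ?_⟩
    let ev' : F →ₐ[k] Ω := Algebra.TensorProduct.lift (AlgHom.id k Ω) (x ^ j).ofConv fun _ _ => .all _ _
    have h1 : convMap ev' iR = x ^ j := WithConv.ext (AlgHom.ext fun c => by
      exact (Algebra.TensorProduct.lift_tmul (AlgHom.id k Ω) (x ^ j).ofConv (fun _ _ => .all _ _) (1 : Ω) c).trans
        (by rw [map_one, one_mul]))
    have h2 : ∀ z : WithConv (C →ₐ[k] Ω), convMap ev' (convMap iL z) = z := fun z => WithConv.ext (AlgHom.ext fun c => by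
      exact (Algebra.TensorProduct.lift_tmul (AlgHom.id k Ω) (x ^ j).ofConv (fun _ _ => .all _ _) (z.ofConv c)
        (1 : C)).trans (by rw [map_one, mul_one]; rfl))
    have h3 : (convMap ev' (convMap iL (x ^ i)⁻¹ * iR)).ofConv e = (convMap ev' (convMap iL (x ^ j)⁻¹ * iR)).ofConv e :=
      congrArg ev' (congrArg Subtype.val hfn)
    rw [map_mul, map_mul, h1, h2, h2, inv_mul_cancel] at h3
    rw [show x ^ (j - i) = (x ^ i)⁻¹ * x ^ j by
      rw [eq_inv_mul_iff_mul_eq, ← pow_add, Nat.add_sub_cancel' hij.le], h3]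
    show algebraMap k Ω (Coalgebra.counit e) = 0
    rw [hce, map_zero]
  -- decomposition into a torsion point and a point of the subgroup
  let xD : WithConv (D →ₐ[k] Ω) := toConv (Ideal.Quotient.liftₐ (Ideal.span {e}) (x ^ m).ofConv fun b hb => by
    obtain ⟨c, rfl⟩ := Ideal.mem_span_singleton.mp hb
    rw [map_mul, hxm, zero_mul])
  let pre : WithConv (D →ₐ[k] Ω) →* WithConv (C →ₐ[k] Ω) :=
    { toFun := fun g => toConv (g.ofConv.comp (π : C →ₐ[k] D))
      map_one' := by
        refine WithConv.ext (AlgHom.ext fun c => ?_)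
        show algebraMap k Ω (Coalgebra.counit (π c)) = algebraMap k Ω (Coalgebra.counit c)
        rw [CoalgHomClass.counit_comp_apply]
      map_mul' := fun f g => WithConv.ext (AlgHom.convMul_comp_bialgHom_distrib f g π) }
  have hxD : pre xD = x ^ m := WithConv.ext (AlgHom.ext fun c => rfl)
  obtain ⟨χ, hχ⟩ := charPoint_surjective (k := Ω) P.hom P.equiv P.equiv_tmul xD
  obtain ⟨t, ht, hroot⟩ := exists_root_char M (k := Ω)
  obtain ⟨η, hη⟩ := hroot χ.toHomUnits m hm
  let h : WithConv (C →ₐ[k] Ω) := pre (charPoint P.hom ((Units.coeHom Ω).comp η))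
  have hh : h ^ (m * t) = (x ^ m) ^ t := by
    rw [← hxD, ← hχ, ← map_pow, ← map_pow, ← map_pow, ← map_pow]
    refine congrArg _ (congrArg _ (MonoidHom.ext fun u => ?_))
    have h1 := congrArg (fun f : M →* Ωˣ => ((f u : Ωˣ) : Ω)) hη
    simpa using h1
  let g : WithConv (C →ₐ[k] Ω) := x * h⁻¹
  have hg : ∃ d : ℕ, 0 < d ∧ g ^ d = 1 := ⟨m * t, Nat.mul_pos hm ht, by
    rw [mul_pow, inv_pow, hh, ← pow_mul, mul_inv_cancel]⟩
  let z : hfin.toFinset := ⟨idem g, hfin.mem_toFinset.mpr ⟨g, hg, rfl⟩⟩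
  let g' := rep z
  have hg' : idem g' = idem g := hrep' z
  -- the idempotent vanishes at the point
  have hev0 : ev (idem g') = 0 := by
    rw [hg']
    show (convMap (ev.restrictScalars k) (convMap iL g⁻¹ * iR)).ofConv e = 0
    rw [map_mul, hxL, show g⁻¹ * convMap (ev.restrictScalars k) iR = h from by
      show (x * h⁻¹)⁻¹ * x = h
      rw [mul_inv_rev, inv_inv, mul_assoc, inv_mul_cancel, mul_one]]
    show (charPoint P.hom ((Units.coeHom Ω).comp η)).ofConv (π e) = 0
    rw [hπe, map_zero]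
  -- translation
  let T : WithConv (C →ₐ[k] Ω) → (F →ₐ[Ω] F) := fun q =>
    Algebra.TensorProduct.lift (Algebra.ofId Ω F) (convMap iL q * iR).ofConv fun _ _ => .all _ _
  have hTR : ∀ q, convMap ((T q).restrictScalars k) iR = convMap iL q * iR := fun q =>
    WithConv.ext (AlgHom.ext fun c => (Algebra.TensorProduct.lift_tmul (Algebra.ofId Ω F) (convMap iL q * iR).ofConv (fun _ _ => .all _ _) (1 : Ω) c).trans (by rw [map_one, one_mul]))
  have hTL : ∀ (q r : WithConv (C →ₐ[k] Ω)), convMap ((T q).restrictScalars k) (convMap iL r) = convMap iL r := fun q r =>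
    WithConv.ext (AlgHom.ext fun c => (T q).commutes (r.ofConv c))
  have hTinv : ∀ v, T g'⁻¹ (T g' v) = v := by
    intro v
    refine AlgHom.congr_fun (φ₁ := (T g'⁻¹).comp (T g')) (φ₂ := AlgHom.id Ω F) ?_ v
    refine Algebra.TensorProduct.ext (Subsingleton.elim _ _) (AlgHom.ext fun c => ?_)
    show (convMap ((T g'⁻¹).restrictScalars k) (convMap ((T g').restrictScalars k) iR)).ofConv c = iR.ofConv c
    rw [hTR, map_mul, hTL, hTR, ← mul_assoc, ← map_mul, mul_inv_cancel, map_one, one_mul]
  have hTe : T g' (idem g') = 1 ⊗ₜ e := by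
    show (convMap ((T g').restrictScalars k) (convMap iL g'⁻¹ * iR)).ofConv e = _
    rw [map_mul, hTL, hTR, ← mul_assoc, ← map_mul, inv_mul_cancel, map_one, one_mul]
    rfl
  let Φ : F →ₐ[Ω] MonoidAlgebra Ω M :=
    P.equiv.toAlgHom.comp (Algebra.TensorProduct.map (AlgHom.id Ω Ω) (π : C →ₐ[k] D))
  have hΦR : convMap (Φ.restrictScalars k) iR = φ := WithConv.ext (AlgHom.ext fun c => P.equiv_tmul (π c))
  have hΦ : Φ (T g' w) = 0 := by
    rw [hw]
    show (convMap (Φ.restrictScalars k) (convMap ((T g').restrictScalars k) iR)).ofConv (a ^ E₀ * f) = 0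
    rw [hTR, map_mul (convMap (Φ.restrictScalars k)), hΦR, show convMap (Φ.restrictScalars k) (convMap iL g') = convMap ιΩ g' from
      WithConv.ext (AlgHom.ext fun c => Φ.commutes (g'.ofConv c))]
    exact hE₀ z
  have hmem : T g' w ∈ Ideal.span {((1 : Ω) ⊗ₜ[k] e : F)} := by
    have h1 : T g' w ∈ RingHom.ker (Algebra.TensorProduct.map (AlgHom.id k Ω) (π : C →ₐ[k] D)) :=
      P.equiv.injective (hΦ.trans (map_zero _).symm)
    rw [Algebra.TensorProduct.lTensor_ker _ Ideal.Quotient.mk_surjective,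
      show RingHom.ker (π : C →ₐ[k] D) = Ideal.span {e} from Ideal.mk_ker, Ideal.map_span, Set.image_singleton] at h1
    exact h1
  obtain ⟨v, hv⟩ := Ideal.mem_span_singleton.mp hmem
  have hkill : w * (1 - idem g') = 0 := by
    have h1 : T g' (w * (1 - idem g')) = 0 := by
      rw [map_mul, map_sub, map_one, hTe, hv, mul_right_comm, mul_sub, mul_one,
        Algebra.TensorProduct.tmul_mul_tmul, one_mul, he.eq, sub_self, zero_mul]
    rw [← hTinv (w * (1 - idem g')), h1, map_zero]
  have h1 : 1 - idem g' ∈ 𝔫 := hle (by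
    rw [LinearMap.mem_ker, LinearMap.toSpanSingleton_apply, smul_eq_mul, mul_comm, hkill])
  exact h𝔫.ne_top ((Ideal.eq_top_iff_one 𝔫).mpr (by simpa using 𝔫.add_mem h1 (hev _ hev0)))

end Groth.Agent.S5300
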