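import Groth.Statements.S5308
import Groth.Agent.GrpSchLib.TwConstClosed

set_option autoImplicit false
open CategoryTheory MonoidalCategory CartesianMonoidalCategory MonObj GrpObj AlgebraicGeometry
universe u
open SGA3x
open Limits

namespace Groth.Agent.S5308

/-- (i) ⇒ (ii). Let R be a commutative twisted constant S-group which is isotrivial (it becomes a
constant group over the open and closed pieces of one finite etale surjective S' ⟶ S). Then R is a
union of open and closed subschemes which are quasi-compact, indeed finite, over S: every point of R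
has an open and closed neighbourhood U in R with U ⟶ S finite. -/
theorem result {S : Scheme.{u}} (R : Over S) [GrpObj R]
    (hcomm : ∀ (X : Over S) (a b : X ⟶ R), a * b = b * a) (hR : TwC.IsTwConstGrp TwC.Topology.finiteEtale R) (x : R.left) :
    ∃ U : R.left.Opens, x ∈ U ∧ IsClosed (U : Set R.left) ∧ IsFinite (U.ι ≫ R.hom) := by
  obtain ⟨S', f, hff, hfe, hfs, hloc⟩ := hR
  haveI := hff; haveI := hfe; haveI := hfs
  have htw : TwC.IsTwConst TwC.Topology.fpqc R := by
    refine ⟨S', f, inferInstance, inferInstance, fun V hV => ⟨f ⁻¹ᵁ V, f.isCompact_preimage hV.isCompact, ?_⟩,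
      fun s' => ?_⟩
    · exact Set.image_preimage_eq _ f.surjective
    · obtain ⟨U₀, hmem, -, M, _, e, -⟩ := hloc s'
      exact ⟨U₀, hmem, M, ⟨e⟩⟩
  obtain ⟨t, ht⟩ := f.surjective (R.hom x)
  obtain ⟨U₀, hmem, hcl, M, _, e, -⟩ := hloc t
  let g : (U₀ : Scheme.{u}) ⟶ S := U₀.ι ≫ f
  haveI : IsClosedImmersion U₀.ι := .of_isPreimmersion _ (by rw [Scheme.Opens.range_ι]; exact hcl)
  haveI : IsFinite g := inferInstanceAs (IsFinite (U₀.ι ≫ f))
  haveI : Etale g := inferInstanceAs (Etale (U₀.ι ≫ f))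
  let q := pullback.fst R.hom g
  haveI : IsFinite q := MorphismProperty.pullback_fst (P := @IsFinite) _ _ inferInstance
  haveI : Etale q := MorphismProperty.pullback_fst (P := @Etale) _ _ inferInstance
  let el : pullback R.hom g ≅ ∐ fun _ : M => (U₀ : Scheme.{u}) := (Over.forget _).mapIso e
  have hel : el.hom ≫ (Sigma.desc fun _ : M => 𝟙 (U₀ : Scheme.{u})) = pullback.snd R.hom g := Over.w e.hom
  obtain ⟨y, hy, -⟩ := Scheme.Pullback.exists_preimage_pullback (f := R.hom) (g := g) x ⟨t, hmem⟩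
    (show R.hom x = f (U₀.ι ⟨t, hmem⟩) from ht.symm)
  obtain ⟨⟨m, t'⟩, ht'⟩ := (sigmaMk fun _ : M => (U₀ : Scheme.{u})).surjective (el.hom y)
  rw [sigmaMk_mk] at ht'
  let c : (U₀ : Scheme.{u}) ⟶ R.left := Sigma.ι (fun _ : M => (U₀ : Scheme.{u})) m ≫ el.inv ≫ q
  have hc : c ≫ R.hom = g := by
    have h2 : el.inv ≫ pullback.snd R.hom g = Sigma.desc fun _ : M => 𝟙 (U₀ : Scheme.{u}) := by
      rw [← hel, Iso.inv_hom_id_assoc]
    simp only [c, q, Category.assoc, pullback.condition]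
    rw [reassoc_of% h2, ← Category.assoc, Sigma.ι_desc, Category.id_comp]
  have hι : IsClosed (Set.range (Sigma.ι (fun _ : M => (U₀ : Scheme.{u})) m)) := by
    rw [← isOpen_compl_iff, show (Set.range (Sigma.ι (fun _ : M => (U₀ : Scheme.{u})) m))ᶜ =
      ⋃ j ∈ {j | j ≠ m}, Set.range (Sigma.ι (fun _ : M => (U₀ : Scheme.{u})) j) from ?_]
    · exact isOpen_biUnion fun j _ => (Sigma.ι (fun _ : M => (U₀ : Scheme.{u})) j).isOpenEmbedding.isOpen_range
    ext z
    obtain ⟨⟨j, w⟩, rfl⟩ := (sigmaMk fun _ : M => (U₀ : Scheme.{u})).surjective z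
    rw [sigmaMk_mk]
    constructor
    · exact fun hz => Set.mem_iUnion₂.mpr ⟨j, fun hj => hz (by subst hj; exact ⟨w, rfl⟩), w, rfl⟩
    · rintro hz ⟨w', hw'⟩
      obtain ⟨j', hj', w'', hw''⟩ := Set.mem_iUnion₂.mp hz
      exact hj' (congrArg Sigma.fst ((sigmaι_eq_iff _ _ _ _ _).mp (hw''.trans hw'.symm)))
  haveI : IsClosedImmersion (Sigma.ι (fun _ : M => (U₀ : Scheme.{u})) m) := .of_isPreimmersion _ hι
  let U : R.left.Opens := ⟨Set.range c, c.isOpenMap.isOpen_range⟩
  have hUcl : IsClosed (U : Set R.left) := c.isClosedMap.isClosed_range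
  haveI : IsClosedImmersion U.ι := .of_isPreimmersion _ (by rw [Scheme.Opens.range_ι]; exact hUcl)
  haveI : QuasiCompact (U.ι ≫ R.hom) := ⟨fun V hVo hVc => by
    rw [U.ι.isOpenEmbedding.isInducing.isCompact_iff]
    have : U.ι '' ((U.ι ≫ R.hom) ⁻¹' V) = c '' (g ⁻¹' V) := by
      ext r
      constructor
      · rintro ⟨u, hu, rfl⟩
        obtain ⟨w, hw⟩ := u.2
        refine ⟨w, ?_, hw⟩
        have : g w = R.hom (U.ι u) := by rw [← hc, Scheme.Hom.comp_apply, hw]; rfl
        rw [Set.mem_preimage, this, ← Scheme.Hom.comp_apply]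
        exact hu
      · rintro ⟨w, hw, rfl⟩
        refine ⟨⟨c w, ⟨w, rfl⟩⟩, ?_, rfl⟩
        rw [Set.mem_preimage, Scheme.Hom.comp_apply]
        show R.hom (c w) ∈ V
        rw [← Scheme.Hom.comp_apply, hc]
        exact hw
    rw [this]
    exact (QuasiCompact.isCompact_preimage V hVo hVc).image c.continuous⟩
  refine ⟨U, ⟨t', ?_⟩, hUcl, GrpSchLib.TwConstClosed.isFinite_of_twConst R htw U.ι⟩
  show c t' = x
  rw [Scheme.Hom.comp_apply, Scheme.Hom.comp_apply, ht', ← Scheme.Hom.comp_apply el.hom el.inv, el.hom_inv_id]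
  exact hy

end Groth.Agent.S5308
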