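import Groth.Statements.S5309
import Groth.Agent.MorLib.Birat
import Groth.Agent.H23.StalkPrimes


set_option autoImplicit false
open CategoryTheory MonoidalCategory CartesianMonoidalCategory MonObj GrpObj AlgebraicGeometry
universe u
open CategoryTheory.Limits
open SGA3x

namespace Groth.Agent.S5309
set_option linter.style.haveILetI false
open Groth.Agent CategoryTheory.Limits IsLocalRing

section
variable {Y X : Scheme.{u}} (g : Y ⟶ X)

/-- The stalk map of `g` at a point lying over a generization of `x`. -/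
noncomputable abbrev phi {z : Y} {x : X} (h : g z ⤳ x) : X.presheaf.stalk x ⟶ Y.presheaf.stalk z :=
  X.presheaf.stalkSpecializes h ≫ g.stalkMap z

/-- `g` is an isomorphism over a neighbourhood of `y`. -/
def IsoAt (y : X) : Prop := ∃ V : X.Opens, y ∈ V ∧ IsIso (g ∣_ V)

theorem isOpen_isoAt : IsOpen {y | IsoAt g y} :=
  isOpen_iff_forall_mem_open.mpr fun _ ⟨V, hy, hV⟩ => ⟨V, fun _ hw => ⟨V, hw, hV⟩, V.2, hy⟩

theorem exists_over {y : X} (h : IsoAt g y) : ∃ z, g z = y ∧ IsIso (g.stalkMap z) := by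
  obtain ⟨V, hyV, hV⟩ := h
  obtain ⟨w, hw⟩ := (g ∣_ V).surjective ⟨y, hyV⟩
  refine ⟨w.1, (morphismRestrict_base_coe g V w).symm.trans (congrArg Subtype.val hw), ?_⟩
  exact ((MorphismProperty.isomorphisms CommRingCat).arrow_mk_iso_iff (morphismRestrictStalkMap g V w)).mp
    (MorphismProperty.isomorphisms.infer_property _)

theorem isIso_of_isoAt (h : ∀ y, IsoAt g y) : IsIso g := by
  choose V hV hi using h
  refine (IsZariskiLocalAtTarget.iff_of_iSup_eq_top (P := MorphismProperty.isomorphisms Scheme.{u}) V ?_).mpr hi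
  exact TopologicalSpace.Opens.ext (Set.eq_univ_of_forall fun y => by
    simp only [TopologicalSpace.Opens.coe_iSup, Set.mem_iUnion]
    exact ⟨y, hV y⟩)

theorem IsoAt.mono {Y' : Scheme.{u}} (g' : Y' ⟶ X) [IsImmersion g'] (t : Y ⟶ Y') (ht : t ≫ g' = g) {y : X}
    (h : IsoAt g y) : IsoAt g' y := by
  subst ht
  obtain ⟨V, hyV, hV⟩ := h
  refine ⟨V, hyV, ?_⟩
  rw [morphismRestrict_comp] at hV
  haveI : IsIso (t ∣_ g' ⁻¹ᵁ V ≫ g' ∣_ V) := hV
  haveI : IsImmersion (g' ∣_ V) := MorphismProperty.IsStableUnderBaseChange.of_isPullback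
    (isPullback_morphismRestrict g' V).flip ‹IsImmersion g'›
  let e := asIso (t ∣_ g' ⁻¹ᵁ V ≫ g' ∣_ V)
  haveI : IsSplitEpi (g' ∣_ V) := ⟨⟨⟨e.inv ≫ t ∣_ g' ⁻¹ᵁ V, by
    rw [Category.assoc]; exact e.inv_hom_id⟩⟩⟩
  exact isIso_of_mono_of_isSplitEpi _

/-- An immersion of locally noetherian schemes injective on the stalk at a point is an isomorphism near it. -/
theorem isoAt_of_injective [IsImmersion g] [IsLocallyNoetherian X] (z : Y)
    (h : Function.Injective (g.stalkMap z).hom) : IsoAt g (g z) := by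
  have hiso : IsIso (g.stalkMap z) :=
    (ConcreteCategory.isIso_iff_bijective _).mpr ⟨h, SurjectiveOnStalks.stalkMap_surjective g z⟩
  obtain ⟨_, ⟨V₀, hV₀, rfl⟩, hzV, -⟩ :=
    X.isBasis_affineOpens.exists_subset_of_mem_open (Set.mem_univ (g z)) isOpen_univ
  obtain ⟨U₀, hU₀, hzU, hUV⟩ := exists_isAffineOpen_mem_and_subset (show z ∈ g ⁻¹ᵁ V₀ from hzV)
  obtain ⟨U, V, hle, hzU', -, -, hi⟩ := MorLib.Birat.exists_isIso_resLE g hiso hV₀ hU₀ hUV hzU (Or.inl inferInstance)
  refine ⟨V, hle hzU', ?_⟩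
  have hU : g ⁻¹ᵁ V = U := le_antisymm (fun p hp => ?_) hle
  · subst hU
    rw [Scheme.Hom.resLE_eq_morphismRestrict] at hi
    exact hi
  · haveI := hi
    obtain ⟨u, hu⟩ := (g.resLE V U hle).surjective ⟨g p, hp⟩
    have h2 : g u.1 = g p := by
      have h3 := congrArg (fun w => V.ι w) hu
      simp only [← Scheme.Hom.comp_apply, Scheme.Hom.resLE_comp_ι] at h3
      exact h3
    exact (g.isEmbedding.injective h2) ▸ u.2

end


/-- Let S be a Noetherian scheme, f : X ⟶ S quasi-finite (locally quasi-finite, of finite type), and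
(X_i) an increasing filtered family of subschemes of X (immersions x_i : X_i ⟶ X indexed by a
directed preorder, x_i factoring through x_j for i ≤ j) such that for every s ∈ S and every n ≥ 0
there is an index i for which the base change of x_i to Spec (O_{S,s}/𝔪_s^(n+1)) is an isomorphism
onto X ×_S Spec (O_{S,s}/𝔪_s^(n+1)). Then x_i is an isomorphism for some i. -/
theorem result {S X : Scheme.{u}} [IsNoetherian S] (f : X ⟶ S)
    [LocallyQuasiFinite f] [LocallyOfFiniteType f] [QuasiCompact f]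
    {D : Type u} [Preorder D] [IsDirected D (fun a b => a ≤ b)] [Nonempty D]
    (Xi : D → Scheme.{u}) (x : ∀ i, Xi i ⟶ X) (hx : ∀ i, IsImmersion (x i))
    (hmono : ∀ i j, i ≤ j → ∃ t : Xi i ⟶ Xi j, t ≫ x j = x i)
    (h : ∀ (s : S) (n : ℕ), ∃ i : D,
      IsIso (pullback.snd (x i) (pullback.fst f
        (Spec.map (CommRingCat.ofHom (Ideal.Quotient.mk (IsLocalRing.maximalIdeal (S.presheaf.stalk s) ^ (n + 1)))) ≫ S.fromSpecStalk s)))) :
    ∃ i : D, IsIso (x i) := by
  haveI := hx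
  haveI : IsLocallyNoetherian X := LocallyOfFiniteType.isLocallyNoetherian f
  haveI : CompactSpace X := QuasiCompact.compactSpace_of_compactSpace f
  haveI : IsNoetherian X := {}
  haveI : ∀ i, LocallyOfFinitePresentation (x i) := fun i => inferInstance
  have mono : ∀ i j, i ≤ j → ∀ y, IsoAt (x i) y → IsoAt (x j) y := fun i j hij y hy => by
    obtain ⟨t, ht⟩ := hmono i j hij
    exact IsoAt.mono _ _ t ht hy
  suffices hall : ∀ y : X, ∃ i, IsoAt (x i) y by
    obtain ⟨i, hi⟩ := isCompact_univ.elim_directed_cover (fun i => {y | IsoAt (x i) y}) (fun i => isOpen_isoAt _)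
      (fun y _ => Set.mem_iUnion.mpr (hall y)) (fun i j => by
        obtain ⟨k, hik, hjk⟩ := exists_ge_ge i j
        exact ⟨k, fun y => mono i k hik y, fun y => mono j k hjk y⟩)
    exact ⟨i, isIso_of_isoAt _ fun y => hi (Set.mem_univ y)⟩
  by_contra hne
  push Not at hne
  -- a point maximal among those where no member is an isomorphism
  let W : Set X := ⋃ i, {y | IsoAt (x i) y}
  have hWo : IsOpen W := isOpen_iUnion fun i => isOpen_isoAt _
  obtain ⟨y₀, hy₀⟩ := hne
  haveI : QuasiSober ↥Wᶜ := hWo.isClosed_compl.isClosedEmbedding_subtypeVal.quasiSober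
  let Z : Set ↥Wᶜ := irreducibleComponent ⟨y₀, by simpa [W] using hy₀⟩
  have hZ : IsIrreducible Z := isIrreducible_irreducibleComponent
  obtain ⟨ξ, hξ⟩ := QuasiSober.sober hZ isClosed_irreducibleComponent
  have hgen : ∀ y : X, y ⤳ ξ.1 → y ≠ ξ.1 → y ∈ W := by
    intro y hy hne'
    by_contra hyW
    have hy' : (⟨y, hyW⟩ : ↥Wᶜ) ⤳ ξ := (subtype_specializes_iff _ _).mpr hy
    have hmax : closure {(⟨y, hyW⟩ : ↥Wᶜ)} = Z :=
      eq_irreducibleComponent (isIrreducible_singleton.closure).isPreirreducible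
        (hξ.def.symm.subset.trans (closure_minimal (Set.singleton_subset_iff.mpr hy'.mem_closure) isClosed_closure))
    exact hne' (congrArg Subtype.val (IsGenericPoint.eq (show IsGenericPoint _ Z from hmax) hξ))
  have hξW : ξ.1 ∉ W := ξ.2
  obtain ⟨y, hy⟩ : ∃ y, y = ξ.1 := ⟨_, rfl⟩
  rw [← hy] at hgen hξW
  clear hy hξ hZ Z
  refine hξW (Set.mem_iUnion.mpr ?_)
  -- one member good at all proper generizations
  obtain ⟨i₀, hi₀⟩ := (TopologicalSpace.NoetherianSpace.isCompact W).elim_directed_cover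
    (fun i => {y | IsoAt (x i) y}) (fun i => isOpen_isoAt _) subset_rfl (fun i j => by
        obtain ⟨k, hik, hjk⟩ := exists_ge_ge i j
        exact ⟨k, fun y => mono i k hik y, fun y => mono j k hjk y⟩)
  let O := X.presheaf.stalk y
  -- infinitesimal neighbourhoods lie in the family
  have inf : ∀ n : ℕ, ∃ (i : D) (z : Xi i) (hz : x i z = y), ∀ a, (phi (x i) (specializes_of_eq hz)).hom a = 0 →
      a ∈ maximalIdeal O ^ (n + 1) := by
    intro n
    obtain ⟨i, hi⟩ := h (f y) n
    let J := maximalIdeal (S.presheaf.stalk (f y)) ^ (n + 1)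
    let p := pullback.fst f (Spec.map (CommRingCat.ofHom (Ideal.Quotient.mk J)) ≫ S.fromSpecStalk (f y))
    haveI : IsIso (pullback.snd (x i) p) := hi
    let K := maximalIdeal O ^ (n + 1)
    have hK : K ≠ ⊤ := fun hK => (maximalIdeal.isMaximal O).ne_top
      (top_le_iff.mp (hK ▸ Ideal.pow_le_self n.succ_ne_zero))
    haveI : Nontrivial (O ⧸ K) := Ideal.Quotient.nontrivial_iff.mpr hK
    haveI : IsLocalRing (O ⧸ K) := IsLocalRing.of_surjective' (Ideal.Quotient.mk K) Ideal.Quotient.mk_surjective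
    have hJK : J ≤ K.comap (f.stalkMap y).hom := by
      rw [← Ideal.map_le_iff_le_comap, Ideal.map_pow]
      exact Ideal.pow_right_mono (map_maximalIdeal_le (f.stalkMap y).hom) _
    let q : O ⟶ CommRingCat.of (O ⧸ K) := CommRingCat.ofHom (Ideal.Quotient.mk K)
    let qs : CommRingCat.of (S.presheaf.stalk (f y) ⧸ J) ⟶ CommRingCat.of (O ⧸ K) :=
      CommRingCat.ofHom (Ideal.quotientMap K (f.stalkMap y).hom hJK)
    have hqs : CommRingCat.ofHom (Ideal.Quotient.mk J) ≫ qs = f.stalkMap y ≫ q := by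
      ext a; rfl
    let l : Spec (CommRingCat.of (O ⧸ K)) ⟶ pullback f _ := pullback.lift (Spec.map q ≫ X.fromSpecStalk y) (Spec.map qs) (by
      rw [Category.assoc, ← Scheme.SpecMap_stalkMap_fromSpecStalk, ← Spec.map_comp_assoc, ← Spec.map_comp_assoc, hqs])
    let v : Spec (CommRingCat.of (O ⧸ K)) ⟶ Xi i := l ≫ inv (pullback.snd (x i) p) ≫ pullback.fst (x i) p
    have hv : v ≫ x i = Spec.map q ≫ X.fromSpecStalk y := by
      simp only [v, Category.assoc, pullback.condition, IsIso.inv_hom_id_assoc]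
      exact pullback.lift_fst _ _ _
    have hz : x i (v (closedPoint (O ⧸ K))) = y := by
      haveI : IsLocalHom q.hom := IsLocalHom.of_surjective _ Ideal.Quotient.mk_surjective
      rw [← Scheme.Hom.comp_apply, hv, Scheme.Hom.comp_apply]
      exact (congrArg (X.fromSpecStalk y) (IsLocalRing.comap_closedPoint q.hom)).trans Scheme.fromSpecStalk_closedPoint
    refine ⟨i, _, hz, fun a ha => Ideal.Quotient.eq_zero_iff_mem.mp ?_⟩
    have key : phi (x i) (specializes_of_eq hz) ≫ Scheme.stalkClosedPointTo v = q := by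
      apply Spec.map_injective
      rw [← cancel_mono (X.fromSpecStalk y), ← hv, phi, Spec.map_comp, Spec.map_comp, Category.assoc, Category.assoc,
        Scheme.SpecMap_stalkSpecializes_fromSpecStalk, Scheme.SpecMap_stalkMap_fromSpecStalk,
        Scheme.Spec_stalkClosedPointTo_fromSpecStalk_assoc]
    have h1 := congrArg (fun φ => φ.hom a) key
    simp only [phi, CommRingCat.hom_comp, RingHom.comp_apply] at h1 ha
    rw [ha, map_zero] at h1
    exact h1.symm
  -- the kernels are torsion at the closed point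
  obtain ⟨i₁, z₁, hz₁, -⟩ := inf 0
  obtain ⟨i₂, hi₀₂, hi₁₂⟩ := exists_ge_ge i₀ i₁
  obtain ⟨t₂, ht₂⟩ := hmono i₁ i₂ hi₁₂
  have hz₂ : x i₂ (t₂ z₁) = y := by rw [← Scheme.Hom.comp_apply, ht₂, hz₁]
  let I : Ideal O := RingHom.ker (phi (x i₂) (specializes_of_eq hz₂)).hom
  obtain ⟨N, hN⟩ : ∃ N, maximalIdeal O ^ N ≤ Submodule.annihilator I := by
    refine Ideal.exists_pow_le_of_le_radical_of_fg ?_ (IsNoetherian.noetherian _)
    rw [Ideal.radical_eq_sInf]
    refine le_sInf fun P hP => ?_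
    by_contra hm
    haveI := hP.2
    obtain ⟨w, hw, hwP⟩ := H23.StalkPrimes.exists_point P
    have hne' : w ≠ y := by
      rintro rfl
      refine hm fun r hr => ?_
      rw [← hwP, CDiv6.mem_primeOf, TopCat.Presheaf.stalkSpecializes_refl]
      exact hr
    obtain ⟨z', hz', hiso⟩ := exists_over _ (mono i₀ i₂ hi₀₂ w (hi₀ (hgen w hw hne')))
    subst hz'
    have hzz : z' ⤳ t₂ z₁ := (x i₂).isEmbedding.isInducing.specializes_iff.mp (hz₂ ▸ hw)
    obtain ⟨s, hs⟩ := Submodule.fg_iff_exists_fin_generating_family.mp (IsNoetherian.noetherian I)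
    have hzero : ∀ a ∈ I, X.presheaf.stalkSpecializes hw a = 0 := fun a ha => by
      have h1 := congrArg ((Xi i₂).presheaf.stalkSpecializes hzz) (show (phi (x i₂) (specializes_of_eq hz₂)).hom a = 0 from ha)
      rw [map_zero] at h1
      haveI := hiso
      apply (ConcreteCategory.bijective_of_isIso ((x i₂).stalkMap z')).1
      rw [map_zero, ← h1]
      simp only [phi, CommRingCat.comp_apply, ← Scheme.Hom.stalkSpecializes_stalkMap_apply]
      congr 1
      exact (TopCat.Presheaf.stalkSpecializes_comp_apply X.presheaf _ _ a).symm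
    obtain ⟨g, hg⟩ := hs
    letI := (X.presheaf.stalkSpecializes hw).hom.toAlgebra
    haveI := H23.StalkPrimes.isLocalization_primeOf hw
    have hc : ∀ j, ∃ r : O, r ∉ P ∧ r * g j = 0 := fun j => by
      have hgI : g j ∈ I := hg ▸ Submodule.subset_span ⟨j, rfl⟩
      obtain ⟨r, hr⟩ := (IsLocalization.map_eq_zero_iff (CDiv6.primeOf hw).asIdeal.primeCompl
        (X.presheaf.stalk (x i₂ z')) (g j)).mp (hzero _ hgI)
      exact ⟨r.1, hwP ▸ r.2, hr⟩
    choose r hr hrg using hc
    have hp : ∏ j, r j ∈ P := hP.1 ?_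
    · exact (Ideal.IsPrime.prod_mem_iff.not.mpr (by simpa using hr)) hp
    refine Submodule.mem_annihilator.mpr ?_
    intro a ha
    rw [← hg] at ha
    refine Submodule.span_induction ?_ (smul_zero _) (fun a b _ _ ha hb => by rw [smul_add, ha, hb, add_zero])
      (fun c a _ ha => by rw [smul_comm, ha, smul_zero]) ha
    rintro _ ⟨j, rfl⟩
    rw [smul_eq_mul, ← Finset.mul_prod_erase Finset.univ r (Finset.mem_univ j), mul_comm (r j), _root_.mul_assoc, hrg, mul_zero]
  obtain ⟨c, hc⟩ := Ideal.exists_pow_inf_eq_pow_smul (maximalIdeal O) (M := O) I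
  have hI : maximalIdeal O ^ (c + N) ⊓ I = ⊥ := by
    have h1 := hc (c + N) (Nat.le_add_right _ _)
    rw [smul_eq_mul, Ideal.mul_top, Nat.add_sub_cancel_left] at h1
    rw [h1, eq_bot_iff]
    refine Submodule.smul_le.mpr fun r hr a ha => ?_
    simpa using Submodule.mem_annihilator.mp (hN hr) a ha.2
  obtain ⟨i₃, z₃, hz₃, hn⟩ := inf (c + N)
  obtain ⟨j, hj₂, hj₃⟩ := exists_ge_ge i₂ i₃
  obtain ⟨a₂, ha₂⟩ := hmono i₂ j hj₂
  obtain ⟨a₃, ha₃⟩ := hmono i₃ j hj₃
  have hzj : x j (a₂ (t₂ z₁)) = y := by rw [← Scheme.Hom.comp_apply, ha₂, hz₂]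
  refine ⟨j, hzj ▸ isoAt_of_injective (x j) _ ?_⟩
  refine (injective_iff_map_eq_zero _).mpr fun b hb => ?_
  obtain ⟨a, rfl⟩ : ∃ a, (X.presheaf.stalkSpecializes (specializes_of_eq hzj)).hom a = b :=
    ⟨X.presheaf.stalkSpecializes (specializes_of_eq hzj.symm) b, by
      rw [← CommRingCat.comp_apply, TopCat.Presheaf.stalkSpecializes_comp, TopCat.Presheaf.stalkSpecializes_refl]; rfl⟩
  have key : ∀ (i : D) (t : Xi i ⟶ Xi j) (g : Xi i ⟶ X) (ht : t ≫ x j = g) (z : Xi i) (hz : g z = y),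
      (phi g (specializes_of_eq hz)).hom a = 0 := by
    intro i t g ht z hz
    subst ht
    have hzt : a₂ (t₂ z₁) = t z := (x j).isEmbedding.injective (hzj.trans hz.symm)
    have hb' : (x j).stalkMap (t z) (X.presheaf.stalkSpecializes (show x j (t z) ⤳ y from specializes_of_eq hz) a) = 0 := by
      revert hb
      generalize a₂ (t₂ z₁) = w at hzt hzj ⊢
      subst hzt
      exact fun hb => hb
    show ((t ≫ x j).stalkMap z) _ = 0
    rw [Scheme.Hom.stalkMap_comp]
    exact (congrArg (t.stalkMap z) hb').trans (map_zero _)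
  have ha0 : a = 0 := by
    have : a ∈ maximalIdeal O ^ (c + N) ⊓ I :=
      ⟨Ideal.pow_le_pow_right (Nat.le_succ _) (hn a (key i₃ a₃ _ ha₃ z₃ hz₃)), key i₂ a₂ _ ha₂ _ hz₂⟩
    simpa [hI] using this
  rw [ha0, map_zero]

end Groth.Agent.S5309
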