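import Groth.Statements.S5326
import Groth.Agent.Deform.Neutral.Representable


set_option autoImplicit false
universe u
open CategoryTheory CategoryTheory.Limits MonoidalCategory CartesianMonoidalCategory MonObj GrpObj AlgebraicGeometry
open SGA3

namespace Groth.Agent.S5326

/-- Let G be an S-group scheme locally of finite presentation over S, and suppose the neutral component
subfunctor of G is representable: there is a monomorphism i : G⁰ → G of S-schemes such that a point
g : T → G factors through i exactly when the image of the underlying map of g lies in the union of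
the neutral components of the fibres G_s. Then i is an open immersion and G⁰ is quasi-compact over
S. -/
theorem result (S : Scheme.{u}) (G : Over S) [GrpObj G]
    [LocallyOfFinitePresentation G.hom] (G0 : Over S) (i : G0 ⟶ G) [Mono i]
    (hrep : ∀ (T : Over S) (g : T ⟶ G), (∃ z : T ⟶ G0, z ≫ i = g) ↔ Set.range g.left.base ⊆ SGA3x.neutralSet G) :
    IsOpenImmersion i.left ∧ QuasiCompact G0.hom := by
  haveI : Mono i.left := (Over.forget S).map_mono i
  have hfac : ∀ (T : Scheme.{u}) (g : T ⟶ G.left), (∃ z, z ≫ i.left = g) ↔ Set.range g ⊆ SGA3x.neutralSet G := by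
    intro T g
    refine Iff.trans ?_ (hrep (Over.mk (g ≫ G.hom)) (Over.homMk g rfl))
    constructor
    · rintro ⟨z, rfl⟩
      exact ⟨Over.homMk z (by rw [← Over.w i]; exact (Category.assoc _ _ _).symm), Over.OverMorphism.ext rfl⟩
    · rintro ⟨z, hz⟩
      exact ⟨z.left, congrArg CommaMorphism.left hz⟩
  haveI : IsOpenImmersion i.left :=
    Deform.Neutral.isOpenImmersion_of_factor i.left Deform.Neutral.isIndConstructible_neutralSet hfac
  refine ⟨inferInstance, Deform.Neutral.quasiCompact_of_range i (subset_antisymm ((hfac _ _).mp ⟨𝟙 _, Category.id_comp _⟩) fun x hx => ?_)⟩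
  have hxN : Set.range (G.left.fromSpecResidueField x) ⊆ SGA3x.neutralSet G := by
    rw [Scheme.range_fromSpecResidueField]; exact Set.singleton_subset_iff.mpr hx
  obtain ⟨z, hz⟩ := (hfac _ _).mpr hxN
  refine ⟨z (IsLocalRing.closedPoint _), ?_⟩
  rw [← Scheme.Hom.comp_apply, hz]
  exact Scheme.fromSpecResidueField_apply _ _

end Groth.Agent.S5326
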