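import Groth.Statements.S5346
import Groth.Agent.FComplLib.Thicken
import Groth.Agent.FComplLib.IdealComap
import Groth.Agent.ModPairLib.Basic


set_option autoImplicit false
universe u
open CategoryTheory CategoryTheory.Limits MonoidalCategory CartesianMonoidalCategory MonObj GrpObj AlgebraicGeometry
open SGA3

namespace Groth.Agent.S5346
set_option linter.style.haveILetI false
/-- Let A be a local artinian ring with residue field k and i : Spec k → Spec A the closed point. (i) If
X is an A-scheme whose base change X ⊗_A k is locally of finite type (resp. of finite type) over k,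
then X is locally of finite type (resp. of finite type) over A. (ii) If u : X → Y is a morphism of
A-schemes whose base change u ⊗_A k is an immersion (resp. a closed immersion), then u is an
immersion (resp. a closed immersion). -/
theorem result (A : Type u) [CommRing A] [IsArtinianRing A] [IsLocalRing A] (X Y : Over (Spec (CommRingCat.of A))) (u : X ⟶ Y) :
    letI i : Spec (CommRingCat.of (IsLocalRing.ResidueField A)) ⟶ (Spec (CommRingCat.of A)) := Spec.map (CommRingCat.ofHom (IsLocalRing.residue A))
    (LocallyOfFiniteType (pullback.snd X.hom i) → LocallyOfFiniteType X.hom) ∧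
    (LocallyOfFiniteType (pullback.snd X.hom i) → QuasiCompact (pullback.snd X.hom i) → QuasiCompact X.hom) ∧
    (IsImmersion ((Over.pullback i).map u).left → IsImmersion u.left) ∧
    (IsClosedImmersion ((Over.pullback i).map u).left → IsClosedImmersion u.left) := by
  let i : Spec (CommRingCat.of (IsLocalRing.ResidueField A)) ⟶ Spec (CommRingCat.of A) :=
    Spec.map (CommRingCat.ofHom (IsLocalRing.residue A))
  haveI : IsClosedImmersion i := IsClosedImmersion.spec_of_surjective _ Ideal.Quotient.mk_surjective
  haveI : Surjective i := ⟨fun p => ⟨IsLocalRing.closedPoint (IsLocalRing.ResidueField A),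
    @Subsingleton.elim (PrimeSpectrum A) inferInstance _ _⟩⟩
  haveI : IsLocallyNoetherian (Spec (CommRingCat.of A)) := inferInstance
  let T : (Spec (CommRingCat.of A)).affineOpens := ⟨⊤, isAffineOpen_top _⟩
  obtain ⟨m, hm⟩ : ∃ m, i.ker.ideal T ^ m = ⊥ := by
    have hsupp : i.ker.support = ⊤ := by
      ext1
      rw [Scheme.Hom.support_ker, Set.range_eq_univ.mpr i.surjective, closure_univ]
      rfl
    exact (Ideal.FG.isNilpotent_iff_le_nilradical ((IsLocallyNoetherian.component_noetherian T).noetherian _)).mpr
      (FComplLib.ideal_le_nilradical hsupp T)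
  have hsq : ∀ Z : Over (Spec (CommRingCat.of A)),
      IsPullback (pullback.fst Z.hom i) (pullback.snd Z.hom i) Z.hom i := fun Z => IsPullback.of_hasPullback _ _
  have hcl : ∀ Z : Over (Spec (CommRingCat.of A)), IsClosedImmersion (pullback.fst Z.hom i) ∧
      Surjective (pullback.fst Z.hom i) ∧ (pullback.fst Z.hom i).ker ^ m = ⊥ := by
    intro Z
    refine ⟨inferInstance, inferInstance, Scheme.IdealSheafData.ext (funext fun V => ?_)⟩
    show (pullback.fst Z.hom i).ker.ideal V ^ m = ⊥
    rw [FComplLib.ker_of_isPullback (hsq Z), ModPairLib.ideal_comap _ Z.hom T V (fun x _ => trivial),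
      ← Ideal.map_pow, hm, Ideal.map_bot]
  obtain ⟨hcX, hsX, -⟩ := hcl X
  obtain ⟨hcY, hsY, hmY⟩ := hcl Y
  let g := ((Over.pullback i).map u).left
  have hfst : g ≫ pullback.fst Y.hom i = pullback.fst X.hom i ≫ u.left := pullback.lift_fst _ _ _
  have hsnd : g ≫ pullback.snd Y.hom i = pullback.snd X.hom i := pullback.lift_snd _ _ _
  have sq : IsPullback (pullback.fst X.hom i) g u.left (pullback.fst Y.hom i) := by
    refine IsPullback.of_bot ?_ hfst.symm (hsq Y)
    rw [hsnd, Over.w u]
    exact hsq X
  refine ⟨fun h => ?_, fun _ h => ?_, fun h => ?_, fun h => ?_⟩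
  · exact FComplLib.locallyOfFiniteType_of_thickening (hsq X)
  · haveI : CompactSpace ↥(pullback X.hom i) := QuasiCompact.compactSpace_of_compactSpace (pullback.snd X.hom i)
    haveI : CompactSpace X.left := ⟨by
      rw [← Set.range_eq_univ.mpr (pullback.fst X.hom i).surjective]
      exact isCompact_range (pullback.fst X.hom i).continuous⟩
    exact quasiCompact_of_compactSpace X.hom
  · haveI : IsImmersion g := h
    have hr : Set.range u.left = pullback.fst Y.hom i '' Set.range g := by
      rw [← Set.range_comp, ← TopCat.coe_comp, ← Scheme.Hom.comp_base, hfst, Scheme.Hom.comp_base, TopCat.coe_comp,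
        Set.range_comp, Set.range_eq_univ.mpr (pullback.fst X.hom i).surjective, Set.image_univ]
    have hlc : IsLocallyClosed (Set.range u.left) := by
      rw [hr]
      refine g.isLocallyClosed_range.image (pullback.fst Y.hom i).isClosedEmbedding.isInducing ?_
      rw [Set.range_eq_univ.mpr (pullback.fst Y.hom i).surjective]
      exact isOpen_univ.isLocallyClosed
    let V : Y.left.Opens := ⟨coborder (Set.range u.left), hlc.isOpen_coborder⟩
    let u' : X.left ⟶ V.toScheme := IsOpenImmersion.lift V.ι u.left (by
      rw [Scheme.Opens.range_ι]; exact subset_coborder)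
    have hu' : u' ≫ V.ι = u.left := IsOpenImmersion.lift_fac _ _ _
    let V₀ : (pullback Y.hom i).Opens := pullback.fst Y.hom i ⁻¹ᵁ V
    let g' : pullback X.hom i ⟶ V₀.toScheme := IsOpenImmersion.lift V₀.ι g (by
      rw [Scheme.Opens.range_ι]
      rintro _ ⟨x, rfl⟩
      show pullback.fst Y.hom i (g x) ∈ V
      rw [← Scheme.Hom.comp_apply, hfst, Scheme.Hom.comp_apply]
      exact subset_coborder ⟨_, rfl⟩)
    have hg' : g' ≫ V₀.ι = g := IsOpenImmersion.lift_fac _ _ _
    let iV : V₀.toScheme ⟶ V.toScheme := pullback.fst Y.hom i ∣_ V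
    have sq' : IsPullback (pullback.fst X.hom i) g' u' iV := by
      refine IsPullback.of_bot ?_ ?_ (isPullback_morphismRestrict _ _)
      · rw [hg', hu']; exact sq
      · rw [← cancel_mono V.ι, Category.assoc, Category.assoc, hu', morphismRestrict_ι, reassoc_of% hg', hfst]
    haveI : IsClosedImmersion iV := MorphismProperty.of_isPullback (isPullback_morphismRestrict _ _).flip hcY
    have hm' : iV.ker ^ m = ⊥ := by
      refine Scheme.IdealSheafData.ext (funext fun W => ?_)
      show iV.ker.ideal W ^ m = ⊥
      rw [FComplLib.ker_of_isPullback (isPullback_morphismRestrict (pullback.fst Y.hom i) V),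
        ModPairLib.ideal_comap _ V.ι ⟨V.ι ''ᵁ W.1, W.2.image_of_isOpenImmersion V.ι⟩ W
          (V.ι.preimage_image_eq W.1).ge, ← Ideal.map_pow]
      have := congrArg (fun J : Y.left.IdealSheafData => J.ideal ⟨V.ι ''ᵁ W.1, W.2.image_of_isOpenImmersion V.ι⟩) hmY
      rw [show (pullback.fst Y.hom i).ker.ideal ⟨V.ι ''ᵁ W.1, W.2.image_of_isOpenImmersion V.ι⟩ ^ m = ⊥ from this,
        Ideal.map_bot]
    haveI : IsPreimmersion (g' ≫ V₀.ι) := by rw [hg']; infer_instance
    haveI : IsPreimmersion g' := IsPreimmersion.of_comp g' V₀.ι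
    haveI : IsClosedImmersion g' := by
      refine IsClosedImmersion.of_isPreimmersion g' ?_
      have e : Set.range g' = iV ⁻¹' (V.ι ⁻¹' Set.range u.left) := by
        ext v
        constructor
        · rintro ⟨x, rfl⟩
          refine ⟨pullback.fst X.hom i x, ?_⟩
          rw [← Scheme.Hom.comp_apply iV, morphismRestrict_ι, Scheme.Hom.comp_apply, ← Scheme.Hom.comp_apply g', hg',
            ← Scheme.Hom.comp_apply, ← Scheme.Hom.comp_apply, hfst]
        · rintro ⟨x, hx⟩
          obtain ⟨x', rfl⟩ := (pullback.fst X.hom i).surjective x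
          refine ⟨x', V₀.ι.isOpenEmbedding.injective ((pullback.fst Y.hom i).isClosedEmbedding.injective ?_)⟩
          rw [← Scheme.Hom.comp_apply g', hg', ← Scheme.Hom.comp_apply, hfst, Scheme.Hom.comp_apply, hx,
            ← Scheme.Hom.comp_apply iV, morphismRestrict_ι]
          rfl
      rw [e]
      exact (isClosed_preimage_val_coborder (s := Set.range u.left)).preimage iV.continuous
    haveI : IsClosedImmersion u' := FComplLib.isClosedImmersion_of_thickening sq' hm'
    rw [← hu']; infer_instance
  · haveI : IsClosedImmersion g := h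
    exact FComplLib.isClosedImmersion_of_thickening sq hmY

end Groth.Agent.S5346
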