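import Groth.Statements.S5350
import Groth.Agent.Deform.Homogeneous.Comp

set_option autoImplicit false
universe u
open CategoryTheory CategoryTheory.Limits MonoidalCategory CartesianMonoidalCategory MonObj GrpObj AlgebraicGeometry
open SGA3

namespace Groth.Agent.S5350
attribute [local instance] CategoryTheory.Hom.monoid CategoryTheory.Hom.group
set_option linter.style.haveILetI false
/-- Let G be a group scheme over a field k (not assumed of finite type) acting on a k-scheme X so that G
×_k X → X ×_k X, (g, x) ↦ (gx, x), is surjective; let C⁰ be an irreducible component of G containing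
the unit point and U an open subset of X. Let C⁰·U be the image under the action of the set of
points of G ×_k X whose projections lie in C⁰ and in U. Then (i) C⁰·U is open in X and equals the
union of the irreducible components of X whose generic point lies in U; (ii) if U is retrocompact in
X then C⁰·U is the closure of U (so is open and closed). -/
theorem result (k : Type u) [Field k] (G X : Over (Spec (CommRingCat.of k))) [GrpObj G] (a : AlgGrp.Action G X) (hΦ : Surjective (lift a.act (snd G X)).left)
    (pt : ↥(𝟙_ (Over (Spec (CommRingCat.of k)))).left) (C0 : Set G.left) (hC0 : C0 ∈ irreducibleComponents ↥G.left)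
    (he : η[G].left.base pt ∈ C0) (U : X.left.Opens) :
    letI V : Set X.left := a.act.left.base '' {z : ↥(G ⊗ X).left | (fst G X).left.base z ∈ C0 ∧ (snd G X).left.base z ∈ U}
    IsOpen V ∧ V = ⋃₀ {Z : Set X.left | Z ∈ irreducibleComponents ↥X.left ∧ ∃ ξ ∈ U, closure {ξ} = Z} ∧
    (IsRetrocompact (U : Set X.left) → V = closure (U : Set X.left)) := by
  obtain rfl : pt = IsLocalRing.closedPoint k := @Subsingleton.elim (Spec (CommRingCat.of k)) inferInstance _ _
  obtain ⟨g, hg, hge⟩ := GrpSchLib.exists_isMaxPt (η[G].left (IsLocalRing.closedPoint k))
  obtain rfl : C0 = SGA3x.neutralSet G := by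
    rw [Deform.Homogeneous.neutralSet_eq_closure hg hge]
    exact GrpSchLib.eq_closure_of_mem_irreducibleComponents hg hge hC0 he
  have h := Deform.Homogeneous.image_eq_hull a hΦ U
  refine ⟨h ▸ Deform.Homogeneous.isOpen_hull a hΦ U, h.trans ?_, fun hU => h.trans ?_⟩
  · ext y; exact (Deform.Homogeneous.mem_iUnion_components_iff a hΦ U y).symm
  · haveI := Deform.Homogeneous.quasiCompact_ι U hU
    exact subset_antisymm (Deform.Homogeneous.hull_subset_closure _) (Deform.Homogeneous.closure_subset_hull U)

end Groth.Agent.S5350
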