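import Groth.Statements.S5359
import Groth.Agent.Deform.MonoEndo.Main

set_option autoImplicit false
universe u
open CategoryTheory CategoryTheory.Limits MonoidalCategory CartesianMonoidalCategory MonObj GrpObj AlgebraicGeometry
open SGA3

namespace Groth.Agent.S5359
attribute [local instance] CategoryTheory.Hom.monoid CategoryTheory.Hom.group
set_option linter.style.haveILetI false

theorem isIso_endo {S : Scheme.{u}} (T X : Over S) [LocallyOfFinitePresentation X.hom] [QuasiCompact X.hom]
    [QuasiSeparated X.hom] (φ : T ⊗ X ⟶ T ⊗ X) (hφ : φ ≫ fst T X = fst T X) [Mono φ] : IsIso φ := by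
  haveI : LocallyOfFinitePresentation (fst T X).left :=
    MorphismProperty.pullback_fst (P := @LocallyOfFinitePresentation) T.hom X.hom inferInstance
  haveI : QuasiCompact (fst T X).left :=
    MorphismProperty.pullback_fst (P := @QuasiCompact) T.hom X.hom inferInstance
  haveI : QuasiSeparated (fst T X).left :=
    MorphismProperty.pullback_fst (P := @QuasiSeparated) T.hom X.hom inferInstance
  haveI : IsIso φ.left := Groth.Agent.Deform.MonoEndo.isIso_of_mono_endo' (fst T X).left φ.left
    ((Over.comp_left _ _ _ φ (fst T X)).symm.trans (congrArg CommaMorphism.left hφ))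
  haveI : IsIso ((Over.forget S).map φ) := ‹IsIso φ.left›
  exact isIso_of_reflects_iso φ (Over.forget S)

/-- Let G be an S-group scheme and u : X → G a monomorphism of S-schemes with X of finite presentation
over S. If a point g : T → G is such that, for every T' → T and every point x of X with values in
T', the conjugate g x g⁻¹ is again a point of X, then the same holds for g⁻¹: the transporter of X
into X coincides with the strict transporter (the normalizer of X). -/
theorem result (S : Scheme.{u}) (G X : Over S) [GrpObj G] (u : X ⟶ G) [Mono u]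
    [LocallyOfFinitePresentation X.hom] [QuasiCompact X.hom] [QuasiSeparated X.hom]
    (T : Over S) (g : T ⟶ G)
    (hg : ∀ (T' : Over S) (t : T' ⟶ T) (x : T' ⟶ X), ∃ x' : T' ⟶ X, (t ≫ g) * (x ≫ u) * (t ≫ g)⁻¹ = x' ≫ u) :
    ∀ (T' : Over S) (t : T' ⟶ T) (x : T' ⟶ X), ∃ x' : T' ⟶ X, (t ≫ g)⁻¹ * (x ≫ u) * (t ≫ g) = x' ≫ u := by
  intro T' t x
  obtain ⟨x', hx'⟩ := hg (T ⊗ X) (fst T X) (snd T X)
  let φ : T ⊗ X ⟶ T ⊗ X := lift (fst T X) x'
  haveI : Mono φ := ⟨fun {Z} a b h => by
    have h1 : a ≫ fst T X = b ≫ fst T X := by simpa [φ] using congrArg (· ≫ fst T X) h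
    have h2 : a ≫ x' = b ≫ x' := by simpa [φ] using congrArg (· ≫ snd T X) h
    have h3 := congrArg (a ≫ ·) hx'
    have h4 := congrArg (b ≫ ·) hx'
    simp only [← Category.assoc] at h3 h4
    rw [h2, ← h4] at h3
    simp only [MonObj.comp_mul, GrpObj.comp_inv, ← Category.assoc, h1] at h3
    refine CartesianMonoidalCategory.hom_ext _ _ h1 ((cancel_mono u).mp ?_)
    exact mul_left_cancel (mul_right_cancel h3)⟩
  haveI := isIso_endo T X φ (lift_fst _ _)
  have hφ1 : inv φ ≫ fst T X = fst T X := by rw [IsIso.inv_comp_eq]; exact (lift_fst _ _).symm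
  have hφ2 : inv φ ≫ x' = snd T X := by rw [IsIso.inv_comp_eq]; exact (lift_snd _ _).symm
  refine ⟨(lift t x ≫ inv φ) ≫ snd T X, ?_⟩
  have h5 := congrArg ((lift t x ≫ inv φ) ≫ ·) hx'
  simp only [MonObj.comp_mul, GrpObj.comp_inv, ← Category.assoc] at h5
  rw [Category.assoc (lift t x) (inv φ) (fst T X), hφ1, lift_fst, Category.assoc (lift t x) (inv φ) x', hφ2, lift_snd] at h5
  rw [← h5]
  group

end Groth.Agent.S5359
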