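import Groth.Statements.S5360
import Groth.Agent.Deform.MonoEndo.Main

set_option autoImplicit false
universe u
open CategoryTheory CategoryTheory.Limits MonoidalCategory CartesianMonoidalCategory MonObj GrpObj AlgebraicGeometry
open SGA3

namespace Groth.Agent.S5360
attribute [local instance] CategoryTheory.Hom.monoid CategoryTheory.Hom.group
set_option linter.style.haveILetI false

theorem isIso_endo {S : Scheme.{u}} (T X : Over S) [LocallyOfFinitePresentation X.hom] [QuasiCompact X.hom]
    [QuasiSeparated X.hom] (φ : T ⊗ X ⟶ T ⊗ X) (hφ : φ ≫ fst T X = fst T X) [Mono φ] : IsIso φ := by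
  haveI : LocallyOfFinitePresentation (fst T X).left :=
    MorphismProperty.pullback_fst (P := @LocallyOfFinitePresentation) T.hom X.hom inferInstance
  haveI : QuasiCompact (fst T X).left :=
    MorphismProperty.pullback_fst (P := @QuasiCompact) T.hom X.hom inferInstance
  haveI : QuasiSeparated (fst T X).left :=
    MorphismProperty.pullback_fst (P := @QuasiSeparated) T.hom X.hom inferInstance
  haveI : IsIso φ.left := Groth.Agent.Deform.MonoEndo.isIso_of_mono_endo' (fst T X).left φ.left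
    ((Over.comp_left _ _ _ φ (fst T X)).symm.trans (congrArg CommaMorphism.left hφ))
  haveI : IsIso ((Over.forget S).map φ) := ‹IsIso φ.left›
  exact isIso_of_reflects_iso φ (Over.forget S)

/-- Let G be an S-scheme of finite presentation over S with an associative composition law m : G ×_S G →
G such that for every S-scheme S' and every point g of G with values in S' the left and right
translations by g are injective on G(S'), and such that G has an S-point. Then G is an S-group
scheme: there is a group object structure on G over S whose multiplication is m. -/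
theorem result (S : Scheme.{u}) (G : Over S)
    [LocallyOfFinitePresentation G.hom] [QuasiCompact G.hom] [QuasiSeparated G.hom]
    (m : G ⊗ G ⟶ G) (hassoc : (m ▷ G) ≫ m = (α_ G G G).hom ≫ (G ◁ m) ≫ m)
    (hl : ∀ (T : Over S) (g : T ⟶ G), Function.Injective (fun x : T ⟶ G => lift g x ≫ m))
    (hr : ∀ (T : Over S) (g : T ⟶ G), Function.Injective (fun x : T ⟶ G => lift x g ≫ m))
    (e : 𝟙_ (Over S) ⟶ G) :
    ∃ inst : GrpObj G, inst.mul = m := by
  have mm : ∀ {T : Over S} (a b c : T ⟶ G), lift (lift a b ≫ m) c ≫ m = lift a (lift b c ≫ m) ≫ m := fun a b c => by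
    simpa using congrArg (lift (lift a b) c ≫ ·) hassoc
  let l : G ⊗ G ⟶ G ⊗ G := lift (fst G G) m
  haveI : Mono l := ⟨fun {Z} a b h => by
    have h1 : a ≫ fst G G = b ≫ fst G G := by simpa [l] using congrArg (· ≫ fst G G) h
    have h2 : a ≫ m = b ≫ m := by simpa [l] using congrArg (· ≫ snd G G) h
    refine CartesianMonoidalCategory.hom_ext _ _ h1 (hl Z (a ≫ fst G G) ?_)
    have ea : lift (a ≫ fst G G) (a ≫ snd G G) = a := lift_comp_fst_snd a
    have eb : lift (b ≫ fst G G) (b ≫ snd G G) = b := lift_comp_fst_snd b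
    show lift (a ≫ fst G G) (a ≫ snd G G) ≫ m = lift (a ≫ fst G G) (b ≫ snd G G) ≫ m
    rw [ea, h1, eb, h2]⟩
  haveI := isIso_endo G G l (lift_fst _ _)
  have key : ∀ {T : Over S} (a b : T ⟶ G), lift a ((lift a b ≫ inv l) ≫ snd G G) ≫ m = b := fun {T} a b => by
    have h1 : (lift a b ≫ inv l) ≫ fst G G = a := by
      rw [Category.assoc, show inv l ≫ fst G G = fst G G by rw [IsIso.inv_comp_eq]; exact (lift_fst _ _).symm, lift_fst]
    have h2 : (lift a b ≫ inv l) ≫ m = b := by
      rw [Category.assoc, show inv l ≫ m = snd G G by rw [IsIso.inv_comp_eq]; exact (lift_snd _ _).symm, lift_snd]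
    rw [show lift a ((lift a b ≫ inv l) ≫ snd G G) = lift a b ≫ inv l from
      CartesianMonoidalCategory.hom_ext _ _ ((lift_fst _ _).trans h1.symm) (lift_snd _ _)]
    exact h2
  let e₁ : 𝟙_ (Over S) ⟶ G := (lift e e ≫ inv l) ≫ snd G G
  have hee : lift e e₁ ≫ m = e := key e e
  have he₁ : lift e₁ e₁ ≫ m = e₁ := hl _ e (by
    show lift e (lift e₁ e₁ ≫ m) ≫ m = lift e e₁ ≫ m
    rw [← mm, hee, hee])
  have hone : ∀ {T : Over S} (g : T ⟶ G), lift (toUnit T ≫ e₁) g ≫ m = g ∧ lift g (toUnit T ≫ e₁) ≫ m = g := by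
    intro T g
    have hid : lift (toUnit T ≫ e₁) (toUnit T ≫ e₁) ≫ m = toUnit T ≫ e₁ := by
      rw [← comp_lift, Category.assoc, he₁]
    exact ⟨hl T (toUnit T ≫ e₁) (by
      show lift (toUnit T ≫ e₁) (lift (toUnit T ≫ e₁) g ≫ m) ≫ m = lift (toUnit T ≫ e₁) g ≫ m
      rw [← mm, hid]), hr T (toUnit T ≫ e₁) (by
      show lift (lift g (toUnit T ≫ e₁) ≫ m) (toUnit T ≫ e₁) ≫ m = lift g (toUnit T ≫ e₁) ≫ m
      rw [mm, hid])⟩
  let i : G ⟶ G := (lift (𝟙 G) (toUnit G ≫ e₁) ≫ inv l) ≫ snd G G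
  have hri : lift (𝟙 G) i ≫ m = toUnit G ≫ e₁ := key _ _
  have hli : lift i (𝟙 G) ≫ m = toUnit G ≫ e₁ := hl G (𝟙 G) (by
    show lift (𝟙 G) (lift i (𝟙 G) ≫ m) ≫ m = lift (𝟙 G) (toUnit G ≫ e₁) ≫ m
    rw [← mm, hri, (hone (𝟙 G)).1, (hone (𝟙 G)).2])
  refine ⟨{ one := e₁, mul := m, inv := i, one_mul := ?_, mul_one := ?_, mul_assoc := hassoc, left_inv := hli, right_inv := hri }, rfl⟩
  · rw [show e₁ ▷ G = lift (toUnit _ ≫ e₁) (snd (𝟙_ (Over S)) G) from CartesianMonoidalCategory.hom_ext _ _
      (by rw [lift_fst, whiskerRight_fst, toUnit_unique (fst (𝟙_ (Over S)) G) (toUnit _)])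
      (by rw [lift_snd, whiskerRight_snd]), leftUnitor_hom]
    exact (hone _).1
  · rw [show G ◁ e₁ = lift (fst G (𝟙_ (Over S))) (toUnit _ ≫ e₁) from CartesianMonoidalCategory.hom_ext _ _
      (by rw [lift_fst, whiskerLeft_fst])
      (by rw [lift_snd, whiskerLeft_snd, toUnit_unique (snd G (𝟙_ (Over S))) (toUnit _)]), rightUnitor_hom]
    exact (hone _).2

end Groth.Agent.S5360
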