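import Groth.Statements.S5361
import Groth.Agent.Deform.GenSub.Universal


set_option autoImplicit false
universe u
open CategoryTheory CategoryTheory.Limits MonoidalCategory CartesianMonoidalCategory MonObj GrpObj AlgebraicGeometry
open SGA3

namespace Groth.Agent.S5361
attribute [local instance] CategoryTheory.Hom.monoid CategoryTheory.Hom.group
set_option linter.style.haveILetI false
/-- Let G be a group scheme over a field k, X a geometrically reduced k-scheme, f : X → G a k-morphism,
and i : Γ → G the smallest closed subgroup scheme of G through which f factors (the subgroup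
generated by f). Then for every k-scheme S, the base change Γ_S → G_S is the smallest subgroup
scheme of G_S through which f_S factors: for every homomorphism i' : Γ' → G_S of S-group schemes
which is an immersion (not necessarily closed) such that f_S factors through i', Γ_S → G_S factors
through i'. -/
theorem result (k : Type u) [Field k] (G X : Over (Spec (CommRingCat.of k))) [GrpObj G]
    [GeometricallyReduced X.hom] (f : X ⟶ G) (Γ : Over (Spec (CommRingCat.of k))) [GrpObj Γ] (i : Γ ⟶ G) [IsMonHom i] [IsClosedImmersion i.left]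
    (hf : ∃ f' : X ⟶ Γ, f' ≫ i = f)
    (hmin : ∀ (Γ' : Over (Spec (CommRingCat.of k))) (_ : GrpObj Γ') (i' : Γ' ⟶ G), IsMonHom i' → IsClosedImmersion i'.left →
        (∃ f'' : X ⟶ Γ', f'' ≫ i' = f) → ∃ j : Γ ⟶ Γ', j ≫ i' = i)
    (S : Scheme.{u}) (σ : S ⟶ (Spec (CommRingCat.of k))) :
    ∀ (Γ' : Over S) (_ : GrpObj Γ') (i' : Γ' ⟶ Red.bc σ G), IsMonHom i' → IsImmersion i'.left →
      (∃ f'' : Red.bc σ X ⟶ Γ', f'' ≫ i' = (Over.pullback σ).map f) →
      ∃ j : Red.bc σ Γ ⟶ Γ', j ≫ i' = (Over.pullback σ).map i := by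
  open Deform.GenSub in
  intro Γ' iΓ' i' hi' hc' ⟨f'', hf''⟩
  haveI := hi'
  haveI := hc'
  obtain ⟨f', hf'⟩ := hf
  obtain ⟨Γ₀, _, i₀, hi₀, hc₀, hfac₀, hgr, hrange, hmin₀⟩ := exists_generated_closed f
  haveI := hi₀; haveI := hc₀; haveI := hgr
  haveI : Mono i := (Over.forget _).mono_of_mono_map (inferInstanceAs (Mono i.left))
  haveI : Mono i₀ := (Over.forget _).mono_of_mono_map (inferInstanceAs (Mono i₀.left))
  obtain ⟨a, ha⟩ := hmin Γ₀ _ i₀ hi₀ hc₀ hfac₀
  obtain ⟨b, hb⟩ := hmin₀ Γ _ i inferInstance inferInstance ⟨f', hf'⟩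
  let φ : Γ ≅ Γ₀ := ⟨a, b, by rw [← cancel_mono i, Category.assoc, hb, ha, Category.id_comp],
    by rw [← cancel_mono i₀, Category.assoc, ha, hb, Category.id_comp]⟩
  haveI : IsIso a.left := ((Over.forget _).mapIso φ).isIso_hom
  haveI : IsReduced Γ₀.left := isReduced_left (X := Γ₀)
  haveI : IsReduced Γ.left := isReduced_of_isOpenImmersion a.left
  have hd : Dense (⋃ l, Set.range (wMor f' l).left) := by
    intro z
    rw [i.left.isClosedEmbedding.isInducing.closure_eq_preimage_closure_image]
    show i.left z ∈ closure _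
    refine closure_mono ?_ (hrange.le ⟨a.left z, by rw [← Scheme.Hom.comp_apply, ← Over.comp_left, ha]⟩)
    rw [Set.image_iUnion]
    refine Set.iUnion_mono fun l => ?_
    rw [← hf', ← wMor_comp i f' l]
    rintro _ ⟨x, rfl⟩
    exact ⟨(wMor f' l).left x, ⟨x, rfl⟩, rfl⟩
  have h : ∀ l, ∃ z, z ≫ i' = (Over.pullback σ).map (wMor f' l) ≫ (Over.pullback σ).map i := fun l => by
    obtain ⟨θ, hθ⟩ := Spread.exists_map_wMor σ f ((Over.pullback σ).map f) (𝟙 _) (Category.id_comp _) l
    refine ⟨θ ≫ wMor f'' l, ?_⟩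
    rw [Category.assoc, wMor_comp, hf'', ← Functor.map_comp, wMor_comp, hf']
    exact hθ
  haveI hsur := range_of_dense_family (fun l => wObj X l) (fun l => wMor f' l) hd σ ((Over.pullback σ).map i) i' h
  let y := pullback.fst ((Over.pullback σ).map i).left i'.left
  haveI : IsImmersion y := MorphismProperty.pullback_fst _ _ hc'
  haveI : Surjective y := hsur
  haveI : IsClosedImmersion y := IsClosedImmersion.of_isPreimmersion _
    (by rw [Set.range_eq_univ.mpr y.surjective]; exact isClosed_univ)
  haveI : IsIso y := isIso_of_dense_family (fun l => wObj X l) (fun l => wMor f' l) hd σ y fun l => by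
    obtain ⟨z, hz⟩ := h l
    exact ⟨pullback.lift ((Over.pullback σ).map (wMor f' l)).left z.left (congrArg CommaMorphism.left hz).symm,
      pullback.lift_fst _ _ _⟩
  refine ⟨Over.homMk (inv y ≫ pullback.snd _ _) ?_, Over.OverMorphism.ext ?_⟩
  · rw [Category.assoc, ← Over.w i', ← pullback.condition_assoc, IsIso.inv_hom_id_assoc, Over.w]
  · show (inv y ≫ pullback.snd _ _) ≫ i'.left = _
    rw [Category.assoc, ← pullback.condition, IsIso.inv_hom_id_assoc]

end Groth.Agent.S5361
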