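import Groth.Statements.S5362
import Groth.Agent.Deform.GenSub.CommField
import Groth.Agent.DescLib.Reduced
import Groth.Agent.S12442

set_option autoImplicit false
universe u
open CategoryTheory CategoryTheory.Limits MonoidalCategory CartesianMonoidalCategory MonObj GrpObj AlgebraicGeometry
open SGA3

namespace Groth.Agent.S5362
attribute [local instance] CategoryTheory.Hom.monoid CategoryTheory.Hom.group
set_option linter.style.haveILetI false
/-- Let G be a group scheme locally of finite type over a field k, and a : A → G, b : B → G two closed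
subgroup schemes which are smooth and of finite type over k, such that B normalizes A (conjugating a
point of A by a point of B gives a point of A). Let i : Γ → G be the smallest closed subgroup scheme
of G through which both a and b factor. Then Γ is reduced and its underlying set is A·B, the image
of A ×_k B under (x, y) ↦ a(x) b(y). -/
theorem result (k : Type u) [Field k] (G A B : Over (Spec (CommRingCat.of k))) [GrpObj G] [GrpObj A] [GrpObj B]
    [LocallyOfFiniteType G.hom] (a : A ⟶ G) [IsMonHom a] [IsClosedImmersion a.left] (b : B ⟶ G) [IsMonHom b]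
    [IsClosedImmersion b.left] [Smooth A.hom] [QuasiCompact A.hom] [Smooth B.hom] [QuasiCompact B.hom]
    (hN : ∀ (T : Over (Spec (CommRingCat.of k))) (y : T ⟶ B) (x : T ⟶ A), ∃ x' : T ⟶ A, (y ≫ b) * (x ≫ a) * (y ≫ b)⁻¹ = x' ≫ a)
    (Γ : Over (Spec (CommRingCat.of k))) [GrpObj Γ] (i : Γ ⟶ G) [IsMonHom i] [IsClosedImmersion i.left]
    (ha : ∃ a' : A ⟶ Γ, a' ≫ i = a) (hb : ∃ b' : B ⟶ Γ, b' ≫ i = b)
    (hmin : ∀ (Γ' : Over (Spec (CommRingCat.of k))) (_ : GrpObj Γ') (i' : Γ' ⟶ G), IsMonHom i' → IsClosedImmersion i'.left →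
        (∃ a'' : A ⟶ Γ', a'' ≫ i' = a) → (∃ b'' : B ⟶ Γ', b'' ≫ i' = b) → ∃ j : Γ ⟶ Γ', j ≫ i' = i) :
    IsReduced Γ.left ∧ Set.range i.left.base = Set.range ((a ⊗ₘ b) ≫ μ[G]).left.base := by
  open Deform.GenSub in
  let K := AlgebraicClosure k
  let σ : Spec (CommRingCat.of K) ⟶ Spec (CommRingCat.of k) := Spec.map (CommRingCat.ofHom (algebraMap k K))
  let f : A ⊗ B ⟶ G := (fst A B ≫ a) * (snd A B ≫ b)
  haveI : LocallyOfFiniteType (A ⊗ B).hom := by rw [Over.tensorObj_hom]; infer_instance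
  haveI : QuasiCompact (A ⊗ B).hom := by rw [Over.tensorObj_hom]; infer_instance
  haveI : Smooth (A ⊗ B).hom := by rw [Over.tensorObj_hom]; infer_instance
  haveI := GrpSchLib.IsogenyFibre.geometricallyReduced_of_smooth' (A ⊗ B).hom
  -- the products of points form a subgroup
  let αA : (geomT σ ⟶ A) →* (geomT σ ⟶ G) := MonoidHom.mk' (fun y => y ≫ a) fun x y => MonObj.mul_comp x y a
  let αB : (geomT σ ⟶ B) →* (geomT σ ⟶ G) := MonoidHom.mk' (fun y => y ≫ b) fun x y => MonObj.mul_comp x y b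
  have hnorm : αB.range ≤ Subgroup.normalizer (αA.range : Set (geomT σ ⟶ G)) := by
    intro g hg
    have key : ∀ g ∈ αB.range, ∀ h ∈ αA.range, g * h * g⁻¹ ∈ αA.range := by
      rintro _ ⟨y, rfl⟩ _ ⟨x, rfl⟩
      obtain ⟨x', hx'⟩ := hN _ y x
      exact ⟨x', hx'.symm⟩
    rw [Subgroup.mem_normalizer_iff]
    refine fun h => ⟨key g hg h, fun hh => ?_⟩
    have := key g⁻¹ (inv_mem hg) _ hh
    simpa [_root_.mul_assoc] using this
  have hset : (Set.range fun x : geomT σ ⟶ A ⊗ B => x ≫ f) = ((αA.range ⊔ αB.range : Subgroup _) : Set _) := by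
    rw [Subgroup.coe_mul_of_right_le_normalizer_left _ _ hnorm]
    ext g
    constructor
    · rintro ⟨x, rfl⟩
      exact ⟨_, ⟨x ≫ fst A B, rfl⟩, _, ⟨x ≫ snd A B, rfl⟩,
        (show _ = x ≫ f by simp [f, αA, αB, MonObj.comp_mul])⟩
    · rintro ⟨_, ⟨x, rfl⟩, _, ⟨y, rfl⟩, rfl⟩
      exact ⟨lift x y, by simp [f, αA, αB, MonObj.comp_mul]⟩
  have hbd : Bounded (Set.range fun x : geomT σ ⟶ A ⊗ B => x ≫ f) := by
    refine ⟨1, fun g hg => ⟨[true], le_rfl, ?_⟩⟩
    rw [hset, Subgroup.closure_eq, ← SetLike.mem_coe, ← hset] at hg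
    exact ⟨g, hg, 1, rfl, _root_.mul_one g⟩
  obtain ⟨I, _, j, hjm, hjc, hjs, hjq, hfI, -, hpts, hminI⟩ := exists_generated σ f hbd
  haveI := hjm; haveI := hjc; haveI := hjs
  obtain ⟨a', ha'⟩ := ha
  obtain ⟨b', hb'⟩ := hb
  obtain ⟨φ, hφ⟩ := generated_iso j hfI hminI i
    ⟨(fst A B ≫ a') * (snd A B ≫ b'), by
      show _ = (fst A B ≫ a) * (snd A B ≫ b)
      rw [MonObj.mul_comp, Category.assoc, Category.assoc, ha', hb']⟩
    (fun Γ' iΓ i' hi' hc' ⟨f'', hf''⟩ => by
      haveI := hi'; haveI := hc'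
      refine hmin Γ' iΓ i' hi' hc' ⟨lift (𝟙 A) (1 : A ⟶ B) ≫ f'', ?_⟩ ⟨lift (1 : B ⟶ A) (𝟙 B) ≫ f'', ?_⟩ <;>
      · rw [Category.assoc, hf'']
        simp [f, MonObj.comp_mul])
  haveI : IsReduced I.left := DescLib.isReduced_of_smooth_of_isReduced I.hom
  haveI : IsIso φ.inv.left := ((Over.forget _).mapIso φ.symm).isIso_hom
  refine ⟨isReduced_of_isOpenImmersion φ.inv.left, ?_⟩
  have hfeq : (a ⊗ₘ b) ≫ μ[G] = f := by
    show _ = (fst A B ≫ a) * (snd A B ≫ b)
    rw [Hom.mul_def]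
    congr 1 <;> apply CartesianMonoidalCategory.hom_ext <;> simp
  rw [hfeq]
  have hri : Set.range i.left = Set.range j.left := by
    rw [← hφ]
    haveI : IsIso φ.hom.left := ((Over.forget _).mapIso φ).isIso_hom
    ext z
    constructor
    · rintro ⟨y, rfl⟩
      exact ⟨φ.inv.left y, by
        rw [← Scheme.Hom.comp_apply, ← Over.comp_left, Iso.inv_hom_id_assoc]⟩
    · rintro ⟨y, rfl⟩
      exact ⟨φ.hom.left y, rfl⟩
  refine hri.trans (Set.Subset.antisymm ?_ ?_)
  · rintro _ ⟨z, rfl⟩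
    by_contra hne
    haveI : QuasiSeparated G.hom := by
      haveI := GrpSchLib.AntiAffine.isSeparated_grp G
      infer_instance
    haveI : LocallyOfFinitePresentation (f.left ≫ G.hom) := by rw [Over.w f]; infer_instance
    haveI : QuasiCompact (f.left ≫ G.hom) := by rw [Over.w f]; infer_instance
    haveI : LocallyOfFinitePresentation f.left := S12442.locallyOfFinitePresentation_of_comp f.left G.hom
    haveI : QuasiCompact f.left := QuasiCompact.of_comp f.left G.hom
    have hc : Topology.IsLocallyConstructible (Set.range f.left) := by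
      rw [← Set.image_univ]
      exact f.left.isLocallyConstructible_image Topology.IsConstructible.univ.isLocallyConstructible
    haveI : CompactSpace (A ⊗ B).left := QuasiCompact.compactSpace_of_compactSpace (A ⊗ B).hom
    haveI : QuasiSeparatedSpace G.left := quasiSeparatedSpace_of_quasiSeparated G.hom
    obtain ⟨𝒮, -, hl, hS⟩ := (finLC_of_isConstructible
      (hc.isConstructible_of_subset_of_isCompact subset_rfl (isCompact_range f.left.continuous))).2
    obtain ⟨M, hM, hzM⟩ : j.left z ∈ ⋃₀ 𝒮 := hS ▸ hne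
    obtain ⟨x, hx⟩ := exists_geomPt σ I (S := j.left ⁻¹' M) ⟨z, hzM⟩ ((hl M hM).preimage j.left.continuous)
    have hx' : x ≫ j ∈ Set.range fun y : geomT σ ⟶ A ⊗ B => y ≫ f := by
      have := hpts.le ⟨x, rfl⟩
      rwa [hset, Subgroup.closure_eq, ← hset] at this
    obtain ⟨y, hy⟩ := hx'
    exact (hS.ge ⟨M, hM, hx⟩) ⟨y.left (IsLocalRing.closedPoint K),
      congrArg (fun q : geomT σ ⟶ G => q.left (IsLocalRing.closedPoint K)) hy⟩
  · obtain ⟨f'', hf''⟩ := hfI
    rw [← hf'']
    rintro _ ⟨y, rfl⟩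
    exact ⟨f''.left y, rfl⟩

end Groth.Agent.S5362
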