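import Groth.Statements.S5364
import Groth.Agent.TransLib.Universal
import Groth.Agent.S5356
import Groth.Agent.GrpSchLib.MonoSubgroup
import Groth.Agent.Deform.GenSub.SpreadWord

set_option autoImplicit false
universe u
open CategoryTheory CategoryTheory.Limits MonoidalCategory CartesianMonoidalCategory MonObj GrpObj AlgebraicGeometry
open SGA3

namespace Groth.Agent.S5364
attribute [local instance] CategoryTheory.Hom.monoid CategoryTheory.Hom.group
set_option linter.style.haveILetI false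
/-- Let G be a group scheme over a field k and a : A → G, b : B → G two closed subgroup schemes which
are geometrically reduced over k and normal in G. Let i : Γ → G be the commutator subgroup scheme
(A, B): the smallest closed subgroup scheme of G through which the morphism A ×_k B → G, (x, y) ↦
a(x) b(y) a(x)⁻¹ b(y)⁻¹, factors. Then Γ is normal in G. (The published statement also covers
characteristic subgroups; this row states the case of normal subgroups only.) -/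
theorem result (k : Type u) [Field k] (G A B : Over (Spec (CommRingCat.of k))) [GrpObj G] [GrpObj A] [GrpObj B]
    (a : A ⟶ G) [IsMonHom a] [IsClosedImmersion a.left] (b : B ⟶ G) [IsMonHom b] [IsClosedImmersion b.left]
    [GeometricallyReduced A.hom] [GeometricallyReduced B.hom] (hA : AlgGrp.IsNormalHom a) (hB : AlgGrp.IsNormalHom b)
    (Γ : Over (Spec (CommRingCat.of k))) [GrpObj Γ] (i : Γ ⟶ G) [IsMonHom i] [IsClosedImmersion i.left]
    (hf : ∃ f' : A ⊗ B ⟶ Γ, f' ≫ i = (((fst A B) ≫ a) * ((snd A B) ≫ b) * ((fst A B) ≫ a)⁻¹ * ((snd A B) ≫ b)⁻¹))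
    (hmin : ∀ (Γ' : Over (Spec (CommRingCat.of k))) (_ : GrpObj Γ') (i' : Γ' ⟶ G), IsMonHom i' → IsClosedImmersion i'.left →
        (∃ f'' : A ⊗ B ⟶ Γ', f'' ≫ i' = (((fst A B) ≫ a) * ((snd A B) ≫ b) * ((fst A B) ≫ a)⁻¹ * ((snd A B) ≫ b)⁻¹)) → ∃ j : Γ ⟶ Γ', j ≫ i' = i) :
    AlgGrp.IsNormalHom i := by
  open scoped commutatorElement in
  obtain ⟨f', hf'⟩ := hf
  let φ : G ⊗ Γ ⟶ G := fst G Γ * (snd G Γ ≫ i) * (fst G Γ)⁻¹
  obtain ⟨Z, z, hz, -, hZ⟩ := TransLib.exists_closed_universal_essFree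
    (Groth.Agent.S5356.result.2.2.1 k G.left G.hom) φ i
  haveI := hz
  haveI : Mono z := (Over.forget _).mono_of_mono_map (inferInstanceAs (Mono z.left))
  haveI : Mono i := (Over.forget _).mono_of_mono_map (inferInstanceAs (Mono i.left))
  have hw : ∀ {P : Over (Spec (CommRingCat.of k))} (x : P ⟶ Γ),
      (G ◁ x) ≫ φ = fst G P * (snd G P ≫ x ≫ i) * (fst G P)⁻¹ := fun x => by
    simp [φ, MonObj.comp_mul, GrpObj.comp_inv]
  -- the points all of whose conjugates lie in the subgroup form a subgroup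
  let Q : ∀ P : Over (Spec (CommRingCat.of k)), (P ⟶ G) → Prop := fun P n =>
    ∃ l : G ⊗ P ⟶ Γ, l ≫ i = fst G P * (snd G P ≫ n) * (fst G P)⁻¹
  have hmem : ∀ {P : Over (Spec (CommRingCat.of k))} (x : P ⟶ Γ), (∃ t, t ≫ z = x) ↔ Q P (x ≫ i) := fun x => by
    rw [hZ x, hw]
  let j : Z ⟶ G := z ≫ i
  have hlift : ∀ {P : Over (Spec (CommRingCat.of k))} (x : P ⟶ Γ) (n : P ⟶ G), x ≫ i = n → Q P n →
      ∃ t, t ≫ j = n := fun x n hx hq => by
    obtain ⟨t, ht⟩ := (hmem x).mpr (hx ▸ hq)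
    exact ⟨t, by rw [← hx, ← ht, Category.assoc]⟩
  have hj : ∀ {P : Over (Spec (CommRingCat.of k))} (t : P ⟶ Z), Q P (t ≫ j) := fun t => by
    have h := (hmem (t ≫ z)).mp ⟨t, rfl⟩
    rwa [Category.assoc] at h
  haveI : IsClosedImmersion j.left := by
    rw [Over.comp_left]; infer_instance
  haveI : Mono j := mono_comp z i
  obtain ⟨e₁, he₁⟩ := hlift (1 : 𝟙_ _ ⟶ Γ) η[G] ((MonObj.one_comp i).trans (MonObj.one_eq_one (M := G)).symm)
    ⟨1, by rw [MonObj.one_comp, MonObj.one_eq_one, MonObj.comp_one, _root_.mul_one, mul_inv_cancel]⟩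
  obtain ⟨m, hm⟩ := hlift ((fst Z Z ≫ z) * (snd Z Z ≫ z)) ((fst Z Z ≫ j) * (snd Z Z ≫ j))
    ((MonObj.mul_comp _ _ i).trans (by simp only [j, Category.assoc])) (by
      obtain ⟨l₁, h₁⟩ := hj (fst Z Z)
      obtain ⟨l₂, h₂⟩ := hj (snd Z Z)
      refine ⟨l₁ * l₂, ?_⟩
      rw [MonObj.mul_comp, h₁, h₂, MonObj.comp_mul]
      group)
  obtain ⟨v, hv⟩ := hlift z⁻¹ j⁻¹ (GrpObj.inv_comp _ i) (by
      obtain ⟨l, h⟩ := hj (𝟙 Z)
      refine ⟨l⁻¹, ?_⟩
      rw [GrpObj.inv_comp, h, Category.id_comp, GrpObj.comp_inv]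
      group)
  obtain ⟨str, hjm⟩ := GrpSchLib.exists_grpObj_of_mono j e₁ he₁ m hm v hv
  -- the commutators lie in it
  obtain ⟨t, ht⟩ := hlift f' _ hf' (by
    let P := A ⊗ B
    obtain ⟨a', ha'⟩ := hA (G ⊗ P) (fst G P) (snd G P ≫ fst A B)
    obtain ⟨b', hb'⟩ := hB (G ⊗ P) (fst G P) (snd G P ≫ snd A B)
    refine ⟨lift a' b' ≫ f', ?_⟩
    rw [Category.assoc, hf']
    refine (Deform.GenSub.Spread.comp_cm a b (lift a' b')).trans ?_
    rw [lift_fst, lift_snd, ← ha', ← hb']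
    refine (conjugate_commutatorElement _ _ _).symm.trans ?_
    congr 2
    exact (Deform.GenSub.Spread.comp_cm a b (snd G P)).symm)
  obtain ⟨u, hu⟩ := hmin Z str j hjm inferInstance ⟨t, ht⟩
  obtain ⟨l, hl⟩ := hu ▸ hj u
  intro T g n
  refine ⟨lift g n ≫ l, ?_⟩
  rw [Category.assoc, hl, MonObj.comp_mul, MonObj.comp_mul, GrpObj.comp_inv, lift_fst, lift_snd_assoc]

end Groth.Agent.S5364
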