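import Groth.Statements.S5366
import Groth.Agent.Deform.Luna.SolvLocus
import Groth.Agent.GrpSchLib.SmoothReduced

set_option autoImplicit false
universe u
open CategoryTheory CategoryTheory.Limits MonoidalCategory CartesianMonoidalCategory MonObj GrpObj AlgebraicGeometry
open SGA3

namespace Groth.Agent.S5366
attribute [local instance] CategoryTheory.Hom.monoid CategoryTheory.Hom.group
set_option linter.style.haveILetI false

/-- A word on a smooth scheme over a field which is trivial on geometric points is trivial. -/
theorem eq_one_of_points {k : Type u} [Field k] {G W : Over (Spec (CommRingCat.of k))} [GrpObj G] [Smooth W.hom]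
    (w : W ⟶ G) {Ω : Type u} [Field Ω] [IsAlgClosed Ω] (t : Spec (CommRingCat.of Ω) ⟶ Spec (CommRingCat.of k))
    (h : ∀ x : Over.mk t ⟶ W, x ≫ w = 1) : w = 1 := by
  haveI := GrpSchLib.AntiAffine.isSeparated_grp G
  haveI := Deform.Luna.SolvLocus.isClosedImmersion_one G
  haveI : IsReduced W.left := GrpSchLib.isReduced_of_smooth_field W.hom
  let e : (Over.map t).obj (𝟙_ (Over (Spec (CommRingCat.of Ω)))) ≅ Over.mk t :=
    Over.isoMk (Iso.refl _) (by simp)
  have hs := (Deform.Luna.SolvLocus.mem_trivLocus_iff w t).mpr fun x => by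
    rw [← e.hom_inv_id_assoc (x ≫ w), ← Category.assoc e.inv x w, h, MonObj.comp_one]
  obtain ⟨g, hg⟩ := H23.RedSub.exists_lift_closed w.left η[G].left (by
    rintro _ ⟨p, rfl⟩
    exact hs p (Subsingleton.elim _ _))
  rw [Hom.one_def]
  ext
  rw [Over.comp_left, ← hg]
  congr 1
  have h1 := congrArg (· ≫ G.hom) hg
  simp only [Category.assoc, Over.w w, Over.w η[G]] at h1
  exact ((Category.comp_id g).symm.trans h1).trans (Over.w (toUnit _)).symm

/-- (i) ⟺ (iii): let G be a smooth group scheme of finite type over a field k, Ω an algebraically closed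
extension field of k and n a natural number. Then G is solvable of class n (the n-th term of the
derived series of the group G(T) is trivial for every k-scheme T) if and only if the n-th term of
the derived series of the group of Ω-points G(Ω) is trivial; and G is nilpotent of class n (the n-th
term of the lower central series of G(T) is trivial for every T) if and only if the n-th term of the
lower central series of G(Ω) is trivial. -/
theorem result (k : Type u) [Field k] (G : Over (Spec (CommRingCat.of k))) [GrpObj G]
    [Smooth G.hom] [QuasiCompact G.hom] (Ω : Type u) [Field Ω] [Algebra k Ω] [IsAlgClosed Ω] (n : ℕ) :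
    ((∀ T : Over (Spec (CommRingCat.of k)), derivedSeries (T ⟶ G) n = ⊥) ↔ derivedSeries ((Over.mk (Spec.map (CommRingCat.ofHom (algebraMap k Ω))) : Over (Spec (CommRingCat.of k))) ⟶ G) n = ⊥) ∧
    ((∀ T : Over (Spec (CommRingCat.of k)), Subgroup.lowerCentralSeries (⊤ : Subgroup (T ⟶ G)) n = ⊥) ↔ Subgroup.lowerCentralSeries (⊤ : Subgroup (((Over.mk (Spec.map (CommRingCat.ofHom (algebraMap k Ω))) : Over (Spec (CommRingCat.of k))) ⟶ G))) n = ⊥) := by
  refine ⟨⟨fun h => h _, fun h T => ?_⟩, fun h => h _, fun h T => ?_⟩
  · haveI := Deform.Luna.SolvLocus.smooth_dObj (G := G) n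
    refine (Deform.Luna.SolvWords.derivedSeries_eq_bot_iff T n).mpr fun x => ?_
    rw [eq_one_of_points (Deform.Luna.SolvWords.dWord G n) (Spec.map (CommRingCat.ofHom (algebraMap k Ω)))
      ((Deform.Luna.SolvWords.derivedSeries_eq_bot_iff _ n).mp h), MonObj.comp_one]
  · haveI := Deform.Luna.SolvLocus.smooth_cObj (G := G) n
    refine (Deform.Luna.SolvWords.lowerCentralSeries_eq_bot_iff T n).mpr fun x => ?_
    rw [eq_one_of_points (Deform.Luna.SolvWords.cWord G n) (Spec.map (CommRingCat.ofHom (algebraMap k Ω)))
      ((Deform.Luna.SolvWords.lowerCentralSeries_eq_bot_iff _ n).mp h), MonObj.comp_one]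

end Groth.Agent.S5366
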