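import Groth.Statements.S5378
import Groth.Agent.GrpSchLib.Affinization
import Groth.Agent.GrpSchLib.HomFlat
import Groth.Agent.MultByUnip.Points


set_option autoImplicit false
set_option linter.style.haveILetI false
universe u
open CategoryTheory CategoryTheory.Limits MonoidalCategory CartesianMonoidalCategory MonObj GrpObj AlgebraicGeometry
open SGA3

namespace Groth.Agent.S5378
open GrpSchLib in
theorem epi_whisker {k : Type u} [Field k] {X Y : Over (Spec (CommRingCat.of k))} (p q : X ⟶ Y) [Flat p.left]
    [Surjective p.left] [QuasiCompact p.left] [Flat q.left] [Surjective q.left] [QuasiCompact q.left] :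
    Epi (p ⊗ₘ q) := by
  haveI : Flat (p ▷ X).left := GrpSchLib.property_whiskerRight p X @Flat inferInstance
  haveI : Surjective (p ▷ X).left := GrpSchLib.property_whiskerRight p X @Surjective inferInstance
  haveI : QuasiCompact (p ▷ X).left := GrpSchLib.property_whiskerRight p X @QuasiCompact inferInstance
  haveI : Epi (p ▷ X) := (Over.forget _).epi_of_epi_map (inferInstanceAs (Epi (p ▷ X).left))
  haveI : Flat (q ▷ Y).left := GrpSchLib.property_whiskerRight q Y @Flat inferInstance
  haveI : Surjective (q ▷ Y).left := GrpSchLib.property_whiskerRight q Y @Surjective inferInstance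
  haveI : QuasiCompact (q ▷ Y).left := GrpSchLib.property_whiskerRight q Y @QuasiCompact inferInstance
  haveI : Epi (q ▷ Y) := (Over.forget _).epi_of_epi_map (inferInstanceAs (Epi (q ▷ Y).left))
  have e : p ⊗ₘ q = (p ▷ X) ≫ (β_ Y X).hom ≫ (q ▷ Y) ≫ (β_ Y Y).hom := by
    ext : 1 <;> simp
  rw [e]
  infer_instance


/-- Let k be a field, G a k-group scheme of finite type, G' an affine k-group scheme (not necessarily of
finite type) and u : G → G' a homomorphism. Then u factors as a homomorphism p : G → C which is
surjective and flat (C is the quotient of G by the kernel of u) followed by a homomorphism i : C →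
G' which is a closed immersion; in particular C is affine. If moreover u induces an injective map on
global sections, then i is an isomorphism (so G' is of finite type and u is faithfully flat). -/
theorem result (k : Type u) [Field k] (G G' : Over (Spec (CommRingCat.of k))) [GrpObj G] [GrpObj G']
    [LocallyOfFiniteType G.hom] [QuasiCompact G.hom] [IsAffine G'.left] (u : G ⟶ G') [IsMonHom u] :
    ∃ (C : Over (Spec (CommRingCat.of k))) (_ : GrpObj C) (p : G ⟶ C) (i : C ⟶ G'), IsMonHom p ∧ IsMonHom i ∧
      p ≫ i = u ∧ Surjective p.left ∧ Flat p.left ∧ IsClosedImmersion i.left ∧ IsAffine C.left ∧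
      (Function.Injective u.left.appTop.hom → IsIso i) := by
  haveI := GrpSchLib.AntiAffine.isSeparated_grp G
  obtain ⟨I, gI, pI, hpI, hIaff, hIlft, hfl, hs, hb⟩ := GrpSchLib.Affinization.exists_affinization G
  haveI := hpI; haveI := hIaff; haveI := hIlft; haveI := hfl; haveI := hs
  haveI : IsIso pI.left.appTop := (ConcreteCategory.isIso_iff_bijective _).mpr hb
  haveI : IsSeparated I.hom := GrpSchLib.AntiAffine.isSeparated_grp I
  haveI : QuasiCompact (pI.left ≫ I.hom) := by rw [Over.w pI]; infer_instance
  haveI : QuasiCompact pI.left := QuasiCompact.of_comp pI.left I.hom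
  haveI : Epi pI.left := inferInstance
  haveI : Epi pI := (Over.forget _).epi_of_epi_map (inferInstanceAs (Epi pI.left))
  let vl : I.left ⟶ G'.left := I.left.toSpecΓ ≫ inv (Spec.map pI.left.appTop) ≫ Spec.map u.left.appTop ≫
    G'.left.isoSpec.inv
  have hvl : pI.left ≫ vl = u.left := by
    simp only [vl]
    rw [Scheme.toSpecΓ_naturality_assoc, IsIso.hom_inv_id_assoc, ← Scheme.toSpecΓ_naturality_assoc]
    simp [Scheme.isoSpec]
  let v : I ⟶ G' := Over.homMk vl (by
    rw [← cancel_epi pI.left, reassoc_of% hvl, Over.w u, Over.w pI])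
  have hv : pI ≫ v = u := Over.OverMorphism.ext hvl
  haveI : IsMonHom v :=
    { one_hom := by rw [← IsMonHom.one_hom pI, Category.assoc, hv, IsMonHom.one_hom u]
      mul_hom := by
        haveI := epi_whisker pI pI
        rw [← cancel_epi (pI ⊗ₘ pI), ← IsMonHom.mul_hom_assoc, hv, IsMonHom.mul_hom u,
          MonoidalCategory.tensorHom_comp_tensorHom_assoc, hv] }
  obtain ⟨A, _, _, ⟨eA⟩⟩ := GrpSchLib.AffineHopf.exists_hopf G'
  obtain ⟨O, _, _, ⟨eO⟩⟩ := GrpSchLib.AffineHopf.exists_hopf I
  let a : GrpSchLib.AffineHopf.sp k A ≅ G' := (Grp.forget _).mapIso eA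
  let b : GrpSchLib.AffineHopf.sp k O ≅ I := (Grp.forget _).mapIso eO
  haveI : IsMonHom a.hom := eA.hom.hom.isMonHom_hom
  haveI : IsMonHom a.inv := eA.inv.hom.isMonHom_hom
  haveI : IsMonHom b.hom := eO.hom.hom.isMonHom_hom
  haveI : IsMonHom b.inv := eO.inv.hom.isMonHom_hom
  haveI : IsIso a.hom.left := ((Over.forget _).mapIso a).isIso_hom
  haveI : IsIso b.inv.left := ((Over.forget _).mapIso b).isIso_inv
  obtain ⟨f, hf⟩ := GrpSchLib.AffineHopf.exists_bialgHom (b.hom ≫ v ≫ a.inv)
  let B : Subalgebra k O := (f : A →ₐ[k] O).range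
  have hB : SGA3.IsHopfSubalgebra k O B := MultByUnip.isHopfSubalgebra_range f
  letI := GrpSchLib.SubHopf.hopf B hB
  let j : B →ₐc[k] O := BialgHom.ofAlgHom B.val rfl (AlgHom.ext fun c => GrpSchLib.SubHopf.map_comulRes B hB c)
  let r : A →ₐc[k] B := BialgHom.ofAlgHom (f : A →ₐ[k] O).rangeRestrict
    (AlgHom.ext fun c => CoalgHomClass.counit_comp_apply f c)
    (AlgHom.ext fun c => GrpSchLib.SubHopf.map_val_injective B.val B.val Subtype.val_injective Subtype.val_injective (by
      refine Eq.trans ?_ (GrpSchLib.SubHopf.map_comulRes B hB _).symm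
      refine Eq.trans ?_ (CoalgHomClass.map_comp_comul_apply f c)
      show Algebra.TensorProduct.map B.val B.val (TensorProduct.map _ _ (Coalgebra.comul (R := k) c)) = _
      induction Coalgebra.comul (R := k) c using TensorProduct.induction_on with
      | zero => simp
      | tmul p q => rfl
      | add p q hp hq => simp only [map_add, hp, hq]))
  have hjr : (j : B →ₐ[k] O).comp (r : A →ₐ[k] B) = (f : A →ₐ[k] O) := AlgHom.ext fun c => rfl
  haveI hFF : Module.FaithfullyFlat B O := S4103.result k O B hB
  have hjff : ((j : B →ₐ[k] O).toRingHom).FaithfullyFlat := by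
    show (algebraMap B O).FaithfullyFlat
    exact RingHom.faithfullyFlat_algebraMap_iff.mpr hFF
  haveI : Flat (GrpSchLib.AffineHopf.spMap (j : B →ₐ[k] O)).left :=
    (HasRingHomProperty.Spec_iff (P := @Flat)).mpr hjff.flat
  haveI : Surjective (GrpSchLib.AffineHopf.spMap (j : B →ₐ[k] O)).left :=
    ⟨(RingHom.FaithfullyFlat.iff_flat_and_comap_surjective.mp hjff).2⟩
  haveI : IsClosedImmersion (GrpSchLib.AffineHopf.spMap (r : A →ₐ[k] B)).left :=
    IsClosedImmersion.spec_of_surjective _ fun y => by
      obtain ⟨y, c, rfl⟩ := y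
      exact ⟨c, rfl⟩
  refine ⟨GrpSchLib.AffineHopf.sp k B, inferInstance, pI ≫ b.inv ≫ GrpSchLib.AffineHopf.spMap (j : B →ₐ[k] O),
    GrpSchLib.AffineHopf.spMap (r : A →ₐ[k] B) ≫ a.hom, inferInstance, inferInstance, ?_, ?_, ?_, ?_, isAffine_Spec _, fun hinj => ?_⟩
  · simp only [Category.assoc]
    rw [← Category.assoc (GrpSchLib.AffineHopf.spMap (j : B →ₐ[k] O)), GrpSchLib.AffineHopf.spMap_comp, hjr, ← hf]
    simp [hv]
  · rw [Over.comp_left, Over.comp_left]; infer_instance
  · rw [Over.comp_left, Over.comp_left]; infer_instance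
  · rw [Over.comp_left]; infer_instance
  · have hfi : Function.Injective f := by
      intro x y hxy
      let g : GrpSchLib.AffineHopf.sp k O ⟶ GrpSchLib.AffineHopf.sp k A := GrpSchLib.AffineHopf.spMap (f : A →ₐ[k] O)
      have e : g.left = b.hom.left ≫ v.left ≫ a.inv.left := congrArg (fun w => w.left) hf.symm
      have e2 : Function.Injective g.left.appTop := by
        rw [e, Scheme.Hom.comp_appTop, Scheme.Hom.comp_appTop]
        haveI : IsIso b.hom.left := ((Over.forget _).mapIso b).isIso_hom
        haveI : IsIso a.inv.left := ((Over.forget _).mapIso a).isIso_inv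
        have hu : Function.Injective (pI.left ≫ v.left).appTop := by
          rw [show pI.left ≫ v.left = u.left from hvl]; exact hinj
        rw [Scheme.Hom.comp_appTop] at hu
        haveI : IsIso b.hom.left.appTop := inferInstanceAs (IsIso (b.hom.left.app ⊤))
        haveI : IsIso a.inv.left.appTop := inferInstanceAs (IsIso (a.inv.left.app ⊤))
        intro p q hpq
        simp only [ConcreteCategory.comp_apply] at hpq
        have h1 := (ConcreteCategory.bijective_of_isIso b.hom.left.appTop).1 hpq
        refine (ConcreteCategory.bijective_of_isIso a.inv.left.appTop).1 (hu ?_)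
        simp only [ConcreteCategory.comp_apply, h1]
      have hn := ConcreteCategory.congr_hom (Scheme.ΓSpecIso_naturality (CommRingCat.ofHom (f : A →ₐ[k] O).toRingHom))
      have hx := hn ((Scheme.ΓSpecIso (CommRingCat.of A)).inv x)
      have hy := hn ((Scheme.ΓSpecIso (CommRingCat.of A)).inv y)
      simp only [ConcreteCategory.comp_apply, Iso.inv_hom_id_apply] at hx hy
      refine (ConcreteCategory.bijective_of_isIso (Scheme.ΓSpecIso (CommRingCat.of A)).inv).1 (e2 ?_)
      refine (ConcreteCategory.bijective_of_isIso (Scheme.ΓSpecIso (CommRingCat.of O)).hom).1 ?_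
      exact hx.trans (hxy.trans hy.symm)
    haveI : IsIso (CommRingCat.ofHom (r : A →ₐ[k] B).toRingHom) := by
      refine (ConcreteCategory.isIso_iff_bijective _).mpr ⟨fun x y h => hfi (congrArg Subtype.val h), ?_⟩
      rintro ⟨y, c, rfl⟩
      exact ⟨c, rfl⟩
    haveI : IsIso (GrpSchLib.AffineHopf.spMap (r : A →ₐ[k] B)).left := inferInstanceAs (IsIso (Spec.map _))
    haveI : IsIso ((Over.forget _).map (GrpSchLib.AffineHopf.spMap (r : A →ₐ[k] B))) := this
    haveI : IsIso (GrpSchLib.AffineHopf.spMap (r : A →ₐ[k] B)) := isIso_of_reflects_iso _ (Over.forget _)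
    infer_instance

end Groth.Agent.S5378
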