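import Groth.Statements.S5391
import Groth.Agent.Deform.QuasiSection.Main

set_option autoImplicit false
universe u
open CategoryTheory CategoryTheory.Limits MonoidalCategory CartesianMonoidalCategory MonObj GrpObj AlgebraicGeometry
open SGA3

namespace Groth.Agent.S5391

/-- Let f : X → S be a morphism locally of finite presentation, s a point of S and x a point of the
fibre X_s = f⁻¹(s) which is closed in it. Suppose f is universally open at the generic point z of
some irreducible component Z of the fibre X_s containing x, with the local dimension of X_s at x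
equal to dim Z. Then there are an affine scheme S', an etale morphism w : S' → S, a finite
surjective morphism of finite presentation π : S'' → S', and a morphism h : S'' → X with h f = π w,
such that exactly one point s'' of S'' lies over s, h(s'') = x, and h induces an isomorphism κ(x) ≅
κ(s''). -/
theorem result (X S : Scheme.{u}) (f : X ⟶ S) [LocallyOfFinitePresentation f]
    (s : S) (x : X) (hxs : f.base x = s) (hx : IsClosed ((Subtype.val : ↥(f.base ⁻¹' {s}) → X) ⁻¹' {x}))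
    (Z : Set ↥(f.base ⁻¹' {s})) (hZ : Z ∈ irreducibleComponents ↥(f.base ⁻¹' {s})) (hxZ : x ∈ (Subtype.val '' Z))
    (z : X) (hz : z ∈ Subtype.val '' Z ∧ Subtype.val '' Z ⊆ closure {z}) (hopen : EGA43.IsUnivOpenAt f z)
    (hdim : FlatMor.localDim ↥(f.base ⁻¹' {s}) ⟨x, hxs⟩ = topologicalKrullDim ↥Z) :
    ∃ (S' S'' : Scheme.{u}) (_ : IsAffine S') (w : S' ⟶ S) (π : S'' ⟶ S') (h : S'' ⟶ X),
      Etale w ∧ IsFinite π ∧ Surjective π ∧ LocallyOfFinitePresentation π ∧ h ≫ f = π ≫ w ∧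
      ∃ s'' : S'', (π ≫ w).base ⁻¹' {s} = {s''} ∧ h.base s'' = x ∧ IsIso (h.residueFieldMap s'') := by
  obtain ⟨⟨⟨z', hz's⟩, hzZ, hz'⟩, hZz⟩ := hz
  simp only at hz'
  subst hz'
  subst hxs
  have hzc : closure {z'} ∩ f.base ⁻¹' {f.base x} ⊆ Subtype.val '' Z := by
    rintro w ⟨hw, hws⟩
    refine ⟨⟨w, hws⟩, ?_, rfl⟩
    have h : (⟨z', hz's⟩ : ↥(f.base ⁻¹' {f.base x})) ⤳ ⟨w, hws⟩ :=
      Topology.IsInducing.subtypeVal.specializes_iff.mp (specializes_iff_mem_closure.mpr hw)
    exact h.mem_closed (isClosed_of_mem_irreducibleComponents Z hZ) hzZ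
  have hEq : Subtype.val '' Z = closure {z'} ∩ f.base ⁻¹' {f.base x} :=
    subset_antisymm (fun w hw => ⟨hZz hw, by obtain ⟨v, -, rfl⟩ := hw; exact v.2⟩) hzc
  have hmax : Groth.Agent.FibDim.FibMax f z' := fun w hw hfw => by
    have hws : w ∈ f.base ⁻¹' {f.base x} := hfw.trans hz's
    have hle : Z ⊆ closure {(⟨w, hws⟩ : ↥(f.base ⁻¹' {f.base x}))} := fun v hv => by
      refine specializes_iff_mem_closure.mp (Topology.IsInducing.subtypeVal.specializes_iff.mp ?_)
      exact hw.trans (specializes_iff_mem_closure.mpr (hZz ⟨v, hv, rfl⟩))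
    have hZw := hZ.2 isIrreducible_singleton.closure hle
    exact (hw.antisymm (specializes_iff_mem_closure.mpr (hZz ⟨⟨w, hws⟩, hZw (subset_closure rfl), rfl⟩))).eq
  have hdimZ : topologicalKrullDim ↥Z = ((Groth.Agent.FibDim.rd f z' : ℕ∞) : WithBot ℕ∞) := by
    have h := Groth.Agent.FibDim.dim_closure_inter_fibre f z'
    rwa [show f ⁻¹' {f z'} = f.base ⁻¹' {f.base x} by rw [show f z' = f.base x from hz's], ← hEq,
      ← ((Topology.IsEmbedding.subtypeVal).homeomorphImage Z).isHomeomorph.topologicalKrullDim_eq] at h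
  obtain ⟨⟨O, hxO⟩, hOd⟩ : ∃ O : {O : TopologicalSpace.Opens ↥(f.base ⁻¹' {f.base x}) // (⟨x, rfl⟩ : ↥(f.base ⁻¹' {f.base x})) ∈ O},
      topologicalKrullDim (O.1 : Set ↥(f.base ⁻¹' {f.base x})) ≤ ((Groth.Agent.FibDim.rd f z' : ℕ∞) : WithBot ℕ∞) := by
    have h : (⨅ O : {O : TopologicalSpace.Opens ↥(f.base ⁻¹' {f.base x}) // (⟨x, rfl⟩ : ↥(f.base ⁻¹' {f.base x})) ∈ O},
      topologicalKrullDim (O.1 : Set ↥(f.base ⁻¹' {f.base x}))) < (((Groth.Agent.FibDim.rd f z' + 1 : ℕ) : ℕ∞) : WithBot ℕ∞) := by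
      refine lt_of_eq_of_lt (show _ = _ from hdim.trans hdimZ) ?_
      exact_mod_cast Nat.lt_succ_self _
    obtain ⟨O, hO⟩ := iInf_lt_iff.mp h
    refine ⟨O, ?_⟩
    revert hO
    generalize topologicalKrullDim (O.1 : Set ↥(f.base ⁻¹' {f.base x})) = d
    intro hO
    induction d with
    | bot => exact bot_le
    | coe d =>
      induction d with
      | top => exact absurd hO (not_lt.mpr (WithBot.coe_le_coe.mpr le_top))
      | coe d =>
        norm_cast at hO ⊢
        omega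
  obtain ⟨W, hWo, hWO⟩ := isOpen_induced_iff.mp O.isOpen
  have hW : topologicalKrullDim ↥(W ∩ f ⁻¹' {f x}) ≤ ((Groth.Agent.FibDim.rd f z' : ℕ∞) : WithBot ℕ∞) := by
    refine le_trans ?_ hOd
    let m : ↥(W ∩ f ⁻¹' {f x}) → (O : Set ↥(f.base ⁻¹' {f.base x})) := fun w =>
      ⟨⟨w.1, w.2.2⟩, hWO ▸ (show (⟨w.1, w.2.2⟩ : ↥(f.base ⁻¹' {f.base x})) ∈ Subtype.val ⁻¹' W from w.2.1)⟩
    have hm : Topology.IsInducing m :=
      ((Topology.IsInducing.subtypeVal.comp Topology.IsInducing.subtypeVal).of_comp_iff (f := m)).mp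
        Topology.IsInducing.subtypeVal
    exact hm.topologicalKrullDim_le
  exact Deform.QuasiSection.exists_quasiSection f x z' hx _ ⟨W, hWo⟩
    (show x ∈ W from (hWO ▸ hxO : (⟨x, rfl⟩ : ↥(f.base ⁻¹' {f.base x})) ∈ Subtype.val ⁻¹' W)) hW
    (specializes_iff_mem_closure.mpr (hZz hxZ)) hz's hmax rfl hopen

end Groth.Agent.S5391
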