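import Groth.Statements.S5392
import Groth.Agent.Deform.InfNbhd.Group

set_option autoImplicit false
universe u
open CategoryTheory CategoryTheory.Limits MonoidalCategory CartesianMonoidalCategory MonObj GrpObj AlgebraicGeometry
open SGA3

namespace Groth.Agent.S5392

/-- Let X be an S-group scheme which is smooth and of finite presentation over S with connected fibres,
Y an S-group scheme of finite presentation over S and i : Y → X a homomorphism which is a
monomorphism. Then there is a closed immersion t : T → S, locally of finite presentation, such that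
a morphism g : S' → S factors through t exactly when the base change of i along g is an isomorphism. -/
theorem result (S : Scheme.{u}) (X Y : Over S) [GrpObj X] [GrpObj Y]
    [Smooth X.hom] [QuasiCompact X.hom] [QuasiSeparated X.hom]
    (hconn : ∀ s : S, _root_.IsConnected (X.hom.base ⁻¹' {s}))
    [LocallyOfFinitePresentation Y.hom] [QuasiCompact Y.hom] [QuasiSeparated Y.hom]
    (i : Y ⟶ X) [IsMonHom i] [Mono i] :
    ∃ (T : Scheme.{u}) (t : T ⟶ S), IsClosedImmersion t ∧ LocallyOfFinitePresentation t ∧
      ∀ (S' : Scheme.{u}) (g : S' ⟶ S),
        (∃ g' : S' ⟶ T, g' ≫ t = g) ↔ IsIso ((Over.pullback g).map i) := by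
  obtain ⟨T, t, ht, htf, hu⟩ := Deform.InfNbhd.exists_weilRestriction_subgroup X Y
    (Deform.InfNbhd.neutralSet_eq_univ X hconn) i
  refine ⟨T, t, ht, htf, fun S' g => ((hu S' g).trans (Deform.InfNbhd.good_iff_isIso i g)).trans ⟨fun h => ?_, fun h => ?_⟩⟩
  · haveI : IsIso ((Over.forget S').map ((Over.pullback g).map i)) := h
    exact isIso_of_reflects_iso _ (Over.forget S')
  · exact inferInstanceAs (IsIso ((Over.forget S').map ((Over.pullback g).map i)))

end Groth.Agent.S5392
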