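import Groth.Statements.S5393
import Groth.Agent.Deform.InfNbhd.Subgroups
import Groth.Agent.Deform.Neutral.Representable
import Groth.Agent.FlatMisc.Fibrewise


set_option autoImplicit false
universe u
open CategoryTheory CategoryTheory.Limits MonoidalCategory CartesianMonoidalCategory MonObj GrpObj AlgebraicGeometry
open SGA3

namespace Groth.Agent.S5393
open CategoryTheory.Limits
attribute [local instance] CategoryTheory.Hom.monoid CategoryTheory.Hom.group
set_option linter.style.haveILetI false
/-- Let G be an S-group scheme locally of finite presentation and quasi-separated over S, H an S-group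
scheme smooth and of finite presentation over S with connected fibres, u : H → G a homomorphism
which is a monomorphism, n : N → G the normalizer of H in G (a closed subgroup scheme) and j : H → N
the homomorphism with j n = u. The following are equivalent: (i) j is an open immersion; (ii) H
represents the neutral component of N: a point g : T → N factors through j exactly when the image of
its underlying map lies in the union of the neutral components of the fibres of N; (iii) for every s
in S, the fibre j_s : H_s → N_s is an open immersion whose image is the neutral component of N_s.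
(The published statement asks H only to be smooth over S with connected fibres; this row also asks H
quasi-compact and quasi-separated over S, the hypotheses under which the normalizer is shown to be
representable.) -/
theorem result (S : Scheme.{u}) (G H N : Over S) [GrpObj G] [GrpObj H] [GrpObj N]
    [LocallyOfFinitePresentation G.hom] [QuasiSeparated G.hom] [Smooth H.hom] [QuasiCompact H.hom] [QuasiSeparated H.hom]
    (hconn : ∀ s : S, _root_.IsConnected (H.hom.base ⁻¹' {s})) (u : H ⟶ G) [IsMonHom u] [Mono u]
    (n : N ⟶ G) [IsClosedImmersion n.left] (hN : Red.IsNormalizerOf u n) (j : H ⟶ N) [IsMonHom j] (hj : j ≫ n = u) :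
    (IsOpenImmersion j.left ↔
      ∀ (T : Over S) (g : T ⟶ N), (∃ h : T ⟶ H, h ≫ j = g) ↔ Set.range g.left.base ⊆ SGA3x.neutralSet N) ∧
    (IsOpenImmersion j.left ↔
      ∀ s : S, IsOpenImmersion ((Over.pullback (S.fromSpecResidueField s)).map j).left ∧
        j.left.base '' (H.hom.base ⁻¹' {s}) = SGA3x.neutralSet N ∩ N.hom.base ⁻¹' {s}) := by
  haveI : Mono (j ≫ n) := hj ▸ inferInstance
  haveI : Mono j := mono_of_mono j n
  haveI : Mono j.left := inferInstanceAs (Mono ((Over.forget S).map j))
  have hH := Deform.InfNbhd.neutralSet_eq_univ H hconn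
  haveI : LocallyOfFinitePresentation n.left := by
    obtain ⟨N', _, n', hN', hc', hf'⟩ := Deform.InfNbhd.exists_normalizer' G H hH u
    haveI := hN.2.1
    haveI := hN'.2.1
    obtain ⟨a, ha⟩ := (hN'.2.2 N n).mpr ((hN.2.2 N n).mp ⟨𝟙 N, Category.id_comp _⟩)
    obtain ⟨b, hb⟩ := (hN.2.2 N' n').mpr ((hN'.2.2 N' n').mp ⟨𝟙 N', Category.id_comp _⟩)
    haveI : IsIso a := ⟨b, (cancel_mono n).mp (by rw [Category.assoc, hb, ha, Category.id_comp]),
      (cancel_mono n').mp (by rw [Category.assoc, ha, hb, Category.id_comp])⟩
    haveI : IsIso a.left := inferInstanceAs (IsIso ((Over.forget S).map a))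
    rw [← ha, Over.comp_left]
    infer_instance
  haveI : LocallyOfFinitePresentation N.hom := by rw [← Over.w n]; infer_instance
  haveI : QuasiSeparated N.hom := by rw [← Over.w n]; infer_instance
  have hfib : ∀ z : H.left, N.hom.base (j.left.base z) = H.hom.base z := fun z =>
    congrArg (fun m : H.left ⟶ S => m.base z) (Over.w j)
  have himg : ∀ s : S, j.left.base '' (H.hom.base ⁻¹' {s}) = Set.range j.left.base ∩ N.hom.base ⁻¹' {s} := by
    intro s
    ext x
    constructor
    · rintro ⟨z, hz, rfl⟩
      exact ⟨⟨z, rfl⟩, (hfib z).trans hz⟩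
    · rintro ⟨⟨z, rfl⟩, hx⟩
      exact ⟨z, (hfib z).symm.trans hx, rfl⟩
  have hA : IsOpenImmersion j.left → Set.range j.left.base = SGA3x.neutralSet N := fun h => by
    haveI := h
    have := (GrpSchLib.Neutral.openSubgroup N H j).2
    rw [hH, Set.image_univ] at this
    exact this
  have hP : ∀ s : S, (IsOpenImmersion ((Over.pullback (S.fromSpecResidueField s)).map j).left ↔
      IsOpenImmersion (pullback.snd j.left (N.hom.fiberι s))) := fun s => by
    let b := S.fromSpecResidueField s
    let js := ((Over.pullback b).map j).left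
    have hsq : IsPullback js (pullback.fst H.hom b) (N.hom.fiberι s) j.left :=
      (IsPullback.of_bot (v₁₁ := js) (v₂₁ := pullback.snd N.hom b) (h₁₁ := pullback.fst H.hom b)
        (v₁₂ := j.left) (v₂₂ := N.hom) (h₂₁ := pullback.fst N.hom b) (h₃₁ := b)
        (by
          rw [show js ≫ pullback.snd N.hom b = pullback.snd H.hom b from pullback.lift_snd _ _ _, Over.w j]
          exact IsPullback.of_hasPullback H.hom b)
        (pullback.lift_fst _ _ _).symm (IsPullback.of_hasPullback N.hom b)).flip
    rw [show ((Over.pullback (S.fromSpecResidueField s)).map j).left = _ ≫ _ from hsq.flip.isoPullback_hom_snd.symm]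
    exact MorphismProperty.cancel_left_of_respectsIso @IsOpenImmersion _ _
  refine ⟨⟨fun h T g => ?_, fun h => ?_⟩, ⟨fun h s => ?_, fun h => ?_⟩⟩
  · haveI := h
    rw [← hA h]
    refine ⟨?_, fun hg => ?_⟩
    · rintro ⟨h', rfl⟩ _ ⟨t, rfl⟩
      exact ⟨h'.left.base t, rfl⟩
    · exact ⟨Over.homMk (IsOpenImmersion.lift j.left g.left hg) (by
        rw [← Over.w j, ← Category.assoc, IsOpenImmersion.lift_fac, Over.w g]),
        Over.OverMorphism.ext (IsOpenImmersion.lift_fac _ _ _)⟩
  · refine Deform.Neutral.isOpenImmersion_of_factor j.left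
      (Deform.Neutral.isIndConstructible_neutralSet (G := N)) fun T g => ?_
    have h0 := h (Over.mk (g ≫ N.hom)) (Over.homMk g rfl)
    refine Iff.trans ⟨fun ⟨z, hz⟩ => ?_, fun ⟨z, hz⟩ => ⟨z.left, congrArg CommaMorphism.left hz⟩⟩ h0
    exact ⟨Over.homMk z (by rw [← Over.w j, ← Category.assoc, hz]; rfl), Over.OverMorphism.ext hz⟩
  · haveI := h
    refine ⟨(hP s).mpr inferInstance, ?_⟩
    rw [himg, hA h]
  · haveI : LocallyOfFinitePresentation (j.left ≫ N.hom) := by rw [Over.w j]; infer_instance
    haveI : Flat (j.left ≫ N.hom) := by rw [Over.w j]; infer_instance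
    exact FlatMisc.isOpenImmersion_of_fibres N.hom j.left fun s => (hP s).mp (h s).1

end Groth.Agent.S5393
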