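import Groth.Statements.S5399
import Groth.Agent.GrpSchLib.GeomIrr
import Groth.Agent.GrpSchLib.FieldTop
import Groth.Agent.VarGeom.OpenMap
import Groth.Agent.FlatDense.Basic
import Groth.Agent.AlgSpDec.EtCompact


set_option autoImplicit false
universe u
open CategoryTheory CategoryTheory.Limits MonoidalCategory CartesianMonoidalCategory MonObj GrpObj AlgebraicGeometry
open SGA3

namespace Groth.Agent.S5399
set_option linter.style.haveILetI false
set_option maxHeartbeats 800000
/-- Let G be a nonempty scheme of finite type over a field k, K a field extension of k, π : G ⊗_k K → G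
the projection and W a dense open subset of G ⊗_k K. Then the set U of points g of G such that W
contains every maximal point of the fibre π⁻¹(g) (every point whose closure in π⁻¹(g) is an
irreducible component of π⁻¹(g)) is open and dense in G. -/
theorem result (k : Type u) [Field k] (K : Type u) [Field K] [Algebra k K]
    (G : Scheme.{u}) (f : G ⟶ Spec (CommRingCat.of k)) [LocallyOfFiniteType f] [QuasiCompact f] [Nonempty G]
    (W : (pullback f (Spec.map (CommRingCat.ofHom (algebraMap k K)))).Opens)
    (hW : Dense (W : Set ↥(pullback f (Spec.map (CommRingCat.ofHom (algebraMap k K)))))) :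
    letI π := (pullback.fst f (Spec.map (CommRingCat.ofHom (algebraMap k K)))).base
    letI U : Set G := {g : G | ∀ z : ↥(π ⁻¹' {g}), closure {z} ∈ irreducibleComponents ↥(π ⁻¹' {g}) → z.1 ∈ W}
    IsOpen U ∧ Dense U := by
  let g₀ : Spec (CommRingCat.of K) ⟶ Spec (CommRingCat.of k) := Spec.map (CommRingCat.ofHom (algebraMap k K))
  let π := pullback.fst f g₀
  let L := AlgebraicClosure K
  let kk := AlgebraicClosure k
  let jC : kk →ₐ[k] L := IsAlgClosed.lift
  let sK : Spec (CommRingCat.of L) ⟶ Spec (CommRingCat.of K) := Spec.map (CommRingCat.ofHom (algebraMap K L))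
  let sj : Spec (CommRingCat.of L) ⟶ Spec (CommRingCat.of kk) := Spec.map (CommRingCat.ofHom (jC : kk →+* L))
  let g₁ : Spec (CommRingCat.of kk) ⟶ Spec (CommRingCat.of k) := Spec.map (CommRingCat.ofHom (algebraMap k kk))
  have hg : sj ≫ g₁ = sK ≫ g₀ := by
    rw [← Spec.map_comp, ← Spec.map_comp, ← CommRingCat.ofHom_comp, ← CommRingCat.ofHom_comp]
    congr 2
    exact RingHom.ext fun y => (jC.commutes y).trans (IsScalarTower.algebraMap_apply k K L y)
  let P := pullback (pullback.snd f g₀) sK
  let r : P ⟶ pullback f g₀ := pullback.fst _ _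
  let p : pullback f g₁ ⟶ G := pullback.fst f g₁
  have sqP : IsPullback (r ≫ π) (pullback.snd (pullback.snd f g₀) sK) f (sK ≫ g₀) :=
    (IsPullback.of_hasPullback _ _).paste_horiz (IsPullback.of_hasPullback f g₀)
  let q : P ⟶ pullback f g₁ := pullback.lift (r ≫ π) (pullback.snd (pullback.snd f g₀) sK ≫ sj) (by
    rw [sqP.w, Category.assoc, hg])
  have hqp : q ≫ p = r ≫ π := pullback.lift_fst _ _ _
  have sqq : IsPullback q (pullback.snd (pullback.snd f g₀) sK) (pullback.snd f g₁) sj := by
    refine IsPullback.of_right ?_ (pullback.lift_snd _ _ _) (IsPullback.of_hasPullback f g₁)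
    rw [hqp, hg]
    exact sqP
  haveI : GeometricallyIrreducible q := MorphismProperty.of_isPullback sqq.flip
    (GrpSchLib.geometricallyIrreducible_of_isAlgClosed sj)
  haveI : UniversallyOpen q := MorphismProperty.of_isPullback sqq.flip (VarGeom.universallyOpen_of_field (k := kk) _)
  haveI : IsIntegralHom g₁ := (IsIntegralHom.SpecMap_iff).mpr (algebraMap_isIntegral_iff.mpr inferInstance)
  haveI : IsIntegralHom p := MorphismProperty.pullback_fst _ _ inferInstance
  haveI : Flat g₀ := GrpSchLib.flat_spec_map_field _
  haveI : Flat sK := GrpSchLib.flat_spec_map_field _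
  haveI : Surjective sK := ⟨Function.surjective_to_subsingleton (α := Spec (CommRingCat.of L))
    (β := Spec (CommRingCat.of K)) _⟩
  have hgr : GeneralizingMap r := Flat.generalizingMap r
  have hgπ : GeneralizingMap π := Flat.generalizingMap π
  -- maximal points of a fibre
  let Max : ↥(pullback f g₀) → Prop := fun z => ∀ z', z' ⤳ z → π z' = π z → z' = z
  have hmax : ∀ (g : G) (z : ↥(π ⁻¹' {g})),
      closure {z} ∈ irreducibleComponents ↥(π ⁻¹' {g}) ↔ Max z.1 := by
    intro g z
    haveI : QuasiSober ↥(π ⁻¹' {g}) := (π.fiberHomeo g).symm.isOpenEmbedding.quasiSober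
    constructor
    · intro h w hw hwz
      let w' : ↥(π ⁻¹' {g}) := ⟨w, hwz.trans z.2⟩
      have h1 : w' ⤳ z := Topology.IsInducing.subtypeVal.specializes_iff.mp hw
      have h2 : z ⤳ w' := specializes_iff_mem_closure.mpr
        (h.2 isIrreducible_singleton.closure (closure_minimal (Set.singleton_subset_iff.mpr (specializes_iff_mem_closure.mp h1))
          isClosed_closure) (subset_closure rfl))
      exact congrArg Subtype.val (h1.antisymm h2).eq
    · intro h
      refine ⟨isIrreducible_singleton.closure, fun t ht hzt => ?_⟩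
      have hgen := ht.isGenericPoint_genericPoint_closure
      have h1 : ht.genericPoint ⤳ z := hgen.specializes (subset_closure (hzt (subset_closure rfl)))
      have h2 : ht.genericPoint = z := Subtype.ext (h _ (h1.map continuous_subtype_val) (ht.genericPoint.2.trans z.2.symm))
      rw [← h2, hgen.def]
      exact subset_closure
  -- the complement of `U` is the image of a closed set
  let WL : P.Opens := r ⁻¹ᵁ W
  let Z : Set ↥(pullback f g₁) := (q '' WL)ᶜ
  have hZ : IsClosed Z := (q.isOpenMap _ WL.isOpen).isClosed_compl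
  have hU : ∀ g : G, (∀ z : ↥(π ⁻¹' {g}), closure {z} ∈ irreducibleComponents ↥(π ⁻¹' {g}) → z.1 ∈ W) ↔ g ∉ p '' Z := by
    intro g
    constructor
    · rintro hg' ⟨y, hyZ, rfl⟩
      have hirr := q.isIrreducible_preimage q.isOpenMap (isIrreducible_singleton (x := y))
      have hcl := hirr.isGenericPoint_genericPoint_closure
      obtain ⟨w₀, hw₀⟩ := hirr.nonempty
      obtain ⟨w, hwc, hw⟩ : ∃ w, q w = y ∧ ∀ v, q v = y → w ⤳ v := by
        have hsp : hirr.genericPoint ⤳ w₀ := hcl.specializes (subset_closure hw₀)
        refine ⟨hirr.genericPoint, ?_, fun v hv => hcl.specializes (subset_closure hv)⟩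
        have h1 : q hirr.genericPoint ⤳ q w₀ := hsp.map q.continuous
        rw [show q w₀ = y from hw₀] at h1
        have h2 : y ⤳ q hirr.genericPoint := specializes_iff_mem_closure.mpr
          (map_mem_closure q.continuous hcl.mem fun v hv => hv)
        exact (h1.antisymm h2).eq
      have hπw : π (r w) = p y := by rw [← Scheme.Hom.comp_apply, ← hqp, Scheme.Hom.comp_apply, hwc]
      have hmw : Max (r w) := by
        intro z' hz' hπ'
        obtain ⟨w', hw', rfl⟩ := hgr hz'
        have h1 : q w' = y := by
          refine AlgSpDec.eq_of_specializes_of_isIntegralHom p (hwc ▸ hw'.map q.continuous) ?_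
          rw [← Scheme.Hom.comp_apply, hqp, Scheme.Hom.comp_apply, hπ', hπw]
        rw [(hw'.antisymm (hw w' h1)).eq]
      exact hyZ ⟨w, hg' ⟨r w, hπw⟩ ((hmax _ ⟨r w, hπw⟩).mpr hmw), hwc⟩
    · intro hg' z hz
      have hzm := (hmax g z).mp hz
      obtain ⟨w, hw⟩ := r.surjective z.1
      have hpq : p (q w) = g := by
        rw [← Scheme.Hom.comp_apply, hqp, Scheme.Hom.comp_apply, hw]; exact z.2
      obtain ⟨v, hvW, hv⟩ : q w ∈ q '' (WL : Set P) := by
        by_contra hne
        exact hg' ⟨q w, hne, hpq⟩
      have hirr := q.isIrreducible_preimage q.isOpenMap (isIrreducible_singleton (x := q w))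
      have hcl := hirr.isGenericPoint_genericPoint_closure
      have hpre : ∀ u, q u = q w → hirr.genericPoint ⤳ u := fun u hu => hcl.specializes (subset_closure hu)
      have h1 : hirr.genericPoint ∈ WL := (hpre v hv).mem_open WL.isOpen hvW
      have h2 : r hirr.genericPoint = z.1 := by
        have hq' : q hirr.genericPoint = q w := (((hpre w rfl).map q.continuous).antisymm (specializes_iff_mem_closure.mpr
          (map_mem_closure q.continuous hcl.mem fun v hv => hv))).eq
        refine hzm _ (hw ▸ (hpre w rfl).map r.continuous) ?_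
        rw [← Scheme.Hom.comp_apply, ← hqp, Scheme.Hom.comp_apply, hq', hpq]
        exact z.2.symm
      exact h2 ▸ h1
  constructor
  · show IsOpen {g : G | _}
    rw [show {g : G | ∀ z : ↥(π ⁻¹' {g}), closure {z} ∈ irreducibleComponents ↥(π ⁻¹' {g}) → z.1 ∈ W} = (p '' Z)ᶜ from
      Set.ext hU]
    exact (p.isClosedMap _ hZ).isOpen_compl
  · haveI : IsLocallyNoetherian G := LocallyOfFiniteType.isLocallyNoetherian f
    haveI : LocallyOfFiniteType (pullback.snd f g₀) := inferInstance
    haveI : IsLocallyNoetherian (pullback f g₀) := LocallyOfFiniteType.isLocallyNoetherian (pullback.snd f g₀)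
    refine dense_iff_inter_open.mpr fun O hO ⟨x, hx⟩ => ?_
    obtain ⟨c, hc, hcx⟩ := GrpSchLib.exists_isMaxPt x
    refine ⟨c, hcx.mem_open hO hx, fun z hz => ?_⟩
    refine FlatDense.mem_of_dense_of_max_scheme W hW fun z' hz' => ((hmax c z).mp hz) z' hz' ?_
    rw [show π z.1 = c from z.2]
    exact hc _ ((show π z.1 = c from z.2) ▸ hz'.map π.continuous)

end Groth.Agent.S5399
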