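import Groth.Statements.S5401
import Groth.Agent.Deform.Neutral.Constructible
import Groth.Agent.MorLib.LimPro


set_option autoImplicit false
universe u
open CategoryTheory CategoryTheory.Limits MonoidalCategory CartesianMonoidalCategory MonObj GrpObj AlgebraicGeometry
open SGA3

namespace Groth.Agent.S5401
set_option linter.style.haveILetI false


/-- Let S₀ be a scheme, (S_i) a cofiltered system of quasi-compact quasi-separated S₀-schemes with
affine transition morphisms and S its limit, and G an S₀-group scheme locally of finite presentation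
over S₀. Write G⁰(T), for an S₀-scheme T, for the set of S₀-morphisms T → G whose image lies in the
union of the neutral components of the fibres of G. Then the canonical map colim G⁰(S_i) → G⁰(S) is
surjective: every element of G⁰(S) is the restriction of an element of G⁰(S_i) for some i. (The
published statement asserts that this map is bijective; its injectivity holds for S₀-morphisms to
any scheme locally of finite type over S₀ and is not stated here. The published setting takes S₀
quasi-compact and quasi-separated and the S_i affine over S₀; this row allows any cofiltered system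
of quasi-compact quasi-separated S₀-schemes with affine transition morphisms.) -/
theorem result {I : Type u} [SmallCategory I] [IsCofiltered I]
    (D : I ⥤ Scheme.{u}) (c : Limits.Cone D) (hc : Limits.IsLimit c)
    [∀ (i i' : I) (f : i ⟶ i'), IsAffineHom (D.map f)] [∀ i, CompactSpace (D.obj i)] [∀ i, QuasiSeparatedSpace (D.obj i)]
    (S₀ : Scheme.{u}) (q : ∀ i, D.obj i ⟶ S₀) (hq : ∀ (i i' : I) (f : i ⟶ i'), D.map f ≫ q i' = q i)
    (qlim : c.pt ⟶ S₀) (hqlim : ∀ i, c.π.app i ≫ q i = qlim)
    (G : Over S₀) [GrpObj G] [LocallyOfFinitePresentation G.hom] :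
    ∀ u : c.pt ⟶ G.left, u ≫ G.hom = qlim → Set.range u.base ⊆ SGA3x.neutralSet G →
      ∃ (i : I) (ui : D.obj i ⟶ G.left), ui ≫ G.hom = q i ∧ Set.range ui.base ⊆ SGA3x.neutralSet G ∧ c.π.app i ≫ ui = u := by
  intro u hu hr
  let t : D ⟶ (Functor.const I).obj S₀ :=
    { app := q
      naturality := fun i i' f => by simpa using hq i i' f }
  haveI : ∀ {i j : I} (f : i ⟶ j), IsAffineHom (D.map f) := fun f => inferInstance
  obtain ⟨i, g, hgu, hgf⟩ := Scheme.exists_π_app_comp_eq_of_locallyOfFinitePresentation D t G.hom c hc u (by
    ext j; simpa [t, hu] using hqlim j)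
  have hN : ProCons.IsIndConstructible (g ⁻¹' SGA3x.neutralSet G) :=
    MorLib.LimPro.isIndConstructible_preimage Deform.Neutral.isIndConstructible_neutralSet g
  obtain ⟨j, φ, hj⟩ := MorLib.LimPro.exists_subset hc i (A := Set.univ) (B := g ⁻¹' SGA3x.neutralSet G)
    (EGA41Lib.pro_iff.mpr fun V hV => haveI := EGA41Lib.spectralSpace_affine hV; SpecLib.cc_of_isClosed (isClosed_univ.preimage continuous_subtype_val)) hN (fun s _ => hr ⟨s, by rw [← hgu]; rfl⟩)
  refine ⟨j, D.map φ ≫ g, ?_, ?_, ?_⟩
  · rw [Category.assoc, hgf]; exact hq j i φ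
  · rintro _ ⟨s, rfl⟩
    exact hj (Set.mem_univ s)
  · rw [c.w_assoc, hgu]

end Groth.Agent.S5401
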