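import Groth.Statements.S5424
import Groth.Agent.Deform.TorusExist.UnipCrit


set_option autoImplicit false
universe u
open TensorProduct
open SGA3t2b

namespace Groth.Agent.S5424
open CategoryTheory MonoidalCategory CartesianMonoidalCategory MonObj AlgebraicGeometry
attribute [local instance] CategoryTheory.Hom.monoid CategoryTheory.Hom.group
set_option linter.style.haveILetI false
set_option maxHeartbeats 1000000
open Groth.Agent
open Groth.Agent.GrpSchLib.AffineHopf (sp spMap)
open Groth.Agent.Deform.FrobDesc (yK)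

/-- (i) ⟺ (iv) ⟺ (v): let k be a field with algebraic closure k̄ and A a finitely generated commutative
Hopf algebra over k which is formally smooth and has no idempotents other than 0 and 1 (a smooth
connected affine algebraic group G). Then the following are equivalent: (i) G is unipotent
(fixed-vector form); (iv) there is an integer n > 1 such that G_{k̄} contains no closed subgroup
isomorphic to μ_n (no surjective bialgebra map from k̄ ⊗ A onto the group algebra k̄[ℤ/n]); (v)
every subtorus of G is trivial (every Hopf quotient of A which is the algebra of a torus is k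
itself). (The published condition (v) concerns maximal tori; since every torus lies in a maximal
one, this row's condition on all subtori is equivalent.) -/
theorem result (k : Type u) [Field k] (A : Type u) [CommRing A] [HopfAlgebra k A] [Algebra.FiniteType k A]
    [Algebra.FormallySmooth k A] (hconn : ∀ e : A, IsIdempotentElem e → e = 0 ∨ e = 1) :
    (HopfRep.IsUnipotent k A ↔
      ∃ n : ℕ, 1 < n ∧ ¬ ∃ φ : (AlgebraicClosure k ⊗[k] A) →ₐc[AlgebraicClosure k]
        MonoidAlgebra (AlgebraicClosure k) (Multiplicative (ZMod n)), Function.Surjective φ) ∧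
    (HopfRep.IsUnipotent k A ↔
      ∀ (B : Type u) [CommRing B] [HopfAlgebra k B] (φ : A →ₐc[k] B), Function.Surjective φ →
        SGA3b.IsTorus k B → Function.Bijective (algebraMap k B)) := by
  let K := AlgebraicClosure k
  haveI : Algebra.FinitePresentation k A := Algebra.FinitePresentation.of_finiteType.mp inferInstance
  haveI : Algebra.Smooth k A := ⟨inferInstance, inferInstance⟩
  haveI : Smooth (sp k A).hom := Deform.TorusExist.smooth_sp A
  haveI : IsAffine (sp k A).left := inferInstanceAs (IsAffine (Spec (CommRingCat.of A)))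
  haveI : ConnectedSpace ↥(sp k A).left := by
    haveI : Nontrivial A := (Bialgebra.counitAlgHom k A).toRingHom.domain_nontrivial
    haveI := DynLib.preconnectedSpace_of_idempotents hconn
    exact { toPreconnectedSpace := ‹PreconnectedSpace (PrimeSpectrum A)›
            toNonempty := inferInstanceAs (Nonempty (PrimeSpectrum A)) }
  obtain ⟨hKa, hKs, hKc⟩ := Deform.Borel.bc_props (yK k K) (sp k A)
  haveI := hKa; haveI := hKs; haveI := hKc
  obtain ⟨C, _, _, _, _, eC, heC⟩ := GrpSchLib.Lang.exists_domain_hopf (Red.bc (yK k K) (sp k A))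
  haveI := heC
  obtain ⟨g₁⟩ := GrpSchLib.AffineHopf.nonempty_bc_sp (R := k) K A
  obtain ⟨eCA⟩ := Deform.nonempty_bialgEquiv (g₁.symm ≪≫ (Grp.mkIso' eC).symm)
  haveI : IsDomain (K ⊗[k] A) :=
    Function.Injective.isDomain ((eCA.symm : K ⊗[k] A →ₐc[K] C) : K ⊗[k] A →+* C) eCA.symm.injective
  haveI : Smooth (sp K (K ⊗[k] A)).hom := Deform.TorusExist.smooth_sp (k := K) (K ⊗[k] A)
  let b : sp K (K ⊗[k] A) ≅ Red.bc (yK k K) (sp k A) := (Grp.forget _).mapIso g₁.symm
  haveI : IsMonHom b.hom := g₁.inv.hom.isMonHom_hom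
  have hno : Red.HasNoSubtorus k (sp k A) → HopfRep.IsUnipotent k A := fun h =>
    (S7951.result k K A).mpr (Deform.TorusExist.isUnipotent_of_noSubtorus _ fun τ _ j _ _ hτ =>
      (Deform.TorusExist.hasNoSubtorus_iff K (sp k A)).mp h τ (j ≫ b.hom) hτ)
  have h1 : HopfRep.IsUnipotent k A → ∃ n : ℕ, 1 < n ∧ ¬ ∃ φ : (K ⊗[k] A) →ₐc[K]
      MonoidAlgebra K (Multiplicative (ZMod n)), Function.Surjective φ := fun hU =>
    ⟨2, one_lt_two, fun ⟨φ, hφ⟩ => UnipMu.not_surjective_of_isUnipotent ((S7951.result k K A).mp hU) 2 (by norm_num) φ hφ⟩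
  refine ⟨⟨h1, fun ⟨n, _, hn⟩ => ?_⟩, ⟨fun hU B _ _ φ hφ hB => Deform.TorusExist.bijective_of_unipotent hU φ hφ hB, fun h => hno fun T _ j _ _ hT => ?_⟩⟩
  · exact (S7951.result k K A).mpr (Deform.TorusExist.isUnipotent_of_noSubtorus _ (Deform.TorusExist.hasNoSubtorus_of_no_mu hn))
  · obtain ⟨B, _, _, -, hBft, ⟨e⟩⟩ := Deform.exists_hopf_ft T (Deform.isMultTypeFT_of_isTorus hT)
    let a : sp k B ≅ T := (Grp.forget _).mapIso e
    haveI : IsMonHom a.hom := e.hom.hom.isMonHom_hom
    haveI : IsIso a.hom.left := ((Over.forget _).mapIso a).isIso_hom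
    obtain ⟨hTa, hTl, -, -⟩ := Deform.TorusBasic.props hT
    haveI := hTa; haveI := hTl
    haveI : IsAffineHom T.hom := isAffineHom_of_isAffine _
    haveI : IsClosedImmersion j.left := Deform.Borel.isClosedImmersion_of_mono j
    obtain ⟨ψ, hψ⟩ := GrpSchLib.AffineHopf.exists_bialgHom (a.hom ≫ j)
    haveI : IsClosedImmersion (spMap (ψ : A →ₐ[k] B)).left := by
      rw [← hψ]; exact inferInstanceAs (IsClosedImmersion (a.hom.left ≫ j.left))
    have hs : Function.Surjective ψ :=
      GrpSchLib.AffineHopf.surjective_of_isClosedImmersion (ψ : A →ₐ[k] B) inferInstance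
    haveI : IsIso (sp k B).hom := isIso_SpecMap_iff.mpr (h B ψ hs (Deform.TorusExist.isTorus_hopf hT e))
    show IsIso T.hom
    rw [← Over.w a.inv]
    infer_instance

end Groth.Agent.S5424
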