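import Groth.Statements.S5425
import Groth.Agent.UnipMu.Criterion
import Groth.Agent.UnipConst.Basic
import Groth.Agent.S2968
-- import your own Groth.Agent.* helpers here

set_option autoImplicit false
universe u
open TensorProduct
open SGA3t2b

namespace Groth.Agent.S5425

open Groth.Agent.UnipMu WithConv in
theorem isUnipotent_frobKernel {k : Type u} [Field k] (p : ℕ) [Fact p.Prime] [CharP k p] {A : Type u} [CommRing A]
    [HopfAlgebra k A] [Algebra.FiniteType k A]
    (hD : ∀ D : LieHopf.Lie k A, ∃ n : ℕ, 0 < n ∧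
      LieHopf.convPow (D.toLinearMap.restrictScalars k ∘ₗ LinearMap.id) (p ^ n) = 0)
    [(frobIdeal k A p 1).IsHopfIdeal k] : HopfRep.IsUnipotent k (A ⧸ frobIdeal k A p 1) := by
  haveI : Algebra.FiniteType k (A ⧸ (frobIdeal k A p 1)) :=
    Algebra.FiniteType.of_surjective (Ideal.Quotient.mkₐ k (frobIdeal k A p 1)) Ideal.Quotient.mk_surjective
  refine isUnipotent_of_nilpotent_deriv p (fun x hx => ?_) fun y hy => ?_
  · obtain ⟨a, rfl⟩ := Ideal.Quotient.mk_surjective x
    rw [← map_pow, Ideal.Quotient.eq_zero_iff_mem]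
    exact Ideal.subset_span ⟨a, hx, by simp⟩
  let q : A →ₗ[k] A ⧸ (frobIdeal k A p 1) := (Ideal.Quotient.mkₐ k (frobIdeal k A p 1)).toLinearMap
  let d : A →ₗ[k] k := y.ofConv ∘ₗ q
  let D : LieHopf.Lie k A := Derivation.mk'
    { toFun := fun a => (d a : LieHopf.K k A)
      map_add' := fun a b => map_add d a b
      map_smul' := fun c a => map_smul d c a }
    fun a b => by
      show d (a * b) = _
      rw [LieHopf.smul_def, LieHopf.smul_def]
      refine (congrArg y.ofConv (map_mul (Ideal.Quotient.mk (frobIdeal k A p 1)) a b)).trans ?_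
      exact hy _ _
  obtain ⟨n, -, hn⟩ := hD D
  have hpow : ∀ m : ℕ, ∀ a : A, (y ^ m).ofConv (Ideal.Quotient.mk (frobIdeal k A p 1) a) = LieHopf.convPow d m a := by
    intro m
    induction m with
    | zero => intro a; simp [LieHopf.convPow, LinearMap.convOne_apply]
    | succ m ih =>
      intro a
      rw [pow_succ, LinearMap.convMul_apply, LieHopf.convPow, Bialgebra.Quotient.comul_mk]
      simp only [LieHopf.conv, LinearMap.comp_apply]
      induction CoalgebraStruct.comul (R := k) a using TensorProduct.induction_on with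
      | zero => simp
      | tmul u v => simp [ih, d, q]
      | add u v hu hv => simp only [map_add, hu, hv]
  refine ⟨p ^ n, WithConv.ofConv_injective (LinearMap.ext fun x => ?_)⟩
  obtain ⟨a, rfl⟩ := Ideal.Quotient.mk_surjective x
  rw [hpow]
  exact LinearMap.congr_fun hn a

open Groth.Agent.UnipMu in
/-- If the first Frobenius kernel is unipotent there is no `μ_p` over the algebraic closure. -/
theorem noMu_of_frobKernel {k : Type u} [Field k] (p : ℕ) [Fact p.Prime] [CharP k p] {A : Type u} [CommRing A]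
    [HopfAlgebra k A] [Algebra.FiniteType k A] [(frobIdeal k A p 1).IsHopfIdeal k]
    (hU : HopfRep.IsUnipotent k (A ⧸ frobIdeal k A p 1)) :
    ¬ ∃ φ : (AlgebraicClosure k ⊗[k] A) →ₐc[AlgebraicClosure k]
        MonoidAlgebra (AlgebraicClosure k) (Multiplicative (ZMod p)), Function.Surjective φ := by
  rintro ⟨φ, hφ⟩
  let K := AlgebraicClosure k
  let J := frobIdeal k A p 1
  haveI : CharP K p := charP_of_injective_algebraMap (algebraMap k K).injective p
  let T := MonoidAlgebra K (Multiplicative (ZMod p))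
  haveI : Nontrivial T := (Bialgebra.counitAlgHom K T).toRingHom.domain_nontrivial
  haveI : CharP T p := charP_of_injective_algebraMap (algebraMap K T).injective p
  have hT : ∀ z : T, z ^ p = algebraMap K T (Bialgebra.counitAlgHom K T z ^ p) := by
    intro z
    induction z using MonoidAlgebra.induction_linear with
    | zero => simp [zero_pow (Fact.out : p.Prime).ne_zero]
    | add a b ha hb => rw [add_pow_char, ha, hb, map_add (Bialgebra.counitAlgHom K T), add_pow_char, map_add]
    | single g c =>
      have hg : g ^ p = 1 := by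
        apply Multiplicative.toAdd.injective
        simp
      rw [MonoidAlgebra.single_pow, hg, ← map_pow]
      rw [map_pow (Bialgebra.counitAlgHom K T),
        show Bialgebra.counitAlgHom K T (MonoidAlgebra.single g c) = c by simp [T]]
      simp [T]
  let q : (K ⊗[k] A) →ₐc[K] K ⊗[k] (A ⧸ J) :=
    Bialgebra.TensorProduct.map (BialgHom.id K K) (Bialgebra.Quotient.mkBialgHom (R := k) J)
  have hq : Function.Surjective q := by
    intro z
    induction z using TensorProduct.induction_on with
    | zero => exact ⟨0, map_zero _⟩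
    | tmul c b =>
      obtain ⟨a, rfl⟩ := Ideal.Quotient.mk_surjective b
      exact ⟨c ⊗ₜ a, rfl⟩
    | add a b ha hb =>
      obtain ⟨a, rfl⟩ := ha
      obtain ⟨b, rfl⟩ := hb
      exact ⟨a + b, map_add q a b⟩
  have hker : ∀ z, q z = 0 → φ z = 0 := by
    intro z hz
    have h := Algebra.TensorProduct.lTensor_ker (A := K) (Ideal.Quotient.mkₐ k J) Ideal.Quotient.mk_surjective
    have hz' : z ∈ Ideal.map Algebra.TensorProduct.includeRight (RingHom.ker (Ideal.Quotient.mkₐ k J)) := by
      rw [← h]
      exact hz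
    refine (Ideal.map_le_iff_le_comap (K := RingHom.ker (φ : (K ⊗[k] A) →ₐ[K] T))).mpr ?_ hz'
    intro a ha
    have ha' : a ∈ J := Ideal.Quotient.eq_zero_iff_mem.mp ha
    refine (Ideal.span_le (I := Ideal.comap (Algebra.TensorProduct.includeRight : A →ₐ[k] K ⊗[k] A)
      (RingHom.ker (φ : (K ⊗[k] A) →ₐ[K] T)))).mpr ?_ ha'
    rintro _ ⟨x, hx, rfl⟩
    show φ ((1 : K) ⊗ₜ[k] (x ^ p ^ 1)) = 0
    rw [pow_one, show (1 : K) ⊗ₜ[k] (x ^ p) = ((1 : K) ⊗ₜ[k] x) ^ p by
      rw [Algebra.TensorProduct.tmul_pow, one_pow], map_pow, hT,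
      show Bialgebra.counitAlgHom K T (φ ((1 : K) ⊗ₜ[k] x)) = 0 from
        (CoalgHomClass.counit_comp_apply φ _).trans (by simp [show Coalgebra.counit (R := k) x = 0 from hx]),
      zero_pow (Fact.out : p.Prime).ne_zero, map_zero]
  obtain ⟨ψ, hψ⟩ := Groth.Agent.UnipExt.exists_factor q hq φ hker
  refine not_surjective_of_isUnipotent ((Groth.Agent.S7951.result k K (A ⧸ J)).mp hU) p
    (Fact.out : p.Prime).ne_one ψ fun t => ?_
  obtain ⟨z, rfl⟩ := hφ t
  exact ⟨q z, hψ z⟩

/-- (i) ⟺ (iv) ⟺ (v): let k be a field of characteristic p > 0 with algebraic closure k̄, and A a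
finitely generated commutative Hopf algebra over k with no idempotents other than 0 and 1 (a
connected affine algebraic group G). Then the following are equivalent: (i) G is unipotent
(fixed-vector form); (iv) G_{k̄} contains no closed subgroup isomorphic to μ_p; (v) the Lie algebra
of G is a unipotent p-Lie algebra: for every ε-derivation D : A → k some p^n-fold convolution power
of D (n > 0) vanishes. -/
theorem result (k : Type u) [Field k] (p : ℕ) [Fact p.Prime] [CharP k p] (A : Type u) [CommRing A] [HopfAlgebra k A]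
    [Algebra.FiniteType k A] (hconn : ∀ e : A, IsIdempotentElem e → e = 0 ∨ e = 1) :
    (HopfRep.IsUnipotent k A ↔
      ¬ ∃ φ : (AlgebraicClosure k ⊗[k] A) →ₐc[AlgebraicClosure k]
        MonoidAlgebra (AlgebraicClosure k) (Multiplicative (ZMod p)), Function.Surjective φ) ∧
    (HopfRep.IsUnipotent k A ↔
      ∀ D : LieHopf.Lie k A, ∃ n : ℕ, 0 < n ∧
        LieHopf.convPow (D.toLinearMap.restrictScalars k ∘ₗ LinearMap.id) (p ^ n) = 0) := by
  haveI : CharP (AlgebraicClosure k) p :=
    charP_of_injective_algebraMap (algebraMap k (AlgebraicClosure k)).injective p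
  have hiv : (¬ ∃ φ : (AlgebraicClosure k ⊗[k] A) →ₐc[AlgebraicClosure k]
      MonoidAlgebra (AlgebraicClosure k) (Multiplicative (ZMod p)), Function.Surjective φ) →
      HopfRep.IsUnipotent k A := fun h =>
    (Groth.Agent.S7951.result k (AlgebraicClosure k) A).mpr
      (Groth.Agent.UnipMu.isUnipotent_of_connected p
        (Groth.Agent.UnipConst.idempotents_baseChange (Bialgebra.counitAlgHom k A) hconn (AlgebraicClosure k)) h)
  have hi : HopfRep.IsUnipotent k A → ¬ ∃ φ : (AlgebraicClosure k ⊗[k] A) →ₐc[AlgebraicClosure k]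
      MonoidAlgebra (AlgebraicClosure k) (Multiplicative (ZMod p)), Function.Surjective φ :=
    fun hU ⟨φ, hφ⟩ => Groth.Agent.UnipMu.not_surjective_of_isUnipotent
      ((Groth.Agent.S7951.result k (AlgebraicClosure k) A).mp hU) p (Fact.out : p.Prime).ne_one φ hφ
  refine ⟨⟨hi, hiv⟩, fun hU D => Groth.Agent.S2968.result p hU D, fun h => hiv ?_⟩
  haveI := Groth.Agent.UnipMu.isHopfIdeal_frobIdeal (k := k) (A := A) p 1
  exact noMu_of_frobKernel p (isUnipotent_frobKernel p h)

end Groth.Agent.S5425
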