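import Groth.Statements.S5432
import Groth.Agent.UnipConst.Basic

set_option autoImplicit false
universe u
open TensorProduct
open SGA3t2b

namespace Groth.Agent.S5432

/-- Let k be a field, C a finitely generated commutative Hopf algebra which is formally smooth with no
idempotents other than 0 and 1 and unipotent in the fixed-vector sense (a smooth connected unipotent
algebraic group U), and B a commutative Hopf algebra of multiplicative type (isomorphic to a group
algebra after a faithfully flat extension of k; the group H, not assumed of finite type). Then every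
morphism of k-schemes U → H is constant: every k-algebra map f : B → C satisfies f(b) = ε_C(f(b)) ·
1. -/
theorem result (k : Type u) [Field k] (C B : Type u) [CommRing C] [HopfAlgebra k C] [Algebra.FiniteType k C]
    [Algebra.FormallySmooth k C] (hconn : ∀ e : C, IsIdempotentElem e → e = 0 ∨ e = 1)
    (hU : HopfRep.IsUnipotent k C) [CommRing B] [HopfAlgebra k B]
    (hB : SGA3b.IsMultTypeConst k B) (f : B →ₐ[k] C) :
    ∀ b : B, f b = algebraMap k C (Bialgebra.counitAlgHom k C (f b)) := by
  obtain ⟨R', _, _, hff, hdiag⟩ := hB
  haveI := hff
  haveI : Nontrivial R' := by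
    haveI := Module.FaithfullyFlat.lTensor_nontrivial k R' k
    exact (TensorProduct.rid k R').toEquiv.symm.nontrivial
  obtain ⟨m, hm⟩ := Ideal.exists_maximal R'
  letI := Ideal.Quotient.field m
  let K := AlgebraicClosure (R' ⧸ m)
  haveI : IsScalarTower k R' K := IsScalarTower.of_algebraMap_eq fun c => by
    rw [IsScalarTower.algebraMap_apply k (R' ⧸ m) K, IsScalarTower.algebraMap_apply k R' (R' ⧸ m),
      ← IsScalarTower.algebraMap_apply R' (R' ⧸ m) K]
  have hd := Groth.Agent.UnipExt.span_groupLike_of_isDiag (Groth.Agent.MultTypeLib.isDiag_baseChange R' K hdiag)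
  let F : K ⊗[k] B →ₐ[K] K ⊗[k] C := Algebra.TensorProduct.map (AlgHom.id K K) f
  have key : ∀ y : K ⊗[k] B, F y = algebraMap K _ (Coalgebra.counit (R := K) (F y)) := by
    intro y
    have hy : y ∈ Submodule.span K {g : K ⊗[k] B | IsGroupLikeElem K g} := hd ▸ Submodule.mem_top
    induction hy using Submodule.span_induction with
    | mem g hg => exact Groth.Agent.UnipConst.unit_baseChange_const K hconn hU ((hg.isUnit.map F).unit)
    | zero => simp
    | add p q _ _ hp hq => rw [map_add, map_add, map_add, ← hp, ← hq]
    | smul c p _ hp => rw [map_smul, map_smul, smul_eq_mul, map_mul, ← hp, Algebra.smul_def]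
  intro b
  have hinj : Function.Injective (Algebra.TensorProduct.includeRight : C →ₐ[k] K ⊗[k] C) := by
    intro x y hxy
    exact Module.Flat.rTensor_preserves_injective_linearMap (M := C) (Algebra.linearMap k K)
      (algebraMap k K).injective |>.comp (TensorProduct.lid k C).symm.injective |>.eq_iff.mp (by simpa using hxy)
  apply hinj
  have h := key ((1 : K) ⊗ₜ[k] b)
  simp only [F, Algebra.TensorProduct.map_tmul, AlgHom.id_apply] at h
  rw [AlgHom.commutes]
  refine h.trans ?_
  rw [TensorProduct.counit_tmul]
  simp [Algebra.algebraMap_eq_smul_one, TensorProduct.smul_tmul, Algebra.TensorProduct.one_def]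

end Groth.Agent.S5432
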