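import Groth.Statements.S5441
import Groth.Agent.FBaseLib.Reduced
import Groth.Agent.GrpSchLib.Reduced
import Groth.Agent.GrpSchLib.HopfGalois
import Groth.Agent.GrpSchLib.HopfQuotEtale
import Mathlib.RingTheory.Nilpotent.GeometricallyReduced
import Mathlib.RingTheory.Unramified.Field
import Mathlib.RingTheory.Jacobson.Ring
import Mathlib.LinearAlgebra.LinearIndependent.Lemmas

set_option autoImplicit false
universe u
open TensorProduct
open SGA3

namespace Groth.Agent.S5441

/-- Let k be a perfect field, A a finitely generated commutative Hopf algebra (an algebraic group H), ψ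
: C → A an injective bialgebra map with C an étale k-algebra (the étale quotient H″), J the Hopf
ideal of A generated by the image of the augmentation ideal of C (the kernel H′ = Spec (A/J)), with
A/J a local ring (H′ radiciel). Then H″ lifts uniquely into H and the lifting is the reduced
subgroup: there is exactly one bialgebra map r : A → C with r ∘ ψ = id, and every such r has kernel
the nilradical of A. -/
theorem result (k : Type u) [Field k] [PerfectField k] (A C : Type u) [CommRing A] [HopfAlgebra k A] [Algebra.FiniteType k A]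
    [CommRing C] [HopfAlgebra k C] [Algebra.Etale k C] (ψ : C →ₐc[k] A) (hψ : Function.Injective ψ)
    (J : Ideal A) [J.IsHopfIdeal k] (hJ : J = Ideal.map (ψ : C →+* A) (RingHom.ker (Bialgebra.counitAlgHom k C)))
    [IsLocalRing (A ⧸ J)] :
    (∃! r : A →ₐc[k] C, r.comp ψ = BialgHom.id k C) ∧
    ∀ r : A →ₐc[k] C, r.comp ψ = BialgHom.id k C → RingHom.ker (r : A →+* C) = nilradical A := by
  classical
  haveI : IsReduced C := Algebra.FormallyUnramified.isReduced_of_field k C
  haveI : Algebra.IsGeometricallyReduced k C := Groth.Agent.GrpSchLib.isGeometricallyReduced_of_isReduced k C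
  haveI : IsReduced (C ⊗[k] C) := Groth.Agent.FBaseLib.isReduced_tensor C C
  have hnil : ∀ (S : Type u) [CommRing S] [Algebra k S] [IsReduced S] (f : A →ₐ[k] S) (a : A),
      a ∈ nilradical A → f a = 0 := fun S _ _ _ f a ha => (IsNilpotent.map (mem_nilradical.mp ha) f).eq_zero
  let R := A ⧸ nilradical A
  haveI : IsReduced R := (Ideal.isRadical_iff_quotient_reduced _).mp (Ideal.radical_isRadical _)
  let q : A →ₐ[k] R := Ideal.Quotient.mkₐ k _
  let ψ' : C →ₐ[k] R := q.comp (ψ : C →ₐ[k] A)
  let Ω := AlgebraicClosure k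
  haveI : Algebra.IsGeometricallyReduced k R := Groth.Agent.GrpSchLib.isGeometricallyReduced_of_isReduced k R
  haveI : IsReduced (Ω ⊗[k] R) := Groth.Agent.FBaseLib.isReduced_field_tensor R Ω
  have hinj : Function.Injective ψ' := (injective_iff_map_eq_zero ψ').mpr fun c hc => by
    obtain ⟨n, hn⟩ := mem_nilradical.mp (Ideal.Quotient.eq_zero_iff_mem.mp hc)
    have : c ^ n = 0 := hψ (by rw [map_pow, map_zero]; exact hn)
    exact (IsNilpotent.eq_zero ⟨n, this⟩)
  -- injectivity on geometric points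
  have hpts : ∀ x y : A →ₐ[k] Ω, x.comp (ψ : C →ₐ[k] A) = y.comp (ψ : C →ₐ[k] A) → x = y := by
    intro x y hxy
    let z : A →ₐ[k] Ω := (WithConv.toConv (x.comp (HopfAlgebra.antipodeAlgHom k A)) * WithConv.toConv y).ofConv
    have hzψ : z.comp (ψ : C →ₐ[k] A) = (1 : WithConv (C →ₐ[k] Ω)).ofConv := by
      show AlgHom.comp _ (ψ : C →ₐ[k] A) = _
      rw [AlgHom.convMul_comp_bialgHom_distrib]
      simp only [WithConv.ofConv_toConv, AlgHom.comp_assoc]
      rw [show (HopfAlgebra.antipodeAlgHom k A).comp (ψ : C →ₐ[k] A) =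
          (ψ : C →ₐ[k] A).comp (HopfAlgebra.antipodeAlgHom k C) from AlgHom.ext fun c =>
            Groth.Agent.GrpSchLib.HopfGalois.antipode_bialgHom ψ c, ← AlgHom.comp_assoc, hxy,
        Groth.Agent.GrpSchLib.HopfQuot.inv_convMul_self]
    have hzJ : J ≤ RingHom.ker z.toRingHom := by
      rw [hJ, Ideal.map_le_iff_le_comap]
      intro c hc
      show z (ψ c) = 0
      refine (AlgHom.congr_fun hzψ c).trans ?_
      show algebraMap k Ω (Coalgebra.counit (R := k) c) = 0
      rw [show Coalgebra.counit (R := k) c = 0 from hc, map_zero]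
    let zb : (A ⧸ J) →ₐ[k] Ω := Ideal.Quotient.liftₐ J z fun a ha => hzJ ha
    let m := IsLocalRing.maximalIdeal (A ⧸ J)
    have hm1 : RingHom.ker (Bialgebra.counitAlgHom k (A ⧸ J)) = m :=
      IsLocalRing.eq_maximalIdeal (RingHom.ker_isMaximal_of_surjective _ fun r => ⟨algebraMap k _ r, by simp⟩)
    haveI : IsJacobsonRing (A ⧸ J) := isJacobsonRing_of_finiteType (A := k) (B := A ⧸ J)
    have hmnil : ∀ b ∈ m, IsNilpotent b := fun b hb => by
      rw [← mem_nilradical, nilradical, Ideal.zero_eq_bot, Ideal.radical_eq_jacobson]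
      rw [IsLocalRing.jacobson_eq_maximalIdeal _ bot_ne_top]
      exact hb
    have hz : ∀ a, z a = algebraMap k Ω (Coalgebra.counit (R := k) a) := fun a => by
      have hb : Ideal.Quotient.mk J a - algebraMap k (A ⧸ J) (Coalgebra.counit (R := k) a) ∈ m := by
        rw [← hm1, RingHom.mem_ker, map_sub, AlgHom.commutes, sub_eq_zero]
        rfl
      have h := (IsNilpotent.map (hmnil _ hb) zb).eq_zero
      rw [map_sub, AlgHom.commutes, sub_eq_zero] at h
      exact h
    have hz1 : WithConv.toConv (x.comp (HopfAlgebra.antipodeAlgHom k A)) * WithConv.toConv y = 1 :=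
      WithConv.ofConv_injective (AlgHom.ext hz)
    exact congrArg WithConv.ofConv
      (left_inv_eq_right_inv (Groth.Agent.GrpSchLib.HopfQuot.self_convMul_inv x) hz1)
  -- surjectivity after extension to the algebraic closure
  haveI : Module.Finite k C := Algebra.FormallyUnramified.finite_of_free k C
  let P := C →ₐ[k] Ω
  haveI : Finite P := inferInstance
  haveI : Fintype P := Fintype.ofFinite P
  let ev : Ω ⊗[k] C →ₗ[Ω] (P → Ω) := LinearMap.pi fun x : P => LinearMap.liftBaseChange Ω x.toLinearMap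
  have hev : Function.Surjective ev := by
    rw [← LinearMap.dualMap_injective_iff]
    refine (injective_iff_map_eq_zero _).mpr fun φ hφ => ?_
    have hsum : ∑ x : P, φ (Pi.single x 1) • x.toLinearMap = 0 := by
      refine LinearMap.ext fun c => ?_
      have h := LinearMap.congr_fun hφ ((1 : Ω) ⊗ₜ[k] c)
      rw [LinearMap.dualMap_apply, LinearMap.zero_apply] at h
      rw [LinearMap.sum_apply, LinearMap.zero_apply, ← h]
      conv_rhs => rw [← Finset.univ_sum_single (ev ((1 : Ω) ⊗ₜ[k] c))]
      rw [map_sum]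
      refine Finset.sum_congr rfl fun x _ => ?_
      rw [LinearMap.smul_apply, show Pi.single x (ev ((1 : Ω) ⊗ₜ[k] c) x) = (x c) • Pi.single x (1 : Ω) by
        rw [← Pi.single_smul', smul_eq_mul, mul_one]; simp [ev], map_smul]
      exact mul_comm _ _
    have hcoef := Fintype.linearIndependent_iff.mp (linearIndependent_algHom_toLinearMap k C Ω) _ hsum
    refine LinearMap.pi_ext fun x r => ?_
    rw [show Pi.single x r = r • Pi.single x (1 : Ω) by rw [← Pi.single_smul', smul_eq_mul, mul_one], map_smul,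
      hcoef x, smul_zero, LinearMap.zero_apply]
  let Φ : Ω ⊗[k] C →ₐ[Ω] Ω ⊗[k] R := Algebra.TensorProduct.map (AlgHom.id Ω Ω) ψ'
  have hsurjΩ : Function.Surjective Φ := by
    intro t
    let f : P → Ω := fun x => if h : ∃ y : A →ₐ[k] Ω, y.comp (ψ : C →ₐ[k] A) = x then
      Algebra.TensorProduct.lift (AlgHom.id Ω Ω) (Ideal.Quotient.liftₐ (nilradical A) h.choose
        fun a ha => hnil Ω h.choose a ha) (fun _ _ => Commute.all _ _) t else 0
    obtain ⟨u, hu⟩ := hev f
    refine ⟨u, sub_eq_zero.mp ?_⟩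
    haveI : IsJacobsonRing (Ω ⊗[k] R) := isJacobsonRing_of_finiteType (A := Ω) (B := Ω ⊗[k] R)
    suffices h : Φ u - t ∈ nilradical (Ω ⊗[k] R) from IsReduced.eq_zero _ (mem_nilradical.mp h)
    show _ ∈ Ideal.radical (0 : Ideal (Ω ⊗[k] R))
    rw [Ideal.zero_eq_bot, Ideal.radical_eq_jacobson, Ideal.jacobson, Ideal.mem_sInf]
    rintro M ⟨-, hM⟩
    haveI := hM
    letI := Ideal.Quotient.field M
    haveI : Algebra.IsIntegral Ω ((Ω ⊗[k] R) ⧸ M) := by
      haveI := finite_of_finite_type_of_isJacobsonRing Ω ((Ω ⊗[k] R) ⧸ M)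
      infer_instance
    let eM := AlgEquiv.ofBijective (Algebra.ofId Ω ((Ω ⊗[k] R) ⧸ M))
      (IsAlgClosed.algebraMap_bijective_of_isIntegral (k := Ω) (K := (Ω ⊗[k] R) ⧸ M))
    let w : Ω ⊗[k] R →ₐ[Ω] Ω := eM.symm.toAlgHom.comp (Ideal.Quotient.mkₐ Ω M)
    have hw : w (Φ u - t) = 0 := by
      let y : A →ₐ[k] Ω := ((w.restrictScalars k).comp Algebra.TensorProduct.includeRight).comp q
      have hex : ∃ y' : A →ₐ[k] Ω, y'.comp (ψ : C →ₐ[k] A) = y.comp (ψ : C →ₐ[k] A) := ⟨y, rfl⟩
      have h1 : ev u (y.comp (ψ : C →ₐ[k] A)) = f (y.comp (ψ : C →ₐ[k] A)) := congrFun hu _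
      simp only [f, dif_pos hex] at h1
      rw [map_sub, sub_eq_zero]
      have h2 : ∀ v, ev v (y.comp (ψ : C →ₐ[k] A)) = w (Φ v) := fun v => by
        induction v using TensorProduct.induction_on with
        | zero => simp
        | add a b ha hb => simp only [map_add, Pi.add_apply, ha, hb]
        | tmul a c =>
          show a • y (ψ c) = w (a ⊗ₜ[k] ψ' c)
          rw [show a ⊗ₜ[k] ψ' c = a • ((1 : Ω) ⊗ₜ[k] ψ' c) by rw [TensorProduct.smul_tmul', smul_eq_mul, mul_one],
            map_smul]
          rfl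
      rw [← h2, h1]
      have hy : hex.choose = y := hpts _ _ hex.choose_spec
      refine AlgHom.congr_fun ?_ t
      refine Algebra.TensorProduct.ext (AlgHom.ext fun a => ?_) (AlgHom.ext fun r => ?_)
      · simp only [AlgHom.comp_apply, Algebra.TensorProduct.includeLeft_apply, Algebra.TensorProduct.lift_tmul,
          AlgHom.id_apply, map_one, mul_one]
        exact (w.commutes a).symm
      · obtain ⟨a, rfl⟩ := Ideal.Quotient.mk_surjective r
        simp only [AlgHom.comp_apply, AlgHom.restrictScalars_apply, Algebra.TensorProduct.includeRight_apply,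
          Algebra.TensorProduct.lift_tmul, map_one, one_mul]
        exact AlgHom.congr_fun hy a
    have hq : Ideal.Quotient.mk M (Φ u - t) = 0 := eM.symm.injective (hw.trans (map_zero _).symm)
    exact Ideal.Quotient.eq_zero_iff_mem.mp hq
  have hsurj : Function.Surjective ψ' :=
    (Module.FaithfullyFlat.lTensor_surjective_iff_surjective k Ω ψ'.toLinearMap).mp hsurjΩ
  let e : C ≃ₐ[k] R := AlgEquiv.ofBijective ψ' ⟨hinj, hsurj⟩
  let r₀ : A →ₐ[k] C := e.symm.toAlgHom.comp q
  have hr₀ : ∀ c, r₀ (ψ c) = c := fun c => e.symm_apply_apply c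
  have hdet : ∀ (S : Type u) [CommRing S] [Algebra k S] [IsReduced S] (f g : A →ₐ[k] S),
      (∀ c, f (ψ c) = g (ψ c)) → ∀ a, f a = g a := by
    intro S _ _ _ f g h a
    obtain ⟨c, hc⟩ := hsurj (q a)
    have hd : a - ψ c ∈ nilradical A := (Ideal.Quotient.eq).mp hc.symm
    have h1 := hnil S f _ hd
    have h2 := hnil S g _ hd
    rw [map_sub, sub_eq_zero] at h1 h2
    rw [h1, h2, h c]
  let r : A →ₐc[k] C := BialgHom.ofAlgHom r₀
    (AlgHom.ext fun a => hdet k _ _ (fun c => by
      simp only [AlgHom.comp_apply, hr₀]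
      exact (CoalgHomClass.counit_comp_apply ψ c).symm) a)
    (AlgHom.ext fun a => hdet (C ⊗[k] C) _ _ (fun c => by
      simp only [AlgHom.comp_apply, hr₀]
      show Algebra.TensorProduct.map r₀ r₀ (Coalgebra.comul (R := k) (ψ c)) = Coalgebra.comul (R := k) c
      rw [show Coalgebra.comul (R := k) (ψ c) = TensorProduct.map (ψ : C →ₐ[k] A).toLinearMap (ψ : C →ₐ[k] A).toLinearMap
        (Coalgebra.comul (R := k) c) from (CoalgHomClass.map_comp_comul_apply ψ c).symm]
      induction Coalgebra.comul (R := k) c using TensorProduct.induction_on with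
      | zero => simp
      | tmul a b => simp [hr₀]
      | add a b ha hb => simp only [map_add, ha, hb]) a)
  have huni : ∀ r' : A →ₐc[k] C, r'.comp ψ = BialgHom.id k C → r' = r := fun r' h' =>
    DFunLike.ext _ _ fun a => hdet C (r' : A →ₐ[k] C) r₀ (fun c => (DFunLike.congr_fun h' c).trans (hr₀ c).symm) a
  refine ⟨⟨r, DFunLike.ext _ _ hr₀, huni⟩, fun r' h' => ?_⟩
  rw [huni r' h']
  ext a
  rw [RingHom.mem_ker]
  show e.symm (q a) = 0 ↔ _
  rw [map_eq_zero_iff _ e.symm.injective]
  exact Ideal.Quotient.eq_zero_iff_mem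

end Groth.Agent.S5441
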