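import Groth.Statements.S5444
import Groth.Agent.FibDim.Open
import Groth.Agent.FibDim.GenerizeDim


set_option autoImplicit false
universe u
open CategoryTheory AlgebraicGeometry Topology
open SGA3x

namespace Groth.Agent.S5444

open Limits

/-- Rational points stay dense in their closure after a base change, pointwise on the base. -/
theorem mem_closure_sections {Y S S' : Scheme.{u}} (f : Y ⟶ S) (τ : S' ⟶ S) {ι : Type u}
    (a : ι → (S ⟶ Y)) (ha : ∀ i, a i ≫ f = 𝟙 S) (a' : ι → (S' ⟶ pullback f τ))
    (ha1 : ∀ i, a' i ≫ pullback.fst f τ = τ ≫ a i) (ha2 : ∀ i, a' i ≫ pullback.snd f τ = 𝟙 S')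
    (z : ↥(pullback f τ)) {pt : S'} (hz : pullback.snd f τ z = pt)
    (hc : pullback.fst f τ z ∈ closure (Set.range fun i => a i (τ pt))) :
    z ∈ closure (Set.range fun i => a' i pt) := by
  rw [mem_closure_iff]
  intro O hO hzO
  let e0 := S.fromSpecResidueField (τ pt)
  let e' := S'.fromSpecResidueField pt
  let g : Spec (S'.residueField pt) ⟶ Spec (S.residueField (τ pt)) := Spec.map (τ.residueFieldMap pt)
  have hg : g ≫ e0 = e' ≫ τ := τ.SpecMap_residueFieldMap_fromSpecResidueField pt
  let j : pullback (pullback.snd f e0) g ⟶ pullback f τ :=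
    pullback.lift (pullback.fst _ _ ≫ pullback.fst f e0) (pullback.snd _ _ ≫ e') (by
      simp only [Category.assoc, ← hg, pullback.condition, pullback.condition_assoc])
  let l0 : pullback (pullback.snd f τ) e' ⟶ pullback f e0 :=
    pullback.lift (pullback.fst _ _ ≫ pullback.fst f τ) (pullback.snd _ _ ≫ g) (by
      simp only [Category.assoc, hg, pullback.condition, pullback.condition_assoc])
  let l : pullback (pullback.snd f τ) e' ⟶ pullback (pullback.snd f e0) g :=
    pullback.lift l0 (pullback.snd _ _) (pullback.lift_snd _ _ _)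
  have hlj : l ≫ j = pullback.fst _ _ := by
    apply pullback.hom_ext
    · rw [Category.assoc, pullback.lift_fst, pullback.lift_fst_assoc, pullback.lift_fst]
    · rw [Category.assoc, pullback.lift_snd, pullback.lift_snd_assoc, pullback.condition]
  obtain ⟨z', rfl⟩ : z ∈ Set.range (pullback.fst (pullback.snd f τ) e') := by
    rw [Scheme.Pullback.range_fst, Scheme.range_fromSpecResidueField]
    exact hz
  haveI : UniversallyOpen g := FBaseLib.universallyOpen_spec_map_field (τ.residueFieldMap pt).hom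
  have hopen : IsOpen (pullback.fst (pullback.snd f e0) g '' (j ⁻¹' O)) :=
    (pullback.fst (pullback.snd f e0) g).isOpenMap _ (hO.preimage j.continuous)
  obtain ⟨W, hW, hWO⟩ := (pullback.fst f e0).isEmbedding.isInducing.isOpen_iff.1 hopen
  have hzW : pullback.fst f τ (pullback.fst (pullback.snd f τ) e' z') ∈ W := by
    have h1 : l0 z' ∈ pullback.fst (pullback.snd f e0) g '' (j ⁻¹' O) := by
      refine ⟨l z', ?_, ?_⟩
      · show (l ≫ j) z' ∈ O
        rw [hlj]
        exact hzO
      · show (l ≫ pullback.fst _ _) z' = l0 z'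
        rw [pullback.lift_fst]
    rw [← hWO] at h1
    have h2 : (l0 ≫ pullback.fst f e0) z' ∈ W := h1
    rw [pullback.lift_fst] at h2
    exact h2
  obtain ⟨_, hiW, i, rfl⟩ := mem_closure_iff.1 hc W hW hzW
  obtain ⟨x0, hx0⟩ : a i (τ pt) ∈ Set.range (pullback.fst f e0) := by
    rw [Scheme.Pullback.range_fst, Scheme.range_fromSpecResidueField]
    show (a i ≫ f) (τ pt) = τ pt
    rw [ha]; rfl
  have hx0O : x0 ∈ pullback.fst (pullback.snd f e0) g '' (j ⁻¹' O) := by
    rw [← hWO]
    show pullback.fst f e0 x0 ∈ W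
    rw [hx0]; exact hiW
  obtain ⟨w, hwO, hw⟩ := hx0O
  refine ⟨j w, hwO, i, ?_⟩
  have hp : pullback.fst f τ (j w) = a i (τ pt) := by
    show (j ≫ pullback.fst f τ) w = _
    rw [← hx0, ← hw, pullback.lift_fst]
    rfl
  have hq : pullback.snd f τ (j w) = pt := by
    show (j ≫ pullback.snd f τ) w = _
    have : (pullback.snd (pullback.snd f e0) g ≫ e') w ∈ Set.range e' := ⟨_, rfl⟩
    rw [Scheme.range_fromSpecResidueField] at this
    rw [pullback.lift_snd]
    exact this
  obtain ⟨t, ht⟩ : j w ∈ Set.range (pullback.fst (pullback.fst f τ) (a i)) := by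
    rw [Scheme.Pullback.range_fst]
    exact ⟨τ pt, hp.symm⟩
  have hfac : pullback.fst (pullback.fst f τ) (a i) ≫ pullback.snd f τ ≫ a' i =
      pullback.fst (pullback.fst f τ) (a i) := by
    have h2 : pullback.snd (pullback.fst f τ) (a i) =
        pullback.fst (pullback.fst f τ) (a i) ≫ pullback.snd f τ ≫ τ := by
      rw [← Category.comp_id (pullback.snd (pullback.fst f τ) (a i)), ← ha i, ← pullback.condition_assoc,
        pullback.condition]
    apply pullback.hom_ext
    · simp only [Category.assoc]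
      rw [ha1, pullback.condition, h2]
      simp only [Category.assoc]
    · simp only [Category.assoc]
      rw [ha2, Category.comp_id]
  show a' i pt = j w
  rw [← ht, ← hfac]
  show a' i pt = a' i (pullback.snd f τ (pullback.fst (pullback.fst f τ) (a i) t))
  rw [ht, hq]

/-- Let f : Y → S be a morphism of finite presentation, (a_i)_{i ∈ I} a family of sections of f, and s₀,
s₁ two points of S with s₀ a specialization of s₁. For j = 0, 1 let C_j be the closure in the fibre
Y_{s_j} (with its subspace topology) of the set of points a_i(s_j). Then dim C₁ ≥ dim C₀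
(topological Krull dimensions). -/
theorem result (S Y : Scheme.{u}) (f : Y ⟶ S) [QuasiCompact f] [QuasiSeparated f] [LocallyOfFinitePresentation f]
    (ι : Type u) (a : ι → (S ⟶ Y)) (ha : ∀ i, a i ≫ f = 𝟙 S) (s₀ s₁ : S) (h : s₁ ⤳ s₀) :
    topologicalKrullDim ↥(f.base ⁻¹' {s₀} ∩ closure (Set.range fun i => (a i).base s₀)) ≤
      topologicalKrullDim ↥(f.base ⁻¹' {s₁} ∩ closure (Set.range fun i => (a i).base s₁)) := by
  classical
  by_cases hne : s₀ = s₁
  · subst hne; exact le_rfl
  obtain ⟨A, _, _, _, τ, pt, η, hpt, hη, hgen⟩ := FibDim.exists_valuation_lift h hne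
  subst hpt hη
  let p := pullback.fst f τ
  let q := pullback.snd f τ
  let a' : ι → (Spec (CommRingCat.of A) ⟶ pullback f τ) := fun i =>
    pullback.lift (τ ≫ a i) (𝟙 _) (by rw [Category.assoc, ha, Category.comp_id, Category.id_comp])
  have ha1 : ∀ i, a' i ≫ p = τ ≫ a i := fun i => pullback.lift_fst _ _ _
  have ha2 : ∀ i, a' i ≫ q = 𝟙 _ := fun i => pullback.lift_snd _ _ _
  rw [Set.inter_comm, Set.inter_comm (f.base ⁻¹' {τ η})]
  refine (FibDim.dim_closed_inter_eq_iSup f (τ pt) isClosed_closure).trans_le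
    (le_trans (iSup_le ?_) (FibDim.dim_closed_inter_eq_iSup f (τ η) isClosed_closure).ge)
  rintro ⟨ξ, hξc, hξf⟩
  obtain ⟨z, hzp, hzq, hz⟩ :=
    FibDim.exists_rd_baseChange_eq (IsPullback.of_hasPullback f τ) ξ pt hξf
  have hzc : z ∈ closure (Set.range fun i => a' i pt) :=
    mem_closure_sections f τ a ha a' ha1 ha2 z hzq (by rw [hzp]; exact hξc)
  have hzc' : z ∈ closure (Set.range fun i => a' i η) := by
    refine closure_minimal ?_ isClosed_closure hzc
    rintro _ ⟨i, rfl⟩
    exact ((hgen pt).map (a' i).continuous).mem_closed isClosed_closure (subset_closure ⟨i, rfl⟩)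
  let F := q.fiber η
  haveI : IsLocallyNoetherian F :=
    LocallyOfFiniteType.isLocallyNoetherian (q.fiberToSpecResidueField η)
  haveI : CompactSpace ↥F := QuasiCompact.compactSpace_of_compactSpace (q.fiberToSpecResidueField η)
  haveI : IsNoetherian F := {}
  obtain ⟨T, hTfin, hTcl, hTirr, hT⟩ :=
    TopologicalSpace.NoetherianSpace.exists_finite_set_isClosed_irreducible
      (s := q.fiberι η ⁻¹' closure (Set.range fun i => a' i η))
      (isClosed_closure.preimage (q.fiberι η).continuous)
  have hcover : Set.range (fun i => a' i η) ⊆ ⋃ C ∈ T, closure (q.fiberι η '' C) := by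
    rintro _ ⟨i, rfl⟩
    obtain ⟨x, hx⟩ : a' i η ∈ Set.range (q.fiberι η) := by
      rw [Scheme.Hom.range_fiberι]
      show (a' i ≫ q) η = η
      rw [ha2]; rfl
    have hxE : x ∈ q.fiberι η ⁻¹' closure (Set.range fun i => a' i η) := by
      show q.fiberι η x ∈ closure _
      rw [hx]
      exact subset_closure ⟨i, rfl⟩
    rw [hT] at hxE
    obtain ⟨C, hC, hxC⟩ := hxE
    exact Set.mem_biUnion hC (subset_closure ⟨x, hxC, hx⟩)
  have hz2 := closure_minimal hcover (hTfin.isClosed_biUnion fun _ _ => isClosed_closure) hzc'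
  simp only [Set.mem_iUnion] at hz2
  obtain ⟨C, hC, hzC⟩ := hz2
  have hgp := (hTirr C hC).isGenericPoint_genericPoint (hTcl C hC)
  set g := (hTirr C hC).genericPoint with hg
  have hspec : q.fiberι η g ⤳ z := by
    refine specializes_iff_mem_closure.2 (closure_minimal ?_ isClosed_closure hzC)
    rintro _ ⟨c, hc, rfl⟩
    exact specializes_iff_mem_closure.1 ((hgp.specializes hc).map (q.fiberι η).continuous)
  have hgE : g ∈ q.fiberι η ⁻¹' closure (Set.range fun i => a' i η) := by
    rw [hT]
    exact ⟨C, hC, hgp.mem⟩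
  have hge : q (q.fiberι η g) = η := FibDim.fiber_apply_fiberι q g
  have hpe : p (q.fiberι η g) ∈ closure (Set.range fun i => a i (τ η)) ∩ f ⁻¹' {τ η} := by
    refine ⟨map_mem_closure p.continuous hgE ?_, ?_⟩
    · rintro _ ⟨i, rfl⟩
      refine ⟨i, ?_⟩
      show (τ ≫ a i) η = (a' i ≫ p) η
      rw [ha1]
    · show (p ≫ f) (q.fiberι η g) = τ η
      rw [show p ≫ f = q ≫ τ from pullback.condition]
      exact congrArg τ hge
  refine le_iSup_of_le ⟨_, hpe⟩ ?_
  have h1 : FibDim.rd q z ≤ FibDim.rd q (q.fiberι η g) :=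
    FibDim.rd_le_of_valuationRing q hspec (by rw [hge]; exact hgen)
  have h2 := FibDim.rd_baseChange_le (IsPullback.of_hasPullback f τ) (q.fiberι η g)
  show ((FibDim.rd f ξ : ℕ∞) : WithBot ℕ∞) ≤ ((FibDim.rd f (p (q.fiberι η g)) : ℕ∞) : WithBot ℕ∞)
  rw [← hz]
  exact_mod_cast h1.trans h2

end Groth.Agent.S5444
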