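import Groth.Statements.S5512
import Groth.Agent.Deform.Borel.Tori
import Groth.Agent.Deform.Luna.MaxTorusFactor

set_option autoImplicit false
open CategoryTheory MonoidalCategory CartesianMonoidalCategory MonObj GrpObj AlgebraicGeometry
universe u
open RedSub

namespace Groth.Agent.S5512
attribute [local instance] CategoryTheory.Hom.monoid CategoryTheory.Hom.group
set_option linter.style.haveILetI false
set_option backward.isDefEq.respectTransparency false
set_option maxHeartbeats 1000000
/-- For a reductive S-group G. Let i : H ⟶ G be a subgroup of type (R) and k : K ⟶ H a homomorphism.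
Then k is a subgroup of type (R) of H if and only if k ≫ i is a subgroup of type (R) of G. (For H of
type (R) in a reductive G, the Cartan subgroups of the geometric fibres of H are their maximal tori,
which are maximal tori of the geometric fibres of G, so the prelude's notion of type (R) relative to
H is the source's.) -/
theorem result {S : Scheme.{u}} {G H K : Over S} [GrpObj G] [GrpObj H] [GrpObj K]
    (hG : Red.IsReductive G) (i : H ⟶ G) (hH : RedSub.IsTypeR i) (k : K ⟶ H) [IsMonHom k] :
    RedSub.IsTypeR k ↔ RedSub.IsTypeR (k ≫ i) := by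
  haveI := hG.1
  haveI := hG.2.1
  obtain ⟨⟨him, hii⟩, hHs, hHq, hHc, hHt⟩ := hH
  haveI := him; haveI := hii; haveI := hHs; haveI := hHq
  haveI : Mono i := (Over.forget _).mono_of_mono_map (inferInstanceAs (Mono i.left))
  constructor
  · rintro ⟨⟨-, hki⟩, hKs, hKq, hKc, hKt⟩
    haveI := hki
    refine ⟨⟨inferInstance, inferInstanceAs (IsImmersion (k.left ≫ i.left))⟩, hKs, hKq, hKc, fun s => ?_⟩
    obtain ⟨T, iT, t, htm, hmax⟩ := hKt s
    obtain ⟨T₀, iT₀, t₀, ht₀m, hmax₀⟩ := hHt s
    letI := iT; letI := iT₀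
    haveI := htm; haveI := ht₀m
    let F := Over.pullback (Red.geomPt s)
    let Hs := Red.geomFibre s H
    haveI : Smooth Hs.hom := MorphismProperty.pullback_snd (P := @Smooth) H.hom _ hHs
    haveI : QuasiCompact Hs.hom := MorphismProperty.pullback_snd (P := @QuasiCompact) H.hom _ hHq
    haveI : ConnectedSpace Hs.left := Deform.Luna.connectedSpace_geom hHc s
    haveI : IsMonHom (F.map i) := inferInstanceAs (IsMonHom ((Over.pullback (Red.geomPt s)).map i))
    haveI : Mono (F.map i) := inferInstanceAs (Mono ((Over.pullback (Red.geomPt s)).map i))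
    obtain ⟨hm₀, hmo₀, hT₀, hx₀⟩ := Deform.Borel.isMaxTorus_of_isMaximalTorus hmax₀
    haveI := hmo₀
    haveI : Mono t₀ := mono_of_mono t₀ (F.map i)
    have hH0 : AGF.IsMaxTorus t₀ := ⟨inferInstance, inferInstance, hT₀, fun T' _ j _ _ f hT' hf =>
      hx₀ T' (j ≫ F.map i) f hT' (by rw [← Category.assoc, hf])⟩
    have hH1 := Deform.Borel.isMaxTorus_of_isMaximalTorus hmax
    obtain ⟨g, f, hfm, hf⟩ := Deform.Borel.conj_of_max _ t₀ hH1 hH0
    haveI := hfm
    refine ⟨T, iT, t, inferInstance, ?_⟩
    rw [show (Over.pullback (Red.geomPt s)).map (k ≫ i) = F.map k ≫ F.map i from Functor.map_comp _ _ _]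
    refine Deform.Borel.isMaximalTorus_of_isMaxTorus ?_
    haveI := hH1.1; haveI := hH1.2.1
    have hfac : (t ≫ F.map k ≫ F.map i) ≫ Deform.Borel.conj (g ≫ F.map i) = f.hom ≫ t₀ ≫ F.map i := by
      rw [Deform.Borel.comp_conj, reassoc_of% hf]
      simp only [AGF.conjBy, MonObj.mul_comp, GrpObj.inv_comp, Category.assoc]
      rfl
    refine ⟨inferInstance, ?_, hH1.2.2.1, fun T' _ j _ _ f' hT' hf' => ?_⟩
    · rw [← Category.assoc]
      exact mono_comp _ _
    haveI := hx₀ T' (j ≫ Deform.Borel.conj (g ≫ F.map i)) (f.inv ≫ f') hT' (by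
      rw [Category.assoc, reassoc_of% hf', ← Category.assoc (F.map k), ← Category.assoc t, hfac, Iso.inv_hom_id_assoc])
    exact @IsIso.of_isIso_comp_left _ _ _ _ _ f.inv f' f.isIso_inv this
  · rintro ⟨⟨-, hki⟩, hKs, hKq, hKc, hKt⟩
    haveI : IsImmersion (k.left ≫ i.left) := hki
    haveI : Mono (k ≫ i) := (Over.forget _).mono_of_mono_map (inferInstanceAs (Mono (k ≫ i).left))
    refine ⟨⟨inferInstance, IsImmersion.of_comp k.left i.left⟩, hKs, hKq, hKc, fun s => ?_⟩
    obtain ⟨T, iT, t, htm, hm, hmo, hT, hmax⟩ := hKt s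
    letI := iT
    haveI := htm
    let F := Over.pullback (Red.geomPt s)
    haveI : Mono (F.map i) := inferInstanceAs (Mono ((Over.pullback (Red.geomPt s)).map i))
    haveI : IsMonHom (F.map i) := inferInstanceAs (IsMonHom ((Over.pullback (Red.geomPt s)).map i))
    have e : t ≫ (Over.pullback (Red.geomPt s)).map (k ≫ i) = (t ≫ F.map k) ≫ F.map i := by
      rw [Functor.map_comp, Category.assoc]
    haveI : Mono ((t ≫ F.map k) ≫ F.map i) := e ▸ hmo
    refine ⟨T, iT, t, inferInstance, inferInstance, mono_of_mono (t ≫ F.map k) (F.map i), hT,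
      fun p T' _ j _ _ f hT' hf => hmax p T' (j ≫ (Over.pullback (Red.geomPt p)).map (F.map i)) f hT' (by
        rw [← Category.assoc, hf, e, ← Functor.map_comp])⟩

end Groth.Agent.S5512
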