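import Groth.Statements.S5518
import Groth.Agent.SplitGrp.Extend

set_option autoImplicit false
open CategoryTheory MonoidalCategory CartesianMonoidalCategory MonObj GrpObj AlgebraicGeometry
universe u
open RedSub

namespace Groth.Agent.S5518

/-- Let G be a split reductive S-group with big cell map c : Ω = G_a^{R_-} x_S T x_S G_a^{R_+} ⟶ G, and
f : Ω ⟶ H an S-morphism to an S-group scheme such that f(z) = f(x) f(y) whenever x, y, z are points
of Ω with c(z) = c(x) c(y). Then f extends uniquely to a homomorphism G ⟶ H: there is exactly one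
homomorphism of S-groups whose composite with c is f. (The published statement allows H to be any
fppf sheaf of groups.) -/
theorem result {S : Scheme.{u}} {G H : Over S} [GrpObj G] [GrpObj H] (D : Red.SplitRed G)
    (b : D.P.Base) {n m : ℕ} (eneg : Fin n → D.idx) (epos : Fin m → D.idx)
    (hneg : RedSub.Enumerates (RedSub.negRoots D.P b) eneg) (hpos : RedSub.Enumerates (RedSub.posRoots D.P b) epos)
    (f : RedSub.pow (Red.Ga S) n ⊗ (D.T ⊗ RedSub.pow (Red.Ga S) m) ⟶ H)
    (hf : ∀ (X : Over S) (x y z : X ⟶ RedSub.pow (Red.Ga S) n ⊗ (D.T ⊗ RedSub.pow (Red.Ga S) m)),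
      z ≫ RedSub.cellMap D eneg epos = (x ≫ RedSub.cellMap D eneg epos) * (y ≫ RedSub.cellMap D eneg epos) →
        z ≫ f = (x ≫ f) * (y ≫ f)) :
    ∃! g : G ⟶ H, IsMonHom g ∧ RedSub.cellMap D eneg epos ≫ g = f := by
  obtain ⟨lam, hlam⟩ := SplitGrp.exists_isFull_of_base D b
  have h := hlam n m eneg epos hneg hpos
  let I := SplitGrp.cellIso D n m
  have hc := SplitGrp.cellMap_eq D eneg epos
  have hc' : I.inv ≫ RedSub.cellMap D eneg epos = (SplitGrp.ofSplit D).cell eneg epos := by
    rw [hc, I.inv_hom_id_assoc]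
  have hf' : SplitGrp.IsCellHom (I.inv ≫ f) eneg epos := fun X x y z e => by
    have h1 := hf X (x ≫ I.inv) (y ≫ I.inv) (z ≫ I.inv) (by
      simp only [Category.assoc, hc']; exact e)
    simpa only [Category.assoc] using h1
  obtain ⟨g, hg, hgc⟩ := SplitGrp.exists_extend h hf'
  have hg' : RedSub.cellMap D eneg epos ≫ g = f := by
    rw [hc, Category.assoc, hgc, I.hom_inv_id_assoc]
  refine ⟨g, ⟨hg, hg'⟩, fun g' ⟨hg1, hg2⟩ => ?_⟩
  haveI := hg; haveI := hg1
  refine SplitGrp.hom_ext_cell h g' g ?_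
  rw [hgc, ← hc', Category.assoc, hg2]

end Groth.Agent.S5518
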