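import Groth.Statements.S5521
import Groth.Agent.SplitGrp.Commutator
import Groth.Agent.SplitGrp.Functional

set_option autoImplicit false
open CategoryTheory MonoidalCategory CartesianMonoidalCategory MonObj GrpObj AlgebraicGeometry
universe u
open RedSub

namespace Groth.Agent.S5521

/-- Let G be a split reductive S-group (splitting D, root homomorphisms u_c : G_a ⟶ G), b a system of
simple roots and α, β two roots positive for b. Let e be an injective enumeration of the roots of
the form i α + j β with i, j ≥ 1, with exponents (i_k, j_k). Then there is a unique family (C_k) of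
global functions on S such that, for all points x, y of G_a (with values in any X over S), u_α(x)
u_β(y) u_α(x)⁻¹ = u_β(y) · ∏_k u_{e k}(C_k x^{i_k} y^{j_k}), the product taken in the order of e;
here a point z of G_a with coordinate C_k x^{i_k} y^{j_k} is any point whose coordinate function is
that product. -/
theorem result {S : Scheme.{u}} {G : Over S} [GrpObj G] (D : Red.SplitRed G) (b : D.P.Base)
    (α β : D.idx) (hα : α ∈ RedSub.posRoots D.P b) (hβ : β ∈ RedSub.posRoots D.P b)
    {n : ℕ} (e : Fin n → D.idx) (i j : Fin n → ℕ) (he : Function.Injective e)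
    (hij : ∀ k, 1 ≤ i k ∧ 1 ≤ j k ∧ D.P.root (e k) = (i k : ℤ) • D.P.root α + (j k : ℤ) • D.P.root β)
    (hall : ∀ (c : D.idx) (p q : ℕ), 1 ≤ p → 1 ≤ q → D.P.root c = (p : ℤ) • D.P.root α + (q : ℤ) • D.P.root β →
      c ∈ Set.range e) :
    ∃! C : Fin n → Γ(S, ⊤), ∀ (X : Over S) (x y : X ⟶ Red.Ga S) (z : Fin n → (X ⟶ Red.Ga S)),
      (∀ k, Red.gaFn (z k) = X.hom.appTop (C k) * Red.gaFn x ^ (i k) * Red.gaFn y ^ (j k)) →
        (x ≫ D.u α) * (y ≫ D.u β) * (x ≫ D.u α)⁻¹ =
          (y ≫ D.u β) * (List.ofFn (fun k => z k ≫ D.u (e k))).prod := by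
  classical
  let E := SplitGrp.ofSplit D
  obtain ⟨lam, hp, hn, hsides⟩ := SplitGrp.exists_separating D.P b
  have hlam : ∀ c, lam (E.r c) ≠ 0 := fun c => (hsides c).elim (fun h => (hp c h).ne') (fun h => (hn c h).ne)
  have hpe : ∀ k, 0 < lam (E.r (e k)) := fun k => by
    show 0 < lam (D.P.root (e k))
    rw [(hij k).2.2, map_add, map_zsmul, map_zsmul, smul_eq_mul, smul_eq_mul]
    have := hp α hα
    have := hp β hβ
    have : (1 : ℤ) ≤ (i k : ℤ) := by exact_mod_cast (hij k).1
    have : (1 : ℤ) ≤ (j k : ℤ) := by exact_mod_cast (hij k).2.1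
    nlinarith
  obtain ⟨n₀, m, e₀, e₁, hf⟩ := SplitGrp.exists_isFull_extend (D := E) hlam e he hpe
  obtain ⟨C, hC0, hC⟩ := SplitGrp.exists_commutator_formula hf α β (hp α hα) (hp β hβ)
    (Fin.append i 0) (Fin.append j 0) (fun l p q hp' hq' hl => by
      obtain ⟨k, hk⟩ := hall _ p q hp' hq' hl
      have hk' : Fin.castAdd m k = l := hf.inj' (by rw [Fin.append_left]; exact hk)
      subst hk'
      rw [Fin.append_left] at hl
      rw [Fin.append_left, Fin.append_left]
      exact SplitGrp.exponents_unique D.P lam (hp α hα) (hp β hβ) hp' hq' (hij k).1 (hij k).2.1 hl (hij k).2.2)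
  have hC1 : ∀ k, C (Fin.natAdd n k) = 0 := fun k => hC0 _ fun p q hp' hq' hl => by
    obtain ⟨k', hk'⟩ := hall _ p q hp' hq' hl
    exact Fin.ne_of_lt (show (Fin.castAdd m k' : ℕ) < Fin.natAdd n k by simp; omega)
      (hf.inj' (by rw [Fin.append_left]; exact hk'))
  have hU : ∀ (X : Over S) (a : D.idx) (x : X ⟶ Red.Ga S), x ≫ D.u a = E.U a (Red.gaFn x) :=
    fun X a x => SplitGrp.eq_U (D := E) (a := a) x
  have hR : ∀ (X : Over S) (z : Fin n → (X ⟶ Red.Ga S)),
      (List.ofFn (fun k => z k ≫ D.u (e k))).prod = E.Prod e (fun k => Red.gaFn (z k)) := fun X z => by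
    rw [show (fun k => z k ≫ D.u (e k)) = fun k => E.U (e k) (Red.gaFn (z k)) from funext fun k => hU _ _ _]
    rfl
  have hA : ∀ (X : Over S) (v : Fin n → Γ(X.left, ⊤)),
      E.Prod (Fin.append e e₁) (Fin.append v (fun _ => 0)) = E.Prod e v := fun X v => by
    rw [SplitGrp.Prod_append, SplitGrp.Prod_zero]; exact _root_.mul_one _
  refine ⟨fun k => C (Fin.castAdd m k), fun X x y z hz => ?_, fun C' hC' => ?_⟩
  · rw [hU, hU, hR, hC, ← hA]
    congr 2
    funext l
    refine Fin.addCases (fun k => ?_) (fun k => ?_) l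
    · simp [hz]
    · simp [hC1]
  · funext k
    let one : 𝟙_ (Over S) ⟶ Red.Ga S := GrpSchLib.GaPts.ptOfFn 1
    have h1 := hC' (𝟙_ _) one one (fun k => GrpSchLib.GaPts.ptOfFn (C' k)) (fun k => by
      simp only [one, GrpSchLib.GaPts.gaFn_ptOfFn, one_pow, _root_.mul_one]
      exact congrArg (fun φ => φ (C' k)) (Scheme.Hom.id_appTop (X := S)).symm)
    rw [hU, hU, hR, hC, ← hA, _root_.mul_right_inj] at h1
    have h2 := congrFun (SplitGrp.Prod_pos_injective hf h1) (Fin.castAdd m k)
    simp only [one, GrpSchLib.GaPts.gaFn_ptOfFn, one_pow, _root_.mul_one, Fin.append_left] at h2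
    exact h2.symm.trans (congrArg (fun φ => φ (C (Fin.castAdd m k))) (Scheme.Hom.id_appTop (X := S)))

end Groth.Agent.S5521
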