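import Groth.Statements.S5625
import Groth.Agent.QCoh.Qcqs
import Groth.Agent.QCoh.Pullback
-- import your own Groth.Agent.* helpers here

set_option autoImplicit false
universe u
open CategoryTheory AlgebraicGeometry
open QCohCat

namespace Groth.Agent.S5625

/-- Let f : X ⟶ Y be a morphism of quasi-compact quasi-separated schemes and Q_X, Q_Y coherators (right
adjoints of the inclusions QCoh ⥤ Mod) on X and Y. Then Q_Y ∘ f_* and f_* ∘ Q_X agree: the two
composite functors Mod(O_X) ⥤ Mod(O_Y) are naturally isomorphic (existence of a natural isomorphism;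
the source's isomorphism is the canonical one between two right adjoints of the same functor). -/
theorem result {X Y : Scheme.{u}} [CompactSpace X] [QuasiSeparatedSpace X]
    [CompactSpace Y] [QuasiSeparatedSpace Y] (f : X ⟶ Y)
    (QX : X.Modules ⥤ QCohCat.QCoh X) (adjX : (QCohCat.isQCoh X).ι ⊣ QX)
    (QY : Y.Modules ⥤ QCohCat.QCoh Y) (adjY : (QCohCat.isQCoh Y).ι ⊣ QY) :
    Nonempty ((QX ⋙ (QCohCat.isQCoh X).ι ⋙ Scheme.Modules.pushforward f) ≅
      (Scheme.Modules.pushforward f ⋙ QY ⋙ (QCohCat.isQCoh Y).ι)) := by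
    haveI : QuasiCompact f := by
      haveI : QuasiCompact (f ≫ Limits.terminal.from Y) := by rw [Limits.terminal.comp_from]; infer_instance
      exact QuasiCompact.of_comp f (Limits.terminal.from Y)
    haveI : QuasiSeparated f := inferInstance
    let fQ : QCohCat.QCoh X ⥤ QCohCat.QCoh Y := (QCohCat.isQCoh Y).lift
      ((QCohCat.isQCoh X).ι ⋙ Scheme.Modules.pushforward f) fun M => Groth.Agent.QCoh.isQCoh_pushforward f M.2
    let pQ : QCohCat.QCoh Y ⥤ QCohCat.QCoh X := (QCohCat.isQCoh X).lift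
      ((QCohCat.isQCoh Y).ι ⋙ Scheme.Modules.pullback f) fun M => Groth.Agent.QCoh.isQCoh_pullback f M.2
    let adj : pQ ⊣ fQ := (Scheme.Modules.pullbackPushforwardAdjunction f).restrictFullyFaithful
      (ObjectProperty.fullyFaithfulι _) (ObjectProperty.fullyFaithfulι _)
      ((QCohCat.isQCoh X).liftCompιIso _ _).symm ((QCohCat.isQCoh Y).liftCompιIso _ _).symm
    let a₁ : (QCohCat.isQCoh Y).ι ⋙ Scheme.Modules.pullback f ⊣ Scheme.Modules.pushforward f ⋙ QY :=
      adjY.comp (Scheme.Modules.pullbackPushforwardAdjunction f)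
    let a₂ : pQ ⋙ (QCohCat.isQCoh X).ι ⊣ QX ⋙ fQ := adj.comp adjX
    let e : QX ⋙ fQ ≅ Scheme.Modules.pushforward f ⋙ QY :=
      (a₂.ofNatIsoLeft ((QCohCat.isQCoh X).liftCompιIso _ _)).rightAdjointUniq a₁
    exact ⟨(Functor.isoWhiskerLeft QX ((QCohCat.isQCoh Y).liftCompιIso _ _)).symm ≪≫
      (Functor.associator _ _ _).symm ≪≫ Functor.isoWhiskerRight e _ ≪≫ Functor.associator _ _ _⟩

end Groth.Agent.S5625
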