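import Groth.Statements.S5631
import Groth.Agent.PushAmp.TorBC
import Groth.Agent.PushAmp.RelFlatRep
import Groth.Agent.KFlatLib.Scheme.PullTensorCx
import Groth.Agent.KFlatLib.Scheme.QCohDerived

set_option autoImplicit false
universe u
open CategoryTheory CategoryTheory.Limits AlgebraicGeometry
attribute [local instance] HasDerivedCategory.standard
open KSix

namespace Groth.Agent.S5631

/-- For f flat (so that X and Y' are tor-independent over Y): let f : X ⟶ Y be flat, h : Y' ⟶ Y
arbitrary, X' = X ×_Y Y' with projections g : X' ⟶ X and f' : X' ⟶ Y', and E ∈ D⁻(O_X). If E has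
flat amplitude in [a, b] relative to f (represented by a complex of Y-flat modules placed in [a, b])
then Lg^* E has flat amplitude in [a, b] relative to f'. (The source assumes only tor-independence
of X and Y' over Y; the relative notion used here is the flat-representative one, adequate for flat
f and f'.) -/
theorem result {X Y Y' : Scheme.{u}} (f : X ⟶ Y) [Flat f] (h : Y' ⟶ Y)
    [DCoh.HasLpull (pullback.fst f h)] (E : DCoh.D X) (d : ℤ) [E.IsLE d] (a b : ℤ)
    (hE : DCoh.HasRelFlatAmplitudeIn f a b E) :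
    DCoh.HasRelFlatAmplitudeIn (pullback.snd f h) a b ((DCoh.Lpull (pullback.fst f h)).obj E) := by
  obtain ⟨P, hz, hf, ⟨eP⟩⟩ := hE
  obtain ⟨R, ρ, hρ, hflat, hRb⟩ := (Groth.Agent.KFlatLib.flatCover X).exists_bounded_resolution P b
    fun m hm => by
      refine ((P.exactAt_iff_isZero_homology m).1 ?_)
      exact (ShortComplex.exact_of_isZero_X₂ _ (hz m (Or.inr hm)))
  haveI := hρ
  haveI := Groth.Agent.KFlatLib.isIso_Q_map ρ hρ
  haveI : R.IsStrictlyLE b := (CochainComplex.isStrictlyLE_iff _ _).2 hRb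
  have hR : DCoh.IsKFlat R := Groth.Agent.KFlatLib.isKFlat_of_isStrictlyLE R b hflat
  have hfl : ∀ n, FlatMod.IsFlatOver f (R.X n) := fun n => Groth.Agent.PushAmp.isFlatOver_of_isFlat f (hflat n)
  have ht : DerSch.HasTorAmplitude (pullback.snd f h) a b
      ((Groth.Agent.KFlatLib.pullCx (pullback.fst f h)).obj R) := fun x' =>
    Groth.Agent.PushAmp.hasTorAmplitudeAt_pullCx (IsPullback.of_hasPullback f h) R x' a b
      (Groth.Agent.PushAmp.hasTorAmplitudeAt_of_iso f (asIso (DerivedCategory.Q.map ρ)).symm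
        (Groth.Agent.PushAmp.hasTorAmplitude_of_flatOver f hz hf _))
      (Or.inl (H9Misc.DRingTor.isKF_of_flat (b := b) (fun n => hfl n _)
        (fun i hi => (DerSch.stalkOver f _).map_isZero (hRb i hi))))
  obtain ⟨Q, hQz, hQf, ⟨eQ⟩⟩ := Groth.Agent.PushAmp.hasRelFlatAmplitudeIn_of_torAmplitude (pullback.snd f h) ht
  exact ⟨Q, hQz, hQf, ⟨eQ ≪≫ (Groth.Agent.KFlatLib.lpullIso (pullback.fst f h) hR).symm ≪≫
    (DCoh.Lpull (pullback.fst f h)).mapIso (asIso (DerivedCategory.Q.map ρ) ≪≫ eP)⟩⟩

end Groth.Agent.S5631
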