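import Groth.Statements.S5634
import Groth.Agent.RadBoundLib.Radical
-- import your own Groth.Agent.* helpers here

set_option autoImplicit false
universe u
open CAlg

namespace Groth.Agent.S5634

/-- For every N there is a function R_N such that, for every field k₀, every m and every ideal I of
k₀[T_1, …, T_N] generated by polynomials of total degree ≤ m, the radical of I is generated by
polynomials of total degree ≤ R_N(m). (The published statement gives R_N as a polynomial in m; this
row asserts only a bound depending on N and m, uniform in the field and the ideal.) -/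
theorem result (N : ℕ) :
    ∃ R : ℕ → ℕ, ∀ (k₀ : Type u) [Field k₀] (m : ℕ) (S : Set (MvPolynomial (Fin N) k₀)),
      (∀ p ∈ S, p.totalDegree ≤ m) →
        ∃ S' : Set (MvPolynomial (Fin N) k₀), (∀ q ∈ S', q.totalDegree ≤ R m) ∧ Ideal.span S' = (Ideal.span S).radical := by
  classical
  suffices ∀ m : ℕ, ∃ R : ℕ, ∀ (k₀ : Type u) [Field k₀] (S : Set (MvPolynomial (Fin N) k₀)),
      (∀ p ∈ S, p.totalDegree ≤ m) →
        ∃ S' : Set (MvPolynomial (Fin N) k₀), (∀ q ∈ S', q.totalDegree ≤ R) ∧ Ideal.span S' = (Ideal.span S).radical by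
    choose R hR using this
    exact ⟨R, fun k₀ _ m S hS => hR m k₀ S hS⟩
  intro m
  let Mon : Finset (Fin N →₀ ℕ) := Finset.Iic (Finsupp.equivFunOnFinite.symm fun _ : Fin N => m)
  let M := Mon.card
  obtain ⟨P, _, _, G, hG⟩ := RadBoundLib.exists_universal.{u} (N := N) m (Fin M)
  let Q : ∀ (k : Type u) [Field k], (P →+* k) → ℕ → Prop := fun k _ φ B =>
    ∀ f ∈ (Ideal.span (Set.range fun i => MvPolynomial.map φ (G i))).radical,
      f ∈ Ideal.span {h : MvPolynomial (Fin N) k | h.totalDegree ≤ B ∧
        h ∈ (Ideal.span (Set.range fun i => MvPolynomial.map φ (G i))).radical}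
  obtain ⟨B, hB⟩ := RadBoundLib.exists_bound_of_generic Q
    (fun k _ φ a b hab h => by
      intro f hf
      refine Ideal.span_mono ?_ (h f hf)
      intro x hx
      exact ⟨hx.1.trans hab, hx.2⟩)
    (fun a ha => by
      have := ha
      obtain ⟨f, hf, d, r, R, hR⟩ := RadBoundLib.exists_radical_near (N := N) (P ⧸ a)
        (fun i => MvPolynomial.map (Ideal.Quotient.mk a) (G i))
      obtain ⟨B, hB⟩ := RadBoundLib.exists_contraction_bound.{u} (N := N) d r R
      refine ⟨f, hf, B, fun k _ ψ hψ x hx => ?_⟩
      let := ψ.toAlgebra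
      obtain ⟨K, _, _, n, bK, g, hn, hg, hiff⟩ := hR k hψ
      simp only [MvPolynomial.map_map] at hiff
      refine Ideal.span_mono ?_ (hB k K n hn bK g hg x ((hiff x).1 hx))
      intro h hh
      exact ⟨hh.1, (hiff h).2 hh.2⟩)
  refine ⟨B, fun k _ S hS => ?_⟩
  let V : Submodule k (MvPolynomial (Fin N) k) := Submodule.span k S
  let W : Submodule k (MvPolynomial (Fin N) k) :=
    Submodule.span k ((fun μ => MvPolynomial.monomial μ (1 : k)) '' (Mon : Set (Fin N →₀ ℕ)))
  have hVW : V ≤ W := Submodule.span_le.2 fun p hp => by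
    rw [p.as_sum]
    refine Submodule.sum_mem _ fun μ hμ => ?_
    rw [← mul_one (p.coeff μ), ← smul_eq_mul, ← MvPolynomial.smul_monomial]
    refine Submodule.smul_mem _ _ (Submodule.subset_span ⟨μ, Finset.mem_coe.2 (Finset.mem_Iic.2 fun j => ?_), rfl⟩)
    rw [Finsupp.equivFunOnFinite_symm_apply_apply]
    by_cases hj : j ∈ μ.support
    · exact ((Finset.single_le_sum (f := fun j => μ j) (fun _ _ => Nat.zero_le _) hj).trans
        (MvPolynomial.le_totalDegree hμ)).trans (hS p hp)
    · rw [Finsupp.notMem_support_iff.1 hj]; exact Nat.zero_le _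
  have : Module.Finite k W := Module.Finite.span_of_finite k (Mon.finite_toSet.image _)
  have hdimW : Module.finrank k W ≤ M := by
    have h := finrank_span_finset_le_card (R := k) (Mon.image fun μ => MvPolynomial.monomial μ (1 : k))
    rw [Finset.coe_image] at h
    exact h.trans Finset.card_image_le
  obtain ⟨t, ht, htspan, hli⟩ := exists_linearIndependent k S
  have htW : t ⊆ W := fun x hx => hVW (Submodule.subset_span (ht hx))
  have : Finite t := by
    have h1 : LinearIndependent k (fun x : t => (⟨x.1, htW x.2⟩ : W)) := LinearIndependent.of_comp W.subtype hli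
    exact h1.finite
  have := Fintype.ofFinite t
  have hcard : Fintype.card t ≤ M := by
    have h1 : LinearIndependent k (fun x : t => (⟨x.1, htW x.2⟩ : W)) := LinearIndependent.of_comp W.subtype hli
    exact h1.fintype_card_le_finrank.trans hdimW
  obtain ⟨ι₀⟩ := Function.Embedding.nonempty_of_card_le (α := t) (β := Fin M) (by simpa using hcard)
  let gen : Fin M → MvPolynomial (Fin N) k := Function.extend ι₀ (fun x : t => x.1) 0
  have hgen : ∀ i, gen i = 0 ∨ gen i ∈ t := fun i => by
    by_cases h : ∃ x, ι₀ x = i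
    · obtain ⟨x, rfl⟩ := h
      exact Or.inr (by rw [show gen (ι₀ x) = x.1 from ι₀.injective.extend_apply _ _ x]; exact x.2)
    · exact Or.inl (Function.extend_apply' _ _ _ h)
  have hspan : Ideal.span (Set.range gen) = Ideal.span S := by
    refine le_antisymm (Ideal.span_le.2 ?_) (Ideal.span_le.2 fun p hp => ?_)
    · rintro _ ⟨i, rfl⟩
      rcases hgen i with h | h
      · rw [h]; exact Submodule.zero_mem _
      · exact Ideal.subset_span (ht h)
    · have h1 : p ∈ Submodule.span k t := by rw [htspan]; exact Submodule.subset_span hp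
      have h2 : Submodule.span k t ≤ (Ideal.span (Set.range gen)).restrictScalars k := Submodule.span_le.2 fun x hx =>
        Ideal.subset_span ⟨ι₀ ⟨x, hx⟩, ι₀.injective.extend_apply _ _ _⟩
      exact h2 h1
  have hdeg : ∀ i, (gen i).totalDegree ≤ m := fun i => by
    rcases hgen i with h | h
    · rw [h]; simp
    · exact hS _ (ht h)
  obtain ⟨φ, hφ⟩ := hG k gen hdeg
  have hB' := hB k φ
  simp only [Q, hφ] at hB'
  refine ⟨{h | h.totalDegree ≤ B ∧ h ∈ (Ideal.span (Set.range gen)).radical}, fun q hq => hq.1, ?_⟩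
  rw [← hspan]
  exact le_antisymm (Ideal.span_le.2 fun q hq => hq.2) fun f hf => hB' f hf

end Groth.Agent.S5634
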