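import Groth.Statements.S5644
import Groth.Agent.Pencil.HilbCoeff
import Groth.Agent.NumTau.Main
-- import your own Groth.Agent.* helpers here

set_option autoImplicit false
universe u
open CategoryTheory CategoryTheory.Limits AlgebraicGeometry
open Pic13

set_option backward.isDefEq.respectTransparency false
set_option backward.isDefEq.respectTransparency.types false
set_option synthInstance.maxHeartbeats 400000
set_option maxHeartbeats 1000000
set_option linter.style.haveILetI false
attribute [-instance] CategoryTheory.catToReflQuiver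

namespace Groth.Agent.S5644

/-- Let k be an algebraically closed field, X ⊆ P^n_k an integral closed subscheme of dimension r = s +
1, O_X(1) and O_X(-1) the restrictions of O(1) and O(-1), and L an invertible O_X-module with
inverse L'. Write the Hilbert polynomials in the binomial basis, χ(L(m)) = Σ_{j ≤ r} a_j C(m+j, j)
and χ(O_X(m)) = Σ_{j ≤ r} e_j C(m+j, j) for m ≥ 0 (Euler characteristics in degrees ≤ r). Then (i)
a_r = e_r = (c₁(O_X(1))^r), the degree of X, and (ii) a_{r-1} - e_{r-1} = (c₁(L)·c₁(O_X(1))^{r-1}),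
the degree of L. Intersection numbers are those of FGA.intNum, which takes the inverse modules L',
O_X(-1) as arguments. -/
theorem result (k : Type u) [Field k] [IsAlgClosed k] (n : ℕ) (X : Scheme.{u}) [X.Over (Spec (CommRingCat.of k))]
    (i : X ⟶ CohB1.ProjSpace n k) [IsClosedImmersion i] (hi : i ≫ CohB1.ProjSpace.toSpec n k = X ↘ Spec (CommRingCat.of k))
    [IsIntegral X] (s : ℕ) (hdim : topologicalKrullDim X = (s + 1 : ℕ))
    (L L' : X.Modules) (hL : PicF.IsInvertible L) (hLL' : Nonempty (CohB1.tensorMod L L' ≅ Coh.structureModule X))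
    (a e : Fin (s + 2) → ℤ)
    (ha : ∀ m : ℕ, FGA.eulerCharLE k X (Pic13.twistOn k i L m) (s + 1) = ∑ j : Fin (s + 2), a j * ((m + j).choose j : ℤ))
    (he : ∀ m : ℕ, FGA.eulerCharLE k X (Pic13.twistOn k i (Coh.structureModule X) m) (s + 1) =
      ∑ j : Fin (s + 2), e j * ((m + j).choose j : ℤ)) :
    a (Fin.last (s + 1)) = e (Fin.last (s + 1)) ∧
      a (Fin.last (s + 1)) = FGA.intNum k X (s + 1)
        (fun _ : Fin (s + 1) => (Scheme.Modules.pullback i).obj (Twist.twistProjSpace n k (-1))) (Coh.structureModule X) ∧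
      a (Fin.castSucc (Fin.last s)) - e (Fin.castSucc (Fin.last s)) = FGA.intNum k X (s + 1)
        (Matrix.vecCons L' (fun _ : Fin s => (Scheme.Modules.pullback i).obj (Twist.twistProjSpace n k (-1))))
        (Coh.structureModule X) := by
  open Groth.Agent in
  haveI : IsProper (X ↘ Spec (CommRingCat.of k)) := by
    haveI := Groth.Agent.PnCoh.Chow.isProper_toSpec n k
    rw [← hi]; exact MorphismProperty.comp_mem @IsProper _ _ inferInstance inferInstance
  haveI := Groth.Agent.CurveCohLib.isNoetherian_of_proper (k := k) (X := X)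
  set O := Groth.Agent.TauNum.O1 i
  set O' := (Scheme.Modules.pullback i).obj (Twist.twistProjSpace n k (-1))
  have hO := Groth.Agent.TauNum.isInvertible_O1 i
  have hO' : PicF.IsInvertible O' := Groth.Agent.PicClLib.isInvertible_pullback i (Groth.Agent.TauNum.isInvertible_twist (-1))
  open Groth.Agent.H23.PicMul in
  have hOO' : PicF.cl O * PicF.cl O' = 1 := by
    show PicF.pullCl i (PicF.cl _) * PicF.pullCl i (PicF.cl _) = 1
    rw [← pullCl_mul, Groth.Agent.TauNum.cl_twist_add, show (1 : ℤ) + -1 = ((0 : ℕ) : ℤ) from rfl,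
      Groth.Agent.TauNum.cl_twist_natCast, pow_zero, pullCl_one]
  have hL' : PicF.IsInvertible L' := by
    obtain ⟨M, hM, ⟨μ⟩⟩ := Groth.Agent.H23.PicInv.exists_inverse hL
    open Groth.Agent.H23.PicMul in
    have e : PicF.cl M = PicF.cl L' := by
      calc PicF.cl M = PicF.cl M * (PicF.cl L * PicF.cl L') := by rw [show PicF.cl L * PicF.cl L' = 1 from cl_eq_iff.2 hLL', mul_one]
        _ = PicF.cl L * PicF.cl M * PicF.cl L' := by ac_rfl
        _ = _ := by rw [show PicF.cl L * PicF.cl M = 1 from cl_eq_iff.2 ⟨μ⟩, one_mul]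
    exact Groth.Agent.H23.PicMul.isInvertible_of_iso (Groth.Agent.H23.PicMul.cl_eq_iff.1 e).some hM
  have conv : ∀ (F : X.Modules), Coh.IsCoh F → ∀ c : Fin (s + 2) → ℤ,
      (∀ m : ℕ, FGA.eulerCharLE k X (Pic13.twistOn k i F m) (s + 1) = ∑ j : Fin (s + 2), c j * ((m + j).choose j : ℤ)) →
      ∀ m : ℕ, Curv2.euler k X (CohB1.tensorMod F (CohB1.tensorPow O m)) = ∑ j : Fin (s + 2), c j * ((m + j).choose j : ℤ) :=
    fun F hF c hc m => by
    open Groth.Agent.H23.PicMul in
    rw [← hc m, Groth.Agent.Pencil.eulerCharLE_eq_euler k hdim.le (Groth.Agent.TauNum.isCoh_twistOn i hF _),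
      Groth.Agent.CurveCohLib.euler_congr (k := k) (Groth.Agent.H23.PicMul.cl_eq_iff.1 (show
        PicF.cl (Pic13.twistOn k i F (m : ℤ)) = PicF.cl (CohB1.tensorMod F (CohB1.tensorPow O m)) by
        rw [Groth.Agent.TauNum.cl_twistOn_natCast, cl_tensor, cl_tensorPow])).some]
  exact Groth.Agent.Pencil.top_coeffs k hdim.le hO hO' hOO' hL hL' (Groth.Agent.H23.PicMul.cl_eq_iff.2 hLL') a e
    (conv L (Groth.Agent.AmpleVan.isCoh_invertible hL) a ha) (conv _ Groth.Agent.QCoh.isCoh_structureModule' e he)


end Groth.Agent.S5644
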