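import Groth.Statements.S5654
import Groth.Agent.Deform.AffineKernel
import Groth.Agent.S3020

set_option autoImplicit false
universe u
open CategoryTheory MonoidalCategory CartesianMonoidalCategory MonObj GrpObj AlgebraicGeometry
open GrpSch

namespace Groth.Agent.S5654
set_option linter.style.haveILetI false

/-- Let k be a field, P and Q group schemes locally of finite type over k and f : P ⟶ Q a homomorphism
of k-group schemes whose underlying morphism of schemes is quasi-affine. Then f is affine. -/
theorem result (k : Type u) [Field k] (P Q : Over (Spec (CommRingCat.of k))) [GrpObj P] [GrpObj Q]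
    [LocallyOfFiniteType P.hom] [LocallyOfFiniteType Q.hom] (f : P ⟶ Q) [IsMonHom f] (hf : Mor2.IsQuasiAffine f.left) :
    IsAffineHom f.left := by
  obtain ⟨hqc, haff⟩ := hf
  haveI := hqc
  haveI : IsSeparated Q.hom := GrpSchLib.HomFinite.isSeparated Q
  obtain ⟨N, gN, i, hi, hci, hnorm, hker⟩ := GrpSchLib.exists_kernel f
  haveI := hi
  haveI := hci
  haveI : LocallyOfFiniteType N.hom := by rw [← Over.w i]; infer_instance
  haveI : QuasiCompact N.hom := by
    have h := MorphismProperty.of_isPullback (P := @QuasiCompact) (hker.map (Over.forget _)) hqc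
    rwa [show ((Over.forget _).map (toUnit N)) = N.hom from rfl] at h
  haveI : CompactSpace N.left := QuasiCompact.compactSpace_of_compactSpace N.hom
  haveI : Subsingleton (𝟙_ (Over (Spec (CommRingCat.of k)))).left := inferInstanceAs (Subsingleton (PrimeSpectrum k))
  let pt : (𝟙_ (Over (Spec (CommRingCat.of k)))).left := IsLocalRing.closedPoint k
  obtain ⟨V, hV, hVe, -⟩ := exists_isAffineOpen_mem_and_subset
    (show η[Q].left pt ∈ (⊤ : Q.left.Opens) from trivial)
  haveI := haff V hV
  have hr : Set.range i.left ⊆ Set.range (f.left ⁻¹ᵁ V).ι := by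
    rintro _ ⟨x, rfl⟩
    rw [Scheme.Opens.range_ι]
    show f.left (i.left x) ∈ V
    rw [← Scheme.Hom.comp_apply, ← Over.comp_left, hker.w, Over.comp_left, Scheme.Hom.comp_apply,
      Subsingleton.elim ((toUnit N).left x) pt]
    exact hVe
  let l := IsOpenImmersion.lift (f.left ⁻¹ᵁ V).ι i.left hr
  haveI : IsImmersion (l ≫ (f.left ⁻¹ᵁ V).ι) := by rw [IsOpenImmersion.lift_fac]; infer_instance
  haveI : IsImmersion l := IsImmersion.of_comp l (f.left ⁻¹ᵁ V).ι
  haveI : N.left.IsQuasiAffine := Scheme.IsQuasiAffine.of_isImmersion l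
  haveI : IsAffine N.left := S3020.result k N
  exact Deform.AffineKernel.isAffineHom_of_ker f i hnorm hker

end Groth.Agent.S5654
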