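import Groth.Statements.S5665
import Groth.Agent.GrLib8.BassShift
-- import your own Groth.Agent.* helpers here

set_option autoImplicit false
universe u
open CategoryTheory
open Dual

namespace Groth.Agent.S5665

open CategoryTheory.Abelian RingTheory.Sequence in
lemma ext_top_step {A : Type u} [CommRing A] (I : Ideal A) (x : A) (hreg : IsSMulRegular (A ⧸ I) x)
    (Y : ModuleCat.{u} A) (c : ℕ)
    (hv : ∀ i, c < i → Subsingleton (Ext.{u} (ModuleCat.of A (A ⧸ I)) Y i))
    (e : Ext.{u} (ModuleCat.of A (A ⧸ I)) Y c ≃ₗ[A] (Y ⧸ (I • (⊤ : Submodule A Y)))) :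
    (∀ i, c + 1 < i → Subsingleton (Ext.{u} (ModuleCat.of A (A ⧸ (I ⊔ Ideal.span {x}))) Y i)) ∧
      Nonempty (Ext.{u} (ModuleCat.of A (A ⧸ (I ⊔ Ideal.span {x}))) Y (c + 1) ≃ₗ[A]
        (Y ⧸ ((I ⊔ Ideal.span {x}) • (⊤ : Submodule A Y)))) := by
  let J := I ⊔ Ideal.span {x}
  let Q := ModuleCat.of A (A ⧸ I)
  let q : (A ⧸ I) →ₗ[A] A ⧸ J :=
    Submodule.liftQ I (Submodule.mkQ _) (fun a ha => (Submodule.Quotient.mk_eq_zero _).2 (Ideal.mem_sup_left ha))
  have hq : Function.Surjective q := fun z => by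
    obtain ⟨a, rfl⟩ := Submodule.Quotient.mk_surjective _ z
    exact ⟨Submodule.Quotient.mk a, rfl⟩
  have hqk : ∀ z, q z = 0 ↔ ∃ w, x • w = z := by
    intro z
    obtain ⟨a, rfl⟩ := Submodule.Quotient.mk_surjective I z
    rw [show q (Submodule.Quotient.mk a) = Submodule.Quotient.mk a from rfl, Submodule.Quotient.mk_eq_zero,
      Submodule.mem_sup]
    constructor
    · rintro ⟨i, hi, j, hj, rfl⟩
      obtain ⟨d, rfl⟩ := Ideal.mem_span_singleton'.1 hj
      refine ⟨Submodule.Quotient.mk d, ?_⟩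
      rw [← Submodule.Quotient.mk_smul, Submodule.Quotient.eq, smul_eq_mul,
        show x * d - (i + d * x) = -i by ring]
      exact I.neg_mem hi
    · rintro ⟨w, hw⟩
      obtain ⟨b, rfl⟩ := Submodule.Quotient.mk_surjective I w
      rw [← Submodule.Quotient.mk_smul, Submodule.Quotient.eq] at hw
      exact ⟨-(x • b - a), I.neg_mem hw, x • b, Ideal.mem_span_singleton'.2 ⟨b, mul_comm b x⟩, by ring⟩
  let S : ShortComplex (ModuleCat.{u} A) := ShortComplex.mk (X₁ := Q) (X₂ := Q) (X₃ := ModuleCat.of A (A ⧸ J))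
    (x • 𝟙 Q) (ModuleCat.ofHom q) (ModuleCat.hom_ext (LinearMap.ext fun z => (hqk _).2 ⟨z, rfl⟩))
  have hS : S.ShortExact :=
    { exact := (ShortComplex.ShortExact.moduleCat_exact_iff_function_exact _).2 fun z => hqk z
      mono_f := (ModuleCat.mono_iff_injective _).2 hreg
      epi_g := (ModuleCat.epi_iff_surjective _).2 hq }
  have hsm : ∀ i (z : Ext.{u} Q Y i), (Ext.mk₀ S.f).comp z (zero_add i) = x • z := fun i z => by
    show (Ext.mk₀ (x • 𝟙 Q)).comp z (zero_add i) = _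
    rw [Ext.mk₀_smul, Ext.smul_comp, Ext.mk₀_id_comp]
  refine ⟨fun i hi => subsingleton_of_forall_eq 0 fun w => ?_, ?_⟩
  · obtain ⟨j, rfl⟩ : ∃ j, i = j + 1 := ⟨i - 1, by omega⟩
    haveI := hv (j + 1) (by omega)
    haveI := hv j (by omega)
    obtain ⟨z, rfl⟩ := Ext.contravariant_sequence_exact₃ hS Y w (Subsingleton.elim _ _) (add_comm 1 j)
    rw [Subsingleton.elim z 0, Ext.comp_zero]
  let δ : Ext.{u} S.X₁ Y c →ₗ[A] Ext.{u} S.X₃ Y (c + 1) := Ext.precompOfLinear hS.extClass A Y (add_comm 1 c)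
  haveI := hv (c + 1) (by omega)
  have hδ : Function.Surjective δ := fun w =>
    Ext.contravariant_sequence_exact₃ hS Y w (Subsingleton.elim _ _) (add_comm 1 c)
  let m : (Y ⧸ (I • (⊤ : Submodule A Y))) →ₗ[A] (Y ⧸ (J • (⊤ : Submodule A Y))) :=
    Submodule.mapQ _ _ LinearMap.id (Submodule.smul_mono_left le_sup_left)
  have hm : Function.Surjective m := fun z => by
    obtain ⟨a, rfl⟩ := Submodule.Quotient.mk_surjective _ z
    exact ⟨Submodule.Quotient.mk a, rfl⟩
  let g : Ext.{u} S.X₁ Y c →ₗ[A] (Y ⧸ (J • (⊤ : Submodule A Y))) := m ∘ₗ e.toLinearMap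
  have hg : Function.Surjective g := hm.comp e.surjective
  have hker : LinearMap.ker δ = LinearMap.ker g := by
    ext z
    rw [LinearMap.mem_ker, LinearMap.mem_ker]
    constructor
    · intro hz
      obtain ⟨w, rfl⟩ := Ext.contravariant_sequence_exact₁ hS Y z (add_comm 1 c) hz
      rw [hsm]
      show m (e (x • w)) = 0
      rw [map_smul]
      obtain ⟨a, ha⟩ := Submodule.Quotient.mk_surjective _ (e w)
      rw [← ha, ← Submodule.Quotient.mk_smul]
      exact (Submodule.Quotient.mk_eq_zero _).2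
        (Submodule.smul_mem_smul (Ideal.mem_sup_right (Ideal.mem_span_singleton_self x)) Submodule.mem_top)
    · intro hz
      obtain ⟨a, ha⟩ := Submodule.Quotient.mk_surjective _ (e z)
      change m (e z) = 0 at hz
      rw [← ha] at hz
      have h1 : a ∈ J • (⊤ : Submodule A Y) := (Submodule.Quotient.mk_eq_zero _).1 hz
      rw [Submodule.sup_smul, Submodule.mem_sup] at h1
      obtain ⟨a₁, ha₁, a₂, ha₂, rfl⟩ := h1
      rw [Submodule.ideal_span_singleton_smul, Submodule.mem_smul_pointwise_iff_exists] at ha₂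
      obtain ⟨b, -, rfl⟩ := ha₂
      have hz' : z = x • e.symm (Submodule.Quotient.mk b) := e.injective (by
        rw [map_smul, e.apply_symm_apply, ← ha, Submodule.Quotient.mk_add,
          (Submodule.Quotient.mk_eq_zero _).2 ha₁, zero_add]
        rfl)
      rw [hz', ← hsm]
      show hS.extClass.comp ((Ext.mk₀ S.f).comp _ (zero_add c)) (add_comm 1 c) = 0
      rw [← Ext.comp_assoc_of_second_deg_zero, hS.extClass_comp, Ext.zero_comp]
  exact ⟨((δ.quotKerEquivOfSurjective hδ).symm.trans (Submodule.quotEquivOfEq _ _ hker)).trans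
    (g.quotKerEquivOfSurjective hg)⟩

open CategoryTheory.Abelian Groth.Agent.GrLib8 in
lemma ext_top_chain {A : Type u} [CommRing A] (Y : ModuleCat.{u} A) : ∀ (rs : List A) (I : Ideal A), RegChain I rs →
    ∀ c, (∀ i, c < i → Subsingleton (Ext.{u} (ModuleCat.of A (A ⧸ I)) Y i)) →
    Nonempty (Ext.{u} (ModuleCat.of A (A ⧸ I)) Y c ≃ₗ[A] (Y ⧸ (I • (⊤ : Submodule A Y)))) →
    Nonempty (Ext.{u} (ModuleCat.of A (A ⧸ (I ⊔ Ideal.ofList rs))) Y (c + rs.length) ≃ₗ[A]
      (Y ⧸ ((I ⊔ Ideal.ofList rs) • (⊤ : Submodule A Y))))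
  | [], I, _, c, _, e => by
    rw [Ideal.ofList_nil, sup_bot_eq]
    exact e
  | x :: rs, I, ⟨hx, hrs⟩, c, hv, ⟨e⟩ => by
    obtain ⟨hv', e'⟩ := ext_top_step I x hx Y c hv e
    rw [Ideal.ofList_cons, ← sup_assoc, show c + (x :: rs).length = c + 1 + rs.length by
      simp only [List.length_cons]; omega]
    exact ext_top_chain Y rs _ hrs (c + 1) hv' e'

/-- Let `A` be a commutative ring, `xs = (x_1, …, x_p)` a sequence in `A` such that each `x_i` is a
non-zero-divisor on `A/(x_1, …, x_{i-1})`, `J` the ideal generated by the `x_i` and `M` any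
`A`-module. Then `Ext^p_A(A/J, M)` is isomorphic, as an `A`-module, to `M/JM`. (Existence of an
`A`-linear isomorphism only; the published isomorphism is the one induced by the Koszul complex of
`xs`.) -/
theorem result (A : Type u) [CommRing A] (xs : List A) (hreg : RingTheory.Sequence.IsWeaklyRegular A xs) (M : Type u) [AddCommGroup M] [Module A M] : Nonempty (Abelian.Ext (ModuleCat.of A (A ⧸ Ideal.ofList xs)) (ModuleCat.of A M) xs.length ≃ₗ[A] (M ⧸ (Ideal.ofList xs • (⊤ : Submodule A M)))) := by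
  let q0 : (A ⧸ (⊥ : Ideal A)) ≃ₗ[A] A := Submodule.quotEquivOfEqBot ⊥ rfl
  let Y := ModuleCat.of A M
  have hchain := Groth.Agent.GrLib8.regChain_of_isWeaklyRegular xs ⊥ ((q0.isWeaklyRegular_congr _).2 hreg)
  have hv : ∀ i, 0 < i → Subsingleton (Abelian.Ext.{u} (ModuleCat.of A (A ⧸ (⊥ : Ideal A))) Y i) := fun i hi => by
    obtain ⟨j, rfl⟩ : ∃ j, i = j + 1 := ⟨i - 1, by omega⟩
    haveI : Module.Projective A (A ⧸ (⊥ : Ideal A)) := Module.Projective.of_equiv q0.symm
    haveI : Projective (ModuleCat.of A (A ⧸ (⊥ : Ideal A))) :=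
      (IsProjective.iff_projective (R := A) (A ⧸ (⊥ : Ideal A))).1 inferInstance
    exact subsingleton_of_forall_eq 0 fun z => Abelian.Ext.eq_zero_of_projective z
  have e : Nonempty (Abelian.Ext.{u} (ModuleCat.of A (A ⧸ (⊥ : Ideal A))) Y 0 ≃ₗ[A]
      (Y ⧸ ((⊥ : Ideal A) • (⊤ : Submodule A Y)))) :=
    ⟨((Groth.Agent.GrLib8.extCongrFst q0.symm Y 0).trans ((Abelian.Ext.linearEquiv₀ (R := A)).trans
      ((ModuleCat.homLinearEquiv (S := A)).trans (LinearMap.ringLmapEquivSelf A A M)))).trans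
        (Submodule.quotEquivOfEqBot _ (Submodule.bot_smul _)).symm⟩
  obtain ⟨f⟩ := ext_top_chain Y xs ⊥ hchain 0 hv e
  rw [Nat.zero_add, bot_sup_eq] at f
  exact ⟨f⟩


end Groth.Agent.S5665
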