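import Groth.Statements.S5669
import Groth.Agent.PnVan.ExtDual
-- import your own Groth.Agent.* helpers here

set_option autoImplicit false
universe u
open CategoryTheory AlgebraicGeometry
open ProjDual

namespace Groth.Agent.S5669

open Groth.Agent.PnVan in
theorem aux {k : Type u} [Field k] {r : ℕ} (F : (P k r).Modules) (hF : Coh.IsCoh F) (i j : ℕ) (hij : i + j = r) :
    (∃ m₀ : ℤ, ∀ m : ℤ, m₀ ≤ m →
      Subsingleton (Coh.HH (P k r) (Twist.twistBy (CohB1.polyGrading r k) F (-m)) i)) ↔
    ∀ x : P k r, Subsingleton (Abelian.Ext (ModuleCat.of ((P k r).presheaf.stalk x) (F.presheaf.stalk x))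
      (ModuleCat.of ((P k r).presheaf.stalk x) ((P k r).presheaf.stalk x)) j) := by
  have h1 : (∃ m₀ : ℤ, ∀ m : ℤ, m₀ ≤ m →
      Subsingleton (Coh.HH (P k r) (Twist.twistBy (CohB1.polyGrading r k) F (-m)) i)) ↔ NegVan F i := by
    constructor
    · rintro ⟨m₀, h⟩
      refine ⟨-m₀, fun d hd => ?_⟩
      have h' := h (-d) (by omega)
      rw [neg_neg] at h'
      exact h'
    · rintro ⟨m₀, h⟩
      exact ⟨-m₀, fun m hm => h (-m) (by omega)⟩
  rw [h1, negVan_iff_isZero_E j hij hF, Groth.Agent.ExtShX.isZero_E_iff hF (om k r) j]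
  refine forall_congr' fun x => ?_
  obtain ⟨e⟩ := Groth.Agent.H23.InvStalk.exists_stalk_equiv (om_invertible k r) x
  exact (((Abelian.extFunctorObj ((DerSch.stalkFunctor (P k r) x).obj F) j).mapIso
    (show (DerSch.stalkFunctor (P k r) x).obj (om k r) ≅
      ModuleCat.of ((P k r).presheaf.stalk x) ((P k r).presheaf.stalk x) from e.toModuleIso)).addCommGroupIsoToAddEquiv).toEquiv.subsingleton_congr

/-- Let `k` be an algebraically closed field, `P = P^r_k`, `F` a coherent `O_P`-module and `i + j = r`.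
Then `H^i(P, F(-m)) = 0` for all sufficiently large `m` if and only if `Ext^j_{O_{P,x}}(F_x,
O_{P,x}) = 0` for every point `x` of `P`. (The published criterion concerns a closed subset `X` of
`P` and a coherent sheaf on `X`, and is phrased as the vanishing of the sheaf `Ext^(r-i)_{O_P}(F,
ω_P)`; this row states it for every coherent `O_P`-module, with the condition read at the stalks.) -/
theorem result (k : Type u) [Field k] [IsAlgClosed k] (r : ℕ) (F : (CohB1.ProjSpace r k).Modules) (hF : Coh.IsCoh F) (i j : ℕ) (hij : i + j = r) : (∃ m₀ : ℤ, ∀ m : ℤ, m₀ ≤ m → Subsingleton (Coh.HH (CohB1.ProjSpace r k) (Twist.twistBy (CohB1.polyGrading r k) F (-m)) i)) ↔ ∀ x : (CohB1.ProjSpace r k), Subsingleton (Abelian.Ext (ModuleCat.of ((CohB1.ProjSpace r k).presheaf.stalk x) (F.presheaf.stalk x)) (ModuleCat.of ((CohB1.ProjSpace r k).presheaf.stalk x) ((CohB1.ProjSpace r k).presheaf.stalk x)) j) := by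
  exact aux (k := k) F hF i j hij

end Groth.Agent.S5669
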