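import Groth.Statements.S5672
import Groth.Agent.LC.ExtSmallSupport
-- import your own Groth.Agent.* helpers here

set_option autoImplicit false
universe u
open CategoryTheory
open Dual

namespace Groth.Agent.S5672

open CategoryTheory.Abelian in
lemma bijective_pullback {A : Type u} [CommRing A] [IsNoetherianRing A] (J : Ideal A) (Y : ModuleCat.{u} A) (p : ℕ)
    (hvan : ∀ (N : Type u) [AddCommGroup N] [Module A N] [Module.Finite A N],
      (∀ a ∈ J, ∀ z : N, a • z = 0) → ∀ i < p, Subsingleton (Ext (ModuleCat.of A N) Y i))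
    (M : Type u) [AddCommGroup M] [Module A M] [Module.Finite A M] (hM : ∀ a ∈ J, ∀ z : M, a • z = 0) :
    Function.Injective (fun ξ : Ext (ModuleCat.of A M) Y p => fun u : (A ⧸ J) →ₗ[A] M =>
        (Ext.mk₀ (ModuleCat.ofHom u)).comp ξ (zero_add p)) ∧
      ∀ g : ((A ⧸ J) →ₗ[A] M) →ₗ[A] Ext (ModuleCat.of A (A ⧸ J)) Y p, ∃ ξ : Ext (ModuleCat.of A M) Y p,
        ∀ u : (A ⧸ J) →ₗ[A] M, g u = (Ext.mk₀ (ModuleCat.ofHom u)).comp ξ (zero_add p) := by
  classical
  let Q := A ⧸ J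
  let q1 : Q := Ideal.Quotient.mk J 1
  have hQ1 : ∀ {N : Type u} [AddCommGroup N] [Module A N] (v w : Q →ₗ[A] N), v q1 = w q1 → v = w := by
    intro N _ _ v w h
    refine LinearMap.ext fun x => ?_
    obtain ⟨a, rfl⟩ := Ideal.Quotient.mk_surjective x
    rw [show Ideal.Quotient.mk J a = a • q1 by
      rw [Algebra.smul_def, Ideal.Quotient.algebraMap_eq, ← map_mul, mul_one], map_smul, map_smul, h]
  have hQ : ∀ {N : Type u} [AddCommGroup N] [Module A N], (∀ a ∈ J, ∀ z : N, a • z = 0) →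
      ∀ z : N, ∃ v : Q →ₗ[A] N, v q1 = z := by
    intro N _ _ hN z
    exact ⟨Submodule.liftQ J (LinearMap.toSpanSingleton A N z) fun a ha => hN a ha z, one_smul A z⟩
  have hJQ : ∀ a ∈ J, ∀ z : Q, a • z = 0 := fun a ha z => by
    rw [Algebra.smul_def, Ideal.Quotient.algebraMap_eq, Ideal.Quotient.eq_zero_iff_mem.2 ha, zero_mul]
  -- a free presentation over the quotient
  have present : ∀ (N : Type u) [AddCommGroup N] [Module A N] [Module.Finite A N], (∀ a ∈ J, ∀ z : N, a • z = 0) →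
      ∃ (m : ℕ) (π : (Fin m → Q) →ₗ[A] N), Function.Surjective π := by
    intro N _ _ _ hN
    obtain ⟨m, s, hs⟩ := Module.Finite.exists_fin (R := A) (M := N)
    choose v hv using fun i => hQ hN (s i)
    refine ⟨m, ∑ i, (v i).comp (LinearMap.proj i), LinearMap.range_eq_top.1 (top_unique (hs ▸ Submodule.span_le.2 ?_))⟩
    rintro _ ⟨i, rfl⟩
    refine ⟨Pi.single i q1, ?_⟩
    simp [Pi.single_apply, apply_ite, hv]
  have hsum : ∀ (m : ℕ) (η : Ext (ModuleCat.of A (Fin m → Q)) Y p),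
      η = ∑ i, (Ext.mk₀ (ModuleCat.ofHom (LinearMap.proj i : (Fin m → Q) →ₗ[A] Q))).comp
        ((Ext.mk₀ (ModuleCat.ofHom (LinearMap.single A (fun _ : Fin m => Q) i))).comp η (zero_add p)) (zero_add p) := by
    intro m η
    have hid : 𝟙 (ModuleCat.of A (Fin m → Q)) = ∑ i, ModuleCat.ofHom (LinearMap.proj i : (Fin m → Q) →ₗ[A] Q) ≫
        ModuleCat.ofHom (LinearMap.single A (fun _ : Fin m => Q) i) := by
      refine ModuleCat.hom_ext (LinearMap.ext fun x => funext fun j => ?_)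
      simp [ModuleCat.hom_sum, Pi.single_apply]
    conv_lhs => rw [← Ext.mk₀_id_comp η, hid, Ext.mk₀_sum, Ext.sum_comp]
    refine Finset.sum_congr rfl fun i _ => ?_
    rw [Ext.mk₀_comp_mk₀_assoc]
  have inj : ∀ (N : Type u) [AddCommGroup N] [Module A N] [Module.Finite A N], (∀ a ∈ J, ∀ z : N, a • z = 0) →
      ∀ ξ : Ext (ModuleCat.of A N) Y p,
        (∀ u : Q →ₗ[A] N, (Ext.mk₀ (ModuleCat.ofHom u)).comp ξ (zero_add p) = 0) → ξ = 0 := by
    intro N _ _ _ hN ξ hξ
    obtain ⟨m, π, hπ⟩ := present N hN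
    have h0 : (Ext.mk₀ (ModuleCat.ofHom π)).comp ξ (zero_add p) = 0 := by
      rw [hsum m ((Ext.mk₀ (ModuleCat.ofHom π)).comp ξ (zero_add p))]
      refine Finset.sum_eq_zero fun i _ => ?_
      rw [Ext.mk₀_comp_mk₀_assoc (ModuleCat.ofHom (LinearMap.single A (fun _ : Fin m => Q) i)), ← ModuleCat.ofHom_comp,
        hξ, Ext.comp_zero]
    cases p with
    | zero =>
      obtain ⟨w, rfl⟩ := (Ext.linearEquiv₀ (R := A)).symm.surjective ξ
      show Ext.mk₀ w = 0
      have h : (Ext.mk₀ (ModuleCat.ofHom π)).comp (Ext.mk₀ w) (zero_add 0) = 0 := h0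
      rw [Ext.mk₀_comp_mk₀, Ext.mk₀_eq_zero_iff] at h
      haveI : Epi (ModuleCat.ofHom π) := (ModuleCat.epi_iff_surjective _).2 hπ
      rw [(cancel_epi (ModuleCat.ofHom π)).1 (h.trans Limits.comp_zero.symm), Ext.mk₀_zero]
    | succ p' =>
      let S := ShortComplex.mk (ModuleCat.ofHom (LinearMap.ker π).subtype) (ModuleCat.ofHom π)
        (ModuleCat.hom_ext (LinearMap.ext fun z => z.2))
      have hS : S.ShortExact :=
        { exact := (ShortComplex.ShortExact.moduleCat_exact_iff_function_exact _).2 (LinearMap.exact_subtype_ker_map π)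
          mono_f := (ModuleCat.mono_iff_injective _).2 Subtype.val_injective
          epi_g := (ModuleCat.epi_iff_surjective _).2 hπ }
      obtain ⟨w, rfl⟩ := Ext.contravariant_sequence_exact₃ hS Y ξ h0 (add_comm 1 p')
      haveI : Module.Finite A (LinearMap.ker π) := Module.Finite.iff_fg.2 (IsNoetherian.noetherian _)
      haveI := hvan (LinearMap.ker π) (fun a ha z => Subtype.ext (funext fun j => hJQ a ha (z.1 j))) p' (Nat.lt_succ_self p')
      rw [Subsingleton.elim w 0, Ext.comp_zero]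
  refine ⟨fun ξ ξ' h => sub_eq_zero.1 (inj M hM _ fun u => ?_), fun g => ?_⟩
  · rw [sub_eq_add_neg, Ext.comp_add, Ext.comp_neg, ← sub_eq_add_neg, sub_eq_zero]
    exact congrFun h u
  obtain ⟨m, π, hπ⟩ := present M hM
  let η : Ext (ModuleCat.of A (Fin m → Q)) Y p := ∑ i, (Ext.mk₀ (ModuleCat.ofHom (LinearMap.proj i :
    (Fin m → Q) →ₗ[A] Q))).comp (g (π ∘ₗ LinearMap.single A (fun _ : Fin m => Q) i)) (zero_add p)
  have hw : ∀ w : Q →ₗ[A] (Fin m → Q), (Ext.mk₀ (ModuleCat.ofHom w)).comp η (zero_add p) = g (π ∘ₗ w) := by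
    intro w
    have hc : ∀ i, ∃ c : A, (LinearMap.proj i : (Fin m → Q) →ₗ[A] Q) ∘ₗ w = c • LinearMap.id := fun i => by
      obtain ⟨c, hc⟩ := Ideal.Quotient.mk_surjective (w q1 i)
      refine ⟨c, hQ1 _ _ ?_⟩
      show w q1 i = c • q1
      rw [← hc, Algebra.smul_def, Ideal.Quotient.algebraMap_eq, ← map_mul, mul_one]
    choose c hc using hc
    have hw' : w = ∑ i, c i • LinearMap.single A (fun _ : Fin m => Q) i := by
      refine LinearMap.ext fun x => funext fun j => ?_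
      have := LinearMap.congr_fun (hc j) x
      simp [Pi.single_apply] at this ⊢
      exact this
    rw [Ext.comp_sum]
    conv_rhs => rw [hw', show π ∘ₗ (∑ i, c i • LinearMap.single A (fun _ : Fin m => Q) i) =
      ∑ i, π ∘ₗ (c i • LinearMap.single A (fun _ : Fin m => Q) i) from LinearMap.ext fun x => by simp, map_sum]
    refine Finset.sum_congr rfl fun i _ => ?_
    rw [Ext.mk₀_comp_mk₀_assoc, ← ModuleCat.ofHom_comp, hc, LinearMap.comp_smul, map_smul,
      show ModuleCat.ofHom (c i • (LinearMap.id : Q →ₗ[A] Q)) = c i • 𝟙 (ModuleCat.of A Q) from rfl,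
      Ext.mk₀_smul, Ext.smul_comp, Ext.mk₀_id_comp]
  let S := ShortComplex.mk (ModuleCat.ofHom (LinearMap.ker π).subtype) (ModuleCat.ofHom π)
    (ModuleCat.hom_ext (LinearMap.ext fun z => z.2))
  have hS : S.ShortExact :=
    { exact := (ShortComplex.ShortExact.moduleCat_exact_iff_function_exact _).2 (LinearMap.exact_subtype_ker_map π)
      mono_f := (ModuleCat.mono_iff_injective _).2 Subtype.val_injective
      epi_g := (ModuleCat.epi_iff_surjective _).2 hπ }
  haveI : Module.Finite A (LinearMap.ker π) := Module.Finite.iff_fg.2 (IsNoetherian.noetherian _)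
  obtain ⟨ξ, hξ⟩ := Ext.contravariant_sequence_exact₂ hS Y η
    (inj (LinearMap.ker π) (fun a ha z => Subtype.ext (funext fun j => hJQ a ha (z.1 j))) _ fun v => by
      rw [Ext.mk₀_comp_mk₀_assoc, ← ModuleCat.ofHom_comp, hw,
        show π ∘ₗ (LinearMap.ker π).subtype ∘ₗ v = 0 from LinearMap.ext fun x => (v x).2, map_zero])
  refine ⟨ξ, fun u => ?_⟩
  obtain ⟨z, hz⟩ := hπ (u q1)
  obtain ⟨w, hw1⟩ := hQ (N := Fin m → Q) (fun a ha z => funext fun j => hJQ a ha (z j)) z
  obtain rfl : π ∘ₗ w = u := hQ1 _ _ (by rw [LinearMap.comp_apply, hw1, hz])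
  rw [← hw, ← hξ, Ext.mk₀_comp_mk₀_assoc]
  rfl

/-- Let `A` be a regular local ring of dimension `n`, `J` an ideal with `dim(A/J) ≤ n - p`, and `M` a
finite `A`-module with `JM = 0`. For `ξ ∈ Ext^p_A(M, A)` and an `A`-linear `u : A/J → M` write `u^*ξ
∈ Ext^p_A(A/J, A)` for the pullback. Then `ξ ↦ (u ↦ u^*ξ)` is injective, and every `A`-linear map
`Hom_A(A/J, M) → Ext^p_A(A/J, A)` is of the form `u ↦ u^*ξ` for some `ξ`. Since `Hom_A(A/J, M) = M`
here, this says that the canonical map `Ext^p_A(M, A) → Hom_A(M, Ext^p_A(A/J, A))` is bijective. -/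
theorem result (A : Type u) [CommRing A] [IsRegularLocalRing A] (p : ℕ) (J : Ideal A) (hJ : ringKrullDim (A ⧸ J) + p ≤ ringKrullDim A) (M : Type u) [AddCommGroup M] [Module A M] [Module.Finite A M] (hJM : J • (⊤ : Submodule A M) = ⊥) : Function.Injective (fun ξ : Abelian.Ext (ModuleCat.of A M) (ModuleCat.of A A) p => fun u : (A ⧸ J) →ₗ[A] M => (Abelian.Ext.mk₀ (ModuleCat.ofHom u)).comp ξ (zero_add p)) ∧ ∀ g : ((A ⧸ J) →ₗ[A] M) →ₗ[A] Abelian.Ext (ModuleCat.of A (A ⧸ J)) (ModuleCat.of A A) p, ∃ ξ : Abelian.Ext (ModuleCat.of A M) (ModuleCat.of A A) p, ∀ u : (A ⧸ J) →ₗ[A] M, g u = (Abelian.Ext.mk₀ (ModuleCat.ofHom u)).comp ξ (zero_add p) := by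
  have hkill : ∀ a ∈ J, ∀ z : M, a • z = 0 := fun a ha z => by
    have := Submodule.smul_mem_smul ha (Submodule.mem_top (x := z))
    rwa [hJM, Submodule.mem_bot] at this
  refine bijective_pullback J (ModuleCat.of A A) p (fun N _ _ _ hN i hi => ?_) M hkill
  refine Groth.Agent.LC.subsingleton_ext_of_supportDim_add_le A N p (le_trans ?_ hJ) i hi
  obtain ⟨m, s, hs⟩ := Module.Finite.exists_fin (R := A) (M := N)
  gcongr
  rw [Module.supportDim, ← Module.supportDim_quotient_eq_ringKrullDim, Module.supportDim]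
  refine Order.krullDim_le_of_strictMono (fun P => ⟨P.1, ?_⟩) (fun P P' h => h)
  rw [Module.support_eq_zeroLocus, Ideal.annihilator_quotient]
  have h1 : (P : PrimeSpectrum A) ∈ Module.support A N := P.2
  simp only [Module.support_eq_zeroLocus, PrimeSpectrum.mem_zeroLocus] at h1
  exact fun a ha => h1 (Module.mem_annihilator.2 fun z => hN a ha z)


end Groth.Agent.S5672
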