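import Groth.Statements.S5676
import Groth.Agent.RelCube.PnFamilyZero
-- import your own Groth.Agent.* helpers here

set_option autoImplicit false
universe u
open CategoryTheory CategoryTheory.Limits AlgebraicGeometry
open PicF

set_option backward.isDefEq.respectTransparency false
set_option backward.isDefEq.respectTransparency.types false
set_option synthInstance.maxHeartbeats 400000
set_option maxHeartbeats 1000000
set_option linter.style.haveILetI false
attribute [-instance] CategoryTheory.catToReflQuiver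

namespace Groth.Agent.S5676

/-- For the trivial vector bundle (so that `P(E)` is projective `r`-space `P = P^r_Y` with its
`O_P(1)`): let `Y` be a connected Noetherian scheme and `L` an invertible `O_P`-module. Then there
exist an invertible `O_Y`-module `L'` and an integer `n` with `L ≅ π^* L' ⊗ O_P(n)`, `π : P → Y` the
projection. Moreover, when `r ≥ 1`, the integer `n` is uniquely determined and `L'` is determined up
to isomorphism. (The published statement, for a projective bundle `P(E)`, asserts the uniqueness of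
`n` without restriction; for `E` of rank one, i.e. `r = 0`, `P = Y` and every `O_P(n)` is trivial,
so `n` is not unique — hence the hypothesis `r ≥ 1` on the uniqueness clause. Only the case of a
trivial `E` is stated here.) -/
theorem result (Y : Scheme.{u}) [IsNoetherian Y] [ConnectedSpace Y] (r : ℕ) (L : (CohB1.ProjSpaceOver r Y).Modules) (hL : PicF.IsInvertible L) : (∃ (L' : Y.Modules) (n : ℤ), PicF.IsInvertible L' ∧ Nonempty (L ≅ CohB1.tensorMod ((Scheme.Modules.pullback (CohB1.ProjSpaceOver.toBase r Y)).obj L') (Twist.twistOver r Y n))) ∧ (1 ≤ r → ∀ (L₁ L₂ : Y.Modules) (n₁ n₂ : ℤ), PicF.IsInvertible L₁ → PicF.IsInvertible L₂ → Nonempty (L ≅ CohB1.tensorMod ((Scheme.Modules.pullback (CohB1.ProjSpaceOver.toBase r Y)).obj L₁) (Twist.twistOver r Y n₁)) → Nonempty (L ≅ CohB1.tensorMod ((Scheme.Modules.pullback (CohB1.ProjSpaceOver.toBase r Y)).obj L₂) (Twist.twistOver r Y n₂)) → n₁ = n₂ ∧ Nonempty (L₁ ≅ L₂)) := by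
  open Groth.Agent.H23.PicMul in
  open Groth.Agent.H23 in
  open Groth.Agent in
  refine ⟨?_, fun hr L₁ L₂ n₁ n₂ h₁ h₂ i₁ i₂ => ?_⟩
  open Groth.Agent.H23.PicMul in
  open Groth.Agent.H23 in
  open Groth.Agent in
  · obtain ⟨a, d, ⟨M, hMa, hM⟩, hc⟩ : ∃ (a : PicF.Cl Y) (d : ℤ), PicF.IsInvertibleCl a ∧
        PicF.cl L = PicMul.pullHom (CohB1.ProjSpaceOver.toBase r Y) a * PicF.cl (Twist.twistOver r Y d) := by
      rcases Nat.eq_zero_or_pos r with rfl | hr
      · exact RelCube.exists_twist_decomp_zero Y ⟨L, rfl, hL⟩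
      · exact RelCube.exists_twist_decomp Y r hr ⟨L, rfl, hL⟩
    refine ⟨M, d, hM, PicMul.cl_eq_iff.1 (Eq.trans ?_ (PicMul.cl_tensor _ _).symm)⟩
    rw [hc, ← hMa]
    rfl
  open Groth.Agent.H23.PicMul in
  open Groth.Agent.H23 in
  open Groth.Agent in
  · obtain ⟨e1, e2⟩ := RelCube.twist_decomp_unique Y r hr (a := PicF.cl L₁) (a' := PicF.cl L₂) ⟨L₁, rfl, h₁⟩ ⟨L₂, rfl, h₂⟩
      ((PicMul.cl_tensor _ _).symm.trans ((PicMul.cl_eq_iff.2 i₁).symm.trans
        ((PicMul.cl_eq_iff.2 i₂).trans (PicMul.cl_tensor _ _))))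
    exact ⟨e1, PicMul.cl_eq_iff.1 e2⟩


end Groth.Agent.S5676
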