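import Groth.Statements.S5677
import Groth.Agent.TorsBound.Stable
-- import your own Groth.Agent.* helpers here

set_option autoImplicit false
universe u
open CategoryTheory CategoryTheory.Limits MonoidalCategory CartesianMonoidalCategory MonObj GrpObj AlgebraicGeometry
open FGA

namespace Groth.Agent.S5677

/-- Let S be a locally Noetherian scheme and G a commutative group scheme locally of finite type over S
(not assumed separated or quasi-compact over S). Then the subset of G consisting of the points x
such that, for some integer n ≥ 1, the n-th power morphism sends x into the connected component of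
the identity of its fibre, is open in G. -/
theorem result (S : Scheme.{u}) [IsLocallyNoetherian S] (G : Over S) [GrpObj G] [IsCommMonObj G]
    [LocallyOfFiniteType G.hom] :
    IsOpen {x : ↥G.left | ∃ n : ℕ, 0 < n ∧ ((𝟙 G : G ⟶ G) ^ n).left.base x ∈ SGA3x.neutralSet G} := by
  have hcomp : ∀ (m d : ℕ) (z : G.left), ((𝟙 G : G ⟶ G) ^ d).left (((𝟙 G : G ⟶ G) ^ m).left z) =
      ((𝟙 G : G ⟶ G) ^ (m * d)).left z := fun m d z => by
    rw [← Scheme.Hom.comp_apply, ← Over.comp_left, Groth.Agent.TorsBound.pow_comp, ← pow_mul]
  have h := Groth.Agent.TorsBound.isOpen_torsion (G := G) (fun _ => True) (fun _ _ _ _ => trivial)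
    (fun x y hyx hx => by
      obtain ⟨m, hm, -, hxm⟩ := hx
      obtain ⟨d, hd, hyd⟩ := Groth.Agent.TorsBound.exists_pow_mem_of_specializes
        (hyx.map ((𝟙 G : G ⟶ G) ^ m).left.continuous) hxm
      exact ⟨m * d, Nat.mul_pos hm hd, trivial, by rwa [← hcomp]⟩)
  simpa only [true_and] using h


end Groth.Agent.S5677
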