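import Groth.Statements.S5680
import Groth.Agent.PicH1Lib.Root
-- import your own Groth.Agent.* helpers here

set_option autoImplicit false
universe u
open CategoryTheory CategoryTheory.Limits AlgebraicGeometry
open FGA

set_option backward.isDefEq.respectTransparency false
attribute [-instance] CategoryTheory.catToReflQuiver

namespace Groth.Agent.S5680

/-- Let A be an artinian local ring with maximal ideal m and ν ≥ 1 an integer with m^(ν+1) = 0; let X be
a scheme proper and flat over Spec A, n a natural number whose image in the residue field of A is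
nonzero, L an invertible module on X and L' an invertible module on the closed subscheme X ×_A
Spec(A/m^ν) whose n-th tensor power is isomorphic to the pullback of L. Then there is an invertible
module M on X whose n-th tensor power is isomorphic to L (existence of an isomorphism). -/
theorem result (A : Type u) [CommRing A] [IsArtinianRing A] [IsLocalRing A]
    (ν : ℕ) (hν : 1 ≤ ν) (hm : IsLocalRing.maximalIdeal A ^ (ν + 1) = ⊥)
    (X : Scheme.{u}) (f : X ⟶ Spec (CommRingCat.of A)) [IsProper f] [Flat f]
    (n : ℕ) (hn : (n : IsLocalRing.ResidueField A) ≠ 0)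
    (L : X.Modules) (hL : PicF.IsInvertible L)
    (L' : (pullback f (Spec.map (CommRingCat.ofHom (Ideal.Quotient.mk (IsLocalRing.maximalIdeal A ^ ν))))).Modules)
    (hL' : PicF.IsInvertible L')
    (hroot : Nonempty (CohB1.tensorPow L' n ≅
      (Scheme.Modules.pullback (pullback.fst f (Spec.map (CommRingCat.ofHom (Ideal.Quotient.mk (IsLocalRing.maximalIdeal A ^ ν)))))).obj L)) :
    ∃ M : X.Modules, PicF.IsInvertible M ∧ Nonempty (CohB1.tensorPow M n ≅ L) := by
  let g := Spec.map (CommRingCat.ofHom (Ideal.Quotient.mk (IsLocalRing.maximalIdeal A ^ ν)))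
  haveI : IsClosedImmersion g := IsClosedImmersion.spec_of_surjective _ Ideal.Quotient.mk_surjective
  let i := pullback.fst f g
  let I := i.ker
  have hJ : IsLocalRing.maximalIdeal A ^ ν * IsLocalRing.maximalIdeal A ^ ν = ⊥ := by
    rw [← pow_add]
    exact le_bot_iff.1 ((Ideal.pow_le_pow_right (by omega)).trans hm.le)
  have hI : I * I = ⊥ := by
    show (pullback.fst f g).ker * (pullback.fst f g).ker = ⊥
    rw [Scheme.IdealSheafData.ker_fst_of_isClosedImmersion, ← Groth.Agent.FComplLib.comap_mul,
      Groth.Agent.PicH1.ker_Spec_mk_sq A _ hJ, Scheme.IdealSheafData.comap_bot]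
  haveI : IsIso i.toImage := inferInstance
  let e : I.subscheme ⟶ pullback f g := inv i.toImage
  have he : e ≫ i = I.subschemeι := by
    rw [IsIso.inv_comp_eq]
    exact i.toImage_imageι.symm
  letI := Groth.Agent.H23.PicMul.law X
  letI := Groth.Agent.H23.PicMul.law I.subscheme
  letI := Groth.Agent.H23.PicMul.law (pullback f g)
  have hu : IsUnit (n : A) := by
    by_contra h
    refine hn ?_
    rw [← map_natCast (IsLocalRing.residue A) n]
    exact (IsLocalRing.residue_eq_zero_iff _).2 h
  let φ : A →+* Γ(X, ⊤) := ((Scheme.ΓSpecIso (CommRingCat.of A)).inv ≫ f.appTop).hom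
  have hu' : IsUnit (n : Γ(X, ⊤)) := (map_natCast φ n) ▸ hu.map φ
  let c : PicLoc.PicSet X := PicGrp.cls L hL
  let c' : PicLoc.PicSet (pullback f g) := PicGrp.cls L' hL'
  have hi := Groth.Agent.H23.PicMul.pullMul I.subschemeι
  have hii := Groth.Agent.H23.PicMul.pullMul i
  have hee := Groth.Agent.H23.PicMul.pullMul e
  have hc : PicGrp.pullHom i hii c = c' ^ n := by
    refine Subtype.ext ?_
    rw [PicGrp.cls_pow_val]
    exact ((PicGrp.cl_eq_cl_iff _ _).2 hroot).symm
  have h : PicGrp.pullHom I.subschemeι hi c = PicGrp.pullHom e hee c' ^ n := by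
    rw [← map_pow, ← hc]
    refine Subtype.ext ?_
    show PicF.pullCl I.subschemeι c.1 = PicF.pullCl e (PicF.pullCl i c.1)
    rw [← PicLoc.pullCl_comp, he]
  obtain ⟨m, hm'⟩ := Groth.Agent.PicH1.exists_root I hI hi n _ hu'.mul_val_inv c _ h
  obtain ⟨M, hM, rfl⟩ := PicGrp.exists_eq_cls m
  exact ⟨M, hM, (PicGrp.cl_eq_cl_iff _ _).1 ((PicGrp.cls_pow_val hM n).symm.trans (congrArg Subtype.val hm'))⟩


end Groth.Agent.S5680
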