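import Groth.Statements.S5682
import Groth.Agent.PicAb.RedComp
-- import your own Groth.Agent.* helpers here

set_option autoImplicit false
universe u
open CategoryTheory CategoryTheory.Limits MonoidalCategory CartesianMonoidalCategory MonObj GrpObj AlgebraicGeometry
open FGA

set_option backward.isDefEq.respectTransparency false
set_option backward.isDefEq.respectTransparency.types false
set_option synthInstance.maxHeartbeats 400000
set_option maxHeartbeats 1000000
set_option linter.style.haveILetI false
attribute [-instance] CategoryTheory.catToReflQuiver

namespace Groth.Agent.S5682

/-- Let k be a field and G a commutative group scheme of finite type over k such that the base change of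
G to an algebraic closure of k contains no closed subgroup scheme isomorphic to the additive group.
Then there is a closed subgroup scheme H of G which is smooth over k and whose underlying set is the
connected component of the identity point of G; in other words the reduced identity component of G
is a smooth subgroup scheme. -/
theorem result (k : Type u) [Field k]
    (G : Over (Spec (CommRingCat.of k))) [GrpObj G] [IsCommMonObj G] [LocallyOfFiniteType G.hom] [QuasiCompact G.hom]
    (hGa : ∀ pt : ↥(Spec (CommRingCat.of k)), SGA7.FibreUnipotentRankZero pt G)
    (pt : ↥(Spec (CommRingCat.of k))) :
    ∃ (H : Over (Spec (CommRingCat.of k))) (_ : GrpObj H) (i : H ⟶ G), IsMonHom i ∧ IsClosedImmersion i.left ∧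
      Smooth H.hom ∧ Set.range i.left.base = connectedComponent (η[G].left.base pt) := by
  obtain ⟨H, iH, i, hi, hic, hH, -, hr⟩ := Groth.Agent.PicAb.exists_smooth_component G pt (hGa pt)
  exact ⟨H, iH, i, hi, hic, hH, hr⟩


end Groth.Agent.S5682
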