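import Groth.Statements.S5690
import Groth.Agent.GrpdLib.GlueProps

set_option autoImplicit false
universe u
open CategoryTheory CategoryTheory.Limits AlgebraicGeometry
open FGA

namespace Groth.Agent.S5690

/-- Let (U, R, s, t, c) be a groupoid scheme over a scheme S whose source morphism s : R ⟶ U is finite
locally free (finite, flat and locally of finite presentation), and suppose every equivalence class
t(s⁻¹(x)), x a point of U, is contained in some affine open of U. Then there are a scheme Y and a
morphism q : U ⟶ Y with s ≫ q = t ≫ q which is a coequalizer of s and t in the category of schemes,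
affine, integral and surjective, whose fibres are the equivalence classes; and if (t, s) : R ⟶ U ×_S
U is a monomorphism then q is moreover finite, flat and locally of finite presentation and (t, s) :
R ⟶ U ×_Y U is an isomorphism. Only the sufficiency of the affine-class condition is stated (the
published statement is an equivalence: the quotient with these properties exists if and only if
every class lies in an affine open). -/
theorem result {S : Scheme.{u}} (G : Grpd.GroupoidScheme S)
    [IsFinite G.s] [Flat G.s] [LocallyOfFinitePresentation G.s]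
    (haff : ∀ x : ↥G.U, ∃ V : G.U.Opens, IsAffineOpen V ∧ G.t.base '' (G.s.base ⁻¹' {x}) ⊆ (V : Set ↥G.U)) :
    ∃ (Y : Scheme.{u}) (q : G.U ⟶ Y) (w : G.s ≫ q = G.t ≫ q),
      Nonempty (IsColimit (Cofork.ofπ q w)) ∧ IsAffineHom q ∧ IsIntegralHom q ∧ Surjective q ∧
      (∀ x x' : ↥G.U, q.base x = q.base x' ↔ ∃ r : ↥G.R, G.s.base r = x ∧ G.t.base r = x') ∧
      (Mono G.j → IsFinite q ∧ Flat q ∧ LocallyOfFinitePresentation q ∧
        IsIso (pullback.lift G.t G.s w.symm : G.R ⟶ pullback q q)) := by
  have hc : ∀ x : G.U, ∃ j : GrpdLib.InvAff G, x ∈ j.1 := fun x => GrpdLib.exists_invAff haff x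
  obtain ⟨p, hp⟩ := GrpdLib.exists_quotMap G hc
  have w : G.t ≫ p = G.s ≫ p := GrpdLib.quotMap_w hp hc
  obtain ⟨hcol⟩ := GrpdLib.exists_isColimit_quotMap hp hc w
  haveI : IsIntegralHom p := GrpdLib.isIntegralHom_quotMap hp hc
  refine ⟨_, p, w.symm, ⟨?_⟩, inferInstance, inferInstance, ⟨GrpdLib.surjective_quotMap hp hc⟩, fun x x' => ?_,
    fun hj => ?_⟩
  · exact Cofork.IsColimit.mk _ (fun c => hcol.desc (Cofork.ofπ c.π c.condition.symm))
      (fun c => Cofork.IsColimit.π_desc hcol)
      (fun c m hm => Cofork.IsColimit.hom_ext hcol (hm.trans (Cofork.IsColimit.π_desc (t := Cofork.ofπ c.π c.condition.symm) hcol).symm))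
  · rw [GrpdLib.quotMap_eq_iff hp hc]
    exact ⟨fun ⟨r, h₁, h₂⟩ => ⟨G.i r, (congr($(G.i_s) r)).trans h₁, (congr($(G.i_t) r)).trans h₂⟩,
      fun ⟨r, h₁, h₂⟩ => ⟨G.i r, (congr($(G.i_t) r)).trans h₁, (congr($(G.i_s) r)).trans h₂⟩⟩
  · haveI := hj
    obtain ⟨h1, h2, h3⟩ := GrpdLib.isFinLocFree_quotMap hp hc
    have hpb := GrpdLib.isPullback_quotMap hp hc w
    refine ⟨h1, h2, h3, ?_⟩
    rw [show pullback.lift G.t G.s w.symm.symm = hpb.isoPullback.hom from rfl]
    infer_instance

end Groth.Agent.S5690
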