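import Groth.Statements.S5692
import Groth.Agent.FittX.Sheaf
-- import your own Groth.Agent.* helpers here

set_option autoImplicit false
universe u
open CategoryTheory CategoryTheory.Limits AlgebraicGeometry
open FGA

set_option backward.isDefEq.respectTransparency false

namespace Groth.Agent.S5692

/-- Let S be a locally Noetherian scheme, M a coherent module on S and r a natural number. Then there is
an immersion e : Z ⟶ S with the following universal property: for every scheme T and every morphism
g : T ⟶ S, the pullback of M along g is locally free of rank r if and only if g factors through e.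
If moreover M is generated by r sections on a neighbourhood of every point of S (equivalently all
fibres of M have rank at most r), then e is a closed immersion. -/
theorem result (S : Scheme.{u}) [IsLocallyNoetherian S]
    (M : S.Modules) (hM : Coh.IsCoh M) (r : ℕ) :
    ∃ (Z : Scheme.{u}) (e : Z ⟶ S), IsImmersion e ∧
      (∀ (T : Scheme.{u}) (g : T ⟶ S),
        FlatMod.IsFinLocFreeOfRank r ((Scheme.Modules.pullback g).obj M) ↔ ∃ g' : T ⟶ Z, g' ≫ e = g) ∧
      ((∀ s : ↥S, ∃ U : S.Opens, s ∈ U ∧ ∃ p : FlatMod.freeMod (↑U) r ⟶ M.restrict U.ι, Epi p) →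
        IsClosedImmersion e) := by
  classical
  have hq := hM.1
  have hft := hM.2
  let J : S.IdealSheafData := match r with | 0 => ⊥ | r' + 1 => Fitt.sheafIdeal M r'
  let U : S.Opens := ⟨((Fitt.sheafIdeal M r).support : Set S)ᶜ, (Fitt.sheafIdeal M r).support.isClosed.isOpen_compl⟩
  let e := pullback.fst J.subschemeι U.ι ≫ J.subschemeι
  refine ⟨_, e, inferInstance, fun T g => ?_, fun hgen => ?_⟩
  · rw [Groth.Agent.FittX.isFinLocFreeOfRank_iff (Groth.Agent.QCoh.isQCoh_pullback g hq)
      (Groth.Agent.FittX.isFT_pullback g hq hft)]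
    simp only [← Groth.Agent.FittX.sheafIdeal_comap g hq hft]
    have hmono : ∀ {a b : ℕ}, a ≤ b → Fitt.sheafIdeal M a ≤ Fitt.sheafIdeal M b := fun {a b} hab =>
      Scheme.IdealSheafData.le_def.2 fun V => by
        haveI := Groth.Agent.QCoh.finite_of_isFT hq hft V.2
        rw [Groth.Agent.FittX.sheafIdeal_ideal hq hft, Groth.Agent.FittX.sheafIdeal_ideal hq hft]
        exact Groth.Agent.FittX.ideal_mono hab
    have hJ : (∀ k, k < r → (Fitt.sheafIdeal M k).comap g = ⊥) ↔ J ≤ g.ker := by
      rw [← Scheme.IdealSheafData.map_bot, Scheme.IdealSheafData.le_map_iff_comap_le, le_bot_iff]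
      cases r with
      | zero => exact ⟨fun _ => Scheme.IdealSheafData.comap_bot _, fun _ k hk => absurd hk (by omega)⟩
      | succ r' =>
        refine ⟨fun h => h r' (by omega), fun h k hk => le_bot_iff.1 ?_⟩
        rw [← h]
        exact (Scheme.IdealSheafData.map_gc g).monotone_l (hmono (by omega))
    have hU : (∀ k, r ≤ k → (Fitt.sheafIdeal M k).comap g = ⊤) ↔ Set.range g ⊆ (U : Set S) := by
      constructor
      · rintro h _ ⟨t, rfl⟩ ht
        have h' := congrArg (fun I : T.IdealSheafData => (I.support : Set T)) (h r le_rfl)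
        simp only [Scheme.IdealSheafData.support_comap, Scheme.IdealSheafData.support_top] at h'
        have : t ∈ g ⁻¹' ((Fitt.sheafIdeal M r).support : Set S) := ht
        simpa using (Set.ext_iff.1 h' t).1 this
      · intro h k hk
        refine top_le_iff.1 (le_trans ?_ ((Scheme.IdealSheafData.map_gc g).monotone_l (hmono hk)))
        rw [top_le_iff, ← Scheme.IdealSheafData.support_eq_bot_iff]
        refine TopologicalSpace.Closeds.ext ?_
        rw [Scheme.IdealSheafData.support_comap]
        exact Set.eq_empty_iff_forall_notMem.2 fun t ht => h ⟨t, rfl⟩ ht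
    rw [hJ, hU]
    constructor
    · rintro ⟨h1, h2⟩
      haveI : IsClosedImmersion J.subschemeι := inferInstance
      let a := IsClosedImmersion.lift J.subschemeι g (by rw [Scheme.IdealSheafData.ker_subschemeι]; exact h1)
      let b := IsOpenImmersion.lift U.ι g (by rw [Scheme.Opens.range_ι]; exact h2)
      refine ⟨pullback.lift a b (by rw [IsClosedImmersion.lift_fac, IsOpenImmersion.lift_fac]), ?_⟩
      rw [pullback.lift_fst_assoc, IsClosedImmersion.lift_fac]
    · rintro ⟨g', rfl⟩
      refine ⟨?_, ?_⟩
      · calc J = J.subschemeι.ker := J.ker_subschemeι.symm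
          _ ≤ ((g' ≫ pullback.fst J.subschemeι U.ι) ≫ J.subschemeι).ker := Scheme.Hom.le_ker_comp _ _
          _ = _ := by rw [Category.assoc]
      · rintro _ ⟨t, rfl⟩
        show (g' ≫ pullback.fst J.subschemeι U.ι ≫ J.subschemeι) t ∈ (U : Set S)
        rw [pullback.condition, ← Category.assoc, Scheme.Hom.comp_apply]
        exact ((g' ≫ pullback.snd J.subschemeι U.ι) t).2
  · have hUtop : U = ⊤ := top_unique fun s _ => (Groth.Agent.FittX.generated_iff hq hft s r).1 (hgen s)
    haveI : IsIso U.ι := by
      rw [hUtop]
      exact inferInstanceAs (IsIso S.topIso.hom)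
    infer_instance


end Groth.Agent.S5692
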