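import Groth.Statements.S5693
import Groth.Agent.Deform.Neutral.Constructible
import Groth.Agent.AlgSpDec.ConstrDescent
import Groth.Agent.AnPts.Constr
-- import your own Groth.Agent.* helpers here

set_option autoImplicit false
universe u
open CategoryTheory CategoryTheory.Limits MonoidalCategory CartesianMonoidalCategory MonObj GrpObj AlgebraicGeometry
open FGA

namespace Groth.Agent.S5693

/-- Let S be a locally Noetherian scheme, G a commutative group scheme locally of finite type over S and
n ≥ 1 an integer. The set of points x of G for which n is the least positive integer such that the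
n-th power morphism sends x into the union of the connected components of the identity of the fibres
is locally constructible in G (the order function on the torsion-component set is locally
constructible). -/
theorem result (S : Scheme.{u}) [IsLocallyNoetherian S] (G : Over S) [GrpObj G]
    [IsCommMonObj G] [LocallyOfFiniteType G.hom] (n : ℕ) (hn : 0 < n) :
    Topology.IsLocallyConstructible {x : ↥G.left | ((𝟙 G : G ⟶ G) ^ n).left.base x ∈ SGA3x.neutralSet G ∧
      ∀ d : ℕ, 0 < d → d < n → ((𝟙 G : G ⟶ G) ^ d).left.base x ∉ SGA3x.neutralSet G} := by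
  have : IsLocallyNoetherian G.left := LocallyOfFiniteType.isLocallyNoetherian G.hom
  have : LocallyOfFinitePresentation G.hom := LocallyOfFinitePresentation.iff_locallyOfFiniteType.2 inferInstance
  have : QuasiSeparated G.hom := inferInstance
  have hN := Groth.Agent.Deform.Neutral.isLocallyConstructible_neutralSet (G := G)
  have hd : ∀ d : ℕ, Topology.IsLocallyConstructible (((𝟙 G : G ⟶ G) ^ d).left.base ⁻¹' SGA3x.neutralSet G) :=
    fun d => Groth.Agent.AlgSpDec.isLocallyConstructible_preimage_hom _ hN
  have heq : {x : ↥G.left | ((𝟙 G : G ⟶ G) ^ n).left.base x ∈ SGA3x.neutralSet G ∧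
      ∀ d : ℕ, 0 < d → d < n → ((𝟙 G : G ⟶ G) ^ d).left.base x ∉ SGA3x.neutralSet G} =
      ((𝟙 G : G ⟶ G) ^ n).left.base ⁻¹' SGA3x.neutralSet G ∩
        ⋂ d : {d : Fin n // 0 < (d : ℕ)}, (((𝟙 G : G ⟶ G) ^ (d.1 : ℕ)).left.base ⁻¹' SGA3x.neutralSet G)ᶜ := by
    ext x
    simp only [Set.mem_setOf_eq, Set.mem_inter_iff, Set.mem_preimage, Set.mem_iInter, Set.mem_compl_iff]
    exact ⟨fun h => ⟨h.1, fun d => h.2 _ d.2 d.1.2⟩, fun h => ⟨h.1, fun d h1 h2 => h.2 ⟨⟨d, h2⟩, h1⟩⟩⟩
  rw [heq]
  exact (hd n).inter (Topology.IsLocallyConstructible.iInter fun d =>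
    Groth.Agent.AnPts.isLocallyConstructible_compl (hd _))


end Groth.Agent.S5693
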