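import Groth.Statements.S5694
import Groth.Agent.TorsBound.Closed
-- import your own Groth.Agent.* helpers here

set_option autoImplicit false
universe u
open CategoryTheory CategoryTheory.Limits MonoidalCategory CartesianMonoidalCategory MonObj GrpObj AlgebraicGeometry
open FGA

namespace Groth.Agent.S5694

/-- Let S be a locally Noetherian scheme and G a commutative group scheme locally of finite type over S
such that the union of the connected components of the identity in the fibres of G is closed. Let
p(s) denote the characteristic exponent of the residue field of S at s. Then the set of points x of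
G such that some p(s)^h-th power morphism (h ≥ 0, s the image of x in S) sends x into that union, is
closed in G. -/
theorem result (S : Scheme.{u}) [IsLocallyNoetherian S] (G : Over S) [GrpObj G]
    [IsCommMonObj G] [LocallyOfFiniteType G.hom] (h0 : IsClosed (SGA3x.neutralSet G))
    (p : ↥S → ℕ) (hp : ∀ s : ↥S, ringExpChar (S.residueField s) = p s) :
    IsClosed {x : ↥G.left | ∃ h m : ℕ, m = p (G.hom.base x) ^ h ∧
      ((𝟙 G : G ⟶ G) ^ m).left.base x ∈ SGA3x.neutralSet G} := by
  have hprime : ∀ s, p s = 1 ∨ (p s).Prime := fun s => by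
    have : ExpChar (S.residueField s) (p s) := ringExpChar.of_eq (hp s)
    exact (expChar_is_prime_or_one (S.residueField s) (p s)).symm
  have hclosed : ∀ q : ℕ, q.Prime → IsClosed {s : ↥S | p s = q} := fun q hq => by
    have hiff : ∀ s : ↥S, p s = q ↔ s ∉ S.basicOpen (q : Γ(S, ⊤)) := fun s => by
      rw [← S.evaluation_ne_zero_iff_mem_basicOpen s (U := ⊤) trivial, not_not, map_natCast]
      constructor
      · intro h
        have : ExpChar (S.residueField s) q := ringExpChar.of_eq ((hp s).trans h)
        cases this with
        | zero => exact absurd rfl hq.ne_one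
        | prime _ => exact CharP.cast_eq_zero _ q
      · intro h
        have : CharP (S.residueField s) q := (CharP.charP_iff_prime_eq_zero hq).2 h
        have : ExpChar (S.residueField s) q := .prime hq
        exact (hp s).symm.trans (ringExpChar.eq (S.residueField s) q)
    rw [show {s : ↥S | p s = q} = ((S.basicOpen (q : Γ(S, ⊤)) : Set ↥S))ᶜ from Set.ext hiff]
    exact (S.basicOpen _).isOpen.isClosed_compl
  have hkey := Groth.Agent.TorsBound.isClosed_torsion h0 (fun s m => ∃ h, m = p s ^ h)
    (fun s d m hdm ⟨h, hm⟩ => by
      rcases hprime s with h1 | h1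
      · rw [h1, one_pow] at hm
        exact ⟨0, by rw [pow_zero]; exact Nat.dvd_one.1 (hm ▸ hdm)⟩
      · obtain ⟨i, -, rfl⟩ := (Nat.dvd_prime_pow h1).1 (hm ▸ hdm)
        exact ⟨i, rfl⟩)
    (fun m hm => by
      rcases eq_or_ne m 1 with rfl | h1
      · convert isClosed_univ
        exact Set.eq_univ_of_forall fun s => ⟨0, (pow_zero _).symm⟩
      · by_cases hq : ∃ q h, q.Prime ∧ m = q ^ h
        · obtain ⟨q, h, hq, rfl⟩ := hq
          have hh : h ≠ 0 := fun e => h1 (by rw [e, pow_zero])
          convert hclosed q hq using 1
          ext s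
          refine ⟨fun ⟨i, hi⟩ => ?_, fun e => ⟨h, by rw [show p s = q from e]⟩⟩
          rcases hprime s with e | e
          · rw [e, one_pow] at hi
            exact absurd hi h1
          · exact ((Nat.prime_dvd_prime_iff_eq hq e).1
              (hq.dvd_of_dvd_pow (hi ▸ dvd_pow_self q hh))).symm
        · convert isClosed_empty
          refine Set.eq_empty_iff_forall_notMem.2 fun s ⟨i, hi⟩ => ?_
          rcases hprime s with e | e
          · exact h1 (by rw [hi, e, one_pow])
          · exact hq ⟨p s, i, e, hi⟩)
  convert hkey using 1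
  ext x
  refine ⟨fun ⟨h, m, hm, hx⟩ => ⟨m, ?_, ⟨h, hm⟩, hx⟩, fun ⟨m, _, ⟨h, hm⟩, hx⟩ => ⟨h, m, hm, hx⟩⟩
  rw [hm]
  rcases hprime (G.hom.base x) with e | e
  · rw [e, one_pow]; exact Nat.one_pos
  · exact pow_pos e.pos h


end Groth.Agent.S5694
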