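import Groth.Statements.S5696
import Groth.Agent.TorsBound.Stable
-- import your own Groth.Agent.* helpers here

set_option autoImplicit false
universe u
open CategoryTheory CategoryTheory.Limits MonoidalCategory CartesianMonoidalCategory MonObj GrpObj AlgebraicGeometry
open FGA

namespace Groth.Agent.S5696

/-- Let S be a locally Noetherian scheme all of whose residue fields have the same characteristic, with
characteristic exponent p, and G a commutative group scheme locally of finite type over S such that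
for every integer n ≥ 1 prime to p the n-th power morphism of G is an open map. Then the set of
points x of G some p^h-th power of which (h ≥ 0) lies in the union of the connected components of
the identity of the fibres is open in G. -/
theorem result (S : Scheme.{u}) [IsLocallyNoetherian S]
    (p : ℕ) (hS : ∀ s : ↥S, ringExpChar (S.residueField s) = p)
    (G : Over S) [GrpObj G] [IsCommMonObj G] [LocallyOfFiniteType G.hom]
    (hopen : ∀ n : ℕ, 0 < n → Nat.Coprime n p → IsOpenMap ((𝟙 G : G ⟶ G) ^ n).left.base) :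
    IsOpen {x : ↥G.left | ∃ h : ℕ, ((𝟙 G : G ⟶ G) ^ (p ^ h)).left.base x ∈ SGA3x.neutralSet G} := by
  have hcomp : ∀ (m d : ℕ) (z : G.left), ((𝟙 G : G ⟶ G) ^ d).left (((𝟙 G : G ⟶ G) ^ m).left z) =
      ((𝟙 G : G ⟶ G) ^ (m * d)).left z := fun m d z => by
    rw [← Scheme.Hom.comp_apply, ← Over.comp_left, Groth.Agent.TorsBound.pow_comp, ← pow_mul]
  rcases isEmpty_or_nonempty ↥G.left with hG | hG
  · convert isOpen_empty
    exact Set.eq_empty_of_isEmpty _
  obtain ⟨z₀⟩ := hG
  have hp : p = 1 ∨ p.Prime := by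
    have : ExpChar (S.residueField (G.hom z₀)) p := ringExpChar.of_eq (hS _)
    exact (expChar_is_prime_or_one (S.residueField (G.hom z₀)) p).symm
  have h := Groth.Agent.TorsBound.isOpen_torsion (G := G) (fun m => ∃ h, m = p ^ h)
    (fun d m hdm ⟨h, hm⟩ => by
      rcases hp with e | e
      · rw [e, one_pow] at hm
        exact ⟨0, by rw [pow_zero]; exact Nat.dvd_one.1 (hm ▸ hdm)⟩
      · obtain ⟨i, -, rfl⟩ := (Nat.dvd_prime_pow e).1 (hm ▸ hdm)
        exact ⟨i, rfl⟩)
    (fun x y hyx hx => by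
      obtain ⟨m, hm, ⟨h, rfl⟩, hxm⟩ := hx
      obtain ⟨d, hd, hyd⟩ := Groth.Agent.TorsBound.exists_pow_mem_of_specializes
        (hyx.map ((𝟙 G : G ⟶ G) ^ (p ^ h)).left.continuous) hxm
      obtain ⟨a, b, hb, rfl⟩ : ∃ a b, Nat.Coprime b p ∧ d = p ^ a * b := by
        rcases hp with e | e
        · exact ⟨0, d, by rw [e]; exact Nat.coprime_one_right d, by rw [pow_zero, _root_.one_mul]⟩
        · obtain ⟨a, b, hb, hd'⟩ := Nat.exists_eq_pow_mul_and_not_dvd hd.ne' p e.ne_one
          exact ⟨a, b, ((Nat.Prime.coprime_iff_not_dvd e).2 hb).symm, hd'⟩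
      have hb0 : 0 < b := Nat.pos_of_ne_zero fun e => by rw [e, mul_zero] at hd; exact lt_irrefl 0 hd
      have hpa : 0 < p ^ a := Nat.pos_of_ne_zero fun e => by rw [e, zero_mul] at hd; exact lt_irrefl 0 hd
      refine ⟨p ^ h * p ^ a, Nat.mul_pos hm hpa, ⟨h + a, (pow_add p h a).symm⟩, ?_⟩
      rw [← hcomp]
      refine Groth.Agent.TorsBound.mem_of_specializes_of_open b
        (fun i => hopen _ (pow_pos hb0 i) (Nat.Coprime.pow_left i hb))
        ((hyx.map ((𝟙 G : G ⟶ G) ^ (p ^ h)).left.continuous).map ((𝟙 G : G ⟶ G) ^ (p ^ a)).left.continuous) ?_ ?_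
      · have := Groth.Agent.TorsBound.pow_mem (((𝟙 G : G ⟶ G) ^ (p ^ h)).left x) 1 (by rw [pow_one]; exact hxm) (p ^ a)
        rwa [_root_.one_mul] at this
      · rw [hcomp]
        exact hyd)
  convert h using 1
  ext x
  refine ⟨fun ⟨i, hi⟩ => ⟨p ^ i, ?_, ⟨i, rfl⟩, hi⟩, fun ⟨m, _, ⟨i, hm⟩, hi⟩ => ⟨i, hm ▸ hi⟩⟩
  rcases hp with e | e
  · rw [e, one_pow]; exact Nat.one_pos
  · exact pow_pos e.pos i


end Groth.Agent.S5696
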