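import Groth.Statements.S5744
import Groth.Statements.S5744
import Groth.Agent.QCoh.DevissageIdeal
import Groth.Agent.QCoh.Qcqs

set_option backward.isDefEq.respectTransparency false
set_option backward.isDefEq.respectTransparency.types false
attribute [local instance] CategoryTheory.Abelian.hasFiniteBiproducts

set_option autoImplicit false
universe u
open Coherent

namespace Groth.Agent.S5744

open CategoryTheory CategoryTheory.Limits AlgebraicGeometry TopologicalSpace in
theorem isAffineOpen_inter {X : Scheme.{u}} [X.IsSeparated] : ∀ (n : ℕ) (V : Fin (n + 1) → X.Opens),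
    (∀ a, IsAffineOpen (V a)) → ∃ W : X.Opens, IsAffineOpen W ∧ (∀ a, W ≤ V a) ∧ ∀ W', (∀ a, W' ≤ V a) → W' ≤ W
  | 0, V, h => ⟨V 0, h 0, fun a => by rw [Subsingleton.elim (α := Fin 1) a 0], fun W' hW => hW 0⟩
  | n + 1, V, h => by
    obtain ⟨W, hW, hle, hmax⟩ := isAffineOpen_inter n (fun a => V a.succ) fun a => h _
    refine ⟨V 0 ⊓ W, (h 0).inf hW, fun a => ?_, fun W' hW' => le_inf (hW' 0) (hmax _ fun a => hW' _)⟩
    induction a using Fin.cases with
    | zero => exact inf_le_left
    | succ a => exact inf_le_right.trans (hle a)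

open CategoryTheory CategoryTheory.Limits AlgebraicGeometry TopologicalSpace in
theorem isAffineOpen_piObj {X : Scheme.{u}} [X.IsSeparated] (n : ℕ) (V : Fin (n + 1) → X.Opens)
    (h : ∀ a, IsAffineOpen (V a)) : IsAffineOpen (∏ᶜ V) := by
  obtain ⟨W, hW, hle, hmax⟩ := isAffineOpen_inter n V h
  have : (∏ᶜ V) = W := le_antisymm (hmax _ fun a => leOfHom (Pi.π V a))
    (leOfHom (Pi.lift fun a => homOfLE (hle a)))
  rw [this]
  exact hW

open CategoryTheory CategoryTheory.Limits AlgebraicGeometry in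
theorem isQCoh_pushRestr {X : Scheme.{u}} [X.IsSeparated] {W : X.Opens} (hW : IsAffineOpen W) (F : X.Modules)
    [hF : Coh.IsQCoh F] : Coh.IsQCoh ((CechOX.pushRestr W).obj F) := by
  haveI : IsAffineHom W.ι := ⟨fun U hU => by
    have h2 : W.ι ⁻¹ᵁ U = W.ι ⁻¹ᵁ (W ⊓ U) := by ext z; exact ⟨fun h => ⟨z.2, h⟩, fun h => h.2⟩
    rw [h2]
    exact (hW.inf hU).preimage_of_isOpenImmersion W.ι (by rw [Scheme.Opens.opensRange_ι]; exact inf_le_left)⟩
  exact QCoh.isQCoh_pushforward W.ι (QCoh.isQCoh_restrict W.ι hF)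

open AlgebraicGeometry CategoryTheory in
/-- For the Čech complex of sheaves indexed by all ordered tuples with products as terms; over a finite
index type these terms are finite direct sums. Let X be a separated scheme, (U_i)_{i ∈ ι} a finite
family of affine opens covering X, and F a quasi-coherent O_X-module. Then for every p the degree-p
term of the Čech complex of sheaves 𝔠(𝒰, F), the product over ordered (p+1)-tuples of the direct
images (j_{i_0…i_p})_*(F|_{U_{i_0…i_p}}), is a quasi-coherent O_X-module. -/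
theorem result {X : Scheme.{u}} [X.IsSeparated] {ι : Type u}
    [Finite ι] (𝒰 : ι → X.Opens) (h𝒰 : ∀ i, IsAffineOpen (𝒰 i)) (hcov : ⨆ i, 𝒰 i = ⊤)
    (F : X.Modules) [Coh.IsQCoh F] (p : ℕ) :
    Coh.IsQCoh (((CechOX.cechSh 𝒰).obj F).X p) := by
  haveI : Fintype ι := Fintype.ofFinite ι
  let T : (Fin (p + 1) → ι) → X.Modules := fun i => (CechOX.pushRestr (∏ᶜ fun a => 𝒰 (i a))).obj F
  have h : Coh.IsQCoh (∏ᶜ T) := by
    refine (QCoh.isQCoh_iff_iso (Limits.biproduct.isoProduct T)).1 (QCoh.isQCoh_biproduct T fun i => ?_)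
    exact isQCoh_pushRestr (isAffineOpen_piObj p _ fun a => h𝒰 _) F
  exact h

end Groth.Agent.S5744
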