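import Groth.Statements.S5759
import Groth.Agent.LC.ExtDim

set_option autoImplicit false
universe u
open EGA41

namespace Groth.Agent.S5759

theorem exists_regular (A : Type u) [CommRing A] [IsLocalRing A] [IsNoetherianRing A] (d : ℕ) :
    ∀ (M : Type u) [AddCommGroup M] [Module A M] [Module.Finite A M] [Nontrivial M],
      Module.supportDim A M = (d : WithBot ℕ∞) →
      (∀ xs : List A, (∀ x ∈ xs, x ∈ IsLocalRing.maximalIdeal A) →
        Module.supportDim A (M ⧸ (Ideal.ofList xs • (⊤ : Submodule A M))) + xs.length = Module.supportDim A M →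
          ∀ p ∈ associatedPrimes A (M ⧸ (Ideal.ofList xs • (⊤ : Submodule A M))),
            ringKrullDim (A ⧸ p) = Module.supportDim A (M ⧸ (Ideal.ofList xs • (⊤ : Submodule A M)))) →
      ∃ rs : List A, RingTheory.Sequence.IsWeaklyRegular M rs ∧ (∀ r ∈ rs, r ∈ IsLocalRing.maximalIdeal A) ∧
        rs.length = d := by
  induction d with
  | zero => exact fun M _ _ _ _ _ _ => ⟨[], RingTheory.Sequence.IsWeaklyRegular.nil A M, by simp, rfl⟩
  | succ d ih =>
    intro M _ _ _ _ hd h
    let e0 : (M ⧸ (Ideal.ofList ([] : List A) • (⊤ : Submodule A M))) ≃ₗ[A] M :=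
      Submodule.quotEquivOfEqBot _ (by simp)
    have h0 : ∀ p ∈ associatedPrimes A M, ringKrullDim (A ⧸ p) = Module.supportDim A M := fun p hp => by
      have := h [] (by simp) (by rw [Module.supportDim_eq_of_equiv e0]; simp) p
        (LinearEquiv.AssociatedPrimes.eq e0 ▸ hp)
      rwa [Module.supportDim_eq_of_equiv e0] at this
    obtain ⟨x, hxm, hreg⟩ : ∃ x ∈ IsLocalRing.maximalIdeal A, IsSMulRegular M x := by
      by_contra hc
      push_neg at hc
      have hsub : (IsLocalRing.maximalIdeal A : Set A) ⊆ ⋃ p ∈ associatedPrimes A M, (p : Set A) := fun x hx => by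
        rw [biUnion_associatedPrimes_eq_compl_regular]
        exact hc x hx
      obtain ⟨p, hp, hle⟩ := (Ideal.subset_union_prime_finite (associatedPrimes.finite A M) ⊤ ⊤
        fun p hp _ _ => hp.isPrime).1 hsub
      obtain rfl := ((IsLocalRing.maximalIdeal.isMaximal A).eq_of_le hp.isPrime.ne_top hle).symm
      have h1 := h0 _ hp
      rw [hd, ringKrullDim_eq_zero_of_isField
        ((Ideal.Quotient.maximal_ideal_iff_isField_quotient _).1 inferInstance)] at h1
      exact absurd h1 (by exact_mod_cast (Nat.succ_ne_zero d).symm)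
    have hdim : Module.supportDim A (QuotSMulTop x M) = (d : WithBot ℕ∞) := by
      have h1 := Module.supportDim_quotSMulTop_succ_eq_supportDim hreg hxm
      rw [hd] at h1
      cases hq : Module.supportDim A (QuotSMulTop x M) with
      | bot => rw [hq] at h1; simp at h1; exact absurd h1.symm (by simp)
      | coe q =>
        rw [hq] at h1
        have h2 : q + 1 = ((d : ℕ∞) + 1) := by exact_mod_cast h1
        exact_mod_cast WithTop.add_right_cancel (WithTop.one_ne_top) h2
    haveI : Nontrivial (QuotSMulTop x M) := by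
      rw [← Module.supportDim_ne_bot_iff_nontrivial A, hdim]
      exact WithBot.coe_ne_bot
    obtain ⟨rs, hrs, hmem, hlen⟩ := ih (QuotSMulTop x M) hdim fun xs hxs hx1 p hp => by
      let e := Submodule.quotOfListConsSMulTopEquivQuotSMulTopInner M x xs
      rw [← Module.supportDim_eq_of_equiv e]
      refine h (x :: xs) (List.forall_mem_cons.2 ⟨hxm, hxs⟩) ?_ p (LinearEquiv.AssociatedPrimes.eq e ▸ hp)
      rw [Module.supportDim_eq_of_equiv e, List.length_cons, Nat.cast_add, Nat.cast_one, ← add_assoc, hx1,
        hdim, hd, Nat.cast_add, Nat.cast_one]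
    exact ⟨x :: rs, (RingTheory.Sequence.isWeaklyRegular_cons_iff M x rs).2 ⟨hreg, hrs⟩,
      List.forall_mem_cons.2 ⟨hxm, hmem⟩, by simp [hlen]⟩

/-- Let A be a Noetherian local ring and M a nonzero finitely generated A-module. Suppose that for every
sequence x_1, ..., x_r of elements of the maximal ideal which is part of a system of parameters for
M (i.e. dim(M/(x_1 M + ... + x_r M)) = dim(M) - r), every associated prime p of N = M/(x_1 M + ... +
x_r M) satisfies dim(A/p) = dim(N). Then M is a Cohen-Macaulay module. (The published convention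
also counts the zero module as Cohen-Macaulay; this row assumes M nonzero.) -/
theorem result (A : Type u) [CommRing A]
    [IsLocalRing A] [IsNoetherianRing A] (M : Type u) [AddCommGroup M] [Module A M] [Module.Finite A M]
    [Nontrivial M]
    (h : ∀ xs : List A, (∀ x ∈ xs, x ∈ IsLocalRing.maximalIdeal A) →
      Module.supportDim A (M ⧸ (Ideal.ofList xs • (⊤ : Submodule A M))) + xs.length = Module.supportDim A M →
        ∀ p ∈ associatedPrimes A (M ⧸ (Ideal.ofList xs • (⊤ : Submodule A M))),
          ringKrullDim (A ⧸ p) = Module.supportDim A (M ⧸ (Ideal.ofList xs • (⊤ : Submodule A M)))) :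
    LocCoh.IsCohenMacaulayModule A M := by
  refine le_antisymm ?_ (LC.depth_le_supportDim (R := A) (M := M))
  obtain ⟨d, hd⟩ : ∃ d : ℕ, Module.supportDim A M = (d : WithBot ℕ∞) := by
    have h1 := (Module.supportDim_ne_bot_iff_nontrivial A M).2 inferInstance
    have h2 : Module.supportDim A M < ⊤ := (Module.supportDim_le_ringKrullDim A M).trans_lt ringKrullDim_lt_top
    cases hq : Module.supportDim A M with
    | bot => exact absurd hq h1
    | coe q =>
      rw [hq] at h2
      cases q with
      | top => exact absurd h2 (lt_irrefl _)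
      | coe n => exact ⟨n, rfl⟩
  obtain ⟨rs, hrs, hmem, hlen⟩ := exists_regular A d M hd h
  rw [hd]
  refine WithBot.coe_le_coe.2 ?_
  unfold LocCoh.depth LocCoh.idealDepth
  split_ifs
  · exact le_top
  · exact le_iSup₂_of_le rs ⟨hrs, hmem⟩ (by rw [hlen])

end Groth.Agent.S5759
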