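import Groth.Statements.S5760
import Groth.Agent.S5758
-- import your own Groth.Agent.* helpers here

set_option autoImplicit false
universe u
open EGA41

namespace Groth.Agent.S5760

/-- Let A be a Noetherian local ring, M a nonzero finitely generated Cohen-Macaulay A-module, p a prime
ideal in the support of M and r the integer dim(M) - dim(M/pM). Then there exists an M-regular
sequence x_1, ..., x_r of elements of p; for every such sequence, dim(M/(x_1 M + ... + x_r M)) =
dim(M/pM) = dim(A/p), and p is a minimal element of the set of associated primes of M/(x_1 M + ... +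
x_r M). -/
theorem result (A : Type u) [CommRing A]
    [IsLocalRing A] [IsNoetherianRing A] (M : Type u) [AddCommGroup M] [Module A M] [Module.Finite A M]
    (hM : LocCoh.IsCohenMacaulayModule A M) (p : PrimeSpectrum A) (hp : p ∈ Module.support A M) (r : ℕ)
    (hr : Module.supportDim A (M ⧸ (p.asIdeal • (⊤ : Submodule A M))) + r = Module.supportDim A M) :
    (∃ xs : List A, xs.length = r ∧ (∀ x ∈ xs, x ∈ p.asIdeal) ∧ RingTheory.Sequence.IsWeaklyRegular M xs) ∧
      ∀ xs : List A, xs.length = r → (∀ x ∈ xs, x ∈ p.asIdeal) → RingTheory.Sequence.IsWeaklyRegular M xs →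
        Module.supportDim A (M ⧸ (Ideal.ofList xs • (⊤ : Submodule A M))) =
            Module.supportDim A (M ⧸ (p.asIdeal • (⊤ : Submodule A M))) ∧
          Module.supportDim A (M ⧸ (p.asIdeal • (⊤ : Submodule A M))) = ringKrullDim (A ⧸ p.asIdeal) ∧
          p.asIdeal ∈ associatedPrimes A (M ⧸ (Ideal.ofList xs • (⊤ : Submodule A M))) ∧
          ∀ q ∈ associatedPrimes A (M ⧸ (Ideal.ofList xs • (⊤ : Submodule A M))), q ≤ p.asIdeal → q = p.asIdeal := by
  haveI := Groth.Agent.LC.nontrivial_of_isCM M hM
  set P := p.asIdeal with hP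
  have hPm : P ≤ IsLocalRing.maximalIdeal A := IsLocalRing.le_maximalIdeal p.isPrime.ne_top
  have hsupp : Module.support A (M ⧸ (P • (⊤ : Submodule A M))) = PrimeSpectrum.zeroLocus (P : Set A) := by
    rw [Module.support_quotient]
    refine Set.inter_eq_right.2 fun q hq => Module.mem_support_mono (show p ≤ q from hq) hp
  have hdimP : Module.supportDim A (M ⧸ (P • (⊤ : Submodule A M))) = ringKrullDim (A ⧸ P) := by
    rw [← Module.supportDim_quotient_eq_ringKrullDim, Module.supportDim, Module.supportDim, hsupp,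
      Groth.Agent.LC.support_quot_self]
  haveI : Nontrivial (A ⧸ P) := Ideal.Quotient.nontrivial_iff.2 p.isPrime.ne_top
  have h1 := Groth.Agent.LC.supportDim_eq_add_idealDepth M hM (I := P) p.isPrime.ne_top
  have h2 := h1
  rw [← hr] at h2
  obtain ⟨e, he⟩ : ∃ e : ℕ, Module.supportDim A (M ⧸ (P • (⊤ : Submodule A M))) = (e : WithBot ℕ∞) := by
    haveI : Nontrivial (M ⧸ (P • (⊤ : Submodule A M))) := Submodule.Quotient.nontrivial_iff.2
      (Groth.Agent.LC.smul_top_ne_top_of_le_maximal hPm)
    exact Groth.Agent.LC.exists_supportDim_eq_nat _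
  obtain ⟨rs, hrs, hmem, hlen⟩ := Groth.Agent.LC.exists_idealDepth_eq_length P (M := M)
    (Groth.Agent.LC.smul_top_ne_top_of_le_maximal hPm)
  rw [he, hlen] at h2
  have hr' : r = rs.length := by
    have h3 : e + r = e + rs.length := by exact_mod_cast h2
    omega
  refine ⟨⟨rs, hr'.symm, hmem, hrs⟩, fun xs hxl hxm hxr => ?_⟩
  have hxm' : ∀ x ∈ xs, x ∈ IsLocalRing.maximalIdeal A := fun x hx => hPm (hxm x hx)
  obtain ⟨hiff, hcm⟩ := Groth.Agent.S5758.result A M hM xs hxm'
  have hdrop := hiff.1 hxr
  have hCM := hcm hxr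
  have hnt := Groth.Agent.LC.nontrivial_of_isCM _ hCM
  set M' := M ⧸ (Ideal.ofList xs • (⊤ : Submodule A M))
  obtain ⟨f, hf⟩ := Groth.Agent.LC.exists_supportDim_eq_nat (R := A) M'
  have hdimeq : Module.supportDim A M' = Module.supportDim A (M ⧸ (P • (⊤ : Submodule A M))) := by
    rw [← hr, he, hf, hxl] at hdrop
    rw [hf, he]
    have h3 : f + r = e + r := by exact_mod_cast hdrop
    exact_mod_cast (show f = e by omega)
  have hpM' : p ∈ Module.support A M' := by
    rw [Module.support_quotient]
    exact ⟨hp, fun a ha => Groth.Agent.LC.ofList_le P hxm ha⟩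
  have hco : ∀ q ∈ associatedPrimes A M', q ≤ P → q = P := fun q hq hqp => by
    by_contra hne
    let q' : PrimeSpectrum A := ⟨q, hq.isPrime⟩
    have e1 := Groth.Agent.LC.coheight_eq_of_ass_of_isCM M' hCM (p := q') hq
    have e2 : (Order.coheight p : WithBot ℕ∞) = Module.supportDim A M' := by
      rw [hdimeq, hdimP, ringKrullDim_quotient, Order.coheight_eq_krullDim_Ici]
      rfl
    have heq : Order.coheight q' = Order.coheight p := by exact_mod_cast e1.trans e2.symm
    rw [hf] at e1
    have hfin : Order.coheight p < ⊤ := by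
      rw [← heq, show Order.coheight q' = (f : ℕ∞) by exact_mod_cast e1]
      exact WithTop.coe_lt_top f
    exact (Order.coheight_strictAnti (lt_of_le_of_ne (show q' ≤ p from hqp)
      (fun h => hne (congrArg PrimeSpectrum.asIdeal h))) hfin).ne heq.symm
  refine ⟨hdimeq, hdimP, ?_, hco⟩
  obtain ⟨q, hq, hqp⟩ := Ideal.exists_minimalPrimes_le
    (I := Module.annihilator A M') (J := P) (Module.mem_support_iff_of_finite.1 hpM')
  have hqa := Module.associatedPrimes.minimalPrimes_annihilator_subset_associatedPrimes A M' hq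
  exact hco q hqa hqp ▸ hqa

end Groth.Agent.S5760
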