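import Groth.Statements.S5782
import Groth.Agent.RegLoc6.Pd
import Mathlib
-- import your own Groth.Agent.* helpers here

set_option autoImplicit false
universe u
open CategoryTheory
open EGA41

namespace Groth.Agent.S5782

open TensorProduct Groth.Agent.RegLoc6

set_option linter.style.haveILetI false

theorem pdLE_quot {A : Type u} [CommRing A] [IsNoetherianRing A] (a : A) (hA : IsSMulRegular A a) :
    ∀ (n : ℕ) (E : Type u) [AddCommGroup E] [Module A E] [Module.Finite A E], IsSMulRegular E a →
      PdLE A n E → PdLE (A ⧸ Ideal.span {a}) n ((A ⧸ Ideal.span {a}) ⊗[A] E) := by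
  intro n
  induction n with
  | zero =>
    intro E _ _ _ _ h
    rw [pdLE_zero_iff] at h ⊢
    infer_instance
  | succ n ih =>
    intro E _ _ _ hE h
    let B := A ⧸ Ideal.span {a}
    obtain ⟨k, g, hg⟩ := exists_presentation (R := A) (M := E)
    have hK : IsSMulRegular (LinearMap.ker g) a := fun x y hxy =>
      Subtype.ext (funext fun i => hA (congrFun (congrArg Subtype.val hxy) i))
    have hKp := ih (LinearMap.ker g) hK ((pdLE_succ_iff g hg).1 h)
    let ι := (LinearMap.ker g).subtype.baseChange B
    have hι : Function.Injective ι := by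
      rw [injective_iff_map_eq_zero]
      intro z hz
      obtain ⟨x, rfl⟩ := TensorProduct.mk_surjective A (LinearMap.ker g) B Ideal.Quotient.mk_surjective z
      have h0 : (1 : B) ⊗ₜ[A] (x : Fin k → A) = 0 := hz
      have h1 := congrArg (TensorProduct.quotTensorEquivQuotSMul (Fin k → A) (Ideal.span {a})) h0
      rw [map_zero, show (1 : B) = Ideal.Quotient.mk (Ideal.span {a}) 1 from rfl,
        TensorProduct.quotTensorEquivQuotSMul_mk_tmul, one_smul, Submodule.Quotient.mk_eq_zero,
        Submodule.ideal_span_singleton_smul, Submodule.mem_smul_pointwise_iff_exists] at h1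
      obtain ⟨w, -, hw⟩ := h1
      have hgw : g w = 0 := hE (show a • g w = a • 0 by rw [← map_smul, hw, smul_zero]; exact LinearMap.mem_ker.1 x.2)
      have hx : x = a • (⟨w, hgw⟩ : LinearMap.ker g) := Subtype.ext hw.symm
      show (1 : B) ⊗ₜ[A] x = 0
      rw [hx, TensorProduct.tmul_smul, TensorProduct.smul_tmul',
        show a • (1 : B) = 0 by
          rw [Algebra.smul_def, mul_one]; exact Ideal.Quotient.eq_zero_iff_mem.2 (Ideal.mem_span_singleton_self a),
        TensorProduct.zero_tmul]
    have hex : Function.Exact ι (g.baseChange B) := lTensor_exact B (LinearMap.exact_subtype_ker_map g) hg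
    have hgB : Function.Surjective (g.baseChange B) := LinearMap.lTensor_surjective B hg
    haveI : Module.Projective B (B ⊗[A] (Fin k → A)) := inferInstance
    rw [pdLE_succ_iff (g.baseChange B) hgB]
    exact pdLE_of_equiv ((LinearEquiv.ofInjective ι hι).trans (LinearEquiv.ofEq _ _ (LinearMap.exact_iff.1 hex).symm)) hKp

/-- Let A be a Noetherian local ring with maximal ideal m, E a finitely generated A-module of finite
projective dimension, and a ∈ m an element which is A-regular and E-regular. Then E/aE, as a module
over A/aA, has finite projective dimension at most the projective dimension of E over A. -/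
theorem result (A : Type u) [CommRing A] [IsLocalRing A]
    [IsNoetherianRing A] (E : Type u) [AddCommGroup E] [Module A E] [Module.Finite A E]
    (hfin : projectiveDimension (ModuleCat.of A E) ≠ ⊤) (a : A) (ha : a ∈ IsLocalRing.maximalIdeal A)
    (hA : IsSMulRegular A a) (hE : IsSMulRegular E a) :
    projectiveDimension (ModuleCat.of (A ⧸ Ideal.span {a}) (E ⧸ (Ideal.span {a} • (⊤ : Submodule A E)))) ≤
      projectiveDimension (ModuleCat.of A E) := by
  let B := A ⧸ Ideal.span {a}
  let e₀ := TensorProduct.quotTensorEquivQuotSMul E (Ideal.span {a})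
  let e : B ⊗[A] E ≃ₗ[B] E ⧸ (Ideal.span {a} • (⊤ : Submodule A E)) :=
    LinearEquiv.extendScalarsOfSurjective Ideal.Quotient.mk_surjective e₀
  refine le_of_forall_ge fun N => ?_
  induction N with
  | bot =>
    simp only [le_bot_iff, projectiveDimension_eq_bot_iff, ModuleCat.isZero_iff_subsingleton]
    intro h
    exact (Submodule.mkQ_surjective _).subsingleton
  | coe N =>
    induction N with
    | top => simp
    | coe n =>
      intro h
      exact (projectiveDimension_le_iff _ n).2
        (pdLE_of_equiv e (pdLE_quot a hA n E hE ((projectiveDimension_le_iff _ n).1 h)))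

end Groth.Agent.S5782
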