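import Groth.Statements.S5783
import Groth.Agent.S2082
import Groth.Agent.S9129
import Groth.Agent.AvramovLib.Ps
import Groth.Agent.EGA41Lib.IntDim

set_option autoImplicit false
universe u
open EGA41

namespace Groth.Agent.S5783

/-- Let A be a regular local ring, B a local ring and ρ : A → B a local homomorphism making B a finitely
generated A-module. Then B is a free A-module if and only if B is a Cohen-Macaulay ring and ρ is
injective (the latter being equivalent to dim(B) = dim(A)). -/
theorem result (A B : Type u) [CommRing A] [CommRing B]
    [IsRegularLocalRing A] [IsLocalRing B] [Algebra A B] [IsLocalHom (algebraMap A B)] [Module.Finite A B] :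
    Module.Free A B ↔ LocCoh.IsCohenMacaulayLocalRing B ∧ Function.Injective (algebraMap A B) := by
  haveI : IsNoetherianRing B := IsNoetherianRing.of_finite A B
  constructor
  · intro h
    haveI := AvramovLib.isCM_of_regular A
    haveI : FaithfulSMul A B := inferInstance
    exact ⟨(S9129.result A B (Or.inl inferInstance)).1, FaithfulSMul.algebraMap_injective A B⟩
  · rintro ⟨hCM, hinj⟩
    haveI : Algebra.IsIntegral A B := Algebra.IsIntegral.of_finite A B
    have h0 : ringKrullDim (B ⧸ (IsLocalRing.maximalIdeal A).map (algebraMap A B)) = 0 := by
      haveI : Module.Finite (A ⧸ IsLocalRing.maximalIdeal A) (B ⧸ (IsLocalRing.maximalIdeal A).map (algebraMap A B)) :=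
        Module.Finite.of_restrictScalars_finite A _ _
      letI := Ideal.Quotient.field (IsLocalRing.maximalIdeal A)
      haveI : IsArtinianRing (B ⧸ (IsLocalRing.maximalIdeal A).map (algebraMap A B)) :=
        IsArtinianRing.of_finite (A ⧸ IsLocalRing.maximalIdeal A) _
      haveI : Nontrivial (B ⧸ (IsLocalRing.maximalIdeal A).map (algebraMap A B)) :=
        Ideal.Quotient.nontrivial_iff.2 (ne_top_of_le_ne_top (IsLocalRing.maximalIdeal.isMaximal B).ne_top
          (Ideal.map_le_iff_le_comap.2 fun a ha => map_nonunit (algebraMap A B) a ha))
      exact ringKrullDimZero_iff_ringKrullDim_eq_zero.1 inferInstance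
    haveI := S2082.result (R := A) (S := B) (by rw [h0, add_zero, EGA41Lib.ringKrullDim_eq_of_integral hinj])
    exact Module.free_of_flat_of_isLocalRing

end Groth.Agent.S5783
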