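import Groth.Statements.S5808
import Groth.Agent.H4Param.Basic

set_option autoImplicit false
universe u
open EGA41

namespace Groth.Agent.S5808

/-- Let A be a semi-local Noetherian ring with spectrum X and Jacobson radical r, and a an ideal of A
distinct from A with codim(V(a), X) = h > 0 (h is the height of a). Then there exist h elements x_1,
..., x_h of a which are part of a system of parameters of A (so lie in r and can be completed by
elements of r to dim(A) elements generating an ideal modulo which A has finite length) and such that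
codim(V(a), V(x_1 A + ... + x_h A)) = 0, i.e. the image of a in A/(x_1 A + ... + x_h A) has height
0. -/
theorem result (A : Type u) [CommRing A] [IsNoetherianRing A]
    [Finite (MaximalSpectrum A)] (a : Ideal A) (ha : a ≠ ⊤) (h : ℕ) (hh : a.height = h) (hpos : 0 < h) :
    ∃ x : Fin h → A, (∀ i, x i ∈ a) ∧ (∀ i, x i ∈ Ring.jacobson A) ∧
      (∃ ys : List A, (∀ y ∈ ys, y ∈ Ring.jacobson A) ∧
        (((h + ys.length : ℕ) : ℕ∞) : WithBot ℕ∞) = ringKrullDim A ∧
        IsFiniteLength A (A ⧸ (Ideal.span (Set.range x) ⊔ Ideal.ofList ys))) ∧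
      (a.map (Ideal.Quotient.mk (Ideal.span (Set.range x)))).height = 0 := by
  classical
  haveI : Nontrivial A := by
    by_contra hn
    rw [not_nontrivial_iff_subsingleton] at hn
    exact ha (Subsingleton.elim _ _)
  obtain ⟨P, hPp, haP, hPh⟩ := Ideal.exists_isPrime_height_eq hh
  haveI := hPp
  obtain ⟨d, hd⟩ := H4Param.exists_supportDim_eq_nat (A := A) A
  rw [Module.supportDim_self_eq_ringKrullDim] at hd
  obtain ⟨xs, hlen, hxa, hxj, hdim, hht⟩ := H4Param.exists_params a P haP h hh hPh d hd h le_rfl
  let x : Fin h → A := fun i => xs.get (i.cast hlen.symm)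
  have hspan : Ideal.span (Set.range x) = Ideal.ofList xs := by
    rw [Ideal.ofList]
    congr 1
    ext b
    simp only [Set.mem_range, Set.mem_setOf_eq, List.mem_iff_get]
    exact ⟨fun ⟨i, hi⟩ => ⟨i.cast hlen.symm, hi⟩, fun ⟨i, hi⟩ => ⟨i.cast hlen, hi⟩⟩
  obtain ⟨ys, hy, hylen, hfl⟩ := (H4Param.add_length_eq_iff A xs hxj).1
    (by rw [hlen, hdim, Module.supportDim_self_eq_ringKrullDim, hd])
  refine ⟨x, fun i => hxa _ (List.get_mem _ _), fun i => hxj _ (List.get_mem _ _), ⟨ys, hy, ?_, ?_⟩, ?_⟩
  · rw [List.length_append, hlen, Module.supportDim_self_eq_ringKrullDim] at hylen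
    rw [← hylen]
    rfl
  · exact (Submodule.quotEquivOfEq (Ideal.ofList (xs ++ ys) • (⊤ : Submodule A A))
      (Ideal.span (Set.range x) ⊔ Ideal.ofList ys)
      (by rw [hspan, smul_eq_mul, Ideal.mul_top, Ideal.ofList_append])).isFiniteLength hfl
  · rw [hspan]
    let I := Ideal.ofList xs
    have hIP : I ≤ P := (Ideal.span_le.2 hxa).trans haP
    haveI : (P.map (Ideal.Quotient.mk I)).IsPrime :=
      Ideal.map_isPrime_of_surjective Ideal.Quotient.mk_surjective (by rwa [Ideal.mk_ker])
    refine nonpos_iff_eq_zero.1 ((Ideal.height_mono (Ideal.map_mono haP)).trans (le_of_eq ?_))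
    rw [Ideal.height_eq_zero_iff]
    refine ⟨⟨inferInstance, bot_le⟩, fun Q hQ hQle => ?_⟩
    haveI := hQ.1
    have hPQ : P.map (Ideal.Quotient.mk I) ≤ Q := by
      have hq1 : I ≤ Q.comap (Ideal.Quotient.mk I) := fun r hr => by
        show Ideal.Quotient.mk I r ∈ Q
        rw [Ideal.Quotient.eq_zero_iff_mem.2 hr]
        exact Q.zero_mem
      have hq2 : Q.comap (Ideal.Quotient.mk I) ≤ P := by
        refine (Ideal.comap_mono hQle).trans (le_of_eq ?_)
        rw [Ideal.comap_map_of_surjective _ Ideal.Quotient.mk_surjective, ← RingHom.ker_eq_comap_bot, Ideal.mk_ker,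
          sup_eq_left.2 hIP]
      have heq : Q.comap (Ideal.Quotient.mk I) = P := by
        by_contra hne
        have hlt := Ideal.height_strict_mono_of_isPrime (lt_of_le_of_ne hq2 hne)
        exact absurd (hht _ inferInstance hq1 hq2) (not_le.2 (hPh ▸ hlt))
      rw [← heq, Ideal.map_comap_of_surjective _ Ideal.Quotient.mk_surjective]
    exact hPQ

end Groth.Agent.S5808
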