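import Groth.Statements.S5811
import Groth.Agent.FormalFib6.Cplt
import Groth.Agent.S6284

set_option autoImplicit false
set_option linter.style.haveILetI false
universe u
open EGA41

namespace Groth.Agent.S5811

open TensorProduct

/-- Dimension along a flat map which is bijective on maximal ideals with trivial closed fibres. -/
theorem ringKrullDim_eq {B C : Type u} [CommRing B] [CommRing C] [IsNoetherianRing B] [IsNoetherianRing C]
    [Algebra B C] [Module.Flat B C] (h1 : ∀ m : Ideal B, m.IsMaximal → (m.map (algebraMap B C)).IsMaximal)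
    (h2 : ∀ n : Ideal C, n.IsMaximal → ∃ m : Ideal B, m.IsMaximal ∧ m.map (algebraMap B C) = n) :
    ringKrullDim C = ringKrullDim B := by
  have key : ∀ m : Ideal B, m.IsMaximal → (m.map (algebraMap B C)).height = m.height := by
    intro m hm
    haveI := h1 m hm
    haveI : (m.map (algebraMap B C)).LiesOver m :=
      ⟨hm.eq_of_le (Ideal.comap_ne_top _ (h1 m hm).ne_top) Ideal.le_comap_map⟩
    rw [Ideal.height_eq_height_add_of_liesOver_of_hasGoingDown m (m.map (algebraMap B C)), Ideal.map_quotient_self]
    haveI := Ideal.Quotient.nontrivial_iff.2 (h1 m hm).ne_top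
    rw [Ideal.height_bot, add_zero]
  apply le_antisymm
  · refine ringKrullDim_le_iff_isMaximal_height_le _ |>.2 fun n hn => ?_
    obtain ⟨m, hm, rfl⟩ := h2 n hn
    rw [key m hm]
    exact Ideal.height_le_ringKrullDim_of_ne_top hm.ne_top
  · refine ringKrullDim_le_iff_isMaximal_height_le _ |>.2 fun m hm => ?_
    rw [← key m hm]
    exact Ideal.height_le_ringKrullDim_of_ne_top (h1 m hm).ne_top

/-- Let A be a semi-local Noetherian ring (finitely many maximal ideals) with Jacobson radical r, M a
finitely generated A-module, and write Â and M̂ for the r-adic completions of A and M. Then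
dim_Â(M̂) = dim_A(M), the dimension of a module being the Krull dimension of its support. (For M = 0
both sides are ⊥.) -/
theorem result (A : Type u) [CommRing A] [IsNoetherianRing A]
    [Finite (MaximalSpectrum A)] (M : Type u) [AddCommGroup M] [Module A M] [Module.Finite A M] :
    Module.supportDim (AdicCompletion (Ring.jacobson A) A) (AdicCompletion (Ring.jacobson A) M) =
      Module.supportDim A M := by
  let J := Ring.jacobson A
  let C := AdicCompletion J A
  have fg : J.FG := IsNoetherian.noetherian _
  haveI : IsNoetherianRing C := FormalFib6.isNoetherianRing_adicCompletion A J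
  haveI := AdicCompletion.isAdicComplete_self J fg
  haveI : Module.Flat A C := AdicCompletion.flat_of_isNoetherian J
  let a := Module.annihilator A M
  have hker : RingHom.ker (AdicCompletion.evalOneₐ J).toRingHom = J.map (algebraMap A C) :=
    AdicCompletion.ker_evalOneₐ_eq_map J fg
  have hmax : ∀ m : Ideal A, m.IsMaximal → (m.map (algebraMap A C)).IsMaximal := by
    intro m hm
    have hJm : J ≤ m := by rw [show J = _ from Ring.jacobson_eq_sInf_isMaximal A]; exact sInf_le hm
    haveI : (m.map (Ideal.Quotient.mk J)).IsMaximal :=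
      Ideal.IsMaximal.map_of_surjective_of_ker_le Ideal.Quotient.mk_surjective (by rwa [Ideal.mk_ker])
    have h : m.map (algebraMap A C) = (m.map (Ideal.Quotient.mk J)).comap (AdicCompletion.evalOneₐ J).toRingHom := by
      rw [← AdicCompletion.evalOneₐ_comp_algebraMap_eq_mk, ← Ideal.map_map,
        Ideal.comap_map_of_surjective' (AdicCompletion.evalOneₐ J).toRingHom (AdicCompletion.evalOneₐ_surjective J), hker, sup_eq_left.2 (Ideal.map_mono hJm)]
    rw [h]
    exact Ideal.comap_isMaximal_of_surjective _ (AdicCompletion.evalOneₐ_surjective J)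
  have hmax2 : ∀ n : Ideal C, n.IsMaximal → ∃ m : Ideal A, m.IsMaximal ∧ m.map (algebraMap A C) = n := by
    intro n hn
    have hJn : J.map (algebraMap A C) ≤ n := (IsAdicComplete.le_jacobson_bot _).trans (sInf_le ⟨bot_le, hn⟩)
    have h : n = (n.map (AdicCompletion.evalOneₐ J).toRingHom).comap (AdicCompletion.evalOneₐ J).toRingHom := by
      rw [Ideal.comap_map_of_surjective' (AdicCompletion.evalOneₐ J).toRingHom (AdicCompletion.evalOneₐ_surjective J), hker, sup_eq_left.2 hJn]
    haveI : (n.map (AdicCompletion.evalOneₐ J).toRingHom).IsMaximal :=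
      Ideal.IsMaximal.map_of_surjective_of_ker_le (AdicCompletion.evalOneₐ_surjective J) (hker.le.trans hJn)
    have hc : (n.comap (algebraMap A C)).IsMaximal := by
      rw [h, Ideal.comap_comap, AdicCompletion.evalOneₐ_comp_algebraMap_eq_mk]
      exact Ideal.comap_isMaximal_of_surjective _ Ideal.Quotient.mk_surjective
    exact ⟨_, hc, (hmax _ hc).eq_of_le hn.ne_top Ideal.map_comap_le⟩
  rw [← Module.supportDim_eq_of_equiv (AdicCompletion.ofTensorProductEquivOfFiniteNoetherian J M),
    Module.supportDim_eq_ringKrullDim_quotient_annihilator A M]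
  have hsupp : Module.support C (C ⊗[A] M) = PrimeSpectrum.zeroLocus (a.map (algebraMap A C) : Set C) := by
    rw [S6284.result M, Module.support_eq_zeroLocus, PrimeSpectrum.preimage_comap_zeroLocus]
    exact (PrimeSpectrum.zeroLocus_span _).symm
  rw [Module.supportDim, hsupp, ← ringKrullDim_quotient]
  haveI : Module.Flat (A ⧸ a) (C ⧸ a.map (algebraMap A C)) :=
    Module.Flat.of_linearEquiv (Algebra.TensorProduct.quotIdealMapEquivQuotTensor C a).toLinearEquiv
  refine ringKrullDim_eq (B := A ⧸ a) (C := C ⧸ a.map (algebraMap A C)) ?_ ?_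
  · intro m hm
    haveI := Ideal.comap_isMaximal_of_surjective (Ideal.Quotient.mk a) Ideal.Quotient.mk_surjective (K := m)
    have hm' := hmax _ this
    have h : m.map (algebraMap (A ⧸ a) (C ⧸ a.map (algebraMap A C))) =
        ((m.comap (Ideal.Quotient.mk a)).map (algebraMap A C)).map (Ideal.Quotient.mk _) := by
      conv_lhs => rw [← Ideal.map_comap_of_surjective (Ideal.Quotient.mk a) Ideal.Quotient.mk_surjective m]
      rw [Ideal.map_map, Ideal.map_map]
      rfl
    rw [h]
    haveI := hm'
    refine Ideal.IsMaximal.map_of_surjective_of_ker_le Ideal.Quotient.mk_surjective ?_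
    rw [Ideal.mk_ker]
    refine Ideal.map_mono fun r hr => ?_
    show Ideal.Quotient.mk a r ∈ m
    rw [Ideal.Quotient.eq_zero_iff_mem.2 hr]
    exact m.zero_mem
  · intro n hn
    obtain ⟨m, hm, hmn⟩ := hmax2 _ (Ideal.comap_isMaximal_of_surjective (Ideal.Quotient.mk _) Ideal.Quotient.mk_surjective (K := n))
    have ham : a ≤ m := by
      have h1 : a.map (algebraMap A C) ≤ m.map (algebraMap A C) := by
        rw [hmn]
        intro r hr
        show Ideal.Quotient.mk _ r ∈ n
        rw [Ideal.Quotient.eq_zero_iff_mem.2 hr]
        exact n.zero_mem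
      exact (Ideal.map_le_iff_le_comap.1 h1).trans
        (hm.eq_of_le (Ideal.comap_ne_top _ (hmax m hm).ne_top) Ideal.le_comap_map).symm.le
    refine ⟨m.map (Ideal.Quotient.mk a), ?_, ?_⟩
    · haveI := hm
      exact Ideal.IsMaximal.map_of_surjective_of_ker_le Ideal.Quotient.mk_surjective (by rwa [Ideal.mk_ker])
    · rw [Ideal.map_map]
      show m.map ((Ideal.Quotient.mk (a.map (algebraMap A C))).comp (algebraMap A C)) = n
      rw [← Ideal.map_map, hmn, Ideal.map_comap_of_surjective _ Ideal.Quotient.mk_surjective]

end Groth.Agent.S5811
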