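import Groth.Statements.S5864
import Groth.Agent.MorLib.Birat
import Mathlib.AlgebraicGeometry.Fiber
import Mathlib.AlgebraicGeometry.Morphisms.UniversallyOpen

set_option autoImplicit false
universe u
open RadPt

namespace Groth.Agent.S5864

open CategoryTheory AlgebraicGeometry Limits Groth.Agent.MorLib.Birat

theorem mem_of_max {X : Scheme.{u}} {x : X} (h : ∀ z : X, z ⤳ x → z = x) : x ∈ genericPoints X := by
  obtain ⟨z, hz, hzx⟩ := exists_generic x
  exact h z hzx ▸ hz

/-- Flat morphisms map maximal points to maximal points. -/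
theorem map_generic {X Y : Scheme.{u}} (f : X ⟶ Y) [Flat f] {x : X} (hx : x ∈ genericPoints X) :
    f x ∈ genericPoints Y := by
  refine mem_of_max fun w hw => ?_
  obtain ⟨z, hz, rfl⟩ := Flat.generalizingMap f hw
  rw [eq_of_specializes_generic hx hz]

theorem exists_factor {X : Scheme.{u}} {x : X} {K : Type u} [Field K] (t : Spec (CommRingCat.of K) ⟶ X)
    (ht : ∀ a, t a = x) : ∃ m, t = m ≫ X.fromSpecResidueField x := by
  have e : t (IsLocalRing.closedPoint K) = x := ht _
  subst e
  exact ⟨_, (Scheme.descResidueField_stalkClosedPointTo_fromSpecResidueField K X t).symm⟩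

/-- A point over `y` valued in `X`. -/
theorem exists_section {X Y : Scheme.{u}} (f : X ⟶ Y) {y : Y} {x : X} (hx : f x = y)
    (h : Function.Bijective (f.residueFieldMap x).hom) :
    ∃ s : Spec (Y.residueField y) ⟶ X, s ≫ f = Y.fromSpecResidueField y ∧
      (∀ a, s a = x) ∧
      ∀ {K : Type u} [Field K] (t : Spec (CommRingCat.of K) ⟶ X) (r : Spec (CommRingCat.of K) ⟶ Spec (Y.residueField y)),
        (∀ a, t a = x) → t ≫ f = r ≫ Y.fromSpecResidueField y → t = r ≫ s := by
  subst hx
  haveI : IsIso (f.residueFieldMap x) := (ConcreteCategory.isIso_iff_bijective _).2 h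
  refine ⟨inv (Spec.map (f.residueFieldMap x)) ≫ X.fromSpecResidueField x, ?_, fun a => ?_, ?_⟩
  · rw [Category.assoc, IsIso.inv_comp_eq, Scheme.Hom.SpecMap_residueFieldMap_fromSpecResidueField]
  · rw [Scheme.Hom.comp_apply, Scheme.fromSpecResidueField_apply]
  · intro K _ t r ht htr
    obtain ⟨m, rfl⟩ := exists_factor t ht
    rw [Category.assoc, ← Scheme.Hom.SpecMap_residueFieldMap_fromSpecResidueField, ← Category.assoc,
      cancel_mono] at htr
    rw [← htr, Category.assoc, IsIso.hom_inv_id_assoc]

open CategoryTheory AlgebraicGeometry in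
/-- Let f : X → Y be a morphism of schemes whose induced morphism of reduced schemes is birational (f
maps the maximal points of X bijectively onto those of Y, with one-point fibres and trivial residue
field extensions over the maximal points of Y), g : Y' → Y a flat morphism and f' : X ×_Y Y' → Y'
the base change (any cartesian square). Then the morphism of reduced schemes induced by f' is
birational in the same sense. -/
theorem result {X Y X' Y' : Scheme.{u}} {f : X ⟶ Y} {g : Y' ⟶ Y} [Flat g] {f' : X' ⟶ Y'} {g' : X' ⟶ X}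
    (sq : IsPullback g' f' f g) (hf : RadPt.IsBirational f) : RadPt.IsBirational f' := by
  -- the data over a maximal point
  have hX : ∀ y' : Y', g y' ∈ genericPoints Y →
      ∃ (s : Spec (Y.residueField (g y')) ⟶ X) (k : Spec (Y'.residueField y') ⟶ X'),
        s ≫ f = Y.fromSpecResidueField (g y') ∧ k ≫ f' = Y'.fromSpecResidueField y' ∧
          ∀ x' : X', f' x' = y' → (∀ a, k a = x') ∧ Function.Bijective (f'.residueFieldMap x').hom := by
    intro y' hy
    obtain ⟨x, -, hx⟩ := hf.1.surjOn hy
    obtain ⟨s, hs, hs1, hs2⟩ := exists_section f hx ((hf.2 _ hy).2 x hx)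
    obtain ⟨k, hk1, hk2⟩ := sq.exists_lift (Spec.map (g.residueFieldMap y') ≫ s) (Y'.fromSpecResidueField y') (by
      rw [Category.assoc, hs, Scheme.Hom.SpecMap_residueFieldMap_fromSpecResidueField])
    refine ⟨s, k, hs, hk2, fun x' hx' => ?_⟩
    subst hx'
    have hgx : ∀ a, (X'.fromSpecResidueField x' ≫ g') a = x := fun a => by
      refine (hf.2 _ hy).1 _ _ ?_ hx
      rw [Scheme.Hom.comp_apply, Scheme.fromSpecResidueField_apply, ← Scheme.Hom.comp_apply, sq.w,
        Scheme.Hom.comp_apply]
    have e : X'.fromSpecResidueField x' = Spec.map (f'.residueFieldMap x') ≫ k := by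
      apply sq.hom_ext
      · rw [Category.assoc, hk1, ← Category.assoc (Spec.map _) (Spec.map _) s]
        refine hs2 (K := X'.residueField x') _ _ hgx ?_
        rw [Category.assoc, sq.w, ← Category.assoc, ← Scheme.Hom.SpecMap_residueFieldMap_fromSpecResidueField,
          Category.assoc, Category.assoc, Scheme.Hom.SpecMap_residueFieldMap_fromSpecResidueField]
      · rw [Category.assoc, hk2, Scheme.Hom.SpecMap_residueFieldMap_fromSpecResidueField]
    have hka : ∀ a, k a = x' := fun a => by
      haveI : Subsingleton (Spec (Y'.residueField (f' x'))) :=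
        inferInstanceAs (Subsingleton (PrimeSpectrum (Y'.residueField (f' x'))))
      have := congrArg (fun φ : Spec (X'.residueField x') ⟶ X' => φ (IsLocalRing.closedPoint _)) e
      simp only [Scheme.fromSpecResidueField_apply, Scheme.Hom.comp_apply] at this
      exact (congrArg k (Subsingleton.elim _ _)).trans this.symm
    refine ⟨hka, ?_⟩
    obtain ⟨m, hm⟩ := exists_factor (K := Y'.residueField (f' x')) k hka
    have h1 : Spec.map (f'.residueFieldMap x') ≫ m = 𝟙 _ := by
      rw [← cancel_mono (X'.fromSpecResidueField x'), Category.assoc, ← hm, Category.id_comp, ← e]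
    have h2 : m ≫ Spec.map (f'.residueFieldMap x') = 𝟙 _ := by
      rw [← cancel_mono (Y'.fromSpecResidueField (f' x')), Category.assoc,
        Scheme.Hom.SpecMap_residueFieldMap_fromSpecResidueField, ← Category.assoc, ← hm, hk2, Category.id_comp]
    haveI : IsIso (Spec.map (f'.residueFieldMap x')) := ⟨m, h1, h2⟩
    haveI : IsIso (Scheme.Spec.map (f'.residueFieldMap x').op) := this
    haveI := isIso_of_reflects_iso (f'.residueFieldMap x').op Scheme.Spec
    haveI := isIso_of_op (f'.residueFieldMap x')
    exact ConcreteCategory.bijective_of_isIso (f'.residueFieldMap x')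
  haveI : Flat g' := MorphismProperty.of_isPullback sq.flip inferInstance
  -- the image of a maximal point is maximal
  have hmaps : Set.MapsTo f' (genericPoints X') (genericPoints Y') := by
    intro x' hx'
    have hgy : g (f' x') ∈ genericPoints Y := by
      rw [← Scheme.Hom.comp_apply, ← sq.w, Scheme.Hom.comp_apply]
      exact hf.1.mapsTo (map_generic g' hx')
    obtain ⟨s, k, hs, hk, hu⟩ := hX (f' x') hgy
    refine mem_of_max fun w hw => ?_
    have hgw : g w = g (f' x') := eq_of_specializes_generic hgy (hw.map g.continuous)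
    obtain ⟨l, hl1, hl2⟩ := sq.exists_lift (g.fiberToSpecResidueField (g (f' x')) ≫ s) (g.fiberι _) (by
      rw [Category.assoc, hs]; exact (pullback.condition).symm)
    obtain ⟨a, ha⟩ : w ∈ Set.range (g.fiberι (g (f' x'))) := by rw [g.range_fiberι]; exact hgw
    have hab : a ⤳ g.asFiber (f' x') := by
      rw [← (g.fiberι _).isEmbedding.isInducing.specializes_iff, ha, g.fiberι_asFiber]
      exact hw
    have hlb : f' (l (g.asFiber (f' x'))) = f' x' := by
      rw [← Scheme.Hom.comp_apply, hl2, g.fiberι_asFiber]
    have hla : l a ⤳ l (g.asFiber (f' x')) := hab.map l.continuous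
    rw [show l (g.asFiber (f' x')) = x' from
      ((hu _ hlb).1 (IsLocalRing.closedPoint _)).symm.trans ((hu x' rfl).1 _)] at hla
    rw [← ha, ← hl2, Scheme.Hom.comp_apply, eq_of_specializes_generic hx' hla]
  refine ⟨⟨hmaps, fun x₁ h₁ x₂ h₂ he => ?_, fun y' hy' => ?_⟩, fun y' hy' => ?_⟩
  · obtain ⟨s, k, -, -, hu⟩ := hX (f' x₁) (map_generic g (hmaps h₁))
    exact ((hu x₁ rfl).1 (IsLocalRing.closedPoint _)).symm.trans ((hu x₂ he.symm).1 _)
  · obtain ⟨s, k, -, hk, hu⟩ := hX y' (map_generic g hy')
    let a : Spec (Y'.residueField y') := IsLocalRing.closedPoint _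
    have hfa : f' (k a) = y' := by
      rw [← Scheme.Hom.comp_apply, hk, Scheme.fromSpecResidueField_apply]
    refine ⟨k a, mem_of_max fun z hz => ?_, hfa⟩
    have hfz : f' z = y' := eq_of_specializes_generic hy' (hfa ▸ hz.map f'.continuous)
    exact ((hu z hfz).1 a).symm
  · obtain ⟨s, k, -, -, hu⟩ := hX y' (map_generic g hy')
    exact ⟨fun x₁ x₂ h₁ h₂ => ((hu x₁ h₁).1 (IsLocalRing.closedPoint _)).symm.trans ((hu x₂ h₂).1 _),
      fun x' hx' => (hu x' hx').2⟩

end Groth.Agent.S5864
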