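import Groth.Statements.S5873
import Groth.Agent.GenRdCons.GenericAss

set_option autoImplicit false
universe u
open CategoryTheory AlgebraicGeometry
open Cons9

namespace Groth.Agent.S5873

/-- Let S be an integral Noetherian scheme with generic point η, f : X ⟶ S a morphism of finite type and
F a coherent O_X-module; for s in S write F_s for the pullback of F to the scheme-theoretic fibre
X_s. For an associated point x of F_η let Z_x denote the closure in X of the image of x, and (Z_x)_s
its trace on X_s (the preimage under X_s ⟶ X). Then there is an open neighbourhood U of η such that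
for every s in U: (a) the associated points of F_s are exactly the maximal points (those admitting
no proper generization inside the set) of the sets (Z_x)_s, for x running over the associated points
of F_η, so that the associated prime cycles of F_s are the irreducible components of the (Z_x)_s;
(b) for distinct associated points x, x' of F_η the maximal points of (Z_x)_s and of (Z_x')_s are
pairwise distinct; (c) for every associated point x of F_η and every maximal point z of (Z_x)_s, the
point z is a maximal associated point of F_s (no other associated point of F_s generizes it) if and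
only if x is a maximal associated point of F_η. -/
theorem result {X S : Scheme.{u}} [IsIntegral S] [IsNoetherian S]
    (f : X ⟶ S) [LocallyOfFiniteType f] [QuasiCompact f]
    (F : X.Modules) [Coh.IsQCoh F] (hF : CohB1.IsFP F) :
    ∃ U : S.Opens, genericPoint S ∈ U ∧ ∀ s ∈ U,
      (AssSch.Ass ((Scheme.Modules.pullback (f.fiberι s)).obj F) =
          ⋃ x ∈ AssSch.Ass ((Scheme.Modules.pullback (f.fiberι (genericPoint S))).obj F),
            {z : ↥(f.fiber s) | z ∈ ((f.fiberι s).base ⁻¹' closure {(f.fiberι (genericPoint S)).base x}) ∧ ∀ z' ∈ ((f.fiberι s).base ⁻¹' closure {(f.fiberι (genericPoint S)).base x}), z' ⤳ z → z' = z}) ∧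
      (∀ x ∈ AssSch.Ass ((Scheme.Modules.pullback (f.fiberι (genericPoint S))).obj F), ∀ x' ∈ AssSch.Ass ((Scheme.Modules.pullback (f.fiberι (genericPoint S))).obj F), x ≠ x' →
          Disjoint {z : ↥(f.fiber s) | z ∈ ((f.fiberι s).base ⁻¹' closure {(f.fiberι (genericPoint S)).base x}) ∧ ∀ z' ∈ ((f.fiberι s).base ⁻¹' closure {(f.fiberι (genericPoint S)).base x}), z' ⤳ z → z' = z}
            {z : ↥(f.fiber s) | z ∈ ((f.fiberι s).base ⁻¹' closure {(f.fiberι (genericPoint S)).base x'}) ∧ ∀ z' ∈ ((f.fiberι s).base ⁻¹' closure {(f.fiberι (genericPoint S)).base x'}), z' ⤳ z → z' = z}) ∧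
      (∀ x ∈ AssSch.Ass ((Scheme.Modules.pullback (f.fiberι (genericPoint S))).obj F),
        ∀ z ∈ {z : ↥(f.fiber s) | z ∈ ((f.fiberι s).base ⁻¹' closure {(f.fiberι (genericPoint S)).base x}) ∧ ∀ z' ∈ ((f.fiberι s).base ⁻¹' closure {(f.fiberι (genericPoint S)).base x}), z' ⤳ z → z' = z},
          ((∀ y ∈ AssSch.Ass ((Scheme.Modules.pullback (f.fiberι s)).obj F), y ⤳ z → y = z) ↔
            (∀ y ∈ AssSch.Ass ((Scheme.Modules.pullback (f.fiberι (genericPoint S))).obj F), y ⤳ x → y = x))) := by
  haveI : LocallyOfFinitePresentation f := by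
    haveI : IsLocallyNoetherian X := LocallyOfFiniteType.isLocallyNoetherian f
    infer_instance
  obtain ⟨U, hη, hU⟩ := GenRdCons.exists_nhd_cycles f F hF
  refine ⟨U, hη, fun s hs => ?_⟩
  let ι := f.fiberι s
  let ιη := f.fiberι (genericPoint S)
  have hinj : Function.Injective ι.base := ι.isEmbedding.injective
  have hηinj : Function.Injective ιη.base := ιη.isEmbedding.injective
  have hmem : ∀ z : ↥(f.fiber s), f (ι z) ∈ U := fun z => by
    rw [AssDimLoci.apply_fiberι f s z]; exact hs
  -- generic associated points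
  have hA : ∀ x, x ∈ AssSch.Ass ((Scheme.Modules.pullback (f.fiberι (genericPoint S))).obj F) ↔
      ιη x ∈ GenRdCons.genAss f F := fun x =>
    (AssDimLoci.mem_ass_iff f F hF _ x).trans (iff_and_self.2 fun _ => AssDimLoci.apply_fiberι f _ x)
  have hA' : ∀ y ∈ GenRdCons.genAss f F, ∃ x ∈ AssSch.Ass ((Scheme.Modules.pullback (f.fiberι (genericPoint S))).obj F),
      ιη x = y := fun y hy => by
    obtain ⟨x, rfl⟩ : y ∈ Set.range ιη := by rw [Scheme.Hom.range_fiberι]; exact hy.1
    exact ⟨x, (hA x).2 hy, rfl⟩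
  -- maximal points of a trace are maximal in the fibre inside the cycle
  have hmax : ∀ (x : ↥(f.fiber (genericPoint S))) (z : ↥(f.fiber s)),
      (z ∈ ι.base ⁻¹' closure {ιη.base x} ∧ ∀ z' ∈ ι.base ⁻¹' closure {ιη.base x}, z' ⤳ z → z' = z) ↔
      (ιη x ⤳ ι z ∧ ∀ t', ιη x ⤳ t' → AssDimLoci.Gen f (ι z) t' → t' = ι z) := fun x z => by
    rw [Set.mem_preimage, ← specializes_iff_mem_closure]
    refine and_congr_right fun _ => ⟨fun h t' h1 h2 => ?_, fun h z' h1 h2 => hinj
      (h _ (specializes_iff_mem_closure.2 h1) ((AssDimLoci.gen_fiberι_iff f s z z').2 h2))⟩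
    obtain ⟨z', rfl⟩ := AssDimLoci.exists_fiberι_eq f h2
    rw [h z' (specializes_iff_mem_closure.1 h1) ((AssDimLoci.gen_fiberι_iff f s z z').1 h2)]
  -- an associated point is a maximal point of a cycle of the same degree
  have hass : ∀ z ∈ AssSch.Ass ((Scheme.Modules.pullback (f.fiberι s)).obj F),
      ∃ x ∈ AssSch.Ass ((Scheme.Modules.pullback (f.fiberι (genericPoint S))).obj F),
        ιη x ⤳ ι z ∧ FibDim.rd f (ι z) = FibDim.rd f (ιη x) ∧
        ∀ t', ιη x ⤳ t' → AssDimLoci.Gen f (ι z) t' → t' = ι z := by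
    intro z hz
    obtain ⟨y, hy, hyz, he⟩ := (hU (ι z) (hmem z)).1 ((AssDimLoci.mem_ass_iff f F hF s z).1 hz)
    obtain ⟨x, hx, rfl⟩ := hA' y hy
    refine ⟨x, hx, hyz, he, fun t' h1 hg => ?_⟩
    obtain ⟨t, ht, hgt, htmax, hle⟩ := AssDimLoci.exists_maximal f (S := closure {ιη x}) h1.mem_closure
    have h3 := ((hU t (by rw [hgt.2, hg.2]; exact hmem z)).2 _ hy (specializes_iff_mem_closure.2 ht)
      fun t'' k1 k2 => htmax t'' k1.mem_closure k2).1
    by_contra hne
    have h4 := FibDim.rd_lt f hg.1 hne hg.2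
    have h5 := hle t' h1.mem_closure (AssDimLoci.Gen.refl f t')
    omega
  refine ⟨?_, ?_, ?_⟩
  · ext z
    simp only [Set.mem_iUnion, Set.mem_ofPred_eq, exists_prop]
    constructor
    · intro hz
      obtain ⟨x, hx, h1, -, h2⟩ := hass z hz
      exact ⟨x, hx, (hmax x z).2 ⟨h1, h2⟩⟩
    · rintro ⟨x, hx, hz⟩
      obtain ⟨h1, h2⟩ := (hmax x z).1 hz
      exact (AssDimLoci.mem_ass_iff f F hF s z).2 ((hU (ι z) (hmem z)).2 _ ((hA x).1 hx) h1 h2).2.1
  · intro x hx x' hx' hne
    refine Set.disjoint_left.2 fun z hz hz' => hne ?_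
    obtain ⟨h1, h2⟩ := (hmax x z).1 hz
    obtain ⟨h1', h2'⟩ := (hmax x' z).1 hz'
    have ha := ((hU (ι z) (hmem z)).2 _ ((hA x).1 hx) h1 h2).2.2 _ ((hA x').1 hx') h1'
    have hb := ((hU (ι z) (hmem z)).2 _ ((hA x').1 hx') h1' h2').2.2 _ ((hA x).1 hx) h1
    exact hηinj (hb.antisymm ha).eq
  · intro x hx z hz
    obtain ⟨h1, h2⟩ := (hmax x z).1 hz
    obtain ⟨he, -, hincl⟩ := (hU (ι z) (hmem z)).2 _ ((hA x).1 hx) h1 h2
    constructor
    · intro hzmax y hy hyx
      by_contra hne
      have hlt := FibDim.rd_lt f (hyx.map ιη.continuous) (fun e => hne (hηinj e))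
        ((AssDimLoci.apply_fiberι f _ y).trans (AssDimLoci.apply_fiberι f _ x).symm)
      obtain ⟨t, ht, hg, htmax, -⟩ := AssDimLoci.exists_maximal f (S := closure {ιη y})
        (x := ι z) ((hyx.map ιη.continuous).trans h1).mem_closure
      obtain ⟨w, rfl⟩ := AssDimLoci.exists_fiberι_eq f hg
      obtain ⟨hw, hwd, -⟩ := (hU (ι w) (hmem w)).2 _ ((hA y).1 hy) (specializes_iff_mem_closure.2 ht)
        fun t'' k1 k2 => htmax t'' k1.mem_closure k2
      have := hzmax w ((AssDimLoci.mem_ass_iff f F hF s w).2 hwd) ((AssDimLoci.gen_fiberι_iff f s z w).1 hg)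
      subst this
      exact absurd (hw.symm.trans he) (Nat.ne_of_gt hlt)
    · intro hxmax y hy hyz
      obtain ⟨x', hx', h3, -, -⟩ := hass y hy
      have hx'x : ιη x' ⤳ ιη x := hincl _ ((hA x').1 hx') (h3.trans (hyz.map ι.continuous))
      obtain rfl := hxmax x' hx' (ιη.isEmbedding.isInducing.specializes_iff.1 hx'x)
      exact hinj (h2 _ h3 ((AssDimLoci.gen_fiberι_iff f s z y).2 hyz))

end Groth.Agent.S5873
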