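import Groth.Statements.S5875
import Groth.Agent.GenRdCons.Supp

set_option autoImplicit false
universe u
open CategoryTheory AlgebraicGeometry
open Cons9

namespace Groth.Agent.S5875

/-- Let f : X ⟶ S be a morphism of finite presentation (locally of finite presentation, quasi-compact
and quasi-separated) and F a quasi-coherent O_X-module of finite presentation; for s in S let F_s be
the pullback of F to the scheme-theoretic fibre X_s and E'(s) the finite set of dimensions of the
irreducible components of the support of F_s (the points of X_s where the stalk of F_s is nonzero),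
i.e. of the maximal associated prime cycles of F_s. Then s ↦ E'(s) is a locally constructible
function on S: for every finite set Φ of natural numbers, the set of s with E'(s) = Φ is locally
constructible. -/
theorem result {X S : Scheme.{u}} (f : X ⟶ S)
    [LocallyOfFinitePresentation f] [QuasiCompact f] [QuasiSeparated f]
    (F : X.Modules) [Coh.IsQCoh F] (hF : CohB1.IsFP F) (Φ : Finset ℕ) :
    Topology.IsLocallyConstructible {s : S |
      (fun Z : Set ↥(CohB1.support ((Scheme.Modules.pullback (f.fiberι s)).obj F)) => topologicalKrullDim ↥Z) ''
          irreducibleComponents ↥(CohB1.support ((Scheme.Modules.pullback (f.fiberι s)).obj F)) =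
        (fun n : ℕ => (n : WithBot ℕ∞)) '' (Φ : Set ℕ)} := by
  convert GenRdCons.isLocallyConstructible_dims f (GenRdCons.isLocallyConstructible_support hF)
    ((fun n : ℕ => (n : WithBot ℕ∞)) '' (Φ : Set ℕ)) using 1
  ext s
  have hs := AssDimLoci.support_fib f F hF s
  have hl : IsLocallyClosed (f.fiberι s ⁻¹' CohB1.support F) :=
    ((QCoh.isClosed_support_of_isFT (QCoh.isQCoh_of_isFP hF) (QCoh.isFT_of_isFP hF)).preimage
      (f.fiberι s).continuous).isLocallyClosed
  show GenRdCons.dimSet ↥(CohB1.support ((Scheme.Modules.pullback (f.fiberι s)).obj F)) = _ ↔ _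
  rw [GenRdCons.dimSet_homeo (Homeomorph.setCongr hs), GenRdCons.dimSet_fibre f _ s hl]
  rfl

end Groth.Agent.S5875
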