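import Groth.Statements.S5876
import Groth.Agent.RelSpecX.Spec
import Groth.Agent.RelSpecX.Gamma
import Groth.Agent.RelSpecX.AffHom
import Groth.Agent.MorLib.LimExists

set_option autoImplicit false
set_option backward.isDefEq.respectTransparency false
set_option backward.isDefEq.respectTransparency.types false
set_option linter.style.haveILetI false
universe u
open CategoryTheory CategoryTheory.Limits AlgebraicGeometry
open Lim8

namespace Groth.Agent.S5876

section

open CategoryTheory CategoryTheory.Limits AlgebraicGeometry TopologicalSpace Opposite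
open RelSpec Groth.Agent.RelSpecX

variable {S : Scheme.{u}}

theorem specMap_id (A : QCAlg S) : QCAlg.specMap (𝟙 A) = 𝟙 A.spec := by
  refine spec_hom_ext fun y => ?_
  obtain ⟨U, hU, hy, -⟩ := exists_isAffineOpen_mem_and_subset (x := y) (U := ⊤) trivial
  refine ⟨U, hU, hy, ?_⟩
  rw [QCAlg.ι_specMap, QCAlg.id_hom, NatTrans.id_app, Spec.map_id, Category.id_comp, Category.comp_id]

theorem specMap_comp {A B C : QCAlg S} (φ : A ⟶ B) (ψ : B ⟶ C) :
    QCAlg.specMap (φ ≫ ψ) = QCAlg.specMap ψ ≫ QCAlg.specMap φ := by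
  refine spec_hom_ext fun y => ?_
  obtain ⟨U, hU, hy, -⟩ := exists_isAffineOpen_mem_and_subset (x := y) (U := ⊤) trivial
  refine ⟨U, hU, hy, ?_⟩
  rw [QCAlg.ι_specMap, QCAlg.comp_hom, NatTrans.comp_app, Spec.map_comp, Category.assoc,
    reassoc_of% (QCAlg.ι_specMap U hU ψ), QCAlg.ι_specMap U hU φ]

theorem algHom_specMap {A B : QCAlg S} (φ : A ⟶ B) :
    AffAlg.algHom A.π B.π (QCAlg.specMap φ) (QCAlg.specMap_π φ) =
      A.gammaMap ≫ φ.hom ≫ inv B.gammaMap := by
  refine hom_ext_affine B.π fun U hU => ?_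
  rw [algHom_app, NatTrans.comp_app, NatTrans.comp_app, NatIso.isIso_inv_app, ← Category.assoc,
    IsIso.eq_comp_inv]
  have h1 := QCAlg.ι_specMap U hU φ
  rw [ι_eq B U hU, ι_eq A U hU, Category.assoc,
    ← IsAffineOpen.SpecMap_appLE_fromSpec (QCAlg.specMap φ) (hU.preimage A.π) (hU.preimage B.π)
      (preimage_eq A.π B.π (QCAlg.specMap φ) (QCAlg.specMap_π φ) U).le,
    ← Spec.map_comp_assoc, ← Spec.map_comp_assoc, cancel_mono] at h1
  have h2 := Spec.map_injective h1
  rw [QCAlg.gammaMap_app B U hU, QCAlg.gammaMap_app A U hU]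
  exact h2

variable {J : Type u} [SmallCategory J] [IsFiltered J] (A : J ⥤ QCAlg S)

/-- The inverse system of the relative spectra. -/
noncomputable def specDiagram : Jᵒᵖ ⥤ Scheme.{u} where
  obj j := (A.obj j.unop).spec
  map f := QCAlg.specMap (A.map f.unop)
  map_id j := by rw [unop_id, A.map_id, specMap_id]
  map_comp f g := by rw [unop_comp, A.map_comp, specMap_comp]

theorem isAffineHom_specMap {A B : QCAlg S} (φ : A ⟶ B) : IsAffineHom (QCAlg.specMap φ) := by
  haveI : IsAffineHom (QCAlg.specMap φ ≫ A.π) := by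
    rw [QCAlg.specMap_π]
    infer_instance
  exact IsAffineHom.of_comp (QCAlg.specMap φ) A.π

theorem isIso_comparison (c : Cocone A) (hc : IsColimit c) (K : Cone (specDiagram A)) (hK : IsLimit K)
    (w : c.pt.spec ⟶ K.pt) (hw : ∀ j, w ≫ K.π.app (op j) = QCAlg.specMap (c.ι.app j)) :
    IsIso w := by
  obtain ⟨j₀⟩ := IsFiltered.nonempty (C := J)
  haveI : ∀ {i j : Jᵒᵖ} (f : i ⟶ j), IsAffineHom ((specDiagram A).map f) := fun f =>
    isAffineHom_specMap _
  haveI : IsAffineHom (K.π.app (op j₀)) := isAffineHom_π_app (specDiagram A) K hK (op j₀)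
  let g : K.pt ⟶ S := K.π.app (op j₀) ≫ (A.obj j₀).π
  have hstep : ∀ {j k : J} (f : j ⟶ k), K.π.app (op j) ≫ (A.obj j).π = K.π.app (op k) ≫ (A.obj k).π := by
    intro j k f
    rw [← K.w f.op, Category.assoc]
    exact congrArg (K.π.app (op k) ≫ ·) (QCAlg.specMap_π (A.map f))
  have hg : ∀ j, K.π.app (op j) ≫ (A.obj j).π = g := fun j =>
    (hstep (IsFiltered.leftToMax j j₀)).trans (hstep (IsFiltered.rightToMax j j₀)).symm
  haveI : IsAffineHom g := inferInstanceAs (IsAffineHom (_ ≫ _))
  let B : QCAlg S := QCAlg.directImage g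
  let app : ∀ j, A.obj j ⟶ B := fun j =>
    ⟨inv (A.obj j).gammaMap ≫ AffAlg.algHom (A.obj j).π g (K.π.app (op j)) (hg j), by
      have h := (A.obj j).π_c_gammaMap
      rw [← IsIso.eq_comp_inv] at h
      rw [← Category.assoc, ← h]
      exact AffAlg.algHom_comm _ _ _ _⟩
  have hnat : ∀ {j k : J} (f : j ⟶ k), A.map f ≫ app k = app j := by
    intro j k f
    refine QCAlg.hom_ext ?_
    show (A.map f).hom ≫ inv (A.obj k).gammaMap ≫ AffAlg.algHom (A.obj k).π g (K.π.app (op k)) (hg k) =
      inv (A.obj j).gammaMap ≫ AffAlg.algHom (A.obj j).π g (K.π.app (op j)) (hg j)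
    rw [IsIso.eq_inv_comp]
    have h := algHom_comp (A.obj j).π (A.obj k).π g (QCAlg.specMap (A.map f)) (QCAlg.specMap_π _)
      (K.π.app (op k)) (hg k)
    rw [algHom_specMap] at h
    simp only [Category.assoc] at h
    rw [← h]
    congr 1
    exact K.w f.op
  let s : Cocone A := ⟨B, { app := app, naturality := fun j k f => (hnat f).trans (Category.comp_id _).symm }⟩
  let ψ : c.pt ⟶ B := hc.desc s
  have hψ : ∀ j, c.ι.app j ≫ ψ = app j := hc.fac s
  have hwπ : w ≫ g = c.pt.π := by
    show w ≫ K.π.app (op j₀) ≫ (A.obj j₀).π = _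
    rw [← Category.assoc, hw]
    exact QCAlg.specMap_π (c.ι.app j₀)
  let a : B ⟶ c.pt := ⟨AffAlg.algHom g c.pt.π w hwπ ≫ c.pt.gammaMap, by
    show g.c ≫ _ = _
    rw [← Category.assoc, AffAlg.algHom_comm]
    exact c.pt.π_c_gammaMap⟩
  have hψa : ψ ≫ a = 𝟙 c.pt := by
    refine hc.hom_ext fun j => ?_
    rw [reassoc_of% hψ j, Category.comp_id]
    refine QCAlg.hom_ext ?_
    show (inv (A.obj j).gammaMap ≫ AffAlg.algHom (A.obj j).π g (K.π.app (op j)) (hg j)) ≫
      AffAlg.algHom g c.pt.π w hwπ ≫ c.pt.gammaMap = (c.ι.app j).hom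
    rw [Category.assoc, IsIso.inv_comp_eq, ← Category.assoc,
      ← algHom_comp (A.obj j).π g c.pt.π (K.π.app (op j)) (hg j) w hwπ]
    simp only [hw]
    rw [algHom_specMap]
    simp
  let ω : AffAlg.algHoms c.pt.π g := ⟨c.pt.gammaMap ≫ ψ.hom, by
    rw [← Category.assoc, c.pt.π_c_gammaMap]
    exact ψ.comm⟩
  let v : K.pt ⟶ c.pt.spec := ofAlgHom c.pt.π g ω
  have hvπ : v ≫ c.pt.π = g := ofAlgHom_comp _ _ _
  refine ⟨⟨v, ?_, ?_⟩⟩
  · refine algHom_injective c.pt.π c.pt.π (by rw [Category.assoc, hvπ, hwπ]) (Category.id_comp _)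
      fun U => ?_
    rw [algHom_comp c.pt.π g c.pt.π v hvπ w hwπ, algHom_ofAlgHom, algHom_id]
    refine NatTrans.congr_app ?_ _
    show (c.pt.gammaMap ≫ ψ.hom) ≫ AffAlg.algHom g c.pt.π w hwπ = 𝟙 _
    rw [← cancel_mono c.pt.gammaMap, Category.id_comp, Category.assoc, Category.assoc]
    conv_rhs => rw [← Category.comp_id c.pt.gammaMap]
    congr 1
    exact congrArg QCAlg.Hom.hom hψa
  · refine hK.hom_ext fun j => ?_
    obtain ⟨j⟩ := j
    rw [Category.assoc, Category.id_comp, hw]
    refine algHom_injective (A.obj j).π g (by rw [Category.assoc, QCAlg.specMap_π]; exact hvπ) (hg j)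
      fun U => ?_
    rw [algHom_comp (A.obj j).π c.pt.π g (QCAlg.specMap (c.ι.app j)) (QCAlg.specMap_π _) v hvπ,
      algHom_specMap, algHom_ofAlgHom]
    refine NatTrans.congr_app ?_ _
    have h := congrArg QCAlg.Hom.hom (hψ j)
    show ((A.obj j).gammaMap ≫ (c.ι.app j).hom ≫ inv c.pt.gammaMap) ≫ c.pt.gammaMap ≫ ψ.hom = _
    simp only [Category.assoc, IsIso.inv_hom_id_assoc]
    rw [← IsIso.eq_inv_comp]
    exact h

end

/-- Let S be a scheme and (A_j) a filtered direct system of quasi-coherent O_S-algebras, indexed by a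
small filtered category, with a colimit cocone with vertex A. Write S_j = Spec(A_j) and S' = Spec(A)
for the relative spectra, and u_j : S' ⟶ S_j for the morphisms induced by the coprojections A_j ⟶ A.
Then (S', (u_j)) is a limit of the inverse system (S_j) in the category of all schemes (not only of
S-schemes): for every scheme T and every family of morphisms v_j : T ⟶ S_j compatible with the
transition morphisms, there is exactly one morphism w : T ⟶ S' whose composite with each u_j is v_j. -/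
theorem result {S : Scheme.{u}} {J : Type u} [SmallCategory J] [IsFiltered J]
    (A : J ⥤ RelSpec.QCAlg S) (c : Cocone A) (hc : IsColimit c)
    (T : Scheme.{u}) (v : ∀ j : J, T ⟶ (A.obj j).spec)
    (hv : ∀ (j j' : J) (φ : j ⟶ j'), v j' ≫ RelSpec.QCAlg.specMap (A.map φ) = v j) :
    ∃! w : T ⟶ c.pt.spec, ∀ j : J, w ≫ RelSpec.QCAlg.specMap (c.ι.app j) = v j := by
  haveI : ∀ {i j : Jᵒᵖ} (f : i ⟶ j), IsAffineHom ((specDiagram A).map f) := fun f =>
    isAffineHom_specMap _
  haveI : IsCofiltered Jᵒᵖ := isCofiltered_op_of_isFiltered J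
  obtain ⟨j₀⟩ := IsFiltered.nonempty (C := J)
  haveI := Groth.Agent.MorLib.LimExists.hasLimit (specDiagram A)
  let Kc : Cone (specDiagram A) := limit.cone _
  let hK : IsLimit Kc := limit.isLimit _
  let cw : Cone (specDiagram A) :=
    { pt := c.pt.spec
      π := { app := fun j => RelSpec.QCAlg.specMap (c.ι.app j.unop)
             naturality := fun j k f => by
               refine (Category.id_comp _).trans ?_
               show _ = RelSpec.QCAlg.specMap _ ≫ RelSpec.QCAlg.specMap (A.map f.unop)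
               rw [← specMap_comp, c.w] } }
  haveI : IsIso (hK.lift cw) := isIso_comparison A c hc Kc hK (hK.lift cw) fun j => hK.fac cw (Opposite.op j)
  let cv : Cone (specDiagram A) :=
    { pt := T
      π := { app := fun j => v j.unop
             naturality := fun j k f => (Category.id_comp _).trans (hv k.unop j.unop f.unop).symm } }
  refine ⟨hK.lift cv ≫ inv (hK.lift cw), fun j => ?_, fun w' hw' => ?_⟩
  · rw [← show hK.lift cw ≫ Kc.π.app (Opposite.op j) = RelSpec.QCAlg.specMap (c.ι.app j) from hK.fac cw (Opposite.op j),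
      Category.assoc, IsIso.inv_hom_id_assoc]
    exact hK.fac cv (Opposite.op j)
  · rw [IsIso.eq_comp_inv]
    refine hK.hom_ext fun j => ?_
    rw [Category.assoc, hK.fac cw j, hK.fac cv j]
    exact hw' j.unop

end Groth.Agent.S5876
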