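import Groth.Statements.S5882
import Groth.Agent.ConsPropLib.LociMod
import Groth.Agent.FibDim.Comp

set_option autoImplicit false
universe u
open CategoryTheory AlgebraicGeometry
open ConsProp

namespace Groth.Agent.S5882

theorem eq_genericPoint_of_specializes {S : Scheme.{u}} [IrreducibleSpace S] {y : S} (h : y ⤳ genericPoint S) :
    y = genericPoint S :=
  (h.antisymm ((genericPoint_spec S).specializes (Set.mem_univ _))).eq

/-- Let P(X, F, k) be a constructible property of algebraic schemes with a coherent module, S an
irreducible scheme with generic point η, u : X ⟶ S a morphism of finite presentation (locally of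
finite presentation, quasi-compact and quasi-separated), F a quasi-coherent O_X-module of finite
presentation, and E the set of points s of S such that P holds for (X_s, F_s) over κ(s). Then one of
E and its complement is a neighbourhood of η in S. -/
theorem result
    {P : ∀ ⦃Y T : Scheme.{u}⦄, (Y ⟶ T) → Y.Modules → Prop} (hP : ConsProp.IsConsMod P)
    {X S : Scheme.{u}} [IrreducibleSpace S] (u : X ⟶ S)
    [LocallyOfFinitePresentation u] [QuasiCompact u] [QuasiSeparated u]
    (F : X.Modules) [Coh.IsQCoh F] (hF : CohB1.IsFP F) :
    genericPoint S ∈ interior (ConsProp.locusMod P u F) ∨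
      genericPoint S ∈ interior (ConsProp.locusMod P u F)ᶜ := by
  have hC := Groth.Agent.ConsPropLib.isLocallyConstructible_locusMod hP u F hF
  by_cases h : genericPoint S ∈ ConsProp.locusMod P u F
  · exact .inl (mem_interior_iff_mem_nhds.2 (Groth.Agent.FibDim.mem_nhds_of_generizations hC
      fun y hy => (eq_genericPoint_of_specializes hy).symm ▸ h))
  · exact .inr (mem_interior_iff_mem_nhds.2 (Groth.Agent.FibDim.mem_nhds_of_generizations (C := (ConsProp.locusMod P u F)ᶜ)
      (fun x => let ⟨U, h1, h2, h3⟩ := hC x; ⟨U, h1, h2, h3.compl⟩)
      fun y hy => (eq_genericPoint_of_specializes hy).symm ▸ h))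

end Groth.Agent.S5882
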