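import Groth.Statements.S5883
import Groth.Agent.ConsPropLib.LociMod
import Groth.Agent.FibDim.Comp

set_option autoImplicit false
universe u
open CategoryTheory AlgebraicGeometry
open ConsProp

namespace Groth.Agent.S5883

theorem eq_genericPoint_of_specializes {S : Scheme.{u}} [IrreducibleSpace S] {y : S} (h : y ⤳ genericPoint S) :
    y = genericPoint S :=
  (h.antisymm ((genericPoint_spec S).specializes (Set.mem_univ _))).eq

/-- Let P(X, F, k) be an ind-constructible property of algebraic schemes with a coherent module, S an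
irreducible scheme with generic point η, u : X ⟶ S a morphism of finite presentation (locally of
finite presentation, quasi-compact and quasi-separated), F a quasi-coherent O_X-module of finite
presentation, and E the set of points s of S such that P holds for (X_s, F_s) over κ(s). If η lies
in E, then E is a neighbourhood of η in S. -/
theorem result
    {P : ∀ ⦃Y T : Scheme.{u}⦄, (Y ⟶ T) → Y.Modules → Prop} (hP : ConsProp.IsIndConsMod P)
    {X S : Scheme.{u}} [IrreducibleSpace S] (u : X ⟶ S)
    [LocallyOfFinitePresentation u] [QuasiCompact u] [QuasiSeparated u]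
    (F : X.Modules) [Coh.IsQCoh F] (hF : CohB1.IsFP F)
    (hη : genericPoint S ∈ ConsProp.locusMod P u F) :
    genericPoint S ∈ interior (ConsProp.locusMod P u F) := by
  obtain ⟨U, hU, hηU, T, hT, hET⟩ := Groth.Agent.ConsPropLib.isIndConstructible_locusMod hP u F hF (genericPoint S)
  let W : S.Opens := ⟨U, hU⟩
  have h1 : (⟨genericPoint S, hηU⟩ : ↥U) ∈ ⋃₀ T := hET ▸ hη
  obtain ⟨C, hC, hηC⟩ := h1
  have h2 : C ∈ nhds (⟨genericPoint S, hηU⟩ : ↥U) :=
    Groth.Agent.FibDim.mem_nhds_of_generizations (Y := (W : Scheme.{u})) (hT C hC) fun y hy => by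
      have h3 : (Subtype.val y : S) = genericPoint S :=
        eq_genericPoint_of_specializes (hy.map continuous_subtype_val)
      rwa [show y = ⟨genericPoint S, hηU⟩ from Subtype.ext h3]
  refine mem_interior_iff_mem_nhds.2 (Filter.mem_of_superset
    ((hU.isOpenMap_subtype_val).image_mem_nhds h2) ?_)
  rintro _ ⟨y, hy, rfl⟩
  have : y ∈ (Subtype.val ⁻¹' ConsProp.locusMod P u F : Set ↥U) := hET ▸ Set.mem_sUnion_of_mem hy hC
  exact this

end Groth.Agent.S5883
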