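import Groth.Statements.S5911
import Groth.Agent.FlatSep.Basic
-- import your own Groth.Agent.* helpers here

set_option autoImplicit false
universe u
open TensorProduct
open EGA43

namespace Groth.Agent.S5911

/-- Let A be a Noetherian ring, J an ideal of A and M an A-module which is ideally separated for the
J-adic topology (for every ideal a of A the module a ⊗_A M is J-adically separated). Let (p_i) be a
finite family of prime ideals of A containing J, let J_n be the intersection of the symbolic powers
p_i^{(n)} (preimages in A of the n-th powers of the maximal ideals of the local rings A_{p_i}), and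
assume every power J^n contains some J_m. Then M is flat if and only if (A/J) ⊗_A M is flat over A/J
and M_{p_i} is flat over A_{p_i} for every i. -/
theorem result {A : Type u} [CommRing A] [IsNoetherianRing A]
    (J : Ideal A) (M : Type u) [AddCommGroup M] [Module A M]
    (hsep : ∀ a : Ideal A, IsHausdorff J (↥a ⊗[A] M))
    {r : ℕ} (p : Fin r → Ideal A) [∀ i, (p i).IsPrime] (hp : ∀ i, J ≤ p i)
    (htop : ∀ n : ℕ, ∃ m : ℕ,
      ⨅ i, Ideal.comap (algebraMap A (Localization.AtPrime (p i))) (IsLocalRing.maximalIdeal (Localization.AtPrime (p i)) ^ m) ≤ J ^ n) :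
    Module.Flat A M ↔
      Module.Flat (A ⧸ J) ((A ⧸ J) ⊗[A] M) ∧
        ∀ i, Module.Flat (Localization.AtPrime (p i)) (LocalizedModule (p i).primeCompl M) := by
  classical
  constructor
  · intro h
    refine ⟨inferInstance, fun i => ?_⟩
    show Module.Flat (Localization (p i).primeCompl) (LocalizedModule (p i).primeCompl M)
    exact Module.Flat.of_linearEquiv (R := Localization (p i).primeCompl)
      (LocalizedModule.equivTensorProduct (p i).primeCompl M)
  · rintro ⟨h1, h2⟩
    let L : ULift.{u} (Fin r) → Type u := fun i => Localization.AtPrime (p i.down)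
    letI : ∀ i, CommRing (L i) := fun i => inferInstanceAs (CommRing (Localization.AtPrime (p i.down)))
    letI : ∀ i, Algebra A (L i) := fun i => inferInstanceAs (Algebra A (Localization.AtPrime (p i.down)))
    haveI : Module.Flat (∀ i, L i) ((∀ i, L i) ⊗[A] M) :=
      FlatSep.flat_pi M L fun i => FlatSep.flat_atPrime_tensor M (p i.down) (h2 i.down)
    refine FlatSep.flat_of_forall_pow M J hsep fun n => ?_
    obtain ⟨m, hm⟩ := htop n
    refine FlatSep.flat_quot_of_comap_le M (∀ i, L i) J (J ^ n) m (le_trans ?_ hm)
    refine le_iInf fun i x hx => ?_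
    rw [Ideal.mem_comap] at hx ⊢
    let ev : (∀ j, L j) →+* Localization.AtPrime (p i) := Pi.evalRingHom L ⟨i⟩
    have hle : ((J ^ m).map (algebraMap A (∀ j, L j))).map ev ≤
        IsLocalRing.maximalIdeal (Localization.AtPrime (p i)) ^ m := by
      rw [Ideal.map_map, show ev.comp (algebraMap A (∀ j, L j)) = algebraMap A (Localization.AtPrime (p i)) from rfl,
        Ideal.map_pow]
      refine Ideal.pow_right_mono ?_ m
      rw [← Localization.AtPrime.map_eq_maximalIdeal]
      exact Ideal.map_mono (hp i)
    exact hle (Ideal.mem_map_of_mem ev hx)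

end Groth.Agent.S5911
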