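import Groth.Statements.S5912
import Groth.Agent.FlatSep.Basic
-- import your own Groth.Agent.* helpers here

set_option autoImplicit false
universe u
open TensorProduct
open EGA43

namespace Groth.Agent.S5912

/-- An element lying in `Jⁿ` locally at the associated primes of `A/J` lies in `Jⁿ`, if `gr_J A` is flat. -/
theorem mem_pow_of_forall {A : Type u} [CommRing A] [IsNoetherianRing A] (J : Ideal A)
    (hgr : ∀ k : ℕ, Module.Flat (A ⧸ J) ((A ⧸ J) ⊗[A] ↥(J ^ k))) (n : ℕ) (x : A)
    (hx : ∀ q ∈ associatedPrimes A (A ⧸ J), ∃ s : A, s ∉ q ∧ s * x ∈ J ^ n) : x ∈ J ^ n := by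
  induction n with
  | zero => simp
  | succ k ih =>
    have hxk : x ∈ J ^ k := ih fun q hq => by
      obtain ⟨s, hs, hsx⟩ := hx q hq
      exact ⟨s, hs, Ideal.pow_le_pow_right (Nat.le_succ k) hsx⟩
    haveI := hgr k
    haveI : Module.Finite A ↥(J ^ k) := Module.Finite.iff_fg.2 (IsNoetherian.noetherian _)
    haveI : Module.FinitePresentation (A ⧸ J) ((A ⧸ J) ⊗[A] ↥(J ^ k)) :=
      Module.finitePresentation_of_finite _ _
    haveI : Module.Projective (A ⧸ J) ((A ⧸ J) ⊗[A] ↥(J ^ k)) := Module.Flat.projective_of_finitePresentation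
    let P := (A ⧸ J) ⊗[A] ↥(J ^ k)
    let y : P := (Ideal.Quotient.mk J 1) ⊗ₜ[A] (⟨x, hxk⟩ : ↥(J ^ k))
    have hmem : ∀ w : A, ∀ hw : w ∈ J ^ k, w ∈ J ^ (k + 1) ↔
        ((Ideal.Quotient.mk J 1) ⊗ₜ[A] (⟨w, hw⟩ : ↥(J ^ k)) : P) = 0 := by
      intro w hw
      rw [← (TensorProduct.quotTensorEquivQuotSMul ↥(J ^ k) J).map_eq_zero_iff,
        TensorProduct.quotTensorEquivQuotSMul_mk_tmul, one_smul, Submodule.Quotient.mk_eq_zero,
        pow_succ', ← smul_eq_mul]
      constructor
      · intro h
        rw [← Submodule.map_subtype_top (J ^ k : Submodule A A), ← Submodule.map_smul''] at h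
        obtain ⟨v, hv, hvw⟩ := h
        have hv' : v = ⟨w, hw⟩ := Subtype.ext hvw
        subst hv'
        exact hv
      · intro h
        have h' : w ∈ (J • ⊤ : Submodule A ↥(J ^ k)).map (Submodule.subtype (J ^ k)) := ⟨_, h, rfl⟩
        rwa [Submodule.map_smul'', Submodule.map_subtype_top] at h'
    rw [hmem x hxk, ← Module.forall_dual_apply_eq_zero_iff (A ⧸ J)]
    intro φ
    by_contra hne
    obtain ⟨q, hq, hle⟩ := exists_le_isAssociatedPrime_of_isNoetherianRing A (φ y) hne
    obtain ⟨s, hs, hsx⟩ := hx q hq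
    refine hs (hle (Submodule.mem_colon_singleton.2 ?_))
    have h0 : s • y = 0 := by
      show s • ((Ideal.Quotient.mk J 1) ⊗ₜ[A] (⟨x, hxk⟩ : ↥(J ^ k)) : P) = 0
      rw [← TensorProduct.tmul_smul]
      exact (hmem (s * x) ((J ^ k).mul_mem_left s hxk)).1 hsx
    simp [← φ.map_smul_of_tower, h0]

/-- Let A be a Noetherian ring, J an ideal of A and M an A-module which is ideally separated for the
J-adic topology (for every ideal a of A the module a ⊗_A M is J-adically separated), and suppose
every quotient J^k/J^{k+1} is a flat (A/J)-module (the associated graded ring of A along J is flat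
over A/J). Then M is flat if and only if (A/J) ⊗_A M is flat over A/J and M_p is flat over A_p for
every associated prime p of the A-module A/J. -/
theorem result {A : Type u} [CommRing A] [IsNoetherianRing A]
    (J : Ideal A) (M : Type u) [AddCommGroup M] [Module A M]
    (hsep : ∀ a : Ideal A, IsHausdorff J (↥a ⊗[A] M))
    (hgr : ∀ k : ℕ, Module.Flat (A ⧸ J) ((A ⧸ J) ⊗[A] ↥(J ^ k))) :
    Module.Flat A M ↔
      Module.Flat (A ⧸ J) ((A ⧸ J) ⊗[A] M) ∧
        ∀ q : associatedPrimes A (A ⧸ J),
          haveI : q.1.IsPrime := IsAssociatedPrime.isPrime q.2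
          Module.Flat (Localization.AtPrime q.1) (LocalizedModule q.1.primeCompl M) := by
  classical
  constructor
  · intro h
    refine ⟨inferInstance, fun q => ?_⟩
    haveI : q.1.IsPrime := IsAssociatedPrime.isPrime q.2
    show Module.Flat (Localization q.1.primeCompl) (LocalizedModule q.1.primeCompl M)
    exact Module.Flat.of_linearEquiv (R := Localization q.1.primeCompl)
      (LocalizedModule.equivTensorProduct q.1.primeCompl M)
  · rintro ⟨h1, h2⟩
    haveI : ∀ q : associatedPrimes A (A ⧸ J), q.1.IsPrime := fun q => IsAssociatedPrime.isPrime q.2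
    haveI : Finite (associatedPrimes A (A ⧸ J)) := (associatedPrimes.finite A (A ⧸ J)).to_subtype
    let L : associatedPrimes A (A ⧸ J) → Type u := fun q => Localization.AtPrime q.1
    letI : ∀ i, CommRing (L i) := fun i => inferInstanceAs (CommRing (Localization.AtPrime i.1))
    letI : ∀ i, Algebra A (L i) := fun i => inferInstanceAs (Algebra A (Localization.AtPrime i.1))
    haveI : Module.Flat (∀ i, L i) ((∀ i, L i) ⊗[A] M) :=
      FlatSep.flat_pi M L fun i => FlatSep.flat_atPrime_tensor M i.1 (h2 i)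
    refine FlatSep.flat_of_forall_pow M J hsep fun n => ?_
    refine FlatSep.flat_quot_of_comap_le M (∀ i, L i) J (J ^ n) n fun x hx => mem_pow_of_forall J hgr n x fun q hq => ?_
    haveI : q.IsPrime := IsAssociatedPrime.isPrime hq
    have h3 := Ideal.mem_map_of_mem (Pi.evalRingHom L ⟨q, hq⟩) (Ideal.mem_comap.1 hx)
    rw [Ideal.map_map] at h3
    have h4 : algebraMap A (Localization.AtPrime q) x ∈ (J ^ n).map (algebraMap A (Localization.AtPrime q)) := h3
    obtain ⟨s, hs, hsx⟩ := (IsLocalization.algebraMap_mem_map_algebraMap_iff q.primeCompl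
      (Localization.AtPrime q) (J ^ n) x).1 h4
    exact ⟨s, hs, hsx⟩

end Groth.Agent.S5912
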