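import Groth.Statements.S5915
import Groth.Agent.GrFlat5.FlatAtFamily
import Groth.Agent.CAlgOdd.FlatDescFinite
-- import your own Groth.Agent.* helpers here

set_option autoImplicit false
universe u
open CategoryTheory AlgebraicGeometry
open EGA43

namespace Groth.Agent.S5915

open IsLocalRing in
/-- The powers of the maximal ideals of a finite overring bound the powers of the maximal ideal. -/
theorem exists_family_le {R S : Type u} [CommRing R] [CommRing S] [IsLocalRing R] [IsNoetherianRing R] [Algebra R S]
    [Module.Finite R S] (hinj : Function.Injective (algebraMap R S)) (N : ℕ) :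
    ∃ s : Finset (MaximalSpectrum S × ℕ),
      ⨅ p ∈ s, Ideal.comap (algebraMap R (Localization.AtPrime p.1.asIdeal))
        (maximalIdeal (Localization.AtPrime p.1.asIdeal) ^ p.2) ≤ maximalIdeal R ^ N := by
  classical
  haveI : IsNoetherianRing S := isNoetherianRing_iff.mpr (isNoetherian_of_tower R inferInstance)
  haveI : Algebra.IsIntegral R S := Algebra.IsIntegral.of_finite R S
  let I := (maximalIdeal R).map (algebraMap R S)
  have hmin : ∀ m : MaximalSpectrum S, m.asIdeal ∈ I.minimalPrimes := by
    intro m
    haveI := m.isMaximal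
    have hc : m.asIdeal.comap (algebraMap R S) = maximalIdeal R :=
      IsLocalRing.eq_maximalIdeal (Ideal.isMaximal_comap_of_isIntegral_of_isMaximal m.asIdeal)
    refine ⟨⟨inferInstance, Ideal.map_le_iff_le_comap.2 hc.ge⟩, fun q hq hqm => ?_⟩
    haveI := hq.1
    have hq' : q.comap (algebraMap R S) = maximalIdeal R :=
      (IsLocalRing.le_maximalIdeal (Ideal.IsPrime.ne_top inferInstance)).antisymm
        (Ideal.map_le_iff_le_comap.1 hq.2)
    haveI : q.IsMaximal := Ideal.isMaximal_of_isIntegral_of_isMaximal_comap (R := R) q (by rw [hq']; infer_instance)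
    exact ((Ideal.IsMaximal.eq_of_le ‹q.IsMaximal› m.isMaximal.ne_top hqm)).ge
  haveI : Finite (MaximalSpectrum S) := by
    haveI := (I.finite_minimalPrimes_of_isNoetherianRing S).to_subtype
    exact Finite.of_injective (fun m => (⟨m.asIdeal, hmin m⟩ : I.minimalPrimes))
      fun a b h => MaximalSpectrum.ext (congrArg Subtype.val h)
  cases nonempty_fintype (MaximalSpectrum S)
  let K : Ideal S := ∏ m : MaximalSpectrum S, m.asIdeal
  have hK : K ≤ I.radical := by
    rw [Ideal.radical_eq_sInf]
    refine le_sInf fun q hq => ?_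
    haveI := hq.2
    have hq' : q.comap (algebraMap R S) = maximalIdeal R :=
      (IsLocalRing.le_maximalIdeal (Ideal.IsPrime.ne_top inferInstance)).antisymm
        (Ideal.map_le_iff_le_comap.1 hq.1)
    have hqm : q.IsMaximal := Ideal.isMaximal_of_isIntegral_of_isMaximal_comap (R := R) q (by rw [hq']; infer_instance)
    exact Ideal.prod_le_inf.trans (Finset.inf_le (Finset.mem_univ (⟨q, hqm⟩ : MaximalSpectrum S)))
  obtain ⟨e, he⟩ := Ideal.exists_pow_le_of_le_radical_of_fg hK (IsNoetherian.noetherian K)
  obtain ⟨c, hc⟩ := CAlgOdd.FlatDesc.exists_comap_map_pow_le (R := R) S hinj (maximalIdeal R)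
  refine ⟨Finset.univ.image fun m => (m, e * (N + c)), fun x hx => hc N ?_⟩
  simp only [Ideal.mem_iInf] at hx
  have hxm : ∀ m : MaximalSpectrum S, algebraMap R S x ∈ m.asIdeal ^ (e * (N + c)) := by
    intro m
    haveI := m.isMaximal
    have h1 := hx (m, e * (N + c)) (Finset.mem_image_of_mem _ (Finset.mem_univ m))
    rw [Ideal.mem_comap, IsScalarTower.algebraMap_apply R S (Localization.AtPrime m.asIdeal),
      ← Localization.AtPrime.map_eq_maximalIdeal, ← Ideal.map_pow,
      IsLocalization.algebraMap_mem_map_algebraMap_iff m.asIdeal.primeCompl] at h1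
    obtain ⟨t, ht, htx⟩ := h1
    rcases Nat.eq_zero_or_pos (e * (N + c)) with h0 | h0
    · simp [h0]
    · have hrad : (m.asIdeal ^ (e * (N + c))).radical = m.asIdeal := by
        rw [Ideal.radical_pow _ h0.ne', Ideal.IsPrime.radical inferInstance]
      have hp := Ideal.isPrimary_iff.1 (Ideal.isPrimary_of_isMaximal_radical (I := m.asIdeal ^ (e * (N + c)))
        (by rw [hrad]; exact m.isMaximal))
      exact (hp.2 (x := algebraMap R S x) (y := t) (by rw [mul_comm (algebraMap R S x) t]; exact htx)).resolve_right fun h => ht (hrad ▸ h)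
  have hxK : algebraMap R S x ∈ K ^ (e * (N + c)) := by
    show _ ∈ (∏ m : MaximalSpectrum S, m.asIdeal) ^ _
    rw [← Finset.prod_pow, Ideal.prod_eq_iInf_of_pairwise_isCoprime]
    · simp only [Ideal.mem_iInf]
      exact fun m _ => hxm m
    · intro i _ j _ hij
      exact (Ideal.isCoprime_iff_sup_eq.2 (Ideal.IsMaximal.coprime_of_ne i.isMaximal j.isMaximal
        fun h => hij (MaximalSpectrum.ext h))).pow
  rw [Ideal.mem_comap, Ideal.map_pow]
  refine Ideal.pow_right_mono he (N + c) ?_
  rwa [← pow_mul]

open CategoryTheory.Limits in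
/-- Let Y be locally Noetherian, f : X ⟶ Y locally of finite type, F a coherent O_X-module, x a point of
X and y = f x. Let φ : O_{Y,y} ⟶ A' be an injective ring homomorphism which is finite (A' finitely
generated as an O_{Y,y}-module), Y' = Spec A' ⟶ Y the induced Y-scheme, X' = X ×_Y Y' and F' the
pullback of F to X'. Then F is f-flat at x if and only if F' is flat over Y' at every point of X'
lying over x and over a closed point of Y'. (The published statement treats more generally a Zariski
ring A' whose radical pulls back to the maximal ideal and whose map on completions is injective;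
this row is the case of a finite algebra with injective structure map, in which those conditions
hold.) -/
theorem result {X Y : Scheme.{u}} [IsLocallyNoetherian Y]
    (f : X ⟶ Y) [LocallyOfFiniteType f] (F : X.Modules) (hF : Coh.IsCoh F) (x : X)
    (A' : CommRingCat.{u}) (φ : Y.presheaf.stalk (f.base x) ⟶ A') (hfin : φ.hom.Finite)
    (hinj : Function.Injective φ.hom) :
    FlatMod.IsFlatOverAt f F x ↔
      ∀ x' : ↥(pullback f (Spec.map φ ≫ Y.fromSpecStalk (f.base x))), pullback.fst f (Spec.map φ ≫ Y.fromSpecStalk (f.base x)) x' = x →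
        IsClosed ({pullback.snd f (Spec.map φ ≫ Y.fromSpecStalk (f.base x)) x'} : Set ↥(Spec A')) →
          FlatMod.IsFlatOverAt (pullback.snd f (Spec.map φ ≫ Y.fromSpecStalk (f.base x))) ((Scheme.Modules.pullback (pullback.fst f (Spec.map φ ≫ Y.fromSpecStalk (f.base x)))).obj F) x' := by
  letI := φ.hom.toAlgebra
  haveI : Module.Finite (Y.presheaf.stalk (f.base x)) A' := hfin
  constructor
  · intro h x' hx' _
    refine MorLib.FlatBC.isFlatOverAt_baseChange f _ _ _ (IsPullback.of_hasPullback _ _) F x' ?_
    rw [hx']
    exact h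
  · intro h
    haveI : IsNoetherianRing (Y.presheaf.stalk (f.base x)) := inferInstance
    let A : MaximalSpectrum A' → Type u := fun m => Localization.AtPrime m.asIdeal
    let ψ : ∀ m, (Y.presheaf.stalk (f x) : Type u) →+* A m := fun m => algebraMap _ (Localization.AtPrime m.asIdeal)
    haveI : ∀ m, IsLocalHom (ψ m) := fun m => ⟨fun a ha => by
      haveI := m.isMaximal
      haveI : Algebra.IsIntegral (Y.presheaf.stalk (f.base x)) A' := Algebra.IsIntegral.of_finite _ _
      by_contra hn
      have ha' : a ∈ m.asIdeal.comap (algebraMap (Y.presheaf.stalk (f.base x)) A') := by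
        rw [IsLocalRing.eq_maximalIdeal (Ideal.isMaximal_comap_of_isIntegral_of_isMaximal (R := Y.presheaf.stalk (f.base x)) m.asIdeal)]
        exact hn
      exact (IsLocalization.AtPrime.isUnit_to_map_iff (Localization.AtPrime m.asIdeal) m.asIdeal _).1
        (show IsUnit (algebraMap A' (Localization.AtPrime m.asIdeal) (algebraMap _ A' a)) by
          rw [← IsScalarTower.algebraMap_apply]; exact ha) ha'⟩
    refine GrFlat5.flatAt_of_local_family f F hF x A ψ (fun N => exists_family_le hinj N) fun m x' h₁ h₂ => ?_
    haveI := m.isMaximal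
    refine GrFlat5.isFlatOverAt_baseChange_comp f (Spec.map φ ≫ Y.fromSpecStalk (f.base x)) _
      (Spec.map (CommRingCat.ofHom (algebraMap A' (Localization.AtPrime m.asIdeal)))) ?_ F x
      (IsLocalRing.closedPoint (Localization.AtPrime m.asIdeal)) x' h₁ h₂ fun z hz₁ hz₂ => h z hz₁ ?_
    · rw [← Category.assoc, ← Spec.map_comp]
      rfl
    · rw [hz₂]
      have he : Spec.map (CommRingCat.ofHom (algebraMap A' (Localization.AtPrime m.asIdeal)))
          (IsLocalRing.closedPoint (Localization.AtPrime m.asIdeal)) = (⟨m.asIdeal, inferInstance⟩ : PrimeSpectrum A') :=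
        PrimeSpectrum.ext (Localization.AtPrime.comap_maximalIdeal (I := m.asIdeal))
      rw [he]
      exact (PrimeSpectrum.isClosed_singleton_iff_isMaximal _).2 m.isMaximal

end Groth.Agent.S5915
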