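import Groth.Statements.S5948
import Groth.Agent.FibFlatMod.Constr

set_option linter.style.haveILetI false

set_option autoImplicit false
universe u
open CategoryTheory CategoryTheory.Limits AlgebraicGeometry TopologicalSpace Topology
open Unram17

namespace Groth.Agent.S5948
open Groth.Agent.FibFlatMod

/-- Let g : X ⟶ S and h : Y ⟶ S be locally of finite presentation, f : X ⟶ Y a morphism with f ≫ h = g,
and F a quasi-coherent O_X-module of finite presentation. For x in X with s = g(x), the fibres X_s ⟶
Y_s ⟶ Spec κ(s) of f over s are given by pullback squares, F_s is the pullback of F to X_s, and x is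
identified with the unique point of X_s over it. Then the set E of points x such that F_s is flat
over Y_s at x (the stalk of F_s at x is a flat module over the local ring of Y_s at f_s(x)) is
locally constructible in X. -/
theorem result {X Y S : Scheme.{u}} (g : X ⟶ S) (h : Y ⟶ S)
    [LocallyOfFinitePresentation g] [LocallyOfFinitePresentation h] (f : X ⟶ Y) (w : f ≫ h = g)
    (F : X.Modules) [Coh.IsQCoh F] (hF : CohB1.IsFP F) :
    IsLocallyConstructible {x : ↥X | ∀ (Xs Ys : Scheme.{u}) (ιX : Xs ⟶ X) (ιY : Ys ⟶ Y) (fs : Xs ⟶ Ys)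
      (pY : Ys ⟶ Spec (S.residueField (g.base x))),
      IsPullback ιY pY h (S.fromSpecResidueField (g.base x)) → IsPullback ιX fs f ιY →
        ∀ x' : ↥Xs, ιX.base x' = x → FlatMod.IsFlatOverAt fs ((Scheme.Modules.pullback ιX).obj F) x'} := by
  haveI : LocallyOfFinitePresentation (f ≫ h) := w ▸ inferInstance
  have hqc := QCoh.isQCoh_of_isFP hF
  have key : ∀ x, QF f h F x ↔ x ∈ {x : ↥X | ∀ (Xs Ys : Scheme.{u}) (ιX : Xs ⟶ X) (ιY : Ys ⟶ Y) (fs : Xs ⟶ Ys)
      (pY : Ys ⟶ Spec (S.residueField (g.base x))),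
      IsPullback ιY pY h (S.fromSpecResidueField (g.base x)) → IsPullback ιX fs f ιY →
        ∀ x' : ↥Xs, ιX.base x' = x → FlatMod.IsFlatOverAt fs ((Scheme.Modules.pullback ιX).obj F) x'} := by
    intro x
    have one : ∀ (Xs Ys : Scheme.{u}) (ιX : Xs ⟶ X) (ιY : Ys ⟶ Y) (fs : Xs ⟶ Ys)
        (pY : Ys ⟶ Spec (S.residueField (g.base x))),
        IsPullback ιY pY h (S.fromSpecResidueField (g.base x)) → IsPullback ιX fs f ιY →
          ∀ x' : ↥Xs, ιX.base x' = x →
            (QF f h F x ↔ FlatMod.IsFlatOverAt fs ((Scheme.Modules.pullback ιX).obj F) x') := by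
      intro Xs Ys ιX ιY fs pY sqY sqX x' hx'
      rw [← qf_iff_of_isField fs pY _ x' (isField_stalk_generic (Subsingleton.elim _ _)),
        qf_baseChange sqY sqX F hqc x', hx']
    refine ⟨fun hq Xs Ys ιX ιY fs pY sqY sqX x' hx' => (one Xs Ys ιX ιY fs pY sqY sqX x' hx').1 hq,
      fun H => ?_⟩
    have hgx : (f ≫ h) x = g.base x := by rw [w]
    obtain ⟨y, hy⟩ : f x ∈ Set.range (h.fiberι (g.base x)) := by
      rw [Scheme.Hom.range_fiberι]; exact hgx
    obtain ⟨x', hx', -⟩ := Scheme.Pullback.exists_preimage_pullback (f := f) (g := h.fiberι (g.base x)) x y hy.symm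
    exact (one _ _ _ _ _ _ (IsPullback.of_hasPullback h (S.fromSpecResidueField (g.base x)))
      (IsPullback.of_hasPullback f _) x' hx').2
      (H _ _ _ _ _ _ (IsPullback.of_hasPullback h (S.fromSpecResidueField (g.base x)))
        (IsPullback.of_hasPullback f _) x' hx')
  have H := isLocallyConstructible_qf f h F hF
  rwa [show {x : ↥X | QF f h F x} = _ from Set.ext key] at H

end Groth.Agent.S5948
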