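import Groth.Statements.S5950
import Groth.Agent.NormChar.Basic

set_option autoImplicit false
universe u
open CategoryTheory AlgebraicGeometry
open Unram17

namespace Groth.Agent.S5950

theorem stalkMap_restrict_bijective {X Y : Scheme.{u}} (f : Y ⟶ X) (U : X.Opens) (y : (f ⁻¹ᵁ U).toScheme) :
    Function.Bijective ((f ∣_ U).stalkMap y).hom ↔ Function.Bijective (f.stalkMap y.1).hom := by
  rw [← ConcreteCategory.isIso_iff_bijective, ← ConcreteCategory.isIso_iff_bijective]
  exact (MorphismProperty.isomorphisms CommRingCat).arrow_mk_iso_iff (morphismRestrictStalkMap f U y)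

theorem genericPoint_restrict {X : Scheme.{u}} [IsIntegral X] (V : X.Opens) [Nonempty V] [IsIntegral V.toScheme] :
    (genericPoint V.toScheme).1 = genericPoint X :=
  genericPoint_eq_of_isOpenImmersion V.ι

/-- Let X be an integral scheme which has a nonempty (hence dense) open subset at whose points the local
rings are integrally closed, let X' ⟶ X be its normalization, and let f : Y ⟶ X be a morphism of
schemes. Then there is an isomorphism Y ≅ X' over X if and only if: every local ring of Y is an
integrally closed domain, f is an integral morphism, and there is a dense open subset U of X whose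
preimage is dense in Y and such that the restriction f⁻¹(U) ⟶ U of f is an isomorphism. (The
published statement allows X reduced with locally finitely many irreducible components and a dense
normal open subset; this row states the case of an integral X. The quasi-compactness and
quasi-separatedness binders on the generic point always hold and only serve to form the
normalization.) -/
theorem result (X : Scheme.{u}) [IsIntegral X]
    [QuasiCompact (X.fromSpecStalk (genericPoint X))] [QuasiSeparated (X.fromSpecStalk (genericPoint X))]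
    (hV : ∃ V : X.Opens, (V : Set ↥X).Nonempty ∧ ∀ x ∈ V, IsIntegrallyClosed (X.presheaf.stalk x))
    {Y : Scheme.{u}} (f : Y ⟶ X) :
    (∃ e : Y ≅ Curv2.normalization X, e.hom ≫ Curv2.normalizationι X = f) ↔
      Pi1.IsNormalScheme Y ∧ IsIntegralHom f ∧
        ∃ U : X.Opens, Dense (U : Set ↥X) ∧ Dense ((f ⁻¹ᵁ U : Y.Opens) : Set ↥Y) ∧ IsIso (f ∣_ U) := by
  rw [NormChar.normalization_iff X f]
  constructor
  · rintro ⟨hY, hf, hirr, hpre, hiso⟩
    haveI := hf
    haveI : ∀ y : Y, IsDomain (Y.presheaf.stalk y) := fun y => (hY y).1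
    haveI : IsReduced Y := isReduced_of_isReduced_stalk Y
    haveI : IsIntegral Y := isIntegral_of_irreducibleSpace_of_isReduced Y
    obtain ⟨V, ⟨v, hv⟩, hVn⟩ := hV
    haveI : Nonempty V := ⟨⟨v, hv⟩⟩
    have hfη : f (genericPoint Y) = genericPoint X := by
      have : genericPoint Y ∈ f.base ⁻¹' {genericPoint X} := by rw [hpre]; rfl
      exact this
    have hηV : genericPoint X ∈ V := (genericPoint_spec X).mem_open_set_iff V.isOpen |>.mpr ⟨v, trivial, hv⟩
    have hηW : genericPoint Y ∈ f ⁻¹ᵁ V := show f (genericPoint Y) ∈ V from hfη ▸ hηV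
    haveI : Nonempty (f ⁻¹ᵁ V) := ⟨⟨_, hηW⟩⟩
    haveI : IsIntegral V.toScheme := isIntegral_of_isOpenImmersion V.ι
    haveI : IsIntegral (f ⁻¹ᵁ V).toScheme := isIntegral_of_isOpenImmersion (f ⁻¹ᵁ V).ι
    refine ⟨hY, hf, V, V.isOpen.dense ⟨v, hv⟩, (f ⁻¹ᵁ V).isOpen.dense ⟨_, hηW⟩, ?_⟩
    haveI : IsIntegralHom (f ∣_ V) := IsZariskiLocalAtTarget.restrict hf V
    have hVN : Pi1.IsNormalScheme V.toScheme := fun x => by
      let ε := (asIso (V.ι.stalkMap x)).commRingCatIsoToRingEquiv
      haveI : IsIntegrallyClosed (X.presheaf.stalk (V.ι x)) := hVn _ x.2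
      exact ⟨inferInstance, IsIntegrallyClosed.of_equiv ε⟩
    have e : (f ∣_ V) (genericPoint (f ⁻¹ᵁ V).toScheme) = genericPoint V.toScheme := by
      refine Subtype.ext ?_
      rw [morphismRestrict_base_coe, genericPoint_restrict, genericPoint_restrict, hfη]
    refine BirNormal.isIso_of_isIntegralHom (f ∣_ V)
      (fun U hU hUa => by haveI := hU; exact Ref1X.isIntegrallyClosed_sections hVN hUa) e ?_
    haveI := BirNormal.isIso_stalkSpecializes_of_eq e (specializes_of_eq e)
    haveI : IsIso ((f ∣_ V).stalkMap (genericPoint (f ⁻¹ᵁ V).toScheme)) := by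
      refine (ConcreteCategory.isIso_iff_bijective _).2 ((stalkMap_restrict_bijective f V _).2 ?_)
      rw [genericPoint_restrict]
      exact (ConcreteCategory.isIso_iff_bijective _).1 hiso
    exact (ConcreteCategory.isIso_iff_bijective _).1 inferInstance
  · rintro ⟨hY, hf, U, hU, hfU, hiso⟩
    haveI := hiso
    obtain ⟨u₀, hu₀⟩ : (U : Set ↥X).Nonempty := hU.nonempty
    haveI : Nonempty U := ⟨⟨u₀, hu₀⟩⟩
    haveI : IsIntegral U.toScheme := isIntegral_of_isOpenImmersion U.ι
    have hηU : genericPoint X ∈ U := (genericPoint_spec X).mem_open_set_iff U.isOpen |>.mpr ⟨u₀, trivial, hu₀⟩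
    let w : (f ⁻¹ᵁ U).toScheme := inv (f ∣_ U) ⟨_, hηU⟩
    haveI : Nonempty (f ⁻¹ᵁ U).toScheme := ⟨w⟩
    haveI : IsIntegral (f ⁻¹ᵁ U).toScheme := isIntegral_of_isOpenImmersion (f ∣_ U)
    haveI hirr : IrreducibleSpace ↥Y := by
      have h1 : IsIrreducible (Set.range (f ⁻¹ᵁ U).ι) := by
        rw [← Set.image_univ]
        exact (IrreducibleSpace.isIrreducible_univ _).image _ (f ⁻¹ᵁ U).ι.continuous.continuousOn
      rw [Scheme.Opens.range_ι] at h1
      haveI : PreirreducibleSpace ↥Y := ⟨by rw [← hfU.closure_eq]; exact h1.closure.2⟩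
      exact { toNonempty := ⟨w.1⟩ }
    haveI : ∀ y : Y, IsDomain (Y.presheaf.stalk y) := fun y => (hY y).1
    haveI : IsReduced Y := isReduced_of_isReduced_stalk Y
    haveI : IsIntegral Y := isIntegral_of_irreducibleSpace_of_isReduced Y
    haveI : Nonempty (f ⁻¹ᵁ U) := ⟨w⟩
    have hηW : genericPoint Y ∈ f ⁻¹ᵁ U :=
      (genericPoint_spec Y).mem_open_set_iff (f ⁻¹ᵁ U).isOpen |>.mpr ⟨w.1, trivial, w.2⟩
    have e : (f ∣_ U) (genericPoint (f ⁻¹ᵁ U).toScheme) = genericPoint U.toScheme :=
      genericPoint_eq_of_isOpenImmersion (f ∣_ U)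
    have hfη : f (genericPoint Y) = genericPoint X := by
      rw [← genericPoint_restrict (X := Y) (f ⁻¹ᵁ U), ← morphismRestrict_base_coe, e, genericPoint_restrict]
    refine ⟨hY, hf, hirr, Set.ext fun y => ?_, ?_⟩
    · simp only [Set.mem_preimage, Set.mem_singleton_iff]
      refine ⟨fun hy => ?_, fun hy => hy ▸ hfη⟩
      have hyW : y ∈ f ⁻¹ᵁ U := show f y ∈ U from hy ▸ hηU
      have := (f ∣_ U).isOpenEmbedding.injective (a₁ := ⟨y, hyW⟩) (a₂ := ⟨_, hηW⟩) (Subtype.ext (by
        rw [morphismRestrict_base_coe, morphismRestrict_base_coe]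
        exact hy.trans hfη.symm))
      exact congrArg Subtype.val this
    · exact (ConcreteCategory.isIso_iff_bijective _).2 ((stalkMap_restrict_bijective f U ⟨_, hηW⟩).1
        ((ConcreteCategory.isIso_iff_bijective _).1 inferInstance))

end Groth.Agent.S5950
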