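import Groth.Statements.S5953
import Groth.Agent.PPSheaf.GrBC

set_option autoImplicit false
universe u
open CategoryTheory CategoryTheory.Limits AlgebraicGeometry TopologicalSpace Opposite
open Nrm16

namespace Groth.Agent.S5953

/-- Let f : Y ⟶ X be a closed immersion, v : X' ⟶ X a flat morphism, Y' a fibre product of Y and X' over
X with projections u : Y' ⟶ Y and f' : Y' ⟶ X', and n a natural number. Let φ : u^* Gr_n(f) ⟶
Gr_n(f') be the canonical O_{Y'}-linear map between the n-th graded pieces of the ideals of f and
f'. Then φ is an isomorphism. (The published statement assumes only that v is flat and that f is a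
morphism of schemes with surjective comorphism; this row also assumes f a closed immersion, the case
in which the graded pieces are formed here.) -/
theorem result {Y X Y' X' : Scheme.{u}} (f : Y ⟶ X) [IsClosedImmersion f]
    (v : X' ⟶ X) [Flat v] (u : Y' ⟶ Y) (f' : Y' ⟶ X') (hsq : IsPullback u f' f v) (n : ℕ)
    (φ : (Scheme.Modules.pullback u).obj (PrinPart.grMod f n) ⟶ PrinPart.grMod f' n)
    (hφ : PrinPart.IsGrMap f' f v u n φ) :
    IsIso φ := by
  haveI : IsClosedImmersion f' := MorphismProperty.of_isPullback hsq inferInstance
  haveI : Epi φ := Groth.Agent.PPSheaf.GrBC.epi f' f v u n φ hφ hsq.flip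
  haveI : Mono φ := Groth.Agent.PPSheaf.GrBC.mono f' f v u n φ hφ hsq.flip fun x => by
    letI := (Groth.Agent.Synt29.ConormalBC.δ f' f v u hsq.flip.w.symm x).hom.toAlgebra
    haveI : Module.Flat (X.presheaf.stalk (f (u x))) (X'.presheaf.stalk (f' x)) :=
      Groth.Agent.Synt29.ConormalBC.δ_flat f' f v u hsq.flip.w.symm x
    exact Module.Flat.lTensor_preserves_injective_linearMap _ (Groth.Agent.PPSheaf.GrStalk.val_injective _ _)
  exact isIso_of_mono_of_epi φ

end Groth.Agent.S5953
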