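import Groth.Statements.S5961
import Groth.Agent.PPSheaf.Order1

set_option linter.style.haveILetI false
set_option backward.isDefEq.respectTransparency false
set_option backward.isDefEq.respectTransparency.types false
set_option autoImplicit false
universe u
open CategoryTheory CategoryTheory.Limits AlgebraicGeometry TopologicalSpace Opposite
open Nrm16

namespace Groth.Agent.S5961

/-- Let f : X ⟶ S be a morphism of schemes, G an O_X-module and D : O_X ⟶ G a differential operator of
order at most 1 relative to S. Then D can be written in exactly one way as v + d with v : O_X ⟶ G an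
O_X-linear map and d an S-derivation of O_X into G. -/
theorem result {X S : Scheme.{u}} (f : X ⟶ S) (G : X.Modules)
    (D : (Coh.structureModule X).presheaf ⟶ G.presheaf)
    (hD : PrinPart.IsDiffOpLE f (Coh.structureModule X) G 1 D) :
    ∃! p : (Coh.structureModule X ⟶ G) × OmegaSh.Der f G,
      ∀ (U : X.Opens) (a : Γ(X, U)),
        D.app (op U) (OmegaSh.strSect X U a) = p.1.app U (OmegaSh.strSect X U a) + p.2.app U a := by
  obtain ⟨u, hu⟩ := hD
  let Dv : ∀ U : X.Opens, Γ(X, U) → Γ(G, U) := fun U a => D.app (op U) (OmegaSh.strSect X U a)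
  have hDv : ∀ (U : X.Opens) (a : Γ(X, U)), Dv U a = u.app U (PrinPart.dn f 1 U a) := fun U a => hu U _
  have hmap : ∀ {U V : X.Opens} (i : V ≤ U) (a : Γ(X, U)),
      Dv V (X.presheaf.map (homOfLE i).op a) = G.presheaf.map (homOfLE i).op (Dv U a) := fun i a => by
    show D.app _ (OmegaSh.strSect X _ _) = _
    rw [OmegaSh.strSect_map]
    exact congr($(D.naturality (homOfLE i).op) (OmegaSh.strSect X _ a))
  let v : Coh.structureModule X ⟶ G := ⟨PresheafOfModules.homMk
    { app := fun U => AddCommGrpCat.ofHom
        { toFun := fun a => (OmegaSh.fnSect X U.unop a • Dv U.unop 1 : Γ(G, U.unop))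
          map_zero' := by rw [map_zero]; exact zero_smul _ _
          map_add' := fun a b => by rw [map_add]; exact add_smul _ _ _ }
      naturality := fun U V i => by
        ext a
        show OmegaSh.fnSect X V.unop ((Coh.structureModule X).presheaf.map i a) • Dv V.unop 1 =
          G.presheaf.map i (OmegaSh.fnSect X U.unop a • Dv U.unop 1)
        have h1 := hmap i.unop.le (1 : Γ(X, U.unop))
        rw [map_one] at h1
        rw [h1, show i = (homOfLE i.unop.le).op from rfl]
        exact (Scheme.Modules.map_smul G _ _ _).symm }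
    fun U r a => mul_smul (show Γ(X, U.unop) from r) (OmegaSh.fnSect X U.unop a) (Dv U.unop 1)⟩
  have hv : ∀ (U : X.Opens) (a : Γ(X, U)), v.app U (OmegaSh.strSect X U a) = a • Dv U 1 := fun _ _ => rfl
  have hLeib : ∀ (U : X.Opens) (a b : Γ(X, U)),
      Dv U (a * b) = a • Dv U b + b • Dv U a - (a * b) • Dv U 1 := fun U a b => by
    simp only [hDv, Groth.Agent.PPSheaf.dn_leibniz, map_sub, map_add, Scheme.Modules.Hom.app_smul]
  have hbase : ∀ (V : S.Opens) (c : Γ(S, V)),
      Dv (f ⁻¹ᵁ V) (f.app V c) = f.app V c • Dv (f ⁻¹ᵁ V) 1 := fun V c => by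
    rw [hDv, hDv, Groth.Agent.PPSheaf.dn_base, Scheme.Modules.Hom.app_smul]
  let d : OmegaSh.Der f G :=
    { d := fun {U} => AddMonoidHom.mk' (fun a => (Dv U.unop a - (show Γ(X, U.unop) from a) • Dv U.unop 1 : Γ(G, U.unop)))
        fun a b => by
          show D.app _ (OmegaSh.strSect X U.unop _) - (_ : Γ(X, U.unop)) • _ = _
          rw [map_add, map_add]
          erw [add_smul]
          exact add_sub_add_comm _ _ _ _
      d_mul := fun {U} a b => by
        let a' : Γ(X, U.unop) := a
        let b' : Γ(X, U.unop) := b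
        show Dv U.unop (a' * b') - (a' * b') • Dv U.unop 1 =
          a' • (Dv U.unop b' - b' • Dv U.unop 1) + b' • (Dv U.unop a' - a' • Dv U.unop 1)
        rw [hLeib, smul_sub, smul_sub, smul_smul, smul_smul, mul_comm b' a']
        abel
      d_map := fun {U V} i a => by
        let a' : Γ(X, U.unop) := a
        let a'' : Γ(X, V.unop) := X.presheaf.map i a'
        show Dv V.unop a'' - a'' • Dv V.unop 1 = G.presheaf.map i (Dv U.unop a' - a' • Dv U.unop 1)
        rw [show a'' = X.presheaf.map (homOfLE i.unop.le).op a' from rfl]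
        have h1 := hmap i.unop.le (1 : Γ(X, U.unop))
        rw [map_one] at h1
        rw [show i = (homOfLE i.unop.le).op from rfl, map_sub, Scheme.Modules.map_smul, ← h1, hmap]
      d_app := fun {V} c => by
        show Dv (f ⁻¹ᵁ V.unop) (f.app V.unop c) - f.app V.unop c • Dv (f ⁻¹ᵁ V.unop) 1 = 0
        rw [hbase, sub_self] }
  have hd : ∀ (U : X.Opens) (a : Γ(X, U)), d.app U a = Dv U a - a • Dv U 1 := fun _ _ => rfl
  refine ⟨(v, d), fun U a => by rw [hv, hd, add_sub_cancel], ?_⟩
  rintro ⟨v', d'⟩ hp
  have h1 : ∀ U : X.Opens, v'.app U (OmegaSh.strSect X U 1) = Dv U 1 := fun U => by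
    have h0 : d'.app U 1 = 0 := by
      have h := d'.d_mul (X := op U) (1 : Γ(X, U)) (1 : Γ(X, U))
      erw [one_mul, one_smul] at h
      exact left_eq_add.mp h
    have h := hp U 1
    rw [h0, add_zero] at h
    exact h.symm
  have hv' : ∀ (U : X.Opens) (a : Γ(X, U)), v'.app U (OmegaSh.strSect X U a) = a • Dv U 1 := fun U a => by
    conv_lhs => rw [← mul_one a, OmegaSh.strSect_mul, Scheme.Modules.Hom.app_smul, h1]
  refine Prod.ext ?_ ?_
  · ext U a
    exact hv' U (OmegaSh.fnSect X U a)
  · refine PresheafOfModules.Derivation.ext ?_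
    funext U
    ext a
    have h := hp U.unop a
    rw [hv'] at h
    exact (eq_sub_of_add_eq' h.symm)

end Groth.Agent.S5961
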