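import Groth.Statements.S5965
import Mathlib.AlgebraicGeometry.Morphisms.Integral
import Mathlib.AlgebraicGeometry.Morphisms.Finite

set_option linter.style.haveILetI false
set_option backward.isDefEq.respectTransparency false
set_option backward.isDefEq.respectTransparency.types false
set_option autoImplicit false
universe u
open CategoryTheory CategoryTheory.Limits AlgebraicGeometry TopologicalSpace Opposite
open Nrm16

namespace Groth.Agent.S5965

/-- Let g : X ⟶ Y be a morphism locally of finite type with a section f : Y ⟶ X which is a closed
immersion. Then for every n the n-th infinitesimal neighbourhood of Y in X, mapped to Y through its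
inclusion into X followed by g, is finite over Y. (The published statement allows any section f and
says that the structure sheaf of the neighbourhood is a quasi-coherent O_Y-algebra which is an
O_Y-module of finite type; this row assumes f a closed immersion and states the conclusion as
finiteness of the morphism to Y.) -/
theorem result {X Y : Scheme.{u}} (g : X ⟶ Y) [LocallyOfFiniteType g] (f : Y ⟶ X)
    [IsClosedImmersion f] (hf : f ≫ g = 𝟙 Y) (n : ℕ) :
    IsFinite (PrinPart.infNbhdι f n ≫ g) := by
  let h := PrinPart.infNbhdι f n ≫ g
  let t := PrinPart.toInfNbhd f n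
  have ht : t ≫ h = 𝟙 Y := by
    show t ≫ PrinPart.infNbhdι f n ≫ g = _
    rw [PrinPart.toInfNbhd_ι_assoc, hf]
  have hr : ∀ y, h (t y) = y := fun y => by rw [← Scheme.Hom.comp_apply, ht]; rfl
  have hs : Function.Surjective t := PrinPart.toInfNbhd_surjective f n
  have hl : ∀ z, t (h z) = z := fun z => by obtain ⟨y, rfl⟩ := hs z; rw [hr]
  haveI : Surjective t := ⟨hs⟩
  haveI : UniversallyClosed (t ≫ h) := by rw [ht]; infer_instance
  haveI : UniversallyClosed h := UniversallyClosed.of_comp_surjective t h
  let e : (PrinPart.infNbhd f n : Scheme.{u}) ≃ₜ Y :=
    { toFun := h, invFun := t, left_inv := hl, right_inv := hr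
      continuous_toFun := h.continuous, continuous_invFun := t.continuous }
  haveI : IsAffineHom h := isAffineHom_of_isInducing h e.isEmbedding.isInducing
    (by rw [Set.range_eq_univ.2 fun y => ⟨t y, hr y⟩]; exact isClosed_univ)
  haveI : IsClosedImmersion (PrinPart.infNbhdι f n) :=
    inferInstanceAs (IsClosedImmersion (f.ker ^ (n + 1)).subschemeι)
  haveI : LocallyOfFiniteType h := inferInstanceAs (LocallyOfFiniteType (PrinPart.infNbhdι f n ≫ g))
  show IsFinite h
  exact (IsFinite.iff_isIntegralHom_and_locallyOfFiniteType h).2
    ⟨IsIntegralHom.iff_universallyClosed_and_isAffineHom.2 ⟨inferInstance, inferInstance⟩, inferInstance⟩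

end Groth.Agent.S5965
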