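import Groth.Statements.S5975
import Groth.Agent.CurveHurwitz.Seq
import Groth.Agent.PPSheaf.PullId

set_option linter.style.haveILetI false
set_option backward.isDefEq.respectTransparency false
set_option backward.isDefEq.respectTransparency.types false
set_option autoImplicit false
universe u
open CategoryTheory CategoryTheory.Limits AlgebraicGeometry TopologicalSpace Opposite
open Nrm16

namespace Groth.Agent.S5975

/-- Let f : X ⟶ Y and g : Y ⟶ Z be morphisms of schemes. Let (Ω_{Y/Z}, d), (Ω_{X/Z}, d') and (Ω_{X/Y},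
d'') be sheaves of differentials (universal derivations) and let c₁ : f^*Ω_{Y/Z} ⟶ Ω_{X/Z} and c₂ :
Ω_{X/Z} ⟶ Ω_{X/Y} be the canonical maps compatible with the derivations. Then c₂ is an epimorphism
and the image of c₁ is the kernel of c₂: the sequence f^*Ω_{Y/Z} ⟶ Ω_{X/Z} ⟶ Ω_{X/Y} ⟶ 0 is exact. -/
theorem result {X Y Z : Scheme.{u}} (f : X ⟶ Y) (g : Y ⟶ Z)
    (ΩY : Y.Modules) (dY : OmegaSh.Der g ΩY) (hY : OmegaSh.IsUniversal dY)
    (ΩX : X.Modules) (dX : OmegaSh.Der (f ≫ g) ΩX) (hX : OmegaSh.IsUniversal dX)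
    (ΩXY : X.Modules) (dXY : OmegaSh.Der f ΩXY) (hXY : OmegaSh.IsUniversal dXY)
    (c₁ : (Scheme.Modules.pullback f).obj ΩY ⟶ ΩX) (hc₁ : OmegaSh.IsDiffCompat f dY dX c₁)
    (c₂ : (Scheme.Modules.pullback (𝟙 X)).obj ΩX ⟶ ΩXY) (hc₂ : OmegaSh.IsDiffCompat (𝟙 X) dX dXY c₂) :
    Epi c₂ ∧
      imageSubobject c₁ = kernelSubobject ((Scheme.Modules.pullbackId X).inv.app ΩX ≫ c₂) := by
  obtain ⟨π, w, hπ, hex, hval⟩ : ∃ (π : ΩX ⟶ ΩXY) (w : c₁ ≫ π = 0), Epi π ∧ (ShortComplex.mk c₁ π w).Exact ∧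
      ∀ (U : X.Opens) (s : Γ(X, U)), π.app U (dX.app U s) = dXY.app U s :=
    Groth.Agent.CurveHurwitz.exists_sequence' f g ΩY dY hY ΩX dX hX ΩXY dXY hXY c₁ hc₁
  let π' := (Scheme.Modules.pullbackId X).inv.app ΩX ≫ c₂
  have hval' : ∀ (U : X.Opens) (s : Γ(X, U)), π'.app U (dX.app U s) = dXY.app U s := fun U s => by
    show c₂.app U (((Scheme.Modules.pullbackId X).inv.app ΩX).app U (dX.app U s)) = _
    rw [Groth.Agent.PPSheaf.pullbackId_inv_app]
    exact hc₂ U s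
  let D : OmegaSh.Der (f ≫ g) ΩXY :=
    { d := dXY.d
      d_mul := dXY.d_mul
      d_map := dXY.d_map
      d_app := fun {W} a => Groth.Agent.Synt29.OmegaStalk.app_base ΩXY dXY (g ⁻¹ᵁ W.unop) (g.app W.unop a) }
  have hpc : ∀ α : ΩX ⟶ ΩXY, (∀ (U : X.Opens) (s : Γ(X, U)), α.app U (dX.app U s) = dXY.app U s) →
      dX.postcomp α.val = D := fun α h => by
    refine PresheafOfModules.Derivation.ext ?_
    funext U
    ext s
    exact h U.unop s
  have heq : π = π' := (hX ΩXY D).unique (hpc π hval) (hpc π' hval')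
  subst heq
  haveI := hπ
  refine ⟨epi_of_epi ((Scheme.Modules.pullbackId X).inv.app ΩX) c₂, ?_⟩
  exact (ShortComplex.mk c₁ _ w).exact_iff_image_eq_kernel.mp hex

end Groth.Agent.S5975
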