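import Groth.Statements.S5978
import Groth.Agent.PPSheaf.DiffOp
import Groth.Agent.OmegaUniv.Universal

set_option linter.style.haveILetI false
set_option backward.isDefEq.respectTransparency false
set_option backward.isDefEq.respectTransparency.types false
set_option autoImplicit false
universe u
open CategoryTheory CategoryTheory.Limits AlgebraicGeometry TopologicalSpace Opposite
open Nrm16

namespace Groth.Agent.S5978

/-- Let f : X ⟶ S be a quasi-separated morphism, Ω_{X/S} its sheaf of differentials (the conormal sheaf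
of the diagonal) with its derivation d, e : O_X ⟶ P^1_{X/S} the O_X-linear map s ↦ s·1 and ι :
Ω_{X/S} ⟶ P^1_{X/S} the O_X-linear map with ι(d s) = d^1 s − s·1 for every local function s. Then
the map O_X ⊕ Ω_{X/S} ⟶ P^1_{X/S} induced by e and ι is an isomorphism of O_X-modules for the left
structure of P^1_{X/S}; in other words Ω_{X/S} is identified with the augmentation ideal of
P^1_{X/S} and d s = d^1 s − s. (The published text takes this as the definition of Ω_{X/S} for every
f; here Ω_{X/S} is the conormal sheaf of the diagonal, formed for quasi-separated f, and the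
identification is stated.) -/
theorem result {X S : Scheme.{u}} (f : X ⟶ S) [QuasiSeparated f]
    (e : Coh.structureModule X ⟶ PrinPart.P f 1)
    (he : ∀ (U : X.Opens) (s : Γ(X, U)), e.app U (OmegaSh.strSect X U s) = s • PrinPart.dn f 1 U 1)
    (ι : Omega.sheaf f ⟶ PrinPart.P f 1)
    (hι : ∀ (U : X.Opens) (s : Γ(X, U)),
      ι.app U ((OmegaSh.dOmega f).app U s) = PrinPart.dn f 1 U s - s • PrinPart.dn f 1 U 1) :
    IsIso (coprod.desc e ι) := by
  let O := Coh.structureModule X
  let dΩ := OmegaSh.dOmega f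
  -- the derivation as a morphism of presheaves
  let Dd : O.presheaf ⟶ (Omega.sheaf f).presheaf :=
    { app := fun U => AddCommGrpCat.ofHom ((dΩ.app U.unop).comp (OmegaSh.fnSect X U.unop))
      naturality := fun U V i => by
        ext s
        exact dΩ.d_map i (OmegaSh.fnSect X U.unop s) }
  have hDd : ∀ (U : X.Opens) (s : Γ(O, U)), Dd.app (op U) s = dΩ.app U (OmegaSh.fnSect X U s) := fun _ _ => rfl
  have hlin : Groth.Agent.PPSheaf.BaseLin f Dd := fun V s U hU t => by
    let r : Γ(X, U) := X.presheaf.map (homOfLE hU).op (f.app V s)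
    let t' : Γ(X, U) := OmegaSh.fnSect X U t
    have h0 : dΩ.app U r = 0 := by
      show dΩ.d (X := op U) (X.presheaf.map (homOfLE hU).op (f.app V s)) = 0
      rw [dΩ.d_map (homOfLE hU).op, show dΩ.d (f.app V s) = 0 from dΩ.d_app (X := op V) s, map_zero]
    show dΩ.app U (r * t') = r • dΩ.app U t'
    rw [show dΩ.app U (r * t') = r • dΩ.app U t' + t' • dΩ.app U r from dΩ.d_mul (X := op U) r t', h0]
    simp
  have halt : Groth.Agent.PPSheaf.Alt 1 Dd := fun U => by
    rw [Groth.Agent.PPSheaf.isOrd_succ]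
    intro c
    rw [Groth.Agent.PPSheaf.isOrd_zero]
    intro b
    ext t
    have key : ∀ (c : Γ(X, U)) (s : Γ(O, U)),
        Groth.Agent.PPSheaf.ad c (Dd.app (op U)).hom s = OmegaSh.fnSect X U s • dΩ.app U c := fun c s => by
      let s' : Γ(X, U) := OmegaSh.fnSect X U s
      show dΩ.app U (c * s') - c • dΩ.app U s' = s' • dΩ.app U c
      rw [show dΩ.app U (c * s') = c • dΩ.app U s' + s' • dΩ.app U c from dΩ.d_mul (X := op U) c s', add_sub_cancel_left]
    show Groth.Agent.PPSheaf.ad c (Dd.app (op U)).hom (b • t) -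
      b • Groth.Agent.PPSheaf.ad c (Dd.app (op U)).hom t = 0
    rw [key, key]
    show (b * OmegaSh.fnSect X U t) • dΩ.app U c - b • OmegaSh.fnSect X U t • dΩ.app U c = 0
    rw [smul_smul, sub_self]
  obtain ⟨u₂, hu₂⟩ := Groth.Agent.PPSheaf.exists_desc f 1 Dd hlin halt
  have h1 : PrinPart.IsDiffOpLE f O O 1 (𝟙 O.presheaf) :=
    Groth.Agent.Nrm6.isDiffOpLE_of_le f O O (Nat.zero_le 1)
      ((Groth.Agent.Nrm6.isDiffOpLE_zero_iff f O O _).2 fun _ _ _ => rfl)
  obtain ⟨u₁, hu₁⟩ := h1
  let u : PrinPart.P f 1 ⟶ O ⨿ Omega.sheaf f := u₁ ≫ coprod.inl + u₂ ≫ coprod.inr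
  have hu : ∀ (U : X.Opens) (s : Γ(X, U)), u.app U (PrinPart.dn f 1 U s) =
      (coprod.inl : O ⟶ O ⨿ Omega.sheaf f).app U (OmegaSh.strSect X U s) +
        (coprod.inr : Omega.sheaf f ⟶ O ⨿ Omega.sheaf f).app U (dΩ.app U s) := fun U s => by
    show (coprod.inl : O ⟶ O ⨿ Omega.sheaf f).app U (u₁.app U (PrinPart.dP f 1 O U (OmegaSh.strSect X U s))) +
      (coprod.inr : Omega.sheaf f ⟶ O ⨿ Omega.sheaf f).app U (u₂.app U (PrinPart.dP f 1 O U (OmegaSh.strSect X U s))) = _
    rw [← hu₁, ← hu₂]
    rfl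
  have hd1 : ∀ U : X.Opens, dΩ.app U 1 = 0 := fun U => by
    have h := dΩ.d_mul (X := op U) (1 : Γ(X, U)) (1 : Γ(X, U))
    erw [one_mul, one_smul] at h
    exact left_eq_add.mp h
  refine ⟨u, ?_, ?_⟩
  · refine coprod.hom_ext ?_ ?_
    · rw [coprod.inl_desc_assoc, Category.comp_id]
      refine Scheme.Modules.hom_ext _ _ fun U => ?_
      ext t
      show u.app U (e.app U (OmegaSh.strSect X U (OmegaSh.fnSect X U t))) = _
      rw [he, Scheme.Modules.Hom.app_smul, hu, hd1, map_zero, add_zero, ← Scheme.Modules.Hom.app_smul,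
        ← OmegaSh.strSect_mul, mul_one]
      rfl
    · rw [coprod.inr_desc_assoc, Category.comp_id]
      let D' := dΩ.postcomp (coprod.inr : Omega.sheaf f ⟶ O ⨿ Omega.sheaf f).val
      refine (Groth.Agent.OmegaUniv.isUniversal_dOmega f _ D').unique ?_ rfl
      refine PresheafOfModules.Derivation.ext ?_
      funext U
      ext s
      show u.app U.unop (ι.app U.unop (dΩ.app U.unop s)) =
        (coprod.inr : Omega.sheaf f ⟶ O ⨿ Omega.sheaf f).app U.unop (dΩ.app U.unop s)
      let s' : Γ(X, U.unop) := s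
      rw [hι, map_sub, Scheme.Modules.Hom.app_smul, hu, hu, hd1, map_zero, add_zero,
        ← Scheme.Modules.Hom.app_smul, ← OmegaSh.strSect_mul, mul_one, add_sub_cancel_left]
  · refine Groth.Agent.PPSheaf.hom_ext_dP f 1 O _ fun U t => ?_
    show (coprod.desc e ι).app U (u.app U (PrinPart.dn f 1 U (OmegaSh.fnSect X U t))) = PrinPart.dn f 1 U (OmegaSh.fnSect X U t)
    rw [hu, map_add]
    show (coprod.inl ≫ coprod.desc e ι).app U _ + (coprod.inr ≫ coprod.desc e ι).app U _ = _
    rw [coprod.inl_desc, coprod.inr_desc, he, hι, add_sub_cancel]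

end Groth.Agent.S5978
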