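import Groth.Statements.S5980
import Groth.Agent.PPSheaf.OpenImm

set_option autoImplicit false
universe u
open CategoryTheory CategoryTheory.Limits AlgebraicGeometry TopologicalSpace Opposite
open Nrm16

namespace Groth.Agent.S5980

/-- Consider a point y of Y and an immersion j : Y ⟶ X that is quasi-compact and locally of finite
presentation. The stalk at y of the conormal sheaf N_{Y/X} = I/I² is zero exactly when y has an open
neighbourhood U in Y on which the restriction of j is an open immersion. (The published statement
covers every immersion locally of finite presentation. Here j is additionally assumed quasi-compact,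
since in that case the conormal sheaf used here is the one attached to j.) -/
theorem result {Y X : Scheme.{u}} (j : Y ⟶ X) [IsImmersion j]
    [QuasiCompact j] [LocallyOfFinitePresentation j] (y : Y) :
    (∃ U : Y.Opens, y ∈ U ∧ IsOpenImmersion (U.ι ≫ j)) ↔
      Subsingleton ((Omega.conormal j).presheaf.stalk y) := by
  rw [Groth.Agent.PPSheaf.subsingleton_conormal_iff]
  refine ⟨?_, Groth.Agent.PPSheaf.exists_isOpenImmersion j y⟩
  rintro ⟨U, hy, hU⟩ a ha
  haveI h1 : IsIso ((U.ι ≫ j).stalkMap ⟨y, hy⟩) := inferInstance
  rw [Scheme.Hom.stalkMap_comp] at h1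
  have h2 : IsIso (j.stalkMap (U.ι ⟨y, hy⟩)) :=
    @IsIso.of_isIso_comp_right _ _ _ _ _ (j.stalkMap (U.ι ⟨y, hy⟩)) (U.ι.stalkMap ⟨y, hy⟩) inferInstance h1
  have hinj : Function.Injective (j.stalkMap y) := by
    haveI : IsIso (j.stalkMap y) := h2
    exact (ConcreteCategory.bijective_of_isIso _).1
  rw [show a = 0 from hinj ((RingHom.mem_ker.1 ha).trans (map_zero _).symm)]
  exact zero_mem _

end Groth.Agent.S5980
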