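import Groth.Statements.S5987
import Groth.Agent.H4Param.Basic
import Groth.Agent.H4CI.GorLink

set_option autoImplicit false
set_option linter.style.haveILetI false
set_option backward.isDefEq.respectTransparency false
universe u
open EGA418
open scoped Pointwise

namespace Groth.Agent.S5987

/-- Let A be a Noetherian local ring and p a prime ideal of A such that the local ring A_p is
Cohen–Macaulay, of dimension s; let t_1, …, t_s be a system of parameters of A_p (elements of its
maximal ideal such that A_p/(t_1, …, t_s) has dimension 0). Then there are elements x_1, …, x_s of p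
which form part of a system of parameters of A, in the sense that dim A/(x_1, …, x_s) + s = dim A,
and elements a_1, …, a_s of A outside p, such that for every i the image of x_i in A_p is congruent
to a_i t_i modulo the ideal (t_1, …, t_{i-1}) A_p. (The published statement asks for the image of
x_i to be congruent to t_i itself; this row allows the factor a_i outside p, which is what the
published proof gives, since it first multiplies each t_i by a unit of A_p to bring it into the
image of A. The published form fails already for s = 1: for A the localization of k[X, Y] at (X, Y),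
p = (X) and t_1 = X/Y, the congruence modulo the zero ideal asks for an element of A with image X/Y
in A_p, and there is none.) -/
theorem result (A : Type u) [CommRing A]
    [IsNoetherianRing A] [IsLocalRing A] (p : Ideal A) [p.IsPrime]
    [LocCoh.IsCohenMacaulayLocalRing (Localization.AtPrime p)] (s : ℕ)
    (hs : ringKrullDim (Localization.AtPrime p) = s) (t : Fin s → Localization.AtPrime p)
    (ht : ∀ i, t i ∈ IsLocalRing.maximalIdeal (Localization.AtPrime p))
    (hsop : ringKrullDim (Localization.AtPrime p ⧸ Ideal.span (Set.range t)) = 0) :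
    ∃ x a : Fin s → A, (∀ i, x i ∈ p) ∧ (∀ i, a i ∉ p) ∧
      ringKrullDim (A ⧸ Ideal.span (Set.range x)) + (s : WithBot ℕ∞) = ringKrullDim A ∧
      ∀ i : Fin s, algebraMap A (Localization.AtPrime p) (x i) -
          algebraMap A (Localization.AtPrime p) (a i) * t i ∈
        Ideal.span (t '' {j : Fin s | j < i}) := by
  classical
  haveI : Finite (MaximalSpectrum A) := by
    haveI : Subsingleton (MaximalSpectrum A) := ⟨fun a b => MaximalSpectrum.ext
      ((IsLocalRing.eq_maximalIdeal a.isMaximal).trans (IsLocalRing.eq_maximalIdeal b.isMaximal).symm)⟩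
    infer_instance
  let S := Localization.AtPrime p
  have hnum : ∀ i, ∃ b a : A, a ∉ p ∧ b ∈ p ∧ algebraMap A S b = algebraMap A S a * t i := fun i => by
    obtain ⟨⟨b, a⟩, hab⟩ := IsLocalization.surj p.primeCompl (t i)
    refine ⟨b, a, a.2, ?_, by rw [← hab, mul_comm]⟩
    refine (IsLocalization.AtPrime.to_map_mem_maximal_iff S p b).1 ?_
    rw [← hab]
    exact Ideal.mul_mem_right _ _ (ht i)
  choose b a ha hbp hba using hnum
  have hmem : ∀ r ∈ List.ofFn t, r ∈ IsLocalRing.maximalIdeal S := fun r hr => by
    obtain ⟨i, rfl⟩ := List.mem_ofFn.1 hr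
    exact ht i
  have hspan : Ideal.ofList (List.ofFn t) = Ideal.span (Set.range t) := by
    rw [Ideal.ofList]; congr 1; ext z; simp
  have hw : RingTheory.Sequence.IsWeaklyRegular S (List.ofFn t) := by
    refine H4CI.GorLink.isWeaklyRegular_of_dim_le _ hmem ?_
    rw [hspan, hsop, List.length_ofFn, zero_add, hs]
  let T : ℕ → Ideal S := fun i => Ideal.span (t '' {j : Fin s | (j : ℕ) < i})
  have hreg : ∀ i : Fin s, ∀ Q ∈ (T i).minimalPrimes, t i ∉ Q := by
    intro i Q hQ
    have h := (RingTheory.Sequence.isWeaklyRegular_iff (R := S) (M := S) (List.ofFn t)).1 hw i (by simp)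
    rw [List.getElem_ofFn] at h
    have hT : Ideal.ofList ((List.ofFn t).take i) = T i := by
      rw [Ideal.ofList]
      congr 1
      ext z
      simp only [Set.mem_setOf_eq, List.mem_take_iff_getElem, Set.mem_image, List.getElem_ofFn, List.length_ofFn]
      constructor
      · rintro ⟨j, hj, rfl⟩
        exact ⟨⟨j, by omega⟩, show j < (i : ℕ) by omega, rfl⟩
      · rintro ⟨j, hj, rfl⟩
        exact ⟨j, by have := j.2; omega, rfl⟩
    rw [hT] at h
    refine h.notMem_of_mem_minimalPrimes ?_
    rw [smul_eq_mul, Ideal.mul_top, Ideal.annihilator_quotient]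
    exact hQ
  have main : ∀ i ≤ s, ∃ x : Fin s → A, (∀ j, x j ∈ p) ∧
      (∀ j : Fin s, (j : ℕ) < i → algebraMap A S (x j) - algebraMap A S (a j) * t j ∈ T j) ∧
      (Ideal.span (x '' {j : Fin s | (j : ℕ) < i})).map (algebraMap A S) = T i ∧
      Module.supportDim A (A ⧸ Ideal.span (x '' {j : Fin s | (j : ℕ) < i})) + i = Module.supportDim A A := by
    intro i
    induction i with
    | zero =>
      intro _
      refine ⟨fun _ => 0, fun j => p.zero_mem, fun j hj => absurd hj (by omega), ?_, ?_⟩
      · simp [T]
      · simp only [Nat.not_lt_zero, Set.setOf_false, Set.image_empty, Ideal.span_empty, Nat.cast_zero, add_zero]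
        exact Module.supportDim_eq_of_equiv (Submodule.quotEquivOfEqBot _ (by simp))
    | succ i ih =>
      intro hi
      obtain ⟨x, hxp, hxc, hxT, hxd⟩ := ih (Nat.le_of_succ_le hi)
      let i' : Fin s := ⟨i, hi⟩
      let I := Ideal.span (x '' {j : Fin s | (j : ℕ) < i})
      let J := (T i).comap (algebraMap A S)
      have hIJ : I ≤ J := fun r hr => show algebraMap A S r ∈ T i from hxT ▸ Ideal.mem_map_of_mem _ hr
      have hTne : T i ≤ IsLocalRing.maximalIdeal S := Ideal.span_le.2 (by rintro _ ⟨j, -, rfl⟩; exact ht j)
      have hJp : J ≤ p := fun r hr => (IsLocalization.AtPrime.to_map_mem_maximal_iff S p r).1 (hTne hr)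
      have hfin := I.finite_minimalPrimes_of_isNoetherianRing
      have h1 : ∀ q ∈ I.minimalPrimes, q ≤ p → J ≤ q ∧ b i' ∉ q := by
        intro q hq hqp
        haveI := hq.1.1
        have hdisj : Disjoint (p.primeCompl : Set A) (q : Set A) := Set.disjoint_left.2 fun r hr hrq => hr (hqp hrq)
        haveI : (q.map (algebraMap A S)).IsPrime := IsLocalization.isPrime_of_isPrime_disjoint p.primeCompl S q inferInstance hdisj
        have hc : (q.map (algebraMap A S)).comap (algebraMap A S) = q :=
          IsLocalization.comap_map_of_isPrime_disjoint p.primeCompl S inferInstance hdisj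
        have hTq : T i ≤ q.map (algebraMap A S) := hxT ▸ Ideal.map_mono hq.1.2
        refine ⟨hc ▸ Ideal.comap_mono hTq, fun hb => ?_⟩
        have hQmin : q.map (algebraMap A S) ∈ (T i).minimalPrimes := by
          refine ⟨⟨inferInstance, hTq⟩, fun Q hQ hQq => ?_⟩
          haveI := hQ.1
          rw [← IsLocalization.map_under p.primeCompl S Q]
          refine Ideal.map_mono (hq.2 ⟨inferInstance, ?_⟩ ((Ideal.comap_mono hQq).trans hc.le))
          exact hIJ.trans (Ideal.comap_mono hQ.2)
        refine hreg i' _ hQmin ?_
        have h := Ideal.mem_map_of_mem (algebraMap A S) hb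
        rw [hba] at h
        exact ((Ideal.IsPrime.mul_mem_iff_mem_or_mem inferInstance).1 h).resolve_left fun h' =>
          ha i' (hqp (hc.le h'))
      have h2 : ∀ q ∈ I.minimalPrimes, ¬ q ≤ p → ¬ J ≤ q := by
        intro q hq hqp hJq
        haveI := hq.1.1
        obtain ⟨q', hq', hq'q⟩ := Ideal.exists_minimalPrimes_le hJq
        haveI := hq'.1.1
        have hq'p : q' ≤ p := by
          obtain ⟨Q, hQ, hQq'⟩ : ∃ Q : Ideal S, Q.IsPrime ∧ Q.comap (algebraMap A S) = q' := by
            have hker : RingHom.ker ((Ideal.Quotient.mk (T i)).comp (algebraMap A S)) = J := by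
              rw [← RingHom.comap_ker, Ideal.mk_ker]
            obtain ⟨P, hP, hPe⟩ := Ideal.exists_comap_eq_of_mem_minimalPrimes ((Ideal.Quotient.mk (T i)).comp (algebraMap A S))
              (I := ⊥) q' (by rw [← RingHom.ker_eq_comap_bot, hker]; exact hq')
            exact ⟨P.comap (Ideal.Quotient.mk (T i)), inferInstance, by rw [Ideal.comap_comap]; exact hPe.2⟩
          intro r hr
          rw [← hQq'] at hr
          exact (IsLocalization.AtPrime.to_map_mem_maximal_iff S p r).1 (IsLocalRing.le_maximalIdeal hQ.ne_top hr)
        exact hqp ((le_antisymm (hq.2 ⟨inferInstance, hIJ.trans hq'.1.2⟩ hq'q) hq'q).trans_le hq'p)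
      let Pgood := hfin.toFinset.filter fun q => ¬ b i' ∈ q
      let Pbad := hfin.toFinset.filter fun q => b i' ∈ q
      have hnot : ¬ ((J ⊓ Pgood.inf id : Ideal A) : Set A) ⊆ ⋃ q ∈ (Pbad : Set (Ideal A)), (q : Set A) := by
        intro hsub
        obtain ⟨q, hq, hle⟩ := (Ideal.subset_union_prime ⊥ ⊥
          (fun q hq _ _ => (hfin.mem_toFinset.1 (Finset.mem_filter.1 hq).1).1.1)).1 hsub
        obtain ⟨hq1, hq2⟩ := Finset.mem_filter.1 hq
        rw [hfin.mem_toFinset] at hq1
        haveI := hq1.1.1
        rcases (Ideal.IsPrime.inf_le inferInstance).1 hle with h | h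
        · by_cases hqp : q ≤ p
          · exact (h1 q hq1 hqp).2 hq2
          · exact h2 q hq1 hqp h
        · obtain ⟨q', hq', hle'⟩ := (Ideal.IsPrime.inf_le' inferInstance).1 h
          obtain ⟨hq'1, hq'2⟩ := Finset.mem_filter.1 hq'
          rw [hfin.mem_toFinset] at hq'1
          have e : q' = q := le_antisymm hle' (hq1.2 ⟨hq'1.1.1, hq'1.1.2⟩ hle')
          exact hq'2 (e.symm ▸ hq2)
      obtain ⟨c, hc, hcb⟩ := Set.not_subset.1 hnot
      simp only [Set.mem_iUnion, not_exists] at hcb
      obtain ⟨hcJ, hcg⟩ := Submodule.mem_inf.1 hc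
      let y := b i' + c
      have hy : ∀ q ∈ I.minimalPrimes, y ∉ q := by
        intro q hq hyq
        by_cases hb : b i' ∈ q
        · exact hcb q (Finset.mem_coe.2 (Finset.mem_filter.2 ⟨hfin.mem_toFinset.2 hq, hb⟩))
            (by simpa [y] using sub_mem hyq hb)
        · have hcq : c ∈ q := (Finset.inf_le (f := id) (Finset.mem_filter.2 ⟨hfin.mem_toFinset.2 hq, hb⟩) : Pgood.inf id ≤ q) hcg
          exact hb (by simpa [y] using sub_mem hyq hcq)
      have hyp : y ∈ p := add_mem (hbp i') (hJp hcJ)
      have hne : ∀ j : Fin s, (j : ℕ) < i → j ≠ i' := fun j hj h => by subst h; exact lt_irrefl i hj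
      refine ⟨Function.update x i' y, fun j => ?_, fun j hj => ?_, ?_, ?_⟩
      · by_cases hj : j = i'
        · subst hj; rw [Function.update_self]; exact hyp
        · rw [Function.update_of_ne hj]; exact hxp j
      · by_cases hj' : j = i'
        · subst hj'
          rw [Function.update_self, map_add, hba, add_sub_cancel_left]
          exact hcJ
        · rw [Function.update_of_ne hj']
          exact hxc j (by
            have : (j : ℕ) ≠ i := fun h => hj' (Fin.ext h)
            omega)
      all_goals
        have himg : Function.update x i' y '' {j : Fin s | (j : ℕ) < i + 1} = insert y (x '' {j : Fin s | (j : ℕ) < i}) := by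
          have hset : {j : Fin s | (j : ℕ) < i + 1} = insert i' {j : Fin s | (j : ℕ) < i} := by
            ext j; simp [i', Fin.ext_iff]; omega
          rw [hset, Set.image_insert_eq, Function.update_self]
          congr 1
          exact Set.image_congr fun j hj => Function.update_of_ne (hne j hj) _ _
        rw [himg, Ideal.span_insert]
      · have hTs : T (i + 1) = Ideal.span {t i'} ⊔ T i := by
          have hset : {j : Fin s | (j : ℕ) < i + 1} = insert i' {j : Fin s | (j : ℕ) < i} := by
            ext j; simp [i', Fin.ext_iff]; omega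
          simp only [T, hset, Set.image_insert_eq, Ideal.span_insert]
          rfl
        rw [Ideal.map_sup, Ideal.map_span, Set.image_singleton, hxT, hTs]
        have hy' : algebraMap A S y = algebraMap A S (a i') * t i' + algebraMap A S c := by rw [map_add, hba]
        have hu : IsUnit (algebraMap A S (a i')) := IsLocalization.map_units S (⟨a i', ha i'⟩ : p.primeCompl)
        apply le_antisymm <;> refine sup_le ((Ideal.span_singleton_le_iff_mem _).2 ?_) le_sup_right
        · rw [hy']
          exact add_mem (Ideal.mul_mem_left _ _ (Ideal.mem_sup_left (Ideal.mem_span_singleton_self _))) (Ideal.mem_sup_right hcJ)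
        · have : algebraMap A S (a i') * t i' ∈ Ideal.span {algebraMap A S y} ⊔ T i := by
            rw [show algebraMap A S (a i') * t i' = algebraMap A S y - algebraMap A S c by rw [hy']; ring]
            exact sub_mem (Ideal.mem_sup_left (Ideal.mem_span_singleton_self _)) (Ideal.mem_sup_right hcJ)
          exact (Ideal.unit_mul_mem_iff_mem _ hu).1 this
      · have hI : I ≠ ⊤ := fun h => (Ideal.IsPrime.ne_top ‹p.IsPrime›) (top_le_iff.1 (h ▸ hIJ.trans hJp))
        haveI : Nontrivial (A ⧸ I) := Ideal.Quotient.nontrivial_iff.2 hI
        obtain ⟨D, hD⟩ := H4Param.exists_supportDim_eq_nat (A := A) (A ⧸ I)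
        have hstep : Module.supportDim A (QuotSMulTop y (A ⧸ I)) + 1 = Module.supportDim A (A ⧸ I) := by
          refine (S5767.result A (A ⧸ I) y (by
            rw [IsLocalRing.ringJacobson_eq_maximalIdeal]
            exact IsLocalRing.le_maximalIdeal (Ideal.IsPrime.ne_top ‹p.IsPrime›) hyp)).2 fun P hP hPD hyP => ?_
          rw [← S5767.coheight_eq, hD] at hPD
          have hpc : Order.coheight P = (D : ℕ∞) := WithBot.coe_inj.1 hPD
          have hIP : I ≤ P.asIdeal := by
            rw [Module.support_eq_zeroLocus, Ideal.annihilator_quotient] at hP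
            exact hP
          obtain ⟨q, hq, hqP⟩ := Ideal.exists_minimalPrimes_le hIP
          haveI := hq.1.1
          have hqc := H4Param.coheight_le_supportDim (M := A ⧸ I) (q := ⟨q, inferInstance⟩)
            (Module.mem_support_iff_of_finite.2 (Ideal.annihilator_quotient.trans_le hq.1.2))
          rw [hD] at hqc
          have hqe : q = P.asIdeal := by
            by_contra hne'
            have hlt : (⟨q, inferInstance⟩ : PrimeSpectrum A) < P :=
              lt_of_le_of_ne hqP fun e => hne' (congrArg PrimeSpectrum.asIdeal e)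
            have h1' : Order.coheight P + 1 ≤ (D : ℕ∞) := (Order.coheight_add_one_le hlt).trans (WithBot.coe_le_coe.1 hqc)
            rw [hpc] at h1'
            have : D + 1 ≤ D := by exact_mod_cast h1'
            omega
          exact hy q hq (hqe ▸ hyP)
        rw [← hxd, ← hstep, Nat.cast_succ, ← add_assoc, add_right_comm]
        congr 2
        refine Module.supportDim_eq_of_equiv ?_
        refine ((Submodule.quotEquivOfEq _ _ ?_).trans ((Submodule.quotientQuotientEquivQuotientSup I (Ideal.span {y})).symm)).trans
          (Submodule.quotEquivOfEq _ _ ?_)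
        · exact sup_comm _ _
        · have hsp : (Ideal.span {y} : Ideal A) = y • (⊤ : Submodule A A) := by
            rw [← Submodule.ideal_span_singleton_smul, smul_eq_mul, Ideal.mul_top]
          rw [show (Ideal.span {y} : Submodule A A) = _ from hsp, Submodule.map_pointwise_smul, Submodule.map_top, Submodule.range_mkQ]
  obtain ⟨x, hxp, hxc, -, hxd⟩ := main s le_rfl
  have hall : {j : Fin s | (j : ℕ) < s} = Set.univ := by ext j; simp [j.2]
  rw [hall, Set.image_univ, Module.supportDim_quotient_eq_ringKrullDim, Module.supportDim_self_eq_ringKrullDim] at hxd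
  refine ⟨x, a, hxp, ha, hxd, fun i => ?_⟩
  exact hxc i i.2

end Groth.Agent.S5987
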