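import Groth.Statements.S5997
import Groth.Agent.H9Existence.ProjLift

set_option linter.style.haveILetI false
set_option backward.isDefEq.respectTransparency false
set_option backward.isDefEq.respectTransparency.types false
-- import your own Groth.Agent.* helpers here

set_option autoImplicit false
universe u
open SGA1

namespace Groth.Agent.S5997

open AlgebraicGeometry CategoryTheory CategoryTheory.Limits in
/-- Suppose A is a Noetherian local ring, complete for its maximal ideal, whose residue field we call k,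
and consider a proper flat A-scheme X such that the closed fibre X ×_A k is isomorphic over k to
P^r_k. Then X is isomorphic over A to P^r_A. (For ordinary schemes the published statement leaves
out flatness, yet the proof relies on it; dropping it, P^r_k regarded as an A-scheme via the closed
point gives a counterexample as soon as A fails to be a field. This row therefore assumes f is
flat.) -/
theorem result (A : Type u) [CommRing A] [IsLocalRing A]
    [IsNoetherianRing A] [IsAdicComplete (IsLocalRing.maximalIdeal A) A] (r : ℕ) {X : Scheme.{u}}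
    (f : X ⟶ Spec (CommRingCat.of A)) [IsProper f] [Flat f]
    (e₀ : pullback f (Spec.map (CommRingCat.ofHom (IsLocalRing.residue A))) ≅
      CohB1.ProjSpace r (IsLocalRing.ResidueField A))
    (he₀ : e₀.hom ≫ CohB1.ProjSpace.toSpec r (IsLocalRing.ResidueField A) = pullback.snd f _) :
    ∃ e : X ≅ CohB1.ProjSpace r A, e.hom ≫ CohB1.ProjSpace.toSpec r A = f := by
  letI : X.Over (Spec (CommRingCat.of A)) := ⟨f⟩
  haveI : IsProper (X ↘ Spec (CommRingCat.of A)) := ‹IsProper f›
  haveI : Flat (X ↘ Spec (CommRingCat.of A)) := ‹Flat f›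
  letI : (CohB1.ProjSpace r A).Over (Spec (CommRingCat.of A)) := ⟨CohB1.ProjSpace.toSpec r A⟩
  let k := IsLocalRing.ResidueField A
  let R := Spec.map (CommRingCat.ofHom (IsLocalRing.residue A))
  let i := pullback.fst f R
  let q := pullback.snd f R
  have sq : IsPullback i q (X ↘ Spec (CommRingCat.of A))
      (Spec.map (CommRingCat.ofHom (Ideal.Quotient.mk (IsLocalRing.maximalIdeal A)))) := IsPullback.of_hasPullback _ _
  haveI : IsClosedImmersion i :=
    MorphismProperty.of_isPullback sq.flip (IsClosedImmersion.spec_of_surjective _ Ideal.Quotient.mk_surjective)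
  obtain ⟨b, hb⟩ := Groth.Agent.H9Existence.exists_baseChange_proj r A k
  have sqP : IsPullback (e₀.hom ≫ b) q ((CohB1.ProjSpace r A) ↘ Spec (CommRingCat.of A))
      (Spec.map (CommRingCat.ofHom (Ideal.Quotient.mk (IsLocalRing.maximalIdeal A)))) :=
    hb.of_iso e₀.symm (Iso.refl _) (Iso.refl _) (Iso.refl _) (by simp) (by rw [show q = e₀.hom ≫ CohB1.ProjSpace.toSpec r k from he₀.symm]; simp)
      (by simp; rfl) (by simp; rfl)
  haveI hPp : IsProper (CohB1.ProjSpace.toSpec r k) :=
    Groth.Agent.PnCoh.Chow.isProper_toSpec r k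
  haveI : IsProper ((CohB1.ProjSpace r A) ↘ Spec (CommRingCat.of A)) :=
    Groth.Agent.PnCoh.Chow.isProper_toSpec r A
  -- vanishing on the closed fibre
  have hvan : ∀ {M : (CohB1.ProjSpace r k).Modules}, PicF.IsInvertible M → ∀ (s : Γ(M, ⊤)) (x : CohB1.ProjSpace r k),
      x ∈ Groth.Agent.H23.TrivBasic.locus s → ∀ n, 0 < n →
      Subsingleton (Coh.HH (pullback f R) ((Scheme.Modules.pullback e₀.hom).obj M) n) := fun hM s x hx n hn =>
    Groth.Agent.H9Existence.subsingleton_HH_pullback_iso (CohB1.ProjSpace.toSpec r k) e₀.hom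
      (Groth.Agent.ProjUPX.isQCoh_of_isInvertible hM) n
      (Groth.Agent.H9Existence.subsingleton_HH_of_section r k hM s hx hn)
  obtain ⟨x₀⟩ := Groth.Agent.H9Existence.nonempty_projSpace r k
  have h2 : Subsingleton (Coh.HH (pullback f R) (Coh.structureModule _) 2) := by
    refine Groth.Agent.AmpleVan.subsingleton_of_iso (Groth.Agent.CurveBC.unitIso e₀.hom) 2
      (hvan (M := Coh.structureModule _) Groth.Agent.InvX.isInvertible_structureModule
        (show Γ(Coh.structureModule (CohB1.ProjSpace r k), ⊤) from (1 : Γ(CohB1.ProjSpace r k, ⊤))) x₀ ?_ 2 two_pos)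
    exact Groth.Agent.H23.TrivBasic.mem_locus_iff.2 ⟨⊤, trivial, by
      rw [Groth.Agent.AModX.res_self]
      exact Groth.Agent.InvX.isFrame_one ⊤⟩
  -- lift the polarisation
  let O1 := Twist.twistProjSpace r A 1
  have hO1 : PicF.IsInvertible O1 := Groth.Agent.PnCoh.Finite.isInvertible_twist (fun j : ULift.{u} (Fin (r + 1)) => MvPolynomial.X j.down)
    (fun j => Groth.Agent.ProjPt.X_mem j.down) (by
      refine top_le_iff.1 ((Groth.Agent.AmpleEmbed.iSup_basicOpen_X r A).ge.trans (iSup_le fun j => ?_))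
      exact le_iSup_of_le (ULift.up j) le_rfl) 1
  let r₀ := e₀.hom ≫ b
  obtain ⟨L, hL, ⟨φ⟩⟩ := Groth.Agent.S11763.result A f h2 ((Scheme.Modules.pullback r₀).obj O1)
    (Groth.Agent.PicClLib.isInvertible_pullback _ hO1)
  let y : Fin (r + 1) → Γ((Scheme.Modules.pullback i).obj L, ⊤) := fun l =>
    φ.inv.app ⊤ (Groth.Agent.FComplLib.pullTop r₀ O1 (ProjUP.coord r A l))
  have hloc0 : ∀ z : ↥(pullback f R), ∃ l, z ∈ Groth.Agent.H23.TrivBasic.locus (y l) := fun z => by
    obtain ⟨l, hl⟩ := TopologicalSpace.Opens.mem_iSup.1 ((Groth.Agent.AmpleEmbed.iSup_basicOpen_X r A).ge (Set.mem_univ (r₀ z)))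
    refine ⟨l, ?_⟩
    exact (Groth.Agent.AmpleEmbed.preimage_chart r₀ φ.symm l (s := y l) rfl).le hl
  have h1 : Subsingleton (Coh.HH (pullback f R) ((Scheme.Modules.pullback i).obj L) 1) := by
    let M := (Scheme.Modules.pullback b).obj O1
    obtain ⟨l, hl⟩ := TopologicalSpace.Opens.mem_iSup.1 ((Groth.Agent.AmpleEmbed.iSup_basicOpen_X r A).ge (Set.mem_univ (b x₀)))
    have := hvan (M := M) (Groth.Agent.PicClLib.isInvertible_pullback _ hO1)
      (Groth.Agent.FComplLib.pullTop b O1 (ProjUP.coord r A l)) x₀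
      ((Groth.Agent.AmpleEmbed.preimage_chart b (Iso.refl M) l
        (s := Groth.Agent.FComplLib.pullTop b O1 (ProjUP.coord r A l)) rfl).le hl) 1 one_pos
    exact Groth.Agent.AmpleVan.subsingleton_of_iso
      ((Scheme.Modules.pullbackComp e₀.hom b).app O1 ≪≫ φ.symm) 1 this
  have hlift := fun l => Groth.Agent.H9Existence.exists_lift_section A sq hL h1 (y l)
  choose s hs using hlift
  have hcov : ∀ x : X, ∃ l, x ∈ Groth.Agent.H23.TrivBasic.locus (s l) := fun x => by
    obtain ⟨_, ⟨z, rfl⟩, hxz⟩ := Groth.Agent.H9Existence.exists_specializes_range sq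
      (IsLocalRing.maximalIdeal_le_jacobson ⊥) x
    obtain ⟨l, hl⟩ := hloc0 z
    rw [← hs l] at hl
    exact ⟨l, hxz.mem_open (Groth.Agent.H23.TrivBasic.locus (s l)).2
      ((Groth.Agent.H23.TrivBasic.locus_pullElt hL i (s l)).le hl)⟩
  obtain ⟨ρ, hρ, τ, hτ⟩ := Groth.Agent.S3572.result r f L hL s (Groth.Agent.VeryAmple.generatedBy_of_locus s hcov)
  have hi : i ≫ ρ = r₀ := by
    refine Groth.Agent.S3573.result r _ _ (by rw [Category.assoc, hρ]; exact sq.w.trans sqP.w.symm)
      (((Scheme.Modules.pullbackComp i ρ).app O1).symm ≪≫ (Scheme.Modules.pullback i).mapIso τ ≪≫ φ) fun l => ?_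
    let c : Γ(O1, ⊤) := ProjUP.coord r A l
    show φ.hom.app ⊤ (((Scheme.Modules.pullback i).map τ.hom).app ⊤
        (((Scheme.Modules.pullbackComp i ρ).inv.app O1).app ⊤ (Groth.Agent.FComplLib.pullTop (i ≫ ρ) O1 c))) =
      Groth.Agent.FComplLib.pullTop r₀ O1 c
    have e1 : ((Scheme.Modules.pullbackComp i ρ).inv.app O1).app ⊤ (Groth.Agent.FComplLib.pullTop (i ≫ ρ) O1 c) =
        Groth.Agent.FComplLib.pullTop i _ (Groth.Agent.FComplLib.pullTop ρ O1 c) := by
      rw [← Groth.Agent.FComplLib.pullTop_comp]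
      exact congr(($((Scheme.Modules.pullbackComp i ρ).hom_inv_id_app O1)).app ⊤ _)
    rw [e1, Groth.Agent.FComplLib.pullTop_naturality]
    have e2 : τ.hom.app ⊤ (Groth.Agent.FComplLib.pullTop ρ O1 c) = s l := hτ l
    rw [e2, hs]
    exact congr(($(φ.inv_hom_id)).app ⊤ _)
  haveI := Groth.Agent.H9Existence.isIso_of_closedFibre A ρ hρ sq sqP hi
  exact ⟨asIso ρ, hρ⟩

end Groth.Agent.S5997
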