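import Groth.Statements.S5999
import Groth.Agent.SmQuot9.Local
import Mathlib.RingTheory.Smooth.Locus
import Mathlib.RingTheory.SurjectiveOnStalks
import Mathlib.RingTheory.LocalRing.ResidueField.Ideal

set_option linter.style.haveILetI false
set_option backward.isDefEq.respectTransparency false
set_option backward.isDefEq.respectTransparency.types false


set_option autoImplicit false
universe u
open SGA1

namespace Groth.Agent.S5999

open TensorProduct in
/-- Let R be a Noetherian ring, A an R-algebra of finite type, F an element of A, P a prime ideal of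
A/(F) and q its preimage in A, and suppose A is smooth over R at q. Then the hypersurface A/(F) is
smooth over R at P if and only if either F is zero in the local ring A_q (F vanishes on a
neighbourhood of q) or the image dF(q) of the differential of F in κ(q) ⊗_A Ω_{A/R} is nonzero. -/
theorem result
    (R A : Type u) [CommRing R] [CommRing A] [IsNoetherianRing R] [Algebra R A] [Algebra.FiniteType R A]
    (F : A) (P : Ideal (A ⧸ Ideal.span ({F} : Set A))) [P.IsPrime]
    (hX : Algebra.IsSmoothAt R (P.comap (Ideal.Quotient.mk (Ideal.span ({F} : Set A))))) :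
    letI q : Ideal A := P.comap (Ideal.Quotient.mk (Ideal.span ({F} : Set A)))
    Algebra.IsSmoothAt R P ↔ algebraMap A (Localization.AtPrime q) F = 0 ∨
      (1 : q.ResidueField) ⊗ₜ[A] KaehlerDifferential.D R A F ≠ 0 := by

  let q : Ideal A := P.comap (Ideal.Quotient.mk (Ideal.span ({F} : Set A)))
  let I : Ideal A := Ideal.span {F}
  let B := Localization.AtPrime q
  let C := Localization.AtPrime P
  haveI : Algebra.FormallySmooth R B := hX
  haveI : Algebra.EssFiniteType A B := .of_isLocalization _ q.primeCompl
  haveI : Algebra.EssFiniteType R B := .comp _ A _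
  haveI : Module.Finite B Ω[B⁄R] := inferInstance
  have hFI : F ∈ I := Ideal.mem_span_singleton_self F
  have hFq : F ∈ q := by
    rw [Ideal.mem_comap, Ideal.Quotient.eq_zero_iff_mem.2 hFI]; exact P.zero_mem
  let h : B := algebraMap A B F
  have hm : h ∈ IsLocalRing.maximalIdeal B := (IsLocalization.AtPrime.to_map_mem_maximal_iff B q F).2 hFq
  let φ : B →ₐ[R] C :=
    { Localization.localRingHom q P (Ideal.Quotient.mk I) rfl with
      commutes' := fun r => by
        change Localization.localRingHom q P (Ideal.Quotient.mk I) rfl (algebraMap R B r) = algebraMap R C r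
        rw [IsScalarTower.algebraMap_apply R A B, Localization.localRingHom_to_map,
          IsScalarTower.algebraMap_apply R (A ⧸ I) C, IsScalarTower.algebraMap_apply R A (A ⧸ I)]
        rfl }
  have hφs : Function.Surjective φ :=
    RingHom.surjectiveOnStalks_of_surjective (Ideal.Quotient.mk_surjective (I := I)) P _
  have hφk : RingHom.ker φ = Ideal.span {h} := by
    refine le_antisymm (fun x hx => ?_) ((Ideal.span_singleton_le_iff_mem _).2 ?_)
    · obtain ⟨⟨a, s⟩, rfl⟩ := IsLocalization.mk'_surjective q.primeCompl (S := B) x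
      have hx' : Localization.localRingHom q P (Ideal.Quotient.mk I) rfl (IsLocalization.mk' B a s) = 0 := hx
      rw [Localization.localRingHom_mk', IsLocalization.mk'_eq_zero_iff] at hx'
      obtain ⟨⟨t, ht⟩, hta⟩ := hx'
      obtain ⟨u, rfl⟩ := Ideal.Quotient.mk_surjective t
      have hu : u ∈ q.primeCompl := ht
      rw [← map_mul, Ideal.Quotient.eq_zero_iff_mem, Ideal.mem_span_singleton'] at hta
      obtain ⟨c, hc⟩ := hta
      rw [Ideal.mem_span_singleton']
      refine ⟨IsLocalization.mk' B c (⟨u, hu⟩ * s), ?_⟩
      rw [mul_comm, IsLocalization.mul_mk'_eq_mk'_of_mul, IsLocalization.mk'_eq_iff_eq]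
      congr 1
      simp only [Submonoid.coe_mul]
      rw [mul_comm F c, hc]
      ring
    · rw [RingHom.mem_ker]
      change Localization.localRingHom q P (Ideal.Quotient.mk I) rfl h = 0
      rw [Localization.localRingHom_to_map, Ideal.Quotient.eq_zero_iff_mem.2 hFI, map_zero]
  let eC : (B ⧸ Ideal.span {h}) ≃ₐ[R] C :=
    (Ideal.quotientEquivAlgOfEq R hφk.symm).trans (Ideal.quotientKerAlgEquivOfSurjective hφs)
  have h1 : Algebra.IsSmoothAt R P ↔ Algebra.FormallySmooth R (B ⧸ Ideal.span {h}) :=
    ⟨fun (hs : Algebra.FormallySmooth R C) => .of_equiv eC.symm, fun hs => .of_equiv eC⟩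
  rw [h1, Groth.Agent.SmQuot9.formallySmooth_quotient_iff h hm]
  refine or_congr Iff.rfl ?_
  have hb := (isLocalizedModule_iff_isBaseChange q.primeCompl B (KaehlerDifferential.map R R A B)).1 inferInstance
  let e : q.ResidueField ⊗[A] Ω[A⁄R] ≃ₗ[q.ResidueField] q.ResidueField ⊗[B] Ω[B⁄R] :=
    (AlgebraTensorModule.cancelBaseChange A B q.ResidueField q.ResidueField Ω[A⁄R]).symm ≪≫ₗ
      AlgebraTensorModule.congr (LinearEquiv.refl q.ResidueField q.ResidueField) hb.equiv
  have he : e ((1 : q.ResidueField) ⊗ₜ[A] KaehlerDifferential.D R A F) =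
      (1 : IsLocalRing.ResidueField B) ⊗ₜ[B] KaehlerDifferential.D R B h := by
    simp only [e, LinearEquiv.trans_apply, AlgebraTensorModule.cancelBaseChange_symm_tmul,
      AlgebraTensorModule.congr_tmul, LinearEquiv.refl_apply, hb.equiv_tmul, one_smul, KaehlerDifferential.map_D]
    rfl
  rw [← he, e.map_ne_zero_iff]
end Groth.Agent.S5999
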