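import Groth.Statements.S6001
import Groth.Agent.S9562
import Groth.Agent.Hensel.EtaleReduced
import Mathlib.RingTheory.Etale.Locus
import Mathlib.RingTheory.Unramified.LocalRing

set_option linter.style.haveILetI false
set_option backward.isDefEq.respectTransparency false
set_option backward.isDefEq.respectTransparency.types false


set_option autoImplicit false
universe u
open SGA1

namespace Groth.Agent.S6001

/-- Let A be a Noetherian local ring which is analytically reduced (its completion has no nonzero
nilpotents), and let B be the local ring at a prime q, lying over the maximal ideal of A, of an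
A-algebra C of finite type that is etale over A at q (an etale local homomorphism A ⟶ B). Then B is
analytically reduced, and in particular reduced. -/
theorem result (A C : Type u) [CommRing A] [IsLocalRing A]
    [IsNoetherianRing A] [CommRing C] [Algebra A C] [Algebra.FiniteType A C] (q : Ideal C) [q.IsPrime]
    (hq : Ideal.comap (algebraMap A C) q = IsLocalRing.maximalIdeal A) (hC : Algebra.IsEtaleAt A q)
    (hA : IsReduced (AdicCompletion (IsLocalRing.maximalIdeal A) A)) :
    IsReduced (AdicCompletion (IsLocalRing.maximalIdeal (Localization.AtPrime q)) (Localization.AtPrime q)) ∧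
      IsReduced (Localization.AtPrime q) := by
  haveI := hC
  haveI : Algebra.FinitePresentation A C := Algebra.FinitePresentation.of_finiteType.mp inferInstance
  haveI : IsNoetherianRing C := Algebra.FiniteType.isNoetherianRing A C
  let B := Localization.AtPrime q
  haveI : IsNoetherianRing B := IsLocalization.isNoetherianRing q.primeCompl B inferInstance
  haveI hloc : IsLocalHom (algebraMap A B) := ⟨fun a ha => by
    by_contra h
    have h1 : algebraMap A C a ∈ q := by
      have : a ∈ Ideal.comap (algebraMap A C) q := hq ▸ (IsLocalRing.mem_maximalIdeal a).2 h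
      exact this
    have h2 : algebraMap C B (algebraMap A C a) ∈ IsLocalRing.maximalIdeal B :=
      (IsLocalization.AtPrime.to_map_mem_maximal_iff B q _).2 h1
    rw [← IsScalarTower.algebraMap_apply] at h2
    exact h2 ha⟩
  haveI : Algebra.EssFiniteType A B := Algebra.EssFiniteType.comp A C B
  obtain ⟨f, hf, het⟩ := Algebra.exists_etale_of_isEtaleAt (R := A) q
  haveI := het
  haveI : Module.Flat A B := by
    have hu : ∀ y : Submonoid.powers f, IsUnit (algebraMap C B y) := by
      rintro ⟨_, n, rfl⟩
      rw [map_pow]
      exact (IsLocalization.map_units B (⟨f, hf⟩ : q.primeCompl)).pow n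
    algebraize [(IsLocalization.lift (S := Localization.Away f) hu)]
    haveI : IsScalarTower C (Localization.Away f) B :=
      IsScalarTower.of_algebraMap_eq' (IsLocalization.lift_comp hu).symm
    haveI : IsScalarTower A (Localization.Away f) B := IsScalarTower.of_algebraMap_eq' (by
      rw [IsScalarTower.algebraMap_eq A C B, IsScalarTower.algebraMap_eq C (Localization.Away f) B,
        IsScalarTower.algebraMap_eq A C (Localization.Away f), RingHom.comp_assoc])
    haveI := IsLocalization.isLocalization_of_submonoid_le (Localization.Away f) B (Submonoid.powers f) q.primeCompl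
      (Submonoid.powers_le.2 hf)
    haveI : Module.Flat (Localization.Away f) B :=
      IsLocalization.flat B (q.primeCompl.map (algebraMap C (Localization.Away f)))
    exact Module.Flat.trans A (Localization.Away f) B
  have hm : (IsLocalRing.maximalIdeal A).map (algebraMap A B) = IsLocalRing.maximalIdeal B :=
    Algebra.FormallyUnramified.map_maximalIdeal
  have hle : ∀ n, IsLocalRing.maximalIdeal A ^ n ≤ (IsLocalRing.maximalIdeal B ^ n).comap (algebraMap A B) := by
    intro n
    rw [← Ideal.map_le_iff_le_comap, Ideal.map_pow, hm]
  let fn : (n : ℕ) → AdicCompletion (IsLocalRing.maximalIdeal A) A →+* B ⧸ IsLocalRing.maximalIdeal B ^ n := fun n =>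
    (Ideal.quotientMap _ (algebraMap A B) (hle n)).comp
      (AdicCompletion.evalₐ (IsLocalRing.maximalIdeal A) n).toRingHom
  have compat : ∀ {m n : ℕ} (hle' : m ≤ n),
      (Ideal.Quotient.factorPow (IsLocalRing.maximalIdeal B) hle').comp (fn n) = fn m := by
    intro m n hle'
    refine RingHom.ext fun x => ?_
    induction x using AdicCompletion.induction_on with
    | _ y =>
      show Ideal.Quotient.factorPow (IsLocalRing.maximalIdeal B) hle'
          (Ideal.quotientMap _ (algebraMap A B) (hle n) (AdicCompletion.evalₐ (IsLocalRing.maximalIdeal A) n (AdicCompletion.mk _ A y))) =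
        Ideal.quotientMap _ (algebraMap A B) (hle m) (AdicCompletion.evalₐ (IsLocalRing.maximalIdeal A) m (AdicCompletion.mk _ A y))
      rw [AdicCompletion.evalₐ_mk, AdicCompletion.evalₐ_mk]
      show Ideal.Quotient.mk _ (algebraMap A B (y.val n)) = Ideal.Quotient.mk _ (algebraMap A B (y.val m))
      rw [Ideal.Quotient.eq, ← map_sub]
      refine hle m ?_
      have h := SModEq.sub_mem.1 (y.property hle')
      rw [Ideal.smul_top_eq_map, Algebra.algebraMap_self, Ideal.map_id] at h
      exact (Ideal.neg_mem_iff _).1 (by rwa [neg_sub])
  let ψ := AdicCompletion.liftRingHom (IsLocalRing.maximalIdeal B) fn compat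
  have hψ : ψ.comp (algebraMap A (AdicCompletion (IsLocalRing.maximalIdeal A) A)) =
      (algebraMap B (AdicCompletion (IsLocalRing.maximalIdeal B) B)).comp (algebraMap A B) := by
    refine RingHom.ext fun a => AdicCompletion.ext_evalₐ fun n => ?_
    show AdicCompletion.evalₐ _ n (AdicCompletion.liftRingHom (IsLocalRing.maximalIdeal B) fn compat (algebraMap A _ a)) = _
    rw [AdicCompletion.evalₐ_liftRingHom]
    show Ideal.quotientMap _ (algebraMap A B) (hle n) (AdicCompletion.evalₐ (IsLocalRing.maximalIdeal A) n (algebraMap A _ a)) =
      AdicCompletion.evalₐ (IsLocalRing.maximalIdeal B) n (algebraMap B _ (algebraMap A B a))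
    rw [AlgHom.commutes, AlgHom.commutes]
    rfl
  have het' : ψ.Etale := (Groth.Agent.S9562.result A B ψ hψ).1.1 ⟨inferInstance, hm, inferInstance, inferInstance⟩
  haveI := hA
  have hred : IsReduced (AdicCompletion (IsLocalRing.maximalIdeal B) B) := by
    letI := ψ.toAlgebra
    haveI : Algebra.Etale (AdicCompletion (IsLocalRing.maximalIdeal A) A) (AdicCompletion (IsLocalRing.maximalIdeal B) B) := het'
    exact Groth.Agent.Hensel.isReduced_of_etale (AdicCompletion (IsLocalRing.maximalIdeal A) A) _
  refine ⟨hred, ?_⟩
  haveI := hred
  haveI := Groth.Agent.LC.Canon.faithfullyFlat_completion (R := B)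
  exact isReduced_of_injective (algebraMap B (AdicCompletion (IsLocalRing.maximalIdeal B) B))
    (FaithfulSMul.algebraMap_injective _ _)
end Groth.Agent.S6001
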