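import Groth.Statements.S6006
import Groth.Agent.Tors9.GaGm
import Groth.Agent.SchTorsor.Props
import Mathlib.LinearAlgebra.SymmetricAlgebra.Basis

set_option linter.style.haveILetI false
set_option backward.isDefEq.respectTransparency.types false


set_option autoImplicit false
universe u
open CategoryTheory AlgebraicGeometry
open SGA1
attribute [-instance] ULift.module ULift.module'

namespace Groth.Agent.S6006

/-- Every principal homogeneous bundle under the additive group over S (a pseudo-torsor which acquires
sections on the members of some fpqc covering family of S) is locally trivial, i.e. is a torsor for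
the Zariski topology: S is covered by open subschemes over which it acquires sections. -/
theorem result {S : Scheme.{u}} (X : Over S)
    (a : AlgGrp.Action (Red.Ga S) X) (h : NonAbH1.IsTorsorFor Scheme.fpqcPrecoverage a) :
    NonAbH1.IsTorsorFor Scheme.zariskiPrecoverage a := by

  haveI : IsAffine Red.GaZ.{u}.left := by show IsAffine (Spec _); infer_instance
  haveI : IsAffineHom Red.GaZ.{u}.hom := isAffineHom_of_isAffine _
  haveI : Flat Red.GaZ.{u}.hom := by
    show Flat (Spec.map (CommRingCat.ofHom (algebraMap (ULift.{u} ℤ) (SymmetricAlgebra (ULift.{u} ℤ) (ULift.{u} ℤ)))))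
    rw [HasRingHomProperty.Spec_iff (P := @Flat)]
    exact RingHom.flat_algebraMap_iff.mpr inferInstance
  haveI : IsAffineHom (Red.Ga S).hom := by
    show IsAffineHom (Limits.pullback.snd _ _)
    exact MorphismProperty.pullback_snd _ _ inferInstance
  haveI : Flat (Red.Ga S).hom := by
    show Flat (Limits.pullback.snd _ _)
    exact MorphismProperty.pullback_snd _ _ inferInstance
  haveI := Groth.Agent.EtFound.fpqc_isAffineHom.{u}
  haveI := Groth.Agent.SchTorsor.torsor_property @IsAffineHom h inferInstance
  haveI := Groth.Agent.SchTorsor.torsor_property @Flat h inferInstance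
  haveI := Groth.Agent.SchTorsor.surjective_hom h
  exact ⟨h.1, Groth.Agent.Tors9.ga_zariski h.1⟩
end Groth.Agent.S6006
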