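import Groth.Statements.S6008
import Groth.Agent.KerSeq9.Basic
import Groth.Agent.KerSeq9.AS
import Groth.Agent.KerSeq9.ASFlat
import Mathlib.AlgebraicGeometry.Sites.Fpqc

set_option linter.style.haveILetI false
set_option backward.isDefEq.respectTransparency.types false

set_option autoImplicit false
universe u
open CategoryTheory AlgebraicGeometry MonoidalCategory CartesianMonoidalCategory MonObj GrpObj
open SGA1t
open Groth.Agent.GrpSchLib CategoryTheory.Limits

namespace Groth.Agent.S6008

/-- Let p be a prime and S a scheme of characteristic p (p = 0 in the ring of global functions). Let F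
be the Frobenius endomorphism of the additive group over S, the S-endomorphism which raises the
coordinate function of every point to the p-th power, and let P be the difference of the identity
and F in the group of endomorphisms (on points x ↦ x − x^p). Let G' be the constant S-group (Z/p)_S:
an S-group together with an isomorphism of S-schemes e from G' to the disjoint union of copies of S
indexed by Z/p, under which the S-points of indices m and n multiply to the S-point of index m + n;
and let i : G' → G_a be the homomorphism of S-groups which sends the S-point of index 1 to the point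
whose coordinate is the unit global function. Then the Artin-Schreier sequence 1 → (Z/p)_S → G_a →
G_a → 1 is exact for the fpqc topology: i and P are homomorphisms with trivial composite, (x, g) ↦
(x, x + i(g)) identifies G_a ×_S G' with the fibre product of P with itself (so that i is a kernel
of P), and P acquires sections on the members of some fpqc covering family of its target. -/
theorem result (p : ℕ) [Fact p.Prime] {S : Scheme.{u}}
    (hp : (p : Γ(S, ⊤)) = 0) (F : Red.Ga S ⟶ Red.Ga S)
    (hF : ∀ (T : Over S) (x : T ⟶ Red.Ga S), Red.gaFn (x ≫ F) = Red.gaFn x ^ p)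
    {G' : Over S} [GrpObj G'] (e : G' ≅ TwC.const S (Multiplicative (ZMod p)))
    (he : TwC.IsConstGrp (Multiplicative (ZMod p)) G' e)
    (i : G' ⟶ Red.Ga S) [IsMonHom i]
    (hi : Red.gaFn (TwC.pt S (Multiplicative (ZMod p)) (Multiplicative.ofAdd 1) ≫ e.inv ≫ i) = 1) :
    NonAbH1.IsExactSeq Scheme.fpqcPrecoverage i (𝟙 (Red.Ga S) * F⁻¹) := by

  let v : Red.Ga S ⟶ Red.Ga S := 𝟙 (Red.Ga S) * F⁻¹
  have hp0 := KerSeq9.AS.natCast_eq_zero (p := p) hp
  have hinv : ∀ (T : Over S) (x : T ⟶ Red.Ga S), Red.gaFn x⁻¹ = -Red.gaFn x := fun T x =>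
    eq_neg_of_add_eq_zero_left (by rw [← GaPts.gaFn_mul, inv_mul_cancel, GaPts.gaFn_one])
  have hv : ∀ (T : Over S) (x : T ⟶ Red.Ga S), Red.gaFn (x ≫ v) = Red.gaFn x - Red.gaFn x ^ p := fun T x => by
    rw [MonObj.comp_mul, Category.comp_id, GrpObj.comp_inv, GaPts.gaFn_mul, hinv, hF, sub_eq_add_neg]
  have hv0 : IsMonHom v := by
    refine ⟨?_, ?_⟩
    · refine GaPts.gaFn_injective ?_
      change Red.gaFn (η[Red.Ga S] ≫ v) = Red.gaFn η[Red.Ga S]
      have h1 : (η[Red.Ga S] : 𝟙_ (Over S) ⟶ Red.Ga S) = 1 := by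
        rw [Hom.one_def, toUnit_unique (toUnit (𝟙_ (Over S))) (𝟙 _), Category.id_comp]
      rw [hv, h1, GaPts.gaFn_one, zero_pow (Fact.out : p.Prime).pos.ne', sub_zero]
    · refine GaPts.gaFn_injective ?_
      change Red.gaFn (μ[Red.Ga S] ≫ v) = Red.gaFn ((v ⊗ₘ v) ≫ μ[Red.Ga S])
      have h1 : μ[Red.Ga S] = fst (Red.Ga S) (Red.Ga S) * snd (Red.Ga S) (Red.Ga S) := by
        rw [Hom.mul_def, lift_fst_snd, Category.id_comp]
      rw [hv, h1, GaPts.gaFn_mul, MonObj.comp_mul, GaPts.gaFn_mul, tensorHom_fst, tensorHom_snd, hv, hv,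
        KerSeq9.AS.add_pow_prime p (hp0 _)]
      ring
  haveI := hv0
  have hi' := KerSeq9.AS.gaFn_cpt hp e he i hi
  haveI : Mono i := ⟨fun {T} g g' hgg => mul_inv_eq_one.mp (KerSeq9.AS.eq_one_of_comp_eq_one hp e he i hi T _
    (by rw [MonObj.mul_comp _ _ i, GrpObj.inv_comp _ i, hgg, mul_inv_cancel]))⟩
  have huv : i ≫ v = 1 := by
    have hcov : ∀ (T : Over S) (z : T ⟶ G'), z ≫ i ≫ v = 1 := by
      intro T z
      let h := z ≫ e.hom
      let Fc := fun _ : Multiplicative (ZMod p) => S
      let U : Multiplicative (ZMod p) → T.left.Opens := fun m => h.left ⁻¹ᵁ (Sigma.ι Fc m).opensRange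
      have hU : ⨆ m, U m = ⊤ := top_le_iff.mp fun x _ => by
        obtain ⟨m, y, hy⟩ := (sigmaOpenCover Fc).exists_eq (h.left x)
        exact TopologicalSpace.Opens.mem_iSup.mpr ⟨m, y, hy⟩
      ext1
      refine (T.left.openCoverOfIsOpenCover U hU).hom_ext _ _ fun (m : Multiplicative (ZMod p)) => ?_
      let W : Over S := Over.mk ((U m).ι ≫ T.hom)
      let j : W ⟶ T := Over.homMk (U m).ι rfl
      change (j ≫ z ≫ i ≫ v).left = (j ≫ (1 : T ⟶ Red.Ga S)).left
      congr 1
      rw [MonObj.comp_one]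
      have hsub : Set.range ((U m).ι ≫ h.left) ⊆ Set.range (Limits.Sigma.ι Fc m) := by
        rintro _ ⟨y, rfl⟩
        exact y.2
      let l := IsOpenImmersion.lift (Limits.Sigma.ι Fc m) ((U m).ι ≫ h.left) hsub
      have hl : l ≫ Limits.Sigma.ι Fc m = (U m).ι ≫ h.left := IsOpenImmersion.lift_fac _ _ _
      have hl2 : l = W.hom := by
        have h1 := congrArg (· ≫ Limits.Sigma.desc fun _ : Multiplicative (ZMod p) => 𝟙 S) hl
        simp only [Category.assoc, Limits.Sigma.ι_desc] at h1
        refine ((Category.comp_id l).symm.trans h1).trans ?_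
        exact (U m).ι ≫= Over.w h
      have hjz : j ≫ z = KerSeq9.AS.cpt e W m.toAdd := by
        have : j ≫ h = toUnit W ≫ TwC.pt S (Multiplicative (ZMod p)) m := by
          ext1
          change (U m).ι ≫ h.left = W.hom ≫ Limits.Sigma.ι Fc m
          rw [← hl, hl2]
        rw [KerSeq9.AS.cpt, ofAdd_toAdd, ← Category.assoc, ← this, Category.assoc, Category.assoc, Iso.hom_inv_id,
          Category.comp_id]
      refine GaPts.gaFn_injective ?_
      change Red.gaFn _ = Red.gaFn _
      rw [← Category.assoc, ← Category.assoc, hjz, hv, hi', GaPts.gaFn_one, KerSeq9.AS.cst, ← map_pow,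
        ZMod.pow_card, sub_self]
    simpa using hcov G' (𝟙 _)
  have hker : ∀ (T : Over S) (z : T ⟶ Red.Ga S), z ≫ v = 1 → ∃ g, g ≫ i = z := fun T z hz =>
    KerSeq9.AS.exists_comp_eq hp e he i hi T z (by
      have h := hv T z
      rw [hz, GaPts.gaFn_one, eq_comm, sub_eq_zero] at h
      exact h.symm)
  refine ⟨inferInstance, hv0, huv, KerSeq9.isPullback_of_kernel i v huv hker, ?_⟩
  let ψ₀ : Spec (CommRingCat.of GaPts.Coord.{u}) ⟶ Spec (CommRingCat.of GaPts.Coord.{u}) :=
    Spec.map (CommRingCat.ofHom (KerSeq9.ASFlat.ψring.{u} p))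
  let ψo : Red.GaZ.{u} ⟶ Red.GaZ.{u} := Over.homMk ψ₀ (specULiftZIsTerminal.hom_ext _ _)
  have hψ : v = (Over.pullback (GaPts.toBaseZ S)).map ψo := by
    refine GaPts.gaFn_injective ?_
    change Red.gaFn v = Red.gaFn ((Over.pullback (GaPts.toBaseZ S)).map ψo)
    rw [← Category.id_comp v, hv, GaPts.gaFn_eq _, GaPts.gaFn_eq _]
    have h : GaPts.specPt ((Over.pullback (GaPts.toBaseZ S)).map ψo) =
        GaPts.specPt (𝟙 (Red.Ga S)) ≫ ψ₀ := by
      rw [GaPts.specPt, GaPts.specPt, Over.id_left, Category.id_comp]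
      exact GmPts.pullback_map_left_fst (S := S) ψo
    rw [h]
    symm
    refine (GmPts.appTop_comp_apply _ ψ₀ _).trans ?_
    refine (congrArg (GaPts.specPt (𝟙 (Red.Ga S))).appTop.hom
      ((GaPts.specMap_appTop (CommRingCat.ofHom (KerSeq9.ASFlat.ψring.{u} p)) GaPts.gen).trans
        (congrArg (Scheme.ΓSpecIso (CommRingCat.of GaPts.Coord.{u})).inv.hom (GaPts.ringHomOfFn_gen _)))).trans ?_
    simp only [map_sub, map_pow]
  have hff := KerSeq9.ASFlat.faithfullyFlat_ψring.{u} p (Fact.out : p.Prime).one_lt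
  have h1 : Flat ψ₀ := by rw [HasRingHomProperty.Spec_iff (P := @Flat)]; exact hff.flat
  have h2 : Surjective ψ₀ := ⟨(RingHom.FaithfullyFlat.iff_flat_and_comap_surjective.mp hff).2⟩
  haveI : Flat v.left := by rw [hψ]; exact MorphismProperty.overPullbackMap (P := @Flat) _ _ h1
  haveI : Surjective v.left := by rw [hψ]; exact MorphismProperty.overPullbackMap (P := @Surjective) _ _ h2
  haveI : IsAffineHom v.left := by
    rw [hψ]; exact MorphismProperty.overPullbackMap (P := @IsAffineHom) _ _ (isAffineHom_of_isAffine ψ₀)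
  refine ⟨Presieve.singleton v.left, v.left.singleton_mem_fpqcPrecoverage, ?_⟩
  rintro _ f ⟨⟩
  exact ⟨𝟙 _, Category.id_comp _⟩
end Groth.Agent.S6008
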