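import Groth.Statements.S6017
import Groth.Agent.InertiaEtale.Decomposition
import Mathlib.RingTheory.Unramified.LocalRing
import Mathlib.RingTheory.Flat.FaithfullyFlat.Algebra
import Mathlib.RingTheory.Flat.Localization

set_option linter.style.haveILetI false
set_option backward.isDefEq.respectTransparency false
set_option backward.isDefEq.respectTransparency.types false


set_option autoImplicit false
universe u
open scoped Pointwise
open SGA1


namespace Groth.Agent.S6017

/-- Stated in affine form, at the level of rings: let a finite group `G` act on a commutative ring `R`;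
suppose the ring of invariants `B = R^G` is Noetherian and `R` is a finite `B`-module. Let `q` be a
prime of `R`, let `H` be a subgroup of `G` containing the stabilizer of `q` (the decomposition
group), and put `R' = R^H`, `q' = q ∩ R'`, `p = q ∩ B = q' ∩ B`. Then the local homomorphism `B_p →
R'_{q'}` induces an isomorphism between the completions of these two Noetherian local rings;
equivalently, and this is the form stated, for every `n` the composite `B_p → R'_{q'} → R'_{q'} /
m_{q'}^n` is surjective and its kernel is exactly `m_p^n`. (The published statement concerns a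
prescheme `X` finite over a locally Noetherian `Y = X/G` and the local rings of `Y` and `X/H` at the
images of a point `x`; the assertion is local on `Y` and `X` is affine over `Y`, so it is stated for
`X = Spec R`, `Y = Spec R^G`, `X/H = Spec R^H`. The hypothesis `hle` only records the inclusion `R^G
⊆ R^H`, which always holds.) -/
theorem result
    (G R : Type u) [Group G] [Finite G] [CommRing R] [MulSemiringAction G R]
    [IsNoetherianRing (FixedPoints.subring R G)] [Module.Finite (FixedPoints.subring R G) R]
    (H : Subgroup G) (q : Ideal R) [q.IsPrime] (hD : MulAction.stabilizer G q ≤ H)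
    (hle : FixedPoints.subring R G ≤ FixedPoints.subring R H) (n : ℕ) :
    let q' : Ideal (FixedPoints.subring R H) := Ideal.comap (FixedPoints.subring R H).subtype q
    let φ := Localization.localRingHom (Ideal.comap (Subring.inclusion hle) q') q' (Subring.inclusion hle) rfl
    Function.Surjective ((Ideal.Quotient.mk (IsLocalRing.maximalIdeal (Localization.AtPrime q') ^ n)).comp φ) ∧
      Ideal.comap φ (IsLocalRing.maximalIdeal (Localization.AtPrime q') ^ n) =
        IsLocalRing.maximalIdeal (Localization.AtPrime (Ideal.comap (Subring.inclusion hle) q')) ^ n := by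
  intro q' φ
  let A := FixedPoints.subring R G
  let S := FixedPoints.subring R H
  obtain ⟨⟨g, hg, het⟩, c, hc, hres⟩ := Groth.Agent.InertiaEtale.etale_and_residue q H (fun τ h => hD (by
    refine inv_mem_iff.1 (MulAction.mem_stabilizer_iff.2 (Ideal.ext fun y => ?_))
    rw [Ideal.mem_pointwise_smul_iff_inv_smul_mem, inv_inv]
    exact h y))
  have hinc : (algebraMap A S) = Subring.inclusion hle := RingHom.ext fun _ => rfl
  let p : Ideal A := Ideal.comap (Subring.inclusion hle) q'
  let Ap := Localization.AtPrime p
  let Sq := Localization.AtPrime q'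
  let Sg := Localization.Away g
  haveI : Algebra.Etale A Sg := het
  have hgu : IsUnit (algebraMap S Sq g) := IsLocalization.map_units Sq (⟨g, hg⟩ : q'.primeCompl)
  letI algSgSq : Algebra Sg Sq := (IsLocalization.Away.lift g hgu : Sg →+* Sq).toAlgebra
  haveI : IsScalarTower S Sg Sq := IsScalarTower.of_algebraMap_eq fun x =>
    (IsLocalization.Away.lift_eq g hgu x).symm
  haveI : IsScalarTower A Sg Sq := IsScalarTower.of_algebraMap_eq fun x => by
    rw [IsScalarTower.algebraMap_apply A S Sg, ← IsScalarTower.algebraMap_apply S Sg Sq,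
      IsScalarTower.algebraMap_apply A S Sq]
  haveI : IsLocalization (q'.primeCompl.map (algebraMap S Sg)) Sq :=
    IsLocalization.isLocalization_of_submonoid_le Sg Sq (Submonoid.powers g) q'.primeCompl
      (Submonoid.powers_le.2 hg)
  haveI : Module.Flat Sg Sq := IsLocalization.flat Sq (q'.primeCompl.map (algebraMap S Sg))
  haveI : Module.Flat A Sq := Module.Flat.trans A Sg Sq
  haveI : Algebra.FormallyUnramified Sg Sq :=
    Algebra.FormallyUnramified.of_isLocalization (q'.primeCompl.map (algebraMap S Sg))
  haveI : Algebra.FormallyUnramified A Sq := Algebra.FormallyUnramified.comp A Sg Sq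
  haveI : Algebra.EssFiniteType Sg Sq :=
    Algebra.EssFiniteType.of_isLocalization Sq (q'.primeCompl.map (algebraMap S Sg))
  haveI : Algebra.EssFiniteType A Sq := Algebra.EssFiniteType.comp A Sg Sq
  letI algApSq : Algebra Ap Sq := φ.toAlgebra
  haveI : IsScalarTower A Ap Sq := IsScalarTower.of_algebraMap_eq fun x => by
    rw [IsScalarTower.algebraMap_apply A S Sq]
    exact (Localization.localRingHom_to_map _ _ _ _ x).symm
  haveI : IsLocalHom (algebraMap Ap Sq) := inferInstanceAs (IsLocalHom φ)
  haveI : Module.Flat Ap Sq := (Module.flat_iff_of_isLocalization Ap p.primeCompl Sq).2 inferInstance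
  haveI : Algebra.FormallyUnramified Ap Sq := Algebra.FormallyUnramified.of_restrictScalars A Ap Sq
  haveI : Algebra.EssFiniteType Ap Sq := Algebra.EssFiniteType.of_comp A Ap Sq
  haveI : Module.FaithfullyFlat Ap Sq := Module.FaithfullyFlat.of_flat_of_isLocalHom
  let m := IsLocalRing.maximalIdeal Ap
  have hm : m.map φ = IsLocalRing.maximalIdeal Sq := Algebra.FormallyUnramified.map_maximalIdeal
  refine ⟨?_, ?_⟩
  · -- surjectivity
    have hres' : ∀ x : Sq, ∃ a : Ap, x - φ a ∈ IsLocalRing.maximalIdeal Sq := by
      intro x
      obtain ⟨⟨s, t⟩, hst⟩ := IsLocalization.surj q'.primeCompl x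
      obtain ⟨a, ha⟩ := hres s
      obtain ⟨b, hb⟩ := hres t.1
      have hb0 : b ∉ p := fun h => by
        have h1 : (t.1 : R) * c ∈ q := by simpa using q.sub_mem (show (b : R) ∈ q from h) hb
        exact ((Ideal.IsPrime.mem_or_mem ‹q.IsPrime› h1).elim t.2 hc)
      refine ⟨IsLocalization.mk' Ap a (⟨b, hb0⟩ : p.primeCompl), ?_⟩
      have hbu : IsUnit (algebraMap S Sq (Subring.inclusion hle b)) :=
        IsLocalization.map_units Sq (⟨_, hb0⟩ : q'.primeCompl)
      rw [← Ideal.unit_mul_mem_iff_mem _ hbu]
      rw [show φ (IsLocalization.mk' Ap a (⟨b, hb0⟩ : p.primeCompl)) =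
        IsLocalization.mk' Sq (Subring.inclusion hle a) (⟨_, hb0⟩ : q'.primeCompl) from
          Localization.localRingHom_mk' _ _ _ _ _ _, mul_sub, IsLocalization.mk'_spec'_mk]
      have hmem : ∀ z : S, (z : R) ∈ q → algebraMap S Sq z ∈ IsLocalRing.maximalIdeal Sq := fun z hz => by
        rw [IsLocalization.AtPrime.to_map_mem_maximal_iff Sq q']
        exact hz
      have htc : IsUnit (algebraMap S Sq (t.1 * c)) :=
        IsLocalization.map_units Sq (⟨t.1 * c, fun h =>
          (Ideal.IsPrime.mem_or_mem ‹q.IsPrime› (show (t.1 : R) * c ∈ q from h)).elim t.2 hc⟩ : q'.primeCompl)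
      have h1 := hmem (Subring.inclusion hle b - t.1 * c) hb
      have h2 := hmem (Subring.inclusion hle a - s * c) ha
      rw [map_sub] at h1 h2
      rw [show algebraMap S Sq (Subring.inclusion hle b) * x - algebraMap S Sq (Subring.inclusion hle a) =
        (algebraMap S Sq (Subring.inclusion hle b) - algebraMap S Sq (t.1 * c)) * x -
          (algebraMap S Sq (Subring.inclusion hle a) - algebraMap S Sq (s * c)) from by
            rw [map_mul, map_mul, ← hst]; ring]
      exact Ideal.sub_mem _ (Ideal.mul_mem_right _ _ h1) h2
    have hstep : ∀ (k : ℕ) (y : Sq), y ∈ IsLocalRing.maximalIdeal Sq ^ k →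
        ∃ a : Ap, y - φ a ∈ IsLocalRing.maximalIdeal Sq ^ (k + 1) := by
      intro k y hy
      rw [← hm, ← Ideal.map_pow] at hy
      induction hy using Submodule.span_induction with
      | mem z hz =>
        obtain ⟨w, -, rfl⟩ := hz
        exact ⟨w, by rw [sub_self]; exact Submodule.zero_mem _⟩
      | zero => exact ⟨0, by rw [map_zero, sub_zero]; exact Submodule.zero_mem _⟩
      | add z w _ _ hz hw =>
        obtain ⟨a, ha⟩ := hz
        obtain ⟨b, hb⟩ := hw
        exact ⟨a + b, by rw [map_add, add_sub_add_comm]; exact Ideal.add_mem _ ha hb⟩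
      | smul r z hz ih =>
        obtain ⟨a, ha⟩ := ih
        obtain ⟨b, hb⟩ := hres' r
        refine ⟨b * a, ?_⟩
        rw [smul_eq_mul, map_mul, show r * z - φ b * φ a = (r - φ b) * z + φ b * (z - φ a) from by ring]
        refine Ideal.add_mem _ ?_ (Ideal.mul_mem_left _ _ ha)
        rw [pow_succ']
        refine Ideal.mul_mem_mul hb ?_
        rw [← hm, ← Ideal.map_pow]
        exact hz
    have hall : ∀ (k : ℕ) (y : Sq), ∃ a : Ap, y - φ a ∈ IsLocalRing.maximalIdeal Sq ^ k := by
      intro k
      induction k with
      | zero => exact fun y => ⟨0, by rw [pow_zero, Ideal.one_eq_top]; exact Submodule.mem_top⟩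
      | succ k ih =>
        intro y
        obtain ⟨a, ha⟩ := ih y
        obtain ⟨b, hb⟩ := hstep k _ ha
        exact ⟨a + b, by rwa [map_add, ← sub_sub]⟩
    intro z
    obtain ⟨y, rfl⟩ := Ideal.Quotient.mk_surjective z
    obtain ⟨a, ha⟩ := hall n y
    exact ⟨a, (Ideal.Quotient.eq.2 ha).symm⟩
  · rw [← hm, ← Ideal.map_pow]
    exact Ideal.comap_map_eq_self_of_faithfullyFlat _
end Groth.Agent.S6017
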