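import Groth.Statements.S6020
import Groth.Agent.LCZLib.Local
-- import your own Groth.Agent.* helpers here

set_option autoImplicit false
universe u
open CategoryTheory CategoryTheory.Limits TopologicalSpace
open LocCohZ

namespace Groth.Agent.S6020

/-- Consider a topological space X carrying a sheaf F of abelian groups, an open subset U whose
complement is the closed set Z, and a natural number N. The local cohomology sheaves ℋ^i_Z(F) are
zero for all i ≤ N exactly when, for each open V of X, restricting H^i(V, F) → H^i(V ∩ U, F) gives a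
bijection whenever i < N and an injection when i = N. -/
theorem result {X : TopCat.{u}} (F : CohTop.Ab X) (U : Opens X) (N : ℕ) :
    (∀ i : ℕ, i ≤ N → IsZero ((LocCohZ.HZsh U i).obj F)) ↔
      ∀ V : Opens X, (∀ i : ℕ, i < N → Function.Bijective (CohTop.res F i (inf_le_left : V ⊓ U ≤ V))) ∧
        Function.Injective (CohTop.res F N (inf_le_left : V ⊓ U ≤ V)) := by
  constructor
  · intro h V
    have h' := (Groth.Agent.LCZLib.isZero_HZsh_iff U F (N + 1)).1 (fun i hi => h i (by omega)) V
    exact (Groth.Agent.LCZLib.subsingleton_HZ_iff F (inf_le_left : V ⊓ U ≤ V) N).1 fun i hi =>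
      (Groth.Agent.LCZLib.subsingleton_HZ_congr F i _ _ (inf_comm U V)).2 (h' i (by omega))
  · intro h i hi
    refine (Groth.Agent.LCZLib.isZero_HZsh_iff U F (N + 1)).2 (fun V j hj => ?_) i (by omega)
    exact (Groth.Agent.LCZLib.subsingleton_HZ_congr F j (inf_le_left : V ⊓ U ≤ V) inf_le_right (inf_comm U V)).1
      ((Groth.Agent.LCZLib.subsingleton_HZ_iff F (inf_le_left : V ⊓ U ≤ V) N).2 (h V) j (by omega))

end Groth.Agent.S6020
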