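import Groth.Statements.S6040
import Groth.Agent.LCZLib.Open
-- import your own Groth.Agent.* helpers here

set_option autoImplicit false
universe u
open CategoryTheory CategoryTheory.Limits TopologicalSpace
open LocCohZ

namespace Groth.Agent.S6040

/-- Let X be a topological space, U an open subset and j : U → X the inclusion, so that the sheaf of
sections with supports in the open U is Γ_U(F) = j_*(F|_U). For every q the local cohomology sheaf
functor ℋ^q_U, i.e. the q-th right derived functor of F ↦ j_*(F|_U), is isomorphic to F ↦ R^q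
j_*(F|_U). (Existence of an isomorphism of functors for each q.) -/
theorem result {X : TopCat.{u}} (U : Opens X) (q : ℕ) :
    Nonempty (CohCx.RpushOn (𝟙 X) U q ≅ CohTop.restrFunctor U ⋙ CohTop.Rpush (CohCx.incl U) q) := by
  haveI : Limits.PreservesFiniteLimits (CohTop.restrFunctor U) :=
    haveI : Limits.PreservesFiniteLimits (CohTop.pull (CohCx.incl U)) := Groth.Agent.SiteBase.preservesFiniteLimits_pull _
    Limits.preservesFiniteLimits_of_natIso (Groth.Agent.LCZLib.pullIso U)
  haveI : Limits.PreservesFiniteColimits (CohTop.restrFunctor U) :=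
    haveI := Groth.Agent.LCZLib.preservesFiniteColimits_pull (CohCx.incl U)
    Limits.preservesFiniteColimits_of_natIso (Groth.Agent.LCZLib.pullIso U)
  haveI : (CohTop.restrFunctor U).PreservesInjectiveObjects :=
    ⟨fun {F} hF => Groth.Agent.LCZLib.injective_restr U F hF⟩
  exact ⟨Groth.Agent.SiteBase.rightDerivedCongr (F := CohTop.restrFunctor U ⋙ CohTop.push (CohCx.incl U ≫ 𝟙 X))
    (G := CohTop.restrFunctor U ⋙ CohTop.push (CohCx.incl U))
    (Functor.isoWhiskerLeft _ (eqToIso (congrArg CohTop.push (Category.comp_id _)))) q ≪≫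
    Groth.Agent.SiteBase.rightDerivedPrecompIso (CohTop.restrFunctor U) (CohTop.push (CohCx.incl U)) q⟩

end Groth.Agent.S6040
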