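import Groth.Statements.S6041
import Groth.Agent.AlgSpLib.Sheaf
-- import your own Groth.Agent.* helpers here

set_option autoImplicit false
open CategoryTheory CategoryTheory.Limits AlgebraicGeometry MonoidalCategory
universe u
open GrpQ

namespace Groth.Agent.S6041

open CartesianMonoidalCategory MonoidalCategory Opposite Groth.Agent

open CartesianMonoidalCategory in
/-- For schemes and the fppf topology, easy direction: let `s, t : R ⇉ U` be a pair of morphisms of
schemes over `S` (in the source an equivalence relation), `T` a scheme over `S` and `i : Z ⟶ U ×_S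
T` such that `Z ⟶ T` is flat, surjective and locally of finite presentation and any two points of
`Z` over the same point of `T` have `R`-related images in `U`. Then the composite `h_Z ⟶ h_U ⟶ U/R`
descends to exactly one section of the fppf quotient sheaf `U/R` over `T`. -/
theorem result {S : Scheme.{u}} {R U : Over S} (s t : R ⟶ U)
    (T Z : Over S) (i : Z ⟶ U ⊗ T)
    [Flat (i ≫ snd U T).left] [Surjective (i ≫ snd U T).left] [LocallyOfFinitePresentation (i ≫ snd U T).left]
    (hZZ : ∀ (T' : Over S) (z₁ z₂ : T' ⟶ Z), z₁ ≫ i ≫ snd U T = z₂ ≫ i ≫ snd U T →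
      ∃ r : T' ⟶ R, r ≫ s = z₁ ≫ i ≫ fst U T ∧ r ≫ t = z₂ ≫ i ≫ fst U T) :
    ∃! σ : QuotSh.rep Scheme.fppfPrecoverage T ⟶ QuotSh.quot Scheme.fppfPrecoverage s t,
      QuotSh.repMap Scheme.fppfPrecoverage (i ≫ fst U T) ≫ QuotSh.quotπ Scheme.fppfPrecoverage s t =
        QuotSh.repMap Scheme.fppfPrecoverage (i ≫ snd U T) ≫ σ := by
  let K := Scheme.fppfPrecoverage.{u}
  let F : Sheaf (QuotSh.J K S) (Type (u + 1)) := QuotSh.quot K s t
  have hF : Presieve.IsSheaf (QuotSh.J K S) F.obj :=
    (isSheaf_iff_isSheaf_of_type _ _).1 F.property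
  let e : ∀ V : Over S, (QuotSh.rep K V ⟶ F) ≃ F.obj.obj (op V) := fun V =>
    ((sheafificationAdjunction (QuotSh.J K S) (Type (u + 1))).homEquiv _ F).trans uliftYonedaEquiv
  have he : ∀ {V W : Over S} (g : V ⟶ W) (φ : QuotSh.rep K W ⟶ F),
      e V (QuotSh.repMap K g ≫ φ) = F.obj.map g.op (e W φ) := by
    intro V W g φ
    show uliftYonedaEquiv ((sheafificationAdjunction _ _).homEquiv _ F (_ ≫ φ)) = _
    exact (congrArg uliftYonedaEquiv ((sheafificationAdjunction (QuotSh.J K S) (Type (u + 1))).homEquiv_naturality_left _ φ)).trans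
      (uliftYonedaEquiv_naturality (X := op W) (Y := op V) _ g.op).symm
  let p := i ≫ snd U T
  let x : F.obj.obj (op Z) := e Z (QuotSh.repMap K (i ≫ fst U T) ≫ QuotSh.quotπ K s t)
  have hcov : Sieve.generate (Presieve.singleton p) ∈ QuotSh.J K S T :=
    AlgSpLib.mem_J_of_fppf p (AlgSpLib.fppf_of p.left) _ (Sieve.le_generate (Presieve.singleton p) _ _ (Presieve.singleton_self p))
  have hs : Presieve.IsSheafFor F.obj (Presieve.singleton p) :=
    (Presieve.isSheafFor_iff_generate _).2 (hF _ hcov)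
  have hx : ∀ {T' : Over S} (z₁ z₂ : T' ⟶ Z), z₁ ≫ p = z₂ ≫ p → F.obj.map z₁.op x = F.obj.map z₂.op x := by
    intro T' z₁ z₂ hz
    obtain ⟨r, hr₁, hr₂⟩ := hZZ T' z₁ z₂ hz
    have hmap : ∀ {A B C : Over S} (g : A ⟶ B) (g' : B ⟶ C),
        QuotSh.repMap K (g ≫ g') = QuotSh.repMap K g ≫ QuotSh.repMap K g' := fun g g' => by
      simp [QuotSh.repMap]
    rw [← he, ← he]
    congr 1
    rw [← Category.assoc, ← Category.assoc, ← hmap, ← hmap, ← hr₁, ← hr₂, hmap, hmap, Category.assoc, Category.assoc,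
      QuotSh.quot_condition]
  obtain ⟨y, hy, hu⟩ := Presieve.isSheafFor_singleton.1 hs x hx
  refine ⟨(e T).symm y, (e Z).injective ?_, fun σ hσ => (e T).injective ?_⟩
  · show x = _
    rw [he, Equiv.apply_symm_apply, hy]
  · rw [Equiv.apply_symm_apply]
    refine hu _ ?_
    show F.obj.map p.op (e T σ) = x
    rw [← he]
    exact congrArg (e Z) hσ.symm

end Groth.Agent.S6041
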