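import Groth.Statements.S6043
import Groth.Agent.AlgStLib.QuotShEff
import Groth.Agent.AlgSpDec.LqfQuot
import Groth.Agent.AlgSpFpqc.Sheaf

set_option backward.isDefEq.respectTransparency false
set_option backward.isDefEq.respectTransparency.types false
set_option linter.style.haveILetI false
-- import your own Groth.Agent.* helpers here

set_option autoImplicit false
open CategoryTheory CategoryTheory.Limits AlgebraicGeometry MonoidalCategory
universe u
open GrpQ

namespace Groth.Agent.S6043

open CartesianMonoidalCategory in
/-- The comparison of topologies, for an equivalence relation of schemes over a base scheme `S` with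
closed graph: let `s, t : R ⇉ U` be an equivalence relation of schemes over `S` with `s` flat,
surjective and locally of finite presentation and `(t, s) : R ⟶ U ×_S U` a closed immersion. Then
the fppf quotient sheaf `U/R` on schemes over `S` satisfies the sheaf condition for the fpqc
topology. (The published statement takes `R ⟶ U` faithfully flat and quasi-compact and says that its
fpqc quotient sheaf is also the quotient for the canonical topology; this row takes `R ⟶ U` flat,
surjective and locally of finite presentation and says that the fppf quotient sheaf is already an
fpqc sheaf.) -/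
theorem result {S : Scheme.{u}} {R U : Over S} (s t : R ⟶ U)
    [IsEquivalenceRelation s t]
    [Flat s.left] [Surjective s.left] [LocallyOfFinitePresentation s.left]
    (hc : IsClosedImmersion (lift t s).left) :
    Presheaf.IsSheaf (QuotSh.J Scheme.fpqcPrecoverage S)
      (QuotSh.quot Scheme.fppfPrecoverage s t).obj := by
  obtain ⟨e⟩ := (inferInstance : IsEquivalenceRelation s t).nonempty_equivalenceRelation
  have hR : AlgSp.IsEqvRel s t := AlgStLib.QuotShEff.isEqvRel_of_isEquivalenceRelation
  have hs : e.s ≫ e.s = 𝟙 R := e.right_cancellation _ _ (by rw [Category.assoc, e.symmetry₁, e.symmetry₂, Category.id_comp]) (by rw [Category.assoc, e.symmetry₂, e.symmetry₁, Category.id_comp])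
  haveI : IsIso e.s.left := ⟨e.s.left, by rw [← Over.comp_left, hs]; rfl, by rw [← Over.comp_left, hs]; rfl⟩
  have ht : t.left = e.s.left ≫ s.left := by rw [← Over.comp_left, e.symmetry₁]
  haveI : Flat t.left := ht ▸ inferInstance
  haveI : LocallyOfFinitePresentation t.left := ht ▸ inferInstance
  exact AlgSpFpqc.isSheaf_fpqc (AlgSpDec.isAlgSpace_quot hR)

end Groth.Agent.S6043
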