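import Groth.Statements.S6056
import Groth.Agent.Deform.QuotGroup
import Groth.Agent.GrpdLib.QuasiSection
set_option linter.style.haveILetI false
set_option backward.isDefEq.respectTransparency false
set_option backward.isDefEq.respectTransparency.types false

set_option autoImplicit false
open CategoryTheory CategoryTheory.Limits AlgebraicGeometry MonoidalCategory
universe u
open RedSub

namespace Groth.Agent.S6056

open CategoryTheory Limits MonoidalCategory CartesianMonoidalCategory MonObj AlgebraicGeometry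

attribute [local instance] CategoryTheory.Hom.monoid CategoryTheory.Hom.group

theorem rightMul_apply {S : Scheme.{u}} {H G T : Over S} [GrpObj G] (i : H ⟶ G) (r : T ⟶ G ⊗ H) :
    r ≫ (G ◁ i) ≫ μ[G] = (r ≫ fst G H) * ((r ≫ snd G H) ≫ i) := by
  have : r ≫ (G ◁ i) = lift (r ≫ fst G H) ((r ≫ snd G H) ≫ i) := by
    apply CartesianMonoidalCategory.hom_ext <;> simp
  rw [Hom.mul_def, ← this, Category.assoc]

theorem lift_fst_snd_eq {S : Scheme.{u}} {H G Q : Over S} [GrpObj G] (i : H ⟶ G) (q : G ⟶ Q) :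
    (G ◁ i) ≫ μ[G] ≫ q = (fst G H * (snd G H ≫ i)) ≫ q := by
  have := rightMul_apply i (𝟙 (G ⊗ H))
  simp only [Category.id_comp] at this
  rw [← this, Category.assoc]

theorem right_iff {S : Scheme.{u}} {H G Q T : Over S} [GrpObj G] (i : H ⟶ G) (q : G ⟶ Q)
    (sq : IsPullback (fst G H) ((G ◁ i) ≫ μ[G]) q q) (a b : T ⟶ G) :
    a ≫ q = b ≫ q ↔ ∃ x : T ⟶ H, b = a * (x ≫ i) := by
  constructor
  · intro e
    obtain ⟨r, hr1, hr2⟩ := sq.exists_lift a b e
    exact ⟨r ≫ snd G H, by rw [← hr2, rightMul_apply, hr1]⟩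
  · rintro ⟨x, rfl⟩
    have h1 := congrArg (lift a x ≫ ·) sq.w
    simp only [lift_fst_assoc, Category.assoc] at h1
    rw [h1, lift_whiskerLeft_assoc, Hom.mul_def, Category.assoc]

theorem exists_lift_cover' {S : Scheme.{u}} {A B T : Over S} (q : A ⟶ B) [Flat q.left] [Surjective q.left]
    [LocallyOfFinitePresentation q.left] (t : T ⟶ B) :
    ∃ (T' : Over S) (π : T' ⟶ T), Flat π.left ∧ Surjective π.left ∧ LocallyOfFinitePresentation π.left ∧
      ∃ z : T' ⟶ A, z ≫ q = π ≫ t ∧ True := by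
  let T' : Over S := Over.mk (pullback.snd q.left t.left ≫ T.hom)
  refine ⟨T', Over.homMk (pullback.snd q.left t.left) rfl, MorphismProperty.pullback_snd (P := @Flat) _ _ ‹_›,
    MorphismProperty.pullback_snd (P := @Surjective) _ _ ‹_›,
    MorphismProperty.pullback_snd (P := @LocallyOfFinitePresentation) _ _ ‹_›,
    Over.homMk (pullback.fst q.left t.left) ?_, Over.OverMorphism.ext pullback.condition, trivial⟩
  show pullback.fst q.left t.left ≫ A.hom = pullback.snd q.left t.left ≫ T.hom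
  rw [← Over.w q, pullback.condition_assoc, Over.w t]

theorem exists_lift_cover {S : Scheme.{u}} {A B C D T : Over S} (q : A ⊗ B ⟶ C ⊗ D) [Flat q.left] [Surjective q.left]
    [LocallyOfFinitePresentation q.left] (t : T ⟶ C ⊗ D) :
    ∃ (T' : Over S) (π : T' ⟶ T), Flat π.left ∧ Surjective π.left ∧ LocallyOfFinitePresentation π.left ∧
      ∃ (g : T' ⟶ A ⊗ B) (_ : True), g ≫ q = π ≫ t := by
  obtain ⟨T', π, h1, h2, h3, z, hz, -⟩ := exists_lift_cover' q t
  exact ⟨T', π, h1, h2, h3, z, trivial, hz⟩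


open MonObj CartesianMonoidalCategory SemiCartesianMonoidalCategory in
/-- For group schemes and fppf quotients: let `K ⊆ G` be a subgroup scheme and `H ⊆ K` a subgroup scheme
normal in `K`; suppose `G/H` is represented by `q_H : G ⟶ Q_H` and `K/H` by a homomorphism `K ⟶ K'`
of group schemes, and let `act : Q_H ×_S K' ⟶ Q_H` be the right action induced by the multiplication
of `G`. Then: (i) if `G/K` is represented by `q_K : G ⟶ Q_K`, the map `Q_H ⟶ Q_K` under `G` is an
fppf covering whose kernel pair is `Q_H ×_S K' ⇉ Q_H` (projection, action), i.e. `Q_K =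
(G/H)/(K/H)`; (ii) conversely, if `p : Q_H ⟶ Y` is an fppf covering with that kernel pair, then `q_H
≫ p` represents `G/K`. -/
theorem result {S : Scheme.{u}} {H K G QH Kb : Over S}
    [hH : GrpObj H] [hK : GrpObj K] [hG : GrpObj G] [hKb : GrpObj Kb]
    (h : H ⟶ K) (k : K ⟶ G) [Mono h] [Mono k] [IsMonHom h] [IsMonHom k]
    (hn : AlgGrp.IsNormalHom h)
    (qH : G ⟶ QH) (hqH : RedSub.IsQuotient (h ≫ k) qH)
    (qKb : K ⟶ Kb) [IsMonHom qKb] (hqKb : RedSub.IsQuotient h qKb)
    (act : QH ⊗ Kb ⟶ QH) (hact : (qH ⊗ₘ qKb) ≫ act = (G ◁ k) ≫ μ[G] ≫ qH) :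
    (∀ (QK : Over S) (qK : G ⟶ QK), RedSub.IsQuotient k qK →
      ∀ qbar : QH ⟶ QK, qH ≫ qbar = qK →
        Surjective qbar.left ∧ Flat qbar.left ∧ LocallyOfFinitePresentation qbar.left ∧
          IsPullback (fst QH Kb) act qbar qbar) ∧
    (∀ (Y : Over S) (p : QH ⟶ Y),
      Surjective p.left → Flat p.left → LocallyOfFinitePresentation p.left →
      IsPullback (fst QH Kb) act p p → RedSub.IsQuotient k (qH ≫ p)) := by
  obtain ⟨hsH, hfH, hlH, sqH⟩ := hqH
  obtain ⟨hsK, hfK, hlK, sqK⟩ := hqKb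
  haveI := hsH; haveI := hfH; haveI := hlH; haveI := hsK; haveI := hfK; haveI := hlK
  obtain ⟨_, _, _⟩ := Deform.QuotGroup.fppf_tensor qH qKb
  haveI := Deform.QuotDescent.epi_of_fppf (qH ⊗ₘ qKb)
  haveI := Deform.QuotDescent.epi_of_fppf qH
  -- points of the quotients
  have hH : ∀ {T : Over S} (a b : T ⟶ G), a ≫ qH = b ≫ qH ↔ ∃ x : T ⟶ H, b = a * (x ≫ h ≫ k) :=
    fun a b => right_iff (h ≫ k) qH sqH a b
  have hK' : ∀ {T : Over S} (a b : T ⟶ K), a ≫ qKb = b ≫ qKb ↔ ∃ x : T ⟶ H, b = a * (x ≫ h) :=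
    fun a b => right_iff h qKb sqK a b
  have hactT : ∀ {T : Over S} (g : T ⟶ G) (z : T ⟶ K),
      lift (g ≫ qH) (z ≫ qKb) ≫ act = (g * (z ≫ k)) ≫ qH := by
    intro T g z
    have h1 : lift (g ≫ qH) (z ≫ qKb) = lift g z ≫ (qH ⊗ₘ qKb) := by simp
    rw [h1, Category.assoc, hact, lift_whiskerLeft_assoc, Hom.mul_def, Category.assoc]
  constructor
  · intro QK qK hqK qbar hbar
    obtain ⟨hs, hf, hl, sq⟩ := hqK
    haveI := hs; haveI := hf; haveI := hl
    have hQ : ∀ {T : Over S} (a b : T ⟶ G), a ≫ qK = b ≫ qK ↔ ∃ x : T ⟶ K, b = a * (x ≫ k) :=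
      fun a b => right_iff k qK sq a b
    have he : qH.left ≫ qbar.left = qK.left := by rw [← Over.comp_left, hbar]
    haveI : Surjective (qH.left ≫ qbar.left) := by rw [he]; infer_instance
    haveI : Surjective qbar.left := Surjective.of_comp qH.left qbar.left
    haveI : Flat qbar.left := GrpdLib.flat_of_flat_comp qH.left qbar.left (by rw [he]; infer_instance)
    haveI : LocallyOfFinitePresentation (qH.left ≫ qbar.left) := by rw [he]; infer_instance
    haveI : LocallyOfFinitePresentation qbar.left :=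
      SrcDescent.locallyOfFinitePresentation_of_fppf_comp qH.left qbar.left
    refine ⟨inferInstance, inferInstance, inferInstance, ?_⟩
    have w : fst QH Kb ≫ qbar = act ≫ qbar := by
      rw [← cancel_epi (qH ⊗ₘ qKb), tensorHom_fst_assoc, hbar, reassoc_of% hact, hbar, lift_fst_snd_eq k qK]
      exact (hQ _ _).2 ⟨snd G K, rfl⟩
    -- uniqueness
    have huniq : ∀ {T : Over S} (a : T ⟶ QH) (c c' : T ⟶ Kb), lift a c ≫ act = lift a c' ≫ act → c = c' := by
      intro T a c c' e
      obtain ⟨T', π, hπf, hπs, hπl, g, z, hgz⟩ := exists_lift_cover (qH ⊗ₘ qKb) (lift a c)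
      haveI := hπf; haveI := hπs; haveI := hπl
      haveI := Deform.QuotDescent.epi_of_fppf π
      obtain ⟨T'', π', hπf', hπs', hπl', z', hz', -⟩ := exists_lift_cover' qKb (π ≫ c')
      haveI := hπf'; haveI := hπs'; haveI := hπl'
      haveI := Deform.QuotDescent.epi_of_fppf π'
      have h1 := congrArg (· ≫ fst QH Kb) hgz
      have h2 := congrArg (· ≫ snd QH Kb) hgz
      simp only [Category.assoc, tensorHom_fst, tensorHom_snd, lift_fst, lift_snd] at h1 h2
      rw [← cancel_epi π, ← cancel_epi π']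
      have e' : (π' ≫ π) ≫ lift a c ≫ act = (π' ≫ π) ≫ lift a c' ≫ act := by rw [e]
      have ea : (π' ≫ π) ≫ a = (π' ≫ g ≫ fst G K) ≫ qH := by simp [h1]
      have ec : (π' ≫ π) ≫ c = (π' ≫ g ≫ snd G K) ≫ qKb := by simp [h2]
      have ec' : (π' ≫ π) ≫ c' = z' ≫ qKb := by rw [Category.assoc, hz']
      rw [comp_lift_assoc, comp_lift_assoc, ea, ec, ec', hactT, hactT, hH] at e'
      obtain ⟨x, hx⟩ := e'
      rw [_root_.mul_assoc, mul_right_inj, ← Category.assoc x, ← MonObj.mul_comp, cancel_mono] at hx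
      rw [← Category.assoc π', ← Category.assoc π', ec, ec', hK']
      exact ⟨x, hx⟩
    -- existence
    have hex : ∀ {T : Over S} (a b : T ⟶ QH), a ≫ qbar = b ≫ qbar → ∃ c : T ⟶ Kb, lift a c ≫ act = b := by
      intro T a b e
      obtain ⟨_, _, _⟩ := Deform.QuotGroup.fppf_tensor qH qH
      obtain ⟨T', π, hπf, hπs, hπl, g, z, hgz⟩ := exists_lift_cover (qH ⊗ₘ qH) (lift a b)
      haveI := hπf; haveI := hπs; haveI := hπl
      haveI := Deform.QuotDescent.epi_of_fppf π
      have h1 := congrArg (· ≫ fst QH QH) hgz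
      have h2 := congrArg (· ≫ snd QH QH) hgz
      simp only [Category.assoc, tensorHom_fst, tensorHom_snd, lift_fst, lift_snd] at h1 h2
      have e' : (g ≫ fst G G) ≫ qK = (g ≫ snd G G) ≫ qK := by
        rw [← hbar, Category.assoc, Category.assoc, reassoc_of% h1, reassoc_of% h2, e]
      obtain ⟨x, hx⟩ := (hQ _ _).1 e'
      have key : lift (π ≫ a) (x ≫ qKb) ≫ act = π ≫ b := by
        rw [← h1, ← Category.assoc g, hactT, ← hx, Category.assoc, h2]
      obtain ⟨c, hc⟩ := Deform.QuotDescent.exists_descOver π (x ≫ qKb) fun U y y' hy => by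
        refine huniq (y ≫ π ≫ a) _ _ ?_
        have k1 := congrArg (y ≫ ·) key
        have k2 := congrArg (y' ≫ ·) key
        simp only [comp_lift_assoc] at k1 k2
        have ha : y ≫ π ≫ a = y' ≫ π ≫ a := by rw [reassoc_of% hy]
        have hb : y ≫ π ≫ b = y' ≫ π ≫ b := by rw [reassoc_of% hy]
        exact k1.trans (hb.trans ((ha ▸ k2).symm))
      refine ⟨c, ?_⟩
      rw [← cancel_epi π, comp_lift_assoc, hc, key]
    choose c hc using fun (s : PullbackCone qbar qbar) => hex s.fst s.snd s.condition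
    exact ⟨⟨w⟩, ⟨PullbackCone.IsLimit.mk _ (fun s => lift s.fst (c s)) (fun s => lift_fst _ _) (fun s => hc s)
      fun s m h1 h2 => by
        have hm : m = lift s.fst (m ≫ snd QH Kb) := by
          apply CartesianMonoidalCategory.hom_ext <;> simp [h1]
        rw [hm, huniq s.fst (m ≫ snd QH Kb) (c s) (by rw [← hm, h2, hc])]⟩⟩
  · intro Y p hps hpf hpl sq
    haveI := hps; haveI := hpf; haveI := hpl
    refine ⟨inferInstanceAs (Surjective (qH.left ≫ p.left)), inferInstanceAs (Flat (qH.left ≫ p.left)),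
      inferInstanceAs (LocallyOfFinitePresentation (qH.left ≫ p.left)), ?_⟩
    have w : fst G K ≫ qH ≫ p = ((G ◁ k) ≫ μ[G]) ≫ qH ≫ p := by
      have h1 := congrArg (fun f => (qH ⊗ₘ qKb) ≫ f) sq.w
      simp only [tensorHom_fst_assoc, reassoc_of% hact] at h1
      simpa using h1
    have hex : ∀ {T : Over S} (a b : T ⟶ G), a ≫ qH ≫ p = b ≫ qH ≫ p → ∃ z : T ⟶ K, a * (z ≫ k) = b := by
      intro T a b e
      obtain ⟨r, hr1, hr2⟩ := sq.exists_lift (a ≫ qH) (b ≫ qH) (by simpa using e)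
      obtain ⟨T', π, hπf, hπs, hπl, z, hz, -⟩ := exists_lift_cover' qKb (r ≫ snd QH Kb)
      haveI := hπf; haveI := hπs; haveI := hπl
      haveI := Deform.QuotDescent.epi_of_fppf π
      have hr : π ≫ r = lift ((π ≫ a) ≫ qH) (z ≫ qKb) := by
        apply CartesianMonoidalCategory.hom_ext
        · rw [lift_fst, Category.assoc, hr1, Category.assoc]
        · rw [lift_snd, hz, Category.assoc]
      have e' : (π ≫ b) ≫ qH = ((π ≫ a) * (z ≫ k)) ≫ qH := by
        rw [Category.assoc, ← hr2, ← Category.assoc π, hr, hactT]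
      obtain ⟨x, hx⟩ := (hH _ _).1 e'.symm
      have hx' : π ≫ (a⁻¹ * b) = (z * (x ≫ h)) ≫ k := by
        rw [MonObj.comp_mul, GrpObj.comp_inv, hx, MonObj.mul_comp, Category.assoc]
        simp [_root_.mul_assoc]
      obtain ⟨c, hc⟩ := Deform.QuotDescent.exists_descOver π (z * (x ≫ h)) fun U y y' hy => by
        rw [← cancel_mono k, Category.assoc, Category.assoc, ← hx', reassoc_of% hy]
      refine ⟨c, ?_⟩
      have : c ≫ k = a⁻¹ * b := by rw [← cancel_epi π, reassoc_of% hc, hx']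
      rw [this, mul_inv_cancel_left]
    choose c hc using fun (s : PullbackCone (qH ≫ p) (qH ≫ p)) => hex s.fst s.snd s.condition
    exact ⟨⟨w⟩, ⟨PullbackCone.IsLimit.mk _ (fun s => lift s.fst (c s)) (fun s => lift_fst _ _)
      (fun s => by rw [lift_whiskerLeft_assoc, ← hc s, Hom.mul_def]) fun s m h1 h2 => by
        apply CartesianMonoidalCategory.hom_ext
        · rw [lift_fst]; exact h1
        · rw [lift_snd, ← cancel_mono k]
          have : m ≫ (G ◁ k) ≫ μ[G] = (m ≫ fst G K) * ((m ≫ snd G K) ≫ k) := rightMul_apply k m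
          rw [this, h1, ← hc s] at h2
          exact mul_left_cancel h2⟩⟩

end Groth.Agent.S6056
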