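import Groth.Statements.S6061
import Groth.Agent.Dual.Etale

set_option autoImplicit false
open CategoryTheory MonoidalCategory CartesianMonoidalCategory MonObj GrpObj AlgebraicGeometry
universe u
open SGA3x CategoryTheory.Limits

namespace Groth.Agent.S6061

/-- Representability; the twisted-constant structure is asserted at the level of S-schemes: Let H and G
be quasi-isotrivial S-groups of multiplicative type — etale-locally on S isomorphic, as group
schemes, to diagonalisable groups D(M), with M finitely generated in the case of G (G of finite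
type). Then the functor of group homomorphisms from H to G is representable, by an S-scheme which is
a quasi-isotrivial twisted constant S-scheme (etale-locally constant). The character groups M range
over Type 0, as in the prelude's D_S(M). (The published statement also asserts that the representing
object is a twisted constant group of type Hom(M, N), M and N the types of G and H respectively;
this row asserts only the scheme-level twisted constant structure, without the group structure or
the type.) -/
theorem result {S : Scheme.{u}} (H G : Over S) [GrpObj H] [GrpObj G]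
    (hH : TwC.Locally S TwC.Topology.etale (fun S' f => ∃ (M : Type) (_ : AddCommGroup M),
      Nonempty (Grp.mk (Red.bc f H) ≅ Grp.mk (Red.DS S' M))))
    (hG : TwC.Locally S TwC.Topology.etale (fun S' f => ∃ (M : Type) (_ : AddCommGroup M),
      AddGroup.FG M ∧ Nonempty (Grp.mk (Red.bc f G) ≅ Grp.mk (Red.DS S' M)))) :
    ∃ (A : Over S) (υ : H ⊗ A ⟶ G), AutFam.RepresentsHom H G A υ ∧ TwC.IsTwConst TwC.Topology.etale A := by
  classical
  have hmem : ∀ s : S, ∃ (P : Scheme.{u}) (f : P ⟶ S) (M N : Type) (_ : AddCommGroup M) (_ : AddCommGroup N),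
      Etale f ∧ s ∈ Set.range f ∧ AddGroup.FG N ∧ Nonempty (Grp.mk (Red.bc f H) ≅ Grp.mk (Red.DS P M)) ∧
        Nonempty (Grp.mk (Red.bc f G) ≅ Grp.mk (Red.DS P N)) := by
    intro s
    obtain ⟨SH, fH, hfH, ⟨y, hy⟩, M, iM, ⟨eH⟩⟩ := hH s
    obtain ⟨SG, fG, hfG, ⟨z, hz⟩, N, iN, hfg, ⟨eG⟩⟩ := hG s
    haveI := hfH; haveI := hfG
    obtain ⟨w, hw, -⟩ := Scheme.Pullback.exists_preimage_pullback (f := fH) (g := fG) y z (hy.trans hz.symm)
    exact ⟨_, pullback.fst fH fG ≫ fH, M, N, iM, iN, inferInstance,
      ⟨w, by rw [Scheme.Hom.comp_apply, hw]; exact hy⟩, hfg, Dual.exists_common fH fG eH eG⟩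
  choose P f M N iM iN hf hs hfg heH heG using hmem
  haveI := hf
  obtain ⟨A, w, hA, he⟩ := Dual.exists_homs f (fun s => ⟨s, hs s⟩) M N hfg (fun s => (heH s).some) (fun s => (heG s).some)
  exact ⟨A, w, hA, fun s => ⟨P s, f s, hf s, hs s, _, ⟨(he s).choose⟩⟩⟩

end Groth.Agent.S6061
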