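import Groth.Statements.S6063
import Groth.Agent.BlowUpLib.Local
import Groth.Agent.ModPairLib.Basic


set_option autoImplicit false
universe u
open CategoryTheory AlgebraicGeometry
open TensorProduct
open SGA3x

namespace Groth.Agent.S6063

open Limits
open scoped TensorProduct

set_option maxHeartbeats 1000000 in
/-- A lifted basis of `J^k / J^(k+1)`, independent modulo `J` on every flat module. -/
theorem exists_graded_basis {A : Type u} [CommRing A] (J : Ideal A) (k : ℕ)
    (hfree : Module.Free (A ⧸ J) ((A ⧸ J) ⊗[A] ↥(J ^ k))) :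
    ∃ (κ : Type u) (e : κ → A), (∀ b, e b ∈ J ^ k) ∧
      (∀ (M : Type u) [AddCommGroup M] [Module A M] (t : M), t ∈ (J ^ k) • (⊤ : Submodule A M) →
        ∃ s : κ →₀ M, t - s.sum (fun b m => e b • m) ∈ (J ^ (k + 1)) • (⊤ : Submodule A M)) ∧
      (∀ (M : Type u) [AddCommGroup M] [Module A M] [Module.Flat A M] (s : κ →₀ M),
        s.sum (fun b m => e b • m) ∈ (J ^ (k + 1)) • (⊤ : Submodule A M) →
        ∀ b, s b ∈ J • (⊤ : Submodule A M)) := by
  classical
  let Q := (A ⧸ J) ⊗[A] ↥(J ^ k)
  let bb := Module.Free.chooseBasis (A ⧸ J) Q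
  let mk : ↥(J ^ k) →ₗ[A] Q := TensorProduct.mk A (A ⧸ J) ↥(J ^ k) 1
  let E := TensorProduct.quotTensorEquivQuotSMul ↥(J ^ k) J
  have hE : ∀ x, mk x = E.symm (Submodule.Quotient.mk x) := fun x =>
    (TensorProduct.quotTensorEquivQuotSMul_symm_mk J x).symm
  have hmk : Function.Surjective mk := fun q => by
    obtain ⟨x, hx⟩ := Submodule.Quotient.mk_surjective _ (E q)
    exact ⟨x, by rw [hE, hx, LinearEquiv.symm_apply_apply]⟩
  have hker : ∀ x, mk x = 0 ↔ x ∈ J • (⊤ : Submodule A ↥(J ^ k)) := fun x => by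
    rw [hE, LinearEquiv.map_eq_zero_iff, Submodule.Quotient.mk_eq_zero]
  choose e he using fun b => hmk (bb b)
  have hdeep : ∀ x : ↥(J ^ k), x ∈ J • (⊤ : Submodule A ↥(J ^ k)) → (x : A) ∈ J ^ (k + 1) := by
    intro x hx
    induction hx using Submodule.smul_induction_on' with
    | smul r hr y _ =>
      rw [pow_succ']
      exact Ideal.mul_mem_mul hr y.2
    | add x _ y _ h h' => exact add_mem h h'
  refine ⟨_, fun b => (e b : A), fun b => (e b).2, ?_, ?_⟩
  · intro M _ _ t ht
    refine Submodule.smul_induction_on ht ?_ ?_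
    · intro x hx m _
      let c := bb.repr (mk ⟨x, hx⟩)
      choose a ha using fun b => Ideal.Quotient.mk_surjective (c b)
      refine ⟨∑ b ∈ c.support, Finsupp.single b (a b • m), ?_⟩
      have hsum : mk (⟨x, hx⟩ - ∑ b ∈ c.support, a b • e b) = 0 := by
        rw [map_sub, map_sum]
        simp only [map_smul, he]
        rw [sub_eq_zero]
        conv_lhs => rw [← bb.linearCombination_repr (mk ⟨x, hx⟩)]
        rw [Finsupp.linearCombination_apply, Finsupp.sum]
        refine Finset.sum_congr rfl fun b _ => ?_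
        show c b • bb b = a b • bb b
        rw [← ha, ← Ideal.Quotient.algebraMap_eq, algebraMap_smul]
      have h1 := hdeep _ ((hker _).mp hsum)
      rw [← Finsupp.sum_finsetSum_index (fun b => smul_zero _) (fun b m m' => smul_add _ _ _)]
      simp only [Finsupp.sum_single_index, smul_zero]
      convert Submodule.smul_mem_smul h1 (Submodule.mem_top : m ∈ (⊤ : Submodule A M)) using 1
      simp [Submodule.coe_sum, sub_smul, Finset.sum_smul, smul_smul, mul_comm]
    · rintro t t' ⟨s, hs⟩ ⟨s', hs'⟩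
      refine ⟨s + s', ?_⟩
      rw [Finsupp.sum_add_index' (fun _ => smul_zero _) (fun _ _ _ => smul_add _ _ _), add_sub_add_comm]
      exact add_mem hs hs'
  · intro M _ _ _ s hs b
    let μk : ↥(J ^ k) ⊗[A] M →ₗ[A] M := (TensorProduct.lid A M).toLinearMap ∘ₗ (J ^ k).subtype.rTensor M
    have hμ : Function.Injective μk :=
      (TensorProduct.lid A M).injective.comp
        (Module.Flat.rTensor_preserves_injective_linearMap _ (J ^ k).injective_subtype)
    have hle : J ^ (k + 1) ≤ J ^ k := Ideal.pow_le_pow_right k.le_succ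
    obtain ⟨w, hw⟩ : ∃ w : ↥(J ^ (k + 1)) ⊗[A] M,
        μk ((Submodule.inclusion hle).rTensor M w) = s.sum (fun b m => (e b : A) • m) := by
      refine Submodule.smul_induction_on hs ?_ ?_
      · exact fun x hx m _ => ⟨⟨x, hx⟩ ⊗ₜ m, by simp [μk]⟩
      · rintro x y ⟨w, rfl⟩ ⟨w', rfl⟩
        exact ⟨w + w', by rw [map_add, map_add]⟩
    have hz : s.sum (fun b m => e b ⊗ₜ[A] m) = (Submodule.inclusion hle).rTensor M w := by
      refine hμ ?_
      rw [hw, map_finsuppSum]
      refine Finsupp.sum_congr fun b _ => ?_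
      simp [μk]
    let cb : ↥(J ^ k) →ₗ[A] A ⧸ J := (bb.coord b).restrictScalars A ∘ₗ mk
    have h0 : cb ∘ₗ Submodule.inclusion hle = 0 := by
      refine LinearMap.ext fun x => ?_
      have hx : Submodule.inclusion hle x ∈ J • (⊤ : Submodule A ↥(J ^ k)) := by
        have hx' : (x : A) ∈ (J • (⊤ : Submodule A ↥(J ^ k))).map (J ^ k).subtype := by
          rw [Submodule.map_smul'', Submodule.map_top, Submodule.range_subtype, smul_eq_mul, ← pow_succ']
          exact x.2
        obtain ⟨y, hy, hyx⟩ := hx'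
        rwa [show Submodule.inclusion hle x = y from Subtype.ext hyx.symm]
      show bb.coord b (mk _) = 0
      rw [(hker _).mpr hx, map_zero]
    have h1 := congrArg (cb.rTensor M) hz
    rw [← LinearMap.rTensor_comp_apply, h0, LinearMap.rTensor_zero, LinearMap.zero_apply, map_finsuppSum] at h1
    have h2 : (1 : A ⧸ J) ⊗ₜ[A] s b = 0 := by
      rw [← h1, Finsupp.sum_eq_single b]
      · simp [cb, he]
      · intro c _ hcb
        simp [cb, he, hcb]
      · simp
    rw [← Submodule.Quotient.mk_eq_zero, ← TensorProduct.quotTensorEquivQuotSMul_mk_one_tmul, h2, map_zero]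

variable {A : CommRingCat.{u}}

theorem ker_fst_ideal (J : Ideal ↑A) {Y : Scheme.{u}} (g : Y ⟶ Spec A) (W : Y.affineOpens) :
    RingHom.ker ((pullback.fst g (Spec.map (CommRingCat.ofHom (Ideal.Quotient.mk J)))).app W.1).hom =
      J.map (BlowUpLib.strHom (A := ↑A) g W.1) := by
  let σ := Spec.map (CommRingCat.ofHom (Ideal.Quotient.mk J))
  haveI : IsClosedImmersion σ := IsClosedImmersion.spec_of_surjective _ Ideal.Quotient.mk_surjective
  rw [← Scheme.Hom.ker_apply, Scheme.IdealSheafData.ker_fst_of_isClosedImmersion,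
    ModPairLib.ideal_comap _ g ⟨⊤, isAffineOpen_top _⟩ W le_top]
  have hσ : σ.ker.ideal ⟨⊤, isAffineOpen_top _⟩ = J.map (Scheme.ΓSpecIso A).inv.hom := by
    rw [Scheme.Hom.ker_apply]
    let e := (Scheme.ΓSpecIso A).commRingCatIsoToRingEquiv
    have hn : σ.app ⊤ = (Scheme.ΓSpecIso A).hom ≫ CommRingCat.ofHom (Ideal.Quotient.mk J) ≫
        (Scheme.ΓSpecIso (CommRingCat.of (↑A ⧸ J))).inv := by
      rw [← Category.assoc]
      refine (Iso.eq_comp_inv _).mpr ?_
      exact Scheme.ΓSpecIso_naturality (CommRingCat.ofHom (Ideal.Quotient.mk J))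
    have h2 : Function.Injective ⇑(Scheme.ΓSpecIso (CommRingCat.of (↑A ⧸ J))).inv.hom :=
      (ConcreteCategory.bijective_of_isIso (Scheme.ΓSpecIso (CommRingCat.of (↑A ⧸ J))).inv).1
    show _ = J.map e.symm.toRingHom
    ext x
    rw [hn, RingHom.mem_ker, show J.map e.symm.toRingHom = J.comap e.toRingHom from (J.comap_symm e.symm).symm,
      Ideal.mem_comap]
    erw [map_eq_zero_iff _ h2]
    exact Ideal.Quotient.eq_zero_iff_mem
  rw [hσ, Ideal.map_map]
  rfl

open CategoryTheory.Limits in
/-- Over an affine base with free successive quotients. Let A be a ring, J a nilpotent ideal of A such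
that every quotient J^k/J^(k+1) is a free (A/J)-module, p : X ⟶ Spec A a flat morphism and (v_i :
Z_i ⟶ X) a family of subschemes of X (immersions) with every Z_i flat over Spec A. If the family of
reductions Z_i ×_A (A/J) ⟶ X ×_A (A/J) is schematically dense, i.e. a section of the structure sheaf
of X ×_A (A/J) over an open subset whose pullback to every member vanishes is zero, then the family
(v_i) is schematically dense in X in the same sense. (The published statement has an arbitrary base
S and a nilpotent quasi-coherent ideal of the structure sheaf whose successive quotients are locally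
free modulo the ideal; the assertion is local on S and on X, and this row is the case of an affine
base with free successive quotients.) -/
theorem result {X : Scheme.{u}} (A : CommRingCat.{u}) (p : X ⟶ Spec A) [Flat p]
    (J : Ideal ↑A) (hJ : IsNilpotent J) (hfree : ∀ k : ℕ, Module.Free (↑A ⧸ J) ((↑A ⧸ J) ⊗[↑A] ↥(J ^ k)))
    {ι : Type u} (Z : ι → Scheme.{u}) (v : ∀ i, Z i ⟶ X) [∀ i, IsImmersion (v i)] [∀ i, Flat (v i ≫ p)]
    (h0 : ∀ (V : (pullback p (Spec.map (CommRingCat.ofHom (Ideal.Quotient.mk J)))).Opens) (t : Γ(pullback p (Spec.map (CommRingCat.ofHom (Ideal.Quotient.mk J))), V)),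
      (∀ i, (pullback.map (v i ≫ p) (Spec.map (CommRingCat.ofHom (Ideal.Quotient.mk J))) p (Spec.map (CommRingCat.ofHom (Ideal.Quotient.mk J))) (v i) (𝟙 _) (𝟙 _)
        (Category.comp_id _) ((Category.comp_id _).trans (Category.id_comp _).symm)).app V t = 0) → t = 0) :
    ∀ (V : X.Opens) (t : Γ(X, V)), (∀ i, (v i).app V t = 0) → t = 0 := by
  classical
  let σ := Spec.map (CommRingCat.ofHom (Ideal.Quotient.mk J))
  have haff : ∀ (U : X.affineOpens) (k : ℕ) (t : Γ(X, U.1)), (∀ i, (v i).app U.1 t = 0) →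
      t ∈ (J ^ k).map (BlowUpLib.strHom (A := ↑A) p U.1) := by
    intro U k
    induction k with
    | zero => intro t _; rw [pow_zero, Ideal.one_eq_top, Ideal.map_top]; trivial
    | succ k ih =>
      intro t ht
      letI : Algebra ↑A Γ(X, U.1) := (BlowUpLib.strHom (A := ↑A) p U.1).toAlgebra
      obtain ⟨κ, e, he_mem, hspan, hind⟩ := exists_graded_basis J k (hfree k)
      have hk := ih t ht
      have htop : ∀ (n : ℕ) (x : Γ(X, U.1)), x ∈ (J ^ n).map (BlowUpLib.strHom (A := ↑A) p U.1) ↔
          x ∈ (J ^ n) • (⊤ : Submodule ↑A Γ(X, U.1)) := fun n x => by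
        rw [Ideal.smul_top_eq_map]; rfl
      obtain ⟨s, hs⟩ := hspan Γ(X, U.1) t ((htop k t).mp hk)
      have hs0 : ∀ b, s b ∈ J.map (BlowUpLib.strHom (A := ↑A) p U.1) := by
        intro b
        rw [← ker_fst_ideal J p U, RingHom.mem_ker]
        refine h0 _ _ fun i => ?_
        let m := pullback.map (v i ≫ p) σ p σ (v i) (𝟙 _) (𝟙 _)
          (Category.comp_id _) ((Category.comp_id _).trans (Category.id_comp _).symm)
        have hm : m ≫ pullback.fst p σ = pullback.fst (v i ≫ p) σ ≫ v i := pullback.lift_fst _ _ _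
        show (m ≫ pullback.fst p σ).app U.1 (s b) = 0
        rw [Scheme.Hom.congr_app hm U.1]
        show (pullback (v i ≫ p) σ).presheaf.map _ ((pullback.fst (v i ≫ p) σ).app (v i ⁻¹ᵁ U.1) ((v i).app U.1 (s b))) = 0
        suffices h : (pullback.fst (v i ≫ p) σ).app (v i ⁻¹ᵁ U.1) ((v i).app U.1 (s b)) = 0 by rw [h, map_zero]
        let ι' := { W : (Z i).affineOpens // W.1 ≤ v i ⁻¹ᵁ U.1 }
        refine (pullback (v i ≫ p) σ).sheaf.eq_of_locally_eq'
          (fun W : ι' => pullback.fst (v i ≫ p) σ ⁻¹ᵁ W.1.1) _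
          (fun W => homOfLE ((TopologicalSpace.Opens.map (pullback.fst (v i ≫ p) σ).base).monotone W.2)) ?_ _ _ fun W => ?_
        · intro z hz
          obtain ⟨W, hW, hzW, hWU⟩ := exists_isAffineOpen_mem_and_subset
            (x := pullback.fst (v i ≫ p) σ z) (U := v i ⁻¹ᵁ U.1) hz
          exact TopologicalSpace.Opens.mem_iSup.mpr ⟨⟨⟨W, hW⟩, hWU⟩, hzW⟩
        refine Eq.trans ?_ (map_zero _).symm
        obtain ⟨W, hWU⟩ := W
        letI : Algebra ↑A Γ(Z i, W.1) := (BlowUpLib.strHom (A := ↑A) (v i ≫ p) W.1).toAlgebra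
        haveI : Module.Flat ↑A Γ(Z i, W.1) := by
          have h := (v i ≫ p).flat_appLE (isAffineOpen_top _) W.2 (le_top (a := W.1))
          exact (RingHom.Flat.comp (RingHom.Flat.of_bijective
            (ConcreteCategory.bijective_of_isIso (Scheme.ΓSpecIso A).inv)) h :)
        have hcomp : ((v i).appLE U.1 W.1 hWU).hom.comp (BlowUpLib.strHom (A := ↑A) p U.1) =
            BlowUpLib.strHom (A := ↑A) (v i ≫ p) W.1 := by
          simp only [BlowUpLib.strHom, ← CommRingCat.hom_comp, Category.assoc]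
          rw [Scheme.Hom.appLE_comp_appLE]
        let ψ : Γ(X, U.1) →ₐ[↑A] Γ(Z i, W.1) :=
          { ((v i).appLE U.1 W.1 hWU).hom with commutes' := fun a => RingHom.congr_fun hcomp a }
        have hψt : ψ t = 0 := by
          show (Z i).presheaf.map _ ((v i).app U.1 t) = 0
          rw [ht i, map_zero]
        have hs' : (s.mapRange ψ (map_zero ψ)).sum (fun b m => e b • m) ∈
            (J ^ (k + 1)) • (⊤ : Submodule ↑A Γ(Z i, W.1)) := by
          have h := Submodule.mem_map_of_mem (f := ψ.toLinearMap) hs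
          rw [map_sub, Submodule.map_smul'', AlgHom.toLinearMap_apply, hψt, zero_sub, neg_mem_iff,
            map_finsuppSum] at h
          rw [Finsupp.sum_mapRange_index (fun _ => smul_zero _)]
          have h' : _ ∈ (J ^ (k + 1)) • (⊤ : Submodule ↑A Γ(Z i, W.1)) := Submodule.smul_mono le_rfl le_top h
          simpa [map_smul] using h'
        have hb := hind Γ(Z i, W.1) _ hs' b
        rw [Finsupp.mapRange_apply, Ideal.smul_top_eq_map] at hb
        have hb' : ψ (s b) ∈ J.map (BlowUpLib.strHom (A := ↑A) (v i ≫ p) W.1) := hb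
        rw [← ker_fst_ideal J (v i ≫ p) W, RingHom.mem_ker] at hb'
        show (pullback (v i ≫ p) σ).presheaf.map _ _ = 0
        refine Eq.trans ?_ hb'
        show (((v i).app U.1 ≫ (pullback.fst (v i ≫ p) σ).app (v i ⁻¹ᵁ U.1) ≫ _) (s b)) =
          (((v i).app U.1 ≫ (Z i).presheaf.map (homOfLE hWU).op ≫ (pullback.fst (v i ≫ p) σ).app W.1) (s b))
        rw [Scheme.Hom.naturality]
        rfl
      rw [htop]
      refine (Submodule.sub_mem_iff_left _ ?_).mp hs
      refine sum_mem fun b _ => ?_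
      rw [pow_succ, ← smul_eq_mul, Submodule.smul_assoc]
      have hb := hs0 b
      refine Submodule.smul_mem_smul ?_ ?_
      · exact he_mem b
      · rw [Ideal.smul_top_eq_map]; exact hb
  intro V t ht
  refine X.sheaf.eq_of_locally_eq' (fun W : { W : X.affineOpens // W.1 ≤ V } => W.1.1) V
    (fun W => homOfLE W.2) ?_ t 0 fun W => ?_
  · intro z hz
    obtain ⟨W, hW, hzW, hWU⟩ := exists_isAffineOpen_mem_and_subset hz
    exact TopologicalSpace.Opens.mem_iSup.mpr ⟨⟨⟨W, hW⟩, hWU⟩, hzW⟩
  refine Eq.trans ?_ (map_zero _).symm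
  obtain ⟨n, hn⟩ := hJ
  have h := haff W.1 n (X.presheaf.map (homOfLE W.2).op t) fun i => by
    show ((X.presheaf.map (homOfLE W.2).op ≫ (v i).app W.1.1) t) = 0
    rw [Scheme.Hom.naturality]
    show (Z i).presheaf.map _ ((v i).app V t) = 0
    rw [ht i, map_zero]
  rw [hn, Ideal.zero_eq_bot, Ideal.map_bot] at h
  exact h

end Groth.Agent.S6063
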