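import Groth.Statements.S6066
import Groth.Agent.Deform.TorsionDense.Group


set_option autoImplicit false
open CategoryTheory MonoidalCategory CartesianMonoidalCategory MonObj GrpObj AlgebraicGeometry
universe u
open SGA3x

namespace Groth.Agent.S6066
open CategoryTheory.Limits
attribute [local instance] CategoryTheory.Hom.monoid CategoryTheory.Hom.group
set_option linter.style.haveILetI false
set_option backward.isDefEq.respectTransparency.types false
open Groth.Agent.Deform
open CategoryTheory.Limits in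
/-- Let S be a locally Noetherian scheme, H a commutative S-group which is of finite type over S, and E
a nonempty set of integers n > 0 stable under multiplication such that a) every kernel ₙH of the
n-th power map (n ∈ E; the pullback of the unit section along that map) is finite and flat over S
and b) for every s ∈ S the family of fibres (ₙH)_s ⟶ H_s, n ∈ E, is schematically dense in H_s. Let
u : H ⟶ G be a homomorphism into an S-group G locally of finite type over S and k : K ⟶ G a closed
sub-group-scheme. Then the transporter of u into K — the subfunctor of G of those points g, with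
values in an S-scheme X, such that for every X' ⟶ X and every X'-valued point h of H the point g
u(h) g⁻¹ lies in K — is representable by a closed subscheme of G; and if the scheme G is Noetherian
there is n ∈ E such that a point g of G lies in the transporter if and only if g u(h) g⁻¹ lies in K
for all points h of H with h^n = 1. (The published statement is over an arbitrary base S and also
asserts that the transporter is smooth over S when G is smooth, K is smooth or of multiplicative
type and the ₙH, n ∈ E, are of multiplicative type; this row assumes S locally Noetherian, the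
setting in which the printed argument through the base G applies, and does not state the smoothness
assertion.) -/
theorem result {S : Scheme.{u}} [IsLocallyNoetherian S]
    (H : Over S) [GrpObj H] [IsCommMonObj H] [LocallyOfFiniteType H.hom] [QuasiCompact H.hom]
    (E : Set ℕ) (hE : E.Nonempty) (hE0 : ∀ n ∈ E, 0 < n) (hEmul : ∀ m ∈ E, ∀ n ∈ E, m * n ∈ E)
    (ha : ∀ n ∈ E, IsFinite ((pullback.snd η[H].left (𝟙 H ^ n : H ⟶ H).left) ≫ H.hom) ∧ Flat ((pullback.snd η[H].left (𝟙 H ^ n : H ⟶ H).left) ≫ H.hom))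
    (hb : ∀ (s : S) (V : (H.hom.fiber s).Opens) (t : Γ(H.hom.fiber s, V)),
      (∀ n ∈ E, (MoreMor.fiberMap (pullback.snd η[H].left (𝟙 H ^ n : H ⟶ H).left) H.hom s).app V t = 0) → t = 0)
    (G K : Over S) [GrpObj G] [GrpObj K] [LocallyOfFiniteType G.hom] (u : H ⟶ G) [IsMonHom u]
    (k : K ⟶ G) [IsMonHom k] [IsClosedImmersion k.left] :
    (∃ (T : Over S) (j : T ⟶ G), IsClosedImmersion j.left ∧
      ∀ (X : Over S) (g : X ⟶ G), (∃ t : X ⟶ T, t ≫ j = g) ↔
        ∀ (X' : Over S) (x : X' ⟶ X) (h : X' ⟶ H), ∃ κ : X' ⟶ K, (x ≫ g) * (h ≫ u) * (x ≫ g)⁻¹ = κ ≫ k) ∧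
    (AlgebraicGeometry.IsNoetherian G.left → ∃ n ∈ E, ∀ (X : Over S) (g : X ⟶ G),
      (∀ (X' : Over S) (x : X' ⟶ X) (h : X' ⟶ H), ∃ κ : X' ⟶ K, (x ≫ g) * (h ≫ u) * (x ≫ g)⁻¹ = κ ≫ k) ↔
        ∀ (X' : Over S) (x : X' ⟶ X) (h : X' ⟶ H), h ^ n = 1 → ∃ κ : X' ⟶ K, (x ≫ g) * (h ≫ u) * (x ≫ g)⁻¹ = κ ≫ k) := by
  haveI : ∀ n : ULift.{u} E, IsFinite (TorsionDense.torsι H n.down.1 ≫ H.hom) := fun n => (ha _ n.down.2).1
  haveI : ∀ n : ULift.{u} E, Flat (TorsionDense.torsι H n.down.1 ≫ H.hom) := fun n => (ha _ n.down.2).2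
  haveI : Nonempty (ULift.{u} E) := ⟨⟨⟨_, hE.some_mem⟩⟩⟩
  have hdir : ∀ i j : ULift.{u} E, ∃ k : ULift.{u} E, (∃ a, a ≫ TorsionDense.torsι H k.down.1 = TorsionDense.torsι H i.down.1) ∧
      ∃ a, a ≫ TorsionDense.torsι H k.down.1 = TorsionDense.torsι H j.down.1 := fun i j =>
    ⟨⟨⟨i.down.1 * j.down.1, hEmul _ i.down.2 _ j.down.2⟩⟩, TorsionDense.torsι_dir H _ _, by
      show ∃ a, a ≫ TorsionDense.torsι H (i.down.1 * j.down.1) = _
      rw [mul_comm]
      exact TorsionDense.torsι_dir H _ _⟩
  have hq : TorsionDense.FibreDense H.hom (fun n : ULift.{u} E => TorsionDense.torsι H n.down.1) :=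
    fun s V t h => hb s V t fun n hn => h ⟨⟨n, hn⟩⟩
  haveI : IsLocallyNoetherian G.left := LocallyOfFiniteType.isLocallyNoetherian G.hom
  let y : (pullback (TorsionDense.conjMap H G u) k).left ⟶ pullback H.hom G.hom :=
    (pullback.fst (TorsionDense.conjMap H G u) k).left
  haveI : IsClosedImmersion y := MorphismProperty.of_isPullback
    ((IsPullback.of_hasPullback (TorsionDense.conjMap H G u) k).map (Over.forget S)).flip ‹IsClosedImmersion k.left›
  obtain ⟨⟨T, t, ht, hT⟩, hN⟩ := TorsionDense.exists_locus H.hom G.hom y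
    (fun n : ULift.{u} E => TorsionDense.torsι H n.down.1) hdir hq
  have h1 : ∀ (X : Over S) (g : X ⟶ G), TorsionDense.Factor H.hom G.hom y g.left ↔
      ∀ (X' : Over S) (x : X' ⟶ X) (h : X' ⟶ H), ∃ κ : X' ⟶ K, (x ≫ g) * (h ≫ u) * (x ≫ g)⁻¹ = κ ≫ k := by
    intro X g
    revert X g
    refine TorsionDense.over_induction fun Xl gl => ?_
    refine Iff.trans ?_ ((TorsionDense.transporter_iff H G K u k (𝟙 H) (Over.homMk gl rfl : Over.mk (gl ≫ G.hom) ⟶ G)).trans ?_)
    · refine exists_congr fun l => ?_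
      rw [Over.tensorHom_left]
      rfl
    · refine forall_congr' fun X' => forall_congr' fun x => forall_congr' fun h => ?_
      rw [Category.comp_id]
  refine ⟨⟨Over.mk (t ≫ G.hom), Over.homMk t rfl, ht, fun X g => ?_⟩, fun hG => ?_⟩
  · rw [← h1, ← hT]
    exact ⟨fun ⟨z, hz⟩ => ⟨z.left, congrArg CommaMorphism.left hz⟩, fun ⟨z, hz⟩ =>
      ⟨Over.homMk z (by show z ≫ t ≫ G.hom = X.hom; rw [reassoc_of% hz, Over.w g]), Over.OverMorphism.ext hz⟩⟩
  obtain ⟨n, hn⟩ := hN hG
  refine ⟨n.down.1, n.down.2, fun X g => ?_⟩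
  rw [← h1, hn]
  revert X g
  refine TorsionDense.over_induction fun Xl gl => ?_
  let qo : Over.mk (TorsionDense.torsι H n.down.1 ≫ H.hom) ⟶ H := Over.homMk (TorsionDense.torsι H n.down.1) rfl
  refine Iff.trans ?_ ((TorsionDense.transporter_iff H G K u k qo (Over.homMk gl rfl : Over.mk (gl ≫ G.hom) ⟶ G)).trans ?_)
  · refine exists_congr fun l => ?_
    rw [Over.tensorHom_left]
    rfl
  · refine forall_congr' fun X' => forall_congr' fun x => ⟨fun hall h hh => ?_, fun hall a => ?_⟩
    · obtain ⟨a, ha'⟩ := TorsionDense.exists_lift_torsι H h hh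
      rw [← ha']
      exact hall a
    · refine hall (a ≫ qo) ?_
      rw [← MonObj.comp_pow, TorsionDense.torsι_pow, MonObj.comp_one]

end Groth.Agent.S6066
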