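import Groth.Statements.S6073
import Groth.Agent.Deform.GenSub.CommField

set_option autoImplicit false
universe u
open CategoryTheory CategoryTheory.Limits MonoidalCategory CartesianMonoidalCategory MonObj GrpObj AlgebraicGeometry
open SGA3

namespace Groth.Agent.S6073
attribute [local instance] CategoryTheory.Hom.monoid CategoryTheory.Hom.group
set_option linter.style.haveILetI false

open scoped commutatorElement in
theorem points_transport {k : Type u} [Field k] {G A B Γ I : Over (Spec (CommRingCat.of k))} [GrpObj G] [GrpObj A]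
    [GrpObj B] (a : A ⟶ G) [IsMonHom a] (b : B ⟶ G) [IsMonHom b] (i : Γ ⟶ G) (j : I ⟶ G) (φ : I ≅ Γ)
    (hφ : φ.hom ≫ i = j)
    (hpts : (Set.range fun x : Deform.GenSub.geomT (𝟙 (Spec (CommRingCat.of k))) ⟶ I => x ≫ j) =
      Subgroup.closure (Set.image2
        (fun g h : Deform.GenSub.geomT (𝟙 (Spec (CommRingCat.of k))) ⟶ G =>
          (⁅g, h⁆ : Deform.GenSub.geomT (𝟙 (Spec (CommRingCat.of k))) ⟶ G))
        (Set.range fun x : Deform.GenSub.geomT (𝟙 (Spec (CommRingCat.of k))) ⟶ A => x ≫ a)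
        (Set.range fun y : Deform.GenSub.geomT (𝟙 (Spec (CommRingCat.of k))) ⟶ B => y ≫ b))) :
    Set.range (fun z : 𝟙_ (Over (Spec (CommRingCat.of k))) ⟶ Γ => z ≫ i) =
      ((⁅Subgroup.closure (Set.range (fun x : 𝟙_ (Over (Spec (CommRingCat.of k))) ⟶ A => x ≫ a)),
        Subgroup.closure (Set.range (fun y : 𝟙_ (Over (Spec (CommRingCat.of k))) ⟶ B => y ≫ b))⁆ :
          Subgroup (𝟙_ (Over (Spec (CommRingCat.of k))) ⟶ G)) : Set (𝟙_ (Over (Spec (CommRingCat.of k))) ⟶ G)) := by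
  let t : Deform.GenSub.geomT (𝟙 (Spec (CommRingCat.of k))) ≅ 𝟙_ (Over (Spec (CommRingCat.of k))) :=
    Over.isoMk (Iso.refl _) (by simp)
  let p : (Deform.GenSub.geomT (𝟙 (Spec (CommRingCat.of k))) ⟶ G) →* (𝟙_ (Over (Spec (CommRingCat.of k))) ⟶ G) :=
    MonoidHom.mk' (fun g => t.inv ≫ g) fun g h => MonObj.comp_mul t.inv g h
  have hr : ∀ {C : Over (Spec (CommRingCat.of k))} (c : C ⟶ G),
      p '' (Set.range fun x : Deform.GenSub.geomT (𝟙 (Spec (CommRingCat.of k))) ⟶ C => x ≫ c) =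
        Set.range fun z : 𝟙_ (Over (Spec (CommRingCat.of k))) ⟶ C => z ≫ c := by
    intro C c
    rw [← Set.range_comp]
    ext g
    exact ⟨fun ⟨x, hx⟩ => ⟨t.inv ≫ x, (Category.assoc _ _ _).trans hx⟩,
      fun ⟨z, hz⟩ => ⟨t.hom ≫ z, (congrArg (t.inv ≫ ·) (Category.assoc _ _ _)).trans ((t.inv_hom_id_assoc _).trans hz)⟩⟩
  have hI : (Set.range fun z : 𝟙_ (Over (Spec (CommRingCat.of k))) ⟶ Γ => z ≫ i) =
      Set.range fun z : 𝟙_ (Over (Spec (CommRingCat.of k))) ⟶ I => z ≫ j := by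
    ext g
    constructor
    · rintro ⟨z, rfl⟩
      exact ⟨z ≫ φ.inv, by simp [← hφ]⟩
    · rintro ⟨z, rfl⟩
      exact ⟨z ≫ φ.hom, by simp [← hφ]⟩
  have hA : ∀ {C : Over (Spec (CommRingCat.of k))} [GrpObj C] (c : C ⟶ G) [IsMonHom c],
      ((Subgroup.closure (Set.range fun z : 𝟙_ (Over (Spec (CommRingCat.of k))) ⟶ C => z ≫ c) :
        Subgroup (𝟙_ (Over (Spec (CommRingCat.of k))) ⟶ G)) : Set (𝟙_ (Over (Spec (CommRingCat.of k))) ⟶ G)) =
        Set.range fun z : 𝟙_ (Over (Spec (CommRingCat.of k))) ⟶ C => z ≫ c := by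
    intro C _ c _
    rw [show (Set.range fun z : 𝟙_ (Over (Spec (CommRingCat.of k))) ⟶ C => z ≫ c) =
      ((MonoidHom.mk' (fun z : 𝟙_ (Over (Spec (CommRingCat.of k))) ⟶ C => z ≫ c)
        fun x y => MonObj.mul_comp x y c).range : Set (𝟙_ (Over (Spec (CommRingCat.of k))) ⟶ G)) from rfl,
      Subgroup.closure_eq]
  rw [hI, ← hr j, hpts, Subgroup.commutator_def, ← Subgroup.coe_map, MonoidHom.map_closure,
    Set.image_image2_distrib (g := fun g => p g)
      (f' := fun g h : 𝟙_ (Over (Spec (CommRingCat.of k))) ⟶ G => (⁅g, h⁆ : 𝟙_ (Over (Spec (CommRingCat.of k))) ⟶ G))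
      (g₁ := fun g => p g) (g₂ := fun g => p g) (fun g h => map_commutatorElement p g h), hr, hr]
  congr 2
  ext g
  simp only [Set.mem_image2, Set.mem_setOf_eq, ← SetLike.mem_coe, hA a, hA b]

/-- Let k be an algebraically closed field, G a group scheme locally of finite type over k, and a : A →
G, b : B → G two closed subgroup schemes which are geometrically reduced over k, such that either
(a) A and B are normal in G and of finite type over k, or (b) A is connected and B is of finite type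
over k. Let i : Γ → G be the commutator subgroup scheme (A, B): the smallest closed subgroup scheme
of G through which A ×_k B → G, (x, y) ↦ a(x) b(y) a(x)⁻¹ b(y)⁻¹, factors. Then the image of Γ(k) in
G(k) is the commutator subgroup of the images of A(k) and B(k): the subgroup of G(k) generated by
the commutators of a k-point of A with a k-point of B. -/
theorem result (k : Type u) [Field k] [IsAlgClosed k]
    (G A B : Over (Spec (CommRingCat.of k))) [GrpObj G] [GrpObj A] [GrpObj B] [LocallyOfFiniteType G.hom]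
    (a : A ⟶ G) [IsMonHom a] [IsClosedImmersion a.left] (b : B ⟶ G) [IsMonHom b] [IsClosedImmersion b.left]
    [GeometricallyReduced A.hom] [GeometricallyReduced B.hom] [QuasiCompact B.hom]
    (hcase : (AlgGrp.IsNormalHom a ∧ AlgGrp.IsNormalHom b ∧ QuasiCompact A.hom) ∨ ConnectedSpace A.left)
    (Γ : Over (Spec (CommRingCat.of k))) [GrpObj Γ] (i : Γ ⟶ G) [IsMonHom i] [IsClosedImmersion i.left]
    (hf : ∃ f' : A ⊗ B ⟶ Γ, f' ≫ i = (((fst A B) ≫ a) * ((snd A B) ≫ b) * ((fst A B) ≫ a)⁻¹ * ((snd A B) ≫ b)⁻¹))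
    (hmin : ∀ (Γ' : Over (Spec (CommRingCat.of k))) (_ : GrpObj Γ') (i' : Γ' ⟶ G), IsMonHom i' → IsClosedImmersion i'.left →
        (∃ f'' : A ⊗ B ⟶ Γ', f'' ≫ i' = (((fst A B) ≫ a) * ((snd A B) ≫ b) * ((fst A B) ≫ a)⁻¹ * ((snd A B) ≫ b)⁻¹)) → ∃ j : Γ ⟶ Γ', j ≫ i' = i) :
    Set.range (fun z : 𝟙_ (Over (Spec (CommRingCat.of k))) ⟶ Γ => z ≫ i) =
      ((⁅Subgroup.closure (Set.range (fun x : 𝟙_ (Over (Spec (CommRingCat.of k))) ⟶ A => x ≫ a)),
         Subgroup.closure (Set.range (fun y : 𝟙_ (Over (Spec (CommRingCat.of k))) ⟶ B => y ≫ b))⁆ : Subgroup (𝟙_ (Over (Spec (CommRingCat.of k))) ⟶ G)) :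
        Set (𝟙_ (Over (Spec (CommRingCat.of k))) ⟶ G)) := by
  obtain ⟨I, iI, j, hj, hjc, -, hq, hfI, hminI, -, hpts⟩ :=
    Deform.GenSub.exists_commutator (𝟙 (Spec (CommRingCat.of k))) a b hcase
  haveI := hj; haveI := hjc
  obtain ⟨φ, hφ⟩ := Deform.GenSub.generated_iso j hfI hminI i hf hmin
  exact points_transport a b i j φ hφ hpts

end Groth.Agent.S6073
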