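import Groth.Statements.S6074
import Groth.Agent.Deform.GenSub.GenConn
import Groth.Agent.Deform.GenSub.CommField

set_option autoImplicit false
universe u
open CategoryTheory CategoryTheory.Limits MonoidalCategory CartesianMonoidalCategory MonObj GrpObj AlgebraicGeometry
open SGA3

namespace Groth.Agent.S6074
attribute [local instance] CategoryTheory.Hom.monoid CategoryTheory.Hom.group
set_option linter.style.haveILetI false

variable {k : Type u} [Field k] {G X : Over (Spec (CommRingCat.of k))} [GrpObj G]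

theorem exists_prod (f : X ⟶ G) : ∀ (L : List Bool) (T : Over (Spec (CommRingCat.of k)))
    (y : T ⟶ Deform.GenSub.wObj X L), ∃ x : Fin L.length → (T ⟶ X),
      (List.ofFn fun j => if L.get j then x j ≫ f else (x j ≫ f)⁻¹).prod = y ≫ Deform.GenSub.wMor f L
  | [], T, y => ⟨Fin.elim0, by
      rw [List.ofFn_zero, List.prod_nil]
      exact (MonObj.comp_one y).symm⟩
  | b :: L, T, y => by
    obtain ⟨x, hx⟩ := exists_prod f L T (y ≫ snd X (Deform.GenSub.wObj X L))
    refine ⟨Fin.cons (y ≫ fst X (Deform.GenSub.wObj X L)) x, ?_⟩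
    have h : (List.ofFn fun j : Fin (b :: L).length => if (b :: L).get j then
        (Fin.cons (y ≫ fst X (Deform.GenSub.wObj X L)) x : Fin (L.length + 1) → (T ⟶ X)) j ≫ f else
        ((Fin.cons (y ≫ fst X (Deform.GenSub.wObj X L)) x : Fin (L.length + 1) → (T ⟶ X)) j ≫ f)⁻¹) =
      (if b then (y ≫ fst X (Deform.GenSub.wObj X L)) ≫ f else ((y ≫ fst X (Deform.GenSub.wObj X L)) ≫ f)⁻¹) ::
        List.ofFn fun j => if L.get j then x j ≫ f else (x j ≫ f)⁻¹ := List.ofFn_succ
    refine (congrArg List.prod h).trans ?_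
    rw [List.prod_cons, hx]
    let a₁ : X ⊗ Deform.GenSub.wObj X L ⟶ G := fst X (Deform.GenSub.wObj X L) ≫ f
    let b₁ : X ⊗ Deform.GenSub.wObj X L ⟶ G := snd X (Deform.GenSub.wObj X L) ≫ Deform.GenSub.wMor f L
    let y' : T ⟶ X ⊗ Deform.GenSub.wObj X L := y
    have e1 : (y' ≫ fst X (Deform.GenSub.wObj X L)) ≫ f = y' ≫ a₁ := Category.assoc _ _ _
    have e2 : (y' ≫ snd X (Deform.GenSub.wObj X L)) ≫ Deform.GenSub.wMor f L = y' ≫ b₁ := Category.assoc _ _ _
    cases b with
    | true =>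
      show (if true = true then (y' ≫ fst X (Deform.GenSub.wObj X L)) ≫ f
        else ((y' ≫ fst X (Deform.GenSub.wObj X L)) ≫ f)⁻¹) *
          ((y' ≫ snd X (Deform.GenSub.wObj X L)) ≫ Deform.GenSub.wMor f L) = y' ≫ (a₁ * b₁)
      rw [if_pos rfl, MonObj.comp_mul, e1, e2]
    | false =>
      show (if false = true then (y' ≫ fst X (Deform.GenSub.wObj X L)) ≫ f
        else ((y' ≫ fst X (Deform.GenSub.wObj X L)) ≫ f)⁻¹) *
          ((y' ≫ snd X (Deform.GenSub.wObj X L)) ≫ Deform.GenSub.wMor f L) = y' ≫ (a₁⁻¹ * b₁)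
      rw [if_neg Bool.false_ne_true, MonObj.comp_mul, GrpObj.comp_inv, e1, e2]

theorem prod_factor (f : X ⟶ G) {Γ : Over (Spec (CommRingCat.of k))} [GrpObj Γ] (i : Γ ⟶ G) [IsMonHom i]
    (hf : ∃ f', f' ≫ i = f) {T : Over (Spec (CommRingCat.of k))} {N : ℕ} (x : Fin N → (T ⟶ X)) (ε : Fin N → Bool) :
    ∃ φ : T ⟶ Γ, φ ≫ i = (List.ofFn fun j : Fin N => if ε j then x j ≫ f else (x j ≫ f)⁻¹).prod := by
  obtain ⟨f', rfl⟩ := hf
  let ψ : (T ⟶ Γ) →* (T ⟶ G) := MonoidHom.mk' (fun z => z ≫ i) fun a b => MonObj.mul_comp a b i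
  refine MonoidHom.mem_range.mp (Subgroup.list_prod_mem ψ.range fun z hz => ?_)
  obtain ⟨j, rfl⟩ := List.mem_ofFn.mp hz
  have hm : x j ≫ f' ≫ i ∈ ψ.range := ⟨x j ≫ f', show (x j ≫ f') ≫ i = x j ≫ f' ≫ i from Category.assoc _ _ _⟩
  split
  · exact hm
  · exact inv_mem hm

theorem exists_word {K : Type u} [Field K] [IsAlgClosed K] (σ : Spec (CommRingCat.of K) ⟶ Spec (CommRingCat.of k))
    [LocallyOfFiniteType G.hom] [LocallyOfFiniteType X.hom] [QuasiCompact X.hom]
    [GeometricallyReduced X.hom] [GeometricallyConnected X.hom] (f : X ⟶ G)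
    (he : ∃ x : X.left, f.left.base x ∈ Set.range (η[G] : 𝟙_ (Over (Spec (CommRingCat.of k))) ⟶ G).left.base)
    {Γ : Over (Spec (CommRingCat.of k))} [GrpObj Γ] (i : Γ ⟶ G) [IsMonHom i] [IsClosedImmersion i.left]
    (hf : ∃ f', f' ≫ i = f)
    (hmin : ∀ (Γ' : Over (Spec (CommRingCat.of k))) (_ : GrpObj Γ') (i' : Γ' ⟶ G), IsMonHom i' → IsClosedImmersion i'.left →
      (∃ f'' : X ⟶ Γ', f'' ≫ i' = f) → ∃ j : Γ ⟶ Γ', j ≫ i' = i) :
    ∃ L : List Bool, Set.range i.left = Set.range (Deform.GenSub.wMor f L).left := by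
  haveI := GrpSchLib.AntiAffine.isSeparated_grp G
  haveI := Deform.Luna.SolvLocus.isClosedImmersion_one G
  haveI : LocallyOfFiniteType (Red.bc σ G).hom := MorphismProperty.pullback_snd G.hom σ inferInstance
  haveI : LocallyOfFiniteType (Red.bc σ X).hom := MorphismProperty.pullback_snd X.hom σ inferInstance
  haveI : QuasiCompact (Red.bc σ X).hom := MorphismProperty.pullback_snd X.hom σ inferInstance
  haveI : ConnectedSpace ↥(Red.bc σ X).left :=
    pullback_of_geometrically (GeometricallyConnected.geometrically_connectedSpace (f := X.hom)) K σ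
  obtain ⟨x₀, hx₀⟩ := Deform.GenSub.exists_geomPt σ X (S := f.left ⁻¹' Set.range η[G].left)
    (by obtain ⟨x, hx⟩ := he; exact ⟨x, hx⟩)
    (η[G].left.isClosedEmbedding.isClosed_range.preimage f.left.continuous).isLocallyClosed
  haveI : IsReduced (Deform.GenSub.geomT σ).left := inferInstanceAs (IsReduced (Spec (CommRingCat.of K)))
  obtain ⟨g, hg⟩ := Deform.Chev.exists_lift_range η[G] (x₀ ≫ f) (by
    rintro _ ⟨z, rfl⟩
    rw [Subsingleton.elim (α := Spec (CommRingCat.of K)) z (IsLocalRing.closedPoint K)]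
    exact hx₀)
  have hone : x₀ ≫ f = 1 := by rw [← hg, toUnit_unique g (toUnit _), Hom.one_def]
  let e := Deform.Luna.SolvLocus.ptsEquiv (G := G) σ (𝟙_ (Over (Spec (CommRingCat.of K))))
  obtain ⟨n, hn⟩ := Deform.GenSub.bounded_of_connected ((Over.pullback σ).map f)
    ((Over.mapPullbackAdj σ).homEquiv _ X x₀)
    (((Over.mapPullbackAdj σ).homEquiv_naturality_right x₀ f).symm.trans (by
      show e (x₀ ≫ f) = 1
      rw [hone, map_one]))
  have himg : e.toMonoidHom '' (Set.range fun x : Deform.GenSub.geomT σ ⟶ X => x ≫ f) =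
      Set.range fun y : Deform.Chev.Pt (Red.bc σ X) => y ≫ (Over.pullback σ).map f := by
    rw [← Set.range_comp]
    ext z
    constructor
    · rintro ⟨x, rfl⟩
      exact ⟨_, ((Over.mapPullbackAdj σ).homEquiv_naturality_right x f).symm⟩
    · rintro ⟨y, rfl⟩
      obtain ⟨x, rfl⟩ := ((Over.mapPullbackAdj σ).homEquiv _ X).surjective y
      exact ⟨x, (Over.mapPullbackAdj σ).homEquiv_naturality_right x f⟩
  rw [← himg, ← MonoidHom.map_closure, Subgroup.coe_map, ← Deform.GenSub.image_wVal] at hn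
  have hn' : ∀ h ∈ Subgroup.closure (Set.range fun x : Deform.GenSub.geomT σ ⟶ X => x ≫ f),
      h ∈ Deform.GenSub.wVal (Set.range fun x : Deform.GenSub.geomT σ ⟶ X => x ≫ f) (Deform.GenSub.alt n) :=
    fun h hh => by
      obtain ⟨h', hh', he'⟩ := hn ⟨h, hh, rfl⟩
      exact (e.injective he' : h' = h) ▸ hh'
  obtain ⟨I, iI, j, hj, hjc, hjs, -, hfI, -, hpts, hminI⟩ :=
    Deform.GenSub.exists_generated σ f ⟨(Deform.GenSub.alt n).length, fun h hh => ⟨_, le_rfl, hn' h hh⟩⟩
  haveI := hj; haveI := hjc; haveI := hjs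
  obtain ⟨φ, hφ⟩ := Deform.GenSub.generated_iso j hfI hminI i hf hmin
  refine ⟨Deform.GenSub.alt n, Set.Subset.antisymm ?_ ?_⟩
  · rintro _ ⟨z₀, rfl⟩
    have hz : i.left z₀ ∈ Set.range j.left := ⟨φ.inv.left z₀, by
      rw [← hφ, ← Scheme.Hom.comp_apply, ← Over.comp_left, Iso.inv_hom_id_assoc]⟩
    by_contra hne
    obtain ⟨_, _⟩ : LocallyOfFiniteType (Deform.GenSub.wObj X (Deform.GenSub.alt n)).hom ∧
        QuasiCompact (Deform.GenSub.wObj X (Deform.GenSub.alt n)).hom :=
      ⟨(Deform.GenSub.props_wObj _).1, (Deform.GenSub.props_wObj _).2.1⟩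
    let w := Deform.GenSub.wMor f (Deform.GenSub.alt n)
    haveI : QuasiSeparatedSpace G.left := quasiSeparatedSpace_of_quasiSeparated G.hom
    haveI : CompactSpace (Deform.GenSub.wObj X (Deform.GenSub.alt n)).left :=
      QuasiCompact.compactSpace_of_compactSpace (Deform.GenSub.wObj X (Deform.GenSub.alt n)).hom
    haveI : LocallyOfFinitePresentation (w.left ≫ G.hom) := by rw [Over.w w]; infer_instance
    haveI : QuasiCompact (w.left ≫ G.hom) := by rw [Over.w w]; infer_instance
    haveI : LocallyOfFinitePresentation w.left := S12442.locallyOfFinitePresentation_of_comp w.left G.hom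
    haveI : QuasiCompact w.left := QuasiCompact.of_comp w.left G.hom
    have hc : Topology.IsLocallyConstructible (Set.range w.left) := by
      rw [← Set.image_univ]
      exact w.left.isLocallyConstructible_image Topology.IsConstructible.univ.isLocallyConstructible
    obtain ⟨𝒮, -, hl, hS⟩ := (Deform.GenSub.finLC_of_isConstructible
      (hc.isConstructible_of_subset_of_isCompact subset_rfl (isCompact_range w.left.continuous))).2
    obtain ⟨z, hzj⟩ := hz
    obtain ⟨M, hM, hzM⟩ : j.left z ∈ ⋃₀ 𝒮 := hS ▸ (hzj ▸ hne)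
    obtain ⟨x, hx⟩ := Deform.GenSub.exists_geomPt σ I (S := j.left ⁻¹' M) ⟨z, hzM⟩ ((hl M hM).preimage j.left.continuous)
    have hx' : x ≫ j ∈ Set.range fun y : Deform.GenSub.geomT σ ⟶ Deform.GenSub.wObj X (Deform.GenSub.alt n) => y ≫ w := by
      rw [Deform.GenSub.range_wMor]
      exact hn' _ (hpts.le ⟨x, rfl⟩)
    obtain ⟨y, hy⟩ := hx'
    exact (hS.ge ⟨M, hM, hx⟩) ⟨y.left (IsLocalRing.closedPoint K),
      congrArg (fun q : Deform.GenSub.geomT σ ⟶ G => q.left (IsLocalRing.closedPoint K)) hy⟩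
  · obtain ⟨f', rfl⟩ := hf
    rw [← Deform.GenSub.wMor_comp i f']
    rintro _ ⟨y, rfl⟩
    exact ⟨(Deform.GenSub.wMor f' (Deform.GenSub.alt n)).left y, rfl⟩

/-- Let k be a field, G a group scheme locally of finite type over k, X a k-scheme of finite type,
geometrically reduced and geometrically connected, and f : X → G a k-morphism whose image contains
the unit point of G. Let i : Γ → G be the smallest closed subgroup scheme of G through which f
factors. Then there is a natural number N such that the underlying set of Γ is the set of points of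
G lying under a word of length N in f: a point g of G is in the image of i if and only if there are
a k-scheme T, a point p of T, T-valued points x_1, …, x_N of X and signs such that the T-valued
point f(x_1)^{±1} ⋯ f(x_N)^{±1} of G maps p to g. (The set of points of G lying under words of
length exactly N is the image of the N-th iterated word morphism X^N → G built from f and its
inverse.) -/
theorem result (k : Type u) [Field k]
    (G X : Over (Spec (CommRingCat.of k))) [GrpObj G] [LocallyOfFiniteType G.hom]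
    [LocallyOfFiniteType X.hom] [QuasiCompact X.hom] [GeometricallyReduced X.hom] [GeometricallyConnected X.hom]
    (f : X ⟶ G) (he : ∃ x : X.left, f.left.base x ∈ Set.range (η[G] : 𝟙_ (Over (Spec (CommRingCat.of k))) ⟶ G).left.base)
    (Γ : Over (Spec (CommRingCat.of k))) [GrpObj Γ] (i : Γ ⟶ G) [IsMonHom i] [IsClosedImmersion i.left]
    (hf : ∃ f' : X ⟶ Γ, f' ≫ i = f)
    (hmin : ∀ (Γ' : Over (Spec (CommRingCat.of k))) (_ : GrpObj Γ') (i' : Γ' ⟶ G), IsMonHom i' → IsClosedImmersion i'.left →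
        (∃ f'' : X ⟶ Γ', f'' ≫ i' = f) → ∃ j : Γ ⟶ Γ', j ≫ i' = i) :
    ∃ N : ℕ, Set.range i.left.base =
      {g : G.left | ∃ (T : Over (Spec (CommRingCat.of k))) (p : T.left) (x : Fin N → (T ⟶ X)) (ε : Fin N → Bool),
        ((List.ofFn fun j : Fin N => if ε j then x j ≫ f else (x j ≫ f)⁻¹).prod : T ⟶ G).left.base p = g} := by
  obtain ⟨L, hL⟩ := exists_word (Spec.map (CommRingCat.ofHom (algebraMap k (AlgebraicClosure k)))) f he i hf hmin
  refine ⟨L.length, ?_⟩
  ext g
  constructor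
  · intro hg
    obtain ⟨p, rfl⟩ := hL.le hg
    obtain ⟨x, hx⟩ := exists_prod f L (Deform.GenSub.wObj X L) (𝟙 _)
    refine ⟨_, p, x, fun j => L.get j, ?_⟩
    rw [hx, Category.id_comp]
  · rintro ⟨T, p, x, ε, rfl⟩
    obtain ⟨φ, hφ⟩ := prod_factor f i hf x ε
    exact ⟨φ.left p, by rw [← hφ]; rfl⟩

end Groth.Agent.S6074
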