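import Groth.Statements.S6075
import Groth.Agent.GrpSchLib.ReducedPoints

set_option autoImplicit false
universe u
open CategoryTheory CategoryTheory.Limits MonoidalCategory CartesianMonoidalCategory MonObj GrpObj AlgebraicGeometry
open SGA3

namespace Groth.Agent.S6075
set_option linter.style.haveILetI false

attribute [local instance] CategoryTheory.Hom.monoid CategoryTheory.Hom.group

noncomputable abbrev word {S : Scheme.{u}} {X H : Over S} [GrpObj H] (f : X ⟶ H) {T : Over S} {m : ℕ}
    (x : Fin m → (T ⟶ X)) (ε : Fin m → Bool) : T ⟶ H :=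
  (List.ofFn fun j : Fin m => if ε j then x j ≫ f else (x j ≫ f)⁻¹).prod

theorem comp_word {S : Scheme.{u}} {X H : Over S} [GrpObj H] (f : X ⟶ H) {T W : Over S} {m : ℕ}
    (φ : T ⟶ W) (x : Fin m → (W ⟶ X)) (ε : Fin m → Bool) :
    φ ≫ word f x ε = word f (fun j => φ ≫ x j) ε := by
  let ψ : (W ⟶ H) →* (T ⟶ H) :=
    { toFun := fun r => φ ≫ r
      map_one' := MonObj.comp_one φ
      map_mul' := fun a b => MonObj.comp_mul φ a b }
  change ψ _ = _
  rw [map_list_prod, List.map_ofFn]
  congr 2
  funext j
  simp only [Function.comp_apply]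
  split_ifs
  · exact (Category.assoc φ (x j) f).symm
  · rw [map_inv]
    exact congrArg (fun r : T ⟶ H => r⁻¹) (Category.assoc φ (x j) f).symm

variable {k : Type u} [Field k]

theorem univTuple (X : Over (Spec (CommRingCat.of k))) [LocallyOfFiniteType X.hom] (m : ℕ) :
    ∃ (W : Over (Spec (CommRingCat.of k))) (_ : LocallyOfFiniteType W.hom) (y : Fin m → (W ⟶ X)),
      ∀ (T : Over (Spec (CommRingCat.of k))) (x : Fin m → (T ⟶ X)), ∃ φ : T ⟶ W, ∀ j, φ ≫ y j = x j := by
  induction m with
  | zero =>
    exact ⟨Over.mk (𝟙 _), (inferInstance : LocallyOfFiniteType (𝟙 (Spec (CommRingCat.of k)))), Fin.elim0,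
      fun T x => ⟨Over.homMk T.hom (by simp), fun j => j.elim0⟩⟩
  | succ m ih =>
    obtain ⟨W, hW, y, hy⟩ := ih
    haveI : LocallyOfFiniteType (X ⊗ W).hom := by
      rw [Over.tensorObj_hom]; infer_instance
    refine ⟨X ⊗ W, inferInstance, Fin.cons (fst X W) (fun j => snd X W ≫ y j), fun T x => ?_⟩
    obtain ⟨φ, hφ⟩ := hy T (fun j => x j.succ)
    refine ⟨lift (x 0) φ, fun j => ?_⟩
    refine Fin.cases ?_ (fun j => ?_) j
    · simp
    · simp [hφ]

theorem isClosed_pt {Z : Over (Spec (CommRingCat.of k))} [LocallyOfFiniteType Z.hom]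
    (a : 𝟙_ (Over (Spec (CommRingCat.of k))) ⟶ Z) : IsClosed {a.left.base (IsLocalRing.closedPoint k)} :=
  by
  haveI : IsClosedImmersion a.left :=
    @isClosedImmersion_of_comp_eq_id _ (Spec (CommRingCat.of k)) (inferInstanceAs (Subsingleton (PrimeSpectrum k)))
      Z.hom a.left (Over.w a)
  have h := a.left.isClosedEmbedding.isClosed_range
  convert h using 1
  refine Set.eq_of_subset_of_subset (by rintro _ rfl; exact ⟨_, rfl⟩) ?_
  rintro _ ⟨z, rfl⟩
  exact congrArg a.left (Subsingleton.elim (α := PrimeSpectrum k) z _)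

theorem exists_pt [IsAlgClosed k] (W : Over (Spec (CommRingCat.of k))) [LocallyOfFiniteType W.hom]
    {Z : Set W.left} (hZ : IsClosed Z) (hne : Z.Nonempty) :
    ∃ w : 𝟙_ (Over (Spec (CommRingCat.of k))) ⟶ W, w.left.base (IsLocalRing.closedPoint k) ∈ Z := by
  haveI : JacobsonSpace W.left := LocallyOfFiniteType.jacobsonSpace W.hom
  obtain ⟨z, hz, hzc⟩ := nonempty_inter_closedPoints hne hZ.isLocallyClosed
  obtain ⟨s, hs⟩ := Groth.Agent.GrpSchLib.exists_point_of_isClosed (k := k) (K := k) W hzc
  let e : 𝟙_ (Over (Spec (CommRingCat.of k))) ⟶ Over.mk (Spec.map (CommRingCat.ofHom (algebraMap k k))) :=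
    Over.homMk (𝟙 (Spec (CommRingCat.of k))) (by
      show 𝟙 _ ≫ Spec.map (CommRingCat.ofHom (algebraMap k k)) = 𝟙 _
      simp)
  refine ⟨e ≫ s, ?_⟩
  show s.left (IsLocalRing.closedPoint k) ∈ Z
  rw [hs]
  exact hz


/-- Let k be an algebraically closed field, G a group scheme locally of finite type over k, X a
geometrically reduced k-scheme locally of finite type, and f : X → G a k-morphism. Consider the
k-points g of G whose underlying point lies under a word in f: there are a k-scheme T, a point p of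
T, n ≥ 0, T-valued points x_1, …, x_n of X and signs such that the T-valued point f(x_1)^{±1} ⋯
f(x_n)^{±1} of G maps p to the point of g. These k-points form exactly the subgroup of G(k)
generated by the k-points of G whose underlying point lies in the image of f. (Words of length zero
are allowed here, so that the unit is on both sides when X is empty; for nonempty X this changes
nothing, while the published statement, with words of positive length only, fails for empty X.) -/
theorem result (k : Type u) [Field k] [IsAlgClosed k]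
    (G X : Over (Spec (CommRingCat.of k))) [GrpObj G] [LocallyOfFiniteType G.hom]
    [LocallyOfFiniteType X.hom] [GeometricallyReduced X.hom] (f : X ⟶ G) :
    {g : 𝟙_ (Over (Spec (CommRingCat.of k))) ⟶ G | ∃ (n : ℕ) (T : Over (Spec (CommRingCat.of k))) (p : T.left) (p₀ : (𝟙_ (Over (Spec (CommRingCat.of k)))).left)
        (x : Fin n → (T ⟶ X)) (ε : Fin n → Bool), ((List.ofFn fun j : Fin n => if ε j then x j ≫ f else (x j ≫ f)⁻¹).prod : T ⟶ G).left.base p = g.left.base p₀} =
      ((Subgroup.closure {g : 𝟙_ (Over (Spec (CommRingCat.of k))) ⟶ G | ∃ p₀ : (𝟙_ (Over (Spec (CommRingCat.of k)))).left, g.left.base p₀ ∈ Set.range f.left.base} :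
        Subgroup (𝟙_ (Over (Spec (CommRingCat.of k))) ⟶ G)) : Set (𝟙_ (Over (Spec (CommRingCat.of k))) ⟶ G)) := by
  haveI : Subsingleton (𝟙_ (Over (Spec (CommRingCat.of k)))).left :=
    inferInstanceAs (Subsingleton (PrimeSpectrum k))
  let c : (𝟙_ (Over (Spec (CommRingCat.of k)))).left := IsLocalRing.closedPoint k
  have hext : ∀ {Z : Over (Spec (CommRingCat.of k))} [LocallyOfFiniteType Z.hom]
      (a b : 𝟙_ (Over (Spec (CommRingCat.of k))) ⟶ Z), a.left.base c = b.left.base c → a = b := fun {Z} _ a b h =>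
    Over.OverMorphism.ext (ext_of_apply_closedPoint_eq Z.hom (Over.w a) (Over.w b) h)
  let A : Set (𝟙_ (Over (Spec (CommRingCat.of k))) ⟶ G) := {g | ∃ p₀, g.left.base p₀ ∈ Set.range f.left.base}
  have hA : ∀ g, g ∈ A ↔ ∃ x : 𝟙_ (Over (Spec (CommRingCat.of k))) ⟶ X, x ≫ f = g := by
    intro g
    constructor
    · rintro ⟨p₀, hp⟩
      rw [Subsingleton.elim p₀ c] at hp
      obtain ⟨x, hx⟩ := hp
      obtain ⟨y, hy⟩ := exists_pt X (Z := f.left.base ⁻¹' {g.left.base c})
        ((isClosed_pt g).preimage f.left.continuous) ⟨x, hx⟩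
      refine ⟨y, hext _ _ ?_⟩
      rw [Over.comp_left, Scheme.Hom.comp_apply]
      exact hy
    · rintro ⟨x, rfl⟩
      exact ⟨c, x.left.base c, by rw [Over.comp_left, Scheme.Hom.comp_apply]⟩
  ext g
  simp only [Set.mem_ofPred_eq, SetLike.mem_coe]
  constructor
  · rintro ⟨n, T, p, p₀, x, ε, hp⟩
    rw [Subsingleton.elim p₀ c] at hp
    obtain ⟨W, hW, y, hy⟩ := univTuple X n
    obtain ⟨φ, hφ⟩ := hy T x
    have hw : word f x ε = φ ≫ word f y ε := by
      rw [comp_word]
      congr 1
      funext j
      exact (hφ j).symm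
    obtain ⟨w, hwc⟩ := exists_pt W (Z := (word f y ε).left.base ⁻¹' {g.left.base c})
      ((isClosed_pt g).preimage (word f y ε).left.continuous) ⟨φ.left.base p, by
        rw [Set.mem_preimage, Set.mem_singleton_iff, ← hp]
        show _ = (word f x ε).left.base p
        rw [hw, Over.comp_left, Scheme.Hom.comp_apply]⟩
    have hg : g = word f (fun j => w ≫ y j) ε := by
      refine hext _ _ ?_
      rw [← comp_word, Over.comp_left, Scheme.Hom.comp_apply]
      exact hwc.symm
    rw [hg]
    refine Subgroup.list_prod_mem _ fun r hr => ?_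
    obtain ⟨j, rfl⟩ := List.mem_ofFn.mp hr
    have hm : (w ≫ y j) ≫ f ∈ A := (hA _).mpr ⟨_, rfl⟩
    dsimp only
    split_ifs
    · exact Subgroup.subset_closure hm
    · exact Subgroup.inv_mem _ (Subgroup.subset_closure hm)
  · intro hg
    suffices h : ∃ (n : ℕ) (x : Fin n → (𝟙_ (Over (Spec (CommRingCat.of k))) ⟶ X)) (ε : Fin n → Bool),
        word f x ε = g by
      obtain ⟨n, x, ε, rfl⟩ := h
      exact ⟨n, _, c, c, x, ε, rfl⟩
    induction hg using Subgroup.closure_induction with
    | mem g h =>
      obtain ⟨x, rfl⟩ := (hA g).mp h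
      exact ⟨1, fun _ => x, fun _ => true, by simp [word, List.ofFn_succ]⟩
    | one => exact ⟨0, Fin.elim0, Fin.elim0, by simp [word]⟩
    | mul g g' _ _ h h' =>
      obtain ⟨n, x, ε, rfl⟩ := h
      obtain ⟨m, x', ε', rfl⟩ := h'
      refine ⟨n + m, Fin.append x x', Fin.append ε ε', ?_⟩
      rw [← List.prod_append, ← List.ofFn_fin_append]
      unfold word
      congr 2
      funext j
      refine Fin.addCases (fun i => ?_) (fun i => ?_) j <;> simp [Fin.append_left, Fin.append_right]
    | inv g _ h =>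
      obtain ⟨n, x, ε, rfl⟩ := h
      refine ⟨n, x ∘ Fin.rev, fun i => !(ε (Fin.rev i)), ?_⟩
      unfold word
      rw [List.prod_inv_reverse, List.map_ofFn]
      congr 1
      apply List.ext_getElem
      · simp
      · intro i h1 h2
        simp only [List.getElem_ofFn, List.getElem_reverse, List.length_ofFn, Function.comp_apply]
        have hi : i < n := by simpa using h1
        have e : Fin.rev (⟨i, hi⟩ : Fin n) = ⟨n - 1 - i, by omega⟩ := Fin.ext (by simp [Fin.val_rev]; omega)
        rw [e]
        cases ε ⟨n - 1 - i, by omega⟩ <;> simp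

end Groth.Agent.S6075
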