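import Groth.Statements.S6076
import Groth.Agent.EGA41Lib.ConsX
import Groth.Agent.AlgSpPts.Sep

set_option autoImplicit false
universe u
open CategoryTheory CategoryTheory.Limits MonoidalCategory CartesianMonoidalCategory MonObj GrpObj AlgebraicGeometry
open SGA3

namespace Groth.Agent.S6076
open Groth.Agent.SpecLib Topology
set_option linter.style.haveILetI false

attribute [local instance] CategoryTheory.Hom.monoid CategoryTheory.Hom.group

noncomputable abbrev word {S : Scheme.{u}} {X H : Over S} [GrpObj H] (f : X ⟶ H) {T : Over S} {m : ℕ}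
    (x : Fin m → (T ⟶ X)) (ε : Fin m → Bool) : T ⟶ H :=
  (List.ofFn fun j : Fin m => if ε j then x j ≫ f else (x j ≫ f)⁻¹).prod

theorem comp_word {S : Scheme.{u}} {X H : Over S} [GrpObj H] (f : X ⟶ H) {T W : Over S} {m : ℕ}
    (φ : T ⟶ W) (x : Fin m → (W ⟶ X)) (ε : Fin m → Bool) :
    φ ≫ word f x ε = word f (fun j => φ ≫ x j) ε := by
  let ψ : (W ⟶ H) →* (T ⟶ H) :=
    { toFun := fun r => φ ≫ r
      map_one' := MonObj.comp_one φ
      map_mul' := fun a b => MonObj.comp_mul φ a b }
  change ψ _ = _
  rw [map_list_prod, List.map_ofFn]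
  congr 2
  funext j
  simp only [Function.comp_apply]
  split_ifs
  · exact (Category.assoc φ (x j) f).symm
  · rw [map_inv]
    exact congrArg (fun r : T ⟶ H => r⁻¹) (Category.assoc φ (x j) f).symm

theorem univTuple {S : Scheme.{u}} (X : Over S) [LocallyOfFinitePresentation X.hom] (m : ℕ) :
    ∃ (W : Over S) (_ : LocallyOfFinitePresentation W.hom) (y : Fin m → (W ⟶ X)),
      ∀ (T : Over S) (x : Fin m → (T ⟶ X)), ∃ φ : T ⟶ W, ∀ j, φ ≫ y j = x j := by
  induction m with
  | zero =>
    exact ⟨Over.mk (𝟙 S), (inferInstance : LocallyOfFinitePresentation (𝟙 S)), Fin.elim0,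
      fun T x => ⟨Over.homMk T.hom (by simp), fun j => j.elim0⟩⟩
  | succ m ih =>
    obtain ⟨W, hW, y, hy⟩ := ih
    haveI : LocallyOfFinitePresentation (X ⊗ W).hom := by
      rw [Over.tensorObj_hom]; infer_instance
    refine ⟨X ⊗ W, inferInstance, Fin.cons (fst X W) (fun j => snd X W ≫ y j), fun T x => ?_⟩
    obtain ⟨φ, hφ⟩ := hy T (fun j => x j.succ)
    refine ⟨lift (x 0) φ, fun j => ?_⟩
    refine Fin.cases ?_ (fun j => ?_) j
    · simp
    · simp [hφ]


/-- (iii) ⟹ (iv): let S be a scheme, X an S-scheme which is flat and locally of finite presentation over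
S, H an S-group scheme locally of finite presentation over S with reduced fibres and quasi-compact
underlying space, and f : X → H an S-morphism. Say that a point h of H lies under a word of length n
in f when there are an S-scheme T, a point p of T, T-valued points x_1, …, x_n of X and signs such
that the T-valued point f(x_1)^{±1} ⋯ f(x_n)^{±1} of H maps p to h. If every point of H lies under
some word in f, then there is a natural number n such that every point of H lies under a word of
length at most n. (The published statement concludes with words of one fixed length n and an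
fppf-covering word morphism; for the constant group of order two over a field and f the non-trivial
point, the points under words of length n alternate between the two points of H, so only the bound
on the length is stated here, and the covering assertion is not stated.) -/
theorem result (S : Scheme.{u}) (X H : Over S) [GrpObj H]
    [Flat X.hom] [LocallyOfFinitePresentation X.hom] [LocallyOfFinitePresentation H.hom]
    (hred : ∀ s : S, IsReduced (H.hom.fiber s)) [CompactSpace H.left] (f : X ⟶ H)
    (hsurj : ∀ h : H.left, ∃ (n : ℕ) (T : Over S) (p : T.left) (x : Fin n → (T ⟶ X)) (ε : Fin n → Bool),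
      ((List.ofFn fun j : Fin n => if ε j then x j ≫ f else (x j ≫ f)⁻¹).prod : T ⟶ H).left.base p = h) :
    ∃ n : ℕ, ∀ h : H.left, ∃ (m : ℕ) (_ : m ≤ n) (T : Over S) (p : T.left) (x : Fin m → (T ⟶ X)) (ε : Fin m → Bool),
      ((List.ofFn fun j : Fin m => if ε j then x j ≫ f else (x j ≫ f)⁻¹).prod : T ⟶ H).left.base p = h := by
  let P : ℕ → Set H.left := fun n => {h | ∃ (m : ℕ) (_ : m ≤ n) (T : Over S) (p : T.left) (x : Fin m → (T ⟶ X))
    (ε : Fin m → Bool), (word f x ε).left.base p = h}
  have hP : Monotone P := fun a b hab h ⟨m, hm, r⟩ => ⟨m, hm.trans hab, r⟩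
  have hcov : ∀ h, ∃ n, h ∈ P n := fun h => by
    obtain ⟨n, T, p, x, ε, hp⟩ := hsurj h
    exact ⟨n, n, le_rfl, T, p, x, ε, hp⟩
  have key : ∀ V : H.left.Opens, IsAffineOpen V → ∃ n, ∀ h ∈ V, h ∈ P n := by
    intro V hV
    haveI : IsAffine V.toScheme := hV
    let E : ℕ → Set V.toScheme := fun n => V.ι.base ⁻¹' P n
    have hE : ∀ n, CO (E n) := by
      intro n
      refine Groth.Agent.EGA41Lib.co_iff_sUnion.mpr
        ⟨{A | IsConstructible A ∧ A ⊆ E n}, fun A hA => hA.1, ?_⟩
      refine Set.Subset.antisymm (fun v hv => ?_) (Set.sUnion_subset fun A hA => hA.2)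
      obtain ⟨m, hm, T, p, x, ε, hp⟩ := hv
      obtain ⟨W, hW, y, hy⟩ := univTuple X m
      obtain ⟨φ, hφ⟩ := hy T x
      let w : W ⟶ H := word f y ε
      have hw : word f x ε = φ ≫ w := by
        simp only [w, comp_word]
        congr 1
        funext j
        exact (hφ j).symm
      have hqV : φ.left.base p ∈ w.left ⁻¹ᵁ V := by
        change w.left.base (φ.left.base p) ∈ V
        have : w.left.base (φ.left.base p) = V.ι.base v := by
          rw [← hp, hw]; rfl
        rw [this]; exact v.2
      obtain ⟨U, hU, hqU, hUV⟩ :=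
        exists_isAffineOpen_mem_and_subset (x := φ.left.base p) hqV
      haveI : IsAffine U.toScheme := hU
      haveI : LocallyOfFinitePresentation (w.left ≫ H.hom) := by rw [Over.w w]; exact hW
      haveI := Groth.Agent.AlgSpPts.locallyOfFinitePresentation_of_comp w.left H.hom
      let g : U.toScheme ⟶ V.toScheme := w.left.resLE V U hUV
      refine ⟨g '' Set.univ, ⟨g.isConstructible_image IsConstructible.univ, ?_⟩, ?_⟩
      · rintro _ ⟨u, -, rfl⟩
        refine ⟨m, hm, W, U.ι.base u, y, ε, ?_⟩
        exact (congrArg (fun r : U.toScheme ⟶ H.left => r.base u) (Scheme.Hom.resLE_comp_ι w.left hUV)).symm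
      · refine ⟨⟨φ.left.base p, hqU⟩, trivial, ?_⟩
        apply V.ι.injective
        refine (congrArg (fun r : U.toScheme ⟶ H.left => r.base ⟨φ.left.base p, hqU⟩)
          (Scheme.Hom.resLE_comp_ι w.left hUV)).trans ?_
        change w.left.base (φ.left.base p) = V.ι.base v
        rw [← hp, hw]; rfl
    have hu : CC (Set.univ : Set V.toScheme) :=
      @isClosed_univ V.toScheme (constructibleTopology V.toScheme)
    obtain ⟨n, hn⟩ := @IsCompact.elim_directed_cover V.toScheme
      (constructibleTopology V.toScheme) Set.univ ℕ _ hu.isCompact_cons E hE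
      (fun v _ => by
        obtain ⟨n, hn⟩ := hcov (V.ι.base v)
        exact Set.mem_iUnion.mpr ⟨n, hn⟩)
      (Monotone.directed_le fun a b hab v hv => hP hab hv)
    exact ⟨n, fun h hh => hn (Set.mem_univ (⟨h, hh⟩ : V.toScheme))⟩
  choose nV hnV using key
  choose V hV hxV _ using fun h : H.left =>
    exists_isAffineOpen_mem_and_subset (x := h) (U := ⊤) trivial
  obtain ⟨t, ht⟩ := (isCompact_univ (X := H.left)).elim_finite_subcover (fun h => (V h : Set H.left))
    (fun h => (V h).2) (fun h _ => Set.mem_iUnion.mpr ⟨h, hxV h⟩)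
  refine ⟨t.sup fun h => nV (V h) (hV h), fun h => ?_⟩
  obtain ⟨i, hi, hiV⟩ := Set.mem_iUnion₂.mp (ht (Set.mem_univ h))
  exact hP (Finset.le_sup (f := fun h => nV (V h) (hV h)) hi) (hnV (V i) (hV i) h hiV)

end Groth.Agent.S6076
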