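import Groth.Statements.S6077
import Groth.Agent.Deform.GenSub.Universal


set_option autoImplicit false
universe u
open CategoryTheory CategoryTheory.Limits MonoidalCategory CartesianMonoidalCategory MonObj GrpObj AlgebraicGeometry
open SGA3

namespace Groth.Agent.S6077
attribute [local instance] CategoryTheory.Hom.monoid CategoryTheory.Hom.group
set_option linter.style.haveILetI false
set_option linter.unusedSectionVars false

variable {k : Type u} [Field k] {G X H : Over (Spec (CommRingCat.of k))} [GrpObj G] (f : X ⟶ G)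

/-- Values of a word with prescribed length. -/
def Wset (n : ℕ) : Set G.left :=
  {g | ∃ (T : Over (Spec (CommRingCat.of k))) (p : T.left) (x : Fin n → (T ⟶ X)) (ε : Fin n → Bool),
    ((List.ofFn fun j : Fin n => if ε j then x j ≫ f else (x j ≫ f)⁻¹).prod : T ⟶ G).left p = g}

theorem comp_prod_ofFn {T T' : Over (Spec (CommRingCat.of k))} (q : T' ⟶ T) : ∀ (n : ℕ) (v : Fin n → (T ⟶ G)),
    q ≫ (List.ofFn v).prod = (List.ofFn fun j => q ≫ v j).prod
  | 0, v => by simp [MonObj.comp_one]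
  | n + 1, v => by
    rw [List.ofFn_succ, List.ofFn_succ, List.prod_cons, List.prod_cons, MonObj.comp_mul, comp_prod_ofFn q n]

theorem exists_repr : ∀ l : List Bool, ∃ (n : ℕ) (x : Fin n → (Deform.GenSub.wObj X l ⟶ X)) (ε : Fin n → Bool),
    (List.ofFn fun j => if ε j then x j ≫ f else (x j ≫ f)⁻¹).prod = Deform.GenSub.wMor f l
  | [] => ⟨0, Fin.elim0, Fin.elim0, by simp; rfl⟩
  | β :: l => by
    obtain ⟨n, x, ε, h⟩ := exists_repr l
    let q : Deform.GenSub.wObj X (β :: l) ⟶ Deform.GenSub.wObj X l := snd X _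
    let p : Deform.GenSub.wObj X (β :: l) ⟶ X := fst X _
    refine ⟨n + 1, Fin.cons p fun j => q ≫ x j, Fin.cons β ε, ?_⟩
    rw [List.ofFn_succ, List.prod_cons]
    simp only [Fin.cons_zero, Fin.cons_succ]
    have : (List.ofFn fun j => if ε j then (q ≫ x j) ≫ f else ((q ≫ x j) ≫ f)⁻¹).prod = q ≫ Deform.GenSub.wMor f l := by
      rw [← h, comp_prod_ofFn]
      congr 2
      funext j
      split <;> simp [GrpObj.comp_inv]
    rw [this]
    cases β with
    | true => simp only [if_true]; rfl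
    | false => simp only [Bool.false_eq_true, if_false]; rfl

theorem mem_Wset_of_range {l : List Bool} {g : G.left} (hg : g ∈ Set.range (Deform.GenSub.wMor f l).left) :
    ∃ n, g ∈ Wset f n := by
  obtain ⟨z, rfl⟩ := hg
  obtain ⟨n, x, ε, h⟩ := exists_repr f l
  exact ⟨n, _, z, x, ε, by rw [h]⟩

theorem Wset_subset {Γ : Over (Spec (CommRingCat.of k))} [GrpObj Γ] (i : Γ ⟶ G) [IsMonHom i] (f' : X ⟶ Γ)
    (hf : f' ≫ i = f) (n : ℕ) : Wset f n ⊆ Set.range i.left := by
  rintro _ ⟨T, p, x, ε, rfl⟩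
  let α : (T ⟶ Γ) →* (T ⟶ G) := MonoidHom.mk' (fun y => y ≫ i) fun a b => MonObj.mul_comp a b i
  have h : (List.ofFn fun j => if ε j then x j ≫ f else (x j ≫ f)⁻¹).prod =
      α (List.ofFn fun j => if ε j then x j ≫ f' else (x j ≫ f')⁻¹).prod := by
    rw [map_list_prod, List.map_ofFn]
    congr 2
    funext j
    simp only [Function.comp_apply]
    split <;> simp [α, ← hf, GrpObj.inv_comp]
  exact ⟨(List.ofFn fun j => if ε j then x j ≫ f' else (x j ≫ f')⁻¹).prod.left p, by rw [h]; rfl⟩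

theorem kpt_eq [LocallyOfFiniteType G.hom] (a : 𝟙_ (Over (Spec (CommRingCat.of k))) ⟶ G) {T : Over (Spec (CommRingCat.of k))}
    [IsReduced T.left] (t : T ⟶ G) (p₀ : (𝟙_ (Over (Spec (CommRingCat.of k)))).left) (h : ∀ r, t.left r = a.left p₀) :
    t = toUnit T ≫ a := by
  haveI : IsClosedImmersion a.left := isClosedImmersion_of_comp_eq_id G.hom a.left (Over.w a)
  obtain ⟨l, hl⟩ := Deform.Chev.exists_lift_range a t (by rintro _ ⟨r, rfl⟩; exact ⟨p₀, (h r).symm⟩)
  rw [← hl, toUnit_unique l (toUnit T)]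

variable [GrpObj H] (h : H ⟶ G)

/-- Left translation. -/
noncomputable abbrev Lt (a : 𝟙_ (Over (Spec (CommRingCat.of k))) ⟶ G) : G ⟶ G := (toUnit G ≫ a) * 𝟙 G

theorem Lt_eq (a : 𝟙_ (Over (Spec (CommRingCat.of k))) ⟶ G) : (λ_ G).inv ≫ (a ▷ G) ≫ μ[G] = Lt a := by
  rw [Lt, Hom.mul_def, ← Category.assoc]
  congr 1
  apply CartesianMonoidalCategory.hom_ext <;> simp

theorem comp_Lt {T : Over (Spec (CommRingCat.of k))} (a : 𝟙_ (Over (Spec (CommRingCat.of k))) ⟶ G) (t : T ⟶ G) :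
    t ≫ Lt a = (toUnit T ≫ a) * t := by
  rw [Lt, MonObj.comp_mul, Category.comp_id, comp_toUnit_assoc]

theorem isClosed_translate [IsClosedImmersion h.left] (a : 𝟙_ (Over (Spec (CommRingCat.of k))) ⟶ G) :
    IsClosed ((Lt a).left '' Set.range h.left) := by
  have e : ∀ b : 𝟙_ (Over (Spec (CommRingCat.of k))) ⟶ G, Lt b⁻¹ ≫ Lt b = 𝟙 G := fun b => by
    rw [comp_Lt, Lt, GrpObj.comp_inv, mul_inv_cancel_left]
  have e' : Lt a ≫ Lt a⁻¹ = 𝟙 G := by simpa using e a⁻¹
  let E : G ≅ G := ⟨Lt a, Lt a⁻¹, e', e a⟩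
  exact (Scheme.homeoOfIso ((Over.forget _).mapIso E)).isClosedMap _ h.left.isClosedEmbedding.isClosed_range

theorem mem_step [LocallyOfFiniteType G.hom] (hH : Set.range h.left ⊆ Set.range f.left)
    (a : 𝟙_ (Over (Spec (CommRingCat.of k))) ⟶ G) {n : ℕ} {p₀ : (𝟙_ (Over (Spec (CommRingCat.of k)))).left}
    (ha : a.left p₀ ∈ Wset f n) (z : H.left) : (Lt a).left (h.left z) ∈ Wset f (n + 1) := by
  obtain ⟨T, p, x, ε, hp⟩ := ha
  obtain ⟨x₀, hx₀⟩ := hH ⟨z, rfl⟩
  obtain ⟨q₀, hq₁, hq₂⟩ := Scheme.Pullback.exists_preimage_pullback x₀ z hx₀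
  let Q : Over (Spec (CommRingCat.of k)) := Over.mk (pullback.fst f.left h.left ≫ X.hom)
  let u : Q ⟶ X := Over.homMk (pullback.fst f.left h.left) rfl
  let v : Q ⟶ H := Over.homMk (pullback.snd f.left h.left)
    (by show _ ≫ H.hom = pullback.fst f.left h.left ≫ X.hom; rw [← Over.w h, ← pullback.condition_assoc, Over.w])
  have huv : u ≫ f = v ≫ h := Over.OverMorphism.ext pullback.condition
  obtain ⟨w, hw₁, hw₂⟩ := Scheme.Pullback.exists_preimage_pullback (f := T.hom) (g := Q.hom) p q₀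
    (Subsingleton.elim _ _)
  obtain ⟨T', t, r, hr, ht⟩ := Deform.GenSub.exists_point (T ⊗ Q) w
  haveI := hr
  let q : T' ⟶ T := t ≫ fst T Q
  let y : T' ⟶ Q := t ≫ snd T Q
  have hq : ∀ r', q.left r' = p := fun r' => by
    show (fst T Q).left (t.left r') = p
    rw [ht]; exact hw₁
  have hy : v.left (y.left r) = z := by
    show pullback.snd f.left h.left ((snd T Q).left (t.left r)) = z
    rw [ht]; exact (congrArg _ hw₂).trans hq₂
  have hprod : q ≫ (List.ofFn fun j => if ε j then x j ≫ f else (x j ≫ f)⁻¹).prod = toUnit T' ≫ a :=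
    kpt_eq a _ p₀ fun r' => by rw [Over.comp_left, Scheme.Hom.comp_apply, hq, hp]
  refine ⟨T', r, Fin.snoc (fun j => q ≫ x j) (y ≫ u), Fin.snoc ε true, ?_⟩
  rw [List.ofFn_succ', List.concat_eq_append, List.prod_append, List.prod_singleton]
  simp only [Fin.snoc_castSucc, Fin.snoc_last, if_true]
  have : (List.ofFn fun j => if ε j then (q ≫ x j) ≫ f else ((q ≫ x j) ≫ f)⁻¹).prod = toUnit T' ≫ a := by
    rw [← hprod, comp_prod_ofFn]
    congr 2
    funext j
    split <;> simp [GrpObj.comp_inv]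
  rw [this, Category.assoc, huv, ← comp_Lt]
  simp only [Over.comp_left, Scheme.Hom.comp_apply, hy]

theorem Wset_succ {n : ℕ} {x₁ : 𝟙_ (Over (Spec (CommRingCat.of k))) ⟶ X} (hx₁ : x₁ ≫ f = 1) :
    Wset f n ⊆ Wset f (n + 1) := by
  rintro _ ⟨T, p, x, ε, rfl⟩
  refine ⟨T, p, Fin.snoc x (toUnit T ≫ x₁), Fin.snoc ε true, ?_⟩
  rw [List.ofFn_succ', List.concat_eq_append, List.prod_append, List.prod_singleton]
  simp only [Fin.snoc_castSucc, Fin.snoc_last, if_true, Category.assoc, hx₁, MonObj.comp_one, _root_.mul_one]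

theorem exists_one [IsAlgClosed k] [LocallyOfFiniteType G.hom] [LocallyOfFiniteType X.hom] [IsMonHom h]
    (hH : Set.range h.left ⊆ Set.range f.left) : ∃ x₁ : 𝟙_ (Over (Spec (CommRingCat.of k))) ⟶ X, x₁ ≫ f = 1 := by
  obtain ⟨p₀⟩ : Nonempty (Spec (CommRingCat.of k)) := inferInstance
  let one : 𝟙_ (Over (Spec (CommRingCat.of k))) ⟶ G := 1
  haveI : IsClosedImmersion one.left := isClosedImmersion_of_comp_eq_id G.hom one.left (Over.w one)
  haveI : JacobsonSpace X.left := LocallyOfFiniteType.jacobsonSpace X.hom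
  have hne : (f.left ⁻¹' Set.range one.left).Nonempty := by
    obtain ⟨x₀, hx₀⟩ := hH ⟨(1 : 𝟙_ _ ⟶ H).left p₀, rfl⟩
    refine ⟨x₀, p₀, ?_⟩
    rw [hx₀, ← Scheme.Hom.comp_apply, ← Over.comp_left, MonObj.one_comp]
  obtain ⟨x, ⟨p, hp⟩, hxc⟩ := nonempty_inter_closedPoints hne
    (one.left.isClosedEmbedding.isClosed_range.preimage f.left.continuous).isLocallyClosed
  haveI : IsReduced (𝟙_ (Over (Spec (CommRingCat.of k)))).left := inferInstanceAs (IsReduced (Spec (CommRingCat.of k)))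
  let x₁ : 𝟙_ (Over (Spec (CommRingCat.of k))) ⟶ X := Over.homMk (pointOfClosedPoint X.hom x hxc) (pointOfClosedPoint_comp _ _ _)
  refine ⟨x₁, (kpt_eq one (x₁ ≫ f) p fun r => ?_).trans (MonObj.comp_one _)⟩
  rw [Over.comp_left, Scheme.Hom.comp_apply, hp]
  exact congrArg _ (pointOfClosedPoint_apply _ _ _ _)

theorem lft_wObj [LocallyOfFiniteType X.hom] : ∀ l, LocallyOfFiniteType (Deform.GenSub.wObj X l).hom
  | [] => inferInstanceAs (LocallyOfFiniteType (𝟙 (Spec (CommRingCat.of k))))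
  | _ :: l => by
    haveI := lft_wObj l
    show LocallyOfFiniteType (X ⊗ Deform.GenSub.wObj X l).hom
    rw [Over.tensorObj_hom]; infer_instance

theorem range_subset_translates [IsAlgClosed k] [LocallyOfFiniteType G.hom] [LocallyOfFiniteType X.hom]
    [IsClosedImmersion h.left] (F : Finset (𝟙_ (Over (Spec (CommRingCat.of k))) ⟶ G))
    (hF : ∀ g : 𝟙_ (Over (Spec (CommRingCat.of k))) ⟶ G, (∃ n p₀, g.left p₀ ∈ Wset f n) →
      ∃ a ∈ F, ∃ y : 𝟙_ (Over (Spec (CommRingCat.of k))) ⟶ H, g = a * (y ≫ h)) (l : List Bool) :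
    Set.range (Deform.GenSub.wMor f l).left ⊆ ⋃ a ∈ F, (Lt a).left '' Set.range h.left := by
  have hZ : IsClosed (⋃ a ∈ F, (Lt a).left '' Set.range h.left) :=
    isClosed_biUnion_finset fun a _ => isClosed_translate h a
  haveI := lft_wObj (X := X) l
  haveI : JacobsonSpace (Deform.GenSub.wObj X l).left := LocallyOfFiniteType.jacobsonSpace (Deform.GenSub.wObj X l).hom
  rw [Set.range_subset_iff]
  intro z
  refine (hZ.preimage (Deform.GenSub.wMor f l).left.continuous).closure_subset_iff.mpr (fun w hw => ?_)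
    (closure_closedPoints.ge (Set.mem_univ z))
  let ξ : 𝟙_ (Over (Spec (CommRingCat.of k))) ⟶ Deform.GenSub.wObj X l :=
    Over.homMk (pointOfClosedPoint _ w hw) (pointOfClosedPoint_comp _ _ _)
  obtain ⟨p₀⟩ : Nonempty (Spec (CommRingCat.of k)) := inferInstance
  have hξ : (ξ ≫ Deform.GenSub.wMor f l).left p₀ = (Deform.GenSub.wMor f l).left w := by
    rw [Over.comp_left, Scheme.Hom.comp_apply]
    exact congrArg _ (pointOfClosedPoint_apply _ _ _ _)
  obtain ⟨n, hn⟩ := mem_Wset_of_range f ⟨w, hξ.symm⟩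
  obtain ⟨a, ha, y, hy⟩ := hF _ ⟨n, p₀, hn⟩
  refine Set.mem_biUnion (Finset.mem_coe.mpr ha) ⟨h.left (y.left p₀), ⟨_, rfl⟩, ?_⟩
  rw [← hξ, hy, show a * (y ≫ h) = (y ≫ h) ≫ Lt a by rw [comp_Lt, toUnit_unique (toUnit _) (𝟙 _), Category.id_comp]]
  simp only [Over.comp_left, Scheme.Hom.comp_apply]

/-- Let k be an algebraically closed field, G a group scheme locally of finite type over k, X a
geometrically reduced k-scheme locally of finite type, f : X → G a k-morphism, and h : H → G a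
closed subgroup scheme whose underlying set is contained in the image of f. Let i : Γ → G be the
smallest closed subgroup scheme of G through which f factors. Say that a point of G lies under a
word of length n in f when there are a k-scheme T, a point p of T, T-valued points x_1, …, x_n of X
and signs such that f(x_1)^{±1} ⋯ f(x_n)^{±1} maps p to it; let Γ'₀ be the set of k-points of G
whose point lies under some word (of any length n ≥ 0). Suppose that Γ'₀ is covered by finitely many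
left translates a · H(k) of the image of H(k) in G(k), with the a in Γ'₀ (H(k) has finite index in
Γ'₀). Then there is m such that the underlying set of Γ is the set of points of G lying under a word
of length m, and there are finitely many k-points a_1, …, a_r of G such that the underlying set of Γ
is the union of the left translates a_j · H of the underlying set of H. -/
theorem result (k : Type u) [Field k] [IsAlgClosed k]
    (G X H : Over (Spec (CommRingCat.of k))) [GrpObj G] [GrpObj H] [LocallyOfFiniteType G.hom]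
    [LocallyOfFiniteType X.hom] [GeometricallyReduced X.hom] (f : X ⟶ G)
    (h : H ⟶ G) [IsMonHom h] [IsClosedImmersion h.left] (hH : Set.range h.left.base ⊆ Set.range f.left.base)
    (Γ : Over (Spec (CommRingCat.of k))) [GrpObj Γ] (i : Γ ⟶ G) [IsMonHom i] [IsClosedImmersion i.left]
    (hf : ∃ f' : X ⟶ Γ, f' ≫ i = f)
    (hmin : ∀ (Γ' : Over (Spec (CommRingCat.of k))) (_ : GrpObj Γ') (i' : Γ' ⟶ G), IsMonHom i' → IsClosedImmersion i'.left →
        (∃ f'' : X ⟶ Γ', f'' ≫ i' = f) → ∃ j : Γ ⟶ Γ', j ≫ i' = i)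
    (hfin : ∃ F : Finset (𝟙_ (Over (Spec (CommRingCat.of k))) ⟶ G),
      (∀ a ∈ F, ∃ (n : ℕ) (T : Over (Spec (CommRingCat.of k))) (p : T.left) (p₀ : (𝟙_ (Over (Spec (CommRingCat.of k)))).left) (x : Fin n → (T ⟶ X)) (ε : Fin n → Bool),
        ((List.ofFn fun j : Fin n => if ε j then x j ≫ f else (x j ≫ f)⁻¹).prod : T ⟶ G).left.base p = a.left.base p₀) ∧
      ∀ g : 𝟙_ (Over (Spec (CommRingCat.of k))) ⟶ G, (∃ (n : ℕ) (T : Over (Spec (CommRingCat.of k))) (p : T.left) (p₀ : (𝟙_ (Over (Spec (CommRingCat.of k)))).left) (x : Fin n → (T ⟶ X)) (ε : Fin n → Bool),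
        ((List.ofFn fun j : Fin n => if ε j then x j ≫ f else (x j ≫ f)⁻¹).prod : T ⟶ G).left.base p = g.left.base p₀) →
        ∃ a ∈ F, ∃ y : 𝟙_ (Over (Spec (CommRingCat.of k))) ⟶ H, g = a * (y ≫ h)) :
    (∃ m : ℕ, Set.range i.left.base =
      {g : G.left | ∃ (T : Over (Spec (CommRingCat.of k))) (p : T.left) (x : Fin m → (T ⟶ X)) (ε : Fin m → Bool),
        ((List.ofFn fun j : Fin m => if ε j then x j ≫ f else (x j ≫ f)⁻¹).prod : T ⟶ G).left.base p = g}) ∧
    ∃ F : Finset (𝟙_ (Over (Spec (CommRingCat.of k))) ⟶ G), Set.range i.left.base =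
      ⋃ a ∈ F, (fun z => ((λ_ G).inv ≫ (a ▷ G) ≫ μ[G]).left.base z) '' Set.range h.left.base := by
  obtain ⟨F, hFa, hFc⟩ := hfin
  obtain ⟨f', hf'⟩ := hf
  obtain ⟨x₁, hx₁⟩ := exists_one f h hH
  have hFa' : ∀ a ∈ F, ∃ n p₀, a.left p₀ ∈ Wset f n := fun a ha => by
    obtain ⟨n, T, p, p₀, x, ε, e⟩ := hFa a ha
    exact ⟨n, p₀, T, p, x, ε, e⟩
  have hFc' : ∀ g : 𝟙_ (Over (Spec (CommRingCat.of k))) ⟶ G, (∃ n p₀, g.left p₀ ∈ Wset f n) →
      ∃ a ∈ F, ∃ y : 𝟙_ (Over (Spec (CommRingCat.of k))) ⟶ H, g = a * (y ≫ h) :=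
    fun g ⟨n, p₀, T, p, x, ε, e⟩ => hFc g ⟨n, T, p, p₀, x, ε, e⟩
  choose! N P hN using hFa'
  let m := F.sup N + 1
  let Z : Set G.left := ⋃ a ∈ F, (Lt a).left '' Set.range h.left
  have hmono : Monotone fun n => Wset f n := monotone_nat_of_le_succ fun n => Wset_succ f hx₁
  have hZW : Z ⊆ Wset f m := by
    refine Set.iUnion₂_subset fun a ha => ?_
    rintro _ ⟨_, ⟨z, rfl⟩, rfl⟩
    exact hmono (Nat.succ_le_succ (Finset.le_sup ha)) (mem_step f h hH a (hN a ha) z)
  obtain ⟨Γ₀, _, i₀, hi₀, hc₀, hfac₀, -, hrange, -⟩ := Deform.GenSub.exists_generated_closed f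
  obtain ⟨b, hb⟩ := hmin Γ₀ _ i₀ hi₀ hc₀ hfac₀
  have hΓZ : Set.range i.left ⊆ Z := by
    refine (Set.Subset.trans ?_ hrange.le).trans (closure_minimal
      (Set.iUnion_subset (range_subset_translates f h F hFc'))
      (isClosed_biUnion_finset fun a _ => isClosed_translate h a))
    rintro _ ⟨z, rfl⟩
    exact ⟨b.left z, by rw [← Scheme.Hom.comp_apply, ← Over.comp_left, hb]⟩
  have hWΓ : Wset f m ⊆ Set.range i.left := Wset_subset f i f' hf' m
  refine ⟨⟨m, (hΓZ.trans hZW).antisymm hWΓ⟩, F, ?_⟩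
  refine (hΓZ.antisymm (hZW.trans hWΓ)).trans ?_
  refine Set.iUnion_congr fun a => Set.iUnion_congr fun _ => ?_
  rw [Lt_eq]

end Groth.Agent.S6077
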