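import Groth.Statements.S6078
import Groth.Agent.Deform.GenSub.SpreadComm
import Groth.Agent.Deform.GenSub.SpreadDerived

set_option autoImplicit false
universe u
open CategoryTheory CategoryTheory.Limits MonoidalCategory CartesianMonoidalCategory MonObj GrpObj AlgebraicGeometry
open SGA3

namespace Groth.Agent.S6078
attribute [local instance] CategoryTheory.Hom.monoid CategoryTheory.Hom.group
set_option linter.style.haveILetI false
/-- Case (G, H) = H: let S be an integral scheme with generic point η, G an S-group scheme and h : H → G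
a normal subgroup scheme of G, with G and H of finite presentation over S and with smooth generic
fibres G_η, H_η. Suppose that (G_η, H_η) = H_η: the subgroup H_η is contained in every closed
subgroup scheme of G_η through which the morphism G_η ×_{κ(η)} H_η → G_η, (g, x) ↦ g h(x) g⁻¹
h(x)⁻¹, factors (H_η itself is such a subgroup since H is normal). Then there is a nonempty open
subset U of S such that for every s ∈ U the same holds on the fibre at s: H_s is contained in every
closed subgroup scheme of G_s through which G_s ×_{κ(s)} H_s → G_s, (g, x) ↦ g h(x) g⁻¹ h(x)⁻¹,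
factors. -/
theorem result (S : Scheme.{u}) [IsIntegral S] (G H : Over S) [GrpObj G] [GrpObj H]
    [LocallyOfFinitePresentation G.hom] [QuasiCompact G.hom] [QuasiSeparated G.hom]
    [LocallyOfFinitePresentation H.hom] [QuasiCompact H.hom] [QuasiSeparated H.hom]
    (h : H ⟶ G) [IsMonHom h] [IsImmersion h.left] (hN : AlgGrp.IsNormalHom h)
    (hsmG : Smooth (Red.bc (S.fromSpecResidueField (genericPoint S)) G).hom) (hsmH : Smooth (Red.bc (S.fromSpecResidueField (genericPoint S)) H).hom)
    (hgen : (∀ (K : Over (Spec (S.residueField (genericPoint S)))) (_ : GrpObj K) (j : K ⟶ (Red.bc (S.fromSpecResidueField (genericPoint S)) G)), IsMonHom j → IsClosedImmersion j.left →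
        (∃ c : (Red.bc (S.fromSpecResidueField (genericPoint S)) G) ⊗ (Red.bc (S.fromSpecResidueField (genericPoint S)) H) ⟶ K, c ≫ j = (((fst (Red.bc (S.fromSpecResidueField (genericPoint S)) G) (Red.bc (S.fromSpecResidueField (genericPoint S)) H)) * ((snd (Red.bc (S.fromSpecResidueField (genericPoint S)) G) (Red.bc (S.fromSpecResidueField (genericPoint S)) H)) ≫ ((Over.pullback (S.fromSpecResidueField (genericPoint S))).map h)) * (fst (Red.bc (S.fromSpecResidueField (genericPoint S)) G) (Red.bc (S.fromSpecResidueField (genericPoint S)) H))⁻¹ * ((snd (Red.bc (S.fromSpecResidueField (genericPoint S)) G) (Red.bc (S.fromSpecResidueField (genericPoint S)) H)) ≫ ((Over.pullback (S.fromSpecResidueField (genericPoint S))).map h))⁻¹ : (Red.bc (S.fromSpecResidueField (genericPoint S)) G) ⊗ (Red.bc (S.fromSpecResidueField (genericPoint S)) H) ⟶ (Red.bc (S.fromSpecResidueField (genericPoint S)) G)))) → ∃ m : (Red.bc (S.fromSpecResidueField (genericPoint S)) H) ⟶ K, m ≫ j = ((Over.pullback (S.fromSpecResidueField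 (genericPoint S))).map h))) :
    ∃ U : S.Opens, (U : Set S).Nonempty ∧ ∀ s : U,
      (∀ (K : Over (Spec (S.residueField (s : S)))) (_ : GrpObj K) (j : K ⟶ (Red.bc (S.fromSpecResidueField (s : S)) G)), IsMonHom j → IsClosedImmersion j.left →
        (∃ c : (Red.bc (S.fromSpecResidueField (s : S)) G) ⊗ (Red.bc (S.fromSpecResidueField (s : S)) H) ⟶ K, c ≫ j = (((fst (Red.bc (S.fromSpecResidueField (s : S)) G) (Red.bc (S.fromSpecResidueField (s : S)) H)) * ((snd (Red.bc (S.fromSpecResidueField (s : S)) G) (Red.bc (S.fromSpecResidueField (s : S)) H)) ≫ ((Over.pullback (S.fromSpecResidueField (s : S))).map h)) * (fst (Red.bc (S.fromSpecResidueField (s : S)) G) (Red.bc (S.fromSpecResidueField (s : S)) H))⁻¹ * ((snd (Red.bc (S.fromSpecResidueField (s : S)) G) (Red.bc (S.fromSpecResidueField (s : S)) H)) ≫ ((Over.pullback (S.fromSpecResidueField (s : S))).map h))⁻¹ : (Red.bc (S.fromSpecResidueField (s : S)) G) ⊗ (Red.bc (S.fromSpecResidueField (s : S)) H) ⟶ (Red.bc (S.fromSpecResidueField (s : S)) G))))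 → ∃ m : (Red.bc (S.fromSpecResidueField (s : S)) H) ⟶ K, m ≫ j = ((Over.pullback (S.fromSpecResidueField (s : S))).map h)) := by
  open Deform.GenSub.Spread in
  let ξ := genericPoint S
  let K := AlgebraicClosure (S.residueField ξ)
  let σ : Spec (CommRingCat.of K) ⟶ Spec (CommRingCat.of ↑(S.residueField ξ)) :=
    Spec.map (CommRingCat.ofHom (algebraMap (S.residueField ξ) K))
  let F := Over.pullback (gι ξ)
  haveI : LocallyOfFiniteType (Red.bc (gι ξ) G).hom := MorphismProperty.pullback_snd G.hom (gι ξ) inferInstance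
  haveI : Smooth (Red.bc (gι ξ) G).hom := hsmG
  haveI : Smooth (Red.bc (gι ξ) H).hom := hsmH
  haveI : IsMonHom (F.map (𝟙 G)) := by rw [CategoryTheory.Functor.map_id]; infer_instance
  haveI : IsClosedImmersion (F.map (𝟙 G)).left := by rw [CategoryTheory.Functor.map_id, Over.id_left]; infer_instance
  haveI : IsImmersion (F.map h).left := MorphismProperty.overPullbackMap (P := @IsImmersion) (gι ξ) h inferInstance
  haveI : IsClosedImmersion (F.map h).left := S0351.result _ _ _ _
  obtain ⟨N, D₀, d₀, hd, -, -, hD, ⟨I, iI, i, hi, hic, -, ⟨c, hc⟩, φ, hφ⟩, U₀, hU₀, -, hsurj⟩ :=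
    exists_data σ (𝟙 G) h (.inl ⟨normal_map (gι ξ) _ (isNormalHom_of_isIso _), normal_map (gι ξ) h hN⟩)
  haveI := hd
  obtain ⟨UH, hUH, hH⟩ := exists_smooth H.hom hsmH
  -- the normal subgroup lies in the spreading of the commutator subgroup
  have hid : F.map (𝟙 G) = 𝟙 _ := CategoryTheory.Functor.map_id _ _
  obtain ⟨m, hm⟩ := hgen I iI i hi hic ⟨c, by rw [hc, hid]; simp only [cm, Category.comp_id]; rfl⟩
  haveI : Smooth (pullback.snd H.hom UH.ι) := hH
  haveI : Smooth (Red.bc UH.ι H).hom := hH
  obtain ⟨l, hl⟩ := exists_lift_pts σ d₀ (Red.bc UH.ι H) ((Over.pullback UH.ι).map h) (by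
    intro x
    let x' : geomS σ ⟶ H := x ≫ (Over.mapPullbackAdj UH.ι).counit.app H
    have e : ((Over.mapPullbackAdj UH.ι).homEquiv _ G).symm ((Over.pullback UH.ι).map h) =
        (Over.mapPullbackAdj UH.ι).counit.app H ≫ h := by
      rw [Adjunction.homEquiv_counit, Adjunction.counit_naturality]
    refine ⟨((Over.mapPullbackAdj (gι ξ)).homEquiv _ D₀).symm ((Over.mapPullbackAdj (gι ξ)).homEquiv _ H x' ≫ m ≫ φ.inv), ?_⟩
    refine Eq.trans ?_ (((congrArg (x ≫ ·) e).trans (Category.assoc _ _ _).symm).symm : x' ≫ h = _)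
    show ((Over.mapPullbackAdj (gι ξ)).homEquiv _ D₀).symm _ ≫ d₀ = x' ≫ h
    rw [← Adjunction.homEquiv_naturality_right_symm, Category.assoc, Category.assoc, ← hφ, Iso.inv_hom_id_assoc, hm]
    exact (congrArg _ ((Over.mapPullbackAdj (gι ξ)).homEquiv_naturality_right x' h).symm).trans
      (Equiv.symm_apply_apply _ _))
  refine ⟨U₀ ⊓ UH, ⟨ξ, hU₀, hUH⟩, fun s Γ iΓ j hj hjc hf => ?_⟩
  haveI := hj; haveI := hjc
  obtain ⟨c', hc'⟩ := hf
  let Fs := Over.pullback (gι (s : S))
  haveI : Smooth (Red.bc (gι (s : S)) H).hom := by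
    obtain ⟨z, hz⟩ : (s : S) ∈ Set.range UH.ι := UH.range_ι.ge s.2.2
    have e : Spec.map (UH.ι.residueFieldMap z) ≫ S.fromSpecResidueField (UH.ι z) =
        (UH : Scheme.{u}).fromSpecResidueField z ≫ UH.ι := Scheme.Hom.SpecMap_residueFieldMap_fromSpecResidueField _ _
    haveI : IsIso (Spec.map (UH.ι.residueFieldMap z)) := inferInstance
    show Smooth (pullback.snd H.hom (S.fromSpecResidueField (s : S)))
    rw [← hz, show S.fromSpecResidueField (UH.ι z) = inv (Spec.map (UH.ι.residueFieldMap z)) ≫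
      (UH : Scheme.{u}).fromSpecResidueField z ≫ UH.ι by rw [← e, IsIso.inv_hom_id_assoc], ← Category.assoc]
    have hsq := (IsPullback.of_hasPullback (pullback.snd H.hom UH.ι)
      (inv (Spec.map (UH.ι.residueFieldMap z)) ≫ (UH : Scheme.{u}).fromSpecResidueField z)).paste_horiz
      (IsPullback.of_hasPullback H.hom UH.ι)
    rw [← hsq.isoPullback_inv_snd]
    infer_instance
  haveI : IsReduced (Red.bc (gι (s : S)) H).left :=
    DescLib.isReduced_of_smooth_of_isReduced (Red.bc (gι (s : S)) H).hom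
  have hr := range_sub_words (gι (s : S)) (𝟙 G) h h (Deform.GenSub.alt N) fun q ⟨z, hz⟩ => by
    have hq : H.hom q ∈ U₀ ⊓ UH := by
      rw [← hz, show gι (s : S) z = s.1 from Scheme.fromSpecResidueField_apply _ z]; exact s.2
    obtain ⟨q', hq'₁, -⟩ := Scheme.Pullback.exists_preimage_pullback (f := H.hom) (g := UH.ι) q ⟨_, hq.2⟩ rfl
    let A : D₀.left := pullback.fst D₀.hom UH.ι (l.left q')
    have hA : d₀.left A = h.left q := by
      have e₁ : ((Over.pullback UH.ι).map d₀).left ≫ pullback.fst G.hom UH.ι = pullback.fst D₀.hom UH.ι ≫ d₀.left :=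
        pullback.lift_fst _ _ _
      have e₂ : ((Over.pullback UH.ι).map h).left ≫ pullback.fst G.hom UH.ι = pullback.fst H.hom UH.ι ≫ h.left :=
        pullback.lift_fst _ _ _
      calc d₀.left A = (pullback.fst D₀.hom UH.ι ≫ d₀.left) (l.left q') := rfl
        _ = (((Over.pullback UH.ι).map d₀).left ≫ pullback.fst G.hom UH.ι) (l.left q') := by rw [e₁]
        _ = pullback.fst G.hom UH.ι ((l ≫ (Over.pullback UH.ι).map d₀).left q') := rfl
        _ = (((Over.pullback UH.ι).map h).left ≫ pullback.fst G.hom UH.ι) q' := by rw [hl]; rfl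
        _ = h.left (pullback.fst H.hom UH.ι q') := by rw [e₂]; rfl
        _ = h.left q := by rw [hq'₁]
    rw [← hA]
    refine hsurj A ?_
    rw [← Over.w d₀, Scheme.Hom.comp_apply, hA, ← Scheme.Hom.comp_apply, Over.w h]
    exact hq.1
  refine Deform.Chev.exists_lift_range j _ (hr.trans ?_)
  have hc'' : cm (Fs.map (𝟙 G)) (Fs.map h) = c' ≫ j := by
    rw [hc', CategoryTheory.Functor.map_id]
    simp only [cm, Category.comp_id]
    rfl
  rw [hc'', ← Deform.GenSub.wMor_comp j c']
  rintro _ ⟨z, rfl⟩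
  exact ⟨(Deform.GenSub.wMor c' (Deform.GenSub.alt N)).left z, rfl⟩

end Groth.Agent.S6078
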