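import Groth.Statements.S6079
import Groth.Agent.Deform.GenSub.SpreadComm
import Groth.Agent.S0420

set_option autoImplicit false
universe u
open CategoryTheory CategoryTheory.Limits MonoidalCategory CartesianMonoidalCategory MonObj GrpObj AlgebraicGeometry
open SGA3

namespace Groth.Agent.S6079
attribute [local instance] CategoryTheory.Hom.monoid CategoryTheory.Hom.group
set_option linter.style.haveILetI false

open Deform.GenSub.Spread in
theorem geometricallyConnected_of_connected {k : Type u} [Field k] (A : Over (Spec (CommRingCat.of k))) [GrpObj A]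
    [ConnectedSpace A.left] : GeometricallyConnected A.hom := by
  refine ⟨geometrically_iff_of_isClosedUnderIsomorphisms.mpr fun L _ y => ?_⟩
  obtain ⟨φ, hφ⟩ := Spec.map_surjective y
  haveI := GrpSchLib.AntiAffine.connectedSpace_bc A φ.hom
  show ConnectedSpace ↥(Red.bc y A).left
  rw [← hφ]
  exact this
/-- Existence of D' and its fibres: let S be an integral scheme with generic point η, G an S-group
scheme of finite presentation over S, and a : A → G, b : B → G two subgroup schemes of G
(homomorphisms which are immersions) of finite presentation over S whose generic fibres A_η, B_η are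
smooth. Suppose that either (a) A_η is connected, or (b) A and B are normal in G. Then there are a
nonempty open subset U of S and a closed subgroup scheme d : D → G|_U, of finite presentation over U
with smooth fibres, having connected fibres in case (a) and normal in G|_U in case (b), such that
for every s ∈ U the fibre D_s → G_s is the commutator subgroup scheme (A_s, B_s): the smallest
closed subgroup scheme of G_s through which A_s ×_{κ(s)} B_s → G_s, (x, y) ↦ a(x) b(y) a(x)⁻¹
b(y)⁻¹, factors. (The published statement also asserts that D represents the fppf sheaf associated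
to the presheaf of commutator subgroups of A|_U and B|_U in G|_U; that assertion is not stated
here.) -/
theorem result (S : Scheme.{u}) [IsIntegral S] (G A B : Over S) [GrpObj G] [GrpObj A] [GrpObj B]
    [LocallyOfFinitePresentation G.hom] [QuasiCompact G.hom] [QuasiSeparated G.hom]
    [LocallyOfFinitePresentation A.hom] [QuasiCompact A.hom] [QuasiSeparated A.hom]
    [LocallyOfFinitePresentation B.hom] [QuasiCompact B.hom] [QuasiSeparated B.hom]
    (a : A ⟶ G) [IsMonHom a] [IsImmersion a.left] (b : B ⟶ G) [IsMonHom b] [IsImmersion b.left]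
    (hsmA : Smooth (Red.bc (S.fromSpecResidueField (genericPoint S)) A).hom) (hsmB : Smooth (Red.bc (S.fromSpecResidueField (genericPoint S)) B).hom)
    (hcase : ConnectedSpace (Red.bc (S.fromSpecResidueField (genericPoint S)) A).left ∨ (AlgGrp.IsNormalHom a ∧ AlgGrp.IsNormalHom b)) :
    ∃ U : S.Opens, (U : Set S).Nonempty ∧
      ∃ (D : Over (U : Scheme.{u})) (_ : GrpObj D) (d : D ⟶ (Red.bc U.ι G)), IsMonHom d ∧ IsClosedImmersion d.left ∧
        LocallyOfFinitePresentation D.hom ∧ QuasiCompact D.hom ∧ QuasiSeparated D.hom ∧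
        (∀ s : (U : Scheme.{u}), Smooth (D.hom.fiberToSpecResidueField s)) ∧
        (ConnectedSpace (Red.bc (S.fromSpecResidueField (genericPoint S)) A).left → ∀ s : (U : Scheme.{u}), ConnectedSpace (D.hom.fiber s)) ∧
        (AlgGrp.IsNormalHom a ∧ AlgGrp.IsNormalHom b → AlgGrp.IsNormalHom d) ∧
        ∀ s : (U : Scheme.{u}),
          (∃ c : (Red.bc ((U : Scheme.{u}).fromSpecResidueField s) (Red.bc U.ι A)) ⊗ (Red.bc ((U : Scheme.{u}).fromSpecResidueField s) (Red.bc U.ι B)) ⟶ (Red.bc ((U : Scheme.{u}).fromSpecResidueField s) D), c ≫ ((Over.pullback ((U : Scheme.{u}).fromSpecResidueField s)).map d) = (((fst (Red.bc ((U : Scheme.{u}).fromSpecResidueField s) (Red.bc U.ι A)) (Red.bc ((U : Scheme.{u}).fromSpecResidueField s) (Red.bc U.ι B))) ≫ ((Over.pullback ((U : Scheme.{u}).fromSpecResidueField s)).map ((Over.pullback U.ι).map a))) * ((snd (Red.bc ((U : Scheme.{u}).fromSpecResidueField s) (Red.bc U.ι A)) (Red.bc ((U : Scheme.{u}).fromSpecResidueField s) (Red.bc U.ι B))) ≫ ((Over.pullback ((U : Scheme.{u}).fromSpecResidueField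 s)).map ((Over.pullback U.ι).map b))) * ((fst (Red.bc ((U : Scheme.{u}).fromSpecResidueField s) (Red.bc U.ι A)) (Red.bc ((U : Scheme.{u}).fromSpecResidueField s) (Red.bc U.ι B))) ≫ ((Over.pullback ((U : Scheme.{u}).fromSpecResidueField s)).map ((Over.pullback U.ι).map a)))⁻¹ * ((snd (Red.bc ((U : Scheme.{u}).fromSpecResidueField s) (Red.bc U.ι A)) (Red.bc ((U : Scheme.{u}).fromSpecResidueField s) (Red.bc U.ι B))) ≫ ((Over.pullback ((U : Scheme.{u}).fromSpecResidueField s)).map ((Over.pullback U.ι).map b)))⁻¹)) ∧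
          ∀ (Γ' : Over (Spec ((U : Scheme.{u}).residueField s))) (_ : GrpObj Γ') (i' : Γ' ⟶ (Red.bc ((U : Scheme.{u}).fromSpecResidueField s) (Red.bc U.ι G))), IsMonHom i' → IsClosedImmersion i'.left →
            (∃ c' : (Red.bc ((U : Scheme.{u}).fromSpecResidueField s) (Red.bc U.ι A)) ⊗ (Red.bc ((U : Scheme.{u}).fromSpecResidueField s) (Red.bc U.ι B)) ⟶ Γ', c' ≫ i' = (((fst (Red.bc ((U : Scheme.{u}).fromSpecResidueField s) (Red.bc U.ι A)) (Red.bc ((U : Scheme.{u}).fromSpecResidueField s) (Red.bc U.ι B))) ≫ ((Over.pullback ((U : Scheme.{u}).fromSpecResidueField s)).map ((Over.pullback U.ι).map a))) * ((snd (Red.bc ((U : Scheme.{u}).fromSpecResidueField s) (Red.bc U.ι A)) (Red.bc ((U : Scheme.{u}).fromSpecResidueField s) (Red.bc U.ι B))) ≫ ((Over.pullback ((U : Scheme.{u}).fromSpecResidueField s)).map ((Over.pullback U.ι).map b))) * ((fst (Red.bc ((U : Scheme.{u}).fromSpecResidueField s) (Red.bc U.ι A)) (Red.bc ((U : Scheme.{u}).fromSpecResidueField s) (Red.bc U.ι B))) ≫ ((Over.pullback ((U : Scheme.{u}).fromSpecResidueField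 s)).map ((Over.pullback U.ι).map a)))⁻¹ * ((snd (Red.bc ((U : Scheme.{u}).fromSpecResidueField s) (Red.bc U.ι A)) (Red.bc ((U : Scheme.{u}).fromSpecResidueField s) (Red.bc U.ι B))) ≫ ((Over.pullback ((U : Scheme.{u}).fromSpecResidueField s)).map ((Over.pullback U.ι).map b)))⁻¹)) → ∃ j : (Red.bc ((U : Scheme.{u}).fromSpecResidueField s) D) ⟶ Γ', j ≫ i' = ((Over.pullback ((U : Scheme.{u}).fromSpecResidueField s)).map d) := by
  open Deform.GenSub.Spread in
  let ξ := genericPoint S
  let K := AlgebraicClosure (S.residueField ξ)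
  let σ : Spec (CommRingCat.of K) ⟶ Spec (CommRingCat.of ↑(S.residueField ξ)) :=
    Spec.map (CommRingCat.ofHom (algebraMap (S.residueField ξ) K))
  haveI : Smooth (Red.bc (gι ξ) A).hom := hsmA
  haveI : Smooth (Red.bc (gι ξ) B).hom := hsmB
  haveI : LocallyOfFiniteType (Red.bc (gι ξ) G).hom := MorphismProperty.pullback_snd G.hom (gι ξ) inferInstance
  haveI : IsImmersion ((Over.pullback (gι ξ)).map a).left :=
    MorphismProperty.overPullbackMap (P := @IsImmersion) (gι ξ) a inferInstance
  haveI : IsImmersion ((Over.pullback (gι ξ)).map b).left :=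
    MorphismProperty.overPullbackMap (P := @IsImmersion) (gι ξ) b inferInstance
  haveI : IsMonHom ((Over.pullback (gι ξ)).map a) := inferInstance
  haveI : IsMonHom ((Over.pullback (gι ξ)).map b) := inferInstance
  haveI : IsClosedImmersion ((Over.pullback (gι ξ)).map a).left := S0351.result _ _ _ _
  haveI : IsClosedImmersion ((Over.pullback (gι ξ)).map b).left := S0351.result _ _ _ _
  obtain ⟨N, D₀, d₀, hd, -, hqc, hD, -, U₀, hU₀, hsmD, hsurj⟩ := exists_data σ a b
    (hcase.symm.imp (fun h => ⟨normal_map (gι ξ) a h.1, normal_map (gι ξ) b h.2⟩) id)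
  haveI := hd; haveI := hqc
  obtain ⟨UA, hUA, hA⟩ := exists_smooth A.hom hsmA
  obtain ⟨UB, hUB, hB⟩ := exists_smooth B.hom hsmB
  obtain ⟨UC, hUC, hC⟩ : ∃ UC : S.Opens, ξ ∈ UC ∧ (ConnectedSpace (Red.bc (gι ξ) A).left →
      GeometricallyConnected (pullback.snd A.hom UC.ι)) := by
    by_cases h : ConnectedSpace (Red.bc (gι ξ) A).left
    · obtain ⟨V, hV, hVc⟩ := S0420.result A.hom (geometricallyConnected_of_connected (Red.bc (gι ξ) A))
      refine ⟨V, genericPoint_mem hV, fun _ => ?_⟩
      rw [← pullbackRestrictIsoRestrict_hom_morphismRestrict A.hom V]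
      exact (MorphismProperty.cancel_left_of_respectsIso @GeometricallyConnected _ _).mpr hVc
    · exact ⟨⊤, trivial, fun h' => absurd h' h⟩
  let U : S.Opens := U₀ ⊓ UA ⊓ UB ⊓ UC
  have h₀ : U ≤ U₀ := inf_le_left.trans (inf_le_left.trans inf_le_left)
  have hlA : U ≤ UA := inf_le_left.trans (inf_le_left.trans inf_le_right)
  have hlB : U ≤ UB := inf_le_left.trans inf_le_right
  have hlC : U ≤ UC := inf_le_right
  haveI : Smooth (Red.bc U.ι A).hom := pr_mono @Smooth A.hom hlA hA
  haveI : Smooth (Red.bc U.ι B).hom := pr_mono @Smooth B.hom hlB hB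
  obtain ⟨str, hmon, hcl, hsm, hc, hr⟩ := exists_open_data σ a b d₀ N hD (U := U) (fun p hp => hsurj p (h₀ hp))
    (pr_mono @Smooth D₀.hom h₀ hsmD)
  haveI := hmon; haveI := hcl; haveI := hsm
  haveI : LocallyOfFiniteType (Red.bc U.ι G).hom := MorphismProperty.pullback_snd G.hom U.ι inferInstance
  haveI : QuasiSeparated (Red.bc U.ι G).hom := MorphismProperty.pullback_snd G.hom U.ι inferInstance
  haveI : QuasiCompact (Red.bc U.ι A).hom := MorphismProperty.pullback_snd A.hom U.ι inferInstance
  haveI : QuasiCompact (Red.bc U.ι B).hom := MorphismProperty.pullback_snd B.hom U.ι inferInstance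
  haveI : IsImmersion ((Over.pullback U.ι).map a).left :=
    MorphismProperty.overPullbackMap (P := @IsImmersion) U.ι a inferInstance
  haveI : IsImmersion ((Over.pullback U.ι).map b).left :=
    MorphismProperty.overPullbackMap (P := @IsImmersion) U.ι b inferInstance
  haveI : QuasiSeparated (Red.bc U.ι D₀).hom := by
    rw [← Over.w ((Over.pullback U.ι).map d₀)]; infer_instance
  let FA := (Over.pullback U.ι).map a
  let FB := (Over.pullback U.ι).map b
  let d := (Over.pullback U.ι).map d₀
  refine ⟨U, ⟨ξ, ⟨⟨hU₀, hUA⟩, hUB⟩, hUC⟩, Red.bc U.ι D₀, str, d, hmon, hcl, inferInstance,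
    MorphismProperty.pullback_snd D₀.hom U.ι inferInstance, inferInstance,
    fun s => MorphismProperty.pullback_snd (P := @Smooth) _ _ hsm, fun h s => ?_, fun h => ?_, fun s => ⟨?_, ?_⟩⟩
  · haveI : GeometricallyConnected (Red.bc U.ι A).hom := pr_mono @GeometricallyConnected A.hom hlC (hC h)
    exact fibre_connected FA FB d N hc hr s (inferInstanceAs (ConnectedSpace ((Red.bc U.ι A).hom.fiber s)))
  · exact isNormalHom_of_words FA FB d (normal_map U.ι a h.1) (normal_map U.ι b h.2) N hc hr
  · exact fibre_factor FA FB d hc s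
  · intro Γ iΓ i hi hic hf
    haveI := hi; haveI := hic
    exact fibre_min FA FB d N hr s Γ i hf

end Groth.Agent.S6079
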