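import Groth.Statements.S6081
import Groth.Agent.ComodFlat.Quotient

set_option autoImplicit false
universe u
open TensorProduct
open SGA3

namespace Groth.Agent.S6081

/-- Let R be a Noetherian ring and A a commutative Hopf algebra over R which is flat and of finite type
as an R-algebra, so that G = Spec A is an affine flat R-group scheme of finite type. Suppose that
the pair (G, Spec R) has the equivariant resolution property: for every A-comodule F which is
finitely generated as an R-module there are an A-comodule E which is finitely generated and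
projective as an R-module and a surjective R-linear map E → F compatible with the coactions. Then
there are a natural number d and a d × d matrix (a_ij) of elements of A with Δ(a_ij) = Σ_l a_il ⊗
a_lj and ε(a_ij) = δ_ij (a matrix corepresentation, i.e. a homomorphism G → GL_{d,R}) whose
determinant is a unit, such that A is generated as an R-algebra by the entries a_ij together with
the inverse of det(a_ij): G is a closed subgroup scheme of GL_{d,R}. (The published statement is
over a Noetherian scheme S, with G-equivariant coherent modules; this row is its assertion (ii), the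
case S affine, in Hopf-algebra form.) -/
theorem result (R : Type u) [CommRing R] [IsNoetherianRing R]
    (A : Type u) [CommRing A] [HopfAlgebra R A] [Module.Flat R A] [Algebra.FiniteType R A]
    (hRE : ∀ (F : Type u) [AddCommGroup F] [Module R F] [HopfRep.Comod R A F] [Module.Finite R F],
      ∃ (E : Type u) (_ : AddCommGroup E) (_ : Module R E) (_ : HopfRep.Comod R A E) (π : E →ₗ[R] F),
        Module.Finite R E ∧ Module.Projective R E ∧ Function.Surjective π ∧
        HopfRep.Comod.coact (k := R) (A := A) ∘ₗ π = π.rTensor A ∘ₗ HopfRep.Comod.coact (k := R) (A := A) (V := E)) :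
    ∃ (d : ℕ) (a : Matrix (Fin d) (Fin d) A),
      (∀ i j, CoalgebraStruct.comul (R := R) (a i j) = ∑ l, a i l ⊗ₜ[R] a l j) ∧
      (∀ i j, CoalgebraStruct.counit (R := R) (a i j) = if i = j then 1 else 0) ∧
      ∃ u : A, u * a.det = 1 ∧ Algebra.adjoin R (Set.range (fun p : Fin d × Fin d => a p.1 p.2) ∪ {u}) = ⊤ := by
  obtain ⟨F, hF⟩ := (inferInstance : Algebra.FiniteType R A).out
  letI : HopfRep.Comod R A A :=
    { coact := Coalgebra.comul
      coassoc := Coalgebra.coassoc
      counit_comp := Coalgebra.lTensor_counit_comp_comul }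
  obtain ⟨W, hW, hFW, hWfg⟩ := Groth.Agent.S3032.result R A A (Submodule.span R (F : Set A))
    (Submodule.fg_span F.finite_toSet)
  have : Module.Finite R W := Module.Finite.iff_fg.2 hWfg
  obtain ⟨ρ, hρ, hspec⟩ := Groth.Agent.ComodFlat.exists_restrict
    (Groth.Agent.ComodFlat.isCoact_of_comod (C := A) A) W hW
  letI := Groth.Agent.ComodFlat.toComod hρ
  obtain ⟨E, _, _, _, π, _, _, hπ, hcol⟩ := hRE W
  obtain ⟨d, p, hp⟩ := Module.Finite.exists_fin' R E
  obtain ⟨s, hs⟩ := Module.projective_lifting_property p LinearMap.id hp
  have hs' : ∀ m, p (s m) = m := LinearMap.congr_fun hs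
  have hE := Groth.Agent.ComodFlat.isCoact_of_comod (R := R) (C := A) E
  obtain ⟨a, hcm, hct, ⟨u, hu⟩, hspan⟩ := Groth.Agent.ComodFlat.matrix_of_coact
    (Groth.Agent.ComodFlat.extCoact (HopfRep.Comod.coact (k := R) (A := A) (V := E)) s p (1 : A))
    (Groth.Agent.ComodFlat.isCoassoc_extCoact hE.coassoc hs' Bialgebra.comul_one)
    (Groth.Agent.ComodFlat.counit_extCoact hE.counit s p Bialgebra.counit_one)
  refine ⟨d, a, hcm, hct, u, hu, eq_top_iff.2 (hF ▸ Algebra.adjoin_le fun x hx => ?_)⟩
  let xW : W := ⟨x, hFW (Submodule.subset_span hx)⟩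
  obtain ⟨e, he⟩ := hπ xW
  let φ : Module.Dual R E := (Coalgebra.counit (R := R) (A := A)) ∘ₗ W.subtype ∘ₗ π
  have key : Groth.Agent.ComodFlat.contractF
      (Groth.Agent.ComodFlat.extCoact (HopfRep.Comod.coact (k := R) (A := A) (V := E)) s p (1 : A))
      (φ ∘ₗ p) (s e) = x := by
    rw [Groth.Agent.ComodFlat.contractF_apply, Groth.Agent.ComodFlat.extCoact_section _ hs',
      ← LinearMap.rTensor_comp_apply, LinearMap.comp_assoc, hs, LinearMap.comp_id]
    simp only [φ, LinearMap.rTensor_comp_apply]
    rw [← LinearMap.comp_apply (π.rTensor A), ← hcol, LinearMap.comp_apply, he]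
    show TensorProduct.lid R A ((Coalgebra.counit (R := R) (A := A)).rTensor A (W.subtype.rTensor A (ρ xW))) = x
    rw [hspec]
    exact (congrArg _ (Coalgebra.rTensor_counit_comul (R := R) x)).trans (by simp)
  rw [← key]
  exact Algebra.span_le_adjoin R _ (Submodule.span_mono Set.subset_union_left (hspan _ _))

end Groth.Agent.S6081
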