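import Groth.Statements.S6083
import Groth.Agent.Deform.OpenQF.Main

set_option autoImplicit false
universe u
open CategoryTheory CategoryTheory.Limits MonoidalCategory CartesianMonoidalCategory MonObj GrpObj AlgebraicGeometry
open SGA3

namespace Groth.Agent.S6083

/-- Let f : X → S be a morphism locally of finite presentation, s a point of S, x a point of the fibre
X_s = f⁻¹(s), n the local dimension of X_s at x, q : 𝔸^n_S → S the affine n-space over S and u : X →
𝔸^n_S a locally quasi-finite morphism with u q = f. Suppose that f is universally open at the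
generic point z of an irreducible component Z of X_s which contains x and has dimension n. Then u is
universally open at x. -/
theorem result (X S : Scheme.{u}) (f : X ⟶ S) [LocallyOfFinitePresentation f]
    (s : S) (x : X) (hxs : f.base x = s) (n : ℕ)
    (u : X ⟶ 𝔸(ULift.{u} (Fin n); S)) [LocallyQuasiFinite u] (hu : u ≫ (𝔸(ULift.{u} (Fin n); S) ↘ S) = f)
    (Z : Set ↥(f.base ⁻¹' {s})) (hZ : Z ∈ irreducibleComponents ↥(f.base ⁻¹' {s})) (hxZ : x ∈ (Subtype.val '' Z))
    (z : X) (hz : z ∈ Subtype.val '' Z ∧ Subtype.val '' Z ⊆ closure {z}) (hopen : EGA43.IsUnivOpenAt f z)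
    (hdimZ : topologicalKrullDim ↥Z = n) (hdimx : FlatMor.localDim ↥(f.base ⁻¹' {s}) ⟨x, hxs⟩ = n) :
    EGA43.IsUnivOpenAt u x := by
  obtain ⟨⟨⟨z', hz's⟩, hzZ, hz'⟩, hZz⟩ := hz
  simp only at hz'
  subst hz'
  have hzc : closure {z'} ∩ f.base ⁻¹' {s} ⊆ Subtype.val '' Z := by
    rintro w ⟨hw, hws⟩
    refine ⟨⟨w, hws⟩, ?_, rfl⟩
    have h : (⟨z', hz's⟩ : ↥(f.base ⁻¹' {s})) ⤳ ⟨w, hws⟩ :=
      Topology.IsInducing.subtypeVal.specializes_iff.mp (specializes_iff_mem_closure.mpr hw)
    exact h.mem_closed (isClosed_of_mem_irreducibleComponents Z hZ) hzZ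
  have hEq : Subtype.val '' Z = closure {z'} ∩ f.base ⁻¹' {s} :=
    subset_antisymm (fun w hw => ⟨hZz hw, by obtain ⟨v, -, rfl⟩ := hw; exact v.2⟩) hzc
  have hmax : Groth.Agent.FibDim.FibMax f z' := fun w hw hfw => by
    have hws : w ∈ f.base ⁻¹' {s} := hfw.trans hz's
    have hle : Z ⊆ closure {(⟨w, hws⟩ : ↥(f.base ⁻¹' {s}))} := fun v hv => by
      refine specializes_iff_mem_closure.mp (Topology.IsInducing.subtypeVal.specializes_iff.mp ?_)
      exact hw.trans (specializes_iff_mem_closure.mpr (hZz ⟨v, hv, rfl⟩))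
    have hZw := hZ.2 isIrreducible_singleton.closure hle
    exact (hw.antisymm (specializes_iff_mem_closure.mpr (hZz ⟨⟨w, hws⟩, hZw (subset_closure rfl), rfl⟩))).eq
  have hrd : Groth.Agent.FibDim.rd f z' = n := by
    have h := Groth.Agent.FibDim.dim_closure_inter_fibre f z'
    rw [show f ⁻¹' {f z'} = f.base ⁻¹' {s} by rw [show f z' = s from hz's], ← hEq,
      ← ((Topology.IsEmbedding.subtypeVal).homeomorphImage Z).isHomeomorph.topologicalKrullDim_eq, hdimZ] at h
    exact_mod_cast h.symm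
  exact Deform.OpenQF.isUnivOpenAt f u hu x z' (specializes_iff_mem_closure.mpr (hZz hxZ))
    (hz's.trans hxs.symm) hmax hrd hopen

end Groth.Agent.S6083
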