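import Groth.Statements.S6084
import Groth.Agent.Deform.QuotTop
set_option linter.style.haveILetI false
set_option backward.isDefEq.respectTransparency false

set_option autoImplicit false
universe u
open CategoryTheory CategoryTheory.Limits MonoidalCategory CartesianMonoidalCategory MonObj GrpObj AlgebraicGeometry
open SGA3

namespace Groth.Agent.S6084

/-- Let k be a perfect field, G a group scheme locally of finite type over k and u : F → G a
homomorphism of k-group schemes which is a closed immersion and surjective on underlying spaces,
with F reduced (so F is G_red with its group structure). Let p : G → X be a k-morphism which is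
flat, surjective and locally of finite presentation and makes the square formed by (f, g) ↦ u(f) ·
g, the second projection F ×_k G → G and p (twice) cartesian (X is the quotient of G by F acting by
left translations). Then X is the spectrum of a finite local k-algebra with residue field k: X is
affine, its underlying space is a single point at which the structure morphism induces an
isomorphism of residue fields, and the ring of global sections of X is finite over k. -/
theorem result (k : Type u) [Field k] [PerfectField k]
    (F G : Over (Spec (CommRingCat.of k))) [GrpObj F] [GrpObj G] [LocallyOfFiniteType G.hom] [IsReduced F.left]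
    (u : F ⟶ G) [IsMonHom u] [IsClosedImmersion u.left] [Surjective u.left]
    (X : Over (Spec (CommRingCat.of k))) (p : G ⟶ X) [Flat p.left] [Surjective p.left] [LocallyOfFinitePresentation p.left]
    (hp : IsPullback ((u ▷ G) ≫ μ[G]) (snd F G) p p) :
    IsAffine X.left ∧ (∃ x : X.left, (Set.univ : Set X.left) = {x} ∧ IsIso (X.hom.residueFieldMap x)) ∧
      ((Scheme.ΓSpecIso (CommRingCat.of k)).inv ≫ X.hom.appTop).hom.Finite := by
  haveI : LocallyOfFinitePresentation (p.left ≫ X.hom) := by
    rw [Over.w p]
    haveI : IsLocallyNoetherian (Spec (CommRingCat.of k)) := inferInstance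
    exact LocallyOfFinitePresentation.iff_locallyOfFiniteType.2 inferInstance
  haveI : LocallyOfFinitePresentation X.hom :=
    Groth.Agent.SrcDescent.locallyOfFinitePresentation_of_fppf_comp p.left X.hom
  let o : 𝟙_ _ ⟶ X := η[G] ≫ p
  have hup : u ≫ p = toUnit F ≫ o := by
    have h := congrArg (fun f => lift (𝟙 F) (toUnit F ≫ η[G]) ≫ f) hp.w
    simp only [← Category.assoc, lift_snd, lift_whiskerRight, Category.id_comp] at h
    rw [lift_comp_one_right] at h
    rw [h, Category.assoc]
  have hpt : ∀ x : X.left, x = o.left (IsLocalRing.closedPoint k) := fun x => by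
    obtain ⟨g, rfl⟩ := p.left.surjective x
    obtain ⟨f, rfl⟩ := u.left.surjective g
    rw [← Scheme.Hom.comp_apply, ← Over.comp_left, hup, Over.comp_left, Scheme.Hom.comp_apply]
    exact congrArg o.left (@Subsingleton.elim (PrimeSpectrum k) inferInstance _ _)
  haveI : Subsingleton X.left := ⟨fun a b => (hpt a).trans (hpt b).symm⟩
  haveI : Finite X.left := Finite.of_subsingleton
  haveI : IsAffine X.left := inferInstance
  refine ⟨inferInstance, ⟨o.left (IsLocalRing.closedPoint k), Set.eq_singleton_iff_unique_mem.2
    ⟨trivial, fun x _ => hpt x⟩, ?_⟩, ?_⟩
  · have key : ∀ (t : Spec (CommRingCat.of k) ⟶ X.left) (w : Spec (CommRingCat.of k))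
        (_ : t ≫ X.hom = 𝟙 _), IsIso (X.hom.residueFieldMap (t w)) := by
      intro t w ht
      have h1 : IsIso ((t ≫ X.hom).residueFieldMap w) := by rw [ht]; infer_instance
      rw [Scheme.residueFieldMap_comp] at h1
      rw [ConcreteCategory.isIso_iff_bijective] at h1 ⊢
      refine ⟨RingHom.injective _, fun y => ?_⟩
      obtain ⟨z, hz⟩ := h1.2 ((t.residueFieldMap w).hom y)
      exact ⟨z, RingHom.injective (t.residueFieldMap w).hom hz⟩
    exact key o.left (IsLocalRing.closedPoint k) (Over.w o)
  · haveI : LocallyQuasiFinite X.hom := LocallyQuasiFinite.of_injective fun a b _ => Subsingleton.elim a b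
    haveI : IsFinite X.hom := .of_locallyQuasiFinite _
    have h := X.hom.finite_app ⊤ (isAffineOpen_top _)
    rw [CommRingCat.hom_comp]
    exact h.comp (RingHom.Finite.of_surjective _
      ((Scheme.ΓSpecIso (CommRingCat.of k)).commRingCatIsoToRingEquiv.symm.surjective))

end Groth.Agent.S6084
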